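import Mathlib

/-!
# helper52: a degreewise split extension of complexes with contractible cokernel splits
-/

set_option autoImplicit false
set_option linter.style.haveILetI false

universe u

open CategoryTheory CategoryTheory.Limits

namespace Groth.Agent.R2.H52.Split

variable {C : Type*} [Category C] [Preadditive C]

/-- a degreewise split short exact sequence of complexes `A → E → X`. -/
structure SplitData (A E X : CochainComplex C ℤ) where
  /-- the inclusion -/
  ι : A ⟶ E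
  /-- the projection -/
  π : E ⟶ X
  /-- the degreewise retraction -/
  ρ : ∀ n : ℤ, E.X n ⟶ A.X n
  /-- the degreewise section -/
  σ : ∀ n : ℤ, X.X n ⟶ E.X n
  hιρ : ∀ n, ι.f n ≫ ρ n = 𝟙 _
  hσπ : ∀ n, σ n ≫ π.f n = 𝟙 _
  htot : ∀ n, ρ n ≫ ι.f n + π.f n ≫ σ n = 𝟙 _
  hιπ : ι ≫ π = 0

variable {A E X : CochainComplex C ℤ} (T : SplitData A E X) (h : Homotopy (𝟙 X) 0)

/-- the chain map section built from a degreewise section and a contraction. -/
noncomputable def SplitData.sec : X ⟶ E :=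
  Homotopy.nullHomotopicMap (fun i j => h.hom i j ≫ T.σ j)

theorem SplitData.sec_π : T.sec h ≫ T.π = 𝟙 X := by
  ext n
  have h1 : (T.sec h ≫ T.π).f n = (T.sec h).f n ≫ T.π.f n := rfl
  rw [h1, SplitData.sec, Homotopy.nullHomotopicMap_f (k₂ := n - 1) (k₁ := n) (k₀ := n + 1)
    (by simp) (by simp)]
  rw [Preadditive.add_comp]
  simp only [Category.assoc]
  rw [T.hσπ n, ← T.π.comm (n - 1) n, reassoc_of% (T.hσπ (n - 1)), Category.comp_id]
  have h2 := h.comm n
  rw [dNext_eq h.hom (show (ComplexShape.up ℤ).Rel n (n + 1) by simp),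
    prevD_eq h.hom (show (ComplexShape.up ℤ).Rel (n - 1) n by simp)] at h2
  simpa using h2.symm

/-- the chain map `1 - π σ'`. -/
noncomputable def SplitData.Ψ : E ⟶ E := 𝟙 E - T.π ≫ T.sec h

theorem SplitData.Ψ_π : T.Ψ h ≫ T.π = 0 := by
  rw [SplitData.Ψ, Preadditive.sub_comp, Category.assoc, T.sec_π h, Category.id_comp,
    Category.comp_id, sub_self]

theorem SplitData.Ψ_f_ρ_ι (n : ℤ) : (T.Ψ h).f n ≫ T.ρ n ≫ T.ι.f n = (T.Ψ h).f n := by
  have h1 : T.ρ n ≫ T.ι.f n = 𝟙 _ - T.π.f n ≫ T.σ n := eq_sub_of_add_eq (T.htot n)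
  rw [h1, Preadditive.comp_sub, Category.comp_id]
  have h2 : (T.Ψ h).f n ≫ T.π.f n = 0 := by
    rw [← HomologicalComplex.comp_f, T.Ψ_π h]
    rfl
  rw [reassoc_of% h2, zero_comp, sub_zero]

/-- the retraction. -/
noncomputable def SplitData.retr : E ⟶ A where
  f n := (T.Ψ h).f n ≫ T.ρ n
  comm' i j _ := by
    haveI : Mono (T.ι.f j) := mono_of_mono_fac (T.hιρ j)
    rw [← cancel_mono (T.ι.f j)]
    simp only [Category.assoc]
    rw [← T.ι.comm i j, T.Ψ_f_ρ_ι h j, reassoc_of% (T.Ψ_f_ρ_ι h i)]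
    exact (T.Ψ h).comm i j

theorem SplitData.retr_ι : T.retr h ≫ T.ι = T.Ψ h := by
  ext n
  show ((T.Ψ h).f n ≫ T.ρ n) ≫ T.ι.f n = (T.Ψ h).f n
  rw [Category.assoc, T.Ψ_f_ρ_ι h n]

/-- the splitting. -/
theorem SplitData.nonempty_iso_biprod {A E X : CochainComplex C ℤ} (T : SplitData A E X)
    (h : Homotopy (𝟙 X) 0) [HasBinaryBiproduct A X] : Nonempty (E ≅ A ⊞ X) := by
  have hι : ∀ n, Mono (T.ι.f n) := fun n => mono_of_mono_fac (T.hιρ n)
  haveI : Mono T.ι := HomologicalComplex.mono_of_mono_f T.ι hι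
  have h1 : T.ι ≫ T.retr h = 𝟙 A := by
    rw [← cancel_mono T.ι, Category.assoc, T.retr_ι h, SplitData.Ψ, Preadditive.comp_sub,
      Category.comp_id, reassoc_of% T.hιπ, zero_comp, sub_zero, Category.id_comp]
  have h2 : T.sec h ≫ T.retr h = 0 := by
    rw [← cancel_mono T.ι, Category.assoc, T.retr_ι h, SplitData.Ψ, Preadditive.comp_sub,
      Category.comp_id, reassoc_of% (T.sec_π h), sub_self, zero_comp]
  let b : BinaryBicone A X :=
    { pt := E
      fst := T.retr h
      snd := T.π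
      inl := T.ι
      inr := T.sec h
      inl_fst := h1
      inl_snd := T.hιπ
      inr_fst := h2
      inr_snd := T.sec_π h }
  have htotal : b.fst ≫ b.inl + b.snd ≫ b.inr = 𝟙 b.pt := by
    show T.retr h ≫ T.ι + T.π ≫ T.sec h = 𝟙 E
    rw [T.retr_ι h, SplitData.Ψ, sub_add_cancel]
  exact ⟨biprod.uniqueUpToIso A X (isBinaryBilimitOfTotal b htotal)⟩

/-- the image of a split datum under an additive functor. -/
def SplitData.map {D : Type*} [Category D] [Preadditive D] (F : C ⥤ D) [F.Additive] :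
    SplitData ((F.mapHomologicalComplex (ComplexShape.up ℤ)).obj A)
      ((F.mapHomologicalComplex (ComplexShape.up ℤ)).obj E)
      ((F.mapHomologicalComplex (ComplexShape.up ℤ)).obj X) where
  ι := (F.mapHomologicalComplex _).map T.ι
  π := (F.mapHomologicalComplex _).map T.π
  ρ n := F.map (T.ρ n)
  σ n := F.map (T.σ n)
  hιρ n := by
    show F.map (T.ι.f n) ≫ F.map (T.ρ n) = 𝟙 (F.obj (A.X n))
    rw [← F.map_comp, T.hιρ, F.map_id]
  hσπ n := by
    show F.map (T.σ n) ≫ F.map (T.π.f n) = 𝟙 (F.obj (X.X n))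
    rw [← F.map_comp, T.hσπ, F.map_id]
  htot n := by
    show F.map (T.ρ n) ≫ F.map (T.ι.f n) + F.map (T.π.f n) ≫ F.map (T.σ n) = 𝟙 (F.obj (E.X n))
    rw [← F.map_comp, ← F.map_comp, ← F.map_add, T.htot, F.map_id]
  hιπ := by
    rw [← Functor.map_comp, T.hιπ, Functor.map_zero]

end Groth.Agent.R2.H52.Split
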