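import Mathlib
import Groth.Agent.R2.H52Split
import Groth.Agent.R2.H52LiftQis

/-!
# helper52: explicit mapping cone, mapping cylinder and path-type complex of a map of complexes of
modules, with the two degreewise split sequences `M → Cyl → Cone` and `N → Cyl → W`.
-/

set_option autoImplicit false
set_option linter.style.haveILetI false

universe u

open CategoryTheory CategoryTheory.Limits

namespace Groth.Agent.R2.H52.Cyl

open Groth.Agent.R2.H52.Split

variable {A : Type u} [CommRing A] {M N : CochainComplex (ModuleCat.{u} A) ℤ} (φ : M ⟶ N)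

theorem d_d_apply (K : CochainComplex (ModuleCat.{u} A) ℤ) (i j k : ℤ) (x : K.X i) :
    (K.d j k).hom ((K.d i j).hom x) = 0 := by
  show ((K.d i j ≫ K.d j k).hom) x = 0
  rw [K.d_comp_d]
  rfl

theorem comm_apply (i j : ℤ) (x : M.X i) :
    (φ.f j).hom ((M.d i j).hom x) = (N.d i j).hom ((φ.f i).hom x) := by
  have h := congrArg (fun ψ => ψ.hom x) (φ.comm i j)
  exact h.symm

/-! ### the cone -/

/-- the terms of the cone -/
noncomputable def coneX (n : ℤ) : ModuleCat.{u} A := ModuleCat.of A (M.X (n + 1) × N.X n)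

/-- the differential of the cone -/
noncomputable def coneD (n : ℤ) : coneX (M := M) (N := N) n ⟶ coneX (M := M) (N := N) (n + 1) :=
  ModuleCat.ofHom
    (LinearMap.prod
      ((-(M.d (n + 1) (n + 1 + 1)).hom) ∘ₗ (LinearMap.fst A (M.X (n + 1)) (N.X n)))
      ((φ.f (n + 1)).hom ∘ₗ (LinearMap.fst A (M.X (n + 1)) (N.X n)) +
          (N.d n (n + 1)).hom ∘ₗ (LinearMap.snd A (M.X (n + 1)) (N.X n))))

theorem coneD_apply (n : ℤ) (m : M.X (n + 1)) (y : N.X n) :
    (coneD φ n).hom ((m, y) : M.X (n + 1) × N.X n) =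
      ((-(M.d (n + 1) (n + 1 + 1)).hom m, (φ.f (n + 1)).hom m + (N.d n (n + 1)).hom y) :
        M.X (n + 1 + 1) × N.X (n + 1)) := rfl

/-- the cone of `φ` -/
noncomputable def coneC : CochainComplex (ModuleCat.{u} A) ℤ :=
  CochainComplex.of (coneX (M := M) (N := N)) (coneD φ) (by
    intro n
    ext x
    obtain ⟨m, y⟩ := x
    show (coneD φ (n + 1)).hom ((coneD φ n).hom ((m, y) : M.X (n + 1) × N.X n)) = 0
    rw [coneD_apply, coneD_apply]
    refine Prod.ext ?_ ?_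
    · show -(M.d (n + 1 + 1) (n + 1 + 1 + 1)).hom (-(M.d (n + 1) (n + 1 + 1)).hom m) = 0
      rw [map_neg, d_d_apply, neg_zero, neg_zero]
    · show (φ.f (n + 1 + 1)).hom (-(M.d (n + 1) (n + 1 + 1)).hom m) +
        (N.d (n + 1) (n + 1 + 1)).hom ((φ.f (n + 1)).hom m + (N.d n (n + 1)).hom y) = 0
      rw [map_neg, map_add, d_d_apply, comm_apply, add_zero, neg_add_cancel])

theorem coneC_d (n : ℤ) : (coneC φ).d n (n + 1) = coneD φ n := CochainComplex.of_d _ _ n

/-! ### the complex `W` -/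

/-- the terms of `W` -/
noncomputable def wX (M : CochainComplex (ModuleCat.{u} A) ℤ) (n : ℤ) : ModuleCat.{u} A :=
  ModuleCat.of A (M.X n × M.X (n + 1))

/-- the differential of `W` -/
noncomputable def wD (M : CochainComplex (ModuleCat.{u} A) ℤ) (n : ℤ) : wX M n ⟶ wX M (n + 1) :=
  ModuleCat.ofHom
    (LinearMap.prod
      ((M.d n (n + 1)).hom ∘ₗ (LinearMap.fst A (M.X n) (M.X (n + 1))) -
        LinearMap.snd A (M.X n) (M.X (n + 1)))
      ((-(M.d (n + 1) (n + 1 + 1)).hom) ∘ₗ (LinearMap.snd A (M.X n) (M.X (n + 1)))))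

theorem wD_apply (M : CochainComplex (ModuleCat.{u} A) ℤ) (n : ℤ) (m : M.X n) (m' : M.X (n + 1)) :
    (wD M n).hom ((m, m') : M.X n × M.X (n + 1)) =
      (((M.d n (n + 1)).hom m - m', -(M.d (n + 1) (n + 1 + 1)).hom m') :
        M.X (n + 1) × M.X (n + 1 + 1)) := rfl

/-- the complex `W(M)`, the kernel of `Cyl(φ) → N` -/
noncomputable def wC (M : CochainComplex (ModuleCat.{u} A) ℤ) : CochainComplex (ModuleCat.{u} A) ℤ :=
  CochainComplex.of (wX M) (wD M) (by
    intro n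
    ext x
    obtain ⟨m, m'⟩ := x
    show (wD M (n + 1)).hom ((wD M n).hom ((m, m') : M.X n × M.X (n + 1))) = 0
    rw [wD_apply, wD_apply]
    refine Prod.ext ?_ ?_
    · show (M.d (n + 1) (n + 1 + 1)).hom ((M.d n (n + 1)).hom m - m') -
        (-(M.d (n + 1) (n + 1 + 1)).hom m') = 0
      rw [map_sub, d_d_apply, zero_sub, sub_self]
    · show -(M.d (n + 1 + 1) (n + 1 + 1 + 1)).hom (-(M.d (n + 1) (n + 1 + 1)).hom m') = 0
      rw [map_neg, d_d_apply, neg_zero, neg_zero])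

theorem wC_d (M : CochainComplex (ModuleCat.{u} A) ℤ) (n : ℤ) : (wC M).d n (n + 1) = wD M n :=
  CochainComplex.of_d _ _ n

/-! ### the cylinder -/

/-- the terms of the cylinder -/
noncomputable def cylX (n : ℤ) : ModuleCat.{u} A := ModuleCat.of A (M.X n × (M.X (n + 1) × N.X n))

/-- the differential of the cylinder -/
noncomputable def cylD (n : ℤ) : cylX (M := M) (N := N) n ⟶ cylX (M := M) (N := N) (n + 1) :=
  ModuleCat.ofHom
    (LinearMap.prod
      ((M.d n (n + 1)).hom ∘ₗ (LinearMap.fst A (M.X n) (M.X (n + 1) × N.X n)) -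
        (LinearMap.fst A (M.X (n + 1)) (N.X n)) ∘ₗ (LinearMap.snd A (M.X n) (M.X (n + 1) × N.X n)))
      ((coneD φ n).hom ∘ₗ (LinearMap.snd A (M.X n) (M.X (n + 1) × N.X n))))

theorem cylD_apply (n : ℤ) (m : M.X n) (m' : M.X (n + 1)) (y : N.X n) :
    (cylD φ n).hom ((m, (m', y)) : M.X n × (M.X (n + 1) × N.X n)) =
      (((M.d n (n + 1)).hom m - m',
        (-(M.d (n + 1) (n + 1 + 1)).hom m', (φ.f (n + 1)).hom m' + (N.d n (n + 1)).hom y)) :
        M.X (n + 1) × (M.X (n + 1 + 1) × N.X (n + 1))) := rfl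

/-- the cylinder of `φ` -/
noncomputable def cylC : CochainComplex (ModuleCat.{u} A) ℤ :=
  CochainComplex.of (cylX (M := M) (N := N)) (cylD φ) (by
    intro n
    ext x
    obtain ⟨m, m', y⟩ := x
    show (cylD φ (n + 1)).hom ((cylD φ n).hom ((m, (m', y)) : M.X n × (M.X (n + 1) × N.X n))) = 0
    rw [cylD_apply, cylD_apply]
    refine Prod.ext ?_ (Prod.ext ?_ ?_)
    · show (M.d (n + 1) (n + 1 + 1)).hom ((M.d n (n + 1)).hom m - m') -
        (-(M.d (n + 1) (n + 1 + 1)).hom m') = 0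
      rw [map_sub, d_d_apply, zero_sub, sub_self]
    · show -(M.d (n + 1 + 1) (n + 1 + 1 + 1)).hom (-(M.d (n + 1) (n + 1 + 1)).hom m') = 0
      rw [map_neg, d_d_apply, neg_zero, neg_zero]
    · show (φ.f (n + 1 + 1)).hom (-(M.d (n + 1) (n + 1 + 1)).hom m') +
        (N.d (n + 1) (n + 1 + 1)).hom ((φ.f (n + 1)).hom m' + (N.d n (n + 1)).hom y) = 0
      rw [map_neg, map_add, d_d_apply, comm_apply, add_zero, neg_add_cancel])

theorem cylC_d (n : ℤ) : (cylC φ).d n (n + 1) = cylD φ n := CochainComplex.of_d _ _ n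

/-! ### the two split sequences -/

/-- `M → Cyl`, `m ↦ (m, 0, 0)` -/
noncomputable def ιM : M ⟶ cylC φ :=
  CochainComplex.ofHom (X := M) (Y := cylC φ)
    (fun n => ModuleCat.ofHom (Y := ModuleCat.of A (M.X n × (M.X (n + 1) × N.X n)))
      (LinearMap.inl A (M.X n) (M.X (n + 1) × N.X n)))
    (fun n => by
      rw [cylC_d]
      ext m
      show (cylD φ n).hom ((m, ((0 : M.X (n + 1)), (0 : N.X n))) : M.X n × (M.X (n + 1) × N.X n)) =
        (((M.d n (n + 1)).hom m, ((0 : M.X (n + 1 + 1)), (0 : N.X (n + 1)))) :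
          M.X (n + 1) × (M.X (n + 1 + 1) × N.X (n + 1)))
      rw [cylD_apply]
      refine Prod.ext ?_ (Prod.ext ?_ ?_)
      · show (M.d n (n + 1)).hom m - 0 = (M.d n (n + 1)).hom m
        rw [sub_zero]
      · show -(M.d (n + 1) (n + 1 + 1)).hom 0 = 0
        rw [map_zero, neg_zero]
      · show (φ.f (n + 1)).hom 0 + (N.d n (n + 1)).hom 0 = 0
        rw [map_zero, map_zero, add_zero])

/-- `Cyl → Cone`, `(m, m', y) ↦ (m', y)` -/
noncomputable def πC : cylC φ ⟶ coneC φ :=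
  CochainComplex.ofHom (X := cylC φ) (Y := coneC φ)
    (fun n => ModuleCat.ofHom (X := ModuleCat.of A (M.X n × (M.X (n + 1) × N.X n)))
      (Y := ModuleCat.of A (M.X (n + 1) × N.X n))
      (LinearMap.snd A (M.X n) (M.X (n + 1) × N.X n)))
    (fun n => by
      rw [cylC_d, coneC_d]
      ext x
      obtain ⟨m, m', y⟩ := x
      rfl)

/-- `N → Cyl`, `y ↦ (0, 0, y)` -/
noncomputable def ιN : N ⟶ cylC φ :=
  CochainComplex.ofHom (X := N) (Y := cylC φ)
    (fun n => ModuleCat.ofHom (Y := ModuleCat.of A (M.X n × (M.X (n + 1) × N.X n)))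
      ((LinearMap.inr A (M.X n) (M.X (n + 1) × N.X n)) ∘ₗ (LinearMap.inr A (M.X (n + 1)) (N.X n))))
    (fun n => by
      rw [cylC_d]
      ext y
      show (cylD φ n).hom (((0 : M.X n), ((0 : M.X (n + 1)), y)) : M.X n × (M.X (n + 1) × N.X n)) =
        (((0 : M.X (n + 1)), ((0 : M.X (n + 1 + 1)), (N.d n (n + 1)).hom y)) :
          M.X (n + 1) × (M.X (n + 1 + 1) × N.X (n + 1)))
      rw [cylD_apply]
      refine Prod.ext ?_ (Prod.ext ?_ ?_)
      · show (M.d n (n + 1)).hom 0 - 0 = 0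
        rw [map_zero, sub_zero]
      · show -(M.d (n + 1) (n + 1 + 1)).hom 0 = 0
        rw [map_zero, neg_zero]
      · show (φ.f (n + 1)).hom 0 + (N.d n (n + 1)).hom y = (N.d n (n + 1)).hom y
        rw [map_zero, zero_add])

/-- `Cyl → W`, `(m, m', y) ↦ (m, m')` -/
noncomputable def πW : cylC φ ⟶ wC M :=
  CochainComplex.ofHom (X := cylC φ) (Y := wC M)
    (fun n => ModuleCat.ofHom (X := ModuleCat.of A (M.X n × (M.X (n + 1) × N.X n)))
      (Y := ModuleCat.of A (M.X n × M.X (n + 1)))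
      (LinearMap.prod (LinearMap.fst A (M.X n) (M.X (n + 1) × N.X n))
        ((LinearMap.fst A (M.X (n + 1)) (N.X n)) ∘ₗ
          (LinearMap.snd A (M.X n) (M.X (n + 1) × N.X n)))))
    (fun n => by
      rw [cylC_d, wC_d]
      ext x
      obtain ⟨m, m', y⟩ := x
      rfl)

/-- the split sequence `M → Cyl → Cone` -/
noncomputable def splitCone : SplitData M (cylC φ) (coneC φ) where
  ι := ιM φ
  π := πC φ
  ρ n := ModuleCat.ofHom (X := ModuleCat.of A (M.X n × (M.X (n + 1) × N.X n)))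
    (LinearMap.fst A (M.X n) (M.X (n + 1) × N.X n))
  σ n := ModuleCat.ofHom (X := ModuleCat.of A (M.X (n + 1) × N.X n))
    (Y := ModuleCat.of A (M.X n × (M.X (n + 1) × N.X n)))
    (LinearMap.inr A (M.X n) (M.X (n + 1) × N.X n))
  hιρ n := by
    ext m
    rfl
  hσπ n := by
    ext x
    rfl
  htot n := by
    ext x
    obtain ⟨m, m', y⟩ := x
    show (((m, ((0 : M.X (n + 1)), (0 : N.X n))) : M.X n × (M.X (n + 1) × N.X n)) +
      (((0 : M.X n), (m', y)) : M.X n × (M.X (n + 1) × N.X n))) = (m, (m', y))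
    refine Prod.ext ?_ (Prod.ext ?_ ?_)
    · show m + 0 = m
      rw [add_zero]
    · show 0 + m' = m'
      rw [zero_add]
    · show 0 + y = y
      rw [zero_add]
  hιπ := by
    ext n : 1
    apply ModuleCat.hom_ext
    apply LinearMap.ext
    intro m
    rfl

/-- the split sequence `N → Cyl → W` -/
noncomputable def splitW : SplitData N (cylC φ) (wC M) where
  ι := ιN φ
  π := πW φ
  ρ n := ModuleCat.ofHom (X := ModuleCat.of A (M.X n × (M.X (n + 1) × N.X n)))
    ((LinearMap.snd A (M.X (n + 1)) (N.X n)) ∘ₗ (LinearMap.snd A (M.X n) (M.X (n + 1) × N.X n)))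
  σ n := ModuleCat.ofHom (X := ModuleCat.of A (M.X n × M.X (n + 1)))
    (Y := ModuleCat.of A (M.X n × (M.X (n + 1) × N.X n)))
    (LinearMap.prod (LinearMap.fst A (M.X n) (M.X (n + 1)))
      ((LinearMap.inl A (M.X (n + 1)) (N.X n)) ∘ₗ (LinearMap.snd A (M.X n) (M.X (n + 1)))))
  hιρ n := by
    ext y
    rfl
  hσπ n := by
    ext x
    rfl
  htot n := by
    ext x
    obtain ⟨m, m', y⟩ := x
    show ((((0 : M.X n), ((0 : M.X (n + 1)), y)) : M.X n × (M.X (n + 1) × N.X n)) +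
      ((m, (m', (0 : N.X n))) : M.X n × (M.X (n + 1) × N.X n))) = (m, (m', y))
    refine Prod.ext ?_ (Prod.ext ?_ ?_)
    · show 0 + m = m
      rw [zero_add]
    · show 0 + m' = m'
      rw [zero_add]
    · show y + 0 = y
      rw [add_zero]
  hιπ := by
    ext n : 1
    apply ModuleCat.hom_ext
    apply LinearMap.ext
    intro y
    rfl

/-! ### `W` is contractible -/

/-- the contracting maps of `W`: `(m, m') ↦ (0, -m)` -/
noncomputable def sW (M : CochainComplex (ModuleCat.{u} A) ℤ) (n : ℤ) :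
    (wC M).X (n + 1) ⟶ (wC M).X n :=
  ModuleCat.ofHom (X := ModuleCat.of A (M.X (n + 1) × M.X (n + 1 + 1)))
    (Y := ModuleCat.of A (M.X n × M.X (n + 1)))
    ((LinearMap.inr A (M.X n) (M.X (n + 1))) ∘ₗ
      (-(LinearMap.fst A (M.X (n + 1)) (M.X (n + 1 + 1)))))

theorem sW_apply (M : CochainComplex (ModuleCat.{u} A) ℤ) (n : ℤ) (m : M.X (n + 1))
    (m' : M.X (n + 1 + 1)) :
    (sW M n).hom ((m, m') : M.X (n + 1) × M.X (n + 1 + 1)) = ((0, -m) : M.X n × M.X (n + 1)) :=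
  rfl

/-- the family of contracting maps -/
noncomputable def hFamW (M : CochainComplex (ModuleCat.{u} A) ℤ) (i j : ℤ)
    (hij : (ComplexShape.up ℤ).Rel j i) : (wC M).X i ⟶ (wC M).X j :=
  ((wC M).XIsoOfEq (show i = j + 1 from hij.symm)).hom ≫ sW M j

theorem id_eq_nullHomotopicMap'_W (M : CochainComplex (ModuleCat.{u} A) ℤ) :
    𝟙 (wC M) = Homotopy.nullHomotopicMap' (hFamW M) := by
  ext n : 1
  obtain ⟨k, rfl⟩ : ∃ k, n = k + 1 := ⟨n - 1, by omega⟩
  rw [Homotopy.nullHomotopicMap'_f (show (ComplexShape.up ℤ).Rel k (k + 1) from rfl)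
    (show (ComplexShape.up ℤ).Rel (k + 1) (k + 1 + 1) from rfl)]
  simp only [hFamW, HomologicalComplex.XIsoOfEq_rfl, Iso.refl_hom, Category.id_comp]
  rw [wC_d, wC_d]
  ext x
  change M.X (k + 1) × M.X (k + 1 + 1) at x
  obtain ⟨m, m'⟩ := x
  have h1 : (sW M (k + 1)).hom ((wD M (k + 1)).hom ((m, m') : M.X (k + 1) × M.X (k + 1 + 1))) =
      ((0, -((M.d (k + 1) (k + 1 + 1)).hom m - m')) : M.X (k + 1) × M.X (k + 1 + 1)) := by
    rw [wD_apply, sW_apply]
  have h2 : (wD M k).hom ((sW M k).hom ((m, m') : M.X (k + 1) × M.X (k + 1 + 1))) =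
      (((M.d k (k + 1)).hom 0 - (-m), -(M.d (k + 1) (k + 1 + 1)).hom (-m)) :
        M.X (k + 1) × M.X (k + 1 + 1)) := by
    rw [sW_apply, wD_apply]
  rw [ModuleCat.hom_add, LinearMap.add_apply, ModuleCat.hom_comp, ModuleCat.hom_comp,
    LinearMap.comp_apply, LinearMap.comp_apply]
  refine Eq.trans ?_ (congrArg₂ (fun (a b : M.X (k + 1) × M.X (k + 1 + 1)) => a + b)
    h1.symm h2.symm)
  refine Prod.ext ?_ ?_
  · show m = 0 + ((M.d k (k + 1)).hom 0 - (-m))
    rw [map_zero, zero_sub, neg_neg, zero_add]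
  · show m' = -((M.d (k + 1) (k + 1 + 1)).hom m - m') + -(M.d (k + 1) (k + 1 + 1)).hom (-m)
    rw [map_neg, neg_neg]
    abel

/-- the contraction of `W` -/
noncomputable def hW (M : CochainComplex (ModuleCat.{u} A) ℤ) : Homotopy (𝟙 (wC M)) 0 :=
  (Homotopy.ofEq (id_eq_nullHomotopicMap'_W M)).trans (Homotopy.nullHomotopy' (hFamW M))

/-! ### the cone of a quasi-isomorphism is acyclic -/

theorem coneC_acyclic [QuasiIso φ] : (coneC φ).Acyclic := by
  obtain ⟨hinj, hsurj⟩ := Groth.Agent.R2.H52.LiftQis.elementwise_of_quasiIso φ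
  intro k
  obtain ⟨n, rfl⟩ : ∃ n, k = n + 1 := ⟨k - 1, by omega⟩
  rw [HomologicalComplex.exactAt_iff' _ n (n + 1) (n + 1 + 1) (by simp) (by simp),
    ShortComplex.moduleCat_exact_iff]
  intro c hc
  change ((coneC φ).d (n + 1) (n + 1 + 1)).hom c = 0 at hc
  rw [coneC_d] at hc
  change M.X (n + 1 + 1) × N.X (n + 1) at c
  obtain ⟨e, y⟩ := c
  have hc' : ((-(M.d (n + 1 + 1) (n + 1 + 1 + 1)).hom e,
      (φ.f (n + 1 + 1)).hom e + (N.d (n + 1) (n + 1 + 1)).hom y) :
        M.X (n + 1 + 1 + 1) × N.X (n + 1 + 1)) = 0 := by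
    rw [← coneD_apply]; exact hc
  have hc1 : (M.d (n + 1 + 1) (n + 1 + 1 + 1)).hom e = 0 := by
    have := congrArg Prod.fst hc'
    simpa using this
  have hc2 : (φ.f (n + 1 + 1)).hom e + (N.d (n + 1) (n + 1 + 1)).hom y = 0 :=
    congrArg Prod.snd hc'
  -- `e` is a boundary
  obtain ⟨e', he'⟩ := hinj (n + 1) e hc1 ⟨-y, by
    rw [map_neg]; exact neg_eq_of_add_eq_zero_left hc2⟩
  -- `y + φ e'` is a cycle
  have hcyc : (N.d (n + 1) (n + 1 + 1)).hom (y + (φ.f (n + 1)).hom e') = 0 := by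
    rw [map_add, ← comm_apply φ (n + 1) (n + 1 + 1) e', he']
    exact (add_comm _ _).trans hc2
  obtain ⟨x, hx, y', hy'⟩ := hsurj n (y + (φ.f (n + 1)).hom e') hcyc
  refine ⟨((x - e', y') : M.X (n + 1) × N.X n), ?_⟩
  change ((coneC φ).d n (n + 1)).hom _ = _
  rw [coneC_d]
  refine (coneD_apply φ n (x - e') y').trans ?_
  refine Prod.ext ?_ ?_
  · show -(M.d (n + 1) (n + 1 + 1)).hom (x - e') = e
    rw [map_sub, hx, he', zero_sub, neg_neg]
  · show (φ.f (n + 1)).hom (x - e') + (N.d n (n + 1)).hom y' = y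
    rw [hy', map_sub]
    abel

end Groth.Agent.R2.H52.Cyl
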