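import Mathlib
import Groth.Agent.Lib.Helper1LBC

/-!
# helper52: finitely many finite projective modules become free on a basic open neighbourhood of a
prime (in the `extendScalars` form)
-/

set_option autoImplicit false
set_option linter.style.haveILetI false

universe u

open CategoryTheory CategoryTheory.Limits TensorProduct

namespace Groth.Agent.R2.H52.LocFree

variable {R : Type u} [CommRing R]

/-- extension of scalars to `R_f` -/
noncomputable abbrev Gaway (f : R) : ModuleCat.{u} R ⥤ ModuleCat.{u} (Localization.Away f) :=
  ModuleCat.extendScalars.{u, u, u} (algebraMap R (Localization.Away f))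

/-- `Y ⊗ R_f` is free over `R_f` -/
def FreeAt (Y : ModuleCat.{u} R) (f : R) : Prop :=
  Module.Free (Localization.Away f) ((Gaway f).obj Y)

theorem freeAt_mul (Y : ModuleCat.{u} R) (f g : R) (h : FreeAt Y f) : FreeAt Y (f * g) := by
  have hu : IsUnit (algebraMap R (Localization.Away (f * g)) f) := by
    have h1 : IsUnit (algebraMap R (Localization.Away (f * g)) (f * g)) :=
      IsLocalization.Away.algebraMap_isUnit (f * g)
    rw [map_mul] at h1
    exact isUnit_of_mul_isUnit_left h1
  let ψ : Localization.Away f →+* Localization.Away (f * g) := IsLocalization.Away.lift f hu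
  have hψ : ψ.comp (algebraMap R (Localization.Away f)) =
      algebraMap R (Localization.Away (f * g)) := IsLocalization.Away.lift_comp f hu
  haveI : Module.Free (Localization.Away f) ((Gaway f).obj Y) := h
  have h2 : Module.Free (Localization.Away (f * g))
      ((ModuleCat.extendScalars.{u, u, u} ψ).obj ((Gaway f).obj Y)) :=
    Groth.Agent.Lib.Helper1.LDer.free_bc ψ _
  have e : (ModuleCat.extendScalars.{u, u, u} (ψ.comp (algebraMap R (Localization.Away f)))).obj Y ≅
      (ModuleCat.extendScalars.{u, u, u} ψ).obj ((Gaway f).obj Y) :=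
    (ModuleCat.extendScalarsComp (algebraMap R (Localization.Away f)) ψ).app Y
  have h3 : Module.Free (Localization.Away (f * g))
      ((ModuleCat.extendScalars.{u, u, u} (ψ.comp (algebraMap R (Localization.Away f)))).obj Y) :=
    Module.Free.of_equiv e.symm.toLinearEquiv
  rw [hψ] at h3
  exact h3

theorem freeAt_mul' (Y : ModuleCat.{u} R) (f g : R) (h : FreeAt Y g) : FreeAt Y (f * g) := by
  rw [mul_comm]
  exact freeAt_mul Y g f h

/-- a finite projective module is free on a basic open neighbourhood of a prime. -/
theorem exists_freeAt (Y : ModuleCat.{u} R) [Module.Finite R Y] [Module.Projective R Y]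
    (p : Ideal R) [p.IsPrime] : ∃ f : R, f ∉ p ∧ FreeAt Y f := by
  haveI : Module.FinitePresentation R Y := Module.finitePresentation_of_projective R Y
  haveI : Module.Free (Localization.AtPrime p) (LocalizedModule p.primeCompl Y) :=
    Module.free_of_flat_of_isLocalRing
  obtain ⟨r, hr, hr', _⟩ := Module.FinitePresentation.exists_free_localizedModule_powers
    p.primeCompl (LocalizedModule.mkLinearMap p.primeCompl Y) (Localization.AtPrime p)
  refine ⟨r, hr, ?_⟩
  have e1 : (Localization.Away r) ⊗[R] Y ≃ₗ[Localization.Away r]
      LocalizedModule (Submonoid.powers r) Y :=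
    (IsLocalizedModule.isBaseChange (Submonoid.powers r) (Localization.Away r)
      (LocalizedModule.mkLinearMap (Submonoid.powers r) Y)).equiv
  have e2 : ((Gaway r).obj Y) ≃ₗ[Localization.Away r] (Localization.Away r) ⊗[R] Y :=
    Groth.Agent.Lib.Helper1.Extend.extEquiv (A := R) (B := Localization.Away r) Y
  exact Module.Free.of_equiv (e2.trans e1).symm

/-- finitely many finite projective modules are free on a common basic open neighbourhood. -/
theorem exists_freeAt_family {ι : Type*} [Finite ι] (Y : ι → ModuleCat.{u} R)
    (hY : ∀ i, Module.Finite R (Y i) ∧ Module.Projective R (Y i)) (p : Ideal R) [p.IsPrime] :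
    ∃ f : R, f ∉ p ∧ ∀ i, FreeAt (Y i) f := by
  classical
  haveI := Fintype.ofFinite ι
  suffices H : ∀ s : Finset ι, ∃ f : R, f ∉ p ∧ ∀ i ∈ s, FreeAt (Y i) f by
    obtain ⟨f, hf, h⟩ := H Finset.univ
    exact ⟨f, hf, fun i => h i (Finset.mem_univ i)⟩
  intro s
  induction s using Finset.induction_on with
  | empty => exact ⟨1, fun h => (inferInstance : p.IsPrime).ne_top ((Ideal.eq_top_iff_one p).2 h),
      fun i hi => absurd hi (Finset.notMem_empty i)⟩
  | insert i0 s _ ih =>
    obtain ⟨f, hf, h⟩ := ih
    haveI := (hY i0).1
    haveI := (hY i0).2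
    obtain ⟨g, hg, h0⟩ := exists_freeAt (Y i0) p
    refine ⟨f * g, fun hfg => ?_, fun i hi => ?_⟩
    · rcases (inferInstance : p.IsPrime).mem_or_mem hfg with h1 | h1
      · exact hf h1
      · exact hg h1
    · rcases Finset.mem_insert.1 hi with rfl | hi
      · exact freeAt_mul' _ f g h0
      · exact freeAt_mul _ f g (h i hi)

end Groth.Agent.R2.H52.LocFree
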