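import Mathlib
import Groth.Agent.R2.H52Cyl
import Groth.Agent.R2.H52LocFree
import Groth.Agent.R2.H52Bnd

/-!
# helper52: bounded complexes of finite projectives isomorphic in `D(R)` become isomorphic, near a
prime, after adding trivial complexes
-/

set_option autoImplicit false
set_option linter.style.haveILetI false

universe u

open CategoryTheory CategoryTheory.Limits

attribute [local instance] HasDerivedCategory.standard

namespace Groth.Agent.R2.H52.AwayIso

open Groth.Agent.R2.H52.Cyl Groth.Agent.R2.H52.Split Groth.Agent.R2.H52.LocFree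
  Groth.Agent.R2.H52.Bnd

variable {R : Type u} [CommRing R]

/-- a contractible bounded complex of finite projectives has, after a suitable localization, finite
free terms and free boundaries: the "good" elements `f`. -/
def Good (X : CochainComplex (ModuleCat.{u} R) ℤ) (f : R) : Prop :=
  (∀ n : ℤ, FreeAt (X.X n) f) ∧ ∀ n : ℤ, FreeAt (ZM X n) f

/-- the conclusion for the base change of a contractible complex -/
theorem trivial_bc (X : CochainComplex (ModuleCat.{u} R) ℤ) (a b : ℤ)
    (hX : DRing.VanishesOutside X a b) (hXp : DRing.TermwiseFiniteProjective X)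
    (h : Homotopy (𝟙 X) 0) (f : R) (hf : Good X f) :
    (∃ a' b' : ℤ, DRing.VanishesOutside (((Gaway f).mapHomologicalComplex
        (ComplexShape.up ℤ)).obj X) a' b') ∧
      DRing.TermwiseFiniteFree (((Gaway f).mapHomologicalComplex (ComplexShape.up ℤ)).obj X) ∧
      (∀ i : ℤ, Module.Free (Localization.Away f) (LinearMap.range
        ((((Gaway f).mapHomologicalComplex (ComplexShape.up ℤ)).obj X).d i (i + 1)).hom)) ∧
      Nonempty (Homotopy (𝟙 (((Gaway f).mapHomologicalComplex (ComplexShape.up ℤ)).obj X)) 0) := by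
  refine ⟨⟨a, b, Groth.Agent.Lib.Helper1.LDer.vanishesOutside_bc _ X a b hX⟩, fun n => ⟨?_, hf.1 n⟩,
    fun i => free_range_d X h _ i (hf.2 i), ⟨?_⟩⟩
  · haveI := (hXp n).1
    exact Groth.Agent.Lib.Helper1.LDer.finite_bc _ (X.X n)
  · have h1 := (Gaway f).mapHomotopy (c := ComplexShape.up ℤ) h
    refine (Homotopy.ofEq ?_).trans (h1.trans (Homotopy.ofEq ?_))
    · rw [CategoryTheory.Functor.map_id]
    · rw [CategoryTheory.Functor.map_zero]

/-- finitely many conditions: a good `f` exists -/
theorem exists_good (X Y : CochainComplex (ModuleCat.{u} R) ℤ) (a b : ℤ)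
    (hX : DRing.VanishesOutside X a b) (hXp : DRing.TermwiseFiniteProjective X)
    (hY : DRing.VanishesOutside Y a b) (hYp : DRing.TermwiseFiniteProjective Y)
    (hhX : Homotopy (𝟙 X) 0) (hhY : Homotopy (𝟙 Y) 0) (p : Ideal R) [p.IsPrime] :
    ∃ f : R, f ∉ p ∧ Good X f ∧ Good Y f := by
  classical
  let S : Finset ℤ := Finset.Icc (a - 1) b
  -- the family of modules
  let Fam : S × Fin 4 → ModuleCat.{u} R := fun z =>
    if z.2 = 0 then X.X z.1 else if z.2 = 1 then ZM X z.1 else if z.2 = 2 then Y.X z.1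
    else ZM Y z.1
  have hFam : ∀ z, Module.Finite R (Fam z) ∧ Module.Projective R (Fam z) := by
    rintro ⟨n, k⟩
    haveI := (hXp (n + 1)).1
    haveI := (hXp (n + 1)).2
    haveI := (hYp (n + 1)).1
    haveI := (hYp (n + 1)).2
    fin_cases k
    · exact hXp n
    · exact ⟨finite_ZM X hhX n, projective_ZM X hhX n⟩
    · exact hYp n
    · exact ⟨finite_ZM Y hhY n, projective_ZM Y hhY n⟩
  obtain ⟨f, hf, hfree⟩ := exists_freeAt_family Fam hFam p
  -- zero modules are free
  have hzero : ∀ Z : ModuleCat.{u} R, IsZero Z → FreeAt Z f := fun Z hZ => by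
    have h1 : IsZero ((Gaway f).obj Z) := (Gaway f).map_isZero hZ
    haveI : Subsingleton ((Gaway f).obj Z) := ModuleCat.subsingleton_of_isZero h1
    exact Module.Free.of_subsingleton _ _
  have hmem : ∀ n : ℤ, n ∉ S → n < a - 1 ∨ b < n := fun n hn => by
    rw [Finset.mem_Icc, not_and_or, not_le, not_le] at hn
    exact hn
  have hZzero : ∀ (W : CochainComplex (ModuleCat.{u} R) ℤ), DRing.VanishesOutside W a b →
      ∀ n : ℤ, n ∉ S → IsZero (ZM W n) := fun W hW n hn => by
    have h1 : IsZero (W.X (n + 1)) ∨ IsZero (W.X n) := by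
      rcases hmem n hn with h | h
      · exact Or.inr (hW n (Or.inl (by omega)))
      · exact Or.inl (hW (n + 1) (Or.inr (by omega)))
    have hsub : Subsingleton (LinearMap.range (W.d n (n + 1)).hom) := by
      rcases h1 with h1 | h1
      · haveI : Subsingleton (W.X (n + 1)) := ModuleCat.subsingleton_of_isZero h1
        infer_instance
      · haveI : Subsingleton (W.X n) := ModuleCat.subsingleton_of_isZero h1
        refine ⟨fun x y => ?_⟩
        obtain ⟨_, x', rfl⟩ := x
        obtain ⟨_, y', rfl⟩ := y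
        rw [Subsingleton.elim x' y']
    exact ModuleCat.isZero_of_subsingleton _
  refine ⟨f, hf, ⟨fun n => ?_, fun n => ?_⟩, ⟨fun n => ?_, fun n => ?_⟩⟩
  · by_cases hn : n ∈ S
    · exact hfree (⟨n, hn⟩, 0)
    · refine hzero _ (hX n ?_)
      rcases hmem n hn with h | h
      · exact Or.inl (by omega)
      · exact Or.inr h
  · by_cases hn : n ∈ S
    · exact hfree (⟨n, hn⟩, 1)
    · exact hzero _ (hZzero X hX n hn)
  · by_cases hn : n ∈ S
    · exact hfree (⟨n, hn⟩, 2)
    · refine hzero _ (hY n ?_)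
      rcases hmem n hn with h | h
      · exact Or.inl (by omega)
      · exact Or.inr h
  · by_cases hn : n ∈ S
    · exact hfree (⟨n, hn⟩, 3)
    · exact hzero _ (hZzero Y hY n hn)

section Main

variable (p : Ideal R) [p.IsPrime] (M N : DRing.Cx R) (a b : ℤ)

theorem coneC_vanishes {M N : DRing.Cx R} (φ : M ⟶ N) (hM : DRing.VanishesOutside M a b)
    (hN : DRing.VanishesOutside N a b) : DRing.VanishesOutside (coneC φ) (a - 1) b := by
  intro n hn
  haveI : Subsingleton (M.X (n + 1)) := ModuleCat.subsingleton_of_isZero (hM (n + 1) (by omega))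
  haveI : Subsingleton (N.X n) := ModuleCat.subsingleton_of_isZero (hN n (by omega))
  exact ModuleCat.isZero_of_subsingleton (ModuleCat.of R (M.X (n + 1) × N.X n))

theorem wC_vanishes {M : DRing.Cx R} (hM : DRing.VanishesOutside M a b) :
    DRing.VanishesOutside (wC M) (a - 1) b := by
  intro n hn
  haveI : Subsingleton (M.X (n + 1)) := ModuleCat.subsingleton_of_isZero (hM (n + 1) (by omega))
  haveI : Subsingleton (M.X n) := ModuleCat.subsingleton_of_isZero (hM n (by omega))
  exact ModuleCat.isZero_of_subsingleton (ModuleCat.of R (M.X n × M.X (n + 1)))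

theorem coneC_finProj {M N : DRing.Cx R} (φ : M ⟶ N) (hMp : DRing.TermwiseFiniteProjective M)
    (hNp : DRing.TermwiseFiniteProjective N) : DRing.TermwiseFiniteProjective (coneC φ) := by
  intro n
  haveI := (hMp (n + 1)).1
  haveI := (hMp (n + 1)).2
  haveI := (hNp n).1
  haveI := (hNp n).2
  exact ⟨(inferInstance : Module.Finite R (M.X (n + 1) × N.X n)),
    (inferInstance : Module.Projective R (M.X (n + 1) × N.X n))⟩

theorem wC_finProj {M : DRing.Cx R} (hMp : DRing.TermwiseFiniteProjective M) :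
    DRing.TermwiseFiniteProjective (wC M) := by
  intro n
  haveI := (hMp (n + 1)).1
  haveI := (hMp (n + 1)).2
  haveI := (hMp n).1
  haveI := (hMp n).2
  exact ⟨(inferInstance : Module.Finite R (M.X n × M.X (n + 1))),
    (inferInstance : Module.Projective R (M.X n × M.X (n + 1)))⟩

/-- the main theorem -/
theorem main (hM : DRing.VanishesOutside M a b) (hN : DRing.VanishesOutside N a b)
    (hMp : DRing.TermwiseFiniteProjective M) (hNp : DRing.TermwiseFiniteProjective N)
    (h : Nonempty (DRing.toD M ≅ DRing.toD N)) :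
    ∃ f : R, f ∉ p ∧ ∃ P Q : DRing.Cx (Localization.Away f),
      ((∃ a' b' : ℤ, DRing.VanishesOutside P a' b') ∧ DRing.TermwiseFiniteFree P ∧
          (∀ i : ℤ, Module.Free (Localization.Away f) (LinearMap.range (P.d i (i + 1)).hom)) ∧
          Nonempty (Homotopy (𝟙 P) 0)) ∧
      ((∃ a' b' : ℤ, DRing.VanishesOutside Q a' b') ∧ DRing.TermwiseFiniteFree Q ∧
          (∀ i : ℤ, Module.Free (Localization.Away f) (LinearMap.range (Q.d i (i + 1)).hom)) ∧
          Nonempty (Homotopy (𝟙 Q) 0)) ∧
      Nonempty ((((ModuleCat.extendScalars (algebraMap R (Localization.Away f))).mapHomologicalComplex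
        (ComplexShape.up ℤ)).obj M) ⊞ P ≅
        (((ModuleCat.extendScalars (algebraMap R (Localization.Away f))).mapHomologicalComplex
        (ComplexShape.up ℤ)).obj N) ⊞ Q) := by
  obtain ⟨φD⟩ := h
  haveI : M.IsKProjective :=
    Groth.Agent.Lib.Helper1.LDer.isKProjective_of_vanishesAbove M b
      (fun k hk => hM k (Or.inr hk)) (fun k => (hMp k).2)
  haveI : N.IsKProjective :=
    Groth.Agent.Lib.Helper1.LDer.isKProjective_of_vanishesAbove N b
      (fun k hk => hN k (Or.inr hk)) (fun k => (hNp k).2)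
  -- represent the isomorphism by a chain map
  obtain ⟨φ, hφ⟩ : ∃ φ : M ⟶ N, DerivedCategory.Q.map φ = φD.hom := by
    obtain ⟨g', hg'⟩ := (CochainComplex.IsKProjective.Qh_map_bijective M
      ((HomotopyCategory.quotient _ _).obj N)).surjective
        ((DerivedCategory.quotientCompQhIso _).hom.app M ≫ φD.hom ≫
          (DerivedCategory.quotientCompQhIso _).inv.app _)
    obtain ⟨g, rfl⟩ := (HomotopyCategory.quotient _ _).map_surjective g'
    refine ⟨g, ?_⟩
    have h := DerivedCategory.quotientCompQhIso_hom_naturality g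
    rw [hg'] at h
    simp only [Category.assoc, Iso.inv_hom_id_app, Category.comp_id] at h
    exact ((cancel_epi ((DerivedCategory.quotientCompQhIso _).hom.app M)).1 h).symm
  haveI hφq : QuasiIso φ := by
    rw [← DerivedCategory.isIso_Q_map_iff_quasiIso, hφ]
    infer_instance
  -- the cone and `W`
  have hCv := coneC_vanishes a b φ hM hN
  have hCp := coneC_finProj φ hMp hNp
  have hWv := wC_vanishes a b hM
  have hWp := wC_finProj hMp
  haveI : (coneC φ).IsKProjective :=
    Groth.Agent.Lib.Helper1.LDer.isKProjective_of_vanishesAbove (coneC φ) b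
      (fun k hk => hCv k (Or.inr hk)) (fun k => (hCp k).2)
  let hC : Homotopy (𝟙 (coneC φ)) 0 :=
    CochainComplex.IsKProjective.homotopyZero (𝟙 (coneC φ)) (coneC_acyclic φ)
  obtain ⟨f, hf, hgC, hgW⟩ := exists_good (coneC φ) (wC M) (a - 1) b hCv hCp hWv hWp hC (hW M) p
  obtain ⟨hP1, hP2, hP3, ⟨hP4⟩⟩ := trivial_bc (coneC φ) (a - 1) b hCv hCp hC f hgC
  obtain ⟨hQ1, hQ2, hQ3, ⟨hQ4⟩⟩ := trivial_bc (wC M) (a - 1) b hWv hWp (hW M) f hgW
  refine ⟨f, hf, ((Gaway f).mapHomologicalComplex (ComplexShape.up ℤ)).obj (coneC φ),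
    ((Gaway f).mapHomologicalComplex (ComplexShape.up ℤ)).obj (wC M),
    ⟨hP1, hP2, hP3, ⟨hP4⟩⟩, ⟨hQ1, hQ2, hQ3, ⟨hQ4⟩⟩, ?_⟩
  obtain ⟨e1⟩ := ((splitCone φ).map (Gaway f)).nonempty_iso_biprod hP4
  obtain ⟨e2⟩ := ((splitW φ).map (Gaway f)).nonempty_iso_biprod hQ4
  exact ⟨e1.symm ≪≫ e2⟩

end Main

end Groth.Agent.R2.H52.AwayIso
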