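import Mathlib

/-!
# helper52: complexes of standard free modules given by matrices, and their base change
-/

set_option autoImplicit false
set_option linter.style.haveILetI false

universe u

open CategoryTheory CategoryTheory.Limits TensorProduct Matrix
open scoped ChangeOfRings

set_option linter.dupNamespace false

namespace Groth.Agent.R2.H52.MatCx

section Ext

variable {A B : Type u} [CommRing A] [CommRing B] (φ : A →+* B)

/-- extension of scalars -/
noncomputable abbrev Gf := ModuleCat.extendScalars.{u, u, u} φ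

/-- the adjunction -/
noncomputable abbrev adjf := ModuleCat.extendRestrictScalarsAdj.{u, u, u} φ

/-- `m ↦ 1 ⊗ m` -/
noncomputable def one (M : ModuleCat.{u} A) (m : M) : (Gf φ).obj M := (1 : B) ⊗ₜ[A, φ] m

theorem one_eq_unit (M : ModuleCat.{u} A) (m : M) :
    one φ M m = ((adjf φ).unit.app M).hom m := rfl

theorem one_add (M : ModuleCat.{u} A) (m m' : M) : one φ M (m + m') = one φ M m + one φ M m' := by
  rw [one_eq_unit, map_add]
  rfl

theorem one_zero (M : ModuleCat.{u} A) : one φ M 0 = 0 := by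
  rw [one_eq_unit, map_zero]
  rfl

theorem one_smul (M : ModuleCat.{u} A) (a : A) (m : M) :
    one φ M (a • m) = (φ a) • one φ M m := by
  rw [one_eq_unit, map_smul, ModuleCat.restrictScalars.smul_def]
  rfl

theorem one_sum (M : ModuleCat.{u} A) {ι : Type*} (s : Finset ι) (m : ι → M) :
    one φ M (∑ k ∈ s, m k) = ∑ k ∈ s, one φ M (m k) := by
  classical
  induction s using Finset.induction_on with
  | empty => simp [one_zero]
  | insert a s ha ih => rw [Finset.sum_insert ha, Finset.sum_insert ha, one_add, ih]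

theorem map_one {M M' : ModuleCat.{u} A} (g : M ⟶ M') (m : M) :
    ((Gf φ).map g).hom (one φ M m) = one φ M' (g.hom m) := rfl

theorem hom_ext_one {M : ModuleCat.{u} A} {N : ModuleCat.{u} B} {α β : (Gf φ).obj M ⟶ N}
    (h : ∀ m : M, α.hom (one φ M m) = β.hom (one φ M m)) : α = β :=
  ModuleCat.ExtendScalars.hom_ext h

/-- the adjoint of a map into a restriction -/
noncomputable def sharp {M : ModuleCat.{u} A} {N : ModuleCat.{u} B}
    (g : M ⟶ (ModuleCat.restrictScalars.{u, u, u} φ).obj N) : (Gf φ).obj M ⟶ N :=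
  ((adjf φ).homEquiv M N).symm g

theorem sharp_one {M : ModuleCat.{u} A} {N : ModuleCat.{u} B}
    (g : M ⟶ (ModuleCat.restrictScalars.{u, u, u} φ).obj N) (m : M) :
    (sharp φ g).hom (one φ M m) = g.hom m := by
  have h : (adjf φ).homEquiv M N (sharp φ g) = g := Equiv.apply_symm_apply _ _
  have h2 : ((adjf φ).homEquiv M N (sharp φ g)).hom m = (sharp φ g).hom (one φ M m) := rfl
  rw [← h2, h]

end Ext

section Free

variable {A B : Type u} [CommRing A] [CommRing B] (φ : A →+* B) (N : ℕ)

/-- the standard free module of rank `N` -/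
abbrev Fr (A : Type u) [CommRing A] (N : ℕ) : ModuleCat.{u} A := ModuleCat.of A (Fin N → A)

/-- `v ↦ φ ∘ v` as an `A`-linear map into the restriction of scalars. -/
noncomputable def vmap : Fr A N ⟶ (ModuleCat.restrictScalars.{u, u, u} φ).obj (Fr B N) :=
  ModuleCat.ofHom (Y := (ModuleCat.restrictScalars.{u, u, u} φ).obj (Fr B N))
    { toFun := fun v =>
        (show ((ModuleCat.restrictScalars.{u, u, u} φ).obj (Fr B N)) from fun k => φ (v k))
      map_add' := fun v w => by
        funext k
        exact map_add φ (v k) (w k)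
      map_smul' := fun a v => by
        funext k
        exact map_mul φ a (v k) }

theorem vmap_apply (v : Fin N → A) (k : Fin N) : ((vmap φ N).hom v : Fin N → B) k = φ (v k) := rfl

/-- the comparison `B ⊗ A^N → B^N`. -/
noncomputable def θhom : (Gf φ).obj (Fr A N) ⟶ Fr B N := sharp φ (vmap φ N)

theorem θhom_one (v : Fin N → A) (k : Fin N) :
    ((θhom φ N).hom (one φ (Fr A N) v) : Fin N → B) k = φ (v k) := by
  rw [θhom, sharp_one]
  rfl

/-- the morphism out of a standard free module given by a family of elements. -/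
noncomputable def fromFr (X : ModuleCat.{u} B) (x : Fin N → X) : Fr B N ⟶ X :=
  ModuleCat.ofHom ((Pi.basisFun B (Fin N)).constr B x)

theorem fromFr_apply (X : ModuleCat.{u} B) (x : Fin N → X) (w : Fin N → B) :
    (fromFr N X x).hom w = ∑ k, w k • x k := by
  show ((Pi.basisFun B (Fin N)).constr B x) w = _
  rw [Module.Basis.constr_apply_fintype]
  rfl

theorem fromFr_single (X : ModuleCat.{u} B) (x : Fin N → X) (k : Fin N) :
    (fromFr N X x).hom (Pi.single k (1 : B)) = x k := by
  rw [fromFr_apply, Finset.sum_eq_single k]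
  · rw [Pi.single_eq_same, _root_.one_smul]
  · intro l _ hl
    rw [Pi.single_eq_of_ne hl, zero_smul]
  · intro h
    exact absurd (Finset.mem_univ k) h

theorem fromFr_ext {X : ModuleCat.{u} B} {α β : Fr B N ⟶ X}
    (h : ∀ k, α.hom (Pi.single k (1 : B)) = β.hom (Pi.single k (1 : B))) : α = β := by
  apply ModuleCat.hom_ext
  apply (Pi.basisFun B (Fin N)).ext
  intro k
  rw [Pi.basisFun_apply]
  exact h k

/-- the inverse comparison `B^N → B ⊗ A^N`. -/
noncomputable def θinv : Fr B N ⟶ (Gf φ).obj (Fr A N) :=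
  fromFr N ((Gf φ).obj (Fr A N)) (fun k => one φ (Fr A N) (Pi.single k (1 : A)))

theorem θinv_apply (w : Fin N → B) :
    (θinv φ N).hom w = ∑ k, w k • one φ (Fr A N) (Pi.single k (1 : A)) :=
  fromFr_apply N _ _ w

theorem θhom_inv : θinv φ N ≫ θhom φ N = 𝟙 _ := by
  apply fromFr_ext
  intro k
  show (θhom φ N).hom ((θinv φ N).hom (Pi.single k (1 : B))) = Pi.single k (1 : B)
  have h1 : (θinv φ N).hom (Pi.single k (1 : B)) = one φ (Fr A N) (Pi.single k (1 : A)) :=
    fromFr_single N _ _ k
  rw [h1]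
  funext l
  rw [θhom_one]
  by_cases hkl : l = k
  · subst hkl
    simp
  · simp [Pi.single_eq_of_ne hkl]

theorem θinv_hom : θhom φ N ≫ θinv φ N = 𝟙 _ := by
  apply hom_ext_one
  intro v
  show (θinv φ N).hom ((θhom φ N).hom (one φ (Fr A N) v)) = one φ (Fr A N) v
  rw [θinv_apply]
  have h1 : ∀ k, ((θhom φ N).hom (one φ (Fr A N) v) : Fin N → B) k •
      one φ (Fr A N) (Pi.single k (1 : A)) = one φ (Fr A N) (Pi.single k (v k)) := by
    intro k
    rw [θhom_one, ← one_smul]
    congr 1
    funext l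
    by_cases hkl : l = k
    · subst hkl
      simp
    · simp [Pi.single_eq_of_ne hkl]
  rw [Finset.sum_congr rfl (fun k _ => h1 k), ← one_sum]
  congr 1
  exact Finset.univ_sum_single v

/-- `B ⊗ A^N ≅ B^N`. -/
noncomputable def θ : (Gf φ).obj (Fr A N) ≅ Fr B N where
  hom := θhom φ N
  inv := θinv φ N
  hom_inv_id := θinv_hom φ N
  inv_hom_id := θhom_inv φ N

/-- the morphism of standard free modules given by a matrix. -/
noncomputable def mat (M : Matrix (Fin N) (Fin N) A) : Fr A N ⟶ Fr A N :=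
  ModuleCat.ofHom (Matrix.toLin' M)

theorem mat_mul (M M' : Matrix (Fin N) (Fin N) A) : mat N (M * M') = mat N M' ≫ mat N M := by
  rw [mat, mat, mat, ← ModuleCat.ofHom_comp, Matrix.toLin'_mul]

theorem mat_zero : mat N (0 : Matrix (Fin N) (Fin N) A) = 0 := by
  rw [mat, map_zero]
  rfl

/-- naturality of `θ` with respect to matrices. -/
theorem θ_mat (M : Matrix (Fin N) (Fin N) A) :
    (Gf φ).map (mat N M) ≫ (θ φ N).hom = (θ φ N).hom ≫ mat N (M.map φ) := by
  apply hom_ext_one
  intro v
  show (θhom φ N).hom (((Gf φ).map (mat N M)).hom (one φ (Fr A N) v)) =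
    (mat N (M.map φ)).hom ((θhom φ N).hom (one φ (Fr A N) v))
  rw [map_one]
  funext k
  rw [θhom_one]
  show φ ((M *ᵥ v) k) = ((M.map φ) *ᵥ ((θhom φ N).hom (one φ (Fr A N) v) : Fin N → B)) k
  have h2 : ((θhom φ N).hom (one φ (Fr A N) v) : Fin N → B) = fun l => φ (v l) := by
    funext l
    exact θhom_one φ N v l
  rw [h2]
  exact RingHom.map_mulVec φ M v k

end Free

section Cx

variable {A B : Type u} [CommRing A] [CommRing B] (φ : A →+* B) (N : ℕ)

/-- the complex of standard free modules of rank `N` with differentials given by matrices. -/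
noncomputable def MatCx (D : ℤ → Matrix (Fin N) (Fin N) A) (hD : ∀ i, D (i + 1) * D i = 0) :
    CochainComplex (ModuleCat.{u} A) ℤ :=
  CochainComplex.of (fun _ => Fr A N) (fun i => mat N (D i))
    (fun i => by rw [← mat_mul, hD, mat_zero])

theorem MatCx_d (D : ℤ → Matrix (Fin N) (Fin N) A) (hD : ∀ i, D (i + 1) * D i = 0) (i : ℤ) :
    (MatCx N D hD).d i (i + 1) = mat N (D i) :=
  CochainComplex.of_d (fun _ => Fr A N) (fun i => mat N (D i)) i

/-- the morphism of matrix complexes given by matrices. -/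
noncomputable def MatHom (D D' : ℤ → Matrix (Fin N) (Fin N) A) (hD : ∀ i, D (i + 1) * D i = 0)
    (hD' : ∀ i, D' (i + 1) * D' i = 0) (p : ℤ → Matrix (Fin N) (Fin N) A)
    (hp : ∀ i, D' i * p i = p (i + 1) * D i) : MatCx N D hD ⟶ MatCx N D' hD' :=
  CochainComplex.ofHom (X := MatCx N D hD) (Y := MatCx N D' hD') (fun i => mat N (p i))
    (fun i => by
      rw [MatCx_d, MatCx_d]
      show mat N (p i) ≫ mat N (D' i) = mat N (D i) ≫ mat N (p (i + 1))
      rw [← mat_mul, ← mat_mul, hp])

theorem MatHom_f (D D' : ℤ → Matrix (Fin N) (Fin N) A) (hD : ∀ i, D (i + 1) * D i = 0)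
    (hD' : ∀ i, D' (i + 1) * D' i = 0) (p : ℤ → Matrix (Fin N) (Fin N) A)
    (hp : ∀ i, D' i * p i = p (i + 1) * D i) (i : ℤ) :
    (MatHom N D D' hD hD' p hp).f i = mat N (p i) := rfl

/-- termwise base change of complexes -/
noncomputable abbrev Bf := (Gf φ).mapHomologicalComplex (ComplexShape.up ℤ)

theorem map_mul_map (D : ℤ → Matrix (Fin N) (Fin N) A) (hD : ∀ i, D (i + 1) * D i = 0) (i : ℤ) :
    (D (i + 1)).map φ * (D i).map φ = 0 := by
  rw [← Matrix.map_mul, hD]
  ext a b
  simp

/-- the base change of a matrix complex is the matrix complex of the base changed matrices. -/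
noncomputable def bcIso (D : ℤ → Matrix (Fin N) (Fin N) A) (hD : ∀ i, D (i + 1) * D i = 0) :
    (Bf φ).obj (MatCx N D hD) ≅ MatCx N (fun i => (D i).map φ) (map_mul_map φ N D hD) :=
  HomologicalComplex.Hom.isoOfComponents (fun _ => θ φ N) (by
    rintro i j (rfl : i + 1 = j)
    rw [MatCx_d]
    have h1 : ((Bf φ).obj (MatCx N D hD)).d i (i + 1) = (Gf φ).map (mat N (D i)) := by
      show (Gf φ).map ((MatCx N D hD).d i (i + 1)) = _
      exact congrArg (fun z => (Gf φ).map z) (MatCx_d N D hD i)
    rw [h1]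
    exact (θ_mat φ N (D i)).symm)

theorem bcIso_hom_f (D : ℤ → Matrix (Fin N) (Fin N) A) (hD : ∀ i, D (i + 1) * D i = 0) (i : ℤ) :
    (bcIso φ N D hD).hom.f i = (θ φ N).hom := rfl

/-- compatibility of `bcIso` with matrix morphisms. -/
theorem bcIso_MatHom (D : ℤ → Matrix (Fin N) (Fin N) A) (hD : ∀ i, D (i + 1) * D i = 0)
    (p : ℤ → Matrix (Fin N) (Fin N) A) (hp : ∀ i, D i * p i = p (i + 1) * D i)
    (hp' : ∀ i, (D i).map φ * (p i).map φ = (p (i + 1)).map φ * (D i).map φ) :
    (Bf φ).map (MatHom N D D hD hD p hp) ≫ (bcIso φ N D hD).hom =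
      (bcIso φ N D hD).hom ≫ MatHom N _ _ (map_mul_map φ N D hD) (map_mul_map φ N D hD)
        (fun i => (p i).map φ) hp' := by
  ext i : 1
  exact θ_mat φ N (p i)

end Cx

end Groth.Agent.R2.H52.MatCx
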