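import Mathlib

/-!
# Partial contractions of three-term complexes of finite free modules

For a complex `F₁ → F₂ → F₃` of modules over a ring `R` (with `F₂`, `F₃` finite free) which is
exact in the middle after tensoring with the residue field `κ(p)` of a prime `p`, there are
`t ∉ p` and maps `σ : F₂ → F₁`, `ρ : F₃ → F₂` with `d₁ σ + ρ d₂ = t • id`.
-/

set_option autoImplicit false

namespace Groth.Agent.R2.H52.PartCon

open TensorProduct

universe u

section Local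

variable {S : Type u} [CommRing S] [IsLocalRing S]
  {M₁ M₂ M₃ : Type u} [AddCommGroup M₁] [AddCommGroup M₂] [AddCommGroup M₃]
  [Module S M₁] [Module S M₂] [Module S M₃] [Module.Finite S M₂] [Module.Projective S M₂]
  [Module.Finite S M₃] [Module.Free S M₃]

/-- Over a local ring: a complex `M₁ → M₂ → M₃` (`M₂` finite projective, `M₃` finite free) which
is exact modulo the maximal ideal admits a partial contraction in the middle. -/
theorem exists_partial_contraction_local (d₁ : M₁ →ₗ[S] M₂) (d₂ : M₂ →ₗ[S] M₃)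
    (h0 : d₂ ∘ₗ d₁ = 0)
    (hex : Function.Exact (d₁.lTensor (IsLocalRing.ResidueField S))
      (d₂.lTensor (IsLocalRing.ResidueField S))) :
    ∃ (σ : M₂ →ₗ[S] M₁) (ρ : M₃ →ₗ[S] M₂), d₁ ∘ₗ σ + ρ ∘ₗ d₂ = LinearMap.id := by
  classical
  let C := M₂ ⧸ LinearMap.range d₁
  let π : M₂ →ₗ[S] C := (LinearMap.range d₁).mkQ
  have hπ : Function.Surjective π := Submodule.mkQ_surjective _
  let δ : C →ₗ[S] M₃ := (LinearMap.range d₁).liftQ d₂ (by
    rintro _ ⟨x, rfl⟩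
    exact LinearMap.congr_fun h0 x)
  have hδπ : δ ∘ₗ π = d₂ := Submodule.liftQ_mkQ _ _ _
  have hπd : π ∘ₗ d₁ = 0 := by
    ext x
    exact (Submodule.Quotient.mk_eq_zero _).2 ⟨x, rfl⟩
  have hinj : Function.Injective (δ.lTensor (IsLocalRing.ResidueField S)) := by
    rw [← LinearMap.ker_eq_bot, LinearMap.ker_eq_bot']
    intro y hy
    obtain ⟨x, rfl⟩ := LinearMap.lTensor_surjective (IsLocalRing.ResidueField S) hπ y
    have h1 : (d₂.lTensor (IsLocalRing.ResidueField S)) x = 0 := by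
      rw [← hδπ, LinearMap.lTensor_comp]
      exact hy
    obtain ⟨w, rfl⟩ := (hex x).1 h1
    rw [← LinearMap.comp_apply, ← LinearMap.lTensor_comp, hπd, LinearMap.lTensor_zero,
      LinearMap.zero_apply]
  obtain ⟨l', hl'⟩ :=
    (IsLocalRing.split_injective_iff_lTensor_residueField_injective δ).2 hinj
  obtain ⟨ρ, hρ⟩ := Module.projective_lifting_property π l' hπ
  have he : ∀ x : M₂, ((LinearMap.id : M₂ →ₗ[S] M₂) - ρ ∘ₗ d₂) x ∈ LinearMap.range d₁ := by
    intro x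
    rw [← Submodule.Quotient.mk_eq_zero]
    show π (x - ρ (d₂ x)) = 0
    rw [map_sub, sub_eq_zero]
    have h1 : π (ρ (d₂ x)) = l' (d₂ x) := LinearMap.congr_fun hρ (d₂ x)
    have h2 : d₂ x = δ (π x) := (LinearMap.congr_fun hδπ x).symm
    rw [h1, h2]
    exact (LinearMap.congr_fun hl' (π x)).symm
  let e : M₂ →ₗ[S] LinearMap.range d₁ :=
    LinearMap.codRestrict _ ((LinearMap.id : M₂ →ₗ[S] M₂) - ρ ∘ₗ d₂) he
  obtain ⟨σ, hσ⟩ := Module.projective_lifting_property d₁.rangeRestrict e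
    (LinearMap.surjective_rangeRestrict d₁)
  refine ⟨σ, ρ, ?_⟩
  ext x
  have h3 : (d₁.rangeRestrict (σ x) : M₂) = (e x : M₂) :=
    congrArg Subtype.val (LinearMap.congr_fun hσ x)
  have h4 : d₁ (σ x) = x - ρ (d₂ x) := h3
  show d₁ (σ x) + ρ (d₂ x) = x
  rw [h4]
  abel

end Local

section Global

variable {R : Type u} [CommRing R] (p : Ideal R) [p.IsPrime]
  {F₁ F₂ F₃ : Type u} [AddCommGroup F₁] [AddCommGroup F₂] [AddCommGroup F₃]
  [Module R F₁] [Module R F₂] [Module R F₃]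

/-- naturality of `cancelBaseChange` -/
lemma cancelBaseChange_lTensor (S κ : Type u) [CommRing S] [Algebra R S] [AddCommGroup κ]
    [Module R κ] [Module S κ] [IsScalarTower R S κ] (d : F₁ →ₗ[R] F₂)
    (z : κ ⊗[S] (S ⊗[R] F₁)) :
    AlgebraTensorModule.cancelBaseChange R S S κ F₂ ((d.baseChange S).lTensor κ z) =
      d.lTensor κ (AlgebraTensorModule.cancelBaseChange R S S κ F₁ z) := by
  induction z using TensorProduct.induction_on with
  | zero => simp
  | add x y hx hy => simp only [map_add, hx, hy]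
  | tmul k w =>
    induction w using TensorProduct.induction_on with
    | zero => simp
    | add x y hx hy => simp only [TensorProduct.tmul_add, map_add, hx, hy]
    | tmul a x => simp

variable [Module.Finite R F₂] [Module.Free R F₂] [Module.Finite R F₃] [Module.Free R F₃]

/-- Spreading out the partial contraction from the local ring at `p`. -/
theorem exists_partial_contraction (d₁ : F₁ →ₗ[R] F₂) (d₂ : F₂ →ₗ[R] F₃) (h0 : d₂ ∘ₗ d₁ = 0)
    (hex : Function.Exact (d₁.lTensor p.ResidueField) (d₂.lTensor p.ResidueField)) :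
    ∃ (t : R) (_ : t ∉ p) (σ : F₂ →ₗ[R] F₁) (ρ : F₃ →ₗ[R] F₂),
      d₁ ∘ₗ σ + ρ ∘ₗ d₂ = t • LinearMap.id := by
  classical
  let S := Localization.AtPrime p
  let D₁ : S ⊗[R] F₁ →ₗ[S] S ⊗[R] F₂ := d₁.baseChange S
  let D₂ : S ⊗[R] F₂ →ₗ[S] S ⊗[R] F₃ := d₂.baseChange S
  have hD0 : D₂ ∘ₗ D₁ = 0 := by
    show d₂.baseChange S ∘ₗ d₁.baseChange S = 0
    rw [← LinearMap.baseChange_comp, h0, LinearMap.baseChange_zero]
  have hexS : Function.Exact (D₁.lTensor (IsLocalRing.ResidueField S))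
      (D₂.lTensor (IsLocalRing.ResidueField S)) := by
    let c₁ := AlgebraTensorModule.cancelBaseChange R S S (IsLocalRing.ResidueField S) F₁
    let c₂ := AlgebraTensorModule.cancelBaseChange R S S (IsLocalRing.ResidueField S) F₂
    let c₃ := AlgebraTensorModule.cancelBaseChange R S S (IsLocalRing.ResidueField S) F₃
    intro y
    have hy : (d₂.lTensor p.ResidueField) (c₂ y) = 0 ↔
        c₂ y ∈ Set.range (d₁.lTensor p.ResidueField) := hex (c₂ y)
    constructor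
    · intro h
      have h1 : (d₂.lTensor p.ResidueField) (c₂ y) = 0 := by
        rw [← cancelBaseChange_lTensor S (IsLocalRing.ResidueField S) d₂ y]
        show c₃ _ = 0
        rw [h, map_zero]
      obtain ⟨w, hw⟩ := hy.1 h1
      refine ⟨c₁.symm w, ?_⟩
      apply c₂.injective
      rw [← hw]
      show c₂ ((D₁.lTensor _) (c₁.symm w)) = _
      rw [cancelBaseChange_lTensor S (IsLocalRing.ResidueField S) d₁ (c₁.symm w)]
      show (d₁.lTensor _) (c₁ (c₁.symm w)) = _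
      rw [LinearEquiv.apply_symm_apply]
    · rintro ⟨w, rfl⟩
      rw [← LinearMap.comp_apply, ← LinearMap.lTensor_comp, hD0, LinearMap.lTensor_zero,
        LinearMap.zero_apply]
  obtain ⟨σS, ρS, hS⟩ := exists_partial_contraction_local D₁ D₂ hD0 hexS
  let ℓ₁ : F₁ →ₗ[R] S ⊗[R] F₁ := TensorProduct.mk R S F₁ 1
  let ℓ₂ : F₂ →ₗ[R] S ⊗[R] F₂ := TensorProduct.mk R S F₂ 1
  let ℓ₃ : F₃ →ₗ[R] S ⊗[R] F₃ := TensorProduct.mk R S F₃ 1
  have : Module.FinitePresentation R F₂ := Module.finitePresentation_of_projective R F₂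
  have : Module.FinitePresentation R F₃ := Module.finitePresentation_of_projective R F₃
  obtain ⟨h₁, s₁, hs₁⟩ := Module.FinitePresentation.exists_lift_of_isLocalizedModule
    p.primeCompl ℓ₁ ((σS.restrictScalars R) ∘ₗ ℓ₂)
  obtain ⟨h₂, s₂, hs₂⟩ := Module.FinitePresentation.exists_lift_of_isLocalizedModule
    p.primeCompl ℓ₂ ((ρS.restrictScalars R) ∘ₗ ℓ₃)
  have hℓd₁ : ∀ x, ℓ₂ (d₁ x) = D₁ (ℓ₁ x) := fun x => (LinearMap.baseChange_tmul _ _ _).symm
  have hℓd₂ : ∀ x, ℓ₃ (d₂ x) = D₂ (ℓ₂ x) := fun x => (LinearMap.baseChange_tmul _ _ _).symm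
  have hs₁' : ∀ x, ℓ₁ (h₁ x) = (s₁ : R) • σS (ℓ₂ x) := fun x => LinearMap.congr_fun hs₁ x
  have hs₂' : ∀ x, ℓ₂ (h₂ x) = (s₂ : R) • ρS (ℓ₃ x) := fun x => LinearMap.congr_fun hs₂ x
  have hS' : ∀ y, D₁ (σS y) + ρS (D₂ y) = y := fun y => LinearMap.congr_fun hS y
  let E : F₂ →ₗ[R] F₂ := d₁ ∘ₗ ((s₂ : R) • h₁) + ((s₁ : R) • h₂) ∘ₗ d₂
  have hE : ℓ₂ ∘ₗ E = ℓ₂ ∘ₗ (((s₁ : R) * (s₂ : R)) • LinearMap.id) := by
    ext x
    show ℓ₂ (d₁ ((s₂ : R) • h₁ x) + (s₁ : R) • h₂ (d₂ x)) = ℓ₂ (((s₁ : R) * (s₂ : R)) • x)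
    have e1 : ℓ₂ (d₁ (h₁ x)) = (s₁ : R) • D₁ (σS (ℓ₂ x)) := by
      rw [hℓd₁, hs₁', LinearMap.map_smul_of_tower]
    have e2 : ℓ₂ (h₂ (d₂ x)) = (s₂ : R) • ρS (D₂ (ℓ₂ x)) := by
      rw [hs₂', hℓd₂]
    rw [map_add, map_smul, map_smul, map_smul, map_smul, e1, e2, smul_smul, smul_smul,
      mul_comm (s₂ : R) (s₁ : R), ← smul_add, hS' (ℓ₂ x)]
  obtain ⟨t, ht⟩ := Module.Finite.exists_smul_of_comp_eq_of_isLocalizedModule p.primeCompl ℓ₂ _ _ hE
  refine ⟨(t : R) * ((s₁ : R) * (s₂ : R)), ?_, ((t : R) * (s₂ : R)) • h₁, ((t : R) * (s₁ : R)) • h₂, ?_⟩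
  · exact (t * (s₁ * s₂)).2
  · have ht' : (t : R) • E = (t : R) • (((s₁ : R) * (s₂ : R)) • LinearMap.id) := ht
    rw [smul_smul] at ht'
    rw [← ht']
    ext x
    simp [E, smul_smul, mul_comm]

end Global

end Groth.Agent.R2.H52.PartCon
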