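import Mathlib
import Groth.Agent.R2.H52PartCon
import Groth.Agent.R2.H52MatCx
import Groth.Agent.Lib.Helper1LocalCx
import Groth.Agent.Lib.Helper1Extend
import Groth.Agent.Lib.Helper1PCBiprod
import Groth.Agent.Lib.Helper1PCTower
import Groth.Agent.Lib.Helper1TorG
import Groth.Agent.Lib.Helper1Cone
import Groth.Agent.Lib.Helper1DT2

/-!
# helper52: vanishing of `Hom(K, M[-i])` from a partial contraction in degree `i`, and the
partial contraction of `F_t` spread out from vanishing of `H^i(F ⊗ κ(p))`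
-/

set_option autoImplicit false
set_option linter.style.haveILetI false

universe u

open CategoryTheory CategoryTheory.Limits DerivedCategory

attribute [local instance] HasDerivedCategory.standard

namespace Groth.Agent.R2.H52.AwaySplit

open Groth.Agent.R2.H52.MatCx Groth.Agent.Lib.Helper1.LDer Groth.Agent.Lib.Helper1.Extend
open Groth.Agent.Lib.Helper1.Tor Groth.Agent.Lib.Helper1.LocalCx

section Htpy

variable {B : Type u} [CommRing B] (G : DRing.Cx B) (i : ℤ)

/-- the family of maps defining the null-homotopy of a map to a module placed in degree `i` -/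
noncomputable def hfam (N : ModuleCat.{u} B)
    (ψ : G.X (i + 1) ⟶
      ((HomologicalComplex.single (ModuleCat.{u} B) (ComplexShape.up ℤ) i).obj N).X i) :
    ∀ a b : ℤ, (ComplexShape.up ℤ).Rel b a →
      (G.X a ⟶ ((HomologicalComplex.single (ModuleCat.{u} B) (ComplexShape.up ℤ) i).obj N).X b) :=
  fun a b hab => if hb : b = i then (by
    subst hb
    exact (G.XIsoOfEq (show a = b + 1 from (show b + 1 = a from hab).symm)).hom ≫ ψ)
  else 0

lemma hfam_self (N : ModuleCat.{u} B)
    (ψ : G.X (i + 1) ⟶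
      ((HomologicalComplex.single (ModuleCat.{u} B) (ComplexShape.up ℤ) i).obj N).X i)
    (h : (ComplexShape.up ℤ).Rel i (i + 1)) : hfam G i N ψ (i + 1) i h = ψ := by
  simp [hfam, HomologicalComplex.XIsoOfEq_rfl]

/-- a partial contraction in degree `i` kills all maps to modules placed in degree `i` -/
lemma Q_map_eq_zero (σ : G.X i ⟶ G.X (i - 1)) (ρ : G.X (i + 1) ⟶ G.X i)
    (h : σ ≫ G.d (i - 1) i + G.d i (i + 1) ≫ ρ = 𝟙 (G.X i)) (N : ModuleCat.{u} B)
    (g : G ⟶ (HomologicalComplex.single (ModuleCat.{u} B) (ComplexShape.up ℤ) i).obj N) :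
    Q.map g = 0 := by
  have hg : g = Homotopy.nullHomotopicMap' (hfam G i N (ρ ≫ g.f i)) := by
    apply HomologicalComplex.to_single_hom_ext
    rw [Homotopy.nullHomotopicMap'_f (show (ComplexShape.up ℤ).Rel (i - 1) i by simp)
      (show (ComplexShape.up ℤ).Rel i (i + 1) by simp), HomologicalComplex.single_obj_d,
      comp_zero, add_zero, hfam_self]
    have h1 : G.d (i - 1) i ≫ g.f i = 0 := by
      rw [← g.comm, HomologicalComplex.single_obj_d, comp_zero]
    calc g.f i = 𝟙 _ ≫ g.f i := (Category.id_comp _).symm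
      _ = (σ ≫ G.d (i - 1) i + G.d i (i + 1) ≫ ρ) ≫ g.f i := by rw [h]
      _ = G.d i (i + 1) ≫ ρ ≫ g.f i := by
        rw [Preadditive.add_comp, Category.assoc, h1, comp_zero, zero_add, Category.assoc]
  rw [hg, Groth.Agent.Lib.Helper1.DT.Q_map_eq_of_homotopy
    (Homotopy.nullHomotopy' (hfam G i N (ρ ≫ g.f i))), Functor.map_zero]

/-- a K-projective complex with a partial contraction in degree `i` has no maps to `M[-i]` -/
theorem subsingleton_hom_shift [G.IsKProjective] (σ : G.X i ⟶ G.X (i - 1))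
    (ρ : G.X (i + 1) ⟶ G.X i)
    (h : σ ≫ G.d (i - 1) i + G.d i (i + 1) ≫ ρ = 𝟙 (G.X i)) (X : Dual.D B) (e : X ≅ Q.obj G)
    (M : Type u) [AddCommGroup M] [Module B M] :
    Subsingleton (X ⟶ (shiftFunctor (Dual.D B) (-i)).obj (Dual.inD B M)) := by
  obtain ⟨β, -⟩ : ∃ β : (DerivedCategory.singleFunctor (ModuleCat.{u} B) 0 ⋙
      shiftFunctor (DerivedCategory (ModuleCat.{u} B)) (-i)) ≅
      DerivedCategory.singleFunctor (ModuleCat.{u} B) i,
      β = (DerivedCategory.singleFunctors (ModuleCat.{u} B)).shiftIso (-i) i 0 (by lia) :=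
    ⟨_, rfl⟩
  let γ := (DerivedCategory.singleFunctorIsoCompQ (ModuleCat.{u} B) i).app (ModuleCat.of B M)
  have key : ∀ x : X ⟶ (shiftFunctor (Dual.D B) (-i)).obj (Dual.inD B M), x = 0 := by
    intro x
    obtain ⟨g, hg⟩ := Groth.Agent.Lib.Helper1.Cone.exists_chain_map G _
      (e.inv ≫ x ≫ β.hom.app (ModuleCat.of B M) ≫ γ.hom)
    have h0 : e.inv ≫ x ≫ β.hom.app (ModuleCat.of B M) ≫ γ.hom = 0 := by
      rw [← hg]
      exact Q_map_eq_zero G i σ ρ h _ g
    have h1 : x ≫ β.hom.app (ModuleCat.of B M) ≫ γ.hom = 0 := by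
      have := congrArg (fun y => e.hom ≫ y) h0
      simpa using this
    have h2 : (x ≫ β.hom.app (ModuleCat.of B M) ≫ γ.hom) ≫ γ.inv ≫
        β.inv.app (ModuleCat.of B M) = 0 := by rw [h1, zero_comp]
    simpa using h2
  exact ⟨fun x y => (key x).trans (key y).symm⟩

end Htpy

section Ext

variable {A B : Type u} [CommRing A] [CommRing B] (φ : A →+* B)

lemma map_smul_id (M : ModuleCat.{u} A) (a : A) :
    (Gf φ).map (ModuleCat.ofHom (a • (LinearMap.id : M →ₗ[A] M))) =
      (φ a) • 𝟙 ((Gf φ).obj M) := by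
  apply hom_ext_one
  intro m
  rw [Groth.Agent.R2.H52.MatCx.map_one]
  show one φ M (a • m) = (φ a) • one φ M m
  exact one_smul φ M a m

/-- base change of a scaled partial contraction along a map inverting the scalar -/
theorem exists_contraction_bc (F : DRing.Cx A) (i : ℤ) (t : A) (ht : IsUnit (φ t))
    (σ : F.X i →ₗ[A] F.X (i - 1)) (ρ : F.X (i + 1) →ₗ[A] F.X i)
    (h : (F.d (i - 1) i).hom ∘ₗ σ + ρ ∘ₗ (F.d i (i + 1)).hom = t • LinearMap.id) :
    ∃ (σ' : ((bcCx φ).obj F).X i ⟶ ((bcCx φ).obj F).X (i - 1))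
      (ρ' : ((bcCx φ).obj F).X (i + 1) ⟶ ((bcCx φ).obj F).X i),
      σ' ≫ ((bcCx φ).obj F).d (i - 1) i + ((bcCx φ).obj F).d i (i + 1) ≫ ρ' =
        𝟙 (((bcCx φ).obj F).X i) := by
  obtain ⟨u, hu⟩ := ht
  have h1 : ModuleCat.ofHom σ ≫ F.d (i - 1) i + F.d i (i + 1) ≫ ModuleCat.ofHom ρ =
      ModuleCat.ofHom (t • (LinearMap.id : F.X i →ₗ[A] F.X i)) := by
    apply ModuleCat.hom_ext
    rw [← h]
    rfl
  have h2 := congrArg (fun f => (Gf φ).map f) h1
  simp only [Functor.map_add, Functor.map_comp] at h2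
  rw [map_smul_id, ← hu] at h2
  refine ⟨(↑u⁻¹ : B) • (Gf φ).map (ModuleCat.ofHom σ),
    (↑u⁻¹ : B) • (Gf φ).map (ModuleCat.ofHom ρ), ?_⟩
  show ((↑u⁻¹ : B) • (Gf φ).map (ModuleCat.ofHom σ)) ≫ (Gf φ).map (F.d (i - 1) i) +
    (Gf φ).map (F.d i (i + 1)) ≫ ((↑u⁻¹ : B) • (Gf φ).map (ModuleCat.ofHom ρ)) = 𝟙 _
  rw [Linear.smul_comp, Linear.comp_smul, ← smul_add, h2, smul_smul, Units.inv_mul, one_smul]

end Ext

section Fibre

variable {R : Type u} [CommRing R] (p : Ideal R) [p.IsPrime]
  [DRing.HasLBaseChange (algebraMap R p.ResidueField)]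

/-- vanishing of `H^i(K ⊗^L κ(p))` as exactness of `κ(p) ⊗ F` for a bounded above free
representative `F` of `K` -/
theorem fexact_of_fibre (i : ℤ) (F : DRing.Cx R) (bF : ℤ) (hFb : DRing.VanishesAbove F bF)
    (hFf : DRing.TermwiseFiniteFree F) (X : Dual.D R) (eF : DRing.toD F ≅ X)
    (hi : Subsingleton (Dual.HD p.ResidueField
      ((DRing.LBaseChange (algebraMap R p.ResidueField)).obj X) i)) :
    Function.Exact ((F.d (i - 1) i).hom.lTensor p.ResidueField)
      ((F.d i (i + 1)).hom.lTensor p.ResidueField) := by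
  haveI : F.IsKProjective := isKProjective_of_vanishesAbove F bF hFb (fun j => by
    have := (hFf j).2
    infer_instance)
  let e : DRing.toD ((bcCx (algebraMap R p.ResidueField)).obj F) ≅
      (DRing.LBaseChange (algebraMap R p.ResidueField)).obj X :=
    (lbcIso (algebraMap R p.ResidueField) F).symm ≪≫
      (DRing.LBaseChange (algebraMap R p.ResidueField)).mapIso eF
  have hz : IsZero ((homologyFunctor (ModuleCat.{u} p.ResidueField) i).obj
      ((DRing.LBaseChange (algebraMap R p.ResidueField)).obj X)) :=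
    ModuleCat.isZero_of_subsingleton _
  have hex : ((bcCx (algebraMap R p.ResidueField)).obj F).ExactAt i := by
    rw [exactAt_iff_isZero_H]
    exact hz.of_iso ((homologyFunctor (ModuleCat.{u} p.ResidueField) i).mapIso e)
  rw [exactAt_bc_iff_TC, exactAt_TC_congr
    (Groth.Agent.Lib.Helper1.Restrict.restrictScalarsAlgebraIso (A := R)
      (B := p.ResidueField) p.ResidueField) F i,
    exactAt_TC_iff _ F (i - 1) i (i + 1) (by lia) rfl] at hex
  exact hex

end Fibre

end Groth.Agent.R2.H52.AwaySplit
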