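import Mathlib

/-!
# helper52: finite families of elements in a filtered colimit of commutative rings
-/

set_option autoImplicit false
set_option linter.style.haveILetI false

universe u

open CategoryTheory CategoryTheory.Limits

namespace Groth.Agent.R2.H52.ColimDesc

variable {J : Type u} [SmallCategory J] [IsFiltered J] (F : J ⥤ CommRingCat.{u}) (c : Cocone F)
  (hc : IsColimit c)

include hc

/-- every element of the colimit comes from some stage. -/
theorem exists_rep (x : c.pt) : ∃ (j : J) (y : F.obj j), (c.ι.app j).hom y = x :=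
  Concrete.isColimit_exists_rep F hc x

/-- two elements of a stage with the same image in the colimit become equal at a later stage. -/
theorem exists_eq_of_eq (j : J) (y y' : F.obj j) (h : (c.ι.app j).hom y = (c.ι.app j).hom y') :
    ∃ (k : J) (u : j ⟶ k), (F.map u).hom y = (F.map u).hom y' := by
  obtain ⟨k, f, g, hfg⟩ := Concrete.isColimit_exists_of_rep_eq F hc y y' h
  refine ⟨IsFiltered.coeq f g, f ≫ IsFiltered.coeqHom f g, ?_⟩
  have h1 : (F.map (f ≫ IsFiltered.coeqHom f g)).hom y =
      (F.map (IsFiltered.coeqHom f g)).hom ((F.map f).hom y) := by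
    rw [F.map_comp]; rfl
  have h2 : (F.map (f ≫ IsFiltered.coeqHom f g)).hom y' =
      (F.map (IsFiltered.coeqHom f g)).hom ((F.map g).hom y') := by
    rw [IsFiltered.coeq_condition f g, F.map_comp]; rfl
  rw [h1, h2]
  exact congrArg _ hfg

/-- a finite family of elements of the colimit comes from some stage. -/
theorem exists_rep_family {ι : Type*} [Finite ι] (x : ι → c.pt) :
    ∃ (j : J) (y : ι → F.obj j), ∀ t, (c.ι.app j).hom (y t) = x t := by
  classical
  haveI := Fintype.ofFinite ι
  choose jt yt hyt using fun t => exists_rep F c hc (x t)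
  obtain ⟨j, hj⟩ := IsFiltered.sup_objs_exists (Finset.univ.image jt)
  have hj' : ∀ t, Nonempty (jt t ⟶ j) := fun t =>
    hj (Finset.mem_image_of_mem jt (Finset.mem_univ t))
  let f : ∀ t, jt t ⟶ j := fun t => (hj' t).some
  refine ⟨j, fun t => (F.map (f t)).hom (yt t), fun t => ?_⟩
  rw [← hyt t, ← c.w (f t)]
  rfl

/-- finitely many equalities in the colimit hold at a later stage. -/
theorem exists_eq_family (j : J) {ι : Type*} [Finite ι] (y y' : ι → F.obj j)
    (h : ∀ t, (c.ι.app j).hom (y t) = (c.ι.app j).hom (y' t)) :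
    ∃ (k : J) (u : j ⟶ k), ∀ t, (F.map u).hom (y t) = (F.map u).hom (y' t) := by
  classical
  haveI := Fintype.ofFinite ι
  suffices H : ∀ s : Finset ι, ∃ (k : J) (u : j ⟶ k),
      ∀ t ∈ s, (F.map u).hom (y t) = (F.map u).hom (y' t) by
    obtain ⟨k, u, hu⟩ := H Finset.univ
    exact ⟨k, u, fun t => hu t (Finset.mem_univ t)⟩
  intro s
  induction s using Finset.induction_on with
  | empty => exact ⟨j, 𝟙 j, fun t ht => absurd ht (Finset.notMem_empty t)⟩
  | insert t0 s _ ih =>
    obtain ⟨k, u, hu⟩ := ih
    have h0 : (c.ι.app k).hom ((F.map u).hom (y t0)) = (c.ι.app k).hom ((F.map u).hom (y' t0)) := by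
      have e1 : ∀ z : F.obj j, (c.ι.app k).hom ((F.map u).hom z) = (c.ι.app j).hom z := fun z => by
        rw [← c.w u]; rfl
      rw [e1, e1, h t0]
    obtain ⟨k', v, hv⟩ := exists_eq_of_eq F c hc k _ _ h0
    refine ⟨k', u ≫ v, fun t ht => ?_⟩
    have e2 : ∀ z : F.obj j, (F.map (u ≫ v)).hom z = (F.map v).hom ((F.map u).hom z) := fun z => by
      rw [F.map_comp]; rfl
    rw [e2, e2]
    rcases Finset.mem_insert.1 ht with rfl | ht
    · exact hv
    · rw [hu t ht]

end Groth.Agent.R2.H52.ColimDesc
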