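import Mathlib
import Groth.Agent.R2.H52AcycLift

set_option autoImplicit false
universe u

namespace Groth.Agent.R2.H52.RepLift

open CategoryTheory CategoryTheory.Limits TensorProduct
open scoped ChangeOfRings
open Groth.Agent.R2.H52.AcycLift

section Alg

variable {R : Type u} [CommRing R] (I : Ideal R)

/-- Lemma T: a reduction map identifies the target with the standard tensor product. -/
theorem exists_tensorEquiv_of_red (M : Type u) [AddCommGroup M] [Module R M]
    (N : Type u) [AddCommGroup N] [Module (R ⧸ I) N] (u : M →+ N)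
    (hu1 : ∀ (r : R) (m : M), u (r • m) = (Ideal.Quotient.mk I r) • u m)
    (hu2 : Function.Surjective u) (hu3 : ∀ m, u m = 0 → m ∈ I • (⊤ : Submodule R M)) :
    ∃ ψ : (R ⧸ I) ⊗[R] M ≃ₗ[R ⧸ I] N, ∀ m : M, ψ ((1 : R ⧸ I) ⊗ₜ[R] m) = u m := by
  classical
  -- representatives
  have hrep : ∀ t : (R ⧸ I) ⊗[R] M, ∃ m : M, (1 : R ⧸ I) ⊗ₜ[R] m = t := exists_one_tmul I M
  choose rep hrep' using hrep
  have hwd : ∀ m m' : M, (1 : R ⧸ I) ⊗ₜ[R] m = (1 : R ⧸ I) ⊗ₜ[R] m' → u m = u m' := by
    intro m m' h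
    have h0 : (1 : R ⧸ I) ⊗ₜ[R] (m - m') = 0 := by rw [TensorProduct.tmul_sub, h, sub_self]
    have h1 := mem_smul_of_one_tmul_eq_zero I M _ h0
    have h2 : u (m - m') = 0 := by
      refine Submodule.smul_induction_on h1 ?_ ?_
      · intro a ha n _
        rw [hu1, (Ideal.Quotient.eq_zero_iff_mem).2 ha, zero_smul]
      · intro x y hx hy
        rw [map_add, hx, hy, add_zero]
    rw [map_sub, sub_eq_zero] at h2
    exact h2
  have hkey : ∀ m : M, u (rep ((1 : R ⧸ I) ⊗ₜ[R] m)) = u m := fun m => hwd _ _ (hrep' _)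
  let ψ₀ : (R ⧸ I) ⊗[R] M →ₗ[R ⧸ I] N :=
    { toFun := fun t => u (rep t)
      map_add' := by
        intro s t
        rw [← map_add]
        apply hwd
        rw [hrep', TensorProduct.tmul_add, hrep', hrep']
      map_smul' := by
        intro a t
        obtain ⟨r, rfl⟩ := Ideal.Quotient.mk_surjective a
        rw [RingHom.id_apply, ← hu1]
        apply hwd
        rw [hrep', one_tmul_smul, hrep'] }
  have hψ₀ : ∀ m : M, ψ₀ ((1 : R ⧸ I) ⊗ₜ[R] m) = u m := hkey
  refine ⟨LinearEquiv.ofBijective ψ₀ ⟨?_, ?_⟩, hψ₀⟩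
  · rw [← LinearMap.ker_eq_bot, LinearMap.ker_eq_bot']
    intro t ht
    obtain ⟨m, rfl⟩ := exists_one_tmul I M t
    rw [hψ₀] at ht
    exact one_tmul_eq_zero_of_mem I M m (hu3 m ht)
  · intro n
    obtain ⟨m, rfl⟩ := hu2 n
    exact ⟨_, hψ₀ m⟩

/-- Lemma U: an endomorphism of a module of the class which is the identity modulo `I` is
bijective. -/
theorem bijective_of_congr_id (Pc : ObjectProperty (ModuleCat.{u} R)) [Pc.IsClosedUnderIsomorphisms]
    (h1 : ∀ X : ModuleCat.{u} R, Pc X → Module.Projective R X)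
    (h2 : ∀ X Y : ModuleCat.{u} R, Pc X → Pc (ModuleCat.of R (X × Y)) → Pc Y)
    (h3 : ∀ (X Y : ModuleCat.{u} R) (f : X ⟶ Y), Pc X → Pc Y →
      LinearMap.range f.hom ⊔ I • (⊤ : Submodule R Y) = ⊤ → Function.Surjective f.hom)
    (M : ModuleCat.{u} R) (hM : Pc M) (t : M →ₗ[R] M)
    (ht : ∀ x : M, t x - x ∈ I • (⊤ : Submodule R M)) : Function.Bijective t := by
  haveI := h1 M hM
  have hsurj : Function.Surjective t := by
    refine h3 M M (ModuleCat.ofHom t) hM hM ?_
    rw [eq_top_iff]
    intro x _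
    have : x = t x + (-(t x - x)) := by abel
    rw [this]
    exact Submodule.add_mem_sup (LinearMap.mem_range_self t x) (Submodule.neg_mem _ (ht x))
  refine ⟨?_, hsurj⟩
  obtain ⟨s, hs⟩ := Module.projective_lifting_property t LinearMap.id hsurj
  have hs' : ∀ q, t (s q) = q := fun q => LinearMap.congr_fun hs q
  -- retraction onto the kernel
  let ρ : M →ₗ[R] LinearMap.ker t :=
    LinearMap.codRestrict (LinearMap.ker t) (LinearMap.id - s ∘ₗ t) (by
      intro x
      simp [LinearMap.mem_ker, hs'])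
  have hρ : ∀ x : M, ((ρ x : LinearMap.ker t) : M) = x - s (t x) := fun x => rfl
  have e1 : M ≃ₗ[R] M × LinearMap.ker t :=
    { toFun := fun x => (t x, ρ x)
      map_add' := fun x y => by simp
      map_smul' := fun r x => by simp
      invFun := fun p => s p.1 + (p.2 : M)
      left_inv := fun x => by simp [hρ]
      right_inv := fun p => by
        obtain ⟨q, k⟩ := p
        have hk : t (k : M) = 0 := k.2
        ext
        · simp [hs', hk]
        · simp [hρ, hs', hk] }
  have hK : Pc (ModuleCat.of R (LinearMap.ker t)) := by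
    apply h2 M _ hM
    exact Pc.prop_of_iso (e1.toModuleIso) hM
  -- the kernel equals I times itself
  have htop : I • (⊤ : Submodule R (LinearMap.ker t)) = ⊤ := by
    rw [eq_top_iff]
    intro k _
    have hk : t (k : M) = 0 := k.2
    have h4 : (k : M) ∈ I • (⊤ : Submodule R M) := by
      have := ht (k : M)
      rw [hk, zero_sub] at this
      simpa using Submodule.neg_mem _ this
    have h5 : Submodule.map ρ (I • (⊤ : Submodule R M)) ≤ I • (⊤ : Submodule R (LinearMap.ker t)) := by
      rw [Submodule.map_smul'']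
      exact Submodule.smul_mono (le_refl _) le_top
    have h6 : ρ (k : M) = k := by
      apply Subtype.ext
      rw [hρ, hk, map_zero, sub_zero]
    rw [← h6]
    exact h5 (Submodule.mem_map_of_mem h4)
  have hs0 := h3 (ModuleCat.of R (LinearMap.ker t)) (ModuleCat.of R (LinearMap.ker t)) 0 hK hK (by
    rw [htop]; exact sup_top_eq _)
  rw [← LinearMap.ker_eq_bot, LinearMap.ker_eq_bot']
  intro x hx
  obtain ⟨y, hy⟩ := hs0 ⟨x, hx⟩
  have : (⟨x, hx⟩ : LinearMap.ker t) = 0 := by rw [← hy]; rfl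
  exact congrArg Subtype.val this

end Alg

end Groth.Agent.R2.H52.RepLift
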