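import Mathlib
import Groth.Agent.R2.H52RepLift
import Groth.Agent.R2.H52LiftQis

/-!
# helper52: S7013, part 2: reduction maps for `extendScalars`, the explicit cone and its lifts
-/

set_option autoImplicit false
universe u

namespace Groth.Agent.R2.H52.RepLift

open CategoryTheory CategoryTheory.Limits TensorProduct
open scoped ChangeOfRings
open Groth.Agent.R2.H52.AcycLift Groth.Agent.R2.H52.LiftQis

section Red

variable {R : Type u} [CommRing R] (I : Ideal R)

/-- termwise reduction of modules -/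
noncomputable abbrev G := ModuleCat.extendScalars.{u, u, u} (Ideal.Quotient.mk I)

/-- termwise reduction of complexes -/
noncomputable abbrev B := (G I).mapHomologicalComplex (ComplexShape.up ℤ)

/-- the reduction map `M → M/IM`, with values in `(extendScalars f).obj M` -/
noncomputable def red (M : ModuleCat.{u} R) (m : M) : (G I).obj M :=
  (1 : R ⧸ I) ⊗ₜ[R, Ideal.Quotient.mk I] m

theorem red_eq_unit (M : ModuleCat.{u} R) (m : M) :
    red I M m = ((ModuleCat.extendRestrictScalarsAdj.{u,u,u} (Ideal.Quotient.mk I)).unit.app M).hom m :=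
  rfl

theorem red_add (M : ModuleCat.{u} R) (m m' : M) : red I M (m + m') = red I M m + red I M m' := by
  rw [red_eq_unit, map_add]
  rfl

theorem red_zero (M : ModuleCat.{u} R) : red I M 0 = 0 := by
  rw [red_eq_unit, map_zero]
  rfl

theorem red_sub (M : ModuleCat.{u} R) (m m' : M) : red I M (m - m') = red I M m - red I M m' := by
  rw [red_eq_unit, map_sub]
  rfl

theorem red_smul (M : ModuleCat.{u} R) (r : R) (m : M) :
    red I M (r • m) = (Ideal.Quotient.mk I r) • red I M m := by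
  rw [red_eq_unit, map_smul, ModuleCat.restrictScalars.smul_def]
  rfl

theorem red_surjective (M : ModuleCat.{u} R) : Function.Surjective (red I M) := by
  intro z
  obtain ⟨m, hm⟩ := one_tmul_surj' (Ideal.Quotient.mk I) Ideal.Quotient.mk_surjective M z
  exact ⟨m, hm⟩

theorem red_map {M M' : ModuleCat.{u} R} (φ : M ⟶ M') (m : M) :
    ((G I).map φ).hom (red I M m) = red I M' (φ.hom m) := rfl

theorem red_eq_zero_of_mem (M : ModuleCat.{u} R) (m : M) (hm : m ∈ I • (⊤ : Submodule R M)) :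
    red I M m = 0 := by
  rw [red_eq_unit]
  apply unit_eq_zero_of_mem
  rw [Ideal.mk_ker]
  exact hm

theorem mem_of_red_eq_zero (M : ModuleCat.{u} R) (m : M) (hm : red I M m = 0) :
    m ∈ I • (⊤ : Submodule R M) := by
  obtain ⟨e, he⟩ := exists_iso_of_red_gen (Ideal.Quotient.mk I) Ideal.Quotient.mk_surjective M
    (ModuleCat.of (R ⧸ I) (M ⧸ I • (⊤ : Submodule R M)))
    ((I • (⊤ : Submodule R M)).mkQ.toAddMonoidHom)
    (fun r m => rfl) (Submodule.mkQ_surjective _)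
    (fun m hm => by
      rw [Ideal.mk_ker]
      exact (Submodule.Quotient.mk_eq_zero _).1 hm)
  have h1 := he m
  have h2 : e.hom.hom ((1 : R ⧸ I) ⊗ₜ[R, Ideal.Quotient.mk I] m) = 0 := by
    have : ((1 : R ⧸ I) ⊗ₜ[R, Ideal.Quotient.mk I] m : (G I).obj M) = 0 := hm
    exact (congrArg (fun z => e.hom.hom z) this).trans (map_zero e.hom.hom)
  rw [h2] at h1
  exact (Submodule.Quotient.mk_eq_zero _).1 h1.symm

theorem hom_ext_red {M : ModuleCat.{u} R} {N : ModuleCat.{u} (R ⧸ I)}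
    {α β : (G I).obj M ⟶ N} (h : ∀ m : M, α.hom (red I M m) = β.hom (red I M m)) : α = β :=
  ModuleCat.ExtendScalars.hom_ext h

end Red

section Cone

variable {R : Type u} [CommRing R] (I : Ideal R) (Pc : ObjectProperty (ModuleCat.{u} R))

/-- all the data of the situation of S7013, after representing the isomorphism in the derived
category by a quasi-isomorphism of complexes -/
structure Setup where
  h1 : ∀ X : ModuleCat.{u} R, Pc X → Module.Projective R X
  h2 : ∀ X Y : ModuleCat.{u} R, Pc X → (Pc (ModuleCat.of R (X × Y)) ↔ Pc Y)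
  h3 : ∀ (X Y : ModuleCat.{u} R) (f : X ⟶ Y), Pc X → Pc Y →
      LinearMap.range f.hom ⊔ I • (⊤ : Submodule R Y) = ⊤ → Function.Surjective f.hom
  Qc : CochainComplex (ModuleCat.{u} R) ℤ
  c : ℤ
  hQc : ∀ i : ℤ, c < i → IsZero (Qc.X i)
  hQ : ∀ i : ℤ, Pc (Qc.X i)
  E : CochainComplex (ModuleCat.{u} (R ⧸ I)) ℤ
  b : ℤ
  hEb : ∀ i : ℤ, b < i → IsZero (E.X i)
  X : ℤ → ModuleCat.{u} R
  hX : ∀ i, Pc (X i)
  ψ : ∀ i, (R ⧸ I) ⊗[R] (X i) ≃ₗ[R ⧸ I] E.X i
  α : E ⟶ (B I).obj Qc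
  hα : QuasiIso α

variable {I Pc} (T : Setup I Pc)

/-- the reduction of `Qc` -/
noncomputable abbrev Setup.F : CochainComplex (ModuleCat.{u} (R ⧸ I)) ℤ := (B I).obj T.Qc

theorem Setup.F_d_red (i j : ℤ) (x : T.Qc.X i) :
    (T.F.d i j).hom (red I _ x) = red I _ ((T.Qc.d i j).hom x) := rfl

theorem Setup.α_comm_apply (i j : ℤ) (e : T.E.X i) :
    (T.α.f j).hom ((T.E.d i j).hom e) = (T.F.d i j).hom ((T.α.f i).hom e) := by
  have h := congrArg (fun φ => φ.hom e) (T.α.comm i j)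
  exact h.symm

theorem Setup.E_d_d (i j k : ℤ) (e : T.E.X i) : (T.E.d j k).hom ((T.E.d i j).hom e) = 0 := by
  show ((T.E.d i j ≫ T.E.d j k).hom) e = 0
  rw [T.E.d_comp_d]
  rfl

theorem Setup.F_d_d (i j k : ℤ) (y : T.F.X i) : (T.F.d j k).hom ((T.F.d i j).hom y) = 0 := by
  show ((T.F.d i j ≫ T.F.d j k).hom) y = 0
  rw [T.F.d_comp_d]
  rfl

/-- the terms of the cone of `α` -/
noncomputable def Setup.CX (n : ℤ) : ModuleCat.{u} (R ⧸ I) :=
  ModuleCat.of (R ⧸ I) (T.E.X (n + 1) × T.F.X n)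

/-- the differential of the cone of `α` -/
noncomputable def Setup.Cd (n : ℤ) : T.CX n ⟶ T.CX (n + 1) :=
  ModuleCat.ofHom
    (LinearMap.prod
      ((-(T.E.d (n + 1) (n + 1 + 1)).hom) ∘ₗ (LinearMap.fst (R ⧸ I) (T.E.X (n + 1)) (T.F.X n)))
      ((T.α.f (n + 1)).hom ∘ₗ (LinearMap.fst (R ⧸ I) (T.E.X (n + 1)) (T.F.X n)) +
          (T.F.d n (n + 1)).hom ∘ₗ (LinearMap.snd (R ⧸ I) (T.E.X (n + 1)) (T.F.X n))))

theorem Setup.Cd_apply (n : ℤ) (e : T.E.X (n + 1)) (y : T.F.X n) :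
    (T.Cd n).hom ((e, y) : T.E.X (n + 1) × T.F.X n) =
      ((-(T.E.d (n + 1) (n + 1 + 1)).hom e, (T.α.f (n + 1)).hom e + (T.F.d n (n + 1)).hom y) :
        T.E.X (n + 1 + 1) × T.F.X (n + 1)) := rfl

/-- the cone of `α` -/
noncomputable def Setup.C : CochainComplex (ModuleCat.{u} (R ⧸ I)) ℤ :=
  CochainComplex.of T.CX T.Cd (by
    intro n
    ext x
    obtain ⟨e, y⟩ := x
    show (T.Cd (n + 1)).hom ((T.Cd n).hom ((e, y) : T.E.X (n + 1) × T.F.X n)) = 0
    rw [Setup.Cd_apply, Setup.Cd_apply]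
    refine Prod.ext ?_ ?_
    · show -(T.E.d (n + 1 + 1) (n + 1 + 1 + 1)).hom (-(T.E.d (n + 1) (n + 1 + 1)).hom e) = 0
      rw [map_neg, T.E_d_d, neg_zero, neg_zero]
    · show (T.α.f (n + 1 + 1)).hom (-(T.E.d (n + 1) (n + 1 + 1)).hom e) +
        (T.F.d (n + 1) (n + 1 + 1)).hom ((T.α.f (n + 1)).hom e + (T.F.d n (n + 1)).hom y) = 0
      rw [map_neg, map_add, T.F_d_d, T.α_comm_apply, add_zero, neg_add_cancel])

theorem Setup.C_d (n : ℤ) : T.C.d n (n + 1) = T.Cd n := CochainComplex.of_d _ _ n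

theorem Setup.C_acyclic : T.C.Acyclic := by
  haveI := T.hα
  obtain ⟨hinj, hsurj⟩ := elementwise_of_quasiIso T.α
  intro m
  obtain ⟨n, rfl⟩ : ∃ n, m = n + 1 := ⟨m - 1, by omega⟩
  rw [HomologicalComplex.exactAt_iff' _ n (n + 1) (n + 1 + 1) (by simp) (by simp),
    ShortComplex.moduleCat_exact_iff]
  intro c hc
  change (T.C.d (n + 1) (n + 1 + 1)).hom c = 0 at hc
  rw [Setup.C_d] at hc
  change T.E.X (n + 1 + 1) × T.F.X (n + 1) at c
  obtain ⟨e, y⟩ := c
  have hc' : ((-(T.E.d (n + 1 + 1) (n + 1 + 1 + 1)).hom e,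
      (T.α.f (n + 1 + 1)).hom e + (T.F.d (n + 1) (n + 1 + 1)).hom y) :
        T.E.X (n + 1 + 1 + 1) × T.F.X (n + 1 + 1)) = 0 := by
    rw [← Setup.Cd_apply]; exact hc
  have hc1 : (T.E.d (n + 1 + 1) (n + 1 + 1 + 1)).hom e = 0 := by
    have := congrArg Prod.fst hc'
    simpa using this
  have hc2 : (T.α.f (n + 1 + 1)).hom e + (T.F.d (n + 1) (n + 1 + 1)).hom y = 0 :=
    congrArg Prod.snd hc'
  -- `e` is a boundary
  obtain ⟨e', he'⟩ := hinj (n + 1) e hc1 ⟨-y, by
    rw [map_neg]; exact neg_eq_of_add_eq_zero_left hc2⟩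
  -- `y + α e'` is a cycle
  have hcyc : (T.F.d (n + 1) (n + 1 + 1)).hom (y + (T.α.f (n + 1)).hom e') = 0 := by
    rw [map_add, ← T.α_comm_apply (n + 1) (n + 1 + 1) e', he']
    exact (add_comm _ _).trans hc2
  obtain ⟨x, hx, y', hy'⟩ := hsurj n (y + (T.α.f (n + 1)).hom e') hcyc
  refine ⟨((x - e', y') : T.E.X (n + 1) × T.F.X n), ?_⟩
  change (T.C.d n (n + 1)).hom _ = _
  rw [Setup.C_d]
  refine (T.Cd_apply n (x - e') y').trans ?_
  refine Prod.ext ?_ ?_
  · show -(T.E.d (n + 1) (n + 1 + 1)).hom (x - e') = e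
    rw [map_sub, hx, he', zero_sub, neg_neg]
  · show (T.α.f (n + 1)).hom (x - e') + (T.F.d n (n + 1)).hom y' = y
    rw [hy', map_sub]
    abel

theorem Setup.C_vanishes (i : ℤ) (hi : max T.b T.c < i) : IsZero (T.C.X i) := by
  haveI : Subsingleton (T.E.X (i + 1)) :=
    ModuleCat.subsingleton_of_isZero (T.hEb _ (by have := le_max_left T.b T.c; omega))
  haveI : Subsingleton (T.F.X i) :=
    ModuleCat.subsingleton_of_isZero
      ((G I).map_isZero (T.hQc _ (by have := le_max_right T.b T.c; omega)))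
  have : Subsingleton (T.E.X (i + 1) × T.F.X i) := inferInstance
  have h2 : Subsingleton (T.CX i) := this
  exact ModuleCat.isZero_of_subsingleton (T.CX i)

end Cone

end Groth.Agent.R2.H52.RepLift
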