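import Mathlib
import Groth.Agent.R2.H52RepLift2

/-!
# helper52: S6970, the explicit cone without boundedness hypotheses (copy of part of `H52RepLift2`)
-/

set_option autoImplicit false
universe u

namespace Groth.Agent.R2.H52.RepLiftG

open CategoryTheory CategoryTheory.Limits TensorProduct
open scoped ChangeOfRings
open Groth.Agent.R2.H52.AcycLift Groth.Agent.R2.H52.LiftQis Groth.Agent.R2.H52.RepLift

section Cone

variable {R : Type u} [CommRing R] (I : Ideal R)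

/-- a morphism from a complex over `R/I` to the reduction of a complex over `R` -/
structure CSetup where
  Qc : CochainComplex (ModuleCat.{u} R) ℤ
  E : CochainComplex (ModuleCat.{u} (R ⧸ I)) ℤ
  α : E ⟶ (B I).obj Qc

variable {I} (T : CSetup I)

/-- the reduction of `Qc` -/
noncomputable abbrev CSetup.F : CochainComplex (ModuleCat.{u} (R ⧸ I)) ℤ := (B I).obj T.Qc

theorem CSetup.F_d_red (i j : ℤ) (x : T.Qc.X i) :
    (T.F.d i j).hom (red I _ x) = red I _ ((T.Qc.d i j).hom x) := rfl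

theorem CSetup.α_comm_apply (i j : ℤ) (e : T.E.X i) :
    (T.α.f j).hom ((T.E.d i j).hom e) = (T.F.d i j).hom ((T.α.f i).hom e) := by
  have h := congrArg (fun φ => φ.hom e) (T.α.comm i j)
  exact h.symm

theorem CSetup.E_d_d (i j k : ℤ) (e : T.E.X i) : (T.E.d j k).hom ((T.E.d i j).hom e) = 0 := by
  show ((T.E.d i j ≫ T.E.d j k).hom) e = 0
  rw [T.E.d_comp_d]
  rfl

theorem CSetup.F_d_d (i j k : ℤ) (y : T.F.X i) : (T.F.d j k).hom ((T.F.d i j).hom y) = 0 := by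
  show ((T.F.d i j ≫ T.F.d j k).hom) y = 0
  rw [T.F.d_comp_d]
  rfl

/-- the terms of the cone of `α` -/
noncomputable def CSetup.CX (n : ℤ) : ModuleCat.{u} (R ⧸ I) :=
  ModuleCat.of (R ⧸ I) (T.E.X (n + 1) × T.F.X n)

/-- the differential of the cone of `α` -/
noncomputable def CSetup.Cd (n : ℤ) : T.CX n ⟶ T.CX (n + 1) :=
  ModuleCat.ofHom
    (LinearMap.prod
      ((-(T.E.d (n + 1) (n + 1 + 1)).hom) ∘ₗ (LinearMap.fst (R ⧸ I) (T.E.X (n + 1)) (T.F.X n)))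
      ((T.α.f (n + 1)).hom ∘ₗ (LinearMap.fst (R ⧸ I) (T.E.X (n + 1)) (T.F.X n)) +
          (T.F.d n (n + 1)).hom ∘ₗ (LinearMap.snd (R ⧸ I) (T.E.X (n + 1)) (T.F.X n))))

theorem CSetup.Cd_apply (n : ℤ) (e : T.E.X (n + 1)) (y : T.F.X n) :
    (T.Cd n).hom ((e, y) : T.E.X (n + 1) × T.F.X n) =
      ((-(T.E.d (n + 1) (n + 1 + 1)).hom e, (T.α.f (n + 1)).hom e + (T.F.d n (n + 1)).hom y) :
        T.E.X (n + 1 + 1) × T.F.X (n + 1)) := rfl

/-- the cone of `α` -/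
noncomputable def CSetup.C : CochainComplex (ModuleCat.{u} (R ⧸ I)) ℤ :=
  CochainComplex.of T.CX T.Cd (by
    intro n
    ext x
    obtain ⟨e, y⟩ := x
    show (T.Cd (n + 1)).hom ((T.Cd n).hom ((e, y) : T.E.X (n + 1) × T.F.X n)) = 0
    rw [CSetup.Cd_apply, CSetup.Cd_apply]
    refine Prod.ext ?_ ?_
    · show -(T.E.d (n + 1 + 1) (n + 1 + 1 + 1)).hom (-(T.E.d (n + 1) (n + 1 + 1)).hom e) = 0
      rw [map_neg, T.E_d_d, neg_zero, neg_zero]
    · show (T.α.f (n + 1 + 1)).hom (-(T.E.d (n + 1) (n + 1 + 1)).hom e) +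
        (T.F.d (n + 1) (n + 1 + 1)).hom ((T.α.f (n + 1)).hom e + (T.F.d n (n + 1)).hom y) = 0
      rw [map_neg, map_add, T.F_d_d, T.α_comm_apply, add_zero, neg_add_cancel])

theorem CSetup.C_d (n : ℤ) : T.C.d n (n + 1) = T.Cd n := CochainComplex.of_d _ _ n

theorem CSetup.C_acyclic (hα : QuasiIso T.α) : T.C.Acyclic := by
  haveI := hα
  obtain ⟨hinj, hsurj⟩ := elementwise_of_quasiIso T.α
  intro m
  obtain ⟨n, rfl⟩ : ∃ n, m = n + 1 := ⟨m - 1, by omega⟩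
  rw [HomologicalComplex.exactAt_iff' _ n (n + 1) (n + 1 + 1) (by simp) (by simp),
    ShortComplex.moduleCat_exact_iff]
  intro c hc
  change (T.C.d (n + 1) (n + 1 + 1)).hom c = 0 at hc
  rw [CSetup.C_d] at hc
  change T.E.X (n + 1 + 1) × T.F.X (n + 1) at c
  obtain ⟨e, y⟩ := c
  have hc' : ((-(T.E.d (n + 1 + 1) (n + 1 + 1 + 1)).hom e,
      (T.α.f (n + 1 + 1)).hom e + (T.F.d (n + 1) (n + 1 + 1)).hom y) :
        T.E.X (n + 1 + 1 + 1) × T.F.X (n + 1 + 1)) = 0 := by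
    rw [← CSetup.Cd_apply]; exact hc
  have hc1 : (T.E.d (n + 1 + 1) (n + 1 + 1 + 1)).hom e = 0 := by
    have := congrArg Prod.fst hc'
    simpa using this
  have hc2 : (T.α.f (n + 1 + 1)).hom e + (T.F.d (n + 1) (n + 1 + 1)).hom y = 0 :=
    congrArg Prod.snd hc'
  -- `e` is a boundary
  obtain ⟨e', he'⟩ := hinj (n + 1) e hc1 ⟨-y, by
    rw [map_neg]; exact neg_eq_of_add_eq_zero_left hc2⟩
  -- `y + α e'` is a cycle
  have hcyc : (T.F.d (n + 1) (n + 1 + 1)).hom (y + (T.α.f (n + 1)).hom e') = 0 := by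
    rw [map_add, ← T.α_comm_apply (n + 1) (n + 1 + 1) e', he']
    exact (add_comm _ _).trans hc2
  obtain ⟨x, hx, y', hy'⟩ := hsurj n (y + (T.α.f (n + 1)).hom e') hcyc
  refine ⟨((x - e', y') : T.E.X (n + 1) × T.F.X n), ?_⟩
  change (T.C.d n (n + 1)).hom _ = _
  rw [CSetup.C_d]
  refine (T.Cd_apply n (x - e') y').trans ?_
  refine Prod.ext ?_ ?_
  · show -(T.E.d (n + 1) (n + 1 + 1)).hom (x - e') = e
    rw [map_sub, hx, he', zero_sub, neg_neg]
  · show (T.α.f (n + 1)).hom (x - e') + (T.F.d n (n + 1)).hom y' = y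
    rw [hy', map_sub]
    abel

end Cone

end Groth.Agent.R2.H52.RepLiftG
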