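import Mathlib
import Groth.Agent.R2.H52RepLiftG2

/-!
# helper52: the explicit cone of a map between K-projective complexes is K-projective
-/

set_option autoImplicit false
universe u

namespace Groth.Agent.R2.H52.RepLiftG

open CategoryTheory CategoryTheory.Limits TensorProduct Pretriangulated
open scoped ChangeOfRings
open Groth.Agent.R2.H52.AcycLift Groth.Agent.R2.H52.LiftQis Groth.Agent.R2.H52.RepLift

section ConeKProj

variable {R : Type u} [CommRing R] {I : Ideal R} (T : CSetup I)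

/-- the inclusion of the reduction of `Qc` in the cone -/
noncomputable def CSetup.ιC : T.F ⟶ T.C where
  f n := ModuleCat.ofHom (X := T.F.X n) (Y := ModuleCat.of (R ⧸ I) (T.E.X (n + 1) × T.F.X n))
    (LinearMap.inr (R ⧸ I) (T.E.X (n + 1)) (T.F.X n))
  comm' i j hij := by
    have hij' : i + 1 = j := hij
    subst hij'
    rw [CSetup.C_d]
    ext y
    show (T.Cd i).hom ((0, y) : T.E.X (i + 1) × T.F.X i) =
      ((0, (T.F.d i (i + 1)).hom y) : T.E.X (i + 1 + 1) × T.F.X (i + 1))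
    rw [CSetup.Cd_apply]
    refine Prod.ext ?_ ?_
    · show -(T.E.d (i + 1) (i + 1 + 1)).hom 0 = 0
      rw [map_zero, neg_zero]
    · show (T.α.f (i + 1)).hom 0 + (T.F.d i (i + 1)).hom y = (T.F.d i (i + 1)).hom y
      rw [map_zero, zero_add]

/-- the projection of the cone onto `E⟦1⟧` -/
noncomputable def CSetup.pE : T.C ⟶ T.E⟦(1 : ℤ)⟧ where
  f n := ModuleCat.ofHom (X := ModuleCat.of (R ⧸ I) (T.E.X (n + 1) × T.F.X n)) (Y := T.E.X (n + 1))
    (LinearMap.fst (R ⧸ I) (T.E.X (n + 1)) (T.F.X n))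
  comm' i j hij := by
    have hij' : i + 1 = j := hij
    subst hij'
    rw [CSetup.C_d, CochainComplex.shiftFunctor_obj_d']
    ext c
    change T.E.X (i + 1) × T.F.X i at c
    obtain ⟨e, y⟩ := c
    simp
    rfl

theorem CSetup.ιC_pE : T.ιC ≫ T.pE = 0 := by
  ext n y
  rfl

/-- the short complex `F ⟶ C ⟶ E⟦1⟧` -/
noncomputable def CSetup.SC : ShortComplex (CochainComplex (ModuleCat.{u} (R ⧸ I)) ℤ) :=
  ShortComplex.mk T.ιC T.pE T.ιC_pE

/-- its splittings -/
noncomputable def CSetup.σC (n : ℤ) :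
    (T.SC.map (HomologicalComplex.eval (ModuleCat.{u} (R ⧸ I)) (ComplexShape.up ℤ) n)).Splitting where
  r := ModuleCat.ofHom (X := ModuleCat.of (R ⧸ I) (T.E.X (n + 1) × T.F.X n)) (Y := T.F.X n)
    (LinearMap.snd (R ⧸ I) (T.E.X (n + 1)) (T.F.X n))
  s := ModuleCat.ofHom (X := T.E.X (n + 1)) (Y := ModuleCat.of (R ⧸ I) (T.E.X (n + 1) × T.F.X n))
    (LinearMap.inl (R ⧸ I) (T.E.X (n + 1)) (T.F.X n))
  f_r := by
    ext y
    rfl
  s_g := by
    ext e
    rfl
  id := by
    ext c
    change T.E.X (n + 1) × T.F.X n at c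
    obtain ⟨e, y⟩ := c
    show ((0, y) : T.E.X (n + 1) × T.F.X n) + ((e, 0) : T.E.X (n + 1) × T.F.X n) = (e, y)
    refine Prod.ext ?_ ?_
    · show 0 + e = e
      rw [zero_add]
    · show y + 0 = y
      rw [add_zero]

theorem CSetup.distC : CochainComplex.trianglehOfDegreewiseSplit T.SC T.σC ∈
    distTriang (HomotopyCategory (ModuleCat.{u} (R ⧸ I)) (ComplexShape.up ℤ)) :=
  (HomotopyCategory.distinguished_iff_iso_trianglehOfDegreewiseSplit _).2
    ⟨T.SC, T.σC, ⟨Iso.refl _⟩⟩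

theorem CSetup.C_isKProjective [T.E.IsKProjective] [CochainComplex.IsKProjective T.F] :
    CochainComplex.IsKProjective T.C := by
  rw [CochainComplex.isKProjective_iff_leftOrthogonal]
  have h1 : (HomotopyCategory.subcategoryAcyclic (ModuleCat.{u} (R ⧸ I))).leftOrthogonal
      ((HomotopyCategory.quotient _ _).obj T.F) :=
    CochainComplex.IsKProjective.leftOrthogonal T.F
  have h3 : (HomotopyCategory.subcategoryAcyclic (ModuleCat.{u} (R ⧸ I))).leftOrthogonal
      ((HomotopyCategory.quotient _ _).obj (T.E⟦(1 : ℤ)⟧)) :=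
    CochainComplex.IsKProjective.leftOrthogonal (T.E⟦(1 : ℤ)⟧)
  exact (HomotopyCategory.subcategoryAcyclic (ModuleCat.{u} (R ⧸ I))).leftOrthogonal.ext_of_isTriangulatedClosed₂
    _ T.distC h1 h3

/-- the contraction of the cone -/
noncomputable def CSetup.hCone [T.E.IsKProjective] [CochainComplex.IsKProjective T.F]
    (hα : QuasiIso T.α) : Homotopy (𝟙 T.C) 0 :=
  haveI := T.C_isKProjective
  CochainComplex.IsKProjective.homotopyZero (𝟙 T.C) (T.C_acyclic hα)

end ConeKProj

end Groth.Agent.R2.H52.RepLiftG
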