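import Mathlib
import Groth.Agent.R2.H52AcycLift

/-!
# helper52: the cycles of a contractible complex of projective modules are projective
-/

set_option autoImplicit false
universe u

namespace Groth.Agent.R2.H52.ContrCyc

open CategoryTheory CategoryTheory.Limits
open Groth.Agent.R2.H52.AcycLift

variable {R : Type u} [CommRing R] (I : Ideal R)
  (E : CochainComplex (ModuleCat.{u} (R ⧸ I)) ℤ)

theorem projective_Z_succ (h : Homotopy (𝟙 E) 0) (hp : ∀ n, Module.Projective (R ⧸ I) (E.X n))
    (m : ℤ) : Module.Projective (R ⧸ I) (Z I E (m + 1)) := by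
  haveI := hp m
  let i : Z I E (m + 1) →ₗ[R ⧸ I] E.X m := (h.hom (m + 1) m).hom ∘ₗ (Z I E (m + 1)).subtype
  refine Module.Projective.of_split i (dcod I E m) ?_
  apply LinearMap.ext
  intro z
  apply Subtype.ext
  show (E.d m (m + 1)).hom ((h.hom (m + 1) m).hom (z : E.X (m + 1))) = (z : E.X (m + 1))
  have hz : (E.d (m + 1) (m + 1 + 1)).hom (z : E.X (m + 1)) = 0 := z.2
  have hs := h.comm (m + 1)
  rw [dNext_eq _ (show (ComplexShape.up ℤ).Rel (m + 1) (m + 1 + 1) from rfl),
    prevD_eq _ (show (ComplexShape.up ℤ).Rel m (m + 1) from rfl)] at hs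
  have hx := congrArg (fun ψ => ψ.hom (z : E.X (m + 1))) hs
  simp only [ModuleCat.hom_add, ModuleCat.hom_comp, LinearMap.add_apply, LinearMap.comp_apply,
    HomologicalComplex.zero_f, add_zero, HomologicalComplex.id_f, ModuleCat.hom_id,
    LinearMap.id_coe, id_eq] at hx
  rw [hz, map_zero, zero_add] at hx
  exact hx.symm

theorem projective_Z (h : Homotopy (𝟙 E) 0) (hp : ∀ n, Module.Projective (R ⧸ I) (E.X n))
    (j : ℤ) : Module.Projective (R ⧸ I) (Z I E j) := by
  obtain ⟨m, rfl⟩ : ∃ m, j = m + 1 := ⟨j - 1, by omega⟩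
  exact projective_Z_succ I E h hp m

end Groth.Agent.R2.H52.ContrCyc
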