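import Mathlib
import Groth.Agent.Lib.Helper5RLR
import Groth.Agent.Lib.Helper28Serre

/-!
# helper52: cotangent spaces along a flat local homomorphism with regular closed fibre (S11564)
-/

set_option autoImplicit false
universe u

namespace Groth.Agent.R2.H52.CotFlat

open IsLocalRing Module Groth.Agent.Lib.Helper5 Groth.Agent.Lib.Helper28 Pointwise

section Key

variable {A : Type u} [CommRing A] [IsLocalRing A]

theorem residue_smul_toCotangent (r : A) (z : maximalIdeal A) :
    residue A r • (maximalIdeal A).toCotangent z = (maximalIdeal A).toCotangent (r • z) := by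
  rw [map_smul]
  rfl

/-- minimal generators: if the classes of `a i` in `m/m²` are linearly independent, then a relation
`∑ lam i * a i = 0` forces all `lam i ∈ m`. -/
theorem mem_maximalIdeal_of_sum_mul_eq_zero {e : ℕ} (a : Fin e → maximalIdeal A)
    (hli : LinearIndependent (ResidueField A) (fun i => (maximalIdeal A).toCotangent (a i)))
    (lam : Fin e → A) (h : ∑ i, lam i * (a i : A) = 0) : ∀ i, lam i ∈ maximalIdeal A := by
  have h0 : ∑ i, lam i • a i = 0 := by
    apply Subtype.ext
    rw [Submodule.coe_sum]
    simpa using h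
  have h1 : ∑ i, residue A (lam i) • (maximalIdeal A).toCotangent (a i) = 0 := by
    simp_rw [residue_smul_toCotangent]
    rw [← map_sum, h0, map_zero]
  have h2 := Fintype.linearIndependent_iff.mp hli _ h1
  intro i
  have := h2 i
  rwa [residue_eq_zero_iff] at this

variable {B : Type u} [CommRing B] [Algebra A B] [Module.Flat A B]

/-- flatness: a relation `∑ a i • y i = 0` in a flat algebra, with `a i` minimal generators of `m`,
forces `y i ∈ m B`. -/
theorem mem_map_of_sum_eq_zero {e : ℕ} (a : Fin e → maximalIdeal A)
    (hli : LinearIndependent (ResidueField A) (fun i => (maximalIdeal A).toCotangent (a i)))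
    (y : Fin e → B) (h : ∑ i, y i * algebraMap A B (a i) = 0) :
    ∀ i, y i ∈ Ideal.map (algebraMap A B) (maximalIdeal A) := by
  have hrel : ∑ i, ((a i : A)) • y i = 0 := by
    rw [← h]
    refine Finset.sum_congr rfl fun i _ => ?_
    rw [Algebra.smul_def, mul_comm]
  obtain ⟨l, b, z, hyz, hb⟩ := Module.Flat.isTrivialRelation_of_sum_smul_eq_zero (R := A) (M := B)
    (f := fun i => (a i : A)) (x := y) hrel
  intro i
  rw [hyz i]
  refine Ideal.sum_mem _ fun j _ => ?_
  rw [Algebra.smul_def]
  refine Ideal.mul_mem_right _ _ (Ideal.mem_map_of_mem _ ?_)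
  refine mem_maximalIdeal_of_sum_mul_eq_zero a hli (fun i => b i j) ?_ i
  rw [← hb j]
  exact Finset.sum_congr rfl fun i _ => mul_comm _ _

end Key

section Main

variable {A : Type u} [CommRing A] [IsLocalRing A] [IsNoetherianRing A]

/-- quotient of a flat local algebra by an element regular on the closed fibre stays flat -/
theorem flat_quotient_span_singleton (B : Type u) [CommRing B] [IsLocalRing B] [IsNoetherianRing B]
    [Algebra A B] [IsLocalHom (algebraMap A B)] [Module.Flat A B] (x : B)
    (hdom : IsDomain (B ⧸ Ideal.map (algebraMap A B) (maximalIdeal A)))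
    (hx : Ideal.Quotient.mk (Ideal.map (algebraMap A B) (maximalIdeal A)) x ≠ 0) :
    Module.Flat A (B ⧸ Ideal.span {x}) := by
  set I := Ideal.map (algebraMap A B) (maximalIdeal A) with hI
  have hItop : (I • ⊤ : Submodule B B) = I := by
    rw [smul_eq_mul, Ideal.mul_top]
  have hreg : IsSMulRegular (B ⧸ (I • ⊤ : Submodule B B)) x := by
    rw [isSMulRegular_iff_right_eq_zero_of_smul]
    intro m hm
    obtain ⟨b, rfl⟩ := Submodule.Quotient.mk_surjective _ m
    rw [← Submodule.Quotient.mk_smul, Submodule.Quotient.mk_eq_zero, hItop, smul_eq_mul] at hm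
    rw [Submodule.Quotient.mk_eq_zero, hItop]
    have h1 : Ideal.Quotient.mk I x * Ideal.Quotient.mk I b = 0 := by
      rw [← map_mul, Ideal.Quotient.eq_zero_iff_mem]
      exact hm
    rcases mul_eq_zero.mp h1 with h | h
    · exact absurd h hx
    · exact Ideal.Quotient.eq_zero_iff_mem.mp h
  have hflat : Module.Flat A (QuotSMulTop x B) :=
    flat_quotSMulTop_of_isSMulRegular_quotient (R := A) (S := B) (N := B) x hreg
  have heq : (x • (⊤ : Submodule B B)) = Ideal.span {x} := by
    rw [← Submodule.ideal_span_singleton_smul, smul_eq_mul, Ideal.mul_top]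
  let e : QuotSMulTop x B ≃ₗ[B] (B ⧸ Ideal.span {x}) := Submodule.quotEquivOfEq _ _ heq
  exact Module.Flat.of_linearEquiv (e.restrictScalars A).symm

/-- the key independence statement, by induction on the dimension of the closed fibre -/
theorem key {e : ℕ} (a : Fin e → maximalIdeal A)
    (hli : LinearIndependent (ResidueField A) (fun i => (maximalIdeal A).toCotangent (a i)))
    (hspan : Ideal.span (Set.range fun i => (a i : A)) = maximalIdeal A) (r : ℕ) :
    ∀ (B : Type u) [CommRing B] [IsLocalRing B] [IsNoetherianRing B] [Algebra A B]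
      [IsLocalHom (algebraMap A B)] [Module.Flat A B],
      IsRegularLocalRing (B ⧸ Ideal.map (algebraMap A B) (maximalIdeal A)) →
      ringKrullDim (B ⧸ Ideal.map (algebraMap A B) (maximalIdeal A)) = r →
      ∀ b : Fin e → B, ∑ i, b i * algebraMap A B (a i) ∈ maximalIdeal B ^ 2 →
        ∀ i, b i ∈ maximalIdeal B := by
  induction r with
  | zero =>
    intro B _ _ _ _ _ _ hreg hdim b hb
    set I := Ideal.map (algebraMap A B) (maximalIdeal A) with hI
    have hIle : I ≤ maximalIdeal B := le_maximalIdeal_of_isLocalRing_quotient I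
    have hbot : maximalIdeal (B ⧸ I) = ⊥ :=
      maximalIdeal_eq_bot_of_isRegularLocalRing hreg (by exact_mod_cast hdim)
    have hle : maximalIdeal B ≤ I := by
      intro x hx
      have h1 : Ideal.Quotient.mk I x ∈ maximalIdeal (B ⧸ I) :=
        (mk_mem_maximalIdeal_quotient_iff I x).mpr hx
      rw [hbot, Ideal.mem_bot, Ideal.Quotient.eq_zero_iff_mem] at h1
      exact h1
    have hmI : maximalIdeal B = I := le_antisymm hle hIle
    have hIspan : I = Ideal.span (Set.range fun i => algebraMap A B (a i)) := by
      have h0 : I = Ideal.map (algebraMap A B) (Ideal.span (Set.range fun i => (a i : A))) := by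
        rw [hspan]
      rw [h0, Ideal.map_span, ← Set.range_comp]
      rfl
    rw [hmI, pow_two] at hb
    have hb' : ∑ i, b i * algebraMap A B (a i) ∈
        I • Submodule.span B (Set.range fun i => algebraMap A B (a i)) := by
      rw [smul_eq_mul]
      have : (Submodule.span B (Set.range fun i => algebraMap A B (a i)) : Ideal B) = I :=
        hIspan.symm
      rw [this]
      exact hb
    obtain ⟨c, hc, hsum⟩ := (Submodule.mem_ideal_smul_span_iff_exists_sum I
      (fun i => algebraMap A B (a i)) _).mp hb'
    rw [Finsupp.sum_fintype] at hsum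
    swap
    · intro i
      exact zero_smul _ _
    have hrel : ∑ i, (b i - c i) * algebraMap A B (a i) = 0 := by
      simp only [sub_mul, Finset.sum_sub_distrib]
      rw [sub_eq_zero, ← hsum]
      rfl
    have := mem_map_of_sum_eq_zero a hli (fun i => b i - c i) hrel
    intro i
    have h1 := this i
    have h2 := I.add_mem h1 (hc i)
    rw [sub_add_cancel] at h2
    rw [hmI]
    exact h2
  | succ r ih =>
    intro B _ _ _ _ _ _ hreg hdim b hb
    set I := Ideal.map (algebraMap A B) (maximalIdeal A) with hI
    have hdom : IsDomain (B ⧸ I) := isDomain_of_isRegularLocalRing _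
    have hdim0 : ringKrullDim (B ⧸ I) ≠ 0 := by
      rw [hdim]
      exact_mod_cast Nat.succ_ne_zero r
    obtain ⟨xbar, hxm, hx2, -⟩ :=
      exists_mem_maximalIdeal_not_mem_sq_not_mem_minimalPrimes (R := B ⧸ I) hdim0
    obtain ⟨x, rfl⟩ := Ideal.Quotient.mk_surjective xbar
    have hxB : x ∈ maximalIdeal B := (mk_mem_maximalIdeal_quotient_iff I x).mp hxm
    have hx0 : Ideal.Quotient.mk I x ≠ 0 := by
      intro h
      apply hx2
      rw [h]
      exact Ideal.zero_mem _
    set J : Ideal B := Ideal.span {x} with hJ
    have hJtop : J ≠ ⊤ := by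
      rw [hJ, Ne, Ideal.span_singleton_eq_top]
      exact hxB
    have hloc1 : IsLocalRing (B ⧸ J) := isLocalRing_quotient hJtop
    have hflat1 : Module.Flat A (B ⧸ J) := flat_quotient_span_singleton B x hdom hx0
    have hlochom : IsLocalHom (algebraMap A (B ⧸ J)) := by
      constructor
      intro t ht
      by_contra hnot
      have h1 : t ∈ maximalIdeal A := hnot
      have h2 : algebraMap A B t ∈ maximalIdeal B := by
        have h3 : ¬ IsUnit (algebraMap A B t) := fun h => hnot (isUnit_of_map_unit _ _ h)
        exact h3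
      have h4 : Ideal.Quotient.mk J (algebraMap A B t) ∈ maximalIdeal (B ⧸ J) :=
        (mk_mem_maximalIdeal_quotient_iff J _).mpr h2
      exact h4 ht
    -- the closed fibre of `B ⧸ J`
    set I1 := Ideal.map (algebraMap A (B ⧸ J)) (maximalIdeal A) with hI1
    have hI1' : I1 = I.map (Ideal.Quotient.mk J) := by
      rw [hI1, hI, Ideal.map_map]
      rfl
    have hJ' : J.map (Ideal.Quotient.mk I) = Ideal.span {Ideal.Quotient.mk I x} := by
      rw [hJ, Ideal.map_span, Set.image_singleton]
    let eq1 : ((B ⧸ I) ⧸ Ideal.span {Ideal.Quotient.mk I x}) ≃+* ((B ⧸ J) ⧸ I1) :=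
      (Ideal.quotEquivOfEq hJ'.symm).trans
        ((DoubleQuot.quotQuotEquivComm I J).trans (Ideal.quotEquivOfEq hI1'.symm))
    have hloc2 : IsLocalRing ((B ⧸ I) ⧸ Ideal.span {Ideal.Quotient.mk I x}) := by
      apply isLocalRing_quotient
      rw [Ne, Ideal.span_singleton_eq_top]
      exact hxm
    obtain ⟨hreg2, hdim2⟩ := isRegularLocalRing_quotient_span_singleton hxm hx2
    have hreg1 : IsRegularLocalRing ((B ⧸ J) ⧸ I1) := IsRegularLocalRing.of_ringEquiv eq1
    have hdim1 : ringKrullDim ((B ⧸ J) ⧸ I1) = r := by
      rw [← ringKrullDim_eq_of_ringEquiv eq1]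
      obtain ⟨n, hn⟩ :=
        exists_nat_ringKrullDim_eq ((B ⧸ I) ⧸ Ideal.span {Ideal.Quotient.mk I x})
      rw [hdim, hn] at hdim2
      rw [hn]
      have h5 : n + 1 = r + 1 := by exact_mod_cast hdim2
      have h6 : n = r := by omega
      rw [h6]
    have hb1 : ∑ i, (Ideal.Quotient.mk J (b i)) * algebraMap A (B ⧸ J) (a i) ∈
        maximalIdeal (B ⧸ J) ^ 2 := by
      rw [maximalIdeal_quotient_eq_map J, ← Ideal.map_pow]
      have : ∑ i, (Ideal.Quotient.mk J (b i)) * algebraMap A (B ⧸ J) (a i) =
          Ideal.Quotient.mk J (∑ i, b i * algebraMap A B (a i)) := by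
        rw [map_sum]
        refine Finset.sum_congr rfl fun i _ => ?_
        rw [map_mul]
        rfl
      rw [this]
      exact Ideal.mem_map_of_mem _ hb
    have := ih (B ⧸ J) hreg1 hdim1 (fun i => Ideal.Quotient.mk J (b i)) hb1
    intro i
    exact (mk_mem_maximalIdeal_quotient_iff J (b i)).mp (this i)

/-- **Main theorem**: `dim m_B/m_B² = dim n/n² + dim m_A/m_A²` for a flat local homomorphism with
regular closed fibre. -/
theorem finrank_cotangentSpace_eq (A B : Type u) [CommRing A] [CommRing B] [IsLocalRing A]
    [IsNoetherianRing A] [IsLocalRing B] [IsNoetherianRing B] [Algebra A B]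
    [IsLocalHom (algebraMap A B)] [Module.Flat A B]
    [hreg : IsRegularLocalRing (B ⧸ Ideal.map (algebraMap A B) (maximalIdeal A))] :
    finrank (ResidueField B) (CotangentSpace B) =
      finrank (ResidueField (B ⧸ Ideal.map (algebraMap A B) (maximalIdeal A)))
          (CotangentSpace (B ⧸ Ideal.map (algebraMap A B) (maximalIdeal A))) +
        finrank (ResidueField A) (CotangentSpace A) := by
  set I := Ideal.map (algebraMap A B) (maximalIdeal A) with hI
  let bas := Module.finBasis (ResidueField A) (CotangentSpace A)
  have hsurj := (maximalIdeal A).toCotangent_surjective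
  choose a ha using fun i => hsurj (bas i)
  have hfun : (fun i => (maximalIdeal A).toCotangent (a i)) = bas := funext ha
  have hli : LinearIndependent (ResidueField A)
      (fun i => (maximalIdeal A).toCotangent (a i)) := by
    rw [hfun]
    exact bas.linearIndependent
  have hspanA : Submodule.span A (Set.range a) = ⊤ := by
    rw [← CotangentSpace.span_image_eq_top_iff, ← Set.range_comp]
    have : ((maximalIdeal A).toCotangent ∘ a) = bas := funext ha
    rw [this]
    exact bas.span_eq
  have hspan : Ideal.span (Set.range fun i => (a i : A)) = maximalIdeal A := by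
    have := congrArg (Submodule.map (maximalIdeal A).subtype) hspanA
    rw [Submodule.map_span, Submodule.map_top, Submodule.range_subtype, ← Set.range_comp] at this
    exact this
  obtain ⟨r, hr⟩ := exists_nat_ringKrullDim_eq (B ⧸ I)
  have hkey := key a hli hspan r B hreg hr
  have hxm : ∀ i, algebraMap A B (a i) ∈ maximalIdeal B := by
    intro i
    have h3 : ¬ IsUnit (algebraMap A B (a i)) := fun h => (a i).2 (isUnit_of_map_unit _ _ h)
    exact h3
  let x : Fin _ → maximalIdeal B := fun i => ⟨algebraMap A B (a i), hxm i⟩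
  have hIx : I = Ideal.span (Set.range fun i => (x i : B)) := by
    have h0 : I = Ideal.map (algebraMap A B) (Ideal.span (Set.range fun i => (a i : A))) := by
      rw [hspan]
    rw [h0, Ideal.map_span, ← Set.range_comp]
    rfl
  have hliB : LinearIndependent (ResidueField B)
      (fun i => (maximalIdeal B).toCotangent (x i)) := by
    rw [Fintype.linearIndependent_iff]
    intro g hg i
    choose b hb using fun i => IsLocalRing.residue_surjective (g i)
    have h1 : (maximalIdeal B).toCotangent (∑ i, b i • x i) = 0 := by
      rw [map_sum, ← hg]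
      refine Finset.sum_congr rfl fun i _ => ?_
      rw [← hb i, residue_smul_toCotangent]
    rw [Ideal.toCotangent_eq_zero] at h1
    have h2 : ∑ i, b i * algebraMap A B (a i) ∈ maximalIdeal B ^ 2 := by
      rw [Submodule.coe_sum] at h1
      exact h1
    have := hkey b h2 i
    rw [← hb i, residue_eq_zero_iff]
    exact this
  have hV : finrank (ResidueField B) (cotV I) =
      finrank (ResidueField A) (CotangentSpace A) := by
    rw [hIx]
    exact finrank_cotV_span_range_of_linearIndependent x hliB
  have hsum := spanFinrank_maximalIdeal_quotient_add_finrank_cotV I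
  rw [hV, spanFinrank_maximalIdeal_eq_finrank_cotangentSpace,
    spanFinrank_maximalIdeal_eq_finrank_cotangentSpace] at hsum
  exact hsum.symm

end Main

end Groth.Agent.R2.H52.CotFlat
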