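import Groth.Agent.R2.H41CptSpec

/-!
# helper52: PROJ:compact package (A) `PkgGoodSum`

If every object is a quotient of a coproduct of members of `S`, then `IsSum S` is a good class.
-/

set_option autoImplicit false
set_option linter.unusedSectionVars false
universe v u
open CategoryTheory CategoryTheory.Limits Opposite

namespace Groth.Agent.R2.H52.CptGoodSum

open Groth.Agent.R2.H41 Groth.Agent.R2.H41.ResSpec Groth.Agent.R2.H41.CptSpec

section SumIso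

variable {𝒜 : Type u} [Category.{v} 𝒜] [Preadditive 𝒜] [HasBinaryBiproducts 𝒜]
  {ι₁ ι₂ : Type v} (f : ι₁ ⊕ ι₂ → 𝒜) [HasCoproduct f] [HasCoproduct (fun i => f (.inl i))]
  [HasCoproduct (fun j => f (.inr j))]

/-- `∐_{ι₁ ⊕ ι₂} f ≅ (∐_{ι₁} f ∘ inl) ⊞ (∐_{ι₂} f ∘ inr)`. -/
noncomputable def sumIso : (∐ f) ≅ (∐ fun i => f (.inl i)) ⊞ (∐ fun j => f (.inr j)) where
  hom := Sigma.desc (fun z => match z with
    | .inl i => Sigma.ι (fun i => f (.inl i)) i ≫ biprod.inl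
    | .inr j => Sigma.ι (fun j => f (.inr j)) j ≫ biprod.inr)
  inv := biprod.desc (Sigma.desc fun i => Sigma.ι f (.inl i)) (Sigma.desc fun j => Sigma.ι f (.inr j))
  hom_inv_id := by
    apply Sigma.hom_ext
    rintro (i | j) <;> simp
  inv_hom_id := by
    apply biprod.hom_ext'
    · apply Sigma.hom_ext
      intro i
      simp
    · apply Sigma.hom_ext
      intro j
      simp

end SumIso

variable {A : Type u} [Category.{v} A] [Abelian A] [HasCoproducts.{v} A] (S : Set A)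

lemma isSum_iso {X Y : A} (e : X ≅ Y) (h : IsSum S X) : IsSum S Y := by
  obtain ⟨ι, E, hE, ⟨i⟩⟩ := h
  exact ⟨ι, E, hE, ⟨e.symm ≪≫ i⟩⟩

lemma isSum_zero (X : A) (h : IsZero X) : IsSum S X := by
  refine ⟨PEmpty, fun i => i.elim, fun i => i.elim, ⟨h.iso ?_⟩⟩
  have : IsInitial (∐ fun j : PEmpty.{v + 1} => (PEmpty.elim j : A)) := by
    refine IsInitial.ofUniqueHom (fun Y => Sigma.desc (fun j => j.elim)) ?_
    intro Y m
    exact Sigma.hom_ext _ _ (fun j => j.elim)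
  exact (isZero_zero _).of_iso (this.uniqueUpToIso (isZero_zero _).isInitial)

lemma isSum_biprod (X Y : A) (hX : IsSum S X) (hY : IsSum S Y) : IsSum S (X ⊞ Y) := by
  obtain ⟨ι₁, E₁, hE₁, ⟨i₁⟩⟩ := hX
  obtain ⟨ι₂, E₂, hE₂, ⟨i₂⟩⟩ := hY
  refine ⟨ι₁ ⊕ ι₂, Sum.elim E₁ E₂, ?_, ⟨?_⟩⟩
  · rintro (i | j)
    · exact hE₁ i
    · exact hE₂ j
  · exact biprod.mapIso i₁ i₂ ≪≫ (sumIso (f := fun k : ι₁ ⊕ ι₂ => Sum.elim E₁ E₂ k)).symm

theorem pkgGoodSum : PkgGoodSum.{v, u} := by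
  intro A _ _ _ S h1
  refine ⟨fun e h => isSum_iso S e h, isSum_zero S, isSum_biprod S, ?_⟩
  intro M
  obtain ⟨ι, E, π, hE, hπ⟩ := h1 M
  exact ⟨∐ E, π, ⟨ι, E, hE, ⟨Iso.refl _⟩⟩, hπ⟩

end Groth.Agent.R2.H52.CptGoodSum
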