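import Groth.Agent.R2.H41CptSpec
import Groth.Agent.S0985
import Groth.Agent.Lib.Helper1CompactHocolim
import Groth.Agent.Lib.Helper21DCoprod

/-!
# helper52: PROJ:compact package (B) `PkgLift`

A map from a compact object of `D(A)` to `Q(colim F)` (sequential colimit of complexes) lifts to a
finite stage: `Q(colim F)` is a homotopy colimit of the `Q(F n)` (S0985) and maps from compact
objects to a homotopy colimit factor through a finite stage (Lib `Helper1CompactHocolim`).
-/

set_option autoImplicit false
set_option linter.style.haveILetI false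
universe v u
open CategoryTheory CategoryTheory.Limits Opposite

namespace Groth.Agent.R2.H52.CptLift

open Groth.Agent.R2.H41

theorem pkgLift : CptSpec.PkgLift.{v, u} := by
  intro A _ _ _ _ _ F K hK t
  haveI : HasExactColimitsOfShape ℕ A := by
    haveI : AB5OfSize.{0, 0} A := AB5OfSize_shrink.{0, 0, v, v} A
    infer_instance
  haveI : HasExactColimitsOfShape (Discrete ℕ) A := by
    haveI : AB4OfSize.{0} A := inferInstance
    infer_instance
  haveI : HasCoproduct F.obj := inferInstance
  have hc : IsColimit (Cofan.mk (DerivedCategory.Q.obj (∐ F.obj))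
      fun j => DerivedCategory.Q.map (Sigma.ι F.obj j)) :=
    Groth.Agent.Lib.Helper21.DCoprod.isColimitQMapCofan (fun j => Sigma.ι F.obj j)
        (coproductIsCoproduct F.obj)
  haveI : PreservesColimit (Discrete.functor F.obj) (DerivedCategory.Q (C := A)) := by
    refine preservesColimit_of_preserves_colimit_cocone (coproductIsCoproduct F.obj) ?_
    exact (isColimitMapCoconeCofanMkEquiv _ _ _).symm hc
  haveI : HasCoproductsOfShape ℕ (DerivedCategory A) :=
    hasCoproductsOfShape_of_small.{v} (DerivedCategory A) ℕ
  haveI : HasCoproduct (fun n => DerivedCategory.Q.obj (F.obj n)) := inferInstance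
  have h := Groth.Agent.S0985.result F
  obtain ⟨n, tn, htn⟩ := Groth.Agent.Lib.Helper1.Compact.IsHocolim.exists_lift h hK t
  exact ⟨n, tn, htn.symm⟩

end Groth.Agent.R2.H52.CptLift
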