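import Mathlib
import Groth.Agent.R2.H52AcycLift

/-!
# helper52: lifting contractible complexes from given lifts of the cycles (unbounded version of
`H52AcycLift`, for S6970)
-/

set_option autoImplicit false
universe u

namespace Groth.Agent.R2.H52.CycLift

open CategoryTheory CategoryTheory.Limits TensorProduct
open scoped ChangeOfRings
open Groth.Agent.R2.H52.AcycLift

section Main

variable {R : Type u} [CommRing R] (I : Ideal R)
variable (Pc : ObjectProperty (ModuleCat.{u} R))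
variable (E : CochainComplex (ModuleCat.{u} (R ⧸ I)) ℤ)

/-- an acyclic complex with chosen lifts of its cycles -/
structure CData where
  h1 : ∀ X : ModuleCat.{u} R, Pc X → Module.Projective R X
  h2 : ∀ X Y : ModuleCat.{u} R, Pc X → Pc Y → Pc (ModuleCat.of R (X × Y))
  hEa : E.Acyclic
  Qs : ℤ → ModuleCat.{u} R
  good : ∀ i, Good I Pc E i (Qs i)

variable {I Pc E} (D : CData I Pc E)

/-- the terms of the lifted complex -/
noncomputable def PX (i : ℤ) : ModuleCat.{u} R := ModuleCat.of R (D.Qs i × D.Qs (i + 1))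

/-- the differential of the lifted complex -/
noncomputable def Pd (i : ℤ) : PX D i ⟶ PX D (i + 1) :=
  ModuleCat.ofHom ((LinearMap.inl R (D.Qs (i + 1)) (D.Qs (i + 1 + 1))) ∘ₗ
    (LinearMap.snd R (D.Qs i) (D.Qs (i + 1))))

theorem Pd_apply (i : ℤ) (q : D.Qs i) (q' : D.Qs (i + 1)) :
    (Pd D i).hom ((q, q') : D.Qs i × D.Qs (i + 1)) = ((q', 0) : D.Qs (i + 1) × D.Qs (i + 1 + 1)) :=
  rfl

/-- the lifted complex -/
noncomputable def P : CochainComplex (ModuleCat.{u} R) ℤ :=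
  CochainComplex.of (PX D) (Pd D) (by
    intro n
    ext x
    obtain ⟨q, q'⟩ := x
    rfl)

theorem P_d (n : ℤ) : (P D).d n (n + 1) = Pd D n := CochainComplex.of_d _ _ n

theorem P_pc (i : ℤ) : Pc ((P D).X i) :=
  D.h2 _ _ (D.good i).1 (D.good (i + 1)).1

/-- the contracting maps -/
noncomputable def sP (n : ℤ) : (P D).X (n + 1) ⟶ (P D).X n :=
  ModuleCat.ofHom (X := ModuleCat.of R (D.Qs (n + 1) × D.Qs (n + 1 + 1)))
    (Y := ModuleCat.of R (D.Qs n × D.Qs (n + 1)))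
    ((LinearMap.inr R (D.Qs n) (D.Qs (n + 1))) ∘ₗ
      (LinearMap.fst R (D.Qs (n + 1)) (D.Qs (n + 1 + 1))))

theorem sP_apply (n : ℤ) (q : D.Qs (n + 1)) (q' : D.Qs (n + 1 + 1)) :
    (sP D n).hom ((q, q') : D.Qs (n + 1) × D.Qs (n + 1 + 1)) =
      ((0, q) : D.Qs n × D.Qs (n + 1)) := rfl

/-- the family of contracting maps -/
noncomputable def hFam (i j : ℤ) (hij : (ComplexShape.up ℤ).Rel j i) : (P D).X i ⟶ (P D).X j :=
  ((P D).XIsoOfEq (show i = j + 1 from hij.symm)).hom ≫ sP D j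

theorem id_eq_nullHomotopicMap' : 𝟙 (P D) = Homotopy.nullHomotopicMap' (hFam D) := by
  ext n : 1
  obtain ⟨m, rfl⟩ : ∃ m, n = m + 1 := ⟨n - 1, by omega⟩
  rw [Homotopy.nullHomotopicMap'_f (show (ComplexShape.up ℤ).Rel m (m + 1) from rfl)
    (show (ComplexShape.up ℤ).Rel (m + 1) (m + 1 + 1) from rfl)]
  simp only [hFam, HomologicalComplex.XIsoOfEq_rfl, Iso.refl_hom, Category.id_comp]
  rw [P_d, P_d]
  ext x
  change D.Qs (m + 1) × D.Qs (m + 1 + 1) at x
  obtain ⟨q, q'⟩ := x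
  have h1 : (sP D (m + 1)).hom ((Pd D (m + 1)).hom ((q, q') : D.Qs (m + 1) × D.Qs (m + 1 + 1))) =
      ((0, q') : D.Qs (m + 1) × D.Qs (m + 1 + 1)) := by
    rw [Pd_apply, sP_apply]
  have h2 : (Pd D m).hom ((sP D m).hom ((q, q') : D.Qs (m + 1) × D.Qs (m + 1 + 1))) =
      ((q, 0) : D.Qs (m + 1) × D.Qs (m + 1 + 1)) := by
    rw [sP_apply, Pd_apply]
  rw [ModuleCat.hom_add, LinearMap.add_apply, ModuleCat.hom_comp, ModuleCat.hom_comp,
    LinearMap.comp_apply, LinearMap.comp_apply]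
  refine Eq.trans ?_ (congrArg₂ (fun (a b : D.Qs (m + 1) × D.Qs (m + 1 + 1)) => a + b)
    h1.symm h2.symm)
  refine Prod.ext ?_ ?_
  · show q = 0 + q
    rw [zero_add]
  · show q' = q' + 0
    rw [add_zero]

/-- the contraction of the lifted complex -/
noncomputable def hP : Homotopy (𝟙 (P D)) 0 :=
  (Homotopy.ofEq (id_eq_nullHomotopicMap' D)).trans (Homotopy.nullHomotopy' (hFam D))

end Main

section Iso

variable {R : Type u} [CommRing R] {I : Ideal R} {Pc : ObjectProperty (ModuleCat.{u} R)}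
  {E : CochainComplex (ModuleCat.{u} (R ⧸ I)) ℤ} (D : CData I Pc E)

/-- the chosen isomorphisms of the reductions of the `Qs i` with the cycles -/
noncomputable def θ (i : ℤ) : (R ⧸ I) ⊗[R] (D.Qs i) ≃ₗ[R ⧸ I] Z I E i := (D.good i).2.some

include D in
theorem projective_Z (i : ℤ) : Module.Projective (R ⧸ I) (Z I E i) := by
  haveI := D.h1 _ (D.good i).1
  exact Module.Projective.of_equiv (θ D i)

include D in
theorem exists_section (i : ℤ) :
    ∃ σ : Z I E (i + 1) →ₗ[R ⧸ I] E.X i, ∀ z, dcod I E i (σ z) = z := by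
  haveI := projective_Z D (i + 1)
  obtain ⟨σ, hσ⟩ := Module.projective_lifting_property (dcod I E i) LinearMap.id
    (dcod_surjective I E D.hEa i)
  exact ⟨σ, fun z => LinearMap.congr_fun hσ z⟩

/-- chosen sections of the differentials onto the cycles -/
noncomputable def σ (i : ℤ) : Z I E (i + 1) →ₗ[R ⧸ I] E.X i := Classical.choose (exists_section D i)

theorem σ_spec (i : ℤ) (z : Z I E (i + 1)) : dcod I E i (σ D i z) = z :=
  Classical.choose_spec (exists_section D i) z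

theorem d_σ (i : ℤ) (z : Z I E (i + 1)) :
    (E.d i (i + 1)).hom (σ D i z) = (z : E.X (i + 1)) :=
  congrArg Subtype.val (σ_spec D i z)

/-- the reduction map on `Qs i`, with values in `E.X i` -/
noncomputable def uL (i : ℤ) (q : D.Qs i) : E.X i :=
  ((θ D i ((1 : R ⧸ I) ⊗ₜ[R] q) : Z I E i) : E.X i)

theorem uL_add (i : ℤ) (q q' : D.Qs i) : uL D i (q + q') = uL D i q + uL D i q' := by
  simp [uL, TensorProduct.tmul_add]

theorem uL_zero (i : ℤ) : uL D i 0 = 0 := by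
  simp [uL]

theorem uL_smul (i : ℤ) (r : R) (q : D.Qs i) :
    uL D i (r • q) = (Ideal.Quotient.mk I r) • uL D i q := by
  unfold uL
  rw [one_tmul_smul, map_smul]
  rfl

theorem d_uL (i : ℤ) (q : D.Qs i) : (E.d i (i + 1)).hom (uL D i q) = 0 :=
  (θ D i ((1 : R ⧸ I) ⊗ₜ[R] q)).2

theorem mem_of_uL_eq_zero (i : ℤ) (q : D.Qs i) (h : uL D i q = 0) :
    q ∈ I • (⊤ : Submodule R (D.Qs i)) := by
  apply mem_smul_of_one_tmul_eq_zero I
  have h1 : θ D i ((1 : R ⧸ I) ⊗ₜ[R] q) = 0 := Subtype.ext h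
  exact (θ D i).map_eq_zero_iff.1 h1

theorem exists_uL_eq (i : ℤ) (z : Z I E i) : ∃ q : D.Qs i, uL D i q = (z : E.X i) := by
  obtain ⟨q, hq⟩ := exists_one_tmul I (D.Qs i) ((θ D i).symm z)
  refine ⟨q, ?_⟩
  simp [uL, hq]

/-- the reduction map on the terms of the lifted complex -/
noncomputable def uMap (i : ℤ) : (D.Qs i × D.Qs (i + 1)) →+ E.X i where
  toFun p := uL D i p.1 + σ D i (θ D (i + 1) ((1 : R ⧸ I) ⊗ₜ[R] p.2))
  map_zero' := by simp [uL_zero]
  map_add' p p' := by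
    simp only [Prod.fst_add, Prod.snd_add, uL_add, TensorProduct.tmul_add, map_add]
    abel

theorem uMap_apply (i : ℤ) (q : D.Qs i) (q' : D.Qs (i + 1)) :
    uMap D i (q, q') = uL D i q + σ D i (θ D (i + 1) ((1 : R ⧸ I) ⊗ₜ[R] q')) := rfl

theorem d_uMap (i : ℤ) (q : D.Qs i) (q' : D.Qs (i + 1)) :
    (E.d i (i + 1)).hom (uMap D i (q, q')) = uL D (i + 1) q' := by
  rw [uMap_apply, map_add, d_uL, zero_add, d_σ]
  rfl

theorem uMap_smul (i : ℤ) (r : R) (p : D.Qs i × D.Qs (i + 1)) :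
    uMap D i (r • p) = (Ideal.Quotient.mk I r) • uMap D i p := by
  obtain ⟨q, q'⟩ := p
  show uMap D i (r • q, r • q') = _
  rw [uMap_apply, uMap_apply, uL_smul, one_tmul_smul, map_smul, map_smul, smul_add]

theorem uMap_surjective (i : ℤ) : Function.Surjective (uMap D i) := by
  intro e
  set z' : Z I E (i + 1) := dcod I E i e with hz'
  have hmem : e - σ D i z' ∈ Z I E i := by
    show (E.d i (i + 1)).hom (e - σ D i z') = 0
    rw [map_sub, d_σ, hz', dcod_coe, sub_self]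
  obtain ⟨q, hq⟩ := exists_uL_eq D i ⟨_, hmem⟩
  obtain ⟨q', hq'⟩ := exists_one_tmul I (D.Qs (i + 1)) ((θ D (i + 1)).symm z')
  refine ⟨(q, q'), ?_⟩
  rw [uMap_apply, hq, hq', LinearEquiv.apply_symm_apply]
  show e - σ D i z' + σ D i z' = e
  abel

theorem mem_of_uMap_eq_zero (i : ℤ) (p : D.Qs i × D.Qs (i + 1)) (h : uMap D i p = 0) :
    p ∈ I • (⊤ : Submodule R (D.Qs i × D.Qs (i + 1))) := by
  obtain ⟨q, q'⟩ := p
  have h1 : uL D (i + 1) q' = 0 := by
    rw [← d_uMap D i q q', h, map_zero]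
  have hq' := mem_of_uL_eq_zero D (i + 1) q' h1
  have h2 : uL D i q = 0 := by
    have h3 : (1 : R ⧸ I) ⊗ₜ[R] q' = 0 := one_tmul_eq_zero_of_mem I _ q' hq'
    rw [uMap_apply, h3, map_zero, map_zero, add_zero] at h
    exact h
  have hq := mem_of_uL_eq_zero D i q h2
  have e1 : ((q, q') : D.Qs i × D.Qs (i + 1)) =
      LinearMap.inl R (D.Qs i) (D.Qs (i + 1)) q + LinearMap.inr R (D.Qs i) (D.Qs (i + 1)) q' := by
    simp
  rw [e1]
  refine Submodule.add_mem _ ?_ ?_
  · have : Submodule.map (LinearMap.inl R (D.Qs i) (D.Qs (i + 1))) (I • ⊤) ≤ I • ⊤ := by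
      rw [Submodule.map_smul'']
      exact Submodule.smul_mono (le_refl _) le_top
    exact this (Submodule.mem_map_of_mem hq)
  · have : Submodule.map (LinearMap.inr R (D.Qs i) (D.Qs (i + 1))) (I • ⊤) ≤ I • ⊤ := by
      rw [Submodule.map_smul'']
      exact Submodule.smul_mono (le_refl _) le_top
    exact this (Submodule.mem_map_of_mem hq')

theorem exists_iso_term (i : ℤ) :
    ∃ e : (ModuleCat.extendScalars (Ideal.Quotient.mk I)).obj ((P D).X i) ≅ E.X i,
      ∀ m : D.Qs i × D.Qs (i + 1),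
        e.hom.hom ((1 : R ⧸ I) ⊗ₜ[R, Ideal.Quotient.mk I] (m : (P D).X i)) = uMap D i m := by
  refine exists_iso_of_red_gen (Ideal.Quotient.mk I) Ideal.Quotient.mk_surjective
    ((P D).X i) (E.X i) (uMap D i) (uMap_smul D i) (uMap_surjective D i) ?_
  intro m hm
  rw [Ideal.mk_ker]
  exact mem_of_uMap_eq_zero D i m hm

/-- the chosen isomorphisms of the reductions of the terms with the terms of `E` -/
noncomputable def eTerm (i : ℤ) :
    (ModuleCat.extendScalars (Ideal.Quotient.mk I)).obj ((P D).X i) ≅ E.X i :=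
  Classical.choose (exists_iso_term D i)

theorem eTerm_spec (i : ℤ) (m : D.Qs i × D.Qs (i + 1)) :
    (eTerm D i).hom.hom ((1 : R ⧸ I) ⊗ₜ[R, Ideal.Quotient.mk I] (m : (P D).X i)) = uMap D i m :=
  Classical.choose_spec (exists_iso_term D i) m

theorem eTerm_comm (i : ℤ) :
    (ModuleCat.extendScalars (Ideal.Quotient.mk I)).map ((P D).d i (i + 1)) ≫ (eTerm D (i + 1)).hom =
      (eTerm D i).hom ≫ E.d i (i + 1) := by
  apply ModuleCat.ExtendScalars.hom_ext
  intro m
  change D.Qs i × D.Qs (i + 1) at m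
  obtain ⟨q, q'⟩ := m
  show (eTerm D (i + 1)).hom.hom ((1 : R ⧸ I) ⊗ₜ[R, Ideal.Quotient.mk I]
      (((P D).d i (i + 1)).hom ((q, q') : D.Qs i × D.Qs (i + 1)))) =
    (E.d i (i + 1)).hom ((eTerm D i).hom.hom ((1 : R ⧸ I) ⊗ₜ[R, Ideal.Quotient.mk I]
      (((q, q') : D.Qs i × D.Qs (i + 1)) : (P D).X i)))
  have h1 : ((P D).d i (i + 1)).hom ((q, q') : D.Qs i × D.Qs (i + 1)) =
      (((q', 0) : D.Qs (i + 1) × D.Qs (i + 1 + 1)) : (P D).X (i + 1)) := by
    rw [P_d]; rfl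
  have hL := eTerm_spec D (i + 1) ((q', 0) : D.Qs (i + 1) × D.Qs (i + 1 + 1))
  have hR := eTerm_spec D i ((q, q') : D.Qs i × D.Qs (i + 1))
  have hL' := (congrArg (fun x : (P D).X (i + 1) => (eTerm D (i + 1)).hom.hom
    ((1 : R ⧸ I) ⊗ₜ[R, Ideal.Quotient.mk I] x)) h1).trans hL
  refine hL'.trans ?_
  have hR' := congrArg (fun y => (E.d i (i + 1)).hom y) hR
  refine Eq.trans ?_ hR'.symm
  show uMap D (i + 1) (q', 0) = (E.d i (i + 1)).hom (uMap D i (q, q'))
  rw [d_uMap, uMap_apply, TensorProduct.tmul_zero, map_zero, map_zero, add_zero]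

theorem nonempty_iso :
    Nonempty ((((ModuleCat.extendScalars (Ideal.Quotient.mk I)).mapHomologicalComplex
      (ComplexShape.up ℤ)).obj (P D)) ≅ E) := by
  refine ⟨HomologicalComplex.Hom.isoOfComponents (fun i => eTerm D i) ?_⟩
  intro i j hij
  have hij' : i + 1 = j := hij
  subst hij'
  exact (eTerm_comm D i).symm


end Iso

end Groth.Agent.R2.H52.CycLift
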