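import Mathlib
import Groth.Agent.Lib.Helper14FTDimB

/-!
# helper52: Noether normalization of the closed fibre lifted over a discrete valuation ring
-/

set_option autoImplicit false

namespace Groth.Agent.R2.H52.DVRNoether

open IsLocalRing MvPolynomial

universe u

attribute [local instance] Ideal.Quotient.field

variable (A : Type u) [CommRing A] [IsDomain A] [IsDiscreteValuationRing A]
  (B : Type u) [CommRing B] [Algebra A B] [Module.Flat A B]

/-- a polynomial all of whose coefficients are divisible by every power of the uniformizer is 0 -/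
theorem eq_zero_of_forall_pow_dvd {d : ℕ} (ϖ : A) (hϖ : Irreducible ϖ)
    (f : MvPolynomial (Fin d) A)
    (h : ∀ n : ℕ, ∃ h : MvPolynomial (Fin d) A, f = C (ϖ ^ n) * h) : f = 0 := by
  ext m
  rw [coeff_zero]
  have hH : IsHausdorff (maximalIdeal A) A := inferInstance
  apply hH.haus'
  intro n
  obtain ⟨h', rfl⟩ := h n
  rw [SModEq.zero, coeff_C_mul, smul_eq_mul, Ideal.mul_top, hϖ.maximalIdeal_eq,
    Ideal.span_singleton_pow]
  exact Ideal.mul_mem_right _ _ (Ideal.mem_span_singleton_self _)

theorem main (d : ℕ)
    [Algebra.FiniteType A (B ⧸ Ideal.map (algebraMap A B) (IsLocalRing.maximalIdeal A))]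
    (hd : ringKrullDim (B ⧸ Ideal.map (algebraMap A B) (IsLocalRing.maximalIdeal A)) = d) :
    ∃ φ : MvPolynomial (Fin d) A →ₐ[A] B, Function.Injective φ ∧
      (Function.Injective (MvPolynomial.eval₂Hom
          (Ideal.quotientMap (Ideal.map (algebraMap A B) (IsLocalRing.maximalIdeal A))
            (algebraMap A B) Ideal.le_comap_map)
          (fun i => Ideal.Quotient.mk (Ideal.map (algebraMap A B) (IsLocalRing.maximalIdeal A))
            (φ (MvPolynomial.X i)))) ∧
        (MvPolynomial.eval₂Hom
          (Ideal.quotientMap (Ideal.map (algebraMap A B) (IsLocalRing.maximalIdeal A))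
            (algebraMap A B) Ideal.le_comap_map)
          (fun i => Ideal.Quotient.mk (Ideal.map (algebraMap A B) (IsLocalRing.maximalIdeal A))
            (φ (MvPolynomial.X i)))).Finite) := by
  have hft : Algebra.FiniteType (A ⧸ maximalIdeal A)
      (B ⧸ Ideal.map (algebraMap A B) (maximalIdeal A)) :=
    Algebra.FiniteType.of_restrictScalars_finiteType A _ _
  have hnt : Nontrivial (B ⧸ Ideal.map (algebraMap A B) (maximalIdeal A)) := by
    by_contra hcon
    rw [not_nontrivial_iff_subsingleton] at hcon
    rw [ringKrullDim_eq_bot_of_subsingleton] at hd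
    exact WithBot.bot_ne_coe hd
  obtain ⟨s, g, hginj, hgfin⟩ := exists_finite_inj_algHom_of_fg (A ⧸ maximalIdeal A)
    (B ⧸ Ideal.map (algebraMap A B) (maximalIdeal A))
  have hs : s = d := by
    have h1 := Groth.Agent.Lib.Helper14.FTDim.ringKrullDim_of_finite_injective g hginj hgfin
    rw [hd, Fintype.card_fin] at h1
    exact_mod_cast h1.symm
  subst hs
  -- lifts of the images of the variables
  choose b hb using fun i : Fin s => Ideal.Quotient.mk_surjective (g (X i))
  let φ : MvPolynomial (Fin s) A →ₐ[A] B := aeval b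
  -- the reduction of `φ` is `g`
  have hgeq : MvPolynomial.eval₂Hom
      (Ideal.quotientMap (Ideal.map (algebraMap A B) (IsLocalRing.maximalIdeal A))
        (algebraMap A B) Ideal.le_comap_map)
      (fun i => Ideal.Quotient.mk (Ideal.map (algebraMap A B) (IsLocalRing.maximalIdeal A))
        (φ (MvPolynomial.X i))) = g.toRingHom := by
    apply MvPolynomial.ringHom_ext
    · intro c
      rw [eval₂Hom_C]
      exact (g.commutes c).symm
    · intro i
      rw [eval₂Hom_X']
      simp only [φ, aeval_X, hb]
      rfl
  refine ⟨φ, ?_, ?_, ?_⟩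
  · obtain ⟨ϖ, hϖ⟩ := IsDiscreteValuationRing.exists_irreducible A
    have hcompat : ∀ h : MvPolynomial (Fin s) A,
        g (MvPolynomial.map (Ideal.Quotient.mk (maximalIdeal A)) h) =
          Ideal.Quotient.mk (Ideal.map (algebraMap A B) (maximalIdeal A)) (φ h) := by
      intro h
      have : g.toRingHom.comp (MvPolynomial.map (Ideal.Quotient.mk (maximalIdeal A))) =
          (Ideal.Quotient.mk (Ideal.map (algebraMap A B) (maximalIdeal A))).comp φ.toRingHom := by
        apply MvPolynomial.ringHom_ext
        · intro c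
          simp only [RingHom.comp_apply, map_C, AlgHom.toRingHom_eq_coe, RingHom.coe_coe,
            φ, algHom_C]
          rfl
        · intro i
          simp only [RingHom.comp_apply, map_X, AlgHom.toRingHom_eq_coe, RingHom.coe_coe,
            φ, aeval_X, hb]
      exact congrArg (fun ψ => ψ h) this
    have hreg : IsSMulRegular B ϖ :=
      Module.Flat.isSMulRegular_of_nonZeroDivisors
        (mem_nonZeroDivisors_of_ne_zero hϖ.ne_zero)
    have step : ∀ h : MvPolynomial (Fin s) A, φ h = 0 →
        ∃ h₁ : MvPolynomial (Fin s) A, h = C ϖ * h₁ ∧ φ h₁ = 0 := by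
      intro h hh
      have h0 : MvPolynomial.map (Ideal.Quotient.mk (maximalIdeal A)) h = 0 := by
        apply hginj
        rw [hcompat, hh, map_zero, map_zero]
      have hmem : h ∈ Ideal.map (C : A →+* MvPolynomial (Fin s) A) (maximalIdeal A) := by
        have := MvPolynomial.ker_map (σ := Fin s) (Ideal.Quotient.mk (maximalIdeal A))
        rw [Ideal.mk_ker] at this
        rw [← this]
        exact (RingHom.mem_ker).mpr h0
      rw [hϖ.maximalIdeal_eq, Ideal.map_span, Set.image_singleton,
        Ideal.mem_span_singleton] at hmem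
      obtain ⟨h₁, rfl⟩ := hmem
      refine ⟨h₁, rfl, ?_⟩
      rw [map_mul] at hh
      simp only [φ, algHom_C] at hh
      rw [← Algebra.smul_def] at hh
      apply hreg
      change ϖ • φ h₁ = ϖ • 0
      rw [smul_zero]
      exact hh
    rw [injective_iff_map_eq_zero]
    intro f hf
    apply eq_zero_of_forall_pow_dvd A ϖ hϖ
    intro n
    suffices ∃ h : MvPolynomial (Fin s) A, f = C (ϖ ^ n) * h ∧ φ h = 0 by
      obtain ⟨h, hh, -⟩ := this
      exact ⟨h, hh⟩
    induction n with
    | zero => exact ⟨f, by simp, hf⟩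
    | succ n ih =>
      obtain ⟨h, hh, hφh⟩ := ih
      obtain ⟨h₁, hh₁, hφh₁⟩ := step h hφh
      refine ⟨h₁, ?_, hφh₁⟩
      rw [hh, hh₁, pow_succ, C_mul, mul_assoc]
  · rw [hgeq]
    exact hginj
  · rw [hgeq]
    exact hgfin

end Groth.Agent.R2.H52.DVRNoether
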