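import Mathlib
import Groth.Agent.S11566

/-!
# helper52: the different of an extension of Dedekind domains and the trace of the fibre

`map_dvd_differentIdeal_of_forall_intTrace_mem`: if the integral trace maps `B` into the maximal
ideal `p` of `A`, then `p B` divides the different of `B/A`.
-/

set_option autoImplicit false

namespace Groth.Agent.R2.H52.Different

open Module nonZeroDivisors Algebra

attribute [local instance] FractionRing.liftAlgebra FractionRing.isScalarTower_liftAlgebra

variable (A B : Type*) [CommRing A] [CommRing B] [Algebra A B]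
  [IsDedekindDomain A] [IsDedekindDomain B] [IsTorsionFree A B] [Module.Finite A B]

theorem map_dvd_differentIdeal_of_forall_intTrace_mem
    [Algebra.IsSeparable (FractionRing A) (FractionRing B)]
    {p : Ideal A} [p.IsMaximal] (hp : p ≠ ⊥) (h : ∀ x : B, Algebra.intTrace A B x ∈ p) :
    p.map (algebraMap A B) ∣ differentIdeal A B := by
  have : IsLocalization (algebraMapSubmonoid B A⁰) (FractionRing B) :=
    IsIntegralClosure.isLocalization _ (FractionRing A) _ _
  have : FiniteDimensional (FractionRing A) (FractionRing B) := .of_isLocalization A B A⁰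
  have hp' : p.map (algebraMap A B) ≠ ⊥ :=
    (Ideal.map_eq_bot_iff_of_injective (FaithfulSMul.algebraMap_injective A B)).not.mpr hp
  rw [Ideal.dvd_iff_le, differentialIdeal_le_iff (K := FractionRing A) (L := FractionRing B) hp',
    Submodule.map_le_iff_le_comap]
  intro x hx
  rw [Submodule.restrictScalars_mem, FractionalIdeal.mem_coe, inv_eq_one_div,
    FractionalIdeal.mem_div_iff_of_ne_zero (by simpa using hp')] at hx
  rw [Submodule.mem_comap, LinearMap.coe_restrictScalars, ← FractionalIdeal.coe_one,
    ← div_self (G₀ := FractionalIdeal A⁰ (FractionRing A)) (a := p) (by simpa using hp),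
    FractionalIdeal.mem_coe, FractionalIdeal.mem_div_iff_of_ne_zero (by simpa using hp)]
  intro y hy'
  obtain ⟨y, hy, rfl⟩ := (FractionalIdeal.mem_coeIdeal _).mp hy'
  have h1 : x * algebraMap B (FractionRing B) (algebraMap A B y) ∈
      (1 : FractionalIdeal B⁰ (FractionRing B)) :=
    hx _ ((FractionalIdeal.mem_coeIdeal _).mpr ⟨_, Ideal.mem_map_of_mem _ hy, rfl⟩)
  obtain ⟨z, hz⟩ := (FractionalIdeal.mem_one_iff _).mp h1
  have h2 : Algebra.trace (FractionRing A) (FractionRing B) (algebraMap B (FractionRing B) z) ∈
      (p : FractionalIdeal A⁰ (FractionRing A)) := by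
    rw [← algebraMap_intTrace (A := A)]
    exact (FractionalIdeal.mem_coeIdeal _).mpr ⟨intTrace A B z, h z, rfl⟩
  rwa [hz, ← IsScalarTower.algebraMap_apply, IsScalarTower.algebraMap_apply A (FractionRing A)
    (FractionRing B), mul_comm, ← Algebra.smul_def, map_smul, smul_eq_mul, mul_comm] at h2


section DVR

open IsLocalRing

universe u

variable (A B : Type u) [CommRing A] [IsDomain A] [IsDiscreteValuationRing A]
  [CommRing B] [IsDomain B] [IsDiscreteValuationRing B] [Algebra A B] [Module.Finite A B]
  [Module.IsTorsionFree A B] [IsLocalHom (algebraMap A B)]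

omit [Module.Finite A B] [IsLocalHom (algebraMap A B)] in
theorem map_maximalIdeal_ne_bot :
    (maximalIdeal A).map (algebraMap A B) ≠ ⊥ :=
  (Ideal.map_eq_bot_iff_of_injective (FaithfulSMul.algebraMap_injective A B)).not.mpr
    (IsDiscreteValuationRing.not_a_field A)

omit [Module.Finite A B] in
/-- `m_A B = m_B ^ e` with `e` the ramification index. -/
theorem map_maximalIdeal_eq_pow :
    (maximalIdeal A).map (algebraMap A B) =
      maximalIdeal B ^ (Ideal.ramificationIdx (maximalIdeal B) A) := by
  have hp0 := map_maximalIdeal_ne_bot A B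
  obtain ⟨n, hn⟩ := exists_maximalIdeal_pow_eq_of_principal B
    (IsPrincipalIdealRing.principal _) _ hp0
  have hq0 : maximalIdeal B ≠ 0 := IsDiscreteValuationRing.not_a_field B
  have hqu : ¬ IsUnit (maximalIdeal B) := by
    rw [Ideal.isUnit_iff]
    exact (maximalIdeal.isMaximal B).ne_top
  have he : Ideal.ramificationIdx (maximalIdeal B) A = n := by
    rw [Ideal.IsDedekindDomain.ramificationIdx_eq_multiplicity (maximalIdeal A) (maximalIdeal B) hp0,
      hn, multiplicity_pow_self hq0 hqu]
  rw [he, hn]

variable [Algebra.IsSeparable (FractionRing A) (FractionRing B)]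

/-- The different is `m_B ^ (e - 1)` iff some integral trace is a unit. -/
theorem differentIdeal_eq_pow_sub_one_iff_exists_intTrace_not_mem :
    differentIdeal A B = maximalIdeal B ^ (Ideal.ramificationIdx (maximalIdeal B) A - 1) ↔
      ∃ x : B, Algebra.intTrace A B x ∉ maximalIdeal A := by
  have hp : maximalIdeal A ≠ ⊥ := IsDiscreteValuationRing.not_a_field A
  have hmap := map_maximalIdeal_eq_pow A B
  have hq0 : maximalIdeal B ≠ 0 := IsDiscreteValuationRing.not_a_field B
  have hqu : ¬ IsUnit (maximalIdeal B) := by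
    rw [Ideal.isUnit_iff]
    exact (maximalIdeal.isMaximal B).ne_top
  have hpos : 0 < Ideal.ramificationIdx (maximalIdeal B) A :=
    Ideal.ramificationIdx_pos (maximalIdeal B) A
  obtain ⟨d, hd⟩ := exists_maximalIdeal_pow_eq_of_principal B
    (IsPrincipalIdealRing.principal _) _ (differentIdeal_ne_bot (A := A) (B := B))
  have h1 : maximalIdeal B ^ (Ideal.ramificationIdx (maximalIdeal B) A - 1) ∣
      differentIdeal A B :=
    pow_sub_one_dvd_differentIdeal A (p := maximalIdeal A) (maximalIdeal B) _ hp
      (by rw [hmap])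
  rw [hd, pow_dvd_pow_iff hq0 hqu] at h1
  have key : maximalIdeal B ^ (Ideal.ramificationIdx (maximalIdeal B) A) ∣ differentIdeal A B ↔
      ∀ x : B, Algebra.intTrace A B x ∈ maximalIdeal A := by
    constructor
    · intro hdvd
      by_contra hcon
      push Not at hcon
      obtain ⟨x, hx⟩ := hcon
      exact not_dvd_differentIdeal_of_intTrace_not_mem A (p := maximalIdeal A)
        (maximalIdeal B ^ (Ideal.ramificationIdx (maximalIdeal B) A)) ⊤
        (by rw [Ideal.mul_top, hmap]) x trivial hx hdvd
    · intro h
      rw [← hmap]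
      exact map_dvd_differentIdeal_of_forall_intTrace_mem A B hp h
  rw [hd, pow_dvd_pow_iff hq0 hqu] at key
  constructor
  · intro heq
    by_contra hcon
    push Not at hcon
    have h2 := key.mpr hcon
    have h3 : d = Ideal.ramificationIdx (maximalIdeal B) A - 1 := by
      have h4 : maximalIdeal B ^ d ∣
          maximalIdeal B ^ (Ideal.ramificationIdx (maximalIdeal B) A - 1) := by
        rw [← hd, heq]
      rw [pow_dvd_pow_iff hq0 hqu] at h4
      omega
    omega
  · rintro ⟨x, hx⟩
    have h2 : ¬ Ideal.ramificationIdx (maximalIdeal B) A ≤ d := fun hle => hx (key.mp hle x)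
    have h3 : d = Ideal.ramificationIdx (maximalIdeal B) A - 1 := by omega
    rw [hd, h3]

attribute [local instance] Ideal.Quotient.field

omit [Algebra.IsSeparable (FractionRing A) (FractionRing B)] [IsLocalHom (algebraMap A B)] in
theorem exists_intTrace_not_mem_iff_surjective :
    (∃ x : B, Algebra.intTrace A B x ∉ maximalIdeal A) ↔
      Function.Surjective (Algebra.trace (A ⧸ maximalIdeal A)
        (B ⧸ (maximalIdeal A).map (algebraMap A B))) := by
  have hT := fun x => Algebra.trace_quotient_eq_of_isDedekindDomain (R := A) (S := B)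
    (maximalIdeal A) x
  constructor
  · rintro ⟨x, hx⟩
    have hne : Algebra.trace (A ⧸ maximalIdeal A) (B ⧸ (maximalIdeal A).map (algebraMap A B))
        (Ideal.Quotient.mk _ x) ≠ 0 := by
      rw [hT x, Ne, Ideal.Quotient.eq_zero_iff_mem]
      exact hx
    intro c
    refine ⟨(c * (Algebra.trace (A ⧸ maximalIdeal A) (B ⧸ (maximalIdeal A).map (algebraMap A B))
        (Ideal.Quotient.mk _ x))⁻¹) • (Ideal.Quotient.mk _ x), ?_⟩
    rw [map_smul, smul_eq_mul, mul_assoc, inv_mul_cancel₀ hne, mul_one]
  · intro hsurj
    obtain ⟨c, hc⟩ := hsurj 1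
    obtain ⟨x, rfl⟩ := Ideal.Quotient.mk_surjective c
    refine ⟨x, fun hx => ?_⟩
    rw [hT x, (Ideal.Quotient.eq_zero_iff_mem).mpr hx] at hc
    exact zero_ne_one hc

omit [Module.Finite A B] [Module.IsTorsionFree A B] in
theorem map_maximalIdeal_le : (maximalIdeal A).map (algebraMap A B) ≤ maximalIdeal B := by
  rw [Ideal.map_le_iff_le_comap]
  exact (Ideal.over_def (maximalIdeal B) (maximalIdeal A)).le

omit [Algebra.IsSeparable (FractionRing A) (FractionRing B)] in
theorem surjective_trace_iff_tame :
    Function.Surjective (Algebra.trace (A ⧸ maximalIdeal A)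
        (B ⧸ (maximalIdeal A).map (algebraMap A B))) ↔
      (Algebra.IsSeparable (ResidueField A) (ResidueField B) ∧
        ((Ideal.ramificationIdx (maximalIdeal B) A : ℕ) : ResidueField A) ≠ 0) := by
  have hle := map_maximalIdeal_le A B
  have : Nontrivial (B ⧸ (maximalIdeal A).map (algebraMap A B)) :=
    Ideal.Quotient.nontrivial_iff.mpr
      (ne_top_of_le_ne_top (maximalIdeal.isMaximal B).ne_top hle)
  have : IsLocalRing (B ⧸ (maximalIdeal A).map (algebraMap A B)) :=
    IsLocalRing.of_surjective' (Ideal.Quotient.mk _) Ideal.Quotient.mk_surjective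
  have : Module.Finite (A ⧸ maximalIdeal A) (B ⧸ (maximalIdeal A).map (algebraMap A B)) :=
    Module.Finite.of_restrictScalars_finite A _ _
  rw [Groth.Agent.S11566.result (A ⧸ maximalIdeal A) (B ⧸ (maximalIdeal A).map (algebraMap A B))]
  -- the length
  have hlen : Module.length (B ⧸ (maximalIdeal A).map (algebraMap A B))
      (B ⧸ (maximalIdeal A).map (algebraMap A B)) =
        ((Ideal.ramificationIdx (maximalIdeal B) A : ℕ) : ℕ∞) := by
    rw [← Module.length_eq_of_surjective (S := B)
      (R := B ⧸ (maximalIdeal A).map (algebraMap A B)) Ideal.Quotient.mk_surjective,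
      (Submodule.quotEquivOfEq _ _ (map_maximalIdeal_eq_pow A B)).length_eq,
      IsDiscreteValuationRing.length_quotient_pow_maximalIdeal]
  rw [hlen, ENat.toNat_natCast]
  have : IsLocalHom (Ideal.Quotient.mk ((maximalIdeal A).map (algebraMap A B))) :=
    IsLocalHom.of_surjective _ Ideal.Quotient.mk_surjective
  let φ : ResidueField B →+* ResidueField (B ⧸ (maximalIdeal A).map (algebraMap A B)) :=
    ResidueField.map (Ideal.Quotient.mk ((maximalIdeal A).map (algebraMap A B)))
  have hφ : Function.Bijective φ := by
    refine ⟨φ.injective, fun y => ?_⟩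
    obtain ⟨c, rfl⟩ := IsLocalRing.residue_surjective y
    obtain ⟨b, rfl⟩ := Ideal.Quotient.mk_surjective c
    exact ⟨residue B b, rfl⟩
  let ψ : ResidueField B ≃+* ResidueField (B ⧸ (maximalIdeal A).map (algebraMap A B)) :=
    RingEquiv.ofBijective φ hφ
  let ι : (A ⧸ maximalIdeal A) ≃+* ResidueField A := RingEquiv.refl _
  have hcomp : (algebraMap (A ⧸ maximalIdeal A)
        (ResidueField (B ⧸ (maximalIdeal A).map (algebraMap A B)))).comp (ι.symm : _ →+* _) =
      (ψ : _ →+* _).comp (algebraMap (ResidueField A) (ResidueField B)) := by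
    ext a
    obtain ⟨a, rfl⟩ := IsLocalRing.residue_surjective a
    rfl
  have hcomp' : (algebraMap (ResidueField A) (ResidueField B)).comp (ι : _ →+* _) =
      (ψ.symm : _ →+* _).comp (algebraMap (A ⧸ maximalIdeal A)
        (ResidueField (B ⧸ (maximalIdeal A).map (algebraMap A B)))) := by
    ext a
    apply ψ.injective
    simp only [RingHom.coe_comp, RingHom.coe_coe, Function.comp_apply, RingEquiv.apply_symm_apply]
    rfl
  have hsep : Algebra.IsSeparable (A ⧸ maximalIdeal A)
      (ResidueField (B ⧸ (maximalIdeal A).map (algebraMap A B))) ↔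
      Algebra.IsSeparable (ResidueField A) (ResidueField B) := by
    constructor
    · intro h
      exact Algebra.IsSeparable.of_equiv_equiv ι ψ.symm hcomp'
    · intro h
      exact Algebra.IsSeparable.of_equiv_equiv ι.symm ψ hcomp
  rw [hsep]
  rfl

end DVR

end Groth.Agent.R2.H52.Different
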