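import Mathlib

/-!
# helper52: global functions of a flat scheme over a local Artinian ring (S11468)

Algebraic key lemma: over a local ring `C`, for a flat module `M`, an ideal `J'` and `c ∉ J'`,
`c • x ∈ J' M` implies `x ∈ 𝔪 M`.
-/

set_option autoImplicit false

namespace Groth.Agent.R2.H52.FlatArtin

open IsLocalRing

section Algebra

variable {C : Type*} [CommRing C] [IsLocalRing C] {M : Type*} [AddCommGroup M] [Module C M]
  [Module.Flat C M]

theorem mem_smul_top_of_smul_mem (J' : Ideal C) (c : C) (hc : c ∉ J') (x : M)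
    (hx : c • x ∈ J' • (⊤ : Submodule C M)) : x ∈ maximalIdeal C • (⊤ : Submodule C M) := by
  classical
  have hx' : c • x ∈ J' • Submodule.span C (Set.range (id : M → M)) := by
    rw [Set.range_id, Submodule.span_univ]
    exact hx
  obtain ⟨a, ha, hsum⟩ := (Submodule.mem_ideal_smul_span_iff_exists_sum J' (id : M → M) (c • x)).mp hx'
  let f : Option a.support → C := fun o => o.elim c (fun i => - a i)
  let xx : Option a.support → M := fun o => o.elim x (fun i => (i : M))
  have hrel : ∑ o, f o • xx o = 0 := by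
    rw [Fintype.sum_option]
    simp only [f, xx, Option.elim_none, Option.elim_some, neg_smul, Finset.sum_neg_distrib]
    rw [← hsum, Finsupp.sum, ← Finset.sum_coe_sort a.support]
    simp
  obtain ⟨l, b, y, hxy, hb⟩ := Module.Flat.isTrivialRelation_of_sum_smul_eq_zero hrel
  have hx0 := hxy none
  simp only [xx, Option.elim_none] at hx0
  rw [hx0]
  refine Submodule.sum_mem _ fun j _ => Submodule.smul_mem_smul ?_ trivial
  have hj := hb j
  rw [Fintype.sum_option] at hj
  simp only [f, Option.elim_none, Option.elim_some, neg_mul, Finset.sum_neg_distrib] at hj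
  have hmem : c * b none j ∈ J' := by
    rw [add_neg_eq_zero] at hj
    rw [hj]
    exact Ideal.sum_mem _ fun i _ => Ideal.mul_mem_right _ _ (ha _)
  by_contra hnot
  have hunit : IsUnit (b none j) := by
    rwa [mem_maximalIdeal, mem_nonunits_iff, not_not] at hnot
  exact hc ((Ideal.mul_unit_mem_iff_mem J' hunit).mp hmem)

theorem mem_map_of_mul_mem {A : Type*} [CommRing A] (f : C →+* A) (hf : f.Flat)
    (J' : Ideal C) (c : C) (hc : c ∉ J') (x : A) (hx : f c * x ∈ Ideal.map f J') :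
    x ∈ Ideal.map f (maximalIdeal C) := by
  let _ := f.toAlgebra
  have hflat : Module.Flat C A := hf
  have h1 : c • x ∈ J' • (⊤ : Submodule C A) := by
    rw [Ideal.smul_top_eq_map, Submodule.restrictScalars_mem, Algebra.smul_def]
    exact hx
  have h2 := mem_smul_top_of_smul_mem J' c hc x h1
  rw [Ideal.smul_top_eq_map, Submodule.restrictScalars_mem] at h2
  exact h2

/-- In a local artinian ring every nonzero ideal `J` covers some `J'`, with `J = J' + (c)` and
`𝔪 c ⊆ J'`. -/
theorem exists_covBy_data [IsArtinianRing C] (J : Ideal C) (hJ : J ≠ ⊥) :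
    ∃ (J' : Ideal C) (c : C), J' < J ∧ c ∈ J ∧ c ∉ J' ∧ J = J' ⊔ Ideal.span {c} ∧
      ∀ μ ∈ maximalIdeal C, μ * c ∈ J' := by
  have hmin : ¬ IsMin J := by
    rw [isMin_iff_eq_bot]
    exact hJ
  obtain ⟨J', hcov⟩ := exists_covBy_of_wellFoundedGT hmin
  obtain ⟨c, hcJ, hcJ'⟩ := SetLike.exists_of_lt hcov.lt
  have hsup : ∀ d : C, d ∈ J → d ∉ J' → J = J' ⊔ Ideal.span {d} := by
    intro d hdJ hdJ'
    have h1 : J' < J' ⊔ Ideal.span {d} := by
      apply lt_of_le_of_ne le_sup_left
      intro h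
      apply hdJ'
      rw [h]
      exact Ideal.mem_sup_right (Ideal.mem_span_singleton_self d)
    have h2 : J' ⊔ Ideal.span {d} ≤ J :=
      sup_le hcov.lt.le ((Ideal.span_singleton_le_iff_mem J).mpr hdJ)
    by_contra hne
    exact hcov.2 h1 (lt_of_le_of_ne h2 (Ne.symm hne))
  refine ⟨J', c, hcov.lt, hcJ, hcJ', hsup c hcJ hcJ', ?_⟩
  intro μ hμ
  by_contra hcon
  have h3 := hsup (μ * c) (J.mul_mem_left μ hcJ) hcon
  have h4 : c ∈ J' ⊔ Ideal.span {μ * c} := h3 ▸ hcJ
  rw [Submodule.mem_sup] at h4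
  obtain ⟨j, hj, z, hz, hjz⟩ := h4
  rw [Ideal.mem_span_singleton'] at hz
  obtain ⟨a, rfl⟩ := hz
  have h5 : (1 - a * μ) * c = j := by
    linear_combination (-1 : C) * hjz
  have hunit : IsUnit (1 - a * μ) := by
    have h6 : a * μ ∈ maximalIdeal C := Ideal.mul_mem_left _ a hμ
    have h7 := (mem_maximalIdeal _).mp h6
    by_contra h8
    have h9 : (1 - a * μ) ∈ maximalIdeal C := (mem_maximalIdeal _).mpr h8
    have h10 : (1 : C) ∈ maximalIdeal C := by
      have := Ideal.add_mem _ h9 h6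
      rwa [sub_add_cancel] at this
    exact (maximalIdeal.isMaximal C).ne_top ((Ideal.eq_top_iff_one _).mpr h10)
  apply hcJ'
  have h11 : (1 - a * μ) * c ∈ J' := h5 ▸ hj
  exact (Ideal.unit_mul_mem_iff_mem J' hunit).mp h11

end Algebra

section Sheaf

open AlgebraicGeometry CategoryTheory TopologicalSpace Opposite

universe u

variable {X₀ X : Scheme.{u}} (i : X₀ ⟶ X)

/-- the preimages of the affine opens contained in `W` cover `i ⁻¹ᵁ W` -/
theorem preimage_le_iSup_affine (W : X.Opens) :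
    i ⁻¹ᵁ W ≤ ⨆ V : {V : X.affineOpens // V.1 ≤ W}, i ⁻¹ᵁ V.1.1 := by
  intro x hx
  obtain ⟨V, hV, hxV, hVW⟩ := exists_isAffineOpen_mem_and_subset (x := i x) (U := W) hx
  exact Opens.mem_iSup.mpr ⟨⟨⟨V, hV⟩, hVW⟩, hxV⟩

/-- separation on the cover by preimages of affine opens -/
theorem eq_of_forall_affine (W : X.Opens) (s t : Γ(X₀, i ⁻¹ᵁ W))
    (h : ∀ (V : X.affineOpens) (hV : V.1 ≤ W),
      X₀.presheaf.map (homOfLE (i.preimage_mono hV)).op s =
        X₀.presheaf.map (homOfLE (i.preimage_mono hV)).op t) : s = t := by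
  refine TopCat.Sheaf.eq_of_locally_eq' X₀.sheaf
    (fun V : {V : X.affineOpens // V.1 ≤ W} => i ⁻¹ᵁ V.1.1) (i ⁻¹ᵁ W)
    (fun V => homOfLE (i.preimage_mono V.2)) (preimage_le_iSup_affine i W) s t ?_
  intro V
  exact h V.1 V.2

/-- gluing on the cover by preimages of affine opens -/
theorem exists_glue (sf : ∀ U : X.affineOpens, Γ(X₀, i ⁻¹ᵁ U.1))
    (hcompat : ∀ (U V : X.affineOpens) (hVU : V.1 ≤ U.1),
      X₀.presheaf.map (homOfLE (i.preimage_mono hVU)).op (sf U) = sf V) :
    ∃ a : Γ(X₀, ⊤), ∀ U : X.affineOpens,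
      X₀.presheaf.map (homOfLE (le_top : i ⁻¹ᵁ U.1 ≤ ⊤)).op a = sf U := by
  have hcover : (⊤ : X₀.Opens) ≤ ⨆ U : X.affineOpens, i ⁻¹ᵁ U.1 := by
    intro x _
    obtain ⟨V, hV, hxV, -⟩ := exists_isAffineOpen_mem_and_subset (x := i x) (U := ⊤) trivial
    exact Opens.mem_iSup.mpr ⟨⟨V, hV⟩, hxV⟩
  have hc : TopCat.Presheaf.IsCompatible X₀.sheaf.1 (fun U : X.affineOpens => i ⁻¹ᵁ U.1) sf := by
    intro U U'
    refine eq_of_forall_affine i (U.1 ⊓ U'.1) _ _ ?_
    intro V hV
    have h1 := hcompat U V (hV.trans inf_le_left)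
    have h2 := hcompat U' V (hV.trans inf_le_right)
    change (X₀.presheaf.map _ ≫ X₀.presheaf.map _) (sf U) =
      (X₀.presheaf.map _ ≫ X₀.presheaf.map _) (sf U')
    rw [← X₀.presheaf.map_comp, ← X₀.presheaf.map_comp]
    exact h1.trans h2.symm
  obtain ⟨a, ha, -⟩ := TopCat.Sheaf.existsUnique_gluing' X₀.sheaf
    (fun U : X.affineOpens => i ⁻¹ᵁ U.1) ⊤ (fun U => homOfLE le_top) hcover sf hc
  exact ⟨a, ha⟩

end Sheaf

section Square

open AlgebraicGeometry CategoryTheory TopologicalSpace Opposite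

universe u

variable {C : Type u} [CommRing C] [IsLocalRing C] {X X₀ : Scheme.{u}}
  {g : X ⟶ Spec (CommRingCat.of C)} {i : X₀ ⟶ X}
  {f₀ : X₀ ⟶ Spec (CommRingCat.of (C ⧸ maximalIdeal C))}

/-- the structure map `C → Γ(X, ⊤)` -/
noncomputable abbrev phi (g : X ⟶ Spec (CommRingCat.of C)) : CommRingCat.of C ⟶ Γ(X, ⊤) :=
  (Scheme.ΓSpecIso (CommRingCat.of C)).inv ≫ g.appTop

/-- the structure map `C → Γ(X, U)` -/
noncomputable abbrev psi (g : X ⟶ Spec (CommRingCat.of C)) (U : X.Opens) :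
    CommRingCat.of C ⟶ Γ(X, U) :=
  phi g ≫ X.presheaf.map (homOfLE (le_top : U ≤ ⊤)).op

theorem phi_comp_appTop
    (hw : i ≫ g = f₀ ≫ Spec.map (CommRingCat.ofHom (Ideal.Quotient.mk (maximalIdeal C)))) :
    phi g ≫ i.appTop =
      CommRingCat.ofHom (Ideal.Quotient.mk (maximalIdeal C)) ≫
        ((Scheme.ΓSpecIso (CommRingCat.of (C ⧸ maximalIdeal C))).inv ≫ f₀.appTop) := by
  rw [phi, Category.assoc, ← Scheme.Hom.comp_appTop, hw, Scheme.Hom.comp_appTop,
    ← Category.assoc, ← Category.assoc, Scheme.ΓSpecIso_inv_naturality]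

theorem psi_comp_app
    (hw : i ≫ g = f₀ ≫ Spec.map (CommRingCat.ofHom (Ideal.Quotient.mk (maximalIdeal C))))
    (U : X.Opens) :
    psi g U ≫ i.app U =
      CommRingCat.ofHom (Ideal.Quotient.mk (maximalIdeal C)) ≫
        ((Scheme.ΓSpecIso (CommRingCat.of (C ⧸ maximalIdeal C))).inv ≫ f₀.appTop) ≫
          X₀.presheaf.map (homOfLE (le_top : i ⁻¹ᵁ U ≤ ⊤)).op := by
  rw [psi, Category.assoc, i.naturality, ← Category.assoc]
  have := phi_comp_appTop (g := g) (i := i) (f₀ := f₀) hw
  have h2 := congrArg (fun z => z ≫ X₀.presheaf.map (homOfLE (le_top : i ⁻¹ᵁ U ≤ ⊤)).op) this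
  simp only [Category.assoc] at h2 ⊢
  exact h2

omit [IsLocalRing C] in
theorem fromSpec_comp (g : X ⟶ Spec (CommRingCat.of C)) {U : X.Opens} (hU : IsAffineOpen U) :
    hU.fromSpec ≫ g = Spec.map (psi g U) := by
  apply ext_to_Spec
  change _ ≫ (hU.fromSpec ≫ g).appTop = _ ≫ (Spec.map (psi g U)).appTop
  rw [← Scheme.ΓSpecIso_inv_naturality, Scheme.Hom.comp_appTop, psi, phi]
  have : hU.fromSpec.appTop = X.presheaf.map (homOfLE (le_top : U ≤ ⊤)).op ≫
      (Scheme.ΓSpecIso Γ(X, U)).inv := by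
    rw [Scheme.Hom.appTop, hU.fromSpec_app_of_le ⊤ le_top]
    simp
  rw [this]
  simp only [Category.assoc]

theorem ker_app_le
    (hsq : IsPullback i f₀ g
      (Spec.map (CommRingCat.ofHom (Ideal.Quotient.mk (maximalIdeal C)))))
    {U : X.Opens} (hU : IsAffineOpen U) :
    RingHom.ker (i.app U).hom ≤ Ideal.map (psi g U).hom (maximalIdeal C) := by
  let qA : Γ(X, U) ⟶ CommRingCat.of (Γ(X, U) ⧸ Ideal.map (psi g U).hom (maximalIdeal C)) :=
    CommRingCat.ofHom (Ideal.Quotient.mk _)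
  let ψbar : CommRingCat.of (C ⧸ maximalIdeal C) ⟶
      CommRingCat.of (Γ(X, U) ⧸ Ideal.map (psi g U).hom (maximalIdeal C)) :=
    CommRingCat.ofHom (Ideal.quotientMap _ (psi g U).hom Ideal.le_comap_map)
  have hcompat : (Spec.map qA ≫ hU.fromSpec) ≫ g =
      Spec.map ψbar ≫ Spec.map (CommRingCat.ofHom (Ideal.Quotient.mk (maximalIdeal C))) := by
    rw [Category.assoc, fromSpec_comp g hU, ← Spec.map_comp, ← Spec.map_comp]
    congr 1
  let t := hsq.lift (Spec.map qA ≫ hU.fromSpec) (Spec.map ψbar) hcompat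
  have ht : t ≫ i = Spec.map qA ≫ hU.fromSpec := hsq.lift_fst _ _ _
  have hpre : (Spec.map qA ≫ hU.fromSpec) ⁻¹ᵁ U = ⊤ := by
    rw [Scheme.Hom.comp_preimage, hU.fromSpec_preimage_self]
    rfl
  have e1 : (⊤ : (Spec (CommRingCat.of
      (Γ(X, U) ⧸ Ideal.map (psi g U).hom (maximalIdeal C)))).Opens) ≤ (t ≫ i) ⁻¹ᵁ U := by
    rw [ht, hpre]
  have key : i.app U ≫ t.appLE (i ⁻¹ᵁ U) ⊤ e1 =
      qA ≫ (Scheme.ΓSpecIso _).inv := by
    rw [← Scheme.Hom.comp_appLE]
    have h3 : (t ≫ i).appLE U ⊤ e1 = (Spec.map qA ≫ hU.fromSpec).appLE U ⊤ (by rw [hpre]) := by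
      congr 1
    rw [h3, Scheme.Hom.comp_appLE, hU.fromSpec_app_self, Category.assoc, Scheme.Hom.map_appLE,
      Scheme.ΓSpecIso_inv_naturality]
    rfl
  intro s hs
  rw [RingHom.mem_ker] at hs
  have h4 := congrArg (fun φ => φ.hom s) key
  simp only [CommRingCat.hom_comp, RingHom.comp_apply] at h4
  rw [hs, map_zero] at h4
  have h5 : qA.hom s = 0 := by
    have hinj : Function.Injective (Scheme.ΓSpecIso (CommRingCat.of
        (Γ(X, U) ⧸ Ideal.map (psi g U).hom (maximalIdeal C)))).inv.hom :=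
      (ConcreteCategory.bijective_of_isIso _).1
    apply hinj
    rw [map_zero]
    exact h4.symm
  exact Ideal.Quotient.eq_zero_iff_mem.mp h5

end Square

section Main

open AlgebraicGeometry CategoryTheory TopologicalSpace Opposite

universe u

variable {C : Type u} [CommRing C] [IsLocalRing C] {X X₀ : Scheme.{u}}
  {g : X ⟶ Spec (CommRingCat.of C)} {i : X₀ ⟶ X}
  {f₀ : X₀ ⟶ Spec (CommRingCat.of (C ⧸ maximalIdeal C))}

omit [IsLocalRing C] in
theorem flat_psi [Flat g] {U : X.Opens} (hU : IsAffineOpen U) : (psi g U).hom.Flat := by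
  have h1 : (g.appLE ⊤ U le_top).hom.Flat :=
    Flat.flat_appLE g (isAffineOpen_top _) hU le_top
  have h2 : (Scheme.ΓSpecIso (CommRingCat.of C)).inv.hom.Flat :=
    RingHom.Flat.of_bijective (ConcreteCategory.bijective_of_isIso _)
  change ((g.appLE ⊤ U le_top).hom.comp (Scheme.ΓSpecIso (CommRingCat.of C)).inv.hom).Flat
  exact RingHom.Flat.comp h2 h1

omit [IsLocalRing C] in
/-- sections of `X` vanishing on all affine opens vanish -/
theorem eq_of_forall_affine_top (s t : Γ(X, ⊤))
    (h : ∀ U : X.affineOpens, X.presheaf.map (homOfLE (le_top : U.1 ≤ ⊤)).op s =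
      X.presheaf.map (homOfLE (le_top : U.1 ≤ ⊤)).op t) : s = t := by
  refine TopCat.Sheaf.eq_of_locally_eq' X.sheaf (fun U : X.affineOpens => U.1) ⊤
    (fun U => homOfLE le_top) ?_ s t h
  intro x _
  obtain ⟨V, hV, hxV, -⟩ := exists_isAffineOpen_mem_and_subset (x := x) (U := ⊤) trivial
  exact Opens.mem_iSup.mpr ⟨⟨V, hV⟩, hxV⟩

/-- `i.app U` kills `𝔪 Γ(X, U)` -/
theorem app_eq_zero_of_mem_map
    (hw : i ≫ g = f₀ ≫ Spec.map (CommRingCat.ofHom (Ideal.Quotient.mk (maximalIdeal C))))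
    (U : X.Opens) (y : Γ(X, U)) (hy : y ∈ Ideal.map (psi g U).hom (maximalIdeal C)) :
    (i.app U).hom y = 0 := by
  have hle : Ideal.map (psi g U).hom (maximalIdeal C) ≤ RingHom.ker (i.app U).hom := by
    rw [Ideal.map_le_iff_le_comap]
    intro c hc
    rw [Ideal.mem_comap, RingHom.mem_ker]
    have h1 : (i.app U).hom ((psi g U).hom c) =
        (X₀.presheaf.map (homOfLE (le_top : i ⁻¹ᵁ U ≤ ⊤)).op).hom
          (((Scheme.ΓSpecIso (CommRingCat.of (C ⧸ maximalIdeal C))).inv ≫ f₀.appTop).hom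
            (Ideal.Quotient.mk (maximalIdeal C) c)) :=
      congrArg (fun φ => φ.hom c) (psi_comp_app (g := g) (i := i) (f₀ := f₀) hw U)
    rw [h1, (Ideal.Quotient.eq_zero_iff_mem).mpr hc, map_zero, map_zero]
  exact (RingHom.mem_ker).mp (hle hy)

/-- the main induction -/
theorem exists_of_forall_mem [IsArtinianRing C] [Flat g]
    (hsq : IsPullback i f₀ g
      (Spec.map (CommRingCat.ofHom (Ideal.Quotient.mk (maximalIdeal C)))))
    (h0 : Function.Surjective
      ((Scheme.ΓSpecIso (CommRingCat.of (C ⧸ maximalIdeal C))).inv ≫ f₀.appTop).hom)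
    (J : Ideal C) : ∀ s : Γ(X, ⊤),
      (∀ U : X.affineOpens, (X.presheaf.map (homOfLE (le_top : U.1 ≤ ⊤)).op).hom s ∈
        Ideal.map (psi g U.1).hom J) → ∃ c ∈ J, (phi g).hom c = s := by
  induction J using WellFoundedLT.induction with
  | ind J ih =>
  intro s hs
  by_cases hJ : J = ⊥
  · refine ⟨0, J.zero_mem, ?_⟩
    rw [map_zero]
    symm
    apply eq_of_forall_affine_top
    intro U
    have := hs U
    rw [hJ, Ideal.map_bot, Ideal.mem_bot] at this
    change (X.presheaf.map _).hom s = (X.presheaf.map _).hom 0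
    rw [this, map_zero]
  · obtain ⟨J', c, hlt, hcJ, hcJ', hsup, hm⟩ := exists_covBy_data J hJ
    -- decompose on each affine open
    have hdec : ∀ U : X.affineOpens, ∃ a : Γ(X, U.1),
        (X.presheaf.map (homOfLE (le_top : U.1 ≤ ⊤)).op).hom s - (psi g U.1).hom c * a ∈
          Ideal.map (psi g U.1).hom J' := by
      intro U
      have h1 := hs U
      rw [hsup, Ideal.map_sup, Ideal.map_span, Set.image_singleton, Submodule.mem_sup] at h1
      obtain ⟨y, hy, z, hz, hyz⟩ := h1
      rw [Ideal.mem_span_singleton'] at hz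
      obtain ⟨a, rfl⟩ := hz
      refine ⟨a, ?_⟩
      rw [← hyz, mul_comm]
      simpa using hy
    choose a ha using hdec
    -- restriction facts
    have hres : ∀ (U V : X.affineOpens) (hVU : V.1 ≤ U.1) (s' : Γ(X, ⊤)),
        (X.presheaf.map (homOfLE hVU).op).hom
          ((X.presheaf.map (homOfLE (le_top : U.1 ≤ ⊤)).op).hom s') =
        (X.presheaf.map (homOfLE (le_top : V.1 ≤ ⊤)).op).hom s' := by
      intro U V hVU s'
      rw [← RingHom.comp_apply, ← CommRingCat.hom_comp, ← X.presheaf.map_comp]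
      rfl
    have hpsi : ∀ (U V : X.affineOpens) (hVU : V.1 ≤ U.1) (c' : C),
        (X.presheaf.map (homOfLE hVU).op).hom ((psi g U.1).hom c') = (psi g V.1).hom c' := by
      intro U V hVU c'
      exact hres U V hVU ((phi g).hom c')
    have hmapJ : ∀ (U V : X.affineOpens) (hVU : V.1 ≤ U.1) (K : Ideal C) (y : Γ(X, U.1)),
        y ∈ Ideal.map (psi g U.1).hom K →
        (X.presheaf.map (homOfLE hVU).op).hom y ∈ Ideal.map (psi g V.1).hom K := by
      intro U V hVU K y hy
      have h1 : Ideal.map (X.presheaf.map (homOfLE hVU).op).hom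
          (Ideal.map (psi g U.1).hom K) = Ideal.map (psi g V.1).hom K := by
        rw [Ideal.map_map]
        congr 1
        ext c'
        exact hpsi U V hVU c'
      rw [← h1]
      exact Ideal.mem_map_of_mem _ hy
    -- the family on `X₀`
    have hcompat : ∀ (U V : X.affineOpens) (hVU : V.1 ≤ U.1),
        X₀.presheaf.map (homOfLE (i.preimage_mono hVU)).op ((i.app U.1).hom (a U)) =
          (i.app V.1).hom (a V) := by
      intro U V hVU
      have hnat : X₀.presheaf.map (homOfLE (i.preimage_mono hVU)).op ((i.app U.1).hom (a U)) =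
          (i.app V.1).hom ((X.presheaf.map (homOfLE hVU).op).hom (a U)) := by
        have := i.naturality (homOfLE hVU).op
        exact (congrArg (fun φ => φ.hom (a U)) this).symm
      rw [hnat]
      have hdiff : (X.presheaf.map (homOfLE hVU).op).hom (a U) - a V ∈
          Ideal.map (psi g V.1).hom (maximalIdeal C) := by
        apply mem_map_of_mul_mem (psi g V.1).hom (flat_psi V.2) J' c hcJ'
        have h1 := hmapJ U V hVU J' _ (ha U)
        have h2 := ha V
        rw [map_sub, map_mul, hres, hpsi] at h1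
        have h3 : (psi g V.1).hom c * ((X.presheaf.map (homOfLE hVU).op).hom (a U) - a V) =
            ((X.presheaf.map (homOfLE (le_top : V.1 ≤ ⊤)).op).hom s - (psi g V.1).hom c * a V) -
            ((X.presheaf.map (homOfLE (le_top : V.1 ≤ ⊤)).op).hom s -
              (psi g V.1).hom c * (X.presheaf.map (homOfLE hVU).op).hom (a U)) := by
          ring
        rw [h3]
        exact Ideal.sub_mem _ h2 h1
      have h4 := app_eq_zero_of_mem_map (g := g) (i := i) (f₀ := f₀) hsq.w V.1 _ hdiff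
      rw [map_sub, sub_eq_zero] at h4
      exact h4
    obtain ⟨abar, habar⟩ := exists_glue i (fun U => (i.app U.1).hom (a U)) hcompat
    obtain ⟨lbar, hlbar⟩ := h0 abar
    obtain ⟨l, rfl⟩ := Ideal.Quotient.mk_surjective lbar
    -- the new section
    have hs' : ∀ U : X.affineOpens,
        (X.presheaf.map (homOfLE (le_top : U.1 ≤ ⊤)).op).hom (s - (phi g).hom (c * l)) ∈
          Ideal.map (psi g U.1).hom J' := by
      intro U
      have hker : a U - (psi g U.1).hom l ∈ Ideal.map (psi g U.1).hom (maximalIdeal C) := by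
        apply ker_app_le hsq U.2
        rw [RingHom.mem_ker, map_sub, sub_eq_zero]
        have h1 : (i.app U.1).hom ((psi g U.1).hom l) =
            (X₀.presheaf.map (homOfLE (le_top : i ⁻¹ᵁ U.1 ≤ ⊤)).op).hom
              (((Scheme.ΓSpecIso (CommRingCat.of (C ⧸ maximalIdeal C))).inv ≫ f₀.appTop).hom
                (Ideal.Quotient.mk (maximalIdeal C) l)) :=
          congrArg (fun φ => φ.hom l) (psi_comp_app (g := g) (i := i) (f₀ := f₀) hsq.w U.1)
        rw [h1, hlbar]
        exact (habar U).symm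
      have hmul : (psi g U.1).hom c * (a U - (psi g U.1).hom l) ∈
          Ideal.map (psi g U.1).hom J' := by
        have h2 : Ideal.span {c} * maximalIdeal C ≤ J' := by
          rw [Ideal.span_singleton_mul_le_iff]
          intro z hz
          rw [mul_comm]
          exact hm z hz
        have h3 := Ideal.map_mono (f := (psi g U.1).hom) h2
        rw [Ideal.map_mul, Ideal.map_span, Set.image_singleton] at h3
        exact h3 (Ideal.mul_mem_mul (Ideal.mem_span_singleton_self _) hker)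
      have h5 : (X.presheaf.map (homOfLE (le_top : U.1 ≤ ⊤)).op).hom (s - (phi g).hom (c * l)) =
          ((X.presheaf.map (homOfLE (le_top : U.1 ≤ ⊤)).op).hom s - (psi g U.1).hom c * a U) +
            (psi g U.1).hom c * (a U - (psi g U.1).hom l) := by
        have h6 : (X.presheaf.map (homOfLE (le_top : U.1 ≤ ⊤)).op).hom ((phi g).hom (c * l)) =
            (psi g U.1).hom c * (psi g U.1).hom l := by
          rw [← map_mul]
          rfl
        rw [map_sub, h6]
        ring
      rw [h5]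
      exact Ideal.add_mem _ (ha U) hmul
    obtain ⟨c', hc', hc's⟩ := ih J' hlt _ hs'
    refine ⟨c' + c * l, J.add_mem (hlt.le hc') (J.mul_mem_right l hcJ), ?_⟩
    rw [map_add, hc's, sub_add_cancel]

omit [IsLocalRing C] in
/-- separation of global sections of `X₀` on the cover by preimages of affine opens of `X` -/
theorem eq_of_forall_affine_preimage_top (i : X₀ ⟶ X) (s t : Γ(X₀, ⊤))
    (h : ∀ U : X.affineOpens, X₀.presheaf.map (homOfLE (le_top : i ⁻¹ᵁ U.1 ≤ ⊤)).op s =
      X₀.presheaf.map (homOfLE (le_top : i ⁻¹ᵁ U.1 ≤ ⊤)).op t) : s = t := by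
  refine TopCat.Sheaf.eq_of_locally_eq' X₀.sheaf (fun U : X.affineOpens => i ⁻¹ᵁ U.1) ⊤
    (fun U => homOfLE le_top) ?_ s t h
  intro x _
  obtain ⟨V, hV, hxV, -⟩ := exists_isAffineOpen_mem_and_subset (x := i x) (U := ⊤) trivial
  exact Opens.mem_iSup.mpr ⟨⟨V, hV⟩, hxV⟩

/-- **Main theorem**: if `X` is flat over a local artinian ring `C` and the special fibre has
`Γ(X₀, 𝒪) = k`, then `Γ(X, 𝒪) = C`. -/
theorem bijective_phi [IsArtinianRing C] [Flat g]
    (hsq : IsPullback i f₀ g
      (Spec.map (CommRingCat.ofHom (Ideal.Quotient.mk (maximalIdeal C)))))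
    (h0 : Function.Bijective
      ((Scheme.ΓSpecIso (CommRingCat.of (C ⧸ maximalIdeal C))).inv ≫ f₀.appTop).hom) :
    Function.Bijective (phi g).hom := by
  constructor
  · -- injectivity
    rw [injective_iff_map_eq_zero]
    intro c hc
    by_contra hne
    have hJ : Ideal.span {c} ≠ ⊥ := by
      rw [Ne, Ideal.span_singleton_eq_bot]
      exact hne
    obtain ⟨J', d, -, hdJ, hdJ', -, -⟩ := exists_covBy_data (Ideal.span {c}) hJ
    rw [Ideal.mem_span_singleton'] at hdJ
    obtain ⟨r, rfl⟩ := hdJ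
    have hphi : (phi g).hom (r * c) = 0 := by
      rw [map_mul, hc, mul_zero]
    have hone : (1 : Γ(X₀, ⊤)) = 0 := by
      apply eq_of_forall_affine_preimage_top i
      intro U
      have h1 : (1 : Γ(X, U.1)) ∈ Ideal.map (psi g U.1).hom (maximalIdeal C) := by
        apply mem_map_of_mul_mem (psi g U.1).hom (flat_psi U.2) J' (r * c) hdJ'
        have h2 : (psi g U.1).hom (r * c) = 0 := by
          change (X.presheaf.map _).hom ((phi g).hom (r * c)) = 0
          rw [hphi, map_zero]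
        rw [h2, zero_mul]
        exact Ideal.zero_mem _
      have h3 := app_eq_zero_of_mem_map (g := g) (i := i) (f₀ := f₀) hsq.w U.1 _ h1
      rw [map_one] at h3
      change (X₀.presheaf.map _).hom 1 = (X₀.presheaf.map _).hom 0
      rw [map_one, map_zero]
      -- `1 = 0` in `Γ(X₀, i⁻¹U)`
      exact h3
    have h4 : ((Scheme.ΓSpecIso (CommRingCat.of (C ⧸ maximalIdeal C))).inv ≫ f₀.appTop).hom 1 =
        ((Scheme.ΓSpecIso (CommRingCat.of (C ⧸ maximalIdeal C))).inv ≫ f₀.appTop).hom 0 := by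
      rw [map_one, map_zero]
      exact hone
    exact one_ne_zero (h0.1 h4)
  · -- surjectivity
    intro s
    obtain ⟨c, -, hc⟩ := exists_of_forall_mem hsq h0.2 ⊤ s (fun U => by
      rw [Ideal.map_top]
      trivial)
    exact ⟨c, hc⟩

end Main

end Groth.Agent.R2.H52.FlatArtin
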