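import Mathlib
import Groth.Agent.Lib.Helper1TorO
import Groth.Agent.Lib.Helper1Restrict

/-!
# helper52: gluing Tor-vanishing along `R → R_f` and `R → R/f`

For a termwise flat complex `F` over `R` and a degree `i`: if `N ⊗ F` is exact at `i` and `i - 1`
for all modules `N` coming from `R_f`-modules and from `R/f`-modules, then `N ⊗ F` is exact at `i`
for every `R`-module `N`.
-/

set_option autoImplicit false
set_option linter.style.haveILetI false

universe u

open CategoryTheory CategoryTheory.Limits MonoidalCategory HomologicalComplex TensorProduct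

attribute [local instance] HasDerivedCategory.standard

namespace Groth.Agent.R2.H52.FlatGlue

open DerivedCategory Groth.Agent.Lib.Helper1.Tor Groth.Agent.Lib.Helper1.TorM
  Groth.Agent.Lib.Helper1.TorN

variable {R : Type u} [CommRing R]

/-- the piece `H^{i-1}(N'' ⊗ F) → H^i(N' ⊗ F) → H^i(N ⊗ F)` of the long exact sequence -/
theorem exactAt_TC_left_of_shortExact (S : ShortComplex (ModuleCat.{u} R)) (hS : S.ShortExact)
    (F : DRing.Cx R) (hF : DRing.TermwiseFlat F) (i : ℤ)
    (h3 : ((TC S.X₃).obj F).ExactAt (i - 1)) (h2 : ((TC S.X₂).obj F).ExactAt i) :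
    ((TC S.X₁).obj F).ExactAt i := by
  have hT := TCshort_shortExact S hS F hF
  have hex := hT.homology_exact₁ (i - 1) i (by simp)
  rw [HomologicalComplex.exactAt_iff_isZero_homology] at h3 h2 ⊢
  exact hex.isZero_of_both_zeros (h3.eq_of_src _ _) (h2.eq_of_tgt _ _)

/-- the short exact sequence of a submodule -/
noncomputable def subSC {N : Type u} [AddCommGroup N] [Module R N] (N' : Submodule R N) :
    ShortComplex (ModuleCat.{u} R) :=
  ShortComplex.mk (ModuleCat.ofHom N'.subtype) (ModuleCat.ofHom N'.mkQ) (by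
    ext x
    simp)

lemma subSC_shortExact {N : Type u} [AddCommGroup N] [Module R N] (N' : Submodule R N) :
    (subSC N').ShortExact :=
  { exact := by
      rw [ShortComplex.ShortExact.moduleCat_exact_iff_function_exact]
      exact LinearMap.exact_subtype_mkQ N'
    mono_f := (ModuleCat.mono_iff_injective _).2 N'.subtype_injective
    epi_g := (ModuleCat.epi_iff_surjective _).2 N'.mkQ_surjective }

/-- modules over an `R`-algebra `A`, from the base change of `F` to `A` -/
theorem exactAt_TC_of_algebra {A : Type u} [CommRing A] [Algebra R A] (F : DRing.Cx R) (i : ℤ)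
    (h : ∀ Nb : ModuleCat.{u} A,
      ((TC Nb).obj ((DTen.extCx (algebraMap R A)).obj F)).ExactAt i)
    (N : Type u) [AddCommGroup N] [Module R N] [Module A N] [IsScalarTower R A N] :
    ((TC (ModuleCat.of R N)).obj F).ExactAt i :=
  exactAt_TC_of_iso
    (Groth.Agent.Lib.Helper1.Restrict.restrictScalarsAlgebraIso (A := R) (B := A) N) F i
    (exactAt_TC_restrict_of_exactAt_TC_ext (algebraMap R A) (ModuleCat.of A N) F i (h _))

section Torsion

variable (f : R) (F : DRing.Cx R) (hFf : DRing.TermwiseFlat F) (i : ℤ)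

/-- modules killed by `f` -/
theorem exactAt_TC_of_smul_eq_zero
    (h : ∀ Nb : ModuleCat.{u} (R ⧸ Ideal.span ({f} : Set R)),
      ((TC Nb).obj ((DTen.extCx (Ideal.Quotient.mk (Ideal.span ({f} : Set R)))).obj F)).ExactAt i)
    (N : Type u) [AddCommGroup N] [Module R N] (hN : ∀ x : N, f • x = 0) :
    ((TC (ModuleCat.of R N)).obj F).ExactAt i := by
  have htors : Module.IsTorsionBySet R N ((Ideal.span ({f} : Set R) : Ideal R) : Set R) := by
    intro x a
    obtain ⟨c, hc⟩ := Ideal.mem_span_singleton'.1 a.2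
    show (a : R) • x = 0
    rw [← hc, mul_smul, hN, smul_zero]
  letI : Module (R ⧸ Ideal.span ({f} : Set R)) N := Module.IsTorsionBySet.module htors
  have h2 := exactAt_TC_restrict_of_exactAt_TC_ext (Ideal.Quotient.mk (Ideal.span ({f} : Set R)))
    (ModuleCat.of (R ⧸ Ideal.span ({f} : Set R)) N) F i (h _)
  let e : (ModuleCat.restrictScalars (Ideal.Quotient.mk (Ideal.span ({f} : Set R)))).obj
      (ModuleCat.of (R ⧸ Ideal.span ({f} : Set R)) N) ≅ ModuleCat.of R N :=
    LinearEquiv.toModuleIso
      { toFun := fun x => x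
        invFun := fun x => x
        map_add' := fun _ _ => rfl
        map_smul' := fun r x => Module.IsTorsionBySet.mk_smul htors r x
        left_inv := fun _ => rfl
        right_inv := fun _ => rfl }
  exact exactAt_TC_of_iso e F i h2

include hFf in
/-- modules killed by a power of `f` -/
theorem exactAt_TC_of_pow_smul_eq_zero
    (h : ∀ Nb : ModuleCat.{u} (R ⧸ Ideal.span ({f} : Set R)),
      ((TC Nb).obj ((DTen.extCx (Ideal.Quotient.mk (Ideal.span ({f} : Set R)))).obj F)).ExactAt i) :
    ∀ (k : ℕ) (N : Type u) [AddCommGroup N] [Module R N],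
      (∀ x : N, f ^ k • x = 0) → ((TC (ModuleCat.of R N)).obj F).ExactAt i := by
  intro k
  induction k with
  | zero =>
    intro N _ _ hN
    have : Subsingleton N := ⟨fun x y => by
      have hx := hN x
      have hy := hN y
      rw [pow_zero, one_smul] at hx hy
      rw [hx, hy]⟩
    exact exactAt_TC_of_subsingleton _ F i
  | succ k ih =>
    intro N _ _ hN
    let N' : Submodule R N := LinearMap.range (f • (LinearMap.id : N →ₗ[R] N))
    have h1 : ((TC (ModuleCat.of R N')).obj F).ExactAt i := by
      apply ih N'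
      rintro ⟨_, y, rfl⟩
      apply Subtype.ext
      show f ^ k • (f • y) = 0
      rw [smul_smul, ← pow_succ]
      exact hN y
    have h3 : ((TC (ModuleCat.of R (N ⧸ N'))).obj F).ExactAt i := by
      apply exactAt_TC_of_smul_eq_zero f F i h (N ⧸ N')
      intro x
      induction x using Submodule.Quotient.induction_on with
      | _ y =>
        rw [← Submodule.Quotient.mk_smul, Submodule.Quotient.mk_eq_zero]
        exact ⟨y, rfl⟩
    exact exactAt_TC_of_shortExact (subSC N') (subSC_shortExact N') F hFf i h1 h3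

end Torsion

section FG

/-- exactness of `N ⊗ (X → Y → Z)` can be tested on finitely generated submodules of `N`
(`Z` flat) -/
theorem fexact_lTensor_of_forall_fg {N X Y Z : Type u} [AddCommGroup N] [Module R N]
    [AddCommGroup X] [Module R X] [AddCommGroup Y] [Module R Y] [AddCommGroup Z] [Module R Z]
    [Module.Flat R Z] (d₁ : X →ₗ[R] Y) (d₂ : Y →ₗ[R] Z) (h0 : d₂ ∘ₗ d₁ = 0)
    (h : ∀ N' : Submodule R N, N'.FG → Function.Exact (d₁.lTensor N') (d₂.lTensor N')) :
    Function.Exact (d₁.lTensor N) (d₂.lTensor N) := by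
  intro y
  constructor
  · intro hy
    obtain ⟨N', hfin, hN'⟩ := TensorProduct.exists_finite_submodule_left_of_setFinite
      ({y} : Set (N ⊗[R] Y)) (Set.finite_singleton y)
    obtain ⟨y', hy'⟩ := hN' (Set.mem_singleton y)
    have hinj : Function.Injective (N'.subtype.rTensor Z) :=
      Module.Flat.rTensor_preserves_injective_linearMap N'.subtype N'.subtype_injective
    have h1 : (d₂.lTensor N') y' = 0 := by
      apply hinj
      rw [map_zero, ← LinearMap.comp_apply, LinearMap.rTensor_comp_lTensor,
        ← LinearMap.lTensor_comp_rTensor, LinearMap.comp_apply, hy', hy]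
    obtain ⟨x', hx'⟩ := (h N' (Module.Finite.iff_fg.1 hfin) y').1 h1
    refine ⟨(N'.subtype.rTensor X) x', ?_⟩
    rw [← LinearMap.comp_apply, LinearMap.lTensor_comp_rTensor, ← LinearMap.rTensor_comp_lTensor,
      LinearMap.comp_apply, hx', hy']
  · rintro ⟨x, rfl⟩
    rw [← LinearMap.comp_apply, ← LinearMap.lTensor_comp, h0, LinearMap.lTensor_zero,
      LinearMap.zero_apply]

/-- a finitely generated `f`-power torsion module is killed by a power of `f` -/
lemma exists_pow_smul_eq_zero_of_fg (f : R) {N : Type u} [AddCommGroup N] [Module R N]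
    (hN : ∀ x : N, ∃ k : ℕ, f ^ k • x = 0) (N' : Submodule R N) (hfg : N'.FG) :
    ∃ k : ℕ, ∀ x : N', f ^ k • x = 0 := by
  classical
  obtain ⟨s, hs⟩ := hfg
  choose k hk using hN
  refine ⟨s.sup k, ?_⟩
  rintro ⟨x, hx⟩
  apply Subtype.ext
  show f ^ (s.sup k) • x = 0
  rw [← hs] at hx
  induction hx using Submodule.span_induction with
  | mem y hy =>
    have hle : k y ≤ s.sup k := Finset.le_sup hy
    obtain ⟨c, hc⟩ := Nat.exists_eq_add_of_le hle
    rw [hc, pow_add, mul_comm, mul_smul, hk, smul_zero]
  | zero => rw [smul_zero]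
  | add a b _ _ ha hb => rw [smul_add, ha, hb, add_zero]
  | smul r a _ ha => rw [smul_comm, ha, smul_zero]

end FG

section Glue

variable (f : R) (F : DRing.Cx R) (hFf : DRing.TermwiseFlat F) (i : ℤ)

include hFf in
/-- `f`-power torsion modules -/
theorem exactAt_TC_of_torsion
    (h : ∀ Nb : ModuleCat.{u} (R ⧸ Ideal.span ({f} : Set R)),
      ((TC Nb).obj ((DTen.extCx (Ideal.Quotient.mk (Ideal.span ({f} : Set R)))).obj F)).ExactAt i)
    (N : Type u) [AddCommGroup N] [Module R N] (hN : ∀ x : N, ∃ k : ℕ, f ^ k • x = 0) :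
    ((TC (ModuleCat.of R N)).obj F).ExactAt i := by
  rw [exactAt_TC_iff _ F (i - 1) i (i + 1) (by lia) rfl]
  have := hFf (i + 1)
  refine fexact_lTensor_of_forall_fg (N := N) (F.d (i - 1) i).hom (F.d i (i + 1)).hom ?_ ?_
  · rw [← ModuleCat.hom_comp, F.d_comp_d]
    rfl
  · intro N' hfg
    obtain ⟨k, hk⟩ := exists_pow_smul_eq_zero_of_fg f hN N' hfg
    have h1 := exactAt_TC_of_pow_smul_eq_zero f F hFf i h k N' hk
    rw [exactAt_TC_iff _ F (i - 1) i (i + 1) (by lia) rfl] at h1
    exact h1

include hFf in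
/-- gluing: all modules -/
theorem exactAt_TC_of_away_and_quotient
    (hq : ∀ j : ℤ, j = i ∨ j = i - 1 →
      ∀ Nb : ModuleCat.{u} (R ⧸ Ideal.span ({f} : Set R)),
      ((TC Nb).obj ((DTen.extCx (Ideal.Quotient.mk (Ideal.span ({f} : Set R)))).obj F)).ExactAt j)
    (ha : ∀ Nb : ModuleCat.{u} (Localization.Away f),
      ((TC Nb).obj ((DTen.extCx (algebraMap R (Localization.Away f))).obj F)).ExactAt i)
    (N : Type u) [AddCommGroup N] [Module R N] :
    ((TC (ModuleCat.of R N)).obj F).ExactAt i := by
  let S := Submonoid.powers f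
  let Nf := LocalizedModule S N
  let ℓ : N →ₗ[R] Nf := LocalizedModule.mkLinearMap S N
  -- the localization
  have hNf : ((TC (ModuleCat.of R Nf)).obj F).ExactAt i :=
    exactAt_TC_of_algebra (A := Localization.Away f) F i ha Nf
  -- the cokernel of `N → N_f` is `f`-power torsion
  have hQ : ((TC (ModuleCat.of R (Nf ⧸ LinearMap.range ℓ))).obj F).ExactAt (i - 1) := by
    apply exactAt_TC_of_torsion f F hFf (i - 1) (hq (i - 1) (Or.inr rfl))
    intro y
    induction y using Submodule.Quotient.induction_on with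
    | _ y =>
      obtain ⟨⟨x, s⟩, hx⟩ := IsLocalizedModule.surj S ℓ y
      obtain ⟨k, hk⟩ := s.2
      refine ⟨k, ?_⟩
      rw [← Submodule.Quotient.mk_smul, Submodule.Quotient.mk_eq_zero]
      refine ⟨x, ?_⟩
      rw [← hx]
      show s • y = f ^ k • y
      have hk' : f ^ k = (s : R) := hk
      rw [Submonoid.smul_def, hk']
  -- the image of `N → N_f`
  have hI : ((TC (ModuleCat.of R (LinearMap.range ℓ))).obj F).ExactAt i :=
    exactAt_TC_left_of_shortExact (subSC (LinearMap.range ℓ)) (subSC_shortExact _) F hFf i hQ hNf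
  -- the kernel of `N → N_f` is `f`-power torsion
  have hT : ((TC (ModuleCat.of R (LinearMap.ker ℓ))).obj F).ExactAt i := by
    apply exactAt_TC_of_torsion f F hFf i (hq i (Or.inl rfl))
    rintro ⟨x, hx⟩
    obtain ⟨s, hs⟩ := (IsLocalizedModule.eq_zero_iff S ℓ).1 (LinearMap.mem_ker.1 hx)
    obtain ⟨k, hk⟩ := s.2
    refine ⟨k, Subtype.ext ?_⟩
    show f ^ k • x = 0
    have hk' : f ^ k = (s : R) := hk
    rw [hk']
    exact hs
  -- the sequence `0 → ker → N → range → 0`
  let S₁ : ShortComplex (ModuleCat.{u} R) :=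
    ShortComplex.mk (ModuleCat.ofHom (LinearMap.ker ℓ).subtype) (ModuleCat.ofHom ℓ.rangeRestrict) (by
      ext x
      exact LinearMap.mem_ker.1 x.2)
  have hS₁ : S₁.ShortExact :=
    { exact := by
        rw [ShortComplex.ShortExact.moduleCat_exact_iff_function_exact]
        intro x
        constructor
        · intro hx
          exact ⟨⟨x, congrArg Subtype.val hx⟩, rfl⟩
        · rintro ⟨y, rfl⟩
          apply Subtype.ext
          exact y.2
      mono_f := (ModuleCat.mono_iff_injective _).2 (LinearMap.ker ℓ).subtype_injective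
      epi_g := (ModuleCat.epi_iff_surjective _).2 (LinearMap.surjective_rangeRestrict ℓ) }
  exact exactAt_TC_of_shortExact S₁ hS₁ F hFf i hT hI

end Glue

end Groth.Agent.R2.H52.FlatGlue
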