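import Mathlib
import Groth.Agent.Lib.Helper26HenselIdem

/-!
# helper52: idempotent matrices lift along henselian pairs (for S6973)
-/

set_option autoImplicit false
universe u

namespace Groth.Agent.R2.H52.HenselMat

open Polynomial Matrix

section Charpoly

variable {k : Type*} [CommRing k] {n : Type*} [Fintype n] [DecidableEq n]

/-- the characteristic polynomial of an idempotent matrix divides `(X (X - 1))^n` -/
theorem charpoly_dvd_of_isIdempotentElem (p : Matrix n n k) (hp : IsIdempotentElem p) :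
    p.charpoly ∣ (X * (X - 1)) ^ Fintype.card n := by
  let P : Matrix n n k[X] := p.map C
  have hP : P * P = P := by
    have := congrArg (fun M : Matrix n n k => M.map (C : k → k[X])) hp.eq
    simpa [P, Matrix.map_mul] using this
  let Q : Matrix n n k[X] := (X - 1 : k[X]) • (1 - P) + (X : k[X]) • P
  have hcm : charmatrix p = (X : k[X]) • (1 : Matrix n n k[X]) - P := by
    ext i j
    simp [charmatrix, P, Matrix.scalar_apply, Matrix.diagonal_apply, Matrix.one_apply]
  have hprod : charmatrix p * Q = (X * (X - 1) : k[X]) • (1 : Matrix n n k[X]) := by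
    rw [hcm]
    simp only [Q, Matrix.sub_mul, Matrix.mul_add, Matrix.smul_mul, Matrix.mul_smul, Matrix.one_mul,
      Matrix.mul_sub, Matrix.mul_one, hP]
    ext i j
    simp only [Matrix.add_apply, Matrix.sub_apply, Matrix.smul_apply, smul_eq_mul]
    ring_nf
  have hdet := congrArg Matrix.det hprod
  rw [Matrix.det_mul, Matrix.det_smul, Matrix.det_one, mul_one] at hdet
  exact ⟨Q.det, hdet.symm⟩

end Charpoly

section Lift

variable {A : Type u} [CommRing A] (I : Ideal A)

theorem aeval_mem_map_of_map_eq_zero {C : Type*} [CommRing C] [Algebra A C] (q : A[X])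
    (hq : q.map (Ideal.Quotient.mk I) = 0) (x : C) :
    aeval x q ∈ I.map (algebraMap A C) := by
  rw [aeval_eq_sum_range]
  refine Ideal.sum_mem _ fun i _ => ?_
  have hi : q.coeff i ∈ I := by
    have := congrArg (fun r => r.coeff i) hq
    simpa [Ideal.Quotient.eq_zero_iff_mem] using this
  rw [Algebra.smul_def]
  exact Ideal.mul_mem_right _ _ (Ideal.mem_map_of_mem _ hi)

/-- idempotent matrices lift along henselian pairs -/
theorem exists_idempotent_lift [HenselianRing A I] (n : ℕ)
    (pbar : Matrix (Fin n) (Fin n) (A ⧸ I)) (hp : IsIdempotentElem pbar) :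
    ∃ e : Matrix (Fin n) (Fin n) A, IsIdempotentElem e ∧ e.map (Ideal.Quotient.mk I) = pbar := by
  classical
  -- an arbitrary lift
  obtain ⟨φ, hφ⟩ : ∃ φ : Matrix (Fin n) (Fin n) A, φ.map (Ideal.Quotient.mk I) = pbar := by
    choose g hg using fun i j => Ideal.Quotient.mk_surjective (pbar i j)
    exact ⟨Matrix.of g, by ext i j; simp [hg]⟩
  set f := φ.charpoly with hf
  have hfm : f.Monic := Matrix.charpoly_monic φ
  have hfbar : f.map (Ideal.Quotient.mk I) = pbar.charpoly := by
    rw [hf, ← Matrix.charpoly_map, hφ]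
  obtain ⟨gbar, hgbar⟩ := charpoly_dvd_of_isIdempotentElem pbar hp
  obtain ⟨g, hg⟩ := Polynomial.map_surjective (Ideal.Quotient.mk I) Ideal.Quotient.mk_surjective gbar
  rw [Fintype.card_fin] at hgbar
  have hq : ((X * (X - 1)) ^ n - f * g : A[X]).map (Ideal.Quotient.mk I) = 0 := by
    rw [Polynomial.map_sub, Polynomial.map_mul, hfbar, hg, Polynomial.map_pow, Polynomial.map_mul,
      Polynomial.map_sub, Polynomial.map_X, Polynomial.map_one, hgbar, sub_self]
  -- the commutative algebra `C = A[x]/(f)`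
  let C := AdjoinRoot f
  haveI : Module.Finite A C := hfm.finite_adjoinRoot
  haveI : Algebra.IsIntegral A C := Algebra.IsIntegral.of_finite A C
  let J : Ideal C := I.map (algebraMap A C)
  let x : C := AdjoinRoot.root f
  have hxJ : (x * (x - 1)) ^ n ∈ J := by
    have h1 := aeval_mem_map_of_map_eq_zero I ((X * (X - 1)) ^ n - f * g) hq x
    have h2 : aeval x f = 0 := by
      rw [AdjoinRoot.aeval_eq, AdjoinRoot.mk_self]
    simpa [x, h2] using h1
  -- an idempotent of `C/J` congruent to `x` modulo a nil ideal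
  let xb : C ⧸ J := Ideal.Quotient.mk J x
  have hxb : (xb * (xb - 1)) ^ n = 0 := by
    have := (Ideal.Quotient.eq_zero_iff_mem).2 hxJ
    simpa [xb] using this
  let N : Ideal (C ⧸ J) := Ideal.span {xb * (xb - 1)}
  have hN : ∀ y ∈ RingHom.ker (Ideal.Quotient.mk N), IsNilpotent y := by
    intro y hy
    rw [Ideal.mk_ker] at hy
    obtain ⟨r, rfl⟩ := Ideal.mem_span_singleton'.1 hy
    exact ⟨n, by rw [mul_pow, hxb, mul_zero]⟩
  obtain ⟨εb, hεb, hεbx⟩ := exists_isIdempotentElem_eq_of_ker_isNilpotent (Ideal.Quotient.mk N) hN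
    (Ideal.Quotient.mk N xb) ⟨xb, rfl⟩ (by
      show Ideal.Quotient.mk N xb * Ideal.Quotient.mk N xb = Ideal.Quotient.mk N xb
      rw [← map_mul, Ideal.Quotient.mk_eq_mk_iff_sub_mem]
      have : xb * xb - xb = xb * (xb - 1) := by ring
      rw [this]
      exact Ideal.subset_span rfl)
  have hεN : εb - xb ∈ N := (Ideal.Quotient.mk_eq_mk_iff_sub_mem _ _).1 hεbx
  -- lift to an idempotent of `C`
  obtain ⟨ε, hε, hεεb⟩ := Groth.Agent.Lib.Helper26.HenselIdem.idem_surjOn A I C hεb
  have hε' : IsIdempotentElem ε := hε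
  -- the ring homomorphism `C → M_n(A)`, `x ↦ φ`
  let Ψ : C →+* Matrix (Fin n) (Fin n) A :=
    Ideal.Quotient.lift (Ideal.span {f}) (aeval φ : A[X] →ₐ[A] Matrix (Fin n) (Fin n) A).toRingHom
      (by
        intro a ha
        obtain ⟨r, rfl⟩ := Ideal.mem_span_singleton'.1 ha
        show aeval φ (r * f) = 0
        rw [map_mul, hf, Matrix.aeval_self_charpoly, mul_zero])
  have hΨmk : ∀ q : A[X], Ψ (AdjoinRoot.mk f q) = aeval φ q := fun q => rfl
  have hΨx : Ψ x = φ := by
    show Ψ (AdjoinRoot.mk f X) = φ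
    rw [hΨmk, aeval_X]
  have hΨalg : ∀ a : A, Ψ (algebraMap A C a) = algebraMap A (Matrix (Fin n) (Fin n) A) a := by
    intro a
    show Ψ (AdjoinRoot.mk f (Polynomial.C a)) = _
    rw [hΨmk, aeval_C]
  -- the composite to `M_n(A/I)` and its factorisation through `C/J`
  let Θ : C →+* Matrix (Fin n) (Fin n) (A ⧸ I) := (Ideal.Quotient.mk I).mapMatrix.comp Ψ
  have hΘJ : ∀ c ∈ J, Θ c = 0 := by
    intro c hc
    have hle : J ≤ RingHom.ker Θ := by
      rw [Ideal.map_le_iff_le_comap]
      intro a ha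
      rw [Ideal.mem_comap, RingHom.mem_ker]
      show (Ideal.Quotient.mk I).mapMatrix (Ψ (algebraMap A C a)) = 0
      rw [hΨalg]
      ext i j
      simp only [RingHom.mapMatrix_apply, Matrix.map_apply, Matrix.algebraMap_matrix_apply,
        Matrix.zero_apply, Ideal.Quotient.eq_zero_iff_mem]
      split_ifs
      · exact ha
      · exact I.zero_mem
    exact hle hc
  let Θb : C ⧸ J →+* Matrix (Fin n) (Fin n) (A ⧸ I) := Ideal.Quotient.lift J Θ hΘJ
  have hΘbmk : ∀ c : C, Θb (Ideal.Quotient.mk J c) = Θ c := fun c => rfl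
  have hΘbx : Θb xb = pbar := by
    show Θ x = pbar
    show (Ideal.Quotient.mk I).mapMatrix (Ψ x) = pbar
    rw [hΨx]
    exact hφ
  have hΘbN : ∀ y ∈ N, Θb y = 0 := by
    intro y hy
    obtain ⟨r, rfl⟩ := Ideal.mem_span_singleton'.1 hy
    rw [map_mul, map_mul, map_sub, map_one, hΘbx]
    have : pbar * (pbar - 1) = 0 := by
      rw [mul_sub, mul_one, hp.eq, sub_self]
    rw [this, mul_zero]
  have hΘbε : Θb εb = pbar := by
    have h1 := hΘbN _ hεN
    rw [map_sub, hΘbx, sub_eq_zero] at h1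
    exact h1
  refine ⟨Ψ ε, hε'.map Ψ, ?_⟩
  show Θ ε = pbar
  rw [← hΘbmk, hεεb, hΘbε]

end Lift

end Groth.Agent.R2.H52.HenselMat
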