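import Mathlib
import Groth.Agent.R2.H52RepLift

/-!
# helper52: projective modules and nilpotent ideals (for S6970)

Nakayama for nilpotent ideals, lifting of projective modules along `R → R/I` with `I` nilpotent, and
the class of all projective modules.
-/

set_option autoImplicit false
universe u

namespace Groth.Agent.R2.H52.ProjLift

open CategoryTheory CategoryTheory.Limits TensorProduct
open Groth.Agent.R2.H52.AcycLift Groth.Agent.R2.H52.RepLift

section Nak

variable {R : Type u} [CommRing R] (I : Ideal R)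

theorem sup_pow_smul_top {M : Type*} [AddCommGroup M] [Module R M] (N : Submodule R M)
    (h : N ⊔ I • (⊤ : Submodule R M) = ⊤) (k : ℕ) : N ⊔ I ^ k • (⊤ : Submodule R M) = ⊤ := by
  induction k with
  | zero =>
    rw [pow_zero, Ideal.one_eq_top, Submodule.top_smul]
    exact sup_top_eq _
  | succ k ih =>
    have h1 : I ^ k • (⊤ : Submodule R M) ≤ N ⊔ I ^ (k + 1) • (⊤ : Submodule R M) := by
      calc I ^ k • (⊤ : Submodule R M) = I ^ k • (N ⊔ I • (⊤ : Submodule R M)) := by rw [h]
        _ = I ^ k • N ⊔ I ^ k • (I • (⊤ : Submodule R M)) := Submodule.smul_sup _ _ _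
        _ ≤ N ⊔ I ^ (k + 1) • (⊤ : Submodule R M) := by
            apply sup_le_sup
            · exact Submodule.smul_le_right
            · rw [← Submodule.mul_smul, ← pow_succ]
    apply le_antisymm le_top
    calc (⊤ : Submodule R M) = N ⊔ I ^ k • (⊤ : Submodule R M) := ih.symm
      _ ≤ N ⊔ I ^ (k + 1) • (⊤ : Submodule R M) := sup_le le_sup_left h1

/-- Nakayama for nilpotent ideals -/
theorem eq_top_of_sup_smul_eq_top (hI : IsNilpotent I) {M : Type*} [AddCommGroup M] [Module R M]
    (N : Submodule R M) (h : N ⊔ I • (⊤ : Submodule R M) = ⊤) : N = ⊤ := by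
  obtain ⟨n, hn⟩ := hI
  have h1 := sup_pow_smul_top I N h n
  rw [hn, Ideal.zero_eq_bot, Submodule.bot_smul, sup_bot_eq] at h1
  exact h1

theorem surjective_of_sup_smul_eq_top (hI : IsNilpotent I)
    {M N : Type*} [AddCommGroup M] [Module R M] [AddCommGroup N] [Module R N]
    (f : M →ₗ[R] N) (h : LinearMap.range f ⊔ I • (⊤ : Submodule R N) = ⊤) :
    Function.Surjective f := by
  rw [← LinearMap.range_eq_top]
  exact eq_top_of_sup_smul_eq_top I hI _ h

theorem subsingleton_of_smul_top_eq_top (hI : IsNilpotent I)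
    {M : Type*} [AddCommGroup M] [Module R M] (h : I • (⊤ : Submodule R M) = ⊤) :
    Subsingleton M := by
  have h1 : (⊥ : Submodule R M) = ⊤ := eq_top_of_sup_smul_eq_top I hI ⊥ (by rw [h]; exact sup_top_eq _)
  exact (Submodule.subsingleton_iff R).1 (subsingleton_of_bot_eq_top h1)

theorem map_mem_smul_top' {M N : Type*} [AddCommGroup M] [Module R M] [AddCommGroup N] [Module R N]
    (φ : M →ₗ[R] N) (x : M) (hx : x ∈ I • (⊤ : Submodule R M)) :
    φ x ∈ I • (⊤ : Submodule R N) := by
  have : Submodule.map φ (I • ⊤) ≤ I • ⊤ := by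
    rw [Submodule.map_smul'']
    exact Submodule.smul_mono (le_refl _) le_top
  exact this (Submodule.mem_map_of_mem hx)

end Nak

section End

variable {R : Type u} [CommRing R] (I : Ideal R)

/-- base change of endomorphisms, as a ring homomorphism -/
noncomputable def endBC (F : Type u) [AddCommGroup F] [Module R F] :
    Module.End R F →+* Module.End (R ⧸ I) ((R ⧸ I) ⊗[R] F) where
  toFun a := a.baseChange (R ⧸ I)
  map_one' := LinearMap.baseChange_id
  map_mul' a b := LinearMap.baseChange_comp _ _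
  map_zero' := LinearMap.baseChange_zero
  map_add' a b := LinearMap.baseChange_add _ _

theorem endBC_apply (F : Type u) [AddCommGroup F] [Module R F] (a : Module.End R F) (x : F) :
    endBC I F a ((1 : R ⧸ I) ⊗ₜ[R] x) = (1 : R ⧸ I) ⊗ₜ[R] a x := rfl

theorem range_le_of_endBC_eq_zero (F : Type u) [AddCommGroup F] [Module R F]
    (a : Module.End R F) (ha : endBC I F a = 0) (x : F) : a x ∈ I • (⊤ : Submodule R F) := by
  apply mem_smul_of_one_tmul_eq_zero
  rw [← endBC_apply, ha]
  rfl

theorem pow_apply_mem (F : Type u) [AddCommGroup F] [Module R F]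
    (a : Module.End R F) (ha : ∀ x, a x ∈ I • (⊤ : Submodule R F)) (k : ℕ) (x : F) :
    (a ^ k) x ∈ I ^ k • (⊤ : Submodule R F) := by
  induction k generalizing x with
  | zero =>
    rw [pow_zero, Ideal.one_eq_top, Submodule.top_smul]
    exact Submodule.mem_top
  | succ k ih =>
    have h0 : (a ^ (k + 1)) x = a ((a ^ k) x) := by
      rw [pow_succ']
      rfl
    rw [h0]
    have h1 : Submodule.map a (I ^ k • (⊤ : Submodule R F)) ≤ I ^ (k + 1) • ⊤ := by
      rw [Submodule.map_smul'', pow_succ, Submodule.mul_smul]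
      refine Submodule.smul_mono (le_refl _) ?_
      rintro _ ⟨y, -, rfl⟩
      exact ha y
    exact h1 (Submodule.mem_map_of_mem (ih x))

theorem isNilpotent_of_mem_ker_endBC (hI : IsNilpotent I) (F : Type u) [AddCommGroup F] [Module R F]
    (a : Module.End R F) (ha : a ∈ RingHom.ker (endBC I F)) : IsNilpotent a := by
  obtain ⟨n, hn⟩ := hI
  refine ⟨n, ?_⟩
  ext x
  have h1 := pow_apply_mem I F a (range_le_of_endBC_eq_zero I F a ha) n x
  rw [hn, Ideal.zero_eq_bot, Submodule.bot_smul, Submodule.mem_bot] at h1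
  exact h1

theorem mem_range_endBC (F : Type u) [AddCommGroup F] [Module R F] [Module.Projective R F]
    (b : Module.End (R ⧸ I) ((R ⧸ I) ⊗[R] F)) : b ∈ (endBC I F).range := by
  obtain ⟨a, ha⟩ := Module.projective_lifting_property (TensorProduct.mk R (R ⧸ I) F 1)
    ((b.restrictScalars R) ∘ₗ (TensorProduct.mk R (R ⧸ I) F 1)) (mk_one_surjective I F)
  refine ⟨a, ?_⟩
  apply LinearMap.ext
  intro t
  obtain ⟨x, rfl⟩ := exists_one_tmul I F t
  rw [endBC_apply]
  exact LinearMap.congr_fun ha x

end End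

section Lift

variable {R : Type u} [CommRing R] (I : Ideal R)

/-- a split quotient of the reduction of a projective module lifts to a projective module -/
theorem exists_lift_of_split (hI : IsNilpotent I)
    (F : Type u) [AddCommGroup F] [Module R F] [Module.Projective R F]
    (Z : Type u) [AddCommGroup Z] [Module (R ⧸ I) Z]
    (p' : (R ⧸ I) ⊗[R] F →ₗ[R ⧸ I] Z) (s' : Z →ₗ[R ⧸ I] (R ⧸ I) ⊗[R] F)
    (hps' : ∀ z, p' (s' z) = z) :
    ∃ X : ModuleCat.{u} R, Module.Projective R X ∧ Nonempty ((R ⧸ I) ⊗[R] X ≃ₗ[R ⧸ I] Z) := by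
  classical
  let ebar : Module.End (R ⧸ I) ((R ⧸ I) ⊗[R] F) := s' ∘ₗ p'
  have hebar : IsIdempotentElem ebar := by
    apply LinearMap.ext
    intro t
    show s' (p' (s' (p' t))) = s' (p' t)
    rw [hps']
  obtain ⟨e, he, hee⟩ := exists_isIdempotentElem_eq_of_ker_isNilpotent (endBC I F)
    (fun a ha => isNilpotent_of_mem_ker_endBC I hI F a ha) ebar (mem_range_endBC I F ebar) hebar
  have hee' : ∀ x : F, (1 : R ⧸ I) ⊗ₜ[R] e x = s' (p' ((1 : R ⧸ I) ⊗ₜ[R] x)) := by
    intro x
    rw [← endBC_apply, hee]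
    rfl
  have he' : ∀ x : F, e (e x) = e x := fun x => LinearMap.congr_fun he.eq x
  -- the lift
  let e' : F →ₗ[R] LinearMap.range e := e.rangeRestrict
  have he'_coe : ∀ x : F, ((e' x : LinearMap.range e) : F) = e x := fun x => rfl
  have hfix : ∀ w : LinearMap.range e, e (w : F) = (w : F) := by
    rintro ⟨_, y, rfl⟩
    exact he' y
  refine ⟨ModuleCat.of R (LinearMap.range e), ?_, ?_⟩
  · exact Module.Projective.of_split (LinearMap.range e).subtype e' (by
      apply LinearMap.ext
      intro w
      apply Subtype.ext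
      exact hfix w)
  · -- the reduction map
    let u : LinearMap.range e →+ Z :=
      { toFun := fun w => p' ((1 : R ⧸ I) ⊗ₜ[R] (w : F))
        map_zero' := by simp
        map_add' := fun w w' => by simp [TensorProduct.tmul_add] }
    obtain ⟨φ, -⟩ := exists_tensorEquiv_of_red I (LinearMap.range e) Z u
      (fun r w => by
        show p' ((1 : R ⧸ I) ⊗ₜ[R] ((r • w : LinearMap.range e) : F)) = _
        rw [Submodule.coe_smul, one_tmul_smul, map_smul]
        rfl)
      (fun z => by
        obtain ⟨x, hx⟩ := exists_one_tmul I F (s' z)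
        refine ⟨e' x, ?_⟩
        show p' ((1 : R ⧸ I) ⊗ₜ[R] ((e' x : LinearMap.range e) : F)) = z
        rw [he'_coe, hee', hx, hps', hps'])
      (fun w hw => by
        have h1 : (1 : R ⧸ I) ⊗ₜ[R] e (w : F) = 0 := by
          rw [hee']
          have : p' ((1 : R ⧸ I) ⊗ₜ[R] (w : F)) = 0 := hw
          rw [this, map_zero]
        rw [hfix w] at h1
        have h2 := mem_smul_of_one_tmul_eq_zero I F _ h1
        have h3 := map_mem_smul_top' I e' _ h2
        have h4 : e' (w : F) = w := Subtype.ext (hfix w)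
        rw [h4] at h3
        exact h3)
    exact ⟨φ⟩

/-- projective modules lift along a nilpotent ideal -/
theorem exists_lift_projective (hI : IsNilpotent I)
    (Z : Type u) [AddCommGroup Z] [Module (R ⧸ I) Z] [Module.Projective (R ⧸ I) Z] :
    ∃ X : ModuleCat.{u} R, Module.Projective R X ∧ Nonempty ((R ⧸ I) ⊗[R] X ≃ₗ[R ⧸ I] Z) := by
  classical
  let ψ : (R ⧸ I) ⊗[R] (Z →₀ R) ≃ₗ[R ⧸ I] (Z →₀ (R ⧸ I)) :=
    TensorProduct.finsuppScalarRight R (R ⧸ I) (R ⧸ I) Z
  obtain ⟨s, hs⟩ := Module.projective_def'.1 (inferInstance : Module.Projective (R ⧸ I) Z)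
  let p : (Z →₀ (R ⧸ I)) →ₗ[R ⧸ I] Z := Finsupp.linearCombination (R ⧸ I) id
  have hps : ∀ z, p (s z) = z := fun z => LinearMap.congr_fun hs z
  exact exists_lift_of_split I hI (Z →₀ R) Z (p ∘ₗ ψ.toLinearMap) (ψ.symm.toLinearMap ∘ₗ s)
    (fun z => by simp [hps])

end Lift

section Class

variable (R : Type u) [CommRing R]

/-- the class of all projective modules -/
def Pc : ObjectProperty (ModuleCat.{u} R) := fun X => Module.Projective R X

instance : (Pc R).IsClosedUnderIsomorphisms where
  of_iso e h := haveI : Module.Projective R _ := h; Module.Projective.of_equiv e.toLinearEquiv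

theorem pc_h1 (X : ModuleCat.{u} R) (h : Pc R X) : Module.Projective R X := h

theorem pc_h2 (X Y : ModuleCat.{u} R) (hX : Pc R X) :
    Pc R (ModuleCat.of R (X × Y)) ↔ Pc R Y := by
  haveI : Module.Projective R X := hX
  constructor
  · intro h
    haveI h1 : Module.Projective R (X × Y) := h
    exact Module.Projective.of_split (LinearMap.inr R X Y) (LinearMap.snd R X Y)
      (LinearMap.ext fun _ => rfl)
  · intro h
    haveI : Module.Projective R Y := h
    exact (inferInstance : Module.Projective R (X × Y))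

theorem pc_h3 (I : Ideal R) (hI : IsNilpotent I) (X Y : ModuleCat.{u} R)
    (f : X ⟶ Y) (_ : Pc R X) (_ : Pc R Y)
    (h : LinearMap.range f.hom ⊔ I • (⊤ : Submodule R Y) = ⊤) : Function.Surjective f.hom :=
  surjective_of_sup_smul_eq_top I hI f.hom h

end Class

end Groth.Agent.R2.H52.ProjLift
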