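import Mathlib
import Groth.Agent.R2.H52AcycLift

/-!
# helper52: finite stably free modules and lifting along `R → R/I` with `I` in the Jacobson radical
(for S7011)
-/

set_option autoImplicit false
universe u

namespace Groth.Agent.R2.H52.StablyFree

open CategoryTheory CategoryTheory.Limits TensorProduct
open Groth.Agent.R2.H52.AcycLift

section Nak

variable {R : Type u} [CommRing R] (I : Ideal R)

/-- Nakayama: a map to a finite module which is surjective modulo `I ⊆ rad R` is surjective. -/
theorem surjective_of_sup_smul_eq_top (hI : I ≤ Ideal.jacobson (⊥ : Ideal R))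
    {M N : Type*} [AddCommGroup M] [Module R M] [AddCommGroup N] [Module R N] [Module.Finite R N]
    (f : M →ₗ[R] N) (h : LinearMap.range f ⊔ I • (⊤ : Submodule R N) = ⊤) :
    Function.Surjective f := by
  rw [← LinearMap.range_eq_top, eq_top_iff]
  exact Submodule.le_of_le_smul_of_le_jacobson_bot Module.Finite.fg_top hI (by rw [h])

theorem nontrivial_or_subsingleton (hI : I ≤ Ideal.jacobson (⊥ : Ideal R)) :
    Nontrivial (R ⧸ I) ∨ Subsingleton R := by
  rcases subsingleton_or_nontrivial (R ⧸ I) with h | h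
  · right
    have h1 : I = ⊤ := Ideal.Quotient.subsingleton_iff.1 h
    have h2 : Ideal.jacobson (⊥ : Ideal R) = ⊤ := top_le_iff.1 (h1 ▸ hI)
    have h3 : (⊥ : Ideal R) = ⊤ := Ideal.jacobson_eq_top_iff.1 h2
    exact (Submodule.subsingleton_iff R).1 (subsingleton_of_bot_eq_top h3)
  · left; exact h

/-- the kernel of the second projection is the first factor -/
noncomputable def kerSndEquiv (S : Type*) [CommRing S] (E N : Type*) [AddCommGroup E] [Module S E]
    [AddCommGroup N] [Module S N] : LinearMap.ker (LinearMap.snd S E N) ≃ₗ[S] E where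
  toFun k := k.1.1
  map_add' _ _ := rfl
  map_smul' _ _ := rfl
  invFun e := ⟨(e, 0), rfl⟩
  left_inv k := by
    obtain ⟨⟨e, n⟩, hk⟩ := k
    have hn : n = 0 := hk
    subst hn
    rfl
  right_inv _ := rfl

end Nak

section Lift

variable {R : Type u} [CommRing R] (I : Ideal R)

/-- finite stably free modules over `R/I` lift to finite stably free modules over `R`
when `I ⊆ rad R`. -/
theorem exists_lift_stablyFree (hI : I ≤ Ideal.jacobson (⊥ : Ideal R))
    (E : Type u) [AddCommGroup E] [Module (R ⧸ I) E] [Module.Finite (R ⧸ I) E]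
    [Module.IsStablyFree (R ⧸ I) E] :
    ∃ X : ModuleCat.{u} R, (Module.Finite R X ∧ Module.IsStablyFree R X) ∧
      Nonempty ((R ⧸ I) ⊗[R] X ≃ₗ[R ⧸ I] E) := by
  rcases nontrivial_or_subsingleton I hI with hnt | hss
  · obtain ⟨N, _, _, hNfin, hNfree, hfree⟩ := Module.IsStablyFree.exist_free_prod (R ⧸ I) E
    let bEN := (Module.finBasis (R ⧸ I) (E × N)).equivFun
    let bN := (Module.finBasis (R ⧸ I) N).equivFun
    set m := Module.finrank (R ⧸ I) (E × N)
    set n := Module.finrank (R ⧸ I) N
    let ψ : (R ⧸ I) ⊗[R] (Fin m → R) ≃ₗ[R ⧸ I] (E × N) :=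
      (TensorProduct.piScalarRight R (R ⧸ I) (R ⧸ I) (Fin m)).trans bEN.symm
    let θ : (R ⧸ I) ⊗[R] (Fin n → R) ≃ₗ[R ⧸ I] N :=
      (TensorProduct.piScalarRight R (R ⧸ I) (R ⧸ I) (Fin n)).trans bN.symm
    obtain ⟨φ, hφ, ⟨e1⟩, ⟨e2⟩⟩ := step_aux I (Fin m → R) (Fin n → R) (E × N) N ψ θ
      (LinearMap.snd (R ⧸ I) E N) LinearMap.snd_surjective
      (fun f hf => surjective_of_sup_smul_eq_top I hI f hf)
    refine ⟨ModuleCat.of R (LinearMap.ker φ), ⟨?_, ?_⟩, ⟨e2.trans (kerSndEquiv (R ⧸ I) E N)⟩⟩
    · let q : (Fin m → R) →ₗ[R] LinearMap.ker φ :=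
        (LinearMap.snd R (Fin n → R) (LinearMap.ker φ)) ∘ₗ e1.toLinearMap
      have hq : Function.Surjective q := fun k => ⟨e1.symm (0, k), by simp [q]⟩
      exact Module.Finite.of_surjective q hq
    · haveI : Module.Free R ((Fin n → R) × LinearMap.ker φ) := Module.Free.of_equiv e1
      exact Module.IsStablyFree.of_free_prod' R (LinearMap.ker φ) (Fin n → R)
  · refine ⟨ModuleCat.of R PUnit, ⟨inferInstance, inferInstance⟩, ⟨?_⟩⟩
    haveI : Subsingleton (R ⧸ I) := Function.Surjective.subsingleton Ideal.Quotient.mk_surjective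
    haveI : Subsingleton E := Module.subsingleton (R ⧸ I) E
    haveI : Subsingleton ((R ⧸ I) ⊗[R] (ModuleCat.of R PUnit)) :=
      Module.subsingleton (R ⧸ I) _
    exact LinearEquiv.ofSubsingleton _ _

/-- a finite projective module over `R` whose reduction modulo `I ⊆ rad R` is free is free. -/
theorem free_of_free_tensor (hI : I ≤ Ideal.jacobson (⊥ : Ideal R))
    (P : Type u) [AddCommGroup P] [Module R P] [Module.Finite R P] [Module.Projective R P]
    (E : Type u) [AddCommGroup E] [Module (R ⧸ I) E] [Module.Free (R ⧸ I) E]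
    (e : (R ⧸ I) ⊗[R] P ≃ₗ[R ⧸ I] E) : Module.Free R P := by
  rcases nontrivial_or_subsingleton I hI with hnt | hss
  · haveI : Module.Finite (R ⧸ I) E := Module.Finite.equiv e
    let bE := (Module.finBasis (R ⧸ I) E).equivFun
    set n := Module.finrank (R ⧸ I) E
    let ψ : (R ⧸ I) ⊗[R] (Fin n → R) ≃ₗ[R ⧸ I] E :=
      (TensorProduct.piScalarRight R (R ⧸ I) (R ⧸ I) (Fin n)).trans bE.symm
    obtain ⟨φ, hφ, ⟨e1⟩, ⟨e2⟩⟩ := step_aux I (Fin n → R) P E E ψ e
      (LinearMap.id) Function.surjective_id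
      (fun f hf => surjective_of_sup_smul_eq_top I hI f hf)
    -- the kernel is finite and equal to `I` times itself
    let q : (Fin n → R) →ₗ[R] LinearMap.ker φ :=
      (LinearMap.snd R P (LinearMap.ker φ)) ∘ₗ e1.toLinearMap
    have hq : Function.Surjective q := fun k => ⟨e1.symm (0, k), by simp [q]⟩
    haveI hfin : Module.Finite R (LinearMap.ker φ) := Module.Finite.of_surjective q hq
    have hsub : Subsingleton ((R ⧸ I) ⊗[R] (LinearMap.ker φ)) := by
      have : Subsingleton (LinearMap.ker (LinearMap.id : E →ₗ[R ⧸ I] E)) := by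
        rw [LinearMap.ker_id]
        infer_instance
      exact e2.injective.subsingleton
    have htop : (⊤ : Submodule R (LinearMap.ker φ)) ≤ I • ⊤ := by
      intro k _
      exact mem_smul_of_one_tmul_eq_zero I _ k (Subsingleton.elim _ _)
    have hbot : (⊤ : Submodule R (LinearMap.ker φ)) = ⊥ :=
      Submodule.eq_bot_of_le_smul_of_le_jacobson_bot I ⊤ Module.Finite.fg_top htop hI
    haveI hss : Subsingleton (LinearMap.ker φ) := by
      refine ⟨fun a c => ?_⟩
      have ha : a ∈ (⊥ : Submodule R (LinearMap.ker φ)) := hbot ▸ Submodule.mem_top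
      have hc : c ∈ (⊥ : Submodule R (LinearMap.ker φ)) := hbot ▸ Submodule.mem_top
      rw [(Submodule.mem_bot R).1 ha, (Submodule.mem_bot R).1 hc]
    -- hence `P ≃ Rⁿ`
    have e3 : (Fin n → R) ≃ₗ[R] P :=
      e1.trans (LinearEquiv.ofBijective (LinearMap.fst R P (LinearMap.ker φ))
        ⟨fun x y hxy => Prod.ext hxy (Subsingleton.elim _ _), LinearMap.fst_surjective⟩)
    exact Module.Free.of_equiv e3
  · haveI : Subsingleton P := Module.subsingleton R P
    infer_instance

end Lift

section Class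

variable (R : Type u) [CommRing R]

/-- the class of finite stably free modules -/
def Pc : ObjectProperty (ModuleCat.{u} R) := fun X => Module.Finite R X ∧ Module.IsStablyFree R X

instance : (Pc R).IsClosedUnderIsomorphisms where
  of_iso e h :=
    ⟨haveI := h.1; Module.Finite.equiv e.toLinearEquiv,
      haveI := h.2; Module.IsStablyFree.equiv e.toLinearEquiv⟩

theorem pc_h1 (X : ModuleCat.{u} R) (h : Pc R X) : Module.Projective R X := by
  haveI := h.2
  infer_instance

/-- reassociation of products -/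
def prodAssoc4 (A B C D : Type*) [AddCommGroup A] [Module R A] [AddCommGroup B] [Module R B]
    [AddCommGroup C] [Module R C] [AddCommGroup D] [Module R D] :
    (B × (C × (A × D))) ≃ₗ[R] (((A × B) × C) × D) where
  toFun p := (((p.2.2.1, p.1), p.2.1), p.2.2.2)
  map_add' _ _ := rfl
  map_smul' _ _ := rfl
  invFun q := (q.1.1.2, (q.1.2, (q.1.1.1, q.2)))
  left_inv _ := rfl
  right_inv _ := rfl

/-- reassociation of products -/
def prodAssoc4' (A B C D : Type*) [AddCommGroup A] [Module R A] [AddCommGroup B] [Module R B]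
    [AddCommGroup C] [Module R C] [AddCommGroup D] [Module R D] :
    ((A × B) × (C × D)) ≃ₗ[R] ((A × C) × (B × D)) where
  toFun p := ((p.1.1, p.2.1), (p.1.2, p.2.2))
  map_add' _ _ := rfl
  map_smul' _ _ := rfl
  invFun q := ((q.1.1, q.2.1), (q.1.2, q.2.2))
  left_inv _ := rfl
  right_inv _ := rfl

theorem pc_h2 (X Y : ModuleCat.{u} R) (hX : Pc R X) :
    Pc R (ModuleCat.of R (X × Y)) ↔ Pc R Y := by
  haveI := hX.1
  haveI := hX.2
  constructor
  · intro h
    haveI h1 : Module.Finite R (X × Y) := h.1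
    haveI h2 : Module.IsStablyFree R (X × Y) := h.2
    refine ⟨Module.Finite.of_surjective (LinearMap.snd R X Y) LinearMap.snd_surjective, ?_⟩
    obtain ⟨N, _, _, hNfin, hNfree, hfree⟩ := Module.IsStablyFree.exist_free_prod R (X × Y)
    obtain ⟨N', _, _, hN'fin, hN'free, hfree'⟩ := Module.IsStablyFree.exist_free_prod R X
    haveI : Module.Finite R (X × N') := inferInstance
    haveI : Module.Free R (Y × (N × (X × N'))) :=
      Module.Free.of_equiv (prodAssoc4 R X Y N N').symm
    exact Module.IsStablyFree.of_free_prod R Y (N × (X × N'))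
  · intro h
    haveI := h.1
    haveI := h.2
    refine ⟨(inferInstance : Module.Finite R (X × Y)), ?_⟩
    obtain ⟨N, _, _, hNfin, hNfree, hfree⟩ := Module.IsStablyFree.exist_free_prod R X
    obtain ⟨N', _, _, hN'fin, hN'free, hfree'⟩ := Module.IsStablyFree.exist_free_prod R Y
    haveI : Module.Free R ((X × Y) × (N × N')) :=
      Module.Free.of_equiv (prodAssoc4' R X Y N N').symm
    exact Module.IsStablyFree.of_free_prod R (X × Y) (N × N')

theorem pc_h3 (I : Ideal R) (hI : I ≤ Ideal.jacobson (⊥ : Ideal R)) (X Y : ModuleCat.{u} R)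
    (f : X ⟶ Y) (_ : Pc R X) (hY : Pc R Y)
    (h : LinearMap.range f.hom ⊔ I • (⊤ : Submodule R Y) = ⊤) : Function.Surjective f.hom := by
  haveI := hY.1
  exact surjective_of_sup_smul_eq_top I hI f.hom h

end Class

end Groth.Agent.R2.H52.StablyFree
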