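import Mathlib
import Groth.Agent.R2.H52HenselMat
import Groth.Agent.R2.H52ProjLift
import Groth.Agent.R2.H52StablyFree

/-!
# helper52: finite projective modules lift along henselian pairs; the class of finite projective
modules (for S6973)
-/

set_option autoImplicit false
universe u

namespace Groth.Agent.R2.H52.HenselProj

open CategoryTheory CategoryTheory.Limits TensorProduct Matrix
open Groth.Agent.R2.H52.AcycLift Groth.Agent.R2.H52.RepLift Groth.Agent.R2.H52.ProjLift

section Lift

variable {A : Type u} [CommRing A] (I : Ideal A)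

/-- coordinatewise reduction -/
def redv (n : ℕ) (v : Fin n → A) : Fin n → A ⧸ I := fun j => Ideal.Quotient.mk I (v j)

theorem redv_surjective (n : ℕ) : Function.Surjective (redv I n) := by
  intro w
  choose v hv using fun j => Ideal.Quotient.mk_surjective (w j)
  exact ⟨v, funext hv⟩

theorem mem_smul_top_of_redv_eq_zero (n : ℕ) (v : Fin n → A) (h : redv I n v = 0) :
    v ∈ I • (⊤ : Submodule A (Fin n → A)) := by
  have hv : ∀ j, v j ∈ I := fun j => Ideal.Quotient.eq_zero_iff_mem.1 (congrFun h j)
  have e : v = ∑ j, v j • (Pi.single j (1 : A) : Fin n → A) := by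
    ext k
    simp [Finset.sum_apply, Pi.single_apply]
  rw [e]
  exact Submodule.sum_mem _ fun j _ => Submodule.smul_mem_smul (hv j) Submodule.mem_top

theorem redv_mulVec (n : ℕ) (M : Matrix (Fin n) (Fin n) A) (v : Fin n → A) :
    redv I n (M *ᵥ v) = (M.map (Ideal.Quotient.mk I)) *ᵥ (redv I n v) := by
  ext i
  exact RingHom.map_mulVec (Ideal.Quotient.mk I) M v i

/-- finite projective modules lift along henselian pairs -/
theorem exists_lift_finite_projective [HenselianRing A I]
    (Z : Type u) [AddCommGroup Z] [Module (A ⧸ I) Z] [Module.Finite (A ⧸ I) Z]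
    [Module.Projective (A ⧸ I) Z] :
    ∃ X : ModuleCat.{u} A, (Module.Finite A X ∧ Module.Projective A X) ∧
      Nonempty ((A ⧸ I) ⊗[A] X ≃ₗ[A ⧸ I] Z) := by
  classical
  obtain ⟨n, p, hp⟩ := Module.Finite.exists_fin' (A ⧸ I) Z
  obtain ⟨s, hs⟩ := Module.projective_lifting_property p LinearMap.id hp
  have hps : ∀ z, p (s z) = z := fun z => LinearMap.congr_fun hs z
  -- the idempotent matrix of `s ∘ p`
  let pbar : Matrix (Fin n) (Fin n) (A ⧸ I) := LinearMap.toMatrix' (s ∘ₗ p)
  have hpbar_mul : ∀ w : Fin n → A ⧸ I, pbar *ᵥ w = s (p w) := fun w => by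
    show (LinearMap.toMatrix' (s ∘ₗ p)) *ᵥ w = _
    rw [← Matrix.toLin'_apply, Matrix.toLin'_toMatrix']
    rfl
  have hpbar : IsIdempotentElem pbar := by
    show pbar * pbar = pbar
    rw [← LinearMap.toMatrix'_mul]
    congr 1
    apply LinearMap.ext
    intro w
    show s (p (s (p w))) = s (p w)
    rw [hps]
  obtain ⟨eM, heM, heMp⟩ := HenselMat.exists_idempotent_lift I n pbar hpbar
  let e : (Fin n → A) →ₗ[A] (Fin n → A) := Matrix.toLin' eM
  have he : ∀ v, e (e v) = e v := by
    intro v
    show Matrix.toLin' eM (Matrix.toLin' eM v) = Matrix.toLin' eM v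
    rw [← LinearMap.comp_apply, ← Matrix.toLin'_mul, heM.eq]
  have hred_e : ∀ v, redv I n (e v) = s (p (redv I n v)) := by
    intro v
    show redv I n (eM *ᵥ v) = _
    rw [redv_mulVec, heMp, hpbar_mul]
  let e' : (Fin n → A) →ₗ[A] LinearMap.range e := e.rangeRestrict
  have hfix : ∀ w : LinearMap.range e, e (w : Fin n → A) = (w : Fin n → A) := by
    rintro ⟨_, y, rfl⟩
    exact he y
  refine ⟨ModuleCat.of A (LinearMap.range e), ⟨?_, ?_⟩, ?_⟩
  · exact Module.Finite.of_surjective e' (LinearMap.surjective_rangeRestrict e)
  · exact Module.Projective.of_split (LinearMap.range e).subtype e' (by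
      apply LinearMap.ext
      intro w
      apply Subtype.ext
      exact hfix w)
  · let u : LinearMap.range e →+ Z :=
      { toFun := fun w => p (redv I n (w : Fin n → A))
        map_zero' := by
          have : redv I n (0 : Fin n → A) = 0 := by ext j; simp [redv]
          simp [this]
        map_add' := fun w w' => by
          have : redv I n ((w : Fin n → A) + (w' : Fin n → A)) =
              redv I n (w : Fin n → A) + redv I n (w' : Fin n → A) := by ext j; simp [redv]
          simp [this] }
    obtain ⟨φ, -⟩ := exists_tensorEquiv_of_red I (LinearMap.range e) Z u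
      (fun r w => by
        show p (redv I n ((r • w : LinearMap.range e) : Fin n → A)) = _
        have : redv I n ((r • w : LinearMap.range e) : Fin n → A) =
            (Ideal.Quotient.mk I r) • redv I n (w : Fin n → A) := by ext j; simp [redv]
        rw [this, map_smul]
        rfl)
      (fun z => by
        obtain ⟨y, hy⟩ := redv_surjective I n (s z)
        refine ⟨e' y, ?_⟩
        show p (redv I n (e y)) = z
        rw [hred_e, hy, hps, hps])
      (fun w hw => by
        have h0 : p (redv I n (w : Fin n → A)) = 0 := hw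
        have h1 : redv I n (e (w : Fin n → A)) = 0 := by
          rw [hred_e, h0, map_zero]
        rw [hfix w] at h1
        have h2 := mem_smul_top_of_redv_eq_zero I n _ h1
        have h3 := map_mem_smul_top' I e' _ h2
        have h4 : e' (w : Fin n → A) = w := Subtype.ext (hfix w)
        rw [h4] at h3
        exact h3)
    exact ⟨φ⟩

end Lift

section Class

variable (R : Type u) [CommRing R]

/-- the class of finite projective modules -/
def Pc : ObjectProperty (ModuleCat.{u} R) := fun X => Module.Finite R X ∧ Module.Projective R X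

instance : (Pc R).IsClosedUnderIsomorphisms where
  of_iso e h :=
    ⟨haveI := h.1; Module.Finite.equiv e.toLinearEquiv,
      haveI := h.2; Module.Projective.of_equiv e.toLinearEquiv⟩

theorem pc_h1 (X : ModuleCat.{u} R) (h : Pc R X) : Module.Projective R X := h.2

theorem pc_h2 (X Y : ModuleCat.{u} R) (hX : Pc R X) :
    Pc R (ModuleCat.of R (X × Y)) ↔ Pc R Y := by
  haveI := hX.1
  haveI := hX.2
  constructor
  · intro h
    haveI h1 : Module.Finite R (X × Y) := h.1
    haveI h2 : Module.Projective R (X × Y) := h.2
    exact ⟨Module.Finite.of_surjective (LinearMap.snd R X Y) LinearMap.snd_surjective,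
      Module.Projective.of_split (LinearMap.inr R X Y) (LinearMap.snd R X Y)
        (LinearMap.ext fun _ => rfl)⟩
  · intro h
    haveI := h.1
    haveI := h.2
    exact ⟨(inferInstance : Module.Finite R (X × Y)),
      (inferInstance : Module.Projective R (X × Y))⟩

theorem pc_h3 (I : Ideal R) (hI : I ≤ Ideal.jacobson (⊥ : Ideal R)) (X Y : ModuleCat.{u} R)
    (f : X ⟶ Y) (_ : Pc R X) (hY : Pc R Y)
    (h : LinearMap.range f.hom ⊔ I • (⊤ : Submodule R Y) = ⊤) : Function.Surjective f.hom := by
  haveI := hY.1
  exact StablyFree.surjective_of_sup_smul_eq_top I hI f.hom h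

end Class

end Groth.Agent.R2.H52.HenselProj
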