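import Mathlib
import Groth.Agent.R2.H52RepLift2

/-!
# helper52: reduction modulo `I` preserves K-projective complexes
-/

set_option autoImplicit false
universe u

namespace Groth.Agent.R2.H52.KProjBC

open CategoryTheory CategoryTheory.Limits TensorProduct
open scoped ChangeOfRings
open Groth.Agent.R2.H52.AcycLift Groth.Agent.R2.H52.RepLift

variable {R : Type u} [CommRing R] (I : Ideal R)

/-- restriction of scalars -/
noncomputable abbrev Res := ModuleCat.restrictScalars.{u, u, u} (Ideal.Quotient.mk I)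

/-- the adjunction -/
noncomputable abbrev adj := ModuleCat.extendRestrictScalarsAdj.{u, u, u} (Ideal.Quotient.mk I)

/-- the adjoint of a map out of a reduction -/
noncomputable def flat {M : ModuleCat.{u} R} {N : ModuleCat.{u} (R ⧸ I)} (φ : (G I).obj M ⟶ N) :
    M ⟶ (Res I).obj N := (adj I).homEquiv M N φ

theorem flat_apply {M : ModuleCat.{u} R} {N : ModuleCat.{u} (R ⧸ I)} (φ : (G I).obj M ⟶ N)
    (m : M) : (flat I φ).hom m = φ.hom (red I M m) := rfl

/-- the adjoint of a map into a restriction -/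
noncomputable def sharp {M : ModuleCat.{u} R} {N : ModuleCat.{u} (R ⧸ I)} (g : M ⟶ (Res I).obj N) :
    (G I).obj M ⟶ N := ((adj I).homEquiv M N).symm g

theorem sharp_apply {M : ModuleCat.{u} R} {N : ModuleCat.{u} (R ⧸ I)} (g : M ⟶ (Res I).obj N)
    (m : M) : (sharp I g).hom (red I M m) = g.hom m := by
  have h : flat I (sharp I g) = g := Equiv.apply_symm_apply _ _
  rw [← flat_apply, h]

theorem sharp_zero {M : ModuleCat.{u} R} {N : ModuleCat.{u} (R ⧸ I)} :
    sharp I (0 : M ⟶ (Res I).obj N) = 0 := by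
  apply hom_ext_red
  intro m
  rw [sharp_apply]
  rfl

variable {I}

/-- the adjoint of a chain map out of a reduction -/
noncomputable def flatC {P : CochainComplex (ModuleCat.{u} R) ℤ}
    {L : CochainComplex (ModuleCat.{u} (R ⧸ I)) ℤ} (φ : (B I).obj P ⟶ L) :
    P ⟶ ((Res I).mapHomologicalComplex (ComplexShape.up ℤ)).obj L where
  f n := flat I (φ.f n)
  comm' i j _ := by
    ext x
    show (L.d i j).hom ((φ.f i).hom (red I _ x)) = (φ.f j).hom (red I _ ((P.d i j).hom x))
    have h := congrArg (fun ψ => ψ.hom (red I _ x)) (φ.comm i j)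
    exact h

theorem acyclic_res {L : CochainComplex (ModuleCat.{u} (R ⧸ I)) ℤ} (hL : L.Acyclic) :
    (((Res I).mapHomologicalComplex (ComplexShape.up ℤ)).obj L).Acyclic := by
  intro m
  obtain ⟨n, rfl⟩ : ∃ n, m = n + 1 := ⟨m - 1, by omega⟩
  have h1 := hL (n + 1)
  rw [HomologicalComplex.exactAt_iff' _ n (n + 1) (n + 1 + 1) (by simp) (by simp),
    ShortComplex.moduleCat_exact_iff] at h1 ⊢
  intro c hc
  obtain ⟨y, hy⟩ := h1 c hc
  exact ⟨y, hy⟩

theorem isKProjective_bc (P : CochainComplex (ModuleCat.{u} R) ℤ) [P.IsKProjective] :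
    CochainComplex.IsKProjective ((B I).obj P) := by
  constructor
  intro L φ hL
  have s := CochainComplex.IsKProjective.homotopyZero (flatC φ) (acyclic_res hL)
  refine ⟨{ hom := fun i j => sharp I (s.hom i j), zero := ?_, comm := ?_ }⟩
  · intro i j hij
    rw [s.zero i j hij]
    exact sharp_zero I
  · intro i
    have hs := s.comm i
    rw [dNext_eq _ (show (ComplexShape.up ℤ).Rel i (i + 1) from rfl),
      prevD_eq _ (show (ComplexShape.up ℤ).Rel (i - 1) i by simp)] at hs ⊢
    apply hom_ext_red
    intro x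
    have hx := congrArg (fun ψ => ψ.hom x) hs
    have e1 : (sharp I (s.hom (i + 1) i)).hom (red I _ ((P.d i (i + 1)).hom x)) =
        (s.hom (i + 1) i).hom ((P.d i (i + 1)).hom x) := sharp_apply I _ _
    have e2 : (sharp I (s.hom i (i - 1))).hom (red I _ x) = (s.hom i (i - 1)).hom x :=
      sharp_apply I _ _
    refine (show _ = _ from hx).trans ?_
    simp only [ModuleCat.hom_add, ModuleCat.hom_comp, LinearMap.add_apply, LinearMap.comp_apply,
      HomologicalComplex.zero_f, add_zero]
    rw [← e1, ← e2]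
    rfl

end Groth.Agent.R2.H52.KProjBC
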