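import Mathlib

/-!
# helper52: complexes of vector spaces and their cohomology

* `HCx V`: the complex with zero differential on the cohomology of a complex `V` of vector spaces,
  `toV V : HCx V ⟶ V` a quasi-isomorphism;
* a complex of finite dimensional vector spaces with `dim H^i = dim V^i` for all `i` has zero
  differential;
* a quasi-isomorphism between complexes with zero differentials is an isomorphism termwise.
-/

set_option autoImplicit false
set_option linter.style.haveILetI false

universe u

open CategoryTheory CategoryTheory.Limits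

namespace Groth.Agent.R2.H52.MinCx

section ZeroDiff

variable {C : Type*} [Category C] [Abelian C]

/-- a morphism between complexes with zero differentials which is a quasi-isomorphism in degree
`i` is an isomorphism in degree `i`. -/
theorem isIso_f_of_quasiIsoAt {K L : CochainComplex C ℤ} (f : K ⟶ L) (i : ℤ)
    (hK : ∀ a b : ℤ, K.d a b = 0) (hL : ∀ a b : ℤ, L.d a b = 0) [QuasiIsoAt f i] :
    IsIso (f.f i) := by
  haveI h1 : IsIso (K.iCycles i) := K.isIso_iCycles i (i + 1) (by simp) (hK _ _)
  haveI h2 : IsIso (L.iCycles i) := L.isIso_iCycles i (i + 1) (by simp) (hL _ _)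
  haveI h3 : IsIso (K.homologyπ i) := K.isIso_homologyπ (i - 1) i (by simp) (hK _ _)
  haveI h4 : IsIso (L.homologyπ i) := L.isIso_homologyπ (i - 1) i (by simp) (hL _ _)
  haveI h5 : IsIso (HomologicalComplex.homologyMap f i) :=
    (quasiIsoAt_iff_isIso_homologyMap f i).1 inferInstance
  have e1 : HomologicalComplex.cyclesMap f i =
      K.homologyπ i ≫ HomologicalComplex.homologyMap f i ≫ inv (L.homologyπ i) := by
    rw [← Category.assoc, HomologicalComplex.homologyπ_naturality, Category.assoc,
      IsIso.hom_inv_id, Category.comp_id]
  haveI h6 : IsIso (HomologicalComplex.cyclesMap f i) := by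
    rw [e1]; infer_instance
  have e2 : f.f i = inv (K.iCycles i) ≫ HomologicalComplex.cyclesMap f i ≫ L.iCycles i := by
    rw [HomologicalComplex.cyclesMap_i, IsIso.inv_hom_id_assoc]
  rw [e2]
  infer_instance

end ZeroDiff

section Field

variable {k : Type u} [Field k] (V : CochainComplex (ModuleCat.{u} k) ℤ)

instance projective_of_field (M : ModuleCat.{u} k) : Projective M := by
  haveI : Module.Projective k M := Module.Projective.of_free
  exact ModuleCat.projective_of_categoryTheory_projective _

/-- the complex with zero differential on the cohomology of `V`. -/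
noncomputable def HCx : CochainComplex (ModuleCat.{u} k) ℤ where
  X i := V.homology i
  d _ _ := 0

theorem HCx_d (a b : ℤ) : (HCx V).d a b = 0 := rfl

/-- the terms of `HCx V` are the cohomology modules of `V`. -/
noncomputable def xIso (i : ℤ) : (HCx V).X i ≅ V.homology i := Iso.refl _

/-- a section of `Z^i → H^i`. -/
noncomputable def sect (i : ℤ) : (HCx V).X i ⟶ V.cycles i :=
  Projective.factorThru (xIso V i).hom (V.homologyπ i)

@[reassoc (attr := simp)]
theorem sect_π (i : ℤ) : sect V i ≫ V.homologyπ i = (xIso V i).hom :=
  Projective.factorThru_comp _ _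

/-- the quasi-isomorphism `H(V) → V`. -/
noncomputable def toV : HCx V ⟶ V where
  f i := sect V i ≫ V.iCycles i
  comm' i j _ := by
    rw [Category.assoc, HomologicalComplex.iCycles_d, comp_zero, HCx_d, zero_comp]

theorem toV_f (i : ℤ) : (toV V).f i = sect V i ≫ V.iCycles i := rfl

instance quasiIso_toV : QuasiIso (toV V) := by
  rw [quasiIso_iff]
  intro i
  rw [quasiIsoAt_iff_isIso_homologyMap]
  haveI h1 : IsIso ((HCx V).iCycles i) :=
    (HCx V).isIso_iCycles i (i + 1) (by simp) (HCx_d V _ _)
  haveI h3 : IsIso ((HCx V).homologyπ i) :=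
    (HCx V).isIso_homologyπ (i - 1) i (by simp) (HCx_d V _ _)
  have e1 : HomologicalComplex.cyclesMap (toV V) i = (HCx V).iCycles i ≫ sect V i := by
    rw [← cancel_mono (V.iCycles i), HomologicalComplex.cyclesMap_i, Category.assoc, toV_f]
  have e2 : (HCx V).homologyπ i ≫ HomologicalComplex.homologyMap (toV V) i =
      (HCx V).iCycles i ≫ (xIso V i).hom := by
    rw [HomologicalComplex.homologyπ_naturality, e1, Category.assoc, sect_π]
  have e3 : HomologicalComplex.homologyMap (toV V) i =
      inv ((HCx V).homologyπ i) ≫ (HCx V).iCycles i ≫ (xIso V i).hom := by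
    rw [← e2, IsIso.inv_hom_id_assoc]
  rw [e3]
  infer_instance

end Field

section FinDim

variable {k : Type u} [Field k] (V : CochainComplex (ModuleCat.{u} k) ℤ)

theorem finite_cycles (i : ℤ) [Module.Finite k (V.X i)] : Module.Finite k (V.cycles i) :=
  Module.Finite.of_injective (V.iCycles i).hom ((ModuleCat.mono_iff_injective _).1 inferInstance)

theorem finite_homology (i : ℤ) [Module.Finite k (V.X i)] : Module.Finite k (V.homology i) :=
  haveI := finite_cycles V i
  Module.Finite.of_surjective (V.homologyπ i).hom ((ModuleCat.epi_iff_surjective _).1 inferInstance)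

/-- dimension count: if `dim H^i(V) = dim V^i` then the differential out of `V^i` vanishes. -/
theorem d_eq_zero_of_finrank_eq (i : ℤ) [Module.Finite k (V.X i)]
    (h : Module.finrank k (V.homology i) = Module.finrank k (V.X i)) :
    V.d i (i + 1) = 0 := by
  haveI := finite_cycles V i
  have hinj : Function.Injective (V.iCycles i).hom := (ModuleCat.mono_iff_injective _).1 inferInstance
  have hsurj : Function.Surjective (V.homologyπ i).hom :=
    (ModuleCat.epi_iff_surjective _).1 inferInstance
  have h1 : Module.finrank k (V.cycles i) ≤ Module.finrank k (V.X i) :=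
    LinearMap.finrank_le_finrank_of_injective hinj
  have h2 : Module.finrank k (V.homology i) ≤ Module.finrank k (V.cycles i) :=
    LinearMap.finrank_le_finrank_of_surjective hsurj
  have h3 : Module.finrank k (V.cycles i) = Module.finrank k (V.X i) := le_antisymm h1 (h ▸ h2)
  have hs : Function.Surjective (V.iCycles i).hom :=
    (LinearMap.injective_iff_surjective_of_finrank_eq_finrank h3).1 hinj
  haveI : Epi (V.iCycles i) := (ModuleCat.epi_iff_surjective _).2 hs
  rw [← cancel_epi (V.iCycles i), HomologicalComplex.iCycles_d, comp_zero]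

theorem d_eq_zero_of_forall_finrank_eq [∀ i, Module.Finite k (V.X i)]
    (h : ∀ i : ℤ, Module.finrank k (V.homology i) = Module.finrank k (V.X i)) (a b : ℤ) :
    V.d a b = 0 := by
  by_cases hab : a + 1 = b
  · subst hab
    exact d_eq_zero_of_finrank_eq V a (h a)
  · exact V.shape _ _ hab

end FinDim

end Groth.Agent.R2.H52.MinCx
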