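import Mathlib
import Groth.Agent.R2.H52StablyFree
import Groth.Agent.R2.H52RepLift2

/-!
# helper52: from an isomorphism with `extendScalars` to an equivalence with the tensor product
-/

set_option autoImplicit false
universe u

namespace Groth.Agent.R2.H52.StablyFree

open CategoryTheory CategoryTheory.Limits TensorProduct
open Groth.Agent.R2.H52.AcycLift Groth.Agent.R2.H52.RepLift

variable {R : Type u} [CommRing R] (I : Ideal R)

theorem nonempty_tensorEquiv_of_iso (M : ModuleCat.{u} R) (N : ModuleCat.{u} (R ⧸ I))
    (e : (G I).obj M ≅ N) : Nonempty ((R ⧸ I) ⊗[R] M ≃ₗ[R ⧸ I] N) := by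
  have hbij : Function.Bijective e.hom.hom :=
    (ConcreteCategory.isIso_iff_bijective e.hom).1 inferInstance
  let u : M →+ N :=
    { toFun := fun m => e.hom.hom (red I M m)
      map_zero' := by rw [red_zero]; exact map_zero e.hom.hom
      map_add' := fun a b => by rw [red_add]; exact map_add e.hom.hom _ _ }
  obtain ⟨ψ, -⟩ := exists_tensorEquiv_of_red I M N u
    (fun r m => by
      show e.hom.hom (red I M (r • m)) = _
      rw [red_smul]
      exact map_smul e.hom.hom _ _)
    (fun n => by
      obtain ⟨z, hz⟩ := hbij.2 n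
      obtain ⟨m, hm⟩ := red_surjective I M z
      exact ⟨m, by show e.hom.hom (red I M m) = n; rw [hm, hz]⟩)
    (fun m hm => mem_of_red_eq_zero I M m (hbij.1 (hm.trans (map_zero e.hom.hom).symm)))
  exact ⟨ψ⟩

end Groth.Agent.R2.H52.StablyFree
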