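import Mathlib
import Groth.Agent.R2.H52RepLift2
import Groth.Agent.Lib.Helper29ExtLift
import Groth.Prelude.Def_DDual2

/-!
# helper52: S7013, part 3: the lifted cone `C'`, the lifted chain map `g : Qc ⟶ C'`
-/

set_option autoImplicit false
universe u

namespace Groth.Agent.R2.H52.RepLift

open CategoryTheory CategoryTheory.Limits TensorProduct
open scoped ChangeOfRings
open Groth.Agent.R2.H52.AcycLift Groth.Agent.R2.H52.LiftQis

section Aux

variable {R : Type u} [CommRing R] (I : Ideal R)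

theorem prod_mem_smul_top {M N : Type u} [AddCommGroup M] [Module R M] [AddCommGroup N] [Module R N]
    (x : M) (y : N) (hx : x ∈ I • (⊤ : Submodule R M)) (hy : y ∈ I • (⊤ : Submodule R N)) :
    ((x, y) : M × N) ∈ I • (⊤ : Submodule R (M × N)) := by
  have e1 : ((x, y) : M × N) = LinearMap.inl R M N x + LinearMap.inr R M N y := by simp
  rw [e1]
  refine Submodule.add_mem _ ?_ ?_
  · have : Submodule.map (LinearMap.inl R M N) (I • ⊤) ≤ I • ⊤ := by
      rw [Submodule.map_smul'']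
      exact Submodule.smul_mono (le_refl _) le_top
    exact this (Submodule.mem_map_of_mem hx)
  · have : Submodule.map (LinearMap.inr R M N) (I • ⊤) ≤ I • ⊤ := by
      rw [Submodule.map_smul'']
      exact Submodule.smul_mono (le_refl _) le_top
    exact this (Submodule.mem_map_of_mem hy)

theorem map_mem_smul_top {M N : Type u} [AddCommGroup M] [Module R M] [AddCommGroup N] [Module R N]
    (φ : M →ₗ[R] N) (x : M) (hx : x ∈ I • (⊤ : Submodule R M)) :
    φ x ∈ I • (⊤ : Submodule R N) := by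
  have : Submodule.map φ (I • ⊤) ≤ I • ⊤ := by
    rw [Submodule.map_smul'']
    exact Submodule.smul_mono (le_refl _) le_top
  exact this (Submodule.mem_map_of_mem hx)

end Aux

section Lift

variable {R : Type u} [CommRing R] {I : Ideal R} {Pc : ObjectProperty (ModuleCat.{u} R)}
  [Pc.IsClosedUnderIsomorphisms] (T : Setup I Pc)

/-- lifts of the terms of the cone -/
noncomputable def Setup.Y (n : ℤ) : ModuleCat.{u} R := ModuleCat.of R (T.X (n + 1) × T.Qc.X n)

omit [Pc.IsClosedUnderIsomorphisms] in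
theorem Setup.hY (n : ℤ) : Pc (T.Y n) :=
  (T.h2 (T.X (n + 1)) (T.Qc.X n) (T.hX _)).2 (T.hQ n)

/-- the reduction map of the lifts of the terms of the cone -/
noncomputable def Setup.uY (n : ℤ) : (T.X (n + 1) × T.Qc.X n) →+ (T.E.X (n + 1) × T.F.X n) where
  toFun p := (T.ψ (n + 1) ((1 : R ⧸ I) ⊗ₜ[R] p.1), red I _ p.2)
  map_zero' := by
    refine Prod.ext ?_ ?_
    · simp
    · exact red_zero I _
  map_add' p q := by
    refine Prod.ext ?_ ?_
    · simp [TensorProduct.tmul_add]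
    · exact red_add I _ _ _

omit [Pc.IsClosedUnderIsomorphisms] in
theorem Setup.uY_apply (n : ℤ) (x : T.X (n + 1)) (q : T.Qc.X n) :
    T.uY n (x, q) = ((T.ψ (n + 1) ((1 : R ⧸ I) ⊗ₜ[R] x), red I _ q) : T.E.X (n + 1) × T.F.X n) :=
  rfl

omit [Pc.IsClosedUnderIsomorphisms] in
theorem Setup.uY_smul (n : ℤ) (r : R) (p : T.X (n + 1) × T.Qc.X n) :
    T.uY n (r • p) = (Ideal.Quotient.mk I r) • T.uY n p := by
  obtain ⟨x, q⟩ := p
  show T.uY n (r • x, r • q) = _
  rw [Setup.uY_apply, Setup.uY_apply, one_tmul_smul, map_smul, red_smul]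
  rfl

omit [Pc.IsClosedUnderIsomorphisms] in
theorem Setup.uY_surjective (n : ℤ) : Function.Surjective (T.uY n) := by
  rintro ⟨e, y⟩
  obtain ⟨x, hx⟩ := exists_one_tmul I (T.X (n + 1)) ((T.ψ (n + 1)).symm e)
  obtain ⟨q, hq⟩ := red_surjective I (T.Qc.X n) y
  refine ⟨(x, q), ?_⟩
  rw [Setup.uY_apply, hx, hq, LinearEquiv.apply_symm_apply]

omit [Pc.IsClosedUnderIsomorphisms] in
theorem Setup.mem_of_uY_eq_zero (n : ℤ) (p : T.X (n + 1) × T.Qc.X n) (h : T.uY n p = 0) :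
    p ∈ I • (⊤ : Submodule R (T.X (n + 1) × T.Qc.X n)) := by
  obtain ⟨x, q⟩ := p
  rw [Setup.uY_apply] at h
  have h1 : T.ψ (n + 1) ((1 : R ⧸ I) ⊗ₜ[R] x) = 0 := congrArg Prod.fst h
  have h2 : red I _ q = 0 := congrArg Prod.snd h
  have h3 : (1 : R ⧸ I) ⊗ₜ[R] x = 0 := (T.ψ (n + 1)).map_eq_zero_iff.1 h1
  exact prod_mem_smul_top I x q (mem_smul_of_one_tmul_eq_zero I _ x h3)
    (mem_of_red_eq_zero I _ q h2)

omit [Pc.IsClosedUnderIsomorphisms] in
theorem Setup.exists_ψY (n : ℤ) :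
    ∃ ψ : (R ⧸ I) ⊗[R] (T.Y n) ≃ₗ[R ⧸ I] T.C.X n,
      ∀ m : T.X (n + 1) × T.Qc.X n, ψ ((1 : R ⧸ I) ⊗ₜ[R] m) = T.uY n m :=
  exists_tensorEquiv_of_red I (T.X (n + 1) × T.Qc.X n) (T.E.X (n + 1) × T.F.X n) (T.uY n)
    (T.uY_smul n) (T.uY_surjective n) (T.mem_of_uY_eq_zero n)

/-- the data for lifting the cone -/
noncomputable def Setup.D : Data I Pc T.C (max T.b T.c) where
  h1 := T.h1
  h2 := fun X Y hX h => (T.h2 X Y hX).1 h
  h3 := T.h3
  hEb := T.C_vanishes
  hEa := T.C_acyclic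
  X := T.Y
  hX := T.hY
  ψ := fun n => Classical.choose (T.exists_ψY n)

/-- the lifted cone -/
noncomputable def Setup.C' : CochainComplex (ModuleCat.{u} R) ℤ := P T.D

theorem Setup.C'_acyclic : T.C'.Acyclic := P_acyclic T.D

theorem Setup.C'_pc (i : ℤ) : Pc (T.C'.X i) := P_pc T.D i

theorem Setup.C'_vanishes (i : ℤ) (hi : max T.b T.c < i) : IsZero (T.C'.X i) := P_vanishes T.D i hi

/-- the reduction of the lifted cone is the cone -/
noncomputable def Setup.eC : (B I).obj T.C' ≅ T.C := (nonempty_iso T.D).some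

theorem Setup.C'_isKProjective : T.C'.IsKProjective := by
  have hle : T.C'.IsStrictlyLE (max T.b T.c) := by
    rw [CochainComplex.isStrictlyLE_iff]
    exact T.C'_vanishes
  have : ∀ i : ℤ, Projective (T.C'.X i) := fun i =>
    have := T.h1 _ (T.C'_pc i)
    ModuleCat.projective_of_categoryTheory_projective _
  exact CochainComplex.isKProjective_of_projective T.C' (max T.b T.c)

/-- the contraction of the lifted cone -/
noncomputable def Setup.hC' : Homotopy (𝟙 T.C') 0 :=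
  haveI := T.C'_isKProjective
  CochainComplex.IsKProjective.homotopyZero (𝟙 T.C') T.C'_acyclic

/-- the inclusion of the reduction of `Qc` in the cone -/
noncomputable def Setup.ιF : T.F ⟶ T.C where
  f n := ModuleCat.ofHom (X := T.F.X n) (Y := ModuleCat.of (R ⧸ I) (T.E.X (n + 1) × T.F.X n))
    (LinearMap.inr (R ⧸ I) (T.E.X (n + 1)) (T.F.X n))
  comm' i j hij := by
    have hij' : i + 1 = j := hij
    subst hij'
    rw [Setup.C_d]
    ext y
    show (T.Cd i).hom ((0, y) : T.E.X (i + 1) × T.F.X i) =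
      ((0, (T.F.d i (i + 1)).hom y) : T.E.X (i + 1 + 1) × T.F.X (i + 1))
    rw [Setup.Cd_apply]
    refine Prod.ext ?_ ?_
    · show -(T.E.d (i + 1) (i + 1 + 1)).hom 0 = 0
      rw [map_zero, neg_zero]
    · show (T.α.f (i + 1)).hom 0 + (T.F.d i (i + 1)).hom y = (T.F.d i (i + 1)).hom y
      rw [map_zero, zero_add]

/-- the projection of the terms of the cone to the reduction of `Qc` -/
noncomputable def Setup.p₂ (n : ℤ) : T.C.X n ⟶ T.F.X n :=
  ModuleCat.ofHom (X := ModuleCat.of (R ⧸ I) (T.E.X (n + 1) × T.F.X n)) (Y := T.F.X n)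
    (LinearMap.snd (R ⧸ I) (T.E.X (n + 1)) (T.F.X n))

omit [Pc.IsClosedUnderIsomorphisms] in
theorem Setup.ιF_p₂ (n : ℤ) : T.ιF.f n ≫ T.p₂ n = 𝟙 _ := by
  ext y
  rfl

theorem Setup.exists_g₀ (n : ℤ) :
    ∃ g₀ : T.Qc.X n ⟶ T.C'.X n, (G I).map g₀ = T.ιF.f n ≫ T.eC.inv.f n := by
  haveI := T.h1 _ (T.hQ n)
  exact Groth.Agent.Lib.Helper29ExtLift.exists_map_eq I (T.Qc.X n) (T.C'.X n)
    (T.ιF.f n ≫ T.eC.inv.f n)

theorem Setup.exists_r₀ (n : ℤ) :
    ∃ r₀ : T.C'.X n ⟶ T.Qc.X n, (G I).map r₀ = T.eC.hom.f n ≫ T.p₂ n := by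
  haveI := T.h1 _ (T.C'_pc n)
  exact Groth.Agent.Lib.Helper29ExtLift.exists_map_eq I (T.C'.X n) (T.Qc.X n)
    (T.eC.hom.f n ≫ T.p₂ n)

/-- termwise lifts of the inclusion -/
noncomputable def Setup.g₀ (n : ℤ) : T.Qc.X n ⟶ T.C'.X n := Classical.choose (T.exists_g₀ n)

theorem Setup.g₀_spec (n : ℤ) : (G I).map (T.g₀ n) = T.ιF.f n ≫ T.eC.inv.f n :=
  Classical.choose_spec (T.exists_g₀ n)

/-- termwise lifts of the projection -/
noncomputable def Setup.r₀ (n : ℤ) : T.C'.X n ⟶ T.Qc.X n := Classical.choose (T.exists_r₀ n)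

theorem Setup.r₀_spec (n : ℤ) : (G I).map (T.r₀ n) = T.eC.hom.f n ≫ T.p₂ n :=
  Classical.choose_spec (T.exists_r₀ n)

/-- the lifted chain map -/
noncomputable def Setup.g : T.Qc ⟶ T.C' :=
  Homotopy.nullHomotopicMap (fun i j => T.g₀ i ≫ T.hC'.hom i j)

/-- the contraction of the cone induced by the contraction of the lifted cone -/
noncomputable def Setup.hC : Homotopy (𝟙 T.C) 0 :=
  (Homotopy.ofEq (by
      show 𝟙 T.C = T.eC.inv ≫ (B I).map (𝟙 T.C') ≫ T.eC.hom
      rw [CategoryTheory.Functor.map_id, Category.id_comp, Iso.inv_hom_id])).trans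
    ((((G I).mapHomotopy T.hC').compRight T.eC.hom).compLeft T.eC.inv |>.trans
      (Homotopy.ofEq (by
        show T.eC.inv ≫ (B I).map (0 : T.C' ⟶ T.C') ≫ T.eC.hom = 0
        rw [Functor.map_zero, zero_comp, comp_zero])))

theorem Setup.hC_hom (i j : ℤ) :
    T.hC.hom i j = T.eC.inv.f i ≫ (G I).map (T.hC'.hom i j) ≫ T.eC.hom.f j := by
  simp [Setup.hC, Homotopy.trans, Homotopy.ofEq, Homotopy.compLeft, Homotopy.compRight,
    Functor.mapHomotopy]
  rfl

theorem Setup.nullHomotopicMap_hC : Homotopy.nullHomotopicMap T.hC.hom = 𝟙 T.C := by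
  ext n : 1
  have h := T.hC.comm n
  simp only [HomologicalComplex.zero_f, add_zero] at h
  rw [h]
  rfl

theorem Setup.map_g_eC : (B I).map T.g ≫ T.eC.hom = T.ιF := by
  rw [Setup.g, Homotopy.map_nullHomotopicMap, Homotopy.nullHomotopicMap_comp]
  have h1 : (fun i j => (G I).map (T.g₀ i ≫ T.hC'.hom i j) ≫ T.eC.hom.f j) =
      fun i j => T.ιF.f i ≫ T.hC.hom i j := by
    funext i j
    rw [Functor.map_comp, T.g₀_spec, T.hC_hom]
    simp only [Category.assoc]
    rfl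
  refine (congrArg Homotopy.nullHomotopicMap h1).trans ?_
  rw [← Homotopy.comp_nullHomotopicMap, T.nullHomotopicMap_hC, Category.comp_id]

theorem Setup.map_g_eC_f (n : ℤ) : (G I).map (T.g.f n) ≫ T.eC.hom.f n = T.ιF.f n := by
  have h := congrArg (fun φ => φ.f n) T.map_g_eC
  exact h

/-- `r₀ ∘ g` is the identity modulo `I` -/
theorem Setup.map_g_r₀ (n : ℤ) : (G I).map (T.g.f n ≫ T.r₀ n) = 𝟙 _ := by
  rw [Functor.map_comp, T.r₀_spec]
  refine (Category.assoc _ _ _).symm.trans ?_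
  refine (congrArg (fun φ => φ ≫ T.p₂ n) (T.map_g_eC_f n)).trans ?_
  exact T.ιF_p₂ n

end Lift

end Groth.Agent.R2.H52.RepLift
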