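import Mathlib
import Groth.Agent.R2.H52RepLift3

/-!
# helper52: S7013, part 4: the complement `W` of `g : Qc ⟶ C'` and the degreewise split sequence
-/

set_option autoImplicit false
universe u

namespace Groth.Agent.R2.H52.RepLift

open CategoryTheory CategoryTheory.Limits TensorProduct
open scoped ChangeOfRings
open Groth.Agent.R2.H52.AcycLift Groth.Agent.R2.H52.LiftQis

section W

variable {R : Type u} [CommRing R] {I : Ideal R} {Pc : ObjectProperty (ModuleCat.{u} R)}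
  [Pc.IsClosedUnderIsomorphisms] (T : Setup I Pc)

/-- `r₀ ∘ g`, termwise -/
noncomputable def Setup.t (n : ℤ) : T.Qc.X n →ₗ[R] T.Qc.X n := (T.r₀ n).hom ∘ₗ (T.g.f n).hom

theorem Setup.red_t (n : ℤ) (x : T.Qc.X n) : red I _ (T.t n x) = red I _ x := by
  have h := T.map_g_r₀ n
  have h2 := congrArg (fun φ => φ.hom (red I _ x)) h
  exact h2

theorem Setup.t_sub_mem (n : ℤ) (x : T.Qc.X n) :
    T.t n x - x ∈ I • (⊤ : Submodule R (T.Qc.X n)) := by
  apply mem_of_red_eq_zero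
  rw [red_sub, T.red_t, sub_self]

theorem Setup.t_bijective (n : ℤ) : Function.Bijective (T.t n) :=
  bijective_of_congr_id I Pc T.h1 (fun X Y hX h => (T.h2 X Y hX).1 h) T.h3 (T.Qc.X n) (T.hQ n)
    (T.t n) (T.t_sub_mem n)

/-- `t` as an equivalence -/
noncomputable def Setup.te (n : ℤ) : T.Qc.X n ≃ₗ[R] T.Qc.X n :=
  LinearEquiv.ofBijective (T.t n) (T.t_bijective n)

/-- the corrected retraction of `g` -/
noncomputable def Setup.ρ (n : ℤ) : T.C'.X n →ₗ[R] T.Qc.X n :=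
  (T.te n).symm.toLinearMap ∘ₗ (T.r₀ n).hom

theorem Setup.ρ_g (n : ℤ) (x : T.Qc.X n) : T.ρ n ((T.g.f n).hom x) = x :=
  (T.te n).symm_apply_apply x

/-- the projector onto the kernel of `ρ` -/
noncomputable def Setup.π (n : ℤ) : T.C'.X n →ₗ[R] T.C'.X n :=
  LinearMap.id - (T.g.f n).hom ∘ₗ T.ρ n

theorem Setup.π_apply (n : ℤ) (c : T.C'.X n) : T.π n c = c - (T.g.f n).hom (T.ρ n c) := rfl

theorem Setup.ρ_π (n : ℤ) (c : T.C'.X n) : T.ρ n (T.π n c) = 0 := by
  rw [T.π_apply, map_sub, T.ρ_g, sub_self]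

theorem Setup.π_g (n : ℤ) (x : T.Qc.X n) : T.π n ((T.g.f n).hom x) = 0 := by
  rw [T.π_apply, T.ρ_g, sub_self]

theorem Setup.π_of_mem (n : ℤ) (c : T.C'.X n) (h : T.ρ n c = 0) : T.π n c = c := by
  rw [T.π_apply, h, map_zero, sub_zero]

/-- the terms of the complement -/
noncomputable def Setup.WX (n : ℤ) : ModuleCat.{u} R := ModuleCat.of R (LinearMap.ker (T.ρ n))

/-- the projection onto the complement -/
noncomputable def Setup.πW (n : ℤ) : T.C'.X n →ₗ[R] LinearMap.ker (T.ρ n) :=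
  LinearMap.codRestrict _ (T.π n) (fun c => T.ρ_π n c)

theorem Setup.πW_coe (n : ℤ) (c : T.C'.X n) : ((T.πW n c : LinearMap.ker (T.ρ n)) : T.C'.X n) =
    T.π n c := rfl

theorem Setup.πW_of_mem (n : ℤ) (w : LinearMap.ker (T.ρ n)) : T.πW n (w : T.C'.X n) = w :=
  Subtype.ext (T.π_of_mem n _ w.2)

/-- the differential of the complement -/
noncomputable def Setup.Wd (n : ℤ) : T.WX n ⟶ T.WX (n + 1) :=
  ModuleCat.ofHom (X := ModuleCat.of R (LinearMap.ker (T.ρ n)))
    (Y := ModuleCat.of R (LinearMap.ker (T.ρ (n + 1))))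
    (T.πW (n + 1) ∘ₗ (T.C'.d n (n + 1)).hom ∘ₗ (LinearMap.ker (T.ρ n)).subtype)

theorem Setup.Wd_apply (n : ℤ) (w : LinearMap.ker (T.ρ n)) :
    (T.Wd n).hom w = T.πW (n + 1) ((T.C'.d n (n + 1)).hom (w : T.C'.X n)) := rfl

theorem Setup.g_comm_apply (i j : ℤ) (x : T.Qc.X i) :
    (T.C'.d i j).hom ((T.g.f i).hom x) = (T.g.f j).hom ((T.Qc.d i j).hom x) := by
  have h := congrArg (fun φ => φ.hom x) (T.g.comm i j)
  exact h

theorem Setup.C'_d_d_apply (i j k : ℤ) (c : T.C'.X i) :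
    (T.C'.d j k).hom ((T.C'.d i j).hom c) = 0 := by
  show ((T.C'.d i j ≫ T.C'.d j k).hom) c = 0
  rw [T.C'.d_comp_d]
  rfl

/-- `π ∘ d ∘ π = π ∘ d` -/
theorem Setup.π_d_π (n : ℤ) (c : T.C'.X n) :
    T.π (n + 1) ((T.C'.d n (n + 1)).hom (T.π n c)) = T.π (n + 1) ((T.C'.d n (n + 1)).hom c) := by
  rw [T.π_apply n, map_sub, map_sub, T.g_comm_apply, T.π_g, sub_zero]

/-- the complement of `g : Qc ⟶ C'` -/
noncomputable def Setup.W : CochainComplex (ModuleCat.{u} R) ℤ :=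
  CochainComplex.of T.WX T.Wd (by
    intro n
    ext w
    change LinearMap.ker (T.ρ n) at w
    show (T.Wd (n + 1)).hom ((T.Wd n).hom w) = 0
    rw [T.Wd_apply, T.Wd_apply]
    apply Subtype.ext
    rw [T.πW_coe, T.πW_coe, T.π_d_π, T.C'_d_d_apply, map_zero]
    rfl)

theorem Setup.W_d (n : ℤ) : T.W.d n (n + 1) = T.Wd n := CochainComplex.of_d _ _ n

/-- the projection `C' ⟶ W` -/
noncomputable def Setup.πWc : T.C' ⟶ T.W where
  f n := ModuleCat.ofHom (X := T.C'.X n) (Y := ModuleCat.of R (LinearMap.ker (T.ρ n))) (T.πW n)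
  comm' i j hij := by
    have hij' : i + 1 = j := hij
    subst hij'
    rw [T.W_d]
    ext c
    show (T.Wd i).hom (T.πW i c) = T.πW (i + 1) ((T.C'.d i (i + 1)).hom c)
    rw [T.Wd_apply]
    apply Subtype.ext
    rw [T.πW_coe, T.πW_coe, T.πW_coe, T.π_d_π]

theorem Setup.πWc_f_apply (n : ℤ) (c : T.C'.X n) : (T.πWc.f n).hom c = T.πW n c := rfl

theorem Setup.g_πWc : T.g ≫ T.πWc = 0 := by
  ext n x
  show T.πW n ((T.g.f n).hom x) = 0
  apply Subtype.ext
  rw [T.πW_coe, T.π_g]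
  rfl

/-- the short complex `Qc ⟶ C' ⟶ W` -/
noncomputable def Setup.S : ShortComplex (CochainComplex (ModuleCat.{u} R) ℤ) :=
  ShortComplex.mk T.g T.πWc T.g_πWc

/-- the splittings -/
noncomputable def Setup.σ (n : ℤ) :
    (T.S.map (HomologicalComplex.eval (ModuleCat.{u} R) (ComplexShape.up ℤ) n)).Splitting where
  r := ModuleCat.ofHom (T.ρ n)
  s := ModuleCat.ofHom (X := ModuleCat.of R (LinearMap.ker (T.ρ n))) (Y := T.C'.X n)
    (LinearMap.ker (T.ρ n)).subtype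
  f_r := by
    ext x
    exact T.ρ_g n x
  s_g := by
    ext w
    exact T.πW_of_mem n w
  id := by
    ext c
    show (T.g.f n).hom (T.ρ n c) + ((T.πW n c : LinearMap.ker (T.ρ n)) : T.C'.X n) = c
    rw [T.πW_coe, T.π_apply]
    exact add_sub_cancel _ _

/-- the terms of `W` are in the class -/
theorem Setup.W_pc (n : ℤ) : Pc (T.W.X n) := by
  have e : T.C'.X n ≃ₗ[R] T.Qc.X n × LinearMap.ker (T.ρ n) :=
    { toFun := fun c => (T.ρ n c, T.πW n c)
      map_add' := fun x y => by simp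
      map_smul' := fun r x => by simp
      invFun := fun p => (T.g.f n).hom p.1 + (p.2 : T.C'.X n)
      left_inv := fun c => by
        show (T.g.f n).hom (T.ρ n c) + ((T.πW n c : LinearMap.ker (T.ρ n)) : T.C'.X n) = c
        rw [T.πW_coe, T.π_apply]
        exact add_sub_cancel _ _
      right_inv := fun p => by
        obtain ⟨q, k⟩ := p
        have hk : T.ρ n (k : T.C'.X n) = 0 := k.2
        refine Prod.ext ?_ ?_
        · show T.ρ n ((T.g.f n).hom q + (k : T.C'.X n)) = q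
          rw [map_add, T.ρ_g, hk, add_zero]
        · show T.πW n ((T.g.f n).hom q + (k : T.C'.X n)) = k
          apply Subtype.ext
          rw [T.πW_coe, map_add, T.π_g, zero_add, T.π_of_mem n _ hk] }
  have h1 : Pc (ModuleCat.of R (T.Qc.X n × LinearMap.ker (T.ρ n))) :=
    Pc.prop_of_iso (e.toModuleIso) (T.C'_pc n)
  exact (T.h2 (T.Qc.X n) (ModuleCat.of R (LinearMap.ker (T.ρ n))) (T.hQ n)).1 h1

theorem Setup.W_vanishes (i : ℤ) (hi : max T.b T.c < i) : IsZero (T.W.X i) := by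
  haveI : Subsingleton (T.C'.X i) := ModuleCat.subsingleton_of_isZero (T.C'_vanishes i hi)
  have h2 : Subsingleton (LinearMap.ker (T.ρ i)) := ⟨fun a c => Subtype.ext (Subsingleton.elim _ _)⟩
  have h3 : Subsingleton (T.WX i) := h2
  exact ModuleCat.isZero_of_subsingleton (T.WX i)

end W

end Groth.Agent.R2.H52.RepLift
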