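import Mathlib
import Groth.Agent.R2.H52RepLift4

/-!
# helper52: S7013, part 5: the reduction of the complement `W` is `E⟦1⟧`
-/

set_option autoImplicit false
universe u

namespace Groth.Agent.R2.H52.RepLift

open CategoryTheory CategoryTheory.Limits TensorProduct
open scoped ChangeOfRings
open Groth.Agent.R2.H52.AcycLift Groth.Agent.R2.H52.LiftQis

section RedW

variable {R : Type u} [CommRing R] {I : Ideal R} {Pc : ObjectProperty (ModuleCat.{u} R)}
  [Pc.IsClosedUnderIsomorphisms] (T : Setup I Pc)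

/-- the reduction map of the lifted cone onto the cone -/
noncomputable def Setup.κ (n : ℤ) (c : T.C'.X n) : T.E.X (n + 1) × T.F.X n :=
  (T.eC.hom.f n).hom (red I (T.C'.X n) c)

theorem Setup.κ_add (n : ℤ) (c c' : T.C'.X n) : T.κ n (c + c') = T.κ n c + T.κ n c' := by
  unfold Setup.κ
  rw [red_add]
  exact map_add (T.eC.hom.f n).hom _ _

theorem Setup.κ_zero (n : ℤ) : T.κ n 0 = 0 := by
  unfold Setup.κ
  rw [red_zero]
  exact map_zero (T.eC.hom.f n).hom

theorem Setup.κ_sub (n : ℤ) (c c' : T.C'.X n) : T.κ n (c - c') = T.κ n c - T.κ n c' := by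
  unfold Setup.κ
  rw [red_sub]
  exact map_sub (T.eC.hom.f n).hom _ _

theorem Setup.κ_smul (n : ℤ) (r : R) (c : T.C'.X n) :
    T.κ n (r • c) = (Ideal.Quotient.mk I r) • T.κ n c := by
  unfold Setup.κ
  rw [red_smul]
  exact map_smul (T.eC.hom.f n).hom _ _

theorem Setup.κ_surjective (n : ℤ) : Function.Surjective (T.κ n) := by
  intro p
  have hbij : Function.Bijective (T.eC.hom.f n).hom := by
    have : IsIso (T.eC.hom.f n) := inferInstance
    exact (ConcreteCategory.isIso_iff_bijective (T.eC.hom.f n)).1 this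
  obtain ⟨z, hz⟩ := hbij.2 p
  obtain ⟨c, hc⟩ := red_surjective I (T.C'.X n) z
  exact ⟨c, by unfold Setup.κ; rw [hc]; exact hz⟩

theorem Setup.mem_of_κ_eq_zero (n : ℤ) (c : T.C'.X n) (h : T.κ n c = 0) :
    c ∈ I • (⊤ : Submodule R (T.C'.X n)) := by
  have hbij : Function.Bijective (T.eC.hom.f n).hom := by
    have : IsIso (T.eC.hom.f n) := inferInstance
    exact (ConcreteCategory.isIso_iff_bijective (T.eC.hom.f n)).1 this
  apply mem_of_red_eq_zero
  apply hbij.1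
  exact h.trans (map_zero (T.eC.hom.f n).hom).symm

theorem Setup.κ_g (n : ℤ) (x : T.Qc.X n) :
    T.κ n ((T.g.f n).hom x) = ((0, red I _ x) : T.E.X (n + 1) × T.F.X n) := by
  have h := congrArg (fun φ => φ.hom (red I _ x)) (T.map_g_eC_f n)
  exact h

theorem Setup.κ_d (n : ℤ) (c : T.C'.X n) :
    T.κ (n + 1) ((T.C'.d n (n + 1)).hom c) = (T.Cd n).hom (T.κ n c) := by
  have h := congrArg (fun φ => φ.hom (red I _ c)) (T.eC.hom.comm n (n + 1))
  rw [T.C_d] at h
  exact h.symm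

/-- the reduction map of the complement onto `E⟦1⟧`, termwise -/
noncomputable def Setup.uW (n : ℤ) : LinearMap.ker (T.ρ n) →+ T.E.X (n + 1) where
  toFun w := (T.κ n (w : T.C'.X n)).1
  map_zero' := by
    show (T.κ n 0).1 = 0
    rw [T.κ_zero]
    rfl
  map_add' w w' := by
    show (T.κ n ((w : T.C'.X n) + (w' : T.C'.X n))).1 = _
    rw [T.κ_add]
    rfl

theorem Setup.uW_apply (n : ℤ) (w : LinearMap.ker (T.ρ n)) :
    T.uW n w = (T.κ n (w : T.C'.X n)).1 := rfl

theorem Setup.uW_smul (n : ℤ) (r : R) (w : LinearMap.ker (T.ρ n)) :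
    T.uW n (r • w) = (Ideal.Quotient.mk I r) • T.uW n w := by
  show (T.κ n (r • (w : T.C'.X n))).1 = _
  rw [T.κ_smul]
  rfl

theorem Setup.uW_πW (n : ℤ) (c : T.C'.X n) : T.uW n (T.πW n c) = (T.κ n c).1 := by
  rw [T.uW_apply, T.πW_coe, T.π_apply, T.κ_sub, T.κ_g]
  show (T.κ n c).1 - 0 = _
  rw [sub_zero]

theorem Setup.uW_surjective (n : ℤ) : Function.Surjective (T.uW n) := by
  intro e
  obtain ⟨c, hc⟩ := T.κ_surjective n ((e, 0) : T.E.X (n + 1) × T.F.X n)
  refine ⟨T.πW n c, ?_⟩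
  rw [T.uW_πW, hc]

theorem Setup.mem_of_uW_eq_zero (n : ℤ) (w : LinearMap.ker (T.ρ n)) (h : T.uW n w = 0) :
    w ∈ I • (⊤ : Submodule R (LinearMap.ker (T.ρ n))) := by
  obtain ⟨x, hx⟩ := red_surjective I (T.Qc.X n) (T.κ n (w : T.C'.X n)).2
  have h0 : T.κ n ((w : T.C'.X n) - (T.g.f n).hom x) = 0 := by
    rw [T.κ_sub, T.κ_g, hx]
    refine Prod.ext ?_ ?_
    · show (T.κ n (w : T.C'.X n)).1 - 0 = 0
      rw [sub_zero]
      exact h
    · show (T.κ n (w : T.C'.X n)).2 - (T.κ n (w : T.C'.X n)).2 = 0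
      rw [sub_self]
  have h1 := T.mem_of_κ_eq_zero n _ h0
  have h2 := map_mem_smul_top I (T.πW n) _ h1
  have h3 : T.πW n ((w : T.C'.X n) - (T.g.f n).hom x) = w := by
    apply Subtype.ext
    rw [T.πW_coe, map_sub, T.π_g, sub_zero, T.π_of_mem n _ w.2]
  rw [h3] at h2
  exact h2

theorem Setup.uW_d (n : ℤ) (w : LinearMap.ker (T.ρ n)) :
    T.uW (n + 1) ((T.Wd n).hom w) = -(T.E.d (n + 1) (n + 1 + 1)).hom (T.uW n w) := by
  rw [T.Wd_apply, T.uW_πW, T.κ_d, T.uW_apply]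
  rfl

theorem Setup.exists_eW (n : ℤ) :
    ∃ e : (G I).obj (T.W.X n) ≅ T.E.X (n + 1),
      ∀ w : LinearMap.ker (T.ρ n), e.hom.hom (red I (T.W.X n) w) = T.uW n w := by
  obtain ⟨e, he⟩ := exists_iso_of_red_gen (Ideal.Quotient.mk I) Ideal.Quotient.mk_surjective
    (T.W.X n) (T.E.X (n + 1)) (T.uW n) (T.uW_smul n) (T.uW_surjective n)
    (fun w hw => by
      rw [Ideal.mk_ker]
      exact T.mem_of_uW_eq_zero n w hw)
  exact ⟨e, he⟩

/-- the termwise isomorphisms of the reduction of `W` with `E⟦1⟧` -/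
noncomputable def Setup.eWX (n : ℤ) : (G I).obj (T.W.X n) ≅ T.E.X (n + 1) :=
  Classical.choose (T.exists_eW n)

theorem Setup.eWX_red (n : ℤ) (w : LinearMap.ker (T.ρ n)) :
    (T.eWX n).hom.hom (red I (T.W.X n) w) = T.uW n w :=
  Classical.choose_spec (T.exists_eW n) w

/-- the reduction of `W` is `E⟦1⟧` -/
noncomputable def Setup.eW : (B I).obj T.W ≅ T.E⟦(1 : ℤ)⟧ :=
  HomologicalComplex.Hom.isoOfComponents (fun n => T.eWX n) (by
    intro i j hij
    have hij' : i + 1 = j := hij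
    subst hij'
    apply hom_ext_red
    intro w
    change LinearMap.ker (T.ρ i) at w
    have hL : ((T.eWX i).hom ≫ (T.E⟦(1 : ℤ)⟧).d i (i + 1)).hom (red I (T.W.X i) w) =
        -(T.E.d (i + 1) (i + 1 + 1)).hom (T.uW i w) := by
      show ((T.E⟦(1 : ℤ)⟧).d i (i + 1)).hom ((T.eWX i).hom.hom (red I (T.W.X i) w)) = _
      rw [T.eWX_red, CochainComplex.shiftFunctor_obj_d']
      simp
      rfl
    have hR : (((B I).obj T.W).d i (i + 1) ≫ (T.eWX (i + 1)).hom).hom (red I (T.W.X i) w) =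
        T.uW (i + 1) ((T.Wd i).hom w) := by
      have hd : (T.W.d i (i + 1)).hom w = (T.Wd i).hom w := by rw [T.W_d]; rfl
      show (T.eWX (i + 1)).hom.hom (red I (T.W.X (i + 1)) ((T.W.d i (i + 1)).hom w)) = _
      exact (T.eWX_red (i + 1) _).trans (congrArg (T.uW (i + 1)) hd)
    exact hL.trans ((T.uW_d i w).symm.trans hR.symm))

end RedW

end Groth.Agent.R2.H52.RepLift
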