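import Mathlib
import Groth.Agent.R2.H52RepLift5
import Groth.Agent.Lib.Helper1LBC

/-!
# helper52: S7013, part 6: the derived category part
-/

set_option autoImplicit false
universe u

namespace Groth.Agent.R2.H52.RepLift

open CategoryTheory CategoryTheory.Limits TensorProduct Pretriangulated
open scoped ChangeOfRings
open Groth.Agent.R2.H52.AcycLift Groth.Agent.R2.H52.LiftQis

attribute [local instance] HasDerivedCategory.standard

section Der

variable {R : Type u} [CommRing R] {I : Ideal R} {Pc : ObjectProperty (ModuleCat.{u} R)}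
  [Pc.IsClosedUnderIsomorphisms] (T : Setup I Pc)

theorem Setup.dist : CochainComplex.trianglehOfDegreewiseSplit T.S T.σ ∈
    distTriang (HomotopyCategory (ModuleCat.{u} R) (ComplexShape.up ℤ)) :=
  (HomotopyCategory.distinguished_iff_iso_trianglehOfDegreewiseSplit _).2
    ⟨T.S, T.σ, ⟨Iso.refl _⟩⟩

theorem Setup.isZero_quot_C' :
    IsZero ((HomotopyCategory.quotient (ModuleCat.{u} R) (ComplexShape.up ℤ)).obj T.C') :=
  (HomotopyCategory.isZero_quotient_obj_iff _).2 ⟨T.hC'⟩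

theorem Setup.isIso_mor₃ : IsIso (CochainComplex.trianglehOfDegreewiseSplit T.S T.σ).mor₃ :=
  (Triangle.isZero₂_iff_isIso₃ _ T.dist).1 T.isZero_quot_C'

/-- `W ≅ Qc⟦1⟧` in the derived category -/
noncomputable def Setup.isoW1 :
    DerivedCategory.Q.obj T.W ≅ (DerivedCategory.Q.obj T.Qc)⟦(1 : ℤ)⟧ :=
  ((DerivedCategory.quotientCompQhIso (ModuleCat.{u} R)).app T.W).symm ≪≫
    DerivedCategory.Qh.mapIso
      (@asIso _ _ _ _ (CochainComplex.trianglehOfDegreewiseSplit T.S T.σ).mor₃ T.isIso_mor₃) ≪≫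
    (DerivedCategory.Qh.commShiftIso (1 : ℤ)).app _ ≪≫
    (CategoryTheory.shiftFunctor _ (1 : ℤ)).mapIso
      ((DerivedCategory.quotientCompQhIso (ModuleCat.{u} R)).app T.Qc)

/-- `W⟦-1⟧ ≅ Qc` in the derived category -/
noncomputable def Setup.isoW :
    DerivedCategory.Q.obj (T.W⟦(-1 : ℤ)⟧) ≅ DerivedCategory.Q.obj T.Qc :=
  (DerivedCategory.Q.commShiftIso (-1 : ℤ)).app T.W ≪≫
    (CategoryTheory.shiftFunctor _ (-1 : ℤ)).mapIso T.isoW1 ≪≫
    shiftShiftNeg (DerivedCategory.Q.obj T.Qc) (1 : ℤ)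

/-- the reduction of `W⟦-1⟧` is `E` -/
noncomputable def Setup.eP : (B I).obj (T.W⟦(-1 : ℤ)⟧) ≅ T.E :=
  ((G I).mapCochainComplexShiftIso (-1 : ℤ)).app T.W ≪≫
    (CategoryTheory.shiftFunctor _ (-1 : ℤ)).mapIso T.eW ≪≫
    shiftShiftNeg T.E (1 : ℤ)

theorem Setup.P_pc (i : ℤ) : Pc ((T.W⟦(-1 : ℤ)⟧).X i) := T.W_pc (i + (-1))

theorem Setup.P_vanishes (i : ℤ) (hi : max T.b T.c + 1 < i) : IsZero ((T.W⟦(-1 : ℤ)⟧).X i) :=
  T.W_vanishes (i + (-1)) (by omega)

end Der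

end Groth.Agent.R2.H52.RepLift
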