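import Mathlib
import Groth.Agent.S7011
import Groth.Agent.R2.H52MinCx

/-!
# helper52: minimal free representatives of pseudo-coherent complexes over a local ring

`I` is a maximal ideal contained in the Jacobson radical of `R`.
-/

set_option autoImplicit false
set_option linter.style.haveILetI false

universe u

open CategoryTheory CategoryTheory.Limits TensorProduct
open Groth.Agent.R2.H52.RepLift

attribute [local instance] HasDerivedCategory.standard

namespace Groth.Agent.R2.H52.MinCx

variable {R : Type u} [CommRing R] (I : Ideal R)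

/-- terms of the reduction of a complex with finite terms are finite. -/
theorem finite_B_X (Q : DRing.Cx R) (i : ℤ) [Module.Finite R (Q.X i)] :
    Module.Finite (R ⧸ I) (((B I).obj Q).X i) := by
  obtain ⟨ψ⟩ := StablyFree.nonempty_tensorEquiv_of_iso I (Q.X i) (((B I).obj Q).X i) (Iso.refl _)
  exact Module.Finite.equiv ψ

theorem finrank_B_X [Nontrivial R] [Nontrivial (R ⧸ I)] (Q : DRing.Cx R) (i : ℤ) [Module.Finite R (Q.X i)]
    [Module.Free R (Q.X i)] :
    Module.finrank (R ⧸ I) (((B I).obj Q).X i) = Module.finrank R (Q.X i) := by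
  obtain ⟨ψ⟩ := StablyFree.nonempty_tensorEquiv_of_iso I (Q.X i) (((B I).obj Q).X i) (Iso.refl _)
  rw [← ψ.finrank_eq, Module.finrank_baseChange]

theorem isZero_B_X (Q : DRing.Cx R) (i : ℤ) (h : IsZero (Q.X i)) : IsZero (((B I).obj Q).X i) :=
  (G I).map_isZero h

/-- a linear map which is bijective modulo `I ⊆ rad R` between finite free modules of the same
rank is bijective. -/
theorem bijective_of_isIso_G [Nontrivial R] (hI : I ≤ Ideal.jacobson (⊥ : Ideal R))
    {M N : ModuleCat.{u} R}
    [Module.Free R M] [Module.Finite R M] [Module.Free R N] [Module.Finite R N]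
    (hr : Module.finrank R M = Module.finrank R N) (f : M ⟶ N) [IsIso ((G I).map f)] :
    Function.Bijective f.hom := by
  have hbij : Function.Bijective ((G I).map f).hom :=
    (ConcreteCategory.isIso_iff_bijective ((G I).map f)).1 inferInstance
  have hsurj : Function.Surjective f.hom := by
    apply StablyFree.surjective_of_sup_smul_eq_top I hI f.hom
    rw [eq_top_iff]
    intro y _
    obtain ⟨z, hz⟩ := hbij.2 (red I N y)
    obtain ⟨x, rfl⟩ := red_surjective I M z
    rw [red_map] at hz
    have h0 : red I N (y - f.hom x) = 0 := by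
      rw [red_sub, hz, sub_self]
    have h1 := mem_of_red_eq_zero I N _ h0
    have h2 : y = f.hom x + (y - f.hom x) := by abel
    rw [h2]
    exact Submodule.add_mem_sup (LinearMap.mem_range_self _ x) h1
  refine ⟨?_, hsurj⟩
  let g : N ≃ₗ[R] M := LinearEquiv.ofFinrankEq N M hr.symm
  have hs2 : Function.Surjective (f.hom ∘ₗ g.toLinearMap) := hsurj.comp g.surjective
  have hi2 : Function.Injective (f.hom ∘ₗ g.toLinearMap) :=
    OrzechProperty.injective_of_surjective_endomorphism _ hs2
  intro a a' haa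
  obtain ⟨c, rfl⟩ := g.surjective a
  obtain ⟨c', rfl⟩ := g.surjective a'
  exact congrArg g (hi2 haa)

variable [DRing.HasLBaseChange (Ideal.Quotient.mk I)]

/-- the cohomology of `K ⊗^L R/I` computed from a K-projective representative of `K`. -/
noncomputable def hdIso (K : Dual.D R) (Q : DRing.Cx R) [Q.IsKProjective] (eK : DRing.toD Q ≅ K)
    (i : ℤ) :
    (DerivedCategory.homologyFunctor (ModuleCat.{u} (R ⧸ I)) i).obj
      ((DRing.LBaseChange (Ideal.Quotient.mk I)).obj K) ≅ ((B I).obj Q).homology i :=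
  (DerivedCategory.homologyFunctor (ModuleCat.{u} (R ⧸ I)) i).mapIso
    ((DRing.LBaseChange (Ideal.Quotient.mk I)).mapIso eK.symm ≪≫
      Groth.Agent.Lib.Helper1.LDer.lbcIso (Ideal.Quotient.mk I) Q) ≪≫
    (DerivedCategory.homologyFunctorFactors (ModuleCat.{u} (R ⧸ I)) i).app ((B I).obj Q)

/-- linear form of `hdIso`. -/
noncomputable def hdEquiv (K : Dual.D R) (Q : DRing.Cx R) [Q.IsKProjective]
    (eK : DRing.toD Q ≅ K) (i : ℤ) :
    Dual.HD (R ⧸ I) ((DRing.LBaseChange (Ideal.Quotient.mk I)).obj K) i ≃ₗ[R ⧸ I]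
      ((B I).obj Q).homology i :=
  (hdIso I K Q eK i).toLinearEquiv

/-- existence of minimal free representatives. -/
theorem exists_minimal [hmax : I.IsMaximal] (hI : I ≤ Ideal.jacobson (⊥ : Ideal R))
    (K : Dual.D R) (hK : DRing.IsPseudoCoherent' R K) :
    (∀ i : ℤ, Module.Finite (R ⧸ I)
      (Dual.HD (R ⧸ I) ((DRing.LBaseChange (Ideal.Quotient.mk I)).obj K) i)) ∧
    (∃ b : ℤ, ∀ i : ℤ, b < i → Subsingleton
      (Dual.HD (R ⧸ I) ((DRing.LBaseChange (Ideal.Quotient.mk I)).obj K) i)) ∧
    ∃ P : DRing.Cx R, (∃ b : ℤ, DRing.VanishesAbove P b) ∧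
      (∀ i : ℤ, Module.Free R (P.X i) ∧ Module.Finite R (P.X i) ∧
        Module.finrank R (P.X i) = Module.finrank (R ⧸ I)
          (Dual.HD (R ⧸ I) ((DRing.LBaseChange (Ideal.Quotient.mk I)).obj K) i)) ∧
      Nonempty (DRing.toD P ≅ K) := by
  letI : Field (R ⧸ I) := Ideal.Quotient.field I
  haveI : Nontrivial R := (Ideal.Quotient.mk I).domain_nontrivial
  obtain ⟨Q, c, hQc, hQff, ⟨eK⟩⟩ := hK
  haveI : Q.IsKProjective :=
    Groth.Agent.Lib.Helper1.LDer.isKProjective_of_vanishesAbove Q c hQc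
      (fun i => by haveI := (hQff i).2; infer_instance)
  let V : DRing.Cx (R ⧸ I) := (B I).obj Q
  haveI hVfin : ∀ i, Module.Finite (R ⧸ I) (V.X i) := fun i => by
    haveI := (hQff i).1
    exact finite_B_X I Q i
  have hHfin : ∀ i, Module.Finite (R ⧸ I) (V.homology i) := fun i => finite_homology V i
  have hHz : ∀ i, c < i → IsZero (V.homology i) := fun i hi =>
    ShortComplex.isZero_homology_of_isZero_X₂ _ (isZero_B_X I Q i (hQc i hi))
  refine ⟨fun i => ?_, ⟨c, fun i hi => ?_⟩, ?_⟩
  · haveI := hHfin i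
    exact Module.Finite.equiv (hdEquiv I K Q eK i).symm
  · haveI : Subsingleton (V.homology i) := ModuleCat.subsingleton_of_isZero (hHz i hi)
    exact (hdEquiv I K Q eK i).toEquiv.subsingleton
  · have hE : Nonempty (DRing.toD (HCx V) ≅ (DRing.LBaseChange (Ideal.Quotient.mk I)).obj K) :=
      ⟨asIso (DerivedCategory.Q.map (toV V)) ≪≫
        (Groth.Agent.Lib.Helper1.LDer.lbcIso (Ideal.Quotient.mk I) Q).symm ≪≫
        (DRing.LBaseChange (Ideal.Quotient.mk I)).mapIso eK⟩
    have hfreeH : ∀ i, Module.Free (R ⧸ I) ((HCx V).X i) := fun i => Module.Free.of_divisionRing _ _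
    obtain ⟨P, b', hPb, hPs, hPK, ⟨eP⟩, hPfree⟩ := Groth.Agent.S7011.result R I hI K
      ⟨Q, c, hQc, hQff, ⟨eK⟩⟩ (HCx V) c (fun i hi => hHz i hi)
      (fun i => ⟨hHfin i, haveI := hfreeH i; inferInstance⟩) hE
    refine ⟨P, ⟨b', hPb⟩, fun i => ?_, hPK⟩
    haveI hfr : Module.Free R (P.X i) := hPfree i (hfreeH i)
    haveI hfi : Module.Finite R (P.X i) := (hPs i).1
    refine ⟨hfr, hfi, ?_⟩
    rw [← finrank_B_X I P i]
    have e1 : ((B I).obj P).X i ≃ₗ[R ⧸ I] V.homology i :=
      ((HomologicalComplex.eval _ _ i).mapIso eP).toLinearEquiv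
    rw [e1.finrank_eq, (hdEquiv I K Q eK i).finrank_eq]

/-- uniqueness of minimal free representatives. -/
theorem minimal_unique [hmax : I.IsMaximal] (hI : I ≤ Ideal.jacobson (⊥ : Ideal R))
    (K : Dual.D R) (P P' : DRing.Cx R) (b b' : ℤ) (hPb : DRing.VanishesAbove P b)
    (hP'b : DRing.VanishesAbove P' b')
    (hP : ∀ i : ℤ, Module.Free R (P.X i) ∧ Module.Finite R (P.X i) ∧
        Module.finrank R (P.X i) = Module.finrank (R ⧸ I)
          (Dual.HD (R ⧸ I) ((DRing.LBaseChange (Ideal.Quotient.mk I)).obj K) i))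
    (hP' : ∀ i : ℤ, Module.Free R (P'.X i) ∧ Module.Finite R (P'.X i) ∧
        Module.finrank R (P'.X i) = Module.finrank (R ⧸ I)
          (Dual.HD (R ⧸ I) ((DRing.LBaseChange (Ideal.Quotient.mk I)).obj K) i))
    (e : DRing.toD P ≅ K) (e' : DRing.toD P' ≅ K) : Nonempty (P ≅ P') := by
  letI : Field (R ⧸ I) := Ideal.Quotient.field I
  haveI : Nontrivial R := (Ideal.Quotient.mk I).domain_nontrivial
  haveI : P.IsKProjective :=
    Groth.Agent.Lib.Helper1.LDer.isKProjective_of_vanishesAbove P b hPb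
      (fun i => by haveI := (hP i).1; infer_instance)
  haveI : P'.IsKProjective :=
    Groth.Agent.Lib.Helper1.LDer.isKProjective_of_vanishesAbove P' b' hP'b
      (fun i => by haveI := (hP' i).1; infer_instance)
  let φ : DRing.toD P ≅ DRing.toD P' := e ≪≫ e'.symm
  -- represent it by a chain map
  obtain ⟨f, hf⟩ : ∃ f : P ⟶ P', DerivedCategory.Q.map f = φ.hom := by
    obtain ⟨g', hg'⟩ := (CochainComplex.IsKProjective.Qh_map_bijective P
      ((HomotopyCategory.quotient _ _).obj P')).surjective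
        ((DerivedCategory.quotientCompQhIso _).hom.app P ≫ φ.hom ≫
          (DerivedCategory.quotientCompQhIso _).inv.app _)
    obtain ⟨g, rfl⟩ := (HomotopyCategory.quotient _ _).map_surjective g'
    refine ⟨g, ?_⟩
    have h := DerivedCategory.quotientCompQhIso_hom_naturality g
    rw [hg'] at h
    simp only [Category.assoc, Iso.inv_hom_id_app, Category.comp_id] at h
    exact ((cancel_epi ((DerivedCategory.quotientCompQhIso _).hom.app P)).1 h).symm
  -- its reduction is a quasi-isomorphism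
  have hBq : QuasiIso ((B I).map f) := by
    rw [← DerivedCategory.isIso_Q_map_iff_quasiIso]
    have hnat := Groth.Agent.Lib.Helper1.LDer.lbcIso_hom_naturality (Ideal.Quotient.mk I) f
    have h2 : DerivedCategory.Q.map ((B I).map f) =
        (Groth.Agent.Lib.Helper1.LDer.lbcIso (Ideal.Quotient.mk I) P).inv ≫
          (DRing.LBaseChange (Ideal.Quotient.mk I)).map (DerivedCategory.Q.map f) ≫
          (Groth.Agent.Lib.Helper1.LDer.lbcIso (Ideal.Quotient.mk I) P').hom := by
      rw [hnat, Iso.inv_hom_id_assoc]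
    rw [h2, hf]
    infer_instance
  -- the reductions have zero differentials
  haveI hfinP : ∀ i, Module.Finite (R ⧸ I) (((B I).obj P).X i) := fun i => by
    haveI := (hP i).2.1
    exact finite_B_X I P i
  haveI hfinP' : ∀ i, Module.Finite (R ⧸ I) (((B I).obj P').X i) := fun i => by
    haveI := (hP' i).2.1
    exact finite_B_X I P' i
  have hd : ∀ a c : ℤ, ((B I).obj P).d a c = 0 := by
    apply d_eq_zero_of_forall_finrank_eq
    intro i
    haveI := (hP i).1
    haveI := (hP i).2.1
    rw [finrank_B_X I P i, (hP i).2.2, (hdEquiv I K P e i).finrank_eq]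
  have hd' : ∀ a c : ℤ, ((B I).obj P').d a c = 0 := by
    apply d_eq_zero_of_forall_finrank_eq
    intro i
    haveI := (hP' i).1
    haveI := (hP' i).2.1
    rw [finrank_B_X I P' i, (hP' i).2.2, (hdEquiv I K P' e' i).finrank_eq]
  have hiso : ∀ i : ℤ, IsIso (f.f i) := by
    intro i
    haveI : QuasiIsoAt ((B I).map f) i := inferInstance
    haveI h1 : IsIso (((B I).map f).f i) := isIso_f_of_quasiIsoAt ((B I).map f) i hd hd'
    haveI h2 : IsIso ((G I).map (f.f i)) := h1
    haveI := (hP i).1
    haveI := (hP i).2.1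
    haveI := (hP' i).1
    haveI := (hP' i).2.1
    have hb := bijective_of_isIso_G I hI ((hP i).2.2.trans (hP' i).2.2.symm) (f.f i)
    exact (ConcreteCategory.isIso_iff_bijective (f.f i)).2 hb
  exact ⟨HomologicalComplex.Hom.isoOfComponents (fun i => @asIso _ _ _ _ (f.f i) (hiso i))
    (fun i j _ => f.comm i j)⟩

end Groth.Agent.R2.H52.MinCx
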