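import Mathlib
import Groth.Agent.Lib.Helper1TorO
import Groth.Agent.Lib.Helper1TorH
import Groth.Agent.Lib.Helper1LBC2
import Groth.Agent.Lib.Helper1Restrict
import Groth.Agent.S14388

/-!
# helper52: tools for complexes over flat local homomorphisms with regular closed fibre

* `hasTorAmp_of_isGE_of_isLE`: over a ring all of whose modules have tor dimension `≤ d`, an object
  of `D(R)` with cohomology in `[a, b]` has tor amplitude in `[a - d, b]`;
* `nonempty_lbc_iso_of_flat`: derived base change is computed termwise on bounded above flat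
  complexes;
* `fexact_quot_iff`: `(A/I) ⊗_A X = (B/IB) ⊗_B X` naturally in the `B`-module `X`;
* `exactAt_TC_of_ideal_smul_eq_zero`: modules killed by an ideal.
-/

set_option autoImplicit false
set_option linter.style.haveILetI false

universe u

open CategoryTheory CategoryTheory.Limits MonoidalCategory HomologicalComplex TensorProduct

attribute [local instance] HasDerivedCategory.standard

namespace Groth.Agent.R2.H52.RegFibre

open DerivedCategory Groth.Agent.Lib.Helper1.Tor Groth.Agent.Lib.Helper1.TorM
  Groth.Agent.Lib.Helper1.TorN Groth.Agent.Lib.Helper1.TorDim Groth.Agent.Lib.Helper1.LDer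
  Groth.Agent.Lib.Helper1.DT Groth.Agent.Lib.Helper1.ProjRes Groth.Agent.S14388

section Bounded

variable {R : Type u} [CommRing R]

lemma isGE_truncLT (X : Dual.D R) (a b : ℤ) [X.IsGE a] : ((tt.truncLT b).obj X).IsGE a := by
  rw [DerivedCategory.isGE_iff]
  intro i hi
  by_cases hib : i < b
  · have := isIso_homology_truncLTι b i hib X
    exact ((DerivedCategory.isGE_iff X a).1 inferInstance i hi).of_iso
      (asIso ((homologyFunctor (ModuleCat.{u} R) i).map ((tt.truncLTι b).app X)))
  · have : ((tt.truncLT b).obj X).IsLE (b - 1) := inferInstance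
    exact (DerivedCategory.isLE_iff _ (b - 1)).1 this i (by lia)

lemma isLE_truncGE (X : Dual.D R) (b : ℤ) [X.IsLE b] : ((tt.truncGE b).obj X).IsLE b := by
  rw [DerivedCategory.isLE_iff]
  intro i hi
  have := isIso_homology_truncGEπ b i (by lia) X
  exact ((DerivedCategory.isLE_iff X b).1 inferInstance i hi).of_iso
    (asIso ((homologyFunctor (ModuleCat.{u} R) i).map ((tt.truncGEπ b).app X))).symm

/-- over a ring of weak dimension `≤ d`, bounded cohomology gives finite tor amplitude -/
theorem hasTorAmp_of_isGE_of_isLE (d : ℕ)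
    (hgl : ∀ (M : Type u) [AddCommGroup M] [Module R M], DRing.HasTorDimLE R d M) :
    ∀ (n : ℕ) (X : Dual.D R) (a b : ℤ), b - a < n → X.IsGE a → X.IsLE b →
      DRing.HasTorAmplitudeIn R (a - d) b X := by
  intro n
  induction n with
  | zero =>
    intro X a b hab hXa hXb
    exact hasTorAmp_of_isZero X (tt.isZero X b a (by lia)) _ _
  | succ n ih =>
    intro X a b hab hXa hXb
    by_cases hba : b < a
    · exact hasTorAmp_of_isZero X (tt.isZero X b a hba) _ _
    · have hT := tt.triangleLTGE_distinguished b X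
      have h₁ : DRing.HasTorAmplitudeIn R (a - d) b ((tt.truncLT b).obj X) :=
        hasTorAmp_mono (le_refl _) (by lia)
          (ih ((tt.truncLT b).obj X) a (b - 1) (by lia) (isGE_truncLT X a b) inferInstance)
      have h₃ : DRing.HasTorAmplitudeIn R (a - d) b ((tt.truncGE b).obj X) := by
        have := isLE_truncGE X b
        obtain ⟨M, ⟨e⟩⟩ := exists_iso_singleFunctor_obj_of_isGE_of_isLE ((tt.truncGE b).obj X) b
        have h0 : DRing.HasTorAmplitudeIn R (-(d : ℤ)) 0 (Dual.inD R M) :=
          (hasTorDimLE_iff_hasTorAmp M d).1 (hgl M)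
        have h1 : DRing.HasTorAmplitudeIn R (b - d) b
            ((DerivedCategory.singleFunctor (ModuleCat.{u} R) b).obj M) :=
          hasTorAmp_single M (b - d) b b (hasTorAmp_mono (by lia) (by lia) h0)
        exact hasTorAmp_mono (by lia) (le_refl _) (hasTorAmp_of_iso e.symm h1)
      exact (hasTorAmp_two_out_of_three (a - d) b _ hT).2.1 h₁ h₃

end Bounded

section LBCFlat

variable {A B : Type u} [CommRing A] [CommRing B] (φ : A →+* B) [DRing.HasLBaseChange φ]

/-- derived base change is computed termwise on bounded above complexes of flat modules -/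
theorem nonempty_lbc_iso_of_flat (E : DRing.Cx A) (b : ℤ) (hEb : DRing.VanishesAbove E b)
    (hEf : DRing.TermwiseFlat E) :
    Nonempty ((DRing.LBaseChange φ).obj (Q.obj E) ≅ Q.obj ((bcCx φ).obj E)) := by
  have hEle : E.IsStrictlyLE b := by
    rw [CochainComplex.isStrictlyLE_iff]
    exact hEb
  have : (Q.obj E).IsLE b := inferInstance
  obtain ⟨P, hPle, hPp, ⟨e⟩⟩ := exists_iso_Q_proj (Q.obj E) b
  have hPb : DRing.VanishesAbove P b := fun j hj => P.isZero_of_isStrictlyLE b j hj
  have hPK : P.IsKProjective := by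
    apply isKProjective_of_vanishesAbove P b hPb
    intro j
    have := hPp j
    exact ModuleCat.projective_of_module_projective _
  have hPf : DRing.TermwiseFlat P := fun i =>
    have := hPp i
    have : Module.Projective A (P.X i) := ModuleCat.projective_of_module_projective _
    inferInstance
  obtain ⟨p, hp⟩ := Q_map_surjective P E e.hom
  have hpi : IsIso (Q.map p) := by rw [hp]; infer_instance
  have hbc : IsIso (Q.map ((bcCx φ).map p)) := isIso_Q_map_bc φ p b b hPb hEb hPf hEf hpi
  exact ⟨(DRing.LBaseChange φ).mapIso e.symm ≪≫ lbcIso φ P ≪≫ asIso (Q.map ((bcCx φ).map p))⟩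

end LBCFlat

section Quot

variable {A B : Type u} [CommRing A] [CommRing B] [Algebra A B] (I : Ideal A)
variable (X Y Z : Type u) [AddCommGroup X] [Module B X] [Module A X] [IsScalarTower A B X]
  [AddCommGroup Y] [Module B Y] [Module A Y] [IsScalarTower A B Y]
  [AddCommGroup Z] [Module B Z] [Module A Z] [IsScalarTower A B Z]

/-- `(A/I) ⊗_A X ≃ (B/IB) ⊗_B X` for a `B`-module `X` -/
noncomputable def quotTensorEquiv :
    (A ⧸ I) ⊗[A] X ≃+ (B ⧸ I.map (algebraMap A B)) ⊗[B] X :=
  ((TensorProduct.comm A (A ⧸ I) X).toAddEquiv.trans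
    (AlgebraTensorModule.cancelBaseChange A B B X (A ⧸ I)).symm.toAddEquiv).trans
  ((LinearEquiv.lTensor X
      (Algebra.TensorProduct.quotIdealMapEquivTensorQuot B I).symm.toLinearEquiv).toAddEquiv.trans
    (TensorProduct.comm B X (B ⧸ I.map (algebraMap A B))).toAddEquiv)

lemma quotTensorEquiv_tmul (a : A) (x : X) :
    quotTensorEquiv I X ((Ideal.Quotient.mk I a) ⊗ₜ[A] x) =
      (Ideal.Quotient.mk (I.map (algebraMap A B)) (algebraMap A B a)) ⊗ₜ[B] x := by
  simp [quotTensorEquiv, Algebra.smul_def]

variable {X Y Z}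

lemma quotTensorEquiv_natural (g : X →ₗ[B] Y) (z : (A ⧸ I) ⊗[A] X) :
    quotTensorEquiv I Y (((g.restrictScalars A).lTensor (A ⧸ I)) z) =
      (g.lTensor (B ⧸ I.map (algebraMap A B))) (quotTensorEquiv I X z) := by
  induction z using TensorProduct.induction_on with
  | zero => simp
  | add x y hx hy => simp only [map_add, hx, hy]
  | tmul k x =>
    obtain ⟨a, rfl⟩ := Ideal.Quotient.mk_surjective k
    rw [LinearMap.lTensor_tmul, quotTensorEquiv_tmul, quotTensorEquiv_tmul, LinearMap.lTensor_tmul]
    rfl

/-- exactness of `(A/I) ⊗_A -` and of `(B/IB) ⊗_B -` on `B`-modules agree -/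
theorem fexact_quot_iff (d₁ : X →ₗ[B] Y) (d₂ : Y →ₗ[B] Z) :
    Function.Exact ((d₁.restrictScalars A).lTensor (A ⧸ I))
        ((d₂.restrictScalars A).lTensor (A ⧸ I)) ↔
      Function.Exact (d₁.lTensor (B ⧸ I.map (algebraMap A B)))
        (d₂.lTensor (B ⧸ I.map (algebraMap A B))) := by
  constructor
  · intro h
    exact exact_of_ladder _ _ _ _ (quotTensorEquiv I X).toEquiv (quotTensorEquiv I Y).toEquiv
      (quotTensorEquiv I Z).toEquiv (map_zero (quotTensorEquiv I Z))
      (fun x => (quotTensorEquiv_natural I d₁ x).symm)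
      (fun x => (quotTensorEquiv_natural I d₂ x).symm) h
  · intro h
    refine exact_of_ladder _ _ _ _ (quotTensorEquiv (B := B) I X).symm.toEquiv
      (quotTensorEquiv (B := B) I Y).symm.toEquiv (quotTensorEquiv (B := B) I Z).symm.toEquiv
      (map_zero (quotTensorEquiv (B := B) I Z).symm) (fun x => ?_) (fun x => ?_) h
    · apply (quotTensorEquiv (B := B) I Y).injective
      rw [quotTensorEquiv_natural (B := B)]
      show _ = (quotTensorEquiv (B := B) I Y) ((quotTensorEquiv (B := B) I Y).symm _)
      rw [AddEquiv.apply_symm_apply]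
      show (d₁.lTensor _) ((quotTensorEquiv (B := B) I X) ((quotTensorEquiv (B := B) I X).symm x)) = _
      rw [AddEquiv.apply_symm_apply]
    · apply (quotTensorEquiv (B := B) I Z).injective
      rw [quotTensorEquiv_natural (B := B)]
      show _ = (quotTensorEquiv (B := B) I Z) ((quotTensorEquiv (B := B) I Z).symm _)
      rw [AddEquiv.apply_symm_apply]
      show (d₂.lTensor _) ((quotTensorEquiv (B := B) I Y) ((quotTensorEquiv (B := B) I Y).symm x)) = _
      rw [AddEquiv.apply_symm_apply]

end Quot

section Ideal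

variable {R : Type u} [CommRing R] (I : Ideal R)

/-- modules killed by `I`, in a fixed degree -/
theorem exactAt_TC_of_ideal_smul_eq_zero (F : DRing.Cx R) (i : ℤ)
    (h : ∀ Nb : ModuleCat.{u} (R ⧸ I),
      ((TC Nb).obj ((DTen.extCx (Ideal.Quotient.mk I)).obj F)).ExactAt i)
    (N : Type u) [AddCommGroup N] [Module R N] (hN : ∀ r ∈ I, ∀ x : N, r • x = 0) :
    ((TC (ModuleCat.of R N)).obj F).ExactAt i := by
  have htors : Module.IsTorsionBySet R N (I : Set R) := fun x a => hN a a.2 x
  letI : Module (R ⧸ I) N := Module.IsTorsionBySet.module htors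
  have h2 := exactAt_TC_restrict_of_exactAt_TC_ext (Ideal.Quotient.mk I)
    (ModuleCat.of (R ⧸ I) N) F i (h _)
  let e : (ModuleCat.restrictScalars (Ideal.Quotient.mk I)).obj (ModuleCat.of (R ⧸ I) N) ≅
      ModuleCat.of R N :=
    LinearEquiv.toModuleIso
      { toFun := fun x => x
        invFun := fun x => x
        map_add' := fun _ _ => rfl
        map_smul' := fun r x => Module.IsTorsionBySet.mk_smul htors r x
        left_inv := fun _ => rfl
        right_inv := fun _ => rfl }
  exact exactAt_TC_of_iso e F i h2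

end Ideal

end Groth.Agent.R2.H52.RegFibre
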