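import Mathlib
import Groth.Agent.Lib.Helper1TorDim
import Groth.Agent.Lib.Helper1TorE
import Groth.Agent.Lib.Helper1TorH
import Groth.Agent.R2.H52RegFibre
import Groth.Agent.R2.H52MatCx
set_option backward.isDefEq.respectTransparency.types false

/-!
# helper52: two-term complexes in `D(R)`: flatness from tor amplitude, and derived base change

* `flat_of_hasTorAmp_double`: for a two-term complex `M → F` (degrees `-1, 0`) with `F` flat and tor
  amplitude in `[-1, 0]`, the module `M` is flat;
* `bcDoubleIso`: extension of scalars of a two term complex is the two term complex of the base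
  changed map;
* `nonempty_lbc_double_iso`: derived base change of a two term complex of flat modules.
-/

set_option autoImplicit false
set_option linter.style.haveILetI false

universe u

open CategoryTheory CategoryTheory.Limits HomologicalComplex TensorProduct

attribute [local instance] HasDerivedCategory.standard

namespace Groth.Agent.R2.H52.NLDer

open DerivedCategory Groth.Agent.Lib.Helper1.Tor Groth.Agent.Lib.Helper1.TorDim

lemma rel : (ComplexShape.up ℤ).Rel (-1) 0 := by simp

section FlatOfTorAmp

variable {R : Type u} [CommRing R] {M F : ModuleCat.{u} R} (f : M ⟶ F)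

/-- the two term complex -/
noncomputable abbrev dbl : DRing.Cx R := HomologicalComplex.double f rel

/-- `F[0] → (M → F)` -/
noncomputable def incl :
    (HomologicalComplex.single (ModuleCat.{u} R) (ComplexShape.up ℤ) 0).obj F ⟶ dbl f :=
  HomologicalComplex.mkHomFromSingle (HomologicalComplex.doubleXIso₁ f rel (by decide)).inv (by
    intro k hk
    apply IsZero.eq_of_tgt
    obtain rfl : k = 1 := by
      simp only [ComplexShape.up_Rel] at hk
      omega
    exact HomologicalComplex.isZero_double_X _ _ 1 (by decide) (by decide))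

/-- `(M → F) → M[1]` -/
noncomputable def proj :
    dbl f ⟶ (HomologicalComplex.single (ModuleCat.{u} R) (ComplexShape.up ℤ) (-1)).obj M :=
  HomologicalComplex.mkHomToSingle (HomologicalComplex.doubleXIso₀ f rel).hom (by
    intro i hi
    apply IsZero.eq_of_src
    obtain rfl : i = -2 := by
      simp only [ComplexShape.up_Rel] at hi
      omega
    exact HomologicalComplex.isZero_double_X _ _ (-2) (by decide) (by decide))

lemma incl_proj : incl f ≫ proj f = 0 := by
  apply HomologicalComplex.from_single_hom_ext
  apply IsZero.eq_of_tgt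
  exact HomologicalComplex.isZero_single_obj_X _ _ _ _ (by decide)

/-- the stupid truncation sequence -/
noncomputable abbrev sc : ShortComplex (DRing.Cx R) := ShortComplex.mk (incl f) (proj f) (incl_proj f)

lemma isIso_incl_f : IsIso ((incl f).f 0) := by
  rw [incl, HomologicalComplex.mkHomFromSingle_f]
  infer_instance

lemma isIso_proj_f : IsIso ((proj f).f (-1)) := by
  rw [proj, HomologicalComplex.mkHomToSingle_f]
  infer_instance

lemma sc_shortExact : (sc f).ShortExact := by
  apply HomologicalComplex.shortExact_of_degreewise_shortExact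
  intro i
  by_cases h0 : i = 0
  · subst h0
    have hz : IsZero (((sc f).map (eval (ModuleCat.{u} R) (ComplexShape.up ℤ) 0)).X₃) := by
      change IsZero (((HomologicalComplex.single (ModuleCat.{u} R) (ComplexShape.up ℤ) (-1)).obj M).X 0)
      exact HomologicalComplex.isZero_single_obj_X (ComplexShape.up ℤ) (-1) M 0 (by decide)
    have hiso : IsIso ((sc f).map (eval (ModuleCat.{u} R) (ComplexShape.up ℤ) 0)).f := isIso_incl_f f
    exact { exact := (ShortComplex.exact_iff_epi _ (hz.eq_of_tgt _ _)).2 inferInstance
            mono_f := inferInstance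
            epi_g := ⟨fun _ _ _ => hz.eq_of_src _ _⟩ }
  · by_cases h1 : i = -1
    · subst h1
      have hz : IsZero (((sc f).map (eval (ModuleCat.{u} R) (ComplexShape.up ℤ) (-1))).X₁) := by
        change IsZero (((HomologicalComplex.single (ModuleCat.{u} R) (ComplexShape.up ℤ) 0).obj F).X (-1))
        exact HomologicalComplex.isZero_single_obj_X (ComplexShape.up ℤ) 0 F (-1) (by decide)
      have hiso : IsIso ((sc f).map (eval (ModuleCat.{u} R) (ComplexShape.up ℤ) (-1))).g := isIso_proj_f f
      exact { exact := (ShortComplex.exact_iff_mono _ (hz.eq_of_src _ _)).2 inferInstance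
              mono_f := ⟨fun _ _ _ => hz.eq_of_tgt _ _⟩
              epi_g := inferInstance }
    · have hz₁ : IsZero (((sc f).map (eval (ModuleCat.{u} R) (ComplexShape.up ℤ) i)).X₁) := by
        change IsZero (((HomologicalComplex.single (ModuleCat.{u} R) (ComplexShape.up ℤ) 0).obj F).X i)
        exact HomologicalComplex.isZero_single_obj_X (ComplexShape.up ℤ) 0 F i h0
      have hz₂ : IsZero (((sc f).map (eval (ModuleCat.{u} R) (ComplexShape.up ℤ) i)).X₂) := by
        change IsZero ((dbl f).X i)
        exact HomologicalComplex.isZero_double_X _ _ i h1 h0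
      have hz₃ : IsZero (((sc f).map (eval (ModuleCat.{u} R) (ComplexShape.up ℤ) i)).X₃) := by
        change IsZero (((HomologicalComplex.single (ModuleCat.{u} R) (ComplexShape.up ℤ) (-1)).obj M).X i)
        exact HomologicalComplex.isZero_single_obj_X (ComplexShape.up ℤ) (-1) M i h1
      exact { exact := ShortComplex.exact_of_isZero_X₂ _ hz₂
              mono_f := ⟨fun _ _ _ => hz₁.eq_of_tgt _ _⟩
              epi_g := ⟨fun _ _ _ => hz₃.eq_of_src _ _⟩ }

/-- a module `M` with `M[0]` of tor amplitude in `[0, 1]` is flat -/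
theorem flat_of_hasTorAmp_zero_one (M : Type u) [AddCommGroup M] [Module R M]
    (h : DRing.HasTorAmplitudeIn R 0 1 (Dual.inD R M)) : Module.Flat R M := by
  rw [← hasTorDimLE_zero_iff_flat]
  let P := ProjectiveResolution.of (ModuleCat.of R M)
  set G := P.cochainComplex with hG
  have e : Q.obj G ≅ Dual.inD R M := resIso M P
  have hGb : DRing.VanishesAbove G 0 := fun i hi => G.isZero_of_isStrictlyLE 0 i hi
  have hGf : DRing.TermwiseFlat G := termwiseFlat_of_projective G (fun k => inferInstance)
  obtain ⟨E, hE, hEf, ⟨e'⟩⟩ := h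
  intro N _ _ p hp
  have htv : TorVan G 0 1 := torVan_of_iso G E 0 hGb hGf 0 1 hE hEf (e' ≪≫ e.symm)
  obtain ⟨q, rfl⟩ : ∃ q, p = q + 1 := ⟨p - 1, by omega⟩
  exact (exactAt_TC_iff_subsingleton_tor M N P q).1
    (htv (ModuleCat.of R N) _ (Or.inl (by push_cast; omega)))

lemma hasTorAmp_single_flat (hF : Module.Flat R F) (a b : ℤ) (ha : a ≤ 0) (hb : 0 ≤ b) :
    DRing.HasTorAmplitudeIn R a b
      (Q.obj ((HomologicalComplex.single (ModuleCat.{u} R) (ComplexShape.up ℤ) 0).obj F)) := by
  refine ⟨_, ?_, ?_, ⟨Iso.refl _⟩⟩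
  · intro i hi
    exact HomologicalComplex.isZero_single_obj_X _ _ _ _ (by omega)
  · intro i
    by_cases h0 : i = 0
    · subst h0
      exact Module.Flat.of_linearEquiv
        ((HomologicalComplex.singleObjXSelf (ComplexShape.up ℤ) 0 F).toLinearEquiv)
    · have := ModuleCat.subsingleton_of_isZero
        (HomologicalComplex.isZero_single_obj_X (ComplexShape.up ℤ) 0 F i h0)
      infer_instance

/-- For a two term complex `M → F` in degrees `-1, 0` with `F` flat and tor amplitude in `[-1, 0]`,
the module `M` is flat. -/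
theorem flat_of_hasTorAmp_double (hF : Module.Flat R F)
    (h : DRing.HasTorAmplitudeIn R (-1) 0 (Q.obj (dbl f))) : Module.Flat R M := by
  have hT := DerivedCategory.triangleOfSES_distinguished (sc_shortExact f)
  have h3 : DRing.HasTorAmplitudeIn R (-1) 0
      (Q.obj ((HomologicalComplex.single (ModuleCat.{u} R) (ComplexShape.up ℤ) (-1)).obj M)) :=
    (hasTorAmp_two_out_of_three (-1) 0 _ hT).1
      (hasTorAmp_single_flat hF _ _ (by norm_num) (by norm_num)) h
  have e1 : Q.obj ((HomologicalComplex.single (ModuleCat.{u} R) (ComplexShape.up ℤ) (-1)).obj M) ≅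
      (DerivedCategory.singleFunctor (ModuleCat.{u} R) (-1)).obj M :=
    ((DerivedCategory.singleFunctorIsoCompQ (ModuleCat.{u} R) (-1)).app M).symm
  have h4 := hasTorAmp_shift (hasTorAmp_of_iso e1 h3) (-1) 0 1 (by norm_num) (by norm_num)
  have e2 : ((DerivedCategory.singleFunctor (ModuleCat.{u} R) (-1)).obj M)⟦(-1 : ℤ)⟧ ≅
      (DerivedCategory.singleFunctor (ModuleCat.{u} R) 0).obj M :=
    ((DerivedCategory.singleFunctors (ModuleCat.{u} R)).shiftIso (-1) 0 (-1) (by norm_num)).app M
  have h5 : DRing.HasTorAmplitudeIn R 0 1 (Dual.inD R M) := hasTorAmp_of_iso e2 h4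
  exact flat_of_hasTorAmp_zero_one M h5

end FlatOfTorAmp

section BaseChange

open Groth.Agent.R2.H52.MatCx Groth.Agent.Lib.Helper1.LDer

variable {S S' : Type u} [CommRing S] [CommRing S'] [Algebra S S']

/-- the carrier of the extension of scalars -/
abbrev ES (S S' : Type u) [CommRing S] [CommRing S'] [Algebra S S'] (M : Type u) [AddCommGroup M]
    [Module S M] : Type u := ((Gf (algebraMap S S')).obj (ModuleCat.of S M) : Type u)

noncomputable instance (M : Type u) [AddCommGroup M] [Module S M] : Module S (ES S S' M) :=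
  Module.compHom _ (algebraMap S S')

instance (M : Type u) [AddCommGroup M] [Module S M] : IsScalarTower S S' (ES S S' M) :=
  IsScalarTower.of_algebraMap_smul (fun _ _ => rfl)

/-- `m ↦ 1 ⊗ m` as an `S`-linear map -/
noncomputable def oneL (S' : Type u) [CommRing S'] [Algebra S S'] (M : Type u) [AddCommGroup M]
    [Module S M] : M →ₗ[S] ES S S' M where
  toFun := fun m => one (algebraMap S S') (ModuleCat.of S M) m
  map_add' := fun m m' => MatCx.one_add (algebraMap S S') (ModuleCat.of S M) m m'
  map_smul' := fun a m => MatCx.one_smul (algebraMap S S') (ModuleCat.of S M) a m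

/-- `S' ⊗_S M → extendScalars M`, `s ⊗ m ↦ s • (1 ⊗ m)` -/
noncomputable def eInvL (M : Type u) [AddCommGroup M] [Module S M] :
    S' ⊗[S] M →ₗ[S'] ES S S' M := LinearMap.liftBaseChange S' (oneL S' M)

lemma eInvL_tmul (M : Type u) [AddCommGroup M] [Module S M] (s : S') (m : M) :
    eInvL (S' := S') M (s ⊗ₜ[S] m) = s • one (algebraMap S S') (ModuleCat.of S M) m :=
  LinearMap.liftBaseChange_tmul S' (oneL S' M) s m

/-- `S' ⊗_S M → extendScalars M`, `s ⊗ m ↦ s • (1 ⊗ m)` -/
noncomputable def eInv (M : Type u) [AddCommGroup M] [Module S M] :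
    ModuleCat.of S' (S' ⊗[S] M) ⟶ (Gf (algebraMap S S')).obj (ModuleCat.of S M) :=
  ModuleCat.ofHom (X := S' ⊗[S] M) (Y := ES S S' M) (eInvL M)

lemma eInv_tmul (M : Type u) [AddCommGroup M] [Module S M] (s : S') (m : M) :
    (eInv (S := S) (S' := S') M).hom (s ⊗ₜ[S] m) = s • one (algebraMap S S') (ModuleCat.of S M) m :=
  eInvL_tmul (S := S) M s m

/-- `extendScalars M → S' ⊗_S M` -/
noncomputable def eHom (M : Type u) [AddCommGroup M] [Module S M] :
    (Gf (algebraMap S S')).obj (ModuleCat.of S M) ⟶ ModuleCat.of S' (S' ⊗[S] M) :=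
  sharp (algebraMap S S') (ModuleCat.ofHom
    (Y := (ModuleCat.restrictScalars.{u, u, u} (algebraMap S S')).obj (ModuleCat.of S' (S' ⊗[S] M)))
    { toFun := fun m => ((1 : S') ⊗ₜ[S] m : S' ⊗[S] M)
      map_add' := fun m m' => TensorProduct.tmul_add _ _ _
      map_smul' := fun a m => by
        show ((1 : S') ⊗ₜ[S] (a • m) : S' ⊗[S] M) = (algebraMap S S' a) • ((1 : S') ⊗ₜ[S] m)
        rw [TensorProduct.tmul_smul, TensorProduct.smul_tmul', TensorProduct.smul_tmul',
          smul_eq_mul, mul_one, Algebra.algebraMap_eq_smul_one] })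

lemma eHom_one (M : Type u) [AddCommGroup M] [Module S M] (m : M) :
    (eHom (S := S) (S' := S') M).hom (one (algebraMap S S') (ModuleCat.of S M) m) = (1 : S') ⊗ₜ[S] m :=
  sharp_one _ _ _

lemma eHom_eInv (M : Type u) [AddCommGroup M] [Module S M] :
    eHom (S := S) (S' := S') M ≫ eInv M = 𝟙 _ := by
  apply hom_ext_one
  intro m
  rw [ModuleCat.hom_comp, LinearMap.comp_apply, eHom_one, eInv_tmul, _root_.one_smul]
  rfl

lemma eInv_eHom (M : Type u) [AddCommGroup M] [Module S M] :
    eInv (S := S) (S' := S') M ≫ eHom M = 𝟙 _ := by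
  apply ModuleCat.hom_ext
  apply LinearMap.ext
  intro x
  induction x using TensorProduct.induction_on with
  | zero => simp
  | add x y hx hy => simp only [map_add, hx, hy]
  | tmul s m =>
    rw [ModuleCat.hom_comp, LinearMap.comp_apply, eInv_tmul, map_smul, eHom_one,
      TensorProduct.smul_tmul', smul_eq_mul, mul_one]
    rfl

/-- `extendScalars M ≅ S' ⊗_S M` -/
noncomputable def eIso (M : Type u) [AddCommGroup M] [Module S M] :
    ModuleCat.of S' (S' ⊗[S] M) ≅ (Gf (algebraMap S S')).obj (ModuleCat.of S M) where
  hom := eInv M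
  inv := eHom M
  hom_inv_id := eInv_eHom M
  inv_hom_id := eHom_eInv M

lemma eInv_naturality {M N : Type u} [AddCommGroup M] [Module S M] [AddCommGroup N] [Module S N]
    (f : M →ₗ[S] N) :
    ModuleCat.ofHom (f.baseChange S') ≫ eInv (S := S) (S' := S') N =
      eInv M ≫ (Gf (algebraMap S S')).map (ModuleCat.ofHom f) := by
  apply ModuleCat.hom_ext
  apply LinearMap.ext
  intro x
  induction x using TensorProduct.induction_on with
  | zero => simp
  | add x y hx hy => simp only [map_add, hx, hy]
  | tmul s m =>
    rw [ModuleCat.hom_comp, LinearMap.comp_apply, ModuleCat.hom_comp, LinearMap.comp_apply,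
      eInv_tmul, map_smul, MatCx.map_one]
    show (eInv N).hom ((f.baseChange S') (s ⊗ₜ[S] m)) = _
    rw [LinearMap.baseChange_tmul, eInv_tmul]
    rfl

variable {M N : Type u} [AddCommGroup M] [Module S M] [AddCommGroup N] [Module S N]
  (f : M →ₗ[S] N)

instance : IsIso (eInv (S := S) (S' := S') M) := (eIso (S := S) (S' := S') M).isIso_hom

/-- degree `-1` component -/
noncomputable def phi0 : ModuleCat.of S' (S' ⊗[S] M) ⟶
    ((bcCx (algebraMap S S')).obj (HomologicalComplex.double (ModuleCat.ofHom f) rel)).X (-1) :=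
  eInv (S := S) (S' := S') M ≫
    (Gf (algebraMap S S')).map (HomologicalComplex.doubleXIso₀ (ModuleCat.ofHom f) rel).inv

/-- degree `0` component -/
noncomputable def phi1 : ModuleCat.of S' (S' ⊗[S] N) ⟶
    ((bcCx (algebraMap S S')).obj (HomologicalComplex.double (ModuleCat.ofHom f) rel)).X 0 :=
  eInv (S := S) (S' := S') N ≫
    (Gf (algebraMap S S')).map
      (HomologicalComplex.doubleXIso₁ (ModuleCat.ofHom f) rel (by decide)).inv

instance : IsIso (phi0 (S' := S') f) := by
  unfold phi0
  exact IsIso.comp_isIso' inferInstance (Iso.isIso_hom ((Gf (algebraMap S S')).mapIso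
    (HomologicalComplex.doubleXIso₀ (ModuleCat.ofHom f) rel).symm))

instance : IsIso (phi1 (S' := S') f) := by
  unfold phi1
  exact IsIso.comp_isIso' inferInstance (Iso.isIso_hom ((Gf (algebraMap S S')).mapIso
    (HomologicalComplex.doubleXIso₁ (ModuleCat.ofHom f) rel (by decide)).symm))

lemma phi_comm : phi0 (S' := S') f ≫
    ((bcCx (algebraMap S S')).obj (HomologicalComplex.double (ModuleCat.ofHom f) rel)).d (-1) 0 =
      ModuleCat.ofHom (f.baseChange S') ≫ phi1 (S' := S') f := by
  have h1 : (Gf (algebraMap S S')).map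
      (HomologicalComplex.doubleXIso₀ (ModuleCat.ofHom f) rel).inv ≫
      (Gf (algebraMap S S')).map ((HomologicalComplex.double (ModuleCat.ofHom f) rel).d (-1) 0) =
      (Gf (algebraMap S S')).map (ModuleCat.ofHom f) ≫ (Gf (algebraMap S S')).map
        (HomologicalComplex.doubleXIso₁ (ModuleCat.ofHom f) rel (by decide)).inv := by
    rw [← Functor.map_comp, ← Functor.map_comp, HomologicalComplex.double_d _ _ (by decide),
      Iso.inv_hom_id_assoc]
  show (eInv (S := S) (S' := S') M ≫ (Gf (algebraMap S S')).map
      (HomologicalComplex.doubleXIso₀ (ModuleCat.ofHom f) rel).inv) ≫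
      (Gf (algebraMap S S')).map ((HomologicalComplex.double (ModuleCat.ofHom f) rel).d (-1) 0) =
    ModuleCat.ofHom (f.baseChange S') ≫ eInv (S := S) (S' := S') N ≫
      (Gf (algebraMap S S')).map
        (HomologicalComplex.doubleXIso₁ (ModuleCat.ofHom f) rel (by decide)).inv
  rw [Category.assoc, h1, ← Category.assoc, ← eInv_naturality, Category.assoc]

/-- the chain map `(S' ⊗ M → S' ⊗ N) ⟶ extendScalars (M → N)` -/
noncomputable def bcDoubleHom :
    HomologicalComplex.double (ModuleCat.ofHom (f.baseChange S')) rel ⟶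
      (bcCx (algebraMap S S')).obj (HomologicalComplex.double (ModuleCat.ofHom f) rel) :=
  HomologicalComplex.mkHomFromDouble rel (by decide) (phi0 f) (phi1 f) (phi_comm f)
    (by
      intro k _
      have : ((bcCx (algebraMap S S')).obj
          (HomologicalComplex.double (ModuleCat.ofHom f) rel)).d 0 k = 0 := by
        show (Gf (algebraMap S S')).map
          ((HomologicalComplex.double (ModuleCat.ofHom f) rel).d 0 k) = 0
        rw [HomologicalComplex.double_d_eq_zero₀ _ _ 0 k (by decide), Functor.map_zero]
      rw [this, Limits.comp_zero])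

instance isIso_bcDoubleHom : IsIso (bcDoubleHom (S' := S') f) := by
  have : ∀ n, IsIso ((bcDoubleHom (S' := S') f).f n) := by
    intro n
    by_cases hn0 : n = -1
    · subst hn0
      rw [bcDoubleHom, HomologicalComplex.mkHomFromDouble_f₀]
      exact IsIso.comp_isIso' inferInstance inferInstance
    · by_cases hn1 : n = 0
      · subst hn1
        rw [bcDoubleHom, HomologicalComplex.mkHomFromDouble_f₁]
        exact IsIso.comp_isIso' inferInstance inferInstance
      · have hs : IsZero ((HomologicalComplex.double
            (ModuleCat.ofHom (f.baseChange S')) rel).X n) :=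
          HomologicalComplex.isZero_double_X _ _ n hn0 hn1
        have ht : IsZero (((bcCx (algebraMap S S')).obj
            (HomologicalComplex.double (ModuleCat.ofHom f) rel)).X n) :=
          (Gf (algebraMap S S')).map_isZero (HomologicalComplex.isZero_double_X _ _ n hn0 hn1)
        exact ⟨⟨0, hs.eq_of_src _ _, ht.eq_of_src _ _⟩⟩
  exact HomologicalComplex.Hom.isIso_of_components _

lemma termwiseFlat_double (hM : Module.Flat S M) (hN : Module.Flat S N) :
    DRing.TermwiseFlat (HomologicalComplex.double (ModuleCat.ofHom f) rel) := by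
  intro i
  by_cases hn0 : i = -1
  · subst hn0
    exact Module.Flat.of_linearEquiv
      ((HomologicalComplex.doubleXIso₀ (ModuleCat.ofHom f) rel).toLinearEquiv)
  · by_cases hn1 : i = 0
    · subst hn1
      exact Module.Flat.of_linearEquiv
        ((HomologicalComplex.doubleXIso₁ (ModuleCat.ofHom f) rel (by decide)).toLinearEquiv)
    · have := ModuleCat.subsingleton_of_isZero
        (HomologicalComplex.isZero_double_X (ModuleCat.ofHom f) rel i hn0 hn1)
      infer_instance

/-- derived base change of a two term complex of flat modules -/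
theorem nonempty_lbc_double_iso [DRing.HasLBaseChange (algebraMap S S')]
    (hM : Module.Flat S M) (hN : Module.Flat S N) :
    Nonempty ((DRing.LBaseChange (algebraMap S S')).obj
        (Q.obj (HomologicalComplex.double (ModuleCat.ofHom f) rel)) ≅
      Q.obj (HomologicalComplex.double (ModuleCat.ofHom (f.baseChange S')) rel)) := by
  obtain ⟨e⟩ := Groth.Agent.R2.H52.RegFibre.nonempty_lbc_iso_of_flat (algebraMap S S')
    (HomologicalComplex.double (ModuleCat.ofHom f) rel) 0
    (fun i hi => HomologicalComplex.isZero_double_X _ _ i (by omega) (by omega))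
    (termwiseFlat_double f hM hN)
  exact ⟨e ≪≫ (Q.mapIso (asIso (bcDoubleHom (S' := S') f))).symm⟩

end BaseChange

end Groth.Agent.R2.H52.NLDer
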