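import Mathlib
import Groth.Agent.R2.H6NLBase
set_option backward.isDefEq.respectTransparency.types false

/-!
# Base change of the naive cotangent complex when `S` is flat over `R` (helper52)

Complement to helper6's `R2/H6NLBase` (which treats `R'` flat over `R`): if `S` is flat over `R`, then for
ANY `R → R'` the degree `-1` part `S' ⊗_S I/I² → I'/I'²` of the base change map for the base-changed
presentation is bijective, hence `NL(G) ⊗_S S' → NL(G')` is an isomorphism and
`NLCx.bcMapSelf` is a homotopy equivalence.
-/

set_option autoImplicit false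
universe u
open CategoryTheory TensorProduct Algebra Algebra.Extension

namespace Groth.Agent.R2.H52.NLFlat

open Groth.Agent.R2.H6.NLBase

section
variable {R S R' S' : Type u} [CommRing R] [CommRing S] [CommRing R'] [CommRing S'] [Algebra R S]
  [Algebra R' S'] [Algebra R R'] [Algebra S S'] [Algebra R S'] [IsScalarTower R R' S']
  [IsScalarTower R S S']
variable {ι : Type u} (G : Generators R S ι) (G' : Generators R' S' ι)
  (h : ∀ i, G'.val i = algebraMap S S' (G.val i))

attribute [local instance] MvPolynomial.algebraMvPolynomial
attribute [local instance] sameVarsAlg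

/-- `Q ⊗_P I → Q ⊗_P P` is injective when `S = P/I` is flat over `R` and `Q = R' ⊗_R P`. -/
lemma lTensor_ker_injective_of_flat [Module.Flat R S] :
    Function.Injective (G.toExtension.ker.subtype.lTensor G'.toExtension.Ring) := by
  have hpo : Algebra.IsPushout R (MvPolynomial ι R) R' (MvPolynomial ι R') := inferInstance
  have hpo' : Algebra.IsPushout R R' (MvPolynomial ι R) (MvPolynomial ι R') := hpo.symm
  let P := MvPolynomial ι R
  let Q := MvPolynomial ι R'
  let I : Ideal P := G.toExtension.ker
  -- the `R`-linear short exact sequence `0 → I → P → S → 0`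
  let π : P →ₗ[R] S := (MvPolynomial.aeval G.val).toLinearMap
  have hπ : Function.Surjective π := G.aeval_val_surjective
  let j : I →ₗ[R] P := I.subtype.restrictScalars R
  have hj : Function.Injective j := Subtype.val_injective
  have hex : Function.Exact j π := by
    intro p
    have e1 : G.toExtension.ker = RingHom.ker (MvPolynomial.aeval G.val) := G.ker_eq_ker_aeval_val
    constructor
    · intro hp
      have : p ∈ I := by
        show p ∈ G.toExtension.ker
        rw [e1]; exact hp
      exact ⟨⟨p, this⟩, rfl⟩
    · rintro ⟨x, rfl⟩
      have : (x : P) ∈ RingHom.ker (MvPolynomial.aeval G.val) := by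
        rw [← e1]; exact x.2
      exact this
  have hinj : Function.Injective (j.lTensor R') :=
    LinearMap.lTensor_injective_of_exact_of_flat π hπ j hj hex R'
  -- transport along `Q ⊗_P X ≃ R' ⊗_R X`
  let c₁ := Algebra.IsPushout.cancelBaseChange R R' P Q I
  let c₂ := Algebra.IsPushout.cancelBaseChange R R' P Q P
  have hnat : ∀ z : Q ⊗[P] I, c₂ ((I.subtype.lTensor Q) z) = (j.lTensor R') (c₁ z) := by
    intro z
    obtain ⟨w, rfl⟩ := c₁.symm.surjective z
    rw [LinearEquiv.apply_symm_apply]
    induction w using TensorProduct.induction_on with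
    | zero => simp
    | add x y hx hy => simp only [map_add, hx, hy]
    | tmul r x =>
      rw [Algebra.IsPushout.cancelBaseChange_symm_tmul, LinearMap.lTensor_tmul,
        LinearMap.lTensor_tmul]
      apply c₂.symm.injective
      rw [LinearEquiv.symm_apply_apply, Algebra.IsPushout.cancelBaseChange_symm_tmul]
      rfl
  intro a b hab
  apply c₁.injective
  apply hinj
  rw [← hnat, ← hnat]
  exact congrArg c₂ hab

variable [Algebra.IsPushout R R' S S']

/-- Degree `-1` bijectivity for the base-changed presentation when `S` is flat over `R`. -/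
lemma sameVars_cotangent_bijective_of_flat' [Module.Flat R S] :
    Function.Bijective
      ((Cotangent.map (NLCx.sameVarsHom G G' h).toExtensionHom).liftBaseChange S') := by
  refine tensorCotangent_bijective _ (sameVars_halg G G' h)
    ⟨mapKer_liftBaseChange_injective _ _ ?_, sameVars_mapKer_surjective G G' h⟩
  exact lTensor_ker_injective_of_flat G G'

/-- `NL(G) ⊗_S S' → NL(G')` is an isomorphism of complexes when `S` is flat over `R`. -/
lemma isIso_bcMap_sameVars_of_flat [Module.Flat R S] :
    IsIso (NLCx.bcMap (S' := S') (NLCx.sameVarsHom G G' h).toExtensionHom) :=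
  isIso_bcMap _ (sameVars_cotangent_bijective_of_flat' G G' h)
    (cotangentSpace_sameVars_bijective G G' h)

end

section
variable (R S R' S' : Type u) [CommRing R] [CommRing S] [CommRing R'] [CommRing S'] [Algebra R S]
  [Algebra R' S'] [Algebra R R'] [Algebra S S'] [Algebra R S'] [IsScalarTower R R' S']
  [IsScalarTower R S S'] [Algebra.IsPushout R R' S S'] [Module.Flat R S]

/-- `NLCx.bcMapSelf` is (the map of) a homotopy equivalence when `S` is flat over `R`. -/
theorem exists_homotopyEquiv_bcMapSelf :
    ∃ e : HomotopyEquiv (NLCx.bcCx (Algebra.Generators.self R S).toExtension S')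
        (NLCx.cx (Algebra.Generators.self R' S').toExtension),
      e.hom = NLCx.bcMapSelf R S R' S' := by
  have hiso : IsIso (NLCx.bcMap (S' := S') (NLCx.sameVarsHom (Algebra.Generators.self R S)
      (midGen R S R' S') (midGen_val R S R' S')).toExtensionHom) :=
    isIso_bcMap_sameVars_of_flat _ _ _
  refine ⟨(HomotopyEquiv.ofIso (asIso (NLCx.bcMap (S' := S') (NLCx.sameVarsHom
    (Algebra.Generators.self R S) (midGen R S R' S')
    (midGen_val R S R' S')).toExtensionHom))).trans
    (mapHomotopyEquiv (midHom R S R' S').toExtensionHom
      ((Algebra.Generators.self R' S').defaultHom (midGen R S R' S')).toExtensionHom), ?_⟩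
  change _ = NLCx.bcMap ((Algebra.Generators.self R S).defaultHom
    (Algebra.Generators.self R' S')).toExtensionHom
  rw [defaultHom_eq, Algebra.Generators.Hom.toExtensionHom_comp, bcMap_comp]
  rfl

theorem quasiIso_bcMapSelf : QuasiIso (NLCx.bcMapSelf R S R' S') := by
  obtain ⟨e, he⟩ := exists_homotopyEquiv_bcMapSelf R S R' S'
  rw [← he]
  infer_instance

end

end Groth.Agent.R2.H52.NLFlat
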