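import Groth.Agent.R2.H95NormSpec
import Groth.Agent.S10298

/-!
# helper52: PROJ:relnorm package A (`SchStableStmt`)

The Mathlib normalization of a quasi-compact quasi-separated morphism of schemes over `S` is a
relative normalization in the sense of algebraic spaces, stably under smooth base change
(`Scheme.Hom.normalizationPullback` is an isomorphism for smooth base change, Stacks 03GV).
-/

set_option autoImplicit false
universe u
open CategoryTheory CategoryTheory.Limits AlgebraicGeometry Opposite
open AlgSp

set_option backward.isDefEq.respectTransparency false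
set_option linter.style.haveILetI false

namespace Groth.Agent.R2.H52.NormSch

open Groth.Agent.R2.H95

theorem schStable : NormSpec.SchStableStmt.{u} := by
  intro S V U N g _ _ f' ν e he1 he2 W w hw FW a' b' sq NW g' ν' sqN η' h1 h2
  haveI : Smooth w.left := hw
  -- the fibre product `P = V ×_U W` in `Over S`, with underlying scheme the chosen pullback
  let P : Over S := Over.mk (pullback.snd g.left w.left ≫ W.hom)
  let p2 : P ⟶ W := Over.homMk (pullback.snd g.left w.left) rfl
  let p1 : P ⟶ V := Over.homMk (pullback.fst g.left w.left) (by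
    show pullback.fst g.left w.left ≫ V.hom = pullback.snd g.left w.left ≫ W.hom
    rw [← Over.w g, ← Over.w w, pullback.condition_assoc])
  have sqP : IsPullback p1 p2 g w := by
    refine IsPullback.of_map (Over.forget S) ?_ ?_
    · ext
      exact pullback.condition
    · exact IsPullback.of_hasPullback g.left w.left
  have sqY : IsPullback ((AlgSp.yon S).map p1) ((AlgSp.yon S).map p2) ((AlgSp.yon S).map g)
      ((AlgSp.yon S).map w) := sqP.map (AlgSp.yon S)
  let eF : FW ≅ (AlgSp.yon S).obj P := sq.isoIsPullback _ _ sqY
  have eF1 : eF.hom ≫ (AlgSp.yon S).map p1 = a' := IsPullback.isoIsPullback_hom_fst _ _ sq sqY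
  have eF2 : eF.hom ≫ (AlgSp.yon S).map p2 = b' := IsPullback.isoIsPullback_hom_snd _ _ sq sqY
  have eF1' : eF.inv ≫ a' = (AlgSp.yon S).map p1 := by rw [← eF1, Iso.inv_hom_id_assoc]
  have eF2' : eF.inv ≫ b' = (AlgSp.yon S).map p2 := by rw [← eF2, Iso.inv_hom_id_assoc]
  obtain ⟨k, hk⟩ := (AlgSp.yon S).map_surjective (eF.inv ≫ η')
  have hk1 : k ≫ ν' = p2 := by
    apply (AlgSp.yon S).map_injective
    rw [Functor.map_comp, hk, Category.assoc, h1, eF2']
  have hk2 : k ≫ g' = p1 ≫ f' := by
    apply (AlgSp.yon S).map_injective
    rw [Functor.map_comp, hk, Category.assoc, h2, ← Category.assoc, eF1', Functor.map_comp]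
  -- scheme level
  have sqN' : IsPullback g'.left ν'.left ν.left w.left := sqN.map (Over.forget S)
  have sqN'' : IsPullback (g'.left ≫ e.hom) ν'.left g.left.fromNormalization w.left :=
    IsPullback.of_iso sqN' (Iso.refl _) e (Iso.refl _) (Iso.refl _) (by simp) (by simp)
      (by simp [he2]) (by simp)
  let iso2 : NW.left ≅ pullback g.left.fromNormalization w.left := sqN''.isoPullback
  have iso2_fst : iso2.hom ≫ pullback.fst _ _ = g'.left ≫ e.hom := sqN''.isoPullback_hom_fst
  have iso2_snd : iso2.hom ≫ pullback.snd _ _ = ν'.left := sqN''.isoPullback_hom_snd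
  let e' : NW.left ≅ (pullback.snd g.left w.left).normalization :=
    iso2 ≪≫ (asIso (g.left.normalizationPullback w.left)).symm
  haveI : QuasiCompact p2.left := inferInstanceAs (QuasiCompact (pullback.snd g.left w.left))
  haveI : QuasiSeparated p2.left := inferInstanceAs (QuasiSeparated (pullback.snd g.left w.left))
  have hk1l : k.left ≫ ν'.left = pullback.snd g.left w.left := by
    have := congrArg (fun t => t.left) hk1
    exact this
  have hk2l : k.left ≫ g'.left = pullback.fst g.left w.left ≫ f'.left := by
    have := congrArg (fun t => t.left) hk2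
    exact this
  have he1' : k.left ≫ e'.hom = p2.left.toNormalization := by
    show k.left ≫ iso2.hom ≫ inv (g.left.normalizationPullback w.left) =
      (pullback.snd g.left w.left).toNormalization
    rw [← Category.assoc, IsIso.comp_inv_eq]
    apply pullback.hom_ext
    · rw [Category.assoc, iso2_fst, reassoc_of% hk2l, he1, Category.assoc,
        Scheme.Hom.toNormalization_normalizationPullback_fst]
    · rw [Category.assoc, iso2_snd, hk1l, Category.assoc,
        Scheme.Hom.normalizationPullback_snd, Scheme.Hom.toNormalization_fromNormalization]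
  have he2' : e'.hom ≫ p2.left.fromNormalization = ν'.left := by
    show (iso2.hom ≫ inv (g.left.normalizationPullback w.left)) ≫
      (pullback.snd g.left w.left).fromNormalization = ν'.left
    rw [Category.assoc, ← Scheme.Hom.normalizationPullback_snd, IsIso.inv_hom_id_assoc, iso2_snd]
  have h := Groth.Agent.S10298.result p2 k ν' e' he1' he2'
  refine NormSpec.isRelNormalization_of_iso h eF (Iso.refl _) b' ((AlgSp.yon S).map ν') η'
    eF2.symm (by simp) ?_
  rw [hk, Iso.hom_inv_id_assoc, Iso.refl_hom, Category.comp_id]

end Groth.Agent.R2.H52.NormSch
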