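import Groth.Agent.R2.H95NormRecog
import Groth.Agent.R2.H47SpColim

/-!
# helper52: PROJ:relnorm package [ZL] — Zariski localisation of the relative normalization

`isRelNormalization_of_openCover`: for `b : F ⟶ h_W`, an integral `ν : N ⟶ W` and `η : F ⟶ h_N`
with `η ≫ h_ν = b`, if the restrictions of `(b, ν, η)` to the members of an open cover of `W`
(closed under finite intersections up to refinement) are relative normalizations, then so is
`(b, h_ν, η)`.
-/

set_option autoImplicit false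
universe u
open CategoryTheory CategoryTheory.Limits AlgebraicGeometry Opposite
open AlgSp

set_option backward.isDefEq.respectTransparency false
set_option linter.style.haveILetI false
set_option linter.unusedSectionVars false

namespace Groth.Agent.R2.H52.NormZar

open Groth.Agent.R2.H95.NormSpec Groth.Agent.R2.H95.SpEpi Groth.Agent.R2.H95.NormRecog
  Groth.Agent.R2.H47.SpColim Groth.Agent.R2.H47.InfSq

variable {S : Scheme.{u}}

/-- the inclusion of a smaller open, followed by the inclusion of the bigger one. -/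
lemma resMap_id_resι (U : Over S) (O' O : U.left.Opens) (h : O' ≤ (𝟙 U : U ⟶ U).left ⁻¹ᵁ O) :
    resMap (𝟙 U) O' O h ≫ resι U O = resι U O' := by
  rw [resMap_resι, Category.comp_id]

/-- composition of inclusions of opens. -/
lemma resMap_id_comp (U : Over S) (O'' O' O : U.left.Opens)
    (h1 : O'' ≤ (𝟙 U : U ⟶ U).left ⁻¹ᵁ O') (h2 : O' ≤ (𝟙 U : U ⟶ U).left ⁻¹ᵁ O)
    (h3 : O'' ≤ (𝟙 U : U ⟶ U).left ⁻¹ᵁ O) :
    resMap (𝟙 U) O'' O' h1 ≫ resMap (𝟙 U) O' O h2 = resMap (𝟙 U) O'' O h3 := by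
  rw [← cancel_mono (resι U O), Category.assoc, resMap_id_resι, resMap_id_resι, resMap_id_resι]

instance (U : Over S) (O' O : U.left.Opens) (h : O' ≤ (𝟙 U : U ⟶ U).left ⁻¹ᵁ O) :
    IsOpenImmersion (resMap (𝟙 U) O' O h).left := by
  have h1 : (resMap (𝟙 U) O' O h).left ≫ (resι U O).left = (resι U O').left := by
    rw [← Over.comp_left, resMap_id_resι]
  haveI : IsOpenImmersion ((resMap (𝟙 U) O' O h).left ≫ (resι U O).left) := by
    rw [h1]; infer_instance
  exact IsOpenImmersion.of_comp _ (resι U O).left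

/-- an open of `U` covered by smaller opens gives an fppf covering of the open subscheme. -/
lemma mem_J_of_subcover (U : Over S) (V : U.left.Opens) {κ : Type*} (V' : κ → U.left.Opens)
    (hle : ∀ k, V' k ≤ (𝟙 U : U ⟶ U).left ⁻¹ᵁ V) (hcov : ∀ x : U.left, x ∈ V → ∃ k, x ∈ V' k) :
    Sieve.ofArrows (fun k => res U (V' k)) (fun k => resMap (𝟙 U) (V' k) V (hle k)) ∈
      AlgSp.J S (res U V) := by
  apply mem_J_of_fppf
  · intro t
    obtain ⟨k, hk⟩ := hcov (V.ι t) (by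
      have : V.ι t ∈ Set.range V.ι := ⟨t, rfl⟩
      rwa [Scheme.Opens.range_ι] at this)
    refine ⟨k, ?_⟩
    have hk' : V.ι t ∈ Set.range (V' k).ι := by rw [Scheme.Opens.range_ι]; exact hk
    obtain ⟨t', ht'⟩ := hk'
    refine ⟨t', ?_⟩
    have h1 : (resMap (𝟙 U) (V' k) V (hle k)).left ≫ (resι U V).left = (resι U (V' k)).left := by
      rw [← Over.comp_left, resMap_id_resι]
    have h2 : V.ι ((resMap (𝟙 U) (V' k) V (hle k)).left t') = V.ι t := by
      rw [← ht']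
      have := congrArg (fun f => f t') h1
      simpa [resι_left] using this
    have hinj : Function.Injective V.ι := V.ι.isOpenEmbedding.injective
    exact hinj h2
  · intro k; infer_instance
  · intro k; infer_instance

/-- the preimage of an open subscheme is the fibre product, over `S`. -/
lemma isPullback_res {W N : Over S} (ν : N ⟶ W) (O : W.left.Opens) :
    IsPullback (resι N (ν.left ⁻¹ᵁ O)) (resMap ν (ν.left ⁻¹ᵁ O) O le_rfl) ν (resι W O) := by
  refine IsPullback.of_map (Over.forget S) (resMap_resι ν _ O le_rfl).symm ?_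
  change IsPullback (ν.left ⁻¹ᵁ O).ι (ν.left.resLE O (ν.left ⁻¹ᵁ O) le_rfl) ν.left O.ι
  rw [Scheme.Hom.resLE_eq_morphismRestrict]
  exact (isPullback_morphismRestrict ν.left O).flip

/-- integrality of a morphism of schemes over `S` is local on the target. -/
lemma isIntegralHom_of_openCover {W N : Over S} (ν : N ⟶ W) {ι : Type*} (O : ι → W.left.Opens)
    (hcov : ∀ x : W.left, ∃ i, x ∈ O i)
    (h : ∀ i, IsIntegralHom (resMap ν (ν.left ⁻¹ᵁ O i) (O i) le_rfl).left) :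
    IsIntegralHom ν.left := by
  have hsup : iSup O = ⊤ := by
    rw [eq_top_iff]
    intro x _
    obtain ⟨i, hi⟩ := hcov x
    exact TopologicalSpace.Opens.mem_iSup.2 ⟨i, hi⟩
  rw [IsZariskiLocalAtTarget.iff_of_iSup_eq_top (P := @IsIntegralHom) O hsup]
  intro i
  have := h i
  change IsIntegralHom (ν.left.resLE (O i) (ν.left ⁻¹ᵁ O i) le_rfl) at this
  rwa [Scheme.Hom.resLE_eq_morphismRestrict] at this

/-- `h_ν` is integral in the sense of algebraic spaces when `ν` is an integral morphism of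
schemes. -/
lemma isIntegralMor_yon_map {W N : Over S} (ν : N ⟶ W) (hν : IsIntegralHom ν.left) :
    AlgSp.IsIntegralMor ((AlgSp.yon S).map ν) := by
  intro Z hZ γ
  have hrep : AlgSp.RepWith @IsIntegralHom ((AlgSp.yon S).map ν) :=
    (AlgSp.repWith_yon_map_iff _ ν).mpr hν
  obtain ⟨T, snd, fst, sq⟩ := hrep.1 γ
  have : IsIntegralHom snd.left := hrep.2 γ fst snd sq
  have := hZ
  exact ⟨T, snd, fst, sq, isAffine_of_isAffineHom snd.left, inferInstance⟩

section Main

variable {F : AlgSp.Sp S} {W N : Over S} (b : F ⟶ (AlgSp.yon S).obj W) (ν : N ⟶ W)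
  (η : F ⟶ (AlgSp.yon S).obj N)

/-- the base changes of `F` to the members of an open cover of `W` are jointly epimorphic. -/
lemma hom_ext_of_openCover_pullback {Z : AlgSp.Sp S} {ι : Type*} (O : ι → W.left.Opens)
    (hcov : ∀ x : W.left, ∃ i, x ∈ O i)
    (Fi : ι → AlgSp.Sp S) (a : ∀ i, Fi i ⟶ F) (bi : ∀ i, Fi i ⟶ (AlgSp.yon S).obj (res W (O i)))
    (sq : ∀ i, IsPullback (a i) (bi i) b ((AlgSp.yon S).map (resι W (O i))))
    (l l' : F ⟶ Z) (h : ∀ i, a i ≫ l = a i ≫ l') : l = l' := by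
  apply hom_ext_points
  intro T x
  obtain ⟨w, hw⟩ := (AlgSp.yon S).map_surjective (x ≫ b)
  refine hom_ext_of_cover (fun i => res T (w.left ⁻¹ᵁ O i)) (fun i => resι T (w.left ⁻¹ᵁ O i))
    (mem_J_of_openCover T (fun i => w.left ⁻¹ᵁ O i) ?_) _ _ ?_
  · intro t
    obtain ⟨i, hi⟩ := hcov (w.left t)
    exact ⟨i, hi⟩
  · intro i
    have hc : ((AlgSp.yon S).map (resι T (w.left ⁻¹ᵁ O i)) ≫ x) ≫ b =
        (AlgSp.yon S).map (resMap w (w.left ⁻¹ᵁ O i) (O i) le_rfl) ≫
          (AlgSp.yon S).map (resι W (O i)) := by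
      rw [Category.assoc, ← hw, ← Functor.map_comp, ← Functor.map_comp, resMap_resι]
    rw [← Category.assoc, ← Category.assoc, ← (sq i).lift_fst _ _ hc, Category.assoc, Category.assoc,
      h i]

/-- **Zariski localisation**: `(b, h_ν, η)` is a relative normalization as soon as its restrictions
to the members of an open cover of `W`, closed under finite intersections up to refinement,
are relative normalizations. -/
theorem isRelNormalization_of_openCover
    (hη : η ≫ (AlgSp.yon S).map ν = b) (hν : AlgSp.IsIntegralMor ((AlgSp.yon S).map ν))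
    {ι : Type*} (O : ι → W.left.Opens) (hcov : ∀ x : W.left, ∃ i, x ∈ O i)
    (href : ∀ i j (x : W.left), x ∈ O i ⊓ O j → ∃ k, x ∈ O k ∧ O k ≤ O i ⊓ O j)
    (Fi : ι → AlgSp.Sp S) (a : ∀ i, Fi i ⟶ F) (bi : ∀ i, Fi i ⟶ (AlgSp.yon S).obj (res W (O i)))
    (sq : ∀ i, IsPullback (a i) (bi i) b ((AlgSp.yon S).map (resι W (O i))))
    (ηi : ∀ i, Fi i ⟶ (AlgSp.yon S).obj (res N (ν.left ⁻¹ᵁ O i)))
    (h1 : ∀ i, ηi i ≫ (AlgSp.yon S).map (resMap ν (ν.left ⁻¹ᵁ O i) (O i) le_rfl) = bi i)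
    (h2 : ∀ i, ηi i ≫ (AlgSp.yon S).map (resι N (ν.left ⁻¹ᵁ O i)) = a i ≫ η)
    (H : ∀ i, AlgSp.IsRelNormalization (bi i)
      ((AlgSp.yon S).map (resMap ν (ν.left ⁻¹ᵁ O i) (O i) le_rfl)) (ηi i)) :
    AlgSp.IsRelNormalization b ((AlgSp.yon S).map ν) η := by
  refine ⟨hη, hν, ?_⟩
  intro Z hZ π g hπ hg
  -- the local problems have unique solutions
  have key : ∀ i, ∃! m : (AlgSp.yon S).obj (res N (ν.left ⁻¹ᵁ O i)) ⟶ Z,
      ηi i ≫ m = a i ≫ g ∧
        m ≫ π = (AlgSp.yon S).map (resι N (ν.left ⁻¹ᵁ O i) ≫ ν) := by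
    intro i
    have sqZ := IsPullback.of_hasPullback π ((AlgSp.yon S).map (resι W (O i)))
    obtain ⟨Zi, hZi⟩ : ∃ Zi, Zi = pullback π ((AlgSp.yon S).map (resι W (O i))) := ⟨_, rfl⟩
    obtain ⟨zi, hzi⟩ : ∃ zi : Zi ⟶ Z,
        HEq zi (pullback.fst π ((AlgSp.yon S).map (resι W (O i)))) := by
      subst hZi; exact ⟨_, HEq.rfl⟩
    obtain ⟨πi, hπi⟩ : ∃ πi : Zi ⟶ (AlgSp.yon S).obj (res W (O i)),
        HEq πi (pullback.snd π ((AlgSp.yon S).map (resι W (O i)))) := by
      subst hZi; exact ⟨_, HEq.rfl⟩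
    have sqZ : IsPullback zi πi π ((AlgSp.yon S).map (resι W (O i))) := by
      subst hZi; cases hzi; cases hπi; exact sqZ
    clear hzi hπi hZi
    have hZisp : AlgSp.IsAlgSpace Zi :=
      Groth.Agent.S9874.isAlgSpace_of_isPullback (AlgSp.IsAlgSpace.yon_obj W).diag hZ
        (AlgSp.IsAlgSpace.yon_obj _) sqZ
    have hπiint : AlgSp.IsIntegralMor πi := isIntegralMor_of_isPullback sqZ hπ
    have hgi : (a i ≫ g) ≫ π = bi i ≫ (AlgSp.yon S).map (resι W (O i)) := by
      rw [Category.assoc, hg, (sq i).w]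
    obtain ⟨hi, ⟨hi1, hi2⟩, hi3⟩ := (H i).2.2 hZisp πi (sqZ.lift _ _ hgi) hπiint
      (sqZ.lift_snd _ _ _)
    refine ⟨hi ≫ zi, ⟨?_, ?_⟩, ?_⟩
    · rw [← Category.assoc, hi1, sqZ.lift_fst]
    · rw [Category.assoc, sqZ.w, ← Category.assoc, hi2, ← Functor.map_comp, resMap_resι]
    · rintro m ⟨hm1, hm2⟩
      have hm0 : m ≫ π = (AlgSp.yon S).map (resMap ν (ν.left ⁻¹ᵁ O i) (O i) le_rfl) ≫
          (AlgSp.yon S).map (resι W (O i)) := by
        rw [hm2, ← Functor.map_comp, resMap_resι]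
      have := hi3 (sqZ.lift m _ hm0) ⟨?_, sqZ.lift_snd _ _ _⟩
      · rw [← this, sqZ.lift_fst]
      · apply sqZ.hom_ext
        · rw [Category.assoc, sqZ.lift_fst, sqZ.lift_fst, hm1]
        · rw [Category.assoc, sqZ.lift_snd, sqZ.lift_snd, h1]
  choose m hm hmuniq using key
  -- compatibility with restriction to smaller members
  have compat : ∀ (k i : ι) (hki : O k ≤ O i),
      (AlgSp.yon S).map (resMap (𝟙 N) (ν.left ⁻¹ᵁ O k) (ν.left ⁻¹ᵁ O i)
        (fun _ hx => hki hx)) ≫ m i = m k := by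
    intro k i hki
    have hρ : resMap (𝟙 N) (ν.left ⁻¹ᵁ O k) (ν.left ⁻¹ᵁ O i) (fun _ hx => hki hx) ≫
        resι N (ν.left ⁻¹ᵁ O i) = resι N (ν.left ⁻¹ᵁ O k) := resMap_id_resι _ _ _ _
    apply hmuniq k
    have hφ0 : a k ≫ b = (bi k ≫ (AlgSp.yon S).map (resMap (𝟙 W) (O k) (O i)
        (fun _ hx => hki hx))) ≫ (AlgSp.yon S).map (resι W (O i)) := by
      rw [Category.assoc, ← Functor.map_comp, resMap_id_resι, (sq k).w]
    obtain ⟨φ, hφ⟩ : ∃ φ, φ = (sq i).lift _ _ hφ0 := ⟨_, rfl⟩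
    have hφ1 : φ ≫ a i = a k := by rw [hφ, (sq i).lift_fst]
    have hηρ : ηi k ≫ (AlgSp.yon S).map (resMap (𝟙 N) (ν.left ⁻¹ᵁ O k) (ν.left ⁻¹ᵁ O i)
        (fun _ hx => hki hx)) = φ ≫ ηi i := by
      haveI : Mono ((AlgSp.yon S).map (resι N (ν.left ⁻¹ᵁ O i))) := inferInstance
      rw [← cancel_mono ((AlgSp.yon S).map (resι N (ν.left ⁻¹ᵁ O i))), Category.assoc,
        ← Functor.map_comp, hρ, h2 k, Category.assoc, h2 i, ← Category.assoc, hφ1]
    refine ⟨?_, ?_⟩
    · rw [← Category.assoc, hηρ, Category.assoc, (hm i).1, ← Category.assoc, hφ1]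
    · rw [Category.assoc, (hm i).2, ← Functor.map_comp, ← Category.assoc, hρ]
  -- gluing
  have hV : ∀ x : N.left, ∃ i, x ∈ ν.left ⁻¹ᵁ O i := by
    intro x
    obtain ⟨i, hi⟩ := hcov (ν.left x)
    exact ⟨i, hi⟩
  obtain ⟨l, hl⟩ := glue_of_openCover (F := Z) N (fun i => ν.left ⁻¹ᵁ O i) hV m (by
    intro i j
    refine hom_ext_of_cover
      (fun k : {k : ι // O k ≤ O i ⊓ O j} => res N (ν.left ⁻¹ᵁ O k.1))
      (fun k => resMap (𝟙 N) (ν.left ⁻¹ᵁ O k.1) (ν.left ⁻¹ᵁ O i ⊓ ν.left ⁻¹ᵁ O j)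
        (fun _ hx => ⟨(k.2 hx).1, (k.2 hx).2⟩))
      (mem_J_of_subcover N _ _ _ ?_) _ _ ?_
    · intro x hx
      obtain ⟨k, hk1, hk2⟩ := href i j (ν.left x) hx
      exact ⟨⟨k, hk2⟩, hk1⟩
    · intro k
      rw [← Category.assoc, ← Category.assoc, ← Functor.map_comp, ← Functor.map_comp,
        resMap_id_comp N _ _ _ _ _ (fun _ hx => (k.2 hx).1),
        resMap_id_comp N _ _ _ _ _ (fun _ hx => (k.2 hx).2),
        compat k.1 i (fun _ hx => (k.2 hx).1), compat k.1 j (fun _ hx => (k.2 hx).2)])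
  have hcovN : Sieve.ofArrows (fun i => res N (ν.left ⁻¹ᵁ O i))
      (fun i => resι N (ν.left ⁻¹ᵁ O i)) ∈ AlgSp.J S N :=
    mem_J_of_openCover N (fun i => ν.left ⁻¹ᵁ O i) hV
  refine ⟨l, ⟨?_, ?_⟩, ?_⟩
  · refine hom_ext_of_openCover_pullback b O hcov Fi a bi sq _ _ (fun i => ?_)
    rw [← Category.assoc, ← h2 i, Category.assoc, hl i, (hm i).1]
  · refine hom_ext_of_cover _ _ hcovN _ _ (fun i => ?_)
    rw [← Category.assoc, hl i, (hm i).2, Functor.map_comp]
  · rintro l' ⟨hl'1, hl'2⟩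
    refine hom_ext_of_cover _ _ hcovN _ _ (fun i => ?_)
    rw [hl i]
    apply hmuniq i
    refine ⟨?_, ?_⟩
    · rw [← Category.assoc, h2 i, Category.assoc, hl'1]
    · rw [Category.assoc, hl'2, Functor.map_comp]

/-- **Zariski localisation**, all-squares form: it suffices that for every member `O i` of the
cover and every pair of pullback squares over `O i ⟶ W` the restricted triple is a relative
normalization. -/
theorem isRelNormalization_of_openCover'
    (hη : η ≫ (AlgSp.yon S).map ν = b) (hν : AlgSp.IsIntegralMor ((AlgSp.yon S).map ν))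
    {ι : Type*} (O : ι → W.left.Opens) (hcov : ∀ x : W.left, ∃ i, x ∈ O i)
    (href : ∀ i j (x : W.left), x ∈ O i ⊓ O j → ∃ k, x ∈ O k ∧ O k ≤ O i ⊓ O j)
    (H : ∀ i, ∀ ⦃FW : AlgSp.Sp S⦄ (a' : FW ⟶ F) (b' : FW ⟶ (AlgSp.yon S).obj (res W (O i))),
      IsPullback a' b' b ((AlgSp.yon S).map (resι W (O i))) →
      ∀ ⦃NW : Over S⦄ (g' : NW ⟶ N) (ν' : NW ⟶ res W (O i)), IsPullback g' ν' ν (resι W (O i)) →
      ∀ (η' : FW ⟶ (AlgSp.yon S).obj NW), η' ≫ (AlgSp.yon S).map ν' = b' →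
        η' ≫ (AlgSp.yon S).map g' = a' ≫ η →
        AlgSp.IsRelNormalization b' ((AlgSp.yon S).map ν') η') :
    AlgSp.IsRelNormalization b ((AlgSp.yon S).map ν) η := by
  have sqF : ∀ i, IsPullback (pullback.fst b ((AlgSp.yon S).map (resι W (O i))))
      (pullback.snd b ((AlgSp.yon S).map (resι W (O i)))) b ((AlgSp.yon S).map (resι W (O i))) :=
    fun i => IsPullback.of_hasPullback _ _
  have sqN : ∀ i, IsPullback ((AlgSp.yon S).map (resι N (ν.left ⁻¹ᵁ O i)))
      ((AlgSp.yon S).map (resMap ν (ν.left ⁻¹ᵁ O i) (O i) le_rfl)) ((AlgSp.yon S).map ν)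
      ((AlgSp.yon S).map (resι W (O i))) := fun i => (isPullback_res ν (O i)).map (AlgSp.yon S)
  have hc : ∀ i, (pullback.fst b ((AlgSp.yon S).map (resι W (O i))) ≫ η) ≫ (AlgSp.yon S).map ν =
      pullback.snd b ((AlgSp.yon S).map (resι W (O i))) ≫ (AlgSp.yon S).map (resι W (O i)) := by
    intro i
    rw [Category.assoc, hη, pullback.condition]
  refine isRelNormalization_of_openCover b ν η hη hν O hcov href
    (fun i => pullback b ((AlgSp.yon S).map (resι W (O i)))) (fun i => pullback.fst _ _)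
    (fun i => pullback.snd _ _) sqF (fun i => (sqN i).lift _ _ (hc i))
    (fun i => (sqN i).lift_snd _ _ _) (fun i => (sqN i).lift_fst _ _ _) (fun i => ?_)
  exact H i _ _ (sqF i) _ _ (isPullback_res ν (O i)) _ ((sqN i).lift_snd _ _ _)
    ((sqN i).lift_fst _ _ _)

end Main

end Groth.Agent.R2.H52.NormZar
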