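import Mathlib
import Groth.Agent.R2.H52MatCx
import Groth.Agent.R2.H52ColimDesc
import Groth.Agent.Lib.Helper1LBC

/-!
# helper52: perfect complexes descend along filtered colimits of rings
-/

set_option autoImplicit false
set_option linter.style.haveILetI false

universe u

open CategoryTheory CategoryTheory.Limits Matrix

attribute [local instance] HasDerivedCategory.standard

namespace Groth.Agent.R2.H52.PerfDesc

open Groth.Agent.R2.H52.MatCx

section Retract

variable {R : Type u} [CommRing R] (N : ℕ)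

theorem mat_toMatrix' (g : Fr R N ⟶ Fr R N) : mat N (LinearMap.toMatrix' g.hom) = g := by
  rw [mat, Matrix.toLin'_toMatrix']
  rfl

theorem mat_injective {M M' : Matrix (Fin N) (Fin N) R} (h : mat N M = mat N M') : M = M' := by
  have h1 : Matrix.toLin' M = Matrix.toLin' M' := congrArg ModuleCat.Hom.hom h
  exact Matrix.toLin'.injective h1

/-- uniform finite free covers of the terms of a bounded complex with finite terms. -/
theorem exists_cover (E : DRing.Cx R) (a b : ℤ) (hE : DRing.VanishesOutside E a b)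
    (hfin : ∀ i, Module.Finite R (E.X i)) :
    ∃ N : ℕ, ∀ i : ℤ, ∃ q : Fr R N ⟶ E.X i, Function.Surjective q.hom := by
  classical
  choose n f hf using fun i : ℤ => Module.Finite.exists_fin' R (E.X i)
  refine ⟨(Finset.Icc a b).sup n, fun i => ?_⟩
  by_cases hi : i ∈ Finset.Icc a b
  · have hle : n i ≤ (Finset.Icc a b).sup n := Finset.le_sup hi
    refine ⟨ModuleCat.ofHom ((f i).comp (LinearMap.funLeft R R (Fin.castLE hle))), ?_⟩
    exact (hf i).comp (LinearMap.funLeft_surjective_of_injective R R _ (Fin.castLE_injective hle))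
  · have hz : IsZero (E.X i) := by
      apply hE
      rw [Finset.mem_Icc, not_and_or, not_le, not_le] at hi
      exact hi
    haveI : Subsingleton (E.X i) := ModuleCat.subsingleton_of_isZero hz
    exact ⟨0, fun y => ⟨0, Subsingleton.elim _ _⟩⟩

end Retract

section Data

/-- matrix data: differentials and an idempotent endomorphism. -/
@[ext]
structure MatData (A : Type u) [CommRing A] (N : ℕ) where
  /-- the differentials -/
  D : ℤ → Matrix (Fin N) (Fin N) A
  /-- the idempotent -/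
  p : ℤ → Matrix (Fin N) (Fin N) A
  hD : ∀ i, D (i + 1) * D i = 0
  hp : ∀ i, p i * p i = p i
  hDp : ∀ i, D i * p i = p (i + 1) * D i

variable {A B : Type u} [CommRing A] [CommRing B] {N : ℕ}

/-- the complex of a matrix datum -/
noncomputable def MatData.cx (T : MatData A N) : CochainComplex (ModuleCat.{u} A) ℤ :=
  MatCx N T.D T.hD

/-- the idempotent endomorphism of a matrix datum -/
noncomputable def MatData.π (T : MatData A N) : T.cx ⟶ T.cx :=
  MatHom N T.D T.D T.hD T.hD T.p T.hDp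

theorem MatData.π_f (T : MatData A N) (i : ℤ) : T.π.f i = mat N (T.p i) := rfl

theorem MatData.π_idem (T : MatData A N) : T.π ≫ T.π = T.π := by
  ext i : 1
  show mat N (T.p i) ≫ mat N (T.p i) = mat N (T.p i)
  rw [← mat_mul, T.hp]

/-- base change of a matrix datum -/
def MatData.map (T : MatData A N) (φ : A →+* B) : MatData B N where
  D i := (T.D i).map φ
  p i := (T.p i).map φ
  hD i := map_mul_map φ N T.D T.hD i
  hp i := by rw [← Matrix.map_mul, T.hp]
  hDp i := by rw [← Matrix.map_mul, ← Matrix.map_mul, T.hDp]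

/-- the base change of the complex of a matrix datum -/
noncomputable def MatData.bcIso (T : MatData A N) (φ : A →+* B) :
    (Bf φ).obj T.cx ≅ (T.map φ).cx :=
  MatCx.bcIso φ N T.D T.hD

theorem MatData.bcIso_π (T : MatData A N) (φ : A →+* B) :
    (Bf φ).map T.π ≫ (T.bcIso φ).hom = (T.bcIso φ).hom ≫ (T.map φ).π :=
  bcIso_MatHom φ N T.D T.hD T.p T.hDp (T.map φ).hDp

end Data

section Exists

variable {R : Type u} [CommRing R]

/-- a bounded complex of finite projective modules is a retract of a matrix complex. -/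
theorem exists_matData (E : DRing.Cx R) (a b : ℤ) (hE : DRing.VanishesOutside E a b)
    (hEp : DRing.TermwiseFiniteProjective E) :
    ∃ (N : ℕ) (T : MatData R N) (iE : E ⟶ T.cx) (rE : T.cx ⟶ E), iE ≫ rE = 𝟙 E ∧ rE ≫ iE = T.π ∧
      ∀ i : ℤ, (i < a ∨ b < i) → T.D i = 0 ∧ T.p i = 0 := by
  obtain ⟨N, hN⟩ := exists_cover E a b hE (fun i => (hEp i).1)
  choose q hq using hN
  have hs : ∀ i : ℤ, ∃ s : E.X i ⟶ Fr R N, s ≫ q i = 𝟙 _ := fun i => by
    haveI := (hEp i).2
    obtain ⟨s, hs⟩ := Module.projective_lifting_property (q i).hom LinearMap.id (hq i)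
    exact ⟨ModuleCat.ofHom s, ModuleCat.hom_ext hs⟩
  choose s hs using hs
  -- the differentials and the idempotent, as morphisms
  let Dl : ∀ i : ℤ, Fr R N ⟶ Fr R N := fun i => q i ≫ E.d i (i + 1) ≫ s (i + 1)
  let pl : ∀ i : ℤ, Fr R N ⟶ Fr R N := fun i => q i ≫ s i
  have hDl : ∀ i, Dl i ≫ Dl (i + 1) = 0 := fun i => by
    show (q i ≫ E.d i (i + 1) ≫ s (i + 1)) ≫ q (i + 1) ≫ E.d (i + 1) (i + 1 + 1) ≫ s (i + 1 + 1) = 0
    simp only [Category.assoc]
    rw [reassoc_of% (hs (i + 1)), HomologicalComplex.d_comp_d_assoc, zero_comp, comp_zero]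
  have hpl : ∀ i, pl i ≫ pl i = pl i := fun i => by
    show (q i ≫ s i) ≫ q i ≫ s i = q i ≫ s i
    simp only [Category.assoc]
    rw [reassoc_of% (hs i)]
  have hDpl : ∀ i, pl i ≫ Dl i = Dl i := fun i => by
    show (q i ≫ s i) ≫ q i ≫ E.d i (i + 1) ≫ s (i + 1) = q i ≫ E.d i (i + 1) ≫ s (i + 1)
    simp only [Category.assoc]
    rw [reassoc_of% (hs i)]
  have hpDl : ∀ i, Dl i ≫ pl (i + 1) = Dl i := fun i => by
    show (q i ≫ E.d i (i + 1) ≫ s (i + 1)) ≫ q (i + 1) ≫ s (i + 1) =
      q i ≫ E.d i (i + 1) ≫ s (i + 1)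
    simp only [Category.assoc]
    rw [reassoc_of% (hs (i + 1))]
  let T : MatData R N :=
    { D := fun i => LinearMap.toMatrix' (Dl i).hom
      p := fun i => LinearMap.toMatrix' (pl i).hom
      hD := fun i => by
        apply mat_injective
        rw [mat_mul, mat_toMatrix', mat_toMatrix', hDl, mat_zero]
      hp := fun i => by
        apply mat_injective
        rw [mat_mul, mat_toMatrix', hpl]
      hDp := fun i => by
        apply mat_injective
        rw [mat_mul, mat_mul, mat_toMatrix', mat_toMatrix', mat_toMatrix', hDpl, hpDl] }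
  have hTd : ∀ i, T.cx.d i (i + 1) = Dl i := fun i => by
    show (MatCx N T.D T.hD).d i (i + 1) = Dl i
    rw [MatCx_d]
    exact mat_toMatrix' N (Dl i)
  let iE : E ⟶ T.cx := CochainComplex.ofHom (X := E) (Y := T.cx) (fun i => s i) (fun i => by
    rw [hTd]
    show s i ≫ q i ≫ E.d i (i + 1) ≫ s (i + 1) = E.d i (i + 1) ≫ s (i + 1)
    rw [reassoc_of% (hs i)])
  let rE : T.cx ⟶ E := CochainComplex.ofHom (X := T.cx) (Y := E) (fun i => q i) (fun i => by
    rw [hTd]
    show q i ≫ E.d i (i + 1) = (q i ≫ E.d i (i + 1) ≫ s (i + 1)) ≫ q (i + 1)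
    simp only [Category.assoc]
    rw [hs (i + 1), Category.comp_id])
  refine ⟨N, T, iE, rE, ?_, ?_, ?_⟩
  · ext i : 1
    exact hs i
  · ext i : 1
    show q i ≫ s i = mat N (T.p i)
    exact (mat_toMatrix' N (pl i)).symm
  · intro i hi
    have hz : IsZero (E.X i) := hE i hi
    have h1 : pl i = 0 := by
      show q i ≫ s i = 0
      rw [hz.eq_of_tgt (q i) 0, zero_comp]
    have h2 : Dl i = 0 := by
      show q i ≫ E.d i (i + 1) ≫ s (i + 1) = 0
      rw [hz.eq_of_tgt (q i) 0, zero_comp]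
    constructor
    · show LinearMap.toMatrix' (Dl i).hom = 0
      rw [h2]
      exact map_zero _
    · show LinearMap.toMatrix' (pl i).hom = 0
      rw [h1]
      exact map_zero _

end Exists

section Descent

variable {J : Type u} [SmallCategory J] [IsFiltered J] (F : J ⥤ CommRingCat.{u}) (c : Cocone F)
  (hc : IsColimit c) (N : ℕ)

include hc

/-- finitely many matrices over the colimit come from some stage. -/
theorem exists_rep_matrices {T : Type} [Finite T] (X : T → Matrix (Fin N) (Fin N) c.pt) :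
    ∃ (j : J) (Y : T → Matrix (Fin N) (Fin N) (F.obj j)),
      ∀ t, (Y t).map (c.ι.app j).hom = X t := by
  obtain ⟨j, y, hy⟩ := ColimDesc.exists_rep_family F c hc (ι := T × Fin N × Fin N)
    (fun z => X z.1 z.2.1 z.2.2)
  exact ⟨j, fun t => Matrix.of (fun k l => y (t, k, l)), fun t => by
    ext k l
    exact hy (t, k, l)⟩

/-- finitely many equalities of matrices over the colimit hold at a later stage. -/
theorem exists_eq_matrices (j : J) {T : Type} [Finite T]
    (Y Y' : T → Matrix (Fin N) (Fin N) (F.obj j))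
    (h : ∀ t, (Y t).map (c.ι.app j).hom = (Y' t).map (c.ι.app j).hom) :
    ∃ (k : J) (u : j ⟶ k), ∀ t, (Y t).map (F.map u).hom = (Y' t).map (F.map u).hom := by
  obtain ⟨k, u, hu⟩ := ColimDesc.exists_eq_family F c hc j (ι := T × Fin N × Fin N)
    (fun z => Y z.1 z.2.1 z.2.2) (fun z => Y' z.1 z.2.1 z.2.2)
    (fun z => congrFun (congrFun (h z.1) z.2.1) z.2.2)
  exact ⟨k, u, fun t => by
    ext a b
    exact hu (t, a, b)⟩

/-- a matrix datum over the colimit, supported in `[a, b]`, descends to some stage. -/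
theorem exists_descent (T : MatData c.pt N) (a b : ℤ)
    (hT : ∀ i : ℤ, (i < a ∨ b < i) → T.D i = 0 ∧ T.p i = 0) :
    ∃ (j : J) (Tj : MatData (F.obj j) N), Tj.map (c.ι.app j).hom = T ∧
      ∀ i : ℤ, (i < a ∨ b < i) → Tj.p i = 0 := by
  classical
  let S : Finset ℤ := Finset.Icc a b
  have hS : ∀ i : ℤ, i ∉ S → (i < a ∨ b < i) := fun i hi => by
    rw [Finset.mem_Icc, not_and_or, not_le, not_le] at hi
    exact hi
  have hS' : ∀ i : ℤ, (i < a ∨ b < i) → i ∉ S := fun i hi h => by
    rw [Finset.mem_Icc] at h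
    omega
  -- step 1: lift the matrices
  obtain ⟨j0, Y, hY⟩ := exists_rep_matrices F c hc N (T := S × Bool)
    (fun z => if z.2 then T.D z.1 else T.p z.1)
  let D0 : ℤ → Matrix (Fin N) (Fin N) (F.obj j0) := fun i =>
    if h : i ∈ S then Y (⟨i, h⟩, true) else 0
  let p0 : ℤ → Matrix (Fin N) (Fin N) (F.obj j0) := fun i =>
    if h : i ∈ S then Y (⟨i, h⟩, false) else 0
  have hD0z : ∀ i, i ∉ S → D0 i = 0 := fun i hi => dif_neg hi
  have hp0z : ∀ i, i ∉ S → p0 i = 0 := fun i hi => dif_neg hi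
  have hD0 : ∀ i, (D0 i).map (c.ι.app j0).hom = T.D i := fun i => by
    by_cases hi : i ∈ S
    · have : D0 i = Y (⟨i, hi⟩, true) := dif_pos hi
      rw [this, hY]
      rfl
    · rw [hD0z i hi, (hT i (hS i hi)).1]
      ext k l
      simp
  have hp0 : ∀ i, (p0 i).map (c.ι.app j0).hom = T.p i := fun i => by
    by_cases hi : i ∈ S
    · have : p0 i = Y (⟨i, hi⟩, false) := dif_pos hi
      rw [this, hY]
      rfl
    · rw [hp0z i hi, (hT i (hS i hi)).2]
      ext k l
      simp
  -- step 2: the relations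
  obtain ⟨j1, u, hu⟩ := exists_eq_matrices F c hc N j0 (T := S ⊕ (S ⊕ S))
    (Sum.elim (fun i => D0 (i + 1) * D0 i) (Sum.elim (fun i => p0 i * p0 i)
      (fun i => D0 i * p0 i)))
    (Sum.elim (fun _ => 0) (Sum.elim (fun i => p0 i) (fun i => p0 (i + 1) * D0 i)))
    (by
      rintro (i | i | i)
      · show (D0 (i + 1) * D0 i).map (c.ι.app j0).hom = (0 : Matrix _ _ _).map (c.ι.app j0).hom
        rw [Matrix.map_mul, hD0, hD0, T.hD]
        ext k l
        simp
      · show (p0 i * p0 i).map (c.ι.app j0).hom = (p0 i).map (c.ι.app j0).hom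
        rw [Matrix.map_mul, hp0, T.hp]
      · show (D0 i * p0 i).map (c.ι.app j0).hom = (p0 (i + 1) * D0 i).map (c.ι.app j0).hom
        rw [Matrix.map_mul, Matrix.map_mul, hD0, hp0, hp0, T.hDp])
  have hzero : ∀ ψ : (F.obj j0 : Type u) →+* (F.obj j1 : Type u),
      (0 : Matrix (Fin N) (Fin N) (F.obj j0)).map ψ = 0 := fun ψ => by
    ext k l
    simp
  let Tj : MatData (F.obj j1) N :=
    { D := fun i => (D0 i).map (F.map u).hom
      p := fun i => (p0 i).map (F.map u).hom
      hD := fun i => by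
        by_cases hi : i ∈ S
        · have := hu (Sum.inl ⟨i, hi⟩)
          simp only [Sum.elim_inl] at this
          rw [← Matrix.map_mul, this, hzero]
        · rw [hD0z i hi, hzero, mul_zero]
      hp := fun i => by
        by_cases hi : i ∈ S
        · have := hu (Sum.inr (Sum.inl ⟨i, hi⟩))
          simp only [Sum.elim_inl, Sum.elim_inr] at this
          rw [← Matrix.map_mul, this]
        · rw [hp0z i hi, hzero, mul_zero]
      hDp := fun i => by
        by_cases hi : i ∈ S
        · have := hu (Sum.inr (Sum.inr ⟨i, hi⟩))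
          simp only [Sum.elim_inr] at this
          rw [← Matrix.map_mul, ← Matrix.map_mul, this]
        · rw [hD0z i hi, hzero, zero_mul, mul_zero] }
  have hcomp : (c.ι.app j1).hom.comp (F.map u).hom = (c.ι.app j0).hom := by
    rw [← CommRingCat.hom_comp, c.w u]
  refine ⟨j1, Tj, ?_, fun i hi => ?_⟩
  · apply MatData.ext
    · funext i
      show ((D0 i).map (F.map u).hom).map (c.ι.app j1).hom = T.D i
      rw [Matrix.map_map, ← hD0 i, ← hcomp]
      rfl
    · funext i
      show ((p0 i).map (F.map u).hom).map (c.ι.app j1).hom = T.p i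
      rw [Matrix.map_map, ← hp0 i, ← hcomp]
      rfl
  · show (p0 i).map (F.map u).hom = 0
    rw [hp0z i (hS' i hi), hzero]

end Descent

section Main

/-- retracts with conjugate idempotents are isomorphic. -/
theorem nonempty_iso_of_retracts {C : Type*} [Category C] {X X' Y Y' : C} (θ : X ≅ X')
    (π : X ⟶ X) (π' : X' ⟶ X') (hθ : π ≫ θ.hom = θ.hom ≫ π')
    (i : Y ⟶ X) (r : X ⟶ Y) (hir : i ≫ r = 𝟙 Y) (hri : r ≫ i = π)
    (i' : Y' ⟶ X') (r' : X' ⟶ Y') (hir' : i' ≫ r' = 𝟙 Y') (hri' : r' ≫ i' = π') :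
    Nonempty (Y ≅ Y') := by
  have hθ' : θ.inv ≫ π = π' ≫ θ.inv := by
    rw [← cancel_mono θ.hom, Category.assoc, hθ, Iso.inv_hom_id_assoc, Category.assoc,
      Iso.inv_hom_id, Category.comp_id]
  refine ⟨⟨i ≫ θ.hom ≫ r', i' ≫ θ.inv ≫ r, ?_, ?_⟩⟩
  · calc (i ≫ θ.hom ≫ r') ≫ i' ≫ θ.inv ≫ r
        = i ≫ θ.hom ≫ (r' ≫ i') ≫ θ.inv ≫ r := by simp only [Category.assoc]
      _ = i ≫ (θ.hom ≫ π') ≫ θ.inv ≫ r := by rw [hri']; simp only [Category.assoc]
      _ = i ≫ (r ≫ i) ≫ r := by rw [← hθ, hri]; simp only [Category.assoc, Iso.hom_inv_id_assoc]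
      _ = (i ≫ r) ≫ i ≫ r := by simp only [Category.assoc]
      _ = 𝟙 Y := by rw [hir, Category.id_comp]
  · calc (i' ≫ θ.inv ≫ r) ≫ i ≫ θ.hom ≫ r'
        = i' ≫ θ.inv ≫ (r ≫ i) ≫ θ.hom ≫ r' := by simp only [Category.assoc]
      _ = i' ≫ (θ.inv ≫ π) ≫ θ.hom ≫ r' := by rw [hri]; simp only [Category.assoc]
      _ = i' ≫ (r' ≫ i') ≫ r' := by
          rw [hθ', hri']; simp only [Category.assoc, Iso.inv_hom_id_assoc]
      _ = (i' ≫ r') ≫ i' ≫ r' := by simp only [Category.assoc]
      _ = 𝟙 Y' := by rw [hir', Category.id_comp]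

variable {J : Type u} [SmallCategory J] [IsFiltered J] (F : J ⥤ CommRingCat.{u}) (c : Cocone F)
  (hc : IsColimit c)

include hc

/-- perfect complexes descend along filtered colimits of rings. -/
theorem exists_perfect_descent [∀ j : J, DRing.HasLBaseChange (c.ι.app j).hom]
    (K : Dual.D c.pt) (hK : DRing.IsPerfect c.pt K) :
    ∃ (j : J) (Kj : Dual.D (F.obj j)), DRing.IsPerfect (F.obj j) Kj ∧
      Nonempty ((DRing.LBaseChange (c.ι.app j).hom).obj Kj ≅ K) := by
  obtain ⟨E, a, b, hE, hEp, ⟨eK⟩⟩ := hK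
  obtain ⟨N, T, iE, rE, h1, h2, hT⟩ := exists_matData E a b hE hEp
  obtain ⟨j, Tj, rfl, hpj⟩ := exists_descent F c hc N T a b hT
  -- split the idempotent over `F.obj j`
  obtain ⟨Y, iY, rY, hY1, hY2⟩ := IsIdempotentComplete.idempotents_split _ Tj.π Tj.π_idem
  have hY1f : ∀ k : ℤ, iY.f k ≫ rY.f k = 𝟙 (Y.X k) := fun k => by
    rw [← HomologicalComplex.comp_f, hY1, HomologicalComplex.id_f]
  have hY2f : ∀ k : ℤ, rY.f k ≫ iY.f k = mat N (Tj.p k) := fun k => by
    rw [← HomologicalComplex.comp_f, hY2]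
    rfl
  have hYz : DRing.VanishesOutside Y a b := fun k hk => by
    rw [IsZero.iff_id_eq_zero]
    have hz : rY.f k ≫ iY.f k = 0 := (hY2f k).trans (by rw [hpj k hk, mat_zero]; rfl)
    calc 𝟙 (Y.X k) = (iY.f k ≫ rY.f k) ≫ iY.f k ≫ rY.f k := by
          rw [hY1f, Category.id_comp]
      _ = iY.f k ≫ (rY.f k ≫ iY.f k) ≫ rY.f k := by simp only [Category.assoc]
      _ = 0 := by rw [hz, zero_comp, comp_zero]
  have hYp : DRing.TermwiseFiniteProjective Y := fun k => by
    have hs : (rY.f k).hom ∘ₗ (iY.f k).hom = LinearMap.id := by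
      have := congrArg ModuleCat.Hom.hom (hY1f k)
      exact this
    have hsurj : Function.Surjective (rY.f k).hom := fun y =>
      ⟨(iY.f k).hom y, LinearMap.congr_fun hs y⟩
    haveI : Module.Finite (F.obj j) (Tj.cx.X k) :=
      (inferInstance : Module.Finite (F.obj j) (Fin N → F.obj j))
    haveI : Module.Projective (F.obj j) (Tj.cx.X k) :=
      (inferInstance : Module.Projective (F.obj j) (Fin N → F.obj j))
    exact ⟨Module.Finite.of_surjective (rY.f k).hom hsurj,
      Module.Projective.of_split (iY.f k).hom (rY.f k).hom hs⟩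
  haveI : Y.IsKProjective :=
    Groth.Agent.Lib.Helper1.LDer.isKProjective_of_vanishesAbove Y b
      (fun k hk => hYz k (Or.inr hk)) (fun k => (hYp k).2)
  -- the base change of `Y` is `E`
  obtain ⟨e⟩ := nonempty_iso_of_retracts (Tj.bcIso (c.ι.app j).hom)
    ((Bf (c.ι.app j).hom).map Tj.π) (Tj.map (c.ι.app j).hom).π (Tj.bcIso_π (c.ι.app j).hom)
    ((Bf (c.ι.app j).hom).map iY) ((Bf (c.ι.app j).hom).map rY)
    (by rw [← CategoryTheory.Functor.map_comp, hY1, CategoryTheory.Functor.map_id])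
    (by rw [← CategoryTheory.Functor.map_comp, hY2])
    iE rE h1 h2
  refine ⟨j, DRing.toD Y, ⟨Y, a, b, hYz, hYp, ⟨Iso.refl _⟩⟩, ⟨?_⟩⟩
  exact Groth.Agent.Lib.Helper1.LDer.lbcIso (c.ι.app j).hom Y ≪≫
    DerivedCategory.Q.mapIso e ≪≫ eK

end Main

end Groth.Agent.R2.H52.PerfDesc
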