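import Mathlib
import Groth.Agent.R2.H52RepLiftG2
import Groth.Agent.R2.H52RepLift3
import Groth.Agent.Lib.Helper29ExtLift
import Groth.Prelude.Def_DDual2

/-!
# helper52: S6970, lifting representatives from a given contractible lift of the cone
(copy of `H52RepLift3` ... `H52RepLift6` without boundedness hypotheses)
-/

set_option autoImplicit false
universe u

namespace Groth.Agent.R2.H52.RepLiftG

open CategoryTheory CategoryTheory.Limits TensorProduct Pretriangulated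
open scoped ChangeOfRings
open Groth.Agent.R2.H52.AcycLift Groth.Agent.R2.H52.LiftQis Groth.Agent.R2.H52.RepLift

attribute [local instance] HasDerivedCategory.standard

section Str

variable {R : Type u} [CommRing R] (I : Ideal R) (Pc : ObjectProperty (ModuleCat.{u} R))

/-- the situation of S7013 without bounds, with a given contractible lift of the cone -/
structure GSetup extends CSetup I where
  h1 : ∀ X : ModuleCat.{u} R, Pc X → Module.Projective R X
  h2 : ∀ X Y : ModuleCat.{u} R, Pc X → (Pc (ModuleCat.of R (X × Y)) ↔ Pc Y)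
  h3 : ∀ (X Y : ModuleCat.{u} R) (f : X ⟶ Y), Pc X → Pc Y →
      LinearMap.range f.hom ⊔ I • (⊤ : Submodule R Y) = ⊤ → Function.Surjective f.hom
  hQ : ∀ i : ℤ, Pc (Qc.X i)
  C' : CochainComplex (ModuleCat.{u} R) ℤ
  hC' : Homotopy (𝟙 C') 0
  C'_pc : ∀ i : ℤ, Pc (C'.X i)
  eC : (B I).obj C' ≅ toCSetup.C

end Str

section Lift

variable {R : Type u} [CommRing R] {I : Ideal R} {Pc : ObjectProperty (ModuleCat.{u} R)}
  [Pc.IsClosedUnderIsomorphisms] (T : GSetup I Pc)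

/-- the inclusion of the reduction of `Qc` in the cone -/
noncomputable def GSetup.ιF : T.F ⟶ T.C where
  f n := ModuleCat.ofHom (X := T.F.X n) (Y := ModuleCat.of (R ⧸ I) (T.E.X (n + 1) × T.F.X n))
    (LinearMap.inr (R ⧸ I) (T.E.X (n + 1)) (T.F.X n))
  comm' i j hij := by
    have hij' : i + 1 = j := hij
    subst hij'
    rw [CSetup.C_d]
    ext y
    show (T.Cd i).hom ((0, y) : T.E.X (i + 1) × T.F.X i) =
      ((0, (T.F.d i (i + 1)).hom y) : T.E.X (i + 1 + 1) × T.F.X (i + 1))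
    rw [CSetup.Cd_apply]
    refine Prod.ext ?_ ?_
    · show -(T.E.d (i + 1) (i + 1 + 1)).hom 0 = 0
      rw [map_zero, neg_zero]
    · show (T.α.f (i + 1)).hom 0 + (T.F.d i (i + 1)).hom y = (T.F.d i (i + 1)).hom y
      rw [map_zero, zero_add]

/-- the projection of the terms of the cone to the reduction of `Qc` -/
noncomputable def GSetup.p₂ (n : ℤ) : T.C.X n ⟶ T.F.X n :=
  ModuleCat.ofHom (X := ModuleCat.of (R ⧸ I) (T.E.X (n + 1) × T.F.X n)) (Y := T.F.X n)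
    (LinearMap.snd (R ⧸ I) (T.E.X (n + 1)) (T.F.X n))

omit [Pc.IsClosedUnderIsomorphisms] in
theorem GSetup.ιF_p₂ (n : ℤ) : T.ιF.f n ≫ T.p₂ n = 𝟙 _ := by
  ext y
  rfl

theorem GSetup.exists_g₀ (n : ℤ) :
    ∃ g₀ : T.Qc.X n ⟶ T.C'.X n, (G I).map g₀ = T.ιF.f n ≫ T.eC.inv.f n := by
  haveI := T.h1 _ (T.hQ n)
  exact Groth.Agent.Lib.Helper29ExtLift.exists_map_eq I (T.Qc.X n) (T.C'.X n)
    (T.ιF.f n ≫ T.eC.inv.f n)

theorem GSetup.exists_r₀ (n : ℤ) :
    ∃ r₀ : T.C'.X n ⟶ T.Qc.X n, (G I).map r₀ = T.eC.hom.f n ≫ T.p₂ n := by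
  haveI := T.h1 _ (T.C'_pc n)
  exact Groth.Agent.Lib.Helper29ExtLift.exists_map_eq I (T.C'.X n) (T.Qc.X n)
    (T.eC.hom.f n ≫ T.p₂ n)

/-- termwise lifts of the inclusion -/
noncomputable def GSetup.g₀ (n : ℤ) : T.Qc.X n ⟶ T.C'.X n := Classical.choose (T.exists_g₀ n)

theorem GSetup.g₀_spec (n : ℤ) : (G I).map (T.g₀ n) = T.ιF.f n ≫ T.eC.inv.f n :=
  Classical.choose_spec (T.exists_g₀ n)

/-- termwise lifts of the projection -/
noncomputable def GSetup.r₀ (n : ℤ) : T.C'.X n ⟶ T.Qc.X n := Classical.choose (T.exists_r₀ n)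

theorem GSetup.r₀_spec (n : ℤ) : (G I).map (T.r₀ n) = T.eC.hom.f n ≫ T.p₂ n :=
  Classical.choose_spec (T.exists_r₀ n)

/-- the lifted chain map -/
noncomputable def GSetup.g : T.Qc ⟶ T.C' :=
  Homotopy.nullHomotopicMap (fun i j => T.g₀ i ≫ T.hC'.hom i j)

/-- the contraction of the cone induced by the contraction of the lifted cone -/
noncomputable def GSetup.hC : Homotopy (𝟙 T.C) 0 :=
  (Homotopy.ofEq (by
      show 𝟙 T.C = T.eC.inv ≫ (B I).map (𝟙 T.C') ≫ T.eC.hom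
      rw [CategoryTheory.Functor.map_id, Category.id_comp, Iso.inv_hom_id])).trans
    ((((G I).mapHomotopy T.hC').compRight T.eC.hom).compLeft T.eC.inv |>.trans
      (Homotopy.ofEq (by
        show T.eC.inv ≫ (B I).map (0 : T.C' ⟶ T.C') ≫ T.eC.hom = 0
        rw [Functor.map_zero, zero_comp, comp_zero])))

theorem GSetup.hC_hom (i j : ℤ) :
    T.hC.hom i j = T.eC.inv.f i ≫ (G I).map (T.hC'.hom i j) ≫ T.eC.hom.f j := by
  simp [GSetup.hC, Homotopy.trans, Homotopy.ofEq, Homotopy.compLeft, Homotopy.compRight,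
    Functor.mapHomotopy]
  rfl

theorem GSetup.nullHomotopicMap_hC : Homotopy.nullHomotopicMap T.hC.hom = 𝟙 T.C := by
  ext n : 1
  have h := T.hC.comm n
  simp only [HomologicalComplex.zero_f, add_zero] at h
  rw [h]
  rfl

theorem GSetup.map_g_eC : (B I).map T.g ≫ T.eC.hom = T.ιF := by
  rw [GSetup.g, Homotopy.map_nullHomotopicMap, Homotopy.nullHomotopicMap_comp]
  have h1 : (fun i j => (G I).map (T.g₀ i ≫ T.hC'.hom i j) ≫ T.eC.hom.f j) =
      fun i j => T.ιF.f i ≫ T.hC.hom i j := by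
    funext i j
    rw [Functor.map_comp, T.g₀_spec, T.hC_hom]
    simp only [Category.assoc]
    rfl
  refine (congrArg Homotopy.nullHomotopicMap h1).trans ?_
  rw [← Homotopy.comp_nullHomotopicMap, T.nullHomotopicMap_hC, Category.comp_id]

theorem GSetup.map_g_eC_f (n : ℤ) : (G I).map (T.g.f n) ≫ T.eC.hom.f n = T.ιF.f n := by
  have h := congrArg (fun φ => φ.f n) T.map_g_eC
  exact h

/-- `r₀ ∘ g` is the identity modulo `I` -/
theorem GSetup.map_g_r₀ (n : ℤ) : (G I).map (T.g.f n ≫ T.r₀ n) = 𝟙 _ := by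
  rw [Functor.map_comp, T.r₀_spec]
  refine (Category.assoc _ _ _).symm.trans ?_
  refine (congrArg (fun φ => φ ≫ T.p₂ n) (T.map_g_eC_f n)).trans ?_
  exact T.ιF_p₂ n


/-- `r₀ ∘ g`, termwise -/
noncomputable def GSetup.t (n : ℤ) : T.Qc.X n →ₗ[R] T.Qc.X n := (T.r₀ n).hom ∘ₗ (T.g.f n).hom

theorem GSetup.red_t (n : ℤ) (x : T.Qc.X n) : red I _ (T.t n x) = red I _ x := by
  have h := T.map_g_r₀ n
  have h2 := congrArg (fun φ => φ.hom (red I _ x)) h
  exact h2

theorem GSetup.t_sub_mem (n : ℤ) (x : T.Qc.X n) :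
    T.t n x - x ∈ I • (⊤ : Submodule R (T.Qc.X n)) := by
  apply mem_of_red_eq_zero
  rw [red_sub, T.red_t, sub_self]

theorem GSetup.t_bijective (n : ℤ) : Function.Bijective (T.t n) :=
  bijective_of_congr_id I Pc T.h1 (fun X Y hX h => (T.h2 X Y hX).1 h) T.h3 (T.Qc.X n) (T.hQ n)
    (T.t n) (T.t_sub_mem n)

/-- `t` as an equivalence -/
noncomputable def GSetup.te (n : ℤ) : T.Qc.X n ≃ₗ[R] T.Qc.X n :=
  LinearEquiv.ofBijective (T.t n) (T.t_bijective n)

/-- the corrected retraction of `g` -/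
noncomputable def GSetup.ρ (n : ℤ) : T.C'.X n →ₗ[R] T.Qc.X n :=
  (T.te n).symm.toLinearMap ∘ₗ (T.r₀ n).hom

theorem GSetup.ρ_g (n : ℤ) (x : T.Qc.X n) : T.ρ n ((T.g.f n).hom x) = x :=
  (T.te n).symm_apply_apply x

/-- the projector onto the kernel of `ρ` -/
noncomputable def GSetup.π (n : ℤ) : T.C'.X n →ₗ[R] T.C'.X n :=
  LinearMap.id - (T.g.f n).hom ∘ₗ T.ρ n

theorem GSetup.π_apply (n : ℤ) (c : T.C'.X n) : T.π n c = c - (T.g.f n).hom (T.ρ n c) := rfl

theorem GSetup.ρ_π (n : ℤ) (c : T.C'.X n) : T.ρ n (T.π n c) = 0 := by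
  rw [T.π_apply, map_sub, T.ρ_g, sub_self]

theorem GSetup.π_g (n : ℤ) (x : T.Qc.X n) : T.π n ((T.g.f n).hom x) = 0 := by
  rw [T.π_apply, T.ρ_g, sub_self]

theorem GSetup.π_of_mem (n : ℤ) (c : T.C'.X n) (h : T.ρ n c = 0) : T.π n c = c := by
  rw [T.π_apply, h, map_zero, sub_zero]

/-- the terms of the complement -/
noncomputable def GSetup.WX (n : ℤ) : ModuleCat.{u} R := ModuleCat.of R (LinearMap.ker (T.ρ n))

/-- the projection onto the complement -/
noncomputable def GSetup.πW (n : ℤ) : T.C'.X n →ₗ[R] LinearMap.ker (T.ρ n) :=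
  LinearMap.codRestrict _ (T.π n) (fun c => T.ρ_π n c)

theorem GSetup.πW_coe (n : ℤ) (c : T.C'.X n) : ((T.πW n c : LinearMap.ker (T.ρ n)) : T.C'.X n) =
    T.π n c := rfl

theorem GSetup.πW_of_mem (n : ℤ) (w : LinearMap.ker (T.ρ n)) : T.πW n (w : T.C'.X n) = w :=
  Subtype.ext (T.π_of_mem n _ w.2)

/-- the differential of the complement -/
noncomputable def GSetup.Wd (n : ℤ) : T.WX n ⟶ T.WX (n + 1) :=
  ModuleCat.ofHom (X := ModuleCat.of R (LinearMap.ker (T.ρ n)))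
    (Y := ModuleCat.of R (LinearMap.ker (T.ρ (n + 1))))
    (T.πW (n + 1) ∘ₗ (T.C'.d n (n + 1)).hom ∘ₗ (LinearMap.ker (T.ρ n)).subtype)

theorem GSetup.Wd_apply (n : ℤ) (w : LinearMap.ker (T.ρ n)) :
    (T.Wd n).hom w = T.πW (n + 1) ((T.C'.d n (n + 1)).hom (w : T.C'.X n)) := rfl

theorem GSetup.g_comm_apply (i j : ℤ) (x : T.Qc.X i) :
    (T.C'.d i j).hom ((T.g.f i).hom x) = (T.g.f j).hom ((T.Qc.d i j).hom x) := by
  have h := congrArg (fun φ => φ.hom x) (T.g.comm i j)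
  exact h

theorem GSetup.C'_d_d_apply (i j k : ℤ) (c : T.C'.X i) :
    (T.C'.d j k).hom ((T.C'.d i j).hom c) = 0 := by
  show ((T.C'.d i j ≫ T.C'.d j k).hom) c = 0
  rw [T.C'.d_comp_d]
  rfl

/-- `π ∘ d ∘ π = π ∘ d` -/
theorem GSetup.π_d_π (n : ℤ) (c : T.C'.X n) :
    T.π (n + 1) ((T.C'.d n (n + 1)).hom (T.π n c)) = T.π (n + 1) ((T.C'.d n (n + 1)).hom c) := by
  rw [T.π_apply n, map_sub, map_sub, T.g_comm_apply, T.π_g, sub_zero]

/-- the complement of `g : Qc ⟶ C'` -/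
noncomputable def GSetup.W : CochainComplex (ModuleCat.{u} R) ℤ :=
  CochainComplex.of T.WX T.Wd (by
    intro n
    ext w
    change LinearMap.ker (T.ρ n) at w
    show (T.Wd (n + 1)).hom ((T.Wd n).hom w) = 0
    rw [T.Wd_apply, T.Wd_apply]
    apply Subtype.ext
    rw [T.πW_coe, T.πW_coe, T.π_d_π, T.C'_d_d_apply, map_zero]
    rfl)

theorem GSetup.W_d (n : ℤ) : T.W.d n (n + 1) = T.Wd n := CochainComplex.of_d _ _ n

/-- the projection `C' ⟶ W` -/
noncomputable def GSetup.πWc : T.C' ⟶ T.W where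
  f n := ModuleCat.ofHom (X := T.C'.X n) (Y := ModuleCat.of R (LinearMap.ker (T.ρ n))) (T.πW n)
  comm' i j hij := by
    have hij' : i + 1 = j := hij
    subst hij'
    rw [T.W_d]
    ext c
    show (T.Wd i).hom (T.πW i c) = T.πW (i + 1) ((T.C'.d i (i + 1)).hom c)
    rw [T.Wd_apply]
    apply Subtype.ext
    rw [T.πW_coe, T.πW_coe, T.πW_coe, T.π_d_π]

theorem GSetup.πWc_f_apply (n : ℤ) (c : T.C'.X n) : (T.πWc.f n).hom c = T.πW n c := rfl

theorem GSetup.g_πWc : T.g ≫ T.πWc = 0 := by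
  ext n x
  show T.πW n ((T.g.f n).hom x) = 0
  apply Subtype.ext
  rw [T.πW_coe, T.π_g]
  rfl

/-- the short complex `Qc ⟶ C' ⟶ W` -/
noncomputable def GSetup.S : ShortComplex (CochainComplex (ModuleCat.{u} R) ℤ) :=
  ShortComplex.mk T.g T.πWc T.g_πWc

/-- the splittings -/
noncomputable def GSetup.σ (n : ℤ) :
    (T.S.map (HomologicalComplex.eval (ModuleCat.{u} R) (ComplexShape.up ℤ) n)).Splitting where
  r := ModuleCat.ofHom (T.ρ n)
  s := ModuleCat.ofHom (X := ModuleCat.of R (LinearMap.ker (T.ρ n))) (Y := T.C'.X n)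
    (LinearMap.ker (T.ρ n)).subtype
  f_r := by
    ext x
    exact T.ρ_g n x
  s_g := by
    ext w
    exact T.πW_of_mem n w
  id := by
    ext c
    show (T.g.f n).hom (T.ρ n c) + ((T.πW n c : LinearMap.ker (T.ρ n)) : T.C'.X n) = c
    rw [T.πW_coe, T.π_apply]
    exact add_sub_cancel _ _

/-- the terms of `W` are in the class -/
theorem GSetup.W_pc (n : ℤ) : Pc (T.W.X n) := by
  have e : T.C'.X n ≃ₗ[R] T.Qc.X n × LinearMap.ker (T.ρ n) :=
    { toFun := fun c => (T.ρ n c, T.πW n c)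
      map_add' := fun x y => by simp
      map_smul' := fun r x => by simp
      invFun := fun p => (T.g.f n).hom p.1 + (p.2 : T.C'.X n)
      left_inv := fun c => by
        show (T.g.f n).hom (T.ρ n c) + ((T.πW n c : LinearMap.ker (T.ρ n)) : T.C'.X n) = c
        rw [T.πW_coe, T.π_apply]
        exact add_sub_cancel _ _
      right_inv := fun p => by
        obtain ⟨q, k⟩ := p
        have hk : T.ρ n (k : T.C'.X n) = 0 := k.2
        refine Prod.ext ?_ ?_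
        · show T.ρ n ((T.g.f n).hom q + (k : T.C'.X n)) = q
          rw [map_add, T.ρ_g, hk, add_zero]
        · show T.πW n ((T.g.f n).hom q + (k : T.C'.X n)) = k
          apply Subtype.ext
          rw [T.πW_coe, map_add, T.π_g, zero_add, T.π_of_mem n _ hk] }
  have h1 : Pc (ModuleCat.of R (T.Qc.X n × LinearMap.ker (T.ρ n))) :=
    Pc.prop_of_iso (e.toModuleIso) (T.C'_pc n)
  exact (T.h2 (T.Qc.X n) (ModuleCat.of R (LinearMap.ker (T.ρ n))) (T.hQ n)).1 h1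


/-- the reduction map of the lifted cone onto the cone -/
noncomputable def GSetup.κ (n : ℤ) (c : T.C'.X n) : T.E.X (n + 1) × T.F.X n :=
  (T.eC.hom.f n).hom (red I (T.C'.X n) c)

theorem GSetup.κ_add (n : ℤ) (c c' : T.C'.X n) : T.κ n (c + c') = T.κ n c + T.κ n c' := by
  unfold GSetup.κ
  rw [red_add]
  exact map_add (T.eC.hom.f n).hom _ _

theorem GSetup.κ_zero (n : ℤ) : T.κ n 0 = 0 := by
  unfold GSetup.κ
  rw [red_zero]
  exact map_zero (T.eC.hom.f n).hom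

theorem GSetup.κ_sub (n : ℤ) (c c' : T.C'.X n) : T.κ n (c - c') = T.κ n c - T.κ n c' := by
  unfold GSetup.κ
  rw [red_sub]
  exact map_sub (T.eC.hom.f n).hom _ _

theorem GSetup.κ_smul (n : ℤ) (r : R) (c : T.C'.X n) :
    T.κ n (r • c) = (Ideal.Quotient.mk I r) • T.κ n c := by
  unfold GSetup.κ
  rw [red_smul]
  exact map_smul (T.eC.hom.f n).hom _ _

theorem GSetup.κ_surjective (n : ℤ) : Function.Surjective (T.κ n) := by
  intro p
  have hbij : Function.Bijective (T.eC.hom.f n).hom := by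
    have : IsIso (T.eC.hom.f n) := inferInstance
    exact (ConcreteCategory.isIso_iff_bijective (T.eC.hom.f n)).1 this
  obtain ⟨z, hz⟩ := hbij.2 p
  obtain ⟨c, hc⟩ := red_surjective I (T.C'.X n) z
  exact ⟨c, by unfold GSetup.κ; rw [hc]; exact hz⟩

theorem GSetup.mem_of_κ_eq_zero (n : ℤ) (c : T.C'.X n) (h : T.κ n c = 0) :
    c ∈ I • (⊤ : Submodule R (T.C'.X n)) := by
  have hbij : Function.Bijective (T.eC.hom.f n).hom := by
    have : IsIso (T.eC.hom.f n) := inferInstance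
    exact (ConcreteCategory.isIso_iff_bijective (T.eC.hom.f n)).1 this
  apply mem_of_red_eq_zero
  apply hbij.1
  exact h.trans (map_zero (T.eC.hom.f n).hom).symm

theorem GSetup.κ_g (n : ℤ) (x : T.Qc.X n) :
    T.κ n ((T.g.f n).hom x) = ((0, red I _ x) : T.E.X (n + 1) × T.F.X n) := by
  have h := congrArg (fun φ => φ.hom (red I _ x)) (T.map_g_eC_f n)
  exact h

theorem GSetup.κ_d (n : ℤ) (c : T.C'.X n) :
    T.κ (n + 1) ((T.C'.d n (n + 1)).hom c) = (T.Cd n).hom (T.κ n c) := by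
  have h := congrArg (fun φ => φ.hom (red I _ c)) (T.eC.hom.comm n (n + 1))
  rw [T.C_d] at h
  exact h.symm

/-- the reduction map of the complement onto `E⟦1⟧`, termwise -/
noncomputable def GSetup.uW (n : ℤ) : LinearMap.ker (T.ρ n) →+ T.E.X (n + 1) where
  toFun w := (T.κ n (w : T.C'.X n)).1
  map_zero' := by
    show (T.κ n 0).1 = 0
    rw [T.κ_zero]
    rfl
  map_add' w w' := by
    show (T.κ n ((w : T.C'.X n) + (w' : T.C'.X n))).1 = _
    rw [T.κ_add]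
    rfl

theorem GSetup.uW_apply (n : ℤ) (w : LinearMap.ker (T.ρ n)) :
    T.uW n w = (T.κ n (w : T.C'.X n)).1 := rfl

theorem GSetup.uW_smul (n : ℤ) (r : R) (w : LinearMap.ker (T.ρ n)) :
    T.uW n (r • w) = (Ideal.Quotient.mk I r) • T.uW n w := by
  show (T.κ n (r • (w : T.C'.X n))).1 = _
  rw [T.κ_smul]
  rfl

theorem GSetup.uW_πW (n : ℤ) (c : T.C'.X n) : T.uW n (T.πW n c) = (T.κ n c).1 := by
  rw [T.uW_apply, T.πW_coe, T.π_apply, T.κ_sub, T.κ_g]
  show (T.κ n c).1 - 0 = _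
  rw [sub_zero]

theorem GSetup.uW_surjective (n : ℤ) : Function.Surjective (T.uW n) := by
  intro e
  obtain ⟨c, hc⟩ := T.κ_surjective n ((e, 0) : T.E.X (n + 1) × T.F.X n)
  refine ⟨T.πW n c, ?_⟩
  rw [T.uW_πW, hc]

theorem GSetup.mem_of_uW_eq_zero (n : ℤ) (w : LinearMap.ker (T.ρ n)) (h : T.uW n w = 0) :
    w ∈ I • (⊤ : Submodule R (LinearMap.ker (T.ρ n))) := by
  obtain ⟨x, hx⟩ := red_surjective I (T.Qc.X n) (T.κ n (w : T.C'.X n)).2
  have h0 : T.κ n ((w : T.C'.X n) - (T.g.f n).hom x) = 0 := by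
    rw [T.κ_sub, T.κ_g, hx]
    refine Prod.ext ?_ ?_
    · show (T.κ n (w : T.C'.X n)).1 - 0 = 0
      rw [sub_zero]
      exact h
    · show (T.κ n (w : T.C'.X n)).2 - (T.κ n (w : T.C'.X n)).2 = 0
      rw [sub_self]
  have h1 := T.mem_of_κ_eq_zero n _ h0
  have h2 := map_mem_smul_top I (T.πW n) _ h1
  have h3 : T.πW n ((w : T.C'.X n) - (T.g.f n).hom x) = w := by
    apply Subtype.ext
    rw [T.πW_coe, map_sub, T.π_g, sub_zero, T.π_of_mem n _ w.2]
  rw [h3] at h2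
  exact h2

theorem GSetup.uW_d (n : ℤ) (w : LinearMap.ker (T.ρ n)) :
    T.uW (n + 1) ((T.Wd n).hom w) = -(T.E.d (n + 1) (n + 1 + 1)).hom (T.uW n w) := by
  rw [T.Wd_apply, T.uW_πW, T.κ_d, T.uW_apply]
  rfl

theorem GSetup.exists_eW (n : ℤ) :
    ∃ e : (G I).obj (T.W.X n) ≅ T.E.X (n + 1),
      ∀ w : LinearMap.ker (T.ρ n), e.hom.hom (red I (T.W.X n) w) = T.uW n w := by
  obtain ⟨e, he⟩ := exists_iso_of_red_gen (Ideal.Quotient.mk I) Ideal.Quotient.mk_surjective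
    (T.W.X n) (T.E.X (n + 1)) (T.uW n) (T.uW_smul n) (T.uW_surjective n)
    (fun w hw => by
      rw [Ideal.mk_ker]
      exact T.mem_of_uW_eq_zero n w hw)
  exact ⟨e, he⟩

/-- the termwise isomorphisms of the reduction of `W` with `E⟦1⟧` -/
noncomputable def GSetup.eWX (n : ℤ) : (G I).obj (T.W.X n) ≅ T.E.X (n + 1) :=
  Classical.choose (T.exists_eW n)

theorem GSetup.eWX_red (n : ℤ) (w : LinearMap.ker (T.ρ n)) :
    (T.eWX n).hom.hom (red I (T.W.X n) w) = T.uW n w :=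
  Classical.choose_spec (T.exists_eW n) w

/-- the reduction of `W` is `E⟦1⟧` -/
noncomputable def GSetup.eW : (B I).obj T.W ≅ T.E⟦(1 : ℤ)⟧ :=
  HomologicalComplex.Hom.isoOfComponents (fun n => T.eWX n) (by
    intro i j hij
    have hij' : i + 1 = j := hij
    subst hij'
    apply hom_ext_red
    intro w
    change LinearMap.ker (T.ρ i) at w
    have hL : ((T.eWX i).hom ≫ (T.E⟦(1 : ℤ)⟧).d i (i + 1)).hom (red I (T.W.X i) w) =
        -(T.E.d (i + 1) (i + 1 + 1)).hom (T.uW i w) := by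
      show ((T.E⟦(1 : ℤ)⟧).d i (i + 1)).hom ((T.eWX i).hom.hom (red I (T.W.X i) w)) = _
      rw [T.eWX_red, CochainComplex.shiftFunctor_obj_d']
      simp
      rfl
    have hR : (((B I).obj T.W).d i (i + 1) ≫ (T.eWX (i + 1)).hom).hom (red I (T.W.X i) w) =
        T.uW (i + 1) ((T.Wd i).hom w) := by
      have hd : (T.W.d i (i + 1)).hom w = (T.Wd i).hom w := by rw [T.W_d]; rfl
      show (T.eWX (i + 1)).hom.hom (red I (T.W.X (i + 1)) ((T.W.d i (i + 1)).hom w)) = _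
      exact (T.eWX_red (i + 1) _).trans (congrArg (T.uW (i + 1)) hd)
    exact hL.trans ((T.uW_d i w).symm.trans hR.symm))


theorem GSetup.dist : CochainComplex.trianglehOfDegreewiseSplit T.S T.σ ∈
    distTriang (HomotopyCategory (ModuleCat.{u} R) (ComplexShape.up ℤ)) :=
  (HomotopyCategory.distinguished_iff_iso_trianglehOfDegreewiseSplit _).2
    ⟨T.S, T.σ, ⟨Iso.refl _⟩⟩

theorem GSetup.isZero_quot_C' :
    IsZero ((HomotopyCategory.quotient (ModuleCat.{u} R) (ComplexShape.up ℤ)).obj T.C') :=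
  (HomotopyCategory.isZero_quotient_obj_iff _).2 ⟨T.hC'⟩

theorem GSetup.isIso_mor₃ : IsIso (CochainComplex.trianglehOfDegreewiseSplit T.S T.σ).mor₃ :=
  (Triangle.isZero₂_iff_isIso₃ _ T.dist).1 T.isZero_quot_C'

/-- `W ≅ Qc⟦1⟧` in the derived category -/
noncomputable def GSetup.isoW1 :
    DerivedCategory.Q.obj T.W ≅ (DerivedCategory.Q.obj T.Qc)⟦(1 : ℤ)⟧ :=
  ((DerivedCategory.quotientCompQhIso (ModuleCat.{u} R)).app T.W).symm ≪≫
    DerivedCategory.Qh.mapIso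
      (@asIso _ _ _ _ (CochainComplex.trianglehOfDegreewiseSplit T.S T.σ).mor₃ T.isIso_mor₃) ≪≫
    (DerivedCategory.Qh.commShiftIso (1 : ℤ)).app _ ≪≫
    (CategoryTheory.shiftFunctor _ (1 : ℤ)).mapIso
      ((DerivedCategory.quotientCompQhIso (ModuleCat.{u} R)).app T.Qc)

/-- `W⟦-1⟧ ≅ Qc` in the derived category -/
noncomputable def GSetup.isoW :
    DerivedCategory.Q.obj (T.W⟦(-1 : ℤ)⟧) ≅ DerivedCategory.Q.obj T.Qc :=
  (DerivedCategory.Q.commShiftIso (-1 : ℤ)).app T.W ≪≫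
    (CategoryTheory.shiftFunctor _ (-1 : ℤ)).mapIso T.isoW1 ≪≫
    shiftShiftNeg (DerivedCategory.Q.obj T.Qc) (1 : ℤ)

/-- the reduction of `W⟦-1⟧` is `E` -/
noncomputable def GSetup.eP : (B I).obj (T.W⟦(-1 : ℤ)⟧) ≅ T.E :=
  ((G I).mapCochainComplexShiftIso (-1 : ℤ)).app T.W ≪≫
    (CategoryTheory.shiftFunctor _ (-1 : ℤ)).mapIso T.eW ≪≫
    shiftShiftNeg T.E (1 : ℤ)

theorem GSetup.P_pc (i : ℤ) : Pc ((T.W⟦(-1 : ℤ)⟧).X i) := T.W_pc (i + (-1))


end Lift

end Groth.Agent.R2.H52.RepLiftG
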