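import Mathlib

/-!
# helper52: Serre's criterion `M free ↔ the extension class generates Ext¹(I, A)`

Let `0 → X₁ → X₂ → X₃ → 0` be short exact.  If `Ext¹(X₁, Y) = 0`, the connecting map
`Hom(X₁, Y) → Ext¹(X₃, Y)` is onto iff `Ext¹(X₂, Y) = 0`.
-/

set_option autoImplicit false

namespace Groth.Agent.R2.H52.SerreExt

open CategoryTheory Abelian

universe w v u

section General

variable {C : Type u} [Category.{v} C] [Abelian C] [HasExt.{w} C]
  {S : ShortComplex C} (hS : S.ShortExact) (Y : C)

include hS in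
theorem connecting_surjective_iff (h1 : ∀ y : Ext S.X₁ Y 1, y = 0) :
    (∀ x : Ext S.X₃ Y 1, ∃ f : S.X₁ ⟶ Y, hS.extClass.comp (Ext.mk₀ f) (add_zero 1) = x) ↔
      ∀ y : Ext S.X₂ Y 1, y = 0 := by
  constructor
  · intro h y
    obtain ⟨x₁, hx₁⟩ := Ext.contravariant_sequence_exact₂ hS Y y (h1 _)
    obtain ⟨f, hf⟩ := h x₁
    rw [← hx₁, ← hf]
    exact hS.comp_extClass_assoc (Ext.mk₀ f) (add_zero 1)
  · intro h x
    obtain ⟨x₁, hx₁⟩ := Ext.contravariant_sequence_exact₃ hS Y x (h _) (add_zero 1)
    obtain ⟨f, rfl⟩ := (Ext.mk₀_bijective S.X₁ Y).2 x₁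
    exact ⟨f, hx₁⟩

end General

section Module

variable {A : Type u} [CommRing A]

/-- If `Ext¹(T.X₃, Y) = 0` with `Y ≃ A` and `T.X₁` finite free, the inclusion `T.f` has a
retraction. -/
theorem exists_retraction {T : ShortComplex (ModuleCat.{u} A)} (hT : T.ShortExact)
    [Module.Free A T.X₁] [Module.Finite A T.X₁] (Y : ModuleCat.{u} A) (e : Y ≃ₗ[A] A)
    (h : ∀ y : Ext T.X₃ Y 1, y = 0) : ∃ r : T.X₂ ⟶ T.X₁, T.f ≫ r = 𝟙 T.X₁ := by
  have key : ∀ c : T.X₁ ⟶ Y, ∃ c' : T.X₂ ⟶ Y, T.f ≫ c' = c := by
    intro c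
    obtain ⟨x₂, hx₂⟩ := Ext.contravariant_sequence_exact₁ hT Y (Ext.mk₀ c) (add_zero 1) (h _)
    obtain ⟨c', rfl⟩ := (Ext.mk₀_bijective T.X₂ Y).2 x₂
    refine ⟨c', ?_⟩
    rw [Ext.mk₀_comp_mk₀] at hx₂
    exact (Ext.mk₀_bijective T.X₁ Y).1 hx₂
  let b := Module.Free.chooseBasis A T.X₁
  choose c' hc' using fun i => key (ModuleCat.ofHom ((e.symm : A →ₗ[A] Y) ∘ₗ b.coord i))
  refine ⟨ModuleCat.ofHom (∑ i, (LinearMap.toSpanSingleton A T.X₁ (b i)) ∘ₗ
    (e : Y →ₗ[A] A) ∘ₗ (c' i).hom), ?_⟩
  ext k
  simp only [ModuleCat.hom_comp, ModuleCat.hom_ofHom, LinearMap.coe_comp, Function.comp_apply,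
    LinearMap.coe_sum, Finset.sum_apply, LinearMap.toSpanSingleton_apply, ModuleCat.hom_id,
    LinearMap.id_coe, id_eq]
  conv_rhs => rw [← b.sum_repr k]
  refine Finset.sum_congr rfl fun i _ => ?_
  congr 1
  have := congrArg (fun φ => φ.hom k) (hc' i)
  simp only [ModuleCat.hom_comp, ModuleCat.hom_ofHom, LinearMap.coe_comp, Function.comp_apply]
    at this
  rw [this]
  simp

/-- **Serre's criterion.** -/
theorem serre_free_iff (A : Type u) [CommRing A] [IsNoetherianRing A] [IsLocalRing A]
    (I : Ideal A)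
    (hres : ∃ (q : ℕ) (φ : (Fin q → A) →ₗ[A] ↥I), Function.Surjective φ ∧
      Module.Free A ↥(LinearMap.ker φ))
    (S : ShortComplex (ModuleCat.{u} A)) (hS : S.ShortExact)
    (h₁ : Nonempty (S.X₁ ≅ ModuleCat.of A A)) (h₃ : Nonempty (S.X₃ ≅ ModuleCat.of A ↥I)) :
    Module.Free A S.X₂ ↔
      ∀ x : Abelian.Ext S.X₃ S.X₁ 1, ∃ f : S.X₁ ⟶ S.X₁,
        hS.extClass.comp (Abelian.Ext.mk₀ f) (add_zero 1) = x := by
  obtain ⟨iso1⟩ := h₁
  obtain ⟨iso3⟩ := h₃
  obtain ⟨q, φ, hφ, hK⟩ := hres
  have hPA : Projective (ModuleCat.of A A) :=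
    (IsProjective.iff_projective (R := A) A).mp inferInstance
  have hP1 : Projective S.X₁ := Projective.of_iso iso1.symm hPA
  have h1 : ∀ y : Ext S.X₁ S.X₁ 1, y = 0 := fun y => Ext.eq_zero_of_projective y
  rw [connecting_surjective_iff hS S.X₁ h1]
  constructor
  · intro hfree y
    have hP2 : Projective S.X₂ :=
      (IsProjective.iff_projective (R := A) S.X₂).mp inferInstance
    exact Ext.eq_zero_of_projective y
  · intro hext
    -- the surjection `S.X₂ → I`
    let γ : S.X₂ →ₗ[A] ↥I := iso3.hom.hom ∘ₗ S.g.hom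
    have hγ : Function.Surjective γ := by
      have h2 : Function.Surjective S.g.hom := hS.moduleCat_surjective_g
      have h3 : Function.Surjective iso3.hom.hom :=
        (ConcreteCategory.bijective_of_isIso iso3.hom).2
      exact h3.comp h2
    obtain ⟨φ', hφ'⟩ := Module.projective_lifting_property γ φ hγ
    -- the presentation of `S.X₂`
    let π : (A × (Fin q → A)) →ₗ[A] S.X₂ := (S.f.hom ∘ₗ iso1.inv.hom).coprod φ'
    have hfinj : Function.Injective S.f.hom := hS.moduleCat_injective_f
    have hπ : Function.Surjective π := by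
      intro m
      obtain ⟨v, hv⟩ := hφ (γ m)
      have h4 : γ (m - φ' v) = 0 := by
        rw [map_sub, ← LinearMap.comp_apply, hφ', hv, sub_self]
      have h5 : S.g.hom (m - φ' v) = 0 := by
        have h6 : Function.Injective iso3.hom.hom :=
          (ConcreteCategory.bijective_of_isIso iso3.hom).1
        apply h6
        rw [map_zero]
        exact h4
      obtain ⟨x₁, hx₁⟩ := (hS.exact.moduleCat_range_eq_ker ▸ LinearMap.mem_ker.mpr h5 :
        m - φ' v ∈ LinearMap.range S.f.hom)
      refine ⟨(iso1.hom.hom x₁, v), ?_⟩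
      simp only [π, LinearMap.coprod_apply, LinearMap.comp_apply]
      have h7 : iso1.inv.hom (iso1.hom.hom x₁) = x₁ := by
        rw [← LinearMap.comp_apply, ← ModuleCat.hom_comp, iso1.hom_inv_id]
        rfl
      rw [h7, hx₁]
      abel
    -- the kernel of `π` is isomorphic to the kernel of `φ`
    have hγπ : ∀ x : A × (Fin q → A), γ (π x) = φ x.2 := by
      intro x
      simp only [π, LinearMap.coprod_apply, LinearMap.comp_apply, map_add]
      have h8 : γ (S.f.hom (iso1.inv.hom x.1)) = 0 := by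
        simp only [γ, LinearMap.comp_apply]
        rw [show S.g.hom (S.f.hom (iso1.inv.hom x.1)) = 0 from S.moduleCat_zero_apply _, map_zero]
      rw [h8, zero_add, ← LinearMap.comp_apply, hφ']
    let κ : ↥(LinearMap.ker π) →ₗ[A] ↥(LinearMap.ker φ) :=
      LinearMap.codRestrict (LinearMap.ker φ)
        ((LinearMap.snd A A (Fin q → A)) ∘ₗ (LinearMap.ker π).subtype) (by
          intro x
          rw [LinearMap.mem_ker]
          have := hγπ x.1
          rw [LinearMap.mem_ker.mp x.2, map_zero] at this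
          exact this.symm)
    have hκ : Function.Bijective κ := by
      constructor
      · rw [← LinearMap.ker_eq_bot, LinearMap.ker_eq_bot']
        intro x hx
        have hx2 : x.1.2 = 0 := congrArg Subtype.val hx
        have hx0 := LinearMap.mem_ker.mp x.2
        simp only [π, LinearMap.coprod_apply, LinearMap.comp_apply, hx2, map_zero, add_zero]
          at hx0
        have h9 : iso1.inv.hom x.1.1 = 0 := hfinj (by rw [hx0, map_zero])
        have h10 : x.1.1 = 0 := by
          have : iso1.hom.hom (iso1.inv.hom x.1.1) = x.1.1 := by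
            rw [← LinearMap.comp_apply, ← ModuleCat.hom_comp, iso1.inv_hom_id]
            rfl
          rw [← this, h9, map_zero]
        apply Subtype.ext
        exact Prod.ext h10 hx2
      · intro v
        have hv := LinearMap.mem_ker.mp v.2
        have h11 : S.g.hom (φ' v.1) = 0 := by
          have h6 : Function.Injective iso3.hom.hom :=
            (ConcreteCategory.bijective_of_isIso iso3.hom).1
          apply h6
          rw [map_zero]
          have : γ (φ' v.1) = φ v.1 := by rw [← LinearMap.comp_apply, hφ']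
          rw [hv] at this
          exact this
        obtain ⟨x₁, hx₁⟩ := (hS.exact.moduleCat_range_eq_ker ▸ LinearMap.mem_ker.mpr h11 :
          φ' v.1 ∈ LinearMap.range S.f.hom)
        have h7 : iso1.inv.hom (iso1.hom.hom x₁) = x₁ := by
          rw [← LinearMap.comp_apply, ← ModuleCat.hom_comp, iso1.hom_inv_id]
          rfl
        refine ⟨⟨(- iso1.hom.hom x₁, v.1), ?_⟩, Subtype.ext rfl⟩
        rw [LinearMap.mem_ker]
        simp only [π, LinearMap.coprod_apply, LinearMap.comp_apply, map_neg, h7, hx₁]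
        abel
    have hKfree : Module.Free A ↥(LinearMap.ker π) :=
      Module.Free.of_equiv (LinearEquiv.ofBijective κ hκ).symm
    have hKfin : Module.Finite A ↥(LinearMap.ker π) := inferInstance
    have hT := LinearMap.shortExact_shortComplexKer hπ
    have hKfree' : Module.Free A π.shortComplexKer.X₁ := hKfree
    have hKfin' : Module.Finite A π.shortComplexKer.X₁ := hKfin
    obtain ⟨r, hr⟩ := exists_retraction hT S.X₁ iso1.toLinearEquiv (fun y => hext y)
    let spl := ShortComplex.Splitting.ofExactOfRetraction _ hT.exact r hr hT.epi_g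
    have hsg : π ∘ₗ spl.s.hom = LinearMap.id := by
      have := spl.s_g
      exact congrArg ModuleCat.Hom.hom this
    have hproj : Module.Projective A S.X₂ := Module.Projective.of_split spl.s.hom π hsg
    have hfin : Module.Finite A S.X₂ := Module.Finite.of_surjective π hπ
    exact Module.free_of_flat_of_isLocalRing

end Module

end Groth.Agent.R2.H52.SerreExt
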