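import Mathlib

open TensorProduct CategoryTheory AlgebraicGeometry

namespace Groth.Agent.R2.H53.FlatDesc

universe u v

theorem flat_of_faithfullyFlat_of_flat (R : Type u) (S : Type v) (T : Type*) [CommRing R] [CommRing S]
    [CommRing T] [Algebra R S] [Algebra S T] [Algebra R T] [IsScalarTower R S T]
    [Module.Flat R T] [Module.FaithfullyFlat S T] : Module.Flat R S := by
  rw [Module.Flat.iff_lTensor_preserves_injective_linearMap]
  intro N N' _ _ _ _ f hf
  have h1 : Function.Injective (f.lTensor T) :=
    Module.Flat.lTensor_preserves_injective_linearMap f hf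
  have h2 : Function.Injective (f.baseChange S) := by
    rw [← Module.FaithfullyFlat.lTensor_injective_iff_injective S T]
    have key : (AlgebraTensorModule.cancelBaseChange R S S T N').toLinearMap ∘ₗ
        (f.baseChange S).lTensor T =
        (AlgebraTensorModule.lTensor S T f) ∘ₗ
          (AlgebraTensorModule.cancelBaseChange R S S T N).toLinearMap := by
      ext; simp
    intro x y hxy
    have := congrArg (AlgebraTensorModule.cancelBaseChange R S S T N') hxy
    have e1 := LinearMap.congr_fun key x
    have e2 := LinearMap.congr_fun key y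
    simp only [LinearMap.coe_comp, Function.comp_apply, LinearEquiv.coe_coe] at e1 e2
    rw [e1, e2] at this
    exact (AlgebraTensorModule.cancelBaseChange R S S T N).injective (h1 this)
  exact h2

theorem _root_.RingHom.Flat.of_comp_of_faithfullyFlat {A B C : Type*} [CommRing A] [CommRing B]
    [CommRing C] (φ : A →+* B) (ψ : B →+* C) (h : (ψ.comp φ).Flat) (hψ : ψ.FaithfullyFlat) :
    φ.Flat := by
  algebraize [φ, ψ, ψ.comp φ]
  exact flat_of_faithfullyFlat_of_flat A B C

/-- flatness descends along a flat surjective morphism on the source. -/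
theorem flat_of_flat_comp_of_surjective {X Y Z : Scheme.{u}} (f : X ⟶ Y) (g : Y ⟶ Z)
    [Flat f] [Surjective f] [Flat (f ≫ g)] : Flat g := by
  rw [Flat.iff_flat_stalkMap]
  intro y
  obtain ⟨x, rfl⟩ := f.surjective y
  have h1 : ((f.stalkMap x).hom.comp (g.stalkMap (f x)).hom).Flat := by
    have h0 : ((f ≫ g).stalkMap x).hom.Flat := Flat.stalkMap (f ≫ g) x
    rw [Scheme.Hom.stalkMap_comp] at h0
    exact h0
  refine RingHom.Flat.of_comp_of_faithfullyFlat _ _ h1 ?_
  algebraize [(f.stalkMap x).hom]
  have : Module.FaithfullyFlat (Y.presheaf.stalk (f x)) (X.presheaf.stalk x) :=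
    @Module.FaithfullyFlat.of_flat_of_isLocalHom _ _ _ _ _ _ _
      (Flat.stalkMap f x) (f.toLRSHom.prop x)
  exact ‹RingHom.FaithfullyFlat _›

end Groth.Agent.R2.H53.FlatDesc
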