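import Mathlib
import Groth.Prelude.Def_Grpd
import Groth.Agent.R2.H53GrpdRestr

/-!
# PROJ:grpd-glue — interface (helper53)

Quotients of a scheme `U` by a finite locally free groupoid `R ⇉ U` all of whose orbits lie in affine
opens (SGA3 V Thm 4.1), glued from the affine quotients `Spec (invariants)` of the invariant affine
opens. This file holds the small common definitions (`invMap`, `quotMap`) and the exact statements of
the packages as `Prop`s:

* `AOStmt` : the quotient of an invariant open of an affine groupoid is an open of the quotient;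
* `AEStmt` : `toQuot` is an epimorphism of schemes, closed, open, ... (affine case);
* `ACStmt` : `toQuot` is a coequalizer in schemes (affine case, existence of the factorisation);
* `GlueInput`, `GlueOutput`, `GLStmt` : abstract gluing of local quotients.
-/

set_option autoImplicit false
universe u

open CategoryTheory CategoryTheory.Limits AlgebraicGeometry
open Groth.Agent.R2.H53.GrpdRestr

namespace Groth.Agent.R2.H53.GrpdGlue

section QM
variable {S : Scheme.{u}} {G₁ G₂ G₃ : Grpd.GroupoidScheme S}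

/-- the ring map on invariants induced by a morphism of groupoid schemes. -/
noncomputable def invMap (f : Grpd.GroupoidScheme.Hom G₁ G₂) : G₂.invariants →+* G₁.invariants :=
  (f.fU.appTop.hom.comp G₂.invariants.subtype).codRestrict G₁.invariants (by
    intro c
    show G₁.s.appTop.hom (f.fU.appTop.hom c) = G₁.t.appTop.hom (f.fU.appTop.hom c)
    have hs : G₁.s.appTop.hom (f.fU.appTop.hom c) = f.fR.appTop.hom (G₂.s.appTop.hom c) := by
      have := congrArg (fun φ : G₁.R ⟶ G₂.U => φ.appTop.hom (c : Γ(G₂.U, ⊤))) f.comm_s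
      simpa [Scheme.Hom.comp_appTop] using this.symm
    have ht : G₁.t.appTop.hom (f.fU.appTop.hom c) = f.fR.appTop.hom (G₂.t.appTop.hom c) := by
      have := congrArg (fun φ : G₁.R ⟶ G₂.U => φ.appTop.hom (c : Γ(G₂.U, ⊤))) f.comm_t
      simpa [Scheme.Hom.comp_appTop] using this.symm
    rw [hs, ht]
    congr 1
    exact c.2)

@[simp] lemma invMap_apply (f : Grpd.GroupoidScheme.Hom G₁ G₂) (c : G₂.invariants) :
    ((invMap f c : G₁.invariants) : Γ(G₁.U, ⊤)) = f.fU.appTop.hom c := rfl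

/-- the induced map on the spectra of the rings of invariants. -/
noncomputable def quotMap (f : Grpd.GroupoidScheme.Hom G₁ G₂) :
    Spec (CommRingCat.of G₁.invariants) ⟶ Spec (CommRingCat.of G₂.invariants) :=
  Spec.map (CommRingCat.ofHom (invMap f))

theorem toQuot_quotMap (f : Grpd.GroupoidScheme.Hom G₁ G₂) :
    G₁.toQuot ≫ quotMap f = f.fU ≫ G₂.toQuot := by
  unfold Grpd.GroupoidScheme.toQuot quotMap
  rw [Category.assoc, ← Spec.map_comp]
  have e : CommRingCat.ofHom (invMap f) ≫ CommRingCat.ofHom G₁.invariants.subtype =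
      CommRingCat.ofHom G₂.invariants.subtype ≫ f.fU.appTop := by
    ext c
    rfl
  rw [e, Spec.map_comp, ← Category.assoc, ← Scheme.toSpecΓ_naturality, Category.assoc]

theorem quotMap_comp_of_fU (f : Grpd.GroupoidScheme.Hom G₁ G₂) (g : Grpd.GroupoidScheme.Hom G₂ G₃)
    (k : Grpd.GroupoidScheme.Hom G₁ G₃) (h : k.fU = f.fU ≫ g.fU) :
    quotMap f ≫ quotMap g = quotMap k := by
  unfold quotMap
  rw [← Spec.map_comp]
  congr 1
  ext c
  show f.fU.appTop.hom (g.fU.appTop.hom c) = k.fU.appTop.hom c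
  rw [h, Scheme.Hom.comp_appTop]
  rfl

theorem quotMap_eq_id_of_fU (f : Grpd.GroupoidScheme.Hom G₁ G₁) (h : f.fU = 𝟙 _) :
    quotMap f = 𝟙 _ := by
  unfold quotMap
  have : invMap f = RingHom.id _ := by
    ext c
    show f.fU.appTop.hom c = c
    rw [h]
    simp
  rw [this]
  exact Spec.map_id _

end QM

/-- **Package AO**: for a cartesian open immersion of affine groupoids, the induced map of quotients
is an open immersion whose preimage under `toQuot` is the given open. -/
def AOStmt : Prop :=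
  ∀ {S : Scheme.{u}} (G₁ G₂ : Grpd.GroupoidScheme S) (f : Grpd.GroupoidScheme.Hom G₁ G₂)
    [IsAffine G₁.U] [IsAffine G₁.R] [IsAffine G₂.U] [IsAffine G₂.R]
    [IsFinite G₂.s] [Flat G₂.s] [LocallyOfFinitePresentation G₂.s]
    [IsFinite G₂.t] [Flat G₂.t] [LocallyOfFinitePresentation G₂.t] [IsOpenImmersion f.fU]
    (_ : IsPullback f.fR G₁.s G₂.s f.fU) (_ : IsPullback f.fR G₁.t G₂.t f.fU),
    IsOpenImmersion (quotMap f) ∧
      ∀ u : G₂.U, G₂.toQuot u ∈ Set.range (quotMap f) ↔ u ∈ Set.range f.fU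

/-- **Package AE**: in the affine case `toQuot` is an epimorphism of schemes, maps to affine schemes
equalizing `s, t` factor, `toQuot` is integral and open, and `R ⟶ U ×_Y U` is surjective. -/
def AEStmt : Prop :=
  ∀ {S : Scheme.{u}} (G : Grpd.GroupoidScheme S) [IsAffine G.U] [IsAffine G.R]
    [IsFinite G.s] [Flat G.s] [LocallyOfFinitePresentation G.s]
    [IsFinite G.t] [Flat G.t] [LocallyOfFinitePresentation G.t],
    (∀ {Z : Scheme.{u}} (g g' : Spec (CommRingCat.of G.invariants) ⟶ Z),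
      G.toQuot ≫ g = G.toQuot ≫ g' → g = g') ∧
    (∀ {Z : Scheme.{u}} [IsAffine Z] (h : G.U ⟶ Z), G.s ≫ h = G.t ≫ h →
      ∃ g : Spec (CommRingCat.of G.invariants) ⟶ Z, G.toQuot ≫ g = h) ∧
    IsIntegralHom G.toQuot ∧ IsOpenMap G.toQuot ∧
    ∀ (w : G.t ≫ G.toQuot = G.s ≫ G.toQuot),
      Function.Surjective (pullback.lift G.t G.s w : G.R ⟶ pullback G.toQuot G.toQuot)

/-- **Package AC**: in the affine case every morphism equalizing `s, t` factors through `toQuot`. -/
def ACStmt : Prop :=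
  ∀ {S : Scheme.{u}} (G : Grpd.GroupoidScheme S) [IsAffine G.U] [IsAffine G.R]
    [IsFinite G.s] [Flat G.s] [LocallyOfFinitePresentation G.s]
    [IsFinite G.t] [Flat G.t] [LocallyOfFinitePresentation G.t]
    {Z : Scheme.{u}} (h : G.U ⟶ Z), G.s ≫ h = G.t ≫ h →
    ∃ g : Spec (CommRingCat.of G.invariants) ⟶ Z, G.toQuot ≫ g = h

/-- input of the abstract gluing: local quotients `q i : W i ⟶ Y i` of the members of a locally
directed family of opens, with saturated functorial open immersions `Y i ⟶ Y i'` for `W i ≤ W i'`. -/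
structure GlueInput (U : Scheme.{u}) where
  ι : Type u
  W : ι → U.Opens
  Y : ι → Scheme.{u}
  q : ∀ i, (W i : Scheme.{u}) ⟶ Y i
  q_surj : ∀ i, Function.Surjective (q i)
  j : ∀ {i i' : ι}, W i ≤ W i' → (Y i ⟶ Y i')
  j_open : ∀ {i i' : ι} (h : W i ≤ W i'), IsOpenImmersion (j h)
  j_id : ∀ i, j (le_refl (W i)) = 𝟙 _
  j_comp : ∀ {i i' i'' : ι} (h : W i ≤ W i') (h' : W i' ≤ W i''), j h ≫ j h' = j (h.trans h')
  comm : ∀ {i i' : ι} (h : W i ≤ W i'), U.homOfLE h ≫ q i' = q i ≫ j h
  sat : ∀ {i i' : ι} (h : W i ≤ W i') (u : W i'), q i' u ∈ Set.range (j h) → (u : U) ∈ W i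
  cover : ∀ u : U, ∃ i, u ∈ W i
  directed : ∀ (i i' : ι) (u : U), u ∈ W i → u ∈ W i' → ∃ k, u ∈ W k ∧ W k ≤ W i ∧ W k ≤ W i'

/-- output of the abstract gluing. -/
structure GlueOutput {U : Scheme.{u}} (I : GlueInput U) where
  Y : Scheme.{u}
  p : U ⟶ Y
  ι : ∀ i, I.Y i ⟶ Y
  ι_open : ∀ i, IsOpenImmersion (ι i)
  ι_j : ∀ {i i' : I.ι} (h : I.W i ≤ I.W i'), I.j h ≫ ι i' = ι i
  isPullback : ∀ i, IsPullback (I.W i).ι (I.q i) p (ι i)
  cover : ∀ y : Y, ∃ i, y ∈ Set.range (ι i)
  desc : ∀ {Z : Scheme.{u}} (g : ∀ i, I.Y i ⟶ Z),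
    (∀ {i i' : I.ι} (h : I.W i ≤ I.W i'), I.j h ≫ g i' = g i) → ∃! g' : Y ⟶ Z, ∀ i, ι i ≫ g' = g i

/-- **Package GL**: abstract gluing of local quotients. -/
def GLStmt : Prop := ∀ (U : Scheme.{u}) (I : GlueInput U), Nonempty (GlueOutput I)

end Groth.Agent.R2.H53.GrpdGlue
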