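import Mathlib
import Groth.Prelude.Def_Grpd
import Groth.Agent.R2.H33GrpdOrbit
import Groth.Agent.R2.H53GrpdGlueSpec

/-!
# PROJ:grpd-glue — package AE (helper53)

For an affine groupoid scheme with `s`, `t` finite locally free, the morphism `toQuot : U ⟶ Spec C`
(`C` the ring of invariants) is an epimorphism of schemes, factors every morphism to an affine scheme
equalizing `s`, `t`, is integral and open, and `R ⟶ U ×_{Spec C} U` is surjective.
Main result: `aeStmt : AEStmt`.
-/

set_option autoImplicit false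
set_option linter.unusedSectionVars false
universe u

open CategoryTheory CategoryTheory.Limits AlgebraicGeometry TopologicalSpace
open Groth.Agent.R2.H33.GrpdOrbit Groth.Agent.R2.H53.GrpdGlue

namespace Groth.Agent.R2.H53.GrpdAE

section Gen
variable {X Y Z : Scheme.{u}}

/-- a surjective morphism with injective maps on sections is an epimorphism of schemes -/
theorem eq_of_comp_eq_of_surjective_of_app_injective (f : X ⟶ Y)
    (hs : Function.Surjective f) (hinj : ∀ V : Y.Opens, Function.Injective (f.app V))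
    (g g' : Y ⟶ Z) (h : f ≫ g = f ≫ g') : g = g' := by
  have hbase : g.base = g'.base := by
    ext y
    obtain ⟨x, rfl⟩ := hs y
    have := congrArg (fun φ : X ⟶ Z => φ x) h
    simpa using this
  refine Scheme.Hom.ext hbase (fun W => ?_)
  have e₀ : f ⁻¹ᵁ g ⁻¹ᵁ W = f ⁻¹ᵁ g' ⁻¹ᵁ W := by
    rw [← Scheme.Hom.comp_preimage, ← Scheme.Hom.comp_preimage, h]
  have h1 : g.app W ≫ f.app (g ⁻¹ᵁ W) =
      (g'.app W ≫ f.app (g' ⁻¹ᵁ W)) ≫ X.presheaf.map (eqToHom e₀).op := by
    have h0 := Scheme.Hom.congr_app h W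
    rw [Scheme.Hom.comp_app, Scheme.Hom.comp_app] at h0
    exact h0
  have key : (g.app W ≫ Y.presheaf.map
      (eqToHom congr((Opens.map $hbase.symm).obj W)).op) ≫ f.app (g' ⁻¹ᵁ W) =
      g'.app W ≫ f.app (g' ⁻¹ᵁ W) := by
    rw [Category.assoc, f.naturality, ← Category.assoc, h1]
    rw [Category.assoc, ← Functor.map_comp]
    convert Category.comp_id _
    exact X.presheaf.map_id _
  ext a
  apply hinj (g' ⁻¹ᵁ W)
  have h2 := congrArg (fun φ => φ.hom a) key
  exact h2

theorem app_injective_of_isAffineOpen [IsAffine Y] (f : X ⟶ Y) [QuasiCompact f]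
    (h : Function.Injective f.appTop) (V : Y.Opens) (hV : IsAffineOpen V) :
    Function.Injective (f.app V) := by
  have h1 : f.ker.ideal ⟨V, hV⟩ = RingHom.ker (f.app V).hom := Scheme.Hom.ker_apply f ⟨V, hV⟩
  have h2 : RingHom.ker f.appTop.hom = ⊥ := (RingHom.injective_iff_ker_eq_bot _).mp h
  rw [Scheme.ker_of_isAffine, h2] at h1
  simp only [Scheme.IdealSheafData.ofIdealTop_ideal, Ideal.map_bot] at h1
  exact (RingHom.injective_iff_ker_eq_bot _).mpr h1.symm

theorem app_injective_of_isAffine [IsAffine Y] (f : X ⟶ Y) [QuasiCompact f]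
    (h : Function.Injective f.appTop) (V : Y.Opens) :
    Function.Injective (f.app V) := by
  rw [injective_iff_map_eq_zero]
  intro s hs
  refine Y.IsSheaf.section_ext (U := Opposite.op V) (s := s) (t := 0) (fun y hy => ?_)
  obtain ⟨_, ⟨D, hD, rfl⟩, hyD, hDV⟩ :=
    (Y.isBasis_affineOpens).exists_subset_of_mem_open hy V.isOpen
  have hDV' : D ≤ V := hDV
  refine ⟨D, hDV', hyD, ?_⟩
  rw [map_zero]
  apply app_injective_of_isAffineOpen f h D hD
  rw [map_zero]
  have := f.naturality (homOfLE hDV').op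
  have h3 := congrArg (fun φ => φ.hom s) this
  simp only [CommRingCat.hom_comp, RingHom.comp_apply] at h3
  refine h3.trans ?_
  have hs' : (f.app V).hom s = 0 := hs
  rw [hs', map_zero]

/-- every point of a scheme is the image of a point with algebraically closed residue field -/
theorem exists_geometric_point (P : Scheme.{u}) (z : P) :
    ∃ (k : Type u) (_ : Field k) (_ : IsAlgClosed k) (a : Spec (CommRingCat.of k) ⟶ P)
      (pt : Spec (CommRingCat.of k)), a pt = z := by
  refine ⟨AlgebraicClosure (P.residueField z), inferInstance, inferInstance,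
    Spec.map (CommRingCat.ofHom (algebraMap (P.residueField z) (AlgebraicClosure (P.residueField z)))) ≫
      P.fromSpecResidueField z, Classical.arbitrary _, ?_⟩
  rw [Scheme.Hom.comp_apply]
  exact Scheme.fromSpecResidueField_apply _ _

theorem specMap_appTop_injective {R₁ R₂ : CommRingCat.{u}} (φ : R₁ ⟶ R₂)
    (h : Function.Injective φ.hom) : Function.Injective (Spec.map φ).appTop := by
  have h1 := Scheme.ΓSpecIso_naturality φ
  have h2 : (Spec.map φ).appTop = (Scheme.ΓSpecIso R₁).hom ≫ φ ≫ (Scheme.ΓSpecIso R₂).inv := by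
    rw [← Category.assoc, ← h1, Category.assoc, Iso.hom_inv_id, Category.comp_id]
  rw [h2]
  simp only [CommRingCat.hom_comp, RingHom.coe_comp]
  refine Function.Injective.comp (Function.Injective.comp ?_ h) ?_
  · exact (ConcreteCategory.bijective_of_isIso (Scheme.ΓSpecIso R₂).inv).1
  · exact (ConcreteCategory.bijective_of_isIso (Scheme.ΓSpecIso R₁).hom).1

end Gen

section TQ
variable {S : Scheme.{u}} (G : Grpd.GroupoidScheme S)

theorem toQuot_appTop_injective [IsAffine G.U] : Function.Injective G.toQuot.appTop := by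
  unfold Grpd.GroupoidScheme.toQuot
  rw [Scheme.Hom.comp_appTop]
  simp only [CommRingCat.hom_comp, RingHom.coe_comp]
  refine Function.Injective.comp ?_ ?_
  · have : IsIso (G.U.toSpecΓ.app ⊤) := inferInstance
    exact (ConcreteCategory.bijective_of_isIso (G.U.toSpecΓ.app ⊤)).1
  · exact specMap_appTop_injective _ Subtype.val_injective

/-- factorisation through `toQuot` of a morphism to an affine scheme that equalizes `s`, `t`. -/
theorem exists_fac_of_isAffine {Z : Scheme.{u}} [IsAffine Z] (h : G.U ⟶ Z)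
    (hh : G.s ≫ h = G.t ≫ h) :
    ∃ g : Spec (CommRingCat.of G.invariants) ⟶ Z, G.toQuot ≫ g = h := by
  have hmem : ∀ z : Γ(Z, ⊤), h.appTop.hom z ∈ G.invariants := by
    intro z
    show G.s.appTop.hom (h.appTop.hom z) = G.t.appTop.hom (h.appTop.hom z)
    have := congrArg (fun φ : G.R ⟶ Z => φ.appTop.hom z) hh
    simpa [Scheme.Hom.comp_appTop] using this
  let ψ : Γ(Z, ⊤) →+* G.invariants := h.appTop.hom.codRestrict G.invariants hmem
  refine ⟨Spec.map (CommRingCat.ofHom ψ) ≫ Z.isoSpec.inv, ?_⟩
  unfold Grpd.GroupoidScheme.toQuot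
  rw [Category.assoc, ← Category.assoc (Spec.map _), ← Spec.map_comp]
  have e : CommRingCat.ofHom ψ ≫ CommRingCat.ofHom G.invariants.subtype = h.appTop := by
    ext z
    rfl
  rw [e, ← Category.assoc, ← Scheme.toSpecΓ_naturality, Category.assoc, Scheme.toSpecΓ_isoSpec_inv,
    Category.comp_id]

variable [IsAffine G.U] [IsAffine G.R] [IsFinite G.s] [Flat G.s] [LocallyOfFinitePresentation G.s]

theorem isIntegralHom_toQuot : IsIntegralHom G.toQuot := by
  have hint : Algebra.IsIntegral G.invariants Γ(G.U, ⊤) := Groth.Agent.S1879.main S G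
  have h1 : IsIntegralHom (Spec.map (CommRingCat.ofHom G.invariants.subtype)) := by
    rw [IsIntegralHom.SpecMap_iff]
    exact algebraMap_isIntegral_iff.mpr hint
  unfold Grpd.GroupoidScheme.toQuot
  infer_instance

/-- `toQuot` is an epimorphism of schemes. -/
theorem toQuot_epi {Z : Scheme.{u}} (g g' : Spec (CommRingCat.of G.invariants) ⟶ Z)
    (h : G.toQuot ≫ g = G.toQuot ≫ g') : g = g' := by
  have hint : IsIntegralHom G.toQuot := isIntegralHom_toQuot G
  exact eq_of_comp_eq_of_surjective_of_app_injective G.toQuot (toQuot_surjective G)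
    (app_injective_of_isAffine G.toQuot (toQuot_appTop_injective G)) g g' h

theorem isOpenMap_toQuot [Flat G.t] [LocallyOfFinitePresentation G.t] : IsOpenMap G.toQuot := by
  have hint : IsIntegralHom G.toQuot := isIntegralHom_toQuot G
  have hq : Topology.IsQuotientMap G.toQuot :=
    G.toQuot.isClosedMap.isQuotientMap G.toQuot.continuous (toQuot_surjective G)
  intro V hV
  rw [← hq.isOpen_preimage]
  have : G.toQuot ⁻¹' (G.toQuot '' V) = G.t '' (G.s ⁻¹' V) := by
    ext x
    constructor
    · rintro ⟨v, hv, hvx⟩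
      obtain ⟨r, hr1, hr2⟩ := (toQuot_eq_iff G x v).mp hvx.symm
      exact ⟨r, by simpa [hr2] using hv, hr1⟩
    · rintro ⟨r, hr, rfl⟩
      exact ⟨G.s r, hr, ((toQuot_eq_iff G (G.t r) (G.s r)).mpr ⟨r, rfl, rfl⟩).symm⟩
  rw [this]
  exact G.t.isOpenMap _ (hV.preimage G.s.continuous)

theorem surjective_lift (w : G.t ≫ G.toQuot = G.s ≫ G.toQuot) :
    Function.Surjective (pullback.lift G.t G.s w : G.R ⟶ pullback G.toQuot G.toQuot) := by
  intro z
  obtain ⟨k, _, _, a, pt, hpt⟩ := exists_geometric_point (pullback G.toQuot G.toQuot) z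
  have hc : (a ≫ pullback.fst _ _) ≫ G.toQuot = (a ≫ pullback.snd _ _) ≫ G.toQuot := by
    rw [Category.assoc, Category.assoc, pullback.condition]
  obtain ⟨r, hr1, hr2⟩ := (kpoint_toQuot_eq_iff G k (a ≫ pullback.fst _ _) (a ≫ pullback.snd _ _)).mp hc
  have hra : r ≫ pullback.lift G.t G.s w = a := by
    apply pullback.hom_ext
    · rw [Category.assoc, pullback.lift_fst, hr1]
    · rw [Category.assoc, pullback.lift_snd, hr2]
  refine ⟨r pt, ?_⟩
  rw [← hpt, ← hra, Scheme.Hom.comp_apply]

end TQ

/-- **Package AE**. -/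
theorem aeStmt : AEStmt.{u} := by
  intro S G _ _ _ _ _ _ _ _
  exact ⟨fun g g' h => toQuot_epi G g g' h, fun h hh => exists_fac_of_isAffine G h hh,
    isIntegralHom_toQuot G, isOpenMap_toQuot G, fun w => surjective_lift G w⟩

end Groth.Agent.R2.H53.GrpdAE
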