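import Mathlib
import Groth.Prelude.Def_Grpd
import Groth.Agent.R2.H33GrpdOrbit
import Groth.Agent.R2.H33GrpdInvOpen
import Groth.Agent.R2.H53GrpdRing
import Groth.Agent.R2.H53GrpdGlueSpec

/-!
# PROJ:grpd-glue — package AO (helper53)

For a cartesian open immersion `f : G₁ ⟶ G₂` of affine groupoid schemes (`G₂` with `s` finite locally free)
the induced map `Spec C₁ ⟶ Spec C₂` on the spectra of the rings of invariants is an open immersion, and
`toQuot u` lies in its range iff `u` lies in the range of `f.fU`.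

* `oi_inj`, `oi_surj`: an open immersion of affine schemes whose range contains `D(c)` induces a bijection
  after inverting `c`;
* `nrm_mem_inv`: the norm of `t♯ f` along `s♯` is an invariant function;
* `exists_inv_basicOpen`: invariant basic open neighbourhoods of an orbit inside an open;
* `isLocalization_away`: `(C₁)_{c}` is the localization of `C₂` at `c` when `D(c) ⊆ range f.fU`;
* `aoStmt : AOStmt`.
-/

set_option autoImplicit false
set_option linter.unusedSectionVars false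
set_option linter.style.haveILetI false
universe u

open CategoryTheory CategoryTheory.Limits AlgebraicGeometry TopologicalSpace Polynomial
open Groth.Agent.Lib.Helper2.RetCharpoly Groth.Agent.R2.H33.RetNorm Groth.Agent.R2.H33.RetNormPrime
open Groth.Agent.R2.H33.GrpdOrbit Groth.Agent.R2.H33.GrpdInvOpen
open Groth.Agent.R2.H53.GrpdRing Groth.Agent.R2.H53.GrpdGlue

namespace Groth.Agent.R2.H53.GrpdAO

section OI

/-- sections of an affine scheme vanishing on a basic open are killed by a power -/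
theorem exists_pow_mul_eq_zero {X : Scheme.{u}} [IsAffine X] (f : Γ(X, ⊤)) (W : X.Opens)
    (hW : W = X.basicOpen f) (x : Γ(X, ⊤))
    (hx : (X.presheaf.map (homOfLE (le_top : W ≤ ⊤)).op).hom x = 0) : ∃ n : ℕ, f ^ n * x = 0 := by
  subst hW
  have h1 : algebraMap Γ(X, ⊤) Γ(X, X.basicOpen f) x = 0 := hx
  obtain ⟨⟨_, n, rfl⟩, hn⟩ := (IsLocalization.map_eq_zero_iff (Submonoid.powers f) _ x).mp h1
  exact ⟨n, hn⟩

/-- sections over a basic open of an affine scheme are fractions -/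
theorem exists_eq_pow_mul {X : Scheme.{u}} [IsAffine X] (f : Γ(X, ⊤)) (W : X.Opens)
    (hW : W = X.basicOpen f) (z : Γ(X, W)) :
    ∃ (n : ℕ) (a : Γ(X, ⊤)), (X.presheaf.map (homOfLE (le_top : W ≤ ⊤)).op).hom a =
      (X.presheaf.map (homOfLE (le_top : W ≤ ⊤)).op).hom f ^ n * z := by
  subst hW
  obtain ⟨n, a, ha⟩ := IsLocalization.Away.surj f z
  refine ⟨n, a, ?_⟩
  rw [mul_comm]
  exact ha.symm

variable {X₁ X₂ : Scheme.{u}} [IsAffine X₁] [IsAffine X₂] (g : X₁ ⟶ X₂) [IsOpenImmersion g]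
  (c : Γ(X₂, ⊤)) (hD : X₂.basicOpen c ≤ g.opensRange)

include hD in
theorem oi_inj (x : Γ(X₂, ⊤)) (hx : g.appTop.hom x = 0) : ∃ n : ℕ, c ^ n * x = 0 := by
  have hiso : IsIso (g.app (X₂.basicOpen c)) := g.isIso_app _ hD
  apply exists_pow_mul_eq_zero c (X₂.basicOpen c) rfl x
  apply (ConcreteCategory.bijective_of_isIso (g.app (X₂.basicOpen c))).1
  rw [map_zero]
  have := g.naturality (homOfLE (le_top : X₂.basicOpen c ≤ ⊤)).op
  have h3 := congrArg (fun φ => φ.hom x) this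
  simp only [CommRingCat.hom_comp, RingHom.comp_apply] at h3
  refine h3.trans ?_
  have hx' : (g.app ⊤).hom x = 0 := hx
  rw [hx', map_zero]

end OI

section OI2
variable {X₁ X₂ : Scheme.{u}} [IsAffine X₁] [IsAffine X₂] (g : X₁ ⟶ X₂) [IsOpenImmersion g]
  (c : Γ(X₂, ⊤)) (hD : X₂.basicOpen c ≤ g.opensRange)

include hD in
theorem oi_surj (y : Γ(X₁, ⊤)) :
    ∃ (a : Γ(X₂, ⊤)) (n : ℕ), g.appTop.hom a = (g.appTop.hom c) ^ n * y := by
  have hiso : IsIso (g.app (X₂.basicOpen c)) := g.isIso_app _ hD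
  have hpre : g ⁻¹ᵁ (X₂.basicOpen c) = X₁.basicOpen (g.appTop.hom c) :=
    Scheme.preimage_basicOpen g c
  have hnat : ∀ x, (g.app (X₂.basicOpen c)).hom
      ((X₂.presheaf.map (homOfLE (le_top : X₂.basicOpen c ≤ ⊤)).op).hom x) =
      (X₁.presheaf.map (homOfLE (le_top : g ⁻¹ᵁ (X₂.basicOpen c) ≤ ⊤)).op).hom (g.appTop.hom x) := by
    intro x
    have := g.naturality (homOfLE (le_top : X₂.basicOpen c ≤ ⊤)).op
    have h3 := congrArg (fun φ => φ.hom x) this
    simp only [CommRingCat.hom_comp, RingHom.comp_apply] at h3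
    exact h3
  obtain ⟨z, hz⟩ := (ConcreteCategory.bijective_of_isIso (g.app (X₂.basicOpen c))).2
    ((X₁.presheaf.map (homOfLE (le_top : g ⁻¹ᵁ (X₂.basicOpen c) ≤ ⊤)).op).hom y)
  obtain ⟨n, a, ha⟩ := exists_eq_pow_mul c (X₂.basicOpen c) rfl z
  have hz' : (g.app (X₂.basicOpen c)).hom z =
      (X₁.presheaf.map (homOfLE (le_top : g ⁻¹ᵁ (X₂.basicOpen c) ≤ ⊤)).op).hom y := hz
  have h1 : (X₁.presheaf.map (homOfLE (le_top : g ⁻¹ᵁ (X₂.basicOpen c) ≤ ⊤)).op).hom
      (g.appTop.hom a - (g.appTop.hom c) ^ n * y) = 0 := by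
    rw [map_sub, map_mul, map_pow, ← hnat, ← hnat, ha, map_mul, map_pow, hz', sub_self]
  obtain ⟨m, hm⟩ := exists_pow_mul_eq_zero (g.appTop.hom c) (g ⁻¹ᵁ (X₂.basicOpen c)) hpre _ h1
  refine ⟨c ^ m * a, n + m, ?_⟩
  rw [map_mul, map_pow]
  linear_combination hm

end OI2

section Ring
variable {A B D : Type u} [CommRing A] [CommRing B] [CommRing D] (g : RGrpd A B D)

/-- the coefficients of the characteristic polynomial of `τ f` are invariant -/
theorem cp_coeff_mem_inv {n : ℕ} (ρ : letI := g.σ.toAlgebra; Ret A B n) (f : A) (k : ℕ) :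
    (letI := g.σ.toAlgebra; (ρ.cp (Algebra.lmul A B (g.τ f))).coeff k) ∈ g.inv := by
  letI := g.σ.toAlgebra
  set χ := ρ.cp (Algebra.lmul A B (g.τ f)) with hχdef
  have hχ : IsRCP A B n (g.τ f) χ := ⟨ρ, rfl⟩
  have e1 := isRCP_cat g.po1 n (g.τ f) χ hχ
  have e2 := isRCP_cat g.po2 n (g.τ f) χ hχ
  have hc : g.γ (g.τ f) = g.p0 (g.τ f) := g.γτ f
  have hmap : χ.map g.σ = χ.map g.τ := by
    letI := g.p1.toAlgebra
    have e2' : IsRCP B D n (g.p0 (g.τ f)) (χ.map g.σ) := by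
      rw [← hc]
      exact e2
    exact IsRCP.unique e2' e1
  have := congrArg (fun q => q.coeff k) hmap
  simp only [Polynomial.coeff_map] at this
  exact this

/-- the norm of `τ f` is invariant -/
theorem nrm_mem_inv {n : ℕ} (ρ : letI := g.σ.toAlgebra; Ret A B n) (f : A) :
    (letI := g.σ.toAlgebra; nrm ρ (Algebra.lmul A B (g.τ f))) ∈ g.inv := by
  letI := g.σ.toAlgebra
  rw [nrm_eq_eval, one_sub_lmul]
  have h1 : (1 : B) - g.τ f = g.τ (1 - f) := by rw [map_sub, map_one]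
  rw [h1, Polynomial.eval_eq_sum_range]
  refine Subring.sum_mem _ (fun k _ => ?_)
  rw [one_pow, mul_one]
  exact cp_coeff_mem_inv g ρ (1 - f) k

end Ring

section Sch
variable {S : Scheme.{u}} (G : Grpd.GroupoidScheme S)

theorem mem_basicOpen_iff_toSpecΓ (X : Scheme.{u}) (f : Γ(X, ⊤)) (x : X) :
    x ∈ X.basicOpen f ↔ f ∉ (X.toSpecΓ x : PrimeSpectrum Γ(X, ⊤)).asIdeal := by
  rw [← X.toSpecΓ_preimage_basicOpen f]
  exact Iff.rfl

variable [IsAffine G.U] [IsAffine G.R] [IsFinite G.s] [Flat G.s] [LocallyOfFinitePresentation G.s]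

/-- invariant basic open neighbourhoods inside an open containing the orbit -/
theorem exists_inv_basicOpen (u : G.U) (W : G.U.Opens) (hu : ∀ r : G.R, G.s r = u → G.t r ∈ W) :
    ∃ c : G.invariants, u ∈ G.U.basicOpen (c : Γ(G.U, ⊤)) ∧
      G.U.basicOpen (c : Γ(G.U, ⊤)) ≤ W := by
  let O : Set G.U := G.t '' (G.s ⁻¹' {u})
  have hO : O.Finite := (G.s.finite_preimage_singleton u).image _
  have hOW : O ⊆ W := by
    rintro _ ⟨r, hr, rfl⟩
    exact hu r hr
  obtain ⟨f₀, hOf, hfW⟩ := exists_basicOpen_of_finite (isAffineOpen_top G.U) W O hO hOW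
    (fun _ _ => trivial)
  letI := G.s.appTop.hom.toAlgebra
  have hfin : Module.Finite Γ(G.U, ⊤) Γ(G.R, ⊤) := G.s.finite_appTop
  have hflat : Module.Flat Γ(G.U, ⊤) Γ(G.R, ⊤) := G.s.flat_appTop
  have hfp : Algebra.FinitePresentation Γ(G.U, ⊤) Γ(G.R, ⊤) := G.s.finitePresentation_appTop
  have : Module.FinitePresentation Γ(G.U, ⊤) Γ(G.R, ⊤) :=
    Module.FinitePresentation.of_finite_of_finitePresentation _ _
  have hproj : Module.Projective Γ(G.U, ⊤) Γ(G.R, ⊤) :=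
    Module.Flat.projective_of_finitePresentation
  obtain ⟨n, ⟨ρ⟩⟩ := exists_ret Γ(G.U, ⊤) Γ(G.R, ⊤)
  let c : Γ(G.U, ⊤) := nrm ρ (Algebra.lmul Γ(G.U, ⊤) Γ(G.R, ⊤) (G.t.appTop.hom f₀))
  have hc : c ∈ G.invariants := nrm_mem_inv (RGrpd.ofScheme G) ρ f₀
  have key : ∀ x : G.U, x ∈ G.U.basicOpen c ↔
      ∀ y : G.R, G.s y = x → G.t y ∈ G.U.basicOpen f₀ := by
    intro x
    rw [mem_basicOpen_iff_toSpecΓ, nrm_mem_prime_iff ρ (G.t.appTop.hom f₀)]
    constructor
    · intro hno y hy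
      rw [mem_basicOpen_iff_toSpecΓ, toSpecΓ_t_apply]
      intro hmem
      apply hno
      refine ⟨(G.R.toSpecΓ y : PrimeSpectrum Γ(G.R, ⊤)).asIdeal, inferInstance, ?_, hmem⟩
      rw [← hy, toSpecΓ_s_apply]
      rfl
    · intro hall
      rintro ⟨Q, hQ, hQp, hQf⟩
      obtain ⟨y, hy⟩ := toSpecΓ_surjective G.R (⟨Q, hQ⟩ : PrimeSpectrum Γ(G.R, ⊤))
      have hsy : G.s y = x := by
        apply toSpecΓ_injective G.U
        apply PrimeSpectrum.ext
        rw [toSpecΓ_s_apply, hy]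
        exact hQp
      have h3 := hall y hsy
      rw [mem_basicOpen_iff_toSpecΓ, toSpecΓ_t_apply, hy] at h3
      exact h3 hQf
  refine ⟨⟨c, hc⟩, ?_, ?_⟩
  · rw [key]
    intro y hy
    exact hOf ⟨y, hy, rfl⟩
  · intro x hx
    have h1 := (key x).mp hx (G.e x) (s_e_pt G x)
    rw [t_e_pt] at h1
    exact hfW h1

end Sch

section Main
variable {S : Scheme.{u}} {G₁ G₂ : Grpd.GroupoidScheme S} (f : Grpd.GroupoidScheme.Hom G₁ G₂)

theorem fR_s (a : Γ(G₂.U, ⊤)) :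
    f.fR.appTop.hom (G₂.s.appTop.hom a) = G₁.s.appTop.hom (f.fU.appTop.hom a) := by
  have := congrArg (fun φ : G₁.R ⟶ G₂.U => φ.appTop.hom a) f.comm_s
  simpa [Scheme.Hom.comp_appTop] using this

theorem fR_t (a : Γ(G₂.U, ⊤)) :
    f.fR.appTop.hom (G₂.t.appTop.hom a) = G₁.t.appTop.hom (f.fU.appTop.hom a) := by
  have := congrArg (fun φ : G₁.R ⟶ G₂.U => φ.appTop.hom a) f.comm_t
  simpa [Scheme.Hom.comp_appTop] using this

variable [IsAffine G₁.U] [IsAffine G₁.R] [IsAffine G₂.U] [IsAffine G₂.R]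
  [IsOpenImmersion f.fU] [IsOpenImmersion f.fR]
  (c : G₂.invariants) (hD : G₂.U.basicOpen (c : Γ(G₂.U, ⊤)) ≤ f.fU.opensRange)
  (hDR : G₂.R.basicOpen (G₂.s.appTop.hom (c : Γ(G₂.U, ⊤))) ≤ f.fR.opensRange)

include hD in
theorem inv_inj (x : G₂.invariants) (hx : invMap f x = 0) : ∃ n : ℕ, c ^ n * x = 0 := by
  have hx' : f.fU.appTop.hom (x : Γ(G₂.U, ⊤)) = 0 := congrArg Subtype.val hx
  obtain ⟨n, hn⟩ := oi_inj f.fU (c : Γ(G₂.U, ⊤)) hD x hx'
  exact ⟨n, Subtype.ext hn⟩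

include hD hDR in
theorem inv_surj (y : G₁.invariants) :
    ∃ (x : G₂.invariants) (n : ℕ), invMap f x = (invMap f c) ^ n * y := by
  obtain ⟨a, n, ha⟩ := oi_surj f.fU (c : Γ(G₂.U, ⊤)) hD (y : Γ(G₁.U, ⊤))
  have hy : G₁.s.appTop.hom (f.fU.appTop.hom (c : Γ(G₂.U, ⊤)) ^ n * (y : Γ(G₁.U, ⊤))) =
      G₁.t.appTop.hom (f.fU.appTop.hom (c : Γ(G₂.U, ⊤)) ^ n * (y : Γ(G₁.U, ⊤))) := by
    have h1 : (invMap f c ^ n * y : G₁.invariants).1 =
        f.fU.appTop.hom (c : Γ(G₂.U, ⊤)) ^ n * (y : Γ(G₁.U, ⊤)) := rfl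
    rw [← h1]
    exact (invMap f c ^ n * y : G₁.invariants).2
  have h0 : f.fR.appTop.hom (G₂.s.appTop.hom a - G₂.t.appTop.hom a) = 0 := by
    rw [map_sub, fR_s, fR_t, ha, hy, sub_self]
  obtain ⟨k, hk⟩ := oi_inj f.fR (G₂.s.appTop.hom (c : Γ(G₂.U, ⊤))) hDR _ h0
  have hcinv : G₂.s.appTop.hom (c : Γ(G₂.U, ⊤)) = G₂.t.appTop.hom (c : Γ(G₂.U, ⊤)) := c.2
  have hmem : (c : Γ(G₂.U, ⊤)) ^ k * a ∈ G₂.invariants := by
    show G₂.s.appTop.hom ((c : Γ(G₂.U, ⊤)) ^ k * a) = G₂.t.appTop.hom ((c : Γ(G₂.U, ⊤)) ^ k * a)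
    rw [map_mul, map_mul, map_pow, map_pow, ← hcinv]
    linear_combination hk
  refine ⟨⟨(c : Γ(G₂.U, ⊤)) ^ k * a, hmem⟩, k + n, ?_⟩
  apply Subtype.ext
  show f.fU.appTop.hom ((c : Γ(G₂.U, ⊤)) ^ k * a) =
    f.fU.appTop.hom (c : Γ(G₂.U, ⊤)) ^ (k + n) * (y : Γ(G₁.U, ⊤))
  rw [map_mul, map_pow, ha, pow_add, mul_assoc]

include hD hDR in
theorem isLocalization_away :
    letI : Algebra G₂.invariants (Localization.Away (invMap f c)) :=
      ((algebraMap G₁.invariants (Localization.Away (invMap f c))).comp (invMap f)).toAlgebra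
    IsLocalization.Away c (Localization.Away (invMap f c)) := by
  letI : Algebra G₂.invariants (Localization.Away (invMap f c)) :=
    ((algebraMap G₁.invariants (Localization.Away (invMap f c))).comp (invMap f)).toAlgebra
  have halg : ∀ x : G₂.invariants, algebraMap G₂.invariants (Localization.Away (invMap f c)) x =
      algebraMap G₁.invariants (Localization.Away (invMap f c)) (invMap f x) := fun _ => rfl
  rw [IsLocalization.Away, isLocalization_iff]
  refine ⟨?_, ?_, ?_⟩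
  · rintro ⟨_, n, rfl⟩
    rw [halg, map_pow, map_pow]
    exact (IsLocalization.Away.algebraMap_isUnit (invMap f c)).pow n
  · intro z
    obtain ⟨m, y, hy⟩ := IsLocalization.Away.surj (invMap f c) z
    obtain ⟨x, n, hx⟩ := inv_surj f c hD hDR y
    refine ⟨(x, ⟨c ^ (m + n), m + n, rfl⟩), ?_⟩
    simp only [halg]
    rw [hx, map_mul, ← hy]
    simp only [map_pow, map_mul, pow_add]
    ring
  · intro x x' hxx'
    rw [halg, halg] at hxx'
    obtain ⟨⟨_, m, rfl⟩, hm⟩ := (IsLocalization.eq_iff_exists (Submonoid.powers (invMap f c)) _).mp hxx'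
    have h0 : invMap f (c ^ m * (x - x')) = 0 := by
      rw [map_mul, map_pow, map_sub, mul_sub, sub_eq_zero]
      exact hm
    obtain ⟨k, hk⟩ := inv_inj f c hD _ h0
    refine ⟨⟨c ^ (k + m), k + m, rfl⟩, ?_⟩
    show c ^ (k + m) * x = c ^ (k + m) * x'
    rw [← sub_eq_zero, ← mul_sub, pow_add, mul_assoc]
    exact hk

end Main

section Main2
variable {S : Scheme.{u}} {G₁ G₂ : Grpd.GroupoidScheme S} (f : Grpd.GroupoidScheme.Hom G₁ G₂)

theorem fU_t_apply (r₁ : G₁.R) : f.fU (G₁.t r₁) = G₂.t (f.fR r₁) := by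
  have := congrArg (fun φ : G₁.R ⟶ G₂.U => φ r₁) f.comm_t
  simpa using this.symm

theorem toQuot_fU_apply (u₁ : G₁.U) : G₂.toQuot (f.fU u₁) = quotMap f (G₁.toQuot u₁) := by
  have := congrArg (fun φ : G₁.U ⟶ _ => φ u₁) (toQuot_quotMap f)
  simpa using this.symm

end Main2

/-- **Package AO**. -/
theorem aoStmt : AOStmt.{u} := by
  intro S G₁ G₂ f _ _ _ _ _ _ _ _ _ _ _ hs ht
  have hfR : IsOpenImmersion f.fR :=
    MorphismProperty.of_isPullback (P := @IsOpenImmersion) hs.flip inferInstance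
  have : IsFinite G₁.s := MorphismProperty.of_isPullback (P := @IsFinite) hs inferInstance
  have : Flat G₁.s := MorphismProperty.of_isPullback (P := @Flat) hs inferInstance
  have : LocallyOfFinitePresentation G₁.s :=
    MorphismProperty.of_isPullback (P := @LocallyOfFinitePresentation) hs inferInstance
  -- points of `R₂` over the range of `fU` come from `R₁`
  have hlift : ∀ (r : G₂.R) (u₁ : G₁.U), G₂.s r = f.fU u₁ →
      ∃ r₁ : G₁.R, f.fR r₁ = r ∧ G₁.s r₁ = u₁ := fun r u₁ h =>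
    Scheme.exists_preimage_of_isPullback hs r u₁ h
  have h2 : ∀ u : G₂.U, G₂.toQuot u ∈ Set.range (quotMap f) ↔ u ∈ Set.range f.fU := by
    intro u
    constructor
    · rintro ⟨y, hy⟩
      obtain ⟨u₁, rfl⟩ := toQuot_surjective G₁ y
      rw [← toQuot_fU_apply] at hy
      obtain ⟨r, hr1, hr2⟩ := (toQuot_eq_iff G₂ u (f.fU u₁)).mp hy.symm
      obtain ⟨r₁, hr₁, -⟩ := hlift r u₁ hr2
      exact ⟨G₁.t r₁, by rw [fU_t_apply, hr₁, hr1]⟩
    · rintro ⟨u₁, rfl⟩
      exact ⟨G₁.toQuot u₁, (toQuot_fU_apply f u₁).symm⟩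
  refine ⟨?_, h2⟩
  have hinj : Function.Injective (quotMap f) := by
    intro y y' hyy'
    obtain ⟨u, rfl⟩ := toQuot_surjective G₁ y
    obtain ⟨u', rfl⟩ := toQuot_surjective G₁ y'
    rw [← toQuot_fU_apply, ← toQuot_fU_apply] at hyy'
    obtain ⟨r, hr1, hr2⟩ := (toQuot_eq_iff G₂ _ _).mp hyy'
    obtain ⟨r₁, hr₁, hr₁'⟩ := hlift r u' hr2
    refine (toQuot_eq_iff G₁ u u').mpr ⟨r₁, ?_, hr₁'⟩
    apply f.fU.isOpenEmbedding.injective
    rw [fU_t_apply, hr₁, hr1]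
  apply IsOpenImmersion.of_forall_source_exists (quotMap f) hinj
  intro y
  obtain ⟨u₁, rfl⟩ := toQuot_surjective G₁ y
  have horb : ∀ r : G₂.R, G₂.s r = f.fU u₁ → G₂.t r ∈ f.fU.opensRange := by
    intro r hr
    obtain ⟨r₁, hr₁, -⟩ := hlift r u₁ hr
    exact ⟨G₁.t r₁, by rw [fU_t_apply, hr₁]⟩
  obtain ⟨c, hcu, hcW⟩ := exists_inv_basicOpen G₂ (f.fU u₁) f.fU.opensRange horb
  have hDR : G₂.R.basicOpen (G₂.s.appTop.hom (c : Γ(G₂.U, ⊤))) ≤ f.fR.opensRange := by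
    intro r hr
    have h1 : r ∈ G₂.s ⁻¹ᵁ (G₂.U.basicOpen (c : Γ(G₂.U, ⊤))) := by
      rw [Scheme.preimage_basicOpen]
      exact hr
    obtain ⟨u', hu'⟩ := hcW h1
    obtain ⟨r₁, hr₁, -⟩ := hlift r u' hu'.symm
    exact ⟨r₁, hr₁⟩
  have hloc := isLocalization_away f c hcW hDR
  letI : Algebra G₂.invariants (Localization.Away (invMap f c)) :=
    ((algebraMap G₁.invariants (Localization.Away (invMap f c))).comp (invMap f)).toAlgebra
  refine ⟨Spec (CommRingCat.of (Localization.Away (invMap f c))),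
    Spec.map (CommRingCat.ofHom (algebraMap G₁.invariants (Localization.Away (invMap f c)))),
    inferInstance, ?_, ?_⟩
  · rw [Scheme.Hom.opensRange_localizationAway (R := CommRingCat.of G₁.invariants) (invMap f c)]
    show invMap f c ∉ (G₁.toQuot u₁ : PrimeSpectrum G₁.invariants).asIdeal
    rw [toQuot_apply, Ideal.mem_comap]
    have h3 : f.fU u₁ ∈ G₂.U.basicOpen (c : Γ(G₂.U, ⊤)) := hcu
    have h4 : u₁ ∈ f.fU ⁻¹ᵁ (G₂.U.basicOpen (c : Γ(G₂.U, ⊤))) := h3
    rw [Scheme.preimage_basicOpen] at h4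
    exact (mem_basicOpen_iff_toSpecΓ G₁.U (f.fU.appTop.hom (c : Γ(G₂.U, ⊤))) u₁).mp h4
  · have e : Spec.map (CommRingCat.ofHom
        (algebraMap G₁.invariants (Localization.Away (invMap f c)))) ≫ quotMap f =
        Spec.map (CommRingCat.ofHom (algebraMap G₂.invariants (Localization.Away (invMap f c)))) := by
      unfold quotMap
      rw [← Spec.map_comp]
      rfl
    rw [e]
    exact IsOpenImmersion.of_isLocalization c

end Groth.Agent.R2.H53.GrpdAO
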