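import Mathlib
import Groth.Agent.R2.H53GrpdGlueSpec

/-!
# PROJ:grpd-glue, package GL (helper96): abstract gluing of local quotients along a locally
directed family of opens, via Mathlib's locally directed colimits of schemes.
-/

set_option autoImplicit false
set_option linter.style.haveILetI false
set_option linter.unusedSectionVars false
universe u

open CategoryTheory CategoryTheory.Limits AlgebraicGeometry
open Groth.Agent.R2.H53.GrpdGlue

namespace Groth.Agent.R2.H96.GrpdGL

variable {U : Scheme.{u}} (I : GlueInput U)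

/-- the index type with the preorder induced by inclusion of the opens. -/
structure Idx (I : GlueInput U) : Type u where
  i : I.ι

instance : Preorder (Idx I) where
  le a b := I.W a.i ≤ I.W b.i
  le_refl a := le_refl (I.W a.i)
  le_trans _ _ _ h h' := le_trans h h'


lemma Idx.le_def {a b : Idx I} : a ≤ b ↔ I.W a.i ≤ I.W b.i := Iff.rfl

/-- pointwise form of `GlueInput.comm`. -/
lemma comm_apply {i i' : I.ι} (h : I.W i ≤ I.W i') (v : I.W i) :
    I.q i' (U.homOfLE h v) = I.j h (I.q i v) := by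
  have := congrArg (fun φ : (I.W i : Scheme.{u}) ⟶ I.Y i' => φ v) (I.comm h)
  simpa [Scheme.Hom.comp_apply] using this

lemma j_comp_apply {i i' i'' : I.ι} (h : I.W i ≤ I.W i') (h' : I.W i' ≤ I.W i'') (y : I.Y i) :
    I.j h' (I.j h y) = I.j (h.trans h') y := by
  have := congrArg (fun φ : I.Y i ⟶ I.Y i'' => φ y) (I.j_comp h h')
  simpa [Scheme.Hom.comp_apply] using this

lemma j_injective {i i' : I.ι} (h : I.W i ≤ I.W i') : Function.Injective (I.j h) :=
  haveI := I.j_open h
  (I.j h).isOpenEmbedding.injective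

/-- the diagram of the local quotients. -/
noncomputable def F : Idx I ⥤ Scheme.{u} where
  obj a := I.Y a.i
  map {a b} f := I.j (leOfHom f)
  map_id a := I.j_id a.i
  map_comp f g := (I.j_comp (leOfHom f) (leOfHom g)).symm

instance {a b : Idx I} (f : a ⟶ b) : IsOpenImmersion ((F I).map f) := I.j_open (leOfHom f)

/-- the key local directedness: two points of `Y a`, `Y b` with the same image in `Y c` come from
a common `Y l`. -/
lemma exists_common {a b c : I.ι} (ha : I.W a ≤ I.W c) (hb : I.W b ≤ I.W c) (xa : I.Y a)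
    (xb : I.Y b) (h : I.j ha xa = I.j hb xb) :
    ∃ (l : I.ι) (hla : I.W l ≤ I.W a) (hlb : I.W l ≤ I.W b) (x : I.Y l),
      I.j hla x = xa ∧ I.j hlb x = xb := by
  obtain ⟨u₀, hu₀⟩ := I.q_surj c (I.j ha xa)
  let u : I.W c := u₀
  have hu : I.q c u = I.j ha xa := hu₀
  have hua : (u : U) ∈ I.W a := I.sat ha u ⟨xa, hu.symm⟩
  have hub : (u : U) ∈ I.W b := I.sat hb u ⟨xb, by rw [hu, h]⟩
  obtain ⟨l, hul, hla, hlb⟩ := I.directed a b u hua hub
  have hlc : I.W l ≤ I.W c := hla.trans ha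
  let v : I.W l := ⟨u, hul⟩
  have hv : U.homOfLE hlc v = u := by
    apply (I.W c).ι.isOpenEmbedding.injective
    rw [← Scheme.Hom.comp_apply, Scheme.homOfLE_ι]
    rfl
  refine ⟨l, hla, hlb, I.q l v, ?_, ?_⟩
  · apply j_injective I ha
    rw [j_comp_apply, ← comm_apply, hv, hu]
  · apply j_injective I hb
    rw [j_comp_apply, ← comm_apply, hv, hu, h]

instance : ((F I) ⋙ Scheme.forget).IsLocallyDirected where
  cond {a b c} fa fb xa xb h := by
    obtain ⟨l, hla, hlb, x, h1, h2⟩ := exists_common I (leOfHom fa) (leOfHom fb) xa xb h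
    exact ⟨⟨l⟩, homOfLE hla, homOfLE hlb, x, h1, h2⟩


lemma isOpenCover_W : TopologicalSpace.IsOpenCover (fun a : Idx I => I.W a.i) := by
  rw [TopologicalSpace.IsOpenCover, eq_top_iff]
  intro u _
  obtain ⟨i, hi⟩ := I.cover u
  exact TopologicalSpace.Opens.mem_iSup.mpr ⟨⟨i⟩, hi⟩

/-- the open cover of `U` by the `W i`. -/
noncomputable def cov : U.OpenCover :=
  U.openCoverOfIsOpenCover (fun a : Idx I => I.W a.i) (isOpenCover_W I)

instance : Preorder (cov I).I₀ := inferInstanceAs (Preorder (Idx I))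

noncomputable instance : (cov I).LocallyDirected where
  trans {a b} hab := U.homOfLE (leOfHom hab : I.W a.i ≤ I.W b.i)
  trans_id a := by
    show U.homOfLE _ = 𝟙 _
    rw [← cancel_mono (I.W a.i).ι]
    simp
  trans_comp {a b c} hab hbc := by
    show U.homOfLE _ = U.homOfLE _ ≫ U.homOfLE _
    rw [← cancel_mono (I.W c.i).ι]
    simp
  w {a b} hab := by
    show U.homOfLE _ ≫ (I.W b.i).ι = (I.W a.i).ι
    simp
  property_trans {a b} hab := by
    show IsOpenImmersion (U.homOfLE (leOfHom hab : I.W a.i ≤ I.W b.i))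
    infer_instance
  directed {a b} x := by
    let u : U := (pullback.fst ((cov I).f a) ((cov I).f b) ≫ (cov I).f a) x
    have hua : u ∈ I.W a.i := by
      have : u ∈ Set.range ((cov I).f a) := ⟨pullback.fst ((cov I).f a) ((cov I).f b) x, rfl⟩
      have h2 : Set.range ((cov I).f a) = I.W a.i := (I.W a.i).range_ι
      rw [h2] at this
      exact this
    have hub : u ∈ I.W b.i := by
      have : u ∈ Set.range ((cov I).f b) :=
        ⟨pullback.snd ((cov I).f a) ((cov I).f b) x, by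
          show (pullback.snd ((cov I).f a) ((cov I).f b) ≫ (cov I).f b) x = u
          rw [← pullback.condition]⟩
      have h2 : Set.range ((cov I).f b) = I.W b.i := (I.W b.i).range_ι
      rw [h2] at this
      exact this
    obtain ⟨l, hul, hla, hlb⟩ := I.directed a.i b.i u hua hub
    refine ⟨⟨l⟩, homOfLE hla, homOfLE hlb, (⟨u, hul⟩ : I.W l), ?_⟩
    apply (pullback.fst ((cov I).f a) ((cov I).f b) ≫ (cov I).f a).isOpenEmbedding.injective
    rw [← Scheme.Hom.comp_apply, pullback.lift_fst_assoc]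
    show (U.homOfLE hla ≫ (I.W a.i).ι) (⟨u, hul⟩ : I.W l) = u
    rw [Scheme.homOfLE_ι]
    rfl


/-- the glued quotient. -/
noncomputable def Yglue : Scheme.{u} := colimit (F I)

/-- the inclusions of the local quotients. -/
noncomputable def ιglue (i : I.ι) : I.Y i ⟶ Yglue I := colimit.ι (F I) ⟨i⟩

instance (i : I.ι) : IsOpenImmersion (ιglue I i) :=
  inferInstanceAs (IsOpenImmersion (colimit.ι (F I) ⟨i⟩))

lemma ι_j {i i' : I.ι} (h : I.W i ≤ I.W i') : I.j h ≫ ιglue I i' = ιglue I i :=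
  colimit.w (F I) (homOfLE h : (⟨i⟩ : Idx I) ⟶ ⟨i'⟩)

lemma pglue_compat {a b : (cov I).I₀} (hab : a ⟶ b) :
    (cov I).trans hab ≫ I.q b.i ≫ ιglue I b.i = I.q a.i ≫ ιglue I a.i := by
  show U.homOfLE (leOfHom hab : I.W a.i ≤ I.W b.i) ≫ I.q b.i ≫ ιglue I b.i =
    I.q a.i ≫ ιglue I a.i
  rw [← Category.assoc, I.comm, Category.assoc, ι_j]

/-- the glued quotient map. -/
noncomputable def pglue : U ⟶ Yglue I :=
  (cov I).glueMorphismsOfLocallyDirected (fun a => I.q a.i ≫ ιglue I a.i)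
    (fun hab => pglue_compat I hab)

lemma ι_pglue (i : I.ι) : (I.W i).ι ≫ pglue I = I.q i ≫ ιglue I i :=
  (cov I).map_glueMorphismsOfLocallyDirected (fun a => I.q a.i ≫ ιglue I a.i)
    (fun hab => pglue_compat I hab) ⟨i⟩

lemma pglue_apply {i : I.ι} (u : I.W i) : pglue I (u : U) = ιglue I i (I.q i u) := by
  have := congrArg (fun φ : (I.W i : Scheme.{u}) ⟶ Yglue I => φ u) (ι_pglue I i)
  simpa [Scheme.Hom.comp_apply] using this

lemma ιglue_eq_iff {i i' : I.ι} (y : I.Y i) (y' : I.Y i') :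
    ιglue I i y = ιglue I i' y' ↔
      ∃ (l : I.ι) (hl : I.W l ≤ I.W i) (hl' : I.W l ≤ I.W i') (x : I.Y l),
        I.j hl x = y ∧ I.j hl' x = y' := by
  constructor
  · intro h
    obtain ⟨k, fi, fj, x, h1, h2⟩ :=
      (Scheme.IsLocallyDirected.ι_eq_ι_iff (F I) (i := ⟨i⟩) (j := ⟨i'⟩)).mp h
    exact ⟨k.i, leOfHom fi, leOfHom fj, x, h1, h2⟩
  · rintro ⟨l, hl, hl', x, rfl, rfl⟩
    rw [← Scheme.Hom.comp_apply, ← Scheme.Hom.comp_apply, ι_j, ι_j]

/-- saturation: `p ⁻¹ (Y i) = W i`. -/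
lemma pglue_mem_range_iff (i : I.ι) (u : U) :
    pglue I u ∈ Set.range (ιglue I i) ↔ u ∈ I.W i := by
  constructor
  · rintro ⟨y, hy⟩
    obtain ⟨i', hi'⟩ := I.cover u
    have h1 := pglue_apply I (⟨u, hi'⟩ : I.W i')
    rw [← hy] at h1
    obtain ⟨l, hl, hl', x, hx1, hx2⟩ := (ιglue_eq_iff I _ _).mp h1
    exact hl (I.sat hl' ⟨u, hi'⟩ ⟨x, hx2⟩)
  · intro hu
    exact ⟨I.q i ⟨u, hu⟩, (pglue_apply I (⟨u, hu⟩ : I.W i)).symm⟩


lemma isPullback_glue (i : I.ι) : IsPullback (I.W i).ι (I.q i) (pglue I) (ιglue I i) := by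
  refine (IsOpenImmersion.isPullback (I.q i) (I.W i).ι (ιglue I i) (pglue I) (ι_pglue I i) ?_).flip
  ext u
  have h1 : u ∈ (pglue I ⁻¹ᵁ (ιglue I i).opensRange) ↔ pglue I u ∈ Set.range (ιglue I i) :=
    Iff.rfl
  have h2 : u ∈ (I.W i).ι.opensRange ↔ u ∈ I.W i := by
    rw [Scheme.Opens.opensRange_ι]
  show u ∈ (pglue I ⁻¹ᵁ (ιglue I i).opensRange) ↔ u ∈ (I.W i).ι.opensRange
  rw [h1, h2, pglue_mem_range_iff]

/-- **Package GL.** -/
theorem glStmt : GLStmt.{u} := by
  intro U I
  refine ⟨{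
    Y := Yglue I
    p := pglue I
    ι := ιglue I
    ι_open := fun i => inferInstance
    ι_j := fun h => ι_j I h
    isPullback := isPullback_glue I
    cover := ?_
    desc := ?_ }⟩
  · intro y
    obtain ⟨a, x, hx⟩ := Scheme.IsLocallyDirected.ι_jointly_surjective (F I) y
    exact ⟨a.i, x, hx⟩
  · intro Z g hg
    let c : Cocone (F I) :=
      { pt := Z
        ι := { app := fun a => g a.i
               naturality := fun a b f => by
                 show I.j (leOfHom f) ≫ g b.i = g a.i ≫ 𝟙 Z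
                 rw [hg, Category.comp_id] } }
    refine ⟨colimit.desc (F I) c, fun i => colimit.ι_desc c ⟨i⟩, ?_⟩
    intro g' hg'
    apply colimit.hom_ext
    intro a
    rw [colimit.ι_desc]
    exact hg' a.i

end Groth.Agent.R2.H96.GrpdGL
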