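import Mathlib
import Groth.Prelude.Def_Grpd
import Groth.Agent.R2.H33GrpdOrbit
import Groth.Agent.R2.H53GrpdBasic
import Groth.Agent.R2.H53GrpdRestr
import Groth.Agent.R2.H53GrpdGlueSpec
import Groth.Agent.R2.H53GrpdAE
import Groth.Agent.R2.H53GrpdAO
import Groth.Agent.R2.H96GrpdGL

set_option autoImplicit false
set_option linter.unusedSectionVars false
set_option linter.style.haveILetI false
universe u

open CategoryTheory CategoryTheory.Limits AlgebraicGeometry TopologicalSpace
open Groth.Agent.R2.H33.GrpdOrbit Groth.Agent.R2.H33.GrpdInvOpen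
open Groth.Agent.R2.H53.GrpdBasic Groth.Agent.R2.H53.GrpdRestr Groth.Agent.R2.H53.GrpdGlue
open Groth.Agent.R2.H53.GrpdAE Groth.Agent.R2.H53.GrpdAO

namespace Groth.Agent.R2.H53.GrpdASM

variable {S : Scheme.{u}} (G : Grpd.GroupoidScheme S)

/-- the invariant affine opens of `U`. -/
structure InvAff : Type u where
  /-- the open -/
  W : G.U.Opens
  aff : IsAffineOpen W
  inv : G.s ⁻¹ᵁ W = G.t ⁻¹ᵁ W

variable {G}

/-- the restriction of `G` to an invariant affine open. -/
noncomputable abbrev GW (W : InvAff G) : Grpd.GroupoidScheme S := restrictOpen G W.W W.inv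

variable [IsFinite G.s] [Flat G.s] [LocallyOfFinitePresentation G.s]

instance (W : InvAff G) : IsAffine (GW W).U := isAffine_restrictOpen_U G W.W W.inv W.aff
instance (W : InvAff G) : IsAffine (GW W).R := isAffine_restrictOpen_R G W.W W.inv W.aff
instance (W : InvAff G) : IsFinite (GW W).s := restrictOpen_s_prop G W.W W.inv @IsFinite inferInstance
instance (W : InvAff G) : Flat (GW W).s := restrictOpen_s_prop G W.W W.inv @Flat inferInstance
instance (W : InvAff G) : LocallyOfFinitePresentation (GW W).s :=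
  restrictOpen_s_prop G W.W W.inv @LocallyOfFinitePresentation inferInstance
instance (W : InvAff G) : IsFinite (GW W).t := t_prop_of_s (GW W) @IsFinite inferInstance
instance (W : InvAff G) : Flat (GW W).t := t_prop_of_s (GW W) @Flat inferInstance
instance (W : InvAff G) : LocallyOfFinitePresentation (GW W).t :=
  t_prop_of_s (GW W) @LocallyOfFinitePresentation inferInstance

/-- the morphism of restrictions for `W ≤ W'`. -/
noncomputable abbrev GWHom {W W' : InvAff G} (h : W.W ≤ W'.W) :
    Grpd.GroupoidScheme.Hom (GW W) (GW W') := restrictOpenHom G W.inv W'.inv h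

instance {W W' : InvAff G} (h : W.W ≤ W'.W) : IsOpenImmersion (GWHom h).fU := by
  show IsOpenImmersion (G.U.homOfLE h)
  infer_instance

theorem ao_GWHom {W W' : InvAff G} (h : W.W ≤ W'.W) :
    IsOpenImmersion (quotMap (GWHom h)) ∧
      ∀ u : (GW W').U, (GW W').toQuot u ∈ Set.range (quotMap (GWHom h)) ↔
        u ∈ Set.range (GWHom h).fU :=
  aoStmt (GW W) (GW W') (GWHom h) (isPullback_restrictOpenHom_s G W.inv W'.inv h)
    (isPullback_restrictOpenHom_t G W.inv W'.inv h)

variable (G) in
/-- the gluing input of the local quotients. -/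
noncomputable def glueInput
    (hcov : ∀ u : G.U, ∃ W : G.U.Opens, IsAffineOpen W ∧ u ∈ W ∧ G.s ⁻¹ᵁ W = G.t ⁻¹ᵁ W) :
    GlueInput G.U where
  ι := InvAff G
  W := fun W => W.W
  Y := fun W => Spec (CommRingCat.of (GW W).invariants)
  q := fun W => (GW W).toQuot
  q_surj := fun W => toQuot_surjective (GW W)
  j := fun {W W'} h => quotMap (GWHom h)
  j_open := fun {W W'} h => (ao_GWHom h).1
  j_id := fun W => quotMap_eq_id_of_fU _ (by
    show G.U.homOfLE (le_refl W.W) = 𝟙 _
    exact Scheme.homOfLE_rfl _ _)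
  j_comp := fun {W W' W''} h h' => quotMap_comp_of_fU _ _ _ (by
    show G.U.homOfLE (h.trans h') = G.U.homOfLE h ≫ G.U.homOfLE h'
    exact (Scheme.homOfLE_homOfLE _ _ _).symm)
  comm := fun {W W'} h => (toQuot_quotMap (GWHom h)).symm
  sat := fun {W W'} h u hu => by
    obtain ⟨v, hv⟩ := ((ao_GWHom h).2 u).mp hu
    have hv' : G.U.homOfLE h v = u := hv
    rw [← hv']
    show ((G.U.homOfLE h v).1 : G.U) ∈ W.W
    rw [Scheme.homOfLE_apply]
    exact v.2
  cover := fun u => by
    obtain ⟨W, hW, huW, hinv⟩ := hcov u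
    exact ⟨⟨W, hW, hinv⟩, huW⟩
  directed := fun W W' u hu hu' => by
    obtain ⟨W₀, hW₀, huW₀, hinv, hle⟩ := exists_invariant_affine_open_le G u W.W W.aff W'.W
      (fun r hr => ⟨t_mem_of_invariant G W.W W.inv r (by rw [hr]; exact hu),
        t_mem_of_invariant G W'.W W'.inv r (by rw [hr]; exact hu')⟩)
    exact ⟨⟨W₀, hW₀, hinv⟩, huW₀, hle.trans inf_le_left, hle.trans inf_le_right⟩

end Groth.Agent.R2.H53.GrpdASM
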