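import Mathlib
import Groth.Agent.R2.H53GrpdASM1

set_option autoImplicit false
set_option linter.unusedSectionVars false
set_option linter.style.haveILetI false
universe u

open CategoryTheory CategoryTheory.Limits AlgebraicGeometry TopologicalSpace
open Groth.Agent.R2.H33.GrpdOrbit Groth.Agent.R2.H33.GrpdInvOpen
open Groth.Agent.R2.H53.GrpdBasic Groth.Agent.R2.H53.GrpdRestr Groth.Agent.R2.H53.GrpdGlue
open Groth.Agent.R2.H53.GrpdAE Groth.Agent.R2.H53.GrpdAO

namespace Groth.Agent.R2.H53.GrpdASM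

variable {S : Scheme.{u}} (G : Grpd.GroupoidScheme S)

/-- inclusion of the objects of the restriction -/
noncomputable abbrev iU (W : InvAff G) : (GW W).U ⟶ G.U := (restrictOpenι G W.W W.inv).fU
/-- inclusion of the arrows of the restriction -/
noncomputable abbrev iR (W : InvAff G) : (GW W).R ⟶ G.R := (restrictOpenι G W.W W.inv).fR

instance (W : InvAff G) : IsOpenImmersion (iU G W) := by
  show IsOpenImmersion W.W.ι
  infer_instance
instance (W : InvAff G) : IsOpenImmersion (iR G W) := by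
  show IsOpenImmersion (G.s ⁻¹ᵁ W.W).ι
  infer_instance

theorem range_iU (W : InvAff G) : Set.range (iU G W) = (W.W : Set G.U) := by
  show Set.range W.W.ι = _
  exact Scheme.Opens.range_ι _

theorem range_iR (W : InvAff G) : Set.range (iR G W) = G.s ⁻¹' (W.W : Set G.U) := by
  show Set.range (G.s ⁻¹ᵁ W.W).ι = _
  exact Scheme.Opens.range_ι _

theorem iR_t (W : InvAff G) : iR G W ≫ G.t = (GW W).t ≫ iU G W :=
  (restrictOpenι G W.W W.inv).comm_t

theorem iR_s (W : InvAff G) : iR G W ≫ G.s = (GW W).s ≫ iU G W :=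
  (restrictOpenι G W.W W.inv).comm_s

variable [IsFinite G.s] [Flat G.s] [LocallyOfFinitePresentation G.s]
  (hcov : ∀ u : G.U, ∃ W : G.U.Opens, IsAffineOpen W ∧ u ∈ W ∧ G.s ⁻¹ᵁ W = G.t ⁻¹ᵁ W)

/-- the glued quotient data. -/
noncomputable def out : GlueOutput (glueInput G hcov) :=
  (Groth.Agent.R2.H96.GrpdGL.glStmt G.U (glueInput G hcov)).some

/-- the quotient scheme. -/
noncomputable abbrev Q : Scheme.{u} := (out G hcov).Y

/-- the quotient morphism. -/
noncomputable abbrev p : G.U ⟶ Q G hcov := (out G hcov).p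

/-- the local charts of the quotient. -/
noncomputable abbrev ιQ (W : InvAff G) : Spec (CommRingCat.of (GW W).invariants) ⟶ Q G hcov :=
  (out G hcov).ι W

instance (W : InvAff G) : IsOpenImmersion (ιQ G hcov W) := (out G hcov).ι_open W

theorem isPullback_chart (W : InvAff G) :
    IsPullback (iU G W) (GW W).toQuot (p G hcov) (ιQ G hcov W) := (out G hcov).isPullback W

theorem chart_comm (W : InvAff G) : iU G W ≫ p G hcov = (GW W).toQuot ≫ ιQ G hcov W :=
  (isPullback_chart G hcov W).w

include hcov in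
theorem exists_chart (u : G.U) : ∃ W : InvAff G, u ∈ W.W := by
  obtain ⟨W, hW, huW, hinv⟩ := hcov u
  exact ⟨⟨W, hW, hinv⟩, huW⟩

/-- `p` coequalizes `t` and `s`. -/
theorem t_p : G.t ≫ p G hcov = G.s ≫ p G hcov := by
  apply Scheme.hom_ext_of_forall
  intro r
  obtain ⟨W, hW⟩ := exists_chart G hcov (G.s r)
  refine ⟨G.s ⁻¹ᵁ W.W, hW, ?_⟩
  show iR G W ≫ G.t ≫ p G hcov = iR G W ≫ G.s ≫ p G hcov
  rw [← Category.assoc, ← Category.assoc, iR_t, iR_s, Category.assoc, Category.assoc, chart_comm,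
    ← Category.assoc, ← Category.assoc, t_toQuot]

end Groth.Agent.R2.H53.GrpdASM
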