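import Mathlib
import Groth.Agent.R2.H53GrpdASM2

set_option autoImplicit false
set_option linter.unusedSectionVars false
set_option linter.style.haveILetI false
universe u

open CategoryTheory CategoryTheory.Limits AlgebraicGeometry TopologicalSpace
open Groth.Agent.R2.H33.GrpdOrbit Groth.Agent.R2.H33.GrpdInvOpen
open Groth.Agent.R2.H53.GrpdBasic Groth.Agent.R2.H53.GrpdRestr Groth.Agent.R2.H53.GrpdGlue
open Groth.Agent.R2.H53.GrpdAE Groth.Agent.R2.H53.GrpdAO

namespace Groth.Agent.R2.H53.GrpdASM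

variable {S : Scheme.{u}} (G : Grpd.GroupoidScheme S)
variable [IsFinite G.s] [Flat G.s] [LocallyOfFinitePresentation G.s]
  (hcov : ∀ u : G.U, ∃ W : G.U.Opens, IsAffineOpen W ∧ u ∈ W ∧ G.s ⁻¹ᵁ W = G.t ⁻¹ᵁ W)

theorem p_iU_apply (W : InvAff G) (w : (GW W).U) :
    p G hcov (iU G W w) = ιQ G hcov W ((GW W).toQuot w) := by
  have := congrArg (fun φ : (GW W).U ⟶ Q G hcov => φ w) (chart_comm G hcov W)
  simp only [Scheme.Hom.comp_apply] at this
  exact this

omit [IsFinite G.s] [Flat G.s] [LocallyOfFinitePresentation G.s] in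
theorem exists_iU_eq (W : InvAff G) (u : G.U) (hu : u ∈ W.W) : ∃ w : (GW W).U, iU G W w = u := by
  have : u ∈ Set.range (iU G W) := by rw [range_iU]; exact hu
  exact this

omit [IsFinite G.s] [Flat G.s] [LocallyOfFinitePresentation G.s] in
theorem exists_iR_eq (W : InvAff G) (r : G.R) (hr : G.s r ∈ W.W) : ∃ r' : (GW W).R, iR G W r' = r := by
  have : r ∈ Set.range (iR G W) := by rw [range_iR]; exact hr
  exact this

omit [IsFinite G.s] [Flat G.s] [LocallyOfFinitePresentation G.s] in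
theorem iU_t_apply (W : InvAff G) (r' : (GW W).R) : iU G W ((GW W).t r') = G.t (iR G W r') := by
  have := congrArg (fun φ : (GW W).R ⟶ G.U => φ r') (iR_t G W)
  simp only [Scheme.Hom.comp_apply] at this
  exact this.symm

omit [IsFinite G.s] [Flat G.s] [LocallyOfFinitePresentation G.s] in
theorem iU_s_apply (W : InvAff G) (r' : (GW W).R) : iU G W ((GW W).s r') = G.s (iR G W r') := by
  have := congrArg (fun φ : (GW W).R ⟶ G.U => φ r') (iR_s G W)
  simp only [Scheme.Hom.comp_apply] at this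
  exact this.symm

theorem p_surjective : Function.Surjective (p G hcov) := by
  intro y
  obtain ⟨W, y', rfl⟩ := (out G hcov).cover y
  obtain ⟨w, rfl⟩ := toQuot_surjective (GW W) y'
  exact ⟨iU G W w, p_iU_apply G hcov W w⟩

theorem exists_of_p_mem_range (W : InvAff G) (u : G.U) (y' : Spec (CommRingCat.of (GW W).invariants))
    (h : p G hcov u = ιQ G hcov W y') : ∃ w : (GW W).U, iU G W w = u ∧ (GW W).toQuot w = y' :=
  Scheme.exists_preimage_of_isPullback (isPullback_chart G hcov W) u y' h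

theorem isOpenMap_p : IsOpenMap (p G hcov) := by
  intro V hV
  rw [isOpen_iff_forall_mem_open]
  rintro _ ⟨u, huV, rfl⟩
  obtain ⟨W, hW⟩ := exists_chart G hcov u
  obtain ⟨w, rfl⟩ := exists_iU_eq G W u hW
  refine ⟨ιQ G hcov W '' ((GW W).toQuot '' (iU G W ⁻¹' V)), ?_, ?_, ?_⟩
  · rintro _ ⟨_, ⟨w', hw', rfl⟩, rfl⟩
    exact ⟨iU G W w', hw', p_iU_apply G hcov W w'⟩
  · exact (ιQ G hcov W).isOpenEmbedding.isOpenMap _
      (isOpenMap_toQuot (GW W) _ (hV.preimage (iU G W).continuous))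
  · exact ⟨_, ⟨w, huV, rfl⟩, (p_iU_apply G hcov W w).symm⟩

theorem p_eq_iff (x y : G.U) :
    p G hcov x = p G hcov y ↔ ∃ r : G.R, G.t r = x ∧ G.s r = y := by
  constructor
  · intro h
    obtain ⟨W, hW⟩ := exists_chart G hcov x
    obtain ⟨w, rfl⟩ := exists_iU_eq G W x hW
    rw [p_iU_apply] at h
    obtain ⟨w', rfl, hw'⟩ := exists_of_p_mem_range G hcov W y _ h.symm
    obtain ⟨r', hr1, hr2⟩ := (toQuot_eq_iff (GW W) w w').mp hw'.symm
    refine ⟨iR G W r', ?_, ?_⟩
    · rw [← iU_t_apply, hr1]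
    · rw [← iU_s_apply, hr2]
  · rintro ⟨r, rfl, rfl⟩
    have := congrArg (fun φ : G.R ⟶ Q G hcov => φ r) (t_p G hcov)
    simp only [Scheme.Hom.comp_apply] at this
    exact this

end Groth.Agent.R2.H53.GrpdASM
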