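import Mathlib
import Groth.Agent.R2.H53GrpdASM3

set_option autoImplicit false
set_option linter.unusedSectionVars false
set_option linter.style.haveILetI false
universe u

open CategoryTheory CategoryTheory.Limits AlgebraicGeometry TopologicalSpace
open Groth.Agent.R2.H33.GrpdOrbit Groth.Agent.R2.H33.GrpdInvOpen
open Groth.Agent.R2.H53.GrpdBasic Groth.Agent.R2.H53.GrpdRestr Groth.Agent.R2.H53.GrpdGlue
open Groth.Agent.R2.H53.GrpdAE Groth.Agent.R2.H53.GrpdAO

namespace Groth.Agent.R2.H53.GrpdASM

variable {S : Scheme.{u}} (G : Grpd.GroupoidScheme S)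
variable [IsFinite G.s] [Flat G.s] [LocallyOfFinitePresentation G.s]
  (hcov : ∀ u : G.U, ∃ W : G.U.Opens, IsAffineOpen W ∧ u ∈ W ∧ G.s ⁻¹ᵁ W = G.t ⁻¹ᵁ W)

/-- the open cover of the quotient by the local quotients -/
noncomputable def coverQ : (Q G hcov).OpenCover where
  I₀ := InvAff G
  X W := Spec (CommRingCat.of (GW W).invariants)
  f W := ιQ G hcov W
  mem₀ := by
    rw [Scheme.presieve₀_mem_precoverage_iff]
    exact ⟨fun y => (out G hcov).cover y, fun W => inferInstance⟩

/-- properties local on the target pass from the local quotients to `p`. -/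
theorem prop_p (P : MorphismProperty Scheme.{u}) [IsZariskiLocalAtTarget P]
    (h : ∀ W : InvAff G, P (GW W).toQuot) : P (p G hcov) := by
  apply IsZariskiLocalAtTarget.of_openCover (coverQ G hcov)
  intro W
  have h1 := (isPullback_chart G hcov W).isoPullback_hom_snd
  have h2 : P ((isPullback_chart G hcov W).isoPullback.hom ≫
      pullback.snd (p G hcov) (ιQ G hcov W)) := by
    rw [h1]
    exact h W
  exact (P.cancel_left_of_respectsIso _ _).mp h2

theorem isIntegralHom_p : IsIntegralHom (p G hcov) :=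
  prop_p G hcov @IsIntegralHom (fun W => isIntegralHom_toQuot (GW W))

end Groth.Agent.R2.H53.GrpdASM

namespace Groth.Agent.R2.H53.GrpdASM

variable {S : Scheme.{u}} (G : Grpd.GroupoidScheme S)
variable [IsFinite G.s] [Flat G.s] [LocallyOfFinitePresentation G.s]
  (hcov : ∀ u : G.U, ∃ W : G.U.Opens, IsAffineOpen W ∧ u ∈ W ∧ G.s ⁻¹ᵁ W = G.t ⁻¹ᵁ W)

/-- the comparison of the local fibre square with the global one -/
noncomputable abbrev mapPB (W : InvAff G) :
    pullback (GW W).toQuot (GW W).toQuot ⟶ pullback (p G hcov) (p G hcov) :=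
  pullback.map (GW W).toQuot (GW W).toQuot (p G hcov) (p G hcov) (iU G W) (iU G W) (ιQ G hcov W)
    (chart_comm G hcov W).symm (chart_comm G hcov W).symm

theorem iR_lift (W : InvAff G) (w : G.t ≫ p G hcov = G.s ≫ p G hcov) :
    iR G W ≫ pullback.lift G.t G.s w =
      pullback.lift (GW W).t (GW W).s (t_toQuot (GW W)) ≫ mapPB G hcov W := by
  apply pullback.hom_ext
  · rw [Category.assoc, pullback.lift_fst, Category.assoc, pullback.lift_fst, pullback.lift_fst_assoc,
      iR_t]
  · rw [Category.assoc, pullback.lift_snd, Category.assoc, pullback.lift_snd, pullback.lift_snd_assoc,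
      iR_s]

theorem surjective_lift_p (w : G.t ≫ p G hcov = G.s ≫ p G hcov) :
    Function.Surjective (pullback.lift G.t G.s w : G.R ⟶ pullback (p G hcov) (p G hcov)) := by
  intro z
  have hxy : p G hcov (pullback.fst (p G hcov) (p G hcov) z) =
      p G hcov (pullback.snd (p G hcov) (p G hcov) z) := by
    have := congrArg (fun φ : pullback (p G hcov) (p G hcov) ⟶ Q G hcov => φ z)
      (pullback.condition (f := p G hcov) (g := p G hcov))
    simp only [Scheme.Hom.comp_apply] at this
    exact this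
  obtain ⟨W, hW⟩ := exists_chart G hcov (pullback.fst (p G hcov) (p G hcov) z)
  obtain ⟨wx, hwx⟩ := exists_iU_eq G W _ hW
  obtain ⟨wy, hwy, -⟩ := exists_of_p_mem_range G hcov W (pullback.snd (p G hcov) (p G hcov) z)
    ((GW W).toQuot wx) (by rw [← hxy, ← hwx, p_iU_apply])
  have hz : z ∈ Set.range (mapPB G hcov W) := by
    rw [Scheme.Pullback.range_map]
    exact ⟨⟨wx, hwx⟩, ⟨wy, hwy⟩⟩
  obtain ⟨z', rfl⟩ := hz
  obtain ⟨r', rfl⟩ := surjective_lift (GW W) (t_toQuot (GW W)) z'
  refine ⟨iR G W r', ?_⟩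
  have := congrArg (fun φ : (GW W).R ⟶ pullback (p G hcov) (p G hcov) => φ r') (iR_lift G hcov W w)
  simp only [Scheme.Hom.comp_apply] at this
  exact this

end Groth.Agent.R2.H53.GrpdASM
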