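import Mathlib
import Groth.Agent.R2.H53GrpdASM4

set_option autoImplicit false
set_option linter.unusedSectionVars false
set_option linter.style.haveILetI false
universe u

open CategoryTheory CategoryTheory.Limits AlgebraicGeometry TopologicalSpace
open Groth.Agent.R2.H33.GrpdOrbit Groth.Agent.R2.H33.GrpdInvOpen
open Groth.Agent.R2.H53.GrpdBasic Groth.Agent.R2.H53.GrpdRestr Groth.Agent.R2.H53.GrpdGlue
open Groth.Agent.R2.H53.GrpdAE Groth.Agent.R2.H53.GrpdAO

namespace Groth.Agent.R2.H53.GrpdASM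

variable {S : Scheme.{u}} (G : Grpd.GroupoidScheme S)
variable [IsFinite G.s] [Flat G.s] [LocallyOfFinitePresentation G.s]
  (hcov : ∀ u : G.U, ∃ W : G.U.Opens, IsAffineOpen W ∧ u ∈ W ∧ G.s ⁻¹ᵁ W = G.t ⁻¹ᵁ W)

omit [IsFinite G.s] [Flat G.s] [LocallyOfFinitePresentation G.s] in
theorem fU_iU {W W' : InvAff G} (h : W.W ≤ W'.W) : (GWHom h).fU ≫ iU G W' = iU G W :=
  Scheme.homOfLE_ι G.U h

/-- the universal property of `p`. -/
theorem existsUnique_desc (hAC : ACStmt.{u}) {Z : Scheme.{u}} (h : G.U ⟶ Z)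
    (hh : G.t ≫ h = G.s ≫ h) : ∃! g : Q G hcov ⟶ Z, p G hcov ≫ g = h := by
  have hW : ∀ W : InvAff G, (GW W).s ≫ (iU G W ≫ h) = (GW W).t ≫ (iU G W ≫ h) := by
    intro W
    rw [← Category.assoc, ← iR_s, ← Category.assoc, ← iR_t, Category.assoc, Category.assoc, hh]
  choose gW hgW using fun W => hAC (GW W) (iU G W ≫ h) (hW W)
  have compat : ∀ {W W' : InvAff G} (hle : (glueInput G hcov).W W ≤ (glueInput G hcov).W W'),
      (glueInput G hcov).j hle ≫ gW W' = gW W := by
    intro W W' hle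
    apply toQuot_epi (GW W)
    show (GW W).toQuot ≫ quotMap (GWHom hle) ≫ gW W' = (GW W).toQuot ≫ gW W
    rw [← Category.assoc, toQuot_quotMap, Category.assoc, hgW, hgW, ← Category.assoc, fU_iU]
  obtain ⟨g, hg, huniq⟩ := (out G hcov).desc gW compat
  refine ⟨g, ?_, ?_⟩
  · apply Scheme.hom_ext_of_forall
    intro u
    obtain ⟨W, hu⟩ := exists_chart G hcov u
    refine ⟨W.W, hu, ?_⟩
    show iU G W ≫ p G hcov ≫ g = iU G W ≫ h
    rw [← Category.assoc, chart_comm, Category.assoc]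
    have e : ιQ G hcov W ≫ g = gW W := hg W
    rw [e, hgW]
  · intro g' hg'
    apply huniq
    intro W
    apply toQuot_epi (GW W)
    have e : (GW W).toQuot ≫ (out G hcov).ι W ≫ g' = (GW W).toQuot ≫ gW W := by
      rw [← Category.assoc, ← chart_comm, Category.assoc, hg', hgW]
    exact e

/-- `p` is a coequalizer of `(t, s)` in schemes. -/
noncomputable def isColimit_p (hAC : ACStmt.{u}) (w : G.t ≫ p G hcov = G.s ≫ p G hcov) :
    IsColimit (Cofork.ofπ (p G hcov) w) :=
  Cofork.IsColimit.mk' _ (fun c => by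
    have h := existsUnique_desc G hcov hAC c.π c.condition
    exact ⟨h.exists.choose, h.exists.choose_spec, fun {m} hm =>
      h.unique hm h.exists.choose_spec⟩)

end Groth.Agent.R2.H53.GrpdASM
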