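import Mathlib
import Groth.Agent.R2.H53GrpdASM5
import Groth.Agent.S1877

set_option autoImplicit false
set_option linter.unusedSectionVars false
set_option linter.style.haveILetI false
universe u

open CategoryTheory CategoryTheory.Limits AlgebraicGeometry TopologicalSpace
open Groth.Agent.R2.H33.GrpdOrbit Groth.Agent.R2.H33.GrpdInvOpen
open Groth.Agent.R2.H53.GrpdBasic Groth.Agent.R2.H53.GrpdRestr Groth.Agent.R2.H53.GrpdGlue
open Groth.Agent.R2.H53.GrpdAE Groth.Agent.R2.H53.GrpdAO

namespace Groth.Agent.R2.H53.GrpdASM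

variable {S : Scheme.{u}} (G : Grpd.GroupoidScheme S)
variable [IsFinite G.s] [Flat G.s] [LocallyOfFinitePresentation G.s]
  (hcov : ∀ u : G.U, ∃ W : G.U.Opens, IsAffineOpen W ∧ u ∈ W ∧ G.s ⁻¹ᵁ W = G.t ⁻¹ᵁ W)

/-- the quotient of an affine scheme is affine -/
theorem isAffine_Q [IsAffine G.U] : IsAffine (Q G hcov) := by
  let W₀ : InvAff G := ⟨⊤, isAffineOpen_top G.U, rfl⟩
  have hsurj : Surjective (ιQ G hcov W₀) := by
    constructor
    intro y
    obtain ⟨u, rfl⟩ := p_surjective G hcov y
    obtain ⟨w, rfl⟩ := exists_iU_eq G W₀ u trivial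
    exact ⟨(GW W₀).toQuot w, (p_iU_apply G hcov W₀ w).symm⟩
  have : IsIso (ιQ G hcov W₀) :=
    (isIso_iff_isOpenImmersion_and_surjective _).mpr ⟨inferInstance, hsurj⟩
  exact IsAffine.of_isIso (inv (ιQ G hcov W₀))

section Free
variable [Mono G.j]

instance (W : InvAff G) : Mono (GW W).j := mono_j_restrictOpen G W.W W.inv

theorem local_free (W : InvAff G) :
    (IsFinite (GW W).toQuot ∧ Flat (GW W).toQuot ∧ LocallyOfFinitePresentation (GW W).toQuot) ∧
    ∃ φ : (GW W).R ≅ pullback (GW W).toQuot (GW W).toQuot,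
      φ.hom ≫ pullback.fst (GW W).toQuot (GW W).toQuot = (GW W).t ∧
      φ.hom ≫ pullback.snd (GW W).toQuot (GW W).toQuot = (GW W).s :=
  Groth.Agent.S1877.result S (GW W)

theorem isFinite_p : IsFinite (p G hcov) :=
  prop_p G hcov @IsFinite (fun W => (local_free G W).1.1)

theorem flat_p : Flat (p G hcov) :=
  prop_p G hcov @Flat (fun W => (local_free G W).1.2.1)

theorem lfp_p : LocallyOfFinitePresentation (p G hcov) :=
  prop_p G hcov @LocallyOfFinitePresentation (fun W => (local_free G W).1.2.2)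

theorem isIso_lift_W (W : InvAff G) :
    IsIso (pullback.lift (GW W).t (GW W).s (t_toQuot (GW W))) := by
  obtain ⟨φ, h1, h2⟩ := (local_free G W).2
  have : pullback.lift (GW W).t (GW W).s (t_toQuot (GW W)) = φ.hom := by
    apply pullback.hom_ext
    · rw [pullback.lift_fst, h1]
    · rw [pullback.lift_snd, h2]
  rw [this]
  infer_instance

theorem isIso_lift_p (w : G.t ≫ p G hcov = G.s ≫ p G hcov) :
    IsIso (pullback.lift G.t G.s w : G.R ⟶ pullback (p G hcov) (p G hcov)) := by
  have hW : ∀ W : InvAff G, IsOpenImmersion (iR G W ≫ pullback.lift G.t G.s w) := by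
    intro W
    rw [iR_lift]
    have := isIso_lift_W G W
    infer_instance
  have hinj : Function.Injective (pullback.lift G.t G.s w : G.R ⟶ pullback (p G hcov) (p G hcov)) := by
    intro r₁ r₂ h12
    have hs : G.s r₁ = G.s r₂ := by
      have := congrArg (pullback.snd (p G hcov) (p G hcov)) h12
      rw [← Scheme.Hom.comp_apply, ← Scheme.Hom.comp_apply, pullback.lift_snd] at this
      exact this
    obtain ⟨W, hW1⟩ := exists_chart G hcov (G.s r₁)
    obtain ⟨r₁', rfl⟩ := exists_iR_eq G W r₁ hW1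
    obtain ⟨r₂', rfl⟩ := exists_iR_eq G W r₂ (hs ▸ hW1)
    congr 1
    have := hW W
    apply (iR G W ≫ pullback.lift G.t G.s w).isOpenEmbedding.injective
    simp only [Scheme.Hom.comp_apply]
    exact h12
  have hoi : IsOpenImmersion (pullback.lift G.t G.s w : G.R ⟶ pullback (p G hcov) (p G hcov)) := by
    apply IsOpenImmersion.of_forall_source_exists _ hinj
    intro r
    obtain ⟨W, hW1⟩ := exists_chart G hcov (G.s r)
    refine ⟨(GW W).R, iR G W, inferInstance, ?_, hW W⟩
    exact exists_iR_eq G W r hW1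
  exact (isIso_iff_isOpenImmersion_and_surjective _).mpr ⟨hoi, ⟨surjective_lift_p G hcov w⟩⟩

theorem isPullback_p (w : G.t ≫ p G hcov = G.s ≫ p G hcov) :
    IsPullback G.t G.s (p G hcov) (p G hcov) := by
  have := isIso_lift_p G hcov w
  exact IsPullback.of_iso_pullback ⟨w⟩ (asIso (pullback.lift G.t G.s w))
    (pullback.lift_fst _ _ _) (pullback.lift_snd _ _ _)

end Free

end Groth.Agent.R2.H53.GrpdASM
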