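import Mathlib
import Groth.Prelude.Def_Grpd
import Groth.Agent.R2.H53GrpdGlueSpec
import Groth.Agent.R2.H33GrpdOrbit

/-!
# PROJ:grpd-glue — package AC (helper86)

`acStmt (hAO : AOStmt) (hAE : AEStmt) : ACStmt`: for an affine groupoid with `s, t` finite locally
free, every morphism `h : U ⟶ Z` to an arbitrary scheme with `s ≫ h = t ≫ h` factors through
`toQuot : U ⟶ Spec (invariants)`.
-/

set_option autoImplicit false
set_option linter.unusedSectionVars false
universe u

open CategoryTheory CategoryTheory.Limits AlgebraicGeometry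
open Groth.Agent.R2.H53.GrpdRestr Groth.Agent.R2.H53.GrpdGlue Groth.Agent.R2.H33.GrpdOrbit

namespace Groth.Agent.R2.H86.GrpdAC

/-- two morphisms agree if they agree on open immersions covering the source. -/
theorem hom_ext_of_forall_openImm {X Y : Scheme.{u}} (f g : X ⟶ Y)
    (H : ∀ x : X, ∃ (T : Scheme.{u}) (j : T ⟶ X), IsOpenImmersion j ∧ x ∈ Set.range j ∧
      j ≫ f = j ≫ g) : f = g := by
  choose T j hj hx hfg using H
  let 𝒰 : X.OpenCover := {
    I₀ := X, X i := T i, f i := j i,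
    mem₀ := by
      rw [Scheme.presieve₀_mem_precoverage_iff]
      exact ⟨fun x ↦ ⟨x, hx x⟩, hj⟩ }
  exact 𝒰.hom_ext _ _ hfg

section
variable {S : Scheme.{u}} (G : Grpd.GroupoidScheme S)

/-- the invariant open of `U` above an open of the quotient. -/
noncomputable def WV (V : (Spec (CommRingCat.of G.invariants)).Opens) : G.U.Opens := G.toQuot ⁻¹ᵁ V

theorem hWV (V : (Spec (CommRingCat.of G.invariants)).Opens) :
    G.s ⁻¹ᵁ (WV G V) = G.t ⁻¹ᵁ (WV G V) := by
  unfold WV
  rw [← Scheme.Hom.comp_preimage, ← Scheme.Hom.comp_preimage, t_toQuot]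

/-- the restricted groupoid. -/
noncomputable def GV (V : (Spec (CommRingCat.of G.invariants)).Opens) : Grpd.GroupoidScheme S :=
  restrictOpen G (WV G V) (hWV G V)

noncomputable def fV (V : (Spec (CommRingCat.of G.invariants)).Opens) :
    Grpd.GroupoidScheme.Hom (GV G V) G :=
  restrictOpenι G (WV G V) (hWV G V)

lemma fV_fU (V : (Spec (CommRingCat.of G.invariants)).Opens) : (fV G V).fU = (WV G V).ι := rfl

noncomputable def fVV {V' V : (Spec (CommRingCat.of G.invariants)).Opens} (h : V' ≤ V) :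
    Grpd.GroupoidScheme.Hom (GV G V') (GV G V) :=
  restrictOpenHom G (hWV G V') (hWV G V) (G.toQuot.preimage_mono h)

end

section Affine
variable {S : Scheme.{u}} (G : Grpd.GroupoidScheme S) [IsAffine G.U] [IsAffine G.R]
  [IsFinite G.s] [Flat G.s] [LocallyOfFinitePresentation G.s]
  [IsFinite G.t] [Flat G.t] [LocallyOfFinitePresentation G.t]

variable {V : (Spec (CommRingCat.of G.invariants)).Opens} (hV : IsAffineOpen V)

include hV in
theorem isAffine_GV_U : IsAffine (GV G V).U :=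
  isAffine_restrictOpen_U G (WV G V) (hWV G V) (hV.preimage G.toQuot)

include hV in
theorem isAffine_GV_R : IsAffine (GV G V).R :=
  isAffine_restrictOpen_R G (WV G V) (hWV G V) (hV.preimage G.toQuot)

variable (V)

theorem isFinite_GV_s : IsFinite (GV G V).s :=
  restrictOpen_s_prop G (WV G V) (hWV G V) @IsFinite inferInstance
theorem flat_GV_s : Flat (GV G V).s :=
  restrictOpen_s_prop G (WV G V) (hWV G V) @Flat inferInstance
theorem lfp_GV_s : LocallyOfFinitePresentation (GV G V).s :=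
  restrictOpen_s_prop G (WV G V) (hWV G V) @LocallyOfFinitePresentation inferInstance
theorem isFinite_GV_t : IsFinite (GV G V).t :=
  restrictOpen_t_prop G (WV G V) (hWV G V) @IsFinite inferInstance
theorem flat_GV_t : Flat (GV G V).t :=
  restrictOpen_t_prop G (WV G V) (hWV G V) @Flat inferInstance
theorem lfp_GV_t : LocallyOfFinitePresentation (GV G V).t :=
  restrictOpen_t_prop G (WV G V) (hWV G V) @LocallyOfFinitePresentation inferInstance

variable {V}

/-- the open immersion of quotients. -/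
noncomputable def ιV (V : (Spec (CommRingCat.of G.invariants)).Opens) :
    Spec (CommRingCat.of (GV G V).invariants) ⟶ Spec (CommRingCat.of G.invariants) :=
  quotMap (fV G V)

theorem toQuot_ιV (V : (Spec (CommRingCat.of G.invariants)).Opens) :
    (GV G V).toQuot ≫ ιV G V = (fV G V).fU ≫ G.toQuot :=
  toQuot_quotMap (fV G V)

theorem fVV_fV {V' V : (Spec (CommRingCat.of G.invariants)).Opens} (h : V' ≤ V) :
    (fVV G h).fU ≫ (fV G V).fU = (fV G V').fU :=
  Scheme.homOfLE_ι G.U (G.toQuot.preimage_mono h)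

include hV in
theorem ιV_spec (hAO : AOStmt.{u}) :
    IsOpenImmersion (ιV G V) ∧ Set.range (ιV G V) = (V : Set (Spec (CommRingCat.of G.invariants))) := by
  have := isAffine_GV_U G hV
  have := isAffine_GV_R G hV
  have : IsOpenImmersion (fV G V).fU := inferInstanceAs (IsOpenImmersion (WV G V).ι)
  obtain ⟨h1, h2⟩ := hAO (GV G V) G (fV G V) (isPullback_restrictOpenι_s G (WV G V) (hWV G V))
    (isPullback_restrictOpenι_t G (WV G V) (hWV G V))
  refine ⟨h1, ?_⟩
  ext y
  obtain ⟨u, rfl⟩ := toQuot_surjective G y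
  have hr : Set.range (fV G V).fU = ((WV G V : G.U.Opens) : Set G.U) :=
    Scheme.Opens.range_ι (WV G V)
  rw [ιV, h2 u, hr]
  rfl

theorem fVV_ιV {V' V : (Spec (CommRingCat.of G.invariants)).Opens} (h : V' ≤ V) :
    quotMap (fVV G h) ≫ ιV G V = ιV G V' :=
  quotMap_comp_of_fU (fVV G h) (fV G V) (fV G V') (fVV_fV G h).symm

include hV in
/-- uniqueness of local factorisations (from AE). -/
theorem gV_unique (hAE : AEStmt.{u}) {Z : Scheme.{u}}
    (g g' : Spec (CommRingCat.of (GV G V).invariants) ⟶ Z)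
    (h : (GV G V).toQuot ≫ g = (GV G V).toQuot ≫ g') : g = g' := by
  have := isAffine_GV_U G hV
  have := isAffine_GV_R G hV
  have := isFinite_GV_s G V
  have := flat_GV_s G V
  have := lfp_GV_s G V
  have := isFinite_GV_t G V
  have := flat_GV_t G V
  have := lfp_GV_t G V
  exact (hAE (GV G V)).1 g g' h

include hV in
/-- existence of local factorisations when the target is affine-locally hit (from AE). -/
theorem exists_gV (hAE : AEStmt.{u}) {Z : Scheme.{u}} (h : G.U ⟶ Z) (hh : G.s ≫ h = G.t ≫ h)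
    (Z0 : Z.Opens) (hZ0 : IsAffineOpen Z0) (hle : WV G V ≤ h ⁻¹ᵁ Z0) :
    ∃ g : Spec (CommRingCat.of (GV G V).invariants) ⟶ Z,
      (GV G V).toQuot ≫ g = (fV G V).fU ≫ h := by
  have := isAffine_GV_U G hV
  have := isAffine_GV_R G hV
  have := isFinite_GV_s G V
  have := flat_GV_s G V
  have := lfp_GV_s G V
  have := isFinite_GV_t G V
  have := flat_GV_t G V
  have := lfp_GV_t G V
  have hr : Set.range ((WV G V).ι ≫ h) ⊆ Set.range Z0.ι := by
    rintro _ ⟨x, rfl⟩
    rw [Scheme.Opens.range_ι]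
    exact hle x.2
  let hW : (GV G V).U ⟶ (Z0 : Scheme.{u}) := IsOpenImmersion.lift Z0.ι ((WV G V).ι ≫ h) hr
  have hWι : hW ≫ Z0.ι = (fV G V).fU ≫ h := IsOpenImmersion.lift_fac _ _ _
  have heq : (GV G V).s ≫ hW = (GV G V).t ≫ hW := by
    rw [← cancel_mono Z0.ι, Category.assoc, Category.assoc, hWι, ← Category.assoc,
      ← Category.assoc, ← (fV G V).comm_s, ← (fV G V).comm_t, Category.assoc, Category.assoc, hh]
  have : IsAffine (Z0 : Scheme.{u}) := hZ0
  obtain ⟨g0, hg0⟩ := (hAE (GV G V)).2.1 hW heq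
  refine ⟨g0 ≫ Z0.ι, ?_⟩
  rw [← Category.assoc, hg0]
  exact hWι

/-- around every point of the quotient there is an affine open with a local factorisation. -/
theorem exists_nhd (hAE : AEStmt.{u}) {Z : Scheme.{u}} (h : G.U ⟶ Z) (hh : G.s ≫ h = G.t ≫ h)
    (y : Spec (CommRingCat.of G.invariants)) :
    ∃ V : (Spec (CommRingCat.of G.invariants)).Opens, IsAffineOpen V ∧ y ∈ V ∧
      ∃ g : Spec (CommRingCat.of (GV G V).invariants) ⟶ Z,
        (GV G V).toQuot ≫ g = (fV G V).fU ≫ h := by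
  obtain ⟨u, rfl⟩ := toQuot_surjective G y
  obtain ⟨_, ⟨Z0, hZ0, rfl⟩, huZ0, -⟩ :=
    Z.isBasis_affineOpens.exists_subset_of_mem_open (Set.mem_univ (h u)) isOpen_univ
  have hint : IsIntegralHom G.toQuot := (hAE G).2.2.1
  have hcl : IsClosedMap G.toQuot := G.toQuot.isClosedMap
  let F : Set G.U := ((h ⁻¹ᵁ Z0 : G.U.Opens) : Set G.U)ᶜ
  have hF : IsClosed F := (h ⁻¹ᵁ Z0).2.isClosed_compl
  have hpF : IsClosed (G.toQuot '' F) := hcl _ hF
  have hy : G.toQuot u ∈ (G.toQuot '' F)ᶜ := by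
    rintro ⟨u', hu'F, hu'⟩
    obtain ⟨r, hr1, hr2⟩ := (toQuot_eq_iff G u' u).mp hu'
    apply hu'F
    show h u' ∈ Z0
    have e : h u' = h u := by
      rw [← hr1, ← hr2]
      have := congrArg (fun φ : G.R ⟶ Z => φ r) hh
      exact this.symm
    rw [e]
    exact huZ0
  obtain ⟨_, ⟨V, hV, rfl⟩, hyV, hVsub⟩ :=
    (Spec (CommRingCat.of G.invariants)).isBasis_affineOpens.exists_subset_of_mem_open hy
      hpF.isOpen_compl
  refine ⟨V, hV, hyV, exists_gV G hV hAE h hh Z0 hZ0 ?_⟩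
  intro u' hu'
  by_contra hcon
  exact hVsub hu' ⟨u', hcon, rfl⟩

theorem toQuot_fVV_comp {V' V : (Spec (CommRingCat.of G.invariants)).Opens} (hle : V' ≤ V)
    {Z : Scheme.{u}} (h : G.U ⟶ Z) (g : Spec (CommRingCat.of (GV G V).invariants) ⟶ Z)
    (hg : (GV G V).toQuot ≫ g = (fV G V).fU ≫ h) :
    (GV G V').toQuot ≫ quotMap (fVV G hle) ≫ g = (fV G V').fU ≫ h := by
  rw [← Category.assoc, toQuot_quotMap, Category.assoc, hg, ← Category.assoc, fVV_fV]

include hV in
/-- compatibility of two local factorisations on the overlap. -/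
theorem compat (hAO : AOStmt.{u}) (hAE : AEStmt.{u}) {Z : Scheme.{u}} (h : G.U ⟶ Z)
    {V₂ : (Spec (CommRingCat.of G.invariants)).Opens} (hV₂ : IsAffineOpen V₂)
    (g₁ : Spec (CommRingCat.of (GV G V).invariants) ⟶ Z)
    (g₂ : Spec (CommRingCat.of (GV G V₂).invariants) ⟶ Z)
    (hg₁ : (GV G V).toQuot ≫ g₁ = (fV G V).fU ≫ h)
    (hg₂ : (GV G V₂).toQuot ≫ g₂ = (fV G V₂).fU ≫ h) :
    pullback.fst (ιV G V) (ιV G V₂) ≫ g₁ = pullback.snd (ιV G V) (ιV G V₂) ≫ g₂ := by
  have hV' : IsAffineOpen (V ⊓ V₂) := hV.inf hV₂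
  have hι' := ιV_spec G hV' hAO
  have hι₁ := ιV_spec G hV hAO
  have hι₂ := ιV_spec G hV₂ hAO
  have := hι₁.1
  have := hι₂.1
  let k : Spec (CommRingCat.of (GV G (V ⊓ V₂)).invariants) ⟶ pullback (ιV G V) (ιV G V₂) :=
    pullback.lift (quotMap (fVV G inf_le_left)) (quotMap (fVV G inf_le_right))
      ((fVV_ιV G inf_le_left).trans (fVV_ιV G inf_le_right).symm)
  have hk1 : k ≫ pullback.fst _ _ = quotMap (fVV G inf_le_left) := pullback.lift_fst _ _ _
  have hk2 : k ≫ pullback.snd _ _ = quotMap (fVV G inf_le_right) := pullback.lift_snd _ _ _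
  have hkι : k ≫ pullback.fst _ _ ≫ ιV G V = ιV G (V ⊓ V₂) :=
    (Category.assoc _ _ _).symm.trans ((congrArg (· ≫ ιV G V) hk1).trans (fVV_ιV G inf_le_left))
  have hko : IsOpenImmersion k := by
    have : IsOpenImmersion (k ≫ pullback.fst _ _ ≫ ιV G V) := hkι.symm ▸ hι'.1
    exact IsOpenImmersion.of_comp k (pullback.fst _ _ ≫ ιV G V)
  have hks : Function.Surjective k := by
    intro q
    have h1 : (pullback.fst (ιV G V) (ιV G V₂) ≫ ιV G V) q ∈ (V : Set _) :=
      hι₁.2.subset ⟨pullback.fst (ιV G V) (ιV G V₂) q, rfl⟩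
    have e2 : (pullback.fst (ιV G V) (ιV G V₂) ≫ ιV G V) q =
        (pullback.snd (ιV G V) (ιV G V₂) ≫ ιV G V₂) q :=
      congrArg (fun φ : pullback (ιV G V) (ιV G V₂) ⟶ Spec (CommRingCat.of G.invariants) => φ q)
        pullback.condition
    have h2 : (pullback.fst (ιV G V) (ιV G V₂) ≫ ιV G V) q ∈ (V₂ : Set _) :=
      Set.mem_of_eq_of_mem e2 (hι₂.2.subset ⟨pullback.snd (ιV G V) (ιV G V₂) q, rfl⟩)
    have h3 : (pullback.fst (ιV G V) (ιV G V₂) ≫ ιV G V) q ∈ Set.range (ιV G (V ⊓ V₂)) :=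
      hι'.2.symm.subset ⟨h1, h2⟩
    obtain ⟨q', hq'⟩ := h3
    refine ⟨q', ?_⟩
    apply (pullback.fst (ιV G V) (ιV G V₂) ≫ ιV G V).isOpenEmbedding.injective
    have e1 : (pullback.fst (ιV G V) (ιV G V₂) ≫ ιV G V) (k q') = ιV G (V ⊓ V₂) q' :=
      congrArg (fun φ : Spec (CommRingCat.of (GV G (V ⊓ V₂)).invariants) ⟶
        Spec (CommRingCat.of G.invariants) => φ q') hkι
    exact e1.trans hq'
  have : IsIso k := by
    have : Epi k.base := by
      rw [TopCat.epi_iff_surjective]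
      exact hks
    exact IsOpenImmersion.isIso k
  have key : k ≫ pullback.fst (ιV G V) (ιV G V₂) ≫ g₁ = k ≫ pullback.snd (ιV G V) (ιV G V₂) ≫ g₂ := by
    have a1 : k ≫ pullback.fst (ιV G V) (ιV G V₂) ≫ g₁ = quotMap (fVV G inf_le_left) ≫ g₁ :=
      (Category.assoc _ _ _).symm.trans (congrArg (· ≫ g₁) hk1)
    have a2 : k ≫ pullback.snd (ιV G V) (ιV G V₂) ≫ g₂ = quotMap (fVV G inf_le_right) ≫ g₂ :=
      (Category.assoc _ _ _).symm.trans (congrArg (· ≫ g₂) hk2)
    apply gV_unique G hV' hAE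
    exact (congrArg ((GV G (V ⊓ V₂)).toQuot ≫ ·) a1).trans
      ((toQuot_fVV_comp G inf_le_left h g₁ hg₁).trans
        ((toQuot_fVV_comp G inf_le_right h g₂ hg₂).symm.trans
          (congrArg ((GV G (V ⊓ V₂)).toQuot ≫ ·) a2.symm)))
  exact (cancel_epi k).mp key

end Affine

/-- **Package AC** (given AO and AE). -/
theorem acStmt (hAO : AOStmt.{u}) (hAE : AEStmt.{u}) : ACStmt.{u} := by
  intro S G _ _ _ _ _ _ _ _ Z h hh
  choose V hV hyV g hg using exists_nhd G hAE h hh
  have hι := fun y => ιV_spec G (hV y) hAO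
  let 𝒰 : (Spec (CommRingCat.of G.invariants)).OpenCover := {
    I₀ := Spec (CommRingCat.of G.invariants)
    X y := Spec (CommRingCat.of (GV G (V y)).invariants)
    f y := ιV G (V y)
    mem₀ := by
      rw [Scheme.presieve₀_mem_precoverage_iff]
      refine ⟨fun y => ⟨y, ?_⟩, fun y => (hι y).1⟩
      rw [(hι y).2]
      exact hyV y }
  have hcompat : ∀ x y, pullback.fst (𝒰.f x) (𝒰.f y) ≫ g x = pullback.snd _ _ ≫ g y :=
    fun x y => compat G (hV x) hAO hAE h (hV y) (g x) (g y) (hg x) (hg y)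
  refine ⟨𝒰.glueMorphisms g hcompat, ?_⟩
  apply Scheme.hom_ext_of_forall
  intro u
  refine ⟨WV G (V (G.toQuot u)), hyV _, ?_⟩
  show (fV G (V (G.toQuot u))).fU ≫ G.toQuot ≫ _ = (fV G (V (G.toQuot u))).fU ≫ h
  rw [← Category.assoc, ← toQuot_ιV, Category.assoc]
  have : ιV G (V (G.toQuot u)) ≫ 𝒰.glueMorphisms g hcompat = g (G.toQuot u) :=
    𝒰.ι_glueMorphisms g hcompat (G.toQuot u)
  rw [this, hg]

end Groth.Agent.R2.H86.GrpdAC

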