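import Mathlib
import Groth.Agent.R2.H53GrpdASM6
import Groth.Agent.R2.H86GrpdAC

set_option autoImplicit false
set_option linter.unusedSectionVars false
set_option linter.style.haveILetI false
universe u

open CategoryTheory CategoryTheory.Limits AlgebraicGeometry TopologicalSpace
open Groth.Agent.R2.H33.GrpdOrbit Groth.Agent.R2.H33.GrpdInvOpen
open Groth.Agent.R2.H53.GrpdBasic Groth.Agent.R2.H53.GrpdRestr Groth.Agent.R2.H53.GrpdGlue
open Groth.Agent.R2.H53.GrpdAE Groth.Agent.R2.H53.GrpdAO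

namespace Groth.Agent.R2.H53.GrpdASM

/-- package AC, assembled. -/
theorem acStmt : ACStmt.{u} := Groth.Agent.R2.H86.GrpdAC.acStmt aoStmt aeStmt

variable {S : Scheme.{u}} (G : Grpd.GroupoidScheme S)

/-- every point lies in an invariant affine open, if every orbit lies in an affine open. -/
theorem hcov_of_orbits [IsFinite G.s] [Flat G.s] [LocallyOfFinitePresentation G.s]
    (hb : ∀ x : G.U, ∃ V : G.U.Opens, IsAffineOpen V ∧ G.t.base '' (G.s.base ⁻¹' {x}) ⊆ (V : Set G.U))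
    (u : G.U) : ∃ W : G.U.Opens, IsAffineOpen W ∧ u ∈ W ∧ G.s ⁻¹ᵁ W = G.t ⁻¹ᵁ W := by
  obtain ⟨V, hV, hVu⟩ := hb u
  exact exists_invariant_affine_open G u V hV (fun r hr => hVu ⟨r, hr, rfl⟩)

/-- **SGA3 V 4.1**: the quotient of a scheme by a finite locally free groupoid all of whose points lie
in invariant affine opens. -/
theorem main [IsFinite G.s] [Flat G.s] [LocallyOfFinitePresentation G.s]
    (hcov : ∀ u : G.U, ∃ W : G.U.Opens, IsAffineOpen W ∧ u ∈ W ∧ G.s ⁻¹ᵁ W = G.t ⁻¹ᵁ W) :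
    ∃ (Y : Scheme.{u}) (p : G.U ⟶ Y) (w : G.t ≫ p = G.s ≫ p),
      Nonempty (IsColimit (Cofork.ofπ p w)) ∧ IsIntegralHom p ∧ Surjective p ∧ IsOpenMap p.base ∧
      (∀ x y : G.U, p.base x = p.base y ↔ ∃ r : G.R, G.t.base r = x ∧ G.s.base r = y) ∧
      Function.Surjective (pullback.lift G.t G.s w).base ∧ (IsAffine G.U → IsAffine Y) ∧
      (Mono G.j → IsFinite p ∧ Flat p ∧ LocallyOfFinitePresentation p ∧
        IsIso (pullback.lift G.t G.s w) ∧ IsPullback G.t G.s p p) := by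
  refine ⟨Q G hcov, p G hcov, t_p G hcov, ⟨isColimit_p G hcov acStmt (t_p G hcov)⟩,
    isIntegralHom_p G hcov, ⟨p_surjective G hcov⟩, isOpenMap_p G hcov, p_eq_iff G hcov,
    surjective_lift_p G hcov (t_p G hcov), fun _ => isAffine_Q G hcov, fun _ => ?_⟩
  exact ⟨isFinite_p G hcov, flat_p G hcov, lfp_p G hcov, isIso_lift_p G hcov (t_p G hcov),
    isPullback_p G hcov (t_p G hcov)⟩

end Groth.Agent.R2.H53.GrpdASM
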