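import Mathlib
import Groth.Agent.R2.H53GrpdInv

/-!
# Base change of ring-level groupoids (helper53)

* `isPushout_includeLeft`, `isPushout_map`: base change `- ⊗[k] K` preserves pushout squares of
  `k`-algebras (in `CommRingCat`).
* `RGrpd.IsOver g k`: all structure maps of `g` are `k`-algebra maps.
* `RGrpd.baseChange`: the `RGrpd` on `(A ⊗[k] K, B ⊗[k] K, D ⊗[k] K)`.
-/

set_option autoImplicit false
set_option linter.style.haveILetI false
set_option linter.unusedSectionVars false
universe u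

open CategoryTheory CategoryTheory.Limits TensorProduct

namespace Groth.Agent.R2.H53.GrpdRing

section PushoutBC
variable (k K : Type u) [CommRing k] [CommRing K] [Algebra k K]

/-- the base change square of a `k`-algebra map is a pushout -/
theorem isPushout_includeLeft {X Y : Type u} [CommRing X] [CommRing Y] [Algebra k X] [Algebra k Y]
    (φ : X →ₐ[k] Y) :
    IsPushout (CommRingCat.ofHom (φ : X →+* Y))
      (CommRingCat.ofHom (Algebra.TensorProduct.includeLeftRingHom : X →+* X ⊗[k] K))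
      (CommRingCat.ofHom (Algebra.TensorProduct.includeLeftRingHom : Y →+* Y ⊗[k] K))
      (CommRingCat.ofHom
        ((Algebra.TensorProduct.map φ (AlgHom.id k K) : X ⊗[k] K →ₐ[k] Y ⊗[k] K) :
          X ⊗[k] K →+* Y ⊗[k] K)) := by
  have t := CommRingCat.isPushout_tensorProduct k X K
  have s := CommRingCat.isPushout_tensorProduct k Y K
  refine IsPushout.of_left ?_ ?_ t
  · have e1 : CommRingCat.ofHom (algebraMap k X) ≫ CommRingCat.ofHom (φ : X →+* Y) =
        CommRingCat.ofHom (algebraMap k Y) := by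
      ext x
      simp
    have e2 : CommRingCat.ofHom (Algebra.TensorProduct.includeRight.toRingHom : K →+* X ⊗[k] K) ≫
        CommRingCat.ofHom ((Algebra.TensorProduct.map φ (AlgHom.id k K) :
          X ⊗[k] K →ₐ[k] Y ⊗[k] K) : X ⊗[k] K →+* Y ⊗[k] K) =
        CommRingCat.ofHom (Algebra.TensorProduct.includeRight.toRingHom : K →+* Y ⊗[k] K) := by
      ext x
      simp
    rw [e1, e2]
    exact s
  · ext x
    simp

/-- notation: the base-changed map -/
abbrev bcMap {X Y : Type u} [CommRing X] [CommRing Y] [Algebra k X] [Algebra k Y]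
    (φ : X →ₐ[k] Y) : X ⊗[k] K →+* Y ⊗[k] K :=
  ((Algebra.TensorProduct.map φ (AlgHom.id k K) : X ⊗[k] K →ₐ[k] Y ⊗[k] K) : X ⊗[k] K →+* Y ⊗[k] K)

theorem bcMap_tmul {X Y : Type u} [CommRing X] [CommRing Y] [Algebra k X] [Algebra k Y]
    (φ : X →ₐ[k] Y) (x : X) (c : K) : bcMap k K φ (x ⊗ₜ c) = φ x ⊗ₜ c := by
  simp [bcMap]

/-- base change preserves pushout squares -/
theorem isPushout_map {Z X Y P : Type u} [CommRing Z] [CommRing X] [CommRing Y] [CommRing P]
    [Algebra k Z] [Algebra k X] [Algebra k Y] [Algebra k P]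
    (f : Z →ₐ[k] X) (g : Z →ₐ[k] Y) (inl : X →ₐ[k] P) (inr : Y →ₐ[k] P)
    (h : IsPushout (CommRingCat.ofHom (f : Z →+* X)) (CommRingCat.ofHom (g : Z →+* Y))
      (CommRingCat.ofHom (inl : X →+* P)) (CommRingCat.ofHom (inr : Y →+* P))) :
    IsPushout (CommRingCat.ofHom (bcMap k K f)) (CommRingCat.ofHom (bcMap k K g))
      (CommRingCat.ofHom (bcMap k K inl)) (CommRingCat.ofHom (bcMap k K inr)) := by
  have h1 := h.paste_horiz (isPushout_includeLeft k K inl).flip
  have e1 : CommRingCat.ofHom (f : Z →+* X) ≫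
      CommRingCat.ofHom (Algebra.TensorProduct.includeLeftRingHom : X →+* X ⊗[k] K) =
      CommRingCat.ofHom (Algebra.TensorProduct.includeLeftRingHom : Z →+* Z ⊗[k] K) ≫
        CommRingCat.ofHom (bcMap k K f) := by
    ext x
    simp [bcMap]
  have e2 : CommRingCat.ofHom (inr : Y →+* P) ≫
      CommRingCat.ofHom (Algebra.TensorProduct.includeLeftRingHom : P →+* P ⊗[k] K) =
      CommRingCat.ofHom (Algebra.TensorProduct.includeLeftRingHom : Y →+* Y ⊗[k] K) ≫
        CommRingCat.ofHom (bcMap k K inr) := by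
    ext x
    simp [bcMap]
  rw [e1, e2] at h1
  refine IsPushout.of_left h1 ?_ (isPushout_includeLeft k K g).flip
  have hw : ∀ z : Z, inl (f z) = inr (g z) := by
    intro z
    have := congrArg (fun φ : CommRingCat.of Z ⟶ CommRingCat.of P => φ.hom z) h.w
    simpa using this
  ext x
  · simp [bcMap, hw]
  · simp [bcMap]

end PushoutBC

namespace RGrpd

variable {A B D : Type u} [CommRing A] [CommRing B] [CommRing D] (g : RGrpd A B D)

/-- all structure maps are `k`-algebra maps -/
structure IsOver (k : Type u) [CommRing k] [Algebra k A] [Algebra k B] [Algebra k D] : Prop where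
  σ : ∀ x : k, g.σ (algebraMap k A x) = algebraMap k B x
  τ : ∀ x : k, g.τ (algebraMap k A x) = algebraMap k B x
  p0 : ∀ x : k, g.p0 (algebraMap k B x) = algebraMap k D x
  p1 : ∀ x : k, g.p1 (algebraMap k B x) = algebraMap k D x

namespace IsOver
variable {g} {k : Type u} [CommRing k] [Algebra k A] [Algebra k B] [Algebra k D] (h : g.IsOver k)
include h

theorem ε (x : k) : g.ε (algebraMap k B x) = algebraMap k A x := by
  rw [← h.σ, g.εσ]

theorem γ (x : k) : g.γ (algebraMap k B x) = algebraMap k D x := by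
  rw [← h.σ, g.γσ, h.σ, h.p1]

/-- `σ` as an algebra map -/
def σA : A →ₐ[k] B := { g.σ with commutes' := h.σ }
/-- `τ` as an algebra map -/
def τA : A →ₐ[k] B := { g.τ with commutes' := h.τ }
/-- `ε` as an algebra map -/
def εA : B →ₐ[k] A := { g.ε with commutes' := h.ε }
/-- `p0` as an algebra map -/
def p0A : B →ₐ[k] D := { g.p0 with commutes' := h.p0 }
/-- `p1` as an algebra map -/
def p1A : B →ₐ[k] D := { g.p1 with commutes' := h.p1 }
/-- `γ` as an algebra map -/
def γA : B →ₐ[k] D := { g.γ with commutes' := h.γ }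

end IsOver

theorem bc_ext {k K X Y : Type u} [CommRing k] [CommRing K] [Algebra k K] [CommRing X] [CommRing Y]
    [Algebra k X] (φ ψ : X ⊗[k] K →+* Y) (hφ : ∀ (x : X) (c : K), φ (x ⊗ₜ c) = ψ (x ⊗ₜ c))
    (z : X ⊗[k] K) : φ z = ψ z := by
  induction z using TensorProduct.induction_on with
  | zero => simp
  | tmul x c => exact hφ x c
  | add x y hx hy => rw [map_add, map_add, hx, hy]

/-- base change of a ring-level groupoid along `k → K` -/
noncomputable def baseChange {k : Type u} [CommRing k] [Algebra k A] [Algebra k B] [Algebra k D]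
    (h : g.IsOver k) (K : Type u) [CommRing K] [Algebra k K] :
    RGrpd (A ⊗[k] K) (B ⊗[k] K) (D ⊗[k] K) where
  σ := bcMap k K h.σA
  τ := bcMap k K h.τA
  ε := bcMap k K h.εA
  p0 := bcMap k K h.p0A
  p1 := bcMap k K h.p1A
  γ := bcMap k K h.γA
  εσ := by
    intro z
    refine bc_ext ((bcMap k K h.εA).comp (bcMap k K h.σA)) (RingHom.id _) ?_ z
    intro x c
    simp only [RingHom.comp_apply, bcMap_tmul, RingHom.id_apply]
    congr 1
    exact g.εσ x
  ετ := by
    intro z
    refine bc_ext ((bcMap k K h.εA).comp (bcMap k K h.τA)) (RingHom.id _) ?_ z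
    intro x c
    simp only [RingHom.comp_apply, bcMap_tmul, RingHom.id_apply]
    congr 1
    exact g.ετ x
  γτ := by
    intro z
    refine bc_ext ((bcMap k K h.γA).comp (bcMap k K h.τA))
      ((bcMap k K h.p0A).comp (bcMap k K h.τA)) ?_ z
    intro x c
    simp only [RingHom.comp_apply, bcMap_tmul]
    congr 1
    exact g.γτ x
  γσ := by
    intro z
    refine bc_ext ((bcMap k K h.γA).comp (bcMap k K h.σA))
      ((bcMap k K h.p1A).comp (bcMap k K h.σA)) ?_ z
    intro x c
    simp only [RingHom.comp_apply, bcMap_tmul]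
    congr 1
    exact g.γσ x
  p0σ := by
    intro z
    refine bc_ext ((bcMap k K h.p0A).comp (bcMap k K h.σA))
      ((bcMap k K h.p1A).comp (bcMap k K h.τA)) ?_ z
    intro x c
    simp only [RingHom.comp_apply, bcMap_tmul]
    congr 1
    exact g.p0σ x
  po1 := isPushout_map k K h.σA h.τA h.p0A h.p1A g.po1
  po2 := isPushout_map k K h.σA h.σA h.γA h.p1A g.po2

section
variable {k : Type u} [CommRing k] [Algebra k A] [Algebra k B] [Algebra k D]
  (h : g.IsOver k) (K : Type u) [CommRing K] [Algebra k K]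

@[simp] theorem baseChange_σ_tmul (a : A) (c : K) :
    (g.baseChange h K).σ (a ⊗ₜ c) = g.σ a ⊗ₜ c := bcMap_tmul k K h.σA a c
@[simp] theorem baseChange_τ_tmul (a : A) (c : K) :
    (g.baseChange h K).τ (a ⊗ₜ c) = g.τ a ⊗ₜ c := bcMap_tmul k K h.τA a c
@[simp] theorem baseChange_ε_tmul (b : B) (c : K) :
    (g.baseChange h K).ε (b ⊗ₜ c) = g.ε b ⊗ₜ c := bcMap_tmul k K h.εA b c
@[simp] theorem baseChange_p0_tmul (b : B) (c : K) :
    (g.baseChange h K).p0 (b ⊗ₜ c) = g.p0 b ⊗ₜ c := bcMap_tmul k K h.p0A b c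
@[simp] theorem baseChange_p1_tmul (b : B) (c : K) :
    (g.baseChange h K).p1 (b ⊗ₜ c) = g.p1 b ⊗ₜ c := bcMap_tmul k K h.p1A b c
@[simp] theorem baseChange_γ_tmul (b : B) (c : K) :
    (g.baseChange h K).γ (b ⊗ₜ c) = g.γ b ⊗ₜ c := bcMap_tmul k K h.γA b c

end

end RGrpd

end Groth.Agent.R2.H53.GrpdRing
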