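import Mathlib
import Groth.Prelude.Def_Grpd
import Groth.Agent.Lib.Helper2Grpd
import Groth.Agent.R2.H53GrpdRestr

set_option autoImplicit false
set_option linter.unusedSectionVars false
universe u

open CategoryTheory CategoryTheory.Limits AlgebraicGeometry
open Groth.Agent.Lib.Helper2.Grpd Groth.Agent.R2.H53.GrpdRestr

namespace Groth.Agent.R2.H53.GrpdQS

variable {S : Scheme.{u}} (G : Grpd.GroupoidScheme S) {U' : Scheme.{u}} (u : U' ⟶ G.U)

/-- arrows with target in `U'` -/
noncomputable abbrev Vq : Scheme.{u} := pullback G.t u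

/-- the source map on `Vq` -/
noncomputable abbrev vq : Vq G u ⟶ G.U := pullback.fst G.t u ≫ G.s

/-- arrows with source and target in `U'` -/
noncomputable abbrev Rq : Scheme.{u} := pullback (vq G u) u

/-- the inclusion of `Rq` into `R` -/
noncomputable def ιRq : Rq G u ⟶ G.R := pullback.fst (vq G u) u ≫ pullback.fst G.t u

/-- source of the restricted groupoid -/
noncomputable def sq : Rq G u ⟶ U' := pullback.snd (vq G u) u

/-- target of the restricted groupoid -/
noncomputable def tq : Rq G u ⟶ U' := pullback.fst (vq G u) u ≫ pullback.snd G.t u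

theorem sq_u : sq G u ≫ u = ιRq G u ≫ G.s := by
  unfold sq ιRq
  rw [Category.assoc, ← pullback.condition]

theorem tq_u : tq G u ≫ u = ιRq G u ≫ G.t := by
  unfold tq ιRq
  rw [Category.assoc, Category.assoc, pullback.condition]

/-- `c (α, β)` has the target of `α`, universally. -/
theorem c_t_univ : G.c ≫ G.t = pullback.fst G.s G.t ≫ G.t := by
  have h := G.comp_t (pullback.fst G.s G.t) (pullback.snd G.s G.t) pullback.condition
  have e : pullback.lift (pullback.fst G.s G.t) (pullback.snd G.s G.t) pullback.condition =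
      𝟙 (pullback G.s G.t) := by
    apply pullback.hom_ext <;> simp
  rw [e, Category.id_comp] at h
  exact h

section Lift
variable {G u} {T : Scheme.{u}} (ρ : T ⟶ G.R) (x' y' : T ⟶ U')
  (ht : ρ ≫ G.t = x' ≫ u) (hs : ρ ≫ G.s = y' ≫ u)

/-- lifting an arrow with source and target in `U'` -/
noncomputable def liftRq : T ⟶ Rq G u :=
  pullback.lift (pullback.lift ρ x' ht) y' (by rw [pullback.lift_fst_assoc, hs])

@[reassoc (attr := simp)]
theorem liftRq_ι : liftRq ρ x' y' ht hs ≫ ιRq G u = ρ := by
  unfold liftRq ιRq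
  rw [pullback.lift_fst_assoc, pullback.lift_fst]

@[reassoc (attr := simp)]
theorem liftRq_t : liftRq ρ x' y' ht hs ≫ tq G u = x' := by
  unfold liftRq tq
  rw [pullback.lift_fst_assoc, pullback.lift_snd]

@[reassoc (attr := simp)]
theorem liftRq_s : liftRq ρ x' y' ht hs ≫ sq G u = y' := by
  unfold liftRq sq
  rw [pullback.lift_snd]

end Lift

variable [Mono u]

instance : Mono (ιRq G u) := by
  unfold ιRq
  infer_instance

omit [Mono u] in
theorem hom_ext_Rq [Mono u] {T : Scheme.{u}} (a b : T ⟶ Rq G u) (h : a ≫ ιRq G u = b ≫ ιRq G u) :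
    a = b := (cancel_mono (ιRq G u)).mp h

/-- the restriction data -/
noncomputable def qsData : RestrData₂ G u (ιRq G u) where
  s' := sq G u
  t' := tq G u
  hs := sq_u G u
  ht := tq_u G u
  e' := liftRq (u ≫ G.e) (𝟙 U') (𝟙 U') (by rw [Category.assoc, G.e_t, Category.comp_id, Category.id_comp])
    (by rw [Category.assoc, G.e_s, Category.comp_id, Category.id_comp])
  he := liftRq_ι _ _ _ _ _
  i' := liftRq (ιRq G u ≫ G.i) (sq G u) (tq G u) (by rw [Category.assoc, G.i_t, sq_u])
    (by rw [Category.assoc, G.i_s, tq_u])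
  hi := liftRq_ι _ _ _ _ _
  c' := liftRq (pullback.map (sq G u) (tq G u) G.s G.t (ιRq G u) (ιRq G u) u (sq_u G u) (tq_u G u) ≫ G.c)
    (pullback.fst _ _ ≫ tq G u) (pullback.snd _ _ ≫ sq G u)
    (by
      rw [Category.assoc, c_t_univ, ← Category.assoc, pullback.lift_fst,
        Category.assoc, Category.assoc, tq_u])
    (by
      rw [Category.assoc, c_s_univ, ← Category.assoc, pullback.lift_snd, Category.assoc,
        Category.assoc, sq_u])
  hc := liftRq_ι _ _ _ _ _

/-- the restriction of `G` to `U'` -/
noncomputable def Gq : Grpd.GroupoidScheme S := restrict₂ (qsData G u)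

/-- the inclusion of the restriction -/
noncomputable def GqHom : Grpd.GroupoidScheme.Hom (Gq G u) G := restrictHom₂ (qsData G u)

end Groth.Agent.R2.H53.GrpdQS
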