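import Mathlib
import Groth.Agent.R2.H53GrpdQS1
import Groth.Agent.R2.H53GrpdASM7

set_option autoImplicit false
set_option linter.unusedSectionVars false
universe u

open CategoryTheory CategoryTheory.Limits AlgebraicGeometry
open Groth.Agent.Lib.Helper2.Grpd Groth.Agent.R2.H53.GrpdRestr
open Groth.Agent.R2.H33.GrpdInvOpen Groth.Agent.R2.H53.GrpdASM

namespace Groth.Agent.R2.H53.GrpdQS

variable {S : Scheme.{u}} (G : Grpd.GroupoidScheme S) {U' : Scheme.{u}} (u : U' ⟶ G.U) [Mono u]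

@[simp] theorem Gq_U : (Gq G u).U = U' := rfl
@[simp] theorem Gq_R : (Gq G u).R = Rq G u := rfl
theorem Gq_s : (Gq G u).s = sq G u := rfl
theorem Gq_t : (Gq G u).t = tq G u := rfl
theorem GqHom_fU : (GqHom G u).fU = u := rfl
theorem GqHom_fR : (GqHom G u).fR = ιRq G u := rfl

instance [Mono G.j] : Mono (Gq G u).j := mono_j_restrict₂ (qsData G u)

instance [IsFinite (vq G u)] : IsFinite (Gq G u).s := by
  show IsFinite (sq G u)
  unfold sq
  infer_instance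

instance [Flat (vq G u)] : Flat (Gq G u).s := by
  show Flat (sq G u)
  unfold sq
  infer_instance

instance [LocallyOfFinitePresentation (vq G u)] : LocallyOfFinitePresentation (Gq G u).s := by
  show LocallyOfFinitePresentation (sq G u)
  unfold sq
  infer_instance

theorem ι_t_apply (r' : Rq G u) : G.t (ιRq G u r') = u (tq G u r') := by
  have := congrArg (fun φ : Rq G u ⟶ G.U => φ r') (tq_u G u)
  simp only [Scheme.Hom.comp_apply] at this
  exact this.symm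

theorem ι_s_apply (r' : Rq G u) : G.s (ιRq G u r') = u (sq G u r') := by
  have := congrArg (fun φ : Rq G u ⟶ G.U => φ r') (sq_u G u)
  simp only [Scheme.Hom.comp_apply] at this
  exact this.symm

variable (h2 : ∀ E : Set U', (∀ x ∈ E, ∀ y ∈ E, ∃ r : G.R, G.t.base r = u.base x ∧ G.s.base r = u.base y) →
      ∃ W : U'.Opens, IsAffineOpen W ∧ E ⊆ (W : Set U'))

include h2 in
theorem hbq (x' : (Gq G u).U) : ∃ V : (Gq G u).U.Opens, IsAffineOpen V ∧
    (Gq G u).t.base '' ((Gq G u).s.base ⁻¹' {x'}) ⊆ (V : Set (Gq G u).U) := by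
  apply h2
  rintro _ ⟨r₁, hr₁, rfl⟩ _ ⟨r₂, hr₂, rfl⟩
  have hr₁' : sq G u r₁ = x' := hr₁
  have hr₂' : sq G u r₂ = x' := hr₂
  have h : G.s (ιRq G u r₁) = G.t (G.i (ιRq G u r₂)) := by
    rw [t_i_pt, ι_s_apply, ι_s_apply, hr₁', hr₂']
  obtain ⟨r₃, h3s, h3t⟩ := exists_comp_pt G (ιRq G u r₁) (G.i (ιRq G u r₂)) h
  refine ⟨r₃, ?_, ?_⟩
  · show G.t r₃ = u (tq G u r₁)
    rw [h3t, ι_t_apply]
  · show G.s r₃ = u (tq G u r₂)
    rw [h3s, s_i_pt, ι_t_apply]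

end Groth.Agent.R2.H53.GrpdQS

namespace Groth.Agent.R2.H53.GrpdQS

variable {S : Scheme.{u}} (G : Grpd.GroupoidScheme S) {U' : Scheme.{u}} (u : U' ⟶ G.U) [Mono u]
  [IsFinite (vq G u)] [Flat (vq G u)] [LocallyOfFinitePresentation (vq G u)] [Surjective (vq G u)]
  (h2 : ∀ E : Set U', (∀ x ∈ E, ∀ y ∈ E, ∃ r : G.R, G.t.base r = u.base x ∧ G.s.base r = u.base y) →
      ∃ W : U'.Opens, IsAffineOpen W ∧ E ⊆ (W : Set U'))

include h2 in
theorem hcovq : ∀ x' : (Gq G u).U, ∃ W : (Gq G u).U.Opens,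
    IsAffineOpen W ∧ x' ∈ W ∧ (Gq G u).s ⁻¹ᵁ W = (Gq G u).t ⁻¹ᵁ W :=
  hcov_of_orbits (Gq G u) (hbq G u h2)

/-- the quotient of the quasi-section by the restricted groupoid -/
noncomputable def Yq : Scheme.{u} := Q (Gq G u) (hcovq G u h2)

/-- the quotient map of the quasi-section -/
noncomputable def pq' : U' ⟶ Yq G u h2 := p (Gq G u) (hcovq G u h2)

theorem tq_pq' : tq G u ≫ pq' G u h2 = sq G u ≫ pq' G u h2 := t_p (Gq G u) (hcovq G u h2)

/-- the difference arrow `a₁ ∘ a₂⁻¹` of two arrows with the same source -/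
theorem pq'_eq_of_same_source {Z : Scheme.{u}} (g₁ g₂ : Z ⟶ Vq G u)
    (h : g₁ ≫ vq G u = g₂ ≫ vq G u) :
    g₁ ≫ pullback.snd G.t u ≫ pq' G u h2 = g₂ ≫ pullback.snd G.t u ≫ pq' G u h2 := by
  have hs : (g₁ ≫ pullback.fst G.t u) ≫ G.s = ((g₂ ≫ pullback.fst G.t u) ≫ G.i) ≫ G.t := by
    rw [Category.assoc _ G.i, G.i_t, Category.assoc, Category.assoc]
    exact h
  have ht1 : comp G (g₁ ≫ pullback.fst G.t u) ((g₂ ≫ pullback.fst G.t u) ≫ G.i) hs ≫ G.t =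
      (g₁ ≫ pullback.snd G.t u) ≫ u := by
    rw [comp_t, Category.assoc, Category.assoc, pullback.condition]
  have hs1 : comp G (g₁ ≫ pullback.fst G.t u) ((g₂ ≫ pullback.fst G.t u) ≫ G.i) hs ≫ G.s =
      (g₂ ≫ pullback.snd G.t u) ≫ u := by
    rw [comp_s, Category.assoc _ G.i, G.i_s, Category.assoc, Category.assoc, pullback.condition]
  obtain ⟨L, e1, e2⟩ : ∃ L : Z ⟶ Rq G u, L ≫ tq G u = g₁ ≫ pullback.snd G.t u ∧
      L ≫ sq G u = g₂ ≫ pullback.snd G.t u :=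
    ⟨liftRq _ _ _ ht1 hs1, liftRq_t _ _ _ ht1 hs1, liftRq_s _ _ _ ht1 hs1⟩
  calc g₁ ≫ pullback.snd G.t u ≫ pq' G u h2
      = L ≫ tq G u ≫ pq' G u h2 := by rw [← Category.assoc, ← e1, Category.assoc]
    _ = L ≫ sq G u ≫ pq' G u h2 := by rw [tq_pq']
    _ = g₂ ≫ pullback.snd G.t u ≫ pq' G u h2 := by rw [← Category.assoc, e2, Category.assoc]

instance : EffectiveEpi (vq G u) := inferInstance

/-- the quotient map -/
noncomputable def pq : G.U ⟶ Yq G u h2 :=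
  EffectiveEpi.desc (vq G u) (pullback.snd G.t u ≫ pq' G u h2)
    (fun g₁ g₂ h => pq'_eq_of_same_source G u h2 g₁ g₂ h)

theorem vq_pq : vq G u ≫ pq G u h2 = pullback.snd G.t u ≫ pq' G u h2 :=
  EffectiveEpi.fac _ _ _

end Groth.Agent.R2.H53.GrpdQS

namespace Groth.Agent.R2.H53.GrpdQS

/-- **Package QS-SURJ**: `R ⟶ U ×_Y U` is surjective. -/
def QSSurjStmt : Prop :=
  ∀ {S : Scheme.{u}} (G : Grpd.GroupoidScheme S) {U' : Scheme.{u}} (u : U' ⟶ G.U) [Mono u]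
    [IsFinite (vq G u)] [Flat (vq G u)] [LocallyOfFinitePresentation (vq G u)] [Surjective (vq G u)]
    (h2 : ∀ E : Set U', (∀ x ∈ E, ∀ y ∈ E, ∃ r : G.R, G.t.base r = u.base x ∧ G.s.base r = u.base y) →
      ∃ W : U'.Opens, IsAffineOpen W ∧ E ⊆ (W : Set U'))
    (w : G.t ≫ pq G u h2 = G.s ≫ pq G u h2),
    Function.Surjective (pullback.lift G.t G.s w : G.R ⟶ pullback (pq G u h2) (pq G u h2))

/-- **Package QS-PB**: if `j` is a monomorphism then `R = U ×_Y U`. -/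
def QSPBStmt : Prop :=
  ∀ {S : Scheme.{u}} (G : Grpd.GroupoidScheme S) {U' : Scheme.{u}} (u : U' ⟶ G.U) [Mono u]
    [IsFinite (vq G u)] [Flat (vq G u)] [LocallyOfFinitePresentation (vq G u)] [Surjective (vq G u)]
    (h2 : ∀ E : Set U', (∀ x ∈ E, ∀ y ∈ E, ∃ r : G.R, G.t.base r = u.base x ∧ G.s.base r = u.base y) →
      ∃ W : U'.Opens, IsAffineOpen W ∧ E ⊆ (W : Set U')) [Mono G.j]
    (w : G.t ≫ pq G u h2 = G.s ≫ pq G u h2),
    IsIso (pullback.lift G.t G.s w : G.R ⟶ pullback (pq G u h2) (pq G u h2))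

end Groth.Agent.R2.H53.GrpdQS
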