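import Mathlib
import Groth.Agent.R2.H53GrpdQS2

set_option autoImplicit false
set_option linter.unusedSectionVars false
universe u

open CategoryTheory CategoryTheory.Limits AlgebraicGeometry
open Groth.Agent.Lib.Helper2.Grpd Groth.Agent.R2.H53.GrpdRestr
open Groth.Agent.R2.H33.GrpdInvOpen Groth.Agent.R2.H53.GrpdASM Groth.Agent.R2.H53.GrpdGlue

namespace Groth.Agent.R2.H53.GrpdQS

variable {S : Scheme.{u}} (G : Grpd.GroupoidScheme S) {U' : Scheme.{u}} (u : U' ⟶ G.U) [Mono u]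
  [IsFinite (vq G u)] [Flat (vq G u)] [LocallyOfFinitePresentation (vq G u)] [Surjective (vq G u)]
  (h2 : ∀ E : Set U', (∀ x ∈ E, ∀ y ∈ E, ∃ r : G.R, G.t.base r = u.base x ∧ G.s.base r = u.base y) →
      ∃ W : U'.Opens, IsAffineOpen W ∧ E ⊆ (W : Set U'))

/-- the identity arrows of `U'`, as arrows with target in `U'` -/
noncomputable def eq' : U' ⟶ Vq G u :=
  pullback.lift (u ≫ G.e) (𝟙 U') (by rw [Category.assoc, G.e_t, Category.comp_id, Category.id_comp])

omit [Mono u] [IsFinite (vq G u)] [Flat (vq G u)] [LocallyOfFinitePresentation (vq G u)]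
  [Surjective (vq G u)] in
theorem eq'_vq : eq' G u ≫ vq G u = u := by
  unfold eq' vq
  rw [pullback.lift_fst_assoc, Category.assoc, G.e_s, Category.comp_id]

omit [Mono u] [IsFinite (vq G u)] [Flat (vq G u)] [LocallyOfFinitePresentation (vq G u)]
  [Surjective (vq G u)] in
theorem eq'_snd : eq' G u ≫ pullback.snd G.t u = 𝟙 U' := by
  unfold eq'
  rw [pullback.lift_snd]

theorem u_pq : u ≫ pq G u h2 = pq' G u h2 := by
  calc u ≫ pq G u h2 = (eq' G u ≫ vq G u) ≫ pq G u h2 := by rw [eq'_vq]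
    _ = pq' G u h2 := by
      rw [Category.assoc, vq_pq, ← Category.assoc, eq'_snd, Category.id_comp]

theorem t_pq : G.t ≫ pq G u h2 = G.s ≫ pq G u h2 := by
  have hepi : Epi (pullback.fst G.s (vq G u)) := by
    have : EffectiveEpi (pullback.fst G.s (vq G u)) := inferInstance
    infer_instance
  rw [← cancel_epi (pullback.fst G.s (vq G u))]
  -- notation
  set r := pullback.fst G.s (vq G u) with hr
  set a := pullback.snd G.s (vq G u) with ha
  have hra : r ≫ G.s = (a ≫ pullback.fst G.t u) ≫ G.s := by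
    rw [Category.assoc]
    exact pullback.condition
  have hs : (a ≫ pullback.fst G.t u) ≫ G.s = (r ≫ G.i) ≫ G.t := by
    rw [Category.assoc r, G.i_t, hra]
  have hbt : comp G (a ≫ pullback.fst G.t u) (r ≫ G.i) hs ≫ G.t = (a ≫ pullback.snd G.t u) ≫ u := by
    rw [comp_t, Category.assoc, Category.assoc, pullback.condition]
  have hbs : comp G (a ≫ pullback.fst G.t u) (r ≫ G.i) hs ≫ G.s = r ≫ G.t := by
    rw [comp_s, Category.assoc, G.i_s]
  obtain ⟨b, hb1, hb2⟩ : ∃ b : pullback G.s (vq G u) ⟶ Vq G u, b ≫ vq G u = r ≫ G.t ∧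
      b ≫ pullback.snd G.t u = a ≫ pullback.snd G.t u := by
    refine ⟨pullback.lift _ _ hbt, ?_, pullback.lift_snd _ _ _⟩
    unfold vq
    rw [pullback.lift_fst_assoc, hbs]
  calc r ≫ G.t ≫ pq G u h2 = b ≫ vq G u ≫ pq G u h2 := by rw [← Category.assoc, ← hb1, Category.assoc]
    _ = a ≫ pullback.snd G.t u ≫ pq' G u h2 := by rw [vq_pq, ← Category.assoc, hb2, Category.assoc]
    _ = a ≫ vq G u ≫ pq G u h2 := by rw [vq_pq]
    _ = r ≫ G.s ≫ pq G u h2 := by
      rw [← Category.assoc, ← Category.assoc r]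
      congr 1
      exact pullback.condition.symm

end Groth.Agent.R2.H53.GrpdQS

namespace Groth.Agent.R2.H53.GrpdQS

variable {S : Scheme.{u}} (G : Grpd.GroupoidScheme S) {U' : Scheme.{u}} (u : U' ⟶ G.U) [Mono u]
  [IsFinite (vq G u)] [Flat (vq G u)] [LocallyOfFinitePresentation (vq G u)] [Surjective (vq G u)]
  (h2 : ∀ E : Set U', (∀ x ∈ E, ∀ y ∈ E, ∃ r : G.R, G.t.base r = u.base x ∧ G.s.base r = u.base y) →
      ∃ W : U'.Opens, IsAffineOpen W ∧ E ⊆ (W : Set U'))

/-- the universal property of `pq`. -/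
theorem existsUnique_desc_pq {Z : Scheme.{u}} (h : G.U ⟶ Z) (hh : G.t ≫ h = G.s ≫ h) :
    ∃! g : Yq G u h2 ⟶ Z, pq G u h2 ≫ g = h := by
  have hepi : Epi (vq G u) := inferInstance
  have h' : (Gq G u).t ≫ (u ≫ h) = (Gq G u).s ≫ (u ≫ h) := by
    show tq G u ≫ u ≫ h = sq G u ≫ u ≫ h
    rw [← Category.assoc, tq_u, ← Category.assoc, sq_u, Category.assoc, Category.assoc, hh]
  obtain ⟨g, hg', huniq⟩ : ∃! g : Yq G u h2 ⟶ Z, pq' G u h2 ≫ g = u ≫ h :=
    existsUnique_desc (Gq G u) (hcovq G u h2) acStmt (u ≫ h) h'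
  refine ⟨g, ?_, ?_⟩
  · show pq G u h2 ≫ g = h
    rw [← cancel_epi (vq G u), ← Category.assoc, vq_pq, Category.assoc, hg']
    unfold vq
    rw [← Category.assoc, ← pullback.condition, Category.assoc, Category.assoc, hh]
  · intro g' hg''
    apply huniq
    show pq' G u h2 ≫ g' = u ≫ h
    rw [← u_pq, Category.assoc, hg'']

/-- `pq` is a coequalizer of `(t, s)`. -/
noncomputable def isColimit_pq (w : G.t ≫ pq G u h2 = G.s ≫ pq G u h2) :
    IsColimit (Cofork.ofπ (pq G u h2) w) :=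
  Cofork.IsColimit.mk' _ (fun c => by
    have h := existsUnique_desc_pq G u h2 c.π c.condition
    exact ⟨h.exists.choose, h.exists.choose_spec, fun {m} hm =>
      h.unique hm h.exists.choose_spec⟩)

theorem pq'_surjective : Function.Surjective (pq' G u h2) := p_surjective (Gq G u) (hcovq G u h2)

theorem pq_surjective : Function.Surjective (pq G u h2) := by
  intro y
  obtain ⟨x', rfl⟩ := pq'_surjective G u h2 y
  refine ⟨u x', ?_⟩
  rw [← u_pq, Scheme.Hom.comp_apply]

theorem universallyClosed_pq [UniversallyClosed G.t] : UniversallyClosed (pq G u h2) := by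
  have h1 : IsIntegralHom (pq' G u h2) := isIntegralHom_p (Gq G u) (hcovq G u h2)
  have h2' : UniversallyClosed (vq G u ≫ pq G u h2) := by
    rw [vq_pq]
    infer_instance
  exact UniversallyClosed.of_comp_surjective (vq G u) (pq G u h2)

end Groth.Agent.R2.H53.GrpdQS

namespace Groth.Agent.R2.H53.GrpdQS

variable {S : Scheme.{u}} (G : Grpd.GroupoidScheme S) {U' : Scheme.{u}} (u : U' ⟶ G.U) [Mono u]
  [IsFinite (vq G u)] [Flat (vq G u)] [LocallyOfFinitePresentation (vq G u)] [Surjective (vq G u)]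
  (h2 : ∀ E : Set U', (∀ x ∈ E, ∀ y ∈ E, ∃ r : G.R, G.t.base r = u.base x ∧ G.s.base r = u.base y) →
      ∃ W : U'.Opens, IsAffineOpen W ∧ E ⊆ (W : Set U'))

theorem pq_eq_iff (hsurj : QSSurjStmt.{u}) (x y : G.U) :
    pq G u h2 x = pq G u h2 y ↔ ∃ r : G.R, G.t r = x ∧ G.s r = y := by
  constructor
  · intro h
    obtain ⟨z, hz1, hz2⟩ := Scheme.Pullback.exists_preimage_pullback (f := pq G u h2)
      (g := pq G u h2) x y h
    obtain ⟨r, rfl⟩ := hsurj G u h2 (t_pq G u h2) z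
    refine ⟨r, ?_, ?_⟩
    · rw [← hz1, ← Scheme.Hom.comp_apply, pullback.lift_fst]
    · rw [← hz2, ← Scheme.Hom.comp_apply, pullback.lift_snd]
  · rintro ⟨r, rfl, rfl⟩
    have := congrArg (fun φ : G.R ⟶ Yq G u h2 => φ r) (t_pq G u h2)
    simp only [Scheme.Hom.comp_apply] at this
    exact this

theorem isOpenMap_pq (hsurj : QSSurjStmt.{u}) (ht : IsOpenMap G.t.base) :
    IsOpenMap (pq G u h2).base := by
  have hs : IsOpenMap G.s.base := by
    have h1 : G.s.base = G.i.base ≫ G.t.base := by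
      rw [← Scheme.Hom.comp_base, G.i_t]
    rw [h1]
    exact ht.comp (G.i.isOpenEmbedding.isOpenMap)
  have hq : Topology.IsQuotientMap (pq' G u h2) :=
    (isOpenMap_p (Gq G u) (hcovq G u h2)).isQuotientMap (pq' G u h2).continuous
      (pq'_surjective G u h2)
  intro W hW
  rw [← hq.isOpen_preimage]
  have : (pq' G u h2) ⁻¹' ((pq G u h2).base '' W) = u ⁻¹' (G.s '' (G.t ⁻¹' W)) := by
    ext x'
    constructor
    · rintro ⟨w, hw, hwx⟩
      have h3 : pq G u h2 w = pq G u h2 (u x') := by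
        rw [← Scheme.Hom.comp_apply u, u_pq]
        exact hwx
      obtain ⟨r, hr1, hr2⟩ := (pq_eq_iff G u h2 hsurj w (u x')).mp h3
      exact ⟨r, by show G.t r ∈ W; rw [hr1]; exact hw, hr2⟩
    · rintro ⟨r, hr, hrx⟩
      refine ⟨G.t r, hr, ?_⟩
      have h3 := (pq_eq_iff G u h2 hsurj (G.t r) (G.s r)).mpr ⟨r, rfl, rfl⟩
      show pq G u h2 (G.t r) = pq' G u h2 x'
      rw [h3, hrx, ← u_pq, Scheme.Hom.comp_apply]
  rw [this]
  exact (hs _ (hW.preimage G.t.continuous)).preimage u.continuous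

end Groth.Agent.R2.H53.GrpdQS
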