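import Mathlib
import Groth.Agent.R2.H53GrpdQS3

set_option autoImplicit false
set_option linter.unusedSectionVars false
universe u

open CategoryTheory CategoryTheory.Limits AlgebraicGeometry
open Groth.Agent.Lib.Helper2.Grpd Groth.Agent.R2.H53.GrpdRestr
open Groth.Agent.R2.H33.GrpdInvOpen Groth.Agent.R2.H53.GrpdASM Groth.Agent.R2.H53.GrpdGlue

namespace Groth.Agent.R2.H53.GrpdQS

variable {S : Scheme.{u}} (G : Grpd.GroupoidScheme S) {U' : Scheme.{u}} (u : U' ⟶ G.U) [Mono u]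
  [IsFinite (vq G u)] [Flat (vq G u)] [LocallyOfFinitePresentation (vq G u)] [Surjective (vq G u)]
  (h2 : ∀ E : Set U', (∀ x ∈ E, ∀ y ∈ E, ∃ r : G.R, G.t.base r = u.base x ∧ G.s.base r = u.base y) →
      ∃ W : U'.Opens, IsAffineOpen W ∧ E ⊆ (W : Set U'))

/-- the key construction: given a test scheme `T` with a map `π` to `U ×_Y U`, and lifts
`a₀, b₀ : T ⟶ V` of the two projections, and `ρ' : T ⟶ R'` connecting the targets, we get an
arrow `T ⟶ R` lifting `π`. -/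
theorem exists_lift_of_data {T : Scheme.{u}} (x y : T ⟶ G.U)
    (a₀ b₀ : T ⟶ Vq G u) (ha : a₀ ≫ vq G u = x) (hb : b₀ ≫ vq G u = y)
    (ρ' : T ⟶ Rq G u) (hρt : ρ' ≫ tq G u = a₀ ≫ pullback.snd G.t u)
    (hρs : ρ' ≫ sq G u = b₀ ≫ pullback.snd G.t u) :
    ∃ r : T ⟶ G.R, r ≫ G.t = x ∧ r ≫ G.s = y := by
  set α := a₀ ≫ pullback.fst G.t u with hα
  set β := b₀ ≫ pullback.fst G.t u with hβ
  set ρ := ρ' ≫ ιRq G u with hρ
  have hαs : α ≫ G.s = x := by rw [hα, Category.assoc]; exact ha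
  have hβs : β ≫ G.s = y := by rw [hβ, Category.assoc]; exact hb
  have hαt : α ≫ G.t = (a₀ ≫ pullback.snd G.t u) ≫ u := by
    rw [hα, Category.assoc, Category.assoc, pullback.condition]
  have hβt : β ≫ G.t = (b₀ ≫ pullback.snd G.t u) ≫ u := by
    rw [hβ, Category.assoc, Category.assoc, pullback.condition]
  have hρt' : ρ ≫ G.t = (a₀ ≫ pullback.snd G.t u) ≫ u := by
    rw [hρ, Category.assoc, ← tq_u, ← Category.assoc, hρt]
  have hρs' : ρ ≫ G.s = (b₀ ≫ pullback.snd G.t u) ≫ u := by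
    rw [hρ, Category.assoc, ← sq_u, ← Category.assoc, hρs]
  have h1 : (α ≫ G.i) ≫ G.s = ρ ≫ G.t := by
    rw [Category.assoc, G.i_s, hαt, hρt']
  have h2' : comp G (α ≫ G.i) ρ h1 ≫ G.s = β ≫ G.t := by
    rw [comp_s, hρs', hβt]
  refine ⟨comp G (comp G (α ≫ G.i) ρ h1) β h2', ?_, ?_⟩
  · rw [comp_t, comp_t, Category.assoc, G.i_t, hαs]
  · rw [comp_s, hβs]

/-- a double cover of `U ×_Y U` on which both projections lift to `V`. -/
theorem exists_double_cover :
    ∃ (T₂ : Scheme.{u}) (π₂ : T₂ ⟶ pullback (pq G u h2) (pq G u h2)) (a₀ b₀ : T₂ ⟶ Vq G u),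
      a₀ ≫ vq G u = π₂ ≫ pullback.fst (pq G u h2) (pq G u h2) ∧
      b₀ ≫ vq G u = π₂ ≫ pullback.snd (pq G u h2) (pq G u h2) ∧ Function.Surjective π₂ ∧
      Flat π₂ ∧ LocallyOfFinitePresentation π₂ := by
  refine ⟨pullback (pullback.fst (pullback.fst (pq G u h2) (pq G u h2)) (vq G u) ≫
      pullback.snd (pq G u h2) (pq G u h2)) (vq G u),
    pullback.fst _ _ ≫ pullback.fst _ _, pullback.fst _ _ ≫ pullback.snd _ _, pullback.snd _ _,
    ?_, ?_, ?_, inferInstance, inferInstance⟩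
  · exact (Category.assoc _ _ _).trans ((congrArg (pullback.fst _ _ ≫ ·)
      pullback.condition.symm).trans (Category.assoc _ _ _).symm)
  · exact pullback.condition.symm.trans (Category.assoc _ _ _).symm
  · have hs1 : Function.Surjective
        (pullback.fst (pullback.fst (pq G u h2) (pq G u h2)) (vq G u)) :=
      (inferInstance : Surjective
        (pullback.fst (pullback.fst (pq G u h2) (pq G u h2)) (vq G u))).surj
    have hs2 : Function.Surjective (pullback.fst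
        (pullback.fst (pullback.fst (pq G u h2) (pq G u h2)) (vq G u) ≫
          pullback.snd (pq G u h2) (pq G u h2)) (vq G u)) :=
      (inferInstance : Surjective (pullback.fst
        (pullback.fst (pullback.fst (pq G u h2) (pq G u h2)) (vq G u) ≫
          pullback.snd (pq G u h2) (pq G u h2)) (vq G u))).surj
    intro z
    obtain ⟨t₁, rfl⟩ := hs1 z
    obtain ⟨t₂, rfl⟩ := hs2 t₁
    exact ⟨t₂, by rw [Scheme.Hom.comp_apply]⟩

/-- over a cover of the double cover, the connecting arrow exists. -/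
theorem exists_arrow_cover {T : Scheme.{u}} (π : T ⟶ pullback (pq G u h2) (pq G u h2))
    (a₀ b₀ : T ⟶ Vq G u)
    (ha : a₀ ≫ vq G u = π ≫ pullback.fst (pq G u h2) (pq G u h2))
    (hb : b₀ ≫ vq G u = π ≫ pullback.snd (pq G u h2) (pq G u h2)) :
    ∃ (T₃ : Scheme.{u}) (q₃ : T₃ ⟶ T) (r : T₃ ⟶ G.R), Function.Surjective q₃ ∧
      (Mono G.j → IsIso q₃) ∧
      r ≫ G.t = q₃ ≫ π ≫ pullback.fst (pq G u h2) (pq G u h2) ∧
      r ≫ G.s = q₃ ≫ π ≫ pullback.snd (pq G u h2) (pq G u h2) := by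
  have hxy : (a₀ ≫ pullback.snd G.t u) ≫ pq' G u h2 = (b₀ ≫ pullback.snd G.t u) ≫ pq' G u h2 := by
    calc (a₀ ≫ pullback.snd G.t u) ≫ pq' G u h2 = a₀ ≫ (pullback.snd G.t u ≫ pq' G u h2) :=
          Category.assoc _ _ _
      _ = a₀ ≫ (vq G u ≫ pq G u h2) := by rw [vq_pq]
      _ = (a₀ ≫ vq G u) ≫ pq G u h2 := (Category.assoc _ _ _).symm
      _ = (π ≫ pullback.fst (pq G u h2) (pq G u h2)) ≫ pq G u h2 := by rw [ha]
      _ = π ≫ pullback.fst (pq G u h2) (pq G u h2) ≫ pq G u h2 := Category.assoc _ _ _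
      _ = π ≫ pullback.snd (pq G u h2) (pq G u h2) ≫ pq G u h2 := by rw [pullback.condition]
      _ = (π ≫ pullback.snd (pq G u h2) (pq G u h2)) ≫ pq G u h2 := (Category.assoc _ _ _).symm
      _ = (b₀ ≫ vq G u) ≫ pq G u h2 := by rw [hb]
      _ = b₀ ≫ (vq G u ≫ pq G u h2) := Category.assoc _ _ _
      _ = b₀ ≫ (pullback.snd G.t u ≫ pq' G u h2) := by rw [vq_pq]
      _ = (b₀ ≫ pullback.snd G.t u) ≫ pq' G u h2 := (Category.assoc _ _ _).symm
  obtain ⟨w₂, hw₂1, hw₂2⟩ : ∃ w₂ : T ⟶ pullback (pq' G u h2) (pq' G u h2),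
      w₂ ≫ pullback.fst _ _ = a₀ ≫ pullback.snd G.t u ∧
      w₂ ≫ pullback.snd _ _ = b₀ ≫ pullback.snd G.t u :=
    ⟨pullback.lift _ _ hxy, pullback.lift_fst _ _ _, pullback.lift_snd _ _ _⟩
  obtain ⟨L, hL1, hL2, hL, hLiso⟩ : ∃ L : Rq G u ⟶ pullback (pq' G u h2) (pq' G u h2),
      L ≫ pullback.fst _ _ = tq G u ∧ L ≫ pullback.snd _ _ = sq G u ∧ Function.Surjective L ∧
      (Mono G.j → IsIso L) :=
    ⟨pullback.lift (tq G u) (sq G u) (tq_pq' G u h2), pullback.lift_fst _ _ _,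
      pullback.lift_snd _ _ _, surjective_lift_p (Gq G u) (hcovq G u h2) (tq_pq' G u h2),
      fun _ => isIso_lift_p (Gq G u) (hcovq G u h2) (tq_pq' G u h2)⟩
  have hρt : pullback.snd w₂ L ≫ tq G u = (pullback.fst w₂ L ≫ a₀) ≫ pullback.snd G.t u := by
    rw [← hL1, ← Category.assoc, ← pullback.condition, Category.assoc, hw₂1, Category.assoc]
  have hρs : pullback.snd w₂ L ≫ sq G u = (pullback.fst w₂ L ≫ b₀) ≫ pullback.snd G.t u := by
    rw [← hL2, ← Category.assoc, ← pullback.condition, Category.assoc, hw₂2, Category.assoc]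
  obtain ⟨r, hrt, hrs⟩ := exists_lift_of_data G u
    (pullback.fst w₂ L ≫ π ≫ pullback.fst (pq G u h2) (pq G u h2))
    (pullback.fst w₂ L ≫ π ≫ pullback.snd (pq G u h2) (pq G u h2))
    (pullback.fst w₂ L ≫ a₀) (pullback.fst w₂ L ≫ b₀)
    ((Category.assoc _ _ _).trans (by rw [ha])) ((Category.assoc _ _ _).trans (by rw [hb]))
    (pullback.snd w₂ L) hρt hρs
  refine ⟨pullback w₂ L, pullback.fst w₂ L, r, ?_, ?_, hrt, hrs⟩
  · have : Surjective L := ⟨hL⟩
    exact (inferInstance : Surjective (pullback.fst w₂ L)).surj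
  · intro hj
    have := hLiso hj
    infer_instance

theorem qsSurjStmt : QSSurjStmt.{u} := by
  intro S G U' u _ _ _ _ _ h2 w z
  obtain ⟨T₂, π₂, a₀, b₀, ha, hb, hπ₂, -, -⟩ := exists_double_cover G u h2
  obtain ⟨T₃, q₃, r, hq₃, -, hrt, hrs⟩ := exists_arrow_cover G u h2 π₂ a₀ b₀ ha hb
  have hr : r ≫ pullback.lift G.t G.s w = q₃ ≫ π₂ := by
    apply pullback.hom_ext
    · rw [Category.assoc, pullback.lift_fst, hrt, Category.assoc]
    · rw [Category.assoc, pullback.lift_snd, hrs, Category.assoc]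
  obtain ⟨t₂, rfl⟩ := hπ₂ z
  obtain ⟨t₃, rfl⟩ := hq₃ t₂
  refine ⟨r t₃, ?_⟩
  have := congrArg (fun φ : T₃ ⟶ pullback (pq G u h2) (pq G u h2) => φ t₃) hr
  simp only [Scheme.Hom.comp_apply] at this
  exact this

theorem mono_lift_of_mono_j [Mono G.j] {Y : Scheme.{u}} (p : G.U ⟶ Y) (w : G.t ≫ p = G.s ≫ p) :
    Mono (pullback.lift G.t G.s w) := by
  constructor
  intro Z a b hab
  rw [← cancel_mono G.j]
  have h1 := congrArg (· ≫ pullback.fst p p) hab
  have h2' := congrArg (· ≫ pullback.snd p p) hab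
  simp only [Category.assoc, pullback.lift_fst, pullback.lift_snd] at h1 h2'
  unfold Grpd.GroupoidScheme.j
  apply pullback.hom_ext
  · rw [Category.assoc, Category.assoc, pullback.lift_fst, h1]
  · rw [Category.assoc, Category.assoc, pullback.lift_snd, h2']

theorem qsPBStmt : QSPBStmt.{u} := by
  intro S G U' u _ _ _ _ _ h2 _ w
  obtain ⟨T₂, π₂, a₀, b₀, ha, hb, hπ₂, hfl, hlfp⟩ := exists_double_cover G u h2
  obtain ⟨T₃, q₃, r, hq₃, hiso, hrt, hrs⟩ := exists_arrow_cover G u h2 π₂ a₀ b₀ ha hb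
  have hq₃iso : IsIso q₃ := hiso inferInstance
  have hr : r ≫ pullback.lift G.t G.s w = q₃ ≫ π₂ := by
    apply pullback.hom_ext
    · rw [Category.assoc, pullback.lift_fst, hrt, Category.assoc]
    · rw [Category.assoc, pullback.lift_snd, hrs, Category.assoc]
  have hmono : Mono (pullback.lift G.t G.s w) := mono_lift_of_mono_j G _ w
  have hsurj : Surjective π₂ := ⟨hπ₂⟩
  have hee : EffectiveEpi (q₃ ≫ π₂) := inferInstance
  have hepi : Epi (q₃ ≫ π₂) := inferInstance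
  let σ : pullback (pq G u h2) (pq G u h2) ⟶ G.R := EffectiveEpi.desc (q₃ ≫ π₂) r (by
    intro Z g₁ g₂ h12
    rw [← cancel_mono (pullback.lift G.t G.s w), Category.assoc, Category.assoc, hr, h12])
  have hσ : (q₃ ≫ π₂) ≫ σ = r := EffectiveEpi.fac _ _ _
  have h1 : σ ≫ pullback.lift G.t G.s w = 𝟙 _ := by
    rw [← cancel_epi (q₃ ≫ π₂), ← Category.assoc, hσ, hr, Category.comp_id]
  have h2' : pullback.lift G.t G.s w ≫ σ = 𝟙 _ := by
    rw [← cancel_mono (pullback.lift G.t G.s w), Category.assoc, h1, Category.comp_id,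
      Category.id_comp]
  exact ⟨σ, h2', h1⟩

end Groth.Agent.R2.H53.GrpdQS
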