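import Mathlib
import Groth.Agent.R2.H53GrpdQS4
import Groth.Agent.R2.H53FlatDesc

set_option autoImplicit false
set_option linter.unusedSectionVars false
universe u

open CategoryTheory CategoryTheory.Limits AlgebraicGeometry
open Groth.Agent.Lib.Helper2.Grpd Groth.Agent.R2.H53.GrpdRestr
open Groth.Agent.R2.H33.GrpdInvOpen Groth.Agent.R2.H53.GrpdASM Groth.Agent.R2.H53.GrpdGlue

namespace Groth.Agent.R2.H53.GrpdQS

variable {S : Scheme.{u}} (G : Grpd.GroupoidScheme S) {U' : Scheme.{u}} (u : U' ⟶ G.U) [Mono u]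
  [IsFinite (vq G u)] [Flat (vq G u)] [LocallyOfFinitePresentation (vq G u)] [Surjective (vq G u)]
  (h2 : ∀ E : Set U', (∀ x ∈ E, ∀ y ∈ E, ∃ r : G.R, G.t.base r = u.base x ∧ G.s.base r = u.base y) →
      ∃ W : U'.Opens, IsAffineOpen W ∧ E ⊆ (W : Set U'))

/-- if `j` is a monomorphism and `t` is flat, the quotient map is flat. -/
theorem flat_pq [Mono G.j] [Flat G.t] : Flat (pq G u h2) := by
  have h1 : Flat (pq' G u h2) := flat_p (Gq G u) (hcovq G u h2)
  have h3 : Flat (vq G u ≫ pq G u h2) := by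
    rw [vq_pq]
    infer_instance
  exact Groth.Agent.R2.H53.FlatDesc.flat_of_flat_comp_of_surjective (vq G u) (pq G u h2)

include h2 in
/-- **SGA 3 V Théorème 6.1**, assembled. -/
theorem main :
    ∃ (Y : Scheme.{u}) (p : G.U ⟶ Y) (w : G.t ≫ p = G.s ≫ p),
      Nonempty (IsColimit (Cofork.ofπ p w)) ∧ Surjective p ∧
      (IsOpenMap G.t.base → IsOpenMap p.base) ∧ (UniversallyClosed G.t → UniversallyClosed p) ∧
      Function.Surjective (pullback.lift G.t G.s w).base ∧
      (Mono G.j → IsPullback G.t G.s p p ∧ (Flat G.t → Flat p)) := by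
  refine ⟨Yq G u h2, pq G u h2, t_pq G u h2, ⟨isColimit_pq G u h2 _⟩, ⟨pq_surjective G u h2⟩,
    isOpenMap_pq G u h2 qsSurjStmt, fun _ => universallyClosed_pq G u h2,
    qsSurjStmt G u h2 (t_pq G u h2), fun hj => ⟨?_, fun _ => flat_pq G u h2⟩⟩
  have := qsPBStmt G u h2 (t_pq G u h2)
  exact IsPullback.of_iso_pullback ⟨t_pq G u h2⟩ (asIso (pullback.lift G.t G.s (t_pq G u h2)))
    (pullback.lift_fst _ _ _) (pullback.lift_snd _ _ _)

end Groth.Agent.R2.H53.GrpdQS
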