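import Mathlib
import Groth.Prelude.Def_QuotSh
import Groth.Prelude.Def_DescFam
import Groth.Agent.Lib.Helper9QuotSh
import Groth.Agent.Lib.Helper12QuotSh

/-!
# fppf-locally representable (by affine schemes) sheaves are representable (helper53)

Namespace `Groth.Agent.R2.H53.RepDesc`.
-/

set_option autoImplicit false
universe u

open CategoryTheory CategoryTheory.Limits AlgebraicGeometry Opposite

namespace Groth.Agent.R2.H53.RepDesc

open Groth.Agent.Lib.Helper9 Groth.Agent.Lib.Helper12.QuotShLib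

section Mono

variable (K : Precoverage Scheme.{u}) {S : Scheme.{u}}

/-- maps out of `rep T` are sections over `T`. -/
noncomputable def repHomEquiv (T : Over S) (W : QuotSh.Sh K S) :
    (QuotSh.rep K T ⟶ W) ≃ W.obj.obj (op T) :=
  ((sheafificationAdjunction (QuotSh.J K S) (Type (u + 1))).homEquiv
    (yoneda.obj T ⋙ uliftFunctor.{u + 1, u}) W).trans
    (uliftYonedaEquiv.{u + 1} (X := T) (F := W.obj))

lemma repHomEquiv_comp (T : Over S) {W₁ W₂ : QuotSh.Sh K S} (g : QuotSh.rep K T ⟶ W₁)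
    (ζ : W₁ ⟶ W₂) :
    repHomEquiv K T W₂ (g ≫ ζ) = ζ.hom.app (op T) (repHomEquiv K T W₁ g) := by
  unfold repHomEquiv
  simp only [Equiv.trans_apply]
  rw [Adjunction.homEquiv_naturality_right]
  exact uliftYonedaEquiv_comp _ _

/-- representable sheaves detect monomorphisms. -/
lemma mono_of_rep_injective {W₁ W₂ : QuotSh.Sh K S} (ζ : W₁ ⟶ W₂)
    (h : ∀ (T : Over S) (g₁ g₂ : QuotSh.rep K T ⟶ W₁), g₁ ≫ ζ = g₂ ≫ ζ → g₁ = g₂) : Mono ζ := by
  have h1 : ∀ X : (Over S)ᵒᵖ, Mono (ζ.hom.app X) := by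
    intro X
    rw [mono_iff_injective]
    intro s₁ s₂ hs
    obtain ⟨g₁, rfl⟩ := (repHomEquiv K X.unop W₁).surjective s₁
    obtain ⟨g₂, rfl⟩ := (repHomEquiv K X.unop W₁).surjective s₂
    have := h X.unop g₁ g₂ ((repHomEquiv K X.unop W₂).injective (by
      rw [repHomEquiv_comp, repHomEquiv_comp]; exact hs))
    rw [this]
  have h2 : Mono ζ.hom := NatTrans.mono_of_mono_app _
  exact Sheaf.Hom.mono_of_presheaf_mono _ _ ζ

end Mono

section Beta

variable {S S' : Scheme.{u}} {f : S' ⟶ S} {Z : QuotSh.Sh Scheme.fppfPrecoverage S}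
  {T' : Over S} {a : T' ⟶ Over.mk f}
  (φ : QuotSh.rep Scheme.fppfPrecoverage T' ≅ Z ⨯ QuotSh.rep Scheme.fppfPrecoverage (Over.mk f))
  (hφ : φ.hom ≫ prod.snd = QuotSh.repMap Scheme.fppfPrecoverage a)

include hφ in
lemma preimage_comp_a (W : Over S) (x : W ⟶ Over.mk f)
    (z : QuotSh.rep Scheme.fppfPrecoverage W ⟶ Z) :
    (repFunctorFullyFaithful Scheme.fppfPrecoverage).preimage
      (show (repFunctor Scheme.fppfPrecoverage S).obj W ⟶
        (repFunctor Scheme.fppfPrecoverage S).obj T' from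
        prod.lift z (QuotSh.repMap Scheme.fppfPrecoverage x) ≫ φ.inv) ≫ a = x := by
  apply (repFunctor Scheme.fppfPrecoverage S).map_injective
  rw [Functor.map_comp, Functor.FullyFaithful.map_preimage]
  change (prod.lift z (QuotSh.repMap Scheme.fppfPrecoverage x) ≫ φ.inv) ≫
    QuotSh.repMap Scheme.fppfPrecoverage a = QuotSh.repMap Scheme.fppfPrecoverage x
  rw [← hφ, Category.assoc, Iso.inv_hom_id_assoc, prod.lift_snd]

/-- Over-level: lifts of `x : W ⟶ S'` to `T'` are the maps `h_W ⟶ Z`. -/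
noncomputable def βO (W : Over S) (x : W ⟶ Over.mk f) :
    {v : W ⟶ T' // v ≫ a = x} ≃ (QuotSh.rep Scheme.fppfPrecoverage W ⟶ Z) where
  toFun v := QuotSh.repMap Scheme.fppfPrecoverage v.1 ≫ φ.hom ≫ prod.fst
  invFun z := ⟨(repFunctorFullyFaithful Scheme.fppfPrecoverage).preimage
      (show (repFunctor Scheme.fppfPrecoverage S).obj W ⟶
        (repFunctor Scheme.fppfPrecoverage S).obj T' from
        prod.lift z (QuotSh.repMap Scheme.fppfPrecoverage x) ≫ φ.inv), preimage_comp_a φ hφ W x z⟩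
  left_inv v := by
    apply Subtype.ext
    apply (repFunctor Scheme.fppfPrecoverage S).map_injective
    rw [Functor.FullyFaithful.map_preimage]
    change prod.lift _ _ ≫ φ.inv = QuotSh.repMap Scheme.fppfPrecoverage v.1
    rw [Iso.comp_inv_eq]
    apply Limits.prod.hom_ext
    · rw [prod.lift_fst, Category.assoc]
    · rw [prod.lift_snd, Category.assoc, hφ, ← repMap_comp, v.2]
  right_inv z := by
    change (repFunctor Scheme.fppfPrecoverage S).map
      ((repFunctorFullyFaithful Scheme.fppfPrecoverage).preimage _) ≫ φ.hom ≫ prod.fst = z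
    rw [Functor.FullyFaithful.map_preimage]
    change (prod.lift z _ ≫ φ.inv) ≫ φ.hom ≫ prod.fst = z
    rw [Category.assoc, Iso.inv_hom_id_assoc, prod.lift_fst]

lemma βO_apply (W : Over S) (x : W ⟶ Over.mk f) (v : {v : W ⟶ T' // v ≫ a = x}) :
    βO φ hφ W x v = QuotSh.repMap Scheme.fppfPrecoverage v.1 ≫ φ.hom ≫ prod.fst := rfl

variable (a) in
/-- Scheme-level lifts as Over-level lifts. -/
def liftsEquiv {T : Scheme.{u}} (t : T ⟶ S) (x : T ⟶ S') (hx : x ≫ f = t) :
    Desc.Lifts (Over.mk a.left) x ≃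
      {v : Over.mk t ⟶ T' // v ≫ a = (Over.homMk x hx : Over.mk t ⟶ Over.mk f)} where
  toFun v := ⟨Over.homMk v.1 (by
      have h1 : v.1 ≫ a.left = x := v.2
      have h2 : a.left ≫ f = T'.hom := Over.w a
      change v.1 ≫ T'.hom = t
      rw [← h2, ← Category.assoc, h1, hx]), by
    apply Over.OverMorphism.ext
    exact v.2⟩
  invFun v := ⟨v.1.left, by
    have := congrArg CommaMorphism.left v.2
    exact this⟩
  left_inv v := rfl
  right_inv v := by
    apply Subtype.ext
    apply Over.OverMorphism.ext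
    rfl

/-- Scheme-level: `T`-points of `T'` over `x` are the maps `h_T ⟶ Z`. -/
noncomputable def β {T : Scheme.{u}} (t : T ⟶ S) (x : T ⟶ S') (hx : x ≫ f = t) :
    Desc.Lifts (Over.mk a.left) x ≃ (QuotSh.rep Scheme.fppfPrecoverage (Over.mk t) ⟶ Z) :=
  (liftsEquiv a t x hx).trans (βO φ hφ (Over.mk t) (Over.homMk x hx))

lemma β_apply {T : Scheme.{u}} (t : T ⟶ S) (x : T ⟶ S') (hx : x ≫ f = t)
    (v : Desc.Lifts (Over.mk a.left) x) :
    β φ hφ t x hx v =
      QuotSh.repMap Scheme.fppfPrecoverage (liftsEquiv a t x hx v).1 ≫ φ.hom ≫ prod.fst := rfl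

lemma β_natural {T T₂ : Scheme.{u}} (g : T₂ ⟶ T) (t : T ⟶ S) (t₂ : T₂ ⟶ S) (hg : g ≫ t = t₂)
    (x : T ⟶ S') (hx : x ≫ f = t) (x₂ : T₂ ⟶ S') (hx₂ : x₂ ≫ f = t₂)
    (v : Desc.Lifts (Over.mk a.left) x) (v₂ : Desc.Lifts (Over.mk a.left) x₂)
    (hv : v₂.1 = g ≫ v.1) :
    β φ hφ t₂ x₂ hx₂ v₂ =
      QuotSh.repMap Scheme.fppfPrecoverage (Over.homMk g hg : Over.mk t₂ ⟶ Over.mk t) ≫
        β φ hφ t x hx v := by
  have e : (liftsEquiv a t₂ x₂ hx₂ v₂).1 =
      (Over.homMk g hg : Over.mk t₂ ⟶ Over.mk t) ≫ (liftsEquiv a t x hx v).1 := by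
    apply Over.OverMorphism.ext
    exact hv
  rw [β_apply, β_apply, e, repMap_comp, Category.assoc]

/-- two points (over `x₀` and `x₁`) are related by the descent datum iff they define the same map
to `Z`. -/
lemma β_symm_apply_eq_iff {T : Scheme.{u}} (t : T ⟶ S) (x₀ x₁ : T ⟶ S') (hx₀ : x₀ ≫ f = t)
    (hx₁ : x₁ ≫ f = t) (v : Desc.Lifts (Over.mk a.left) x₀) (w : Desc.Lifts (Over.mk a.left) x₁) :
    (β φ hφ t x₁ hx₁).symm (β φ hφ t x₀ hx₀ v) = w ↔ β φ hφ t x₀ hx₀ v = β φ hφ t x₁ hx₁ w := by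
  rw [Equiv.symm_apply_eq]

lemma β_comp_aux {T : Scheme.{u}} (t t' : T ⟶ S) (e : t = t') (x₀ x₁ x₂ : T ⟶ S')
    (h₀ : x₀ ≫ f = t) (h₁ : x₁ ≫ f = t) (h₁' : x₁ ≫ f = t') (h₂' : x₂ ≫ f = t')
    (h₂ : x₂ ≫ f = t) (v : Desc.Lifts (Over.mk a.left) x₀) :
    (β φ hφ t' x₂ h₂').symm (β φ hφ t' x₁ h₁' ((β φ hφ t x₁ h₁).symm (β φ hφ t x₀ h₀ v))) =
      (β φ hφ t x₂ h₂).symm (β φ hφ t x₀ h₀ v) := by
  subst e
  simp

/-- The descent datum on `T' ⟶ S'` relative to `f : S' ⟶ S` coming from `T' ≅ Z × S'`. -/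
noncomputable def dd : Desc.SchDDFam (fun _ : PUnit.{u + 1} => f) where
  obj _ := Over.mk a.left
  φ T _ _ x₀ x₁ h := (β φ hφ (x₀ ≫ f) x₀ rfl).trans (β φ hφ (x₀ ≫ f) x₁ h.symm).symm
  φ_natural T T₂ g _ _ x₀ x₁ h y₀ y₁ hy₀ hy₁ h' v v' hv' := by
    subst hy₀ hy₁
    simp only [Equiv.trans_apply]
    have hg : g ≫ (x₀ ≫ f) = (g ≫ x₀) ≫ f := (Category.assoc _ _ _).symm
    have hw : ((β φ hφ (x₀ ≫ f) x₁ h.symm).symm (β φ hφ (x₀ ≫ f) x₀ rfl v)).1 ≫ a.left = x₁ :=
      ((β φ hφ (x₀ ≫ f) x₁ h.symm).symm (β φ hφ (x₀ ≫ f) x₀ rfl v)).2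
    have key : (β φ hφ ((g ≫ x₀) ≫ f) (g ≫ x₁) h'.symm).symm
        (β φ hφ ((g ≫ x₀) ≫ f) (g ≫ x₀) rfl v') =
        ⟨g ≫ ((β φ hφ (x₀ ≫ f) x₁ h.symm).symm (β φ hφ (x₀ ≫ f) x₀ rfl v)).1, by
          change (g ≫ _) ≫ a.left = g ≫ x₁
          rw [Category.assoc, hw]⟩ := by
      rw [Equiv.symm_apply_eq]
      rw [β_natural φ hφ g (x₀ ≫ f) ((g ≫ x₀) ≫ f) hg x₀ rfl (g ≫ x₀) rfl v v' hv',
        β_natural φ hφ g (x₀ ≫ f) ((g ≫ x₀) ≫ f) hg x₁ h.symm (g ≫ x₁) h'.symm
          ((β φ hφ (x₀ ≫ f) x₁ h.symm).symm (β φ hφ (x₀ ≫ f) x₀ rfl v)) _ rfl,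
        Equiv.apply_symm_apply]
    rw [key]
  φ_self T _ x v := by simp
  φ_comp T _ _ _ x₀ x₁ x₂ h₀₁ h₁₂ v := by
    simp only [Equiv.trans_apply]
    exact β_comp_aux φ hφ (x₀ ≫ f) (x₁ ≫ f) h₀₁ x₀ x₁ x₂ rfl h₀₁.symm rfl h₁₂.symm
      (h₀₁.trans h₁₂).symm v

lemma dd_obj (i : PUnit.{u + 1}) : (dd φ hφ).obj i = Over.mk a.left := rfl

lemma dd_φ {T : Scheme.{u}} (x₀ x₁ : T ⟶ S') (h : x₀ ≫ f = x₁ ≫ f)
    (v : Desc.Lifts (Over.mk a.left) x₀) :
    (dd φ hφ).φ (i := PUnit.unit) (j := PUnit.unit) x₀ x₁ h v =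
      (β φ hφ (x₀ ≫ f) x₁ h.symm).symm (β φ hφ (x₀ ≫ f) x₀ rfl v) := rfl

/-- characterisation of the descent datum, with an arbitrary structure morphism. -/
lemma dd_φ_eq_iff {T : Scheme.{u}} (t : T ⟶ S) (x₀ x₁ : T ⟶ S') (hx₀ : x₀ ≫ f = t)
    (hx₁ : x₁ ≫ f = t) (v : Desc.Lifts (Over.mk a.left) x₀) (w : Desc.Lifts (Over.mk a.left) x₁) :
    (dd φ hφ).φ (i := PUnit.unit) (j := PUnit.unit) x₀ x₁ (hx₀.trans hx₁.symm) v = w ↔
      β φ hφ t x₀ hx₀ v = β φ hφ t x₁ hx₁ w := by
  subst hx₀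
  exact Equiv.symm_apply_eq (β φ hφ (x₀ ≫ f) x₁ hx₁)

end Beta

section Main

variable {S S' : Scheme.{u}} {f : S' ⟶ S} {Z : QuotSh.Sh Scheme.fppfPrecoverage S}
  {T' : Over S} {a : T' ⟶ Over.mk f}
  (φ : QuotSh.rep Scheme.fppfPrecoverage T' ≅ Z ⨯ QuotSh.rep Scheme.fppfPrecoverage (Over.mk f))
  (hφ : φ.hom ≫ prod.snd = QuotSh.repMap Scheme.fppfPrecoverage a)

/-- two `W`-points of `T'` which are related by the descent datum define the same map to `Z`. -/
lemma rel_of_dd (W : Over S) (v w : W ⟶ T')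
    (h : (v.left ≫ a.left) ≫ f = (w.left ≫ a.left) ≫ f)
    (hvw : ((dd φ hφ).φ (i := PUnit.unit) (j := PUnit.unit) (v.left ≫ a.left) (w.left ≫ a.left) h
      ⟨v.left, rfl⟩).1 = w.left) :
    QuotSh.repMap Scheme.fppfPrecoverage v ≫ φ.hom ≫ prod.fst =
      QuotSh.repMap Scheme.fppfPrecoverage w ≫ φ.hom ≫ prod.fst := by
  rcases W with ⟨T, ⟨⟨⟩⟩, t⟩
  have hv : (v.left ≫ a.left) ≫ f = t := by
    have h1 : v.left ≫ T'.hom = t := Over.w v
    have h2 : a.left ≫ f = T'.hom := Over.w a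
    rw [Category.assoc, h2, h1]
  have hw : (w.left ≫ a.left) ≫ f = t := h.symm.trans hv
  have key := (dd_φ_eq_iff φ hφ t (v.left ≫ a.left) (w.left ≫ a.left) hv hw ⟨v.left, rfl⟩
    ⟨w.left, rfl⟩).1 (Subtype.ext hvw)
  rw [β_apply, β_apply] at key
  have e1 : (liftsEquiv a t (v.left ≫ a.left) hv ⟨v.left, rfl⟩).1 = v := by
    apply Over.OverMorphism.ext
    rfl
  have e2 : (liftsEquiv a t (w.left ≫ a.left) hw ⟨w.left, rfl⟩).1 = w := by
    apply Over.OverMorphism.ext
    rfl
  rw [e1, e2] at key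
  exact key

lemma epi_prod_fst [Flat f] [Surjective f] [LocallyOfFinitePresentation f] :
    Epi (prod.fst : Z ⨯ QuotSh.rep Scheme.fppfPrecoverage (Over.mk f) ⟶ Z) := by
  have sq := IsPullback.of_hasBinaryProduct' Z (QuotSh.rep Scheme.fppfPrecoverage (Over.mk f))
  refine ToposLike.epi_of_isPullback sq ?_
  let fS : Over.mk f ⟶ Over.mk (𝟙 S) := Over.homMk f (Category.comp_id f)
  have : Flat fS.left := by change Flat f; infer_instance
  have : Surjective fS.left := by change Surjective f; infer_instance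
  have : LocallyOfFinitePresentation fS.left := by
    change LocallyOfFinitePresentation f; infer_instance
  have h1 : Epi (QuotSh.repMap Scheme.fppfPrecoverage fS) := epi_repMap_fppf fS
  have hT : IsTerminal ((repFunctor Scheme.fppfPrecoverage S).obj (Over.mk (𝟙 S))) :=
    IsTerminal.isTerminalObj (repFunctor Scheme.fppfPrecoverage S) _ Over.mkIdTerminal
  have h2 : IsIso (terminal.from ((repFunctor Scheme.fppfPrecoverage S).obj (Over.mk (𝟙 S)))) :=
    isIso_of_isTerminal hT terminalIsTerminal _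
  have h3 : terminal.from (QuotSh.rep Scheme.fppfPrecoverage (Over.mk f)) =
      QuotSh.repMap Scheme.fppfPrecoverage fS ≫
        terminal.from ((repFunctor Scheme.fppfPrecoverage S).obj (Over.mk (𝟙 S))) :=
    Subsingleton.elim _ _
  rw [h3]
  have h4 : Epi (terminal.from ((repFunctor Scheme.fppfPrecoverage S).obj (Over.mk (𝟙 S)))) :=
    @IsIso.epi_of_iso _ _ _ _ _ h2
  exact @epi_comp _ _ _ _ _ _ h1 _ h4

/-- If the descent datum `dd φ hφ` is effective, descended to `U`, then `U` represents `Z`. -/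
theorem nonempty_iso_of_effective [Flat f] [Surjective f] [LocallyOfFinitePresentation f]
    (U : Over S)
    (ψ : (Desc.toDDFam (fun _ : PUnit.{u + 1} => f)).obj U ≅ dd φ hφ) :
    Nonempty (QuotSh.rep Scheme.fppfPrecoverage U ≅ Z) := by
  -- the isomorphism `S' ×_S U ≅ T'` over `S'`
  let e : pullback f U.hom ⟶ T'.left := (ψ.hom.hom PUnit.unit).left
  let einv : T'.left ⟶ pullback f U.hom := (ψ.inv.hom PUnit.unit).left
  have hee : e ≫ einv = 𝟙 _ := by
    have := congrArg (fun m => (Desc.SchDDFam.Hom.hom m PUnit.unit).left) ψ.hom_inv_id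
    exact this
  have hee' : einv ≫ e = 𝟙 _ := by
    have := congrArg (fun m => (Desc.SchDDFam.Hom.hom m PUnit.unit).left) ψ.inv_hom_id
    exact this
  have he : e ≫ a.left = pullback.fst f U.hom := Over.w (ψ.hom.hom PUnit.unit)
  have hcomm := ψ.hom.comm
  have haf : a.left ≫ f = T'.hom := Over.w a
  -- objects and morphisms over `S`
  let U' : Over S := Over.mk (pullback.snd f U.hom ≫ U.hom)
  let p : U' ⟶ U := Over.homMk (pullback.snd f U.hom) rfl
  let xU : U' ⟶ Over.mk f := Over.homMk (pullback.fst f U.hom) pullback.condition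
  let e' : U' ⟶ T' := Over.homMk e (by
    change e ≫ T'.hom = pullback.snd f U.hom ≫ U.hom
    rw [← haf, ← Category.assoc, he, pullback.condition])
  have he'a : e' ≫ a = xU := by
    apply Over.OverMorphism.ext
    exact he
  have : IsIso ((Over.forget S).map e') := ⟨einv, hee, hee'⟩
  have : IsIso e' := isIso_of_reflects_iso e' (Over.forget S)
  have : Flat p.left := by change Flat (pullback.snd f U.hom); infer_instance
  have : Surjective p.left := by change Surjective (pullback.snd f U.hom); infer_instance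
  have : LocallyOfFinitePresentation p.left := by
    change LocallyOfFinitePresentation (pullback.snd f U.hom); infer_instance
  have hpepi : Epi (QuotSh.repMap Scheme.fppfPrecoverage p) := epi_repMap_fppf p
  -- the map `ζ'`
  let ζ' : QuotSh.rep Scheme.fppfPrecoverage U' ⟶ Z :=
    QuotSh.repMap Scheme.fppfPrecoverage e' ≫ φ.hom ≫ prod.fst
  have hζ' : QuotSh.repMap Scheme.fppfPrecoverage (pullback.fst p p) ≫ ζ' =
      QuotSh.repMap Scheme.fppfPrecoverage (pullback.snd p p) ≫ ζ' := by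
    change _ ≫ QuotSh.repMap Scheme.fppfPrecoverage e' ≫ _ =
      _ ≫ QuotSh.repMap Scheme.fppfPrecoverage e' ≫ _
    rw [← Category.assoc, ← Category.assoc _ (QuotSh.repMap Scheme.fppfPrecoverage e'),
      ← repMap_comp, ← repMap_comp]
    have hpp : (pullback.fst p p).left ≫ pullback.snd f U.hom =
        (pullback.snd p p).left ≫ pullback.snd f U.hom :=
      congrArg CommaMorphism.left (pullback.condition (f := p) (g := p))
    have hh : (((pullback.fst p p ≫ e').left) ≫ a.left) ≫ f =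
        (((pullback.snd p p ≫ e').left) ≫ a.left) ≫ f := by
      change (((pullback.fst p p).left ≫ e) ≫ a.left) ≫ f =
        (((pullback.snd p p).left ≫ e) ≫ a.left) ≫ f
      rw [Category.assoc, Category.assoc, Category.assoc, Category.assoc, ← Category.assoc e,
        he, pullback.condition, ← Category.assoc, ← Category.assoc, hpp]
    refine rel_of_dd φ hφ _ _ _ hh ?_
    have h0 : (pullback.fst p p).left ≫ pullback.fst f U.hom =
        (pullback.fst p p ≫ e').left ≫ a.left := by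
      change _ = ((pullback.fst p p).left ≫ e) ≫ a.left
      rw [Category.assoc, he]
    have h1 : (pullback.snd p p).left ≫ pullback.fst f U.hom =
        (pullback.snd p p ≫ e').left ≫ a.left := by
      change _ = ((pullback.snd p p).left ≫ e) ≫ a.left
      rw [Category.assoc, he]
    have key := hcomm (i := PUnit.unit) (j := PUnit.unit) ((pullback.fst p p ≫ e').left ≫ a.left)
      ((pullback.snd p p ≫ e').left ≫ a.left) hh ⟨(pullback.fst p p).left, h0⟩
      ⟨(pullback.fst p p ≫ e').left, rfl⟩ rfl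
    rw [key]
    change (Desc.canMapFam (fun _ : PUnit.{u + 1} => f) U (i := PUnit.unit) (j := PUnit.unit)
      _ _ hh ⟨(pullback.fst p p).left, h0⟩).1 ≫ e = (pullback.snd p p).left ≫ e
    congr 1
    rw [Desc.canMapFam_val]
    apply pullback.hom_ext
    · rw [pullback.lift_fst, h1]
    · rw [pullback.lift_snd]
      exact hpp
  obtain ⟨ζ, hζ, -⟩ := existsUnique_desc_of_kernelPair
    (QuotSh.repMap Scheme.fppfPrecoverage p) hpepi _ _
    (isPullback_repMap Scheme.fppfPrecoverage (IsPullback.of_hasPullback p p)) ζ' hζ'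
  -- `ζ` is an epimorphism
  have hepi : Epi ζ := by
    have h1 : Epi ζ' := by
      have := epi_prod_fst (f := f) (Z := Z)
      have : IsIso (QuotSh.repMap Scheme.fppfPrecoverage e') :=
        (repFunctor Scheme.fppfPrecoverage S).map_isIso e'
      exact epi_comp _ _
    rw [hζ] at h1
    exact epi_of_epi (QuotSh.repMap Scheme.fppfPrecoverage p) ζ
  -- `ζ` is a monomorphism
  have hmono : Mono ζ := by
    refine mono_of_rep_injective Scheme.fppfPrecoverage ζ ?_
    intro T g₁ g₂ hg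
    -- the fppf cover `Tq = T ×_S S' ⟶ T`
    let Tq : Over S := Over.mk (pullback.fst T.hom f ≫ T.hom)
    let q : Tq ⟶ T := Over.homMk (pullback.fst T.hom f) rfl
    let xT : Tq ⟶ Over.mk f := Over.homMk (pullback.snd T.hom f) pullback.condition.symm
    have : Flat q.left := by change Flat (pullback.fst T.hom f); infer_instance
    have : Surjective q.left := by change Surjective (pullback.fst T.hom f); infer_instance
    have : LocallyOfFinitePresentation q.left := by
      change LocallyOfFinitePresentation (pullback.fst T.hom f); infer_instance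
    have hqepi : Epi (QuotSh.repMap Scheme.fppfPrecoverage q) := epi_repMap_fppf q
    -- it suffices to treat morphisms of schemes
    have main : ∀ u₁ u₂ : T ⟶ U, QuotSh.repMap Scheme.fppfPrecoverage u₁ ≫ ζ =
        QuotSh.repMap Scheme.fppfPrecoverage u₂ ≫ ζ → u₁ = u₂ := by
      intro u₁ u₂ hu
      have hcond : ∀ u : T ⟶ U, pullback.snd T.hom f ≫ f =
          (pullback.fst T.hom f ≫ u.left) ≫ U.hom := by
        intro u
        rw [Category.assoc, Over.w u, pullback.condition]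
      let u' : (T ⟶ U) → (Tq ⟶ U') := fun u =>
        Over.homMk (pullback.lift (pullback.snd T.hom f) (pullback.fst T.hom f ≫ u.left) (hcond u))
          (by
            change pullback.lift _ _ _ ≫ pullback.snd f U.hom ≫ U.hom =
              pullback.fst T.hom f ≫ T.hom
            rw [pullback.lift_snd_assoc, Category.assoc, Over.w u])
      have hu'p : ∀ u : T ⟶ U, u' u ≫ p = q ≫ u := by
        intro u
        apply Over.OverMorphism.ext
        exact pullback.lift_snd _ _ _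
      have hu'x : ∀ u : T ⟶ U, u' u ≫ xU = xT := by
        intro u
        apply Over.OverMorphism.ext
        exact pullback.lift_fst _ _ _
      have h1 : ∀ u : T ⟶ U, QuotSh.repMap Scheme.fppfPrecoverage (u' u ≫ e') ≫ φ.hom ≫ prod.fst =
          QuotSh.repMap Scheme.fppfPrecoverage q ≫
            QuotSh.repMap Scheme.fppfPrecoverage u ≫ ζ := by
        intro u
        rw [repMap_comp, Category.assoc]
        change QuotSh.repMap Scheme.fppfPrecoverage (u' u) ≫ ζ' = _
        rw [hζ, ← Category.assoc, ← repMap_comp, hu'p, repMap_comp, Category.assoc]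
      have h2 : ∀ u : T ⟶ U, QuotSh.repMap Scheme.fppfPrecoverage (u' u ≫ e') ≫ φ.hom ≫ prod.snd =
          QuotSh.repMap Scheme.fppfPrecoverage xT := by
        intro u
        rw [hφ, ← repMap_comp, Category.assoc, he'a, hu'x]
      have h3 : QuotSh.repMap Scheme.fppfPrecoverage (u' u₁ ≫ e') ≫ φ.hom =
          QuotSh.repMap Scheme.fppfPrecoverage (u' u₂ ≫ e') ≫ φ.hom := by
        apply Limits.prod.hom_ext
        · rw [Category.assoc, Category.assoc, h1, h1, hu]
        · rw [Category.assoc, Category.assoc, h2, h2]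
      have h4 : u' u₁ ≫ e' = u' u₂ ≫ e' := by
        apply (repFunctor Scheme.fppfPrecoverage S).map_injective
        exact (cancel_mono φ.hom).1 h3
      have h5 : u' u₁ = u' u₂ := (cancel_mono e').1 h4
      have h6 : q ≫ u₁ = q ≫ u₂ := by rw [← hu'p, ← hu'p, h5]
      apply (repFunctor Scheme.fppfPrecoverage S).map_injective
      change QuotSh.repMap Scheme.fppfPrecoverage u₁ = QuotSh.repMap Scheme.fppfPrecoverage u₂
      rw [← cancel_epi (QuotSh.repMap Scheme.fppfPrecoverage q), ← repMap_comp, ← repMap_comp, h6]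
    obtain ⟨u₁, rfl⟩ := (repFunctor Scheme.fppfPrecoverage S).map_surjective
      (show (repFunctor Scheme.fppfPrecoverage S).obj T ⟶
        (repFunctor Scheme.fppfPrecoverage S).obj U from g₁)
    obtain ⟨u₂, rfl⟩ := (repFunctor Scheme.fppfPrecoverage S).map_surjective
      (show (repFunctor Scheme.fppfPrecoverage S).obj T ⟶
        (repFunctor Scheme.fppfPrecoverage S).obj U from g₂)
    rw [main u₁ u₂ hg]
  have : IsIso ζ := ToposLike.isIso_of_mono_of_epi ζ hmono hepi
  exact ⟨asIso ζ⟩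

end Main

end Groth.Agent.R2.H53.RepDesc
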