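import Mathlib
import Groth.Prelude.Def_Dual3
import Groth.Agent.R2.H12Dev3C
import Groth.Agent.R2.H12Dev4B
import Groth.Agent.Lib.Helper18Ann2
import Groth.Agent.S0819

/-!
# Extension-only dévissage (Stacks 01YM = Cohomology of Schemes, Lemma 30.12.8) (helper54)

`devissage_ext`: let `X` be a Noetherian scheme and `P` a property of `O_X`-modules which is invariant under
isomorphisms, holds for zero modules, and on short exact sequences of coherent modules satisfies
`P X₁ → P X₃ → P X₂` (extensions) and `P X₁ → P X₂ → P X₃` (cokernels), and passes to coherent retracts.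
Suppose that for every integral closed subscheme `i : Z ⟶ X` there is a coherent `G` on `Z` with nonzero generic
stalk such that for every quasi-coherent ideal `J` of `O_X` with `i ξ ∉ V(J)` there is a coherent subobject
`G' ≤ J · i_* G` of `i_* G`, equal to `i_* G` off `V(J)`, with `P G'`.  Then `P` holds for all coherent modules.

This is the form of dévissage needed for properties like Serre vanishing or `H^p = 0 (p > 0)`, which do not satisfy the
kernel direction of 2-out-of-3 (Chevalley's theorem, finite surjective descent of ampleness).  Built on helper12's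
`R2/H12Dev*` (chain of subobjects, zigzags) and helper18's annihilator ideal sheaf.
-/

set_option autoImplicit false
set_option linter.style.haveILetI false
universe u

open CategoryTheory CategoryTheory.Limits AlgebraicGeometry TopologicalSpace Opposite

namespace Groth.Agent.R2.H54.DevExt

open Groth.Agent.R2.H12.Dev Groth.Agent.Lib.Helper23.Extend Groth.Agent.Lib.Helper23.QCohLocal

attribute [local instance] restrictFunctor_isRightAdjoint

section General

variable {X : Scheme.{u}}

/-- the open complement of the support of an ideal sheaf -/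
noncomputable def complOpen (J : X.IdealSheafData) : X.Opens :=
  ⟨(J.support : Set X)ᶜ, J.support.isClosed.isOpen_compl⟩

/-- if `m ≫ n` and `n` are isomorphisms over `W` then so is `m` -/
theorem IsoOn.of_comp_right {A B C : X.Modules} {m : A ⟶ B} {n : B ⟶ C} {W : X.Opens}
    (h : IsoOn (m ≫ n) W) (h' : IsoOn n W) : IsoOn m W := fun W' hW' => by
  have h1 := h W' hW'
  have h2 := h' W' hW'
  rw [Scheme.Modules.Hom.comp_app] at h1
  exact IsIso.of_isIso_comp_right (m.app W') (n.app W')

/-- a monomorphism whose cokernel vanishes on `W` is an isomorphism over `W` -/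
theorem isoOn_of_mono_of_vanOn_cokernel {A B : X.Modules} (m : A ⟶ B) [Mono m] {W : X.Opens}
    (h : VanOn (cokernel m) W) : IsoOn m W := by
  have hW : W.ι.opensRange = W := Scheme.Opens.opensRange_ι W
  rw [← hW, ← isIso_restrict_iff]
  let F := Scheme.Modules.restrictFunctor W.ι
  haveI hl : F.IsLeftAdjoint := ⟨_, ⟨Scheme.Modules.restrictAdjunction W.ι⟩⟩
  have hz : IsZero (F.obj (cokernel m)) := isZero_restrict_of_vanOn W.ι _ (by rwa [hW])
  haveI : Mono (F.map m) := inferInstance
  haveI : Epi (F.map m) :=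
    Preadditive.epi_of_isZero_cokernel _ (hz.of_iso (PreservesCokernel.iso F m).symm)
  exact isIso_of_mono_of_epi _

/-- the image inclusion of a morphism which is an isomorphism over `W` is an isomorphism over `W` -/
theorem isoOn_image_ι {A B : X.Modules} (u : A ⟶ B) {W : X.Opens} (h : IsoOn u W) :
    IsoOn (Abelian.image.ι u) W := by
  refine isoOn_of_mono_of_vanOn_cokernel (Abelian.image.ι u) ?_
  have hc : IsColimit (CokernelCofork.ofπ (cokernel.π u) (kernel.condition (cokernel.π u))) :=
    Abelian.epiIsCokernelOfKernel (KernelFork.ofι (kernel.ι (cokernel.π u)) (kernel.condition _))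
      (kernelIsKernel (cokernel.π u))
  let e : cokernel (Abelian.image.ι u) ≅ cokernel u :=
    (cokernelIsCokernel (Abelian.image.ι u)).coconePointUniqueUpToIso hc
  exact (vanOn_cokernel_of_isoOn u h).of_iso e.symm

/-- a coproduct of morphisms which are isomorphisms over `D` is an isomorphism over `D` -/
theorem isoOn_sigmaMap {κ : Type} (A B : κ → X.Modules) (φ : ∀ k, A k ⟶ B k) (D : X.Opens)
    (h : ∀ k, IsoOn (φ k) D) : IsoOn (Limits.Sigma.map φ) D := by
  have hD : D.ι.opensRange = D := Scheme.Opens.opensRange_ι D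
  rw [← hD, ← isIso_restrict_iff]
  let F := Scheme.Modules.restrictFunctor D.ι
  haveI hl : F.IsLeftAdjoint := ⟨_, ⟨Scheme.Modules.restrictAdjunction D.ι⟩⟩
  haveI hk : ∀ k, IsIso (F.map (φ k)) := fun k => (isIso_restrict_iff D.ι (φ k)).2 (hD.symm ▸ h k)
  have e : F.map (Limits.Sigma.map φ) = (PreservesCoproduct.iso F A).hom ≫
      Limits.Sigma.map (fun k => F.map (φ k)) ≫ (PreservesCoproduct.iso F B).inv := by
    rw [← Iso.inv_comp_eq]
    apply Sigma.hom_ext
    intro k
    rw [PreservesCoproduct.inv_hom, ι_comp_sigmaComparison_assoc, ← F.map_comp, Sigma.ι_map, F.map_comp,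
      Sigma.ι_map_assoc, PreservesCoproduct.inv_hom, ι_comp_sigmaComparison]
  rw [e]
  infer_instance

end General

section Transfer

variable {X : Scheme.{u}} [IsLocallyNoetherian X]

/-- **one-directional generic comparison**: if the kernel and the cokernel of `u : M ⟶ M'` have `P`, then
`P M → P M'` (extension and cokernel directions only). -/
theorem transfer_mp (P : X.Modules → Prop) (hiso : ∀ M N : X.Modules, Nonempty (M ≅ N) → P M → P N)
    (hext : ∀ S : ShortComplex X.Modules, S.ShortExact → Coh.IsCoh S.X₁ → Coh.IsCoh S.X₂ →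
      Coh.IsCoh S.X₃ → P S.X₁ → P S.X₃ → P S.X₂)
    (hcok : ∀ S : ShortComplex X.Modules, S.ShortExact → Coh.IsCoh S.X₁ → Coh.IsCoh S.X₂ →
      Coh.IsCoh S.X₃ → P S.X₁ → P S.X₂ → P S.X₃)
    {M M' : X.Modules} (hM : Coh.IsCoh M) (hM' : Coh.IsCoh M') (u : M ⟶ M')
    (hk : P (kernel u)) (hc : P (cokernel u)) (h : P M) : P M' := by
  have hker : Coh.IsCoh (kernel u) := isCoh_kernel hM hM' u
  have hcokc : Coh.IsCoh (cokernel u) := isCoh_cokernel hM hM' u
  have hcoim : Coh.IsCoh (Abelian.coimage u) := isCoh_cokernel hker hM (kernel.ι u)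
  have him : Coh.IsCoh (Abelian.image u) := isCoh_kernel hM' hcokc (cokernel.π u)
  have hS₁ : (ShortComplex.mk (kernel.ι u) (cokernel.π (kernel.ι u)) (cokernel.condition _)).ShortExact :=
    ShortComplex.ShortExact.mk' (ShortComplex.exact_cokernel (kernel.ι u)) inferInstance inferInstance
  have hS₂ : (ShortComplex.mk (kernel.ι (cokernel.π u)) (cokernel.π u) (kernel.condition _)).ShortExact :=
    ShortComplex.ShortExact.mk' (ShortComplex.exact_kernel (cokernel.π u)) inferInstance inferInstance
  have e : Abelian.coimage u ≅ Abelian.image u := Abelian.coimageIsoImage u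
  exact hext _ hS₂ him hM' hcokc (hiso _ _ ⟨e⟩ (hcok _ hS₁ hker hM hcoim hk h)) hc

/-- `P` passes from the image of `u` to its source when `P (kernel u)` (extension direction). -/
theorem of_image (P : X.Modules → Prop) (hiso : ∀ M N : X.Modules, Nonempty (M ≅ N) → P M → P N)
    (hext : ∀ S : ShortComplex X.Modules, S.ShortExact → Coh.IsCoh S.X₁ → Coh.IsCoh S.X₂ →
      Coh.IsCoh S.X₃ → P S.X₁ → P S.X₃ → P S.X₂)
    {M M' : X.Modules} (hM : Coh.IsCoh M) (hM' : Coh.IsCoh M') (u : M ⟶ M')
    (hk : P (kernel u)) (h : P (Abelian.image u)) : P M := by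
  have hker : Coh.IsCoh (kernel u) := isCoh_kernel hM hM' u
  have hcoim : Coh.IsCoh (Abelian.coimage u) := isCoh_cokernel hker hM (kernel.ι u)
  have hS₁ : (ShortComplex.mk (kernel.ι u) (cokernel.π (kernel.ι u)) (cokernel.condition _)).ShortExact :=
    ShortComplex.ShortExact.mk' (ShortComplex.exact_cokernel (kernel.ι u)) inferInstance inferInstance
  have e : Abelian.coimage u ≅ Abelian.image u := Abelian.coimageIsoImage u
  exact hext _ hS₁ hker hM hcoim hk (hiso _ _ ⟨e.symm⟩ h)

end Transfer


section PushIdeal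

variable {X : Scheme.{u}}

/-- a module vanishing on an open has no support there -/
theorem not_mem_support_of_vanOn {K : X.Modules} {W : X.Opens} (h : VanOn K W) {x : X} (hx : x ∈ W) :
    x ∉ CohB1.support K := by
  intro hxs
  apply hxs
  refine Groth.Agent.Lib.Helper23.Support.subsingleton_stalk_of_forall_res_eq_zero K x fun W' hW' s => ?_
  exact ⟨W' ⊓ W, inf_le_left, ⟨hW', hx⟩, h _ inf_le_right _⟩

/-- `SubIdealHyp P A x`: for every quasi-coherent ideal `J` with `x ∉ V(J)` there is a coherent subobject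
`G' ≤ J · A` of `A` (i.e. killed by the unit `A ⟶ i_J_* i_J^* A` of the closed subscheme `V(J)`), equal to `A` off
`V(J)`, with `P G'`.  (Stacks 01YM, hypothesis (3)(c), in its weak form.) -/
def SubIdealHyp (P : X.Modules → Prop) (A : X.Modules) (x : X) : Prop :=
  ∀ J : X.IdealSheafData, x ∉ J.support → ∃ (G' : X.Modules) (m : G' ⟶ A), Mono m ∧ Coh.IsCoh G' ∧
    m ≫ (Scheme.Modules.pullbackPushforwardAdjunction J.subschemeι).unit.app A = 0 ∧
      IsoOn m (complOpen J) ∧ P G'

theorem SubIdealHyp.of_iso {P : X.Modules → Prop} {A A' : X.Modules} {x : X} (e : A ≅ A')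
    (h : SubIdealHyp P A x) : SubIdealHyp P A' x := by
  intro J hJ
  obtain ⟨G', m, hm, hG', hz, hiso, hP⟩ := h J hJ
  refine ⟨G', m ≫ e.hom, mono_comp _ _, hG', ?_, ?_, hP⟩
  · have hn := (Scheme.Modules.pullbackPushforwardAdjunction J.subschemeι).unit.naturality e.hom
    rw [Category.assoc]
    erw [hn]
    rw [← Category.assoc, hz, zero_comp]
  · refine hiso.comp fun W' _ => ?_
    infer_instance

end PushIdeal


section Core

attribute [local instance] Abelian.hasFiniteBiproducts

variable {X : Scheme.{u}} [IsNoetherian X] (P : X.Modules → Prop)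
  (hiso : ∀ M N : X.Modules, Nonempty (M ≅ N) → P M → P N)
  (h0 : ∀ M : X.Modules, IsZero M → P M)
  (hext : ∀ S : ShortComplex X.Modules, S.ShortExact → Coh.IsCoh S.X₁ → Coh.IsCoh S.X₂ →
    Coh.IsCoh S.X₃ → P S.X₁ → P S.X₃ → P S.X₂)
  (hcok : ∀ S : ShortComplex X.Modules, S.ShortExact → Coh.IsCoh S.X₁ → Coh.IsCoh S.X₂ →
    Coh.IsCoh S.X₃ → P S.X₁ → P S.X₂ → P S.X₃)
  (hsum : ∀ (M N : X.Modules) (s : N ⟶ M) (r : M ⟶ N), s ≫ r = 𝟙 N → Coh.IsCoh M → Coh.IsCoh N → P M → P N)

include hiso h0 hext hcok in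
/-- the `X`-level heart of the argument: a roof `A ⟵ B ⟶ C` of coherent modules vanishing on `W`, both legs
isomorphisms over an open `T ∋ x` with `x ∉ W`; if `A` has arbitrarily small subobjects with `P` (`SubIdealHyp`) and `P`
holds for coherent modules vanishing on opens strictly larger than `W`, then `P C`. -/
theorem core_X (W T : X.Opens) (x : X) (hxT : x ∈ T) (hxW : x ∉ W)
    (IH : ∀ W' : X.Opens, W < W' → ∀ M : X.Modules, Coh.IsCoh M → VanOn M W' → P M)
    {A B C : X.Modules} (hA : Coh.IsCoh A) (hB : Coh.IsCoh B) (hC : Coh.IsCoh C)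
    (hvA : VanOn A W) (hvB : VanOn B W) (hvC : VanOn C W)
    (b₁ : B ⟶ A) (b₂ : B ⟶ C) (hb₁ : IsoOn b₁ T) (hb₂ : IsoOn b₂ T) (hgen : SubIdealHyp P A x) : P C := by
  have hlt : ∀ T' : X.Opens, x ∈ T' → W < W ⊔ T' := fun T' hx =>
    lt_of_le_of_ne le_sup_left fun heq => hxW (heq ▸ (Or.inr hx : x ∈ W ⊔ T'))
  -- the cokernel of `b₁` and its annihilator ideal
  have hT₁c : Coh.IsCoh (cokernel b₁) := isCoh_cokernel hB hA b₁
  have hT₁v : VanOn (cokernel b₁) T := vanOn_cokernel_of_isoOn b₁ hb₁
  haveI : (cokernel b₁).IsQuasicoherent := hT₁c.1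
  obtain ⟨J, -, hJiso, -, hJsupp⟩ := Groth.Agent.Helper18Ann.main_S9377 (cokernel b₁) hT₁c.2
  have hxJ : x ∉ J.support := by
    intro hx
    have hx' : x ∈ (J.support : Set X) := hx
    rw [hJsupp] at hx'
    exact not_mem_support_of_vanOn hT₁v hxT hx'
  obtain ⟨G', m, hm, hG', hz, hmiso, hPG'⟩ := hgen J hxJ
  -- `m` factors through the image of `b₁`
  have hmπ : m ≫ cokernel.π b₁ = 0 := by
    have hn := (Scheme.Modules.pullbackPushforwardAdjunction J.subschemeι).unit.naturality (cokernel.π b₁)
    have h1 : (m ≫ cokernel.π b₁) ≫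
        (Scheme.Modules.pullbackPushforwardAdjunction J.subschemeι).unit.app (cokernel b₁) = 0 := by
      rw [Category.assoc]
      erw [hn]
      rw [← Category.assoc, hz, zero_comp]
    rw [← cancel_mono ((Scheme.Modules.pullbackPushforwardAdjunction J.subschemeι).unit.app (cokernel b₁)),
      h1, zero_comp]
  let v : G' ⟶ Abelian.image b₁ := kernel.lift (cokernel.π b₁) m hmπ
  have hv : v ≫ Abelian.image.ι b₁ = m := kernel.lift_ι _ _ _
  haveI : Mono v := mono_of_mono_fac hv
  have hxJ' : x ∈ complOpen J := hxJ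
  have hvT : IsoOn v (T ⊓ complOpen J) :=
    IsoOn.of_comp_right (hv ▸ hmiso.mono inf_le_right) ((isoOn_image_ι b₁ hb₁).mono inf_le_left)
  have him : Coh.IsCoh (Abelian.image b₁) := isCoh_kernel hA hT₁c (cokernel.π b₁)
  have hvim : VanOn (Abelian.image b₁) W := hvA.of_mono (Abelian.image.ι b₁)
  -- `P (image b₁)`
  have h1 : P (Abelian.image b₁) := by
    refine transfer_mp P hiso hext hcok hG' him v (h0 _ (isZero_kernel_of_mono v)) ?_ hPG'
    exact IH _ (hlt (T ⊓ complOpen J) ⟨hxT, hxJ'⟩) _ (isCoh_cokernel hG' him v)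
      ((hvim.of_epi (cokernel.π v)).sup (vanOn_cokernel_of_isoOn v hvT))
  -- `P B`
  have h2 : P B := by
    refine of_image P hiso hext hB hA b₁ ?_ h1
    exact IH _ (hlt _ hxT) _ (isCoh_kernel hB hA b₁)
      ((hvB.of_mono (kernel.ι b₁)).sup (vanOn_kernel_of_isoOn b₁ hb₁))
  -- `P C`
  refine transfer_mp P hiso hext hcok hB hC b₂ ?_ ?_ h2
  · exact IH _ (hlt _ hxT) _ (isCoh_kernel hB hC b₂)
      ((hvB.of_mono (kernel.ι b₂)).sup (vanOn_kernel_of_isoOn b₂ hb₂))
  · exact IH _ (hlt _ hxT) _ (isCoh_cokernel hB hC b₂)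
      ((hvC.of_epi (cokernel.π b₂)).sup (vanOn_cokernel_of_isoOn b₂ hb₂))

include hiso h0 hext hcok hsum in
/-- the main step (Stacks 01YM): `P (i_* I)` for every nonzero quasi-coherent ideal `I` of the integral closed
subscheme `Z`, given one coherent `G` on `Z` with nonzero generic stalk such that `i_* G` has arbitrarily small
subobjects `G' ≤ J · i_* G` with `P G'`, and `P` for all coherent modules vanishing on strictly larger opens.
Only the extension and the cokernel directions of 2-out-of-3 are used. -/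
theorem push_ideal_ext {Z : Scheme.{u}} (i : Z ⟶ X) [IsClosedImmersion i] [IsIntegral Z] (W : X.Opens)
    (hW : i ⁻¹ᵁ W = ⊥)
    (IH : ∀ W' : X.Opens, W < W' → ∀ M : X.Modules, Coh.IsCoh M → VanOn M W' → P M)
    (G : Z.Modules) (hG : Coh.IsCoh G) (hξ : genericPoint Z ∈ CohB1.support G)
    (hgen : SubIdealHyp P ((Scheme.Modules.pushforward i).obj G) (i (genericPoint Z)))
    (I : Z.Modules) (ι : I ⟶ Coh.structureModule Z) [Mono ι] (hIq : Coh.IsQCoh I) (hI0 : ¬ IsZero I) :
    P ((Scheme.Modules.pushforward i).obj I) := by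
  classical
  have hZN : IsNoetherian Z := isNoetherian_of_isClosedImmersion i
  obtain ⟨m, hm, H₀, pG, pE, D, hH₀, hD, hpG, hpE⟩ := exists_zigzag_free G hG hξ
  have hE : Coh.IsCoh (FlatMod.freeMod Z m) := isCoh_freeMod' m
  have hO : Coh.IsCoh (Coh.structureModule Z) := Groth.Agent.R2.H5.CohThick.isCoh_structureModule Z
  have hIc : Coh.IsCoh I := Groth.Agent.S0046.result Z _ I ι hO hIq
  obtain ⟨D', hD', hι⟩ := exists_isoOn_of_ideal ι hI0
  -- the sum of `m` copies of `I`
  have hιm : IsoOn (Limits.Sigma.map (fun _ : Fin m => ι)) D' := isoOn_sigmaMap _ _ _ D' (fun _ => hι)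
  haveI hιmono : Mono (Limits.Sigma.map (fun _ : Fin m => ι)) := inferInstance
  have hEIq : (∐ fun _ : Fin m => I).IsQuasicoherent := by
    have h1 := Groth.Agent.Lib.Helper23.QCohLocal.isQuasicoherent_biproduct (fun _ : Fin m => I) (fun _ => hIq)
    exact (SheafOfModules.isQuasicoherent Z.ringCatSheaf).prop_of_iso (biproduct.isoCoproduct _) h1
  have hEIc : Coh.IsCoh (∐ fun _ : Fin m => I) :=
    Groth.Agent.S0046.result Z _ _ (Limits.Sigma.map (fun _ : Fin m => ι)) hE hEIq
  -- the pullback `H₁ = H₀ ×_{O^m} I^m`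
  obtain ⟨H₁, b₁Z, q₁, hH₁c, hb₁Z, hq₁⟩ : ∃ (H₁ : Z.Modules) (b₁Z : H₁ ⟶ G) (q₁ : H₁ ⟶ ∐ fun _ : Fin m => I),
      Coh.IsCoh H₁ ∧ IsoOn b₁Z (D ⊓ D') ∧ IsoOn q₁ D := by
    have hq₀ : IsoOn (pullback.fst pE (Limits.Sigma.map (fun _ : Fin m => ι))) D' := isoOn_pullback_fst pE _ hιm
    have hq₁ : IsoOn (pullback.snd pE (Limits.Sigma.map (fun _ : Fin m => ι))) D := isoOn_pullback_snd pE _ hpE
    haveI : Mono (pullback.fst pE (Limits.Sigma.map (fun _ : Fin m => ι))) := inferInstance
    have hH₁c : Coh.IsCoh (pullback pE (Limits.Sigma.map (fun _ : Fin m => ι))) := by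
      haveI : H₀.IsQuasicoherent := hH₀.1
      haveI : (∐ fun _ : Fin m => I).IsQuasicoherent := hEIq
      haveI : (FlatMod.freeMod Z m).IsQuasicoherent := hE.1
      exact Groth.Agent.S0046.result Z H₀ _ (pullback.fst pE _) hH₀ (isQuasicoherent_pullback pE _)
    exact ⟨_, pullback.fst pE _ ≫ pG, pullback.snd pE _, hH₁c,
      (hq₀.mono inf_le_right).comp (hpG.mono inf_le_left), hq₁⟩
  -- push everything forward to `X`
  have hξD : genericPoint Z ∈ D ⊓ D' :=
    ⟨((genericPoint_spec Z).mem_open_set_iff D.isOpen).2 (by simpa using hD),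
      ((genericPoint_spec Z).mem_open_set_iff D'.isOpen).2 (by simpa using hD')⟩
  obtain ⟨t, ht, hDt⟩ := i.isEmbedding.isInducing.isOpen_iff.mp (D ⊓ D').isOpen
  have hWD : i ⁻¹ᵁ (⟨t, ht⟩ : X.Opens) = D ⊓ D' := Opens.ext hDt
  generalize htdef : (⟨t, ht⟩ : X.Opens) = T at hWD
  have hξT : i (genericPoint Z) ∈ T := by
    have : genericPoint Z ∈ i ⁻¹ᵁ T := hWD ▸ hξD
    exact this
  have hξW : i (genericPoint Z) ∉ W := by
    intro h
    have h3 : genericPoint Z ∈ i ⁻¹ᵁ W := h
    rw [hW] at h3
    exact absurd h3 (by simp)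
  have hA : Coh.IsCoh ((Scheme.Modules.pushforward i).obj G) := Groth.Agent.S0019.result i G hG
  have hB : Coh.IsCoh ((Scheme.Modules.pushforward i).obj H₁) := Groth.Agent.S0019.result i H₁ hH₁c
  have hC : Coh.IsCoh ((Scheme.Modules.pushforward i).obj (∐ fun _ : Fin m => I)) :=
    Groth.Agent.S0019.result i _ hEIc
  have hvA := vanOn_push_of_preimage_eq_bot i G W hW
  have hvB := vanOn_push_of_preimage_eq_bot i H₁ W hW
  have hvC := vanOn_push_of_preimage_eq_bot i (∐ fun _ : Fin m => I) W hW
  have hb₁ : IsoOn ((Scheme.Modules.pushforward i).map b₁Z) T := isoOn_push i b₁Z _ hb₁Z T hWD.le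
  have hb₂ : IsoOn ((Scheme.Modules.pushforward i).map q₁) T :=
    isoOn_push i q₁ _ hq₁ T (hWD.le.trans inf_le_left)
  have hPC : P ((Scheme.Modules.pushforward i).obj (∐ fun _ : Fin m => I)) :=
    core_X P hiso h0 hext hcok W T _ hξT hξW IH hA hB hC hvA hvB hvC _ _ hb₁ hb₂ hgen
  -- `I` is a retract of `I^m`
  refine hsum _ _ ((Scheme.Modules.pushforward i).map (Sigma.ι (fun _ : Fin m => I) ⟨0, hm⟩))
    ((Scheme.Modules.pushforward i).map (Sigma.desc (fun k => if k = ⟨0, hm⟩ then 𝟙 _ else 0))) ?_ hC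
    (Groth.Agent.S0019.result i _ hIc) hPC
  rw [← Functor.map_comp, Sigma.ι_desc, if_pos rfl, CategoryTheory.Functor.map_id]


include hiso h0 hext hcok hsum in
/-- **Extension-only dévissage, relative form** (Stacks 01YM): `P` is closed under isomorphisms, contains `0`, is
closed under extensions, cokernels of monomorphisms and coherent retracts; if for every integral closed subscheme
`i : Z ⟶ X` not meeting the open `W₀` there is a coherent `G` on `Z` with nonzero generic stalk such that `i_* G` has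
arbitrarily small subobjects with `P` (`SubIdealHyp`), then `P` holds for every coherent module vanishing on `W₀`. -/
theorem devissage_ext_core (W₀ : X.Opens)
    (hgen : ∀ (Z : Scheme.{u}) (i : Z ⟶ X) [IsClosedImmersion i] [IsIntegral Z], i ⁻¹ᵁ W₀ = ⊥ →
      ∃ G : Z.Modules, Coh.IsCoh G ∧ genericPoint Z ∈ CohB1.support G ∧
        SubIdealHyp P ((Scheme.Modules.pushforward i).obj G) (i (genericPoint Z)))
    (M : X.Modules) (hM : Coh.IsCoh M) (hMW : VanOn M W₀) : P M := by
  have key : ∀ W : X.Opens, W₀ ≤ W → ∀ M : X.Modules, Coh.IsCoh M → VanOn M W → P M := by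
    intro W
    induction W using WellFoundedGT.induction with
    | ind W IH =>
      intro hW₀ M hM hMW
      have IH' : ∀ W' : X.Opens, W < W' → ∀ M : X.Modules, Coh.IsCoh M → VanOn M W' → P M :=
        fun W' hW' => IH W' hW' (hW₀.trans hW'.le)
      obtain ⟨m, hm⟩ := exists_chain_eq_top hM
      have hcoh : ∀ j, Coh.IsCoh (chain hM j : X.Modules) := fun j =>
        Groth.Agent.S0046.result X M _ (chain hM j).arrow hM (qcoh_chain hM j)
      have hall : ∀ j, P (chain hM j : X.Modules) := by
        intro j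
        induction j with
        | zero => exact h0 _ (isZero_bot M)
        | succ j ih =>
          by_cases hne : chain hM j = ⊤
          · have heq : chain hM (j + 1) = chain hM j := stepFn_of_not hM _ (fun h => h.2 hne)
            rw [heq]; exact ih
          · obtain ⟨hle, -, Z, i, hi, hZ, I, ι, hι, hIq, hI0, ⟨e⟩⟩ := chain_isStep hM j hne
            have hc3 : Coh.IsCoh (cokernel ((chain hM j).ofLE _ hle)) :=
              isCoh_cokernel (hcoh j) (hcoh (j + 1)) _
            have hv2 : VanOn (chain hM (j + 1) : X.Modules) W := hMW.of_mono (chain hM (j + 1)).arrow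
            have hv3 : VanOn (cokernel ((chain hM j).ofLE _ hle)) W := hv2.of_epi (cokernel.π _)
            have hvI : VanOn ((Scheme.Modules.pushforward i).obj I) W := hv3.of_iso e
            have hiW : i ⁻¹ᵁ W = ⊥ := preimage_eq_bot_of_vanOn i ι hI0 hvI
            have hiW₀ : i ⁻¹ᵁ W₀ = ⊥ := le_bot_iff.1 (hiW ▸ Scheme.Hom.preimage_mono i hW₀)
            obtain ⟨G, hG, hξ, hPG⟩ := hgen Z i hiW₀
            have hPI : P ((Scheme.Modules.pushforward i).obj I) :=
              push_ideal_ext P hiso h0 hext hcok hsum i W hiW IH' G hG hξ hPG I ι hIq hI0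
            have hPc : P (cokernel ((chain hM j).ofLE _ hle)) := hiso _ _ ⟨e.symm⟩ hPI
            have hS : (ShortComplex.mk ((chain hM j).ofLE _ hle) (cokernel.π _)
                (cokernel.condition _)).ShortExact :=
              ShortComplex.ShortExact.mk' (ShortComplex.exact_cokernel _) inferInstance inferInstance
            exact hext _ hS (hcoh j) (hcoh (j + 1)) hc3 ih hPc
      have hiso' : IsIso (chain hM m).arrow := (Subobject.isIso_arrow_iff_eq_top _).2 hm
      exact hiso _ _ ⟨asIso (chain hM m).arrow⟩ (hall m)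
  exact key W₀ le_rfl M hM hMW

include hiso h0 hext hcok hsum in
/-- **Extension-only dévissage** (Stacks 01YM = Cohomology of Schemes 30.12.8), absolute form. -/
theorem devissage_ext
    (hgen : ∀ (Z : Scheme.{u}) (i : Z ⟶ X) [IsClosedImmersion i] [IsIntegral Z],
      ∃ G : Z.Modules, Coh.IsCoh G ∧ genericPoint Z ∈ CohB1.support G ∧
        SubIdealHyp P ((Scheme.Modules.pushforward i).obj G) (i (genericPoint Z)))
    (M : X.Modules) (hM : Coh.IsCoh M) : P M := by
  refine devissage_ext_core P hiso h0 hext hcok hsum ⊥ (fun Z i _ _ _ => hgen Z i) M hM ?_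
  intro W' hW' s
  have hbot : W' = ⊥ := le_bot_iff.1 hW'
  subst hbot
  exact eq_zero_of_bot M s

end Core

end Groth.Agent.R2.H54.DevExt
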