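import Mathlib
import Groth.Agent.R2.H55AmpleNil
import Groth.Agent.Lib.Helper20EffCartier
import Groth.Agent.Lib.Helper13ModAffine
import Groth.Agent.Lib.Helper23Extend2
import Groth.Agent.R2.H12Dev3A
import Groth.Agent.R2.H12IdealMulB

/-!
# `h_* ((h⁻¹J) · N) ≤ J · h_* N` for an affine morphism `h` (helper55; PROJ:ample, Stacks 01YM (3)(c) for consumers)

`I · M := ker (M ⟶ i_* i^* M)` for `i : V(I) ⟶ X` (this is `Dual3.idealMul I M`; `AmpleNil.η I M` is the unit).

* `mem_smul_top_of_η_app_eq_zero` : on an affine open `U`, `Γ(U, I · M) ⊆ I(U) · Γ(U, M)` (`M` quasi-coherent).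
* `push_kernel_comp_η` : `h_* ((J.comap h) · N) ⟶ h_* N ⟶ iJ_* iJ^* (h_* N)` is zero (`h` affine, `N` quasi-coherent).
* `pushKernelLift` : the induced monomorphism `h_* ((J.comap h) · N) ⟶ J · h_* N`.
* `isoOn_kernel_ι`, `isoOn_push_kernel_ι` : the inclusions `I · M ⟶ M` and `h_* ((J.comap h) · N) ⟶ h_* N` are isomorphisms
  over every open not meeting `V(I)`, resp. `V(J)`.
-/

set_option autoImplicit false
set_option linter.style.haveILetI false
universe u

open CategoryTheory CategoryTheory.Limits AlgebraicGeometry Opposite TopologicalSpace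

namespace Groth.Agent.R2.H55.PushIdeal

open Groth.Agent.R2.H55.AmpleNil Scheme.Modules Groth.Agent.Helper13PullbackUnit
  Groth.Agent.Lib.Helper23.Extend

section Sections

variable {X : Scheme.{u}} (I : X.IdealSheafData) (M : X.Modules)

/-- sections of `I · M = ker (M ⟶ i_* i^* M)` over an affine open `U` lie in `I(U) · M(U)`. -/
theorem mem_smul_top_of_η_app_eq_zero [M.IsQuasicoherent] (U : X.affineOpens) (m : Γ(M, U.1))
    (hm : (η I M).app U.1 m = 0) : m ∈ (I.ideal U • ⊤ : Submodule Γ(X, U.1) Γ(M, U.1)) := by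
  have hU' : IsAffineOpen (I.subschemeι ⁻¹ᵁ U.1) := U.2.preimage I.subschemeι
  have hle : I.subschemeι ⁻¹ᵁ U.1 ≤ I.subschemeι ⁻¹ᵁ U.1 := le_rfl
  have key := mem_smul_top_of_lift_of_surjective
    (I.subschemeι.appLE U.1 (I.subschemeι ⁻¹ᵁ U.1) hle).hom
    (by rw [Scheme.Hom.appLE_eq_app]; exact I.subschemeι_app_surjective U)
    (unitSec I.subschemeι M hle)
    (fun N _ _ l hl => existsUnique_lift I.subschemeι M U.2 hU' hle N l hl) m
    (by
      rw [unitSec_apply, hm]
      exact map_zero (((Scheme.Modules.pullback I.subschemeι).obj M).presheaf.map (homOfLE hle).op).hom)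
  rwa [Scheme.Hom.appLE_eq_app, I.ker_subschemeι_app U] at key

/-- sections of `i_* Q` over `U` are killed by `I(U)`. -/
theorem smul_push_eq_zero (Q : I.subscheme.Modules) (U : X.Opens) (hU : IsAffineOpen U) (a : Γ(X, U))
    (ha : a ∈ I.ideal ⟨U, hU⟩) (q : Γ((Scheme.Modules.pushforward I.subschemeι).obj Q, U)) : a • q = 0 := by
  rw [pushforward_smul]
  have h1 : (I.subschemeι.app U) a = 0 := by
    rw [← I.ker_subschemeι_app ⟨U, hU⟩] at ha
    exact ha
  rw [h1, zero_smul]
  rfl

theorem eq_zero_of_eq_bot {Y : Scheme.{u}} (A : Y.Modules) (V : Y.Opens) (hV : V = ⊥) (s : Γ(A, V)) : s = 0 := by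
  subst hV
  exact Groth.Agent.R2.H12.Dev.eq_zero_of_bot A s

theorem preimage_subschemeι_eq_bot (W : X.Opens) (hW : W ≤ I.support.compl) : I.subschemeι ⁻¹ᵁ W = ⊥ := by
  ext x
  simp only [Opens.coe_bot, Set.mem_empty_iff_false, iff_false]
  intro hx
  have h1 : I.subschemeι x ∈ (I.support : Set X) := by
    rw [← I.range_subschemeι]
    exact Set.mem_range_self x
  exact (hW hx) h1

/-- the inclusion `I · M ⟶ M` is bijective on sections over an open whose preimage in `V(I)` is empty. -/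
theorem isIso_app_kernel_ι (W : X.Opens) (hW : I.subschemeι ⁻¹ᵁ W = ⊥) :
    IsIso ((kernel.ι (η I M)).app W) := by
  rw [ConcreteCategory.isIso_iff_bijective]
  refine ⟨Groth.Agent.Lib.Helper20.StalkExact.injective_app_of_mono _ W, fun t => ?_⟩
  have h0 : (η I M).app W t = 0 := eq_zero_of_eq_bot _ _ hW _
  have h1 : (SC I M).g.app W t = 0 := by
    apply Groth.Agent.Lib.Helper20.StalkExact.injective_app_of_mono (Abelian.factorThruCoimage (η I M)) W
    have h2 : (SC I M).g ≫ Abelian.factorThruCoimage (η I M) = η I M := cokernel.π_desc _ _ _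
    have h3 : ((SC I M).g ≫ Abelian.factorThruCoimage (η I M)).app W t = 0 := by
      rw [h2]; exact h0
    exact h3.trans (map_zero _).symm
  exact Groth.Agent.Lib.Helper20.StalkExact.exists_app_eq_of_exact (SC I M) (SC_shortExact I M) W t h1

/-- the inclusion `I · M ⟶ M` is an isomorphism over the complement of `V(I)`. -/
theorem isoOn_kernel_ι : IsoOn (kernel.ι (η I M)) I.support.compl :=
  fun W' hW' => isIso_app_kernel_ι I M W' (preimage_subschemeι_eq_bot I W' hW')

end Sections

section Push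

variable {X Y : Scheme.{u}} (h : Y ⟶ X) (N : Y.Modules) (J : X.IdealSheafData)

/-- the inclusion `h_* ((J.comap h) · N) ⟶ h_* N`. -/
noncomputable abbrev pushKernelι :
    (Scheme.Modules.pushforward h).obj (kernel (η (J.comap h) N)) ⟶
      (Scheme.Modules.pushforward h).obj N :=
  (Scheme.Modules.pushforward h).map (kernel.ι (η (J.comap h) N))

instance : Mono (pushKernelι h N J) := by
  unfold pushKernelι
  infer_instance

/-- `η J (h_* N)` on sections over `U`, as an additive map out of `Γ(N, h⁻¹U)`. -/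
noncomputable def ηSec (U : X.Opens) : Γ(N, h ⁻¹ᵁ U) →+
    Γ((Scheme.Modules.pushforward J.subschemeι).obj ((Scheme.Modules.pullback J.subschemeι).obj
      ((Scheme.Modules.pushforward h).obj N)), U) :=
  ((η J ((Scheme.Modules.pushforward h).obj N)).app U).hom

theorem ηSec_smul (U : X.Opens) (a : Γ(X, U)) (n : Γ(N, h ⁻¹ᵁ U)) :
    ηSec h N J U ((h.app U).hom a • n) = a • ηSec h N J U n :=
  Scheme.Modules.Hom.app_smul (η J ((Scheme.Modules.pushforward h).obj N)) a n

/-- for `r` in the extension of `J(U)` to `Γ(Y, h⁻¹U)` and `n ∈ Γ(N, h⁻¹U)`, the section `r • n` of `h_* N` over `U`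
dies in `iJ_* iJ^* (h_* N)`. -/
theorem ηSec_smul_eq_zero (U : X.Opens) (hU : IsAffineOpen U) (r : Γ(Y, h ⁻¹ᵁ U))
    (hr : r ∈ (J.ideal ⟨U, hU⟩).map (h.app U).hom) (n : Γ(N, h ⁻¹ᵁ U)) :
    ηSec h N J U (r • n) = 0 := by
  revert n
  refine Submodule.span_induction (p := fun r _ => ∀ n : Γ(N, h ⁻¹ᵁ U), ηSec h N J U (r • n) = 0)
    ?_ ?_ ?_ ?_ hr
  · rintro _ ⟨a, ha, rfl⟩ n
    rw [ηSec_smul]
    exact smul_push_eq_zero J _ U hU a ha _
  · intro n
    rw [zero_smul, map_zero]
  · intro r₁ r₂ _ _ h₁ h₂ n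
    rw [add_smul, map_add, h₁ n, h₂ n, add_zero]
  · intro c r _ hr n
    rw [smul_eq_mul, mul_comm, mul_smul]
    exact hr (c • n)

theorem push_kernel_comp_η [IsAffineHom h] [N.IsQuasicoherent] :
    pushKernelι h N J ≫ η J ((Scheme.Modules.pushforward h).obj N) = 0 := by
  apply Groth.Agent.Helper13ModAffine.hom_ext_affine
  intro U hU
  have hV : IsAffineOpen (h ⁻¹ᵁ U) := hU.preimage h
  ext s
  rw [Scheme.Modules.Hom.comp_app, Scheme.Modules.pushforward_map_app]
  change ηSec h N J U ((kernel.ι (η (J.comap h) N)).app (h ⁻¹ᵁ U) s) = 0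
  set t : Γ(N, h ⁻¹ᵁ U) := (kernel.ι (η (J.comap h) N)).app (h ⁻¹ᵁ U) s with ht
  have h0 : (η (J.comap h) N).app (h ⁻¹ᵁ U) t = 0 := by
    have h1 : kernel.ι (η (J.comap h) N) ≫ η (J.comap h) N = 0 := kernel.condition _
    have h2 : ((kernel.ι (η (J.comap h) N) ≫ η (J.comap h) N).app (h ⁻¹ᵁ U)) s = 0 := by
      rw [h1]; rfl
    exact h2
  have h3 := mem_smul_top_of_η_app_eq_zero (J.comap h) N ⟨h ⁻¹ᵁ U, hV⟩ t h0
  rw [Groth.Agent.Lib.Helper20.EffCartier.ideal_comap_eq_map h J hV hU le_rfl,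
    Scheme.Hom.appLE_eq_app] at h3
  refine Submodule.smul_induction_on h3 (fun r hr n _ => ηSec_smul_eq_zero h N J U hU r hr n)
    (fun x y hx hy => ?_)
  rw [map_add, hx, hy, add_zero]

/-- the monomorphism `h_* ((J.comap h) · N) ⟶ J · h_* N`. -/
noncomputable def pushKernelLift [IsAffineHom h] [N.IsQuasicoherent] :
    (Scheme.Modules.pushforward h).obj (kernel (η (J.comap h) N)) ⟶
      kernel (η J ((Scheme.Modules.pushforward h).obj N)) :=
  kernel.lift _ (pushKernelι h N J) (push_kernel_comp_η h N J)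

@[reassoc (attr := simp)]
theorem pushKernelLift_ι [IsAffineHom h] [N.IsQuasicoherent] :
    pushKernelLift h N J ≫ kernel.ι (η J ((Scheme.Modules.pushforward h).obj N)) = pushKernelι h N J :=
  kernel.lift_ι _ _ _

instance [IsAffineHom h] [N.IsQuasicoherent] : Mono (pushKernelLift h N J) :=
  mono_of_mono_fac (pushKernelLift_ι h N J)

/-- `h_* ((J.comap h) · N) ⟶ h_* N` is an isomorphism over the complement of `V(J)`. -/
theorem isoOn_pushKernelι : IsoOn (pushKernelι h N J) J.support.compl := by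
  intro W' hW'
  rw [Scheme.Modules.pushforward_map_app]
  refine isIso_app_kernel_ι (J.comap h) N (h ⁻¹ᵁ W') (preimage_subschemeι_eq_bot _ _ ?_)
  intro y hy
  change y ∉ ((J.comap h).support : Set Y)
  rw [Scheme.IdealSheafData.support_comap]
  exact fun hy' => (hW' hy) hy'

end Push

section TwoStep

variable {X Z Z' : Scheme.{u}} (i : Z ⟶ X) (g : Z' ⟶ Z) (E : Z'.Modules) (J : X.IdealSheafData)

/-- Stacks 01YM (3)(c) for `G = i_* g_* E`: the submodule `i_* g_* (J' · E)`, `J' = (g ≫ i)⁻¹ J`, lies in `J · G`, is coherent,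
and agrees with `G` off `V(J)`. -/
theorem exists_sub_push_push [IsLocallyNoetherian X] [IsAffineHom i] [LocallyOfFiniteType i] [IsFinite g]
    (hE : Coh.IsCoh E) :
    ∃ (K : Z'.Modules) (κ : K ⟶ E), Mono κ ∧ Coh.IsCoh K ∧
      ((Coh.push i).map ((Coh.push g).map κ)) ≫ η J ((Coh.push i).obj ((Coh.push g).obj E)) = 0 ∧
      IsoOn ((Coh.push i).map ((Coh.push g).map κ)) J.support.compl := by
  haveI : IsLocallyNoetherian Z := LocallyOfFiniteType.isLocallyNoetherian i
  haveI : IsLocallyNoetherian Z' := LocallyOfFiniteType.isLocallyNoetherian g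
  haveI : E.IsQuasicoherent := hE.1
  haveI : ((Coh.push g).obj E).IsQuasicoherent := (Groth.Agent.S0019.result g E hE).1
  refine ⟨kernel (η ((J.comap i).comap g) E), kernel.ι _, inferInstance,
    Groth.Agent.R2.H12.IdealMul.isCoh_idealMul ((J.comap i).comap g) E hE, ?_, ?_⟩
  · have h1 : (Coh.push g).map (kernel.ι (η ((J.comap i).comap g) E)) =
        pushKernelLift g E (J.comap i) ≫ kernel.ι (η (J.comap i) ((Coh.push g).obj E)) :=
      (pushKernelLift_ι g E (J.comap i)).symm
    rw [h1, Functor.map_comp, Category.assoc]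
    have h2 := push_kernel_comp_η i ((Coh.push g).obj E) J
    unfold pushKernelι at h2
    rw [h2, comp_zero]
  · intro W' hW'
    rw [Scheme.Modules.pushforward_map_app, Scheme.Modules.pushforward_map_app]
    refine isIso_app_kernel_ι ((J.comap i).comap g) E _ (preimage_subschemeι_eq_bot _ _ ?_)
    intro y hy
    change y ∉ (((J.comap i).comap g).support : Set Z')
    rw [Scheme.IdealSheafData.support_comap, Scheme.IdealSheafData.support_comap]
    exact fun hy' => (hW' hy) hy'

end TwoStep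

end Groth.Agent.R2.H55.PushIdeal
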