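import Mathlib
import Groth.Agent.R2.H54DevExt
import Groth.Agent.R2.H12IdealMulB
import Groth.Agent.R2.H55PushIdeal

/-!
# Deligne's formula on a Noetherian scheme (helper54)

* `exists_extension_idealMul_pow` (= frozen `S9515`): `X` Noetherian, `F` quasi-coherent, `G` coherent, `I` an ideal with open
  complement `U`; every `φ : G|_U ⟶ F|_U` extends to some `ψ : I^n G ⟶ F`.
* `exists_pow_comp_eq_zero` (= frozen `S9516`): such an extension is unique up to passing to a higher power of `I`.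
-/

set_option autoImplicit false
set_option linter.style.haveILetI false
universe u

open CategoryTheory CategoryTheory.Limits AlgebraicGeometry TopologicalSpace Opposite

namespace Groth.Agent.R2.H54.Deligne

open Groth.Agent.R2.H12.Dev Groth.Agent.Lib.Helper23.Extend Groth.Agent.Lib.Helper23.QCohLocal
  Groth.Agent.R2.H54.DevExt Groth.Agent.R2.H12.IdealMul

attribute [local instance] restrictFunctor_isRightAdjoint

section Roof

variable {X : Scheme.{u}}

/-- the roof `G ⟵ H ⟶ F` attached to `φ : G|_U ⟶ F|_U`: `H = F ×_{j_* j^* F} G` -/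
theorem exists_roof (F G : X.Modules) [F.IsQuasicoherent] [G.IsQuasicoherent] (U : X.Opens) [QuasiCompact U.ι]
    (φ : (Scheme.Modules.restrictFunctor U.ι).obj G ⟶ (Scheme.Modules.restrictFunctor U.ι).obj F) :
    ∃ (H : X.Modules) (pG : H ⟶ G) (pF : H ⟶ F), H.IsQuasicoherent ∧ IsoOn pG U ∧
      (Scheme.Modules.restrictFunctor U.ι).map pF = (Scheme.Modules.restrictFunctor U.ι).map pG ≫ φ := by
  let adj := Scheme.Modules.restrictAdjunction U.ι
  let a : G ⟶ (Scheme.Modules.pushforward U.ι).obj ((Scheme.Modules.restrictFunctor U.ι).obj F) :=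
    unitJ U.ι G ≫ (Scheme.Modules.pushforward U.ι).map φ
  have hη : IsoOn (unitJ U.ι F) U := by
    have h1 := isoOn_unitJ U.ι F
    rwa [Scheme.Opens.opensRange_ι] at h1
  haveI : ((Scheme.Modules.restrictFunctor U.ι).obj F).IsQuasicoherent :=
    Scheme.Modules.isQuasicoherent_restrictFunctor U.ι F
  haveI : ((Scheme.Modules.pushforward U.ι).obj ((Scheme.Modules.restrictFunctor U.ι).obj F)).IsQuasicoherent :=
    isQuasicoherent_pushforward U.ι _
  refine ⟨pullback (unitJ U.ι F) a, pullback.snd _ _, pullback.fst _ _, isQuasicoherent_pullback _ _,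
    isoOn_pullback_snd _ _ hη, ?_⟩
  have hc : pullback.fst (unitJ U.ι F) a ≫ unitJ U.ι F = pullback.snd (unitJ U.ι F) a ≫ a :=
    pullback.condition
  have h1 := congrArg (fun m => (Scheme.Modules.restrictFunctor U.ι).map m ≫
    adj.counit.app ((Scheme.Modules.restrictFunctor U.ι).obj F)) hc
  simp only [Functor.map_comp, Category.assoc] at h1
  have htF : (Scheme.Modules.restrictFunctor U.ι).map (unitJ U.ι F) ≫
      adj.counit.app ((Scheme.Modules.restrictFunctor U.ι).obj F) = 𝟙 _ := adj.left_triangle_components F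
  have htG : (Scheme.Modules.restrictFunctor U.ι).map (unitJ U.ι G) ≫
      adj.counit.app ((Scheme.Modules.restrictFunctor U.ι).obj G) = 𝟙 _ := adj.left_triangle_components G
  have hnat : (Scheme.Modules.restrictFunctor U.ι).map ((Scheme.Modules.pushforward U.ι).map φ) ≫
      adj.counit.app ((Scheme.Modules.restrictFunctor U.ι).obj F) =
      adj.counit.app ((Scheme.Modules.restrictFunctor U.ι).obj G) ≫ φ := adj.counit.naturality φ
  rw [htF, Category.comp_id] at h1
  rw [h1]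
  change _ ≫ (Scheme.Modules.restrictFunctor U.ι).map (unitJ U.ι G ≫ (Scheme.Modules.pushforward U.ι).map φ) ≫ _ = _
  rw [Functor.map_comp, Category.assoc, hnat, ← Category.assoc ((Scheme.Modules.restrictFunctor U.ι).map (unitJ U.ι G)),
    htG, Category.id_comp]

end Roof


section Abstract

variable {C : Type*} [Category C] [Abelian C]

/-- if `ι' : B' ⟶ B` meets the kernel of `b : B ⟶ C'` trivially then `ι' ≫ b` is a monomorphism -/
theorem mono_comp_of_isZero_pullback {B' B C' : C} (ι' : B' ⟶ B) (b : B ⟶ C')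
    (hz : IsZero (pullback ι' (kernel.ι b))) : Mono (ι' ≫ b) := by
  refine Preadditive.mono_of_cancel_zero _ fun {Q} g hg => ?_
  have hg' : (g ≫ ι') ≫ b = 0 := by rw [Category.assoc, hg]
  have h1 : pullback.lift g (kernel.lift b (g ≫ ι') hg') (by rw [kernel.lift_ι]) ≫
      pullback.fst ι' (kernel.ι b) = g := pullback.lift_fst _ _ _
  rw [← h1, hz.eq_of_tgt (pullback.lift _ _ _) 0, zero_comp]

end Abstract

section Main

variable {X : Scheme.{u}} [IsNoetherian X]

omit [AlgebraicGeometry.IsNoetherian X] in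
/-- a coherent module is of finite type on every open -/
theorem ftOn_of_isCoh {G : X.Modules} (hG : Coh.IsCoh G) (U : X.Opens) : FTOn G U := by
  haveI : G.IsQuasicoherent := hG.1
  haveI : SheafOfModules.IsFiniteType (R := X.ringCatSheaf) G := hG.2
  exact fun W' hW' _ => Groth.Agent.Lib.Helper23.FinType.finite_of_isFiniteType G hW'

omit [AlgebraicGeometry.IsNoetherian X] in
/-- the inclusion `I^(n+1) M ⟶ M` is an isomorphism over the complement `U` of `V(I)` -/
theorem isoOn_idealMulι_pow_succ (I : X.IdealSheafData) (U : X.Opens) (hU : (U : Set X) = (I.support : Set X)ᶜ)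
    (M : X.Modules) (n : ℕ) : IsoOn (Dual3.idealMulι (I ^ (n + 1)) M) U := by
  have h := Groth.Agent.R2.H55.PushIdeal.isoOn_kernel_ι (I ^ (n + 1)) M
  have hU' : U = (I ^ (n + 1)).support.compl := Opens.ext hU
  rw [hU']
  exact h

omit [AlgebraicGeometry.IsNoetherian X] in
/-- if `I^m C = 0` then `I^m G ⟶ G ⟶ C` is zero -/
theorem idealMulι_comp_eq_zero_of_isZero (J : X.IdealSheafData) {G C : X.Modules} (π : G ⟶ C)
    (hz : IsZero ((Dual3.idealMul J).obj C)) : Dual3.idealMulι J G ≫ π = 0 := by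
  rw [← Dual3.idealMul_map_ι, hz.eq_of_tgt ((Dual3.idealMul J).map π) 0, zero_comp]

/-- **Deligne's formula, existence** (= frozen `S9515`). -/
theorem exists_extension_idealMul_pow (F G : X.Modules) (hF : Coh.IsQCoh F) (hG : Coh.IsCoh G)
    (I : X.IdealSheafData) (U : X.Opens) (hU : (U : Set X) = (I.support : Set X)ᶜ)
    (φ : (Scheme.Modules.restrictFunctor U.ι).obj G ⟶ (Scheme.Modules.restrictFunctor U.ι).obj F) :
    ∃ (n : ℕ) (ψ : (Dual3.idealMul (I ^ n)).obj G ⟶ F),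
      (Scheme.Modules.restrictFunctor U.ι).map ψ =
        (Scheme.Modules.restrictFunctor U.ι).map (Dual3.idealMulι (I ^ n) G) ≫ φ := by
  haveI : F.IsQuasicoherent := hF
  haveI : G.IsQuasicoherent := hG.1
  obtain ⟨H, pG, pF, hHq, hpG, hcomp⟩ := exists_roof F G U φ
  haveI := hHq
  -- a coherent submodule of `H` which equals `H` over `U`
  have hUc : IsCompact (U : Set X) := (inferInstance : NoetherianSpace X).isCompact _
  obtain ⟨H', ψ', hψ'm, hH'q, hH'f, hψ'U⟩ :=
    exists_sub_isFiniteType H U hUc (FTOn.of_isoOn pG hpG (ftOn_of_isCoh hG U))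
  have hH' : Coh.IsCoh H' := ⟨hH'q, hH'f⟩
  have hp' : IsoOn (ψ' ≫ pG) U := hψ'U.comp hpG
  -- Artin–Rees: `I^(n₁+1) H'` meets the kernel of `H' ⟶ G` trivially
  haveI : (kernel (ψ' ≫ pG)).IsQuasicoherent := by
    haveI := hH'q
    exact isQuasicoherent_kernel _
  obtain ⟨n₁, hn₁⟩ := exists_pow_idealMul_inf_isZero I U hU H' hH' (kernel.ι (ψ' ≫ pG))
    (vanOn_kernel_of_isoOn _ hp')
  have hz := hn₁ (n₁ + 1) (Nat.le_succ n₁)
  haveI hmono : Mono (Dual3.idealMulι (I ^ (n₁ + 1)) H' ≫ ψ' ≫ pG) := mono_comp_of_isZero_pullback _ _ hz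
  have hu : IsoOn (Dual3.idealMulι (I ^ (n₁ + 1)) H' ≫ ψ' ≫ pG) U :=
    (isoOn_idealMulι_pow_succ I U hU H' n₁).comp hp'
  -- the cokernel is killed by a power of `I`
  have hB' : Coh.IsCoh ((Dual3.idealMul (I ^ (n₁ + 1))).obj H') := isCoh_idealMul _ H' hH'
  have hC : Coh.IsCoh (cokernel (Dual3.idealMulι (I ^ (n₁ + 1)) H' ≫ ψ' ≫ pG)) := isCoh_cokernel hB' hG _
  obtain ⟨n₂, hn₂⟩ := exists_pow_idealMul_isZero I U hU _ hC (vanOn_cokernel_of_isoOn _ hu)
  have h0 := idealMulι_comp_eq_zero_of_isZero (I ^ n₂) (G := G)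
    (cokernel.π (Dual3.idealMulι (I ^ (n₁ + 1)) H' ≫ ψ' ≫ pG)) (hn₂ n₂ le_rfl)
  -- the lift `I^n₂ G ⟶ I^(n₁+1) H'`
  obtain ⟨l, hl⟩ : ∃ l : (Dual3.idealMul (I ^ n₂)).obj G ⟶ (Dual3.idealMul (I ^ (n₁ + 1))).obj H',
      l ≫ Dual3.idealMulι (I ^ (n₁ + 1)) H' ≫ ψ' ≫ pG = Dual3.idealMulι (I ^ n₂) G :=
    ⟨Abelian.monoLift _ _ h0, Abelian.monoLift_comp _ _ h0⟩
  refine ⟨n₂, l ≫ Dual3.idealMulι (I ^ (n₁ + 1)) H' ≫ ψ' ≫ pF, ?_⟩
  rw [← hl]
  simp only [Functor.map_comp, Category.assoc]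
  rw [hcomp]

omit [AlgebraicGeometry.IsNoetherian X] in
/-- a morphism `α : A ⟶ G` factors through the monomorphism `β : B ⟶ G` if it does so on sections over affine opens -/
theorem exists_factor_of_range_le {A B G : X.Modules} (α : A ⟶ G) (β : B ⟶ G) [Mono β]
    (h : ∀ (V : X.Opens) (_ : IsAffineOpen V) (a : Γ(A, V)), ∃ b : Γ(B, V), β.app V b = α.app V a) :
    ∃ t : A ⟶ B, t ≫ β = α := by
  have h0 : α ≫ cokernel.π β = 0 := by
    apply Groth.Agent.Helper13ModAffine.hom_ext_affine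
    intro V hV
    ext a
    obtain ⟨b, hb⟩ := h V hV a
    have h1 : (β ≫ cokernel.π β).app V b = 0 := by
      rw [cokernel.condition]; rfl
    rw [Scheme.Modules.Hom.comp_app] at h1 ⊢
    change (cokernel.π β).app V (α.app V a) = 0
    rw [← hb]
    exact h1
  exact ⟨Abelian.monoLift β α h0, Abelian.monoLift_comp β α h0⟩

omit [AlgebraicGeometry.IsNoetherian X] in
/-- `(I^(m+n)) G ⊆ I^m (I^n G)` as submodules of `G` -/
theorem exists_idealMul_pow_add (I : X.IdealSheafData) (G : X.Modules) [G.IsQuasicoherent] (m n : ℕ) :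
    ∃ t : (Dual3.idealMul (I ^ (m + n))).obj G ⟶ (Dual3.idealMul (I ^ m)).obj ((Dual3.idealMul (I ^ n)).obj G),
      t ≫ Dual3.idealMulι (I ^ m) ((Dual3.idealMul (I ^ n)).obj G) ≫ Dual3.idealMulι (I ^ n) G =
        Dual3.idealMulι (I ^ (m + n)) G := by
  haveI : ((Dual3.idealMul (I ^ n)).obj G).IsQuasicoherent := isQuasicoherent_idealMul _ G
  refine exists_factor_of_range_le _ _ fun V hV a => ?_
  have h1 : (Dual3.idealMulι (I ^ (m + n)) G).app V a ∈
      (((I ^ (m + n)).ideal ⟨V, hV⟩) • ⊤ : Submodule Γ(X, V) Γ(G, V)) :=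
    (mem_range_idealMulι_app_iff (I ^ (m + n)) G ⟨V, hV⟩ _).1 ⟨a, rfl⟩
  have h2 : (I ^ (m + n)).ideal ⟨V, hV⟩ = (I ^ m).ideal ⟨V, hV⟩ * (I ^ n).ideal ⟨V, hV⟩ := by
    change I.ideal ⟨V, hV⟩ ^ (m + n) = I.ideal ⟨V, hV⟩ ^ m * I.ideal ⟨V, hV⟩ ^ n
    exact pow_add _ _ _
  rw [h2, Submodule.mul_smul] at h1
  -- `I^n(V) • ⊤` is the range of the inclusion
  have h3 : ((I ^ n).ideal ⟨V, hV⟩ • ⊤ : Submodule Γ(X, V) Γ(G, V)) =
      LinearMap.range (appₗ (Dual3.idealMulι (I ^ n) G) V) := by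
    ext x
    rw [LinearMap.mem_range]
    exact ((mem_range_idealMulι_app_iff (I ^ n) G ⟨V, hV⟩ x).symm.trans Iff.rfl)
  rw [h3, ← Submodule.map_top, ← Submodule.map_smul''] at h1
  obtain ⟨y, hy, hyx⟩ := h1
  obtain ⟨b, hb⟩ := (mem_range_idealMulι_app_iff (I ^ m) ((Dual3.idealMul (I ^ n)).obj G) ⟨V, hV⟩ y).2 hy
  refine ⟨b, ?_⟩
  rw [Scheme.Modules.Hom.comp_app]
  change (Dual3.idealMulι (I ^ n) G).app V ((Dual3.idealMulι (I ^ m) _).app V b) = _
  rw [hb]
  exact hyx

/-- **Deligne's formula, uniqueness** (= frozen `S9516`). -/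
theorem exists_pow_comp_eq_zero (F G : X.Modules) (hF : Coh.IsQCoh F) (hG : Coh.IsCoh G)
    (I : X.IdealSheafData) (U : X.Opens) (hU : (U : Set X) = (I.support : Set X)ᶜ) (n : ℕ)
    (ψ : (Dual3.idealMul (I ^ n)).obj G ⟶ F)
    (hψ : (Scheme.Modules.restrictFunctor U.ι).map ψ = 0) :
    ∃ (N : ℕ) (ι : (Dual3.idealMul (I ^ N)).obj G ⟶ (Dual3.idealMul (I ^ n)).obj G),
      ι ≫ Dual3.idealMulι (I ^ n) G = Dual3.idealMulι (I ^ N) G ∧ ι ≫ ψ = 0 := by
  haveI : F.IsQuasicoherent := hF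
  haveI : G.IsQuasicoherent := hG.1
  have hB : Coh.IsCoh ((Dual3.idealMul (I ^ n)).obj G) := isCoh_idealMul _ G hG
  haveI : ((Dual3.idealMul (I ^ n)).obj G).IsQuasicoherent := hB.1
  haveI : SheafOfModules.IsFiniteType (R := X.ringCatSheaf) ((Dual3.idealMul (I ^ n)).obj G) := hB.2
  -- the image of `ψ` is coherent and vanishes on `U`
  have himq : (Abelian.image ψ).IsQuasicoherent := by
    haveI := isQuasicoherent_cokernel ψ
    exact isQuasicoherent_kernel (cokernel.π ψ)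
  haveI := himq
  have him : Coh.IsCoh (Abelian.image ψ) :=
    ⟨himq, Groth.Agent.Lib.Helper23.FinType.isFiniteType_of_epi (Abelian.factorThruImage ψ)⟩
  have hv : VanOn (Abelian.image ψ) U := by
    have hz : IsZero ((Scheme.Modules.restrictFunctor U.ι).obj (Abelian.image ψ)) := by
      let R := Scheme.Modules.restrictFunctor U.ι
      haveI hl : R.IsLeftAdjoint := ⟨_, ⟨Scheme.Modules.restrictAdjunction U.ι⟩⟩
      haveI : Epi (R.map (Abelian.factorThruImage ψ)) := inferInstance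
      haveI : Mono (R.map (Abelian.image.ι ψ)) := inferInstance
      have h1 : R.map (Abelian.factorThruImage ψ) ≫ R.map (Abelian.image.ι ψ) = 0 := by
        rw [← Functor.map_comp, Abelian.image.fac, hψ]
      have h2 : R.map (Abelian.factorThruImage ψ) = 0 := by
        rw [← cancel_mono (R.map (Abelian.image.ι ψ)), h1, zero_comp]
      rw [IsZero.iff_id_eq_zero, ← cancel_epi (R.map (Abelian.factorThruImage ψ)), h2, zero_comp, zero_comp]
    have := vanOn_of_isZero_restrict U.ι _ hz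
    rwa [Scheme.Opens.opensRange_ι] at this
  obtain ⟨m, hm⟩ := exists_pow_idealMul_isZero I U hU _ him hv
  have h0 : Dual3.idealMulι (I ^ m) ((Dual3.idealMul (I ^ n)).obj G) ≫ ψ = 0 := by
    rw [← Abelian.image.fac ψ, ← Category.assoc,
      idealMulι_comp_eq_zero_of_isZero (I ^ m) (Abelian.factorThruImage ψ) (hm m le_rfl), zero_comp]
  obtain ⟨t, ht⟩ := exists_idealMul_pow_add I G m n
  refine ⟨m + n, t ≫ Dual3.idealMulι (I ^ m) ((Dual3.idealMul (I ^ n)).obj G), ?_, ?_⟩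
  · rw [Category.assoc, ht]
  · rw [Category.assoc, h0, comp_zero]

end Main

end Groth.Agent.R2.H54.Deligne
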