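import Mathlib
import Groth.Agent.R2.H55PushIdeal
import Groth.Agent.R2.H55AmpleVan
import Groth.Agent.R2.H62CohDelta
import Groth.Agent.R2.H14FinSurj
import Groth.Agent.R2.H14PushSupp
import Groth.Agent.R2.H12IdealMulB
import Groth.Agent.S0007
import Groth.Agent.S0012
import Groth.Agent.S0014
import Groth.Agent.S0019
import Groth.Agent.R2.H5CohThick

/-!
# Chevalley's theorem (Noetherian case), consumer side (helper55, S0021)

`PV M` : all higher cohomology of `M` vanishes.  Closure properties (iso, zero, extension, cokernel, summand), vanishing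
for direct images along affine morphisms from affine schemes, and Serre's criterion in the form `(∀ coherent M, PV M) → X affine`.
-/

set_option autoImplicit false
set_option linter.style.haveILetI false
universe u

open CategoryTheory CategoryTheory.Limits AlgebraicGeometry Opposite TopologicalSpace

namespace Groth.Agent.R2.H55.Chevalley

open Groth.Agent.R2.H62.CohLES Groth.Agent.R2.H55.AmpleVan Groth.Agent.R2.H55.AmpleNil
  Groth.Agent.R2.H55.PushIdeal Groth.Agent.Lib.Helper23.Extend

variable {X : Scheme.{u}}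

/-- all higher cohomology vanishes. -/
def PV (M : X.Modules) : Prop := ∀ p : ℕ, 0 < p → Subsingleton (Coh.HH X M p)

theorem pv_of_iso {M N : X.Modules} (e : M ≅ N) (h : PV M) : PV N :=
  fun p hp => subsingleton_HH_of_iso e p (h p hp)

theorem pv_of_isZero {M : X.Modules} (hM : IsZero M) : PV M := by
  intro p _
  have h0 : ∀ x : Coh.HH X M p, x = 0 := by
    intro x
    have h1 : HHmap (𝟙 M) p x = x := HHmap_id p x
    rw [hM.eq_of_src (𝟙 M) 0, HHmap_zero] at h1
    exact h1.symm
  exact ⟨fun a b => (h0 a).trans (h0 b).symm⟩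

theorem pv_ext (S : ShortComplex X.Modules) (hS : S.ShortExact) (h₁ : PV S.X₁) (h₃ : PV S.X₃) : PV S.X₂ := by
  intro p hp
  have hex := exact_f_g hS p
  haveI := h₁ p hp
  haveI := h₃ p hp
  have h0 : ∀ x : Coh.HH X S.X₂ p, x = 0 := by
    intro x
    obtain ⟨y, rfl⟩ := (hex x).mp (Subsingleton.elim _ _)
    rw [Subsingleton.elim y 0, map_zero]
  exact ⟨fun a b => (h0 a).trans (h0 b).symm⟩

theorem pv_coker (S : ShortComplex X.Modules) (hS : S.ShortExact) (h₁ : PV S.X₁) (h₂ : PV S.X₂) : PV S.X₃ := by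
  intro p hp
  have hex := exact_g_δ hS p
  haveI := h₁ (p + 1) (Nat.succ_pos p)
  haveI := h₂ p hp
  have h0 : ∀ x : Coh.HH X S.X₃ p, x = 0 := by
    intro x
    obtain ⟨y, rfl⟩ := (hex x).mp (Subsingleton.elim _ _)
    rw [Subsingleton.elim y 0, map_zero]
  exact ⟨fun a b => (h0 a).trans (h0 b).symm⟩

theorem pv_summand (M N : X.Modules) (h : PV (M ⊞ N)) : PV M := by
  intro p hp
  haveI := h p hp
  have h0 : ∀ x : Coh.HH X M p, x = 0 := by
    intro x
    have h1 : HHmap ((biprod.inl : M ⟶ M ⊞ N) ≫ (biprod.fst : M ⊞ N ⟶ M)) p x = x := by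
      rw [biprod.inl_fst]; exact HHmap_id p x
    rw [HHmap_comp, Subsingleton.elim (HHmap (biprod.inl : M ⟶ M ⊞ N) p x) 0, map_zero] at h1
    exact h1.symm
  exact ⟨fun a b => (h0 a).trans (h0 b).symm⟩

/-- direct images along an affine morphism from an affine scheme have no higher cohomology. -/
theorem pv_push_of_isAffine {Z' : Scheme.{u}} (hh : Z' ⟶ X) [IsAffineHom hh] [IsAffine Z'] (E : Z'.Modules)
    [E.IsQuasicoherent] : PV ((Coh.push hh).obj E) := by
  intro p hp
  obtain ⟨e⟩ := Groth.Agent.S0012.result hh E p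
  haveI := Groth.Agent.S0007.result Z' E p hp
  exact e.symm.toEquiv.subsingleton

/-- Serre's criterion, Noetherian form. -/
theorem isAffine_of_pv [IsNoetherian X] (h : ∀ M : X.Modules, Coh.IsCoh M → PV M) : IsAffine X :=
  Groth.Agent.S0014.result X fun I _ _ hq hft => h I ⟨hq, hft⟩ 1 Nat.one_pos

/-- Stacks 01YM (Lemma 30.12.8), weak form of condition (3)(c): extension + cokernel directions only. -/
def DevExt (X : Scheme.{u}) : Prop :=
  ∀ P : X.Modules → Prop,
    (∀ M N : X.Modules, Nonempty (M ≅ N) → P M → P N) →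
    (∀ M : X.Modules, IsZero M → P M) →
    (∀ S : ShortComplex X.Modules, S.ShortExact → Coh.IsCoh S.X₁ → Coh.IsCoh S.X₂ → Coh.IsCoh S.X₃ →
      (P S.X₁ → P S.X₃ → P S.X₂) ∧ (P S.X₁ → P S.X₂ → P S.X₃)) →
    (∀ M N : X.Modules, Coh.IsCoh M → Coh.IsCoh N → P (M ⊞ N) → P M) →
    (∀ (Z : Scheme.{u}) (i : Z ⟶ X) [IsClosedImmersion i] [IsIntegral Z],
      ∃ G : Z.Modules, Coh.IsCoh G ∧ genericPoint Z ∈ CohB1.support G ∧
        ∀ J : X.IdealSheafData, i (genericPoint Z) ∉ J.support →
          ∃ (G' : X.Modules) (m : G' ⟶ (Coh.push i).obj G), Mono m ∧ Coh.IsCoh G' ∧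
            m ≫ η J ((Coh.push i).obj G) = 0 ∧ IsoOn m J.support.compl ∧ P G') →
    ∀ M : X.Modules, Coh.IsCoh M → P M

/-- **Chevalley's theorem** (Noetherian case), from the extension-only dévissage. -/
theorem isAffine_of_finite_surjective {Y : Scheme.{u}} [IsNoetherian X] (hdev : DevExt X) (f : Y ⟶ X)
    [IsFinite f] [Surjective f] [IsAffine Y] : IsAffine X := by
  refine isAffine_of_pv (hdev PV (fun M N ⟨e⟩ h => pv_of_iso e h) (fun M hM => pv_of_isZero hM)
    (fun S hS _ _ _ => ⟨pv_ext S hS, pv_coker S hS⟩) (fun M N _ _ h => pv_summand M N h) ?_)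
  intro Z i _ _
  obtain ⟨Z', i', g, hi', hZ', hg, hgs, hcomm⟩ :=
    Groth.Agent.R2.H14.FinSurj.exists_integral_over' f i
  haveI : IsLocallyNoetherian Z := LocallyOfFiniteType.isLocallyNoetherian i
  haveI : IsLocallyNoetherian Z' := LocallyOfFiniteType.isLocallyNoetherian g
  haveI : IsAffine Z' := isAffine_of_isAffineHom i'
  have hO : Coh.IsCoh (Coh.structureModule Z') := Groth.Agent.R2.H5.CohThick.isCoh_structureModule Z'
  refine ⟨(Coh.push g).obj (Coh.structureModule Z'), Groth.Agent.S0019.result g _ hO,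
    Groth.Agent.R2.H14.PushSupp.genericPoint_mem_support_push_of_surjective g, fun J _ => ?_⟩
  obtain ⟨K, κ, hκ, hK, h0, hiso⟩ := exists_sub_push_push i g (Coh.structureModule Z') J hO
  haveI : K.IsQuasicoherent := hK.1
  refine ⟨(Coh.push i).obj ((Coh.push g).obj K), (Coh.push i).map ((Coh.push g).map κ), inferInstance,
    Groth.Agent.S0019.result i _ (Groth.Agent.S0019.result g K hK), h0, hiso, ?_⟩
  exact pv_of_iso ((Scheme.Modules.pushforwardComp g i).app K).symm (pv_push_of_isAffine (g ≫ i) K)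

end Groth.Agent.R2.H55.Chevalley
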