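import Mathlib
import Groth.Agent.R2.H54DevExt
import Groth.Agent.R2.H55Chevalley

/-!
# `DevExt X` (helper55's interface shape of Stacks 01YM) for Noetherian `X` (helper54)
-/

set_option autoImplicit false
set_option linter.style.haveILetI false
universe u

open CategoryTheory CategoryTheory.Limits AlgebraicGeometry TopologicalSpace Opposite

namespace Groth.Agent.R2.H54.DevExt

open Groth.Agent.R2.H12.Dev

/-- the extension-only dévissage in helper55's interface shape -/
theorem devExt (X : Scheme.{u}) [IsNoetherian X] : Groth.Agent.R2.H55.Chevalley.DevExt X := by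
  intro P hiso h0 hex hsum' hgen M hM
  refine devissage_ext P hiso h0 (fun S hS h1 h2 h3 => (hex S hS h1 h2 h3).1)
    (fun S hS h1 h2 h3 => (hex S hS h1 h2 h3).2) ?_ ?_ M hM
  · intro M N s r hsr hMc hNc hPM
    have hS : (ShortComplex.mk s (cokernel.π s) (cokernel.condition s)).Exact :=
      ShortComplex.exact_cokernel s
    have e : M ≅ N ⊞ cokernel s :=
      (ShortComplex.Splitting.ofExactOfRetraction
        (ShortComplex.mk s (cokernel.π s) (cokernel.condition s)) hS r hsr inferInstance).isoBinaryBiproduct
    exact hsum' N (cokernel s) hNc (isCoh_cokernel hNc hMc s) (hiso _ _ ⟨e⟩ hPM)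
  · intro Z i _ _
    obtain ⟨G, hG, hξ, h⟩ := hgen Z i
    exact ⟨G, hG, hξ, fun J hJ => h J hJ⟩

end Groth.Agent.R2.H54.DevExt
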