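import Mathlib
import Groth.Agent.R2.H54DevExt
import Groth.Agent.R2.H12IdealMulB
import Groth.Agent.R2.H55PushIdeal

/-!
# Dévissage with the kernel and extension directions and power roots (helper54)

`devissage_ker`: let `X` be a Noetherian scheme and `P` a property of `O_X`-modules, invariant under isomorphisms,
holding for zero modules, such that on short exact sequences of coherent modules `P X₂ → P X₃ → P X₁` (kernels) and
`P X₁ → P X₃ → P X₂` (extensions), and `P (F^d) → P F` for `d ≥ 1`.  If for every integral closed subscheme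
`i : Z ⟶ X` there is a coherent `G` on `Z` with nonzero generic stalk and `P (i_* G)`, then `P` holds for all coherent
modules.  The missing cokernel direction is replaced by Artin–Rees (helper12's `exists_pow_idealMul_inf_isZero`):
a morphism `B ⟶ C` which is an isomorphism near a point becomes a monomorphism on `J^n B` for a suitable ideal `J`.
-/

set_option autoImplicit false
set_option linter.style.haveILetI false
universe u

open CategoryTheory CategoryTheory.Limits AlgebraicGeometry TopologicalSpace Opposite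

namespace Groth.Agent.R2.H54.DevKer

open Groth.Agent.R2.H12.Dev Groth.Agent.Lib.Helper23.Extend Groth.Agent.Lib.Helper23.QCohLocal
  Groth.Agent.R2.H54.DevExt

attribute [local instance] restrictFunctor_isRightAdjoint

section Transfer

variable {X : Scheme.{u}} [IsLocallyNoetherian X]

/-- backward comparison: if the kernel and the cokernel of `u : M ⟶ M'` have `P`, then `P M' → P M`
(kernel and extension directions only). -/
theorem transfer_mpr (P : X.Modules → Prop) (hiso : ∀ M N : X.Modules, Nonempty (M ≅ N) → P M → P N)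
    (hker : ∀ S : ShortComplex X.Modules, S.ShortExact → Coh.IsCoh S.X₁ → Coh.IsCoh S.X₂ →
      Coh.IsCoh S.X₃ → P S.X₂ → P S.X₃ → P S.X₁)
    (hext : ∀ S : ShortComplex X.Modules, S.ShortExact → Coh.IsCoh S.X₁ → Coh.IsCoh S.X₂ →
      Coh.IsCoh S.X₃ → P S.X₁ → P S.X₃ → P S.X₂)
    {M M' : X.Modules} (hM : Coh.IsCoh M) (hM' : Coh.IsCoh M') (u : M ⟶ M')
    (hk : P (kernel u)) (hc : P (cokernel u)) (h : P M') : P M := by
  have hkerc : Coh.IsCoh (kernel u) := isCoh_kernel hM hM' u
  have hcokc : Coh.IsCoh (cokernel u) := isCoh_cokernel hM hM' u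
  have hcoim : Coh.IsCoh (Abelian.coimage u) := isCoh_cokernel hkerc hM (kernel.ι u)
  have him : Coh.IsCoh (Abelian.image u) := isCoh_kernel hM' hcokc (cokernel.π u)
  have hS₁ : (ShortComplex.mk (kernel.ι u) (cokernel.π (kernel.ι u)) (cokernel.condition _)).ShortExact :=
    ShortComplex.ShortExact.mk' (ShortComplex.exact_cokernel (kernel.ι u)) inferInstance inferInstance
  have hS₂ : (ShortComplex.mk (kernel.ι (cokernel.π u)) (cokernel.π u) (kernel.condition _)).ShortExact :=
    ShortComplex.ShortExact.mk' (ShortComplex.exact_kernel (cokernel.π u)) inferInstance inferInstance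
  have e : Abelian.coimage u ≅ Abelian.image u := Abelian.coimageIsoImage u
  exact hext _ hS₁ hkerc hM hcoim hk (hiso _ _ ⟨e.symm⟩ (hker _ hS₂ him hM' hcokc h hc))

omit [IsLocallyNoetherian X] in
/-- forward comparison along a monomorphism (extension direction). -/
theorem transfer_mono (P : X.Modules → Prop)
    (hext : ∀ S : ShortComplex X.Modules, S.ShortExact → Coh.IsCoh S.X₁ → Coh.IsCoh S.X₂ →
      Coh.IsCoh S.X₃ → P S.X₁ → P S.X₃ → P S.X₂)
    {M M' : X.Modules} (hM : Coh.IsCoh M) (hM' : Coh.IsCoh M') (u : M ⟶ M') [Mono u]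
    (hc : P (cokernel u)) (h : P M) : P M' := by
  have hS : (ShortComplex.mk u (cokernel.π u) (cokernel.condition _)).ShortExact :=
    ShortComplex.ShortExact.mk' (ShortComplex.exact_cokernel u) inferInstance inferInstance
  exact hext _ hS hM hM' (isCoh_cokernel hM hM' u) h hc

end Transfer

section Core

attribute [local instance] Abelian.hasFiniteBiproducts

variable {X : Scheme.{u}} [IsNoetherian X] (P : X.Modules → Prop)
  (hiso : ∀ M N : X.Modules, Nonempty (M ≅ N) → P M → P N)
  (h0 : ∀ M : X.Modules, IsZero M → P M)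
  (hker : ∀ S : ShortComplex X.Modules, S.ShortExact → Coh.IsCoh S.X₁ → Coh.IsCoh S.X₂ →
    Coh.IsCoh S.X₃ → P S.X₂ → P S.X₃ → P S.X₁)
  (hext : ∀ S : ShortComplex X.Modules, S.ShortExact → Coh.IsCoh S.X₁ → Coh.IsCoh S.X₂ →
    Coh.IsCoh S.X₃ → P S.X₁ → P S.X₃ → P S.X₂)
  (hroot : ∀ (F : X.Modules) (d : ℕ), 1 ≤ d → Coh.IsCoh F → P (∐ fun _ : Fin d => F) → P F)

include hiso h0 hker hext in
/-- the `X`-level heart of the argument: a roof `A ⟵ B ⟶ C` of coherent modules vanishing on `W`, both legs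
isomorphisms over an open `T ∋ x` with `x ∉ W`; if `P A` and `P` holds for coherent modules vanishing on opens strictly
larger than `W`, then `P C`. -/
theorem core_X_ker (W T : X.Opens) (x : X) (hxT : x ∈ T) (hxW : x ∉ W)
    (IH : ∀ W' : X.Opens, W < W' → ∀ M : X.Modules, Coh.IsCoh M → VanOn M W' → P M)
    {A B C : X.Modules} (hA : Coh.IsCoh A) (hB : Coh.IsCoh B) (hC : Coh.IsCoh C)
    (hvA : VanOn A W) (hvB : VanOn B W) (hvC : VanOn C W)
    (b₁ : B ⟶ A) (b₂ : B ⟶ C) (hb₁ : IsoOn b₁ T) (hb₂ : IsoOn b₂ T) (hPA : P A) : P C := by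
  have hlt : ∀ T' : X.Opens, x ∈ T' → W < W ⊔ T' := fun T' hx =>
    lt_of_le_of_ne le_sup_left fun heq => hxW (heq ▸ (Or.inr hx : x ∈ W ⊔ T'))
  -- `P B`
  have hPB : P B := by
    refine transfer_mpr P hiso hker hext hB hA b₁ ?_ ?_ hPA
    · exact IH _ (hlt _ hxT) _ (isCoh_kernel hB hA b₁)
        ((hvB.of_mono (kernel.ι b₁)).sup (vanOn_kernel_of_isoOn b₁ hb₁))
    · exact IH _ (hlt _ hxT) _ (isCoh_cokernel hB hA b₁)
        ((hvA.of_epi (cokernel.π b₁)).sup (vanOn_cokernel_of_isoOn b₁ hb₁))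
  -- the kernel of `b₂` and its annihilator ideal
  have hNc : Coh.IsCoh (kernel b₂) := isCoh_kernel hB hC b₂
  have hNv : VanOn (kernel b₂) T := vanOn_kernel_of_isoOn b₂ hb₂
  haveI : (kernel b₂).IsQuasicoherent := hNc.1
  obtain ⟨J, -, -, -, hJsupp⟩ := Groth.Agent.Helper18Ann.main_S9377 (kernel b₂) hNc.2
  have hxJ : x ∉ J.support := by
    intro hx
    have hx' : x ∈ (J.support : Set X) := hx
    rw [hJsupp] at hx'
    exact not_mem_support_of_vanOn hNv hxT hx'
  have hNJ : VanOn (kernel b₂) (complOpen J) := by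
    refine vanOn_of_support_disjoint _ _ fun y hy hys => ?_
    rw [← hJsupp] at hys
    exact hy hys
  obtain ⟨n, hn⟩ := Groth.Agent.R2.H12.IdealMul.exists_pow_idealMul_inf_isZero J (complOpen J) rfl B hB
    (kernel.ι b₂) hNJ
  have hz := hn (n + 1) (Nat.le_succ n)
  -- `B' = J^(n+1) B`
  have hB' : Coh.IsCoh ((Dual3.idealMul (J ^ (n + 1))).obj B) :=
    Groth.Agent.R2.H12.IdealMul.isCoh_idealMul _ B hB
  have hι' : IsoOn (Dual3.idealMulι (J ^ (n + 1)) B) (complOpen J) :=
    Groth.Agent.R2.H55.PushIdeal.isoOn_kernel_ι (J ^ (n + 1)) B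
  have hxJ' : x ∈ complOpen J := hxJ
  have hPB' : P ((Dual3.idealMul (J ^ (n + 1))).obj B) := by
    refine transfer_mpr P hiso hker hext hB' hB (Dual3.idealMulι (J ^ (n + 1)) B)
      (h0 _ (isZero_kernel_of_mono _)) ?_ hPB
    exact IH _ (hlt _ hxJ') _ (isCoh_cokernel hB' hB _)
      ((hvB.of_epi (cokernel.π _)).sup (vanOn_cokernel_of_isoOn _ hι'))
  -- `B' ⟶ C` is a monomorphism
  haveI hmono : Mono (Dual3.idealMulι (J ^ (n + 1)) B ≫ b₂) := by
    refine Preadditive.mono_of_cancel_zero _ fun {Q} g hg => ?_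
    have hg' : (g ≫ Dual3.idealMulι (J ^ (n + 1)) B) ≫ b₂ = 0 := by rw [Category.assoc, hg]
    have h1 : pullback.lift g (kernel.lift b₂ (g ≫ Dual3.idealMulι (J ^ (n + 1)) B) hg')
        (by rw [kernel.lift_ι]) ≫ pullback.fst (Dual3.idealMulι (J ^ (n + 1)) B) (kernel.ι b₂) = g :=
      pullback.lift_fst _ _ _
    rw [← h1, hz.eq_of_tgt (pullback.lift _ _ _) 0, zero_comp]
  have hu : IsoOn (Dual3.idealMulι (J ^ (n + 1)) B ≫ b₂) (T ⊓ complOpen J) :=
    (hι'.mono inf_le_right).comp (hb₂.mono inf_le_left)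
  refine transfer_mono P hext hB' hC (Dual3.idealMulι (J ^ (n + 1)) B ≫ b₂) ?_ hPB'
  exact IH _ (hlt (T ⊓ complOpen J) ⟨hxT, hxJ'⟩) _ (isCoh_cokernel hB' hC _)
    ((hvC.of_epi (cokernel.π _)).sup (vanOn_cokernel_of_isoOn _ hu))

omit [AlgebraicGeometry.IsNoetherian X] in
/-- the pushforward of a finite coproduct is the coproduct of the pushforwards -/
theorem nonempty_push_sigma_iso {Z : Scheme.{u}} (i : Z ⟶ X) (m : ℕ) (I : Z.Modules) :
    Nonempty ((Scheme.Modules.pushforward i).obj (∐ fun _ : Fin m => I) ≅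
      ∐ fun _ : Fin m => (Scheme.Modules.pushforward i).obj I) := by
  haveI : (Scheme.Modules.pushforward i).Additive :=
    (Scheme.Modules.pullbackPushforwardAdjunction i).right_adjoint_additive
  haveI : PreservesFiniteCoproducts (Scheme.Modules.pushforward i) :=
    Functor.preservesFiniteCoproductsOfAdditive _
  exact ⟨PreservesCoproduct.iso (Scheme.Modules.pushforward i) (fun _ : Fin m => I)⟩

include hiso h0 hker hext hroot in
/-- the main step: `P (i_* I)` for every nonzero quasi-coherent ideal `I` of the integral closed subscheme `Z`, given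
one coherent `G` on `Z` with nonzero generic stalk and `P (i_* G)`, and `P` for all coherent modules vanishing on
strictly larger opens.  Only the kernel and extension directions (and power roots) are used. -/
theorem push_ideal_ker {Z : Scheme.{u}} (i : Z ⟶ X) [IsClosedImmersion i] [IsIntegral Z] (W : X.Opens)
    (hW : i ⁻¹ᵁ W = ⊥)
    (IH : ∀ W' : X.Opens, W < W' → ∀ M : X.Modules, Coh.IsCoh M → VanOn M W' → P M)
    (G : Z.Modules) (hG : Coh.IsCoh G) (hξ : genericPoint Z ∈ CohB1.support G)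
    (hPG : P ((Scheme.Modules.pushforward i).obj G))
    (I : Z.Modules) (ι : I ⟶ Coh.structureModule Z) [Mono ι] (hIq : Coh.IsQCoh I) (hI0 : ¬ IsZero I) :
    P ((Scheme.Modules.pushforward i).obj I) := by
  classical
  have hZN : IsNoetherian Z := isNoetherian_of_isClosedImmersion i
  obtain ⟨m, hm, H₀, pG, pE, D, hH₀, hD, hpG, hpE⟩ := exists_zigzag_free G hG hξ
  have hE : Coh.IsCoh (FlatMod.freeMod Z m) := isCoh_freeMod' m
  have hO : Coh.IsCoh (Coh.structureModule Z) := Groth.Agent.R2.H5.CohThick.isCoh_structureModule Z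
  have hIc : Coh.IsCoh I := Groth.Agent.S0046.result Z _ I ι hO hIq
  obtain ⟨D', hD', hι⟩ := exists_isoOn_of_ideal ι hI0
  -- the sum of `m` copies of `I`
  have hιm : IsoOn (Limits.Sigma.map (fun _ : Fin m => ι)) D' := isoOn_sigmaMap _ _ _ D' (fun _ => hι)
  haveI hιmono : Mono (Limits.Sigma.map (fun _ : Fin m => ι)) := inferInstance
  have hEIq : (∐ fun _ : Fin m => I).IsQuasicoherent := by
    have h1 := Groth.Agent.Lib.Helper23.QCohLocal.isQuasicoherent_biproduct (fun _ : Fin m => I) (fun _ => hIq)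
    exact (SheafOfModules.isQuasicoherent Z.ringCatSheaf).prop_of_iso (biproduct.isoCoproduct _) h1
  have hEIc : Coh.IsCoh (∐ fun _ : Fin m => I) :=
    Groth.Agent.S0046.result Z _ _ (Limits.Sigma.map (fun _ : Fin m => ι)) hE hEIq
  -- the pullback `H₁ = H₀ ×_{O^m} I^m`
  obtain ⟨H₁, b₁Z, q₁, hH₁c, hb₁Z, hq₁⟩ : ∃ (H₁ : Z.Modules) (b₁Z : H₁ ⟶ G) (q₁ : H₁ ⟶ ∐ fun _ : Fin m => I),
      Coh.IsCoh H₁ ∧ IsoOn b₁Z (D ⊓ D') ∧ IsoOn q₁ D := by
    have hq₀ : IsoOn (pullback.fst pE (Limits.Sigma.map (fun _ : Fin m => ι))) D' := isoOn_pullback_fst pE _ hιm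
    have hq₁ : IsoOn (pullback.snd pE (Limits.Sigma.map (fun _ : Fin m => ι))) D := isoOn_pullback_snd pE _ hpE
    haveI : Mono (pullback.fst pE (Limits.Sigma.map (fun _ : Fin m => ι))) := inferInstance
    have hH₁c : Coh.IsCoh (pullback pE (Limits.Sigma.map (fun _ : Fin m => ι))) := by
      haveI : H₀.IsQuasicoherent := hH₀.1
      haveI : (∐ fun _ : Fin m => I).IsQuasicoherent := hEIq
      haveI : (FlatMod.freeMod Z m).IsQuasicoherent := hE.1
      exact Groth.Agent.S0046.result Z H₀ _ (pullback.fst pE _) hH₀ (isQuasicoherent_pullback pE _)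
    exact ⟨_, pullback.fst pE _ ≫ pG, pullback.snd pE _, hH₁c,
      (hq₀.mono inf_le_right).comp (hpG.mono inf_le_left), hq₁⟩
  -- push everything forward to `X`
  have hξD : genericPoint Z ∈ D ⊓ D' :=
    ⟨((genericPoint_spec Z).mem_open_set_iff D.isOpen).2 (by simpa using hD),
      ((genericPoint_spec Z).mem_open_set_iff D'.isOpen).2 (by simpa using hD')⟩
  obtain ⟨t, ht, hDt⟩ := i.isEmbedding.isInducing.isOpen_iff.mp (D ⊓ D').isOpen
  have hWD : i ⁻¹ᵁ (⟨t, ht⟩ : X.Opens) = D ⊓ D' := Opens.ext hDt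
  generalize htdef : (⟨t, ht⟩ : X.Opens) = T at hWD
  have hξT : i (genericPoint Z) ∈ T := by
    have : genericPoint Z ∈ i ⁻¹ᵁ T := hWD ▸ hξD
    exact this
  have hξW : i (genericPoint Z) ∉ W := by
    intro h
    have h3 : genericPoint Z ∈ i ⁻¹ᵁ W := h
    rw [hW] at h3
    exact absurd h3 (by simp)
  have hA : Coh.IsCoh ((Scheme.Modules.pushforward i).obj G) := Groth.Agent.S0019.result i G hG
  have hB : Coh.IsCoh ((Scheme.Modules.pushforward i).obj H₁) := Groth.Agent.S0019.result i H₁ hH₁c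
  have hC : Coh.IsCoh ((Scheme.Modules.pushforward i).obj (∐ fun _ : Fin m => I)) :=
    Groth.Agent.S0019.result i _ hEIc
  have hvA := vanOn_push_of_preimage_eq_bot i G W hW
  have hvB := vanOn_push_of_preimage_eq_bot i H₁ W hW
  have hvC := vanOn_push_of_preimage_eq_bot i (∐ fun _ : Fin m => I) W hW
  have hb₁ : IsoOn ((Scheme.Modules.pushforward i).map b₁Z) T := isoOn_push i b₁Z _ hb₁Z T hWD.le
  have hb₂ : IsoOn ((Scheme.Modules.pushforward i).map q₁) T :=
    isoOn_push i q₁ _ hq₁ T (hWD.le.trans inf_le_left)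
  have hPC : P ((Scheme.Modules.pushforward i).obj (∐ fun _ : Fin m => I)) :=
    core_X_ker P hiso h0 hker hext W T _ hξT hξW IH hA hB hC hvA hvB hvC _ _ hb₁ hb₂ hPG
  -- power roots
  obtain ⟨e⟩ := nonempty_push_sigma_iso i m I
  exact hroot _ m hm (Groth.Agent.S0019.result i _ hIc) (hiso _ _ ⟨e⟩ hPC)

include hiso h0 hker hext hroot in
/-- **Dévissage with the kernel and extension directions and power roots, relative form**. -/
theorem devissage_ker_core (W₀ : X.Opens)
    (hgen : ∀ (Z : Scheme.{u}) (i : Z ⟶ X) [IsClosedImmersion i] [IsIntegral Z], i ⁻¹ᵁ W₀ = ⊥ →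
      ∃ G : Z.Modules, Coh.IsCoh G ∧ genericPoint Z ∈ CohB1.support G ∧
        P ((Scheme.Modules.pushforward i).obj G))
    (M : X.Modules) (hM : Coh.IsCoh M) (hMW : VanOn M W₀) : P M := by
  have key : ∀ W : X.Opens, W₀ ≤ W → ∀ M : X.Modules, Coh.IsCoh M → VanOn M W → P M := by
    intro W
    induction W using WellFoundedGT.induction with
    | ind W IH =>
      intro hW₀ M hM hMW
      have IH' : ∀ W' : X.Opens, W < W' → ∀ M : X.Modules, Coh.IsCoh M → VanOn M W' → P M :=
        fun W' hW' => IH W' hW' (hW₀.trans hW'.le)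
      obtain ⟨m, hm⟩ := exists_chain_eq_top hM
      have hcoh : ∀ j, Coh.IsCoh (chain hM j : X.Modules) := fun j =>
        Groth.Agent.S0046.result X M _ (chain hM j).arrow hM (qcoh_chain hM j)
      have hall : ∀ j, P (chain hM j : X.Modules) := by
        intro j
        induction j with
        | zero => exact h0 _ (isZero_bot M)
        | succ j ih =>
          by_cases hne : chain hM j = ⊤
          · have heq : chain hM (j + 1) = chain hM j := stepFn_of_not hM _ (fun h => h.2 hne)
            rw [heq]; exact ih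
          · obtain ⟨hle, -, Z, i, hi, hZ, I, ι, hι, hIq, hI0, ⟨e⟩⟩ := chain_isStep hM j hne
            have hc3 : Coh.IsCoh (cokernel ((chain hM j).ofLE _ hle)) :=
              isCoh_cokernel (hcoh j) (hcoh (j + 1)) _
            have hv2 : VanOn (chain hM (j + 1) : X.Modules) W := hMW.of_mono (chain hM (j + 1)).arrow
            have hv3 : VanOn (cokernel ((chain hM j).ofLE _ hle)) W := hv2.of_epi (cokernel.π _)
            have hvI : VanOn ((Scheme.Modules.pushforward i).obj I) W := hv3.of_iso e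
            have hiW : i ⁻¹ᵁ W = ⊥ := preimage_eq_bot_of_vanOn i ι hI0 hvI
            have hiW₀ : i ⁻¹ᵁ W₀ = ⊥ := le_bot_iff.1 (hiW ▸ Scheme.Hom.preimage_mono i hW₀)
            obtain ⟨G, hG, hξ, hPG⟩ := hgen Z i hiW₀
            have hPI : P ((Scheme.Modules.pushforward i).obj I) :=
              push_ideal_ker P hiso h0 hker hext hroot i W hiW IH' G hG hξ hPG I ι hIq hI0
            have hPc : P (cokernel ((chain hM j).ofLE _ hle)) := hiso _ _ ⟨e.symm⟩ hPI
            have hS : (ShortComplex.mk ((chain hM j).ofLE _ hle) (cokernel.π _)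
                (cokernel.condition _)).ShortExact :=
              ShortComplex.ShortExact.mk' (ShortComplex.exact_cokernel _) inferInstance inferInstance
            exact hext _ hS (hcoh j) (hcoh (j + 1)) hc3 ih hPc
      have hiso' : IsIso (chain hM m).arrow := (Subobject.isIso_arrow_iff_eq_top _).2 hm
      exact hiso _ _ ⟨asIso (chain hM m).arrow⟩ (hall m)
  exact key W₀ le_rfl M hM hMW

include hiso h0 hker hext hroot in
/-- **Dévissage with the kernel and extension directions and power roots**. -/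
theorem devissage_ker
    (hgen : ∀ (Z : Scheme.{u}) (i : Z ⟶ X) [IsClosedImmersion i] [IsIntegral Z],
      ∃ G : Z.Modules, Coh.IsCoh G ∧ genericPoint Z ∈ CohB1.support G ∧
        P ((Scheme.Modules.pushforward i).obj G))
    (M : X.Modules) (hM : Coh.IsCoh M) : P M := by
  refine devissage_ker_core P hiso h0 hker hext hroot ⊥ (fun Z i _ _ _ => hgen Z i) M hM ?_
  intro W' hW' s
  have hbot : W' = ⊥ := le_bot_iff.1 hW'
  subst hbot
  exact eq_zero_of_bot M s

end Core

end Groth.Agent.R2.H54.DevKer
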