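import Mathlib
import Groth.Agent.R2.H54DevExt
import Groth.Agent.R2.H54AmpleFinal
import Groth.Agent.R2.H54ProjInv

/-!
# Serre vanishing and extension-only dévissage (helper54)

`SV L M` (helper55's `AmpleComp.SV`: `H^p(X, M ⊗ L^n) = 0` for `p > 0`, `n ≫ 0`) is stable under isomorphisms,
extensions, cokernels of monomorphisms and retracts, and holds for zero modules.  Hence by `DevExt.devissage_ext` it
holds for all coherent modules as soon as it holds for suitable generators; with (A4) this gives ampleness.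
-/

set_option autoImplicit false
set_option linter.style.haveILetI false
universe u

open CategoryTheory CategoryTheory.Limits AlgebraicGeometry TopologicalSpace Opposite

namespace Groth.Agent.R2.H54.SVDev

open Groth.Agent.R2.H55.AmpleComp Groth.Agent.R2.H79.TwistCalc Groth.Agent.R2.H62.CohLES
  Groth.Agent.R2.H54.DevExt

variable {X : Scheme.{u}}

theorem sv_of_iso (L : X.Modules) {M N : X.Modules} (e : M ≅ N) (h : SV L M) : SV L N := by
  obtain ⟨n₀, h⟩ := h
  refine ⟨n₀, fun n hn p hp => ?_⟩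
  exact Groth.Agent.R2.H54.ProjInv.subsingleton_HH_of_iso
    ((tensorRightF (CohB1.tensorPow L n)).mapIso e) p (h n hn p hp)

theorem sv_retract (L : X.Modules) {M N : X.Modules} (s : N ⟶ M) (r : M ⟶ N) (hsr : s ≫ r = 𝟙 N)
    (h : SV L M) : SV L N := by
  obtain ⟨n₀, h⟩ := h
  refine ⟨n₀, fun n hn p hp => ?_⟩
  have hM : Subsingleton (Coh.HH X ((tensorRightF (CohB1.tensorPow L n)).obj M) p) := h n hn p hp
  have h0 : ∀ x : Coh.HH X (CohB1.tensorMod N (CohB1.tensorPow L n)) p, x = 0 := by
    intro x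
    have h1 : HHmap ((tensorRightF (CohB1.tensorPow L n)).map r) p
        (HHmap ((tensorRightF (CohB1.tensorPow L n)).map s) p x) = x := by
      rw [← HHmap_comp, ← Functor.map_comp, hsr, CategoryTheory.Functor.map_id]
      exact HHmap_id p x
    rw [← h1, Subsingleton.elim (HHmap ((tensorRightF (CohB1.tensorPow L n)).map s) p x) 0]
    exact map_zero _
  exact ⟨fun a b => (h0 a).trans (h0 b).symm⟩

theorem sv_of_isZero (L : X.Modules) {M : X.Modules} (h : IsZero M) : SV L M := by
  refine ⟨0, fun n _ p _ => ?_⟩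
  have hz : IsZero (CohB1.tensorMod M (CohB1.tensorPow L n)) :=
    (tensorRightF (CohB1.tensorPow L n)).map_isZero h
  have h0 : ∀ x : Coh.HH X (CohB1.tensorMod M (CohB1.tensorPow L n)) p, x = 0 := by
    intro x
    have h1 := HHmap_id p x
    rw [hz.eq_of_src (𝟙 _) 0, HHmap_zero] at h1
    exact h1.symm
  exact ⟨fun a b => (h0 a).trans (h0 b).symm⟩

/-- Serre vanishing passes to the cokernel term of a short exact sequence. -/
theorem sv_cokernel (L : X.Modules) (hL : PicF.IsInvertible L) (S : ShortComplex X.Modules)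
    (hS : S.ShortExact) (h₁ : SV L S.X₁) (h₂ : SV L S.X₂) : SV L S.X₃ := by
  obtain ⟨n₁, h₁⟩ := h₁
  obtain ⟨n₂, h₂⟩ := h₂
  refine ⟨max n₁ n₂, fun n hn p hp => ?_⟩
  have hLn : PicF.IsInvertible (CohB1.tensorPow L n) :=
    Groth.Agent.Lib.Helper23.SecTw.isInvertible_tensorPow hL n
  have hS' := shortExact_map_tensorRightF (CohB1.tensorPow L n) hLn S hS
  have hex := exact_g_δ hS' p
  have s₁ : Subsingleton (Coh.HH X (S.map (tensorRightF (CohB1.tensorPow L n))).X₁ (p + 1)) :=
    h₁ n (le_trans (le_max_left _ _) hn) (p + 1) (Nat.succ_pos p)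
  have s₂ : Subsingleton (Coh.HH X (S.map (tensorRightF (CohB1.tensorPow L n))).X₂ p) :=
    h₂ n (le_trans (le_max_right _ _) hn) p hp
  have h0 : ∀ x : Coh.HH X (S.map (tensorRightF (CohB1.tensorPow L n))).X₃ p, x = 0 := by
    intro x
    obtain ⟨y, rfl⟩ := (hex x).mp (Subsingleton.elim _ _)
    rw [Subsingleton.elim y 0, map_zero]
  exact ⟨fun a b => (h0 a).trans (h0 b).symm⟩

/-- **Serre vanishing by extension-only dévissage**: on a Noetherian scheme, `SV L` holds for all coherent modules as
soon as it holds for the small subobjects of suitable generators. -/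
theorem sv_of_generators [IsNoetherian X] (L : X.Modules) (hL : PicF.IsInvertible L)
    (hgen : ∀ (Z : Scheme.{u}) (i : Z ⟶ X) [IsClosedImmersion i] [IsIntegral Z],
      ∃ G : Z.Modules, Coh.IsCoh G ∧ genericPoint Z ∈ CohB1.support G ∧
        SubIdealHyp (SV L) ((Scheme.Modules.pushforward i).obj G) (i (genericPoint Z)))
    (M : X.Modules) (hM : Coh.IsCoh M) : SV L M :=
  devissage_ext (SV L) (fun _ _ ⟨e⟩ h => sv_of_iso L e h) (fun _ h => sv_of_isZero L h)
    (fun S hS _ _ _ h₁ h₃ => sv_of_shortExact L hL S hS h₁ h₃)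
    (fun S hS _ _ _ h₁ h₂ => sv_cokernel L hL S hS h₁ h₂)
    (fun _ _ s r hsr _ _ h => sv_retract L s r hsr h) hgen M hM

/-- ampleness from generators (A4 + dévissage). -/
theorem isAmple_of_generators [IsNoetherian X] (L : X.Modules) (hL : PicF.IsInvertible L)
    (hgen : ∀ (Z : Scheme.{u}) (i : Z ⟶ X) [IsClosedImmersion i] [IsIntegral Z],
      ∃ G : Z.Modules, Coh.IsCoh G ∧ genericPoint Z ∈ CohB1.support G ∧
        SubIdealHyp (SV L) ((Scheme.Modules.pushforward i).obj G) (i (genericPoint Z))) :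
    CohB1.IsAmple L :=
  Groth.Agent.R2.H54.AmpleFinal.vanishingAmple X L hL (fun M hM => sv_of_generators L hL hgen M hM)

end Groth.Agent.R2.H54.SVDev
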