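import Mathlib
import Groth.Agent.R2.H54SVDev
import Groth.Agent.R2.H14FinSurj
import Groth.Agent.R2.H14PushSupp
import Groth.Agent.R2.H12IdealMulB
import Groth.Agent.Lib.Helper23AmpleIso
import Groth.Agent.R2.H55PushIdeal

/-!
# Ampleness descends along finite surjective morphisms (helper54)

`isAmple_of_finite_surjective`: `X`, `Y` proper over a Noetherian ring, `f : Y ⟶ X` finite surjective, `L` invertible
on `X` with `f^* L` ample; then `L` is ample (Hartshorne Ex. III.5.7(d), Stacks 0B5V).  Proof by the extension-only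
dévissage `DevExt.devissage_ext` applied to Serre vanishing, with generators `(g ≫ i)_* O_{Z'}` for
`Z' ⊆ Y` integral closed, finite surjective over `Z ⊆ X` (helper14's `exists_integral_over'`), and small subobjects
`h_* (J O_{Z'})` (helper55's `R2/H55PushIdeal`).
-/

set_option autoImplicit false
set_option linter.style.haveILetI false
universe u

open CategoryTheory CategoryTheory.Limits AlgebraicGeometry TopologicalSpace Opposite

namespace Groth.Agent.R2.H54.FinSurjAmple

open Groth.Agent.R2.H55.AmpleComp Groth.Agent.R2.H54.DevExt Groth.Agent.R2.H54.SVDev Groth.Agent.Lib.Helper23.Extend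
  Groth.Agent.R2.H12.Dev Groth.Agent.R2.H54.AmpleSpec

/-- for `h : Z' ⟶ X` finite with `h^* L` ample and `Z'` proper over a Noetherian ring, the module `h_* N`
(`N` coherent on `Z'`) has arbitrarily small subobjects satisfying Serre vanishing for `L`. -/
theorem subIdealHyp_push (R : Type u) [CommRing R] [IsNoetherianRing R]
    {X Z' : Scheme.{u}} [IsLocallyNoetherian X] (gZ' : Z' ⟶ Spec (CommRingCat.of R)) [IsProper gZ']
    (h : Z' ⟶ X) [IsFinite h] (L : X.Modules) (hL : PicF.IsInvertible L)
    (hhL : CohB1.IsAmple ((Scheme.Modules.pullback h).obj L))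
    (N : Z'.Modules) (hN : Coh.IsCoh N) (x : X) :
    SubIdealHyp (SV L) ((Scheme.Modules.pushforward h).obj N) x := by
  intro J _
  haveI : IsLocallyNoetherian Z' := LocallyOfFiniteType.isLocallyNoetherian gZ'
  haveI : N.IsQuasicoherent := hN.1
  have hN' : Coh.IsCoh ((Dual3.idealMul (J.comap h)).obj N) :=
    Groth.Agent.R2.H12.IdealMul.isCoh_idealMul (J.comap h) N hN
  haveI : ((Dual3.idealMul (J.comap h)).obj N).IsQuasicoherent := hN'.1
  have hz := Groth.Agent.R2.H55.PushIdeal.push_kernel_comp_η h N J
  have hiso := Groth.Agent.R2.H55.PushIdeal.isoOn_pushKernelι h N J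
  refine ⟨(Scheme.Modules.pushforward h).obj ((Dual3.idealMul (J.comap h)).obj N),
    (Scheme.Modules.pushforward h).map (Dual3.idealMulι (J.comap h) N), inferInstance,
    Groth.Agent.S0019.result h _ hN', hz, hiso, ?_⟩
  obtain ⟨n₀, hn₀⟩ := Groth.Agent.R2.H54.AmpleFinal.ampleVanishing R Z' gZ' _ hhL _ hN'
  exact ⟨n₀, fun n hn p hp =>
    Groth.Agent.R2.H54.ProjInv.subsingleton_HH_push_tensorPow h _ L hL n p (hn₀ n hn p hp)⟩

/-- **Ampleness descends along finite surjective morphisms** (schemes proper over a Noetherian ring). -/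
theorem isAmple_of_finite_surjective (R : Type u) [CommRing R] [IsNoetherianRing R]
    {X Y : Scheme.{u}} (gX : X ⟶ Spec (CommRingCat.of R)) (gY : Y ⟶ Spec (CommRingCat.of R)) [IsProper gX]
    [IsProper gY] (f : Y ⟶ X) [IsFinite f] [Surjective f] (L : X.Modules)
    (hL : PicF.IsInvertible L) (hfL : CohB1.IsAmple ((Scheme.Modules.pullback f).obj L)) :
    CohB1.IsAmple L := by
  haveI : IsLocallyNoetherian X := LocallyOfFiniteType.isLocallyNoetherian gX
  haveI : CompactSpace X := QuasiCompact.compactSpace_of_compactSpace gX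
  haveI : IsNoetherian X := { }
  refine isAmple_of_generators L hL fun Z i _ _ => ?_
  obtain ⟨Z', i', g, hi', hZ', hg, hgs, hcomm⟩ := Groth.Agent.R2.H14.FinSurj.exists_integral_over' f i
  haveI : IsLocallyNoetherian Z := LocallyOfFiniteType.isLocallyNoetherian i
  have hO : Coh.IsCoh (Coh.structureModule Z') := by
    haveI : IsLocallyNoetherian Y := LocallyOfFiniteType.isLocallyNoetherian gY
    haveI : IsLocallyNoetherian Z' := LocallyOfFiniteType.isLocallyNoetherian i'
    exact Groth.Agent.R2.H5.CohThick.isCoh_structureModule Z'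
  refine ⟨(Coh.push g).obj (Coh.structureModule Z'), Groth.Agent.S0019.result g _ hO,
    Groth.Agent.R2.H14.PushSupp.genericPoint_mem_support_push_of_surjective g, ?_⟩
  -- `h = g ≫ i = i' ≫ f`
  haveI : IsProper (i' ≫ gY) := inferInstance
  have hhL : CohB1.IsAmple ((Scheme.Modules.pullback (g ≫ i)).obj L) := by
    rw [hcomm]
    exact Groth.Agent.Lib.Helper23.AmpleIso.isAmple_of_iso ((Scheme.Modules.pullbackComp i' f).app L)
      (Groth.Agent.Lib.Helper23.PB.isAmple_pullback_of_isAffineHom i' _ hfL)
  have key := subIdealHyp_push R (i' ≫ gY) (g ≫ i) L hL hhL (Coh.structureModule Z') hO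
    (i (genericPoint Z))
  exact key.of_iso ((Scheme.Modules.pushforwardComp g i).symm.app (Coh.structureModule Z'))

end Groth.Agent.R2.H54.FinSurjAmple
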