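import Mathlib
import Groth.Prelude.Def_KZero
import Groth.Prelude.Def_SGA6
import Groth.Agent.Lib.Helper17K0Serre2

/-!
# `K₀` of classes of objects of an abelian category: dévissage (helper54)

`KZero.K0sub P` is the free abelian group on the objects of the class `P` modulo the short exact sequences of the
ambient abelian category with all three terms in `P`.

* `mapSub_clSub`, `lift`, `lift_clSub`: bookkeeping.
* `clSub_four_term`: the Euler relation of a four-term exact sequence.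
* `bijective_mapSub_of_fullyFaithful`: an exact fully faithful functor `Φ : B ⥤ A` induces a bijection
  `K₀(P') → K₀(Q)` as soon as `Q` is the essential image of `P'`.
* `bijective_mapSub_id_of_step` (**dévissage step**): `P ≤ Q` classes of objects, `P` closed under kernels, and
  `R ⟶ 𝟭` a subfunctor of the identity such that `R F ∈ P` and `F / R F ∈ P` for `F ∈ Q`, and `R` preserves
  epimorphisms between objects of `Q`.  Then `K₀(P) → K₀(Q)` is bijective (inverse `[F] ↦ [R F] + [F / R F]`).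
-/

set_option autoImplicit false
set_option linter.style.haveILetI false
set_option linter.unusedSectionVars false
universe v v' u u'
open CategoryTheory CategoryTheory.Limits

namespace Groth.Agent.R2.H54.K0Dev

open KZero Groth.Agent.Lib.Helper17.K0a Groth.Agent.Lib.Helper17.K0Serre

section Basic

variable {A : Type u} [Category.{v} A] [Abelian A] {B : Type u'} [Category.{v'} B] [Abelian B]

theorem mapSub_clSub (F : A ⥤ B) [F.Additive] [PreservesFiniteLimits F] [PreservesFiniteColimits F]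
    (P : ObjectProperty A) (Q : ObjectProperty B) (h : ∀ X, P X → Q (F.obj X)) {X : A} (hX : P X) :
    SGA6.mapSub F P Q h (clSub P X) = clSub Q (F.obj X) := by
  rw [clSub_of_prop P hX, clSub_of_prop Q (h X hX)]
  unfold SGA6.mapSub
  rw [QuotientAddGroup.map_mk, FreeAbelianGroup.map_of_apply]
  rfl

/-- homomorphisms out of `K₀(P)` -/
noncomputable def lift (P : ObjectProperty A) {G : Type*} [AddCommGroup G] (φ : Subtype P → G)
    (hφ : ∀ (S : ShortComplex A) (h₁ : P S.X₁) (h₂ : P S.X₂) (h₃ : P S.X₃), S.ShortExact →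
      φ ⟨S.X₂, h₂⟩ = φ ⟨S.X₁, h₁⟩ + φ ⟨S.X₃, h₃⟩) : K0sub P →+ G :=
  QuotientAddGroup.lift (relSub P) (FreeAbelianGroup.lift φ) (by
    rw [relSub, AddSubgroup.closure_le]
    rintro x ⟨S, h₁, h₂, h₃, hS, rfl⟩
    rw [SetLike.mem_coe, AddMonoidHom.mem_ker, map_sub, map_sub, FreeAbelianGroup.lift_apply_of,
      FreeAbelianGroup.lift_apply_of, FreeAbelianGroup.lift_apply_of, hφ S h₁ h₂ h₃ hS]
    abel)

theorem lift_clSub (P : ObjectProperty A) {G : Type*} [AddCommGroup G] (φ : Subtype P → G)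
    (hφ : ∀ (S : ShortComplex A) (h₁ : P S.X₁) (h₂ : P S.X₂) (h₃ : P S.X₃), S.ShortExact →
      φ ⟨S.X₂, h₂⟩ = φ ⟨S.X₁, h₁⟩ + φ ⟨S.X₃, h₃⟩) {X : A} (hX : P X) :
    lift P φ hφ (clSub P X) = φ ⟨X, hX⟩ := by
  rw [clSub_of_prop P hX]
  unfold lift
  rw [QuotientAddGroup.lift_mk, FreeAbelianGroup.lift_apply_of]

theorem bijective_of_comp_eq_id {G H : Type*} [AddCommGroup G] [AddCommGroup H] (f : G →+ H) (g : H →+ G)
    (h₁ : g.comp f = AddMonoidHom.id G) (h₂ : f.comp g = AddMonoidHom.id H) : Function.Bijective f := by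
  refine ⟨fun a b hab => ?_, fun y => ⟨g y, ?_⟩⟩
  · have ha : g (f a) = a := DFunLike.congr_fun h₁ a
    have hb : g (f b) = b := DFunLike.congr_fun h₁ b
    rw [← ha, ← hb, hab]
  · exact DFunLike.congr_fun h₂ y

end Basic

section FourTerm

variable {A : Type u} [Category.{v} A] [Abelian A] (P : ObjectProperty A)
  [P.IsClosedUnderIsomorphisms] [P.ContainsZero] [P.IsClosedUnderKernels]

/-- an epimorphism between objects of `P`: `[X] = [ker c] + [Y]` -/
theorem clSub_of_epi {X Y : A} (c : X ⟶ Y) [Epi c] (hX : P X) (hY : P Y) :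
    clSub P X = clSub P (kernel c) + clSub P Y := by
  let S : ShortComplex A := ShortComplex.mk (kernel.ι c) c (kernel.condition c)
  have hS : S.ShortExact :=
    { exact := ShortComplex.exact_kernel c
      mono_f := inferInstanceAs (Mono (kernel.ι c))
      epi_g := inferInstanceAs (Epi c) }
  exact clSub_shortExact P S hS (P.prop_kernel c hX hY) hX hY

/-- the Euler relation of a four-term exact sequence `0 → X₁ → X₂ → X₃ → X₄ → 0` of objects of `P` -/
theorem clSub_four_term {X₁ X₂ X₃ X₄ : A} (a : X₁ ⟶ X₂) (b : X₂ ⟶ X₃) (c : X₃ ⟶ X₄) [Mono a] [Epi c]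
    (w₁ : a ≫ b = 0) (w₂ : b ≫ c = 0) (e₁ : (ShortComplex.mk a b w₁).Exact)
    (e₂ : (ShortComplex.mk b c w₂).Exact) (h₁ : P X₁) (h₂ : P X₂) (h₃ : P X₃) (h₄ : P X₄) :
    clSub P X₁ + clSub P X₃ = clSub P X₂ + clSub P X₄ := by
  have r₁ := clSub_eq_add_of_exact P (ShortComplex.mk a b w₁) e₁ h₁ h₂ h₃
  have r₂ := clSub_eq_add_of_exact P (ShortComplex.mk b c w₂) e₂ h₂ h₃ h₄
  have r₃ := clSub_of_epi P c h₃ h₄
  have hz : clSub P (kernel a) = 0 := clSub_of_isZero P (isZero_kernel_of_mono a)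
  dsimp only at r₁ r₂
  rw [r₁, r₂, r₃, hz]
  abel

end FourTerm

section FullyFaithful

variable {A : Type u} [Category.{v} A] [Abelian A] {B : Type u'} [Category.{v'} B] [Abelian B]

/-- an exact fully faithful functor induces a bijection on `K₀` from a class `P'` onto its essential image `Q` -/
theorem bijective_mapSub_of_fullyFaithful (Φ : B ⥤ A) [Φ.Additive] [PreservesFiniteLimits Φ]
    [PreservesFiniteColimits Φ] [Φ.Full] [Φ.Faithful]
    (P' : ObjectProperty B) [P'.IsClosedUnderIsomorphisms] [P'.ContainsZero]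
    (Q : ObjectProperty A) [Q.IsClosedUnderIsomorphisms] [Q.ContainsZero]
    (h : ∀ X, P' X → Q (Φ.obj X))
    (hess : ∀ F, Q F → ∃ G, P' G ∧ Nonempty (Φ.obj G ≅ F)) :
    Function.Bijective (SGA6.mapSub Φ P' Q h) := by
  classical
  choose G hG eG using hess
  let e : ∀ F : Subtype Q, Φ.obj (G F.1 F.2) ≅ F.1 := fun F => (eG F.1 F.2).some
  let χ₀ : Subtype Q → K0sub P' := fun F => clSub P' (G F.1 F.2)
  have hχ₀ : ∀ (S : ShortComplex A) (h₁ : Q S.X₁) (h₂ : Q S.X₂) (h₃ : Q S.X₃), S.ShortExact →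
      χ₀ ⟨S.X₂, h₂⟩ = χ₀ ⟨S.X₁, h₁⟩ + χ₀ ⟨S.X₃, h₃⟩ := by
    intro S h₁ h₂ h₃ hS
    let e₁ := e ⟨S.X₁, h₁⟩
    let e₂ := e ⟨S.X₂, h₂⟩
    let e₃ := e ⟨S.X₃, h₃⟩
    let f' : G S.X₁ h₁ ⟶ G S.X₂ h₂ := Φ.preimage (e₁.hom ≫ S.f ≫ e₂.inv)
    let g' : G S.X₂ h₂ ⟶ G S.X₃ h₃ := Φ.preimage (e₂.hom ≫ S.g ≫ e₃.inv)
    have hf' : Φ.map f' = e₁.hom ≫ S.f ≫ e₂.inv := Φ.map_preimage _
    have hg' : Φ.map g' = e₂.hom ≫ S.g ≫ e₃.inv := Φ.map_preimage _
    have w : f' ≫ g' = 0 := by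
      apply Φ.map_injective
      rw [Φ.map_comp, hf', hg', Functor.map_zero]
      simp
    let S' : ShortComplex B := ShortComplex.mk f' g' w
    let iso : S'.map Φ ≅ S := ShortComplex.isoMk e₁ e₂ e₃ (by
      change e₁.hom ≫ S.f = Φ.map f' ≫ e₂.hom
      rw [hf']; simp) (by
      change e₂.hom ≫ S.g = Φ.map g' ≫ e₃.hom
      rw [hg']; simp)
    have hS'Φ : (S'.map Φ).ShortExact := ShortComplex.shortExact_of_iso iso.symm hS
    have hS' : S'.ShortExact :=
      { exact := (ShortComplex.exact_map_iff_of_faithful S' Φ).1 hS'Φ.exact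
        mono_f := by
          haveI := hS'Φ.mono_f
          exact Φ.mono_of_mono_map (f := f') (by assumption)
        epi_g := by
          haveI := hS'Φ.epi_g
          exact Φ.epi_of_epi_map (f := g') (by assumption) }
    exact clSub_shortExact P' S' hS' (hG _ h₁) (hG _ h₂) (hG _ h₃)
  let χ : K0sub Q →+ K0sub P' := lift Q χ₀ hχ₀
  apply bijective_of_comp_eq_id (SGA6.mapSub Φ P' Q h) χ
  · apply K0sub_hom_ext
    intro X hX
    rw [AddMonoidHom.comp_apply, AddMonoidHom.id_apply, mapSub_clSub Φ P' Q h hX,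
      lift_clSub Q χ₀ hχ₀ (h X hX)]
    change clSub P' (G (Φ.obj X) (h X hX)) = clSub P' X
    exact clSub_of_iso P' (Φ.preimageIso (e ⟨Φ.obj X, h X hX⟩)) (hG _ _)
  · apply K0sub_hom_ext
    intro F hF
    rw [AddMonoidHom.comp_apply, AddMonoidHom.id_apply, lift_clSub Q χ₀ hχ₀ hF]
    change SGA6.mapSub Φ P' Q h (clSub P' (G F hF)) = clSub Q F
    rw [mapSub_clSub Φ P' Q h (hG F hF)]
    exact clSub_of_iso Q (e ⟨F, hF⟩) (h _ (hG F hF))

end FullyFaithful

section Step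

variable {A : Type u} [Category.{v} A] [Abelian A]

/-- `R` kills zero morphisms, `R` being a subfunctor of the identity -/
theorem map_zero_of_sub (R : A ⥤ A) (ι : R ⟶ 𝟭 A) [∀ F, Mono (ι.app F)] (F G : A) :
    R.map (0 : F ⟶ G) = 0 := by
  rw [← cancel_mono (ι.app G), zero_comp]
  have := ι.naturality (0 : F ⟶ G)
  rw [this]
  simp

variable (P Q : ObjectProperty A) [P.IsClosedUnderIsomorphisms] [P.ContainsZero] [P.IsClosedUnderKernels]
  (R : A ⥤ A) (ι : R ⟶ 𝟭 A) [∀ F, Mono (ι.app F)]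

/-- the key additivity: for a short exact sequence `0 → F' → F → F'' → 0` of objects of `Q`,
`[R F] + [F / R F] = [R F'] + [F' / R F'] + [R F''] + [F'' / R F'']` in `K₀(P)` -/
theorem step_additive
    (hR : ∀ F, Q F → P (R.obj F)) (hC : ∀ F, Q F → P (cokernel (ι.app F)))
    (hepi : ∀ {F G : A} (g : F ⟶ G), Q F → Q G → Epi g → Epi (R.map g))
    (S : ShortComplex A) (h₁ : Q S.X₁) (h₂ : Q S.X₂) (h₃ : Q S.X₃) (hS : S.ShortExact) :
    clSub P (R.obj S.X₂) + clSub P (cokernel (ι.app S.X₂)) =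
      (clSub P (R.obj S.X₁) + clSub P (cokernel (ι.app S.X₁))) +
        (clSub P (R.obj S.X₃) + clSub P (cokernel (ι.app S.X₃))) := by
  haveI := hS.mono_f
  haveI := hS.epi_g
  -- notation
  let f := S.f
  let g := S.g
  let ι₁ := ι.app S.X₁
  let ι₂ := ι.app S.X₂
  let ι₃ := ι.app S.X₃
  let π₁ := cokernel.π ι₁
  let π₂ := cokernel.π ι₂
  let π₃ := cokernel.π ι₃
  let Rf := R.map f
  let Rg := R.map g
  have n1 : Rf ≫ ι₂ = ι₁ ≫ f := ι.naturality f
  have n2 : Rg ≫ ι₃ = ι₂ ≫ g := ι.naturality g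
  let Cf : cokernel ι₁ ⟶ cokernel ι₂ := cokernel.map ι₁ ι₂ Rf f n1.symm
  let Cg : cokernel ι₂ ⟶ cokernel ι₃ := cokernel.map ι₂ ι₃ Rg g n2.symm
  have c1 : π₁ ≫ Cf = f ≫ π₂ := cokernel.π_desc _ _ _
  have c2 : π₂ ≫ Cg = g ≫ π₃ := cokernel.π_desc _ _ _
  have hRfg : Rf ≫ Rg = 0 := by
    change R.map f ≫ R.map g = 0
    rw [← R.map_comp]
    have : f ≫ g = 0 := S.zero
    rw [this]
    exact map_zero_of_sub R ι _ _
  have hCfg : Cf ≫ Cg = 0 := by
    rw [← cancel_epi π₁, ← Category.assoc, c1, Category.assoc, c2, ← Category.assoc]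
    have : f ≫ g = 0 := S.zero
    rw [this, zero_comp, comp_zero]
  haveI hRgepi : Epi Rg := hepi g h₂ h₃ inferInstance
  haveI hCgepi : Epi Cg := by
    have : Epi (π₂ ≫ Cg) := by rw [c2]; infer_instance
    exact epi_of_epi π₂ Cg
  -- the objects of `P`
  have pR₁ := hR _ h₁
  have pR₂ := hR _ h₂
  have pR₃ := hR _ h₃
  have pC₁ := hC _ h₁
  have pC₂ := hC _ h₂
  have pC₃ := hC _ h₃
  have pK₁ : P (kernel Rg) := P.prop_kernel Rg pR₂ pR₃
  have pK₂ : P (kernel Cg) := P.prop_kernel Cg pC₂ pC₃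
  -- the two short exact sequences
  have r₁ : clSub P (R.obj S.X₂) = clSub P (kernel Rg) + clSub P (R.obj S.X₃) := clSub_of_epi P Rg pR₂ pR₃
  have r₂ : clSub P (cokernel ι₂) = clSub P (kernel Cg) + clSub P (cokernel ι₃) := clSub_of_epi P Cg pC₂ pC₃
  -- the four-term exact sequence `0 → R F' → K₁ → F'/R F' → K₂ → 0`
  let u : R.obj S.X₁ ⟶ kernel Rg := kernel.lift Rg Rf hRfg
  have u1 : u ≫ kernel.ι Rg = Rf := kernel.lift_ι _ _ _
  let v : cokernel ι₁ ⟶ kernel Cg := kernel.lift Cg Cf hCfg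
  have v1 : v ≫ kernel.ι Cg = Cf := kernel.lift_ι _ _ _
  have hk0 : (kernel.ι Rg ≫ ι₂) ≫ S.g = 0 := by
    change (kernel.ι Rg ≫ ι₂) ≫ g = 0
    rw [Category.assoc, ← n2, ← Category.assoc, kernel.condition, zero_comp]
  let k : kernel Rg ⟶ S.X₁ := hS.exact.lift (kernel.ι Rg ≫ ι₂) hk0
  have k1 : k ≫ f = kernel.ι Rg ≫ ι₂ := hS.exact.lift_f _ _
  haveI hkmono : Mono k := by
    haveI : Mono (k ≫ f) := by rw [k1]; infer_instance
    exact mono_of_mono k f
  have uk : u ≫ k = ι₁ := by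
    rw [← cancel_mono f, Category.assoc, k1, ← Category.assoc, u1, n1]
  let w : kernel Rg ⟶ cokernel ι₁ := k ≫ π₁
  haveI humono : Mono u := by
    haveI : Mono (u ≫ k) := by rw [uk]; infer_instance
    exact mono_of_mono u k
  have huw : u ≫ w = 0 := by
    change u ≫ k ≫ π₁ = 0
    rw [← Category.assoc, uk]
    exact cokernel.condition _
  have hwv : w ≫ v = 0 := by
    rw [← cancel_mono (kernel.ι Cg), Category.assoc, v1, zero_comp]
    change (k ≫ π₁) ≫ Cf = 0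
    rw [Category.assoc, c1, ← Category.assoc, k1, Category.assoc]
    have : ι₂ ≫ π₂ = 0 := cokernel.condition _
    rw [this, comp_zero]
  have ex₁ : ∀ (X : A), (ShortComplex.mk (ι.app X) (cokernel.π (ι.app X)) (cokernel.condition _)).Exact :=
    fun X => ShortComplex.exact_cokernel _
  -- exactness at `K₁`
  have eK₁ : (ShortComplex.mk u w huw).Exact := by
    rw [ShortComplex.exact_iff_exact_up_to_refinements]
    intro T x hx
    have hx' : (x ≫ k) ≫ π₁ = 0 := by rw [Category.assoc]; exact hx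
    obtain ⟨T', p, hp, z, hz⟩ := (ex₁ S.X₁).exact_up_to_refinements (x ≫ k) hx'
    refine ⟨T', p, hp, z, ?_⟩
    change p ≫ x = z ≫ u
    rw [← cancel_mono k, Category.assoc, Category.assoc, uk]
    exact hz
  -- exactness at `F'/R F'`
  have eC₁ : (ShortComplex.mk w v hwv).Exact := by
    rw [ShortComplex.exact_iff_exact_up_to_refinements]
    intro T y hy
    have hy' : y ≫ Cf = 0 := by
      have : y ≫ v = 0 := hy
      rw [← v1, ← Category.assoc, this, zero_comp]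
    obtain ⟨T₁, p₁, hp₁, t, ht⟩ := surjective_up_to_refinements_of_epi π₁ y
    have h2 : (t ≫ f) ≫ π₂ = 0 := by
      rw [Category.assoc, ← c1, ← Category.assoc, ← ht, Category.assoc, hy', comp_zero]
    obtain ⟨T₂, p₂, hp₂, z, hz⟩ := (ex₁ S.X₂).exact_up_to_refinements (t ≫ f) h2
    have hzRg : z ≫ Rg = 0 := by
      rw [← cancel_mono ι₃, Category.assoc, n2, zero_comp, ← Category.assoc]
      have hz' : z ≫ ι₂ = p₂ ≫ t ≫ f := hz.symm
      rw [hz', Category.assoc, Category.assoc]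
      have : f ≫ g = 0 := S.zero
      rw [this, comp_zero, comp_zero]
    let x : T₂ ⟶ kernel Rg := kernel.lift Rg z hzRg
    have hx : x ≫ kernel.ι Rg = z := kernel.lift_ι _ _ _
    have hxk : x ≫ k = p₂ ≫ t := by
      rw [← cancel_mono f, Category.assoc, k1, ← Category.assoc, hx, Category.assoc]
      exact hz.symm
    refine ⟨T₂, p₂ ≫ p₁, epi_comp _ _, x, ?_⟩
    change (p₂ ≫ p₁) ≫ y = x ≫ k ≫ π₁
    rw [← Category.assoc x, hxk, Category.assoc, Category.assoc, ht]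
  -- `v` is an epimorphism
  haveI hvepi : Epi v := by
    rw [epi_iff_surjective_up_to_refinements]
    intro T y
    have hy' : (y ≫ kernel.ι Cg) ≫ Cg = 0 := by rw [Category.assoc, kernel.condition, comp_zero]
    obtain ⟨T₁, p₁, hp₁, m, hm⟩ := surjective_up_to_refinements_of_epi π₂ (y ≫ kernel.ι Cg)
    have h2 : (m ≫ g) ≫ π₃ = 0 := by
      rw [Category.assoc, ← c2, ← Category.assoc, ← hm, Category.assoc, hy', comp_zero]
    obtain ⟨T₂, p₂, hp₂, n, hn⟩ := (ex₁ S.X₃).exact_up_to_refinements (m ≫ g) h2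
    obtain ⟨T₃, p₃, hp₃, z, hz⟩ := surjective_up_to_refinements_of_epi Rg n
    let d : T₃ ⟶ S.X₂ := p₃ ≫ p₂ ≫ m - z ≫ ι₂
    have hd : d ≫ S.g = 0 := by
      change (p₃ ≫ p₂ ≫ m - z ≫ ι₂) ≫ g = 0
      rw [Preadditive.sub_comp, Category.assoc, Category.assoc, Category.assoc, ← n2, ← Category.assoc z,
        ← hz, sub_eq_zero, Category.assoc]
      have hn' : p₂ ≫ m ≫ g = n ≫ ι₃ := hn
      rw [hn']
    let t : T₃ ⟶ S.X₁ := hS.exact.lift d hd
    have ht : t ≫ f = d := hS.exact.lift_f _ _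
    refine ⟨T₃, p₃ ≫ p₂ ≫ p₁, epi_comp _ _, t ≫ π₁, ?_⟩
    rw [← cancel_mono (kernel.ι Cg)]
    have lhs : ((p₃ ≫ p₂ ≫ p₁) ≫ y) ≫ kernel.ι Cg = p₃ ≫ p₂ ≫ m ≫ π₂ := by
      simp only [Category.assoc]
      rw [hm]
    have rhs : ((t ≫ π₁) ≫ v) ≫ kernel.ι Cg = p₃ ≫ p₂ ≫ m ≫ π₂ := by
      rw [Category.assoc, v1, Category.assoc, c1, ← Category.assoc, ht]
      change (p₃ ≫ p₂ ≫ m - z ≫ ι₂) ≫ π₂ = _
      rw [Preadditive.sub_comp, Category.assoc z, (cokernel.condition _ : ι₂ ≫ π₂ = 0), comp_zero, sub_zero]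
      simp only [Category.assoc]
    rw [lhs, rhs]
  have r₃ := clSub_four_term P u w v huw hwv eK₁ eC₁ pR₁ pK₁ pC₁ pK₂
  change clSub P (R.obj S.X₂) + clSub P (cokernel ι₂) =
    (clSub P (R.obj S.X₁) + clSub P (cokernel ι₁)) + (clSub P (R.obj S.X₃) + clSub P (cokernel ι₃))
  rw [r₁, r₂]
  have e : clSub P (kernel Rg) + clSub P (kernel Cg) = clSub P (R.obj S.X₁) + clSub P (cokernel ι₁) := r₃.symm
  calc clSub P (kernel Rg) + clSub P (R.obj S.X₃) + (clSub P (kernel Cg) + clSub P (cokernel ι₃))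
      = (clSub P (kernel Rg) + clSub P (kernel Cg)) + (clSub P (R.obj S.X₃) + clSub P (cokernel ι₃)) := by abel
    _ = _ := by rw [e]

/-- **dévissage step**: `K₀(P) → K₀(Q)` is bijective -/
theorem bijective_mapSub_id_of_step (hPQ : ∀ X, P X → Q ((𝟭 A).obj X))
    (hR : ∀ F, Q F → P (R.obj F)) (hC : ∀ F, Q F → P (cokernel (ι.app F)))
    (hepi : ∀ {F G : A} (g : F ⟶ G), Q F → Q G → Epi g → Epi (R.map g)) :
    Function.Bijective (SGA6.mapSub (𝟭 A) P Q hPQ) := by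
  let ψ₀ : Subtype Q → K0sub P := fun F => clSub P (R.obj F.1) + clSub P (cokernel (ι.app F.1))
  have hψ₀ : ∀ (S : ShortComplex A) (h₁ : Q S.X₁) (h₂ : Q S.X₂) (h₃ : Q S.X₃), S.ShortExact →
      ψ₀ ⟨S.X₂, h₂⟩ = ψ₀ ⟨S.X₁, h₁⟩ + ψ₀ ⟨S.X₃, h₃⟩ :=
    fun S h₁ h₂ h₃ hS => step_additive P Q R ι hR hC hepi S h₁ h₂ h₃ hS
  let ψ : K0sub Q →+ K0sub P := lift Q ψ₀ hψ₀
  have hses : ∀ F : A, (ShortComplex.mk (ι.app F) (cokernel.π (ι.app F)) (cokernel.condition _)).ShortExact :=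
    fun F =>
      { exact := ShortComplex.exact_cokernel _
        mono_f := inferInstanceAs (Mono (ι.app F))
        epi_g := inferInstanceAs (Epi (cokernel.π (ι.app F))) }
  apply bijective_of_comp_eq_id (SGA6.mapSub (𝟭 A) P Q hPQ) ψ
  · apply K0sub_hom_ext
    intro X hX
    have hXQ : Q X := hPQ X hX
    rw [AddMonoidHom.comp_apply, AddMonoidHom.id_apply, mapSub_clSub (𝟭 A) P Q hPQ hX]
    change lift Q ψ₀ hψ₀ (clSub Q X) = clSub P X
    rw [lift_clSub Q ψ₀ hψ₀ hXQ]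
    exact (clSub_shortExact P _ (hses X) (hR X hXQ) hX (hC X hXQ)).symm
  · apply K0sub_hom_ext
    intro F hF
    rw [AddMonoidHom.comp_apply, AddMonoidHom.id_apply, lift_clSub Q ψ₀ hψ₀ hF]
    change SGA6.mapSub (𝟭 A) P Q hPQ (clSub P (R.obj F) + clSub P (cokernel (ι.app F))) = clSub Q F
    rw [map_add, mapSub_clSub (𝟭 A) P Q hPQ (hR F hF), mapSub_clSub (𝟭 A) P Q hPQ (hC F hF)]
    exact (clSub_shortExact Q _ (hses F) (hPQ _ (hR F hF)) hF (hPQ _ (hC F hF))).symm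

end Step

end Groth.Agent.R2.H54.K0Dev
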