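import Mathlib
import Groth.Prelude.Def_ClSub2
import Groth.Agent.R2.H54K0Dev
import Groth.Agent.R2.H54Deligne
import Groth.Agent.R2.H5CohThick
import Groth.Agent.R2.H54ClosedImm
import Groth.Agent.Lib.Helper18OmLS10
import Groth.Agent.S0786

/-!
# `K₀` of coherent modules and nilpotent ideals (helper54)

`Qk I k` : the class of coherent modules killed by `I ^ k`.

* `bijective_step` : `K₀(Qk I k) → K₀(Qk I (k+1))` is bijective (`k ≥ 1`): the dévissage step `H54K0Dev` for
  `R = Dual3.idealMul I`.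
* `bijective_chain` : `K₀(Qk I 1) → K₀(Qk I n)` is bijective (`n ≥ 1`).
* `bijective_push` : for a closed immersion `i` into a locally Noetherian scheme, `i_*` induces a bijection
  `K₀(Coh X') → K₀(Qk i.ker 1)` (helper13's `S0786` identifies the essential image).
* `exists_pow_eq_bot` : on a Noetherian scheme an ideal sheaf with full support is nilpotent.
* `bijective_mapSub_push` (= frozen `S16236`) : `K₀(Coh X') → K₀(Coh X)` is bijective for a surjective closed
  immersion into a Noetherian scheme.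
-/

set_option autoImplicit false
set_option linter.style.haveILetI false
set_option linter.unusedSectionVars false
universe u

open CategoryTheory CategoryTheory.Limits AlgebraicGeometry TopologicalSpace Opposite ZeroObject

namespace Groth.Agent.R2.H54.K0Nil

open KZero Groth.Agent.R2.H54.K0Dev Groth.Agent.R2.H12.IdealMul Groth.Agent.R2.H5.CohThick
  Groth.Agent.Lib.Helper23.QCohLocal Groth.Agent.Lib.Helper23.FinType Groth.Agent.Lib.Helper17.K0Serre

section Killed

variable {X : Scheme.{u}}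

/-- `ClSub.KilledByIdeal` in terms of `Γ(F, U)` -/
theorem killed_iff (J : X.IdealSheafData) (F : X.Modules) :
    ClSub.KilledByIdeal J F ↔
      ∀ (U : X.affineOpens) (a : Γ(X, U.1)), a ∈ J.ideal U → ∀ m : Γ(F, U.1), a • m = 0 :=
  ⟨fun h U a ha m => h U a ha m, fun h U a ha m => h U a ha m⟩

theorem killed_of_mono (J : X.IdealSheafData) {K F : X.Modules} (j : K ⟶ F) [Mono j]
    (hF : ClSub.KilledByIdeal J F) : ClSub.KilledByIdeal J K := by
  rw [killed_iff] at hF ⊢
  intro U a ha m
  apply Groth.Agent.Lib.Helper20.StalkExact.injective_app_of_mono j U.1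
  rw [Scheme.Modules.Hom.app_smul, map_zero]
  exact hF U a ha _

theorem killed_of_epi (J : X.IdealSheafData) {F G : X.Modules} [F.IsQuasicoherent] [G.IsQuasicoherent]
    (p : F ⟶ G) [Epi p] (hF : ClSub.KilledByIdeal J F) : ClSub.KilledByIdeal J G := by
  rw [killed_iff] at hF ⊢
  intro U a ha m
  obtain ⟨m', rfl⟩ := surjective_app_of_epi p U.2 m
  rw [← Scheme.Modules.Hom.app_smul, hF U a ha m', map_zero]

theorem killed_of_iso (J : X.IdealSheafData) {F G : X.Modules} (e : F ≅ G)
    (hF : ClSub.KilledByIdeal J F) : ClSub.KilledByIdeal J G :=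
  killed_of_mono J e.inv hF

theorem killed_of_isZero (J : X.IdealSheafData) {F : X.Modules} (hF : IsZero F) :
    ClSub.KilledByIdeal J F := by
  rw [killed_iff]
  intro U a _ m
  have h : ∀ t : Γ(F, U.1), t = 0 := by
    intro t
    have h1 : (𝟙 F : F ⟶ F) = 0 := hF.eq_of_src _ _
    have h2 : (𝟙 F : F ⟶ F).app U.1 t = (0 : F ⟶ F).app U.1 t := by rw [h1]
    exact h2
  rw [h m, smul_zero]

theorem killed_of_le {J J' : X.IdealSheafData} (h : J' ≤ J) {F : X.Modules}
    (hF : ClSub.KilledByIdeal J F) : ClSub.KilledByIdeal J' F :=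
  fun U a ha m => hF U a (h U ha) m

theorem pow_le_pow (I : X.IdealSheafData) {k l : ℕ} (h : k ≤ l) : I ^ l ≤ I ^ k := by
  intro U
  change I.ideal U ^ l ≤ I.ideal U ^ k
  exact Ideal.pow_le_pow_right h

/-- `I F` is killed by `I ^ k` if `F` is killed by `I ^ (k + 1)` -/
theorem killed_idealMul (I : X.IdealSheafData) (k : ℕ) (F : X.Modules) [F.IsQuasicoherent]
    (hF : ClSub.KilledByIdeal (I ^ (k + 1)) F) :
    ClSub.KilledByIdeal (I ^ k) ((Dual3.idealMul I).obj F) := by
  rw [killed_iff] at hF ⊢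
  intro U a ha t
  apply idealMulι_app_injective I F U.1
  rw [Scheme.Modules.Hom.app_smul, map_zero]
  have h1 : (Dual3.idealMulι I F).app U.1 t ∈ (I.ideal U • ⊤ : Submodule Γ(X, U.1) Γ(F, U.1)) :=
    (mem_range_idealMulι_app_iff I F U _).1 ⟨t, rfl⟩
  refine Submodule.smul_induction_on h1 (fun b hb m _ => ?_) (fun x y hx hy => ?_)
  · rw [← mul_smul]
    refine hF U (a * b) ?_ m
    change a * b ∈ I.ideal U ^ (k + 1)
    rw [pow_succ]
    exact Ideal.mul_mem_mul ha hb
  · rw [smul_add, hx, hy, add_zero]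

/-- `F / I F` is killed by `I` -/
theorem killed_cokernel_idealMulι (I : X.IdealSheafData) (F : X.Modules) [F.IsQuasicoherent] :
    ClSub.KilledByIdeal I (cokernel (Dual3.idealMulι I F)) := by
  haveI : ((Dual3.idealMul I).obj F).IsQuasicoherent := isQuasicoherent_idealMul I F
  haveI : (cokernel (Dual3.idealMulι I F)).IsQuasicoherent := isQuasicoherent_cokernel _
  rw [killed_iff]
  intro U a ha c
  obtain ⟨m, rfl⟩ := surjective_app_of_epi (cokernel.π (Dual3.idealMulι I F)) U.2 c
  rw [← Scheme.Modules.Hom.app_smul]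
  have h1 : a • m ∈ (I.ideal U • ⊤ : Submodule Γ(X, U.1) Γ(F, U.1)) :=
    Submodule.smul_mem_smul ha Submodule.mem_top
  obtain ⟨t, ht⟩ := (mem_range_idealMulι_app_iff I F U _).2 h1
  rw [← ht]
  have h2 : (Dual3.idealMulι I F ≫ cokernel.π (Dual3.idealMulι I F)).app U.1 t = 0 := by
    rw [cokernel.condition]; rfl
  exact h2

/-- `I · -` preserves epimorphisms of quasi-coherent modules -/
theorem epi_idealMul_map (I : X.IdealSheafData) {F G : X.Modules} [F.IsQuasicoherent] [G.IsQuasicoherent]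
    (g : F ⟶ G) [Epi g] : Epi ((Dual3.idealMul I).map g) := by
  haveI : ((Dual3.idealMul I).obj F).IsQuasicoherent := isQuasicoherent_idealMul I F
  haveI : ((Dual3.idealMul I).obj G).IsQuasicoherent := isQuasicoherent_idealMul I G
  refine Groth.Agent.Helper18OmLS.epi_of_surjective_app_cover ((Dual3.idealMul I).map g)
    (fun U : X.affineOpens => U.1) (IsOpenCover.mk (iSup_affineOpens_eq_top X)) (fun U => U.2) (fun U t => ?_)
  have h1 : (Dual3.idealMulι I G).app U.1 t ∈ (I.ideal U • ⊤ : Submodule Γ(X, U.1) Γ(G, U.1)) :=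
    (mem_range_idealMulι_app_iff I G U _).1 ⟨t, rfl⟩
  -- every element of `I(U) G(U)` is the image of an element of `I(U) F(U)`
  have h2 : ∀ x ∈ (I.ideal U • ⊤ : Submodule Γ(X, U.1) Γ(G, U.1)),
      ∃ y ∈ (I.ideal U • ⊤ : Submodule Γ(X, U.1) Γ(F, U.1)), g.app U.1 y = x := by
    intro x hx
    refine Submodule.smul_induction_on hx (fun b hb n _ => ?_) (fun x y hx hy => ?_)
    · obtain ⟨m, rfl⟩ := surjective_app_of_epi g U.2 n
      exact ⟨b • m, Submodule.smul_mem_smul hb Submodule.mem_top, Scheme.Modules.Hom.app_smul g b m⟩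
    · obtain ⟨x', hx', rfl⟩ := hx
      obtain ⟨y', hy', rfl⟩ := hy
      exact ⟨x' + y', Submodule.add_mem _ hx' hy', map_add _ _ _⟩
  obtain ⟨y, hy, hyx⟩ := h2 _ h1
  obtain ⟨s, hs⟩ := (mem_range_idealMulι_app_iff I F U _).2 hy
  refine ⟨s, ?_⟩
  apply idealMulι_app_injective I G U.1
  have h3 : ((Dual3.idealMul I).map g ≫ Dual3.idealMulι I G).app U.1 s =
      (Dual3.idealMulι I F ≫ g).app U.1 s := by rw [Dual3.idealMul_map_ι]
  rw [Scheme.Modules.Hom.comp_app, Scheme.Modules.Hom.comp_app] at h3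
  change (Dual3.idealMulι I G).app U.1 (((Dual3.idealMul I).map g).app U.1 s) = _
  have h4 : (Dual3.idealMulι I G).app U.1 (((Dual3.idealMul I).map g).app U.1 s) =
      g.app U.1 ((Dual3.idealMulι I F).app U.1 s) := h3
  rw [h4, hs, hyx]

/-- the inclusion `I F ⟶ F` as a natural transformation -/
noncomputable def idealMulNat (I : X.IdealSheafData) : Dual3.idealMul I ⟶ 𝟭 X.Modules where
  app F := Dual3.idealMulι I F
  naturality _ _ φ := Dual3.idealMul_map_ι I φ

instance (I : X.IdealSheafData) (F : X.Modules) : Mono ((idealMulNat I).app F) :=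
  inferInstanceAs (Mono (Dual3.idealMulι I F))

end Killed

section Classes

variable {X : Scheme.{u}}

/-- coherent modules killed by `I ^ k` -/
def Qk (I : X.IdealSheafData) (k : ℕ) : ObjectProperty X.Modules :=
  fun F => Coh.IsCoh F ∧ ClSub.KilledByIdeal (I ^ k) F

instance (I : X.IdealSheafData) (k : ℕ) : (Qk I k).IsClosedUnderIsomorphisms where
  of_iso := by
    rintro M N e ⟨hc, hk⟩
    exact ⟨(cohP X).prop_of_iso e hc, killed_of_iso _ e hk⟩

instance (I : X.IdealSheafData) (k : ℕ) : (Qk I k).ContainsZero where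
  exists_zero := ⟨0, isZero_zero _, isCoh_of_isZero X (isZero_zero _), killed_of_isZero _ (isZero_zero _)⟩

instance [IsLocallyNoetherian X] (I : X.IdealSheafData) (k : ℕ) : (Qk I k).IsClosedUnderKernels where
  kernels_le := by
    rintro _ ⟨f, c, hc, ⟨⟨h1, k1⟩, ⟨h2, _⟩⟩⟩
    have hker : Coh.IsCoh (kernel f) := (cohP X).prop_kernel f h1 h2
    let e : kernel f ≅ c.pt := (limit.isLimit _).conePointUniqueUpToIso hc
    exact (Qk I k).prop_of_iso e ⟨hker, killed_of_mono _ (kernel.ι f) k1⟩

theorem Qk_le_succ (I : X.IdealSheafData) (k : ℕ) (F : X.Modules) (h : Qk I k F) :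
    Qk I (k + 1) ((𝟭 X.Modules).obj F) :=
  ⟨h.1, killed_of_le (pow_le_pow I (Nat.le_succ k)) h.2⟩

/-- **the dévissage step for `I`-adic filtrations** -/
theorem bijective_step [IsLocallyNoetherian X] (I : X.IdealSheafData) (k : ℕ) (hk : 1 ≤ k) :
    Function.Bijective (SGA6.mapSub (𝟭 X.Modules) (Qk I k) (Qk I (k + 1)) (Qk_le_succ I k)) := by
  refine bijective_mapSub_id_of_step (Qk I k) (Qk I (k + 1)) (Dual3.idealMul I) (idealMulNat I)
    (Qk_le_succ I k) (fun F hF => ?_) (fun F hF => ?_) (fun {F G} g hF hG hg => ?_)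
  · haveI : F.IsQuasicoherent := hF.1.1
    exact ⟨isCoh_idealMul I F hF.1, killed_idealMul I k F hF.2⟩
  · haveI : F.IsQuasicoherent := hF.1.1
    have hc : Coh.IsCoh (cokernel (Dual3.idealMulι I F)) :=
      (cohP X).prop_cokernel (Dual3.idealMulι I F) (isCoh_idealMul I F hF.1) hF.1
    refine ⟨hc, killed_of_le ?_ (killed_cokernel_idealMulι I F)⟩
    have h1 : I ^ k ≤ I ^ 1 := pow_le_pow I hk
    rwa [pow_one] at h1
  · haveI : F.IsQuasicoherent := hF.1.1
    haveI : G.IsQuasicoherent := hG.1.1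
    haveI := hg
    exact epi_idealMul_map I g

theorem Qk_le_of_le (I : X.IdealSheafData) {k l : ℕ} (h : k ≤ l) (F : X.Modules) (hF : Qk I k F) :
    Qk I l ((𝟭 X.Modules).obj F) :=
  ⟨hF.1, killed_of_le (pow_le_pow I h) hF.2⟩

/-- `K₀(Qk I 1) → K₀(Qk I n)` is bijective -/
theorem bijective_chain [IsLocallyNoetherian X] (I : X.IdealSheafData) (n : ℕ) (hn : 1 ≤ n) :
    Function.Bijective (SGA6.mapSub (𝟭 X.Modules) (Qk I 1) (Qk I n) (Qk_le_of_le I hn)) := by
  induction n, hn using Nat.le_induction with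
  | base =>
    have hid : SGA6.mapSub (𝟭 X.Modules) (Qk I 1) (Qk I 1) (Qk_le_of_le I le_rfl) = AddMonoidHom.id _ := by
      apply K0sub_hom_ext
      intro F hF
      rw [mapSub_clSub _ _ _ _ hF]
      rfl
    rw [hid]
    exact Function.bijective_id
  | succ k hk ih =>
    have hcomp : SGA6.mapSub (𝟭 X.Modules) (Qk I 1) (Qk I (k + 1)) (Qk_le_of_le I (Nat.le_succ_of_le hk)) =
        (SGA6.mapSub (𝟭 X.Modules) (Qk I k) (Qk I (k + 1)) (Qk_le_succ I k)).comp
          (SGA6.mapSub (𝟭 X.Modules) (Qk I 1) (Qk I k) (Qk_le_of_le I hk)) := by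
      apply K0sub_hom_ext
      intro F hF
      rw [AddMonoidHom.comp_apply, mapSub_clSub _ _ _ _ hF, mapSub_clSub _ _ _ _ hF,
        mapSub_clSub _ _ _ _ (Qk_le_of_le I hk F hF)]
      rfl
    rw [hcomp]
    exact (bijective_step I k hk).comp ih

end Classes

section Push

variable {X X' : Scheme.{u}} (i : X' ⟶ X)

/-- `i_* G` is killed by the kernel of `i` -/
theorem killed_push [QuasiCompact i] (G : X'.Modules) :
    ClSub.KilledByIdeal i.ker ((Scheme.Modules.pushforward i).obj G) := by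
  rw [killed_iff]
  intro U a ha m
  rw [Scheme.Hom.ker_apply, RingHom.mem_ker] at ha
  have h1 := Groth.Agent.Lib.Helper2.Push.pushforward_smul i G U.1 a m
  rw [h1, ha, zero_smul]
  rfl

/-- `i_*` induces a bijection from `K₀(Coh X')` onto `K₀` of the coherent modules killed by `ker i` -/
theorem bijective_push [IsClosedImmersion i] [IsLocallyNoetherian X]
    [(Scheme.Modules.pushforward i).Additive] [PreservesFiniteLimits (Scheme.Modules.pushforward i)]
    [PreservesFiniteColimits (Scheme.Modules.pushforward i)]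
    (h : ∀ M : X'.Modules, cohP X' M → Qk i.ker 1 ((Scheme.Modules.pushforward i).obj M)) :
    Function.Bijective (SGA6.mapSub (Scheme.Modules.pushforward i) (cohP X') (Qk i.ker 1) h) := by
  haveI : (Scheme.Modules.pushforward i).Full := Groth.Agent.R2.H54.ClosedImm.full_push i
  haveI : (Scheme.Modules.pushforward i).Faithful := Groth.Agent.R2.H54.ClosedImm.faithful_push i
  refine bijective_mapSub_of_fullyFaithful (Scheme.Modules.pushforward i) (cohP X') (Qk i.ker 1) h
    (fun F hF => ?_)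
  have hk : ClSub.KilledByIdeal i.ker F := by
    have := hF.2
    rwa [pow_one] at this
  obtain ⟨G, hG, ⟨e⟩⟩ := Groth.Agent.S0786.result i F hF.1 hk
  exact ⟨G, hG, ⟨e⟩⟩

end Push

section Nilpotent

variable {X : Scheme.{u}} [IsNoetherian X]

/-- on a Noetherian scheme, an ideal sheaf whose support is everything is nilpotent -/
theorem exists_pow_eq_bot (I : X.IdealSheafData) (hI : I.support = ⊤) : ∃ n : ℕ, 1 ≤ n ∧ I ^ n = ⊥ := by
  have hle : I ≤ X.nilradical := by
    have h1 : I ≤ I.radical := Scheme.IdealSheafData.le_radical I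
    have h2 : I.radical = X.nilradical := by
      rw [← Scheme.IdealSheafData.vanishingIdeal_support, hI]
      have h3 : (⊤ : Closeds X) = (⊥ : X.IdealSheafData).support := rfl
      rw [h3, Scheme.IdealSheafData.vanishingIdeal_support]
      rfl
    rwa [h2] at h1
  obtain ⟨s, -, hcov, n, hn⟩ := exists_uniform
    (fun (U : X.affineOpens) n => I.ideal U ^ n = ⊥) (by
      intro U
      haveI hR : IsNoetherianRing Γ(X, U.1) := IsLocallyNoetherian.component_noetherian U
      obtain ⟨m, hm⟩ := IsNoetherianRing.isNilpotent_nilradical Γ(X, U.1)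
      refine ⟨m, fun n' hn' => ?_⟩
      have h1 : I.ideal U ≤ nilradical Γ(X, U.1) := hle U
      have h2 : I.ideal U ^ m ≤ nilradical Γ(X, U.1) ^ m := Ideal.pow_right_mono h1 m
      rw [hm] at h2
      have h3 : I.ideal U ^ n' ≤ I.ideal U ^ m := Ideal.pow_le_pow_right hn'
      exact le_bot_iff.1 (h3.trans (le_bot_iff.2 (le_bot_iff.1 h2))))
  refine ⟨n + 1, Nat.le_add_left 1 n, le_bot_iff.1 ?_⟩
  refine Scheme.IdealSheafData.le_of_iSup_eq_top (fun U : s => (U.1 : X.affineOpens)) ?_ (fun U => ?_)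
  · rw [hcov]
    exact (iSup_subtype' (p := fun U => U ∈ s) (f := fun U _ => (U : X.Opens))).symm
  · change I.ideal U.1 ^ (n + 1) ≤ ⊥
    rw [hn (n + 1) (Nat.le_succ n) U.1 U.2]

end Nilpotent

section Main

variable {X X' : Scheme.{u}} [IsNoetherian X] (i : X' ⟶ X) [IsClosedImmersion i] [Surjective i]
  [(Scheme.Modules.pushforward i).Additive] [PreservesFiniteLimits (Scheme.Modules.pushforward i)]
  [PreservesFiniteColimits (Scheme.Modules.pushforward i)]

/-- **`K₀(Coh X') ≅ K₀(Coh X)`** for a surjective closed immersion into a Noetherian scheme (= frozen `S16236`) -/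
theorem bijective_mapSub_push
    (hi : ∀ M : X'.Modules, Coh.IsCoh M → Coh.IsCoh ((Scheme.Modules.pushforward i).obj M)) :
    Function.Bijective (SGA6.mapSub (Scheme.Modules.pushforward i) (fun M : X'.Modules => Coh.IsCoh M)
      (fun M : X.Modules => Coh.IsCoh M) hi) := by
  have hsupp : i.ker.support = ⊤ := by
    apply Closeds.ext
    rw [Scheme.Hom.support_ker]
    have hr : Set.range i = Set.univ := Set.range_eq_univ.2 (Surjective.surj (f := i))
    rw [hr, closure_univ]
    rfl
  obtain ⟨n, hn1, hn⟩ := exists_pow_eq_bot i.ker hsupp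
  -- the three maps
  have h₁ : ∀ M : X'.Modules, cohP X' M → Qk i.ker 1 ((Scheme.Modules.pushforward i).obj M) :=
    fun M hM => ⟨hi M hM, by rw [pow_one]; exact killed_push i M⟩
  have h₃ : ∀ F : X.Modules, Qk i.ker n F → cohP X ((𝟭 X.Modules).obj F) := fun F hF => hF.1
  have b₁ := bijective_push i h₁
  have b₂ := bijective_chain i.ker n hn1
  have b₃ : Function.Bijective (SGA6.mapSub (𝟭 X.Modules) (Qk i.ker n) (cohP X) h₃) := by
    refine bijective_mapSub_of_fullyFaithful (𝟭 X.Modules) (Qk i.ker n) (cohP X) h₃ (fun F hF => ?_)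
    refine ⟨F, ⟨hF, ?_⟩, ⟨Iso.refl _⟩⟩
    rw [killed_iff]
    intro U a ha m
    rw [hn] at ha
    have ha0 : a = 0 := ha
    rw [ha0, zero_smul]
  have hcomp : SGA6.mapSub (Scheme.Modules.pushforward i) (fun M : X'.Modules => Coh.IsCoh M)
      (fun M : X.Modules => Coh.IsCoh M) hi =
      (SGA6.mapSub (𝟭 X.Modules) (Qk i.ker n) (cohP X) h₃).comp
        ((SGA6.mapSub (𝟭 X.Modules) (Qk i.ker 1) (Qk i.ker n) (Qk_le_of_le i.ker hn1)).comp
          (SGA6.mapSub (Scheme.Modules.pushforward i) (cohP X') (Qk i.ker 1) h₁)) := by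
    apply K0sub_hom_ext
    intro M hM
    rw [AddMonoidHom.comp_apply, AddMonoidHom.comp_apply, mapSub_clSub _ _ _ _ hM,
      mapSub_clSub _ (cohP X') _ h₁ hM, mapSub_clSub _ _ _ _ (h₁ M hM),
      mapSub_clSub _ _ _ _ (Qk_le_of_le i.ker hn1 _ (h₁ M hM))]
    rfl
  rw [hcomp]
  exact b₃.comp (b₂.comp b₁)

end Main

end Groth.Agent.R2.H54.K0Nil
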