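import Mathlib
import Groth.Agent.R2.H54K0Nil
import Groth.Agent.R2.H12DevF
import Groth.Agent.S2250
import Groth.Agent.S2252

/-!
# The localization sequence `K₀(Coh X') → K₀(Coh X) → K₀(Coh U) → 0` (helper54)

`X` Noetherian, `U₀ ⊆ X` open.

* `supp U₀` : the subgroup of `K₀(Coh X)` generated by the classes of the coherent modules vanishing on `U₀`.
* `sub_mem_supp_of_restrict_iso` (roof lemma): two coherent modules with isomorphic restrictions to `U₀` have the
  same class modulo `supp U₀`.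
* `surjective_restrict`, `ker_restrict` : `K₀(Coh X) → K₀(Coh U₀)` is surjective with kernel `supp U₀`.
* `supp_eq_range_push` : `supp U₀` is the image of `K₀(Coh X')` for a closed immersion `X' → X` with image `X ∖ U₀`.
* `localization_sequence` (= frozen `S3192`).
-/

set_option autoImplicit false
set_option linter.style.haveILetI false
set_option linter.unusedSectionVars false
universe v v' u u'

open CategoryTheory CategoryTheory.Limits AlgebraicGeometry TopologicalSpace Opposite ZeroObject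

namespace Groth.Agent.R2.H54.K0Loc

open KZero Groth.Agent.R2.H54.K0Dev Groth.Agent.R2.H54.K0Nil Groth.Agent.R2.H12.IdealMul
  Groth.Agent.R2.H5.CohThick Groth.Agent.R2.H12.Dev Groth.Agent.Lib.Helper23.Extend
  Groth.Agent.Lib.Helper23.QCohLocal Groth.Agent.Lib.Helper23.FinType Groth.Agent.Lib.Helper17.K0Serre
  Groth.Agent.Lib.Helper17.K0a

section Generic

variable {A : Type u} [Category.{v} A] [Abelian A] {B : Type u'} [Category.{v'} B] [Abelian B]

/-- a subgroup of `K₀(P)` containing all classes is everything -/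
theorem K0sub_induction (P : ObjectProperty A) (S : AddSubgroup (K0sub P))
    (h : ∀ X : A, P X → clSub P X ∈ S) (x : K0sub P) : x ∈ S := by
  induction x using QuotientAddGroup.induction_on with
  | H z =>
    induction z using FreeAbelianGroup.induction_on with
    | zero => exact S.zero_mem
    | of X =>
      have := h X.1 X.2
      rwa [clSub_of_prop P X.2] at this
    | neg X hX => exact S.neg_mem hX
    | add x y hx hy => exact S.add_mem hx hy

/-- naturally isomorphic exact functors induce the same map on `K₀` -/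
theorem mapSub_congr (Φ Ψ : A ⥤ B) [Φ.Additive] [PreservesFiniteLimits Φ] [PreservesFiniteColimits Φ]
    [Ψ.Additive] [PreservesFiniteLimits Ψ] [PreservesFiniteColimits Ψ] (ν : Φ ≅ Ψ)
    (P : ObjectProperty A) (Q : ObjectProperty B) [Q.IsClosedUnderIsomorphisms] [Q.ContainsZero]
    (h : ∀ X, P X → Q (Φ.obj X)) (h' : ∀ X, P X → Q (Ψ.obj X)) :
    SGA6.mapSub Φ P Q h = SGA6.mapSub Ψ P Q h' := by
  apply K0sub_hom_ext
  intro X hX
  rw [mapSub_clSub Φ P Q h hX, mapSub_clSub Ψ P Q h' hX]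
  exact clSub_of_iso Q (ν.app X) (h X hX)

end Generic

attribute [local instance] restrictFunctor_isRightAdjoint

section Restrict

variable {X Y : Scheme.{u}}

theorem isCoh_restrict (j : Y ⟶ X) [IsOpenImmersion j] (M : X.Modules) (hM : Coh.IsCoh M) :
    Coh.IsCoh ((Scheme.Modules.restrictFunctor j).obj M) := by
  haveI := hM.1
  haveI := hM.2
  exact ⟨Scheme.Modules.isQuasicoherent_restrictFunctor j M, isFiniteType_restrict j M⟩

end Restrict

section Opens

variable {X : Scheme.{u}} [IsNoetherian X] (U₀ : X.Opens)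

/-- the restriction functor to the open subscheme `U₀` -/
noncomputable abbrev ρ : X.Modules ⥤ (U₀ : Scheme.{u}).Modules := Scheme.Modules.restrictFunctor U₀.ι

/-- the subgroup of `K₀(Coh X)` generated by the coherent modules vanishing on `U₀` -/
noncomputable def supp : AddSubgroup (K0sub (cohP X)) :=
  AddSubgroup.closure {x | ∃ F : X.Modules, Coh.IsCoh F ∧ VanOn F U₀ ∧ x = clSub (cohP X) F}

theorem clSub_mem_supp {F : X.Modules} (hF : Coh.IsCoh F) (hv : VanOn F U₀) :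
    clSub (cohP X) F ∈ supp U₀ :=
  AddSubgroup.subset_closure ⟨F, hF, hv, rfl⟩

/-- a morphism of coherent modules which is an isomorphism over `U₀` has source and target of the same class modulo
`supp U₀` -/
theorem sub_mem_supp_of_isoOn {A B : X.Modules} (hA : Coh.IsCoh A) (hB : Coh.IsCoh B) (q : A ⟶ B)
    (hq : IsoOn q U₀) : clSub (cohP X) A - clSub (cohP X) B ∈ supp U₀ := by
  have hK : Coh.IsCoh (kernel q) := isCoh_kernel hA hB q
  have hC : Coh.IsCoh (cokernel q) := isCoh_cokernel hA hB q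
  have h4 := clSub_four_term (cohP X) (kernel.ι q) q (cokernel.π q) (kernel.condition q)
    (cokernel.condition q) (ShortComplex.exact_kernel q) (ShortComplex.exact_cokernel q) hK hA hB hC
  have h5 : clSub (cohP X) A - clSub (cohP X) B =
      clSub (cohP X) (kernel q) - clSub (cohP X) (cokernel q) := by
    rw [sub_eq_sub_iff_add_eq_add]
    exact h4.symm
  rw [h5]
  exact (supp U₀).sub_mem (clSub_mem_supp U₀ hK (vanOn_kernel_of_isoOn q hq))
    (clSub_mem_supp U₀ hC (vanOn_cokernel_of_isoOn q hq))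

/-- **roof lemma** -/
theorem sub_mem_supp_of_roof {F₁ F₂ H : X.Modules} (hF₁ : Coh.IsCoh F₁) (hF₂ : Coh.IsCoh F₂)
    [H.IsQuasicoherent] (p₁ : H ⟶ F₁) (p₂ : H ⟶ F₂) (h₁ : IsoOn p₁ U₀) (h₂ : IsoOn p₂ U₀) :
    clSub (cohP X) F₁ - clSub (cohP X) F₂ ∈ supp U₀ := by
  have hUc : IsCompact (U₀ : Set X) := (inferInstance : NoetherianSpace X).isCompact _
  obtain ⟨H', ψ', hm, hq, hft, hiso⟩ := exists_sub_isFiniteType H U₀ hUc
    (FTOn.of_isoOn p₁ h₁ (Groth.Agent.R2.H54.Deligne.ftOn_of_isCoh hF₁ U₀))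
  have hH' : Coh.IsCoh H' := ⟨hq, hft⟩
  have r₁ := sub_mem_supp_of_isoOn U₀ hH' hF₁ (ψ' ≫ p₁) (hiso.comp h₁)
  have r₂ := sub_mem_supp_of_isoOn U₀ hH' hF₂ (ψ' ≫ p₂) (hiso.comp h₂)
  have h : clSub (cohP X) F₁ - clSub (cohP X) F₂ =
      (clSub (cohP X) H' - clSub (cohP X) F₂) - (clSub (cohP X) H' - clSub (cohP X) F₁) := by abel
  rw [h]
  exact (supp U₀).sub_mem r₂ r₁

/-- two coherent modules with isomorphic restrictions to `U₀` have the same class modulo `supp U₀` -/
theorem sub_mem_supp_of_restrict_iso {F₁ F₂ : X.Modules} (hF₁ : Coh.IsCoh F₁) (hF₂ : Coh.IsCoh F₂)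
    (e : (ρ U₀).obj F₁ ≅ (ρ U₀).obj F₂) : clSub (cohP X) F₁ - clSub (cohP X) F₂ ∈ supp U₀ := by
  haveI : F₁.IsQuasicoherent := hF₁.1
  haveI : F₂.IsQuasicoherent := hF₂.1
  obtain ⟨H, pG, pF, hHq, hpG, hcomp⟩ := Groth.Agent.R2.H54.Deligne.exists_roof F₂ F₁ U₀ e.hom
  haveI := hHq
  have hpF : IsoOn pF U₀ := by
    have h1 : IsIso ((Scheme.Modules.restrictFunctor U₀.ι).map pF) := by
      rw [hcomp]
      haveI : IsIso ((Scheme.Modules.restrictFunctor U₀.ι).map pG) := by
        rw [isIso_restrict_iff, Scheme.Opens.opensRange_ι]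
        exact hpG
      infer_instance
    rw [isIso_restrict_iff, Scheme.Opens.opensRange_ι] at h1
    exact h1
  exact sub_mem_supp_of_roof U₀ hF₁ hF₂ pG pF hpG hpF

theorem noeth_hX : ∀ x : X, ∃ U : X.Opens, x ∈ U ∧ TopologicalSpace.NoetherianSpace (U : Set X) :=
  fun _ => ⟨⊤, trivial, inferInstance⟩

/-- coherent modules on `U₀` extend to `X` -/
theorem exists_coh_extension (G : (U₀ : Scheme.{u}).Modules) (hG : Coh.IsCoh G) :
    ∃ F : X.Modules, Coh.IsCoh F ∧ Nonempty ((ρ U₀).obj F ≅ G) := by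
  haveI : Coh.IsQCoh G := hG.1
  obtain ⟨F, hq, hf, ⟨e⟩⟩ := Groth.Agent.S2252.result noeth_hX U₀ G hG.2
  exact ⟨F, ⟨hq, hf⟩, ⟨e⟩⟩

/-- short exact sequences on `U₀` and extensions of their terms -/
theorem ses_mem_supp (S : ShortComplex (U₀ : Scheme.{u}).Modules) (hS : S.ShortExact)
    (h₁ : Coh.IsCoh S.X₁) {F₁ F₂ F₃ : X.Modules} (c₁ : Coh.IsCoh F₁) (c₂ : Coh.IsCoh F₂) (c₃ : Coh.IsCoh F₃)
    (e₁ : (ρ U₀).obj F₁ ≅ S.X₁) (e₂ : (ρ U₀).obj F₂ ≅ S.X₂) (e₃ : (ρ U₀).obj F₃ ≅ S.X₃) :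
    clSub (cohP X) F₂ - clSub (cohP X) F₁ - clSub (cohP X) F₃ ∈ supp U₀ := by
  haveI := hS.mono_f
  haveI := hS.epi_g
  haveI : Coh.IsQCoh F₂ := c₂.1
  haveI : Coh.IsQCoh S.X₁ := h₁.1
  let i : S.X₁ ⟶ F₂.restrict U₀.ι := S.f ≫ e₂.inv
  haveI : Mono i := mono_comp _ _
  obtain ⟨F', i', e', hmono, hq, hft, hcomp⟩ := Groth.Agent.S2250.result noeth_hX U₀ F₂ S.X₁ i h₁.2
  haveI := hmono
  have cF' : Coh.IsCoh F' := ⟨hq, hft⟩
  have cF'' : Coh.IsCoh (cokernel i') := isCoh_cokernel cF' c₂ i'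
  -- `[F₂] = [F'] + [F'']`
  have hT : (ShortComplex.mk i' (cokernel.π i') (cokernel.condition i')).ShortExact :=
    { exact := ShortComplex.exact_cokernel i'
      mono_f := hmono
      epi_g := inferInstanceAs (Epi (cokernel.π i')) }
  have r₀ : clSub (cohP X) F₂ = clSub (cohP X) F' + clSub (cohP X) (cokernel i') :=
    clSub_shortExact (cohP X) _ hT cF' c₂ cF''
  -- `F'` and `F₁`
  have r₁ := sub_mem_supp_of_restrict_iso U₀ cF' c₁ (e' ≪≫ e₁.symm)
  -- `F''` and `F₃`
  have hcomp' : (ρ U₀).map i' ≫ (Iso.refl ((ρ U₀).obj F₂)).hom = e'.hom ≫ i := by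
    rw [Iso.refl_hom, Category.comp_id]
    exact hcomp.symm
  have hcomp'' : S.f ≫ e₂.symm.hom = (Iso.refl S.X₁).hom ≫ i := by
    rw [Iso.refl_hom, Category.id_comp]
    rfl
  let ε : (ρ U₀).obj (cokernel i') ≅ (ρ U₀).obj F₃ :=
    PreservesCokernel.iso (ρ U₀) i' ≪≫ cokernel.mapIso ((ρ U₀).map i') i e' (Iso.refl _) hcomp' ≪≫
      (cokernel.mapIso S.f i (Iso.refl _) e₂.symm hcomp'').symm ≪≫
      (colimit.isColimit _).coconePointUniqueUpToIso hS.gIsCokernel ≪≫ e₃.symm
  have r₂ := sub_mem_supp_of_restrict_iso U₀ cF'' c₃ ε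
  have h : clSub (cohP X) F₂ - clSub (cohP X) F₁ - clSub (cohP X) F₃ =
      (clSub (cohP X) F' - clSub (cohP X) F₁) + (clSub (cohP X) (cokernel i') - clSub (cohP X) F₃) := by
    rw [r₀]; abel
  rw [h]
  exact (supp U₀).add_mem r₁ r₂

variable (h : ∀ M : X.Modules, cohP X M → cohP (U₀ : Scheme.{u}) ((ρ U₀).obj M))

/-- the section `K₀(Coh U₀) → K₀(Coh X) / supp U₀` -/
theorem exists_psi : ∃ ψ : K0sub (cohP (U₀ : Scheme.{u})) →+ K0sub (cohP X) ⧸ supp U₀,
    ∀ x : K0sub (cohP X), ψ (SGA6.mapSub (ρ U₀) (cohP X) (cohP (U₀ : Scheme.{u})) h x) =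
      QuotientAddGroup.mk x := by
  classical
  choose Fe hFe eFe using exists_coh_extension U₀
  let e : ∀ G : Subtype (cohP (U₀ : Scheme.{u})), (ρ U₀).obj (Fe G.1 G.2) ≅ G.1 := fun G => (eFe G.1 G.2).some
  let ψ₀ : Subtype (cohP (U₀ : Scheme.{u})) → K0sub (cohP X) ⧸ supp U₀ :=
    fun G => QuotientAddGroup.mk (clSub (cohP X) (Fe G.1 G.2))
  have hψ₀ : ∀ (S : ShortComplex (U₀ : Scheme.{u}).Modules) (h₁ : cohP _ S.X₁) (h₂ : cohP _ S.X₂)
      (h₃ : cohP _ S.X₃), S.ShortExact → ψ₀ ⟨S.X₂, h₂⟩ = ψ₀ ⟨S.X₁, h₁⟩ + ψ₀ ⟨S.X₃, h₃⟩ := by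
    intro S h₁ h₂ h₃ hS
    have hm := ses_mem_supp U₀ S hS h₁ (hFe _ h₁) (hFe _ h₂) (hFe _ h₃) (e ⟨_, h₁⟩) (e ⟨_, h₂⟩) (e ⟨_, h₃⟩)
    have h0 := (QuotientAddGroup.eq_zero_iff _).2 hm
    rw [QuotientAddGroup.mk_sub, QuotientAddGroup.mk_sub, sub_sub, sub_eq_zero] at h0
    exact h0
  let ψ := lift (cohP (U₀ : Scheme.{u})) ψ₀ hψ₀
  refine ⟨ψ, fun x => ?_⟩
  have hcomp : ψ.comp (SGA6.mapSub (ρ U₀) (cohP X) (cohP (U₀ : Scheme.{u})) h) =
      QuotientAddGroup.mk' (supp U₀) := by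
    apply K0sub_hom_ext
    intro F hF
    rw [AddMonoidHom.comp_apply, mapSub_clSub _ _ _ h hF]
    change lift (cohP (U₀ : Scheme.{u})) ψ₀ hψ₀ (clSub _ ((ρ U₀).obj F)) = QuotientAddGroup.mk (clSub (cohP X) F)
    rw [lift_clSub _ ψ₀ hψ₀ (h F hF)]
    change QuotientAddGroup.mk (clSub (cohP X) (Fe _ (h F hF))) = QuotientAddGroup.mk (clSub (cohP X) F)
    rw [QuotientAddGroup.eq_iff_sub_mem]
    exact sub_mem_supp_of_restrict_iso U₀ (hFe _ (h F hF)) hF (e ⟨_, h F hF⟩)
  exact DFunLike.congr_fun hcomp x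

/-- the kernel of `K₀(Coh X) → K₀(Coh U₀)` -/
theorem ker_restrict : (SGA6.mapSub (ρ U₀) (cohP X) (cohP (U₀ : Scheme.{u})) h).ker = supp U₀ := by
  apply le_antisymm
  · intro x hx
    obtain ⟨ψ, hψ⟩ := exists_psi U₀ h
    have h1 := hψ x
    rw [AddMonoidHom.mem_ker] at hx
    rw [hx, map_zero] at h1
    exact (QuotientAddGroup.eq_zero_iff x).1 h1.symm
  · rw [supp, AddSubgroup.closure_le]
    rintro x ⟨F, hF, hv, rfl⟩
    rw [SetLike.mem_coe, AddMonoidHom.mem_ker, mapSub_clSub _ _ _ h hF]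
    exact clSub_of_isZero _ (isZero_restrict_of_vanOn U₀.ι F (by rwa [Scheme.Opens.opensRange_ι]))

theorem surjective_restrict :
    Function.Surjective (SGA6.mapSub (ρ U₀) (cohP X) (cohP (U₀ : Scheme.{u})) h) := by
  intro y
  have hy : y ∈ (SGA6.mapSub (ρ U₀) (cohP X) (cohP (U₀ : Scheme.{u})) h).range := by
    refine K0sub_induction _ _ (fun G hG => ?_) y
    obtain ⟨F, hF, ⟨e⟩⟩ := exists_coh_extension U₀ G hG
    refine ⟨clSub (cohP X) F, ?_⟩
    rw [mapSub_clSub _ _ _ h hF]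
    exact clSub_of_iso _ e (h F hF)
  exact hy

end Opens

section Push

open Groth.Agent.Lib.Helper23.ModLocal

variable {X X' : Scheme.{u}} [IsNoetherian X] (U₀ : X.Opens) (i : X' ⟶ X) [IsClosedImmersion i]
  [(Scheme.Modules.pushforward i).Additive] [PreservesFiniteLimits (Scheme.Modules.pushforward i)]
  [PreservesFiniteColimits (Scheme.Modules.pushforward i)]

omit [AlgebraicGeometry.IsNoetherian X] in
theorem killed_of_isZero_idealMul (J : X.IdealSheafData) (F : X.Modules) [F.IsQuasicoherent]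
    (hz : IsZero ((Dual3.idealMul J).obj F)) : ClSub.KilledByIdeal J F := by
  rw [killed_iff]
  intro U a ha m
  have h1 : a • m ∈ (J.ideal U • ⊤ : Submodule Γ(X, U.1) Γ(F, U.1)) :=
    Submodule.smul_mem_smul ha Submodule.mem_top
  obtain ⟨t, ht⟩ := (mem_range_idealMulι_app_iff J F U _).2 h1
  rw [← ht, eq_zero_of_isZero hz U.1 t, map_zero]

/-- the decomposition of `i_*` on `K₀` through the classes `Qk` -/
theorem mapSub_push_eq_comp (n : ℕ) (hn1 : 1 ≤ n)
    (hi : ∀ M : X'.Modules, cohP X' M → cohP X ((Scheme.Modules.pushforward i).obj M))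
    (h₁ : ∀ M : X'.Modules, cohP X' M → Qk i.ker 1 ((Scheme.Modules.pushforward i).obj M))
    (h₃ : ∀ F : X.Modules, Qk i.ker n F → cohP X ((𝟭 X.Modules).obj F)) :
    SGA6.mapSub (Scheme.Modules.pushforward i) (cohP X') (cohP X) hi =
      (SGA6.mapSub (𝟭 X.Modules) (Qk i.ker n) (cohP X) h₃).comp
        ((SGA6.mapSub (𝟭 X.Modules) (Qk i.ker 1) (Qk i.ker n) (Qk_le_of_le i.ker hn1)).comp
          (SGA6.mapSub (Scheme.Modules.pushforward i) (cohP X') (Qk i.ker 1) h₁)) := by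
  apply K0sub_hom_ext
  intro M hM
  rw [AddMonoidHom.comp_apply, AddMonoidHom.comp_apply, mapSub_clSub _ _ _ _ hM,
    mapSub_clSub _ (cohP X') _ h₁ hM, mapSub_clSub _ _ _ _ (h₁ M hM),
    mapSub_clSub _ _ _ _ (Qk_le_of_le i.ker hn1 _ (h₁ M hM))]
  rfl

/-- the classes of the coherent modules vanishing on the complement of the image of `i` are the image of `i_*` -/
theorem supp_eq_range_push (hU : (U₀ : Set X) = (Set.range i)ᶜ)
    (hi : ∀ M : X'.Modules, cohP X' M → cohP X ((Scheme.Modules.pushforward i).obj M)) :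
    supp U₀ = (SGA6.mapSub (Scheme.Modules.pushforward i) (cohP X') (cohP X) hi).range := by
  have hI : (U₀ : Set X) = (i.ker.support : Set X)ᶜ := by
    rw [hU, Scheme.Hom.support_ker, i.isClosedEmbedding.isClosed_range.closure_eq]
  have h₁ : ∀ M : X'.Modules, cohP X' M → Qk i.ker 1 ((Scheme.Modules.pushforward i).obj M) :=
    fun M hM => ⟨hi M hM, by rw [pow_one]; exact killed_push i M⟩
  apply le_antisymm
  · rw [supp, AddSubgroup.closure_le]
    rintro x ⟨F, hF, hv, rfl⟩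
    haveI : F.IsQuasicoherent := hF.1
    obtain ⟨n, hn⟩ := exists_pow_idealMul_isZero i.ker U₀ hI F hF hv
    have hN1 : 1 ≤ n + 1 := Nat.le_add_left 1 n
    have hQ : Qk i.ker (n + 1) F := ⟨hF, killed_of_isZero_idealMul _ F (hn (n + 1) (Nat.le_succ n))⟩
    have h₃ : ∀ F : X.Modules, Qk i.ker (n + 1) F → cohP X ((𝟭 X.Modules).obj F) := fun F hF => hF.1
    obtain ⟨y, hy⟩ := (bijective_chain i.ker (n + 1) hN1).2 (clSub (Qk i.ker (n + 1)) F)
    obtain ⟨z, hz⟩ := (bijective_push i h₁).2 y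
    refine ⟨z, ?_⟩
    rw [mapSub_push_eq_comp i (n + 1) hN1 hi h₁ h₃, AddMonoidHom.comp_apply, AddMonoidHom.comp_apply, hz, hy,
      mapSub_clSub _ _ _ h₃ hQ]
    rfl
  · rintro x ⟨y, rfl⟩
    have hy : y ∈ (supp U₀).comap (SGA6.mapSub (Scheme.Modules.pushforward i) (cohP X') (cohP X) hi) := by
      refine K0sub_induction _ _ (fun G hG => ?_) y
      rw [AddSubgroup.mem_comap, mapSub_clSub _ _ _ hi hG]
      refine clSub_mem_supp U₀ (hi G hG) (vanOn_push_of_preimage_eq_bot i G U₀ ?_)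
      ext z
      simp only [Opens.coe_bot, Set.mem_empty_iff_false, iff_false]
      intro hz
      have hz' : i z ∈ (U₀ : Set X) := hz
      rw [hU] at hz'
      exact hz' ⟨z, rfl⟩
    exact hy

end Push

section Transfer

variable {X U : Scheme.{u}} (j : U ⟶ X) [IsOpenImmersion j]

/-- restriction along an isomorphism is an equivalence -/
noncomputable def restrictEquiv {Y Z : Scheme.{u}} (e : Y ≅ Z) : Z.Modules ≌ Y.Modules :=
  CategoryTheory.Equivalence.mk (Scheme.Modules.restrictFunctor e.hom) (Scheme.Modules.restrictFunctor e.inv)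
    ((Scheme.Modules.restrictFunctorId (X := Z)).symm ≪≫
      Scheme.Modules.restrictFunctorCongr e.inv_hom_id.symm ≪≫
      Scheme.Modules.restrictFunctorComp e.inv e.hom)
    ((Scheme.Modules.restrictFunctorComp e.hom e.inv).symm ≪≫
      Scheme.Modules.restrictFunctorCongr e.hom_inv_id ≪≫ Scheme.Modules.restrictFunctorId (X := Y))

/-- restriction along an isomorphism induces a bijection on `K₀(Coh)` -/
theorem bijective_mapSub_restrict_iso {Y Z : Scheme.{u}} (e : Y ≅ Z)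
    (h : ∀ M : Z.Modules, cohP Z M → cohP Y ((Scheme.Modules.restrictFunctor e.hom).obj M)) :
    Function.Bijective (SGA6.mapSub (Scheme.Modules.restrictFunctor e.hom) (cohP Z) (cohP Y) h) := by
  haveI : (Scheme.Modules.restrictFunctor e.hom).IsEquivalence :=
    inferInstanceAs (restrictEquiv e).functor.IsEquivalence
  refine bijective_mapSub_of_fullyFaithful (Scheme.Modules.restrictFunctor e.hom) (cohP Z) (cohP Y) h
    (fun G hG => ?_)
  exact ⟨(Scheme.Modules.restrictFunctor e.inv).obj G, isCoh_restrict e.inv G hG,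
    ⟨(restrictEquiv e).counitIso.app G⟩⟩

end Transfer

section Main

variable {X X' U : Scheme.{u}} [IsNoetherian X] (i : X' ⟶ X) [IsClosedImmersion i]
  (j : U ⟶ X) [IsOpenImmersion j] (hU : Set.range j = (Set.range i)ᶜ)
  [(Scheme.Modules.pushforward i).Additive] [PreservesFiniteLimits (Scheme.Modules.pushforward i)]
  [PreservesFiniteColimits (Scheme.Modules.pushforward i)]
  [PreservesFiniteLimits (Scheme.Modules.restrictFunctor j)]

include hU in
/-- **the localization sequence** `K₀(Coh X') → K₀(Coh X) → K₀(Coh U) → 0` (= frozen `S3192`) -/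
theorem localization_sequence
    (hi : ∀ M : X'.Modules, Coh.IsCoh M → Coh.IsCoh ((Scheme.Modules.pushforward i).obj M))
    (hj : ∀ M : X.Modules, Coh.IsCoh M → Coh.IsCoh ((Scheme.Modules.restrictFunctor j).obj M)) :
    Function.Surjective (SGA6.mapSub (Scheme.Modules.restrictFunctor j) (fun M : X.Modules => Coh.IsCoh M)
        (fun M : U.Modules => Coh.IsCoh M) hj) ∧
      (SGA6.mapSub (Scheme.Modules.restrictFunctor j) (fun M : X.Modules => Coh.IsCoh M)
        (fun M : U.Modules => Coh.IsCoh M) hj).ker =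
        (SGA6.mapSub (Scheme.Modules.pushforward i) (fun M : X'.Modules => Coh.IsCoh M)
          (fun M : X.Modules => Coh.IsCoh M) hi).range := by
  let U₀ : X.Opens := j.opensRange
  let e : U ≅ (U₀ : Scheme.{u}) := j.isoOpensRange
  have he : e.hom ≫ U₀.ι = j := j.isoOpensRange_hom_ι
  have hρ : ∀ M : X.Modules, cohP X M → cohP (U₀ : Scheme.{u}) ((ρ U₀).obj M) :=
    fun M hM => isCoh_restrict U₀.ι M hM
  have hE : ∀ M : (U₀ : Scheme.{u}).Modules, cohP (U₀ : Scheme.{u}) M →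
      cohP U ((Scheme.Modules.restrictFunctor e.hom).obj M) := fun M hM => isCoh_restrict e.hom M hM
  let ν : Scheme.Modules.restrictFunctor j ≅ ρ U₀ ⋙ Scheme.Modules.restrictFunctor e.hom :=
    Scheme.Modules.restrictFunctorCongr he.symm ≪≫ Scheme.Modules.restrictFunctorComp e.hom U₀.ι
  have hcomp : SGA6.mapSub (Scheme.Modules.restrictFunctor j) (cohP X) (cohP U) hj =
      (SGA6.mapSub (Scheme.Modules.restrictFunctor e.hom) (cohP (U₀ : Scheme.{u})) (cohP U) hE).comp
        (SGA6.mapSub (ρ U₀) (cohP X) (cohP (U₀ : Scheme.{u})) hρ) := by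
    apply K0sub_hom_ext
    intro F hF
    rw [AddMonoidHom.comp_apply, mapSub_clSub _ _ _ hj hF, mapSub_clSub _ _ _ hρ hF,
      mapSub_clSub _ _ _ hE (hρ F hF)]
    exact clSub_of_iso (cohP U) (ν.app F) (hj F hF)
  have bE := bijective_mapSub_restrict_iso e hE
  have hU' : (U₀ : Set X) = (Set.range i)ᶜ := by
    rw [← hU]
    exact Scheme.Hom.coe_opensRange j
  constructor
  · change Function.Surjective (SGA6.mapSub (Scheme.Modules.restrictFunctor j) (cohP X) (cohP U) hj)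
    rw [hcomp]
    exact bE.2.comp (surjective_restrict U₀ hρ)
  · change (SGA6.mapSub (Scheme.Modules.restrictFunctor j) (cohP X) (cohP U) hj).ker =
      (SGA6.mapSub (Scheme.Modules.pushforward i) (cohP X') (cohP X) hi).range
    rw [← supp_eq_range_push U₀ i hU' hi, ← ker_restrict U₀ hρ, hcomp]
    ext x
    rw [AddMonoidHom.mem_ker, AddMonoidHom.mem_ker, AddMonoidHom.comp_apply]
    constructor
    · intro hx
      apply bE.1
      rw [hx, map_zero]
    · intro hx
      rw [hx, map_zero]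

end Main

end Groth.Agent.R2.H54.K0Loc
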