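import Mathlib
import Groth.Agent.R2.H54K0Loc
import Groth.Agent.S9705
import Groth.Prelude.Def_ChowK
import Groth.Prelude.Def_RefHull

/-!
# `K₀(Coh X)` modulo modules with small support (helper54)

* `toLe δ a ha : K₀(Coh X) → K₀(Coh_{≤ a} X)` when `δ ≤ a` everywhere.
* `toK0CohQuot_eq_of_restrict_iso` : two coherent modules isomorphic over an open `U₀` whose complement
  consists of points of `δ`-dimension `≤ b` have the same class in `Cyc.K0CohQuot δ a b`.
-/

set_option autoImplicit false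
set_option linter.style.haveILetI false
set_option linter.unusedSectionVars false
universe u

open CategoryTheory CategoryTheory.Limits AlgebraicGeometry TopologicalSpace Opposite

namespace Groth.Agent.R2.H54.K0Dim

open KZero Groth.Agent.R2.H54.K0Dev Groth.Agent.R2.H54.K0Loc Groth.Agent.R2.H5.CohThick
  Groth.Agent.R2.H12.Dev

variable {X : Scheme.{u}}

/-- the stalks of a module vanishing on `U₀` are trivial at the points of `U₀` -/
theorem subsingleton_stalk_of_vanOn {F : X.Modules} {U₀ : X.Opens} (h : VanOn F U₀) (x : X)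
    (hx : x ∈ U₀) : Subsingleton (F.presheaf.stalk x) := by
  suffices h0 : ∀ a : F.presheaf.stalk x, a = 0 from ⟨fun a b => by rw [h0 a, h0 b]⟩
  intro a
  obtain ⟨V, hxV, s, rfl⟩ := TopCat.Presheaf.exists_germ_eq F.presheaf a
  have hle : V ⊓ U₀ ≤ V := inf_le_left
  rw [← F.presheaf.germ_res_apply (homOfLE hle) x ⟨hxV, hx⟩ s]
  have : F.presheaf.map (homOfLE hle).op s = 0 := h (V ⊓ U₀) inf_le_right _
  rw [this, map_zero]

/-- `K₀(Coh X) → K₀(Coh_{≤ a} X)` when `δ ≤ a` everywhere -/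
noncomputable def toLe (δ : X → ℤ) (a : ℤ) (ha : ∀ x, δ x ≤ a) :
    K0sub (cohP X) →+ K0sub (Cyc.CohLe δ a) :=
  SGA6.mapSub (𝟭 X.Modules) (cohP X) (Cyc.CohLe δ a) (fun _ hM => ⟨hM, fun x _ => ha x⟩)

theorem toLe_clSub (δ : X → ℤ) (a : ℤ) (ha : ∀ x, δ x ≤ a) {F : X.Modules} (hF : Coh.IsCoh F) :
    toLe δ a ha (clSub (cohP X) F) = clSub (Cyc.CohLe δ a) F :=
  mapSub_clSub (𝟭 X.Modules) (cohP X) (Cyc.CohLe δ a) _ hF


section Transfer

/-- an isomorphism between the restrictions of two modules along an open immersion gives one between their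
restrictions along any open immersion with the same range -/
noncomputable def restrictIsoOfRangeEq {W₁ W₂ : Scheme.{u}} (j₁ : W₁ ⟶ X) (j₂ : W₂ ⟶ X)
    [IsOpenImmersion j₁] [IsOpenImmersion j₂] (h : Set.range j₁ = Set.range j₂) {F G : X.Modules}
    (ε : (Scheme.Modules.restrictFunctor j₁).obj F ≅ (Scheme.Modules.restrictFunctor j₁).obj G) :
    (Scheme.Modules.restrictFunctor j₂).obj F ≅ (Scheme.Modules.restrictFunctor j₂).obj G := by
  let e : W₁ ≅ W₂ := IsOpenImmersion.isoOfRangeEq j₁ j₂ h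
  have hfac : e.hom ≫ j₂ = j₁ := IsOpenImmersion.isoOfRangeEq_hom_fac j₁ j₂ h
  haveI : (Scheme.Modules.restrictFunctor e.hom).IsEquivalence :=
    inferInstanceAs (restrictEquiv e).functor.IsEquivalence
  let c : ∀ M : X.Modules, (Scheme.Modules.restrictFunctor e.hom).obj
      ((Scheme.Modules.restrictFunctor j₂).obj M) ≅ (Scheme.Modules.restrictFunctor j₁).obj M := fun M =>
    ((Scheme.Modules.restrictFunctorComp e.hom j₂).app M).symm ≪≫
      (Scheme.Modules.restrictFunctorCongr hfac).app M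
  exact (Scheme.Modules.restrictFunctor e.hom).preimageIso (c F ≪≫ ε ≪≫ (c G).symm)

/-- a module which is trivial on an open `V` of an open subscheme `U` is trivial on the image of `V` in `X` -/
theorem nonempty_restrict_iso_structureModule (F : X.Modules) (U : X.Opens) (V : (U : Scheme.{u}).Opens)
    (ε : (F.restrict U.ι).restrict V.ι ≅ Coh.structureModule (↑V : Scheme.{u})) :
    Nonempty ((ρ (U.ι ''ᵁ V)).obj F ≅ (ρ (U.ι ''ᵁ V)).obj (Coh.structureModule X)) := by
  have hr : Set.range (V.ι ≫ U.ι) = Set.range (U.ι ''ᵁ V).ι := by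
    rw [Scheme.Opens.range_ι, Scheme.Hom.comp_base, TopCat.coe_comp, Set.range_comp,
      Scheme.Opens.range_ι]
    rfl
  refine ⟨restrictIsoOfRangeEq (V.ι ≫ U.ι) (U.ι ''ᵁ V).ι hr ?_⟩
  exact (Scheme.Modules.restrictFunctorComp V.ι U.ι).app F ≪≫ ε ≪≫
    (Scheme.Modules.restrictUnitIso (V.ι ≫ U.ι)).symm

end Transfer

section Setup

/-- a closed subscheme of `P^N_k` which is locally Noetherian is Noetherian -/
theorem isNoetherian_of_closedImmersion_projSpace (k : Type u) [Field k] {N : ℕ} (ι : X ⟶ CohB1.ProjSpace N k)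
    [IsClosedImmersion ι] [IsLocallyNoetherian X] : IsNoetherian X := by
  have hP : IsProper (CohB1.ProjSpace.toSpec N k) := Groth.Agent.S9705.isProper_projSpace_toSpec N k
  have hPC : CompactSpace (CohB1.ProjSpace N k) :=
    QuasiCompact.compactSpace_of_compactSpace (CohB1.ProjSpace.toSpec N k)
  haveI : CompactSpace X := QuasiCompact.compactSpace_of_compactSpace ι
  exact {}

/-- a dimension function on an integral scheme is bounded by its value at the generic point -/
theorem delta_le_generic [IsIntegral X] {δ : X → ℤ} (hδ : Cyc.IsDimFun X δ) (x : X) :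
    δ x ≤ δ (genericPoint X) := by
  by_cases hx : genericPoint X = x
  · rw [hx]
  · exact (hδ (genericPoint X) x (genericPoint_specializes x) hx).1.le

theorem delta_lt_generic [IsIntegral X] {δ : X → ℤ} (hδ : Cyc.IsDimFun X δ) (x : X)
    (hx : x ≠ genericPoint X) : δ x < δ (genericPoint X) :=
  (hδ (genericPoint X) x (genericPoint_specializes x) (Ne.symm hx)).1

/-- a generically invertible module on an integral scheme is trivial on a neighbourhood of the generic point -/
theorem exists_restrict_iso_structureModule_of_genInvertible [IsIntegral X] (F : X.Modules)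
    (hF : RefHull.GenInvertible F) :
    ∃ U₀ : X.Opens, genericPoint X ∈ U₀ ∧
      Nonempty ((ρ U₀).obj F ≅ (ρ U₀).obj (Coh.structureModule X)) := by
  obtain ⟨U, hUd, hUinv⟩ := hF
  have hηU : genericPoint X ∈ U := by
    obtain ⟨y, hy⟩ := hUd.nonempty
    exact (genericPoint_specializes y).mem_open U.isOpen hy
  obtain ⟨V, hyV, ⟨ε⟩⟩ := hUinv ⟨genericPoint X, hηU⟩
  exact ⟨U.ι ''ᵁ V, ⟨⟨genericPoint X, hηU⟩, hyV, rfl⟩, nonempty_restrict_iso_structureModule F U V ε⟩

end Setup

variable [IsNoetherian X]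

theorem toLe_mem_of_mem_supp (δ : X → ℤ) (a b : ℤ) (ha : ∀ x, δ x ≤ a) (U₀ : X.Opens)
    (hU : ∀ x, x ∉ U₀ → δ x ≤ b) {c : K0sub (cohP X)} (hc : c ∈ supp U₀) :
    toLe δ a ha c ∈ AddSubgroup.closure {c : K0sub (Cyc.CohLe δ a) |
      ∃ F : X.Modules, Cyc.CohLe δ b F ∧ c = clSub (Cyc.CohLe δ a) F} := by
  have hle : supp U₀ ≤ (AddSubgroup.closure {c : K0sub (Cyc.CohLe δ a) |
      ∃ F : X.Modules, Cyc.CohLe δ b F ∧ c = clSub (Cyc.CohLe δ a) F}).comap (toLe δ a ha) := by
    unfold supp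
    rw [AddSubgroup.closure_le]
    rintro _ ⟨F, hF, hv, rfl⟩
    rw [SetLike.mem_coe, AddSubgroup.mem_comap, toLe_clSub δ a ha hF]
    refine AddSubgroup.subset_closure ⟨F, ⟨hF, fun x hx => hU x fun hxU => ?_⟩, rfl⟩
    haveI := subsingleton_stalk_of_vanOn hv x hxU
    exact not_subsingleton _ ‹_›
  exact hle hc

/-- two coherent modules isomorphic over an open `U₀` whose complement consists of points of `δ`-dimension `≤ b`
have the same class in `K₀(Coh_{≤ a}) / K₀(Coh_{≤ b})` -/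
theorem toK0CohQuot_eq_of_restrict_iso (δ : X → ℤ) (a b : ℤ) (ha : ∀ x, δ x ≤ a) (U₀ : X.Opens)
    (hU : ∀ x, x ∉ U₀ → δ x ≤ b) {F₁ F₂ : X.Modules} (hF₁ : Coh.IsCoh F₁) (hF₂ : Coh.IsCoh F₂)
    (e : (ρ U₀).obj F₁ ≅ (ρ U₀).obj F₂) :
    Cyc.toK0CohQuot δ a b F₁ = Cyc.toK0CohQuot δ a b F₂ := by
  have h := toLe_mem_of_mem_supp δ a b ha U₀ hU (sub_mem_supp_of_restrict_iso U₀ hF₂ hF₁ e.symm)
  rw [map_sub, toLe_clSub δ a ha hF₁, toLe_clSub δ a ha hF₂] at h
  unfold Cyc.toK0CohQuot
  rw [QuotientAddGroup.eq]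
  rwa [neg_add_eq_sub]

end Groth.Agent.R2.H54.K0Dim
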