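import Mathlib
import Groth.Agent.R2.H54K0Dim
import Groth.Agent.R2.H12Dev4B
import Groth.Agent.S0019
import Groth.Agent.S0020

/-!
# The filtration of `K₀(Coh X)` by supports (helper54)

`X` Noetherian.

* `KT T` : the subgroup of `K₀(Coh X)` generated by the coherent modules with support in `T ⊆ X`.
* `clSub_mem_closure_intGen` : the class of a coherent `F` lies in the subgroup generated by the `[i_* O_Z]`,
  `Z` an integral closed subscheme whose generic point lies in the support of `F`.
* `sub_mem_KT_of_restrict_iso` : refined roof lemma with support control.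
* `shift` : two exact functors `A`, `B` on modules which preserve coherence and vanishing on opens, and which are
  locally isomorphic on every coherent module, induce maps on `K₀` whose difference sends `KT T` into `KT T'`
  whenever every proper specialization of a point of `T` lies in `T'`.
-/

set_option autoImplicit false
set_option linter.style.haveILetI false
set_option linter.unusedSectionVars false
universe u

open CategoryTheory CategoryTheory.Limits AlgebraicGeometry TopologicalSpace Opposite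

namespace Groth.Agent.R2.H54.K0Filt

open KZero Groth.Agent.R2.H54.K0Dev Groth.Agent.R2.H54.K0Loc Groth.Agent.R2.H5.CohThick
  Groth.Agent.R2.H12.Dev Groth.Agent.R2.H54.K0Dim Groth.Agent.Lib.Helper17.K0a
  Groth.Agent.Lib.Helper23.Extend

variable {X : Scheme.{u}} [IsNoetherian X]

/-- the subgroup of `K₀(Coh X)` generated by the coherent modules with support in `T` -/
noncomputable def KT (T : Set X) : AddSubgroup (K0sub (cohP X)) :=
  AddSubgroup.closure {c | ∃ G : X.Modules, Coh.IsCoh G ∧ CohB1.support G ⊆ T ∧ c = clSub (cohP X) G}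

theorem clSub_mem_KT {T : Set X} {G : X.Modules} (hG : Coh.IsCoh G) (h : CohB1.support G ⊆ T) :
    clSub (cohP X) G ∈ KT T :=
  AddSubgroup.subset_closure ⟨G, hG, h, rfl⟩

theorem KT_mono {T T' : Set X} (h : T ⊆ T') : KT T ≤ KT T' := by
  unfold KT
  apply AddSubgroup.closure_mono
  rintro _ ⟨G, hG, hs, rfl⟩
  exact ⟨G, hG, hs.trans h, rfl⟩

/-- the support of a module vanishing on `W` does not meet `W` -/
theorem support_subset_compl_of_vanOn {G : X.Modules} {W : X.Opens} (h : VanOn G W) :
    CohB1.support G ⊆ (W : Set X)ᶜ := fun x hx hxW =>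
  hx (subsingleton_stalk_of_vanOn h x hxW)

/-- the generators `[i_* O_Z]`, `Z` integral closed with generic point in `T` -/
def intGen (T : Set X) : Set (K0sub (cohP X)) :=
  {c | ∃ (Z : Scheme.{u}) (i : Z ⟶ X) (_ : IsClosedImmersion i) (_ : IsIntegral Z),
    i (genericPoint Z) ∈ T ∧
      c = clSub (cohP X) ((Scheme.Modules.pushforward i).obj (Coh.structureModule Z))}

theorem isCoh_push_structure {Z : Scheme.{u}} (i : Z ⟶ X) [IsClosedImmersion i] :
    Coh.IsCoh ((Scheme.Modules.pushforward i).obj (Coh.structureModule Z)) := by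
  have hZN : IsNoetherian Z := isNoetherian_of_isClosedImmersion i
  exact Groth.Agent.S0019.result i _ (isCoh_structureModule Z)

/-- the open complement of the support of a coherent module -/
noncomputable def suppCompl (F : X.Modules) (hF : Coh.IsCoh F) : X.Opens :=
  ⟨(CohB1.support F)ᶜ, (Groth.Agent.S0020.result X F hF.2).isOpen_compl⟩

theorem vanOn_suppCompl (F : X.Modules) (hF : Coh.IsCoh F) : VanOn F (suppCompl F hF) :=
  vanOn_of_support_disjoint F _ fun _ hx hxs => hx hxs

/-- **generation by integral closed subschemes** -/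
theorem clSub_mem_closure_intGen (F : X.Modules) (hF : Coh.IsCoh F) :
    clSub (cohP X) F ∈ AddSubgroup.closure (intGen (CohB1.support F)) := by
  let S := AddSubgroup.closure (intGen (X := X) (CohB1.support F))
  refine devissage_core_simple (fun G => clSub (cohP X) G ∈ S) ?_ ?_ ?_ (suppCompl F hF) ?_ F hF
    (vanOn_suppCompl F hF)
  · rintro M N ⟨e⟩ hM
    by_cases hMc : Coh.IsCoh M
    · rwa [← clSub_of_iso (cohP X) e hMc]
    · have hNc : ¬ Coh.IsCoh N := fun h => hMc ((cohP X).prop_of_iso e.symm h)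
      have : clSub (cohP X) N = 0 := by
        classical
        unfold clSub
        rw [dif_neg hNc]
      rw [this]
      exact S.zero_mem
  · intro T hT h₁ h₂ h₃
    have h := clSub_shortExact (cohP X) T hT h₁ h₂ h₃
    refine ⟨fun a c => h ▸ S.add_mem a c, fun a b => ?_, fun b c => ?_⟩
    · have : clSub (cohP X) T.X₃ = clSub (cohP X) T.X₂ - clSub (cohP X) T.X₁ := by rw [h]; abel
      rw [this]
      exact S.sub_mem b a
    · have : clSub (cohP X) T.X₁ = clSub (cohP X) T.X₂ - clSub (cohP X) T.X₃ := by rw [h]; abel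
      rw [this]
      exact S.sub_mem b c
  · intro M hM
    rw [clSub_of_isZero (cohP X) hM]
    exact S.zero_mem
  · intro Z i _ _ hiW
    refine ⟨(Scheme.Modules.pushforward i).obj (Coh.structureModule Z), isCoh_push_structure i, ?_,
      isSimpleModule_stalk_push_structureModule i, ?_⟩
    · intro x hx
      by_contra hxr
      apply hx
      have hW : i ⁻¹ᵁ ⟨(Set.range i)ᶜ, i.isClosedEmbedding.isClosed_range.isOpen_compl⟩ = ⊥ := by
        ext z
        simp
      exact subsingleton_stalk_of_vanOn (vanOn_push_of_preimage_eq_bot i _ _ hW) x hxr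
    · refine AddSubgroup.subset_closure ⟨Z, i, inferInstance, inferInstance, ?_, rfl⟩
      by_contra hmem
      have h1 : genericPoint Z ∈ i ⁻¹ᵁ (suppCompl F hF) := hmem
      rw [hiW] at h1
      exact absurd h1 (by simp)

/-- a morphism of coherent modules which is an isomorphism over `D`, both vanishing on `W₁`: the difference of the
classes is a combination of classes of coherent modules vanishing on `D ⊔ W₁` -/
theorem sub_mem_KT_of_isoOn {T' : Set X} {A B : X.Modules} (hA : Coh.IsCoh A) (hB : Coh.IsCoh B) (q : A ⟶ B)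
    (D W₁ : X.Opens) (hq : IsoOn q D) (hAW : VanOn A W₁) (hBW : VanOn B W₁)
    (hT' : ∀ x, x ∉ D → x ∉ W₁ → x ∈ T') :
    clSub (cohP X) A - clSub (cohP X) B ∈ KT T' := by
  have hK : Coh.IsCoh (kernel q) := isCoh_kernel hA hB q
  have hC : Coh.IsCoh (cokernel q) := isCoh_cokernel hA hB q
  have h4 := clSub_four_term (cohP X) (kernel.ι q) q (cokernel.π q) (kernel.condition q)
    (cokernel.condition q) (ShortComplex.exact_kernel q) (ShortComplex.exact_cokernel q) hK hA hB hC
  have h5 : clSub (cohP X) A - clSub (cohP X) B =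
      clSub (cohP X) (kernel q) - clSub (cohP X) (cokernel q) := by
    rw [sub_eq_sub_iff_add_eq_add]
    exact h4.symm
  rw [h5]
  have hsub : ∀ {K : X.Modules}, VanOn K D → VanOn K W₁ → CohB1.support K ⊆ T' := by
    intro K h1 h2 x hx
    exact hT' x (fun hxD => support_subset_compl_of_vanOn h1 hx hxD)
      (fun hxW => support_subset_compl_of_vanOn h2 hx hxW)
  exact (KT T').sub_mem
    (clSub_mem_KT hK (hsub (vanOn_kernel_of_isoOn q hq) (hAW.of_mono (kernel.ι q))))
    (clSub_mem_KT hC (hsub (vanOn_cokernel_of_isoOn q hq) (hBW.of_epi (cokernel.π q))))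

/-- **refined roof lemma**: two coherent modules vanishing on `W₁` and isomorphic over `D` have the same class
modulo the coherent modules supported off `D ⊔ W₁` -/
theorem sub_mem_KT_of_restrict_iso {T' : Set X} {G E : X.Modules} (hG : Coh.IsCoh G) (hE : Coh.IsCoh E)
    (D W₁ : X.Opens) (θ : (ρ D).obj E ≅ (ρ D).obj G) (hGW : VanOn G W₁) (hEW : VanOn E W₁)
    (hT' : ∀ x, x ∉ D → x ∉ W₁ → x ∈ T') :
    clSub (cohP X) G - clSub (cohP X) E ∈ KT T' := by
  obtain ⟨H₀, pG, pE, hH₀, hpG, hpE, hvan⟩ := exists_zigzag_of_restrict_iso D.ι G E hG hE θ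
  rw [Scheme.Opens.opensRange_ι] at hpG hpE
  have hHW : VanOn H₀ W₁ := hvan W₁ hGW hEW
  have r₁ := sub_mem_KT_of_isoOn hH₀ hG pG D W₁ hpG hHW hGW hT'
  have r₂ := sub_mem_KT_of_isoOn hH₀ hE pE D W₁ hpE hHW hEW hT'
  have h : clSub (cohP X) G - clSub (cohP X) E =
      (clSub (cohP X) H₀ - clSub (cohP X) E) - (clSub (cohP X) H₀ - clSub (cohP X) G) := by abel
  rw [h]
  exact (KT T').sub_mem r₂ r₁


theorem intGen_mono {T T' : Set X} (h : T ⊆ T') : intGen T ⊆ intGen T' := by
  rintro _ ⟨Z, i, h1, h2, hm, rfl⟩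
  exact ⟨Z, i, h1, h2, h hm, rfl⟩

section Shift

variable (A B : X.Modules ⥤ X.Modules)
  (hA : ∀ G : X.Modules, cohP X G → cohP X (A.obj G)) (hB : ∀ G : X.Modules, cohP X G → cohP X (B.obj G))
  (hloc : ∀ G : X.Modules, Coh.IsCoh G → ∀ ξ : X, ∃ D : X.Opens, ξ ∈ D ∧
    Nonempty ((ρ D).obj (A.obj G) ≅ (ρ D).obj (B.obj G)))
  (hvA : ∀ (G : X.Modules) (W : X.Opens), VanOn G W → VanOn (A.obj G) W)
  (hvB : ∀ (G : X.Modules) (W : X.Opens), VanOn G W → VanOn (B.obj G) W)

include hA hB hloc hvA hvB in
/-- the shift on a generator `[i_* O_Z]` -/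
theorem shift_gen {T T' : Set X} (hTT' : ∀ x ∈ T, ∀ y : X, x ⤳ y → y ≠ x → y ∈ T')
    {Z : Scheme.{u}} (i : Z ⟶ X) [IsClosedImmersion i] [IsIntegral Z] (hξ : i (genericPoint Z) ∈ T) :
    clSub (cohP X) (A.obj ((Scheme.Modules.pushforward i).obj (Coh.structureModule Z))) -
      clSub (cohP X) (B.obj ((Scheme.Modules.pushforward i).obj (Coh.structureModule Z))) ∈ KT T' := by
  set G := (Scheme.Modules.pushforward i).obj (Coh.structureModule Z) with hGdef
  have hG : Coh.IsCoh G := isCoh_push_structure i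
  obtain ⟨D, hξD, ⟨θ⟩⟩ := hloc G hG (i (genericPoint Z))
  let W₁ : X.Opens := ⟨(Set.range i)ᶜ, i.isClosedEmbedding.isClosed_range.isOpen_compl⟩
  have hW : i ⁻¹ᵁ W₁ = ⊥ := by
    ext z
    simp [W₁]
  have hGW : VanOn G W₁ := vanOn_push_of_preimage_eq_bot i _ _ hW
  refine sub_mem_KT_of_restrict_iso (hA G hG) (hB G hG) D W₁ θ.symm (hvA G W₁ hGW) (hvB G W₁ hGW) ?_
  intro x hxD hxW
  have hxr : x ∈ Set.range i := by
    by_contra h
    exact hxW h
  obtain ⟨z, rfl⟩ := hxr
  have hne : i z ≠ i (genericPoint Z) := fun h => hxD (h ▸ hξD)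
  exact hTT' _ hξ (i z) ((genericPoint_specializes z).map i.continuous) hne

include hloc hvA hvB in
/-- **the shift lemma** -/
theorem shift [A.Additive] [PreservesFiniteLimits A] [PreservesFiniteColimits A]
    [B.Additive] [PreservesFiniteLimits B] [PreservesFiniteColimits B]
    {T T' : Set X} (hTT' : ∀ x ∈ T, ∀ y : X, x ⤳ y → y ≠ x → y ∈ T')
    {y : K0sub (cohP X)} (hy : y ∈ KT T) :
    SGA6.mapSub A (cohP X) (cohP X) hA y - SGA6.mapSub B (cohP X) (cohP X) hB y ∈ KT T' := by
  let Φ : K0sub (cohP X) →+ K0sub (cohP X) :=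
    SGA6.mapSub A (cohP X) (cohP X) hA - SGA6.mapSub B (cohP X) (cohP X) hB
  have h1 : AddSubgroup.closure (intGen T) ≤ (KT T').comap Φ := by
    rw [AddSubgroup.closure_le]
    rintro _ ⟨Z, i, h1, h2, hm, rfl⟩
    have hG : Coh.IsCoh ((Scheme.Modules.pushforward i).obj (Coh.structureModule Z)) :=
      isCoh_push_structure i
    rw [SetLike.mem_coe, AddSubgroup.mem_comap]
    change SGA6.mapSub A (cohP X) (cohP X) hA _ - SGA6.mapSub B (cohP X) (cohP X) hB _ ∈ KT T'
    rw [mapSub_clSub A (cohP X) (cohP X) hA hG, mapSub_clSub B (cohP X) (cohP X) hB hG]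
    exact shift_gen A B hA hB hloc hvA hvB hTT' i hm
  have h2 : KT T ≤ (KT T').comap Φ := by
    unfold KT
    rw [AddSubgroup.closure_le]
    rintro _ ⟨F, hF, hs, rfl⟩
    exact h1 (AddSubgroup.closure_mono (intGen_mono hs) (clSub_mem_closure_intGen F hF))
  exact h2 hy

end Shift


end Groth.Agent.R2.H54.K0Filt
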