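import Mathlib
import Groth.Agent.R2.H54K0Filt
import Groth.Agent.R2.H79TwistCalc
import Groth.Agent.Lib.Helper23RestrTensor
import Groth.Agent.Lib.Helper23SecTw6
import Groth.Agent.Lib.Helper23TensorUnit
import Groth.Agent.Lib.Helper23AmpleIso
import Groth.Prelude.Def_FGA

/-!
# Tensoring with an invertible module on `K₀(Coh X)` and the filtration by supports (helper54)

* `tens N : K₀(Coh X) →+ K₀(Coh X)`, `[F] ↦ [N ⊗ F]` for `N` invertible.
* `sub_tens_mem_KT` : `y - [N] y ∈ KT T'` for `y ∈ KT T`, when every proper specialization of a point of `T` is in `T'`.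
-/

set_option autoImplicit false
set_option linter.style.haveILetI false
set_option linter.unusedSectionVars false
universe u

open CategoryTheory CategoryTheory.Limits AlgebraicGeometry TopologicalSpace Opposite

namespace Groth.Agent.R2.H54.K0Tens

open KZero Groth.Agent.R2.H54.K0Dev Groth.Agent.R2.H54.K0Loc Groth.Agent.R2.H5.CohThick
  Groth.Agent.R2.H12.Dev Groth.Agent.R2.H54.K0Dim Groth.Agent.R2.H54.K0Filt Groth.Agent.Lib.Helper17.K0a
  Groth.Agent.R2.H79.TwistCalc Groth.Agent.Lib.Helper21.ModTensor3 Groth.Agent.Lib.Helper21.ModTensor5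
  Groth.Agent.Lib.Helper21.ModTensor6 Groth.Agent.Lib.Helper21.ModTensor7 Groth.Agent.Lib.Helper17.K0Serre

variable {X : Scheme.{u}}

/-- `N ⊗ -` is left exact for `N` invertible -/
theorem preservesFiniteLimits_tensorLeftF (N : X.Modules) (hN : PicF.IsInvertible N) :
    PreservesFiniteLimits (tensorLeftF N) := by
  haveI := preservesFiniteLimits_tensorRightF N hN
  exact preservesFiniteLimits_of_natIso ((brd X.sheaf).app N).symm

/-- `N ⊗ F` is coherent for `N` invertible and `F` coherent -/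
theorem isCoh_tensorMod_left (N F : X.Modules) (hN : PicF.IsInvertible N) (hF : Coh.IsCoh F) :
    Coh.IsCoh (CohB1.tensorMod N F) :=
  (cohP X).prop_of_iso (brdApp X.sheaf F N) (isCoh_tensorMod F N hF hN)

/-- `O ⊗ F ≅ F`, naturally in `F`. -/
noncomputable def tensorLeftFUnit {Y : Scheme.{u}} : tensorLeftF (Coh.structureModule Y) ≅ 𝟭 Y.Modules :=
  tLUnitIso Y.sheaf

/-- `O ⊗ F ≅ F` -/
noncomputable def tensorModUnitIso {Y : Scheme.{u}} (F : Y.Modules) :
    CohB1.tensorMod (Coh.structureModule Y) F ≅ F :=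
  (tensorLeftFUnit (Y := Y)).app F

/-- `N ⊗ F` is trivialised with `N` -/
noncomputable def restrictTensorTrivIso (N F : X.Modules) (D : X.Opens)
    (ε : N.restrict D.ι ≅ Coh.structureModule (↑D : Scheme.{u})) :
    (ρ D).obj (CohB1.tensorMod N F) ≅ (ρ D).obj F :=
  Groth.Agent.Lib.Helper23.RestrTensor.restrictTensorIso N F D.ι ≪≫
    (PicGrp.tensorModIso ε (Iso.refl (F.restrict D.ι)) ≪≫ tensorModUnitIso (F.restrict D.ι))

/-- `N ⊗ -` preserves vanishing on opens -/
theorem vanOn_tensorMod (N G : X.Modules) (W : X.Opens) (h : VanOn G W) :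
    VanOn (CohB1.tensorMod N G) W := by
  have h1 : IsZero ((ρ W).obj G) := isZero_restrict_of_vanOn W.ι G (by rwa [Scheme.Opens.opensRange_ι])
  have h2' : IsZero ((tensorLeftF (N.restrict W.ι)).obj ((ρ W).obj G)) :=
    Functor.map_isZero (tensorLeftF (N.restrict W.ι)) h1
  have h2 : IsZero (CohB1.tensorMod (N.restrict W.ι) (G.restrict W.ι)) := h2'
  have h3 : IsZero ((ρ W).obj (CohB1.tensorMod N G)) :=
    h2.of_iso (Groth.Agent.Lib.Helper23.RestrTensor.restrictTensorIso N G W.ι)
  have := vanOn_of_isZero_restrict W.ι _ h3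
  rwa [Scheme.Opens.opensRange_ι] at this

section K

variable [IsNoetherian X]

theorem mapSub_id (h : ∀ G : X.Modules, cohP X G → cohP X ((𝟭 X.Modules).obj G)) :
    SGA6.mapSub (𝟭 X.Modules) (cohP X) (cohP X) h = AddMonoidHom.id _ := by
  apply K0sub_hom_ext
  intro F hF
  rw [mapSub_clSub (𝟭 X.Modules) (cohP X) (cohP X) h hF]
  rfl

open Classical in
/-- `[F] ↦ [N ⊗ F]` on `K₀(Coh X)`, for `N` invertible (and `0` otherwise) -/
noncomputable def tens (N : X.Modules) : K0sub (cohP X) →+ K0sub (cohP X) :=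
  if hN : PicF.IsInvertible N then
    haveI := preservesFiniteLimits_tensorLeftF N hN
    SGA6.mapSub (tensorLeftF N) (cohP X) (cohP X) (fun F hF => isCoh_tensorMod_left N F hN hF)
  else 0

theorem tens_clSub (N : X.Modules) (hN : PicF.IsInvertible N) {F : X.Modules} (hF : Coh.IsCoh F) :
    tens N (clSub (cohP X) F) = clSub (cohP X) (CohB1.tensorMod N F) := by
  unfold tens
  rw [dif_pos hN]
  haveI := preservesFiniteLimits_tensorLeftF N hN
  exact mapSub_clSub (tensorLeftF N) (cohP X) (cohP X) _ hF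

/-- **dimension shifting**: `y - [N] y ∈ KT T'` for `y ∈ KT T` -/
theorem sub_tens_mem_KT (N : X.Modules) (hN : PicF.IsInvertible N) {T T' : Set X}
    (hTT' : ∀ x ∈ T, ∀ y : X, x ⤳ y → y ≠ x → y ∈ T') {y : K0sub (cohP X)} (hy : y ∈ KT T) :
    y - tens N y ∈ KT T' := by
  haveI := preservesFiniteLimits_tensorLeftF N hN
  have h := shift (𝟭 X.Modules) (tensorLeftF N) (fun _ hG => hG)
    (fun F hF => isCoh_tensorMod_left N F hN hF)
    (fun G _ ξ => by
      obtain ⟨D, hξD, ⟨ε⟩⟩ := hN ξ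
      exact ⟨D, hξD, ⟨(restrictTensorTrivIso N G D ε).symm⟩⟩)
    (fun _ _ h => h) (fun G W h => vanOn_tensorMod N G W h) hTT' hy
  rw [mapSub_id] at h
  unfold tens
  rw [dif_pos hN]
  exact h

end K

section Comb

variable [IsNoetherian X]

open Groth.Agent.Lib.Helper23.SecTw Groth.Agent.Lib.Helper23.TensorUnit Groth.Agent.Lib.Helper23.AmpleIso

theorem tens_structureModule : tens (Coh.structureModule X) = AddMonoidHom.id (K0sub (cohP X)) := by
  apply K0sub_hom_ext
  intro F hF
  rw [tens_clSub _ (isInvertible_structureModule X) hF]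
  exact clSub_of_iso (cohP X) (tensorModUnitIso F)
    (isCoh_tensorMod_left _ F (isInvertible_structureModule X) hF)

theorem tens_tensorMod (A B : X.Modules) (hA : PicF.IsInvertible A) (hB : PicF.IsInvertible B) :
    tens (CohB1.tensorMod A B) = (tens A).comp (tens B) := by
  apply K0sub_hom_ext
  intro F hF
  have hAB : PicF.IsInvertible (CohB1.tensorMod A B) := isInvertible_tensorMod hA hB
  rw [tens_clSub _ hAB hF, AddMonoidHom.comp_apply, tens_clSub _ hB hF,
    tens_clSub _ hA (isCoh_tensorMod_left B F hB hF)]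
  exact clSub_of_iso (cohP X) ((tLTensorIso X.sheaf A B).app F) (isCoh_tensorMod_left _ F hAB hF)

theorem isInvertible_tensorList (l : List X.Modules) (h : ∀ N ∈ l, PicF.IsInvertible N) :
    PicF.IsInvertible (FGA.tensorList l) := by
  induction l with
  | nil => exact isInvertible_structureModule X
  | cons a l ih =>
    exact isInvertible_tensorMod (h a (List.mem_cons_self)) (ih fun N hN => h N (List.mem_cons_of_mem a hN))

theorem tens_tensorList_cons (a : X.Modules) (l : List X.Modules) (ha : PicF.IsInvertible a)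
    (hl : ∀ N ∈ l, PicF.IsInvertible N) :
    tens (FGA.tensorList (a :: l)) = (tens a).comp (tens (FGA.tensorList l)) :=
  tens_tensorMod a _ ha (isInvertible_tensorList l hl)

/-- the alternating sum `Σ_{I ⊆ J} (-1)^{|I|} [M_I ⊗ -]` -/
noncomputable def altSum {n : ℕ} (M : Fin n → X.Modules) (J : Finset (Fin n)) :
    K0sub (cohP X) →+ K0sub (cohP X) :=
  ∑ I ∈ J.powerset, ((-1 : ℤ) ^ I.card) • tens (FGA.tensorList ((I.sort (· ≤ ·)).map M))

theorem altSum_empty {n : ℕ} (M : Fin n → X.Modules) : altSum M ∅ = AddMonoidHom.id (K0sub (cohP X)) := by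
  unfold altSum
  rw [Finset.powerset_empty, Finset.sum_singleton, Finset.card_empty, pow_zero, one_smul,
    Finset.sort_empty, List.map_nil]
  exact tens_structureModule

theorem altSum_insert {n : ℕ} (M : Fin n → X.Modules) (hM : ∀ i, PicF.IsInvertible (M i)) (a : Fin n)
    (J : Finset (Fin n)) (ha : ∀ x ∈ J, a < x) :
    altSum M (insert a J) = altSum M J - (tens (M a)).comp (altSum M J) := by
  have haJ : a ∉ J := fun h => lt_irrefl a (ha a h)
  unfold altSum
  rw [Finset.sum_powerset_insert haJ, sub_eq_add_neg]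
  congr 1
  refine AddMonoidHom.ext fun y => ?_
  rw [AddMonoidHom.neg_apply, AddMonoidHom.comp_apply, AddMonoidHom.finsetSum_apply,
    AddMonoidHom.finsetSum_apply, map_sum, ← Finset.sum_neg_distrib]
  refine Finset.sum_congr rfl fun I hI => ?_
  have hIJ : I ⊆ J := Finset.mem_powerset.1 hI
  have haI : a ∉ I := fun h => haJ (hIJ h)
  have hle : ∀ b ∈ I, a ≤ b := fun b hb => (ha b (hIJ hb)).le
  have hsort : (insert a I).sort (· ≤ ·) = a :: I.sort (· ≤ ·) := Finset.sort_insert _ hle haI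
  rw [hsort, List.map_cons, Finset.card_insert_of_notMem haI,
    tens_tensorList_cons (M a) _ (hM a) (fun N hN => by
      obtain ⟨i, -, rfl⟩ := List.mem_map.1 hN
      exact hM i)]
  rw [AddMonoidHom.smul_apply, AddMonoidHom.smul_apply, AddMonoidHom.comp_apply, map_zsmul, pow_succ,
    mul_neg, mul_one, neg_smul]

theorem altSum_mem_KT {n : ℕ} (δ : X → ℤ) (hδ : Cyc.IsDimFun X δ) (M : Fin n → X.Modules)
    (hM : ∀ i, PicF.IsInvertible (M i)) (J : Finset (Fin n)) :
    ∀ (m : ℤ) (y : K0sub (cohP X)), y ∈ KT {x | δ x ≤ m} → altSum M J y ∈ KT {x | δ x ≤ m - J.card} := by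
  induction J using Finset.induction_on_min with
  | empty =>
    intro m y hy
    rw [altSum_empty]
    simpa using hy
  | insert a J ha ih =>
    intro m y hy
    have haJ : a ∉ J := fun h => lt_irrefl a (ha a h)
    rw [altSum_insert M hM a J ha, AddMonoidHom.sub_apply, AddMonoidHom.comp_apply]
    refine sub_tens_mem_KT (M a) (hM a) ?_ (ih m y hy)
    intro x hx z hxz hne
    have h1 := (hδ x z hxz (Ne.symm hne)).1
    have hx' : δ x ≤ m - J.card := hx
    change δ z ≤ m - ((insert a J).card : ℤ)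
    rw [Finset.card_insert_of_notMem haJ]
    push_cast
    omega

end Comb

section Quot

variable [IsNoetherian X]

theorem supp_le_KT (U₀ : X.Opens) : supp U₀ ≤ KT ((U₀ : Set X)ᶜ) := by
  unfold supp
  rw [AddSubgroup.closure_le]
  rintro _ ⟨F, hF, hv, rfl⟩
  exact clSub_mem_KT hF (support_subset_compl_of_vanOn hv)

/-- the projection `K₀(Coh X) → K₀(Coh_{≤ a}) / K₀(Coh_{≤ b})` when `δ ≤ a` everywhere -/
noncomputable def toQuot (δ : X → ℤ) (a b : ℤ) (ha : ∀ x, δ x ≤ a) : K0sub (cohP X) →+ Cyc.K0CohQuot δ a b :=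
  (QuotientAddGroup.mk' _).comp (toLe δ a ha)

theorem toQuot_clSub (δ : X → ℤ) (a b : ℤ) (ha : ∀ x, δ x ≤ a) {F : X.Modules} (hF : Coh.IsCoh F) :
    toQuot δ a b ha (clSub (cohP X) F) = Cyc.toK0CohQuot δ a b F := by
  unfold toQuot Cyc.toK0CohQuot
  rw [AddMonoidHom.comp_apply, toLe_clSub δ a ha hF]
  rfl

theorem toQuot_eq_zero_of_mem_KT (δ : X → ℤ) (a b : ℤ) (ha : ∀ x, δ x ≤ a) {y : K0sub (cohP X)}
    (hy : y ∈ KT {x | δ x ≤ b}) : toQuot δ a b ha y = 0 := by
  have hle : KT {x | δ x ≤ b} ≤ (toQuot δ a b ha).ker := by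
    unfold KT
    rw [AddSubgroup.closure_le]
    rintro _ ⟨G, hG, hs, rfl⟩
    rw [SetLike.mem_coe, AddMonoidHom.mem_ker]
    unfold toQuot
    rw [AddMonoidHom.comp_apply, toLe_clSub δ a ha hG]
    refine (QuotientAddGroup.eq_zero_iff _).2 (AddSubgroup.subset_closure ⟨G, ⟨hG, fun x hx => ?_⟩, rfl⟩)
    exact hs (fun hsub => not_subsingleton _ hsub)
  exact hle hy

/-- a module with an invertible tensor inverse is invertible -/
theorem isInvertible_of_tensorMod_iso (L M : X.Modules) (hL : PicF.IsInvertible L)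
    (e : CohB1.tensorMod L M ≅ Coh.structureModule X) : PicF.IsInvertible M := by
  intro x
  obtain ⟨D, hxD, ⟨ε⟩⟩ := hL x
  exact ⟨D, hxD, ⟨(restrictTensorTrivIso L M D ε).symm ≪≫ (ρ D).mapIso e ≪≫
    Scheme.Modules.restrictUnitIso D.ι⟩⟩

end Quot

end Groth.Agent.R2.H54.K0Tens
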