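import Mathlib
import Groth.Agent.R2.H54K0Tens
import Groth.Agent.Lib.Helper7TopDim
import Groth.Agent.Lib.Helper5SuppDim2
import Groth.Agent.Lib.Helper1Sky9
import Groth.Agent.Lib.Helper1StalkTensorC
import Groth.Agent.Lib.Helper2LocFree

/-!
# Tensoring with a locally free module of rank `e` on `K₀(Coh X)` modulo smaller supports (helper54)

* `clSub_sigma_fin` : the class of a finite coproduct is the sum of the classes.
* `krullDim_add_one_le_of_proper_specializations` : dimension of a closed set of proper specializations.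
* `tensor_sub_rank_mem` : `[E ⊗ F] - e [F]` is a combination of classes of coherent modules whose support consists of
  proper specializations of points of `Supp F`.
-/

set_option autoImplicit false
set_option linter.style.haveILetI false
set_option linter.unusedSectionVars false
universe v u

open CategoryTheory CategoryTheory.Limits AlgebraicGeometry TopologicalSpace Opposite

namespace Groth.Agent.R2.H54.K0Rank

open KZero Groth.Agent.R2.H54.K0Dev Groth.Agent.R2.H54.K0Loc Groth.Agent.R2.H5.CohThick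
  Groth.Agent.R2.H12.Dev Groth.Agent.R2.H54.K0Dim Groth.Agent.R2.H54.K0Filt Groth.Agent.Lib.Helper17.K0a
  Groth.Agent.R2.H54.K0Tens Groth.Agent.R2.H79.TwistCalc Groth.Agent.Lib.Helper17.K0Serre

section Sigma

variable {A : Type u} [Category.{v} A] [Abelian A] (P : ObjectProperty A) [P.IsClosedUnderIsomorphisms]
  [P.ContainsZero]

/-- `∐_{Fin (n+1)} f ≅ f 0 ⊞ ∐_{Fin n} f ∘ succ` -/
noncomputable def sigmaFinSuccIso {n : ℕ} (f : Fin (n + 1) → A) :
    ∐ f ≅ f 0 ⊞ ∐ fun i : Fin n => f i.succ :=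
  (coproductIsCoproduct f).coconePointUniqueUpToIso
    (extendCofanIsColimit f (coproductIsCoproduct fun i : Fin n => f i.succ)
      (BinaryBiproduct.isColimit (f 0) (∐ fun i : Fin n => f i.succ)))

theorem isZero_sigma_fin_zero (f : Fin 0 → A) : IsZero (∐ f) := by
  rw [IsZero.iff_id_eq_zero]
  exact Sigma.hom_ext _ _ fun i => i.elim0

theorem prop_and_clSub_sigma_fin (hbi : ∀ X Y : A, P X → P Y → P (X ⊞ Y) ∧
    clSub P (X ⊞ Y) = clSub P X + clSub P Y) :
    ∀ (n : ℕ) (f : Fin n → A), (∀ i, P (f i)) → P (∐ f) ∧ clSub P (∐ f) = ∑ i, clSub P (f i) := by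
  intro n
  induction n with
  | zero =>
    intro f _
    have h0 := isZero_sigma_fin_zero f
    exact ⟨P.prop_of_isZero h0, by rw [clSub_of_isZero P h0, Fin.sum_univ_zero]⟩
  | succ n ih =>
    intro f hf
    obtain ⟨h1, h2⟩ := ih (fun i : Fin n => f i.succ) (fun i => hf i.succ)
    obtain ⟨h3, h4⟩ := hbi (f 0) (∐ fun i : Fin n => f i.succ) (hf 0) h1
    have h5 : P (∐ f) := P.prop_of_iso (sigmaFinSuccIso f).symm h3
    refine ⟨h5, ?_⟩
    rw [clSub_of_iso P (sigmaFinSuccIso f) h5, h4, h2, Fin.sum_univ_succ]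

end Sigma

section Dim

variable {X : Type*} [TopologicalSpace X] [QuasiSober X]

open Groth.Agent.Lib.Helper7.TopDim Groth.Agent.Lib.Helper5 in
/-- if every point of the closed set `S` is a proper specialization of a point of `Y` whose closure lies in `Y`, then
`dim S + 1 ≤ dim Y` -/
theorem krullDim_add_one_le_of_proper_specializations (S Y : Set X) (hS : IsClosed S)
    (h : ∀ y ∈ S, ∃ x ∈ Y, y ∈ closure {x} ∧ x ∉ closure {y} ∧ closure {x} ⊆ Y) :
    topologicalKrullDim ↥S + 1 ≤ topologicalKrullDim ↥Y := by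
  unfold topologicalKrullDim
  refine krullDim_add_one_le_of_forall _ fun q => ?_
  let g := IrreducibleCloseds.map (Subtype.val : S → X) continuous_subtype_val
  have hg : StrictMono g := IrreducibleCloseds.map_strictMono_of_isInducing Topology.IsInducing.subtypeVal
  let q' : LTSeries (IrreducibleCloseds X) := q.map g hg
  have hlastS : (q'.last : Set X) ⊆ S := by
    rw [LTSeries.last_map]
    change closure (Subtype.val '' (q.last : Set S)) ⊆ S
    refine closure_minimal ?_ hS
    rintro _ ⟨z, -, rfl⟩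
    exact z.2
  obtain ⟨y, hy⟩ := QuasiSober.sober q'.last.isIrreducible q'.last.isClosed
  have hyS : y ∈ S := hlastS hy.mem
  obtain ⟨x, hxY, hyx, hxy, hxcl⟩ := h y hyS
  let W : IrreducibleCloseds X := ⟨closure {x}, isIrreducible_singleton.closure, isClosed_closure⟩
  have hlt : q'.last < W := by
    rw [lt_iff_le_and_ne]
    constructor
    · change (q'.last : Set X) ⊆ closure {x}
      rw [← hy.def]
      exact closure_minimal (Set.singleton_subset_iff.2 hyx) isClosed_closure
    · intro heq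
      apply hxy
      rw [hy.def, heq]
      exact subset_closure rfl
  let p : LTSeries (IrreducibleCloseds X) := q'.snoc W hlt
  have hp : ∀ j, (p j : Set X) ⊆ Y := by
    intro j
    have h1 : p j ≤ p.last := p.strictMono.monotone (Fin.le_last j)
    have h2 : p.last = W := RelSeries.last_snoc _ _ _
    rw [h2] at h1
    exact (show (p j : Set X) ⊆ closure {x} from h1).trans hxcl
  have h3 := length_le_of_forall_subset Y p hp
  have h4 : p.length = q.length + 1 := by simp [p, q']
  rw [h4] at h3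
  exact_mod_cast h3

end Dim

section Rank

variable {X : Scheme.{u}}

open Groth.Agent.Lib.Helper21.ModTensor5 in
/-- `E ⊗ -` is left exact for `E` finite locally free -/
theorem preservesFiniteLimits_tensorLeftF_of_locFree (E : X.Modules) (hE : FlatMod.IsFinLocFree E) :
    PreservesFiniteLimits (tensorLeftF E) := by
  haveI : PreservesFiniteLimits (tensorRightF E) :=
    (Groth.Agent.Lib.Helper1.StalkTensor.modSite_isFlat_of_isFlat E
      (Groth.Agent.Lib.Helper1.Sky.isFlat_of_isFinLocFree' E hE)).1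
  exact preservesFiniteLimits_of_natIso ((brd X.sheaf).app E).symm

/-- `E ⊗ F` is coherent for `E` finite locally free and `F` coherent -/
theorem isCoh_tensorMod_of_locFree (E F : X.Modules) (hE : FlatMod.IsFinLocFree E) (hF : Coh.IsCoh F) :
    Coh.IsCoh (CohB1.tensorMod E F) := by
  have hfp := Groth.Agent.Lib.Helper2.LocFree.isFP_of_isFinLocFree E hE
  have : F.IsQuasicoherent := hF.1
  have : SheafOfModules.IsFiniteType (R := X.ringCatSheaf) F := hF.2
  have : E.IsQuasicoherent := Groth.Agent.Helper18Strict.isQCoh_of_isFP E hfp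
  have : SheafOfModules.IsFiniteType (R := X.ringCatSheaf) E :=
    Groth.Agent.Helper18Strict.isFT_of_isFP E hfp
  exact ⟨Groth.Agent.Lib.Helper23.TensorQCoh.isQuasicoherent_tensorMod E F,
    Groth.Agent.Lib.Helper23.TensorQCoh.isFiniteType_tensorMod E F⟩

/-- `(E ⊗ G)|_D ≅ (G^e)|_D` when `E|_D ≅ O_D^e` -/
noncomputable def restrictTensorFreeIso (E G : X.Modules) (e : ℕ) (D : X.Opens)
    (ε : E.restrict D.ι ≅ FlatMod.freeMod (↑D : Scheme.{u}) e) :
    (ρ D).obj (CohB1.tensorMod E G) ≅ (ρ D).obj (∐ fun _ : Fin e => G) :=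
  Groth.Agent.Lib.Helper23.RestrTensor.restrictTensorIso E G D.ι ≪≫
    (PicGrp.tensorModIso ε (Iso.refl (G.restrict D.ι)) ≪≫
      (tensorCoprodIso (G.restrict D.ι) (fun _ : Fin e => Coh.structureModule (↑D : Scheme.{u})) ≪≫
        (Sigma.mapIso (fun _ : Fin e => tensorModUnitIso (G.restrict D.ι)) ≪≫
          (PreservesCoproduct.iso (ρ D) (fun _ : Fin e => G)).symm)))

theorem isZero_sigma_of_isZero {A : Type u} [Category.{v} A] [Abelian A] {Z : A} (hZ : IsZero Z) (e : ℕ) :
    IsZero (∐ fun _ : Fin e => Z) := by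
  rw [IsZero.iff_id_eq_zero]
  exact Sigma.hom_ext _ _ fun i => hZ.eq_of_src _ _

/-- finite powers preserve vanishing on opens -/
theorem vanOn_sigma (G : X.Modules) (e : ℕ) (W : X.Opens) (h : VanOn G W) :
    VanOn (∐ fun _ : Fin e => G) W := by
  have h1 : IsZero ((ρ W).obj G) := isZero_restrict_of_vanOn W.ι G (by rwa [Scheme.Opens.opensRange_ι])
  have h3 : IsZero ((ρ W).obj (∐ fun _ : Fin e => G)) :=
    (isZero_sigma_of_isZero h1 e).of_iso (PreservesCoproduct.iso (ρ W) (fun _ : Fin e => G))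
  have := vanOn_of_isZero_restrict W.ι _ h3
  rwa [Scheme.Opens.opensRange_ι] at this

end Rank

section Main

variable {X : Scheme.{u}} [IsNoetherian X]

/-- a homomorphism sending the generators `[i_* O_Z]`, `Z` integral with generic point in `T`, into `KT T'` sends
`KT T` into `KT T'` -/
theorem map_mem_KT_of_gen (Φ : K0sub (cohP X) →+ K0sub (cohP X)) {T T' : Set X}
    (h : ∀ (Z : Scheme.{u}) (i : Z ⟶ X) [IsClosedImmersion i] [IsIntegral Z], i (genericPoint Z) ∈ T →
      Φ (clSub (cohP X) ((Scheme.Modules.pushforward i).obj (Coh.structureModule Z))) ∈ KT T')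
    {y : K0sub (cohP X)} (hy : y ∈ KT T) : Φ y ∈ KT T' := by
  have h1 : AddSubgroup.closure (intGen T) ≤ (KT T').comap Φ := by
    rw [AddSubgroup.closure_le]
    rintro _ ⟨Z, i, h1, h2, hm, rfl⟩
    exact h Z i hm
  have h2 : KT T ≤ (KT T').comap Φ := by
    unfold KT
    rw [AddSubgroup.closure_le]
    rintro _ ⟨F, hF, hs, rfl⟩
    exact h1 (AddSubgroup.closure_mono (intGen_mono hs) (clSub_mem_closure_intGen F hF))
  exact h2 hy

/-- comparison on a generator `G = i_* O_Z`: two coherent modules vanishing where `G` does and isomorphic near the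
generic point have the same class modulo proper specializations -/
theorem sub_mem_KT_gen {T T' : Set X} (hTT' : ∀ x ∈ T, ∀ y : X, x ⤳ y → y ≠ x → y ∈ T')
    {Z : Scheme.{u}} (i : Z ⟶ X) [IsClosedImmersion i] [IsIntegral Z] (hξ : i (genericPoint Z) ∈ T)
    (AG BG : X.Modules) (hA : Coh.IsCoh AG) (hB : Coh.IsCoh BG)
    (hloc : ∃ D : X.Opens, i (genericPoint Z) ∈ D ∧ Nonempty ((ρ D).obj AG ≅ (ρ D).obj BG))
    (hvA : ∀ W : X.Opens, VanOn ((Scheme.Modules.pushforward i).obj (Coh.structureModule Z)) W → VanOn AG W)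
    (hvB : ∀ W : X.Opens, VanOn ((Scheme.Modules.pushforward i).obj (Coh.structureModule Z)) W → VanOn BG W) :
    clSub (cohP X) AG - clSub (cohP X) BG ∈ KT T' := by
  obtain ⟨D, hξD, ⟨θ⟩⟩ := hloc
  let W₁ : X.Opens := ⟨(Set.range i)ᶜ, i.isClosedEmbedding.isClosed_range.isOpen_compl⟩
  have hW : i ⁻¹ᵁ W₁ = ⊥ := by
    ext z
    simp [W₁]
  have hGW := vanOn_push_of_preimage_eq_bot i (Coh.structureModule Z) W₁ hW
  refine sub_mem_KT_of_restrict_iso hA hB D W₁ θ.symm (hvA W₁ hGW) (hvB W₁ hGW) ?_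
  intro x hxD hxW
  have hxr : x ∈ Set.range i := by
    by_contra h
    exact hxW h
  obtain ⟨z, rfl⟩ := hxr
  have hne : i z ≠ i (genericPoint Z) := fun h => hxD (h ▸ hξD)
  exact hTT' _ hξ (i z) ((genericPoint_specializes z).map i.continuous) hne

theorem isCoh_biprod' {M N : X.Modules} (hM : Coh.IsCoh M) (hN : Coh.IsCoh N) : Coh.IsCoh (M ⊞ N) := by
  haveI := hM.1
  haveI := hN.1
  haveI : SheafOfModules.IsFiniteType (R := X.ringCatSheaf) M := hM.2
  haveI : SheafOfModules.IsFiniteType (R := X.ringCatSheaf) N := hN.2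
  exact ⟨Groth.Agent.Lib.Helper23.QCohLocal.isQuasicoherent_biprod M N,
    Groth.Agent.Lib.Helper23.FTsub.isFiniteType_biprod M N⟩

theorem isCoh_and_clSub_sigma (G : X.Modules) (hG : Coh.IsCoh G) (e : ℕ) :
    Coh.IsCoh (∐ fun _ : Fin e => G) ∧
      clSub (cohP X) (∐ fun _ : Fin e => G) = e • clSub (cohP X) G := by
  have h := prop_and_clSub_sigma_fin (cohP X) (fun M N hM hN => by
    refine ⟨isCoh_biprod' hM hN, ?_⟩
    let S : ShortComplex X.Modules := ShortComplex.mk (biprod.inl : M ⟶ M ⊞ N) biprod.snd (by simp)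
    have hS : S.ShortExact :=
      { exact := (ShortComplex.Splitting.ofHasBinaryBiproduct M N).exact
        mono_f := by dsimp [S]; infer_instance
        epi_g := by dsimp [S]; infer_instance }
    exact clSub_shortExact (cohP X) S hS hM (isCoh_biprod' hM hN) hN) e (fun _ => G) (fun _ => hG)
  refine ⟨h.1, ?_⟩
  rw [h.2, Finset.sum_const, Finset.card_univ, Fintype.card_fin]

/-- **`[E ⊗ F] - e [F]` lives on proper specializations of the support of `F`** -/
theorem tensor_sub_rank_mem (E : X.Modules) (e : ℕ) (hE : FlatMod.IsFinLocFreeOfRank e E)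
    (F : X.Modules) (hF : Coh.IsCoh F) :
    clSub (cohP X) (CohB1.tensorMod E F) - e • clSub (cohP X) F ∈
      KT {y : X | ∃ x ∈ CohB1.support F, x ⤳ y ∧ y ≠ x} := by
  have hE' : FlatMod.IsFinLocFree E := fun x => by
    obtain ⟨U, hx, h⟩ := hE x
    exact ⟨U, e, hx, h⟩
  haveI := preservesFiniteLimits_tensorLeftF_of_locFree E hE'
  let tE : K0sub (cohP X) →+ K0sub (cohP X) :=
    SGA6.mapSub (tensorLeftF E) (cohP X) (cohP X) (fun G hG => isCoh_tensorMod_of_locFree E G hE' hG)
  let Φ : K0sub (cohP X) →+ K0sub (cohP X) := tE - e • AddMonoidHom.id _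
  have key := map_mem_KT_of_gen Φ (T := CohB1.support F)
    (T' := {y : X | ∃ x ∈ CohB1.support F, x ⤳ y ∧ y ≠ x}) (fun Z i _ _ hm => by
      have hG : Coh.IsCoh ((Scheme.Modules.pushforward i).obj (Coh.structureModule Z)) :=
        isCoh_push_structure i
      obtain ⟨hc, hcl⟩ := isCoh_and_clSub_sigma _ hG e
      change tE _ - e • clSub (cohP X) _ ∈ _
      rw [show tE (clSub (cohP X) ((Scheme.Modules.pushforward i).obj (Coh.structureModule Z))) =
        clSub (cohP X) (CohB1.tensorMod E ((Scheme.Modules.pushforward i).obj (Coh.structureModule Z))) from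
        mapSub_clSub (tensorLeftF E) (cohP X) (cohP X) _ hG, ← hcl]
      refine sub_mem_KT_gen (T := CohB1.support F)
        (T' := {y : X | ∃ x ∈ CohB1.support F, x ⤳ y ∧ y ≠ x})
        (fun x hx y hxy hne => ⟨x, hx, hxy, hne⟩) i hm _ _
        (isCoh_tensorMod_of_locFree E _ hE' hG) hc ?_ (fun W h => vanOn_tensorMod E _ W h)
        (fun W h => vanOn_sigma _ e W h)
      obtain ⟨D, hξD, ⟨ε⟩⟩ := hE (i (genericPoint Z))
      exact ⟨D, hξD, ⟨restrictTensorFreeIso E _ e D ε⟩⟩)
    (clSub_mem_KT hF subset_rfl)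
  have hΦ : Φ (clSub (cohP X) F) = clSub (cohP X) (CohB1.tensorMod E F) - e • clSub (cohP X) F := by
    change tE _ - e • clSub (cohP X) F = _
    rw [show tE (clSub (cohP X) F) = clSub (cohP X) (CohB1.tensorMod E F) from
      mapSub_clSub (tensorLeftF E) (cohP X) (cohP X) _ hF]
  rw [← hΦ]
  exact key

end Main

end Groth.Agent.R2.H54.K0Rank
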