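import Mathlib
import Groth.Agent.R2.H54K0Rank
import Groth.Agent.Lib.Helper23StalkLin
import Groth.Agent.Lib.Helper10RedInd
import Groth.Agent.Lib.Helper27BMCohDim
import Groth.Agent.Lib.Helper4DimFormulaAP
import Groth.Prelude.Def_ChowK

/-!
# `[F] ≡ Σ_x length(F_x) [O_{Z(x)}]` modulo smaller supports (helper54)
-/

set_option autoImplicit false
set_option linter.style.haveILetI false
set_option linter.unusedSectionVars false
universe u

open CategoryTheory CategoryTheory.Limits AlgebraicGeometry TopologicalSpace Opposite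

namespace Groth.Agent.R2.H54.K0Len

open KZero Groth.Agent.R2.H54.K0Dev Groth.Agent.R2.H54.K0Loc Groth.Agent.R2.H5.CohThick
  Groth.Agent.R2.H12.Dev Groth.Agent.R2.H54.K0Dim Groth.Agent.R2.H54.K0Filt Groth.Agent.Lib.Helper17.K0a
  Groth.Agent.R2.H54.K0Rank Groth.Agent.Lib.Helper4.NormDelta Groth.Agent.Lib.Helper23.StalkLin

variable {X : Scheme.{u}}

/-- the length of the stalk of `M` at `x` -/
noncomputable def len (M : X.Modules) (x : X) : ℕ∞ :=
  Module.length (X.presheaf.stalk x) (M.presheaf.stalk x)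

theorem len_add (S : ShortComplex X.Modules) (hS : S.ShortExact) (x : X) :
    len S.X₂ x = len S.X₁ x + len S.X₃ x := by
  haveI := hS.mono_f
  haveI := hS.epi_g
  exact Module.length_eq_add_of_exact (stalkLin S.f x) (stalkLin S.g x) (stalkLin_injective S.f x)
    (stalkLin_surjective S.g x) (stalkLin_exact S hS x)

theorem len_eq_zero_of_not_mem_support {M : X.Modules} {x : X} (hx : x ∉ CohB1.support M) : len M x = 0 := by
  have : Subsingleton (M.presheaf.stalk x) := by
    by_contra h
    exact hx h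
  exact Module.length_eq_zero

theorem mem_support_of_len_ne_zero {M : X.Modules} {x : X} (hx : len M x ≠ 0) : x ∈ CohB1.support M := by
  by_contra h
  exact hx (len_eq_zero_of_not_mem_support h)

theorem len_eq_one_of_isSimpleModule {M : X.Modules} {x : X}
    (h : IsSimpleModule (X.presheaf.stalk x) (M.presheaf.stalk x)) : len M x = 1 :=
  Module.length_eq_one _ _

section Good

variable (n : ℕ)

/-- the dimension of the closure of a point -/
noncomputable abbrev dimcl (x : X) : WithBot ℕ∞ := topologicalKrullDim ↥(closure ({x} : Set X))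

/-- the subgroup generated by the coherent modules with support of dimension `< n` -/
noncomputable def Flt : AddSubgroup (K0sub (cohP X)) :=
  AddSubgroup.closure {c | ∃ G : X.Modules, Coh.IsCoh G ∧
    topologicalKrullDim ↥(CohB1.support G) < n ∧ c = clSub (cohP X) G}

open Classical in
/-- the cycle class `Σ_x length(M_x) [O_{Z(x)}]`, over the points whose closure has dimension `n` -/
noncomputable def cyc (M : X.Modules) : K0sub (cohP X) :=
  finsum fun x : X => if dimcl x = n then
    (len M x).toNat • clSub (cohP X) (Cyc.closureStructureSheaf x) else 0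

/-- finiteness part -/
structure Fin0 (M : X.Modules) : Prop where
  fin : ∀ x : X, dimcl x = n → len M x ≠ ⊤
  supp : {x : X | dimcl x = (n : WithBot ℕ∞) ∧ len M x ≠ 0}.Finite

theorem Fin0.support_finite {M : X.Modules} (h : Fin0 n M) :
    (Function.support fun x : X => if dimcl x = n then
      (len M x).toNat • clSub (cohP X) (Cyc.closureStructureSheaf x) else 0).Finite := by
  refine h.supp.subset fun x hx => ?_
  rw [Function.mem_support] at hx
  by_cases hd : dimcl x = n
  · rw [if_pos hd] at hx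
    refine ⟨hd, fun h0 => hx ?_⟩
    rw [h0]
    simp
  · rw [if_neg hd] at hx
    exact absurd rfl hx

theorem fin0_of_ses (S : ShortComplex X.Modules) (hS : S.ShortExact) :
    Fin0 n S.X₂ ↔ Fin0 n S.X₁ ∧ Fin0 n S.X₃ := by
  constructor
  · intro h
    refine ⟨⟨fun x hx h1 => h.fin x hx ?_, h.supp.subset fun x hx => ⟨hx.1, fun h0 => hx.2 ?_⟩⟩,
      ⟨fun x hx h1 => h.fin x hx ?_, h.supp.subset fun x hx => ⟨hx.1, fun h0 => hx.2 ?_⟩⟩⟩
    · rw [len_add S hS x, h1, top_add]
    · rw [len_add S hS x] at h0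
      exact (add_eq_zero.1 h0).1
    · rw [len_add S hS x, h1, add_top]
    · rw [len_add S hS x] at h0
      exact (add_eq_zero.1 h0).2
  · rintro ⟨h1, h3⟩
    refine ⟨fun x hx => ?_, (h1.supp.union h3.supp).subset fun x hx => ?_⟩
    · rw [len_add S hS x]
      exact WithTop.add_ne_top.2 ⟨h1.fin x hx, h3.fin x hx⟩
    · by_cases h0 : len S.X₁ x = 0
      · right
        refine ⟨hx.1, fun h0' => hx.2 ?_⟩
        rw [len_add S hS x, h0, h0', add_zero]
      · left
        exact ⟨hx.1, h0⟩

theorem cyc_add (S : ShortComplex X.Modules) (hS : S.ShortExact) (h1 : Fin0 n S.X₁) (h3 : Fin0 n S.X₃) :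
    cyc n S.X₂ = cyc n S.X₁ + cyc n S.X₃ := by
  unfold cyc
  rw [← finsum_add_distrib (h1.support_finite n) (h3.support_finite n)]
  congr 1
  funext x
  by_cases hd : dimcl x = n
  · rw [if_pos hd, if_pos hd, if_pos hd, len_add S hS x, ENat.toNat_add (h1.fin x hd) (h3.fin x hd), add_smul]
  · rw [if_neg hd, if_neg hd, if_neg hd, add_zero]

/-- the property proved by devissage -/
structure Good [IsNoetherian X] (M : X.Modules) : Prop extends Fin0 n M where
  mem : clSub (cohP X) M - cyc n M ∈ Flt (X := X) n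

theorem good_two_of_three [IsNoetherian X] (S : ShortComplex X.Modules) (hS : S.ShortExact)
    (h₁ : Coh.IsCoh S.X₁) (h₂ : Coh.IsCoh S.X₂) (h₃ : Coh.IsCoh S.X₃) :
    (Good n S.X₁ → Good n S.X₃ → Good n S.X₂) ∧ (Good n S.X₁ → Good n S.X₂ → Good n S.X₃) ∧
      (Good n S.X₂ → Good n S.X₃ → Good n S.X₁) := by
  have hcl := clSub_shortExact (cohP X) S hS h₁ h₂ h₃
  refine ⟨fun g1 g3 => ?_, fun g1 g2 => ?_, fun g2 g3 => ?_⟩
  · have hf : Fin0 n S.X₂ := (fin0_of_ses n S hS).2 ⟨g1.toFin0, g3.toFin0⟩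
    refine ⟨hf, ?_⟩
    rw [cyc_add n S hS g1.toFin0 g3.toFin0, hcl]
    have : clSub (cohP X) S.X₁ + clSub (cohP X) S.X₃ - (cyc n S.X₁ + cyc n S.X₃) =
        (clSub (cohP X) S.X₁ - cyc n S.X₁) + (clSub (cohP X) S.X₃ - cyc n S.X₃) := by abel
    rw [this]
    exact (Flt n).add_mem g1.mem g3.mem
  · obtain ⟨hf1, hf3⟩ := (fin0_of_ses n S hS).1 g2.toFin0
    refine ⟨hf3, ?_⟩
    have hc := cyc_add n S hS hf1 hf3
    have : clSub (cohP X) S.X₃ - cyc n S.X₃ =
        (clSub (cohP X) S.X₂ - cyc n S.X₂) - (clSub (cohP X) S.X₁ - cyc n S.X₁) := by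
      rw [hc, hcl]; abel
    rw [this]
    exact (Flt n).sub_mem g2.mem g1.mem
  · obtain ⟨hf1, hf3⟩ := (fin0_of_ses n S hS).1 g2.toFin0
    refine ⟨hf1, ?_⟩
    have hc := cyc_add n S hS hf1 hf3
    have : clSub (cohP X) S.X₁ - cyc n S.X₁ =
        (clSub (cohP X) S.X₂ - cyc n S.X₂) - (clSub (cohP X) S.X₃ - cyc n S.X₃) := by
      rw [hc, hcl]; abel
    rw [this]
    exact (Flt n).sub_mem g2.mem g3.mem

end Good

section Pt

open Groth.Agent.Lib.Helper10.RedInd

/-- the reduced closure of a point -/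
noncomputable abbrev Zpt (ξ : X) : Scheme.{u} := (IntMult.ptIdeal ξ).subscheme

/-- its closed immersion -/
noncomputable abbrev ipt (ξ : X) : Zpt ξ ⟶ X := (IntMult.ptIdeal ξ).subschemeι

theorem range_ipt (ξ : X) : Set.range (ipt ξ) = closure {ξ} := by
  rw [Scheme.IdealSheafData.range_subschemeι]
  simp [IntMult.ptIdeal]

theorem exists_ipt_eq (ξ : X) : ∃ z : Zpt ξ, ipt ξ z = ξ := by
  have h : ξ ∈ Set.range (ipt ξ) := by
    rw [range_ipt]
    exact subset_closure rfl
  exact h

theorem mem_of_isOpen_of_nonempty (ξ : X) (z₀ : Zpt ξ) (hz₀ : ipt ξ z₀ = ξ) (U : Set (Zpt ξ)) (hU : IsOpen U)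
    (hne : U.Nonempty) : z₀ ∈ U := by
  obtain ⟨U', hU', rfl⟩ := (ipt ξ).isEmbedding.isInducing.isOpen_iff.1 hU
  obtain ⟨z, hz⟩ := hne
  have h1 : ipt ξ z ∈ closure ({ξ} : Set X) := by
    rw [← range_ipt]
    exact ⟨z, rfl⟩
  have h2 : ξ ⤳ ipt ξ z := specializes_iff_mem_closure.2 h1
  have h3 : ξ ∈ U' := h2.mem_open hU' hz
  change ipt ξ z₀ ∈ U'
  rw [hz₀]
  exact h3

instance irreducibleSpace_Zpt (ξ : X) : IrreducibleSpace (Zpt ξ) := by
  obtain ⟨z₀, hz₀⟩ := exists_ipt_eq ξ
  haveI : Nonempty (Zpt ξ) := ⟨z₀⟩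
  haveI : PreirreducibleSpace (Zpt ξ) := by
    refine ⟨?_⟩
    intro U V hU hV hUn hVn
    obtain ⟨a, -, ha⟩ := hUn
    obtain ⟨b, -, hb⟩ := hVn
    exact ⟨z₀, trivial, mem_of_isOpen_of_nonempty ξ z₀ hz₀ U hU ⟨a, ha⟩,
      mem_of_isOpen_of_nonempty ξ z₀ hz₀ V hV ⟨b, hb⟩⟩
  exact { toNonempty := ⟨z₀⟩ }

instance isReduced_Zpt (ξ : X) : IsReduced (Zpt ξ) :=
  isReduced_subscheme_vanishingIdeal _

instance isIntegral_Zpt (ξ : X) : IsIntegral (Zpt ξ) :=
  isIntegral_of_irreducibleSpace_of_isReduced _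

theorem ipt_genericPoint (ξ : X) : ipt ξ (genericPoint (Zpt ξ)) = ξ := by
  obtain ⟨z₀, hz₀⟩ := exists_ipt_eq ξ
  have hgen : IsGenericPoint z₀ (⊤ : Set (Zpt ξ)) := by
    rw [isGenericPoint_def]
    apply Set.eq_univ_of_forall
    intro z
    rw [mem_closure_iff]
    intro U hU hzU
    exact ⟨z₀, mem_of_isOpen_of_nonempty ξ z₀ hz₀ U hU ⟨z, hzU⟩, rfl⟩
  have : genericPoint (Zpt ξ) = z₀ := ((genericPoint_spec (Zpt ξ)).eq hgen)
  rw [this, hz₀]

end Pt

section Main

variable [IsNoetherian X] (n : ℕ)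

open Groth.Agent.Lib.Helper27BMCoh Groth.Agent.Lib.Helper4.DimFormula

theorem isCoh_closureStructureSheaf (ξ : X) : Coh.IsCoh (Cyc.closureStructureSheaf ξ) :=
  isCoh_push_structure (ipt ξ)

theorem support_closureStructureSheaf_subset (ξ : X) :
    CohB1.support (Cyc.closureStructureSheaf ξ) ⊆ closure {ξ} := by
  intro x hx
  by_contra hxr
  apply hx
  have hW : (ipt ξ) ⁻¹ᵁ ⟨(closure {ξ})ᶜ, isClosed_closure.isOpen_compl⟩ = ⊥ := by
    ext z
    have : ipt ξ z ∈ closure ({ξ} : Set X) := by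
      rw [← range_ipt]
      exact ⟨z, rfl⟩
    simpa using this
  exact subsingleton_stalk_of_vanOn (vanOn_push_of_preimage_eq_bot (ipt ξ) _ _ hW) x hxr

theorem isSimpleModule_stalk_closureStructureSheaf (ξ : X) :
    IsSimpleModule (X.presheaf.stalk ξ) ((Cyc.closureStructureSheaf ξ).presheaf.stalk ξ) := by
  have h := isSimpleModule_stalk_push_structureModule (ipt ξ)
  have hη := ipt_genericPoint ξ
  change IsSimpleModule (X.presheaf.stalk (ipt ξ (genericPoint (Zpt ξ))))
    ((Cyc.closureStructureSheaf ξ).presheaf.stalk (ipt ξ (genericPoint (Zpt ξ)))) at h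
  rwa [hη] at h

theorem not_mem_closure_of_dimcl {ξ x : X} (hx : dimcl x = n) (hξ : dimcl ξ ≤ n) (hne : x ≠ ξ) :
    x ∉ closure ({ξ} : Set X) := by
  intro hmem
  have hξx : ξ ∉ closure ({x} : Set X) := by
    intro h2
    exact hne ((specializes_iff_mem_closure.2 h2).antisymm (specializes_iff_mem_closure.2 hmem)).eq
  have h1 := krullDim_closure_add_one_le hmem hξx
  have h2 : (n : WithBot ℕ∞) + 1 ≤ n := by
    have := h1.trans hξ
    rwa [show topologicalKrullDim ↥(closure ({x} : Set X)) = n from hx] at this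
  have h3 : ((n + 1 : ℕ) : WithBot ℕ∞) ≤ (n : ℕ) := by exact_mod_cast h2
  have h4 : n + 1 ≤ n := by exact_mod_cast h3
  omega

theorem len_closureStructureSheaf_of_ne {ξ x : X} (hx : dimcl x = n) (hξ : dimcl ξ ≤ n) (hne : x ≠ ξ) :
    len (Cyc.closureStructureSheaf ξ) x = 0 :=
  len_eq_zero_of_not_mem_support fun h =>
    not_mem_closure_of_dimcl n hx hξ hne (support_closureStructureSheaf_subset ξ h)

theorem len_closureStructureSheaf_self (ξ : X) : len (Cyc.closureStructureSheaf ξ) ξ = 1 :=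
  len_eq_one_of_isSimpleModule (isSimpleModule_stalk_closureStructureSheaf ξ)

theorem good_closureStructureSheaf (ξ : X) (hξ : dimcl ξ ≤ n) : Good n (Cyc.closureStructureSheaf ξ) := by
  refine ⟨⟨fun x hx => ?_, (Set.finite_singleton ξ).subset fun x hx => ?_⟩, ?_⟩
  · by_cases hne : x = ξ
    · rw [hne, len_closureStructureSheaf_self]
      exact ENat.one_ne_top
    · rw [len_closureStructureSheaf_of_ne n hx hξ hne]
      exact ENat.zero_ne_top
  · by_contra hne
    exact hx.2 (len_closureStructureSheaf_of_ne n hx.1 hξ hne)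
  · by_cases hd : dimcl ξ = n
    · have hc : cyc n (Cyc.closureStructureSheaf ξ) = clSub (cohP X) (Cyc.closureStructureSheaf ξ) := by
        unfold cyc
        rw [finsum_eq_single _ ξ (fun x hne => by
          by_cases hx : dimcl x = n
          · rw [if_pos hx, len_closureStructureSheaf_of_ne n hx hξ hne]
            simp
          · rw [if_neg hx]), if_pos hd, len_closureStructureSheaf_self]
        simp
      rw [hc, sub_self]
      exact (Flt n).zero_mem
    · have hc : cyc n (Cyc.closureStructureSheaf ξ) = 0 := by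
        unfold cyc
        apply finsum_eq_zero_of_forall_eq_zero
        intro x
        by_cases hx : dimcl x = n
        · have hne : x ≠ ξ := fun h => hd (h ▸ hx)
          rw [if_pos hx, len_closureStructureSheaf_of_ne n hx hξ hne]
          simp
        · rw [if_neg hx]
      rw [hc, sub_zero]
      refine AddSubgroup.subset_closure ⟨_, isCoh_closureStructureSheaf ξ, ?_, rfl⟩
      exact lt_of_le_of_lt (topologicalKrullDim_mono_subset (support_closureStructureSheaf_subset ξ))
        (lt_of_le_of_ne hξ hd)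

theorem len_eq_of_iso {M N : X.Modules} (e : M ≅ N) (x : X) : len M x = len N x :=
  (LinearEquiv.ofBijective (stalkLin e.hom x)
    ⟨stalkLin_injective e.hom x, stalkLin_surjective e.hom x⟩).length_eq

theorem good_of_iso {M N : X.Modules} (e : M ≅ N) (h : Good n M) : Good n N := by
  have hl : ∀ x, len M x = len N x := len_eq_of_iso e
  have hc : cyc n M = cyc n N := by
    unfold cyc
    congr 1
    funext x
    rw [hl x]
  have hcl : clSub (cohP X) M = clSub (cohP X) N := by
    by_cases hM : Coh.IsCoh M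
    · exact clSub_of_iso (cohP X) e hM
    · have hN : ¬ Coh.IsCoh N := fun h => hM ((cohP X).prop_of_iso e.symm h)
      classical
      unfold clSub
      rw [dif_neg hM, dif_neg hN]
  refine ⟨⟨fun x hx => ?_, ?_⟩, ?_⟩
  · rw [← hl x]
    exact h.fin x hx
  · have : {x : X | dimcl x = (n : WithBot ℕ∞) ∧ len N x ≠ 0} =
        {x : X | dimcl x = (n : WithBot ℕ∞) ∧ len M x ≠ 0} := by
      ext x
      simp only [Set.mem_ofPred_eq, hl x]
    rw [this]
    exact h.supp
  · rw [← hc, ← hcl]
    exact h.mem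

theorem good_of_isZero {M : X.Modules} (h : IsZero M) : Good n M := by
  have hl : ∀ x, len M x = 0 := fun x => by
    haveI := subsingleton_stalk_of_vanOn (vanOn_of_isZero h ⊤) x trivial
    exact Module.length_eq_zero
  have hc : cyc n M = 0 := by
    unfold cyc
    apply finsum_eq_zero_of_forall_eq_zero
    intro x
    rw [hl x]
    simp
  refine ⟨⟨fun x _ => ?_, ?_⟩, ?_⟩
  · rw [hl x]
    exact ENat.zero_ne_top
  · have : {x : X | dimcl x = (n : WithBot ℕ∞) ∧ len M x ≠ 0} = ∅ := by
      ext x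
      simp [hl x]
    rw [this]
    exact Set.finite_empty
  · rw [hc, sub_zero, clSub_of_isZero (cohP X) h]
    exact (Flt n).zero_mem

/-- **`[F] ≡ Σ_x length(F_x) [O_{Z(x)}]` modulo supports of dimension `< n`** -/
theorem good_of_dim_le (F : X.Modules) (hF : Coh.IsCoh F)
    (hsupp : topologicalKrullDim ↥(CohB1.support F) ≤ n) : Good n F := by
  refine devissage_core_simple (Good n) (fun M N ⟨e⟩ h => good_of_iso n e h)
    (fun S hS h₁ h₂ h₃ => good_two_of_three n S hS h₁ h₂ h₃) (fun M hM => good_of_isZero n hM)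
    (suppCompl F hF) ?_ F hF (vanOn_suppCompl F hF)
  intro Z i _ _ hiW
  have hmem : i (genericPoint Z) ∈ CohB1.support F := by
    by_contra hmem
    have h1 : genericPoint Z ∈ i ⁻¹ᵁ (suppCompl F hF) := hmem
    rw [hiW] at h1
    exact absurd h1 (by simp)
  have hclF : IsClosed (CohB1.support F) := Groth.Agent.S0020.result X F hF.2
  have hsub : closure ({i (genericPoint Z)} : Set X) ⊆ CohB1.support F :=
    closure_minimal (Set.singleton_subset_iff.2 hmem) hclF
  have hξ : dimcl (i (genericPoint Z)) ≤ n := (topologicalKrullDim_mono_subset hsub).trans hsupp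
  refine ⟨Cyc.closureStructureSheaf (i (genericPoint Z)), isCoh_closureStructureSheaf _, ?_,
    isSimpleModule_stalk_closureStructureSheaf _, good_closureStructureSheaf n _ hξ⟩
  refine (support_closureStructureSheaf_subset _).trans ?_
  exact closure_minimal (Set.singleton_subset_iff.2 ⟨_, rfl⟩) i.isClosedEmbedding.isClosed_range

end Main

end Groth.Agent.R2.H54.K0Len
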