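import Mathlib
import Groth.Agent.R2.H54Deligne

/-!
# `I · f_* F = f_* ((f⁻¹ I) · F)` for an affine morphism (helper54; = frozen `S9523`)

helper55's `R2/H55PushIdeal.pushKernelLift` is the inclusion `f_* ((I.comap f) · F) ⊆ I · f_* F`; here we show that it is
an isomorphism, by comparing sections over affine opens.
-/

set_option autoImplicit false
set_option linter.style.haveILetI false
universe u

open CategoryTheory CategoryTheory.Limits AlgebraicGeometry TopologicalSpace Opposite

namespace Groth.Agent.R2.H54.PushIdealEq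

open Groth.Agent.R2.H12.IdealMul Groth.Agent.R2.H54.Deligne Groth.Agent.R2.H55.PushIdeal
  Groth.Agent.Lib.Helper23.QCohLocal

theorem idealMul_pushforward_iso {Y X : Scheme.{u}} (f : Y ⟶ X) [IsAffineHom f]
    (F : Y.Modules) (hF : Coh.IsQCoh F) (I : X.IdealSheafData) :
    ∃ e : (Dual3.idealMul I).obj ((Scheme.Modules.pushforward f).obj F) ≅
        (Scheme.Modules.pushforward f).obj ((Dual3.idealMul (I.comap f)).obj F),
      e.hom ≫ (Scheme.Modules.pushforward f).map (Dual3.idealMulι (I.comap f) F) =
        Dual3.idealMulι I ((Scheme.Modules.pushforward f).obj F) := by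
  haveI : F.IsQuasicoherent := hF
  haveI hpq : ((Scheme.Modules.pushforward f).obj F).IsQuasicoherent := isQuasicoherent_pushforward f F
  haveI hmono : Mono ((Scheme.Modules.pushforward f).map (Dual3.idealMulι (I.comap f) F)) := inferInstance
  obtain ⟨t, ht⟩ := exists_factor_of_range_le (Dual3.idealMulι I ((Scheme.Modules.pushforward f).obj F))
    ((Scheme.Modules.pushforward f).map (Dual3.idealMulι (I.comap f) F)) (fun V hV a => by
      have hV' : IsAffineOpen (f ⁻¹ᵁ V) := hV.preimage f
      have h1 := (mem_range_idealMulι_app_iff I ((Scheme.Modules.pushforward f).obj F) ⟨V, hV⟩ _).1 ⟨a, rfl⟩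
      rw [Scheme.Modules.pushforward_map_app]
      refine (mem_range_idealMulι_app_iff (I.comap f) F ⟨f ⁻¹ᵁ V, hV'⟩ _).2 ?_
      rw [Groth.Agent.Lib.Helper20.EffCartier.ideal_comap_eq_map f I hV' hV le_rfl, Scheme.Hom.appLE_eq_app]
      refine Submodule.smul_induction_on h1 (fun r hr n _ => ?_) (fun x y hx hy => ?_)
      · have h2 : (r • n : Γ((Scheme.Modules.pushforward f).obj F, V)) =
            ((f.app V).hom r • (show Γ(F, f ⁻¹ᵁ V) from n) : Γ(F, f ⁻¹ᵁ V)) :=
          Groth.Agent.Lib.Helper2.Push.pushforward_smul f F V r n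
        rw [h2]
        exact Submodule.smul_mem_smul (Ideal.mem_map_of_mem _ hr) Submodule.mem_top
      · exact Submodule.add_mem _ hx hy)
  obtain ⟨l, hl⟩ : ∃ l : (Scheme.Modules.pushforward f).obj ((Dual3.idealMul (I.comap f)).obj F) ⟶
      (Dual3.idealMul I).obj ((Scheme.Modules.pushforward f).obj F),
      l ≫ Dual3.idealMulι I ((Scheme.Modules.pushforward f).obj F) =
        (Scheme.Modules.pushforward f).map (Dual3.idealMulι (I.comap f) F) :=
    ⟨pushKernelLift f F I, pushKernelLift_ι f F I⟩
  refine ⟨⟨t, l, ?_, ?_⟩, ht⟩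
  · rw [← cancel_mono (Dual3.idealMulι I ((Scheme.Modules.pushforward f).obj F)), Category.assoc, Category.id_comp,
      hl, ht]
  · rw [← cancel_mono ((Scheme.Modules.pushforward f).map (Dual3.idealMulι (I.comap f) F)), Category.assoc,
      Category.id_comp, ht, hl]

end Groth.Agent.R2.H54.PushIdealEq
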