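import Mathlib

/-!
# Linear algebra behind Mumford's regularity bound (helper55)

A `ℤ`-indexed system of finite-dimensional vector spaces `V j` with maps `a : V i → V (i+1)` which are surjective
from `m - 1` on, eventually zero, and such that injectivity propagates (`a` into `V j` injective ⇒ `a` into
`V (j+1)` injective, for `j ≥ m`).  Then `dim V j` is non-increasing from `m - 1` on and
`V j = 0` for `j ≥ m - 1 + dim V (m-1)`.
-/

set_option autoImplicit false
universe u v

namespace Groth.Agent.R2.H55.CMBoundsAlg

open Module

variable {k : Type u} [Field k] (V : ℤ → Type v) [∀ j, AddCommGroup (V j)] [∀ j, Module k (V j)]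
  [∀ j, Module.Finite k (V j)]
  (a : ∀ i j : ℤ, j = i + 1 → (V i →ₗ[k] V j)) (m : ℤ)

include a in
theorem finrank_le
    (hs : ∀ (i j : ℤ) (h : j = i + 1), m - 1 ≤ j → Function.Surjective (a i j h))
    (j : ℤ) (hj : m - 1 ≤ j) : finrank k (V j) ≤ finrank k (V (j - 1)) :=
  LinearMap.finrank_le_finrank_of_surjective (hs (j - 1) j (by ring) hj)

include a in
/-- if all maps from `V (j-1)` on are bijective and the system is eventually zero then it is zero from `j - 1` on. -/
theorem subsingleton_of_bijective (j₀ : ℤ)
    (hb : ∀ (i j : ℤ) (h : j = i + 1), j₀ ≤ j → Function.Injective (a i j h))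
    (hv : ∃ d₀ : ℤ, ∀ j, d₀ ≤ j → Subsingleton (V j)) :
    ∀ j, j₀ - 1 ≤ j → Subsingleton (V j) := by
  obtain ⟨d₀, hd₀⟩ := hv
  have key : ∀ (t : ℕ) (j : ℤ), j₀ - 1 ≤ j → d₀ ≤ j + t → Subsingleton (V j) := by
    intro t
    induction t with
    | zero => intro j _ h; exact hd₀ j (by simpa using h)
    | succ t ih =>
      intro j hj h
      have h1 : Subsingleton (V (j + 1)) := ih (j + 1) (by omega) (by push_cast at h; omega)
      exact (hb j (j + 1) rfl (by omega)).subsingleton
  intro j hj
  exact key (d₀ - j).toNat j hj (by omega)

include a in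
theorem subsingleton_of_le
    (hs : ∀ (i j : ℤ) (h : j = i + 1), m - 1 ≤ j → Function.Surjective (a i j h))
    (hc : ∀ (i j l : ℤ) (h : j = i + 1) (h' : l = j + 1), m ≤ j →
      Function.Injective (a i j h) → Function.Injective (a j l h'))
    (hv : ∃ d₀ : ℤ, ∀ j, d₀ ≤ j → Subsingleton (V j))
    (j : ℤ) (hj : m - 1 + (finrank k (V (m - 1)) : ℤ) ≤ j) : Subsingleton (V j) := by
  -- once one map (into `V j₀`, `j₀ ≥ m`) is injective, all later ones are
  have hprop : ∀ (i₀ j₀ : ℤ) (h₀ : j₀ = i₀ + 1), m ≤ j₀ → Function.Injective (a i₀ j₀ h₀) →
      ∀ (i j : ℤ) (h : j = i + 1), j₀ ≤ j → Function.Injective (a i j h) := by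
    intro i₀ j₀ h₀ hm hinj
    have key : ∀ (t : ℕ) (i j : ℤ) (h : j = i + 1), j = j₀ + t → Function.Injective (a i j h) := by
      intro t
      induction t with
      | zero =>
        intro i j h hj
        have hj' : j = j₀ := by simpa using hj
        subst hj'
        have hi : i = i₀ := by omega
        subst hi
        exact hinj
      | succ t ih =>
        intro i j h hj
        have h1 := ih (i - 1) i (by ring) (by push_cast at hj; omega)
        exact hc (i - 1) i j (by ring) h (by omega) h1
    intro i j h hj
    exact key (j - j₀).toNat i j h (by omega)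
  -- the counting argument
  have count : ∀ t : ℕ, (∀ j, m - 1 + (t : ℤ) ≤ j → Subsingleton (V j)) ∨
      finrank k (V (m - 1 + t)) + t ≤ finrank k (V (m - 1)) := by
    intro t
    induction t with
    | zero =>
      right
      have : (m - 1 + ((0 : ℕ) : ℤ)) = m - 1 := by simp
      rw [this]
      exact le_of_eq (by simp)
    | succ t ih =>
      rcases ih with h | h
      · left
        intro j hj
        exact h j (by push_cast at hj; omega)
      · by_cases hinj : Function.Injective (a (m - 1 + t) (m - 1 + (t + 1 : ℕ)) (by push_cast; ring))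
        · left
          have hall := hprop _ _ _ (by push_cast; omega) hinj
          have := subsingleton_of_bijective V a (m - 1 + (t + 1 : ℕ)) hall hv
          intro j hj
          exact this j (by omega)
        · right
          have hsurj := hs (m - 1 + t) (m - 1 + (t + 1 : ℕ)) (by push_cast; ring) (by push_cast; omega)
          have hrk := LinearMap.finrank_range_add_finrank_ker
            (a (m - 1 + t) (m - 1 + (t + 1 : ℕ)) (by push_cast; ring))
          rw [LinearMap.range_eq_top.2 hsurj, finrank_top] at hrk
          have hker : 0 < finrank k (LinearMap.ker (a (m - 1 + t) (m - 1 + (t + 1 : ℕ)) (by push_cast; ring))) := by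
            rw [Module.finrank_pos_iff]
            by_contra hnt
            rw [not_nontrivial_iff_subsingleton] at hnt
            apply hinj
            rw [← LinearMap.ker_eq_bot]
            exact Submodule.eq_bot_of_subsingleton
          omega
  rcases count (finrank k (V (m - 1))) with h | h
  · exact h j hj
  · have h0 : finrank k (V (m - 1 + (finrank k (V (m - 1)) : ℕ))) = 0 := by omega
    have hz : Subsingleton (V (m - 1 + (finrank k (V (m - 1)) : ℕ))) := Module.finrank_zero_iff.1 h0
    -- propagate along the surjections
    have key : ∀ (t : ℕ) (j' : ℤ), j' = m - 1 + (finrank k (V (m - 1)) : ℕ) + t → Subsingleton (V j') := by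
      intro t
      induction t with
      | zero =>
        intro j' hj'
        have : j' = m - 1 + (finrank k (V (m - 1)) : ℕ) := by simpa using hj'
        rw [this]
        exact hz
      | succ t ih =>
        intro j' hj'
        haveI := ih (j' - 1) (by push_cast at hj'; omega)
        exact (hs (j' - 1) j' (by ring) (by push_cast at hj'; omega)).subsingleton
    exact key (j - (m - 1 + (finrank k (V (m - 1)) : ℕ))).toNat j (by omega)

end Groth.Agent.R2.H55.CMBoundsAlg
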