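import Groth.Agent.R2.H58SerreVanPn
import Groth.Agent.S0844

/-!
# Serre vanishing on `P^n_B`, unconditional (helper58)

`projSpace_serre_vanishing` = the frozen statement S0847 for the polynomial grading over a Noetherian
ring: combine `H58SerreVanPn.projSpace_serre_vanishing_of` with the computation S0844 of the
cohomology of the twisting sheaves.
-/

set_option autoImplicit false
universe u

open CategoryTheory AlgebraicGeometry

namespace Groth.Agent.R2.H58.SerreVanPn

/-- **Serre vanishing on projective space over a Noetherian ring.** -/
theorem projSpace_serre_vanishing (n : ℕ) (B : Type u) [CommRing B] [IsNoetherianRing B]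
    (F : (CohB1.ProjSpace n B).Modules) (hF : Coh.IsCoh F) (p : ℕ) (hp : 0 < p) :
    ∃ d₀ : ℤ, ∀ d : ℤ, d₀ ≤ d →
      Subsingleton (Coh.HH (CohB1.ProjSpace n B)
        (Twist.twistBy (CohB1.polyGrading n B) F d) p) :=
  projSpace_serre_vanishing_of n B
    (fun d hd q hq => Groth.Agent.S0844.result B n d q (by omega) (by omega)) F hF p hp

end Groth.Agent.R2.H58.SerreVanPn
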