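import Groth.Agent.R2.H79TwistCalc
import Groth.Agent.R2.H62CohDelta
import Groth.Agent.R2.H82TwistZero
import Groth.Agent.S0022

/-!
# Castelnuovo–Mumford regularity bookkeeping on `P^n_k` (helper82)

Twisting a short exact sequence by `O(d)` and the long exact cohomology sequence.
-/

set_option autoImplicit false
set_option linter.unusedSectionVars false
set_option linter.unusedVariables false

universe u

open CategoryTheory CategoryTheory.Limits AlgebraicGeometry
open Groth.Agent.R2.H79.TwistCalc Groth.Agent.R2.H62.CohLES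

namespace Groth.Agent.R2.H82.Regularity

variable {X : Scheme.{u}}

/-- middle term of an exact sequence of groups with vanishing outer terms. -/
lemma subsingleton_of_exact {A B C : Type*} [AddCommGroup A] [AddCommGroup B] [AddCommGroup C]
    (f : A →+ B) (g : B →+ C) (h : Function.Exact f g) [Subsingleton A] [Subsingleton C] :
    Subsingleton B := by
  refine ⟨fun x y => ?_⟩
  have hx : g (x - y) = 0 := Subsingleton.elim _ _
  obtain ⟨a, ha⟩ := (h (x - y)).1 hx
  have : a = 0 := Subsingleton.elim _ _
  rw [this, map_zero] at ha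
  exact sub_eq_zero.mp ha.symm

/-- `H^i` of the middle term vanishes if it does for the outer terms. -/
theorem subsingleton_HH_X₂ {S : ShortComplex X.Modules} (hS : S.ShortExact) (i : ℕ)
    (h₁ : Subsingleton (Coh.HH X S.X₁ i)) (h₃ : Subsingleton (Coh.HH X S.X₃ i)) :
    Subsingleton (Coh.HH X S.X₂ i) :=
  subsingleton_of_exact _ _ (exact_f_g hS i)

/-- `H^i` of the cokernel vanishes if `H^i` of the middle term and `H^{i+1}` of the kernel do. -/
theorem subsingleton_HH_X₃ {S : ShortComplex X.Modules} (hS : S.ShortExact) (i : ℕ)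
    (h₂ : Subsingleton (Coh.HH X S.X₂ i)) (h₁ : Subsingleton (Coh.HH X S.X₁ (i + 1))) :
    Subsingleton (Coh.HH X S.X₃ i) :=
  subsingleton_of_exact _ _ (exact_g_δ hS i)

/-- the twisted short exact sequence. -/
theorem shortExact_twist (L : X.Modules) (hL : PicF.IsInvertible L) {S : ShortComplex X.Modules}
    (hS : S.ShortExact) : (S.map (tensorRightF L)).ShortExact :=
  shortExact_map_tensorRightF L hL S hS

/-- the short exact sequence of a monomorphism and its cokernel. -/
theorem shortExact_cokernel {F G : X.Modules} (ι : F ⟶ G) [Mono ι] :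
    (ShortComplex.mk ι (cokernel.π ι) (cokernel.condition ι)).ShortExact :=
  { exact := ShortComplex.exact_cokernel ι }

section Pn

variable (n : ℕ) (k : Type u) [CommRing k]

/-- `(F ⊗ O(a)) ⊗ O(b) ≅ F ⊗ O(c)` for `a + b = c`. -/
theorem nonempty_twist_twist_iso (F : (CohB1.ProjSpace n k).Modules) (a b c : ℤ) (h : a + b = c) :
    Nonempty (CohB1.tensorMod (CohB1.tensorMod F (Twist.twistProjSpace n k a))
      (Twist.twistProjSpace n k b) ≅ CohB1.tensorMod F (Twist.twistProjSpace n k c)) := by
  subst h
  obtain ⟨e⟩ := nonempty_twistProjSpace_tensor_iso n k a b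
  exact ⟨tensorAssocIso F _ _ ≪≫ (tensorRightFCongr e).app F⟩

/-- cohomology of twists of a quasi-coherent module vanishes above `n`. -/
theorem subsingleton_HH_twist_of_lt (F : (CohB1.ProjSpace n k).Modules) (hF : Coh.IsQCoh F) (d : ℤ)
    (i : ℕ) (hi : n < i) :
    Subsingleton (Coh.HH (CohB1.ProjSpace n k) (CohB1.tensorMod F (Twist.twistProjSpace n k d)) i) := by
  have : Coh.IsQCoh (CohB1.tensorMod F (Twist.twistProjSpace n k d)) :=
    isQCoh_tensorMod F _ hF (isInvertible_twistProjSpace n k d)
  exact Groth.Agent.S0022.result n k _ i hi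

end Pn

end Groth.Agent.R2.H82.Regularity
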