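import Mathlib
import Groth.Prelude.Def_Curv2
import Groth.Agent.R2.H55CMBoundsAlg
import Groth.Agent.R2.H82Regularity
import Groth.Agent.R2.H58SerreVanPn2
import Groth.Agent.R2.H58SerreFinPn
import Groth.Agent.R2.H35StalkFFB
import Groth.Agent.R2.H12Dev3A
import Groth.Agent.S0038
import Groth.Agent.R2.H54ProjInv
import Groth.Agent.R2.H82Mumford

/-!
# Mumford's bound for the regularity of an extension by a twist, on `P^n_k` (helper55; S11296 against hypotheses)

`F` coherent on `P = P^n_k`, `ι : F(-1) ↪ F` with cokernel `G` which is `m`-regular.  Against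

* `h3224` (the frozen S3224: vanishing propagates to all higher twists) and
* `MulStep k n` (surjectivity of `H^0(F(j)) → H^0(G(j))` propagates from `j` to `j + 1` for `j ≥ m`; this is where the
  surjectivity of `H^0(G(j)) ⊗ H^0(O(1)) → H^0(G(j+1))` enters),

`s11296_of` is the frozen S11296.
-/

set_option autoImplicit false
set_option linter.style.haveILetI false
universe u

open CategoryTheory CategoryTheory.Limits AlgebraicGeometry

namespace Groth.Agent.R2.H55.CMBounds

open Groth.Agent.R2.H62.CohLES Groth.Agent.R2.H79.TwistCalc Groth.Agent.R2.H82.Regularity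

variable (k : Type u) [Field k] (n : ℕ)

/-- the frozen statement S3224 for `P^n_k`. -/
def Prop3224 : Prop :=
  ∀ (F : (CohB1.ProjSpace n k).Modules) (_ : Coh.IsCoh F) (m : ℤ)
    (_ : ∀ i : ℕ, 1 ≤ i → Subsingleton (Coh.HH (CohB1.ProjSpace n k)
      (CohB1.tensorMod F (Twist.twistProjSpace n k (m - i))) i)),
    ∀ (i : ℕ) (r : ℤ), 1 ≤ i → m - i ≤ r →
      Subsingleton (Coh.HH (CohB1.ProjSpace n k) (CohB1.tensorMod F (Twist.twistProjSpace n k r)) i)

/-- propagation of the surjectivity of `H^0(F(j)) → H^0(G(j))` for `G` `m`-regular and `j ≥ m`. -/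
def MulStep : Prop :=
  ∀ (F G : (CohB1.ProjSpace n k).Modules), Coh.IsCoh F → Coh.IsCoh G → ∀ (π : F ⟶ G) (m j : ℤ),
    Curv2.IsMRegular k n G m → m ≤ j →
    Function.Surjective (HHmap ((tensorRightF (Twist.twistProjSpace n k j)).map π) 0) →
    Function.Surjective (HHmap ((tensorRightF (Twist.twistProjSpace n k (j + 1))).map π) 0)

variable {k n}

/-- all-degree regularity from `Curv2.IsMRegular` (degrees above `n` vanish anyway). -/
theorem regular_all (G : (CohB1.ProjSpace n k).Modules) (hG : Coh.IsQCoh G) (m : ℤ)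
    (h : Curv2.IsMRegular k n G m) (i : ℕ) (hi : 1 ≤ i) :
    Subsingleton (Coh.HH (CohB1.ProjSpace n k)
      (CohB1.tensorMod G (Twist.twistProjSpace n k (m - i))) i) := by
  by_cases hin : i ≤ n
  · exact h i hi hin
  · exact subsingleton_HH_twist_of_lt n k G hG _ i (by omega)

theorem HHmap_hom_inv {X : Scheme.{u}} {M N : X.Modules} (e : M ≅ N) (q : ℕ) (x : Coh.HH X M q) :
    HHmap e.inv q (HHmap e.hom q x) = x := by
  rw [← HHmap_comp, e.hom_inv_id]
  exact HHmap_id q x

theorem HHmap_inv_hom {X : Scheme.{u}} {M N : X.Modules} (e : M ≅ N) (q : ℕ) (x : Coh.HH X N q) :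
    HHmap e.hom q (HHmap e.inv q x) = x := by
  rw [← HHmap_comp, e.inv_hom_id]
  exact HHmap_id q x

section main

variable (F : (CohB1.ProjSpace n k).Modules) (hF : Coh.IsCoh F)
  (ι : CohB1.tensorMod F (Twist.twistProjSpace n k (-1)) ⟶ F) [Mono ι]

/-- the short exact sequence `0 → F(-1) → F → G → 0`. -/
noncomputable abbrev S0 : ShortComplex (CohB1.ProjSpace n k).Modules :=
  ShortComplex.mk ι (cokernel.π ι) (cokernel.condition ι)

/-- its twist by `O(j)`. -/
noncomputable abbrev Sj (j : ℤ) : ShortComplex (CohB1.ProjSpace n k).Modules :=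
  (S0 F ι).map (tensorRightF (Twist.twistProjSpace n k j))

theorem shortExact_Sj (j : ℤ) : (Sj F ι j).ShortExact :=
  shortExact_twist _ (isInvertible_twistProjSpace n k j) (shortExact_cokernel ι)

/-- `(F(-1))(j) ≅ F(i)` for `j = i + 1`. -/
noncomputable def e₁ (i j : ℤ) (h : j = i + 1) :
    (Sj F ι j).X₁ ≅ CohB1.tensorMod F (Twist.twistProjSpace n k i) :=
  (nonempty_twist_twist_iso n k F (-1) j i (by omega)).some

/-- the maps `H^1(F(i)) → H^1(F(i+1))`. -/
noncomputable def aMap (i j : ℤ) (h : j = i + 1) :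
    Coh.HH (CohB1.ProjSpace n k) (CohB1.tensorMod F (Twist.twistProjSpace n k i)) 1 →ₗ[k]
      Coh.HH (CohB1.ProjSpace n k) (CohB1.tensorMod F (Twist.twistProjSpace n k j)) 1 :=
  (HHmapA k (Sj F ι j).f 1).comp
    (Groth.Agent.R2.H35.StalkFF.HHequivOfIso k (e₁ F ι i j h).symm 1).toLinearMap

omit [Mono ι] in
theorem aMap_apply (i j : ℤ) (h : j = i + 1)
    (x : Coh.HH (CohB1.ProjSpace n k) (CohB1.tensorMod F (Twist.twistProjSpace n k i)) 1) :
    aMap F ι i j h x = HHmap (Sj F ι j).f 1 (HHmap (e₁ F ι i j h).inv 1 x) := rfl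

omit [Mono ι] in
theorem aMap_surjective_iff (i j : ℤ) (h : j = i + 1) :
    Function.Surjective (aMap F ι i j h) ↔ Function.Surjective (HHmap (Sj F ι j).f 1) := by
  constructor
  · intro hs y
    obtain ⟨x, hx⟩ := hs y
    exact ⟨HHmap (e₁ F ι i j h).inv 1 x, hx⟩
  · intro hs y
    obtain ⟨x, hx⟩ := hs y
    refine ⟨HHmap (e₁ F ι i j h).hom 1 x, ?_⟩
    have h1 : HHmap (e₁ F ι i j h).inv 1 (HHmap (e₁ F ι i j h).hom 1 x) = x := HHmap_hom_inv _ 1 x
    exact (congrArg (HHmap (Sj F ι j).f 1) h1).trans hx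

omit [Mono ι] in
theorem aMap_injective_iff (i j : ℤ) (h : j = i + 1) :
    Function.Injective (aMap F ι i j h) ↔ Function.Injective (HHmap (Sj F ι j).f 1) := by
  constructor
  · intro hi x y hxy
    have hx : HHmap (e₁ F ι i j h).inv 1 (HHmap (e₁ F ι i j h).hom 1 x) = x := HHmap_hom_inv _ 1 x
    have hy : HHmap (e₁ F ι i j h).inv 1 (HHmap (e₁ F ι i j h).hom 1 y) = y := HHmap_hom_inv _ 1 y
    have h1 : aMap F ι i j h (HHmap (e₁ F ι i j h).hom 1 x) = aMap F ι i j h (HHmap (e₁ F ι i j h).hom 1 y) :=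
      ((congrArg (HHmap (Sj F ι j).f 1) hx).trans hxy).trans (congrArg (HHmap (Sj F ι j).f 1) hy).symm
    have h2 := hi h1
    have h3 := congrArg (HHmap (e₁ F ι i j h).inv 1) h2
    exact hx.symm.trans (h3.trans hy)
  · intro hi x y hxy
    have h2 : HHmap (e₁ F ι i j h).inv 1 x = HHmap (e₁ F ι i j h).inv 1 y := hi hxy
    have h3 := congrArg (HHmap (e₁ F ι i j h).hom 1) h2
    exact (HHmap_inv_hom _ 1 x).symm.trans (h3.trans (HHmap_inv_hom _ 1 y))

/-- injectivity of `H^1(F(-1)(j)) → H^1(F(j))` is surjectivity of `H^0(F(j)) → H^0(G(j))`. -/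
theorem injective_iff_surjective (j : ℤ) :
    Function.Injective (HHmap (Sj F ι j).f 1) ↔ Function.Surjective (HHmap (Sj F ι j).g 0) := by
  have h1 := exact_g_δ (shortExact_Sj F ι j) 0
  have h2 := exact_δ_f (shortExact_Sj F ι j) 0
  constructor
  · intro hinj y
    have hy : δ (shortExact_Sj F ι j) 0 y = 0 := by
      apply hinj
      rw [map_zero]
      exact (h2 _).2 ⟨y, rfl⟩
    exact (h1 y).1 hy
  · intro hsurj
    rw [injective_iff_map_eq_zero]
    intro x hx
    obtain ⟨y, rfl⟩ := (h2 x).1 hx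
    obtain ⟨z, rfl⟩ := hsurj y
    exact (h1 _).2 ⟨z, rfl⟩

end main

/-- **S11296 against hypotheses.** -/
theorem s11296_of (h3224 : Prop3224 k n) (hmul : MulStep k n)
    (F : (CohB1.ProjSpace n k).Modules) (hF : Coh.IsCoh F)
    (ι : CohB1.tensorMod F (Twist.twistProjSpace n k (-1)) ⟶ F) [Mono ι] (m : ℤ)
    (hG : Curv2.IsMRegular k n (cokernel ι) m) :
    (∀ (i : ℕ) (j : ℤ), 2 ≤ i → m - i ≤ j →
        Subsingleton (Coh.HH (CohB1.ProjSpace n k) (CohB1.tensorMod F (Twist.twistProjSpace n k j)) i)) ∧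
    (∀ j : ℤ, m - 1 ≤ j →
        Module.finrank k (Coh.HH (CohB1.ProjSpace n k) (CohB1.tensorMod F (Twist.twistProjSpace n k j)) 1) ≤
          Module.finrank k (Coh.HH (CohB1.ProjSpace n k) (CohB1.tensorMod F (Twist.twistProjSpace n k (j - 1))) 1)) ∧
    (∀ j : ℤ, m - 1 + (Module.finrank k (Coh.HH (CohB1.ProjSpace n k)
          (CohB1.tensorMod F (Twist.twistProjSpace n k (m - 1))) 1) : ℤ) ≤ j →
        Subsingleton (Coh.HH (CohB1.ProjSpace n k) (CohB1.tensorMod F (Twist.twistProjSpace n k j)) 1)) ∧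
    Curv2.IsMRegular k n F (m + Module.finrank k (Coh.HH (CohB1.ProjSpace n k)
        (CohB1.tensorMod F (Twist.twistProjSpace n k (m - 1))) 1)) := by
  haveI := Groth.Agent.R2.H58.SerreFin.isLocallyNoetherian_projSpace n k
  have hFm1 : Coh.IsCoh (CohB1.tensorMod F (Twist.twistProjSpace n k (-1))) :=
    isCoh_tensorMod F _ hF (isInvertible_twistProjSpace n k (-1))
  have hGc : Coh.IsCoh (cokernel ι) := Groth.Agent.R2.H12.Dev.isCoh_cokernel hFm1 hF ι
  -- vanishing for `G` in all higher twists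
  have hGv : ∀ (i : ℕ) (r : ℤ), 1 ≤ i → m - i ≤ r →
      Subsingleton (Coh.HH (CohB1.ProjSpace n k)
        (CohB1.tensorMod (cokernel ι) (Twist.twistProjSpace n k r)) i) :=
    h3224 (cokernel ι) hGc m (fun i hi => regular_all (cokernel ι) hGc.1 m hG i hi)
  -- Serre vanishing for `F`
  have serre : ∀ p : ℕ, 0 < p → ∃ d₀ : ℤ, ∀ d : ℤ, d₀ ≤ d →
      Subsingleton (Coh.HH (CohB1.ProjSpace n k) (CohB1.tensorMod F (Twist.twistProjSpace n k d)) p) :=
    fun p hp => Groth.Agent.R2.H58.SerreVanPn.projSpace_serre_vanishing n k F hF p hp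
  -- (i)
  have part1 : ∀ (i : ℕ) (j : ℤ), 2 ≤ i → m - i ≤ j →
      Subsingleton (Coh.HH (CohB1.ProjSpace n k) (CohB1.tensorMod F (Twist.twistProjSpace n k j)) i) := by
    intro i j hi hj
    obtain ⟨d₀, hd₀⟩ := serre i (by omega)
    have key : ∀ (t : ℕ) (j : ℤ), m - i ≤ j → d₀ ≤ j + t →
        Subsingleton (Coh.HH (CohB1.ProjSpace n k) (CohB1.tensorMod F (Twist.twistProjSpace n k j)) i) := by
      intro t
      induction t with
      | zero => intro j _ h; exact hd₀ j (by simpa using h)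
      | succ t ih =>
        intro j hj h
        have h1 : Subsingleton (Coh.HH (CohB1.ProjSpace n k)
            (CohB1.tensorMod F (Twist.twistProjSpace n k (j + 1))) i) :=
          ih (j + 1) (by omega) (by push_cast at h; omega)
        obtain ⟨i', rfl⟩ : ∃ i', i = i' + 1 := ⟨i - 1, by omega⟩
        have h2 : Subsingleton (Coh.HH (CohB1.ProjSpace n k)
            (CohB1.tensorMod (cokernel ι) (Twist.twistProjSpace n k (j + 1))) i') :=
          hGv i' (j + 1) (by omega) (by push_cast at hj ⊢; omega)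
        have hex := exact_δ_f (shortExact_Sj F ι (j + 1)) i'
        haveI : Subsingleton (Coh.HH (CohB1.ProjSpace n k) (Sj F ι (j + 1)).X₃ i') := h2
        haveI : Subsingleton (Coh.HH (CohB1.ProjSpace n k) (Sj F ι (j + 1)).X₂ (i' + 1)) := h1
        have h3 : Subsingleton (Coh.HH (CohB1.ProjSpace n k) (Sj F ι (j + 1)).X₁ (i' + 1)) :=
          subsingleton_of_exact _ _ hex
        exact Groth.Agent.R2.H54.ProjInv.subsingleton_HH_of_iso (e₁ F ι j (j + 1) rfl) _ h3
    exact key (d₀ - j).toNat j hj (by omega)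
  -- finiteness
  haveI hfin : ∀ j : ℤ, Module.Finite k (Coh.HH (CohB1.ProjSpace n k)
      (CohB1.tensorMod F (Twist.twistProjSpace n k j)) 1) := fun j =>
    Groth.Agent.S0038.result n k _ (isCoh_tensorMod F _ hF (isInvertible_twistProjSpace n k j)) 1
  -- surjectivity of the `a`'s
  have hs : ∀ (i j : ℤ) (h : j = i + 1), m - 1 ≤ j → Function.Surjective (aMap F ι i j h) := by
    intro i j h hj
    rw [aMap_surjective_iff]
    have hex := exact_f_g (shortExact_Sj F ι j) 1
    haveI : Subsingleton (Coh.HH (CohB1.ProjSpace n k) (Sj F ι j).X₃ 1) := hGv 1 j le_rfl (by omega)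
    intro y
    exact (hex y).1 (Subsingleton.elim _ _)
  -- propagation of injectivity
  have hc : ∀ (i j l : ℤ) (h : j = i + 1) (h' : l = j + 1), m ≤ j →
      Function.Injective (aMap F ι i j h) → Function.Injective (aMap F ι j l h') := by
    intro i j l h h' hj hinj
    subst h'
    rw [aMap_injective_iff, injective_iff_surjective] at hinj ⊢
    exact hmul F (cokernel ι) hF hGc (cokernel.π ι) m j hG hj hinj
  have hv := serre 1 Nat.one_pos
  have part2 := Groth.Agent.R2.H55.CMBoundsAlg.finrank_le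
    (fun j => Coh.HH (CohB1.ProjSpace n k) (CohB1.tensorMod F (Twist.twistProjSpace n k j)) 1)
    (aMap F ι) m hs
  have part3 := Groth.Agent.R2.H55.CMBoundsAlg.subsingleton_of_le
    (fun j => Coh.HH (CohB1.ProjSpace n k) (CohB1.tensorMod F (Twist.twistProjSpace n k j)) 1)
    (aMap F ι) m hs hc hv
  refine ⟨part1, part2, part3, ?_⟩
  intro i hi _
  by_cases h1 : i = 1
  · subst h1
    exact part3 _ (by omega)
  · exact part1 i _ (by omega) (by omega)

/-- S3224 (helper82's Koszul core). -/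
theorem prop3224 : Prop3224 k n := fun F hF m hreg i r hi hr =>
  Groth.Agent.R2.H82.Mumford.subsingleton_HH_twist_of_regular k n F hF.1 m
    (fun j hj _ => hreg j hj) i r hi hr

/-- **S11296 against `MulStep` only.** -/
theorem s11296_of' (hmul : MulStep k n)
    (F : (CohB1.ProjSpace n k).Modules) (hF : Coh.IsCoh F)
    (ι : CohB1.tensorMod F (Twist.twistProjSpace n k (-1)) ⟶ F) [Mono ι] (m : ℤ)
    (hG : Curv2.IsMRegular k n (cokernel ι) m) :
    (∀ (i : ℕ) (j : ℤ), 2 ≤ i → m - i ≤ j →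
        Subsingleton (Coh.HH (CohB1.ProjSpace n k) (CohB1.tensorMod F (Twist.twistProjSpace n k j)) i)) ∧
    (∀ j : ℤ, m - 1 ≤ j →
        Module.finrank k (Coh.HH (CohB1.ProjSpace n k) (CohB1.tensorMod F (Twist.twistProjSpace n k j)) 1) ≤
          Module.finrank k (Coh.HH (CohB1.ProjSpace n k) (CohB1.tensorMod F (Twist.twistProjSpace n k (j - 1))) 1)) ∧
    (∀ j : ℤ, m - 1 + (Module.finrank k (Coh.HH (CohB1.ProjSpace n k)
          (CohB1.tensorMod F (Twist.twistProjSpace n k (m - 1))) 1) : ℤ) ≤ j →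
        Subsingleton (Coh.HH (CohB1.ProjSpace n k) (CohB1.tensorMod F (Twist.twistProjSpace n k j)) 1)) ∧
    Curv2.IsMRegular k n F (m + Module.finrank k (Coh.HH (CohB1.ProjSpace n k)
        (CohB1.tensorMod F (Twist.twistProjSpace n k (m - 1))) 1)) :=
  s11296_of prop3224 hmul F hF ι m hG

end Groth.Agent.R2.H55.CMBounds
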