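import Mathlib
import Groth.Prelude.Def_CohB1
import Groth.Agent.S0020
import Groth.Agent.Lib.Helper20StalkExact
import Groth.Agent.Lib.Helper18Epi1
import Groth.Agent.R2.H62SnapDim

/-!
# Dimension of the support in short exact sequences (helper60, PROJ:shstab, [CTX-DIM])

The `dim` fields of the geometric Hilbert-polynomial context, for any scheme `X`:

* `topologicalKrullDim_union` (pure topology): `dim (A ∪ B) = max (dim A) (dim B)` for closed `A`, `B`;
* `support_shortExact`: `Supp X₂ = Supp X₁ ∪ Supp X₃`;
* `dim_shortExact`: `dim Supp X₂ = max (dim Supp X₁) (dim Supp X₃)` (outer terms of finite type);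
* `dim_eq_bot_iff`: `dim Supp E = ⊥ ↔ E = 0`;
* `support_eq_of_iso`, `dim_iso`.
-/

set_option autoImplicit false

universe u

open CategoryTheory CategoryTheory.Limits AlgebraicGeometry TopologicalSpace

namespace Groth.Agent.R2.H60.StabDim

/-! ### topology -/

section Top

variable {X : Type*} [TopologicalSpace X]

/-- the preimage in a subspace `A` of an irreducible set contained in `A` is irreducible -/
theorem isIrreducible_preimage_val {A Z : Set X} (hZ : IsIrreducible Z) (hZA : Z ⊆ A) :
    IsIrreducible ((Subtype.val : A → X) ⁻¹' Z) := by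
  refine ⟨?_, ?_⟩
  · obtain ⟨x, hx⟩ := hZ.1
    exact ⟨⟨x, hZA hx⟩, hx⟩
  · intro u v hu hv ⟨a, haZ, hau⟩ ⟨b, hbZ, hbv⟩
    obtain ⟨u', hu', rfl⟩ := isOpen_induced_iff.1 hu
    obtain ⟨v', hv', rfl⟩ := isOpen_induced_iff.1 hv
    obtain ⟨x, hxZ, hxu, hxv⟩ := hZ.2 u' v' hu' hv' ⟨a.1, haZ, hau⟩ ⟨b.1, hbZ, hbv⟩
    exact ⟨⟨x, hZA hxZ⟩, hxZ, hxu, hxv⟩

/-- an irreducible closed subset of `X` contained in `A`, as an irreducible closed subset of `A` -/
def restrictIC {A : Set X} (Z : IrreducibleCloseds X) (hZA : (Z : Set X) ⊆ A) : IrreducibleCloseds A where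
  carrier := (Subtype.val : A → X) ⁻¹' Z
  isIrreducible' := isIrreducible_preimage_val Z.isIrreducible hZA
  isClosed' := Z.isClosed.preimage continuous_subtype_val

theorem restrictIC_lt {A : Set X} {Z W : IrreducibleCloseds X} (hZA : (Z : Set X) ⊆ A)
    (hWA : (W : Set X) ⊆ A) (h : Z < W) : restrictIC Z hZA < restrictIC W hWA := by
  rw [lt_iff_le_and_ne]
  refine ⟨fun a ha => h.le ha, fun heq => h.ne ?_⟩
  apply IrreducibleCloseds.ext
  have h1 : (Subtype.val : A → X) ⁻¹' (Z : Set X) = (Subtype.val : A → X) ⁻¹' (W : Set X) :=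
    congrArg (fun c : IrreducibleCloseds A => (c : Set A)) heq
  have h2 := congrArg (fun s => (Subtype.val : A → X) '' s) h1
  simp only [Subtype.image_preimage_coe] at h2
  rwa [Set.inter_eq_right.2 hZA, Set.inter_eq_right.2 hWA] at h2

/-- a chain of irreducible closed subsets of `S` whose last member lies in the closed set `A` gives a chain of the
same length in `A` -/
theorem length_le_of_last_subset {S A : Set X}
    (p : LTSeries (IrreducibleCloseds S)) (hlast : (Subtype.val : S → X) '' (p.last : Set S) ⊆ A)
    (hA : IsClosed A) : (p.length : WithBot ℕ∞) ≤ topologicalKrullDim A := by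
  have hind : Topology.IsInducing (Subtype.val : S → X) := Topology.IsInducing.subtypeVal
  let q : LTSeries (IrreducibleCloseds X) :=
    p.map (IrreducibleCloseds.map Subtype.val hind.continuous)
      (IrreducibleCloseds.map_strictMono_of_isInducing hind)
  have hqA : ∀ i, ((q i : IrreducibleCloseds X) : Set X) ⊆ A := by
    intro i
    change closure ((Subtype.val : S → X) '' ((p i : IrreducibleCloseds S) : Set S)) ⊆ A
    refine closure_minimal ?_ hA
    refine subset_trans (Set.image_mono ?_) hlast
    exact LTSeries.monotone p (Fin.le_last i)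
  let r : LTSeries (IrreducibleCloseds A) :=
    { length := p.length
      toFun := fun i => restrictIC (q i) (hqA i)
      step := fun i => restrictIC_lt (hqA _) (hqA _) (q.step i) }
  exact Order.LTSeries.length_le_krullDim r

/-- the dimension of a union of two closed sets -/
theorem topologicalKrullDim_union {A B : Set X} (hA : IsClosed A) (hB : IsClosed B) :
    topologicalKrullDim ↥(A ∪ B) = max (topologicalKrullDim A) (topologicalKrullDim B) := by
  apply le_antisymm
  · unfold topologicalKrullDim Order.krullDim
    refine iSup_le fun p => ?_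
    have hirr : IsIrreducible ((Subtype.val : ↥(A ∪ B) → X) '' (p.last : Set ↥(A ∪ B))) :=
      p.last.isIrreducible.image _ continuous_subtype_val.continuousOn
    have hsub : (Subtype.val : ↥(A ∪ B) → X) '' (p.last : Set ↥(A ∪ B)) ⊆ A ∪ B := by
      rintro _ ⟨y, -, rfl⟩
      exact y.2
    rcases isPreirreducible_iff_isClosed_union_isClosed.1 hirr.2 A B hA hB hsub with h | h
    · exact (length_le_of_last_subset p h hA).trans (le_max_left _ _)
    · exact (length_le_of_last_subset p h hB).trans (le_max_right _ _)
  · exact max_le (Groth.Agent.R2.H62.Snapper.topologicalKrullDim_mono Set.subset_union_left)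
      (Groth.Agent.R2.H62.Snapper.topologicalKrullDim_mono Set.subset_union_right)

theorem topologicalKrullDim_eq_bot_iff {S : Set X} : topologicalKrullDim S = ⊥ ↔ S = ∅ := by
  unfold topologicalKrullDim
  rw [Order.krullDim_eq_bot_iff]
  constructor
  · intro h
    by_contra hne
    obtain ⟨x, hx⟩ := Set.nonempty_iff_ne_empty.2 hne
    exact h.false ⟨closure {⟨x, hx⟩}, isIrreducible_singleton.closure, isClosed_closure⟩
  · rintro rfl
    exact ⟨fun Z => by
      obtain ⟨y, -⟩ := Z.isIrreducible.1
      exact y.2⟩

end Top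

/-! ### supports -/

section Supp

variable {X : Scheme.{u}}

theorem support_shortExact (S : ShortComplex X.Modules) (hS : S.ShortExact) :
    CohB1.support S.X₂ = CohB1.support S.X₁ ∪ CohB1.support S.X₃ := by
  ext x
  change ¬ Subsingleton (S.X₂.presheaf.stalk x) ↔
    ¬ Subsingleton (S.X₁.presheaf.stalk x) ∨ ¬ Subsingleton (S.X₃.presheaf.stalk x)
  rw [Groth.Agent.Lib.Helper20.StalkExact.subsingleton_stalk_iff S hS x]
  tauto

theorem dim_shortExact (S : ShortComplex X.Modules) (hS : S.ShortExact) (h1 : CohB1.IsFT S.X₁)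
    (h3 : CohB1.IsFT S.X₃) :
    topologicalKrullDim (CohB1.support S.X₂) =
      max (topologicalKrullDim (CohB1.support S.X₁)) (topologicalKrullDim (CohB1.support S.X₃)) := by
  rw [support_shortExact S hS]
  exact topologicalKrullDim_union (Groth.Agent.S0020.result X _ h1) (Groth.Agent.S0020.result X _ h3)

theorem support_eq_empty_iff (E : X.Modules) : CohB1.support E = ∅ ↔ IsZero E := by
  rw [Groth.Agent.Helper18Epi.isZero_iff_subsingleton_stalk, Set.eq_empty_iff_forall_notMem]
  exact forall_congr' fun x => not_not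

theorem dim_eq_bot_iff (E : X.Modules) :
    topologicalKrullDim (CohB1.support E) = ⊥ ↔ IsZero E := by
  rw [topologicalKrullDim_eq_bot_iff, support_eq_empty_iff]

theorem support_eq_of_iso {E F : X.Modules} (e : E ≅ F) : CohB1.support E = CohB1.support F := by
  ext x
  change ¬ Subsingleton (E.presheaf.stalk x) ↔ ¬ Subsingleton (F.presheaf.stalk x)
  have e' : E.presheaf.stalk x ≅ F.presheaf.stalk x :=
    (Scheme.Modules.toPresheaf X ⋙ TopCat.Presheaf.stalkFunctor Ab.{u} x).mapIso e
  have eq : E.presheaf.stalk x ≃ F.presheaf.stalk x :=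
    { toFun := e'.hom
      invFun := e'.inv
      left_inv := fun a => by
        change (e'.hom ≫ e'.inv) a = a
        rw [e'.hom_inv_id]; rfl
      right_inv := fun a => by
        change (e'.inv ≫ e'.hom) a = a
        rw [e'.inv_hom_id]; rfl }
  rw [not_iff_not]
  exact ⟨fun h => eq.symm.subsingleton, fun h => eq.subsingleton⟩

theorem dim_iso {E F : X.Modules} (e : E ≅ F) :
    topologicalKrullDim (CohB1.support E) = topologicalKrullDim (CohB1.support F) := by
  rw [support_eq_of_iso e]

end Supp

end Groth.Agent.R2.H60.StabDim
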