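import Groth.Agent.R2.H82Regularity
import Groth.Agent.R2.H12Dev3A
import Groth.Agent.S2286
import Groth.Agent.S1526
import Groth.Agent.S9705

/-!
# Twists of modules with zero-dimensional support on `P^n_k` (helper82)
-/

set_option autoImplicit false
set_option linter.unusedSectionVars false
set_option linter.unusedVariables false

universe u

open CategoryTheory CategoryTheory.Limits AlgebraicGeometry
open Groth.Agent.R2.H79.TwistCalc Groth.Agent.R2.H62.CohLES

namespace Groth.Agent.R2.H82.Regularity

/-- the support of a tensor product is contained in the support of the first factor. -/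
theorem support_tensorMod_subset {X : Scheme.{u}} (A B : X.Modules) :
    CohB1.support (CohB1.tensorMod A B) ⊆ CohB1.support A := by
  intro x hx hA
  apply hx
  rw [Groth.Agent.S2286.subsingleton_stalk_tensorMod_iff]
  have : Subsingleton (A.presheaf.stalk x) := hA
  infer_instance

theorem topologicalKrullDim_mono {T : Type*} [TopologicalSpace T] {A B : Set T} (h : A ⊆ B) :
    topologicalKrullDim A ≤ topologicalKrullDim B :=
  (Topology.IsEmbedding.inclusion h).isInducing.topologicalKrullDim_le

/-- twists of a coherent module with zero-dimensional support on `P^n_k` have no higher cohomology. -/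
theorem subsingleton_HH_twist_of_supportDim_le_zero (n : ℕ) (k : Type u) [Field k]
    (Q : (CohB1.ProjSpace n k).Modules) (hQ : Coh.IsCoh Q)
    (hsupp : topologicalKrullDim (CohB1.support Q) ≤ 0) (d : ℤ) (i : ℕ) (hi : 1 ≤ i) :
    Subsingleton (Coh.HH (CohB1.ProjSpace n k) (CohB1.tensorMod Q (Twist.twistProjSpace n k d)) i) := by
  have hP : IsProper (CohB1.ProjSpace n k ↘ Spec (CommRingCat.of k)) :=
    Groth.Agent.S9705.isProper_projSpace_toSpec n k
  refine Groth.Agent.S1526.result k (CohB1.ProjSpace n k) _
    (isCoh_tensorMod Q _ hQ (isInvertible_twistProjSpace n k d)) ?_ i hi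
  exact (topologicalKrullDim_mono (support_tensorMod_subset Q _)).trans hsupp

end Groth.Agent.R2.H82.Regularity
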