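import Mathlib
import Groth.Prelude.Def_Curv2
import Groth.Agent.R2.H55CMBounds
import Groth.Agent.R2.H1SuppVanish
import Groth.Agent.R2.H60StabDim
import Groth.Agent.S0020
import Groth.Agent.S9705
import Groth.Agent.R2.H82Regularity2

/-!
# Regularity of the cokernel and image of a termwise regular complex on `P^n_k` (helper55; S12910)

`RegAll M e`: `H^p(M(e - p)) = 0` for all `p ≥ 1`.  For a short complex `A → B → C` on `P^n_k` with `im(A → B)`
`(e+1)`-regular, homology with vanishing `H^p` of all twists for `p ≥ 2`, and `B` `e`-regular, the image of `B → C` is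
`e`-regular (`regAll_image_g`).  Descending induction along a bounded chain complex gives `s12910`.
-/

set_option autoImplicit false
set_option linter.style.haveILetI false
universe u

open CategoryTheory CategoryTheory.Limits AlgebraicGeometry

namespace Groth.Agent.R2.H55.CMComplex

open Groth.Agent.R2.H62.CohLES Groth.Agent.R2.H79.TwistCalc Groth.Agent.R2.H82.Regularity

variable {k : Type u} [Field k] {n : ℕ}

/-- `H^p(M(e - p)) = 0` for all `p ≥ 1`. -/
def RegAll (M : (CohB1.ProjSpace n k).Modules) (e : ℤ) : Prop :=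
  ∀ p : ℕ, 1 ≤ p → Subsingleton (Coh.HH (CohB1.ProjSpace n k)
    (CohB1.tensorMod M (Twist.twistProjSpace n k (e - p))) p)

theorem regAll_of_isMRegular (M : (CohB1.ProjSpace n k).Modules) (hM : Coh.IsQCoh M) (e : ℤ)
    (h : Curv2.IsMRegular k n M e) : RegAll M e :=
  fun p hp => Groth.Agent.R2.H55.CMBounds.regular_all M hM e h p hp

theorem RegAll.isMRegular {M : (CohB1.ProjSpace n k).Modules} {e : ℤ} (h : RegAll M e) :
    Curv2.IsMRegular k n M e := fun p hp _ => h p hp

theorem regAll_of_isZero (M : (CohB1.ProjSpace n k).Modules) (hM : IsZero M) (e : ℤ) : RegAll M e := by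
  intro p _
  exact Groth.Agent.R2.H82.Mumford.subsingleton_HH_of_isZero
    (Functor.map_isZero (tensorRightF (Twist.twistProjSpace n k (e - p))) hM) p

/-- vanishing of `H^p`, `p ≥ 2`, of all twists of a coherent module with support of dimension `≤ 1`. -/
theorem subsingleton_HH_twist_of_supportDim_le_one (Q : (CohB1.ProjSpace n k).Modules) (hQ : Coh.IsCoh Q)
    (hsupp : topologicalKrullDim (CohB1.support Q) ≤ 1) (j : ℤ) (p : ℕ) (hp : 2 ≤ p) :
    Subsingleton (Coh.HH (CohB1.ProjSpace n k) (CohB1.tensorMod Q (Twist.twistProjSpace n k j)) p) := by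
  have hP : IsProper (CohB1.ProjSpace.toSpec n k) := Groth.Agent.S9705.isProper_projSpace_toSpec n k
  have hPN : IsLocallyNoetherian (CohB1.ProjSpace n k) :=
    LocallyOfFiniteType.isLocallyNoetherian (CohB1.ProjSpace.toSpec n k)
  have hPC : CompactSpace (CohB1.ProjSpace n k) :=
    QuasiCompact.compactSpace_of_compactSpace (CohB1.ProjSpace.toSpec n k)
  have hPNoe : IsNoetherian (CohB1.ProjSpace n k) := {}
  have hcl : IsClosed (CohB1.support Q) := Groth.Agent.S0020.result _ Q hQ.2
  haveI : TopologicalSpace.NoetherianSpace (CohB1.ProjSpace n k) := inferInstance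
  haveI : TopologicalSpace.NoetherianSpace (CohB1.support Q) := inferInstance
  exact Groth.Agent.R2.H1.SuppVanish.subsingleton_HH_of_support_subset (CohB1.support Q) hcl 1
    (by exact_mod_cast hsupp) _ (support_tensorMod_subset Q _) p (by omega)

section step

variable (S : ShortComplex (CohB1.ProjSpace n k).Modules)

/-- `im f ⟶ ker g`. -/
noncomputable def u : Abelian.image S.f ⟶ kernel S.g :=
  kernel.lift S.g (Abelian.image.ι S.f) (by
    rw [← cancel_epi (Abelian.factorThruImage S.f), ← Category.assoc, Abelian.image.fac, S.zero, comp_zero])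

instance : Mono (u S) := by
  unfold u
  exact mono_of_mono_fac (kernel.lift_ι _ _ _)

theorem factorThruImage_u : Abelian.factorThruImage S.f ≫ u S = kernel.lift S.g S.f S.zero := by
  apply (cancel_mono (kernel.ι S.g)).1
  unfold u
  rw [Category.assoc, kernel.lift_ι, Abelian.image.fac, kernel.lift_ι]

/-- `coker(im f → ker g) ≅ H(S)`. -/
noncomputable def cokerIso : cokernel (u S) ≅ S.homology :=
  (cokernelEpiComp (Abelian.factorThruImage S.f) (u S)).symm ≪≫
    cokernel.mapIso _ _ (Iso.refl _) (Iso.refl _) (by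
      rw [Iso.refl_hom, Iso.refl_hom, Category.comp_id, Category.id_comp, factorThruImage_u]) ≪≫
    S.homologyIsoCokernelLift.symm

/-- `0 → ker g → B → im g → 0`. -/
theorem shortExact_ker_image :
    (ShortComplex.mk (kernel.ι S.g) (Abelian.factorThruImage S.g) (by
      rw [← cancel_mono (Abelian.image.ι S.g), Category.assoc, Abelian.image.fac, kernel.condition,
        zero_comp])).ShortExact := by
  let S₁ : ShortComplex (CohB1.ProjSpace n k).Modules :=
    ShortComplex.mk (kernel.ι S.g) (Abelian.factorThruImage S.g) (by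
      rw [← cancel_mono (Abelian.image.ι S.g), Category.assoc, Abelian.image.fac, kernel.condition,
        zero_comp])
  let S₂ : ShortComplex (CohB1.ProjSpace n k).Modules :=
    ShortComplex.mk (kernel.ι S.g) S.g (kernel.condition S.g)
  let φ : S₁ ⟶ S₂ :=
    { τ₁ := 𝟙 _
      τ₂ := 𝟙 _
      τ₃ := Abelian.image.ι S.g
      comm₁₂ := by simp [S₁, S₂]
      comm₂₃ := by simp [S₁, S₂] }
  haveI : Epi φ.τ₁ := by dsimp [φ]; infer_instance
  haveI : IsIso φ.τ₂ := by dsimp [φ]; infer_instance
  haveI : Mono φ.τ₃ := by dsimp [φ]; infer_instance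
  have h2 : S₂.Exact := ShortComplex.exact_of_f_is_kernel _ (kernelIsKernel S.g)
  have h1 : S₁.Exact := (ShortComplex.exact_iff_of_epi_of_isIso_of_mono φ).2 h2
  exact { exact := h1, mono_f := by dsimp [S₁]; infer_instance, epi_g := by dsimp [S₁]; infer_instance }

/-- the regularity step. -/
theorem regAll_image_g (e : ℤ)
    (h1 : RegAll (Abelian.image S.f) (e + 1))
    (hH : ∀ (p : ℕ) (j : ℤ), 2 ≤ p → Subsingleton (Coh.HH (CohB1.ProjSpace n k)
      (CohB1.tensorMod S.homology (Twist.twistProjSpace n k j)) p))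
    (h2 : RegAll S.X₂ e) : RegAll (Abelian.image S.g) e := by
  -- `H^p((ker g)(j)) = 0` for `p ≥ 2`, `j = e + 1 - p`
  have hK : ∀ p : ℕ, 2 ≤ p → Subsingleton (Coh.HH (CohB1.ProjSpace n k)
      (CohB1.tensorMod (kernel S.g) (Twist.twistProjSpace n k (e + 1 - p))) p) := by
    intro p hp
    have hS := shortExact_twist _ (isInvertible_twistProjSpace n k (e + 1 - p)) (shortExact_cokernel (u S))
    refine subsingleton_HH_X₂ hS p (h1 p (by omega)) ?_
    exact Groth.Agent.R2.H54.ProjInv.subsingleton_HH_of_iso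
      ((tensorRightF (Twist.twistProjSpace n k (e + 1 - p))).mapIso (cokerIso S).symm) p (hH p _ hp)
  intro p hp
  have hS := shortExact_twist _ (isInvertible_twistProjSpace n k (e - p)) (shortExact_ker_image S)
  refine subsingleton_HH_X₃ hS p (h2 p hp) ?_
  have := hK (p + 1) (by omega)
  have e1 : e + 1 - ((p + 1 : ℕ) : ℤ) = e - p := by push_cast; ring
  rw [e1] at this
  exact this

end step

section complex

variable (E : ChainComplex (CohB1.ProjSpace n k).Modules ℕ)

theorem isCoh_homology_sc' [IsLocallyNoetherian (CohB1.ProjSpace n k)] (hcoh : ∀ s : ℕ, Coh.IsCoh (E.X s))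
    (i j l : ℕ) : Coh.IsCoh (E.sc' i j l).homology := by
  have h1 : Coh.IsCoh (kernel (E.sc' i j l).g) := Groth.Agent.R2.H12.Dev.isCoh_kernel (hcoh j) (hcoh l) _
  have h2 : Coh.IsCoh (cokernel (kernel.lift (E.sc' i j l).g (E.sc' i j l).f (E.sc' i j l).zero)) :=
    Groth.Agent.R2.H12.Dev.isCoh_cokernel (hcoh i) h1 _
  exact Groth.Agent.R2.H12.Dev.isCoh_of_iso (E.sc' i j l).homologyIsoCokernelLift.symm h2

/-- **S12910.** -/
theorem s12910 (t : ℕ) (hbdd : ∀ s : ℕ, t < s → IsZero (E.X s))
    (hcoh : ∀ s : ℕ, Coh.IsCoh (E.X s)) (d : ℤ)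
    (hreg : ∀ s : ℕ, Curv2.IsMRegular k n (E.X s) (d + s))
    (hsupp : ∀ i : ℕ, 0 < i → topologicalKrullDim (CohB1.support (E.homology i)) ≤ 1) :
    Curv2.IsMRegular k n (cokernel (E.d 1 0)) d ∧
      Curv2.IsMRegular k n (Abelian.image (E.d 1 0)) (d + 1) := by
  haveI := Groth.Agent.R2.H58.SerreFin.isLocallyNoetherian_projSpace n k
  have hX : ∀ s : ℕ, RegAll (E.X s) (d + s) := fun s =>
    regAll_of_isMRegular _ (hcoh s).1 _ (hreg s)
  -- the images are regular
  have hR : ∀ (r s : ℕ), t ≤ s + r → RegAll (Abelian.image (E.d (s + 1) s)) (d + s + 1) := by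
    intro r
    induction r with
    | zero =>
      intro s hs
      apply regAll_of_isZero
      have h0 := hbdd (s + 1) (by omega)
      rw [IsZero.iff_id_eq_zero, ← cancel_epi (Abelian.factorThruImage (E.d (s + 1) s))]
      exact h0.eq_of_src _ _
    | succ r ih =>
      intro s hs
      have h1 := ih (s + 1) (by omega)
      have hiso : (E.sc (s + 1)).homology ≅ (E.sc' (s + 1 + 1) (s + 1) s).homology :=
        ShortComplex.homologyMapIso (E.isoSc' (s + 1 + 1) (s + 1) s (by simp) (by simp))
      have hco : Coh.IsCoh (E.sc' (s + 1 + 1) (s + 1) s).homology := isCoh_homology_sc' E hcoh _ _ _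
      have hdim : topologicalKrullDim (CohB1.support (E.sc' (s + 1 + 1) (s + 1) s).homology) ≤ 1 := by
        have h3 := hsupp (s + 1) (by omega)
        rwa [show CohB1.support (E.homology (s + 1)) =
          CohB1.support (E.sc' (s + 1 + 1) (s + 1) s).homology from
            Groth.Agent.R2.H60.StabDim.support_eq_of_iso hiso] at h3
      have key := regAll_image_g (E.sc' (s + 1 + 1) (s + 1) s) (d + ((s + 1 : ℕ) : ℤ)) h1
        (fun p j hp => subsingleton_HH_twist_of_supportDim_le_one _ hco hdim j p hp) (hX (s + 1))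
      have e1 : d + ((s + 1 : ℕ) : ℤ) = d + (s : ℤ) + 1 := by push_cast; ring
      rw [e1] at key
      exact key
  have hR0 : RegAll (Abelian.image (E.d 1 0)) (d + 1) := by
    have := hR t 0 (by omega)
    simpa using this
  refine ⟨?_, hR0.isMRegular⟩
  intro p hp _
  have hS := Groth.Agent.R2.H58.SerreFin.shortExact_kernel (cokernel.π (E.d 1 0))
  have hS' := shortExact_twist _ (isInvertible_twistProjSpace n k (d - p)) hS
  refine subsingleton_HH_X₃ hS' p ?_ ?_
  · have h0 := hX 0 p hp
    have e0 : d + ((0 : ℕ) : ℤ) - (p : ℤ) = d - p := by push_cast; ring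
    rw [e0] at h0
    exact h0
  · have := hR0 (p + 1) (by omega)
    have e1 : d + 1 - ((p + 1 : ℕ) : ℤ) = d - p := by push_cast; ring
    rw [e1] at this
    exact this

end complex

end Groth.Agent.R2.H55.CMComplex
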