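import Groth.Agent.R2.H82Regularity
import Groth.Agent.S0844
import Groth.Agent.Lib.Helper23SecTw3

/-!
# Splitting of extensions of line bundles on `P^n`, `n ≥ 2` (helper82)

* `exists_lift_of_surjective` : if `H^0(g)` is surjective then every `O ⟶ N` lifts along `g : M ⟶ N`;
* `exists_section_of_twist` : a section of `g ⊗ L` gives a section of `g` (`L` with a tensor inverse);
* `nonempty_splitting_of_twists` : on `P^n_R`, `n ≥ 2`, every extension of `O(b)` by `O(a)` splits.
-/

set_option autoImplicit false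
set_option linter.unusedSectionVars false
set_option linter.unusedVariables false

universe u

open CategoryTheory CategoryTheory.Limits AlgebraicGeometry TopologicalSpace Opposite
open Groth.Agent.R2.H79.TwistCalc Groth.Agent.R2.H62.CohLES Groth.Agent.Lib.Helper27PnSections

namespace Groth.Agent.R2.H82.Split

variable {X : Scheme.{u}}

/-- a compatible family of sections is determined by its value on `⊤`. -/
lemma sections_ext_top {M : X.Modules} (s t : M.sections) (h : s.val (op ⊤) = t.val (op ⊤)) :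
    s = t := by
  apply PresheafOfModules.sections_ext
  intro U
  have hs := PresheafOfModules.sections_property s (homOfLE (le_top : U.unop ≤ ⊤)).op
  have ht := PresheafOfModules.sections_property t (homOfLE (le_top : U.unop ≤ ⊤)).op
  rw [← hs, ← ht, h]

/-- morphisms `O ⟶ M` are determined by their global section. -/
lemma unitHom_ext {M : X.Modules} (a b : Coh.structureModule X ⟶ M)
    (h : (M.unitHomEquiv a).val (op ⊤) = (M.unitHomEquiv b).val (op ⊤)) : a = b :=
  M.unitHomEquiv.injective (sections_ext_top _ _ h)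

/-- if `H^0(g)` is surjective then every morphism `O ⟶ N` lifts along `g`. -/
theorem exists_lift_of_surjective {M N : X.Modules} (g : M ⟶ N)
    (hg : Function.Surjective (HHmap g 0)) (v : Coh.structureModule X ⟶ N) :
    ∃ t : Coh.structureModule X ⟶ M, t ≫ g = v := by
  obtain ⟨x₂, hx₂⟩ := hg ((hh0Equiv X N).symm ((N.unitHomEquiv v).val (op ⊤)))
  let σ : M.sections := PresheafOfModules.sectionsMk
    (fun U => M.val.map (homOfLE (le_top : U.unop ≤ ⊤)).op (hh0Equiv X M x₂))
    (fun U V f => Groth.Agent.Lib.Helper23.SecTw.map_map_top M (hh0Equiv X M x₂) f)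
  let t : Coh.structureModule X ⟶ M := M.unitHomEquiv.symm σ
  refine ⟨t, ?_⟩
  apply unitHom_ext
  have h1 : (M.unitHomEquiv t).val (op ⊤) = σ.val (op ⊤) :=
    congrArg (fun τ => τ.val (op ⊤)) (M.unitHomEquiv.apply_symm_apply σ)
  have h0 : (N.unitHomEquiv (t ≫ g)).val (op ⊤) = g.val.app (op ⊤) ((M.unitHomEquiv t).val (op ⊤)) :=
    rfl
  refine (h0.trans (congrArg (g.val.app (op ⊤)) h1)).trans ?_
  have h4 : σ.val (op ⊤) = hh0Equiv X M x₂ := by
    have h5 : M.val.presheaf.map (𝟙 (op ⊤)) (hh0Equiv X M x₂) = hh0Equiv X M x₂ := by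
      rw [CategoryTheory.Functor.map_id]
      rfl
    exact h5
  refine (congrArg (g.val.app (op ⊤)) h4).trans ?_
  have h2 := Sheaf.H.equiv₀_naturality (F := Coh.toAb M) (G := Coh.toAb N)
    Limits.isTerminalTop (toAbMap g) x₂
  have h3 : hh0Equiv X N (HHmap g 0 x₂) = (N.unitHomEquiv v).val (op ⊤) := by
    rw [hx₂]
    exact (hh0Equiv X N).apply_symm_apply _
  exact h2.trans h3

/-- a natural iso `T ⋙ T' ≅ 𝟭` transports sections of `T.map g` to sections of `g`. -/
theorem exists_section_of_map {C : Type*} [Category C] (T T' : C ⥤ C) (η : T ⋙ T' ≅ 𝟭 C)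
    {M N : C} (g : M ⟶ N) (s' : T.obj N ⟶ T.obj M) (hs' : s' ≫ T.map g = 𝟙 _) :
    ∃ s : N ⟶ M, s ≫ g = 𝟙 N := by
  refine ⟨η.inv.app N ≫ T'.map s' ≫ η.hom.app M, ?_⟩
  have h1 : η.hom.app M ≫ g = T'.map (T.map g) ≫ η.hom.app N := (η.hom.naturality g).symm
  rw [Category.assoc, Category.assoc, h1, ← Category.assoc (T'.map s'), ← T'.map_comp, hs',
    T'.map_id, Category.id_comp]
  exact η.inv_hom_id_app N

section Pn

variable (n : ℕ) (R : Type u) [CommRing R]

/-- `O(a) ⊗ O(b) ≅ O` when `a + b = 0`. -/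
theorem nonempty_twist_tensor_iso_unit (a b : ℤ) (h : a + b = 0) :
    Nonempty (CohB1.tensorMod (Twist.twistProjSpace n R a) (Twist.twistProjSpace n R b) ≅
      Coh.structureModule (CohB1.ProjSpace n R)) := by
  obtain ⟨e⟩ := nonempty_twistProjSpace_tensor_iso n R a b
  obtain ⟨e0⟩ := nonempty_twistProjSpace_zero_iso n R
  rw [h] at e
  exact ⟨e ≪≫ e0.symm⟩

/-- on `P^n_R`, `n ≥ 2`, every extension of `O(b)` by `O(a)` splits. -/
theorem nonempty_splitting_of_twists (hn : 2 ≤ n) (a b : ℤ)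
    (S : ShortComplex (CohB1.ProjSpace n R).Modules) (hS : S.ShortExact)
    (ha : Nonempty (S.X₁ ≅ Twist.twistProjSpace n R a))
    (hb : Nonempty (S.X₃ ≅ Twist.twistProjSpace n R b)) :
    Nonempty S.Splitting := by
  obtain ⟨ea⟩ := ha
  obtain ⟨eb⟩ := hb
  have hL : PicF.IsInvertible (Twist.twistProjSpace n R (-b)) := isInvertible_twistProjSpace n R (-b)
  have hS' := Regularity.shortExact_twist _ hL hS
  -- `H^1(X₁ ⊗ O(-b)) = 0`
  obtain ⟨e1⟩ := nonempty_twistProjSpace_tensor_iso n R a (-b)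
  have hH1 : Subsingleton (Coh.HH (CohB1.ProjSpace n R)
      (CohB1.tensorMod S.X₁ (Twist.twistProjSpace n R (-b))) 1) := by
    have := Groth.Agent.S0844.result R n (a + -b) 1 (by omega) (by omega)
    exact TwistZero.subsingleton_HH_of_iso
      (((tensorRightF (Twist.twistProjSpace n R (-b))).mapIso ea ≪≫ e1).symm) 1
  -- `H^0(g ⊗ O(-b))` is surjective
  have hsurj : Function.Surjective
      (HHmap ((tensorRightF (Twist.twistProjSpace n R (-b))).map S.g) 0) := by
    intro y
    have hsub : Subsingleton (Coh.HH (CohB1.ProjSpace n R)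
        (S.map (tensorRightF (Twist.twistProjSpace n R (-b)))).X₁ (0 + 1)) := hH1
    exact (exact_g_δ hS' 0 y).1 (hsub.elim _ _)
  -- `O ≅ X₃ ⊗ O(-b)`
  obtain ⟨e3⟩ := nonempty_twist_tensor_iso_unit n R b (-b) (by ring)
  let i3 : Coh.structureModule (CohB1.ProjSpace n R) ≅
      CohB1.tensorMod S.X₃ (Twist.twistProjSpace n R (-b)) :=
    e3.symm ≪≫ ((tensorRightF (Twist.twistProjSpace n R (-b))).mapIso eb).symm
  obtain ⟨t, ht⟩ := exists_lift_of_surjective _ hsurj i3.hom
  have hs' : (i3.inv ≫ t) ≫ (tensorRightF (Twist.twistProjSpace n R (-b))).map S.g = 𝟙 _ := by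
    exact (Category.assoc _ _ _).trans ((congrArg (i3.inv ≫ ·) ht).trans i3.inv_hom_id)
  -- untwist
  obtain ⟨e4⟩ := nonempty_twist_tensor_iso_unit n R (-b) b (by ring)
  let η : tensorRightF (Twist.twistProjSpace n R (-b)) ⋙ tensorRightF (Twist.twistProjSpace n R b) ≅
      𝟭 _ := tensorAssocNatIso _ _ ≪≫ tensorRightFCongr e4 ≪≫ tensorRightFUnit
  obtain ⟨s, hs⟩ := exists_section_of_map _ _ η S.g _ hs'
  exact ⟨ShortComplex.Splitting.ofExactOfSection S hS.exact s hs hS.mono_f⟩

end Pn

end Groth.Agent.R2.H82.Split
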