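import Mathlib
import Groth.Prelude.Def_Curv2
import Groth.Agent.R2.H82Regularity
import Groth.Agent.R2.H82Split
import Groth.Agent.R2.H82PnCoh
import Groth.Agent.R2.H58SerreVanPn
import Groth.Agent.R2.H58SerreFinPn
import Groth.Agent.R2.H54ProjInv
import Groth.Agent.R2.H12Dev3A
import Groth.Agent.S0038
import Groth.Agent.R2.H79TwistCalc2

/-!
# `m`-regularity and one-step linear resolutions on `P^n_k` (helper55; S11301 against the frozen S1647)

* `exists_epi_of_gg`: a globally generated module with finite-dimensional `H^0` is a quotient of `O^b` by a map which is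
  surjective on `H^0`;
* `s11301_of` : the frozen S11301 from the frozen S1647 (`F` `m`-regular ⇒ `F(m)` globally generated).
-/

set_option autoImplicit false
set_option linter.style.haveILetI false
universe u

open CategoryTheory CategoryTheory.Limits AlgebraicGeometry Opposite TopologicalSpace

namespace Groth.Agent.R2.H55.CMLinRes

open Groth.Agent.R2.H62.CohLES Groth.Agent.R2.H79.TwistCalc Groth.Agent.R2.H82.Regularity
  Groth.Agent.Lib.Helper27PnSections

section sections

variable {X : Scheme.{u}}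

/-- the `H^0`-class of a morphism `O ⟶ N`. -/
noncomputable def cls {N : X.Modules} (v : Coh.structureModule X ⟶ N) : Coh.HH X N 0 :=
  (hh0Equiv X N).symm ((N.unitHomEquiv v).val (op ⊤))

theorem cls_comp {M N : X.Modules} (v : Coh.structureModule X ⟶ M) (g : M ⟶ N) :
    cls (v ≫ g) = HHmap g 0 (cls v) := by
  apply (hh0Equiv X N).injective
  have h2 := Sheaf.H.equiv₀_naturality (F := Coh.toAb M) (G := Coh.toAb N)
    Limits.isTerminalTop (toAbMap g) (cls v)
  have h0 : (N.unitHomEquiv (v ≫ g)).val (op ⊤) = g.val.app (op ⊤) ((M.unitHomEquiv v).val (op ⊤)) :=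
    rfl
  have h1 : hh0Equiv X N (cls (v ≫ g)) = (N.unitHomEquiv (v ≫ g)).val (op ⊤) :=
    (hh0Equiv X N).apply_symm_apply _
  have h3 : hh0Equiv X M (cls v) = (M.unitHomEquiv v).val (op ⊤) :=
    (hh0Equiv X M).apply_symm_apply _
  have h2' : hh0Equiv X N (HHmap g 0 (cls v)) = g.val.app (op ⊤) (hh0Equiv X M (cls v)) := h2.symm
  exact (h1.trans h0).trans ((congrArg (g.val.app (op ⊤)) h3).symm.trans h2'.symm)

theorem exists_cls_eq {M : X.Modules} (x : Coh.HH X M 0) :
    ∃ t : Coh.structureModule X ⟶ M, cls t = x := by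
  let σ : M.sections := PresheafOfModules.sectionsMk
    (fun U => M.val.map (homOfLE (le_top : U.unop ≤ ⊤)).op (hh0Equiv X M x))
    (fun U V f => Groth.Agent.Lib.Helper23.SecTw.map_map_top M (hh0Equiv X M x) f)
  refine ⟨M.unitHomEquiv.symm σ, ?_⟩
  have h1 : (M.unitHomEquiv (M.unitHomEquiv.symm σ)).val (op ⊤) = σ.val (op ⊤) :=
    congrArg (fun τ => τ.val (op ⊤)) (M.unitHomEquiv.apply_symm_apply σ)
  have h4 : σ.val (op ⊤) = hh0Equiv X M x := by
    have h5 : M.val.presheaf.map (𝟙 (op ⊤)) (hh0Equiv X M x) = hh0Equiv X M x := by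
      rw [CategoryTheory.Functor.map_id]
      rfl
    exact h5
  unfold cls
  rw [h1, h4]
  exact (hh0Equiv X M).symm_apply_apply x

/-- a globally generated module with finite-dimensional `H^0` is a quotient of `O^b`, surjectively on `H^0`. -/
theorem exists_epi_of_gg (k : Type u) [Field k] [X.Over (Spec (CommRingCat.of k))] (M : X.Modules)
    (hgg : Curv2.IsGloballyGenerated M) [Module.Finite k (Coh.HH X M 0)] :
    ∃ (b : ℕ) (ψ : (∐ fun _ : Fin b => Coh.structureModule X) ⟶ M),
      Epi ψ ∧ Function.Surjective (HHmap ψ 0) := by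
  obtain ⟨b, w, hw⟩ := Module.Finite.exists_fin (R := k) (M := Coh.HH X M 0)
  choose t ht using fun j => exists_cls_eq (w j)
  let ψ : (∐ fun _ : Fin b => Coh.structureModule X) ⟶ M := Sigma.desc t
  have hsurj : Function.Surjective (HHmap ψ 0) := by
    have h1 : LinearMap.range (HHmapA k ψ 0) = ⊤ := by
      rw [eq_top_iff, ← hw, Submodule.span_le]
      rintro _ ⟨j, rfl⟩
      refine ⟨cls (Sigma.ι (fun _ : Fin b => Coh.structureModule X) j), ?_⟩
      rw [HHmapA_apply, ← cls_comp, Sigma.ι_desc]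
      exact ht j
    intro y
    have hy : y ∈ LinearMap.range (HHmapA k ψ 0) := by rw [h1]; trivial
    obtain ⟨x, hx⟩ := hy
    exact ⟨x, hx⟩
  refine ⟨b, ψ, ?_, hsurj⟩
  obtain ⟨I, p, hp⟩ := hgg
  choose ta hta using fun a : I =>
    Groth.Agent.R2.H82.Split.exists_lift_of_surjective ψ hsurj (SheafOfModules.ιFree a ≫ p)
  let q : (SheafOfModules.free I : X.Modules) ⟶ (∐ fun _ : Fin b => Coh.structureModule X) := Sigma.desc ta
  have hq : q ≫ ψ = p := by
    refine Sigma.hom_ext _ _ (fun a => ?_)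
    exact (Category.assoc _ _ _).symm.trans
      ((congrArg (fun z => z ≫ ψ) (Sigma.ι_desc ta a)).trans (hta a))
  haveI : Epi (q ≫ ψ) := by rw [hq]; exact hp
  exact epi_of_epi q ψ

end sections

section Pn

variable (k : Type u) [Field k] (n : ℕ)

/-- cohomology of `O(a)^b ⊗ O(d)`. -/
theorem subsingleton_HH_E (b : ℕ) (a d : ℤ) (q : ℕ)
    (h : Subsingleton (Coh.HH (CohB1.ProjSpace n k) (Twist.twistProjSpace n k (a + d)) q)) :
    Subsingleton (Coh.HH (CohB1.ProjSpace n k)
      (CohB1.tensorMod (∐ fun _ : Fin b => Twist.twistProjSpace n k a) (Twist.twistProjSpace n k d)) q) := by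
  obtain ⟨e⟩ := nonempty_twistProjSpace_tensor_iso n k a d
  have h1 : ∀ _ : Fin b, Subsingleton (Coh.HH (CohB1.ProjSpace n k)
      (CohB1.tensorMod (Twist.twistProjSpace n k a) (Twist.twistProjSpace n k d)) q) := fun _ =>
    Groth.Agent.R2.H54.ProjInv.subsingleton_HH_of_iso e.symm q h
  have h2 := Groth.Agent.R2.H58.SerreVanPn.subsingleton_HH_coprod
    (fun _ : Fin b => CohB1.tensorMod (Twist.twistProjSpace n k a) (Twist.twistProjSpace n k d)) q h1
  exact Groth.Agent.R2.H54.ProjInv.subsingleton_HH_of_iso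
    (tensorCoprodIso (Twist.twistProjSpace n k d) (fun _ : Fin b => Twist.twistProjSpace n k a)).symm q h2

/-- `H^i(O(-m)^b ⊗ O(d)) = 0` for `1 ≤ i ≤ n` and `-m + d ≥ -i`. -/
theorem subsingleton_HH_E' (b : ℕ) (m d : ℤ) (i : ℕ) (hi : 1 ≤ i) (hin : i ≤ n) (hd : -(i : ℤ) ≤ -m + d) :
    Subsingleton (Coh.HH (CohB1.ProjSpace n k)
      (CohB1.tensorMod (∐ fun _ : Fin b => Twist.twistProjSpace n k (-m)) (Twist.twistProjSpace n k d)) i) := by
  apply subsingleton_HH_E
  apply Groth.Agent.R2.H82.PnCoh.subsingleton_HH n k (-m + d) i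
  · rintro ⟨h0, -⟩; omega
  · rintro ⟨-, h1⟩; omega

/-- the frozen statement S1647 for `P^n_k`. -/
def Prop1647 : Prop :=
  ∀ (F : (CohB1.ProjSpace n k).Modules) (_ : Coh.IsCoh F) (m : ℤ) (_ : Curv2.IsMRegular k n F m),
    Curv2.IsGloballyGenerated (CohB1.tensorMod F (Twist.twistProjSpace n k m))

variable {k n}

/-- `⇐` of S11301. -/
theorem isMRegular_of_resolution (F : (CohB1.ProjSpace n k).Modules) (hF : Coh.IsCoh F) (m : ℤ)
    (b : ℕ) (φ : (∐ fun _ : Fin b => Twist.twistProjSpace n k (-m)) ⟶ F) [Epi φ]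
    (hK : Curv2.IsMRegular k n (kernel φ) (m + 1)) : Curv2.IsMRegular k n F m := by
  intro i hi hin
  have hS := Groth.Agent.R2.H58.SerreFin.shortExact_kernel φ
  have hS' := shortExact_twist _ (isInvertible_twistProjSpace n k (m - i)) hS
  refine subsingleton_HH_X₃ hS' i ?_ ?_
  · exact subsingleton_HH_E' k n b m (m - i) i hi hin (by omega)
  · by_cases h1 : i + 1 ≤ n
    · have := hK (i + 1) (by omega) h1
      have e : m + 1 - ((i + 1 : ℕ) : ℤ) = m - i := by push_cast; ring
      rw [e] at this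
      exact this
    · have hEq : Coh.IsQCoh (∐ fun _ : Fin b => Twist.twistProjSpace n k (-m)) :=
        (isCoh_coprod_of_isInvertible _ (isInvertible_twistProjSpace n k (-m)) b).1
      haveI : (∐ fun _ : Fin b => Twist.twistProjSpace n k (-m)).IsQuasicoherent := hEq
      haveI : F.IsQuasicoherent := hF.1
      have hKq : Coh.IsQCoh (kernel φ) := Groth.Agent.Lib.Helper23.QCohLocal.isQuasicoherent_kernel φ
      exact subsingleton_HH_twist_of_lt n k (kernel φ) hKq _ (i + 1) (by omega)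

theorem HHmap_inv_hom' {X : Scheme.{u}} {M N : X.Modules} (e : M ≅ N) (q : ℕ) (x : Coh.HH X N q) :
    HHmap e.hom q (HHmap e.inv q x) = x := by
  rw [← HHmap_comp, e.inv_hom_id]
  exact HHmap_id q x

/-- `⇒` of S11301, against S1647. -/
theorem exists_resolution_of_isMRegular (h1647 : Prop1647 k n)
    (F : (CohB1.ProjSpace n k).Modules) (hF : Coh.IsCoh F) (m : ℤ) (h : Curv2.IsMRegular k n F m) :
    ∃ (b : ℕ) (φ : (∐ fun _ : Fin b => Twist.twistProjSpace n k (-m)) ⟶ F),
      Epi φ ∧ Curv2.IsMRegular k n (kernel φ) (m + 1) := by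
  have hM : Coh.IsCoh (CohB1.tensorMod F (Twist.twistProjSpace n k m)) :=
    isCoh_tensorMod F _ hF (isInvertible_twistProjSpace n k m)
  haveI : Module.Finite k (Coh.HH (CohB1.ProjSpace n k) (CohB1.tensorMod F (Twist.twistProjSpace n k m)) 0) :=
    Groth.Agent.S0038.result n k _ hM 0
  obtain ⟨b, ψ, hψ, hsurj⟩ := exists_epi_of_gg k (CohB1.tensorMod F (Twist.twistProjSpace n k m))
    (h1647 F hF m h)
  obtain ⟨e'⟩ := Groth.Agent.R2.H82.Split.nonempty_twist_tensor_iso_unit n k (-m) m (by ring)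
  let θ : CohB1.tensorMod (∐ fun _ : Fin b => Twist.twistProjSpace n k (-m)) (Twist.twistProjSpace n k m) ≅
      ∐ fun _ : Fin b => Coh.structureModule (CohB1.ProjSpace n k) :=
    tensorCoprodIso (Twist.twistProjSpace n k m) (fun _ : Fin b => Twist.twistProjSpace n k (-m)) ≪≫
      Sigma.mapIso (fun _ => e')
  obtain ⟨e⟩ := Groth.Agent.R2.H82.Split.nonempty_twist_tensor_iso_unit n k m (-m) (by ring)
  haveI : (tensorRightF (Twist.twistProjSpace n k m)).IsEquivalence :=
    (Groth.Agent.R2.H54.ProjInv.tensorEquiv (Twist.twistProjSpace n k m) (Twist.twistProjSpace n k (-m))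
      e).isEquivalence_functor
  let φ : (∐ fun _ : Fin b => Twist.twistProjSpace n k (-m)) ⟶ F :=
    (tensorRightF (Twist.twistProjSpace n k m)).preimage (θ.hom ≫ ψ)
  have hφ : (tensorRightF (Twist.twistProjSpace n k m)).map φ = θ.hom ≫ ψ := Functor.map_preimage _ _
  haveI : Epi φ := by
    haveI : Epi ((tensorRightF (Twist.twistProjSpace n k m)).map φ) := by
      rw [hφ]
      exact @epi_comp (CohB1.ProjSpace n k).Modules _ _ _ _ θ.hom inferInstance ψ hψ
    exact (tensorRightF (Twist.twistProjSpace n k m)).epi_of_epi_map inferInstance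
  refine ⟨b, φ, inferInstance, ?_⟩
  have hS := Groth.Agent.R2.H58.SerreFin.shortExact_kernel φ
  -- the case `i = 1`
  have h1K : Subsingleton (Coh.HH (CohB1.ProjSpace n k)
      (CohB1.tensorMod (kernel φ) (Twist.twistProjSpace n k m)) 1) := by
    have hS' := shortExact_twist _ (isInvertible_twistProjSpace n k m) hS
    have hX₂ : Subsingleton (Coh.HH (CohB1.ProjSpace n k)
        (CohB1.tensorMod (∐ fun _ : Fin b => Twist.twistProjSpace n k (-m)) (Twist.twistProjSpace n k m)) 1) := by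
      apply subsingleton_HH_E
      apply Groth.Agent.R2.H82.PnCoh.subsingleton_HH n k (-m + m) 1
      · rintro ⟨h0, -⟩; omega
      · rintro ⟨-, h1⟩; omega
    have hg : Function.Surjective
        (HHmap ((tensorRightF (Twist.twistProjSpace n k m)).map φ) 0) := by
      intro y
      obtain ⟨x, hx⟩ := hsurj y
      refine ⟨HHmap θ.inv 0 x, ?_⟩
      have h1 : HHmap (θ.hom ≫ ψ) 0 (HHmap θ.inv 0 x) = y := by
        rw [HHmap_comp, HHmap_inv_hom']
        exact hx
      have h2 : HHmap ((tensorRightF (Twist.twistProjSpace n k m)).map φ) 0 = HHmap (θ.hom ≫ ψ) 0 :=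
        congrArg (fun f => HHmap f 0) hφ
      exact (DFunLike.congr_fun h2 _).trans h1
    refine ⟨fun x y => ?_⟩
    have key : ∀ x : Coh.HH (CohB1.ProjSpace n k)
        (CohB1.tensorMod (kernel φ) (Twist.twistProjSpace n k m)) 1, x = 0 := by
      intro x
      have hfx : HHmap ((ShortComplex.mk (kernel.ι φ) φ (kernel.condition φ)).map
          (tensorRightF (Twist.twistProjSpace n k m))).f 1 x = 0 :=
        @Subsingleton.elim _ hX₂ _ _
      obtain ⟨y, rfl⟩ := (exact_δ_f hS' 0 x).1 hfx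
      obtain ⟨z, rfl⟩ := hg y
      exact (exact_g_δ hS' 0 _).2 ⟨z, rfl⟩
    rw [key x, key y]
  intro i hi hin
  obtain ⟨i', rfl⟩ : ∃ i', i = i' + 1 := ⟨i - 1, by omega⟩
  by_cases h0 : i' = 0
  · subst h0
    have e0 : m + 1 - ((0 + 1 : ℕ) : ℤ) = m := by push_cast; ring
    rw [e0]
    exact h1K
  · have hS' := shortExact_twist _ (isInvertible_twistProjSpace n k (m + 1 - ((i' + 1 : ℕ) : ℤ))) hS
    have hX₂ : Subsingleton (Coh.HH (CohB1.ProjSpace n k)
        (CohB1.tensorMod (∐ fun _ : Fin b => Twist.twistProjSpace n k (-m))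
          (Twist.twistProjSpace n k (m + 1 - ((i' + 1 : ℕ) : ℤ)))) (i' + 1)) :=
      subsingleton_HH_E' k n b m _ (i' + 1) hi hin (by push_cast; omega)
    have hX₃ : Subsingleton (Coh.HH (CohB1.ProjSpace n k)
        (CohB1.tensorMod F (Twist.twistProjSpace n k (m + 1 - ((i' + 1 : ℕ) : ℤ)))) i') := by
      have := h i' (by omega) (by omega)
      have e1 : m - (i' : ℤ) = m + 1 - ((i' + 1 : ℕ) : ℤ) := by push_cast; ring
      rw [e1] at this
      exact this
    exact @subsingleton_of_exact _ _ _ _ _ _ _ _ (exact_δ_f hS' i') hX₃ hX₂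

/-- **S11301 against the frozen S1647.** -/
theorem s11301_of (h1647 : Prop1647 k n)
    (F : (CohB1.ProjSpace n k).Modules) (hF : Coh.IsCoh F) (m : ℤ) :
    Curv2.IsMRegular k n F m ↔
      ∃ (b : ℕ) (φ : (∐ fun _ : Fin b => Twist.twistProjSpace n k (-m)) ⟶ F),
        Epi φ ∧ Curv2.IsMRegular k n (kernel φ) (m + 1) := by
  constructor
  · exact exists_resolution_of_isMRegular h1647 F hF m
  · rintro ⟨b, φ, hφ, hK⟩
    exact isMRegular_of_resolution F hF m b φ hK

end Pn

end Groth.Agent.R2.H55.CMLinRes
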