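import Mathlib
import Groth.Agent.R2.H55CMBounds
import Groth.Agent.R2.H82KoszulMul

/-!
# `MulStep` from helper82's multiplication surjectivity (KV-0), and the frozen S11296 (helper55)
-/

set_option autoImplicit false
set_option linter.style.haveILetI false
universe u

open CategoryTheory CategoryTheory.Limits AlgebraicGeometry

namespace Groth.Agent.R2.H55.CMBounds

open Groth.Agent.R2.H62.CohLES Groth.Agent.R2.H79.TwistCalc Groth.Agent.R2.H82.Regularity

/-- bifunctoriality of the tensor product. -/
theorem tensor_bifunctoriality {X : Scheme.{u}} {F G L L' : X.Modules} (π : F ⟶ G) (x : L ⟶ L') :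
    (tensorLeftF F).map x ≫ (tensorRightF L').map π = (tensorRightF L).map π ≫ (tensorLeftF G).map x :=
  ((ModSite.tensorBi X.sheaf).map π).naturality x

/-- abstract propagation step: if every class of `H^0(G ⊗ L')` is a sum of images of classes of `H^0(G ⊗ L)` under
finitely many maps `G ⊗ x_j`, then surjectivity of `H^0(F ⊗ L) → H^0(G ⊗ L)` gives that of
`H^0(F ⊗ L') → H^0(G ⊗ L')`. -/
theorem surjective_step {X : Scheme.{u}} {F G L L' : X.Modules} (π : F ⟶ G) {ι : Type*} [Fintype ι]
    (x : ι → (L ⟶ L'))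
    (hsum : ∀ t : Coh.HH X ((tensorLeftF G).obj L') 0, ∃ s : ι → Coh.HH X ((tensorLeftF G).obj L) 0,
      t = ∑ j, HHmap ((tensorLeftF G).map (x j)) 0 (s j))
    (h : Function.Surjective (HHmap ((tensorRightF L).map π) 0)) :
    Function.Surjective (HHmap ((tensorRightF L').map π) 0) := by
  intro t
  obtain ⟨s, hs⟩ := hsum t
  choose r hr using fun j => h (s j)
  refine ⟨∑ j, HHmap ((tensorLeftF F).map (x j)) 0 (r j), ?_⟩
  rw [map_sum]
  refine Eq.trans ?_ hs.symm
  refine Finset.sum_congr rfl (fun j _ => ?_)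
  have h1 : HHmap ((tensorRightF L').map π) 0 (HHmap ((tensorLeftF F).map (x j)) 0 (r j)) =
      HHmap ((tensorLeftF F).map (x j) ≫ (tensorRightF L').map π) 0 (r j) := (HHmap_comp _ _ 0 _).symm
  have h2 : HHmap ((tensorRightF L).map π ≫ (tensorLeftF G).map (x j)) 0 (r j) =
      HHmap ((tensorLeftF G).map (x j)) 0 (HHmap ((tensorRightF L).map π) 0 (r j)) := HHmap_comp _ _ 0 _
  rw [h1, tensor_bifunctoriality, h2]
  exact congrArg _ (hr j)

variable {k : Type u} [Field k] {n : ℕ}

/-- **MulStep** from the Koszul complex (helper82's KV-0). -/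
theorem mulStep : MulStep k n := by
  intro F G _ hG π m j hreg hj hsurj
  have hGv := prop3224 G hG m (fun i hi => regular_all G hG.1 m hreg i hi)
  have hsum := Groth.Agent.R2.H82.Mumford.exists_sum_HHmap_xi n k (tensorLeftF G)
    (Groth.Agent.R2.H82.KoszulPn.preservesStalkIso_tensorLeftF n k G) j (fun p hp _ => by
      have := hGv p (j - p) hp (by omega)
      rw [Groth.Agent.R2.H82.KoszulPn.twistProjSpace_eq_tilde] at this
      exact this)
  rw [Groth.Agent.R2.H82.KoszulPn.twistProjSpace_eq_tilde n k j] at hsurj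
  rw [Groth.Agent.R2.H82.KoszulPn.twistProjSpace_eq_tilde n k (j + 1)]
  exact surjective_step π (fun i => Groth.Agent.R2.H82.Mumford.xiPn n k i j) hsum hsurj

end Groth.Agent.R2.H55.CMBounds
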