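import Mathlib
import Groth.Prelude.Def_Pic13
import Groth.Prelude.Def_Curv2
import Groth.Agent.R2.H54ProjInv
import Groth.Agent.R2.H58SerreFinPn
import Groth.Agent.R2.H70EdgeLin
import Groth.Agent.R2.H35StalkFFB
import Groth.Agent.R2.H79TwistCalc
import Groth.Agent.Lib.Helper23RestrTensor
import Groth.Agent.S0012
import Groth.Agent.S0019
import Groth.Agent.S0022
import Groth.Agent.S0028
import Groth.Agent.S1646
import Groth.Agent.S4409
import Groth.Agent.Lib.Helper16ClosedEmb
import Groth.Agent.Lib.Helper23QCohExt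

/-!
# Castelnuovo–Mumford regularity: transfer from a closed subscheme of `P^n_k` to `P^n_k` (helper55)

For a closed immersion `i : X ⟶ P^n_k` and a quasi-coherent `F` on `X`, `F(d) = F ⊗ i^*O(d)` (`Pic13.twistOn`):

* `nonempty_pushTwistIso`      : `(i_*F) ⊗ O(d) ≅ i_*(F(d))` (projection formula);
* `nonempty_HH_addEquiv`       : `H^q(X, F(d)) ≃+ H^q(P^n, (i_*F) ⊗ O(d))`;
* `nonempty_HH_linearEquiv`    : the same, `k`-linearly, when `i` is a `k`-morphism;
* `isGloballyGenerated_twistOn`: `(i_*F)(d)` globally generated ⇒ `F(d)` globally generated;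
* `s12111_of`                  : the frozen S12111 from the frozen S3224 and S1647 (as hypotheses).
-/

set_option autoImplicit false
set_option linter.style.haveILetI false
universe u

open CategoryTheory CategoryTheory.Limits AlgebraicGeometry

namespace Groth.Agent.R2.H55.CMTransfer

variable (k : Type u) [Field k] {n : ℕ} {X : Scheme.{u}} (i : X ⟶ CohB1.ProjSpace n k)

/-- `O(d)` is invertible. -/
theorem isInvertible_twist (d : ℤ) : PicF.IsInvertible (Twist.twistProjSpace n k d) :=
  Groth.Agent.R2.H79.TwistCalc.isInvertible_twistProjSpace (n := n) (R := k) d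

/-- `F(d)` is quasi-coherent if `F` is. -/
theorem isQuasicoherent_twistOn (F : X.Modules) [F.IsQuasicoherent] (d : ℤ) :
    (Pic13.twistOn k i F d).IsQuasicoherent := by
  haveI : (Twist.twistProjSpace n k d).IsQuasicoherent :=
    Groth.Agent.Lib.Helper23.SecTw.isQuasicoherent_of_isInvertible _ (isInvertible_twist k d)
  haveI : ((Scheme.Modules.pullback i).obj (Twist.twistProjSpace n k d)).IsQuasicoherent :=
    Groth.Agent.Lib.Helper2.PullbackSec.isQuasicoherent_pullback i _
  exact Groth.Agent.Lib.Helper23.TensorQCoh.isQuasicoherent_tensorMod _ _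

/-- projection formula: `(i_*F) ⊗ O(d) ≅ i_*(F(d))`. -/
theorem nonempty_pushTwistIso (F : X.Modules) (d : ℤ) :
    Nonempty (CohB1.tensorMod ((Coh.push i).obj F) (Twist.twistProjSpace n k d) ≅
      (Coh.push i).obj (Pic13.twistOn k i F d)) :=
  Groth.Agent.R2.H54.ProjInv.nonempty_pushTensorInvIso i F _ (isInvertible_twist k d)

/-- `H^q(X, F(d)) ≃+ H^q(P^n, (i_*F)(d))` for an affine `i`. -/
theorem nonempty_HH_addEquiv [IsAffineHom i] (F : X.Modules) [F.IsQuasicoherent] (d : ℤ) (q : ℕ) :
    Nonempty (Coh.HH X (Pic13.twistOn k i F d) q ≃+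
      Coh.HH (CohB1.ProjSpace n k)
        (CohB1.tensorMod ((Coh.push i).obj F) (Twist.twistProjSpace n k d)) q) := by
  haveI := isQuasicoherent_twistOn k i F d
  haveI : Coh.IsQCoh (Pic13.twistOn k i F d) := isQuasicoherent_twistOn k i F d
  obtain ⟨e⟩ := Groth.Agent.S0012.result i (Pic13.twistOn k i F d) q
  obtain ⟨a⟩ := nonempty_pushTwistIso k i F d
  letI : (CohB1.ProjSpace n k).Over (Spec (CommRingCat.of k)) := inferInstance
  exact ⟨e.trans (Groth.Agent.R2.H35.StalkFF.HHequivOfIso k a.symm q).toAddEquiv⟩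

theorem subsingleton_HH_iff [IsAffineHom i] (F : X.Modules) [F.IsQuasicoherent] (d : ℤ) (q : ℕ) :
    Subsingleton (Coh.HH X (Pic13.twistOn k i F d) q) ↔
      Subsingleton (Coh.HH (CohB1.ProjSpace n k)
        (CohB1.tensorMod ((Coh.push i).obj F) (Twist.twistProjSpace n k d)) q) := by
  obtain ⟨e⟩ := nonempty_HH_addEquiv k i F d q
  exact ⟨fun h => e.symm.toEquiv.subsingleton, fun h => e.toEquiv.subsingleton⟩

/-- the `k`-linear version, for `i` a `k`-morphism. -/
theorem nonempty_HH_linearEquiv [X.Over (Spec (CommRingCat.of k))] [IsAffineHom i]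
    (hi : i ≫ CohB1.ProjSpace.toSpec n k = X ↘ Spec (CommRingCat.of k))
    (F : X.Modules) [F.IsQuasicoherent] (d : ℤ) (q : ℕ) :
    Nonempty (Coh.HH (CohB1.ProjSpace n k)
        (CohB1.tensorMod ((Coh.push i).obj F) (Twist.twistProjSpace n k d)) q ≃ₗ[k]
      Coh.HH X (Pic13.twistOn k i F d) q) := by
  haveI := isQuasicoherent_twistOn k i F d
  haveI : Coh.IsQCoh (Pic13.twistOn k i F d) := isQuasicoherent_twistOn k i F d
  haveI : i.IsOver (Spec (CommRingCat.of k)) := ⟨hi⟩
  obtain ⟨e⟩ := Groth.Agent.R2.H70.Edge.lerayLinear k X (CohB1.ProjSpace n k) i (Pic13.twistOn k i F d)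
    (fun q hq => Groth.Agent.S0028.result i (Pic13.twistOn k i F d) q hq) q
  obtain ⟨a⟩ := nonempty_pushTwistIso k i F d
  exact ⟨(Groth.Agent.R2.H35.StalkFF.HHequivOfIso k a q).trans e⟩

/-- `i` affine is quasi-affine in the prelude's sense. -/
theorem isQuasiAffine_of_isAffineHom {X Y : Scheme.{u}} (f : X ⟶ Y) [IsAffineHom f] : Mor2.IsQuasiAffine f :=
  ⟨inferInstance, fun V hV => by
    haveI : IsAffine (↑(f ⁻¹ᵁ V) : Scheme.{u}) := hV.preimage f
    infer_instance⟩

/-- global generation descends from `i_* M` to `M` for an affine morphism `i` and `M` quasi-coherent. -/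
theorem isGloballyGenerated_of_push {X Y : Scheme.{u}} (f : X ⟶ Y) [IsAffineHom f] (M : X.Modules)
    [M.IsQuasicoherent] (h : Curv2.IsGloballyGenerated ((Coh.push f).obj M)) :
    Curv2.IsGloballyGenerated M := by
  have h1 := Groth.Agent.S1646.isGloballyGenerated_pullback f _ h
  obtain ⟨ι, p, hp⟩ := h1
  have hc : Epi ((Scheme.Modules.pullbackPushforwardAdjunction f).counit.app M) :=
    ((Groth.Agent.S4409.result f).1 (isQuasiAffine_of_isAffineHom f)).2 M inferInstance
  exact ⟨ι, p ≫ (Scheme.Modules.pullbackPushforwardAdjunction f).counit.app M,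
    @epi_comp X.Modules _ _ _ _ p hp _ hc⟩

/-- `(i_*F)(d)` globally generated ⇒ `F(d)` globally generated. -/
theorem isGloballyGenerated_twistOn [IsAffineHom i] (F : X.Modules) [F.IsQuasicoherent] (d : ℤ)
    (h : Curv2.IsGloballyGenerated
      (CohB1.tensorMod ((Coh.push i).obj F) (Twist.twistProjSpace n k d))) :
    Curv2.IsGloballyGenerated (Pic13.twistOn k i F d) := by
  haveI := isQuasicoherent_twistOn k i F d
  obtain ⟨a⟩ := nonempty_pushTwistIso k i F d
  apply isGloballyGenerated_of_push i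
  exact Groth.Agent.Lib.Helper23.RestrTensor.isGloballyGenerated_of_iso a h

/-- coherence of `i_*F`. -/
theorem isCoh_push [IsClosedImmersion i] (F : X.Modules) (hF : Coh.IsCoh F) :
    Coh.IsCoh ((Coh.push i).obj F) := by
  haveI := Groth.Agent.R2.H58.SerreFin.isLocallyNoetherian_projSpace n k
  exact Groth.Agent.S0019.result i F hF


section pushExact

open Groth.Agent.Lib.Helper23.QCohLocal

/-- `i_*` is exact for a closed immersion `i`. -/
theorem shortExact_map_push {X Y : Scheme.{u}} (f : X ⟶ Y) [IsClosedImmersion f]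
    (S : ShortComplex X.Modules) (hS : S.ShortExact) : (S.map (Coh.push f)).ShortExact := by
  haveI : PreservesFiniteLimits (Coh.push f) :=
    inferInstanceAs (PreservesFiniteLimits (Scheme.Modules.pushforward f))
  have h1 := (Functor.preservesFiniteLimits_iff_forall_exact_map_and_mono (Coh.push f)).1 inferInstance S hS
  haveI := h1.2
  have hab := shortExact_toAbF S hS
  haveI : Epi ((toAbF X).map S.g) := hab.epi_g
  have hcl : Topology.IsClosedEmbedding f.base := f.isClosedEmbedding
  have h2 : Epi ((CohTop.push f.base).map ((toAbF X).map S.g)) :=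
    Groth.Agent.Lib.Helper16.ClosedEmb.push_map_epi f.base hcl _
  have h3 : Epi ((toAbF Y).map ((Coh.push f).map S.g)) := h2
  haveI : (toAbF Y).Faithful := inferInstanceAs (SheafOfModules.toSheaf Y.ringCatSheaf).Faithful
  haveI : Epi (S.map (Coh.push f)).g := (toAbF Y).epi_of_epi_map h3
  exact { exact := h1.1, mono_f := h1.2, epi_g := inferInstance }

end pushExact

/-- the frozen S12111 from the frozen S3224 (propagation of regularity on `P^n_k`) and the frozen S1647
(global generation of `F(m)` for `F` `m`-regular on `P^n_k`). -/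
theorem s12111_of
    (h3224 : ∀ (n : ℕ) (F : (CohB1.ProjSpace n k).Modules) (_ : Coh.IsCoh F) (m : ℤ)
      (_ : ∀ i : ℕ, 1 ≤ i → Subsingleton (Coh.HH (CohB1.ProjSpace n k)
        (CohB1.tensorMod F (Twist.twistProjSpace n k (m - i))) i)),
      ∀ (i : ℕ) (r : ℤ), 1 ≤ i → m - i ≤ r →
        Subsingleton (Coh.HH (CohB1.ProjSpace n k) (CohB1.tensorMod F (Twist.twistProjSpace n k r)) i))
    (h1647 : ∀ (n : ℕ) (F : (CohB1.ProjSpace n k).Modules) (_ : Coh.IsCoh F) (m : ℤ)
      (_ : Curv2.IsMRegular k n F m),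
      Curv2.IsGloballyGenerated (CohB1.tensorMod F (Twist.twistProjSpace n k m)))
    [IsClosedImmersion i] (F : X.Modules) (hF : Coh.IsCoh F) (m : ℤ)
    (h : Pic13.IsMRegular k i F m) (n' : ℤ) (hn' : m ≤ n') :
    Pic13.IsMRegular k i F n' ∧ Curv2.IsGloballyGenerated (Pic13.twistOn k i F n') := by
  haveI : F.IsQuasicoherent := hF.1
  have hF' := isCoh_push k i F hF
  have key := h3224 n ((Coh.push i).obj F) hF' m
    (fun q hq => (subsingleton_HH_iff k i F (m - q) q).1 (h q hq))
  refine ⟨fun q hq => (subsingleton_HH_iff k i F (n' - q) q).2 (key q (n' - q) hq (by omega)), ?_⟩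
  apply isGloballyGenerated_twistOn k i F n'
  apply h1647 n _ hF' n'
  intro q hq _
  exact key q (n' - q) hq (by omega)

/-- the frozen S12112 from the frozen S11296 (the same statement on `P^n_k`), applied to `i_*F`. -/
theorem s12112_of
    (h11296 : ∀ (n : ℕ) (F : (CohB1.ProjSpace n k).Modules) (_ : Coh.IsCoh F)
      (ι : CohB1.tensorMod F (Twist.twistProjSpace n k (-1)) ⟶ F) [Mono ι] (m : ℤ)
      (_ : Curv2.IsMRegular k n (cokernel ι) m),
      (∀ (i : ℕ) (j : ℤ), 2 ≤ i → m - i ≤ j →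
          Subsingleton (Coh.HH (CohB1.ProjSpace n k) (CohB1.tensorMod F (Twist.twistProjSpace n k j)) i)) ∧
      (∀ j : ℤ, m - 1 ≤ j →
          Module.finrank k (Coh.HH (CohB1.ProjSpace n k) (CohB1.tensorMod F (Twist.twistProjSpace n k j)) 1) ≤
            Module.finrank k (Coh.HH (CohB1.ProjSpace n k) (CohB1.tensorMod F (Twist.twistProjSpace n k (j - 1))) 1)) ∧
      (∀ j : ℤ, m - 1 + (Module.finrank k (Coh.HH (CohB1.ProjSpace n k)
            (CohB1.tensorMod F (Twist.twistProjSpace n k (m - 1))) 1) : ℤ) ≤ j →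
          Subsingleton (Coh.HH (CohB1.ProjSpace n k) (CohB1.tensorMod F (Twist.twistProjSpace n k j)) 1)) ∧
      Curv2.IsMRegular k n F (m + Module.finrank k (Coh.HH (CohB1.ProjSpace n k)
          (CohB1.tensorMod F (Twist.twistProjSpace n k (m - 1))) 1)))
    [X.Over (Spec (CommRingCat.of k))] [IsClosedImmersion i]
    (hi : i ≫ CohB1.ProjSpace.toSpec n k = X ↘ Spec (CommRingCat.of k))
    (F G : X.Modules) (hF : Coh.IsCoh F) (hG : Coh.IsCoh G)
    (f : Pic13.twistOn k i F (-1) ⟶ F) (g : F ⟶ G) (hfg : f ≫ g = 0)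
    (hS : (ShortComplex.mk f g hfg).ShortExact)
    (m : ℤ) (hGm : Pic13.IsMRegular k i G m) :
    (∀ (q : ℕ) (n' : ℤ), 2 ≤ q → m - q ≤ n' → Subsingleton (Coh.HH X (Pic13.twistOn k i F n') q)) ∧
    (∀ n' : ℤ, m - 1 ≤ n' →
      Module.finrank k (Coh.HH X (Pic13.twistOn k i F n') 1) ≤
        Module.finrank k (Coh.HH X (Pic13.twistOn k i F (n' - 1)) 1)) ∧
    (∀ n' : ℤ, (m - 1) + (Module.finrank k (Coh.HH X (Pic13.twistOn k i F (m - 1)) 1) : ℤ) ≤ n' →
      Subsingleton (Coh.HH X (Pic13.twistOn k i F n') 1)) ∧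
    Pic13.IsMRegular k i F (m + Module.finrank k (Coh.HH X (Pic13.twistOn k i F (m - 1)) 1)) := by
  haveI : F.IsQuasicoherent := hF.1
  haveI : G.IsQuasicoherent := hG.1
  obtain ⟨a⟩ := nonempty_pushTwistIso k i F (-1)
  have hF' := isCoh_push k i F hF
  have hS' := shortExact_map_push i _ hS
  haveI : Mono ((Coh.push i).map f) := hS'.mono_f
  haveI : Mono (a.hom ≫ (Coh.push i).map f) := mono_comp _ _
  have c : cokernel (a.hom ≫ (Coh.push i).map f) ≅ (Coh.push i).obj G :=
    cokernelEpiComp a.hom ((Coh.push i).map f) ≪≫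
      (IsColimit.coconePointUniqueUpToIso (colimit.isColimit _) hS'.gIsCokernel)
  have hreg : Curv2.IsMRegular k n (cokernel (a.hom ≫ (Coh.push i).map f)) m := by
    intro q hq _
    have h1 := (subsingleton_HH_iff k i G (m - q) q).1 (hGm q hq)
    exact Groth.Agent.R2.H54.ProjInv.subsingleton_HH_of_iso
      ((Groth.Agent.R2.H79.TwistCalc.tensorRightF (Twist.twistProjSpace n k (m - q))).mapIso c.symm) q h1
  obtain ⟨r1, r2, r3, r4⟩ := h11296 n ((Coh.push i).obj F) hF' (a.hom ≫ (Coh.push i).map f) m hreg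
  have hfr : ∀ (d : ℤ) (q : ℕ),
      Module.finrank k (Coh.HH (CohB1.ProjSpace n k)
        (CohB1.tensorMod ((Coh.push i).obj F) (Twist.twistProjSpace n k d)) q) =
      Module.finrank k (Coh.HH X (Pic13.twistOn k i F d) q) := fun d q => by
    obtain ⟨e⟩ := nonempty_HH_linearEquiv k i hi F d q
    exact e.finrank_eq
  refine ⟨?_, ?_, ?_, ?_⟩
  · intro q n' hq hn'
    exact (subsingleton_HH_iff k i F n' q).2 (r1 q n' hq hn')
  · intro n' hn'
    rw [← hfr, ← hfr]
    exact r2 n' hn'
  · intro n' hn'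
    rw [← hfr] at hn'
    exact (subsingleton_HH_iff k i F n' 1).2 (r3 n' hn')
  · intro q hq
    rw [← hfr]
    apply (subsingleton_HH_iff k i F _ q).2
    by_cases hqn : q ≤ n
    · exact r4 q hq hqn
    · haveI : ((Coh.push i).obj F).IsQuasicoherent := hF'.1
      haveI : (Twist.twistProjSpace n k (m + (Module.finrank k (Coh.HH (CohB1.ProjSpace n k)
          (CohB1.tensorMod ((Coh.push i).obj F) (Twist.twistProjSpace n k (m - 1))) 1) : ℤ) - q)).IsQuasicoherent :=
        Groth.Agent.Lib.Helper23.SecTw.isQuasicoherent_of_isInvertible _ (isInvertible_twist k _)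
      haveI : Coh.IsQCoh (CohB1.tensorMod ((Coh.push i).obj F) (Twist.twistProjSpace n k
          (m + (Module.finrank k (Coh.HH (CohB1.ProjSpace n k)
          (CohB1.tensorMod ((Coh.push i).obj F) (Twist.twistProjSpace n k (m - 1))) 1) : ℤ) - q))) :=
        Groth.Agent.Lib.Helper23.TensorQCoh.isQuasicoherent_tensorMod _ _
      exact Groth.Agent.S0022.result n k _ q (by omega)

end Groth.Agent.R2.H55.CMTransfer
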