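import Mathlib
import Groth.Agent.R2.H55Chevalley
import Groth.Agent.R2.H54DevExt

/-!
# Chevalley's theorem, Noetherian case (helper55, S0021)

`DevExt X` (the interface of `R2/H55Chevalley`) from helper54's `devissage_ext` (Stacks 01YM), and the final statement.
-/

set_option autoImplicit false
universe u

open CategoryTheory CategoryTheory.Limits AlgebraicGeometry Opposite TopologicalSpace

namespace Groth.Agent.R2.H55.Chevalley

open Groth.Agent.R2.H12.Dev

/-- the extension-only dévissage (Stacks 01YM), in the interface shape of `R2/H55Chevalley`. -/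
theorem devExt (X : Scheme.{u}) [IsNoetherian X] : DevExt X := by
  intro P hiso h0 hex hsum hgen M hM
  refine Groth.Agent.R2.H54.DevExt.devissage_ext P hiso h0
    (fun S hS h1 h2 h3 => (hex S hS h1 h2 h3).1) (fun S hS h1 h2 h3 => (hex S hS h1 h2 h3).2) ?_ ?_ M hM
  · intro M N s r hsr hMc hNc hPM
    have hS : (ShortComplex.mk s (cokernel.π s) (cokernel.condition s)).Exact :=
      ShortComplex.exact_cokernel s
    have e : M ≅ N ⊞ cokernel s :=
      (ShortComplex.Splitting.ofExactOfRetraction
        (ShortComplex.mk s (cokernel.π s) (cokernel.condition s)) hS r hsr inferInstance).isoBinaryBiproduct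
    exact hsum N (cokernel s) hNc (isCoh_cokernel hNc hMc s) (hiso _ _ ⟨e⟩ hPM)
  · intro Z i _ _
    obtain ⟨G, hG, hξ, h⟩ := hgen Z i
    exact ⟨G, hG, hξ, fun J hJ => h J hJ⟩

/-- **Chevalley's theorem**: the target of a finite surjective morphism from an affine scheme to a Noetherian scheme is
affine. -/
theorem chevalley {X Y : Scheme.{u}} [IsNoetherian X] (f : Y ⟶ X) [IsFinite f] [Surjective f] [IsAffine Y] :
    IsAffine X :=
  isAffine_of_finite_surjective (devExt X) f

end Groth.Agent.R2.H55.Chevalley
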