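import Mathlib
import Groth.Agent.Lib.Helper4TensorDim

set_option autoImplicit false
universe u
open TensorProduct

namespace Groth.Agent.R2.H55.Deviss

section Ann

variable {A B : Type*} [CommRing A] [CommRing B] [Algebra A B]

/-- (copied from `Lib/Helper5FBC`, to avoid its heavy imports) -/
theorem map_annihilator_le (X : Type*) [AddCommGroup X] [Module A X] :
    (Module.annihilator A X).map (algebraMap A B) ≤ Module.annihilator B (B ⊗[A] X) := by
  rw [Ideal.map_le_iff_le_comap]
  intro a ha
  rw [Ideal.mem_comap, Module.mem_annihilator]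
  intro y
  induction y using TensorProduct.induction_on with
  | zero => rw [smul_zero]
  | tmul b x =>
    rw [algebraMap_smul, ← TensorProduct.tmul_smul, Module.mem_annihilator.mp ha x,
      TensorProduct.tmul_zero]
  | add y z hy hz => rw [smul_add, hy, hz, add_zero]

/-- (copied from `Lib/Helper5FBC`, to avoid its heavy imports) -/
theorem annihilator_baseChange [Module.Flat A B] (X : Type*) [AddCommGroup X] [Module A X]
    [Module.Finite A X] :
    Module.annihilator B (B ⊗[A] X) = (Module.annihilator A X).map (algebraMap A B) := by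
  classical
  refine le_antisymm ?_ (map_annihilator_le X)
  obtain ⟨s, hs⟩ := (Module.finite_def.mp ‹Module.Finite A X›)
  let g : A →ₗ[A] (s → X) := LinearMap.pi (fun x => LinearMap.toSpanSingleton A X (x : X))
  have hg : ∀ (a : A) (n : s), g a n = a • (n : X) := fun a n => rfl
  have hker : LinearMap.ker g = Module.annihilator A X := by
    ext a
    rw [LinearMap.mem_ker, ← Submodule.annihilator_top, ← hs, Submodule.mem_annihilator_span]
    constructor
    · intro h n
      have := congrFun h n
      rwa [hg] at this
    · intro h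
      funext n
      rw [hg]
      exact h n
  let gbar : (A ⧸ Module.annihilator A X) →ₗ[A] (s → X) :=
    Submodule.liftQ (Module.annihilator A X) g (le_of_eq hker.symm)
  have hinj : Function.Injective gbar := by
    rw [← LinearMap.ker_eq_bot]
    exact Submodule.ker_liftQ_eq_bot _ _ _ (le_of_eq hker)
  have hinj2 := Module.Flat.lTensor_preserves_injective_linearMap (M := B) gbar hinj
  intro b hb
  have hz : (gbar.lTensor B) (b ⊗ₜ[A] (1 : A ⧸ Module.annihilator A X)) = 0 := by
    apply (TensorProduct.piRight A A B (fun _ : s => X)).injective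
    rw [map_zero, LinearMap.lTensor_tmul]
    funext n
    rw [TensorProduct.piRight_apply, TensorProduct.piRightHom_tmul]
    change b ⊗ₜ[A] gbar 1 n = 0
    have h1 : gbar 1 n = (n : X) := by
      change g 1 n = _
      rw [hg, one_smul]
    rw [h1]
    have := Module.mem_annihilator.mp hb ((1 : B) ⊗ₜ[A] (n : X))
    rwa [TensorProduct.smul_tmul', smul_eq_mul, mul_one] at this
  have hz0 : b ⊗ₜ[A] (1 : A ⧸ Module.annihilator A X) = 0 := hinj2 (by rw [hz, map_zero])
  have h2 : Algebra.TensorProduct.quotIdealMapEquivTensorQuot B (Module.annihilator A X)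
      (Ideal.Quotient.mk _ b) = 0 := by
    rw [Algebra.TensorProduct.quotIdealMapEquivTensorQuot_mk]
    exact hz0
  have h3 := (Algebra.TensorProduct.quotIdealMapEquivTensorQuot B
    (Module.annihilator A X)).injective (h2.trans (map_zero _).symm)
  exact Ideal.Quotient.eq_zero_iff_mem.mp h3

end Ann

section LemmaA

variable (k K A A' : Type u) [Field k] [Field K] [Algebra k K] [CommRing A] [Algebra k A]
  [Algebra.FiniteType k A] [CommRing A'] [Algebra K A'] [Algebra A A'] [Algebra k A']
  [IsScalarTower k K A'] [IsScalarTower k A A'] [Algebra.IsPushout k K A A']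
  (M M' : Type u) [AddCommGroup M] [Module A M] [Module.Finite A M]
  [AddCommGroup M'] [Module A' M'] [Module A M'] [IsScalarTower A A' M']

include k K in
/-- the dimension of the support of a finite module over a finite type algebra over a field is
invariant under extension of the base field. -/
theorem supportDim_eq_of_isPushout (g : M →ₗ[A] M') (hg : IsBaseChange A' g) :
    Module.supportDim A' M' = Module.supportDim A M := by
  have hsymm : Algebra.IsPushout k A K A' := Algebra.IsPushout.symm inferInstance
  have hflat : Module.Flat A A' := by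
    have e : A ⊗[k] K ≃ₗ[A] A' := hsymm.out.equiv
    exact Module.Flat.of_linearEquiv e.symm
  have hfin : Module.Finite A' M' := Module.Finite.equiv hg.equiv
  rw [Module.supportDim_eq_ringKrullDim_quotient_annihilator,
    Module.supportDim_eq_ringKrullDim_quotient_annihilator]
  have hann : Module.annihilator A' M' = (Module.annihilator A M).map (algebraMap A A') := by
    rw [← annihilator_baseChange]
    exact (LinearEquiv.annihilator_eq hg.equiv).symm
  rw [hann]
  set I := Module.annihilator A M with hI
  have e1 : (A' ⧸ I.map (algebraMap A A')) ≃+* A' ⊗[A] (A ⧸ I) :=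
    (Algebra.TensorProduct.quotIdealMapEquivTensorQuot A' I).toRingEquiv
  have e2 : A' ⊗[A] (A ⧸ I) ≃+* K ⊗[k] (A ⧸ I) :=
    (Algebra.IsPushout.cancelBaseChangeAlg k K A A' (A ⧸ I)).toRingEquiv
  have e3 : K ⊗[k] (A ⧸ I) ≃+* (A ⧸ I) ⊗[k] K :=
    (Algebra.TensorProduct.comm k K (A ⧸ I)).toRingEquiv
  rw [ringKrullDim_eq_of_ringEquiv (e1.trans (e2.trans e3)),
    Groth.Agent.Lib.Helper4.TensorDim.ringKrullDim_tensor_eq_add k (A ⧸ I) K,
    ringKrullDim_eq_zero_of_field, add_zero]

end LemmaA

end Groth.Agent.R2.H55.Deviss
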