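import Mathlib
import Groth.Prelude.Def_FlatCA
import Groth.Agent.R2.H55DevissA

/-!
# Base change of the fibre module: the dimension of its support is invariant (helper55)

For a pushout square `R → R'`, `S → S'`, primes `p' ∣ p`, and `N' = S' ⊗_S N`:
`supportDim (p'.Fiber S') (fiberMod p' S' N') = supportDim (p.Fiber S) (fiberMod p S N)`
(`supportDim_fiberMod_baseChange`).
-/

set_option autoImplicit false
set_option linter.unusedSectionVars false
universe u
open TensorProduct

namespace Groth.Agent.R2.H55.Deviss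

attribute [local instance] Algebra.TensorProduct.rightAlgebra

section LemmaB

variable {R R' S S' : Type u} [CommRing R] [CommRing R'] [CommRing S] [CommRing S']
  [Algebra R R'] [Algebra R S] [Algebra R' S'] [Algebra R S'] [Algebra S S']
  [IsScalarTower R R' S'] [IsScalarTower R S S']
  (p : Ideal R) [p.IsPrime] (p' : Ideal R') [p'.IsPrime] [p'.LiesOver p]

/-- the residue field extension. -/
noncomputable abbrev resAlg : Algebra p.ResidueField p'.ResidueField :=
  (Ideal.ResidueField.mapₐ p p' (Algebra.ofId R R') (Ideal.LiesOver.over)).toRingHom.toAlgebra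

attribute [local instance] resAlg

instance towerRkK : IsScalarTower R p.ResidueField p'.ResidueField :=
  IsScalarTower.of_algebraMap_eq' (by
    ext r
    exact ((Ideal.ResidueField.mapₐ p p' (Algebra.ofId R R') (Ideal.LiesOver.over)).commutes r).symm)


variable (S S') in
/-- `S → S' → κ(p') ⊗ S'` as an `R`-algebra map. -/
noncomputable def toFib' : S →ₐ[R] p'.Fiber S' :=
  ((Algebra.TensorProduct.includeRight : S' →ₐ[R'] p'.Fiber S').restrictScalars R).comp
    (IsScalarTower.toAlgHom R S S')

variable (S S') in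
/-- the map of fibre rings `κ(p) ⊗ S → κ(p') ⊗ S'`. -/
noncomputable def fibMap : p.Fiber S →ₐ[p.ResidueField] p'.Fiber S' :=
  Algebra.TensorProduct.lift (Algebra.ofId p.ResidueField (p'.Fiber S')) (toFib' S S' p')
    (fun _ _ => Commute.all _ _)

/-- `κ(p') ⊗ S'` as an `S`-algebra. -/
noncomputable abbrev algS : Algebra S (p'.Fiber S') :=
  ((algebraMap S' (p'.Fiber S')).comp (algebraMap S S')).toAlgebra

/-- `κ(p') ⊗ S'` as a `κ(p) ⊗ S`-algebra. -/
noncomputable abbrev algF : Algebra (p.Fiber S) (p'.Fiber S') := (fibMap S S' p p').toRingHom.toAlgebra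

attribute [local instance 10] algS
attribute [local instance] algF

lemma algebraMap_S_eq (s : S) :
    algebraMap S (p'.Fiber S') s = (1 : p'.ResidueField) ⊗ₜ[R'] algebraMap S S' s := rfl

lemma algebraMap_F_tmul (a : p.ResidueField) (s : S) :
    algebraMap (p.Fiber S) (p'.Fiber S') (a ⊗ₜ[R] s) =
      algebraMap p.ResidueField p'.ResidueField a ⊗ₜ[R'] algebraMap S S' s := by
  change fibMap S S' p p' (a ⊗ₜ[R] s) = _
  rw [fibMap, Algebra.TensorProduct.lift_tmul]
  change algebraMap p.ResidueField (p'.Fiber S') a * ((1 : p'.ResidueField) ⊗ₜ[R'] algebraMap S S' s) = _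
  rw [IsScalarTower.algebraMap_apply p.ResidueField p'.ResidueField (p'.Fiber S'),
    Algebra.TensorProduct.algebraMap_apply, Algebra.TensorProduct.tmul_mul_tmul]
  simp

instance towerSS'F' : IsScalarTower S S' (p'.Fiber S') :=
  IsScalarTower.of_algebraMap_eq' rfl

instance towerRSF' : IsScalarTower R S (p'.Fiber S') :=
  IsScalarTower.of_algebraMap_eq' (by
    ext r
    exact ((toFib' S S' p').commutes r).symm)

instance towerkFF' : IsScalarTower p.ResidueField (p.Fiber S) (p'.Fiber S') :=
  IsScalarTower.of_algebraMap_eq (fun a => ((fibMap S S' p p').commutes a).symm)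

instance towerSFF' : IsScalarTower S (p.Fiber S) (p'.Fiber S') :=
  IsScalarTower.of_algebraMap_eq' (by
    ext s
    change _ = algebraMap (p.Fiber S) (p'.Fiber S') ((1 : p.ResidueField) ⊗ₜ[R] s)
    rw [algebraMap_F_tmul, map_one]
    rfl)

instance towerRFF' : IsScalarTower R (p.Fiber S) (p'.Fiber S') :=
  IsScalarTower.of_algebraMap_eq (R := R) (S := p.Fiber S) (A := p'.Fiber S') (fun r => by
    rw [IsScalarTower.algebraMap_apply R S (p'.Fiber S'),
      IsScalarTower.algebraMap_apply R S (p.Fiber S),
      ← IsScalarTower.algebraMap_apply S (p.Fiber S) (p'.Fiber S')])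


variable [Algebra.IsPushout R R' S S']

lemma isPushout_RKSF' : Algebra.IsPushout R p'.ResidueField S (p'.Fiber S') :=
  (Algebra.IsPushout.comp_iff R R' S (S' := S') (T := p'.ResidueField) (T' := p'.Fiber S')).2
    inferInstance

lemma isPushout_kKFF' : Algebra.IsPushout p.ResidueField p'.ResidueField (p.Fiber S) (p'.Fiber S') :=
  (Algebra.IsPushout.comp_iff R p.ResidueField S (S' := p.Fiber S) (T := p'.ResidueField)
    (T' := p'.Fiber S')).1 (isPushout_RKSF' p')

instance smulCommS : SMulCommClass S' S (p'.Fiber S') :=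
  ⟨fun a b x => by simp only [Algebra.smul_def]; ring⟩

instance smulCommF : SMulCommClass S' (p.Fiber S) (p'.Fiber S') :=
  ⟨fun a b x => by simp only [Algebra.smul_def]; ring⟩

variable (N N' : Type u) [AddCommGroup N] [Module S N] [AddCommGroup N'] [Module S' N']
  [Module S N'] [IsScalarTower S S' N']


variable {N N'}

variable (S') in
/-- the composite `N → N' → κ(p') ⊗ N'`. -/
noncomputable def toM' (f : N →ₗ[S] N') : N →ₗ[S] (p'.Fiber S') ⊗[S'] N' :=
  ((TensorProduct.mk S' (p'.Fiber S') N' 1).restrictScalars S).comp f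

lemma isBaseChange_toM' (f : N →ₗ[S] N') (hf : IsBaseChange S' f) :
    IsBaseChange (p'.Fiber S') (toM' S' p' f) :=
  hf.comp (TensorProduct.isBaseChange S' N' (p'.Fiber S'))

variable (S') in
/-- the map of fibre modules. -/
noncomputable def fibModMap (f : N →ₗ[S] N') :
    (p.Fiber S) ⊗[S] N →ₗ[p.Fiber S] (p'.Fiber S') ⊗[S'] N' :=
  (TensorProduct.isBaseChange S N (p.Fiber S)).lift (toM' S' p' f)

lemma isBaseChange_fibModMap (f : N →ₗ[S] N') (hf : IsBaseChange S' f) :
    IsBaseChange (p'.Fiber S') (fibModMap S' p p' f) := by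
  refine IsBaseChange.of_comp (TensorProduct.isBaseChange S N (p.Fiber S)) ?_
  have : ((fibModMap S' p p' f).restrictScalars S) ∘ₗ (TensorProduct.mk S (p.Fiber S) N 1) = toM' S' p' f :=
    IsBaseChange.lift_comp _ _
  rw [this]
  exact isBaseChange_toM' p' f hf

/-- the dimension of the support of the fibre module is invariant under base change. -/
theorem supportDim_fiberMod_baseChange [Algebra.FiniteType R S] [Module.Finite S N]
    [Module R N] [IsScalarTower R S N] [Module R' N'] [IsScalarTower R' S' N']
    (f : N →ₗ[S] N') (hf : IsBaseChange S' f) :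
    Module.supportDim (p'.Fiber S') (FlatCA.fiberMod p' S' N') =
      Module.supportDim (p.Fiber S) (FlatCA.fiberMod p S N) := by
  have := isPushout_kKFF' (S := S) (S' := S') p p'
  exact supportDim_eq_of_isPushout p.ResidueField p'.ResidueField (p.Fiber S) (p'.Fiber S')
    ((p.Fiber S) ⊗[S] N) ((p'.Fiber S') ⊗[S'] N') (fibModMap S' p p' f)
    (isBaseChange_fibModMap p p' f hf)

end LemmaB

end Groth.Agent.R2.H55.Deviss
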