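import Mathlib
import Groth.Prelude.Def_FlatCA
import Groth.Agent.R2.H55DevissB

/-!
# Base change of a one-step dévissage (helper55)

`isOneStepDevissage_baseChange` (= S12231): all eight clauses of `FlatCA.IsOneStepDevissage` are
stable under an arbitrary base change `R → R'`; the dimension clause uses
`supportDim_fiberMod_baseChange` (`H55DevissB`).  Also `isPushout_right` (pasting of pushouts of
rings) and `spec_of_isPushout` (base change of a property of `Spec` maps along a pushout).
-/

set_option autoImplicit false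
universe u
open TensorProduct

namespace Groth.Agent.R2.H55.Deviss

section Pieces

variable {R R' : Type u} [CommRing R] [CommRing R'] [Algebra R R']

/-- right-hand square of a pasting of pushouts. -/
lemma isPushout_right (S S' C C' : Type u) [CommRing S] [CommRing S'] [CommRing C] [CommRing C']
    [Algebra R S] [Algebra R' S'] [Algebra R S'] [Algebra S S'] [IsScalarTower R R' S']
    [IsScalarTower R S S'] [Algebra.IsPushout R R' S S']
    [Algebra S C] [Algebra R C] [IsScalarTower R S C]
    [Algebra R' C'] [Algebra R C'] [Algebra C C'] [IsScalarTower R R' C'] [IsScalarTower R C C']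
    [Algebra.IsPushout R R' C C']
    [Algebra S' C'] [IsScalarTower R' S' C'] [Algebra S C'] [IsScalarTower S S' C']
    [IsScalarTower S C C'] : Algebra.IsPushout S S' C C' := by
  have h1 : Algebra.IsPushout R S R' S' := Algebra.IsPushout.symm inferInstance
  have h2 : Algebra.IsPushout R C R' C' := Algebra.IsPushout.symm inferInstance
  have : IsScalarTower R S' C' := IsScalarTower.of_algebraMap_eq (fun r => by
    rw [IsScalarTower.algebraMap_apply R R' C', IsScalarTower.algebraMap_apply R R' S',
      ← IsScalarTower.algebraMap_apply R' S' C'])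
  exact Algebra.IsPushout.symm ((Algebra.IsPushout.comp_iff R S R' (S' := S') (T := C) (T' := C')).1 h2)

end Pieces

open AlgebraicGeometry CategoryTheory in
/-- base change of a morphism property of `Spec` maps along a pushout of rings. -/
lemma spec_of_isPushout (P : MorphismProperty Scheme.{u}) [P.IsStableUnderBaseChange]
    (R R' D D' : Type u) [CommRing R] [CommRing R'] [CommRing D] [CommRing D']
    [Algebra R R'] [Algebra R D] [Algebra R' D'] [Algebra R D'] [Algebra D D']
    [IsScalarTower R R' D'] [IsScalarTower R D D'] [Algebra.IsPushout R R' D D']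
    (h : P (Spec.map (CommRingCat.ofHom (algebraMap R D)))) :
    P (Spec.map (CommRingCat.ofHom (algebraMap R' D'))) := by
  have h1 := CommRingCat.isPushout_of_isPushout R R' D D'
  have h2 := isPullback_SpecMap_of_isPushout _ _ _ _ h1
  exact MorphismProperty.of_isPullback h2.flip h

theorem isOneStepDevissage_baseChange
    (R S : Type u) [CommRing R] [CommRing S] [Algebra R S] [Algebra.FiniteType R S]
    (N : Type u) [AddCommGroup N] [Module S N] [Module R N] [IsScalarTower R S N] [Module.Finite S N]
    (p : Ideal R) [p.IsPrime]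
    (C D G : Type u) [CommRing C] [CommRing D] [Algebra S C] [Algebra R C] [IsScalarTower R S C]
    [Algebra R D] [Algebra D C] [IsScalarTower R D C] [AddCommGroup G] [Module C G] [Module S G]
    [IsScalarTower S C G] (n : ℕ)
    (h : FlatCA.IsOneStepDevissage R S N p C D G n)
    (R' : Type u) [CommRing R'] [Algebra R R'] (p' : Ideal R') [p'.IsPrime] [p'.LiesOver p]
    (S' C' D' : Type u) [CommRing S'] [CommRing C'] [CommRing D']
    [Algebra R' S'] [Algebra R S'] [Algebra S S'] [IsScalarTower R R' S'] [IsScalarTower R S S']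
    [Algebra.IsPushout R R' S S']
    [Algebra R' C'] [Algebra R C'] [Algebra C C'] [IsScalarTower R R' C'] [IsScalarTower R C C']
    [Algebra.IsPushout R R' C C']
    [Algebra R' D'] [Algebra R D'] [Algebra D D'] [IsScalarTower R R' D'] [IsScalarTower R D D']
    [Algebra.IsPushout R R' D D']
    [Algebra S' C'] [IsScalarTower R' S' C'] [Algebra S C'] [IsScalarTower S S' C'] [IsScalarTower S C C']
    [Algebra D' C'] [IsScalarTower R' D' C'] [Algebra D C'] [IsScalarTower D D' C'] [IsScalarTower D C C']
    (N' : Type u) [AddCommGroup N'] [Module S' N'] [Module R' N'] [IsScalarTower R' S' N']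
    [Module S N'] [IsScalarTower S S' N'] (f : N →ₗ[S] N') (hf : IsBaseChange S' f)
    (G' : Type u) [AddCommGroup G'] [Module C' G'] [Module S' G'] [IsScalarTower S' C' G']
    [Module C G'] [IsScalarTower C C' G'] (g : G →ₗ[C] G') (hg : IsBaseChange C' g) :
    FlatCA.IsOneStepDevissage R' S' N' p' C' D' G' n := by
  obtain ⟨⟨e⟩, hsurj, hfp, hDC, hCG, hsm, hirr, hdim⟩ := h
  have hSC : Algebra.IsPushout S S' C C' := isPushout_right (R := R) (R' := R') S S' C C'
  have hDC' : Algebra.IsPushout D D' C C' := isPushout_right (R := R) (R' := R') D D' C C'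
  refine ⟨⟨?_⟩, ?_, ?_, ?_, ?_, ?_, ?_, ?_⟩
  · -- N' ≃ G'
    have e1 : S' ⊗[S] N ≃ₗ[S'] N' := hf.equiv
    have e2 : S' ⊗[S] N ≃ₗ[S'] S' ⊗[S] G :=
      TensorProduct.AlgebraTensorModule.congr (LinearEquiv.refl S' S') e
    have e3 : C' ⊗[C] G ≃ₗ[S'] S' ⊗[S] G := Algebra.IsPushout.cancelBaseChange S S' C C' G
    have e4 : C' ⊗[C] G ≃ₗ[S'] G' := hg.equiv.restrictScalars S'
    exact e1.symm ≪≫ₗ e2 ≪≫ₗ e3.symm ≪≫ₗ e4
  · -- surjective
    intro x
    have hb : IsBaseChange R' (IsScalarTower.toAlgHom R C C').toLinearMap :=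
      Algebra.IsPushout.out
    refine hb.inductionOn x (fun x => x ∈ Set.range (algebraMap S' C')) ⟨0, map_zero _⟩ ?_ ?_ ?_
    · intro c
      obtain ⟨s, rfl⟩ := hsurj c
      refine ⟨algebraMap S S' s, ?_⟩
      change _ = algebraMap C C' (algebraMap S C s)
      rw [← IsScalarTower.algebraMap_apply S S' C', ← IsScalarTower.algebraMap_apply S C C']
    · rintro r' _ ⟨y, rfl⟩
      refine ⟨r' • y, ?_⟩
      rw [Algebra.smul_def, map_mul, ← IsScalarTower.algebraMap_apply R' S' C', Algebra.smul_def]
    · rintro _ _ ⟨y, rfl⟩ ⟨z, rfl⟩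
      exact ⟨y + z, map_add _ _ _⟩
  · -- finite presentation
    have e : S' ⊗[S] C ≃ₐ[S'] C' := Algebra.IsPushout.equiv S S' C C'
    exact Algebra.FinitePresentation.equiv e
  · have e : D' ⊗[D] C ≃ₐ[D'] C' := Algebra.IsPushout.equiv D D' C C'
    exact Module.Finite.equiv e.toLinearEquiv
  · exact Module.Finite.equiv hg.equiv
  · have := AlgebraicGeometry.smoothOfRelativeDimension_isStableUnderBaseChange (n := n)
    exact spec_of_isPushout (@AlgebraicGeometry.SmoothOfRelativeDimension n) R R' D D' hsm
  · exact spec_of_isPushout @AlgebraicGeometry.GeometricallyIrreducible R R' D D' hirr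
  · rw [supportDim_fiberMod_baseChange p p' f hf]
    exact hdim

end Groth.Agent.R2.H55.Deviss
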