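import Mathlib
import Groth.Agent.Lib.Helper23LocGen
import Groth.Agent.Lib.Helper23TensorMap
import Groth.Agent.Lib.Helper23FinTypeLocal
import Groth.Agent.Lib.Helper23Serre2
import Groth.Agent.Lib.Helper2QCoh
import Groth.Agent.R2.H12IdealMulB

/-!
# Finite generation by global sections (helper55)

On a quasi-compact scheme, a quasi-coherent module of finite type which is (locally) generated by its global sections
(`Helper23.LocGen N ⊤`) is a quotient of a finite free module: `exists_epi_freeMod_of_locGen`.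
-/

set_option autoImplicit false
set_option linter.style.haveILetI false
universe u

open CategoryTheory CategoryTheory.Limits AlgebraicGeometry Opposite TopologicalSpace

namespace Groth.Agent.R2.H55.FinGen

open Groth.Agent.Lib.Helper23.SecTw Groth.Agent.Lib.Helper23.LocGen Groth.Agent.Lib.Helper6
  Groth.Agent.Lib.Helper23.FinType Groth.Agent.Lib.Helper23.QCohLocal

variable {X : Scheme.{u}}

/-- the span over `B` of the values of a finite set of global sections. -/
noncomputable def fspan (N : X.Modules) (S : Finset (Coh.structureModule X ⟶ N)) (B : X.Opens) :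
    Submodule Γ(X, B) Γ(N, B) :=
  Submodule.span Γ(X, B) ((fun σ : Coh.structureModule X ⟶ N => sv σ B) '' (S : Set _))

theorem sv_mem_fspan (N : X.Modules) {S : Finset (Coh.structureModule X ⟶ N)} {σ} (hσ : σ ∈ S) (B : X.Opens) :
    sv σ B ∈ fspan N S B :=
  Submodule.subset_span ⟨σ, hσ, rfl⟩

theorem fspan_mono (N : X.Modules) {S S' : Finset (Coh.structureModule X ⟶ N)} (h : S ⊆ S') (B : X.Opens) :
    fspan N S B ≤ fspan N S' B :=
  Submodule.span_mono (Set.image_mono (Finset.coe_subset.2 h))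

theorem res_mem_fspan (N : X.Modules) (S : Finset (Coh.structureModule X ⟶ N)) {B B' : X.Opens} (h : B' ≤ B)
    {m : Γ(N, B)} (hm : m ∈ fspan N S B) : res N h m ∈ fspan N S B' := by
  induction hm using Submodule.span_induction with
  | mem x hx =>
    obtain ⟨σ, hσ, rfl⟩ := hx
    rw [res_sv]
    exact sv_mem_fspan N hσ B'
  | zero => rw [res_zero]; exact zero_mem _
  | add x y _ _ hx hy => rw [res_add']; exact add_mem hx hy
  | smul r x _ hx => rw [res_smul]; exact Submodule.smul_mem _ _ hx

open Classical in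
theorem exists_finset_of_mem_gspan (N : X.Modules) {B : X.Opens} {m : Γ(N, B)} (hm : m ∈ gspan N B) :
    ∃ S : Finset (Coh.structureModule X ⟶ N), m ∈ fspan N S B := by
  induction hm using Submodule.span_induction with
  | mem x hx =>
    obtain ⟨σ, rfl⟩ := hx
    exact ⟨{σ}, sv_mem_fspan N (Finset.mem_singleton_self σ) B⟩
  | zero => exact ⟨∅, zero_mem _⟩
  | add x y _ _ hx hy =>
    obtain ⟨S₁, h₁⟩ := hx
    obtain ⟨S₂, h₂⟩ := hy
    exact ⟨S₁ ∪ S₂, add_mem (fspan_mono N Finset.subset_union_left B h₁)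
      (fspan_mono N Finset.subset_union_right B h₂)⟩
  | smul r x _ hx =>
    obtain ⟨S, h⟩ := hx
    exact ⟨S, Submodule.smul_mem _ _ h⟩

open Classical in
/-- near every point there are an affine open `W` and a finite set of global sections spanning `Γ(N, W)`. -/
theorem exists_affine_fspan_eq_top (N : X.Modules) [N.IsQuasicoherent]
    [SheafOfModules.IsFiniteType (R := X.ringCatSheaf) N] (h : LocGen N ⊤) (y : X) :
    ∃ (W : X.Opens) (S : Finset (Coh.structureModule X ⟶ N)), IsAffineOpen W ∧ y ∈ W ∧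
      ∀ n : Γ(N, W), n ∈ fspan N S W := by
  obtain ⟨A, hA, hyA, -⟩ := exists_isAffineOpen_mem_and_subset (x := y) (U := ⊤) trivial
  haveI : Module.Finite Γ(X, A) Γ(N, A) := finite_of_isFiniteType N hA
  obtain ⟨r, g, hg⟩ := Module.Finite.exists_fin (R := Γ(X, A)) (M := Γ(N, A))
  have hk : ∀ k : Fin r, ∃ (B : X.Opens) (hB : B ≤ A) (S : Finset (Coh.structureModule X ⟶ N)),
      y ∈ B ∧ res N hB (g k) ∈ fspan N S B := by
    intro k
    obtain ⟨B, hB, hyB, hmem⟩ := h A le_top (g k) y hyA
    obtain ⟨S, hS⟩ := exists_finset_of_mem_gspan N hmem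
    exact ⟨B, hB, S, hyB, hS⟩
  choose B hB S hyB hmem using hk
  let V : X.Opens := (Finset.univ.inf B) ⊓ A
  have hVB : ∀ k, V ≤ B k := fun k => inf_le_left.trans (Finset.inf_le (Finset.mem_univ k))
  have hyV : y ∈ V := by
    refine ⟨?_, hyA⟩
    exact Finset.inf_induction (p := fun U : X.Opens => y ∈ U) trivial
      (fun a ha b hb => ⟨ha, hb⟩) (fun k _ => hyB k)
  obtain ⟨f, hfV, hyf⟩ := hA.exists_basicOpen_le ⟨y, hyV⟩ hyA
  refine ⟨X.basicOpen f, Finset.univ.biUnion S, hA.basicOpen f, hyf, fun n => ?_⟩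
  have key : ∀ t ∈ Submodule.span Γ(X, A) (Set.range g),
      res N (X.basicOpen_le f) t ∈ fspan N (Finset.univ.biUnion S) (X.basicOpen f) := by
    intro t htspan
    induction htspan using Submodule.span_induction with
    | mem x hx =>
      obtain ⟨k, rfl⟩ := hx
      have h2 : res N (X.basicOpen_le f) (g k) = res N (hfV.trans (hVB k)) (res N (hB k) (g k)) :=
        (res_res N (hB k) (hfV.trans (hVB k)) (g k)).symm
      rw [h2]
      exact fspan_mono N (Finset.subset_biUnion_of_mem S (Finset.mem_univ k)) _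
        (res_mem_fspan N (S k) _ (hmem k))
    | zero => rw [res_zero]; exact zero_mem _
    | add x y _ _ hx hy => rw [res_add']; exact add_mem hx hy
    | smul c x _ hx => rw [res_smul]; exact Submodule.smul_mem _ _ hx
  obtain ⟨e, t, ht⟩ := Groth.Agent.Lib.Helper2.QCoh.exists_extension hA N f n
  have h1 := key t (by rw [hg]; trivial)
  have h3 : (resf (X.basicOpen_le f) f) ^ e • n ∈ fspan N (Finset.univ.biUnion S) (X.basicOpen f) := by
    have := h1
    rw [show res N (X.basicOpen_le f) t = (resf (X.basicOpen_le f) f) ^ e • n from ht] at this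
    exact this
  have hu : IsUnit ((resf (X.basicOpen_le f) f) ^ e) :=
    IsUnit.pow _ (X.toRingedSpace.isUnit_res_basicOpen f)
  obtain ⟨v, hv⟩ := hu
  have h4 : n = (↑v⁻¹ : Γ(X, X.basicOpen f)) • ((resf (X.basicOpen_le f) f) ^ e • n) := by
    rw [← hv, ← mul_smul, Units.inv_mul, one_smul]
  rw [h4]
  exact Submodule.smul_mem _ _ h3

/-- the map from a finite free module attached to a finite set of global sections. -/
noncomputable def ofFinset (N : X.Modules) (S : Finset (Coh.structureModule X ⟶ N)) :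
    FlatMod.freeMod X S.card ⟶ N :=
  Sigma.desc (fun i : Fin S.card => ((S.equivFin.symm i : S) : Coh.structureModule X ⟶ N))

theorem ι_ofFinset (N : X.Modules) (S : Finset (Coh.structureModule X ⟶ N)) {σ : Coh.structureModule X ⟶ N}
    (hσ : σ ∈ S) :
    Sigma.ι (fun _ : Fin S.card => Coh.structureModule X) (S.equivFin ⟨σ, hσ⟩) ≫ ofFinset N S = σ := by
  unfold ofFinset
  rw [Sigma.ι_desc, Equiv.symm_apply_apply]

/-- if the finitely many sections `S` span `Γ(N, W)` for the members `W` of an affine cover, then `O^S ⟶ N` is an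
epimorphism. -/
theorem epi_ofFinset_of_cover (N : X.Modules) [N.IsQuasicoherent] (S : Finset (Coh.structureModule X ⟶ N))
    (𝒲 : Set X.affineOpens) (hcov : (⊤ : X.Opens) = ⨆ i ∈ 𝒲, (i : X.Opens))
    (h : ∀ W ∈ 𝒲, ∀ n : Γ(N, (W : X.affineOpens).1), n ∈ fspan N S W.1) : Epi (ofFinset N S) := by
  haveI : (FlatMod.freeMod X S.card).IsQuasicoherent :=
    Groth.Agent.Lib.Helper23.Serre.isQuasicoherent_freeMod S.card
  haveI : (cokernel (ofFinset N S)).IsQuasicoherent := isQuasicoherent_cokernel (ofFinset N S)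
  have hzero : IsZero (cokernel (ofFinset N S)) := by
    refine Groth.Agent.R2.H12.IdealMul.isZero_of_vanOn_cover _ 𝒲 hcov (fun W hW => ?_)
    refine Groth.Agent.R2.H12.IdealMul.vanOn_of_sections_eq_zero _ W.2 (fun c => ?_)
    obtain ⟨n, rfl⟩ := surjective_app_of_epi (cokernel.π (ofFinset N S)) W.2 c
    have hn := h W hW n
    induction hn using Submodule.span_induction with
    | mem x hx =>
      obtain ⟨σ, hσ, rfl⟩ := hx
      have h1 : (cokernel.π (ofFinset N S)).app W.1 (sv σ W.1) = sv (σ ≫ cokernel.π (ofFinset N S)) W.1 := rfl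
      have h2 : σ ≫ cokernel.π (ofFinset N S) = 0 := by
        rw [← ι_ofFinset N S hσ, Category.assoc, cokernel.condition, comp_zero]
      rw [h1, h2]
      rfl
    | zero => exact map_zero _
    | add x y _ _ hx hy => rw [map_add, hx, hy, add_zero]
    | smul r x _ hx => rw [Scheme.Modules.Hom.app_smul, hx, smul_zero]
  exact Abelian.epi_of_cokernel_π_eq_zero _ (hzero.eq_of_tgt _ _)

open Classical in
/-- **Finite generation**: on a quasi-compact scheme, a quasi-coherent module of finite type generated by its global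
sections is a quotient of a finite free module. -/
theorem exists_epi_freeMod_of_locGen [CompactSpace X] (N : X.Modules) [N.IsQuasicoherent]
    [SheafOfModules.IsFiniteType (R := X.ringCatSheaf) N] (h : LocGen N ⊤) :
    ∃ (k : ℕ) (p : FlatMod.freeMod X k ⟶ N), Epi p := by
  choose W S hWaff hyW hspan using exists_affine_fspan_eq_top N h
  obtain ⟨T, hT⟩ : ∃ T : Finset X, (Set.univ : Set X) ⊆ ⋃ x ∈ T, (W x : Set X) :=
    isCompact_univ.elim_finite_subcover (fun x => (W x : Set X)) (fun x => (W x).2)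
      (fun x _ => Set.mem_iUnion.2 ⟨x, hyW x⟩)
  refine ⟨_, ofFinset N (T.biUnion S), epi_ofFinset_of_cover N (T.biUnion S)
    ((fun x => (⟨W x, hWaff x⟩ : X.affineOpens)) '' (T : Set X)) ?_ ?_⟩
  · refine le_antisymm (fun y _ => ?_) le_top
    obtain ⟨x, hx⟩ := Set.mem_iUnion.1 (hT (Set.mem_univ y))
    obtain ⟨hxT, hyx⟩ := Set.mem_iUnion.1 hx
    refine Opens.mem_iSup.2 ⟨⟨W x, hWaff x⟩, ?_⟩
    exact Opens.mem_iSup.2 ⟨⟨x, hxT, rfl⟩, hyx⟩
  · rintro _ ⟨x, hxT, rfl⟩ n
    exact fspan_mono N (Finset.subset_biUnion_of_mem S hxT) _ (hspan x n)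

theorem locGen_top_of_forall (N : X.Modules) (h : ∀ x : X, ∃ V : X.Opens, x ∈ V ∧ LocGen N V) :
    LocGen N ⊤ := by
  intro A _ m y hy
  obtain ⟨V, hyV, hV⟩ := h y
  obtain ⟨B, hB, hyB, hmem⟩ := hV (A ⊓ V) inf_le_right (res N inf_le_left m) y ⟨hy, hyV⟩
  refine ⟨B, hB.trans inf_le_left, hyB, ?_⟩
  rw [← res_res N inf_le_left hB m]
  exact hmem

end Groth.Agent.R2.H55.FinGen
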