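import Mathlib
import Groth.Prelude.Def_Fitting
import Groth.Agent.Lib.Helper18Fitt4
import Groth.Agent.Lib.Helper18Fitt20

/-!
# Fitting ideals of a direct sum (helper55)

`Fitt_l(M × M') = ∑_{k ≤ l} Fitt_k(M) · Fitt_{l-k}(M')`, via helper18's ideals `T k ι x`.
-/

set_option autoImplicit false
set_option linter.unusedSectionVars false
universe u v

namespace Groth.Agent.R2.H55.FittProd

open Matrix Groth.Agent.Helper18Fitt

variable {R : Type u} [CommRing R] {M M' : Type v} [AddCommGroup M] [Module R M]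
  [AddCommGroup M'] [Module R M']
variable {ι ι' : Type} [Fintype ι] [DecidableEq ι] [Fintype ι'] [DecidableEq ι']

/-- the family `x ⊕ x'` in `M × M'`. -/
def sumFam (x : ι → M) (x' : ι' → M') : ι ⊕ ι' → M × M' :=
  Sum.elim (fun i => (x i, 0)) (fun i => (0, x' i))

theorem span_sumFam (x : ι → M) (x' : ι' → M') (hx : Submodule.span R (Set.range x) = ⊤)
    (hx' : Submodule.span R (Set.range x') = ⊤) :
    Submodule.span R (Set.range (sumFam x x')) = ⊤ := by
  rw [eq_top_iff]
  rintro ⟨m, m'⟩ -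
  have h1 : (m, (0 : M')) ∈ Submodule.span R (Set.range (sumFam x x')) := by
    have hm : m ∈ Submodule.span R (Set.range x) := hx ▸ Submodule.mem_top
    have h := Submodule.apply_mem_span_image_of_mem_span (LinearMap.inl R M M') hm
    refine Submodule.span_mono ?_ h
    rintro _ ⟨_, ⟨i, rfl⟩, rfl⟩
    exact ⟨Sum.inl i, rfl⟩
  have h2 : ((0 : M), m') ∈ Submodule.span R (Set.range (sumFam x x')) := by
    have hm : m' ∈ Submodule.span R (Set.range x') := hx' ▸ Submodule.mem_top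
    have h := Submodule.apply_mem_span_image_of_mem_span (LinearMap.inr R M M') hm
    refine Submodule.span_mono ?_ h
    rintro _ ⟨_, ⟨i, rfl⟩, rfl⟩
    exact ⟨Sum.inr i, rfl⟩
  have : (m, m') = (m, 0) + (0, m') := by simp
  rw [this]
  exact add_mem h1 h2

theorem sumFam_rel_iff (x : ι → M) (x' : ι' → M') (r : ι ⊕ ι' → R) :
    ∑ j, r j • sumFam x x' j = 0 ↔
      (∑ j, r (Sum.inl j) • x j = 0) ∧ (∑ j, r (Sum.inr j) • x' j = 0) := by
  rw [Fintype.sum_sum_type, Prod.ext_iff]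
  simp [sumFam, Prod.fst_sum, Prod.snd_sum]

/-- `⊇`: block diagonal matrices. -/
theorem mul_le (x : ι → M) (x' : ι' → M') (k k' l : ℕ) (h : k + k' ≤ l) :
    T (R := R) k ι x * T k' ι' x' ≤ T l (ι ⊕ ι') (sumFam x x') := by
  have e1 : T (R := R) k ι x = Ideal.span {d | ∃ (a : Matrix ι ι R) (S : Finset ι), S.card ≤ k ∧
    (∀ i, i ∉ S → ∑ j, a i j • x j = 0) ∧ d = a.det} := rfl
  have e2 : T (R := R) k' ι' x' = Ideal.span {d | ∃ (a : Matrix ι' ι' R) (S : Finset ι'),
    S.card ≤ k' ∧ (∀ i, i ∉ S → ∑ j, a i j • x' j = 0) ∧ d = a.det} := rfl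
  rw [e1, e2, Ideal.span_mul_span', Ideal.span_le]
  rintro _ ⟨_, ⟨a, S, hS, ha, rfl⟩, _, ⟨a', S', hS', ha', rfl⟩, rfl⟩
  change a.det * a'.det ∈ T l (ι ⊕ ι') (sumFam x x')
  rw [← Matrix.det_fromBlocks_zero₂₁ a 0 a']
  refine mem_T_of _ (S.disjSum S') (by rw [Finset.card_disjSum]; omega) ?_
  rintro (i | i) hi
  · have hi' : i ∉ S := fun h => hi (Finset.inl_mem_disjSum.mpr h)
    rw [sumFam_rel_iff]
    simpa using ha i hi'
  · have hi' : i ∉ S' := fun h => hi (Finset.inr_mem_disjSum.mpr h)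
    rw [sumFam_rel_iff]
    simpa using ha' i hi'

/-- a matrix whose rows in `s` are supported on the `ι`-columns and whose other rows are supported on the
`ι'`-columns has determinant zero unless `|s| = |ι|`. -/
theorem det_eq_zero_of_card_ne (s : Finset (ι ⊕ ι')) (hs : s.card ≠ Fintype.card ι)
    (P : Matrix (ι ⊕ ι') (ι ⊕ ι') R) (h1 : ∀ r ∈ s, ∀ j, P r (Sum.inr j) = 0)
    (h2 : ∀ r, r ∉ s → ∀ j, P r (Sum.inl j) = 0) : P.det = 0 := by
  rw [Matrix.det_apply]
  apply Finset.sum_eq_zero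
  intro σ _
  suffices h : ∃ i, P (σ i) i = 0 by
    obtain ⟨i, hi⟩ := h
    rw [Finset.prod_eq_zero (f := fun i => P (σ i) i) (Finset.mem_univ i) hi, smul_zero]
  by_contra hne
  push Not at hne
  have hA : ∀ j, σ (Sum.inl j) ∈ s := fun j => by
    by_contra hj
    exact hne (Sum.inl j) (h2 _ hj j)
  have hB : ∀ j, σ (Sum.inr j) ∈ sᶜ := fun j => by
    rw [Finset.mem_compl]
    exact fun hj => hne (Sum.inr j) (h1 _ hj j)
  have c1 : Fintype.card ι ≤ s.card := by
    have := Finset.card_le_card_of_injOn (s := (Finset.univ : Finset ι)) (t := s)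
      (fun j : ι => σ (Sum.inl j)) (fun j _ => hA j)
      (fun j _ j' _ h => Sum.inl_injective (σ.injective h))
    simpa using this
  have c2 : Fintype.card ι' ≤ sᶜ.card := by
    have := Finset.card_le_card_of_injOn (s := (Finset.univ : Finset ι')) (t := sᶜ)
      (fun j : ι' => σ (Sum.inr j)) (fun j _ => hB j)
      (fun j _ j' _ h => Sum.inr_injective (σ.injective h))
    simpa using this
  have c3 : s.card + sᶜ.card = Fintype.card ι + Fintype.card ι' := by
    rw [Finset.card_add_card_compl, Fintype.card_sum]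
  omega

theorem card_filter_sum (p : ι ⊕ ι' → Prop) [DecidablePred p] :
    (Finset.univ.filter p).card =
      (Finset.univ.filter fun i : ι => p (Sum.inl i)).card +
        (Finset.univ.filter fun i : ι' => p (Sum.inr i)).card := by
  rw [Finset.card_filter, Finset.card_filter, Finset.card_filter, Fintype.sum_sum_type]

/-- the case `|s| = |ι|`: after a permutation of the rows the matrix is block diagonal. -/
theorem det_mem_of_card_eq (x : ι → M) (x' : ι' → M') (a : Matrix (ι ⊕ ι') (ι ⊕ ι') R)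
    (S : Finset (ι ⊕ ι')) (ha : ∀ i, i ∉ S → ∑ j, a i j • sumFam x x' j = 0)
    (s : Finset (ι ⊕ ι')) (hs : s.card = Fintype.card ι)
    (P : Matrix (ι ⊕ ι') (ι ⊕ ι') R)
    (h11 : ∀ r ∈ s, ∀ j, P r (Sum.inl j) = a r (Sum.inl j))
    (h12 : ∀ r ∈ s, ∀ j, P r (Sum.inr j) = 0)
    (h21 : ∀ r, r ∉ s → ∀ j, P r (Sum.inl j) = 0)
    (h22 : ∀ r, r ∉ s → ∀ j, P r (Sum.inr j) = a r (Sum.inr j)) :
    ∃ k k' : ℕ, k + k' = S.card ∧ P.det ∈ T (R := R) k ι x * T k' ι' x' := by
  classical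
  have c1 : Fintype.card ι = Fintype.card {r // r ∈ s} := by
    rw [Fintype.card_coe, hs]
  have c2 : Fintype.card ι' = Fintype.card {r // r ∉ s} := by
    have := Fintype.card_subtype_compl (fun r : ι ⊕ ι' => r ∈ s)
    rw [this, Fintype.card_sum, Fintype.card_coe, hs]
    omega
  let e₁ : ι ≃ {r // r ∈ s} := Fintype.equivOfCardEq c1
  let e₂ : ι' ≃ {r // r ∉ s} := Fintype.equivOfCardEq c2
  let ρ : ι ⊕ ι' ≃ ι ⊕ ι' := (Equiv.sumCongr e₁ e₂).trans (Equiv.sumCompl (· ∈ s))
  have hρl : ∀ i, ρ (Sum.inl i) ∈ s := fun i => (e₁ i).2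
  have hρr : ∀ i, ρ (Sum.inr i) ∉ s := fun i => (e₂ i).2
  let b : Matrix ι ι R := fun i j => a (ρ (Sum.inl i)) (Sum.inl j)
  let b' : Matrix ι' ι' R := fun i j => a (ρ (Sum.inr i)) (Sum.inr j)
  have hblock : P.submatrix ρ id = Matrix.fromBlocks b 0 0 b' := by
    ext (i | i) (j | j)
    · simp only [Matrix.submatrix_apply, id_eq, Matrix.fromBlocks_apply₁₁]
      exact h11 _ (hρl i) j
    · simp only [Matrix.submatrix_apply, id_eq, Matrix.fromBlocks_apply₁₂, Matrix.zero_apply]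
      exact h12 _ (hρl i) j
    · simp only [Matrix.submatrix_apply, id_eq, Matrix.fromBlocks_apply₂₁, Matrix.zero_apply]
      exact h21 _ (hρr i) j
    · simp only [Matrix.submatrix_apply, id_eq, Matrix.fromBlocks_apply₂₂]
      exact h22 _ (hρr i) j
  have hdet : P.det = (Equiv.Perm.sign ρ : ℤ) * (b.det * b'.det) := by
    have h := Matrix.det_permute ρ P
    rw [hblock, Matrix.det_fromBlocks_zero₂₁] at h
    rw [h, ← mul_assoc, ← Int.cast_mul, Int.units_coe_mul_self, Int.cast_one, one_mul]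
  let S₁ : Finset ι := Finset.univ.filter fun i => ρ (Sum.inl i) ∈ S
  let S₂ : Finset ι' := Finset.univ.filter fun i => ρ (Sum.inr i) ∈ S
  have hcard : S₁.card + S₂.card = S.card := by
    rw [← card_filter_sum (fun r => ρ r ∈ S)]
    have : (Finset.univ.filter fun r => ρ r ∈ S) = S.map ρ.symm.toEmbedding := by
      ext r
      simp only [Finset.mem_filter, Finset.mem_univ, true_and, Finset.mem_map,
        Equiv.coe_toEmbedding]
      constructor
      · intro h
        exact ⟨ρ r, h, by simp⟩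
      · rintro ⟨t, ht, rfl⟩
        simpa using ht
    rw [this, Finset.card_map]
  refine ⟨S₁.card, S₂.card, hcard, ?_⟩
  rw [hdet]
  refine Ideal.mul_mem_left _ _ (Ideal.mul_mem_mul ?_ ?_)
  · refine mem_T_of b S₁ le_rfl ?_
    intro i hi
    have hi' : ρ (Sum.inl i) ∉ S := by
      intro h
      exact hi (Finset.mem_filter.mpr ⟨Finset.mem_univ _, h⟩)
    exact ((sumFam_rel_iff x x' _).mp (ha _ hi')).1
  · refine mem_T_of b' S₂ le_rfl ?_
    intro i hi
    have hi' : ρ (Sum.inr i) ∉ S := by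
      intro h
      exact hi (Finset.mem_filter.mpr ⟨Finset.mem_univ _, h⟩)
    exact ((sumFam_rel_iff x x' _).mp (ha _ hi')).2

/-- `⊆`: expand all rows into their two block components. -/
theorem le_sum (x : ι → M) (x' : ι' → M') (l : ℕ) :
    T (R := R) l (ι ⊕ ι') (sumFam x x') ≤
      ∑ k ∈ Finset.range (l + 1), T (R := R) k ι x * T (l - k) ι' x' := by
  classical
  have e1 : T (R := R) l (ι ⊕ ι') (sumFam x x') =
      Ideal.span {d | ∃ (a : Matrix (ι ⊕ ι') (ι ⊕ ι') R) (S : Finset (ι ⊕ ι')), S.card ≤ l ∧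
        (∀ i, i ∉ S → ∑ j, a i j • sumFam x x' j = 0) ∧ d = a.det} := rfl
  rw [e1, Ideal.span_le]
  rintro _ ⟨a, S, hS, ha, rfl⟩
  let m : ι ⊕ ι' → (ι ⊕ ι' → R) := fun r => Sum.elim (fun j => a r (Sum.inl j)) (fun _ => 0)
  let m' : ι ⊕ ι' → (ι ⊕ ι' → R) := fun r => Sum.elim (fun _ => 0) (fun j => a r (Sum.inr j))
  have hsum : (a : ι ⊕ ι' → (ι ⊕ ι' → R)) = m + m' := by
    funext r j
    rcases j with j | j <;> simp [m, m']
  have hdet : a.det = ∑ s : Finset (ι ⊕ ι'),
      Matrix.det (Matrix.of (s.piecewise m m')) := by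
    have h := (Matrix.detRowAlternating (R := R) (n := ι ⊕ ι')).toMultilinearMap.map_add_univ m m'
    rw [← hsum] at h
    exact h
  rw [hdet]
  refine Ideal.sum_mem _ fun s _ => ?_
  have h11 : ∀ r ∈ s, ∀ j, Matrix.of (s.piecewise m m') r (Sum.inl j) = a r (Sum.inl j) := by
    intro r hr j
    simp [Finset.piecewise_eq_of_mem _ _ _ hr, m]
  have h12 : ∀ r ∈ s, ∀ j, Matrix.of (s.piecewise m m') r (Sum.inr j) = 0 := by
    intro r hr j
    simp [Finset.piecewise_eq_of_mem _ _ _ hr, m]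
  have h21 : ∀ r, r ∉ s → ∀ j, Matrix.of (s.piecewise m m') r (Sum.inl j) = 0 := by
    intro r hr j
    simp [Finset.piecewise_eq_of_notMem _ _ _ hr, m']
  have h22 : ∀ r, r ∉ s → ∀ j, Matrix.of (s.piecewise m m') r (Sum.inr j) = a r (Sum.inr j) := by
    intro r hr j
    simp [Finset.piecewise_eq_of_notMem _ _ _ hr, m']
  by_cases hs : s.card = Fintype.card ι
  · obtain ⟨k, k', hkk, hmem⟩ := det_mem_of_card_eq x x' a S ha s hs _ h11 h12 h21 h22
    have hk : k ∈ Finset.range (l + 1) := Finset.mem_range.mpr (by omega)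
    have hle : T (R := R) k ι x * T k' ι' x' ≤ T (R := R) k ι x * T (l - k) ι' x' :=
      Ideal.mul_mono_right (T_mono (by omega) x')
    have hle2 : T (R := R) k ι x * T (l - k) ι' x' ≤
        ∑ k ∈ Finset.range (l + 1), T (R := R) k ι x * T (l - k) ι' x' :=
      Finset.single_le_sum (f := fun k => T (R := R) k ι x * T (l - k) ι' x')
        (fun _ _ => bot_le) hk
    exact hle2 (hle hmem)
  · rw [det_eq_zero_of_card_ne s hs _ h12 h21]
    exact Ideal.zero_mem _

theorem T_sumFam (x : ι → M) (x' : ι' → M') (l : ℕ) :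
    T (R := R) l (ι ⊕ ι') (sumFam x x') =
      ∑ k ∈ Finset.range (l + 1), T (R := R) k ι x * T (l - k) ι' x' := by
  refine le_antisymm (le_sum x x' l) ?_
  rw [Ideal.sum_eq_sup]
  exact Finset.sup_le fun k hk =>
    mul_le x x' k (l - k) l (by have := Finset.mem_range.mp hk; omega)

/-- **Fitting ideals of a product.** -/
theorem fitt_prod (R : Type u) [CommRing R] (M M' : Type u) [AddCommGroup M] [Module R M]
    [AddCommGroup M'] [Module R M'] [Module.Finite R M] [Module.Finite R M'] (l : ℕ) :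
    Fitt.ideal R (M × M') l =
      ∑ k ∈ Finset.range (l + 1), Fitt.ideal R M k * Fitt.ideal R M' (l - k) := by
  classical
  obtain ⟨n, x, hx⟩ := Module.Finite.exists_fin (R := R) (M := M)
  obtain ⟨n', x', hx'⟩ := Module.Finite.exists_fin (R := R) (M := M')
  obtain ⟨N, y, hy⟩ := Module.Finite.exists_fin (R := R) (M := M × M')
  rw [fitt_eq_T y hy l, T_indep l y (sumFam x x') hy (span_sumFam x x' hx hx'), T_sumFam]
  refine Finset.sum_congr rfl fun k _ => ?_
  rw [fitt_eq_T x hx, fitt_eq_T x' hx']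

end Groth.Agent.R2.H55.FittProd
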