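import Mathlib
import Groth.Prelude.Def_EtGlue
import Groth.Agent.Lib.Helper16Flat
import Groth.Agent.S2004

/-!
# Base change of a glueing pair along a glueable algebra; flat ring maps glue (helper55)

For a glueing pair `(R → R', f)` and an `R`-algebra `A`:
* `quotPowBijective_baseChange`: `A/fⁿ ≅ (R' ⊗ A)/fⁿ`;
* `isGlueingPair_baseChange`: if `A` is glueable then `(A → R' ⊗_R A, f)` is a glueing pair;
* `ringHom_flat_of_loc_of_tensor`, `ringHom_flat_iff`: `φ : A → B` is flat iff `A_f → B_f` and
  `R' ⊗ A → R' ⊗ B` are (helper16's `flat_of_glueingPair'` over the base-changed pair).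
-/

set_option autoImplicit false
universe u

namespace Groth.Agent.R2.H55.GlueBC

open TensorProduct Groth.Agent.Lib.Helper16

attribute [local instance] Algebra.TensorProduct.rightAlgebra

variable {R R' : Type u} [CommRing R] [CommRing R'] [Algebra R R'] {f : R}
variable (A : Type u) [CommRing A] [Algebra R A]

lemma algebraMap_pow_eq (n : ℕ) :
    algebraMap A (R' ⊗[R] A) (algebraMap R A f ^ n) = f ^ n • (1 : R' ⊗[R] A) := by
  rw [Algebra.TensorProduct.right_algebraMap_apply, ← map_pow, Algebra.algebraMap_eq_smul_one,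
    TensorProduct.tmul_smul]
  rfl

lemma mul_algebraMap_pow (n : ℕ) (y : R' ⊗[R] A) :
    y * algebraMap A (R' ⊗[R] A) (algebraMap R A f ^ n) = f ^ n • y := by
  rw [algebraMap_pow_eq, mul_smul_comm, mul_one]

theorem quotPowBijective_baseChange (hq : EtGlue.QuotPowBijective R R' f) :
    EtGlue.QuotPowBijective A (R' ⊗[R] A) (algebraMap R A f) := by
  intro n hn
  set J : Ideal A := Ideal.span {algebraMap R A f ^ n} with hJ
  have hkill : ∀ m : A ⧸ J, f ^ n • m = 0 := by
    intro m
    obtain ⟨a, rfl⟩ := Ideal.Quotient.mk_surjective m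
    rw [Algebra.smul_def, IsScalarTower.algebraMap_apply R A (A ⧸ J),
      Ideal.Quotient.algebraMap_eq, ← map_mul, Ideal.Quotient.eq_zero_iff_mem, map_pow]
    exact Ideal.mul_mem_right _ _ (Ideal.mem_span_singleton_self _)
  have hM : ∀ m : A ⧸ J, ∃ k : ℕ, f ^ k • m = 0 := fun m => ⟨n, hkill m⟩
  let ρ : R' ⊗[R] A →ₗ[R] A ⧸ J :=
    (torsRetract hq hM) ∘ₗ (LinearMap.lTensor R' ((Ideal.Quotient.mkₐ R J).toLinearMap))
  have hρ1 : ∀ a : A, ρ ((1 : R') ⊗ₜ[R] a) = Ideal.Quotient.mk J a := by
    intro a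
    simp only [ρ, LinearMap.coe_comp, Function.comp_apply, LinearMap.lTensor_tmul,
      AlgHom.toLinearMap_apply, Ideal.Quotient.mkₐ_eq_mk]
    exact torsRetract_one_tmul hq hM _
  have hρ2 : ∀ y : R' ⊗[R] A, ρ (f ^ n • y) = 0 := by
    intro y
    rw [map_smul, hkill]
  have hmap : ∀ x : R' ⊗[R] A, x ∈ Ideal.map (algebraMap A (R' ⊗[R] A)) J ↔
      ∃ y, f ^ n • y = x := by
    intro x
    rw [hJ, Ideal.map_span, Set.image_singleton, Ideal.mem_span_singleton']
    constructor
    · rintro ⟨y, hy⟩
      exact ⟨y, by rw [← hy, mul_algebraMap_pow]⟩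
    · rintro ⟨y, hy⟩
      exact ⟨y, by rw [← hy, mul_algebraMap_pow]⟩
  constructor
  · rw [injective_iff_map_eq_zero]
    intro x hx
    obtain ⟨a, rfl⟩ := Ideal.Quotient.mk_surjective x
    rw [Ideal.quotientMap_mk, Ideal.Quotient.eq_zero_iff_mem, hmap] at hx
    obtain ⟨y, hy⟩ := hx
    rw [Algebra.TensorProduct.right_algebraMap_apply] at hy
    rw [← hρ1, ← hy, hρ2]
  · intro x
    obtain ⟨x, rfl⟩ := Ideal.Quotient.mk_surjective x
    induction x using TensorProduct.induction_on with
    | zero => exact ⟨0, by simp⟩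
    | tmul r' a =>
      obtain ⟨r, s', hrs⟩ := quotPow_surj hq hn r'
      refine ⟨Ideal.Quotient.mk J (r • a), ?_⟩
      rw [Ideal.quotientMap_mk, Ideal.Quotient.eq, hmap]
      refine ⟨-(s' ⊗ₜ[R] a), ?_⟩
      have h1 : (1 : R') ⊗ₜ[R] (r • a) = r • ((1 : R') ⊗ₜ[R] a) := TensorProduct.tmul_smul r 1 a
      have h2 : (algebraMap R R' r) ⊗ₜ[R] a = r • ((1 : R') ⊗ₜ[R] a) := by
        rw [Algebra.algebraMap_eq_smul_one, TensorProduct.smul_tmul']
      have h3 : (algebraMap R R' f ^ n * s') ⊗ₜ[R] a = f ^ n • (s' ⊗ₜ[R] a) := by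
        rw [← map_pow, ← Algebra.smul_def, TensorProduct.smul_tmul']
      rw [Algebra.TensorProduct.right_algebraMap_apply, hrs, TensorProduct.add_tmul, h1, h2, h3,
        smul_neg]
      abel
    | add x y hx hy =>
      obtain ⟨a, ha⟩ := hx
      obtain ⟨b, hb⟩ := hy
      exact ⟨a + b, by rw [map_add, ha, hb, map_add]⟩


/-- the base change of a glueing pair along a glueable algebra is a glueing pair -/
theorem isGlueingPair_baseChange (h : EtGlue.IsGlueingPair R R' f)
    (hA : EtGlue.IsGlueable R R' f A) :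
    EtGlue.IsGlueingPair A (R' ⊗[R] A) (algebraMap R A f) := by
  have hq' := quotPowBijective_baseChange A h.1
  obtain ⟨ht1, ht2⟩ := torsion_of_isGlueable hA
  refine (Groth.Agent.S2004.result A (R' ⊗[R] A) (algebraMap R A f) hq').2 ⟨?_, ?_⟩
  · rintro x ⟨n, hn⟩ h0
    refine ht1 x ⟨n, ?_⟩ ?_
    · rw [Algebra.smul_def, map_pow]
      exact hn
    · rw [← Algebra.TensorProduct.right_algebraMap_apply]
      exact h0
  · rintro x' ⟨n, hn⟩
    have hn' : f ^ n • x' = 0 := by
      rw [← map_pow, mul_comm, mul_algebraMap_pow] at hn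
      exact hn
    obtain ⟨m, ⟨k, hk⟩, hm⟩ := ht2 x' ⟨n, hn'⟩
    refine ⟨m, ⟨k, ?_⟩, hm⟩
    rw [← map_pow, ← Algebra.smul_def]
    exact hk


section Flat

variable {A} {B : Type u} [CommRing B] [Algebra R B]

/-- flatness of a ring map descends along a glueing pair -/
theorem ringHom_flat_of_loc_of_tensor (h : EtGlue.IsGlueingPair R R' f)
    (hA : EtGlue.IsGlueable R R' f A) (φ : A →ₐ[R] B)
    (h1 : (Localization.awayMap φ.toRingHom (algebraMap R A f)).Flat)
    (h2 : (Algebra.TensorProduct.map (AlgHom.id R R') φ).toRingHom.Flat) : φ.toRingHom.Flat := by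
  let _ : Algebra A B := φ.toRingHom.toAlgebra
  have : IsScalarTower R A B := IsScalarTower.of_algebraMap_eq' (by
    ext r
    simp [RingHom.algebraMap_toAlgebra])
  let _ : Algebra (R' ⊗[R] A) (R' ⊗[R] B) :=
    (Algebra.TensorProduct.map (AlgHom.id R R') φ).toRingHom.toAlgebra
  let _ : Algebra A (R' ⊗[R] B) := ((algebraMap B (R' ⊗[R] B)).comp (algebraMap A B)).toAlgebra
  have : IsScalarTower A B (R' ⊗[R] B) := IsScalarTower.of_algebraMap_eq' rfl
  have : IsScalarTower A (R' ⊗[R] A) (R' ⊗[R] B) := IsScalarTower.of_algebraMap_eq' (by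
    ext a
    simp [RingHom.algebraMap_toAlgebra])
  have : IsScalarTower R (R' ⊗[R] A) (R' ⊗[R] B) := IsScalarTower.of_algebraMap_eq' (by
    ext r
    simp [RingHom.algebraMap_toAlgebra])
  have : IsScalarTower R' (R' ⊗[R] A) (R' ⊗[R] B) := IsScalarTower.of_algebraMap_eq' (by
    ext r
    simp [RingHom.algebraMap_toAlgebra])
  have hpo : Algebra.IsPushout A B (R' ⊗[R] A) (R' ⊗[R] B) :=
    (Algebra.IsPushout.comp_iff R A R' (R' ⊗[R] A) (T := B) (T' := R' ⊗[R] B)).mp inferInstance
  have hpo' : Algebra.IsPushout A (R' ⊗[R] A) B (R' ⊗[R] B) := hpo.symm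
  have hgp := isGlueingPair_baseChange A h hA
  have hfl2 : Module.Flat (R' ⊗[R] A) (R' ⊗[R] B) := h2
  have hfl2' : Module.Flat (R' ⊗[R] A) ((R' ⊗[R] A) ⊗[A] B) :=
    Module.Flat.of_linearEquiv (Algebra.IsPushout.equiv A (R' ⊗[R] A) B (R' ⊗[R] B)).toLinearEquiv
  let _ : Algebra (Localization.Away (algebraMap R A f))
      (Localization.Away (φ.toRingHom (algebraMap R A f))) :=
    (Localization.awayMap φ.toRingHom (algebraMap R A f)).toAlgebra
  have hflf : Module.Flat (Localization.Away (algebraMap R A f))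
      (Localization.Away (φ.toRingHom (algebraMap R A f))) := h1
  have : IsScalarTower A (Localization.Away (algebraMap R A f))
      (Localization.Away (φ.toRingHom (algebraMap R A f))) := IsScalarTower.of_algebraMap_eq' (by
    ext a
    rw [RingHom.comp_apply, RingHom.algebraMap_toAlgebra,
      IsScalarTower.algebraMap_apply A B (Localization.Away (φ.toRingHom (algebraMap R A f)))]
    exact (IsLocalization.map_eq (M := Submonoid.powers (algebraMap R A f))
      (S := Localization.Away (algebraMap R A f))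
      (T := Submonoid.powers (φ.toRingHom (algebraMap R A f)))
      (Q := Localization.Away (φ.toRingHom (algebraMap R A f))) _ a).symm)
  have hflA : Module.Flat A (Localization.Away (φ.toRingHom (algebraMap R A f))) :=
    Module.Flat.trans A (Localization.Away (algebraMap R A f)) _
  have hloc : IsLocalizedModule (Submonoid.powers (algebraMap R A f))
      (IsScalarTower.toAlgHom A B (Localization.Away (φ.toRingHom (algebraMap R A f)))).toLinearMap := by
    rw [isLocalizedModule_iff_isLocalization, Algebra.algebraMapSubmonoid_powers]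
    exact inferInstanceAs (IsLocalization.Away (φ.toRingHom (algebraMap R A f))
      (Localization.Away (φ.toRingHom (algebraMap R A f))))
  have hfl1 : Module.Flat A (LocalizedModule (Submonoid.powers (algebraMap R A f)) B) :=
    Module.Flat.of_linearEquiv (IsLocalizedModule.iso (Submonoid.powers (algebraMap R A f))
      (IsScalarTower.toAlgHom A B
        (Localization.Away (φ.toRingHom (algebraMap R A f)))).toLinearMap)
  have hres : Module.Flat A B := flat_of_glueingPair' hgp hfl1
  exact hres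


/-- flatness of a ring map is detected along a glueing pair -/
theorem ringHom_flat_iff (h : EtGlue.IsGlueingPair R R' f)
    (hA : EtGlue.IsGlueable R R' f A) (φ : A →ₐ[R] B) :
    φ.toRingHom.Flat ↔ (Localization.awayMap φ.toRingHom (algebraMap R A f)).Flat ∧
      (Algebra.TensorProduct.map (AlgHom.id R R') φ).toRingHom.Flat := by
  constructor
  · intro hφ
    exact ⟨RingHom.Flat.isStableUnderBaseChange.localizationPreserves.away _ _ _ _ hφ,
      tensorMap_of_isStableUnderBaseChange RingHom.Flat.isStableUnderBaseChange R' φ hφ⟩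
  · rintro ⟨h1, h2⟩
    exact ringHom_flat_of_loc_of_tensor h hA φ h1 h2

end Flat

end Groth.Agent.R2.H55.GlueBC
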