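import Mathlib
import Groth.Prelude.Def_RelProj
import Groth.Agent.Lib.Helper13GradedGen

/-!
# Veronese degree of a graded ring of finite type over its degree-zero part (helper55)
-/

set_option autoImplicit false
set_option linter.unusedSectionVars false
set_option linter.style.haveILetI false
universe u
open DirectSum

namespace Groth.Agent.R2.H55.GradedVer

open Groth.Agent.Helper13GradedGen

variable {S : Type u} [CommRing S] (𝒜 : ℕ → AddSubgroup S) [GradedRing 𝒜]

/-- the graded pieces as submodules over the degree-zero subring. -/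
def sub (n : ℕ) : Submodule (𝒜 0) S where
  carrier := 𝒜 n
  add_mem' := (𝒜 n).add_mem
  zero_mem' := (𝒜 n).zero_mem
  smul_mem' := fun c x hx => by
    have h := SetLike.mul_mem_graded c.2 hx
    rw [zero_add] at h
    exact h

theorem mem_sub {n : ℕ} {x : S} : x ∈ sub 𝒜 n ↔ x ∈ 𝒜 n := Iff.rfl

theorem sub_restrictScalars (n : ℕ) :
    (sub 𝒜 n).restrictScalars ℤ = AddSubgroup.toIntSubmodule (𝒜 n) := rfl

instance : SetLike.GradedMonoid (sub 𝒜) where
  one_mem := SetLike.one_mem_graded 𝒜
  mul_mem := fun _ _ _ _ hx hy => SetLike.mul_mem_graded (A := 𝒜) hx hy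

/-- the identity `𝒜 i → sub 𝒜 i`. -/
def toSub (i : ℕ) : 𝒜 i →+ sub 𝒜 i where
  toFun := fun y => ⟨y.1, y.2⟩
  map_zero' := rfl
  map_add' := fun _ _ => rfl

noncomputable def decHom : S →+ ⨁ i, sub 𝒜 i :=
  (DirectSum.map (toSub 𝒜)).comp (DirectSum.decomposeAddEquiv 𝒜).toAddMonoidHom

theorem coe_map_toSub (z : ⨁ i, 𝒜 i) :
    DirectSum.coeAddMonoidHom (sub 𝒜) (DirectSum.map (toSub 𝒜) z) =
      DirectSum.coeAddMonoidHom 𝒜 z := by
  classical
  induction z using DirectSum.induction_on with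
  | zero => simp
  | of g x =>
    rw [DirectSum.map_of, DirectSum.coeAddMonoidHom_of, DirectSum.coeAddMonoidHom_of]
    rfl
  | add x y hx hy => rw [map_add, map_add, map_add, hx, hy]

noncomputable instance : DirectSum.Decomposition (sub 𝒜) :=
  DirectSum.Decomposition.ofAddHom (sub 𝒜) (decHom 𝒜)
    (by
      apply AddMonoidHom.ext
      intro x
      change DirectSum.coeAddMonoidHom (sub 𝒜)
        (DirectSum.map (toSub 𝒜) (DirectSum.decompose 𝒜 x)) = x
      rw [coe_map_toSub]
      exact DirectSum.Decomposition.left_inv x)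
    (by
      apply DirectSum.addHom_ext
      rintro g ⟨y, hy⟩
      rw [AddMonoidHom.comp_apply, DirectSum.coeAddMonoidHom_of]
      change DirectSum.map (toSub 𝒜) (DirectSum.decompose 𝒜 y) = _
      rw [DirectSum.decompose_of_mem 𝒜 hy, DirectSum.map_of]
      rfl)

noncomputable instance : GradedAlgebra (sub 𝒜) where

theorem span_restrictScalars (T : Set S) :
    (Submodule.span (𝒜 0) T).restrictScalars ℤ =
      AddSubgroup.toIntSubmodule (𝒜 0) * Submodule.span ℤ T := by
  apply le_antisymm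
  · intro x hx
    change x ∈ Submodule.span (𝒜 0) T at hx
    induction hx using Submodule.span_induction with
    | mem t ht =>
      have : t = 1 * t := (one_mul t).symm
      rw [this]
      exact Submodule.mul_mem_mul (SetLike.one_mem_graded 𝒜) (Submodule.subset_span ht)
    | zero => exact Submodule.zero_mem _
    | add x y _ _ hx hy => exact Submodule.add_mem _ hx hy
    | smul c x _ hx =>
      change (c : S) * x ∈ _
      refine Submodule.mul_induction_on hx (fun a ha t ht => ?_) (fun x y hx hy => ?_)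
      · rw [← mul_assoc]
        refine Submodule.mul_mem_mul ?_ ht
        have h := SetLike.mul_mem_graded (A := 𝒜) c.2 ha
        rw [zero_add] at h
        exact h
      · rw [mul_add]
        exact Submodule.add_mem _ hx hy
  · rw [Submodule.mul_le]
    intro a ha t ht
    have ht' : t ∈ Submodule.span (𝒜 0) T :=
      Submodule.span_le_restrictScalars ℤ (𝒜 0) T ht
    exact (Submodule.span (𝒜 0) T).smul_mem (⟨a, ha⟩ : 𝒜 0) ht'

variable [Algebra.FiniteType (𝒜 0) S]

theorem exists_gens : ∃ (r : ℕ) (f : Fin r → S) (deg : Fin r → ℕ), (∀ i, 0 < deg i) ∧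
    (∀ i, f i ∈ sub 𝒜 (deg i)) ∧ Algebra.adjoin (𝒜 0) (Set.range f) = ⊤ := by
  classical
  obtain ⟨s, hs, hs'⟩ := GradedAlgebra.exists_finset_adjoin_eq_top_and_homogeneous_ne_zero 𝒜
  choose! n hn0 hn using hs'
  refine ⟨s.card, fun i => (s.equivFin.symm i).1, fun i => n (s.equivFin.symm i).1,
    fun i => Nat.pos_of_ne_zero (hn0 _ (s.equivFin.symm i).2),
    fun i => hn _ (s.equivFin.symm i).2, ?_⟩
  have : Set.range (fun i => ((s.equivFin.symm i).1 : S)) = ↑s := by
    ext x
    constructor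
    · rintro ⟨i, rfl⟩
      exact (s.equivFin.symm i).2
    · intro hx
      exact ⟨s.equivFin ⟨x, hx⟩, by simp⟩
  rw [this, hs]

/-- **Veronese degrees**: for `d = a L`, `a ≥ r`, the `d`-th Veronese subring is generated by its degree-one part, and every
graded piece is finitely generated over the degree-zero part. -/
theorem core : ∃ L r : ℕ, 0 < L ∧ ∀ a : ℕ, r ≤ a →
    (∀ n : ℕ, 0 < n → AddSubgroup.toIntSubmodule (𝒜 (n * (a * L))) =
      AddSubgroup.toIntSubmodule (𝒜 (a * L)) ^ n) ∧
    ∃ T : Finset S, (↑T : Set S) ⊆ (𝒜 (a * L) : Set S) ∧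
      AddSubgroup.toIntSubmodule (𝒜 (a * L)) =
        AddSubgroup.toIntSubmodule (𝒜 0) * Submodule.span ℤ (↑T : Set S) := by
  classical
  obtain ⟨r, f, deg, hdeg, hf, hgen⟩ := exists_gens 𝒜
  refine ⟨Finset.univ.lcm deg, r - 1, lcm_pos hdeg, fun a ha => ⟨fun n hn => ?_, ?_⟩⟩
  · have h := graded_mul_eq_pow (sub 𝒜) hdeg hf hgen a ha n
    rw [← sub_restrictScalars, ← sub_restrictScalars, h,
      Submodule.restrictScalars_pow hn.ne']
  · set m := a * Finset.univ.lcm deg with hm
    let E : Finset (Fin r → ℕ) :=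
      (Fintype.piFinset fun _ => Finset.range (m + 1)).filter fun e => wt deg e = m
    let T : Finset S := E.image (mon f)
    have hT : (↑T : Set S) ⊆ (𝒜 m : Set S) := by
      intro t ht
      obtain ⟨e, he, rfl⟩ := Finset.mem_image.mp (Finset.mem_coe.mp ht)
      have he' : wt deg e = m := (Finset.mem_filter.mp he).2
      have := mon_mem (sub 𝒜) hf e
      rw [he'] at this
      exact this
    refine ⟨T, hT, ?_⟩
    have heq : sub 𝒜 m = Submodule.span (𝒜 0) (↑T : Set S) := by
      apply le_antisymm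
      · apply le_of_mon_mem (sub 𝒜) hf hgen
        intro e he
        apply Submodule.subset_span
        refine Finset.mem_coe.mpr (Finset.mem_image.mpr ⟨e, ?_, rfl⟩)
        refine Finset.mem_filter.mpr ⟨?_, he⟩
        rw [Fintype.mem_piFinset]
        intro i
        rw [Finset.mem_range]
        have h1 : e i * deg i ≤ wt deg e :=
          Finset.single_le_sum (f := fun i => e i * deg i) (fun _ _ => Nat.zero_le _)
            (Finset.mem_univ i)
        have h2 : e i ≤ e i * deg i := Nat.le_mul_of_pos_right _ (hdeg i)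
        omega
      · rw [Submodule.span_le]
        exact hT
    rw [← sub_restrictScalars, heq, span_restrictScalars]

section Scheme

open CategoryTheory AlgebraicGeometry Opposite

theorem finiteType_zero {Y : Scheme.{u}} (𝒮 : RelProj.QCGrAlg Y) (U : Y.Opens) (hU : IsAffineOpen U)
    (hft : (𝒮.str.app (op U)).hom.FiniteType) :
    Algebra.FiniteType (𝒮.deg U hU 0) (𝒮.presheaf.obj (op U)) := by
  letI : Algebra Γ(Y, U) (𝒮.presheaf.obj (op U)) := (𝒮.str.app (op U)).hom.toAlgebra
  letI : Algebra Γ(Y, U) (𝒮.deg U hU 0) := (𝒮.strZero U hU).hom.toAlgebra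
  haveI : IsScalarTower Γ(Y, U) (𝒮.deg U hU 0) (𝒮.presheaf.obj (op U)) :=
    IsScalarTower.of_algebraMap_eq (fun r => rfl)
  haveI : Algebra.FiniteType Γ(Y, U) (𝒮.presheaf.obj (op U)) := hft
  exact Algebra.FiniteType.of_restrictScalars_finiteType Γ(Y, U) _ _

theorem main {Y : Scheme.{u}} (𝒮 : RelProj.QCGrAlg Y)
    {ι : Type u} [Finite ι] (U : ι → Y.Opens) (hU : ∀ i, IsAffineOpen (U i))
    (hft : ∀ i, (𝒮.str.app (op (U i))).hom.FiniteType) :
    ∃ d : ℕ, 0 < d ∧ ∀ i,
      (∀ n : ℕ, 0 < n →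
        AddSubgroup.toIntSubmodule (𝒮.deg (U i) (hU i) (n * d)) =
          AddSubgroup.toIntSubmodule (𝒮.deg (U i) (hU i) d) ^ n) ∧
      ∃ T : Finset (𝒮.presheaf.obj (op (U i))),
        (↑T : Set (𝒮.presheaf.obj (op (U i)))) ⊆
          (𝒮.deg (U i) (hU i) d : Set (𝒮.presheaf.obj (op (U i)))) ∧
        AddSubgroup.toIntSubmodule (𝒮.deg (U i) (hU i) d) =
          AddSubgroup.toIntSubmodule (𝒮.deg (U i) (hU i) 0) *
            Submodule.span ℤ (↑T : Set (𝒮.presheaf.obj (op (U i)))) := by
  classical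
  haveI := Fintype.ofFinite ι
  have hcore := fun i =>
    haveI := finiteType_zero 𝒮 (U i) (hU i) (hft i)
    core (𝒮.deg (U i) (hU i))
  choose L r hL h using hcore
  have hP : 0 < ∏ i, L i := Finset.prod_pos fun i _ => hL i
  refine ⟨(∑ i, r i + 1) * ∏ i, L i, Nat.mul_pos (Nat.succ_pos _) hP, fun i => ?_⟩
  have hdvd : L i ∣ (∑ i, r i + 1) * ∏ i, L i :=
    Dvd.dvd.mul_left (Finset.dvd_prod_of_mem L (Finset.mem_univ i)) _
  have hd : (∑ i, r i + 1) * ∏ i, L i = ((∑ i, r i + 1) * ∏ i, L i) / L i * L i :=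
    (Nat.div_mul_cancel hdvd).symm
  have ha : r i ≤ ((∑ i, r i + 1) * ∏ i, L i) / L i := by
    rw [Nat.le_div_iff_mul_le (hL i)]
    refine Nat.mul_le_mul ?_ (Nat.le_of_dvd hP (Finset.dvd_prod_of_mem L (Finset.mem_univ i)))
    have : r i ≤ ∑ i, r i :=
      Finset.single_le_sum (f := r) (fun _ _ => Nat.zero_le _) (Finset.mem_univ i)
    omega
  rw [hd]
  exact h i _ ha

end Scheme

end Groth.Agent.R2.H55.GradedVer
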