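import Mathlib

/-!
# Group algebras: `R[G]` is free over `R[H]` along a homomorphism with a set of
coset representatives (helper55)
-/

set_option autoImplicit false
universe u

namespace Groth.Agent.R2.H55.GrpAlg

open MonoidAlgebra

variable (R : Type*) [CommRing R] {H G Q : Type*} [CommGroup H] [CommGroup G]
  (f : H →* G) (σ : Q → G) (hσ : Function.Bijective (fun p : H × Q => f p.1 * σ p.2))

/-- the `R`-linear equivalence `R[G] ≃ (Q →₀ R[H])`. -/
noncomputable def e₀ : MonoidAlgebra R G ≃ₗ[R] (Q →₀ MonoidAlgebra R H) :=
  ((coeffLinearEquiv (M := G) (S := R) R).trans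
    ((Finsupp.domLCongr ((Equiv.ofBijective _ hσ).symm.trans (Equiv.prodComm H Q))).trans
      (Finsupp.curryLinearEquiv R))).trans
    (Finsupp.mapRange.linearEquiv (coeffLinearEquiv (M := H) (S := R) R).symm)

lemma e₀_single (h : H) (q : Q) (r : R) :
    e₀ R f σ hσ (single (f h * σ q) r) = Finsupp.single q (single h r) := by
  have h1 : (Equiv.ofBijective _ hσ).symm (f h * σ q) = (h, q) := by
    rw [Equiv.symm_apply_eq]
    rfl
  simp only [e₀, LinearEquiv.trans_apply]
  have h2 : coeffLinearEquiv (M := G) (S := R) R (single (f h * σ q) r) =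
      Finsupp.single (f h * σ q) r := rfl
  rw [h2, Finsupp.domLCongr_single]
  simp only [Equiv.trans_apply, h1, Equiv.prodComm_apply, Prod.swap_prod_mk]
  rw [Finsupp.curryLinearEquiv_apply, Finsupp.curry_single]
  simp only [Finsupp.mapRange.linearEquiv_apply]
  rw [Finsupp.mapRange_single]
  rfl

lemma e₀_mul (a : MonoidAlgebra R H) (b : MonoidAlgebra R G) :
    e₀ R f σ hσ (mapDomainRingHom R f a * b) = a • e₀ R f σ hσ b := by
  induction a using MonoidAlgebra.induction_linear with
  | zero => simp
  | add a a' ha ha' => rw [map_add, add_mul, map_add, ha, ha', add_smul]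
  | single h r =>
    induction b using MonoidAlgebra.induction_linear with
    | zero => simp
    | add b b' hb hb' => rw [mul_add, map_add, hb, hb', map_add, smul_add]
    | single g s =>
      obtain ⟨⟨h', q⟩, rfl⟩ := hσ.2 g
      simp only [mapDomainRingHom_apply, mapDomain_single]
      rw [single_mul_single, ← mul_assoc, ← map_mul, e₀_single, e₀_single, Finsupp.smul_single,
        smul_eq_mul, single_mul_single]

/-- the `R[H]`-algebra structure on `R[G]` -/
noncomputable abbrev alg : Algebra (MonoidAlgebra R H) (MonoidAlgebra R G) :=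
  (mapDomainRingHom R f).toAlgebra

/-- the `R[H]`-linear equivalence `R[G] ≃ (Q →₀ R[H])`. -/
noncomputable def e₁ :
    letI := alg R f
    MonoidAlgebra R G ≃ₗ[MonoidAlgebra R H] (Q →₀ MonoidAlgebra R H) :=
  letI := alg R f
  { (e₀ R f σ hσ).toAddEquiv with
    map_smul' := fun a b => by
      change e₀ R f σ hσ (mapDomainRingHom R f a * b) = a • e₀ R f σ hσ b
      exact e₀_mul R f σ hσ a b }

include hσ in
theorem free : letI := alg R f; Module.Free (MonoidAlgebra R H) (MonoidAlgebra R G) :=
  letI := alg R f
  Module.Free.of_equiv (e₁ R f σ hσ).symm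

include hσ in
theorem finite [Finite Q] : letI := alg R f; Module.Finite (MonoidAlgebra R H) (MonoidAlgebra R G) :=
  letI := alg R f
  Module.Finite.equiv (e₁ R f σ hσ).symm

include hσ in
theorem flat : (mapDomainRingHom R f).Flat := by
  letI := alg R f
  have := free R f σ hσ
  rw [RingHom.Flat]
  infer_instance

include hσ in
theorem finitePresentation [Finite Q] : (mapDomainRingHom R f).FinitePresentation := by
  letI := alg R f
  have := free R f σ hσ
  have := finite R f σ hσ
  rw [RingHom.FinitePresentation]
  have : Module.FinitePresentation (MonoidAlgebra R H) (MonoidAlgebra R G) :=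
    Module.finitePresentation_of_projective _ _
  infer_instance

include hσ in
theorem comap_surjective [Nontrivial R] :
    Function.Surjective (PrimeSpectrum.comap (mapDomainRingHom R f)) := by
  letI := alg R f
  have := free R f σ hσ
  have : Module.FaithfullyFlat (MonoidAlgebra R H) (MonoidAlgebra R G) := inferInstance
  exact PrimeSpectrum.comap_surjective_of_faithfullyFlat

end Groth.Agent.R2.H55.GrpAlg
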