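import Mathlib
import Groth.Prelude.Def_NonAbH2
import Groth.Prelude.Def_Red2
import Groth.Agent.Lib.Helper27GaGm
import Groth.Agent.Lib.Helper27DiagSub
import Groth.Agent.R2.H55GrpAlg
import Groth.Agent.R2.H55DSPts

/-!
# The Kummer sequence `1 → μ_n → G_m → G_m → 1` is fppf-exact (helper55)

* `powRing_flat`, `powRing_finitePresentation`, `powRing_comap_surjective`: `T ↦ T^n` on `ℤ[T^{±1}]`
  is free of rank `n`, hence faithfully flat of finite presentation.
* `pullback_map_left_of`: a morphism property stable under base change and composition passes to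
  `((Over.pullback f).map g).left`.
* `flat_chi`, `lofp_chi`, `surj_chi`: the `n`-th power map of `G_{m,S}` is fppf.
* `chi_eq_pow`, `incl_chi`, `incl_mono_pts`, `exists_lift_incl`: `μ_n(T)` is the `n`-torsion of `G_m(T)`.
* `isPullback_of_points`: pullback squares can be checked on points.
* `kummer_isExactSeq_fppf`.
-/

set_option autoImplicit false
universe u

open CategoryTheory MonoidalCategory CartesianMonoidalCategory MonObj GrpObj AlgebraicGeometry
  CategoryTheory.Limits

namespace Groth.Agent.R2.H55.Kummer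

open Groth.Agent.Lib.Helper27.GaGm Groth.Agent.R2.H55.DSPts

/-- the `n`-th power map on `Multiplicative ℤ`. -/
noncomputable abbrev powHom (n : ℕ) : Multiplicative ℤ →* Multiplicative ℤ :=
  AddMonoidHom.toMultiplicative (zmultiplesHom ℤ (n : ℤ))

/-- coset representatives -/
def rep (n : ℕ) (i : Fin n) : Multiplicative ℤ := Multiplicative.ofAdd (i : ℤ)

lemma bij (n : ℕ) [NeZero n] :
    Function.Bijective (fun p : Multiplicative ℤ × Fin n => powHom n p.1 * rep n p.2) := by
  have h := (Int.divModEquiv n).symm.bijective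
  constructor
  · rintro ⟨a, i⟩ ⟨b, j⟩ hab
    have : (Int.divModEquiv n).symm (Multiplicative.toAdd a, i) =
        (Int.divModEquiv n).symm (Multiplicative.toAdd b, j) := by
      have := congrArg Multiplicative.toAdd hab
      simp only [powHom, rep, AddMonoidHom.toMultiplicative_apply_apply, toAdd_mul, toAdd_ofAdd,
        zmultiplesHom_apply, smul_eq_mul] at this
      simp only [Int.divModEquiv_symm_apply]
      linarith
    have h2 := h.1 this
    simp only [Prod.mk.injEq] at h2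
    ext
    · exact congrArg _ h2.1
    · exact congrArg _ h2.2
  · intro g
    obtain ⟨⟨a, i⟩, hai⟩ := h.2 (Multiplicative.toAdd g)
    refine ⟨(Multiplicative.ofAdd a, i), ?_⟩
    apply Multiplicative.toAdd.injective
    simp only [powHom, rep, AddMonoidHom.toMultiplicative_apply_apply, toAdd_mul, toAdd_ofAdd,
        zmultiplesHom_apply, smul_eq_mul]
    rw [← hai]
    simp only [Int.divModEquiv_symm_apply]

/-- the ring map `ℤ[T^{±1}] → ℤ[T^{±1}]`, `T ↦ T^n`. -/
noncomputable abbrev powRing (n : ℕ) :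
    MonoidAlgebra (ULift.{u} ℤ) (Multiplicative ℤ) →+* MonoidAlgebra (ULift.{u} ℤ) (Multiplicative ℤ) :=
  (MonoidAlgebra.mapDomainAlgHom (ULift.{u} ℤ) (ULift.{u} ℤ) (powHom n)).toRingHom

lemma powRing_eq (n : ℕ) : powRing.{u} n = MonoidAlgebra.mapDomainRingHom (ULift.{u} ℤ) (powHom n) := by
  ext <;> simp

lemma powRing_flat (n : ℕ) [NeZero n] : (powRing.{u} n).Flat := by
  rw [powRing_eq]
  exact GrpAlg.flat _ _ (rep n) (bij n)

lemma powRing_finitePresentation (n : ℕ) [NeZero n] : (powRing.{u} n).FinitePresentation := by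
  rw [powRing_eq]
  exact GrpAlg.finitePresentation _ _ (rep n) (bij n)

lemma powRing_comap_surjective (n : ℕ) [NeZero n] :
    Function.Surjective (PrimeSpectrum.comap (powRing.{u} n)) := by
  rw [powRing_eq]
  exact GrpAlg.comap_surjective _ _ (rep n) (bij n)

lemma diagMap_left (n : ℕ) :
    (Red.diagMap (ULift.{u} ℤ) (zmultiplesHom ℤ (n : ℤ))).left =
      Spec.map (CommRingCat.ofHom (powRing.{u} n)) := rfl

instance flat_diagMap (n : ℕ) [NeZero n] :
    Flat (Red.diagMap (ULift.{u} ℤ) (zmultiplesHom ℤ (n : ℤ))).left := by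
  have h : Flat (Spec.map (CommRingCat.ofHom (powRing.{u} n))) := by
    rw [HasRingHomProperty.Spec_iff (P := @Flat)]
    exact powRing_flat n
  exact h

instance lofp_diagMap (n : ℕ) [NeZero n] :
    LocallyOfFinitePresentation (Red.diagMap (ULift.{u} ℤ) (zmultiplesHom ℤ (n : ℤ))).left := by
  have h : LocallyOfFinitePresentation (Spec.map (CommRingCat.ofHom (powRing.{u} n))) := by
    rw [HasRingHomProperty.Spec_iff (P := @LocallyOfFinitePresentation)]
    exact powRing_finitePresentation n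
  exact h

instance surj_diagMap (n : ℕ) [NeZero n] :
    Surjective (Red.diagMap (ULift.{u} ℤ) (zmultiplesHom ℤ (n : ℤ))).left := by
  have h : Surjective (Spec.map (CommRingCat.ofHom (powRing.{u} n))) := by
    constructor
    exact powRing_comap_surjective n
  exact h

theorem pullback_map_left_of (P : MorphismProperty Scheme.{u}) [P.IsStableUnderBaseChange]
    [P.IsStableUnderComposition]
    {S T : Scheme.{u}} (f : S ⟶ T) {X Y : Over T}
    (g : X ⟶ Y) (hg : P g.left) (hid : P (𝟙 S)) :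
    P ((Over.pullback f).map g).left := by
  have h1 : ((Over.pullback f).map g).left =
      pullback.map X.hom f Y.hom f g.left (𝟙 _) (𝟙 _) (by simp) (by simp) := by
    apply pullback.hom_ext <;> simp [pullback.map]
  rw [h1]
  exact MorphismProperty.pullbackMap (P := P) hg hid (by simp) (by simp)

instance flat_chi (S : Scheme.{u}) (n : ℕ) [NeZero n] : Flat (Red.chi S (n : ℤ)).left :=
  pullback_map_left_of @Flat _ _ (flat_diagMap n) inferInstance

instance lofp_chi (S : Scheme.{u}) (n : ℕ) [NeZero n] :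
    LocallyOfFinitePresentation (Red.chi S (n : ℤ)).left :=
  pullback_map_left_of @LocallyOfFinitePresentation _ _ (lofp_diagMap n) inferInstance

instance surj_chi (S : Scheme.{u}) (n : ℕ) [NeZero n] : Surjective (Red.chi S (n : ℤ)).left :=
  pullback_map_left_of @Surjective _ _ (surj_diagMap n) inferInstance

theorem isLocallyTrivialFor_chi (S : Scheme.{u}) (n : ℕ) [NeZero n] :
    NonAbH1.IsLocallyTrivialFor Scheme.fppfPrecoverage
      (Over.mk (Red.chi S (n : ℤ)).left : Over (Red.Gm S).left) := by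
  refine ⟨Presieve.singleton (Red.chi S (n : ℤ)).left,
    Scheme.Hom.singleton_mem_fppfPrecoverage _, ?_⟩
  rintro S' f ⟨⟩
  exact ⟨𝟙 _, Category.id_comp _⟩

section Points

variable {S : Scheme.{u}}

/-- a square is a pullback if it is so on points. -/
theorem isPullback_of_points {C : Type*} [Category C] {W X Y Z : C} (p : W ⟶ X) (q : W ⟶ Y)
    (f : X ⟶ Z) (g : Y ⟶ Z) (comm : p ≫ f = q ≫ g)
    (h : ∀ (T : C) (a : T ⟶ X) (b : T ⟶ Y), a ≫ f = b ≫ g →
      ∃ c : T ⟶ W, (c ≫ p = a ∧ c ≫ q = b) ∧ ∀ c' : T ⟶ W, c' ≫ p = a → c' ≫ q = b → c' = c) :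
    IsPullback p q f g := by
  refine IsPullback.of_isLimit (PullbackCone.IsLimit.mk comm
    (fun s => (h s.pt s.fst s.snd s.condition).choose)
    (fun s => (h s.pt s.fst s.snd s.condition).choose_spec.1.1)
    (fun s => (h s.pt s.fst s.snd s.condition).choose_spec.1.2)
    (fun s m h1 h2 => (h s.pt s.fst s.snd s.condition).choose_spec.2 m h1 h2))

lemma dsFn_natCast {M : Type} [AddCommGroup M] {X : Over S} (x : X ⟶ Red.DS S M) (m : M) (k : ℕ) :
    dsFn x (k • m) = dsFn x m ^ k := by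
  induction k with
  | zero => simp [dsFn_zero]
  | succ k ih => rw [succ_nsmul, dsFn_add, ih, pow_succ]

lemma gmFn_chi {X : Over S} (x : X ⟶ Red.Gm S) (n : ℕ) :
    Red.gmFn (x ≫ Red.chi S (n : ℤ)) = Red.gmFn x ^ n := by
  rw [gmFn_eq_dsFn, gmFn_eq_dsFn, Red.chi, dsFn_DSmap, ← dsFn_natCast]
  congr 1
  simp

lemma chi_eq_pow {X : Over S} (x : X ⟶ Red.Gm S) (n : ℕ) :
    x ≫ Red.chi S (n : ℤ) = x ^ n := by
  apply gmFn_injective
  rw [gmFn_chi, gmFn_pow]

variable (n : ℕ)

/-- the inclusion `μ_n → G_m`. -/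
noncomputable abbrev incl (S : Scheme.{u}) (n : ℕ) : Red.DS S (ZMod n) ⟶ Red.Gm S :=
  Red.DSmap S (Int.castAddHom (ZMod n))

lemma incl_chi : incl S n ≫ Red.chi S (n : ℤ) = 1 := by
  apply dsFn_injective
  intro m
  rw [Red.chi, dsFn_DSmap, dsFn_one]
  have h : incl S n = 𝟙 _ ≫ incl S n := (Category.id_comp _).symm
  rw [h, dsFn_DSmap]
  have : (Int.castAddHom (ZMod n)) ((zmultiplesHom ℤ (n : ℤ)) m) = 0 := by simp
  rw [this, dsFn_zero]

lemma incl_mono_pts {X : Over S} (z z' : X ⟶ Red.DS S (ZMod n)) (h : z ≫ incl S n = z' ≫ incl S n) :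
    z = z' := by
  apply dsFn_injective
  intro m
  obtain ⟨k, rfl⟩ := ZMod.intCast_surjective m
  have h1 := dsFn_DSmap (Int.castAddHom (ZMod n)) z k
  have h2 := dsFn_DSmap (Int.castAddHom (ZMod n)) z' k
  rw [show (Int.castAddHom (ZMod n)) k = (k : ZMod n) from rfl] at h1 h2
  rw [← h1, ← h2, h]

lemma exists_lift_incl [NeZero n] {X : Over S} (w : X ⟶ Red.Gm S) (hw : w ≫ Red.chi S (n : ℤ) = 1) :
    ∃ z : X ⟶ Red.DS S (ZMod n), z ≫ incl S n = w := by
  have hζ : Red.gmFn w ^ n = 1 := by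
    rw [← gmFn_chi, hw, gmFn_one]
  let φ : Multiplicative (ZMod n) →* Γ(X.left, ⊤) :=
    { toFun := fun a => Red.gmFn w ^ (Multiplicative.toAdd a).val
      map_one' := by simp
      map_mul' := fun a b => by
        rw [toAdd_mul, ZMod.val_add, ← pow_eq_pow_mod _ hζ, pow_add] }
  obtain ⟨z, hz⟩ := dsFn_surjective φ
  refine ⟨z, ?_⟩
  apply gmFn_injective
  rw [gmFn_eq_dsFn, dsFn_DSmap, hz]
  change Red.gmFn w ^ (Multiplicative.toAdd (Multiplicative.ofAdd ((Int.castAddHom (ZMod n)) 1))).val = _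
  rw [toAdd_ofAdd]
  have : (Int.castAddHom (ZMod n)) 1 = 1 := by simp
  rw [this, ZMod.val_one_eq_one_mod, ← pow_eq_pow_mod _ hζ, pow_one]

lemma rightTranslation_eq {G G' : Over S} [GrpObj G] (u : G' ⟶ G) :
    (G ◁ u) ≫ μ[G] = fst G G' * (snd G G' ≫ u) := by
  rw [MonObj.mul_eq_mul, MonObj.comp_mul, whiskerLeft_fst, whiskerLeft_snd]

theorem isPullback_kummer [NeZero n] :
    IsPullback (fst (Red.Gm S) (Red.DS S (ZMod n))) ((Red.Gm S ◁ incl S n) ≫ μ[Red.Gm S])
      (Red.chi S (n : ℤ)) (Red.chi S (n : ℤ)) := by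
  have : IsMonHom (Red.chi S (n : ℤ)) := Groth.Agent.Lib.Helper27DiagSub.isMonHom_DSmap S _
  rw [rightTranslation_eq]
  refine isPullback_of_points _ _ _ _ ?_ ?_
  · rw [MonObj.mul_comp _ _ (Red.chi S (n : ℤ)), Category.assoc, incl_chi, MonObj.comp_one,
      _root_.mul_one]
  · intro T a b hab
    have hw : (a⁻¹ * b) ≫ Red.chi S (n : ℤ) = 1 := by
      rw [MonObj.mul_comp _ _ (Red.chi S (n : ℤ)), ← hab, ← MonObj.mul_comp _ _ (Red.chi S (n : ℤ)),
        inv_mul_cancel, MonObj.one_comp (Red.chi S (n : ℤ))]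
    obtain ⟨z, hz⟩ := exists_lift_incl n (a⁻¹ * b) hw
    refine ⟨lift a z, ⟨lift_fst _ _, ?_⟩, ?_⟩
    · rw [MonObj.comp_mul, lift_fst, lift_snd_assoc, hz, mul_inv_cancel_left]
    · intro c' h1 h2
      have h3 : c' ≫ snd _ _ = z := by
        apply incl_mono_pts
        rw [hz, Category.assoc]
        rw [MonObj.comp_mul, h1] at h2
        rw [← h2, inv_mul_cancel_left]
      ext1
      · rw [h1, lift_fst]
      · rw [h3, lift_snd]

end Points

theorem kummer_isExactSeq_fppf (S : Scheme.{u}) (n : ℕ) (hn : 0 < n) :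
    NonAbH1.IsExactSeq Scheme.fppfPrecoverage
      (Red.DSmap S (Int.castAddHom (ZMod n))) (Red.chi S (n : ℤ)) := by
  have : NeZero n := ⟨hn.ne'⟩
  exact ⟨Groth.Agent.Lib.Helper27DiagSub.isMonHom_DSmap S _,
    Groth.Agent.Lib.Helper27DiagSub.isMonHom_DSmap S _, incl_chi n, isPullback_kummer n,
    isLocallyTrivialFor_chi S n⟩

end Groth.Agent.R2.H55.Kummer
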