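import Mathlib
import Groth.Prelude.Def_PerfAux
import Groth.Agent.R2.H55FinGen
import Groth.Agent.R2.H79TwistCalc
import Groth.Agent.R2.H34InvDual
import Groth.Agent.R2.H4PerfFree
import Groth.Agent.Lib.Helper1FLF1
import Groth.Agent.Lib.Helper18PBUnit2
import Groth.Agent.Lib.Helper23SecTw7

/-!
# The resolution property of a scheme with an ample invertible module (helper55, S1108)
-/

set_option autoImplicit false
set_option linter.style.haveILetI false
universe u

open CategoryTheory CategoryTheory.Limits AlgebraicGeometry Opposite TopologicalSpace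

namespace Groth.Agent.R2.H55.ResProp

open Groth.Agent.R2.H55.FinGen Groth.Agent.Lib.Helper23.LocGen Groth.Agent.R2.H79.TwistCalc

/-- a finite type quasi-coherent module on a scheme with an ample invertible module is a quotient of a finite locally
free module (a finite sum of copies of a negative power of `L`). -/
theorem hasResolutionProperty_of_isAmple (X : Scheme.{u}) (L : X.Modules) (hL : CohB1.IsAmple L) :
    PerfAux.HasResolutionProperty X := by
  intro M hMq hMft
  haveI : CompactSpace X := hL.2.1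
  haveI : M.IsQuasicoherent := hMq
  haveI : SheafOfModules.IsFiniteType (R := X.ringCatSheaf) M := hMft
  have hLi : PicF.IsInvertible L := hL.1
  choose V N₀ hxV hN using exists_locGen_nhd L hL M
  obtain ⟨T, hT⟩ : ∃ T : Finset X, (Set.univ : Set X) ⊆ ⋃ x ∈ T, (V x : Set X) :=
    isCompact_univ.elim_finite_subcover (fun x => (V x : Set X)) (fun x => (V x).2)
      (fun x _ => Set.mem_iUnion.2 ⟨x, hxV x⟩)
  set n := T.sup N₀ with hn
  have hLn : PicF.IsInvertible (CohB1.tensorPow L n) :=
    Groth.Agent.Lib.Helper23.SecTw.isInvertible_tensorPow hLi n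
  have hcoh : Coh.IsCoh (CohB1.tensorMod M (CohB1.tensorPow L n)) := isCoh_tensorMod M _ ⟨hMq, hMft⟩ hLn
  haveI : (CohB1.tensorMod M (CohB1.tensorPow L n)).IsQuasicoherent := hcoh.1
  haveI : SheafOfModules.IsFiniteType (R := X.ringCatSheaf) (CohB1.tensorMod M (CohB1.tensorPow L n)) := hcoh.2
  have hloc : LocGen (CohB1.tensorMod M (CohB1.tensorPow L n)) ⊤ := by
    refine locGen_top_of_forall _ (fun y => ?_)
    obtain ⟨x, hx⟩ := Set.mem_iUnion.1 (hT (Set.mem_univ y))
    obtain ⟨hxT, hyx⟩ := Set.mem_iUnion.1 hx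
    exact ⟨V x, hyx, hN x n (Finset.le_sup hxT)⟩
  obtain ⟨k, p, hp⟩ := exists_epi_freeMod_of_locGen _ hloc
  obtain ⟨L', hL', ⟨e⟩, -⟩ := Groth.Agent.R2.H34.InvDual.exists_inverse (CohB1.tensorPow L n) hLn
  let ψ : CohB1.tensorMod (CohB1.tensorMod M (CohB1.tensorPow L n)) L' ≅ M :=
    tensorAssocIso M (CohB1.tensorPow L n) L' ≪≫ (tensorRightFCongr e).app M ≪≫ tensorRightFUnit.app M
  refine ⟨CohB1.tensorMod (FlatMod.freeMod X k) L', (tensorRightF L').map p ≫ ψ.hom, ?_, ?_⟩
  · exact Groth.Agent.Lib.Helper1.FLF.isFinLocFree_tensor _ _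
      (Groth.Agent.R2.H4.Perf.isFinLocFree_freeMod X k)
      (Groth.Agent.Helper18PBUnit.isFinLocFree_of_isInvertible hL')
  · have h1 : Epi ((tensorRightF L').map p) := epi_map_tensorRightF L' p
    exact epi_comp' h1 inferInstance

end Groth.Agent.R2.H55.ResProp
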