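import Mathlib
import Groth.Prelude.Def_W4c2seshadriposJets
import Groth.Agent.R2.H55AmpleNil
import Groth.Agent.R2.H54AmpleA1
import Groth.Agent.R2.H91AmpleEmb
import Groth.Agent.R2.H5CohThick
import Groth.Agent.Lib.Helper23QCohLocal
import Groth.Agent.S0007

/-!
# Vanishing of `H^i(m_x^a ⊗ L^m)`, `i > 1`, uniformly in `a` (helper55, S15254)

For a coherent module `F` killed by an ideal sheaf `J` whose closed subscheme is affine, `H^p(X, F ⊗ L^m) = 0` for all
`p > 0` and all `m` (`S0786` + projection formula + `S0012` + affine vanishing `S0007`).  Applied to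
`O_X / m_x^a`, the long exact sequence of `0 → m_x^a → O_X → O_X / m_x^a → 0` twisted by `L^m` and Serre vanishing (A3)
for `O_X` give the claim.
-/

set_option autoImplicit false
set_option linter.style.haveILetI false
universe u

open CategoryTheory CategoryTheory.Limits AlgebraicGeometry Opposite TopologicalSpace

namespace Groth.Agent.R2.H55.SeshadriVan

open Groth.Agent.R2.H79.TwistCalc Groth.Agent.R2.H54.AmpleSpec Groth.Agent.R2.H55.AmpleVan
  Groth.Agent.R2.H62.CohLES Groth.Agent.R2.H55.AmpleNil
  Groth.Agent.Lib.Helper23.QCohLocal Groth.Agent.Lib.Helper23.FinType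
  Groth.Agent.Helper13PullbackUnit

/-- a scheme with at most one point is affine. -/
theorem isAffine_of_subsingleton (T : Scheme.{u}) [Subsingleton T] : IsAffine T := by
  by_cases h : IsEmpty T
  · infer_instance
  · rw [not_isEmpty_iff] at h
    obtain ⟨z⟩ := h
    obtain ⟨_, ⟨U, hU, rfl⟩, hzU, -⟩ :=
      T.isBasis_affineOpens.exists_subset_of_mem_open (Set.mem_univ z) isOpen_univ
    have hU' : U = ⊤ := by
      ext y
      simp only [Opens.coe_top, Set.mem_univ, iff_true]
      rw [Subsingleton.elim y z]
      exact hzU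
    subst hU'
    have h1 : IsAffine ((⊤ : T.Opens) : Scheme.{u}) := hU
    exact (IsAffine.iff_of_isIso T.topIso.hom).mp h1

variable {X : Scheme.{u}}

/-- a submodule of a direct image from the closed subscheme `V(J)` is killed by `J`. -/
theorem killedByIdeal_of_mono_push (J : X.IdealSheafData) (N : J.subscheme.Modules) (Q : X.Modules)
    (ι : Q ⟶ (Scheme.Modules.pushforward J.subschemeι).obj N) [Mono ι] :
    ClSub.KilledByIdeal J Q := by
  intro U a ha q'
  suffices key : ∀ q : Γ(Q, U.1), a • q = 0 from key q'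
  intro q
  apply Groth.Agent.Lib.Helper20.StalkExact.injective_app_of_mono ι U.1
  rw [Scheme.Modules.Hom.app_smul, pushforward_smul]
  have h1 : (J.subschemeι.app U.1) a = 0 := by
    rw [← J.ker_subschemeι_app U] at ha
    exact ha
  rw [h1, zero_smul]
  exact (map_zero _).symm

/-- coherent modules supported on an affine closed subscheme have no higher cohomology after any twist. -/
theorem subsingleton_HH_of_killedByIdeal_of_isAffine [IsLocallyNoetherian X] (L : X.Modules)
    (hL : PicF.IsInvertible L) (J : X.IdealSheafData) [IsAffine J.subscheme]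
    (F : X.Modules) (hF : Coh.IsCoh F) (hk : ClSub.KilledByIdeal J F) (m p : ℕ) (hp : 0 < p) :
    Subsingleton (Coh.HH X (CohB1.tensorMod F (CohB1.tensorPow L m)) p) := by
  obtain ⟨G, hG, ⟨e⟩⟩ := Groth.Agent.S0786.result J.subschemeι F hF (by
    rw [J.ker_subschemeι]
    exact hk)
  haveI : G.IsQuasicoherent := hG.1
  have hLi : PicF.IsInvertible ((Scheme.Modules.pullback J.subschemeι).obj L) :=
    Groth.Agent.Lib.Helper23.PB.isInvertible_pullback J.subschemeι L hL
  haveI : Coh.IsQCoh (CohB1.tensorMod G
      (CohB1.tensorPow ((Scheme.Modules.pullback J.subschemeι).obj L) m)) :=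
    isQCoh_tensorMod G _ hG.1 (Groth.Agent.Lib.Helper23.SecTw.isInvertible_tensorPow hLi m)
  exact subsingleton_HH_of_iso (tensorRightCongr e _) p
    (subsingleton_HH_push_tensorPow J.subschemeι G L hL m p
      (Groth.Agent.S0007.result J.subscheme _ p hp))

/-- the closed subscheme of a power of the ideal of a closed point has at most one point. -/
theorem subsingleton_subscheme_pointIdeal_pow (x : X) (hx : IsClosed ({x} : Set X)) (a : ℕ) :
    Subsingleton ((W4c2seshadripos.pointIdeal x hx) ^ a).subscheme := by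
  have hsupp : (((W4c2seshadripos.pointIdeal x hx) ^ a).support : Set X) ⊆ {x} := by
    cases a with
    | zero =>
      rw [pow_zero, Scheme.IdealSheafData.one_eq_top, Scheme.IdealSheafData.support_top]
      intro y hy
      exact absurd hy (Set.notMem_empty _)
    | succ a =>
      rw [Scheme.IdealSheafData.support_pow_succ]
      have h2 : ((W4c2seshadripos.pointIdeal x hx).support : Set X) = {x} :=
        Scheme.IdealSheafData.coe_support_vanishingIdeal _
      rw [h2]
  generalize (W4c2seshadripos.pointIdeal x hx) ^ a = J at hsupp ⊢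
  refine ⟨fun z w => ?_⟩
  have hinj : Function.Injective (J.subschemeι : J.subscheme → X) :=
    J.subschemeι.isEmbedding.injective
  have hmem : ∀ y : J.subscheme, J.subschemeι y = x := by
    intro y
    have h1 : J.subschemeι y ∈ Set.range J.subschemeι := Set.mem_range_self y
    rw [Scheme.IdealSheafData.range_subschemeι] at h1
    exact hsupp h1
  exact hinj ((hmem z).trans (hmem w).symm)

/-- **S15254**: `H^i(X, m_x^a ⊗ L^m) = 0` for `i > 1`, `m ≥ m₀`, all `a`. -/
theorem main (k : Type u) [Field k] (X : Scheme.{u})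
    [X.Over (Spec (CommRingCat.of k))] [IsProper (X ↘ (Spec (CommRingCat.of k)))]
    (x : X) (hx : IsClosed ({x} : Set X)) (L : X.Modules) (hL : CohB1.IsAmple L) :
    ∃ m₀ : ℕ, ∀ m : ℕ, m₀ ≤ m → ∀ i : ℕ, 1 < i → ∀ a : ℕ,
      Subsingleton (Coh.HH X (CohB1.tensorMod (ClSub.idealMod ((W4c2seshadripos.pointIdeal x hx) ^ a))
        (CohB1.tensorPow L m)) i) := by
  haveI : IsLocallyNoetherian X :=
    LocallyOfFiniteType.isLocallyNoetherian (X ↘ Spec (CommRingCat.of k))
  have hLi : PicF.IsInvertible L := hL.1
  have hO : Coh.IsCoh (Coh.structureModule X) :=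
    Groth.Agent.R2.H5.CohThick.isCoh_structureModule X
  obtain ⟨m₀, hm₀⟩ := ampleVanishing k Groth.Agent.R2.H54.AmpleA1.pnSubVanishing
    (Groth.Agent.R2.H91.AmpleEmb.ampleEmbedding k) X (X ↘ Spec (CommRingCat.of k)) L hL
    (Coh.structureModule X) hO
  refine ⟨m₀, fun m hm i hi a => ?_⟩
  obtain ⟨n, rfl⟩ : ∃ n, i = n + 1 := ⟨i - 1, by omega⟩
  have hn : 0 < n := by omega
  set J := (W4c2seshadripos.pointIdeal x hx) ^ a with hJ
  haveI : Subsingleton J.subscheme := subsingleton_subscheme_pointIdeal_pow x hx a
  haveI : IsAffine J.subscheme := isAffine_of_subsingleton _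
  let π := ClSub.toSubscheme J
  haveI : (Coh.structureModule X).IsQuasicoherent := hO.1
  haveI : SheafOfModules.IsFiniteType (R := X.ringCatSheaf) (Coh.structureModule X) := hO.2
  haveI : (Coh.structureModule J.subscheme).IsQuasicoherent :=
    Groth.Agent.R2.H5.CohThick.isQuasicoherent_structureModule J.subscheme
  haveI : ((Scheme.Modules.pushforward J.subschemeι).obj
      (Coh.structureModule J.subscheme)).IsQuasicoherent :=
    isQuasicoherent_pushforward J.subschemeι _
  haveI : (kernel π).IsQuasicoherent := isQuasicoherent_kernel π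
  have hQq : (Abelian.coimage π).IsQuasicoherent := isQuasicoherent_cokernel (kernel.ι π)
  have hQ : Coh.IsCoh (Abelian.coimage π) :=
    ⟨hQq, isFiniteType_of_epi (cokernel.π (kernel.ι π))⟩
  have hQk : ClSub.KilledByIdeal J (Abelian.coimage π) :=
    killedByIdeal_of_mono_push J _ _ (Abelian.factorThruCoimage π)
  let S : ShortComplex X.Modules := ShortComplex.cokernelSequence (kernel.ι π)
  have hS : S.ShortExact := by
    haveI : Mono S.f := inferInstanceAs (Mono (kernel.ι π))
    exact { exact := ShortComplex.cokernelSequence_exact _ }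
  have hLm : PicF.IsInvertible (CohB1.tensorPow L m) :=
    Groth.Agent.Lib.Helper23.SecTw.isInvertible_tensorPow hLi m
  have hS' := shortExact_map_tensorRightF (CohB1.tensorPow L m) hLm S hS
  have hex := exact_δ_f hS' n
  have s₂ : Subsingleton (Coh.HH X (S.map (tensorRightF (CohB1.tensorPow L m))).X₂ (n + 1)) :=
    hm₀ m hm (n + 1) (Nat.succ_pos n)
  have s₃ : Subsingleton (Coh.HH X (S.map (tensorRightF (CohB1.tensorPow L m))).X₃ n) :=
    subsingleton_HH_of_killedByIdeal_of_isAffine L hLi J _ hQ hQk m n hn
  have h0 : ∀ y : Coh.HH X (S.map (tensorRightF (CohB1.tensorPow L m))).X₁ (n + 1), y = 0 := by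
    intro y
    obtain ⟨z, rfl⟩ := (hex y).mp (Subsingleton.elim _ _)
    rw [Subsingleton.elim z 0, map_zero]
  exact ⟨fun y z => (h0 y).trans (h0 z).symm⟩

end Groth.Agent.R2.H55.SeshadriVan
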