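import Mathlib
import Groth.Prelude.Def_DRing2
import Groth.Agent.Lib.Helper1TorK

/-!
# Tor amplitude of a complex of `B`-modules over `A` is local at the maximal ideals of `B` (helper55)

For `A → B` and a complex `K` of `B`-modules, if every localisation `K_m` (`m` maximal in `B`) has tor
amplitude in `[a, b]` over `A` (equivalently over `A_p`, `p = m ∩ A`), then so does `K` over `A`.

* `hasTorAmp_of_flat_algebra`: the case `B` flat over `A` (resolve `K` by projective `B`-modules, which
  are `A`-flat; flatness over `A` of the `B`-module of `a`-opcycles is local on `B`).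
* `compNatIso`, `locResIso`: for a surjection `π : R → T` and `m' = π⁻¹ m`, localising a `T`-module at
  `m` agrees with localising the underlying `R`-module at `m'`.
* `hasTorAmp_of_forall_maximal`: general case, via the free `A`-algebra `A[x_b : b ∈ B] → B`.
-/

set_option autoImplicit false
universe u
open CategoryTheory CategoryTheory.Limits
attribute [local instance] HasDerivedCategory.standard

namespace Groth.Agent.R2.H55.TorLoc

open DerivedCategory Groth.Agent.Lib.Helper1.Tor Groth.Agent.Lib.Helper1.Extend
  Groth.Agent.Lib.Helper1.Restrict Groth.Agent.Lib.Helper1.ProjRes Groth.Agent.S14388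

section A
variable {A B : Type u} [CommRing A] [CommRing B] [Algebra A B]
/-- an `A`-linear equivalence out of a restriction of scalars from a `B`-linear one -/
noncomputable def restrictEquiv (N : ModuleCat.{u} B) (N' : Type u) [AddCommGroup N'] [Module B N']
    [Module A N'] [IsScalarTower A B N'] (e : N ≃ₗ[B] N') :
    ((ModuleCat.restrictScalars.{u} (algebraMap A B)).obj N) ≃ₗ[A] N' where
  toFun x := e x
  invFun y := e.symm y
  left_inv x := e.symm_apply_apply x
  right_inv y := e.apply_symm_apply y
  map_add' x y := e.map_add x y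
  map_smul' r x := by
    have h := e.map_smul (algebraMap A B r) (show N from x)
    have h2 : algebraMap A B r • e (show N from x) = r • e (show N from x) := algebraMap_smul B r _
    exact h.trans h2
end A

section Compare

variable {R T : Type u} [CommRing R] [CommRing T]

/-- the unit `M → R_P ⊗_R M` is a localisation at `P` -/
instance isLocalizedModule_unit (P : Ideal R) [P.IsPrime] (M : ModuleCat.{u} R) :
    IsLocalizedModule P.primeCompl
      ((ModuleCat.extendRestrictScalarsAdj (algebraMap R (Localization.AtPrime P))).unit.app M).hom := by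
  let e := restrictEquiv (A := R) (B := Localization.AtPrime P)
    ((ext R (Localization.AtPrime P)).obj M) (TensorProduct R (Localization.AtPrime P) M)
    (extEquiv (A := R) (B := Localization.AtPrime P) M)
  have h : ((ModuleCat.extendRestrictScalarsAdj (algebraMap R (Localization.AtPrime P))).unit.app M).hom
      = e.symm.toLinearMap ∘ₗ TensorProduct.mk R (Localization.AtPrime P) M 1 := by
    apply LinearMap.ext
    intro x
    apply e.injective
    simp only [LinearMap.coe_comp, LinearEquiv.coe_coe, Function.comp_apply, LinearEquiv.apply_symm_apply]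
    rfl
  rw [h]
  have := isLocalizedModule_mk_atPrime P M
  exact IsLocalizedModule.of_linearEquiv P.primeCompl
    (TensorProduct.mk R (Localization.AtPrime P) M 1) e.symm


/-- localisations of `T`-modules are localisations of the underlying `R`-modules -/
lemma isLocalizedModule_restrict (π : R →+* T) (S : Submonoid R) (S' : Submonoid T)
    (hS : S.map π = S') {M N : ModuleCat.{u} T} (g : M ⟶ N) [h : IsLocalizedModule S' g.hom] :
    IsLocalizedModule S ((ModuleCat.restrictScalars.{u} π).map g).hom where
  map_units s := by
    have hs : π s ∈ S' := hS ▸ Submonoid.mem_map_of_mem π s.2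
    have h1 := h.map_units ⟨π s, hs⟩
    rw [Module.End.isUnit_iff] at h1 ⊢
    exact h1
  surj y := by
    obtain ⟨⟨x, ⟨t, ht⟩⟩, e⟩ := h.surj (show N from y)
    rw [← hS] at ht
    obtain ⟨s, hs, rfl⟩ := ht
    exact ⟨⟨x, ⟨s, hs⟩⟩, e⟩
  exists_of_eq {x₁ x₂} e := by
    obtain ⟨⟨t, ht⟩, hc⟩ := h.exists_of_eq (x₁ := (show M from x₁)) (x₂ := (show M from x₂)) e
    rw [← hS] at ht
    obtain ⟨s, hs, rfl⟩ := ht
    exact ⟨⟨s, hs⟩, hc⟩


variable (π : R →+* T) (m' : Ideal R) [m'.IsPrime] (m : Ideal T) [m.IsPrime]

/-- `M ↦ (M|_R)_{m'}` viewed over `R` -/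
noncomputable abbrev PsiF : ModuleCat.{u} T ⥤ ModuleCat.{u} R :=
  ModuleCat.restrictScalars.{u} π ⋙ (ext R (Localization.AtPrime m') ⋙
    ModuleCat.restrictScalars.{u} (algebraMap R (Localization.AtPrime m')))

/-- `M ↦ M_m` viewed over `R` -/
noncomputable abbrev PhiF : ModuleCat.{u} T ⥤ ModuleCat.{u} R :=
  (ext T (Localization.AtPrime m) ⋙
    ModuleCat.restrictScalars.{u} (algebraMap T (Localization.AtPrime m))) ⋙
    ModuleCat.restrictScalars.{u} π

/-- the localisation map to `PsiF` -/
noncomputable def fM (M : ModuleCat.{u} T) :
    (ModuleCat.restrictScalars.{u} π).obj M ⟶ (PsiF π m').obj M :=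
  (ModuleCat.extendRestrictScalarsAdj (algebraMap R (Localization.AtPrime m'))).unit.app
    ((ModuleCat.restrictScalars.{u} π).obj M)

/-- the localisation map to `PhiF` -/
noncomputable def gM (M : ModuleCat.{u} T) :
    (ModuleCat.restrictScalars.{u} π).obj M ⟶ (PhiF π m).obj M :=
  (ModuleCat.restrictScalars.{u} π).map
    ((ModuleCat.extendRestrictScalarsAdj (algebraMap T (Localization.AtPrime m))).unit.app M)

instance (M : ModuleCat.{u} T) : IsLocalizedModule m'.primeCompl (fM π m' M).hom :=
  isLocalizedModule_unit m' _

lemma isLocalizedModule_gM (hS : m'.primeCompl.map π = m.primeCompl) (M : ModuleCat.{u} T) :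
    IsLocalizedModule m'.primeCompl (gM π m M).hom :=
  haveI := isLocalizedModule_unit m M
  isLocalizedModule_restrict π _ _ hS
    ((ModuleCat.extendRestrictScalarsAdj (algebraMap T (Localization.AtPrime m))).unit.app M)

lemma fM_naturality {M N : ModuleCat.{u} T} (d : M ⟶ N) :
    fM π m' M ≫ (PsiF π m').map d = (ModuleCat.restrictScalars.{u} π).map d ≫ fM π m' N :=
  ((ModuleCat.extendRestrictScalarsAdj (algebraMap R (Localization.AtPrime m'))).unit.naturality
    ((ModuleCat.restrictScalars.{u} π).map d)).symm

lemma gM_naturality {M N : ModuleCat.{u} T} (d : M ⟶ N) :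
    gM π m M ≫ (PhiF π m).map d = (ModuleCat.restrictScalars.{u} π).map d ≫ gM π m N := by
  have h := ((ModuleCat.extendRestrictScalarsAdj
    (algebraMap T (Localization.AtPrime m))).unit.naturality d).symm
  have h2 := congrArg (fun t => (ModuleCat.restrictScalars.{u} π).map t) h
  simp only [Functor.map_comp] at h2
  exact h2

variable (hS : m'.primeCompl.map π = m.primeCompl)

/-- the two localisations agree -/
noncomputable def compIso (M : ModuleCat.{u} T) : (PsiF π m').obj M ≅ (PhiF π m).obj M :=
  haveI := isLocalizedModule_gM π m' m hS M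
  (IsLocalizedModule.linearEquiv m'.primeCompl (fM π m' M).hom (gM π m M).hom).toModuleIso

lemma fM_compIso (M : ModuleCat.{u} T) : fM π m' M ≫ (compIso π m' m hS M).hom = gM π m M := by
  have := isLocalizedModule_gM π m' m hS M
  apply ModuleCat.hom_ext
  apply LinearMap.ext
  intro x
  exact IsLocalizedModule.linearEquiv_apply m'.primeCompl (fM π m' M).hom (gM π m M).hom x

/-- the natural isomorphism between the two localisations -/
noncomputable def compNatIso : PsiF π m' ≅ PhiF π m :=
  NatIso.ofComponents (compIso π m' m hS) (by
    intro M N d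
    have := isLocalizedModule_gM π m' m hS N
    apply ModuleCat.hom_ext
    refine IsLocalizedModule.ext m'.primeCompl (fM π m' M).hom
      (IsLocalizedModule.map_units (gM π m N).hom) ?_
    have h1 : fM π m' M ≫ (PsiF π m').map d ≫ (compIso π m' m hS N).hom =
        fM π m' M ≫ (compIso π m' m hS M).hom ≫ (PhiF π m).map d := by
      rw [← Category.assoc, fM_naturality, Category.assoc, fM_compIso, ← Category.assoc,
        fM_compIso, gM_naturality]
    exact congrArg ModuleCat.Hom.hom h1)

end Compare

section A'
variable {A B : Type u} [CommRing A] [CommRing B] [Algebra A B]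
lemma flat_restrict [Module.Flat A B] (F : ModuleCat.{u} B) [Module.Flat B F] :
    Module.Flat A ((ModuleCat.restrictScalars.{u} (algebraMap A B)).obj F) := by
  let _ : Module A F := Module.compHom F (algebraMap A B)
  have : IsScalarTower A B F := IsScalarTower.of_algebraMap_smul (fun r m => rfl)
  exact Module.Flat.trans A B F
end A'

section Stage2

/-- composition of restrictions of scalars on complexes -/
noncomputable def restrictCxComp {A B C : Type u} [CommRing A] [CommRing B] [CommRing C]
    (f : A →+* B) (g : B →+* C) (gf : A →+* C) (h : gf = g.comp f) :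
    DRing.restrictCx g ⋙ DRing.restrictCx f ≅ DRing.restrictCx gf :=
  Functor.mapHomologicalComplexCompIso (ModuleCat.restrictScalarsComp' f g gf h).symm _

variable {A A' : Type u} [CommRing A] [CommRing A'] [Algebra A A']

/-- tor amplitude is preserved by restriction of scalars along a flat ring map -/
lemma hasTorAmp_restrictCx_of_flat [Module.Flat A A'] (L : DRing.Cx A') (a b : ℤ)
    (h : DRing.HasTorAmplitudeIn A' a b (DRing.toD L)) :
    DRing.HasTorAmplitudeIn A a b (DRing.toD ((DRing.restrictCx (algebraMap A A')).obj L)) := by
  obtain ⟨E, hE, hEf, ⟨e⟩⟩ := h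
  refine ⟨(DRing.restrictCx (algebraMap A A')).obj E, fun i hi =>
    (ModuleCat.restrictScalars.{u} (algebraMap A A')).map_isZero (hE i hi), fun i => ?_, ⟨?_⟩⟩
  · have := hEf i
    exact flat_restrict (E.X i)
  · exact (restrictQIso (algebraMap A A') E).symm ≪≫
      (DRing.restrictD (algebraMap A A')).mapIso e ≪≫ restrictQIso (algebraMap A A') L

end Stage2


section Stage3

variable {A R T : Type u} [CommRing A] [CommRing R] [CommRing T] [Algebra A R] [Algebra A T]
  (π : R →+* T) (hπA : π.comp (algebraMap A R) = algebraMap A T)
  (m' : Ideal R) [m'.IsPrime] (m : Ideal T) [m.IsPrime]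
  (hS : m'.primeCompl.map π = m.primeCompl)

/-- the complex `K_m`, localised at `m` and viewed over `A` -/
noncomputable abbrev locRes {B : Type u} [CommRing B] [Algebra A B] (m : Ideal B) [m.IsPrime] :
    DRing.Cx B ⥤ DRing.Cx A :=
  extCx B (Localization.AtPrime m) ⋙ DRing.restrictCx (algebraMap A (Localization.AtPrime m))

/-- comparison of the localisations of a complex of `T`-modules at `m` and (over `R`) at `m'`. -/
noncomputable def locResIso (K : DRing.Cx T) :
    (locRes (A := A) m').obj ((DRing.restrictCx π).obj K) ≅ (locRes (A := A) m).obj K :=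
  (restrictCxComp (algebraMap A R) (algebraMap R (Localization.AtPrime m'))
      (algebraMap A (Localization.AtPrime m')) (IsScalarTower.algebraMap_eq _ _ _)).symm.app
      ((extCx R (Localization.AtPrime m')).obj ((DRing.restrictCx π).obj K)) ≪≫
    (DRing.restrictCx (algebraMap A R)).mapIso
      ((NatIso.mapHomologicalComplex (compNatIso π m' m hS) (ComplexShape.up ℤ)).app K) ≪≫
    (restrictCxComp (algebraMap A R) π (algebraMap A T) hπA.symm).app
      ((DRing.restrictCx (algebraMap T (Localization.AtPrime m))).obj
        ((extCx T (Localization.AtPrime m)).obj K)) ≪≫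
    (restrictCxComp (algebraMap A T) (algebraMap T (Localization.AtPrime m))
      (algebraMap A (Localization.AtPrime m)) (IsScalarTower.algebraMap_eq _ _ _)).app
      ((extCx T (Localization.AtPrime m)).obj K)


omit [m'.IsPrime] in
/-- a localisation is trivial if an element of the multiplicative set kills the module -/
lemma subsingleton_of_isLocalizedModule {M N : Type*} [AddCommGroup M] [AddCommGroup N] [Module R M]
    [Module R N] (S : Submonoid R) (f : M →ₗ[R] N) [IsLocalizedModule S f] (s : S)
    (hs0 : ∀ x : M, (s : R) • x = 0) : Subsingleton N := by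
  refine ⟨fun y z => ?_⟩
  have hz : ∀ y : N, y = 0 := by
    intro y
    obtain ⟨⟨x, t⟩, e⟩ := IsLocalizedModule.surj S f y
    have h1 : s • (t • y) = 0 := by
      rw [e, Submonoid.smul_def, ← f.map_smul, hs0, map_zero]
    rw [smul_comm] at h1
    have h2 : s • y = 0 := IsLocalizedModule.smul_injective f t (by simpa using h1)
    exact IsLocalizedModule.smul_injective f s (by simpa using h2)
  rw [hz y, hz z]

lemma isZero_PsiF_obj (s : R) (hs : s ∉ m') (hπs : π s = 0) (M : ModuleCat.{u} T) :
    IsZero ((PsiF π m').obj M) := by
  have : Subsingleton ((PsiF π m').obj M) :=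
    subsingleton_of_isLocalizedModule m'.primeCompl (fM π m' M).hom ⟨s, hs⟩ (fun x => by
      show π s • (show M from x) = 0
      rw [hπs, zero_smul])
  exact ModuleCat.isZero_of_subsingleton _

lemma hasTorAmp_of_termwise_isZero (L : DRing.Cx A) (hL : ∀ i, IsZero (L.X i)) (a b : ℤ) :
    DRing.HasTorAmplitudeIn A a b (DRing.toD L) := by
  refine ⟨L, fun i _ => hL i, fun i => ?_, ⟨Iso.refl _⟩⟩
  have := ModuleCat.subsingleton_of_isZero (hL i)
  infer_instance

end Stage3


section FlatCase

variable {A B : Type u} [CommRing A] [CommRing B] [Algebra A B]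

/-- **flat case**: if `B` is flat over `A` and all localisations `K_m` at maximal ideals of `B` have tor
amplitude in `[a, b]` over `A`, then so does `K`. -/
theorem hasTorAmp_of_flat_algebra [Module.Flat A B] (K : DRing.Cx B) (a b : ℤ)
    (h : ∀ (m : Ideal B) [m.IsMaximal],
      DRing.HasTorAmplitudeIn A a b (DRing.toD ((locRes (A := A) m).obj K))) :
    DRing.HasTorAmplitudeIn A a b (DRing.toD ((DRing.restrictCx (algebraMap A B)).obj K)) := by
  have hD := descFam'_maximal (R := B)
  -- `K` is cohomologically bounded above by `b`
  have hle : (Q.obj K).IsLE b := by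
    refine hD.isLE (Q.obj K) b (fun j => ?_)
    have := j.isMaximal
    obtain ⟨E', hE', hE'f, ⟨e'⟩⟩ := h j.asIdeal
    have hE'le : E'.IsStrictlyLE b := by
      rw [CochainComplex.isStrictlyLE_iff]
      exact fun i hi => hE' i (Or.inr hi)
    have : (Q.obj E').IsLE b := inferInstance
    have h2 : (Q.obj ((locRes (A := A) j.asIdeal).obj K)).IsLE b := tt.isLE_of_iso e' b
    rw [DerivedCategory.isLE_Q_obj_iff] at h2
    have h3 : CochainComplex.IsLE ((extCx B (Localization.AtPrime j.asIdeal)).obj K) b :=
      (isLE_restrictCx_iff (algebraMap A (Localization.AtPrime j.asIdeal)) _ b).1 h2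
    rw [← DerivedCategory.isLE_Q_obj_iff] at h3
    exact tt.isLE_of_iso (mapQIso (ext B (Localization.AtPrime j.asIdeal)) K).symm b
  obtain ⟨P, hPle, hPproj, ⟨eP⟩⟩ := exists_iso_Q_proj (Q.obj K) b
  have hPb : DRing.VanishesAbove P b := fun i hi => P.isZero_of_isStrictlyLE b i hi
  have hPf : DRing.TermwiseFlat P := termwiseFlat_of_projective P hPproj
  set G := (DRing.restrictCx (algebraMap A B)).obj P with hG
  have hGb : DRing.VanishesAbove G b := fun i hi =>
    (ModuleCat.restrictScalars.{u} (algebraMap A B)).map_isZero (hPb i hi)
  have hGf : DRing.TermwiseFlat G := fun i => by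
    have := hPf i
    exact flat_restrict (P.X i)
  -- local data
  have key : ∀ (m : Ideal B) [m.IsMaximal], TorVan ((locRes (A := A) m).obj P) a b ∧
      DRing.TermwiseFlat ((locRes (A := A) m).obj P) := by
    intro m _
    obtain ⟨E', hE', hE'f, ⟨e'⟩⟩ := h m
    have e1 : Q.obj ((extCx B (Localization.AtPrime m)).obj K) ≅
        Q.obj ((extCx B (Localization.AtPrime m)).obj P) :=
      (mapQIso (ext B (Localization.AtPrime m)) K).symm ≪≫
        (extD B (Localization.AtPrime m)).mapIso eP.symm ≪≫
        mapQIso (ext B (Localization.AtPrime m)) P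
    have e2 : Q.obj ((locRes (A := A) m).obj K) ≅ Q.obj ((locRes (A := A) m).obj P) :=
      (restrictQIso (algebraMap A (Localization.AtPrime m)) _).symm ≪≫
        (DRing.restrictD (algebraMap A (Localization.AtPrime m))).mapIso e1 ≪≫
        restrictQIso (algebraMap A (Localization.AtPrime m)) _
    have hb' : DRing.VanishesAbove ((locRes (A := A) m).obj P) b := fun i hi =>
      (ModuleCat.restrictScalars.{u} (algebraMap A (Localization.AtPrime m))).map_isZero
        ((ext B (Localization.AtPrime m)).map_isZero (hPb i hi))
    have hf' : DRing.TermwiseFlat ((locRes (A := A) m).obj P) := fun i => by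
      have := hPf i
      have h1 : Module.Flat (Localization.AtPrime m) ((ext B (Localization.AtPrime m)).obj (P.X i)) :=
        Module.Flat.of_linearEquiv (extEquiv (A := B) (B := Localization.AtPrime m) (P.X i))
      exact flat_restrict (A := A) (B := Localization.AtPrime m)
        ((ext B (Localization.AtPrime m)).obj (P.X i))
    exact ⟨torVan_of_iso _ E' b hb' hf' a b hE' hE'f (e' ≪≫ e2), hf'⟩
  have hex : ∀ i : ℤ, (i < a ∨ b < i) → P.ExactAt i := by
    intro i hi
    rw [HomologicalComplex.exactAt_iff_isZero_homology]
    refine hD.isZero _ (fun j => ?_)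
    have := j.isMaximal
    have h1 := (key j.asIdeal).1.exactAt i hi
    have h2 : ((extCx B (Localization.AtPrime j.asIdeal)).obj P).ExactAt i :=
      (exactAt_restrict_iff (algebraMap A (Localization.AtPrime j.asIdeal)) _ i).1 h1
    rw [HomologicalComplex.exactAt_iff_isZero_homology] at h2
    exact h2.of_iso (homologyMapCxIso (ext B (Localization.AtPrime j.asIdeal)) P i).symm
  have hflatC : Module.Flat A
      ((ModuleCat.restrictScalars.{u} (algebraMap A B)).obj (P.opcycles a)) := by
    let _ : Module A (P.opcycles a) := Module.compHom (P.opcycles a) (algebraMap A B)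
    have : IsScalarTower A B (P.opcycles a) := IsScalarTower.of_algebraMap_smul (fun r m => rfl)
    show Module.Flat A (P.opcycles a)
    refine Module.flat_of_isLocalized_maximal (R := A) (S := B) (M := P.opcycles a)
      (fun m _ => TensorProduct B (Localization.AtPrime m) (P.opcycles a))
      (fun m _ => TensorProduct.mk B (Localization.AtPrime m) (P.opcycles a) 1) (fun m hm => ?_)
    have hflat' : Module.Flat A (((locRes (A := A) m).obj P).opcycles a) :=
      flat_of_torVan _ (key m).2 a b (key m).1 (((locRes (A := A) m).obj P).pOpcycles a).hom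
        ((ModuleCat.epi_iff_surjective _).1 inferInstance) (fexact_d_pOpcycles _ a)
    have eop : ((locRes (A := A) m).obj P).opcycles a ≅
        (ext B (Localization.AtPrime m) ⋙
          ModuleCat.restrictScalars.{u} (algebraMap A (Localization.AtPrime m))).obj (P.opcycles a) :=
      ShortComplex.mapOpcyclesIso (P.sc a) (ext B (Localization.AtPrime m) ⋙
          ModuleCat.restrictScalars.{u} (algebraMap A (Localization.AtPrime m)))
    exact Module.Flat.of_linearEquiv
      ((restrictEquiv (A := A) (B := Localization.AtPrime m) _ _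
        (extEquiv (A := B) (B := Localization.AtPrime m) (P.opcycles a))).symm ≪≫ₗ
        eop.symm.toLinearEquiv)
  have hflat : Module.Flat A (G.opcycles a) := by
    have eop : G.opcycles a ≅
        (ModuleCat.restrictScalars.{u} (algebraMap A B)).obj (P.opcycles a) :=
      ShortComplex.mapOpcyclesIso (P.sc a) (ModuleCat.restrictScalars.{u} (algebraMap A B))
    exact Module.Flat.of_linearEquiv eop.toLinearEquiv
  have hGex : ∀ i, (i < a ∨ b < i) → G.ExactAt i := fun i hi =>
    (exactAt_restrict_iff (algebraMap A B) P i).2 (hex i hi)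
  have hres := hasTorAmp_of_flat_opcycles G b hGb hGf a b (fun i hi => hGex i (Or.inl hi))
    (fun i hi => hGex i (Or.inr hi)) hflat
  refine hasTorAmp_of_iso ?_ hres
  exact (restrictQIso (algebraMap A B) P).symm ≪≫
    (DRing.restrictD (algebraMap A B)).mapIso eP ≪≫ restrictQIso (algebraMap A B) K


end FlatCase

section Main

variable {A B : Type u} [CommRing A] [CommRing B] [Algebra A B]

/-- **general case**: if all localisations `K_m` at maximal ideals of `B` have tor amplitude in
`[a, b]` over `A`, then so does `K`. -/
theorem hasTorAmp_of_forall_maximal (K : DRing.Cx B) (a b : ℤ)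
    (h : ∀ (m : Ideal B) [m.IsMaximal],
      DRing.HasTorAmplitudeIn A a b (DRing.toD ((locRes (A := A) m).obj K))) :
    DRing.HasTorAmplitudeIn A a b (DRing.toD ((DRing.restrictCx (algebraMap A B)).obj K)) := by
  let πa : MvPolynomial B A →ₐ[A] B := MvPolynomial.aeval id
  let π : MvPolynomial B A →+* B := πa.toRingHom
  have hπ : Function.Surjective π := fun x => ⟨MvPolynomial.X x, by simp [π, πa]⟩
  have hπA : π.comp (algebraMap A (MvPolynomial B A)) = algebraMap A B := πa.comp_algebraMap
  have key := hasTorAmp_of_flat_algebra (A := A) (B := MvPolynomial B A)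
    ((DRing.restrictCx π).obj K) a b ?_
  · exact hasTorAmp_of_iso (Q.mapIso ((restrictCxComp (algebraMap A (MvPolynomial B A)) π
      (algebraMap A B) hπA.symm).app K)) key
  · intro m' hm'
    by_cases hker : RingHom.ker π ≤ m'
    · have hcomap : (m'.map π).comap π = m' := by
        rw [Ideal.comap_map_of_surjective π hπ, ← RingHom.ker_eq_comap_bot, sup_eq_left]
        exact hker
      have hne : m'.map π ≠ ⊤ := by
        intro htop
        rw [htop, Ideal.comap_top] at hcomap
        exact hm'.ne_top hcomap.symm
      have hmax : (m'.map π).IsMaximal :=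
        (Ideal.map_eq_top_or_isMaximal_of_surjective π hπ hm').resolve_left hne
      have hS : m'.primeCompl.map π = (m'.map π).primeCompl := by
        ext t
        constructor
        · rintro ⟨r, hr, rfl⟩
          intro hmem
          apply hr
          rw [← hcomap]
          exact hmem
        · intro ht
          obtain ⟨r, rfl⟩ := hπ t
          exact ⟨r, fun hr => ht (Ideal.mem_map_of_mem π hr), rfl⟩
      exact hasTorAmp_of_iso (Q.mapIso (locResIso π hπA m' (m'.map π) hS K).symm) (h (m'.map π))
    · obtain ⟨s, hsker, hsm⟩ := Set.not_subset.1 hker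
      refine hasTorAmp_of_termwise_isZero _ (fun i => ?_) a b
      have hsub : Subsingleton ((PsiF π m').obj (K.X i)) :=
        ModuleCat.subsingleton_of_isZero (isZero_PsiF_obj π m' s hsm hsker (K.X i))
      have hsub' : Subsingleton (((locRes (A := A) m').obj ((DRing.restrictCx π).obj K)).X i) := hsub
      exact ModuleCat.isZero_of_subsingleton _

/-- the statement in the form of S12092 -/
theorem hasTorAmp_restrict_of_forall_maximal_localization (K : DRing.Cx B) (a b : ℤ)
    (h3 : ∀ (m : Ideal B) [m.IsMaximal],
      DRing.HasTorAmplitudeIn (Localization.AtPrime (m.comap (algebraMap A B))) a b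
        (DRing.toD ((DRing.restrictCx (Localization.localRingHom (m.comap (algebraMap A B)) m
          (algebraMap A B) rfl)).obj
          (((ModuleCat.extendScalars (algebraMap B (Localization.AtPrime m))).mapHomologicalComplex
            (ComplexShape.up ℤ)).obj K)))) :
    DRing.HasTorAmplitudeIn A a b (DRing.toD ((DRing.restrictCx (algebraMap A B)).obj K)) := by
  apply hasTorAmp_of_forall_maximal
  intro m hm
  have h' := hasTorAmp_restrictCx_of_flat (A := A)
    (A' := Localization.AtPrime (m.comap (algebraMap A B))) _ a b (h3 m)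
  refine hasTorAmp_of_iso (Q.mapIso ((restrictCxComp
    (algebraMap A (Localization.AtPrime (m.comap (algebraMap A B))))
    (Localization.localRingHom (m.comap (algebraMap A B)) m (algebraMap A B) rfl)
    (algebraMap A (Localization.AtPrime m)) ?_).app _)) h'
  apply RingHom.ext
  intro x
  rw [RingHom.comp_apply, Localization.localRingHom_to_map,
    ← IsScalarTower.algebraMap_apply]

end Main

end Groth.Agent.R2.H55.TorLoc
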