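import Mathlib

/-!
# Noetherian descent for finitely presented formally unramified algebras (helper55, S12085)

`exists_coeff_of_subsingleton` / `subsingleton_of_exists_coeff`: for a presentation `P` of `S` over `R`,
`Ω[S⁄R] = 0` iff the Jacobian matrix of `P` has a left inverse over `S` (via `Algebra.Presentation.differentials`).
`exists_model`: a finitely presented formally unramified `R`-algebra is the base change of a finitely presented
formally unramified algebra over a finitely generated `ℤ`-subalgebra of `R` (pattern of Mathlib's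
`Algebra.Smooth.exists_subalgebra_fg`).
-/

set_option autoImplicit false
set_option linter.style.haveILetI false
universe u

open TensorProduct MvPolynomial KaehlerDifferential

namespace Groth.Agent.R2.H55.UnramDescent

section Criterion

variable {R : Type*} {S : Type*} {ι σ : Type*} [CommRing R] [CommRing S] [Algebra R S]
  (P : Algebra.Presentation R S ι σ)

/-- the rows of the Jacobian matrix, as elements of the free module on the variables. -/
noncomputable def jrow (j : σ) : ι →₀ S := P.differentialsRelations.relation j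

lemma jrow_apply (j : σ) (k : ι) : jrow P j k = aeval P.val (pderiv k (P.relation j)) := by
  have h : jrow P j k =
      algebraMap P.Ring S ((mvPolynomialBasis R ι).repr (D _ _ (P.relation j)) k) := rfl
  rw [h, mvPolynomialBasis_repr_apply, Algebra.Generators.algebraMap_apply]

lemma ker_π_eq : LinearMap.ker P.differentialsSolution.π =
    Submodule.span S (Set.range (jrow P)) :=
  P.differentialsSolution_isPresentation.ker_π

/-- if `Ω[S⁄R] = 0`, the Jacobian matrix of a presentation has a left inverse. -/
lemma exists_coeff_of_subsingleton [Fintype σ] [DecidableEq ι] [Subsingleton Ω[S⁄R]] (i : ι) :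
    ∃ c : σ → S, ∀ k, ∑ j, c j * aeval P.val (pderiv k (P.relation j)) = if i = k then 1 else 0 := by
  have h1 : Finsupp.single i (1 : S) ∈ Submodule.span S (Set.range (jrow P)) := by
    rw [← ker_π_eq]
    exact Subsingleton.elim _ _
  obtain ⟨c, hc⟩ := (Submodule.mem_span_range_iff_exists_fun S).mp h1
  refine ⟨c, fun k => ?_⟩
  have h2 := DFunLike.congr_fun hc k
  rw [Finsupp.finsetSum_apply] at h2
  simp only [Finsupp.smul_apply, smul_eq_mul, jrow_apply] at h2
  rw [h2, Finsupp.single_apply]

/-- conversely, a left inverse of the Jacobian matrix kills `Ω[S⁄R]`. -/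
lemma subsingleton_of_exists_coeff [Fintype σ] [DecidableEq ι]
    (h : ∀ i : ι, ∃ c : σ → S, ∀ k,
      ∑ j, c j * aeval P.val (pderiv k (P.relation j)) = if i = k then 1 else 0) :
    Subsingleton Ω[S⁄R] := by
  have hpres := P.differentialsSolution_isPresentation
  have h1 : ∀ i : ι, Finsupp.single i (1 : S) ∈ LinearMap.ker P.differentialsSolution.π := by
    intro i
    rw [ker_π_eq]
    obtain ⟨c, hc⟩ := h i
    refine (Submodule.mem_span_range_iff_exists_fun S).mpr ⟨c, ?_⟩
    ext k
    rw [Finsupp.finsetSum_apply]
    simp only [Finsupp.smul_apply, smul_eq_mul, jrow_apply]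
    rw [hc k, Finsupp.single_apply]
  let π' : (ι →₀ S) →ₗ[S] Ω[S⁄R] := P.differentialsSolution.π
  have h2 : π' = 0 := by
    refine Finsupp.lhom_ext (fun i a => ?_)
    have : Finsupp.single i a = a • Finsupp.single i (1 : S) := by
      rw [Finsupp.smul_single, smul_eq_mul, mul_one]
    rw [this, map_smul, show π' (Finsupp.single i (1 : S)) = 0 from LinearMap.mem_ker.mp (h1 i),
      smul_zero]
    rfl
  refine ⟨fun a b => ?_⟩
  obtain ⟨a', rfl⟩ := hpres.surjective_π a
  obtain ⟨b', rfl⟩ := hpres.surjective_π b
  change π' a' = π' b'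
  rw [h2]
  rfl

end Criterion

section Descent

variable (R : Type u) [CommRing R] (S : Type u) [CommRing S] [Algebra R S]
  [Algebra.FinitePresentation R S] [Algebra.FormallyUnramified R S]

/-- a finitely presented formally unramified algebra descends to a finitely generated `ℤ`-subalgebra. -/
theorem exists_model :
    ∃ (R₀ : Subalgebra ℤ R) (S₀ : Type u) (_ : CommRing S₀) (_ : Algebra R₀ S₀),
      R₀.FG ∧ Algebra.FinitePresentation R₀ S₀ ∧ Algebra.FormallyUnramified R₀ S₀ ∧
        Nonempty (R ⊗[R₀] S₀ ≃ₐ[R] S) := by
  classical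
  let P := Algebra.Presentation.ofFinitePresentation R S
  choose c hc using fun i => exists_coeff_of_subsingleton P i
  have hsurj : ∀ i j, ∃ p : MvPolynomial _ R, aeval P.val p = c i j :=
    fun i j => P.aeval_val_surjective (c i j)
  choose c' hc' using hsurj
  have hQ : ∀ i k, (∑ j, c' i j * pderiv k (P.relation j) - if i = k then 1 else 0) ∈
      Ideal.span (Set.range P.relation) := by
    intro i k
    rw [P.span_range_relation_eq_ker, P.ker_eq_ker_aeval_val, RingHom.mem_ker, map_sub, map_sum]
    simp only [map_mul, hc']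
    rw [hc i k]
    split_ifs <;> simp
  choose d hd using fun i k => (Ideal.mem_span_range_iff_exists_fun).mp (hQ i k)
  let s : Set R := P.coeffs ∪ ((⋃ i, ⋃ j, ((c' i j).coeffs : Set R)) ∪
    (⋃ i, ⋃ k, ⋃ l, ((d i k l).coeffs : Set R)))
  have hs : s.Finite := by
    refine .union P.finite_coeffs (.union ?_ ?_)
    · exact Set.finite_iUnion fun i => Set.finite_iUnion fun j => Finset.finite_toSet _
    · exact Set.finite_iUnion fun i => Set.finite_iUnion fun k => Set.finite_iUnion fun l =>
        Finset.finite_toSet _
  let R₀ : Subalgebra ℤ R := Algebra.adjoin ℤ s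
  have hrange : Set.range (algebraMap R₀ R) = (R₀ : Set R) := Subalgebra.setRange_algebraMap R₀
  have hsub : s ⊆ Set.range (algebraMap R₀ R) := by
    rw [hrange]
    exact Algebra.subset_adjoin
  haveI : P.HasCoeffs R₀ := ⟨subset_trans Set.subset_union_left hsub⟩
  have hinj : Function.Injective (MvPolynomial.map (σ := Fin (Algebra.Presentation.ofFinitePresentationVars R S))
      (algebraMap R₀ R)) := MvPolynomial.map_injective _ Subtype.val_injective
  have hc₀ : ∀ i j, ∃ p₀ : MvPolynomial _ R₀, MvPolynomial.map (algebraMap R₀ R) p₀ = c' i j := by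
    intro i j
    have : c' i j ∈ Set.range (MvPolynomial.map (algebraMap R₀ R)) := by
      rw [MvPolynomial.mem_range_map_iff_coeffs_subset]
      refine subset_trans ?_ hsub
      refine subset_trans ?_ (Set.subset_union_right)
      refine subset_trans ?_ (Set.subset_union_left)
      exact Set.subset_iUnion_of_subset i (Set.subset_iUnion_of_subset j subset_rfl)
    exact this
  choose c₀ hc₀ using hc₀
  have hd₀ : ∀ i k l, ∃ p₀ : MvPolynomial _ R₀, MvPolynomial.map (algebraMap R₀ R) p₀ = d i k l := by
    intro i k l
    have : d i k l ∈ Set.range (MvPolynomial.map (algebraMap R₀ R)) := by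
      rw [MvPolynomial.mem_range_map_iff_coeffs_subset]
      refine subset_trans ?_ hsub
      refine subset_trans ?_ (Set.subset_union_right)
      refine subset_trans ?_ (Set.subset_union_right)
      exact Set.subset_iUnion_of_subset i (Set.subset_iUnion_of_subset k
        (Set.subset_iUnion_of_subset l subset_rfl))
    exact this
  choose d₀ hd₀ using hd₀
  have hid : ∀ i k, ∑ j, c₀ i j * pderiv k (P.relationOfHasCoeffs R₀ j) =
      (if i = k then 1 else 0) + ∑ l, d₀ i k l * P.relationOfHasCoeffs R₀ l := by
    intro i k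
    have hrel : ∀ j, MvPolynomial.map (algebraMap R₀ R) (pderiv k (P.relationOfHasCoeffs R₀ j)) =
        pderiv k (P.relation j) := by
      intro j
      rw [← MvPolynomial.pderiv_map, P.map_relationOfHasCoeffs]
    apply hinj
    rw [map_add, map_sum, map_sum]
    simp only [map_mul, hc₀, hd₀, hrel, P.map_relationOfHasCoeffs]
    rw [hd i k]
    split_ifs <;> simp
  let P₀ : Algebra.Presentation R₀ (P.ModelOfHasCoeffs R₀) _ _ :=
    Algebra.Presentation.naive (v := P.relationOfHasCoeffs R₀)
  have hval : ∀ p : MvPolynomial _ R₀, aeval P₀.val p = Ideal.Quotient.mk _ p := by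
    intro p
    have h1 : (aeval P₀.val : MvPolynomial _ R₀ →ₐ[R₀] P.ModelOfHasCoeffs R₀) =
        Ideal.Quotient.mkₐ R₀ _ := by
      refine MvPolynomial.algHom_ext (fun i => ?_)
      rw [aeval_X]
      rfl
    rw [h1]
    rfl
  have hsub : Subsingleton Ω[P.ModelOfHasCoeffs R₀⁄R₀] := by
    refine subsingleton_of_exists_coeff P₀ (fun i => ⟨fun j => Ideal.Quotient.mk _ (c₀ i j), fun k => ?_⟩)
    have hP₀ : ∀ j, P₀.relation j = P.relationOfHasCoeffs R₀ j := fun j => rfl
    simp only [hval, hP₀, ← map_mul, ← map_sum]
    rw [hid i k, map_add, map_sum]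
    have h0 : ∀ l, Ideal.Quotient.mk (Ideal.span (Set.range (P.relationOfHasCoeffs R₀)))
        (d₀ i k l * P.relationOfHasCoeffs R₀ l) = 0 := by
      intro l
      rw [Ideal.Quotient.eq_zero_iff_mem]
      exact Ideal.mul_mem_left _ _ (Ideal.subset_span ⟨l, rfl⟩)
    rw [Finset.sum_eq_zero (fun l _ => h0 l), add_zero]
    split_ifs <;> simp
  refine ⟨R₀, P.ModelOfHasCoeffs R₀, inferInstance, inferInstance, ⟨hs.toFinset, by simp [R₀]⟩,
    inferInstance, ⟨hsub⟩, ⟨P.tensorModelOfHasCoeffsEquiv R₀⟩⟩

end Descent

end Groth.Agent.R2.H55.UnramDescent
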