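import Mathlib

/-!
# Algebra behind affine deformations (helper56)

* `isPushout_of_surjective` / `surjective_and_ker_of_isPushout`: a commutative square of commutative rings
  `A → K` (surjective), `A → R`, `K → B`, `R → B` is a pushout iff `R → B` is surjective with kernel `ker(A → K) R`.
* flatness over the dual numbers: `eps_smul_eq_zero_iff_of_flat`, `flat_of_forall_eps`.
-/

set_option autoImplicit false

universe u

open CategoryTheory CategoryTheory.Limits

namespace Groth.Agent.R2.H56.AffDefAlg

section Pushout

variable {A K R B : Type u} [CommRing A] [CommRing K] [CommRing R] [CommRing B]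
  (res : A →+* K) (φ : A →+* R) (ψ : K →+* B) (π : R →+* B)

/-- If `π : R → B` is surjective with kernel contained in `ker(res) R`, and `res` is surjective, the square is a pushout. -/
theorem isPushout_of_surjective (hcomm : π.comp φ = ψ.comp res)
    (hres : Function.Surjective res) (hπ : Function.Surjective π)
    (hker : RingHom.ker π ≤ Ideal.map φ (RingHom.ker res)) :
    IsPushout (CommRingCat.ofHom res) (CommRingCat.ofHom φ) (CommRingCat.ofHom ψ) (CommRingCat.ofHom π) := by
  have hw : CommRingCat.ofHom res ≫ CommRingCat.ofHom ψ = CommRingCat.ofHom φ ≫ CommRingCat.ofHom π := by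
    rw [← CommRingCat.ofHom_comp, ← CommRingCat.ofHom_comp, hcomm]
  have hle : ∀ s : PushoutCocone (CommRingCat.ofHom res) (CommRingCat.ofHom φ),
      RingHom.ker π ≤ RingHom.ker s.inr.hom := by
    intro s
    refine hker.trans ?_
    rw [Ideal.map_le_iff_le_comap]
    intro a ha
    rw [Ideal.mem_comap, RingHom.mem_ker]
    have h1 : s.inr.hom (φ a) = s.inl.hom (res a) := by
      have := congrArg (fun f => f.hom a) s.condition
      simpa using this.symm
    rw [h1, (RingHom.mem_ker).1 ha, map_zero]
  refine ⟨⟨hw⟩, ⟨PushoutCocone.IsColimit.mk hw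
    (fun s => CommRingCat.ofHom (π.liftOfSurjective hπ ⟨s.inr.hom, hle s⟩)) ?_ ?_ ?_⟩⟩
  · intro s
    ext c
    obtain ⟨a, rfl⟩ := hres c
    have h0 : ψ (res a) = π (φ a) := (congrArg (fun f => f a) hcomm).symm
    have h1 : s.inr.hom (φ a) = s.inl.hom (res a) := by
      have := congrArg (fun f => f.hom a) s.condition
      simpa using this.symm
    simp only [CommRingCat.hom_comp, CommRingCat.hom_ofHom, RingHom.comp_apply]
    rw [h0, RingHom.liftOfSurjective_comp_apply]
    exact h1
  · intro s
    ext r
    simp only [CommRingCat.hom_comp, CommRingCat.hom_ofHom, RingHom.comp_apply]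
    rw [RingHom.liftOfSurjective_comp_apply]
  · intro s m _ hm
    ext b
    obtain ⟨r, rfl⟩ := hπ b
    simp only [CommRingCat.hom_ofHom]
    rw [RingHom.liftOfSurjective_comp_apply]
    have := congrArg (fun f => f.hom r) hm
    simpa using this

/-- Conversely a pushout square with `res` surjective has `π` surjective with kernel `ker(res) R`. -/
theorem surjective_and_ker_of_isPushout (hres : Function.Surjective res)
    (h : IsPushout (CommRingCat.ofHom res) (CommRingCat.ofHom φ) (CommRingCat.ofHom ψ) (CommRingCat.ofHom π)) :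
    Function.Surjective π ∧ RingHom.ker π = Ideal.map φ (RingHom.ker res) := by
  set I : Ideal R := Ideal.map φ (RingHom.ker res) with hI
  let q : R →+* R ⧸ I := Ideal.Quotient.mk I
  have hq : Function.Surjective q := Ideal.Quotient.mk_surjective
  have hle : RingHom.ker res ≤ RingHom.ker (q.comp φ) := by
    intro a ha
    rw [RingHom.mem_ker, RingHom.comp_apply, Ideal.Quotient.eq_zero_iff_mem]
    exact Ideal.mem_map_of_mem _ ha
  let ψ' : K →+* R ⧸ I := res.liftOfSurjective hres ⟨q.comp φ, hle⟩
  have hcomm' : q.comp φ = ψ'.comp res := by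
    ext a
    simp only [RingHom.comp_apply, ψ']
    rw [RingHom.liftOfSurjective_comp_apply]
    rfl
  have h' : IsPushout (CommRingCat.ofHom res) (CommRingCat.ofHom φ) (CommRingCat.ofHom ψ')
      (CommRingCat.ofHom q) := by
    refine isPushout_of_surjective res φ ψ' q hcomm' hres hq ?_
    rw [Ideal.mk_ker]
  -- the comparison isomorphism
  let e := h.isoIsPushout _ _ h'
  have he : CommRingCat.ofHom π ≫ e.hom = CommRingCat.ofHom q := IsPushout.inr_isoIsPushout_hom _ _ h h'
  have he' : ∀ r : R, e.hom.hom (π r) = q r := fun r => by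
    have := congrArg (fun f => f.hom r) he
    simpa using this
  have hinj : Function.Injective e.hom.hom := by
    intro x y hxy
    have := congrArg e.inv.hom hxy
    simpa using this
  constructor
  · intro b
    obtain ⟨r, hr⟩ := hq (e.hom.hom b)
    refine ⟨r, hinj ?_⟩
    rw [he', hr]
  · ext r
    rw [RingHom.mem_ker, ← Ideal.Quotient.eq_zero_iff_mem]
    change _ ↔ q r = 0
    rw [← he']
    constructor
    · intro h0; rw [h0, map_zero]
    · intro h0
      apply hinj
      rw [h0, map_zero]

end Pushout

section Dual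

open TensorProduct

/-- If `t * t = 0` and `t • m = 0` forces `m ∈ t M`, then `(t) ⊗ M → R ⊗ M` is injective. -/
theorem rTensor_span_singleton_injective {R M : Type*} [CommRing R] [AddCommGroup M] [Module R M]
    (t : R) (ht : t * t = 0) (h : ∀ m : M, t • m = 0 → ∃ m' : M, m = t • m') :
    Function.Injective (LinearMap.rTensor M (Ideal.span {t}).subtype) := by
  have htmem : t ∈ Ideal.span {t} := Ideal.subset_span rfl
  -- every element is `⟨t⟩ ⊗ m`
  have hform : ∀ z : (Ideal.span {t} : Ideal R) ⊗[R] M,
      ∃ m : M, z = (⟨t, htmem⟩ : Ideal.span {t}) ⊗ₜ[R] m := by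
    intro z
    induction z using TensorProduct.induction_on with
    | zero => exact ⟨0, (TensorProduct.tmul_zero _ _).symm⟩
    | tmul x m =>
      obtain ⟨x, hx⟩ := x
      obtain ⟨c, rfl⟩ := Ideal.mem_span_singleton'.1 hx
      refine ⟨c • m, ?_⟩
      rw [TensorProduct.tmul_smul, TensorProduct.smul_tmul']
      rfl
    | add x y hx hy =>
      obtain ⟨m, rfl⟩ := hx
      obtain ⟨m', rfl⟩ := hy
      exact ⟨m + m', (TensorProduct.tmul_add _ _ _).symm⟩
  rw [injective_iff_map_eq_zero]
  intro z hz
  obtain ⟨m, rfl⟩ := hform z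
  rw [LinearMap.rTensor_tmul] at hz
  have h0 : t • m = 0 := by
    have := congrArg (TensorProduct.lid R M) hz
    simpa using this
  obtain ⟨m', rfl⟩ := h m h0
  rw [TensorProduct.tmul_smul, TensorProduct.smul_tmul']
  have : t • (⟨t, htmem⟩ : Ideal.span {t}) = 0 := Subtype.ext (by simpa using ht)
  rw [this, TensorProduct.zero_tmul]

variable {k : Type u} [Field k]

open DualNumber

/-- An element of `k[ε]` with vanishing first component is a multiple of `ε`. -/
theorem dual_eq_inl_mul_eps (a : DualNumber k) (h : TrivSqZeroExt.fst a = 0) :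
    a = TrivSqZeroExt.inl (TrivSqZeroExt.snd a) * (ε : DualNumber k) := by
  apply TrivSqZeroExt.ext
  · simp [h]
  · simp

theorem dual_fst_eq_zero_of_eps_mul (a : DualNumber k) (h : (ε : DualNumber k) * a = 0) :
    TrivSqZeroExt.fst a = 0 := by
  have := congrArg TrivSqZeroExt.snd h
  simpa using this

/-- The ideals of the dual numbers. -/
theorem dual_ideal_cases (I : Ideal (DualNumber k)) :
    I = ⊥ ∨ I = Ideal.span {(ε : DualNumber k)} ∨ I = ⊤ := by
  by_cases h1 : ∃ x ∈ I, TrivSqZeroExt.fst x ≠ 0
  · obtain ⟨x, hx, hx0⟩ := h1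
    right; right
    refine Ideal.eq_top_of_isUnit_mem I hx ?_
    rw [TrivSqZeroExt.isUnit_iff_isUnit_fst]
    exact isUnit_iff_ne_zero.2 hx0
  · push Not at h1
    have hle : I ≤ Ideal.span {(ε : DualNumber k)} := by
      intro y hy
      rw [dual_eq_inl_mul_eps y (h1 y hy)]
      exact Ideal.mul_mem_left _ _ (Ideal.subset_span rfl)
    by_cases h2 : I = ⊥
    · exact Or.inl h2
    · right; left
      refine le_antisymm hle ?_
      obtain ⟨x, hx, hx0⟩ := Submodule.exists_mem_ne_zero_of_ne_bot h2
      have hs : TrivSqZeroExt.snd x ≠ 0 := by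
        intro hs
        apply hx0
        rw [dual_eq_inl_mul_eps x (h1 x hx), hs]
        simp
      rw [Ideal.span_le, Set.singleton_subset_iff]
      have key : ∀ c : k, c ≠ 0 →
          (ε : DualNumber k) = TrivSqZeroExt.inl c⁻¹ * (TrivSqZeroExt.inl c * ε) := by
        intro c hc
        rw [← mul_assoc, ← TrivSqZeroExt.inl_mul, inv_mul_cancel₀ hc]
        simp
      have : (ε : DualNumber k) = TrivSqZeroExt.inl (TrivSqZeroExt.snd x)⁻¹ * x := by
        have h3 := key _ hs
        rwa [← dual_eq_inl_mul_eps x (h1 x hx)] at h3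
      rw [this]
      exact Ideal.mul_mem_left _ _ hx

/-- In a flat module over the dual numbers, the kernel of `ε` is `ε M`. -/
theorem exists_eq_eps_smul_of_flat {M : Type*} [AddCommGroup M] [Module (DualNumber k) M]
    [Module.Flat (DualNumber k) M] (m : M) (h : (ε : DualNumber k) • m = 0) :
    ∃ m' : M, m = (ε : DualNumber k) • m' := by
  have hrel : ∑ i : Unit, (fun _ => (ε : DualNumber k)) i • (fun _ => m) i = 0 := by simpa using h
  obtain ⟨n, a, y, hxy, ha⟩ := Module.Flat.isTrivialRelation_of_sum_smul_eq_zero hrel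
  refine ⟨∑ j, (TrivSqZeroExt.inl (TrivSqZeroExt.snd (a () j)) : DualNumber k) • y j, ?_⟩
  have h1 := hxy ()
  simp only at h1
  rw [h1, Finset.smul_sum]
  refine Finset.sum_congr rfl fun j _ => ?_
  have h2 : (ε : DualNumber k) * a () j = 0 := by simpa using ha j
  rw [smul_smul]
  congr 1
  rw [mul_comm]
  exact dual_eq_inl_mul_eps _ (dual_fst_eq_zero_of_eps_mul _ h2)

/-- A module over the dual numbers in which the kernel of `ε` is `ε M` is flat. -/
theorem flat_of_forall_eps {M : Type*} [AddCommGroup M] [Module (DualNumber k) M]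
    (h : ∀ m : M, (ε : DualNumber k) • m = 0 → ∃ m' : M, m = (ε : DualNumber k) • m') :
    Module.Flat (DualNumber k) M := by
  rw [Module.Flat.iff_rTensor_injective']
  intro I
  rcases dual_ideal_cases I with rfl | rfl | rfl
  · intro x y _
    have : Subsingleton ((⊥ : Ideal (DualNumber k)) ⊗[DualNumber k] M) := by
      refine ⟨fun x y => ?_⟩
      have hz : ∀ z : (⊥ : Ideal (DualNumber k)) ⊗[DualNumber k] M, z = 0 := by
        intro z
        induction z using TensorProduct.induction_on with
        | zero => rfl
        | tmul x m =>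
          have : x = 0 := Subsingleton.elim _ _
          rw [this, TensorProduct.zero_tmul]
        | add x y hx hy => rw [hx, hy, add_zero]
      rw [hz x, hz y]
    exact Subsingleton.elim _ _
  · exact rTensor_span_singleton_injective _ (DualNumber.eps_mul_eps) h
  · have : (LinearMap.rTensor M (⊤ : Ideal (DualNumber k)).subtype) =
        (LinearEquiv.rTensor M (Submodule.topEquiv : (⊤ : Ideal (DualNumber k)) ≃ₗ[DualNumber k] DualNumber k)).toLinearMap := by
      rfl
    rw [this]
    exact LinearEquiv.injective _

end Dual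

end Groth.Agent.R2.H56.AffDefAlg
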