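import Groth.Prelude.Def_ArtFun4
import Groth.Agent.Lib.Helper22ThickAffine
import Groth.Agent.R2.H56AffDefAlg

/-!
# Deformations of an affine scheme over an Artinian base are affine (helper56)

Bridge between `ArtFun.DefSch (Spec B₀) x A` and purely algebraic data `AlgDef B₀ A`:
a ring `R`, a flat ring map `φ : A → R` and a surjection `π : R → B₀` with kernel `𝔪_A R`,
compatible with `A → k → B₀`.

Main declarations (ns `Groth.Agent.R2.H56.AffDef`):
* `isAffine_total`: the total space of a deformation of an affine scheme is affine;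
* `AlgDef`, `AlgDef.Iso`, `AlgDef.setoid`;
* `AlgDef.toDefSch`, `ofDefSch`, and the four compatibility lemmas with isomorphisms;
* `defEquiv : (defFunctor (Spec B₀) x).obj A ≃ Quotient (AlgDef.setoid B₀ A)`.
-/

set_option autoImplicit false

universe u

open CategoryTheory CategoryTheory.Limits AlgebraicGeometry

namespace Groth.Agent.R2.H56.AffDef

open ArtFun ArtFun.Art Groth.Agent.R2.H56.AffDefAlg

variable {Λ k : Type u} [CommRing Λ] [Field k] [Algebra Λ k]

section Point

theorem ker_res_eq (A : Art Λ k) : RingHom.ker A.res.toRingHom = IsLocalRing.maximalIdeal A := by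
  ext a
  rw [RingHom.mem_ker, mem_maximalIdeal_iff]
  rfl

instance subsingleton_primeSpectrum (A : Art Λ k) : Subsingleton (PrimeSpectrum A) := by
  refine ⟨fun p q => ?_⟩
  have hp : p.asIdeal.IsMaximal := IsArtinianRing.isMaximal_of_isPrime p.asIdeal
  have hq : q.asIdeal.IsMaximal := IsArtinianRing.isMaximal_of_isPrime q.asIdeal
  ext1
  rw [IsLocalRing.eq_maximalIdeal hp, IsLocalRing.eq_maximalIdeal hq]

instance subsingleton_spec (A : Art Λ k) : Subsingleton (spec A) :=
  inferInstanceAs (Subsingleton (PrimeSpectrum A))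

instance isClosedImmersion_specRes (A : Art Λ k) : IsClosedImmersion (specRes A) :=
  IsClosedImmersion.spec_of_surjective _ A.res_surjective

instance surjective_specRes (A : Art Λ k) : Surjective (specRes A) := by
  have : Nonempty (specPt k) := inferInstanceAs (Nonempty (PrimeSpectrum k))
  infer_instance

end Point

section Affine

variable {X : Scheme.{u}} {x : X ⟶ specPt k} {A : Art Λ k}

theorem isClosedImmersion_i (ξ : DefSch X x A) : IsClosedImmersion ξ.i :=
  MorphismProperty.of_isPullback ξ.isPullback.flip (isClosedImmersion_specRes A)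

theorem surjective_i (ξ : DefSch X x A) : Surjective ξ.i :=
  MorphismProperty.of_isPullback ξ.isPullback.flip (surjective_specRes A)

/-- The total space of a deformation of an affine scheme over an Artinian base is affine. -/
theorem isAffine_total [IsAffine X] (ξ : DefSch X x A) : IsAffine ξ.total := by
  have := isClosedImmersion_i ξ
  exact Groth.Agent.Lib.Helper22.ThickAffine.isAffine_of_thickening ξ.i (surjective_i ξ).surj

end Affine

section Bridge

variable (B₀ : Type u) [CommRing B₀] [Algebra k B₀]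

/-- The structure morphism of `Spec B₀`. -/
noncomputable abbrev xB : Spec (CommRingCat.of B₀) ⟶ specPt k :=
  Spec.map (CommRingCat.ofHom (algebraMap k B₀))

/-- An algebraic deformation of `B₀` over `A`: a flat `A`-algebra `R` (given by a ring map `φ`) with a
surjection `π : R → B₀` whose kernel is `𝔪_A R`, compatible with `A → k → B₀`. -/
structure AlgDef (A : Art Λ k) : Type (u + 1) where
  /-- the ring -/
  R : Type u
  [commRing : CommRing R]
  /-- the structure map -/
  φ : A →+* R
  flat : φ.Flat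
  /-- the reduction map -/
  π : R →+* B₀
  comm : π.comp φ = (algebraMap k B₀).comp A.res.toRingHom
  surj : Function.Surjective π
  ker_eq : RingHom.ker π = Ideal.map φ (RingHom.ker A.res.toRingHom)

attribute [instance] AlgDef.commRing

namespace AlgDef

variable {B₀} {A : Art Λ k}

/-- Isomorphisms of algebraic deformations. -/
structure Iso (D D' : AlgDef B₀ A) : Type u where
  /-- the ring isomorphism -/
  e : D.R ≃+* D'.R
  e_φ : ∀ a, e (D.φ a) = D'.φ a
  π_e : ∀ r, D'.π (e r) = D.π r

def Iso.refl (D : AlgDef B₀ A) : Iso D D := ⟨RingEquiv.refl _, fun _ => rfl, fun _ => rfl⟩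

def Iso.symm {D D' : AlgDef B₀ A} (i : Iso D D') : Iso D' D :=
  ⟨i.e.symm, fun a => by rw [RingEquiv.symm_apply_eq, i.e_φ],
    fun r => by rw [← i.π_e, RingEquiv.apply_symm_apply]⟩

def Iso.trans {D D' D'' : AlgDef B₀ A} (i : Iso D D') (j : Iso D' D'') : Iso D D'' :=
  ⟨i.e.trans j.e, fun a => by rw [RingEquiv.trans_apply, i.e_φ, j.e_φ],
    fun r => by rw [RingEquiv.trans_apply, j.π_e, i.π_e]⟩

variable (B₀ A) in
/-- Being isomorphic, as a setoid. -/
def setoid : Setoid (AlgDef B₀ A) where
  r D D' := Nonempty (Iso D D')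
  iseqv := ⟨fun D => ⟨Iso.refl D⟩, fun ⟨i⟩ => ⟨i.symm⟩, fun ⟨i⟩ ⟨j⟩ => ⟨i.trans j⟩⟩

theorem isPushout (D : AlgDef B₀ A) :
    IsPushout (CommRingCat.ofHom A.res.toRingHom) (CommRingCat.ofHom D.φ)
      (CommRingCat.ofHom (algebraMap k B₀)) (CommRingCat.ofHom D.π) :=
  isPushout_of_surjective _ _ _ _ D.comm A.res_surjective D.surj D.ker_eq.le

/-- The deformation of `Spec B₀` attached to an algebraic deformation. -/
noncomputable def toDefSch (D : AlgDef B₀ A) : DefSch (Spec (CommRingCat.of B₀)) (xB B₀) A where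
  total := Spec (CommRingCat.of D.R)
  f := Spec.map (CommRingCat.ofHom D.φ)
  flat := Flat.SpecMap_iff.2 D.flat
  i := Spec.map (CommRingCat.ofHom D.π)
  isPullback := isPullback_SpecMap_of_isPushout _ _ _ _ D.isPushout.flip

/-- Isomorphic algebraic deformations give isomorphic deformations. -/
noncomputable def Iso.toDefSch {D D' : AlgDef B₀ A} (i : Iso D D') : DefSch.Iso D.toDefSch D'.toDefSch where
  iso := (Scheme.Spec.mapIso (i.e.toCommRingCatIso).op).symm
  hom_f := by
    change Spec.map (CommRingCat.ofHom i.e.symm.toRingHom) ≫ Spec.map (CommRingCat.ofHom D'.φ) =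
      Spec.map (CommRingCat.ofHom D.φ)
    rw [← Spec.map_comp, ← CommRingCat.ofHom_comp]
    congr 2
    ext a
    simp only [RingHom.comp_apply]
    change i.e.symm (D'.φ a) = D.φ a
    rw [RingEquiv.symm_apply_eq, i.e_φ]
  i_hom := by
    change Spec.map (CommRingCat.ofHom D.π) ≫ Spec.map (CommRingCat.ofHom i.e.symm.toRingHom) =
      Spec.map (CommRingCat.ofHom D'.π)
    rw [← Spec.map_comp, ← CommRingCat.ofHom_comp]
    congr 2
    ext r
    simp only [RingHom.comp_apply]
    change D.π (i.e.symm r) = D'.π r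
    rw [← i.π_e, RingEquiv.apply_symm_apply]

end AlgDef

section OfDefSch

variable {B₀} {A : Art Λ k}

instance isAffine_total_inst (ξ : DefSch (Spec (CommRingCat.of B₀)) (xB B₀) A) : IsAffine ξ.total :=
  isAffine_total ξ

variable (ξ : DefSch (Spec (CommRingCat.of B₀)) (xB B₀) A)

/-- The structure map `A → Γ(total)`. -/
noncomputable def φOf : CommRingCat.of A ⟶ Γ(ξ.total, ⊤) :=
  (Scheme.ΓSpecIso (CommRingCat.of A)).inv ≫ ξ.f.appTop

/-- The reduction map `Γ(total) → B₀`. -/
noncomputable def πOf : Γ(ξ.total, ⊤) ⟶ CommRingCat.of B₀ :=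
  ξ.i.appTop ≫ (Scheme.ΓSpecIso (CommRingCat.of B₀)).hom

theorem isoSpec_hom_comp_φOf : ξ.total.isoSpec.hom ≫ Spec.map (φOf ξ) = ξ.f := by
  rw [φOf, Spec.map_comp, ← Category.assoc, Scheme.isoSpec_hom_naturality, Category.assoc,
    Scheme.isoSpec_Spec_hom, ← Spec.map_comp, Iso.inv_hom_id, Spec.map_id, Category.comp_id]

theorem i_comp_isoSpec_hom : ξ.i ≫ ξ.total.isoSpec.hom = Spec.map (πOf ξ) := by
  rw [πOf, Spec.map_comp, ← Scheme.isoSpec_Spec_hom, Scheme.isoSpec_hom_naturality]

theorem isPullback_of :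
    IsPullback (Spec.map (πOf ξ)) (xB B₀) (Spec.map (φOf ξ)) (specRes A) := by
  refine IsPullback.of_iso ξ.isPullback (Iso.refl _) ξ.total.isoSpec (Iso.refl _) (Iso.refl _)
    ?_ ?_ ?_ ?_
  · rw [Iso.refl_hom, Category.id_comp, i_comp_isoSpec_hom]
  · simp only [Iso.refl_hom, Category.id_comp, Category.comp_id]
  · rw [Iso.refl_hom, Category.comp_id, isoSpec_hom_comp_φOf]
  · simp only [Iso.refl_hom, Category.id_comp, Category.comp_id]

theorem isPushout_of :
    IsPushout (CommRingCat.ofHom A.res.toRingHom) (φOf ξ)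
      (CommRingCat.ofHom (algebraMap k B₀)) (πOf ξ) := by
  have h : IsPullback (Scheme.Spec.map (πOf ξ).op)
      (Scheme.Spec.map (CommRingCat.ofHom (algebraMap k B₀)).op)
      (Scheme.Spec.map (φOf ξ).op) (Scheme.Spec.map (CommRingCat.ofHom A.res.toRingHom).op) :=
    isPullback_of ξ
  exact (IsPullback.of_map_of_faithful Scheme.Spec h).unop

theorem flat_φOf : (φOf ξ).hom.Flat := by
  rw [← Flat.SpecMap_iff]
  have : Spec.map (φOf ξ) = ξ.total.isoSpec.inv ≫ ξ.f := by
    rw [← isoSpec_hom_comp_φOf, Iso.inv_hom_id_assoc]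
  rw [this]
  infer_instance

/-- The algebraic deformation attached to a deformation of `Spec B₀`. -/
noncomputable def ofDefSch : AlgDef B₀ A where
  R := Γ(ξ.total, ⊤)
  φ := (φOf ξ).hom
  flat := flat_φOf ξ
  π := (πOf ξ).hom
  comm := by
    have := congrArg CommRingCat.Hom.hom (isPushout_of ξ).w
    exact this.symm
  surj := (surjective_and_ker_of_isPushout A.res.toRingHom (φOf ξ).hom (algebraMap k B₀) (πOf ξ).hom
    A.res_surjective (isPushout_of ξ)).1
  ker_eq := (surjective_and_ker_of_isPushout A.res.toRingHom (φOf ξ).hom (algebraMap k B₀) (πOf ξ).hom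
    A.res_surjective (isPushout_of ξ)).2

/-- A deformation is isomorphic to the one attached to its algebraic deformation. -/
noncomputable def isoToDefSchOfDefSch : DefSch.Iso ξ (ofDefSch ξ).toDefSch where
  iso := ξ.total.isoSpec
  hom_f := isoSpec_hom_comp_φOf ξ
  i_hom := i_comp_isoSpec_hom ξ

/-- Isomorphic deformations have isomorphic algebraic deformations. -/
noncomputable def isoOfDefSch {ξ ξ' : DefSch (Spec (CommRingCat.of B₀)) (xB B₀) A} (j : DefSch.Iso ξ ξ') :
    AlgDef.Iso (ofDefSch ξ) (ofDefSch ξ') where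
  e := CategoryTheory.Iso.commRingCatIsoToRingEquiv
    { hom := j.iso.inv.appTop
      inv := j.iso.hom.appTop
      hom_inv_id := by
        rw [← Scheme.Hom.comp_appTop, j.iso.hom_inv_id]
        rfl
      inv_hom_id := by
        rw [← Scheme.Hom.comp_appTop, j.iso.inv_hom_id]
        rfl }
  e_φ := by
    intro a
    have h : φOf ξ ≫ j.iso.inv.appTop = φOf ξ' := by
      have h1 : j.iso.inv ≫ ξ.f = ξ'.f := j.symm.hom_f
      rw [φOf, Category.assoc, ← Scheme.Hom.comp_appTop, h1]
      rfl
    exact congrArg (fun f => f.hom a) h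
  π_e := by
    intro r
    have h : j.iso.inv.appTop ≫ πOf ξ' = πOf ξ := by
      have h1 : ξ'.i ≫ j.iso.inv = ξ.i := j.symm.i_hom
      rw [πOf, ← Category.assoc, ← Scheme.Hom.comp_appTop, h1]
      rfl
    exact congrArg (fun f => f.hom r) h

/-- The algebraic deformation of the deformation attached to `D` is isomorphic to `D`. -/
noncomputable def ofDefSchToDefSch (D : AlgDef B₀ A) : AlgDef.Iso (ofDefSch D.toDefSch) D where
  e := (Scheme.ΓSpecIso (CommRingCat.of D.R)).commRingCatIsoToRingEquiv
  e_φ := by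
    intro a
    have h : φOf D.toDefSch ≫ (Scheme.ΓSpecIso (CommRingCat.of D.R)).hom = CommRingCat.ofHom D.φ := by
      change ((Scheme.ΓSpecIso (CommRingCat.of A)).inv ≫ (Spec.map (CommRingCat.ofHom D.φ)).appTop) ≫ _ = _
      rw [Category.assoc, Scheme.ΓSpecIso_naturality, Iso.inv_hom_id_assoc]
    exact congrArg (fun f => f.hom a) h
  π_e := by
    intro r
    have h : (Scheme.ΓSpecIso (CommRingCat.of D.R)).hom ≫ CommRingCat.ofHom D.π = πOf D.toDefSch := by
      change _ = (Spec.map (CommRingCat.ofHom D.π)).appTop ≫ _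
      rw [Scheme.ΓSpecIso_naturality]
    exact congrArg (fun f => f.hom r) h

end OfDefSch

variable (A : Art Λ k)

/-- Isomorphism classes of deformations of `Spec B₀` over `A` are isomorphism classes of algebraic deformations. -/
noncomputable def defEquiv :
    (defFunctor (Λ := Λ) (Spec (CommRingCat.of B₀)) (xB B₀)).obj A ≃ Quotient (AlgDef.setoid B₀ A) where
  toFun := Quotient.map' (s₁ := DefSch.setoid _ _ A) ofDefSch (fun _ _ ⟨j⟩ => ⟨isoOfDefSch j⟩)
  invFun := Quotient.map' (s₂ := DefSch.setoid _ _ A) AlgDef.toDefSch (fun _ _ ⟨i⟩ => ⟨i.toDefSch⟩)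
  left_inv := by
    intro q
    induction q using Quotient.inductionOn with
    | h ξ => exact Quotient.sound ⟨(isoToDefSchOfDefSch ξ).symm⟩
  right_inv := by
    intro q
    induction q using Quotient.inductionOn with
    | h D => exact Quotient.sound ⟨ofDefSchToDefSch D⟩


end Bridge

end Groth.Agent.R2.H56.AffDef
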