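import Groth.Agent.R2.H56AffDef
import Groth.Agent.R2.H56FlatNil

/-!
# Morphisms of algebraic deformations are isomorphisms (helper56)

ns `Groth.Agent.R2.H56.AffDef`:
* `exists_pow_ker_res_eq_bot`: the maximal ideal of an object of `Art Λ k` is nilpotent;
* `AlgDef.bijective_of_hom`, `AlgDef.isoOfHom`: a ring map between algebraic deformations over `A`
  compatible with the structure maps and the reductions is bijective.
-/

set_option autoImplicit false

universe u

open CategoryTheory CategoryTheory.Limits AlgebraicGeometry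

namespace Groth.Agent.R2.H56.AffDef

open ArtFun ArtFun.Art Groth.Agent.R2.H56.FlatNil

variable {Λ k : Type u} [CommRing Λ] [Field k] [Algebra Λ k]

theorem exists_pow_ker_res_eq_bot (A : Art Λ k) : ∃ n : ℕ, (RingHom.ker A.res.toRingHom) ^ n = ⊥ := by
  rw [ker_res_eq]
  have h := IsArtinianRing.isNilpotent_jacobson_bot (R := A)
  rw [IsLocalRing.jacobson_eq_maximalIdeal ⊥ bot_ne_top] at h
  obtain ⟨n, hn⟩ := h
  exact ⟨n, hn⟩

variable {B₀ : Type u} [CommRing B₀] [Algebra k B₀] {A : Art Λ k}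

namespace AlgDef

theorem ker_π_eq_smul_top (D : AlgDef B₀ A) :
    letI := D.φ.toAlgebra
    ∀ x : D.R, x ∈ RingHom.ker A.res.toRingHom • (⊤ : Submodule A D.R) ↔ D.π x = 0 := by
  letI := D.φ.toAlgebra
  intro x
  rw [Ideal.smul_top_eq_map, Submodule.restrictScalars_mem, ← RingHom.mem_ker, D.ker_eq]
  rfl

/-- A morphism of algebraic deformations is bijective. -/
theorem bijective_of_hom (D D' : AlgDef B₀ A) (ψ : D.R →+* D'.R) (hφ : ∀ a, ψ (D.φ a) = D'.φ a)
    (hπ : ∀ r, D'.π (ψ r) = D.π r) : Function.Bijective ψ := by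
  letI := D.φ.toAlgebra
  letI := D'.φ.toAlgebra
  have hflat : Module.Flat A D'.R := D'.flat
  let ψL : D.R →ₗ[A] D'.R :=
    { toFun := ψ
      map_add' := map_add ψ
      map_smul' := fun a r => by
        change ψ (D.φ a * r) = D'.φ a * ψ r
        rw [map_mul, hφ] }
  obtain ⟨n, hn⟩ := exists_pow_ker_res_eq_bot A
  have h := bijective_of_flat_of_nilpotent ψL (RingHom.ker A.res.toRingHom) n hn ?_ ?_
  · exact h
  · rw [eq_top_iff]
    intro y _
    obtain ⟨x, hx⟩ := D.surj (D'.π y)
    have h1 : y - ψ x ∈ RingHom.ker A.res.toRingHom • (⊤ : Submodule A D'.R) := by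
      rw [D'.ker_π_eq_smul_top, map_sub, hπ, hx, sub_self]
    have : y = ψL x + (y - ψ x) := by
      change y = ψ x + (y - ψ x)
      ring
    rw [this]
    exact Submodule.add_mem_sup (LinearMap.mem_range_self ψL x) h1
  · intro x hx
    rw [D'.ker_π_eq_smul_top] at hx
    rw [D.ker_π_eq_smul_top, ← hπ]
    exact hx

/-- A morphism of algebraic deformations is an isomorphism. -/
noncomputable def isoOfHom (D D' : AlgDef B₀ A) (ψ : D.R →+* D'.R) (hφ : ∀ a, ψ (D.φ a) = D'.φ a)
    (hπ : ∀ r, D'.π (ψ r) = D.π r) : AlgDef.Iso D D' where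
  e := RingEquiv.ofBijective ψ (bijective_of_hom D D' ψ hφ hπ)
  e_φ := hφ
  π_e := hπ

end AlgDef

end Groth.Agent.R2.H56.AffDef
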