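import Groth.Agent.R2.H56CISpec
import Groth.Agent.Lib.Helper19CotTVanish

/-!
# PROJ:ci-t2 (S12291): assembly from the packages
-/

set_option autoImplicit false
set_option linter.style.haveILetI false
universe u

namespace Groth.Agent.R2.H56.CIMain

open Groth.Agent.R2.H56.CISpec

theorem main (hT1 : PkgT1.{u}) (hT2 : PkgT2.{u}) (hR : PkgR.{u}) (hCM : PkgCM.{u})
    (k A : Type u) [Field k] [CommRing A] [IsRegularLocalRing A] [Algebra k A]
    (hT : ∀ (N : Type u) [AddCommGroup N] [Module A N],
      Subsingleton (CotT.T1 (CotT.canon k A) N) ∧ Subsingleton (CotT.T2 (CotT.canon k A) N))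
    (I : Ideal A) (hI : I ≠ ⊤) :
    (∃ rs : List A, Ideal.ofList rs = I ∧
        (rs.length : WithBot ℕ∞) + ringKrullDim (A ⧸ I) = ringKrullDim A) ↔
      ∀ (M : Type u) [AddCommGroup M] [Module (A ⧸ I) M],
        Subsingleton (CotT.T2 (CotT.canon k (A ⧸ I)) M) := by
  constructor
  · rintro ⟨rs, rfl, hdim⟩ M _ _
    have hreg := hCM A rs hI hdim
    letI : Module A M := Module.compHom M (Ideal.Quotient.mk (Ideal.ofList rs))
    haveI : IsScalarTower A (A ⧸ Ideal.ofList rs) M :=
      IsScalarTower.of_compHom A (A ⧸ Ideal.ofList rs) M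
    have hsurj : Function.Surjective (algebraMap A (A ⧸ Ideal.ofList rs)) :=
      Ideal.Quotient.mk_surjective
    have h2 : Subsingleton (CotT.T2 (CotT.canon A (A ⧸ Ideal.ofList rs)) M) := by
      refine Groth.Agent.Lib.Helper19.CotTVanish.T2_subsingleton_of_isWeaklyRegular
        (CotT.canon A (A ⧸ Ideal.ofList rs)) M hsurj rs.get (by rw [List.ofFn_get]; exact hreg) ?_
      rw [Set.range_list_get]
      have h3 : RingHom.ker (algebraMap A (A ⧸ Ideal.ofList rs)) = Ideal.ofList rs :=
        Ideal.mk_ker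
      rw [h3]
    exact hT1 k A (Ideal.ofList rs) M (hT M).2 h2
  · intro h
    have h2 : ∀ (M : Type u) [AddCommGroup M] [Module (A ⧸ I) M],
        Subsingleton (CotT.T2 (CotT.canon A (A ⧸ I)) M) := by
      intro M _ _
      letI : Module A M := Module.compHom M (Ideal.Quotient.mk I)
      haveI : IsScalarTower A (A ⧸ I) M := IsScalarTower.of_compHom A (A ⧸ I) M
      exact hT2 k A I M (hT M).1 (h M)
    obtain ⟨rs, hrs, hreg⟩ := hR A I hI h2
    refine ⟨rs, hrs, ?_⟩
    subst hrs
    have hR' : RingTheory.Sequence.IsRegular A rs := by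
      refine ⟨hreg, ?_⟩
      intro htop
      apply hI
      have : Ideal.ofList rs • (⊤ : Submodule A A) = Ideal.ofList rs := by simp
      rw [← this, ← htop]
    have := ringKrullDim_add_length_eq_ringKrullDim_of_isRegular rs hR'
    rw [add_comm]
    exact this

end Groth.Agent.R2.H56.CIMain
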