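import Groth.Agent.R2.H56CISpec
import Groth.Agent.Lib.Helper19KosPres
import Groth.Agent.Lib.Helper19CotTVanish

/-!
# PROJ:ci-t2, PKG-T1: `T²(A/k,M) = 0` and `T²(B/A,M) = 0` imply `T²(B/k,M) = 0`

Abstract form: `R → A` surjective with kernel generated by `f`, `g` a family in the kernel of
`A → B`, with lifts `gt` to `R`; `f' = Sum.elim f gt`.
-/

set_option autoImplicit false
set_option linter.unusedSectionVars false
set_option linter.style.haveILetI false
set_option linter.unusedSimpArgs false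
universe u v w t t' m

open TensorProduct

namespace Groth.Agent.R2.H56.CIT1

open Groth.Agent.Lib.Helper19.Kos

section descend

variable {R : Type u} {A : Type v} [CommRing R] [CommRing A] [Algebra R A]
  {X : Type*} {Y : Type*} {M : Type*} [AddCommGroup X] [Module R X] [AddCommGroup Y] [Module A Y]
  [AddCommGroup M] [Module A M] [Module R M] [IsScalarTower R A M]

/-- descend a linear map along a surjective semilinear map -/
theorem exists_descend (hπ : Function.Surjective (algebraMap R A))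
    (p : X →ₛₗ[algebraMap R A] Y) (hp : Function.Surjective p)
    (φ : X →ₗ[R] M) (hφ : ∀ x, p x = 0 → φ x = 0) :
    ∃ ψ : Y →ₗ[A] M, ∀ x, ψ (p x) = φ x := by
  have key : ∀ x x', p x = p x' → φ x = φ x' := by
    intro x x' h
    have h1 : φ (x - x') = 0 := hφ _ (by rw [map_sub, h, sub_self])
    rw [map_sub, sub_eq_zero] at h1
    exact h1
  refine ⟨{ toFun := fun y => φ (Function.surjInv hp y), map_add' := ?_, map_smul' := ?_ }, ?_⟩
  · intro y y'
    rw [← map_add]
    apply key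
    rw [map_add, Function.surjInv_eq hp, Function.surjInv_eq hp, Function.surjInv_eq hp]
  · intro c y
    obtain ⟨c', rfl⟩ := hπ c
    rw [RingHom.id_apply, algebraMap_smul A c' (φ (Function.surjInv hp y)), ← map_smul]
    apply key
    rw [LinearMap.map_smulₛₗ, Function.surjInv_eq hp, Function.surjInv_eq hp]
  · intro x
    exact key _ _ (Function.surjInv_eq hp _)

end descend

section abs

variable {R : Type u} {A : Type v} {B : Type w} [CommRing R] [CommRing A] [CommRing B]
  [Algebra R A] [Algebra A B] [Algebra R B] [IsScalarTower R A B]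
  {σ : Type t} {τ : Type t'} (f : σ → R) (g : τ → A) (gt : τ → R)

/-- the combined family -/
def f' : σ ⊕ τ → R := Sum.elim f gt

/-- `F_σ → F_{σ ⊕ τ}` -/
noncomputable def inlF : (σ →₀ R) →ₗ[R] (σ ⊕ τ →₀ R) := Finsupp.lmapDomain R R Sum.inl

/-- `F_τ → F_{σ ⊕ τ}` -/
noncomputable def inrF : (τ →₀ R) →ₗ[R] (σ ⊕ τ →₀ R) := Finsupp.lmapDomain R R Sum.inr

/-- `F_{σ ⊕ τ} → F_σ` -/
noncomputable def outlF : (σ ⊕ τ →₀ R) →ₗ[R] (σ →₀ R) :=
  Finsupp.lcomapDomain (R := R) Sum.inl Sum.inl_injective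

/-- `F_{σ ⊕ τ} → F_τ` -/
noncomputable def outrF : (σ ⊕ τ →₀ R) →ₗ[R] (τ →₀ R) :=
  Finsupp.lcomapDomain (R := R) Sum.inr Sum.inr_injective

lemma inlF_single (s : σ) (r : R) :
    inlF (R := R) (τ := τ) (Finsupp.single s r) = Finsupp.single (Sum.inl s) r := by
  simp [inlF]

lemma inrF_single (s : τ) (r : R) :
    inrF (R := R) (σ := σ) (Finsupp.single s r) = Finsupp.single (Sum.inr s) r := by
  simp [inrF]

lemma jm_inlF (a : σ →₀ R) : jm R (f' f gt) (inlF a) = jm R f a := by
  rw [jm, jm, inlF, Finsupp.lmapDomain_apply, Finsupp.linearCombination_mapDomain]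
  rfl

lemma jm_inrF (b : τ →₀ R) : jm R (f' f gt) (inrF b) = jm R gt b := by
  rw [jm, jm, inrF, Finsupp.lmapDomain_apply, Finsupp.linearCombination_mapDomain]
  rfl

/-- decomposition of an element of `F_{σ ⊕ τ}` -/
lemma eq_inlF_add_inrF (x : σ ⊕ τ →₀ R) :
    x = inlF (outlF x) + inrF (outrF x) := by
  induction x using Finsupp.induction_linear with
  | zero => simp
  | add x y hx hy =>
    rw [map_add, map_add, map_add, map_add]
    nth_rewrite 1 [hx, hy]
    abel
  | single i r =>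
    cases i with
    | inl s =>
      have h1 : outlF (Finsupp.single (Sum.inl s : σ ⊕ τ) r) = Finsupp.single s r := by
        ext s'
        simp [outlF, Finsupp.single_apply]
      have h2 : outrF (Finsupp.single (Sum.inl s : σ ⊕ τ) r) = 0 := by
        ext s'
        simp [outrF, Finsupp.single_apply]
      rw [h1, h2, map_zero, add_zero, inlF_single]
    | inr s =>
      have h1 : outlF (Finsupp.single (Sum.inr s : σ ⊕ τ) r) = 0 := by
        ext s'
        simp [outlF, Finsupp.single_apply]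
      have h2 : outrF (Finsupp.single (Sum.inr s : σ ⊕ τ) r) = Finsupp.single s r := by
        ext s'
        simp [outrF, Finsupp.single_apply]
      rw [h1, h2, map_zero, zero_add, inrF_single]

lemma outlF_inlF (a : σ →₀ R) : outlF (inlF (τ := τ) a) = a := by
  rw [inlF, Finsupp.lmapDomain_apply]
  exact Finsupp.comapDomain_mapDomain _ Sum.inl_injective a

/-- the family `v₁ : σ → F'` for the inclusion -/
noncomputable def v₁ : σ → (σ ⊕ τ →₀ R) := fun s => Finsupp.single (Sum.inl s) 1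

/-- the family `v₂ : σ ⊕ τ → F_A` for the projection -/
noncomputable def v₂ : σ ⊕ τ → (τ →₀ A) := Sum.elim (fun _ => 0) (fun s => Finsupp.single s 1)

lemma hv₁ (s : σ) : jm R (f' f gt) (v₁ (τ := τ) s) = (RingHom.id R) (f s) := by
  rw [v₁, jm_single, one_mul]
  rfl

variable {f g gt}

lemma hv₂ (hf : ∀ s, algebraMap R A (f s) = 0) (hgt : ∀ s, algebraMap R A (gt s) = g s)
    (i : σ ⊕ τ) : jm A g (v₂ (σ := σ) i) = algebraMap R A (f' f gt i) := by
  cases i with
  | inl s =>
    show jm A g 0 = algebraMap R A (f s)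
    rw [map_zero, hf]
  | inr s =>
    show jm A g (Finsupp.single s 1) = algebraMap R A (gt s)
    rw [jm_single, one_mul, hgt]

lemma τF_v₁ (a : σ →₀ R) : τF (RingHom.id R) (v₁ (τ := τ)) a = inlF a := by
  induction a using Finsupp.induction_linear with
  | zero => simp
  | add x y hx hy => rw [map_add, map_add, hx, hy]
  | single s r =>
    rw [τF_single, inlF_single, v₁, Finsupp.smul_single, RingHom.id_apply, smul_eq_mul, mul_one]

lemma τF_v₂_inlF (a : σ →₀ R) :
    τF (algebraMap R A) (v₂ (σ := σ) (τ := τ)) (inlF a) = 0 := by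
  induction a using Finsupp.induction_linear with
  | zero => simp
  | add x y hx hy => rw [map_add, map_add, hx, hy, add_zero]
  | single s r =>
    rw [inlF_single, τF_single]
    show _ • (0 : τ →₀ A) = 0
    rw [smul_zero]

lemma τF_v₂_inrF (b : τ →₀ R) :
    τF (algebraMap R A) (v₂ (σ := σ) (τ := τ)) (inrF b) =
      Finsupp.mapRange (algebraMap R A) (map_zero _) b := by
  induction b using Finsupp.induction_linear with
  | zero => simp
  | add x y hx hy =>
    rw [map_add, map_add, hx, hy, Finsupp.mapRange_add (map_add _)]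
  | single s r =>
    rw [inrF_single, τF_single, Finsupp.mapRange_single]
    show _ • Finsupp.single s (1 : A) = _
    rw [Finsupp.smul_single, smul_eq_mul, mul_one]

variable (f g gt) in
lemma hf' (hf : ∀ s, algebraMap R A (f s) = 0) (hg : ∀ s, algebraMap A B (g s) = 0)
    (hgt : ∀ s, algebraMap R A (gt s) = g s) (i : σ ⊕ τ) :
    algebraMap R B (f' f gt i) = 0 := by
  rw [IsScalarTower.algebraMap_apply R A B]
  cases i with
  | inl s =>
    show algebraMap A B (algebraMap R A (f s)) = 0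
    rw [hf, map_zero]
  | inr s =>
    show algebraMap A B (algebraMap R A (gt s)) = 0
    rw [hgt, hg]

/-- elements of `F_τ` with coefficients in the kernel of `R → A` are, modulo `F_σ`, trivial
relations -/
lemma exists_inrF_sub_mem_F0
    (hspan : ∀ z : R, algebraMap R A z = 0 → ∃ x, jm R f x = z)
    (b : τ →₀ R) (hb : ∀ s, algebraMap R A (b s) = 0) :
    ∃ c' : σ →₀ R, inrF b - inlF c' ∈ F0 R (f' f gt) := by
  choose c hc using fun s => hspan (b s) (hb s)
  refine ⟨∑ s ∈ b.support, gt s • c s, ?_⟩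
  have h1 : inrF (σ := σ) b = ∑ s ∈ b.support, Finsupp.single (Sum.inr s) (b s) := by
    rw [inrF, Finsupp.lmapDomain_apply, Finsupp.mapDomain, Finsupp.sum]
  rw [h1, map_sum, ← Finset.sum_sub_distrib]
  refine Submodule.sum_mem _ fun s _ => ?_
  have h2 := kos_mem_F0 R (f' f gt) (inlF (c s)) (Finsupp.single (Sum.inr s) 1)
  rw [jm_inlF, hc, jm_single, one_mul, Finsupp.smul_single, smul_eq_mul, mul_one] at h2
  rw [map_smul]
  exact h2

end abs

section main

variable {R : Type u} {A : Type v} {B : Type w} [CommRing R] [CommRing A] [CommRing B]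
  [Algebra R A] [Algebra A B] [Algebra R B] [IsScalarTower R A B]
  {σ : Type t} {τ : Type t'} {f : σ → R} {g : τ → A} {gt : τ → R}
  (hf : ∀ s, algebraMap R A (f s) = 0) (hg : ∀ s, algebraMap A B (g s) = 0)
  (hgt : ∀ s, algebraMap R A (gt s) = g s)
  (hπ : Function.Surjective (algebraMap R A))
  (hspan : ∀ z : R, algebraMap R A z = 0 → ∃ x, jm R f x = z)

include hf hgt hπ hspan in
/-- the projection `Q(f') → Q_A(g)` is surjective -/
lemma τQ_v₂_surjective :
    Function.Surjective (τQ (algebraMap R A) (v₂ (σ := σ) (τ := τ)) (hv₂ hf hgt)) := by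
  intro y
  obtain ⟨b, hb⟩ := Finsupp.mapRange_surjective (algebraMap R A) (map_zero _) hπ (y : τ →₀ A)
  have h1 : algebraMap R A (jm R gt b) = 0 := by
    have h2 := jm_τF (τ := algebraMap R A) (v := v₂ (σ := σ) (τ := τ)) (f' := g)
      (hv₂ hf hgt) (inrF b)
    rw [τF_v₂_inrF, hb, jm_inrF] at h2
    rw [← h2]
    exact (mem_Q A g _).mp y.2
  obtain ⟨a, ha⟩ := hspan _ h1
  have hx : inrF b - inlF a ∈ Q R (f' f gt) := by
    rw [mem_Q, map_sub, jm_inrF, jm_inlF, ha, sub_self]
  refine ⟨⟨_, hx⟩, Subtype.ext ?_⟩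
  rw [τQ_coe]
  show τF (algebraMap R A) v₂ (inrF b - inlF a) = _
  rw [map_sub, τF_v₂_inrF, τF_v₂_inlF, sub_zero, hb]

include hf hgt hπ in
/-- trivial relations of `g` lift to trivial relations of `f'` -/
lemma exists_mem_F0_lift (y : τ →₀ A) (hy : y ∈ F0 A g) :
    ∃ x ∈ F0 R (f' f gt), τF (algebraMap R A) (v₂ (σ := σ) (τ := τ)) x = y := by
  induction hy using Submodule.span_induction with
  | mem y hy =>
    obtain ⟨a, b, rfl⟩ := hy
    obtain ⟨a', ha'⟩ := Finsupp.mapRange_surjective (algebraMap R A) (map_zero _) hπ a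
    obtain ⟨b', hb'⟩ := Finsupp.mapRange_surjective (algebraMap R A) (map_zero _) hπ b
    refine ⟨_, kos_mem_F0 R (f' f gt) (inrF a') (inrF b'), ?_⟩
    rw [map_sub, LinearMap.map_smulₛₗ, LinearMap.map_smulₛₗ, ← jm_τF (hv₂ hf hgt),
      ← jm_τF (hv₂ hf hgt), τF_v₂_inrF, τF_v₂_inrF, ha', hb']
  | zero => exact ⟨0, Submodule.zero_mem _, map_zero _⟩
  | add y y' _ _ hy hy' =>
    obtain ⟨x, hx, rfl⟩ := hy
    obtain ⟨x', hx', rfl⟩ := hy'
    exact ⟨x + x', Submodule.add_mem _ hx hx', map_add _ _ _⟩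
  | smul c y _ hy =>
    obtain ⟨x, hx, rfl⟩ := hy
    obtain ⟨c', rfl⟩ := hπ c
    exact ⟨c' • x, Submodule.smul_mem _ _ hx, LinearMap.map_smulₛₗ _ _ _⟩

include hf hgt hπ hspan in
/-- `f'` generates the kernel of `R → B` if `g` generates the kernel of `A → B` -/
lemma f'_span (hspang : ∀ y : A, algebraMap A B y = 0 → ∃ b, jm A g b = y)
    (z : R) (hz : algebraMap R B z = 0) : ∃ x, jm R (f' f gt) x = z := by
  rw [IsScalarTower.algebraMap_apply R A B] at hz
  obtain ⟨b, hb⟩ := hspang _ hz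
  obtain ⟨b', hb'⟩ := Finsupp.mapRange_surjective (algebraMap R A) (map_zero _) hπ b
  have h1 : algebraMap R A (z - jm R gt b') = 0 := by
    have h2 := jm_τF (τ := algebraMap R A) (v := v₂ (σ := σ) (τ := τ)) (f' := g)
      (hv₂ hf hgt) (inrF b')
    rw [τF_v₂_inrF, hb', jm_inrF, hb] at h2
    rw [map_sub, ← h2, sub_self]
  obtain ⟨a, ha⟩ := hspan _ h1
  refine ⟨inlF a + inrF b', ?_⟩
  rw [map_add, jm_inlF, jm_inrF, ha]
  ring

include hspan in
/-- decomposition of the kernel of the projection -/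
lemma exists_decomp_of_proj_eq_zero (x : σ ⊕ τ →₀ R) (hx : x ∈ Q R (f' f gt))
    (hx0 : τF (algebraMap R A) (v₂ (σ := σ) (τ := τ)) x = 0) :
    ∃ a' ∈ Q R f, ∃ K ∈ F0 R (f' f gt), x = inlF a' + K := by
  have hdec := eq_inlF_add_inrF x
  rw [hdec, map_add, τF_v₂_inlF, zero_add, τF_v₂_inrF] at hx0
  have hb : ∀ s, algebraMap R A (outrF x s) = 0 := by
    intro s
    have := DFunLike.congr_fun hx0 s
    rwa [Finsupp.mapRange_apply] at this
  obtain ⟨c', hc'⟩ := exists_inrF_sub_mem_F0 (gt := gt) hspan _ hb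
  have hK : inrF (outrF x) - inlF c' ∈ Q R (f' f gt) := F0_le_Q R _ hc'
  have h6 : inlF (τ := τ) (outlF x + c') = x - (inrF (outrF x) - inlF c') := by
    nth_rewrite 2 [hdec]
    rw [map_add]
    abel
  have ha' : outlF x + c' ∈ Q R f := by
    have h5 : inlF (τ := τ) (outlF x + c') ∈ Q R (f' f gt) := by
      rw [h6]
      exact Submodule.sub_mem _ hx hK
    rw [mem_Q, jm_inlF] at h5
    exact (mem_Q R f _).mpr h5
  refine ⟨_, ha', _, hc', ?_⟩
  rw [h6]
  abel

end main

section kos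

variable {S : Type u} {B : Type v} [CommRing S] [CommRing B] [Algebra S B] {σ : Type t}
  {f : σ → S} (hf : ∀ s, algebraMap S B (f s) = 0)
variable {M : Type m} [AddCommGroup M] [Module B M] [Module S M] [IsScalarTower S B M]

include hf in
/-- if `T² = 0`, every functional on the relations killing the trivial ones extends -/
lemma exists_extend_of_subsingleton (h : Subsingleton (T2 S B f hf M))
    (q : Q S f →ₗ[S] M) (hq : ∀ x : Q S f, (x : σ →₀ S) ∈ F0 S f → q x = 0) :
    ∃ G : (σ →₀ S) →ₗ[S] M, ∀ x : Q S f, G (x : σ →₀ S) = q x := by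
  have h3 : (Submodule.Quotient.mk (lift2 (B := B) q hq) : T2 S B f hf M) = 0 :=
    Subsingleton.elim _ _
  rw [Submodule.Quotient.mk_eq_zero, mem_range_lcomp_d2_iff] at h3
  obtain ⟨G, hG⟩ := h3
  exact ⟨G, fun x => by rw [hG x, at2_lift2]⟩

include hf in
/-- `T² = 0` as soon as every functional is a coboundary -/
lemma subsingleton_T2_of_forall
    (h : ∀ ψ : L2 S B f →ₗ[B] M, ∃ G : (σ →₀ S) →ₗ[S] M, ∀ x : Q S f, G (x : σ →₀ S) = at2 ψ x) :
    Subsingleton (T2 S B f hf M) := by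
  have hz : ∀ a : T2 S B f hf M, a = 0 := by
    intro a
    obtain ⟨ψ, rfl⟩ := Submodule.Quotient.mk_surjective _ a
    rw [Submodule.Quotient.mk_eq_zero, mem_range_lcomp_d2_iff]
    exact h ψ
  exact ⟨fun a b => by rw [hz a, hz b]⟩

end kos

section main2

variable {R : Type u} {A : Type v} {B : Type w} [CommRing R] [CommRing A] [CommRing B]
  [Algebra R A] [Algebra A B] [Algebra R B] [IsScalarTower R A B]
  {σ : Type t} {τ : Type t'} {f : σ → R} {g : τ → A} {gt : τ → R}
  (hf : ∀ s, algebraMap R A (f s) = 0) (hg : ∀ s, algebraMap A B (g s) = 0)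
  (hgt : ∀ s, algebraMap R A (gt s) = g s)
  (hπ : Function.Surjective (algebraMap R A))
  (hspan : ∀ z : R, algebraMap R A z = 0 → ∃ x, jm R f x = z)

variable {M : Type m} [AddCommGroup M] [Module B M] [Module A M] [IsScalarTower A B M]
  [Module R M] [IsScalarTower R A M] [IsScalarTower R B M]

include hf hg hgt hπ hspan in
/-- a functional on `Q(f')` killing `F0(f')` and the image of `Q(f)` extends, if `T²(B/A) = 0` -/
lemma exists_extend_of_vanish (h2 : Subsingleton (T2 A B g hg M))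
    (φ : Q R (f' f gt) →ₗ[R] M)
    (hφ0 : ∀ x : Q R (f' f gt), (x : σ ⊕ τ →₀ R) ∈ F0 R (f' f gt) → φ x = 0)
    (hφ1 : ∀ (a : σ →₀ R) (ha : inlF (τ := τ) a ∈ Q R (f' f gt)), φ ⟨_, ha⟩ = 0) :
    ∃ G : (σ ⊕ τ →₀ R) →ₗ[R] M, ∀ x : Q R (f' f gt), G (x : σ ⊕ τ →₀ R) = φ x := by
  have hτ₂ : ∀ x, algebraMap A B (algebraMap R A x) = algebraMap R B x := fun x =>
    (IsScalarTower.algebraMap_apply R A B x).symm
  let p : Q R (f' f gt) →ₛₗ[algebraMap R A] Q A g :=
    τQ (algebraMap R A) (v₂ (σ := σ) (τ := τ)) (hv₂ hf hgt)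
  have hker : ∀ x : Q R (f' f gt), p x = 0 → φ x = 0 := by
    intro x hx
    have hx0 : τF (algebraMap R A) (v₂ (σ := σ) (τ := τ)) (x : σ ⊕ τ →₀ R) = 0 :=
      congrArg Subtype.val hx
    obtain ⟨a', ha', K, hK, hxe⟩ := exists_decomp_of_proj_eq_zero hspan _ x.2 hx0
    have ha'' : inlF (τ := τ) a' ∈ Q R (f' f gt) := by
      rw [mem_Q, jm_inlF]
      exact (mem_Q R f _).mp ha'
    have hxe' : x = ⟨_, ha''⟩ + ⟨K, F0_le_Q R _ hK⟩ := Subtype.ext hxe
    rw [hxe', map_add, hφ1 a' ha'', zero_add]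
    exact hφ0 _ hK
  obtain ⟨ψA, hψA⟩ := exists_descend (X := Q R (f' f gt)) (Y := Q A g) (M := M) hπ p
    (τQ_v₂_surjective hf hgt hπ hspan) φ hker
  have hψA0 : ∀ y : Q A g, (y : τ →₀ A) ∈ F0 A g → ψA y = 0 := by
    intro y hy
    obtain ⟨x, hx, hxy⟩ := exists_mem_F0_lift (σ := σ) (f := f) hf hgt hπ _ hy
    have h7 : y = p ⟨x, F0_le_Q R _ hx⟩ := Subtype.ext hxy.symm
    rw [h7, hψA]
    exact hφ0 _ hx
  obtain ⟨GA, hGA⟩ := exists_extend_of_subsingleton hg h2 ψA hψA0
  refine ⟨compτF (τ := algebraMap R A) (v := v₂ (σ := σ) (τ := τ)) hτ₂ GA, fun x => ?_⟩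
  rw [compτF_apply, ← hψA x, ← hGA]
  rfl

include hf hg hgt hπ hspan in
/-- **PKG-T1, abstract form.** -/
theorem subsingleton_T2_of_subsingleton
    (h1 : Subsingleton (T2 R A f hf M)) (h2 : Subsingleton (T2 A B g hg M)) :
    Subsingleton (T2 R B (f' f gt) (hf' f g gt hf hg hgt) M) := by
  have hf'' := hf' f g gt hf hg hgt (B := B)
  refine subsingleton_T2_of_forall hf'' fun ψ' => ?_
  -- Step 1: restrict to `Q(f)`
  let u : Q R f →ₗ[R] Q R (f' f gt) := τQ (RingHom.id R) (v₁ (τ := τ)) (hv₁ f gt)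
  let q₁ : Q R f →ₗ[R] M := (at2 ψ') ∘ₗ u
  have hq₁ : ∀ q : Q R f, (q : σ →₀ R) ∈ F0 R f → q₁ q = 0 := fun q hq =>
    at2_of_mem_F0 hf'' ψ' _ (τF_mem_F0 (hv₁ f gt) hq)
  obtain ⟨G, hG⟩ := exists_extend_of_subsingleton hf h1 q₁ hq₁
  -- Step 2: subtract the coboundary of `G' = G ∘ outlF`
  let G' : (σ ⊕ τ →₀ R) →ₗ[R] M := G ∘ₗ outlF
  let φ : Q R (f' f gt) →ₗ[R] M := at2 ψ' - G' ∘ₗ (Q R (f' f gt)).subtype
  have hφ0 : ∀ x : Q R (f' f gt), (x : σ ⊕ τ →₀ R) ∈ F0 R (f' f gt) → φ x = 0 := by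
    intro x hx
    have e1 : φ x = at2 ψ' x - at2 (lift1 (B := B) G' ∘ₗ d2 hf'') x := by
      rw [at2_comp_d2, at1_lift1]
      rfl
    rw [e1, at2_of_mem_F0 hf'' ψ' x hx, at2_of_mem_F0 hf'' _ x hx, sub_zero]
  have hφ1 : ∀ (a : σ →₀ R) (ha : inlF (τ := τ) a ∈ Q R (f' f gt)), φ ⟨_, ha⟩ = 0 := by
    intro a ha
    have haQ : a ∈ Q R f := by
      rw [mem_Q, jm_inlF] at ha
      exact (mem_Q R f _).mpr ha
    have e2 : (⟨_, ha⟩ : Q R (f' f gt)) = u ⟨a, haQ⟩ := Subtype.ext (τF_v₁ a).symm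
    show at2 ψ' ⟨_, ha⟩ - G (outlF (inlF (τ := τ) a)) = 0
    rw [outlF_inlF, e2, hG ⟨a, haQ⟩]
    exact sub_self _
  obtain ⟨G'', hG''⟩ := exists_extend_of_vanish hf hg hgt hπ hspan h2 φ hφ0 hφ1
  refine ⟨G'' + G', fun x => ?_⟩
  rw [LinearMap.add_apply, hG'' x]
  show at2 ψ' x - G' (x : σ ⊕ τ →₀ R) + G' (x : σ ⊕ τ →₀ R) = at2 ψ' x
  abel

end main2

open Groth.Agent.Lib.Helper19.CotTVanish Groth.Agent.R2.H56.CISpec

section transfer

variable {A B : Type u} [CommRing A] [CommRing B] [Algebra A B] {ι σ : Type*}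
  (P : Algebra.Presentation A B ι σ)
  (M : Type u) [AddCommGroup M] [Module B M]

set_option backward.isDefEq.respectTransparency false in
/-- `T²(B/A)` of a presentation, for surjective `A → B`, computed with all elements
of the kernel as generators -/
theorem nonempty_T2_equiv_kerFam (hsurj : Function.Surjective (algebraMap A B)) :
    Nonempty (CotT.T2 P M ≃ₗ[B] T2 A B (kerFam A B) (kerFam_hf A B) M) := by
  haveI : Algebra.FormallySmooth A P.toExtension.Ring :=
    inferInstanceAs (Algebra.FormallySmooth A (MvPolynomial ι A))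
  let h' : P.toExtension.Ring →ₐ[A] A :=
    (MvPolynomial.aeval (fun i => Function.surjInv hsurj (P.val i)) : MvPolynomial ι A →ₐ[A] A)
  have hh' : ∀ x, algebraMap A B (h' x) = algebraMap P.toExtension.Ring B x := by
    intro x
    have : (Algebra.ofId A B).comp h' = IsScalarTower.toAlgHom A P.toExtension.Ring B := by
      refine MvPolynomial.algHom_ext fun i => ?_
      show algebraMap A B (MvPolynomial.aeval (fun i => Function.surjInv hsurj (P.val i))
        (MvPolynomial.X i)) = algebraMap P.toExtension.Ring B (MvPolynomial.X i)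
      rw [MvPolynomial.aeval_X, Function.surjInv_eq hsurj, CotT.algebraMap_toExtension,
        MvPolynomial.aeval_X]
    exact AlgHom.congr_fun this x
  obtain ⟨e⟩ := nonempty_T2_equiv_of_formallySmooth (A := A) (S := P.toExtension.Ring) (S' := A)
    (B := B) (f' := kerFam A B)
    (CotT.algebraMap_rel P) (kerFam_hf A B) (Algebra.ofId A P.toExtension.Ring)
    (fun x => (IsScalarTower.algebraMap_apply A P.toExtension.Ring B x).symm)
    h' hh' (jm_span P) (kerFam_span A B) M
  exact ⟨(bridge P M).trans e⟩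

end transfer

section pkg

variable (k A : Type u) [CommRing k] [CommRing A] [Algebra k A] (I : Ideal A)

/-- the polynomial ring of the canonical presentation of `A` over `k` -/
abbrev Rk : Type u := (CotT.canon k A).toExtension.Ring

end pkg

end Groth.Agent.R2.H56.CIT1
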