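import Groth.Agent.R2.H56CIT1

/-!
# PROJ:ci-t2, PKG-T1: transfer to the canonical presentations
-/

set_option autoImplicit false
set_option linter.unusedSectionVars false
set_option linter.style.haveILetI false
universe u

open TensorProduct

namespace Groth.Agent.R2.H56.CIT1

open Groth.Agent.Lib.Helper19.Kos Groth.Agent.Lib.Helper19.CotTVanish Groth.Agent.R2.H56.CISpec

section final

variable (k A : Type u) [CommRing k] [CommRing A] [Algebra k A] (I : Ideal A)

/-- `k[X_b] → k[X_a]` -/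
noncomputable def hBA : (CotT.canon k (A ⧸ I)).toExtension.Ring →ₐ[k] Rk k A :=
  (MvPolynomial.aeval (fun b : A ⧸ I =>
    (MvPolynomial.X (Function.surjInv Ideal.Quotient.mk_surjective b) : MvPolynomial A k)) :
    MvPolynomial (A ⧸ I) k →ₐ[k] MvPolynomial A k)

/-- `k[X_a] → k[X_b]` -/
noncomputable def hAB : Rk k A →ₐ[k] (CotT.canon k (A ⧸ I)).toExtension.Ring :=
  (MvPolynomial.aeval (fun a : A =>
    (MvPolynomial.X (Ideal.Quotient.mk I a) : MvPolynomial (A ⧸ I) k)) :
    MvPolynomial A k →ₐ[k] MvPolynomial (A ⧸ I) k)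

set_option backward.isDefEq.respectTransparency false in
lemma hBA_compat (x : (CotT.canon k (A ⧸ I)).toExtension.Ring) :
    algebraMap (Rk k A) (A ⧸ I) (hBA k A I x) =
      algebraMap (CotT.canon k (A ⧸ I)).toExtension.Ring (A ⧸ I) x := by
  have : (IsScalarTower.toAlgHom k (Rk k A) (A ⧸ I)).comp (hBA k A I) =
      IsScalarTower.toAlgHom k (CotT.canon k (A ⧸ I)).toExtension.Ring (A ⧸ I) := by
    refine MvPolynomial.algHom_ext fun b => ?_
    show algebraMap (Rk k A) (A ⧸ I) (MvPolynomial.aeval _ (MvPolynomial.X b)) =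
      algebraMap (CotT.canon k (A ⧸ I)).toExtension.Ring (A ⧸ I) (MvPolynomial.X b)
    rw [IsScalarTower.algebraMap_apply (Rk k A) A (A ⧸ I), MvPolynomial.aeval_X, CotT.algebraMap_toExtension, MvPolynomial.aeval_X,
      CotT.algebraMap_toExtension, MvPolynomial.aeval_X]
    exact Function.surjInv_eq Ideal.Quotient.mk_surjective b
  exact AlgHom.congr_fun this x

set_option backward.isDefEq.respectTransparency false in
lemma hAB_compat (x : Rk k A) :
    algebraMap (CotT.canon k (A ⧸ I)).toExtension.Ring (A ⧸ I) (hAB k A I x) =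
      algebraMap (Rk k A) (A ⧸ I) x := by
  have : (IsScalarTower.toAlgHom k (CotT.canon k (A ⧸ I)).toExtension.Ring (A ⧸ I)).comp
      (hAB k A I) = IsScalarTower.toAlgHom k (Rk k A) (A ⧸ I) := by
    refine MvPolynomial.algHom_ext fun a => ?_
    show algebraMap (CotT.canon k (A ⧸ I)).toExtension.Ring (A ⧸ I)
        (MvPolynomial.aeval _ (MvPolynomial.X a)) =
      algebraMap (Rk k A) (A ⧸ I) (MvPolynomial.X a)
    rw [IsScalarTower.algebraMap_apply (Rk k A) A (A ⧸ I), MvPolynomial.aeval_X,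
      CotT.algebraMap_toExtension, MvPolynomial.aeval_X,
      CotT.algebraMap_toExtension, MvPolynomial.aeval_X]
    rfl
  exact AlgHom.congr_fun this x

/-- **PKG-T1.** -/
theorem pkgT1 : PkgT1.{u} := by
  intro k A _ _ _ I M _ _ _ _ h1 h2
  letI : Module (Rk k A) M := Module.compHom M (algebraMap (Rk k A) A)
  haveI : IsScalarTower (Rk k A) A M := IsScalarTower.of_compHom (Rk k A) A M
  haveI : IsScalarTower (Rk k A) (A ⧸ I) M := IsScalarTower.of_algebraMap_smul fun r m => by
    rw [IsScalarTower.algebraMap_apply (Rk k A) A (A ⧸ I)]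
    exact algebraMap_smul (A ⧸ I) (algebraMap (Rk k A) A r) m
  have hπ : Function.Surjective (algebraMap (Rk k A) A) :=
    (CotT.canon k A).algebraMap_surjective
  have hsurj : Function.Surjective (algebraMap A (A ⧸ I)) := Ideal.Quotient.mk_surjective
  -- `T²(A/k)`
  have h1' : Subsingleton (T2 (Rk k A) A (CotT.rel (CotT.canon k A))
      (CotT.algebraMap_rel (CotT.canon k A)) M) :=
    (bridge (CotT.canon k A) M).symm.toEquiv.subsingleton
  -- `T²(B/A)`
  obtain ⟨e₂⟩ := nonempty_T2_equiv_kerFam (CotT.canon A (A ⧸ I)) M hsurj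
  have h2' : Subsingleton (T2 A (A ⧸ I) (kerFam A (A ⧸ I)) (kerFam_hf A (A ⧸ I)) M) :=
    e₂.symm.toEquiv.subsingleton
  -- lifts
  let gt : RingHom.ker (algebraMap A (A ⧸ I)) → Rk k A :=
    fun s => Function.surjInv hπ (kerFam A (A ⧸ I) s)
  have hgt : ∀ s, algebraMap (Rk k A) A (gt s) = kerFam A (A ⧸ I) s :=
    fun s => Function.surjInv_eq hπ _
  have h3 := subsingleton_T2_of_subsingleton (M := M) (CotT.algebraMap_rel (CotT.canon k A))
    (kerFam_hf A (A ⧸ I)) hgt hπ (jm_span (CotT.canon k A)) h1' h2'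
  -- transfer to the canonical presentation of `B` over `k`
  haveI : Algebra.FormallySmooth k (Rk k A) :=
    inferInstanceAs (Algebra.FormallySmooth k (MvPolynomial A k))
  haveI : Algebra.FormallySmooth k (CotT.canon k (A ⧸ I)).toExtension.Ring :=
    inferInstanceAs (Algebra.FormallySmooth k (MvPolynomial (A ⧸ I) k))
  obtain ⟨e₃⟩ := nonempty_T2_equiv_of_formallySmooth (A := k) (S := Rk k A)
    (S' := (CotT.canon k (A ⧸ I)).toExtension.Ring) (B := A ⧸ I)
    (hf' (CotT.rel (CotT.canon k A)) (kerFam A (A ⧸ I)) gt (CotT.algebraMap_rel (CotT.canon k A))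
      (kerFam_hf A (A ⧸ I)) hgt)
    (CotT.algebraMap_rel (CotT.canon k (A ⧸ I)))
    (hBA k A I) (hBA_compat k A I) (hAB k A I) (hAB_compat k A I)
    (f'_span (CotT.algebraMap_rel (CotT.canon k A)) hgt hπ (jm_span (CotT.canon k A))
      (fun y hy => kerFam_span A (A ⧸ I) y hy))
    (jm_span (CotT.canon k (A ⧸ I))) M
  exact ((bridge (CotT.canon k (A ⧸ I)) M).trans e₃.symm).toEquiv.subsingleton

end final

end Groth.Agent.R2.H56.CIT1
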