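import Groth.Agent.R2.H56CIT1

/-!
# PROJ:ci-t2, PKG-T2: `T¹(A/k,M) = 0` and `T²(B/k,M) = 0` imply `T²(B/A,M) = 0`
-/

set_option autoImplicit false
set_option linter.unusedSectionVars false
set_option linter.style.haveILetI false
set_option linter.unusedSimpArgs false
universe u v w t t' m

open TensorProduct

namespace Groth.Agent.R2.H56.CIT2

open Groth.Agent.Lib.Helper19.Kos Groth.Agent.R2.H56.CIT1

section abs

variable {R : Type u} {A : Type v} {B : Type w} [CommRing R] [CommRing A] [CommRing B]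
  [Algebra R A] [Algebra A B] [Algebra R B] [IsScalarTower R A B]
  {σ : Type t} {τ : Type t'} {f : σ → R} {g : τ → A} {gt : τ → R}
  (hf : ∀ s, algebraMap R A (f s) = 0) (hg : ∀ s, algebraMap A B (g s) = 0)
  (hgt : ∀ s, algebraMap R A (gt s) = g s)
  (hπ : Function.Surjective (algebraMap R A))
  (hspan : ∀ z : R, algebraMap R A z = 0 → ∃ x, jm R f x = z)

variable {M : Type m} [AddCommGroup M] [Module B M] [Module A M] [IsScalarTower A B M]
  [Module R M] [IsScalarTower R A M] [IsScalarTower R B M]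

include hf hg hgt in
/-- a Leibniz map applied to a linear combination of the `f' i` -/
lemma leibniz_jm (D : R →+ M) (hD : ∀ r r', D (r * r') = r • D r' + r' • D r)
    (x : σ ⊕ τ →₀ R) :
    D (jm R (f' f gt) x) = Finsupp.linearCombination R (fun i => D (f' f gt i)) x := by
  have hf'' := hf' f g gt hf hg hgt (B := B)
  induction x using Finsupp.induction_linear with
  | zero => simp
  | add x y hx hy => rw [map_add, map_add, map_add, hx, hy]
  | single i r =>
    rw [jm_single, hD, Finsupp.linearCombination_single]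
    have h0 : f' f gt i • D r = 0 := by
      rw [← algebraMap_smul B (f' f gt i) (D r), hf'', zero_smul]
    rw [h0, add_zero]

include hf hg hgt hπ hspan in
/-- **PKG-T2, abstract form.** -/
theorem subsingleton_T2_of_subsingleton
    (hder : ∀ Gσ : (σ →₀ R) →ₗ[R] M, (∀ q : Q R f, Gσ (q : σ →₀ R) = 0) →
      ∃ D : R →+ M, (∀ r r', D (r * r') = r • D r' + r' • D r) ∧
        ∀ s, D (f s) = Gσ (Finsupp.single s 1))
    (h2 : Subsingleton (T2 R B (f' f gt) (hf' f g gt hf hg hgt) M)) :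
    Subsingleton (T2 A B g hg M) := by
  have hf'' := hf' f g gt hf hg hgt (B := B)
  have hτ₂ : ∀ x, algebraMap A B (algebraMap R A x) = algebraMap R B x := fun x =>
    (IsScalarTower.algebraMap_apply R A B x).symm
  refine subsingleton_T2_of_forall hg fun ψ => ?_
  let p : Q R (f' f gt) →ₛₗ[algebraMap R A] Q A g :=
    τQ (algebraMap R A) (v₂ (σ := σ) (τ := τ)) (hv₂ hf hgt)
  -- pull back to `Q(f')`
  let φ : Q R (f' f gt) →ₗ[R] M := compτQ hτ₂ (hv₂ hf hgt) (at2 ψ)
  have hφ0 : ∀ x : Q R (f' f gt), (x : σ ⊕ τ →₀ R) ∈ F0 R (f' f gt) → φ x = 0 := fun x hx =>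
    at2_of_mem_F0 hg ψ _ (τF_mem_F0 (hv₂ hf hgt) hx)
  obtain ⟨G', hG'⟩ := exists_extend_of_subsingleton hf'' h2 φ hφ0
  -- the `σ`-part is a cocycle for `A/k`
  let Gσ : (σ →₀ R) →ₗ[R] M := G' ∘ₗ inlF
  have hGσ : ∀ q : Q R f, Gσ (q : σ →₀ R) = 0 := by
    intro q
    have hq : inlF (τ := τ) (q : σ →₀ R) ∈ Q R (f' f gt) := by
      rw [mem_Q, jm_inlF]
      exact (mem_Q R f _).mp q.2
    show G' (inlF (q : σ →₀ R)) = 0
    rw [hG' ⟨_, hq⟩]
    show at2 ψ (τQ (algebraMap R A) (v₂ (σ := σ) (τ := τ)) (hv₂ hf hgt) ⟨_, hq⟩) = 0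
    have h0 : τQ (algebraMap R A) (v₂ (σ := σ) (τ := τ)) (hv₂ hf hgt) ⟨_, hq⟩ = 0 :=
      Subtype.ext (τF_v₂_inlF _)
    rw [h0, map_zero]
  obtain ⟨D, hD, hDf⟩ := hder Gσ hGσ
  -- `H = G' - N`
  let N : (σ ⊕ τ →₀ R) →ₗ[R] M := Finsupp.linearCombination R (fun i => D (f' f gt i))
  have hN : ∀ x : Q R (f' f gt), N (x : σ ⊕ τ →₀ R) = 0 := by
    intro x
    show Finsupp.linearCombination R (fun i => D (f' f gt i)) (x : σ ⊕ τ →₀ R) = 0
    rw [← leibniz_jm hf hg hgt D hD, (mem_Q R _ _).mp x.2, map_zero]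
  have hH1 : ∀ a : σ →₀ R, G' (inlF a) - N (inlF a) = 0 := by
    intro a
    induction a using Finsupp.induction_linear with
    | zero => simp
    | add x y hx hy =>
      rw [map_add, map_add, map_add]
      have : G' (inlF x) + G' (inlF y) - (N (inlF x) + N (inlF y)) =
          (G' (inlF x) - N (inlF x)) + (G' (inlF y) - N (inlF y)) := by abel
      rw [this, hx, hy, add_zero]
    | single s r =>
      rw [inlF_single]
      show G' (Finsupp.single (Sum.inl s) r) -
        Finsupp.linearCombination R (fun i => D (f' f gt i)) (Finsupp.single (Sum.inl s) r) = 0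
      rw [Finsupp.linearCombination_single]
      have h1 : G' (Finsupp.single (Sum.inl s) r) = r • Gσ (Finsupp.single s 1) := by
        show _ = r • G' (inlF (Finsupp.single s 1))
        rw [inlF_single, ← map_smul, Finsupp.smul_single, smul_eq_mul, mul_one]
      rw [h1, ← hDf s]
      exact sub_self _
  -- the extension over `A`
  let GA : (τ →₀ A) →ₗ[A] M :=
    Finsupp.linearCombination A (fun s => G' (Finsupp.single (Sum.inr s) 1) - D (gt s))
  have hGA : ∀ b : τ →₀ R, GA (Finsupp.mapRange (algebraMap R A) (map_zero _) b) =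
      G' (inrF b) - N (inrF b) := by
    intro b
    induction b using Finsupp.induction_linear with
    | zero => simp
    | add x y hx hy =>
      rw [Finsupp.mapRange_add (map_add _), map_add, hx, hy, map_add, map_add, map_add]
      abel
    | single s r =>
      rw [Finsupp.mapRange_single, inrF_single]
      show Finsupp.linearCombination A (fun s => G' (Finsupp.single (Sum.inr s) 1) - D (gt s))
          (Finsupp.single s (algebraMap R A r)) =
        G' (Finsupp.single (Sum.inr s) r) -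
          Finsupp.linearCombination R (fun i => D (f' f gt i)) (Finsupp.single (Sum.inr s) r)
      rw [Finsupp.linearCombination_single, Finsupp.linearCombination_single, algebraMap_smul,
        smul_sub]
      congr 1
      rw [← map_smul, Finsupp.smul_single, smul_eq_mul, mul_one]
  refine ⟨GA, fun y => ?_⟩
  obtain ⟨x, rfl⟩ := τQ_v₂_surjective hf hgt hπ hspan y
  have hdec := eq_inlF_add_inrF (x : σ ⊕ τ →₀ R)
  have h1 : (τQ (algebraMap R A) (v₂ (σ := σ) (τ := τ)) (hv₂ hf hgt) x : τ →₀ A) =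
      Finsupp.mapRange (algebraMap R A) (map_zero _) (outrF (x : σ ⊕ τ →₀ R)) := by
    rw [τQ_coe]
    nth_rewrite 1 [hdec]
    rw [map_add, τF_v₂_inlF, zero_add, τF_v₂_inrF]
  rw [h1, hGA]
  have h2 : at2 ψ (τQ (algebraMap R A) (v₂ (σ := σ) (τ := τ)) (hv₂ hf hgt) x) = φ x := rfl
  rw [h2, ← hG' x]
  have h3 : G' (x : σ ⊕ τ →₀ R) - N (x : σ ⊕ τ →₀ R) =
      (G' (inlF (outlF (x : σ ⊕ τ →₀ R))) - N (inlF (outlF (x : σ ⊕ τ →₀ R)))) +
      (G' (inrF (outrF (x : σ ⊕ τ →₀ R))) - N (inrF (outrF (x : σ ⊕ τ →₀ R)))) := by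
    have hG'dec : G' (x : σ ⊕ τ →₀ R) = G' (inlF (outlF (x : σ ⊕ τ →₀ R))) +
        G' (inrF (outrF (x : σ ⊕ τ →₀ R))) := by rw [← map_add, ← hdec]
    have hNdec : N (x : σ ⊕ τ →₀ R) = N (inlF (outlF (x : σ ⊕ τ →₀ R))) +
        N (inrF (outrF (x : σ ⊕ τ →₀ R))) := by rw [← map_add, ← hdec]
    rw [hG'dec, hNdec]
    abel
  rw [hH1, zero_add, hN x, sub_zero] at h3
  exact h3.symm

end abs

end Groth.Agent.R2.H56.CIT2
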