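import Groth.Agent.R2.H56CIT2
import Groth.Agent.R2.H56CIT1Main

/-!
# PROJ:ci-t2, PKG-T2: transfer to the canonical presentations
-/

set_option autoImplicit false
set_option linter.unusedSectionVars false
set_option linter.style.haveILetI false
universe u

open TensorProduct

namespace Groth.Agent.R2.H56.CIT2

open Groth.Agent.Lib.Helper19.Kos Groth.Agent.Lib.Helper19.CotTVanish Groth.Agent.R2.H56.CISpec
  Groth.Agent.R2.H56.CIT1

section der

variable {k A : Type u} [CommRing k] [CommRing A] [Algebra k A] {ι σ : Type*}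
  (P : Algebra.Presentation k A ι σ)
  {M : Type u} [AddCommGroup M] [Module A M] [Module P.toExtension.Ring M]
  [IsScalarTower P.toExtension.Ring A M]

set_option backward.isDefEq.respectTransparency false in
/-- `T¹(A/k, M) = 0`: every functional on the free module of the relations that kills the relation
module comes from a derivation of the polynomial ring -/
theorem exists_leibniz_of_subsingleton_T1 (hT1 : Subsingleton (CotT.T1 P M))
    (Gσ : (σ →₀ P.toExtension.Ring) →ₗ[P.toExtension.Ring] M)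
    (hGσ : ∀ q : Q P.toExtension.Ring (CotT.rel P), Gσ (q : σ →₀ P.toExtension.Ring) = 0) :
    ∃ D : P.toExtension.Ring →+ M, (∀ r r', D (r * r') = r • D r' + r' • D r) ∧
      ∀ s, D (CotT.rel P s) = Gσ (Finsupp.single s 1) := by
  let χ : CotT.L1 P →ₗ[A] M := lift1 (B := A) Gσ
  have hχ : χ ∈ CotT.cocycles1 P M := by
    rw [LinearMap.mem_ker, CotT.d2Star_apply]
    apply L2_ext (S := P.toExtension.Ring) (B := A) (f := CotT.rel P)
    intro q
    have h1 := at2_comp_d2 (CotT.algebraMap_rel P) χ q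
    have h2 : at1 χ (q : σ →₀ P.toExtension.Ring) = 0 := by
      rw [at1_lift1, hGσ]
    rw [h2] at h1
    exact h1
  have h3 : (Submodule.Quotient.mk ⟨χ, hχ⟩ : CotT.T1 P M) = 0 := Subsingleton.elim _ _
  rw [Submodule.Quotient.mk_eq_zero] at h3
  obtain ⟨ψ₀, hψ₀⟩ := h3
  have hψ₀' : ψ₀ ∘ₗ CotT.d1 P = χ := hψ₀
  refine ⟨{ toFun := fun r => ψ₀ ((1 : A) ⊗ₜ KaehlerDifferential.D k P.toExtension.Ring r),
            map_zero' := by rw [map_zero, TensorProduct.tmul_zero, map_zero],
            map_add' := fun r r' => by rw [map_add, TensorProduct.tmul_add, map_add] }, ?_, ?_⟩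
  · intro r r'
    show ψ₀ ((1 : A) ⊗ₜ KaehlerDifferential.D k P.toExtension.Ring (r * r')) =
      r • ψ₀ ((1 : A) ⊗ₜ KaehlerDifferential.D k P.toExtension.Ring r') +
        r' • ψ₀ ((1 : A) ⊗ₜ KaehlerDifferential.D k P.toExtension.Ring r)
    have key : ∀ (c : P.toExtension.Ring) (ω : Ω[P.toExtension.Ring⁄k]),
        ψ₀ ((1 : A) ⊗ₜ[P.toExtension.Ring] (c • ω)) = c • ψ₀ ((1 : A) ⊗ₜ ω) := by
      intro c ω
      rw [← TensorProduct.smul_tmul, Algebra.smul_def, mul_one,
        ← mul_one (algebraMap P.toExtension.Ring A c), ← smul_eq_mul, ← TensorProduct.smul_tmul',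
        map_smul, algebraMap_smul]
    rw [Derivation.leibniz, TensorProduct.tmul_add, map_add, key, key]
  · intro s
    show ψ₀ ((1 : A) ⊗ₜ KaehlerDifferential.D k P.toExtension.Ring (CotT.rel P s)) = _
    have h4 := LinearMap.congr_fun hψ₀' ((1 : A) ⊗ₜ Finsupp.single s 1)
    rw [LinearMap.comp_apply, CotT.d1_tmul, one_smul] at h4
    have h5 : CotT.jmap P (Finsupp.single s 1) = CotT.rel P s := by
      show jm P.toExtension.Ring (CotT.rel P) (Finsupp.single s 1) = _
      rw [jm_single, one_mul]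
    rw [h5] at h4
    rw [h4]
    exact at1_lift1 Gσ _

end der

section final

variable (k A : Type u) [CommRing k] [CommRing A] [Algebra k A] (I : Ideal A)

/-- **PKG-T2.** -/
theorem pkgT2 : PkgT2.{u} := by
  intro k A _ _ _ I M _ _ _ _ hT1 h2
  letI : Module (Rk k A) M := Module.compHom M (algebraMap (Rk k A) A)
  haveI : IsScalarTower (Rk k A) A M := IsScalarTower.of_compHom (Rk k A) A M
  haveI : IsScalarTower (Rk k A) (A ⧸ I) M := IsScalarTower.of_algebraMap_smul fun r m => by
    rw [IsScalarTower.algebraMap_apply (Rk k A) A (A ⧸ I)]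
    exact algebraMap_smul (A ⧸ I) (algebraMap (Rk k A) A r) m
  have hπ : Function.Surjective (algebraMap (Rk k A) A) :=
    (CotT.canon k A).algebraMap_surjective
  have hsurj : Function.Surjective (algebraMap A (A ⧸ I)) := Ideal.Quotient.mk_surjective
  -- lifts
  let gt : RingHom.ker (algebraMap A (A ⧸ I)) → Rk k A :=
    fun s => Function.surjInv hπ (kerFam A (A ⧸ I) s)
  have hgt : ∀ s, algebraMap (Rk k A) A (gt s) = kerFam A (A ⧸ I) s :=
    fun s => Function.surjInv_eq hπ _
  -- transfer from the canonical presentation of `B` over `k`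
  haveI : Algebra.FormallySmooth k (Rk k A) :=
    inferInstanceAs (Algebra.FormallySmooth k (MvPolynomial A k))
  haveI : Algebra.FormallySmooth k (CotT.canon k (A ⧸ I)).toExtension.Ring :=
    inferInstanceAs (Algebra.FormallySmooth k (MvPolynomial (A ⧸ I) k))
  obtain ⟨e₃⟩ := nonempty_T2_equiv_of_formallySmooth (A := k) (S := Rk k A)
    (S' := (CotT.canon k (A ⧸ I)).toExtension.Ring) (B := A ⧸ I)
    (hf' (CotT.rel (CotT.canon k A)) (kerFam A (A ⧸ I)) gt (CotT.algebraMap_rel (CotT.canon k A))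
      (kerFam_hf A (A ⧸ I)) hgt)
    (CotT.algebraMap_rel (CotT.canon k (A ⧸ I)))
    (hBA k A I) (hBA_compat k A I) (hAB k A I) (hAB_compat k A I)
    (f'_span (CotT.algebraMap_rel (CotT.canon k A)) hgt hπ (jm_span (CotT.canon k A))
      (fun y hy => kerFam_span A (A ⧸ I) y hy))
    (jm_span (CotT.canon k (A ⧸ I))) M
  have h2' : Subsingleton (T2 (Rk k A) (A ⧸ I) (f' (CotT.rel (CotT.canon k A)) gt)
      (hf' (CotT.rel (CotT.canon k A)) (kerFam A (A ⧸ I)) gt
        (CotT.algebraMap_rel (CotT.canon k A)) (kerFam_hf A (A ⧸ I)) hgt) M) :=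
    (e₃.trans (bridge (CotT.canon k (A ⧸ I)) M).symm).toEquiv.subsingleton
  have h3 := subsingleton_T2_of_subsingleton (M := M) (CotT.algebraMap_rel (CotT.canon k A))
    (kerFam_hf A (A ⧸ I)) hgt hπ (jm_span (CotT.canon k A))
    (fun Gσ hGσ => exists_leibniz_of_subsingleton_T1 (CotT.canon k A) hT1 Gσ hGσ) h2'
  obtain ⟨e₂⟩ := nonempty_T2_equiv_kerFam (CotT.canon A (A ⧸ I)) M hsurj
  exact e₂.toEquiv.subsingleton

end final

end Groth.Agent.R2.H56.CIT2
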