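import Groth.Agent.R2.H56AffDef2

/-!
# Base change of the deformation attached to an algebraic deformation (helper56)

ns `Groth.Agent.R2.H56.AffDef`: `baseChangeIsoOfHom`: for `g : A ⟶ A'`, algebraic deformations `D` over `A`, `D'` over `A'` of
`B₀` and a ring map `ψ : D.R → D'.R` over `g` compatible with the reductions, the base change of `D.toDefSch` along `g`
is isomorphic to `D'.toDefSch`.
-/

set_option autoImplicit false

universe u

open CategoryTheory CategoryTheory.Limits AlgebraicGeometry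

namespace Groth.Agent.R2.H56.AffDef

open ArtFun ArtFun.Art

variable {Λ k : Type u} [CommRing Λ] [Field k] [Algebra Λ k] {B₀ : Type u} [CommRing B₀] [Algebra k B₀]
variable {A A' : Art Λ k} (g : A ⟶ A') (D : AlgDef B₀ A) (D' : AlgDef B₀ A') (ψ : D.R →+* D'.R)
  (hφ : ∀ a, ψ (D.φ a) = D'.φ (g a)) (hπ : ∀ r, D'.π (ψ r) = D.π r)

/-- The comparison morphism `Spec D'.R ⟶ Spec D.R ×_{Spec A} Spec A'`. -/
noncomputable def bcMor : Spec (CommRingCat.of D'.R) ⟶ (D.toDefSch.baseChange g).total :=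
  pullback.lift (f := D.toDefSch.f) (g := specMap g) (Spec.map (CommRingCat.ofHom ψ))
    (Spec.map (CommRingCat.ofHom D'.φ)) (by
      change Spec.map (CommRingCat.ofHom ψ) ≫ Spec.map (CommRingCat.ofHom D.φ) =
        Spec.map (CommRingCat.ofHom D'.φ) ≫ Spec.map (CommRingCat.ofHom g.toAlgHom.toRingHom)
      rw [← Spec.map_comp, ← Spec.map_comp, ← CommRingCat.ofHom_comp, ← CommRingCat.ofHom_comp]
      congr 2
      ext a
      exact hφ a)

theorem bcMor_f : bcMor g D D' ψ hφ ≫ (D.toDefSch.baseChange g).f = Spec.map (CommRingCat.ofHom D'.φ) :=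
  pullback.lift_snd _ _ _

include hπ in
theorem i_bcMor :
    Spec.map (CommRingCat.ofHom D'.π) ≫ bcMor g D D' ψ hφ = (D.toDefSch.baseChange g).i := by
  apply pullback.hom_ext
  · rw [Category.assoc]
    refine (congrArg (fun t => Spec.map (CommRingCat.ofHom D'.π) ≫ t)
      (pullback.lift_fst _ _ _)).trans ?_
    refine Eq.trans ?_ (DefSch.baseChange_i_fst D.toDefSch g).symm
    change Spec.map (CommRingCat.ofHom D'.π) ≫ Spec.map (CommRingCat.ofHom ψ) =
      Spec.map (CommRingCat.ofHom D.π)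
    rw [← Spec.map_comp, ← CommRingCat.ofHom_comp]
    congr 2
    ext r
    exact hπ r
  · rw [Category.assoc]
    refine (congrArg (fun t => Spec.map (CommRingCat.ofHom D'.π) ≫ t)
      (pullback.lift_snd _ _ _)).trans ?_
    refine Eq.trans ?_ (DefSch.baseChange_i_f D.toDefSch g).symm
    exact D'.toDefSch.i_f

/-- The ring map `Γ(base change) → D'.R`. -/
noncomputable def bcRing : Γ((D.toDefSch.baseChange g).total, ⊤) ⟶ CommRingCat.of D'.R :=
  (bcMor g D D' ψ hφ).appTop ≫ (Scheme.ΓSpecIso (CommRingCat.of D'.R)).hom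

theorem φOf_bcRing :
    φOf (D.toDefSch.baseChange g) ≫ bcRing g D D' ψ hφ = CommRingCat.ofHom D'.φ := by
  have h1 : (D.toDefSch.baseChange g).f.appTop ≫ (bcMor g D D' ψ hφ).appTop =
      (Spec.map (CommRingCat.ofHom D'.φ)).appTop := by
    rw [← Scheme.Hom.comp_appTop, bcMor_f]
  rw [φOf, bcRing, Category.assoc, ← Category.assoc _ (bcMor g D D' ψ hφ).appTop, h1,
    Scheme.ΓSpecIso_naturality, Iso.inv_hom_id_assoc]

include hπ in
theorem bcRing_π :
    bcRing g D D' ψ hφ ≫ CommRingCat.ofHom D'.π = πOf (D.toDefSch.baseChange g) := by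
  have h1 : (bcMor g D D' ψ hφ).appTop ≫ (Spec.map (CommRingCat.ofHom D'.π)).appTop =
      (D.toDefSch.baseChange g).i.appTop := by
    rw [← Scheme.Hom.comp_appTop, i_bcMor g D D' ψ hφ hπ]
  rw [πOf, bcRing, Category.assoc, ← Scheme.ΓSpecIso_naturality, ← Category.assoc, h1]

/-- The base change of `D.toDefSch` along `g` is `D'.toDefSch`. -/
noncomputable def baseChangeIsoOfHom : DefSch.Iso (D.toDefSch.baseChange g) D'.toDefSch :=
  (isoToDefSchOfDefSch (D.toDefSch.baseChange g)).trans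
    (AlgDef.Iso.toDefSch
      (AlgDef.isoOfHom (ofDefSch (D.toDefSch.baseChange g)) D' (bcRing g D D' ψ hφ).hom
        (fun a => congrArg (fun f => f.hom a) (φOf_bcRing g D D' ψ hφ))
        (fun r => congrArg (fun f => f.hom r) (bcRing_π g D D' ψ hφ hπ))))

include ψ hφ hπ in
/-- Functor-level form. -/
theorem defFunctor_map_toDefSch :
    (defFunctor (Λ := Λ) (Spec (CommRingCat.of B₀)) (xB B₀)).map g D.toDefSch.cl = D'.toDefSch.cl :=
  Quotient.sound ⟨baseChangeIsoOfHom g D D' ψ hφ hπ⟩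

end Groth.Agent.R2.H56.AffDef
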