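import Groth.Prelude.Def_Exal
import Groth.Agent.R2.H56AffDef

/-!
# First-order deformations of an affine scheme and algebra extensions (helper56)

For a field `k` and a `k`-algebra `B`: algebraic deformations of `B` over the dual numbers `k[ε]`
(`AffDef.AlgDef B (Art.dual k k)`) up to isomorphism are the same as `k`-algebra extensions of `B` by `B`
up to equivalence (`Exal.Exalcom k B B`).

Main declaration: `defDualEquiv : (defFunctor (Spec B) x).obj (Art.dual k k) ≃ Exal.Exalcom k B B`.
-/

set_option autoImplicit false

universe u

open CategoryTheory CategoryTheory.Limits AlgebraicGeometry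

namespace Groth.Agent.R2.H56.DefDual

open ArtFun ArtFun.Art Groth.Agent.R2.H56.AffDefAlg Groth.Agent.R2.H56.AffDef

variable {k : Type u} [Field k]

section Raw

open DualNumber

theorem dual_decomp (a : DualNumber k) :
    a = TrivSqZeroExt.inl (TrivSqZeroExt.fst a) + TrivSqZeroExt.inl (TrivSqZeroExt.snd a) * (ε : DualNumber k) := by
  apply TrivSqZeroExt.ext
  · simp
  · simp

theorem dual_ringHom_ext {S : Type*} [Semiring S] (f g : DualNumber k →+* S)
    (h1 : ∀ c : k, f (TrivSqZeroExt.inl c) = g (TrivSqZeroExt.inl c)) (h2 : f ε = g ε) : f = g := by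
  ext a
  rw [dual_decomp a, map_add, map_add, map_mul, map_mul, h1, h1, h2]

theorem ker_fst_dual :
    RingHom.ker (TrivSqZeroExt.fstHom k k k : DualNumber k →ₐ[k] k).toRingHom = Ideal.span {(ε : DualNumber k)} := by
  ext a
  rw [RingHom.mem_ker, Ideal.mem_span_singleton']
  change TrivSqZeroExt.fst a = 0 ↔ _
  constructor
  · intro h
    exact ⟨TrivSqZeroExt.inl (TrivSqZeroExt.snd a), (dual_eq_inl_mul_eps a h).symm⟩
  · rintro ⟨c, rfl⟩
    simp

end Raw

section DualObj

/-! The interface to the object `Art.dual k k` (whose carrier is `DualNumber k` only up to unfolding). -/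

variable (k) in
/-- `ε` as an element of the object `Art.dual k k`. -/
def epsD : (Art.dual k k : Art k k) := (DualNumber.eps : DualNumber k)

theorem epsD_mul_epsD : (epsD k) * (epsD k) = 0 :=
  (DualNumber.eps_mul_eps : (DualNumber.eps * DualNumber.eps : DualNumber k) = 0)

theorem ker_res_dual : RingHom.ker (Art.dual k k).res.toRingHom = Ideal.span {epsD k} :=
  ker_fst_dual (k := k)

theorem res_epsD : (Art.dual k k).res (epsD k) = 0 := by
  have : epsD k ∈ RingHom.ker (Art.dual k k).res.toRingHom := by
    rw [ker_res_dual]; exact Ideal.subset_span rfl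
  exact this

theorem res_algebraMap_dual (c : k) : (Art.dual k k).res (algebraMap k (Art.dual k k) c) = c :=
  (Art.dual k k).res.commutes c

theorem dualD_ringHom_ext {S : Type*} [Semiring S] (f g : (Art.dual k k : Art k k) →+* S)
    (h1 : ∀ c : k, f (algebraMap k (Art.dual k k) c) = g (algebraMap k (Art.dual k k) c))
    (h2 : f (epsD k) = g (epsD k)) : f = g :=
  dual_ringHom_ext (k := k) f g h1 h2

theorem exists_eq_epsD_smul_of_flat {M : Type*} [AddCommGroup M] [inst : Module (Art.dual k k : Art k k) M]
    [hf : Module.Flat (Art.dual k k : Art k k) M] (m : M) (h : epsD k • m = 0) :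
    ∃ m' : M, m = epsD k • m' :=
  @exists_eq_eps_smul_of_flat k _ M _ inst hf m h

theorem flat_of_forall_epsD {M : Type*} [AddCommGroup M] [inst : Module (Art.dual k k : Art k k) M]
    (h : ∀ m : M, epsD k • m = 0 → ∃ m' : M, m = epsD k • m') :
    Module.Flat (Art.dual k k : Art k k) M :=
  @flat_of_forall_eps k _ M _ inst h

/-- The ring map out of the dual numbers given by a square-zero element of a `k`-algebra. -/
noncomputable def liftD {E : Type*} [CommRing E] [Algebra k E] (e : E) (he : e * e = 0) :
    (Art.dual k k : Art k k) →+* E :=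
  ((DualNumber.lift ⟨(Algebra.ofId k E, e), he, fun _ => Commute.all _ _⟩ : DualNumber k →ₐ[k] E) :
    DualNumber k →+* E)

theorem liftD_epsD {E : Type*} [CommRing E] [Algebra k E] (e : E) (he : e * e = 0) :
    liftD e he (epsD k) = e :=
  DualNumber.lift_apply_eps _

theorem liftD_algebraMap {E : Type*} [CommRing E] [Algebra k E] (e : E) (he : e * e = 0) (c : k) :
    liftD e he (algebraMap k (Art.dual k k) c) = algebraMap k E c :=
  (DualNumber.lift ⟨(Algebra.ofId k E, e), he, fun _ => Commute.all _ _⟩ : DualNumber k →ₐ[k] E).commutes c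

end DualObj

variable {B : Type u} [CommRing B] [Algebra k B]

section ToExt

variable (D : AlgDef B (Art.dual k k))

/-- the image of `ε` -/
noncomputable def eps' : D.R := D.φ (epsD k)

theorem eps'_mul_eps' : eps' D * eps' D = 0 := by
  rw [eps', ← map_mul, epsD_mul_epsD, map_zero]

theorem π_φ (a : (Art.dual k k : Art k k)) : D.π (D.φ a) = algebraMap k B ((Art.dual k k).res a) :=
  congrArg (fun f => f a) D.comm

theorem π_eps' : D.π (eps' D) = 0 := by
  rw [eps', π_φ, res_epsD, map_zero]

theorem ker_π_eq : RingHom.ker D.π = Ideal.span {eps' D} := by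
  rw [D.ker_eq, ker_res_dual, Ideal.map_span, Set.image_singleton]
  rfl

theorem eps'_mul_eq {r r' : D.R} (h : D.π r = D.π r') : eps' D * r = eps' D * r' := by
  have hmem : r - r' ∈ RingHom.ker D.π := by rw [RingHom.mem_ker, map_sub, h, sub_self]
  rw [ker_π_eq, Ideal.mem_span_singleton'] at hmem
  obtain ⟨c, hc⟩ := hmem
  rw [← sub_eq_zero, ← mul_sub, ← hc, mul_comm c, ← mul_assoc, eps'_mul_eps', zero_mul]

theorem exists_of_eps'_mul_eq_zero (r : D.R) (h : eps' D * r = 0) : ∃ r', r = eps' D * r' := by
  let _ : Algebra (Art.dual k k : Art k k) D.R := D.φ.toAlgebra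
  have hflat : Module.Flat (Art.dual k k : Art k k) D.R := D.flat
  have h' : epsD k • r = 0 := h
  exact exists_eq_epsD_smul_of_flat (M := D.R) r h'

/-- The `k`-algebra structure on the ring of an algebraic deformation over the dual numbers. -/
@[reducible] noncomputable def algK : Algebra k D.R := (D.φ.comp (algebraMap k (Art.dual k k))).toAlgebra

/-- The inclusion of the kernel. -/
noncomputable def incl : B →+ D.R where
  toFun b := eps' D * Function.surjInv D.surj b
  map_zero' := by
    rw [eps'_mul_eq D (r' := 0) (by rw [Function.surjInv_eq D.surj, map_zero]), mul_zero]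
  map_add' b b' := by
    rw [← mul_add]
    apply eps'_mul_eq
    rw [map_add, Function.surjInv_eq D.surj, Function.surjInv_eq D.surj, Function.surjInv_eq D.surj]

theorem incl_π (r : D.R) : incl D (D.π r) = eps' D * r :=
  eps'_mul_eq D (Function.surjInv_eq D.surj _)

/-- The extension of `B` by `B` attached to an algebraic deformation over the dual numbers. -/
noncomputable def toExt : Exal.Ext k B B :=
  letI := algK D
  { E := D.R
    proj :=
      { D.π with
        commutes' := fun c => by
          change D.π (D.φ (algebraMap k (Art.dual k k) c)) = algebraMap k B c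
          rw [π_φ, res_algebraMap_dual] }
    incl := incl D
    isExtension :=
      { proj_surjective := D.surj
        incl_injective := by
          rw [injective_iff_map_eq_zero]
          intro b hb
          obtain ⟨r, rfl⟩ := D.surj b
          rw [incl_π] at hb
          obtain ⟨r', rfl⟩ := exists_of_eps'_mul_eq_zero D r hb
          rw [map_mul, π_eps', zero_mul]
        exact := by
          intro x
          change D.π x = 0 ↔ _
          constructor
          · intro hx
            have hmem : x ∈ RingHom.ker D.π := hx
            rw [ker_π_eq, Ideal.mem_span_singleton'] at hmem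
            obtain ⟨c, rfl⟩ := hmem
            exact ⟨D.π c, by rw [incl_π, mul_comm]⟩
          · rintro ⟨b, rfl⟩
            obtain ⟨r, rfl⟩ := D.surj b
            rw [incl_π, map_mul, π_eps', zero_mul]
        mul_incl := by
          intro x z
          obtain ⟨r, rfl⟩ := D.surj z
          change x * incl D (D.π r) = incl D (D.π x • D.π r)
          rw [smul_eq_mul, ← map_mul, incl_π, incl_π]
          ring } }

end ToExt

section OfExt

variable (X : Exal.Ext k B B)

theorem proj_incl (z : B) : X.proj (X.incl z) = 0 := (X.isExtension.exact _).2 ⟨z, rfl⟩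

theorem mul_incl_one (r : X.E) : r * X.incl 1 = X.incl (X.proj r) := by
  rw [X.isExtension.mul_incl, smul_eq_mul, mul_one]

theorem incl_one_sq : X.incl 1 * X.incl 1 = 0 := by
  rw [mul_incl_one, proj_incl, map_zero]

/-- The structure map `k[ε] → E`, `ε ↦ incl 1`. -/
noncomputable def φX : (Art.dual k k : Art k k) →+* X.E := liftD (X.incl 1) (incl_one_sq X)

theorem φX_epsD : φX X (epsD k) = X.incl 1 := liftD_epsD _ _

theorem φX_algebraMap (c : k) : φX X (algebraMap k (Art.dual k k) c) = algebraMap k X.E c :=
  liftD_algebraMap _ _ c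

/-- The algebraic deformation over the dual numbers attached to an extension of `B` by `B`. -/
noncomputable def ofExt : AlgDef B (Art.dual k k) where
  R := X.E
  φ := φX X
  flat := by
    let _ : Algebra (Art.dual k k : Art k k) X.E := (φX X).toAlgebra
    change Module.Flat (Art.dual k k : Art k k) X.E
    apply flat_of_forall_epsD
    intro m hm
    have h1 : X.incl 1 * m = 0 := by
      rw [← φX_epsD]; exact hm
    rw [mul_comm, mul_incl_one] at h1
    have h2 : X.proj m = 0 := X.isExtension.incl_injective (by rw [h1, map_zero])
    obtain ⟨z, rfl⟩ := (X.isExtension.exact m).1 h2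
    obtain ⟨r, rfl⟩ := X.isExtension.proj_surjective z
    refine ⟨r, ?_⟩
    change _ = φX X (epsD k) * r
    rw [φX_epsD, mul_comm, mul_incl_one]
  π := (X.proj : X.E →+* B)
  comm := by
    apply dualD_ringHom_ext
    · intro c
      rw [RingHom.comp_apply, RingHom.comp_apply, φX_algebraMap]
      change X.proj (algebraMap k X.E c) = algebraMap k B ((Art.dual k k).res (algebraMap k (Art.dual k k) c))
      rw [AlgHom.commutes, res_algebraMap_dual]
    · rw [RingHom.comp_apply, RingHom.comp_apply, φX_epsD]
      change X.proj (X.incl 1) = algebraMap k B ((Art.dual k k).res (epsD k))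
      rw [proj_incl, res_epsD, map_zero]
  surj := X.isExtension.proj_surjective
  ker_eq := by
    rw [ker_res_dual, Ideal.map_span, Set.image_singleton, φX_epsD]
    ext x
    rw [RingHom.mem_ker, Ideal.mem_span_singleton']
    change X.proj x = 0 ↔ _
    constructor
    · intro hx
      obtain ⟨z, rfl⟩ := (X.isExtension.exact x).1 hx
      obtain ⟨r, rfl⟩ := X.isExtension.proj_surjective z
      exact ⟨r, mul_incl_one X r⟩
    · rintro ⟨c, rfl⟩
      rw [mul_incl_one, proj_incl]

end OfExt

section Isos

/-- Isomorphic algebraic deformations give equivalent extensions. -/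
noncomputable def equivOfIso {D D' : AlgDef B (Art.dual k k)} (i : AlgDef.Iso D D') :
    (toExt D).Equiv (toExt D') where
  toAlgEquiv :=
    letI := algK D
    letI := algK D'
    AlgEquiv.ofRingEquiv (f := i.e) (fun _ => i.e_φ _)
  proj_apply := fun x => i.π_e x
  apply_incl := fun z => by
    obtain ⟨r, rfl⟩ := D.surj z
    change i.e (incl D (D.π r)) = incl D' (D.π r)
    rw [incl_π, map_mul, ← i.π_e r, incl_π, eps', i.e_φ]
    rfl

/-- Equivalent extensions give isomorphic algebraic deformations. -/
noncomputable def isoOfEquiv {X Y : Exal.Ext k B B} (θ : X.Equiv Y) : AlgDef.Iso (ofExt X) (ofExt Y) where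
  e := θ.toAlgEquiv.toRingEquiv
  e_φ := by
    intro a
    have : (θ.toAlgEquiv.toRingEquiv.toRingHom).comp (φX X) = φX Y := by
      apply dualD_ringHom_ext
      · intro c
        rw [RingHom.comp_apply, φX_algebraMap, φX_algebraMap]
        exact θ.toAlgEquiv.commutes c
      · rw [RingHom.comp_apply, φX_epsD, φX_epsD]
        exact θ.apply_incl 1
    exact congrArg (fun f => f a) this
  π_e := fun r => θ.proj_apply r

/-- Round trip on algebraic deformations. -/
noncomputable def ofExtToExt (D : AlgDef B (Art.dual k k)) : AlgDef.Iso (ofExt (toExt D)) D where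
  e := RingEquiv.refl D.R
  e_φ := by
    intro a
    have : φX (toExt D) = D.φ := by
      apply dualD_ringHom_ext
      · intro c
        rw [φX_algebraMap]
        rfl
      · rw [φX_epsD]
        change incl D 1 = eps' D
        rw [← map_one D.π, incl_π, mul_one]
    exact congrArg (fun f => f a) this
  π_e := fun _ => rfl

/-- Round trip on extensions. -/
noncomputable def toExtOfExt (X : Exal.Ext k B B) : (toExt (ofExt X)).Equiv X where
  toAlgEquiv :=
    letI := algK (ofExt X)
    AlgEquiv.ofRingEquiv (f := RingEquiv.refl X.E) (fun c => φX_algebraMap X c)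
  proj_apply := fun _ => rfl
  apply_incl := fun z => by
    obtain ⟨r, rfl⟩ := X.isExtension.proj_surjective z
    have h1 : incl (ofExt X) ((ofExt X).π (r : (ofExt X).R)) = X.incl 1 * r :=
      (incl_π (ofExt X) r).trans (congrArg (fun t : X.E => t * r) (φX_epsD X))
    have h3 : r * X.incl 1 = X.incl (X.proj r) := mul_incl_one X r
    change incl (ofExt X) ((ofExt X).π (r : (ofExt X).R)) = X.incl (X.proj r)
    rw [h1, ← h3]
    exact mul_comm _ _

variable (k B) in
/-- Algebraic deformations over the dual numbers up to isomorphism are extensions up to equivalence. -/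
noncomputable def algDefDualEquiv : Quotient (AlgDef.setoid B (Art.dual k k)) ≃ Exal.Exalcom k B B where
  toFun := Quotient.map' (s₂ := Exal.Ext.setoid k B B) toExt (fun _ _ ⟨i⟩ => ⟨equivOfIso i⟩)
  invFun := Quotient.map' (s₁ := Exal.Ext.setoid k B B) ofExt (fun _ _ ⟨θ⟩ => ⟨isoOfEquiv θ⟩)
  left_inv := by
    intro q
    induction q using Quotient.inductionOn with
    | h D => exact Quotient.sound ⟨ofExtToExt D⟩
  right_inv := by
    intro q
    induction q using Quotient.inductionOn with
    | h X => exact Quotient.sound ⟨toExtOfExt X⟩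

variable (k B) in
/-- First-order deformations of `Spec B` up to isomorphism are `k`-algebra extensions of `B` by `B`. -/
noncomputable def defDualEquiv :
    (defFunctor (Λ := k) (Spec (CommRingCat.of B)) (xB B)).obj (Art.dual k k) ≃ Exal.Exalcom k B B :=
  (defEquiv B (Art.dual k k)).trans (algDefDualEquiv k B)

end Isos

end Groth.Agent.R2.H56.DefDual
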