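import Groth.Agent.R2.H56AffDef2

/-!
# The trivial algebraic deformation (helper56)

ns `Groth.Agent.R2.H56.AffDef` (over a field, `Λ = k`):
* `AlgDef.triv B₀ A`: the algebraic deformation `A ⊗[k] B₀` of `B₀` over `A`;
* `trivIso`: `(AlgDef.triv B₀ A).toDefSch` is isomorphic to `DefSch.trivial (Spec B₀) x hx A`;
* `AlgDef.isoTrivOfSection`: an algebraic deformation whose reduction map has a `k`-algebra section is trivial.
-/

set_option autoImplicit false

universe u

open CategoryTheory CategoryTheory.Limits AlgebraicGeometry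

open scoped TensorProduct

namespace Groth.Agent.R2.H56.AffDef

open ArtFun ArtFun.Art

variable {k : Type u} [Field k] (B₀ : Type u) [CommRing B₀] [Algebra k B₀] (A : Art k k)

/-- The reduction map `A ⊗ B₀ → B₀`, `a ⊗ b ↦ res(a) b`. -/
noncomputable def trivπ : A ⊗[k] B₀ →ₐ[k] B₀ :=
  Algebra.TensorProduct.productMap ((Algebra.ofId k B₀).comp A.res) (AlgHom.id k B₀)

theorem trivπ_tmul (a : A) (b : B₀) : trivπ B₀ A (a ⊗ₜ[k] b) = algebraMap k B₀ (A.res a) * b := by
  simp [trivπ, Algebra.ofId_apply]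

theorem res_algebraMap (c : k) : A.res (algebraMap k A c) = c := A.res.commutes c

theorem sub_one_tmul_trivπ_mem (x : A ⊗[k] B₀) :
    x - (1 : A) ⊗ₜ[k] (trivπ B₀ A x) ∈
      Ideal.map (algebraMap A (A ⊗[k] B₀)) (RingHom.ker A.res.toRingHom) := by
  induction x using TensorProduct.induction_on with
  | zero => simp
  | tmul a b =>
    have h1 : (1 : A) ⊗ₜ[k] (trivπ B₀ A (a ⊗ₜ[k] b)) = (algebraMap k A (A.res a)) ⊗ₜ[k] b := by
      rw [trivπ_tmul, ← Algebra.smul_def, TensorProduct.tmul_smul, TensorProduct.smul_tmul',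
        Algebra.smul_def, mul_one]
    rw [h1, ← TensorProduct.sub_tmul]
    have h2 : (a - algebraMap k A (A.res a)) ⊗ₜ[k] b =
        algebraMap A (A ⊗[k] B₀) (a - algebraMap k A (A.res a)) * ((1 : A) ⊗ₜ[k] b) := by
      rw [Algebra.TensorProduct.algebraMap_apply, Algebra.TensorProduct.tmul_mul_tmul]
      simp
    rw [h2]
    refine Ideal.mul_mem_right _ _ (Ideal.mem_map_of_mem _ ?_)
    rw [RingHom.mem_ker]
    change A.res (a - algebraMap k A (A.res a)) = 0
    rw [map_sub, res_algebraMap, sub_self]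
  | add x y hx hy =>
    have : x + y - (1 : A) ⊗ₜ[k] (trivπ B₀ A (x + y)) =
        (x - (1 : A) ⊗ₜ[k] (trivπ B₀ A x)) + (y - (1 : A) ⊗ₜ[k] (trivπ B₀ A y)) := by
      rw [map_add, TensorProduct.tmul_add]
      abel
    rw [this]
    exact Ideal.add_mem _ hx hy

namespace AlgDef

/-- The trivial algebraic deformation `A ⊗[k] B₀`. -/
noncomputable def triv : AlgDef B₀ A where
  R := A ⊗[k] B₀
  φ := algebraMap A (A ⊗[k] B₀)
  flat := by
    rw [RingHom.flat_algebraMap_iff]
    infer_instance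
  π := (trivπ B₀ A : A ⊗[k] B₀ →+* B₀)
  comm := by
    ext a
    simp only [RingHom.comp_apply]
    change trivπ B₀ A (algebraMap A (A ⊗[k] B₀) a) = algebraMap k B₀ (A.res a)
    rw [Algebra.TensorProduct.algebraMap_apply, trivπ_tmul]
    simp
  surj := fun b => ⟨(1 : A) ⊗ₜ[k] b, by
    change trivπ B₀ A ((1 : A) ⊗ₜ[k] b) = b
    rw [trivπ_tmul]; simp⟩
  ker_eq := by
    apply le_antisymm
    · intro x hx
      have h := sub_one_tmul_trivπ_mem B₀ A x
      have hx' : trivπ B₀ A x = 0 := hx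
      rwa [hx', TensorProduct.tmul_zero, sub_zero] at h
    · rw [Ideal.map_le_iff_le_comap]
      intro a ha
      rw [Ideal.mem_comap, RingHom.mem_ker]
      change trivπ B₀ A (algebraMap A (A ⊗[k] B₀) a) = 0
      rw [Algebra.TensorProduct.algebraMap_apply, trivπ_tmul]
      have : A.res a = 0 := ha
      simp [this]

end AlgDef

theorem isPullback_triv_aux :
    IsPullback (Spec.map (CommRingCat.ofHom
        (Algebra.TensorProduct.includeRight : B₀ →ₐ[k] A ⊗[k] B₀).toRingHom))
      (Spec.map (CommRingCat.ofHom (algebraMap A (A ⊗[k] B₀))))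
      (Spec.map (CommRingCat.ofHom (algebraMap k B₀))) (Spec.map (CommRingCat.ofHom (algebraMap k A))) := by
  have hpo := (CommRingCat.isPushout_tensorProduct k A B₀).flip
  exact isPullback_SpecMap_of_isPushout _ _ _ _ hpo

theorem isPullback_triv (hx : Flat (xB B₀)) :
    IsPullback (Spec.map (CommRingCat.ofHom
        (Algebra.TensorProduct.includeRight : B₀ →ₐ[k] A ⊗[k] B₀).toRingHom))
      (Spec.map (CommRingCat.ofHom (algebraMap A (A ⊗[k] B₀))))
      (DefSch.self (Spec (CommRingCat.of B₀)) (xB B₀) hx).f (specMap (ofBase A)) :=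
  isPullback_triv_aux B₀ A

/-- The deformation attached to the trivial algebraic deformation is the trivial deformation. -/
noncomputable def trivIso (hx : Flat (xB B₀)) :
    DefSch.Iso (AlgDef.triv B₀ A).toDefSch
      (DefSch.trivial (Spec (CommRingCat.of B₀)) (xB B₀) hx A) where
  iso := (isPullback_triv B₀ A hx).isoPullback
  hom_f := (isPullback_triv B₀ A hx).isoPullback_hom_snd
  i_hom := by
    have hfst : Spec.map (CommRingCat.ofHom (trivπ B₀ A : A ⊗[k] B₀ →+* B₀)) ≫
        Spec.map (CommRingCat.ofHom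
          (Algebra.TensorProduct.includeRight : B₀ →ₐ[k] A ⊗[k] B₀).toRingHom) = 𝟙 _ := by
      rw [← Spec.map_comp, ← CommRingCat.ofHom_comp]
      have h1 : (trivπ B₀ A : A ⊗[k] B₀ →+* B₀).comp
          (Algebra.TensorProduct.includeRight : B₀ →ₐ[k] A ⊗[k] B₀).toRingHom = RingHom.id B₀ := by
        ext b
        change trivπ B₀ A ((1 : A) ⊗ₜ[k] b) = b
        rw [trivπ_tmul]; simp
      rw [h1]
      exact Spec.map_id _
    have hsnd : Spec.map (CommRingCat.ofHom (trivπ B₀ A : A ⊗[k] B₀ →+* B₀)) ≫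
        Spec.map (CommRingCat.ofHom (algebraMap A (A ⊗[k] B₀))) = xB B₀ ≫ specRes A := by
      rw [← Spec.map_comp, ← CommRingCat.ofHom_comp]
      have h1 : (trivπ B₀ A : A ⊗[k] B₀ →+* B₀).comp (algebraMap A (A ⊗[k] B₀)) =
          (algebraMap k B₀).comp A.res.toRingHom := (AlgDef.triv B₀ A).comm
      rw [h1, CommRingCat.ofHom_comp, Spec.map_comp]
    apply pullback.hom_ext
    · refine (Category.assoc _ _ _).trans ?_
      refine (congrArg (fun t => Spec.map (CommRingCat.ofHom (trivπ B₀ A : A ⊗[k] B₀ →+* B₀)) ≫ t)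
        (isPullback_triv B₀ A hx).isoPullback_hom_fst).trans ?_
      refine hfst.trans ?_
      exact (DefSch.baseChange_i_fst (DefSch.self (Spec (CommRingCat.of B₀)) (xB B₀) hx) (ofBase A)).symm
    · refine (Category.assoc _ _ _).trans ?_
      refine (congrArg (fun t => Spec.map (CommRingCat.ofHom (trivπ B₀ A : A ⊗[k] B₀ →+* B₀)) ≫ t)
        (isPullback_triv B₀ A hx).isoPullback_hom_snd).trans ?_
      refine hsnd.trans ?_
      exact (DefSch.baseChange_i_f (DefSch.self (Spec (CommRingCat.of B₀)) (xB B₀) hx) (ofBase A)).symm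

variable {B₀ A}

/-- An algebraic deformation whose reduction map has a `k`-algebra section is trivial. -/
theorem AlgDef.nonempty_iso_triv_of_section (D : AlgDef B₀ A) (s : B₀ →+* D.R)
    (hs : ∀ c : k, s (algebraMap k B₀ c) = D.φ (algebraMap k A c)) (hπs : ∀ b, D.π (s b) = b) :
    Nonempty (AlgDef.Iso (AlgDef.triv B₀ A) D) := by
  letI : Algebra k D.R := (D.φ.comp (algebraMap k A)).toAlgebra
  let φAlg : A →ₐ[k] D.R := { D.φ with commutes' := fun _ => rfl }
  let sAlg : B₀ →ₐ[k] D.R := { s with commutes' := hs }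
  let ψ : A ⊗[k] B₀ →ₐ[k] D.R := Algebra.TensorProduct.productMap φAlg sAlg
  have hψ : ∀ (a : A) (b : B₀), ψ (a ⊗ₜ[k] b) = D.φ a * s b := fun a b => by
    simp [ψ, φAlg, sAlg]
  refine ⟨AlgDef.isoOfHom (AlgDef.triv B₀ A) D (ψ : A ⊗[k] B₀ →+* D.R) ?_ ?_⟩
  · intro a
    change ψ (algebraMap A (A ⊗[k] B₀) a) = D.φ a
    rw [Algebra.TensorProduct.algebraMap_apply, hψ]
    simp
  · intro x
    change D.π (ψ x) = trivπ B₀ A x
    induction x using TensorProduct.induction_on with
    | zero => simp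
    | tmul a b =>
      rw [hψ, map_mul, hπs, trivπ_tmul]
      congr 1
      exact congrArg (fun f => f a) D.comm
    | add x y hx hy => rw [map_add, map_add, hx, hy, map_add]

end Groth.Agent.R2.H56.AffDef
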