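import Groth.Prelude.Def_Exal
import Groth.Agent.R2.H56DefTriv

/-!
# Rigid algebras have only trivial deformations (helper56)

ns `Groth.Agent.R2.H56.Rigid`:
* `exists_lift_of_ext_trivial`: one-step lifting of a section through a square-zero step with kernel `≅ B₀`,
  assuming all `k`-extensions of `B₀` by `B₀` are trivial;
* `exists_section`: for an algebraic deformation `D` of such a `B₀` the reduction `D.R → B₀` has a `k`-algebra section;
* `nonempty_iso_trivial`: every deformation of `Spec B₀` over `A` is isomorphic to the trivial one.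
-/

set_option autoImplicit false

universe u

open CategoryTheory CategoryTheory.Limits AlgebraicGeometry

namespace Groth.Agent.R2.H56.Rigid

open ArtFun ArtFun.Art Groth.Agent.R2.H56.AffDef Groth.Agent.R2.H56.FlatNil

section Lift

variable {k : Type u} [CommRing k] {B₀ : Type u} [CommRing B₀] [Algebra k B₀]
  {R : Type u} [CommRing R] [Algebra k R] (π : R →ₐ[k] B₀)
  (I J : Ideal R) (t : R)

/-- `b ↦ [t r]` for `π r = b`. -/
noncomputable def ι₀ (hπ : Function.Surjective π) (hker : ∀ x, π x = 0 → t * x ∈ I) : B₀ →+ R ⧸ I where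
  toFun b := Ideal.Quotient.mk I (t * Function.surjInv hπ b)
  map_zero' := by
    rw [Ideal.Quotient.eq_zero_iff_mem]
    exact hker _ (Function.surjInv_eq hπ 0)
  map_add' b b' := by
    rw [← map_add, ← mul_add, Ideal.Quotient.eq, ← mul_sub]
    apply hker
    rw [map_sub, map_add, Function.surjInv_eq hπ, Function.surjInv_eq hπ, Function.surjInv_eq hπ, sub_self]

theorem ι₀_π (hπ : Function.Surjective π) (hker : ∀ x, π x = 0 → t * x ∈ I) (r : R) :
    ι₀ π I t hπ hker (π r) = Ideal.Quotient.mk I (t * r) := by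
  change Ideal.Quotient.mk I (t * Function.surjInv hπ (π r)) = _
  rw [Ideal.Quotient.eq, ← mul_sub]
  apply hker
  rw [map_sub, Function.surjInv_eq hπ, sub_self]

/-- One-step lifting: if all extensions of `B₀` by `B₀` are trivial, a section modulo `J = I + (t)` lifts to a
section modulo `I`, provided `t (ker π) ⊆ I` and `t r ∈ I → r ∈ ker π`. -/
theorem exists_lift_of_ext_trivial (hπ : Function.Surjective π)
    (hT : ∀ E : Exal.Ext k B₀ B₀, E.IsTrivial)
    (hIJ : J = I ⊔ Ideal.span {t})
    (hker : ∀ x, π x = 0 → t * x ∈ I) (hinj : ∀ r, t * r ∈ I → π r = 0)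
    (sJ : B₀ →ₐ[k] R ⧸ J) (hsJ : ∀ b r, Ideal.Quotient.mk J r = sJ b → π r = b) :
    ∃ sI : B₀ →ₐ[k] R ⧸ I, ∀ b r, Ideal.Quotient.mk I r = sI b → π r = b := by
  have hle : I ≤ J := hIJ ▸ le_sup_left
  have htJ : t ∈ J := hIJ ▸ Ideal.mem_sup_right (Ideal.subset_span rfl)
  let fac : R ⧸ I →ₐ[k] R ⧸ J := Ideal.Quotient.factorₐ k hle
  let E : Subalgebra k ((R ⧸ I) × B₀) :=
    AlgHom.equalizer (fac.comp (AlgHom.fst k (R ⧸ I) B₀)) (sJ.comp (AlgHom.snd k (R ⧸ I) B₀))
  have hE : ∀ x : (R ⧸ I) × B₀, x ∈ E ↔ fac x.1 = sJ x.2 := fun x => Iff.rfl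
  have hEπ : ∀ (y : R) (b : B₀), (Ideal.Quotient.mk I y, b) ∈ E → π y = b := by
    intro y b h
    rw [hE] at h
    exact hsJ b y h
  let ι := ι₀ π I t hπ hker
  have hιmem : ∀ b : B₀, (ι b, (0 : B₀)) ∈ E := by
    intro b
    obtain ⟨r, rfl⟩ := hπ b
    rw [hE]
    change fac (ι₀ π I t hπ hker (π r)) = sJ 0
    rw [ι₀_π, map_zero]
    change Ideal.Quotient.mk J (t * r) = 0
    rw [Ideal.Quotient.eq_zero_iff_mem]
    exact Ideal.mul_mem_right _ _ htJ
  let X : Exal.Ext k B₀ B₀ :=
    { E := E
      proj := (AlgHom.snd k (R ⧸ I) B₀).comp E.val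
      incl :=
        { toFun := fun b => ⟨(ι b, 0), hιmem b⟩
          map_zero' := by
            apply Subtype.ext
            apply Prod.ext
            · exact map_zero ι
            · rfl
          map_add' := fun b b' => by
            apply Subtype.ext
            apply Prod.ext
            · exact map_add ι b b'
            · exact (add_zero (0 : B₀)).symm }
      isExtension :=
        { proj_surjective := by
            intro b
            obtain ⟨r, hr⟩ := Ideal.Quotient.mk_surjective (sJ b)
            exact ⟨⟨(Ideal.Quotient.mk I r, b), (hE _).2 hr⟩, rfl⟩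
          incl_injective := by
            intro b b' h
            have h1 : ι b = ι b' := congrArg (fun e : E => e.1.1) h
            rw [← sub_eq_zero, ← map_sub] at h1
            obtain ⟨r, hr⟩ := hπ (b - b')
            rw [← hr] at h1
            change ι₀ π I t hπ hker (π r) = 0 at h1
            rw [ι₀_π, Ideal.Quotient.eq_zero_iff_mem] at h1
            have := hinj r h1
            rw [hr] at this
            exact sub_eq_zero.1 this
          exact := by
            rintro ⟨⟨e, b⟩, hx⟩
            change b = 0 ↔ _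
            constructor
            · intro hb
              subst hb
              obtain ⟨y, rfl⟩ := Ideal.Quotient.mk_surjective e
              have h1 : Ideal.Quotient.mk J y = 0 := by
                have := (hE _).1 hx
                simpa [fac] using this
              rw [Ideal.Quotient.eq_zero_iff_mem, hIJ] at h1
              obtain ⟨i, hi, c', hc', rfl⟩ := Submodule.mem_sup.1 h1
              obtain ⟨c, rfl⟩ := Ideal.mem_span_singleton'.1 hc'
              refine ⟨π c, ?_⟩
              apply Subtype.ext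
              apply Prod.ext
              · change ι₀ π I t hπ hker (π c) = Ideal.Quotient.mk I (i + c * t)
                rw [ι₀_π, Ideal.Quotient.eq, mul_comm]
                simpa using I.neg_mem hi
              · rfl
            · rintro ⟨z, hz⟩
              exact (congrArg (fun e : E => e.1.2) hz).symm
          mul_incl := by
            rintro ⟨⟨e, b⟩, hx⟩ z
            obtain ⟨y, rfl⟩ := Ideal.Quotient.mk_surjective e
            obtain ⟨r, rfl⟩ := hπ z
            have hyb : π y = b := hEπ y b hx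
            apply Subtype.ext
            apply Prod.ext
            · change Ideal.Quotient.mk I y * ι₀ π I t hπ hker (π r) = ι₀ π I t hπ hker (b • π r)
              rw [smul_eq_mul, ← hyb, ← map_mul, ι₀_π, ι₀_π, ← map_mul]
              congr 1
              ring
            · change b * 0 = 0
              exact mul_zero _ } }
  obtain ⟨σ, hσ⟩ := hT X
  refine ⟨(AlgHom.fst k (R ⧸ I) B₀).comp (E.val.comp σ), ?_⟩
  intro b r hr
  have h1 : (σ b : E).1.2 = b := hσ b
  have h2 : ((σ b : E).1.1, (σ b : E).1.2) ∈ E := (σ b : E).2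
  rw [h1] at h2
  have h3 : Ideal.Quotient.mk I r = (σ b : E).1.1 := hr
  rw [← h3] at h2
  exact hEπ r b h2

end Lift

section Section

variable {k : Type u} [Field k] {B₀ : Type u} [CommRing B₀] [Algebra k B₀] {A : Art k k}

/-- In a proper ideal `𝔞 < 𝔪` of a local Artinian ring there is `t ∈ 𝔪 \ 𝔞` with `𝔪 t ⊆ 𝔞`. -/
theorem exists_socle_elt (𝔞 : Ideal A) (h𝔞 : 𝔞 < RingHom.ker A.res.toRingHom) :
    ∃ t : A, t ∈ RingHom.ker A.res.toRingHom ∧ t ∉ 𝔞 ∧
      ∀ m ∈ RingHom.ker A.res.toRingHom, t * m ∈ 𝔞 := by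
  set 𝔪 := RingHom.ker A.res.toRingHom with h𝔪
  obtain ⟨n, hn⟩ := exists_pow_ker_res_eq_bot A
  have hex : ∃ m : ℕ, 𝔪 ^ m ≤ 𝔞 := ⟨n, by rw [hn]; exact bot_le⟩
  classical
  let m := Nat.find hex
  have hm : 𝔪 ^ m ≤ 𝔞 := Nat.find_spec hex
  have hm1 : m ≠ 0 := by
    intro h0
    rw [h0, pow_zero, Ideal.one_eq_top, top_le_iff] at hm
    have : 𝔪 = ⊤ := top_le_iff.1 (hm ▸ h𝔞.le)
    rw [h𝔪, ker_res_eq] at this
    exact (IsLocalRing.maximalIdeal.isMaximal A).ne_top this
  have hm2 : m ≠ 1 := by
    intro h1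
    rw [h1, pow_one] at hm
    exact absurd hm (not_le_of_gt h𝔞)
  have hmin : ¬ 𝔪 ^ (m - 1) ≤ 𝔞 := Nat.find_min hex (by omega)
  obtain ⟨t, ht, hta⟩ := Set.not_subset.1 hmin
  refine ⟨t, Ideal.pow_le_self (by omega) ht, hta, fun x hx => hm ?_⟩
  have : m = (m - 1) + 1 := by omega
  rw [this, pow_succ]
  exact Ideal.mul_mem_mul ht hx

/-- General form of the section-lifting induction: `R` a flat `A`-algebra (and `k`-algebra compatibly) with a surjective
`k`-algebra map `π : R → B₀` with kernel `𝔪 R`. -/
theorem exists_section_mod_aux (hT : ∀ E : Exal.Ext k B₀ B₀, E.IsTrivial)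
    (R : Type u) [CommRing R] [Algebra k R] [Algebra A R] [Module.Flat A R]
    (π : R →ₐ[k] B₀) (hπ : Function.Surjective π)
    (hker : ∀ x : R, π x = 0 ↔ x ∈ (RingHom.ker A.res.toRingHom).map (algebraMap A R))
    (𝔞 : Ideal A) (h𝔞 : 𝔞 ≤ RingHom.ker A.res.toRingHom) :
    ∃ s : B₀ →ₐ[k] R ⧸ Ideal.map (algebraMap A R) 𝔞,
      ∀ b r, Ideal.Quotient.mk (Ideal.map (algebraMap A R) 𝔞) r = s b → π r = b := by
  set 𝔪 := RingHom.ker A.res.toRingHom with h𝔪
  induction 𝔞 using IsNoetherian.induction with
  | hgt 𝔞 ih =>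
    rcases eq_or_lt_of_le h𝔞 with heq | hlt
    · -- base case: `𝔞 = 𝔪`
      have hkey : ∀ r r' : R, π r = π r' →
          Ideal.Quotient.mk (Ideal.map (algebraMap A R) 𝔞) r = Ideal.Quotient.mk (Ideal.map (algebraMap A R) 𝔞) r' := by
        intro r r' h
        rw [Ideal.Quotient.eq, heq, ← hker, map_sub, h, sub_self]
      let s : B₀ →ₐ[k] R ⧸ Ideal.map (algebraMap A R) 𝔞 :=
        { toFun := fun b => Ideal.Quotient.mk _ (Function.surjInv hπ b)
          map_one' := by
            rw [← map_one (Ideal.Quotient.mk (Ideal.map (algebraMap A R) 𝔞))]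
            apply hkey
            rw [Function.surjInv_eq hπ, map_one]
          map_mul' := fun b b' => by
            rw [← map_mul]
            apply hkey
            rw [map_mul, Function.surjInv_eq hπ, Function.surjInv_eq hπ, Function.surjInv_eq hπ]
          map_zero' := by
            rw [← map_zero (Ideal.Quotient.mk (Ideal.map (algebraMap A R) 𝔞))]
            apply hkey
            rw [Function.surjInv_eq hπ, map_zero]
          map_add' := fun b b' => by
            rw [← map_add]
            apply hkey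
            rw [map_add, Function.surjInv_eq hπ, Function.surjInv_eq hπ, Function.surjInv_eq hπ]
          commutes' := fun c => by
            change Ideal.Quotient.mk _ _ = Ideal.Quotient.mk _ (algebraMap k R c)
            apply hkey
            rw [Function.surjInv_eq hπ, AlgHom.commutes] }
      refine ⟨s, fun b r hr => ?_⟩
      change Ideal.Quotient.mk _ r = Ideal.Quotient.mk _ (Function.surjInv hπ b) at hr
      rw [Ideal.Quotient.eq, heq, ← hker, map_sub, Function.surjInv_eq hπ, sub_eq_zero] at hr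
      exact hr
    · -- inductive step
      obtain ⟨t, ht𝔪, hta, htm⟩ := exists_socle_elt 𝔞 hlt
      set 𝔟 : Ideal A := 𝔞 ⊔ Ideal.span {t} with h𝔟
      have h𝔟gt : 𝔞 < 𝔟 := by
        refine lt_of_le_of_ne le_sup_left fun h => hta ?_
        rw [h]
        exact Ideal.mem_sup_right (Ideal.subset_span rfl)
      have h𝔟le : 𝔟 ≤ 𝔪 := sup_le h𝔞 (by rw [Ideal.span_le, Set.singleton_subset_iff]; exact ht𝔪)
      obtain ⟨sJ, hsJ⟩ := ih 𝔟 h𝔟gt h𝔟le
      have hIJ : Ideal.map (algebraMap A R) 𝔟 =
          Ideal.map (algebraMap A R) 𝔞 ⊔ Ideal.span {algebraMap A R t} := by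
        rw [h𝔟, Ideal.map_sup, Ideal.map_span, Set.image_singleton]
      refine exists_lift_of_ext_trivial π (Ideal.map (algebraMap A R) 𝔞) (Ideal.map (algebraMap A R) 𝔟)
        (algebraMap A R t) hπ hT hIJ ?_ ?_ sJ hsJ
      · intro x hx
        rw [hker] at hx
        have h1 : algebraMap A R t * x ∈
            Ideal.map (algebraMap A R) (Ideal.span {t}) * Ideal.map (algebraMap A R) 𝔪 :=
          Ideal.mul_mem_mul (Ideal.mem_map_of_mem _ (Ideal.subset_span rfl)) hx
        rw [← Ideal.map_mul] at h1
        refine Ideal.map_mono ?_ h1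
        rw [Ideal.mul_le]
        intro c hc m hm
        obtain ⟨c', rfl⟩ := Ideal.mem_span_singleton'.1 hc
        rw [mul_assoc]
        exact Ideal.mul_mem_left _ _ (htm m hm)
      · intro r hr
        rw [hker]
        have h2 : r ∈ 𝔪 • (⊤ : Submodule A R) := by
          refine mem_smul_top_of_flat_of_smul_mem 𝔞 𝔪 t ?_ r ?_
          · intro c hc
            by_contra hcm
            have hcu : IsUnit c := by
              rw [h𝔪, ker_res_eq] at hcm
              exact (IsLocalRing.notMem_maximalIdeal).1 hcm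
            obtain ⟨u, rfl⟩ := hcu
            apply hta
            have := Ideal.mul_mem_right (↑u⁻¹ : A) (𝔞 : Ideal A) hc
            rwa [mul_assoc, Units.mul_inv, mul_one] at this
          · rw [Ideal.smul_top_eq_map, Submodule.restrictScalars_mem, Algebra.smul_def]
            exact hr
        rw [Ideal.smul_top_eq_map, Submodule.restrictScalars_mem] at h2
        exact h2

/-- If all `k`-algebra extensions of `B₀` by `B₀` are trivial, the reduction map of any algebraic deformation of `B₀`
has a `k`-algebra section. -/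
theorem exists_section (hT : ∀ E : Exal.Ext k B₀ B₀, E.IsTrivial) (D : AlgDef B₀ A) :
    ∃ s : B₀ →+* D.R, (∀ c : k, s (algebraMap k B₀ c) = D.φ (algebraMap k A c)) ∧
      ∀ b, D.π (s b) = b := by
  letI : Algebra k D.R := (D.φ.comp (algebraMap k A)).toAlgebra
  letI : Algebra A D.R := D.φ.toAlgebra
  have hflat : Module.Flat A D.R := D.flat
  let πAlg : D.R →ₐ[k] B₀ :=
    { D.π with
      commutes' := fun c => by
        change D.π (D.φ (algebraMap k A c)) = algebraMap k B₀ c
        have := congrArg (fun f => f (algebraMap k A c)) D.comm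
        simp only [RingHom.comp_apply] at this
        rw [this]
        congr 1
        exact A.res.commutes c }
  have hker : ∀ x : D.R, πAlg x = 0 ↔
      x ∈ Ideal.map (algebraMap A D.R) (RingHom.ker A.res.toRingHom) := by
    intro x
    change D.π x = 0 ↔ x ∈ Ideal.map D.φ _
    rw [← D.ker_eq, RingHom.mem_ker]
  obtain ⟨s, hs⟩ := exists_section_mod_aux hT D.R πAlg D.surj hker ⊥ bot_le
  let e : (D.R ⧸ Ideal.map (algebraMap A D.R) ⊥) ≃+* D.R :=
    (Ideal.quotEquivOfEq (Ideal.map_bot (f := algebraMap A D.R))).trans (RingEquiv.quotientBot D.R)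
  have he : ∀ x : D.R, e (Ideal.Quotient.mk _ x) = x := by
    intro x
    change RingEquiv.quotientBot D.R (Ideal.quotEquivOfEq (Ideal.map_bot (f := algebraMap A D.R))
      (Ideal.Quotient.mk (Ideal.map (algebraMap A D.R) ⊥) x)) = x
    rw [Ideal.quotEquivOfEq_mk, RingEquiv.quotientBot_mk]
  refine ⟨(e : (D.R ⧸ Ideal.map (algebraMap A D.R) ⊥) →+* D.R).comp
    (s : B₀ →+* (D.R ⧸ Ideal.map (algebraMap A D.R) ⊥)), ?_, ?_⟩
  · intro c
    change e (s (algebraMap k B₀ c)) = D.φ (algebraMap k A c)
    rw [AlgHom.commutes]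
    exact he _
  · intro b
    change D.π (e (s b)) = b
    obtain ⟨r, hr⟩ := Ideal.Quotient.mk_surjective (s b)
    rw [← hr, he]
    exact hs b r hr

/-- If all `k`-algebra extensions of `B₀` by `B₀` are trivial, every deformation of `Spec B₀` over an Artinian base is
isomorphic to the trivial one. -/
theorem nonempty_iso_trivial (hT : ∀ E : Exal.Ext k B₀ B₀, E.IsTrivial) (hx : Flat (xB B₀))
    (ξ : DefSch (Spec (CommRingCat.of B₀)) (xB B₀) A) :
    Nonempty (ξ.Iso (DefSch.trivial (Spec (CommRingCat.of B₀)) (xB B₀) hx A)) := by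
  obtain ⟨s, hs, hπs⟩ := exists_section hT (ofDefSch ξ)
  obtain ⟨i⟩ := AlgDef.nonempty_iso_triv_of_section (ofDefSch ξ) s hs hπs
  exact ⟨(isoToDefSchOfDefSch ξ).trans (i.symm.toDefSch.trans (trivIso B₀ A hx))⟩

end Section

end Groth.Agent.R2.H56.Rigid
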