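import Mathlib
import Groth.Prelude.Def_ArtFun4

/-!
# PROJ:defx (S12311, then S12317 / S12309): interface

`Def_X` for an ARBITRARY `k`-scheme `X` satisfies `H0`, `S1`, `Heps`.  Plan: a deformation over a fibre product
`B = A₁ ×_A A₂` (`A₂ → A` surjective) is glued from deformations over `A₁`, `A₂` by a Ferrand pushout
(Lib `Helper22Ferrand*`, prior `S0431`), flatness by Milnor patching on the affine charts of the pushout
(`R2/H56Glue.glue_flat_and_ker`); conversely every deformation over `B` is the pushout of its restrictions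
(flat base change of the pushout `Spec B = Spec A₁ ⊔_{Spec A} Spec A₂`, Lib `Helper22FerrandBC3.isPushout_of_flat`);
morphisms of deformations are isomorphisms (Lib `Helper2Deform.isIso_of_deform`).

All packages are closed `Prop`s; ns `Groth.Agent.R2.H56.DefxSpec`.
-/

set_option autoImplicit false
universe u

open CategoryTheory CategoryTheory.Limits AlgebraicGeometry ArtFun ArtFun.Art

namespace Groth.Agent.R2.H56.DefxSpec

section defs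

variable {Λ : Type u} {k : Type u} [CommRing Λ] [Field k] [Algebra Λ k]
variable {X : Scheme.{u}} {x : X ⟶ specPt k}
variable {B A A₁ A₂ : Art Λ k}

/-- the closed immersion `ξ₂|_A ⟶ ξ₂` (the thickening side of the corner). -/
noncomputable abbrev cornerI (ξ₂ : DefSch X x A₂) (f₂ : A₂ ⟶ A) :
    (ξ₂.baseChange f₂).total ⟶ ξ₂.total :=
  pullback.fst ξ₂.f (specMap f₂)

/-- the affine morphism `ξ₂|_A ≅ ξ₁|_A ⟶ ξ₁` (the other side of the corner). -/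
noncomputable abbrev cornerJ (ξ₁ : DefSch X x A₁) (ξ₂ : DefSch X x A₂) (f₁ : A₁ ⟶ A) (f₂ : A₂ ⟶ A)
    (θ : DefSch.Iso (ξ₁.baseChange f₁) (ξ₂.baseChange f₂)) :
    (ξ₂.baseChange f₂).total ⟶ ξ₁.total :=
  θ.iso.inv ≫ pullback.fst ξ₁.f (specMap f₁)

/-- `ξ|_A ⟶ ξ|_{A₁}` for `ξ` over `B`, `p₁ : B ⟶ A₁`, `f₁ : A₁ ⟶ A`. -/
noncomputable def z₁ (ξ : DefSch X x B) (p₁ : B ⟶ A₁) (f₁ : A₁ ⟶ A) :
    pullback ξ.f (specMap (p₁ ≫ f₁)) ⟶ pullback ξ.f (specMap p₁) :=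
  pullback.lift (pullback.fst _ _) (pullback.snd _ _ ≫ specMap f₁) (by
    rw [Category.assoc, ← specMap_comp, pullback.condition])

/-- `ξ|_A ⟶ ξ|_{A₂}` (the restriction to `A` being formed through `A₁`). -/
noncomputable def z₂ (ξ : DefSch X x B) (p₁ : B ⟶ A₁) (p₂ : B ⟶ A₂) (f₁ : A₁ ⟶ A) (f₂ : A₂ ⟶ A)
    (hw : p₁ ≫ f₁ = p₂ ≫ f₂) :
    pullback ξ.f (specMap (p₁ ≫ f₁)) ⟶ pullback ξ.f (specMap p₂) :=
  pullback.lift (pullback.fst _ _) (pullback.snd _ _ ≫ specMap f₂) (by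
    rw [Category.assoc, ← specMap_comp, ← hw, pullback.condition])

end defs

/-- PKG-ISO: a morphism of deformations (over `Spec A`, under `X`) is an isomorphism.
(Lib `Helper2Deform.isIso_of_deform` with `iS = specRes A`, a finite order thickening.) -/
def PkgIso : Prop :=
  ∀ (Λ k : Type u) [CommRing Λ] [Field k] [Algebra Λ k] (X : Scheme.{u}) (x : X ⟶ specPt k)
    (A : Art Λ k) (ξ ξ' : DefSch X x A) (φ : ξ.total ⟶ ξ'.total),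
    φ ≫ ξ'.f = ξ.f → ξ.i ≫ φ = ξ'.i → IsIso φ

/-- PKG-GLUE-FLAT: any pushout of the corner `ξ₂ ⟵ ξ₂|_A ≅ ξ₁|_A ⟶ ξ₁`, with its map to `Spec B`
(`B = A₁ ×_A A₂`, `A₂ → A` surjective), is flat over `Spec B`.  (Charts of the Ferrand pushout:
Lib `Helper22FerrandFT.exists_charts_of_isPushout`, `Charts.chart_factor`; ring level:
`R2/H56Glue.glue_flat_and_ker`; template: Lib `Helper22FerrandBC5.Charts.flat`.) -/
def PkgGlueFlat : Prop :=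
  ∀ (Λ k : Type u) [CommRing Λ] [Field k] [Algebra Λ k] (X : Scheme.{u}) (x : X ⟶ specPt k)
    {B A A₁ A₂ : Art Λ k} (p₁ : B ⟶ A₁) (p₂ : B ⟶ A₂) (f₁ : A₁ ⟶ A) (f₂ : A₂ ⟶ A)
    (_ : IsFibreProd p₁ p₂ f₁ f₂) (_ : Function.Surjective f₂)
    (ξ₁ : DefSch X x A₁) (ξ₂ : DefSch X x A₂)
    (θ : DefSch.Iso (ξ₁.baseChange f₁) (ξ₂.baseChange f₂))
    (P : Scheme.{u}) (a₂ : ξ₂.total ⟶ P) (a₁ : ξ₁.total ⟶ P)
    (_ : IsPushout (cornerI ξ₂ f₂) (cornerJ ξ₁ ξ₂ f₁ f₂ θ) a₂ a₁)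
    (g : P ⟶ spec B) (_ : a₁ ≫ g = ξ₁.f ≫ specMap p₁) (_ : a₂ ≫ g = ξ₂.f ≫ specMap p₂),
    Flat g

/-- PKG-GLUE-PB: in the same situation `ξ₁ = P ×_{Spec B} Spec A₁`. -/
def PkgGluePb : Prop :=
  ∀ (Λ k : Type u) [CommRing Λ] [Field k] [Algebra Λ k] (X : Scheme.{u}) (x : X ⟶ specPt k)
    {B A A₁ A₂ : Art Λ k} (p₁ : B ⟶ A₁) (p₂ : B ⟶ A₂) (f₁ : A₁ ⟶ A) (f₂ : A₂ ⟶ A)
    (_ : IsFibreProd p₁ p₂ f₁ f₂) (_ : Function.Surjective f₂)
    (ξ₁ : DefSch X x A₁) (ξ₂ : DefSch X x A₂)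
    (θ : DefSch.Iso (ξ₁.baseChange f₁) (ξ₂.baseChange f₂))
    (P : Scheme.{u}) (a₂ : ξ₂.total ⟶ P) (a₁ : ξ₁.total ⟶ P)
    (_ : IsPushout (cornerI ξ₂ f₂) (cornerJ ξ₁ ξ₂ f₁ f₂ θ) a₂ a₁)
    (g : P ⟶ spec B) (_ : a₁ ≫ g = ξ₁.f ≫ specMap p₁) (_ : a₂ ≫ g = ξ₂.f ≫ specMap p₂),
    IsPullback a₁ ξ₁.f g (specMap p₁)

/-- PKG-UNGLUE: a deformation over `B = A₁ ×_A A₂` (`A₂ → A` surjective) is the pushout of its restrictions to `A₁`
and `A₂` along its restriction to `A`.  (Flat base change of the pushout `Spec B = Spec A₁ ⊔_{Spec A} Spec A₂`: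
Lib `Helper22SpecPushout.isPushout_of_FS`, `Helper22FerrandBC3.isPushout_of_flat`.) -/
def PkgUnglue : Prop :=
  ∀ (Λ k : Type u) [CommRing Λ] [Field k] [Algebra Λ k] (X : Scheme.{u}) (x : X ⟶ specPt k)
    {B A A₁ A₂ : Art Λ k} (p₁ : B ⟶ A₁) (p₂ : B ⟶ A₂) (f₁ : A₁ ⟶ A) (f₂ : A₂ ⟶ A)
    (h : IsFibreProd p₁ p₂ f₁ f₂) (_ : Function.Surjective f₂) (ξ : DefSch X x B),
    IsPushout (z₁ ξ p₁ f₁) (z₂ ξ p₁ p₂ f₁ f₂ h.w)
      (pullback.fst ξ.f (specMap p₁)) (pullback.fst ξ.f (specMap p₂))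

end Groth.Agent.R2.H56.DefxSpec
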