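import Mathlib
import Groth.Prelude.Def_ArtFun4
import Groth.Agent.R2.H56DefxSpec
import Groth.Agent.S0431

/-!
# PROJ:defx — assembly: `Def_X` of a general `k`-scheme satisfies `H0`, `S1`, `Heps` (helper56)

ns `Groth.Agent.R2.H56.DefxMain`: `flat_to_field`, `h0`, `exists_pushout` (prior S0431), `isoOfHom` (a morphism of
deformations over a map of bases is cartesian), `exists_glue` (the glued deformation over `A₁ ×_A A₂`), `s1`,
`exists_iso_of_compat`, `heps`, `h0_s1_heps` — all relative to the packages of `R2/H56DefxSpec`.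
-/

set_option autoImplicit false
set_option linter.style.haveILetI false
universe u

open CategoryTheory CategoryTheory.Limits AlgebraicGeometry ArtFun ArtFun.Art

namespace Groth.Agent.R2.H56.DefxMain

open Groth.Agent.R2.H56.DefxSpec

variable {Λ : Type u} {k : Type u} [CommRing Λ] [Field k] [Algebra Λ k]
variable {X : Scheme.{u}} {x : X ⟶ specPt k}

/-- every morphism to the spectrum of a field is flat -/
theorem flat_to_field (x : X ⟶ specPt k) : Flat x := by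
  haveI : Subsingleton (specPt k) := inferInstanceAs (Subsingleton (PrimeSpectrum k))
  infer_instance

/-- a deformation over the final object has `i` an isomorphism -/
theorem isIso_i_base (ξ : DefSch X x (base Λ k)) : IsIso ξ.i :=
  ξ.isPullback.isIso_fst_of_isIso

/-- a deformation over an object `A` together with an iso `A ≅ base`... we only need: if `specRes A` is an iso then
`ξ.i` is an iso. -/
theorem isIso_i_of_isIso (A : Art Λ k) [IsIso (specRes A)] (ξ : DefSch X x A) : IsIso ξ.i :=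
  ξ.isPullback.isIso_fst_of_isIso

variable (Λ) in
theorem h0 (x : X ⟶ specPt k) : H0 (defFunctor (Λ := Λ) X x) := by
  refine ⟨⟨Quotient.mk _ (DefSch.self X x (flat_to_field x))⟩, ⟨fun z z' => ?_⟩⟩
  induction z using Quotient.inductionOn with | _ ξ => ?_
  induction z' using Quotient.inductionOn with | _ ξ' => ?_
  apply Quotient.sound
  haveI := isIso_i_base ξ
  haveI := isIso_i_base ξ'
  refine ⟨⟨(asIso ξ.i).symm ≪≫ asIso ξ'.i, ?_, ?_⟩⟩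
  · change inv ξ.i ≫ ξ'.i ≫ ξ'.f = ξ.f
    rw [IsIso.inv_comp_eq, ξ'.i_f, ξ.i_f]
  · change ξ.i ≫ inv ξ.i ≫ ξ'.i = ξ'.i
    rw [IsIso.hom_inv_id_assoc]

section Glue

variable {B A A₁ A₂ : Art Λ k}

instance subsingleton_spec (A : Art Λ k) : Subsingleton (spec A) :=
  inferInstanceAs (Subsingleton (PrimeSpectrum A))

instance nonempty_spec (A : Art Λ k) : Nonempty (spec A) :=
  inferInstanceAs (Nonempty (PrimeSpectrum A))

theorem isClosedImmersion_specMap (f₂ : A₂ ⟶ A) (hf₂ : Function.Surjective f₂) :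
    IsClosedImmersion (specMap f₂) :=
  IsClosedImmersion.spec_of_surjective _ hf₂

theorem surjective_specMap (f : A₂ ⟶ A) : Surjective (specMap f) :=
  ⟨fun _ => ⟨Classical.arbitrary _, Subsingleton.elim _ _⟩⟩

instance isAffineHom_specMap (f : A₁ ⟶ A) : IsAffineHom (specMap f) := inferInstance

theorem exists_pushout (f₁ : A₁ ⟶ A) (f₂ : A₂ ⟶ A) (hf₂ : Function.Surjective f₂)
    (ξ₁ : DefSch X x A₁) (ξ₂ : DefSch X x A₂)
    (θ : DefSch.Iso (ξ₁.baseChange f₁) (ξ₂.baseChange f₂)) :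
    ∃ (P : Scheme.{u}) (a₂ : ξ₂.total ⟶ P) (a₁ : ξ₁.total ⟶ P),
      IsPushout (cornerI ξ₂ f₂) (cornerJ ξ₁ ξ₂ f₁ f₂ θ) a₂ a₁ := by
  haveI := isClosedImmersion_specMap f₂ hf₂
  haveI := surjective_specMap f₂
  haveI : IsClosedImmersion (cornerI ξ₂ f₂) := by unfold cornerI; infer_instance
  haveI : Surjective (cornerI ξ₂ f₂) := by unfold cornerI; infer_instance
  haveI : IsAffineHom (pullback.fst ξ₁.f (specMap f₁)) :=
    MorphismProperty.of_isPullback (P := @IsAffineHom) (IsPullback.of_hasPullback _ _).flip inferInstance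
  haveI : IsAffineHom (cornerJ ξ₁ ξ₂ f₁ f₂ θ) := by unfold cornerJ; infer_instance
  obtain ⟨P, a₂, a₁, hPO, -, -, -⟩ :=
    Groth.Agent.S0431.result (cornerI ξ₂ f₂) (Surjective.surj) (cornerJ ξ₁ ξ₂ f₁ f₂ θ)
  exact ⟨P, a₂, a₁, hPO⟩

/-- a morphism of deformations over a map `g : A ⟶ A'` of the bases is cartesian. -/
noncomputable def isoOfHom (hIso : PkgIso.{u}) {A A' : Art Λ k} (g : A ⟶ A') (ξ : DefSch X x A)
    (ξ' : DefSch X x A') (u : ξ'.total ⟶ ξ.total) (hu : u ≫ ξ.f = ξ'.f ≫ specMap g)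
    (hi : ξ'.i ≫ u = ξ.i) : DefSch.Iso ξ' (ξ.baseChange g) :=
  haveI : IsIso (pullback.lift u ξ'.f hu) :=
    hIso Λ k X x A' ξ' (ξ.baseChange g) (pullback.lift u ξ'.f hu) (pullback.lift_snd _ _ _) (by
      apply pullback.hom_ext
      · rw [Category.assoc, pullback.lift_fst, hi, DefSch.baseChange_i_fst]
      · rw [Category.assoc, pullback.lift_snd]
        exact ξ'.i_f.trans (DefSch.baseChange_i_f ξ g).symm)
  { iso := asIso (pullback.lift u ξ'.f hu)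
    hom_f := pullback.lift_snd _ _ _
    i_hom := by
      apply pullback.hom_ext
      · rw [Category.assoc, asIso_hom, pullback.lift_fst, hi, DefSch.baseChange_i_fst]
      · rw [Category.assoc, asIso_hom, pullback.lift_snd]
        exact ξ'.i_f.trans (DefSch.baseChange_i_f ξ g).symm }

theorem isoOfHom_hom_fst (hIso : PkgIso.{u}) {A A' : Art Λ k} (g : A ⟶ A') (ξ : DefSch X x A)
    (ξ' : DefSch X x A') (u : ξ'.total ⟶ ξ.total) (hu : u ≫ ξ.f = ξ'.f ≫ specMap g)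
    (hi : ξ'.i ≫ u = ξ.i) :
    (isoOfHom hIso g ξ ξ' u hu hi).iso.hom ≫ pullback.fst ξ.f (specMap g) = u :=
  pullback.lift_fst _ _ _

theorem exists_glue (hFlat : PkgGlueFlat.{u}) (hPb : PkgGluePb.{u})
    (p₁ : B ⟶ A₁) (p₂ : B ⟶ A₂) (f₁ : A₁ ⟶ A) (f₂ : A₂ ⟶ A)
    (h : IsFibreProd p₁ p₂ f₁ f₂) (hf₂ : Function.Surjective f₂)
    (ξ₁ : DefSch X x A₁) (ξ₂ : DefSch X x A₂)
    (θ : DefSch.Iso (ξ₁.baseChange f₁) (ξ₂.baseChange f₂)) :
    ∃ (ξ : DefSch X x B) (a₁ : ξ₁.total ⟶ ξ.total) (a₂ : ξ₂.total ⟶ ξ.total),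
      IsPushout (cornerI ξ₂ f₂) (cornerJ ξ₁ ξ₂ f₁ f₂ θ) a₂ a₁ ∧
      a₁ ≫ ξ.f = ξ₁.f ≫ specMap p₁ ∧ a₂ ≫ ξ.f = ξ₂.f ≫ specMap p₂ ∧
      ξ₁.i ≫ a₁ = ξ.i ∧ ξ₂.i ≫ a₂ = ξ.i := by
  obtain ⟨P, a₂, a₁, hPO⟩ := exists_pushout f₁ f₂ hf₂ ξ₁ ξ₂ θ
  have hsnd : θ.iso.inv ≫ pullback.snd ξ₁.f (specMap f₁) = pullback.snd ξ₂.f (specMap f₂) := by
    rw [Iso.inv_comp_eq]
    exact θ.hom_f.symm
  have hcompat : cornerI ξ₂ f₂ ≫ ξ₂.f ≫ specMap p₂ = cornerJ ξ₁ ξ₂ f₁ f₂ θ ≫ ξ₁.f ≫ specMap p₁ := by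
    unfold cornerI cornerJ
    rw [← Category.assoc, pullback.condition, Category.assoc, ← specMap_comp, Category.assoc,
      ← Category.assoc (pullback.fst ξ₁.f (specMap f₁)), pullback.condition, Category.assoc,
      ← specMap_comp, ← Category.assoc, hsnd, h.w]
  let g : P ⟶ spec B := hPO.desc (ξ₂.f ≫ specMap p₂) (ξ₁.f ≫ specMap p₁) hcompat
  have hg₂ : a₂ ≫ g = ξ₂.f ≫ specMap p₂ := hPO.inl_desc _ _ _
  have hg₁ : a₁ ≫ g = ξ₁.f ≫ specMap p₁ := hPO.inr_desc _ _ _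
  have hfl : Flat g := hFlat Λ k X x p₁ p₂ f₁ f₂ h hf₂ ξ₁ ξ₂ θ P a₂ a₁ hPO g hg₁ hg₂
  have hpb : IsPullback a₁ ξ₁.f g (specMap p₁) :=
    hPb Λ k X x p₁ p₂ f₁ f₂ h hf₂ ξ₁ ξ₂ θ P a₂ a₁ hPO g hg₁ hg₂
  have hpb' : IsPullback (ξ₁.i ≫ a₁) x g (specRes B) := by
    have := ξ₁.isPullback.paste_horiz hpb
    rwa [specRes_comp] at this
  refine ⟨⟨P, g, hfl, ξ₁.i ≫ a₁, hpb'⟩, a₁, a₂, hPO, hg₁, hg₂, rfl, ?_⟩
  change ξ₂.i ≫ a₂ = ξ₁.i ≫ a₁
  have e1 : ξ₂.i = (ξ₁.baseChange f₁).i ≫ θ.iso.hom ≫ cornerI ξ₂ f₂ := by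
    rw [← Category.assoc, θ.i_hom]
    exact (DefSch.baseChange_i_fst ξ₂ f₂).symm
  rw [e1, Category.assoc, Category.assoc, hPO.w]
  unfold cornerJ
  rw [Category.assoc, Iso.hom_inv_id_assoc, ← Category.assoc, DefSch.baseChange_i_fst]

theorem i_z₁ (ξ : DefSch X x B) (p₁ : B ⟶ A₁) (f₁ : A₁ ⟶ A) :
    (ξ.baseChange (p₁ ≫ f₁)).i ≫ z₁ ξ p₁ f₁ = (ξ.baseChange p₁).i := by
  apply pullback.hom_ext
  · rw [Category.assoc]
    unfold z₁
    rw [pullback.lift_fst, DefSch.baseChange_i_fst, DefSch.baseChange_i_fst]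
  · rw [Category.assoc]
    unfold z₁
    rw [pullback.lift_snd, ← Category.assoc]
    have e1 := DefSch.baseChange_i_f ξ (p₁ ≫ f₁)
    have e2 := DefSch.baseChange_i_f ξ p₁
    change (ξ.baseChange (p₁ ≫ f₁)).i ≫ pullback.snd ξ.f (specMap (p₁ ≫ f₁)) = _ at e1
    change (ξ.baseChange p₁).i ≫ pullback.snd ξ.f (specMap p₁) = _ at e2
    rw [e1, e2, Category.assoc, specRes_comp]

theorem i_z₂ (ξ : DefSch X x B) (p₁ : B ⟶ A₁) (p₂ : B ⟶ A₂) (f₁ : A₁ ⟶ A) (f₂ : A₂ ⟶ A)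
    (hw : p₁ ≫ f₁ = p₂ ≫ f₂) :
    (ξ.baseChange (p₁ ≫ f₁)).i ≫ z₂ ξ p₁ p₂ f₁ f₂ hw = (ξ.baseChange p₂).i := by
  apply pullback.hom_ext
  · rw [Category.assoc]
    unfold z₂
    rw [pullback.lift_fst, DefSch.baseChange_i_fst, DefSch.baseChange_i_fst]
  · rw [Category.assoc]
    unfold z₂
    rw [pullback.lift_snd, ← Category.assoc]
    have e1 := DefSch.baseChange_i_f ξ (p₁ ≫ f₁)
    have e2 := DefSch.baseChange_i_f ξ p₂
    change (ξ.baseChange (p₁ ≫ f₁)).i ≫ pullback.snd ξ.f (specMap (p₁ ≫ f₁)) = _ at e1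
    change (ξ.baseChange p₂).i ≫ pullback.snd ξ.f (specMap p₂) = _ at e2
    rw [e1, e2, Category.assoc, specRes_comp]

/-- Two deformations over `B = A₁ ×_A A₂` with isomorphic restrictions to `A₁` and `A₂`, compatibly over `A`,
are isomorphic. -/
theorem exists_iso_of_compat (hIso : PkgIso.{u}) (hUn : PkgUnglue.{u})
    (p₁ : B ⟶ A₁) (p₂ : B ⟶ A₂) (f₁ : A₁ ⟶ A) (f₂ : A₂ ⟶ A)
    (h : IsFibreProd p₁ p₂ f₁ f₂) (hf₂ : Function.Surjective f₂) (ξ ξ' : DefSch X x B)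
    (θ₁ : DefSch.Iso (ξ.baseChange p₁) (ξ'.baseChange p₁))
    (θ₂ : DefSch.Iso (ξ.baseChange p₂) (ξ'.baseChange p₂))
    (hc : z₁ ξ p₁ f₁ ≫ θ₁.iso.hom ≫ pullback.fst ξ'.f (specMap p₁) =
      z₂ ξ p₁ p₂ f₁ f₂ h.w ≫ θ₂.iso.hom ≫ pullback.fst ξ'.f (specMap p₂)) :
    ∃ Φ : DefSch.Iso ξ ξ',
      pullback.fst ξ.f (specMap p₁) ≫ Φ.iso.hom = θ₁.iso.hom ≫ pullback.fst ξ'.f (specMap p₁) ∧
      pullback.fst ξ.f (specMap p₂) ≫ Φ.iso.hom = θ₂.iso.hom ≫ pullback.fst ξ'.f (specMap p₂) := by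
  have hPO := hUn Λ k X x p₁ p₂ f₁ f₂ h hf₂ ξ
  let ψ : ξ.total ⟶ ξ'.total := hPO.desc _ _ hc
  have hψ₁ : pullback.fst ξ.f (specMap p₁) ≫ ψ = θ₁.iso.hom ≫ pullback.fst ξ'.f (specMap p₁) :=
    hPO.inl_desc _ _ _
  have hψ₂ : pullback.fst ξ.f (specMap p₂) ≫ ψ = θ₂.iso.hom ≫ pullback.fst ξ'.f (specMap p₂) :=
    hPO.inr_desc _ _ _
  have hθ₁ : θ₁.iso.hom ≫ pullback.snd ξ'.f (specMap p₁) = pullback.snd ξ.f (specMap p₁) := θ₁.hom_f
  have hθ₂ : θ₂.iso.hom ≫ pullback.snd ξ'.f (specMap p₂) = pullback.snd ξ.f (specMap p₂) := θ₂.hom_f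
  have hf : ψ ≫ ξ'.f = ξ.f := by
    apply hPO.hom_ext
    · rw [← Category.assoc, hψ₁, Category.assoc, pullback.condition, ← Category.assoc, hθ₁,
        pullback.condition]
    · rw [← Category.assoc, hψ₂, Category.assoc, pullback.condition, ← Category.assoc, hθ₂,
        pullback.condition]
  have hi : ξ.i ≫ ψ = ξ'.i := by
    rw [← DefSch.baseChange_i_fst ξ p₁, Category.assoc, hψ₁, ← Category.assoc, θ₁.i_hom,
      DefSch.baseChange_i_fst]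
  haveI : IsIso ψ := hIso Λ k X x B ξ ξ' ψ hf hi
  exact ⟨⟨asIso ψ, hf, hi⟩, hψ₁, hψ₂⟩

end Glue

section Conditions

variable (Λ) (x)

theorem map_mk {A A' : Art Λ k} (g : A ⟶ A') (ξ : DefSch X x A) :
    (defFunctor (Λ := Λ) X x).map g (Quotient.mk (DefSch.setoid X x A) ξ) =
      Quotient.mk (DefSch.setoid X x A') (ξ.baseChange g) := rfl

theorem s1 (hFlat : PkgGlueFlat.{u}) (hPb : PkgGluePb.{u}) (hIso : PkgIso.{u}) :
    S1 (defFunctor (Λ := Λ) X x) := by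
  intro B A A₁ A₂ p₁ p₂ f₁ f₂ h hf₂ z
  obtain ⟨⟨z₁, z₂⟩, hz⟩ := z
  induction z₁ using Quotient.inductionOn with | _ ξ₁ => ?_
  induction z₂ using Quotient.inductionOn with | _ ξ₂ => ?_
  have hz' : Quotient.mk (DefSch.setoid X x A) (ξ₁.baseChange f₁) =
      Quotient.mk (DefSch.setoid X x A) (ξ₂.baseChange f₂) := hz
  obtain ⟨θ⟩ := Quotient.exact hz'
  obtain ⟨ξ, a₁, a₂, hPO, hg₁, hg₂, hi₁, hi₂⟩ := exists_glue hFlat hPb p₁ p₂ f₁ f₂ h hf₂ ξ₁ ξ₂ θ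
  refine ⟨Quotient.mk _ ξ, ?_⟩
  apply ArtFun.FibProd.ext
  · exact (Quotient.sound (s := DefSch.setoid X x A₁) ⟨isoOfHom hIso p₁ ξ ξ₁ a₁ hg₁ hi₁⟩).symm
  · exact (Quotient.sound (s := DefSch.setoid X x A₂) ⟨isoOfHom hIso p₂ ξ ξ₂ a₂ hg₂ hi₂⟩).symm

theorem heps (hFlat : PkgGlueFlat.{u}) (hPb : PkgGluePb.{u}) (hIso : PkgIso.{u}) (hUn : PkgUnglue.{u}) :
    Heps (defFunctor (Λ := Λ) X x) := by
  intro B A₁ p₁ p₂ h
  have hf₂ : Function.Surjective (toBase (dual Λ k)) := (dual Λ k).res_surjective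
  refine ⟨?_, s1 Λ x hFlat hPb hIso p₁ p₂ _ _ h hf₂⟩
  intro z z' hzz
  induction z using Quotient.inductionOn with | _ ξ => ?_
  induction z' using Quotient.inductionOn with | _ ξ' => ?_
  have e1 : Quotient.mk (DefSch.setoid X x A₁) (ξ.baseChange p₁) =
      Quotient.mk (DefSch.setoid X x A₁) (ξ'.baseChange p₁) := congrArg (fun t => t.1.1) hzz
  have e2 : Quotient.mk (DefSch.setoid X x (dual Λ k)) (ξ.baseChange p₂) =
      Quotient.mk (DefSch.setoid X x (dual Λ k)) (ξ'.baseChange p₂) := congrArg (fun t => t.1.2) hzz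
  obtain ⟨θ₁⟩ := Quotient.exact e1
  obtain ⟨θ₂⟩ := Quotient.exact e2
  haveI : IsIso (ξ.baseChange (p₁ ≫ toBase A₁)).i := isIso_i_base _
  have hc : z₁ ξ p₁ (toBase A₁) ≫ θ₁.iso.hom ≫ pullback.fst ξ'.f (specMap p₁) =
      z₂ ξ p₁ p₂ (toBase A₁) (toBase (dual Λ k)) h.w ≫ θ₂.iso.hom ≫ pullback.fst ξ'.f (specMap p₂) := by
    rw [← cancel_epi (ξ.baseChange (p₁ ≫ toBase A₁)).i, ← Category.assoc, ← Category.assoc, i_z₁,
      θ₁.i_hom, DefSch.baseChange_i_fst, ← Category.assoc, ← Category.assoc, i_z₂, θ₂.i_hom,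
      DefSch.baseChange_i_fst]
  obtain ⟨Φ, -, -⟩ := exists_iso_of_compat hIso hUn p₁ p₂ _ _ h hf₂ ξ ξ' θ₁ θ₂ hc
  exact Quotient.sound (s := DefSch.setoid X x B) ⟨Φ⟩

theorem h0_s1_heps (hFlat : PkgGlueFlat.{u}) (hPb : PkgGluePb.{u}) (hIso : PkgIso.{u}) (hUn : PkgUnglue.{u}) :
    H0 (defFunctor (Λ := Λ) X x) ∧ S1 (defFunctor (Λ := Λ) X x) ∧ Heps (defFunctor (Λ := Λ) X x) :=
  ⟨h0 Λ x, s1 Λ x hFlat hPb hIso, heps Λ x hFlat hPb hIso hUn⟩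

end Conditions

end Groth.Agent.R2.H56.DefxMain
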