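import Mathlib
import Groth.Prelude.Def_ArtFun4
import Groth.Agent.R2.H56DefxSpec
import Groth.Agent.R2.H56DefxMain

/-!
# PROJ:defx — automorphism lifting versus injectivity of the comparison map (helper56)

ns `Groth.Agent.R2.H56.DefxAut`:
* `cmp_injective_of_lift`: if automorphisms of deformations lift along `f₂ : A₂ ⟶ A` (surjective), then the comparison map
  `Def_X(A₁ ×_A A₂) → Def_X(A₁) ×_{Def_X(A)} Def_X(A₂)` is injective;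
* `lift_of_cmp_injective`: if the comparison map of `A' ×_A A'` is injective, automorphisms lift along `p : A' ⟶ A`.
Both relative to the packages of `R2/H56DefxSpec`.
-/

set_option autoImplicit false
set_option linter.style.haveILetI false
universe u

open CategoryTheory CategoryTheory.Limits AlgebraicGeometry ArtFun ArtFun.Art

namespace Groth.Agent.R2.H56.DefxAut

open Groth.Agent.R2.H56.DefxSpec Groth.Agent.R2.H56.DefxMain

variable {Λ : Type u} {k : Type u} [CommRing Λ] [Field k] [Algebra Λ k]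
variable {X : Scheme.{u}} {x : X ⟶ specPt k}
variable {B A A₁ A₂ : Art Λ k}

theorem iso_ext {A : Art Λ k} {ξ ξ' : DefSch X x A} (e e' : DefSch.Iso ξ ξ')
    (h : e.iso.hom = e'.iso.hom) : e = e' := by
  cases e with | mk i₁ h₁ h₂ => ?_
  cases e' with | mk i₂ h₃ h₄ => ?_
  have : i₁ = i₂ := Iso.ext h
  subst this
  rfl

@[simp] theorem trans_hom {A : Art Λ k} {ξ ξ' ξ'' : DefSch X x A} (e : DefSch.Iso ξ ξ')
    (e' : DefSch.Iso ξ' ξ'') : (e.trans e').iso.hom = e.iso.hom ≫ e'.iso.hom := rfl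

@[simp] theorem symm_hom {A : Art Λ k} {ξ ξ' : DefSch X x A} (e : DefSch.Iso ξ ξ') :
    e.symm.iso.hom = e.iso.inv := rfl

theorem baseChange_hom_fst {A A' : Art Λ k} {ξ ξ' : DefSch X x A} (e : DefSch.Iso ξ ξ') (g : A ⟶ A') :
    (e.baseChange g).iso.hom ≫ pullback.fst ξ'.f (specMap g) =
      pullback.fst ξ.f (specMap g) ≫ e.iso.hom :=
  DefSch.pullMap_fst e.iso.hom e.hom_f g

theorem baseChange_hom_snd {A A' : Art Λ k} {ξ ξ' : DefSch X x A} (e : DefSch.Iso ξ ξ') (g : A ⟶ A') :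
    (e.baseChange g).iso.hom ≫ pullback.snd ξ'.f (specMap g) = pullback.snd ξ.f (specMap g) :=
  DefSch.pullMap_snd e.iso.hom e.hom_f g

/-- If automorphisms lift along `f₂`, the comparison map of a fibre square over `f₂` is injective. -/
theorem cmp_injective_of_lift (hIso : PkgIso.{u}) (hUn : PkgUnglue.{u})
    (p₁ : B ⟶ A₁) (p₂ : B ⟶ A₂) (f₁ : A₁ ⟶ A) (f₂ : A₂ ⟶ A)
    (h : IsFibreProd p₁ p₂ f₁ f₂) (hf₂ : Function.Surjective f₂)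
    (hAL : ∀ ξ₂ : DefSch X x A₂, Function.Surjective (fun e : ξ₂.Iso ξ₂ => e.baseChange f₂)) :
    Function.Injective (cmp (defFunctor (Λ := Λ) X x) h) := by
  intro z z' hzz
  induction z using Quotient.inductionOn with | _ ξ => ?_
  induction z' using Quotient.inductionOn with | _ ξ' => ?_
  have e1 : Quotient.mk (DefSch.setoid X x A₁) (ξ.baseChange p₁) =
      Quotient.mk (DefSch.setoid X x A₁) (ξ'.baseChange p₁) := congrArg (fun t => t.1.1) hzz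
  have e2 : Quotient.mk (DefSch.setoid X x A₂) (ξ.baseChange p₂) =
      Quotient.mk (DefSch.setoid X x A₂) (ξ'.baseChange p₂) := congrArg (fun t => t.1.2) hzz
  obtain ⟨θ₁⟩ := Quotient.exact e1
  obtain ⟨θ₂⟩ := Quotient.exact e2
  have hθ₁ : θ₁.iso.hom ≫ pullback.snd ξ'.f (specMap p₁) = pullback.snd ξ.f (specMap p₁) := θ₁.hom_f
  have hθ₂ : θ₂.iso.hom ≫ pullback.snd ξ'.f (specMap p₂) = pullback.snd ξ.f (specMap p₂) := θ₂.hom_f
  have hz₁s : z₁ ξ p₁ f₁ ≫ pullback.snd ξ.f (specMap p₁) =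
      pullback.snd ξ.f (specMap (p₁ ≫ f₁)) ≫ specMap f₁ := by
    unfold z₁; exact pullback.lift_snd _ _ _
  have hz₂s : z₂ ξ p₁ p₂ f₁ f₂ h.w ≫ pullback.snd ξ.f (specMap p₂) =
      pullback.snd ξ.f (specMap (p₁ ≫ f₁)) ≫ specMap f₂ := by
    unfold z₂; exact pullback.lift_snd _ _ _
  -- the two morphisms `ξ|_A ⟶ ξ'`
  have hu₁f : (z₁ ξ p₁ f₁ ≫ θ₁.iso.hom ≫ pullback.fst ξ'.f (specMap p₁)) ≫ ξ'.f =
      (ξ.baseChange (p₁ ≫ f₁)).f ≫ specMap (p₁ ≫ f₁) := by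
    change _ = pullback.snd ξ.f (specMap (p₁ ≫ f₁)) ≫ specMap (p₁ ≫ f₁)
    rw [Category.assoc, Category.assoc, pullback.condition, ← Category.assoc θ₁.iso.hom, hθ₁,
      ← Category.assoc, hz₁s, Category.assoc, ← specMap_comp]
  have hu₁i : (ξ.baseChange (p₁ ≫ f₁)).i ≫ (z₁ ξ p₁ f₁ ≫ θ₁.iso.hom ≫ pullback.fst ξ'.f (specMap p₁)) =
      ξ'.i := by
    rw [← Category.assoc, i_z₁, ← Category.assoc, θ₁.i_hom, DefSch.baseChange_i_fst]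
  have hu₂f : (z₂ ξ p₁ p₂ f₁ f₂ h.w ≫ θ₂.iso.hom ≫ pullback.fst ξ'.f (specMap p₂)) ≫ ξ'.f =
      (ξ.baseChange (p₁ ≫ f₁)).f ≫ specMap (p₁ ≫ f₁) := by
    change _ = pullback.snd ξ.f (specMap (p₁ ≫ f₁)) ≫ specMap (p₁ ≫ f₁)
    rw [Category.assoc, Category.assoc, pullback.condition, ← Category.assoc θ₂.iso.hom, hθ₂,
      ← Category.assoc, hz₂s, Category.assoc, ← specMap_comp, h.w]
  have hu₂i : (ξ.baseChange (p₁ ≫ f₁)).i ≫
      (z₂ ξ p₁ p₂ f₁ f₂ h.w ≫ θ₂.iso.hom ≫ pullback.fst ξ'.f (specMap p₂)) = ξ'.i := by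
    rw [← Category.assoc, i_z₂, ← Category.assoc, θ₂.i_hom, DefSch.baseChange_i_fst]
  let ι₁ := isoOfHom hIso (p₁ ≫ f₁) ξ' (ξ.baseChange (p₁ ≫ f₁)) _ hu₁f hu₁i
  let ι₂ := isoOfHom hIso (p₁ ≫ f₁) ξ' (ξ.baseChange (p₁ ≫ f₁)) _ hu₂f hu₂i
  let α : DefSch.Iso (ξ.baseChange (p₁ ≫ f₁)) (ξ.baseChange (p₁ ≫ f₁)) := ι₁.trans ι₂.symm
  have hα : α.iso.hom ≫ (z₂ ξ p₁ p₂ f₁ f₂ h.w ≫ θ₂.iso.hom ≫ pullback.fst ξ'.f (specMap p₂)) =
      z₁ ξ p₁ f₁ ≫ θ₁.iso.hom ≫ pullback.fst ξ'.f (specMap p₁) := by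
    have h1 := isoOfHom_hom_fst hIso (p₁ ≫ f₁) ξ' (ξ.baseChange (p₁ ≫ f₁)) _ hu₁f hu₁i
    have h2 := isoOfHom_hom_fst hIso (p₁ ≫ f₁) ξ' (ξ.baseChange (p₁ ≫ f₁)) _ hu₂f hu₂i
    rw [← h2]
    change (ι₁.iso.hom ≫ ι₂.iso.inv) ≫ ι₂.iso.hom ≫ _ = _
    rw [Category.assoc, Iso.inv_hom_id_assoc]
    exact h1
  -- transport `α` to `(ξ|_{A₂})|_A`
  let κ := isoOfHom hIso f₂ (ξ.baseChange p₂) (ξ.baseChange (p₁ ≫ f₁)) (z₂ ξ p₁ p₂ f₁ f₂ h.w) hz₂s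
    (i_z₂ ξ p₁ p₂ f₁ f₂ h.w)
  have hκ : κ.iso.hom ≫ pullback.fst (ξ.baseChange p₂).f (specMap f₂) = z₂ ξ p₁ p₂ f₁ f₂ h.w :=
    isoOfHom_hom_fst hIso f₂ (ξ.baseChange p₂) (ξ.baseChange (p₁ ≫ f₁)) _ hz₂s (i_z₂ ξ p₁ p₂ f₁ f₂ h.w)
  obtain ⟨e, he⟩ := hAL (ξ.baseChange p₂) ((κ.symm.trans α).trans κ)
  have he' : pullback.fst (ξ.baseChange p₂).f (specMap f₂) ≫ e.iso.hom =
      (κ.iso.inv ≫ α.iso.hom ≫ κ.iso.hom) ≫ pullback.fst (ξ.baseChange p₂).f (specMap f₂) := by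
    rw [← baseChange_hom_fst e f₂]
    have := congrArg (fun t => t.iso.hom) he
    change (e.baseChange f₂).iso.hom = (κ.iso.inv ≫ α.iso.hom) ≫ κ.iso.hom at this
    rw [this]
    simp only [Category.assoc]
  have hez : z₂ ξ p₁ p₂ f₁ f₂ h.w ≫ e.iso.hom = α.iso.hom ≫ z₂ ξ p₁ p₂ f₁ f₂ h.w := by
    rw [← hκ, Category.assoc, he', Category.assoc, Category.assoc, Iso.hom_inv_id_assoc]
  have hc : z₁ ξ p₁ f₁ ≫ θ₁.iso.hom ≫ pullback.fst ξ'.f (specMap p₁) =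
      z₂ ξ p₁ p₂ f₁ f₂ h.w ≫ (e.trans θ₂).iso.hom ≫ pullback.fst ξ'.f (specMap p₂) := by
    rw [trans_hom, Category.assoc, ← Category.assoc (z₂ ξ p₁ p₂ f₁ f₂ h.w), hez, Category.assoc, hα]
  obtain ⟨Φ, -, -⟩ := exists_iso_of_compat hIso hUn p₁ p₂ f₁ f₂ h hf₂ ξ ξ' θ₁ (e.trans θ₂) hc
  exact Quotient.sound (s := DefSch.setoid X x B) ⟨Φ⟩

/-- If the comparison map of the square `A' ×_A A'` is injective, automorphisms lift along `p : A' ⟶ A`. -/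
theorem lift_of_cmp_injective (hFlat : PkgGlueFlat.{u}) (hPb : PkgGluePb.{u}) (hIso : PkgIso.{u})
    {A' : Art Λ k} (p₁ p₂ : B ⟶ A') (p : A' ⟶ A)
    (h : IsFibreProd p₁ p₂ p p) (hp : Function.Surjective p)
    (hinj : Function.Injective (cmp (defFunctor (Λ := Λ) X x) h)) (ξ' : DefSch X x A') :
    Function.Surjective (fun e : ξ'.Iso ξ' => e.baseChange p) := by
  intro α'
  obtain ⟨η, a₁, a₂, hPO, hg₁, hg₂, hi₁, hi₂⟩ := exists_glue hFlat hPb p₁ p₂ p p h hp ξ' ξ' α'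
  obtain ⟨η₀, b₁, b₂, hPO₀, hb₁, hb₂, hj₁, hj₂⟩ :=
    exists_glue hFlat hPb p₁ p₂ p p h hp ξ' ξ' (DefSch.Iso.refl _)
  have hcmp : cmp (defFunctor (Λ := Λ) X x) h (Quotient.mk _ η₀) =
      cmp (defFunctor (Λ := Λ) X x) h (Quotient.mk _ η) := by
    apply ArtFun.FibProd.ext
    · exact Quotient.sound (s := DefSch.setoid X x A')
        ⟨(isoOfHom hIso p₁ η₀ ξ' b₁ hb₁ hj₁).symm.trans (isoOfHom hIso p₁ η ξ' a₁ hg₁ hi₁)⟩
    · exact Quotient.sound (s := DefSch.setoid X x A')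
        ⟨(isoOfHom hIso p₂ η₀ ξ' b₂ hb₂ hj₂).symm.trans (isoOfHom hIso p₂ η ξ' a₂ hg₂ hi₂)⟩
  obtain ⟨Φ⟩ := Quotient.exact (hinj hcmp)
  -- the automorphisms `β₁`, `β₂` of `ξ'`
  have hc₁f : (b₁ ≫ Φ.iso.hom) ≫ η.f = ξ'.f ≫ specMap p₁ := by
    rw [Category.assoc, Φ.hom_f, hb₁]
  have hc₁i : ξ'.i ≫ b₁ ≫ Φ.iso.hom = η.i := by
    rw [← Category.assoc, hj₁, Φ.i_hom]
  have hc₂f : (b₂ ≫ Φ.iso.hom) ≫ η.f = ξ'.f ≫ specMap p₂ := by
    rw [Category.assoc, Φ.hom_f, hb₂]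
  have hc₂i : ξ'.i ≫ b₂ ≫ Φ.iso.hom = η.i := by
    rw [← Category.assoc, hj₂, Φ.i_hom]
  let β₁ : DefSch.Iso ξ' ξ' :=
    (isoOfHom hIso p₁ η ξ' (b₁ ≫ Φ.iso.hom) hc₁f hc₁i).trans (isoOfHom hIso p₁ η ξ' a₁ hg₁ hi₁).symm
  let β₂ : DefSch.Iso ξ' ξ' :=
    (isoOfHom hIso p₂ η ξ' (b₂ ≫ Φ.iso.hom) hc₂f hc₂i).trans (isoOfHom hIso p₂ η ξ' a₂ hg₂ hi₂).symm
  have hβ₁ : β₁.iso.hom ≫ a₁ = b₁ ≫ Φ.iso.hom := by
    have h1 := isoOfHom_hom_fst hIso p₁ η ξ' (b₁ ≫ Φ.iso.hom) hc₁f hc₁i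
    have h2 := isoOfHom_hom_fst hIso p₁ η ξ' a₁ hg₁ hi₁
    rw [← h1]
    change ((isoOfHom hIso p₁ η ξ' (b₁ ≫ Φ.iso.hom) hc₁f hc₁i).iso.hom ≫
      (isoOfHom hIso p₁ η ξ' a₁ hg₁ hi₁).iso.inv) ≫ a₁ = _
    rw [Category.assoc]
    congr 1
    rw [Iso.inv_comp_eq, h2]
  have hβ₂ : β₂.iso.hom ≫ a₂ = b₂ ≫ Φ.iso.hom := by
    have h1 := isoOfHom_hom_fst hIso p₂ η ξ' (b₂ ≫ Φ.iso.hom) hc₂f hc₂i
    have h2 := isoOfHom_hom_fst hIso p₂ η ξ' a₂ hg₂ hi₂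
    rw [← h1]
    change ((isoOfHom hIso p₂ η ξ' (b₂ ≫ Φ.iso.hom) hc₂f hc₂i).iso.hom ≫
      (isoOfHom hIso p₂ η ξ' a₂ hg₂ hi₂).iso.inv) ≫ a₂ = _
    rw [Category.assoc]
    congr 1
    rw [Iso.inv_comp_eq, h2]
  -- the two pushout squares
  have w : pullback.fst ξ'.f (specMap p) ≫ a₂ = α'.iso.inv ≫ pullback.fst ξ'.f (specMap p) ≫ a₁ := by
    have := hPO.w
    unfold cornerI cornerJ at this
    rw [this, Category.assoc]
  have w₀ : pullback.fst ξ'.f (specMap p) ≫ b₂ = pullback.fst ξ'.f (specMap p) ≫ b₁ := by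
    have := hPO₀.w
    unfold cornerI cornerJ at this
    rw [this]
    change (𝟙 _ ≫ _) ≫ _ = _
    rw [Category.id_comp]
  -- the key identity
  have key : ((β₂.baseChange p).iso.hom ≫ α'.iso.inv) ≫ (pullback.fst ξ'.f (specMap p) ≫ a₁) =
      (β₁.baseChange p).iso.hom ≫ (pullback.fst ξ'.f (specMap p) ≫ a₁) := by
    rw [Category.assoc, ← w, ← Category.assoc, baseChange_hom_fst, Category.assoc, hβ₂,
      ← Category.assoc, w₀, Category.assoc, ← hβ₁, ← Category.assoc, ← baseChange_hom_fst,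
      Category.assoc]
  -- `fst ≫ a₁` is a cartesian morphism
  have hWf : (pullback.fst ξ'.f (specMap p) ≫ a₁) ≫ η.f =
      (ξ'.baseChange p).f ≫ specMap (p₁ ≫ p) := by
    change _ = pullback.snd ξ'.f (specMap p) ≫ specMap (p₁ ≫ p)
    rw [Category.assoc, hg₁, ← Category.assoc, pullback.condition, Category.assoc, ← specMap_comp]
  have hWi : (ξ'.baseChange p).i ≫ pullback.fst ξ'.f (specMap p) ≫ a₁ = η.i := by
    rw [← Category.assoc, DefSch.baseChange_i_fst, hi₁]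
  let κ := isoOfHom hIso (p₁ ≫ p) η (ξ'.baseChange p) _ hWf hWi
  have hκ₁ : κ.iso.hom ≫ pullback.fst η.f (specMap (p₁ ≫ p)) = pullback.fst ξ'.f (specMap p) ≫ a₁ :=
    isoOfHom_hom_fst hIso (p₁ ≫ p) η (ξ'.baseChange p) _ hWf hWi
  have hκ₂ : κ.iso.hom ≫ pullback.snd η.f (specMap (p₁ ≫ p)) = pullback.snd ξ'.f (specMap p) := κ.hom_f
  have hα's : α'.iso.inv ≫ pullback.snd ξ'.f (specMap p) = pullback.snd ξ'.f (specMap p) := by
    rw [Iso.inv_comp_eq]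
    exact α'.hom_f.symm
  have key2 : (β₂.baseChange p).iso.hom ≫ α'.iso.inv = (β₁.baseChange p).iso.hom := by
    rw [← cancel_mono κ.iso.hom]
    apply pullback.hom_ext
    · simp only [Category.assoc, hκ₁]
      simpa only [Category.assoc] using key
    · simp only [Category.assoc, hκ₂, hα's]
      rw [baseChange_hom_snd, baseChange_hom_snd]
  refine ⟨β₁.symm.trans β₂, ?_⟩
  apply iso_ext
  have h3 : α'.iso.hom = (β₁.baseChange p).iso.inv ≫ (β₂.baseChange p).iso.hom := by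
    rw [Iso.eq_inv_comp, ← key2, Category.assoc, Iso.inv_hom_id, Category.comp_id]
  have h4 : (β₁.baseChange p).iso.inv = (β₁.symm.baseChange p).iso.hom := rfl
  rw [h3, h4]
  apply pullback.hom_ext
  · rw [baseChange_hom_fst, Category.assoc, baseChange_hom_fst, ← Category.assoc,
      baseChange_hom_fst, Category.assoc]
    rfl
  · rw [baseChange_hom_snd, Category.assoc, baseChange_hom_snd, baseChange_hom_snd]

end Groth.Agent.R2.H56.DefxAut
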