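import Mathlib.Algebra.Ring.Subring.Basic
import Mathlib.RingTheory.Ideal.Quotient.Operations

/-!
# A sealed fibre product of commutative rings (helper56)

ns `Groth.Agent.R2.H56.FibProd`: `FibProd f g` is the fibre product `A ×_C B` of `f : A →+* C` and `g : B →+* C`, as a
type of its own with one `CommRing` instance (so that no instance diamonds of `Subring` leak), with `fst`, `snd`,
`mk`, `ext`, `lift`.
-/

set_option autoImplicit false

universe u

namespace Groth.Agent.R2.H56

variable {A B C : Type u} [CommRing A] [CommRing B] [CommRing C]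

/-- The fibre product `A ×_C B`. -/
def FibProd (f : A →+* C) (g : B →+* C) : Type u :=
  ↥(RingHom.eqLocus (f.comp (RingHom.fst A B)) (g.comp (RingHom.snd A B)))

namespace FibProd

variable {f : A →+* C} {g : B →+* C}

instance : CommRing (FibProd f g) :=
  inferInstanceAs (CommRing ↥(RingHom.eqLocus (f.comp (RingHom.fst A B)) (g.comp (RingHom.snd A B))))

/-- first projection -/
def fst : FibProd f g →+* A :=
  (RingHom.fst A B).comp (Subring.subtype (RingHom.eqLocus (f.comp (RingHom.fst A B)) (g.comp (RingHom.snd A B))))

/-- second projection -/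
def snd : FibProd f g →+* B :=
  (RingHom.snd A B).comp (Subring.subtype (RingHom.eqLocus (f.comp (RingHom.fst A B)) (g.comp (RingHom.snd A B))))

theorem cond (x : FibProd f g) : f (fst x) = g (snd x) := x.2

/-- constructor -/
def mk (a : A) (b : B) (h : f a = g b) : FibProd f g := ⟨(a, b), h⟩

@[simp] theorem fst_mk (a : A) (b : B) (h : f a = g b) : fst (mk a b h) = a := rfl
@[simp] theorem snd_mk (a : A) (b : B) (h : f a = g b) : snd (mk a b h) = b := rfl

theorem ext {x y : FibProd f g} (h1 : fst x = fst y) (h2 : snd x = snd y) : x = y :=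
  Subtype.ext (Prod.ext h1 h2)

/-- universal property -/
def lift {R : Type u} [CommRing R] (u : R →+* A) (v : R →+* B) (h : ∀ r, f (u r) = g (v r)) :
    R →+* FibProd f g :=
  (RingHom.prod u v).codRestrict
    (RingHom.eqLocus (f.comp (RingHom.fst A B)) (g.comp (RingHom.snd A B))) h

@[simp] theorem fst_lift {R : Type u} [CommRing R] (u : R →+* A) (v : R →+* B)
    (h : ∀ r, f (u r) = g (v r)) (r : R) : fst (lift u v h r) = u r := rfl

@[simp] theorem snd_lift {R : Type u} [CommRing R] (u : R →+* A) (v : R →+* B)
    (h : ∀ r, f (u r) = g (v r)) (r : R) : snd (lift u v h r) = v r := rfl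

theorem exists_of_fst (hg : Function.Surjective g) (a : A) : ∃ x : FibProd f g, fst x = a := by
  obtain ⟨b, hb⟩ := hg (f a)
  exact ⟨mk a b hb.symm, rfl⟩

theorem exists_of_snd (hf : Function.Surjective f) (b : B) : ∃ x : FibProd f g, snd x = b := by
  obtain ⟨a, ha⟩ := hf (g b)
  exact ⟨mk a b ha, rfl⟩

theorem fst_surjective (hg : Function.Surjective g) : Function.Surjective (fst (f := f) (g := g)) :=
  exists_of_fst hg

theorem snd_surjective (hf : Function.Surjective f) : Function.Surjective (snd (f := f) (g := g)) :=
  exists_of_snd hf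

end FibProd

end Groth.Agent.R2.H56
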