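import Groth.Agent.S2020
import Groth.Agent.R2.H56FibProd
import Groth.Agent.R2.H56FlatNil

/-!
# Gluing flat algebras over a fibre product of rings (helper56)

ns `Groth.Agent.R2.H56.Glue`.  For a fibre square of rings `B = A₁ ×_A A₂` with `A₂ → A` surjective, flat algebras `R₁/A₁`, `R₂/A₂`
and an `A`-algebra `R₀` which is the base change of both (`IsBC`), the fibre product `R₁ ×_{R₀} R₂` is flat over `B`
(`glue_flat_and_ker`, via Milnor patching, prior S2019/S2020), and the elements with vanishing first component lie in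
`ker(B → A₁) · (R₁ ×_{R₀} R₂)`.
-/

set_option autoImplicit false
set_option linter.style.haveILetI false

universe u

open TensorProduct

namespace Groth.Agent.R2.H56.Glue

section IsBC

variable {A A' R R' : Type u} [CommRing A] [CommRing A'] [CommRing R] [CommRing R']

/-- `ψ : R → R'` as an `A`-linear map, `R'` being an `A`-module through `A → A' → R'`. -/
noncomputable def linOf (f : A →+* A') (φ : A →+* R) (φ' : A' →+* R') (ψ : R →+* R')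
    (h : ∀ a, ψ (φ a) = φ' (f a)) :
    @LinearMap A A _ _ (RingHom.id A) R R' _ _ φ.toAlgebra.toModule (φ'.comp f).toAlgebra.toModule :=
  letI := φ.toAlgebra
  letI : Algebra A R' := (φ'.comp f).toAlgebra
  { toFun := ψ
    map_add' := map_add ψ
    map_smul' := fun a r => by
      change ψ (φ a * r) = φ' (f a) * ψ r
      rw [map_mul, h] }

/-- `R'` is the base change of `R` along `f : A → A'`, through `ψ`. -/
def IsBC (f : A →+* A') (φ : A →+* R) (φ' : A' →+* R') (ψ : R →+* R') : Prop :=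
  ∃ h : ∀ a, ψ (φ a) = φ' (f a),
    letI := f.toAlgebra
    letI := φ.toAlgebra
    letI := φ'.toAlgebra
    letI : Algebra A R' := (φ'.comp f).toAlgebra
    haveI : IsScalarTower A A' R' := IsScalarTower.of_algebraMap_eq (fun _ => rfl)
    IsBaseChange A' (linOf f φ φ' ψ h)

theorem IsBC.comm {f : A →+* A'} {φ : A →+* R} {φ' : A' →+* R'} {ψ : R →+* R'} (h : IsBC f φ φ' ψ) (a : A) :
    ψ (φ a) = φ' (f a) := h.1 a

/-- If `f` is surjective then so is `ψ`. -/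
theorem IsBC.surjective {f : A →+* A'} {φ : A →+* R} {φ' : A' →+* R'} {ψ : R →+* R'} (h : IsBC f φ φ' ψ)
    (hf : Function.Surjective f) : Function.Surjective ψ := by
  obtain ⟨h0, hb⟩ := h
  letI := f.toAlgebra
  letI := φ.toAlgebra
  letI := φ'.toAlgebra
  letI : Algebra A R' := (φ'.comp f).toAlgebra
  haveI : IsScalarTower A A' R' := IsScalarTower.of_algebraMap_eq (fun _ => rfl)
  intro y
  induction y using hb.inductionOn with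
  | zero => exact ⟨0, map_zero ψ⟩
  | tmul m => exact ⟨m, rfl⟩
  | smul s n hn =>
    obtain ⟨r, rfl⟩ := hn
    obtain ⟨a, rfl⟩ := hf s
    refine ⟨φ a * r, ?_⟩
    rw [map_mul, h0]
    rfl
  | add n₁ n₂ h₁ h₂ =>
    obtain ⟨r₁, rfl⟩ := h₁
    obtain ⟨r₂, rfl⟩ := h₂
    exact ⟨r₁ + r₂, map_add ψ _ _⟩

end IsBC

section Main

variable {B A₁ A₂ A R₁ R₂ R₀ : Type u} [CommRing B] [CommRing A₁] [CommRing A₂] [CommRing A]
  [CommRing R₁] [CommRing R₂] [CommRing R₀]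
  (p₁ : B →+* A₁) (p₂ : B →+* A₂) (f₁ : A₁ →+* A) (f₂ : A₂ →+* A)
  (φ₁ : A₁ →+* R₁) (φ₂ : A₂ →+* R₂) (φ₀ : A →+* R₀) (ψ₁ : R₁ →+* R₀) (ψ₂ : R₂ →+* R₀)

/-- The structure map `B → R₁ ×_{R₀} R₂`. -/
noncomputable def glueMap (hw : ∀ b, f₁ (p₁ b) = f₂ (p₂ b)) (h₁ : ∀ a, ψ₁ (φ₁ a) = φ₀ (f₁ a))
    (h₂ : ∀ a, ψ₂ (φ₂ a) = φ₀ (f₂ a)) : B →+* FibProd ψ₁ ψ₂ :=
  FibProd.lift (φ₁.comp p₁) (φ₂.comp p₂) (fun b => by
    rw [RingHom.comp_apply, RingHom.comp_apply, h₁, h₂, hw])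

theorem fst_glueMap (hw : ∀ b, f₁ (p₁ b) = f₂ (p₂ b)) (h₁ : ∀ a, ψ₁ (φ₁ a) = φ₀ (f₁ a))
    (h₂ : ∀ a, ψ₂ (φ₂ a) = φ₀ (f₂ a)) (b : B) :
    FibProd.fst (glueMap p₁ p₂ f₁ f₂ φ₁ φ₂ φ₀ ψ₁ ψ₂ hw h₁ h₂ b) = φ₁ (p₁ b) := rfl

theorem snd_glueMap (hw : ∀ b, f₁ (p₁ b) = f₂ (p₂ b)) (h₁ : ∀ a, ψ₁ (φ₁ a) = φ₀ (f₁ a))
    (h₂ : ∀ a, ψ₂ (φ₂ a) = φ₀ (f₂ a)) (b : B) :
    FibProd.snd (glueMap p₁ p₂ f₁ f₂ φ₁ φ₂ φ₀ ψ₁ ψ₂ hw h₁ h₂ b) = φ₂ (p₂ b) := rfl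

set_option maxHeartbeats 1600000 in
/-- Milnor patching for flat algebras: the glued algebra is flat over the fibre product ring, and its elements with
vanishing first component lie in `ker p₁ · G`. -/
theorem glue_flat_and_ker (hw : ∀ b, f₁ (p₁ b) = f₂ (p₂ b))
    (hinj : ∀ b b' : B, p₁ b = p₁ b' → p₂ b = p₂ b' → b = b')
    (hsurj : ∀ a₁ a₂, f₁ a₁ = f₂ a₂ → ∃ b, p₁ b = a₁ ∧ p₂ b = a₂)
    (hf₂ : Function.Surjective f₂) (hφ₁ : φ₁.Flat) (hφ₂ : φ₂.Flat)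
    (hc₁ : IsBC f₁ φ₁ φ₀ ψ₁) (hc₂ : IsBC f₂ φ₂ φ₀ ψ₂) :
    (glueMap p₁ p₂ f₁ f₂ φ₁ φ₂ φ₀ ψ₁ ψ₂ hw hc₁.1 hc₂.1).Flat ∧
      ∀ x : FibProd ψ₁ ψ₂, FibProd.fst x = 0 →
        x ∈ Ideal.map (glueMap p₁ p₂ f₁ f₂ φ₁ φ₂ φ₀ ψ₁ ψ₂ hw hc₁.1 hc₂.1) (RingHom.ker p₁) := by
  obtain ⟨h₁, hb₁⟩ := hc₁
  obtain ⟨h₂, hb₂⟩ := hc₂
  set γ := glueMap p₁ p₂ f₁ f₂ φ₁ φ₂ φ₀ ψ₁ ψ₂ hw h₁ h₂ with hγ
  letI aBA₁ : Algebra B A₁ := p₁.toAlgebra
  letI aBA₂ : Algebra B A₂ := p₂.toAlgebra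
  letI aA₁A : Algebra A₁ A := f₁.toAlgebra
  letI aA₂A : Algebra A₂ A := f₂.toAlgebra
  letI aBA : Algebra B A := (f₁.comp p₁).toAlgebra
  haveI : IsScalarTower B A₁ A := IsScalarTower.of_algebraMap_eq (fun _ => rfl)
  haveI : IsScalarTower B A₂ A := IsScalarTower.of_algebraMap_eq (fun b => hw b)
  letI aA₁R₁ : Algebra A₁ R₁ := φ₁.toAlgebra
  letI aBR₁ : Algebra B R₁ := (φ₁.comp p₁).toAlgebra
  haveI : IsScalarTower B A₁ R₁ := IsScalarTower.of_algebraMap_eq (fun _ => rfl)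
  letI aA₂R₂ : Algebra A₂ R₂ := φ₂.toAlgebra
  letI aBR₂ : Algebra B R₂ := (φ₂.comp p₂).toAlgebra
  haveI : IsScalarTower B A₂ R₂ := IsScalarTower.of_algebraMap_eq (fun _ => rfl)
  letI aAR₀ : Algebra A R₀ := φ₀.toAlgebra
  letI aA₁R₀ : Algebra A₁ R₀ := (φ₀.comp f₁).toAlgebra
  letI aA₂R₀ : Algebra A₂ R₀ := (φ₀.comp f₂).toAlgebra
  haveI : IsScalarTower A₁ A R₀ := IsScalarTower.of_algebraMap_eq (fun _ => rfl)
  haveI : IsScalarTower A₂ A R₀ := IsScalarTower.of_algebraMap_eq (fun _ => rfl)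
  have hsq : EtMil.IsFibreSquare B A₁ A₂ A := by
    refine ⟨hf₂, fun a₁ a₂ h => ?_⟩
    obtain ⟨b, hb1, hb2⟩ := hsurj a₁ a₂ h
    exact ⟨b, ⟨hb1, hb2⟩, fun b' hb' => hinj b' b (hb'.1.trans hb1.symm) (hb'.2.trans hb2.symm)⟩
  let e₁ : A ⊗[A₁] R₁ ≃ₗ[A] R₀ := hb₁.equiv
  let e₂ : A ⊗[A₂] R₂ ≃ₗ[A] R₀ := hb₂.equiv
  have he₁ : ∀ r : R₁, e₁ ((1 : A) ⊗ₜ[A₁] r) = ψ₁ r := fun r => by
    have := hb₁.equiv_tmul (1 : A) r
    rw [one_smul] at this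
    exact this
  have he₂ : ∀ r : R₂, e₂ ((1 : A) ⊗ₜ[A₂] r) = ψ₂ r := fun r => by
    have := hb₂.equiv_tmul (1 : A) r
    rw [one_smul] at this
    exact this
  let φM : A ⊗[A₁] R₁ ≃ₗ[A] A ⊗[A₂] R₂ := e₁.trans e₂.symm
  have hmem : ∀ x : R₁ × R₂, x ∈ EtMil.glue B φM ↔ ψ₁ x.1 = ψ₂ x.2 := by
    intro x
    change e₂.symm (e₁ ((1 : A) ⊗ₜ[A₁] x.1)) = (1 : A) ⊗ₜ[A₂] x.2 ↔ _
    rw [LinearEquiv.symm_apply_eq, he₁, he₂]
  have hflat : Module.Flat B ↥(EtMil.glue B φM) :=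
    (Groth.Agent.S2020.result B A₁ A₂ A hsq).1 R₁ R₂ φM hφ₁ hφ₂
  letI aBG : Algebra B (FibProd ψ₁ ψ₂) := γ.toAlgebra
  let toG : ↥(EtMil.glue B φM) →ₗ[B] FibProd ψ₁ ψ₂ :=
    { toFun := fun x => FibProd.mk x.1.1 x.1.2 ((hmem x.1).1 x.2)
      map_add' := fun x y => FibProd.ext rfl rfl
      map_smul' := fun b x => FibProd.ext rfl rfl }
  have htoG : Function.Bijective toG := by
    constructor
    · intro x y hxy
      apply Subtype.ext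
      apply Prod.ext
      · exact congrArg FibProd.fst hxy
      · exact congrArg FibProd.snd hxy
    · intro g
      exact ⟨⟨(FibProd.fst g, FibProd.snd g), (hmem _).2 (FibProd.cond g)⟩, FibProd.ext rfl rfl⟩
  refine ⟨?_, ?_⟩
  · change Module.Flat B (FibProd ψ₁ ψ₂)
    exact Module.Flat.of_linearEquiv (LinearEquiv.ofBijective toG htoG).symm
  · intro x hx
    obtain ⟨y, rfl⟩ := htoG.2 x
    have hy : (y : R₁ × R₂).1 = 0 := hx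
    have hmemy := Groth.Agent.Lib.Helper22.glue_mem_smul_of_fst_eq_zero φM hsq y hy
    refine Submodule.smul_induction_on hmemy ?_ ?_
    · intro j hj z _
      rw [map_smul]
      change γ j * toG z ∈ _
      exact Ideal.mul_mem_right _ _ (Ideal.mem_map_of_mem γ hj)
    · intro a b ha hb
      rw [map_add]
      exact Ideal.add_mem _ ha hb

end Main

end Groth.Agent.R2.H56.Glue
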