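import Mathlib
import Groth.Agent.R2.H56Glue
import Groth.Agent.R2.H56AffDefAlg
import Groth.Agent.Lib.Helper22FerrandBC5

/-!
# PROJ:defx — chart-level Milnor patching for a Ferrand pushout over a fibre product of rings (helper56)

ns `Groth.Agent.R2.H56.DefxChart`.  Abstract situation: rings `B = A₁ ×_A A₂` (`A₂ → A` surjective), schemes `X₂/A₂`, `X₁/A₁` flat,
`Z = X₂ ×_{A₂} A = X₁ ×_{A₁} A`, `i : Z ⟶ X₂` a closed immersion, a pushout `P` of `(i, j)` with charts (Lib `Helper22FerrandFT.Charts`)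
and `r : P ⟶ Spec B`.  Then `flat_r : Flat r` and `isPullback_b : IsPullback b g₁ r (sp p₁)`.
-/

set_option autoImplicit false
set_option linter.style.haveILetI false
set_option linter.unusedSectionVars false
universe u

open CategoryTheory CategoryTheory.Limits AlgebraicGeometry

namespace Groth.Agent.R2.H56.DefxChart

open Groth.Agent.Lib.Helper22.Ferrand Groth.Agent.Lib.Helper22.SpPO Groth.Agent.R2.H56.Glue
open Groth.Agent.R2.H56

section Ring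

variable {A A' R R' : Type u} [CommRing A] [CommRing A'] [CommRing R] [CommRing R']

/-- a pushout square of commutative rings is a base change square. -/
theorem isBC_of_isPushout (f : A →+* A') (φ : A →+* R) (φ' : A' →+* R') (ψ : R →+* R')
    (h : IsPushout (CommRingCat.ofHom f) (CommRingCat.ofHom φ) (CommRingCat.ofHom φ')
      (CommRingCat.ofHom ψ)) : IsBC f φ φ' ψ := by
  have hcomm : ∀ a, ψ (φ a) = φ' (f a) := fun a => by
    have := congrArg (fun g => g.hom a) h.w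
    simpa using this.symm
  refine ⟨hcomm, ?_⟩
  letI := f.toAlgebra
  letI := φ.toAlgebra
  letI := φ'.toAlgebra
  letI : Algebra A R' := (φ'.comp f).toAlgebra
  letI : Algebra R R' := ψ.toAlgebra
  haveI : IsScalarTower A A' R' := IsScalarTower.of_algebraMap_eq (fun _ => rfl)
  haveI : IsScalarTower A R R' := IsScalarTower.of_algebraMap_eq (fun a => (hcomm a).symm)
  have h' : Algebra.IsPushout A A' R R' := CommRingCat.isPushout_iff_isPushout.mp h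
  exact h'.out

end Ring

section Chart

variable {B A₁ A₂ A : Type u} [CommRing B] [CommRing A₁] [CommRing A₂] [CommRing A]
  (p₁ : B →+* A₁) (p₂ : B →+* A₂) (f₁ : A₁ →+* A) (f₂ : A₂ →+* A)
  {X₂ X₁ Z P : Scheme.{u}} (i : Z ⟶ X₂) [IsClosedImmersion i] (j : Z ⟶ X₁)
  (s : Z ⟶ Spec (CommRingCat.of A))
  (g₂ : X₂ ⟶ Spec (CommRingCat.of A₂)) (g₁ : X₁ ⟶ Spec (CommRingCat.of A₁))

theorem pbZj (k : AdPair i j) : IsPullback k.cZ (sp k.q) j k.cY := by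
  refine (IsOpenImmersion.isPullback (sp k.q) k.cZ k.cY j k.cZ_j ?_).flip
  show j ⁻¹ᵁ k.hV.fromSpec.opensRange = k.hW.fromSpec.opensRange
  rw [k.hV.opensRange_fromSpec, k.hW.opensRange_fromSpec]
  exact k.eq.symm

/-- the structure map `A₂ → Γ(X₂, U)` of a chart -/
noncomputable def φ₂ (k : AdPair i j) : A₂ →+* k.A' := (Spec.preimage (k.cX ≫ g₂)).hom

theorem sp_φ₂ (k : AdPair i j) : sp (φ₂ i j g₂ k) = k.cX ≫ g₂ := Spec.map_preimage _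

/-- the structure map `A₁ → Γ(X₁, V)` of a chart -/
noncomputable def φ₁ (k : AdPair i j) : A₁ →+* k.B := (Spec.preimage (k.cY ≫ g₁)).hom

theorem sp_φ₁ (k : AdPair i j) : sp (φ₁ i j g₁ k) = k.cY ≫ g₁ := Spec.map_preimage _

/-- the structure map `A → Γ(Z, W)` of a chart -/
noncomputable def φ₀ (k : AdPair i j) : A →+* k.A := (Spec.preimage (k.cZ ≫ s)).hom

theorem sp_φ₀ (k : AdPair i j) : sp (φ₀ i j s k) = k.cZ ≫ s := Spec.map_preimage _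

theorem flat_φ₂ [Flat g₂] (k : AdPair i j) : (φ₂ i j g₂ k).Flat := by
  have : Flat (sp (φ₂ i j g₂ k)) := by rw [sp_φ₂]; infer_instance
  exact Flat.SpecMap_iff.mp this

theorem flat_φ₁ [Flat g₁] (k : AdPair i j) : (φ₁ i j g₁ k).Flat := by
  have : Flat (sp (φ₁ i j g₁ k)) := by rw [sp_φ₁]; infer_instance
  exact Flat.SpecMap_iff.mp this

theorem isBC₂ (h₂ : IsPullback i s g₂ (sp f₂)) (k : AdPair i j) :
    IsBC f₂ (φ₂ i j g₂ k) (φ₀ i j s k) k.p := by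
  apply isBC_of_isPushout
  have h : IsPullback (sp k.p) (sp (φ₀ i j s k)) (sp (φ₂ i j g₂ k)) (sp f₂) := by
    rw [sp_φ₀, sp_φ₂]
    exact ((pbZ i j k).flip.paste_vert h₂)
  exact (IsPullback.of_map_of_faithful Scheme.Spec (f := (CommRingCat.ofHom k.p).op)
    (g := (CommRingCat.ofHom (φ₀ i j s k)).op) (h := (CommRingCat.ofHom (φ₂ i j g₂ k)).op)
    (i := (CommRingCat.ofHom f₂).op) h).unop

theorem isBC₁ (h₁ : IsPullback j s g₁ (sp f₁)) (k : AdPair i j) :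
    IsBC f₁ (φ₁ i j g₁ k) (φ₀ i j s k) k.q := by
  apply isBC_of_isPushout
  have h : IsPullback (sp k.q) (sp (φ₀ i j s k)) (sp (φ₁ i j g₁ k)) (sp f₁) := by
    rw [sp_φ₀, sp_φ₁]
    exact ((pbZj i j k).flip.paste_vert h₁)
  exact (IsPullback.of_map_of_faithful Scheme.Spec (f := (CommRingCat.ofHom k.q).op)
    (g := (CommRingCat.ofHom (φ₀ i j s k)).op) (h := (CommRingCat.ofHom (φ₁ i j g₁ k)).op)
    (i := (CommRingCat.ofHom f₁).op) h).unop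

variable (hw : ∀ b, f₁ (p₁ b) = f₂ (p₂ b))
  (h₁ : IsPullback j s g₁ (sp f₁)) (h₂ : IsPullback i s g₂ (sp f₂))

/-- the structure map `B → Γ(X₁,V) ×_{Γ(Z,W)} Γ(X₂,U)` of a chart -/
noncomputable def γ (k : AdPair i j) : B →+* k.R :=
  glueMap p₁ p₂ f₁ f₂ (φ₁ i j g₁ k) (φ₂ i j g₂ k) (φ₀ i j s k) k.q k.p hw
    (isBC₁ f₁ i j s g₁ h₁ k).1 (isBC₂ f₂ i j s g₂ h₂ k).1

theorem φB_γ (k : AdPair i j) :
    k.φB.comp (γ p₁ p₂ f₁ f₂ i j s g₂ g₁ hw h₁ h₂ k) = (φ₁ i j g₁ k).comp p₁ := rfl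

theorem φA_γ (k : AdPair i j) :
    k.φA.comp (γ p₁ p₂ f₁ f₂ i j s g₂ g₁ hw h₁ h₂ k) = (φ₂ i j g₂ k).comp p₂ := rfl

variable {a : X₂ ⟶ P} {b : X₁ ⟶ P} (ch : Charts i j a b) (r : P ⟶ Spec (CommRingCat.of B))
  (ha : a ≫ r = g₂ ≫ sp p₂) (hb : b ≫ r = g₁ ≫ sp p₁)

include ha hb in
theorem c_r (k : AdPair i j) : ch.c k ≫ r = sp (γ p₁ p₂ f₁ f₂ i j s g₂ g₁ hw h₁ h₂ k) := by
  apply (isPushout_of_FS k.fs k.p_surjective).hom_ext
  · rw [← Category.assoc, ← ch.cX_a k, Category.assoc, ha, ← Category.assoc, ← sp_φ₂, sp_comp,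
      sp_comp, φA_γ]
  · rw [← Category.assoc, ← ch.cY_b k, Category.assoc, hb, ← Category.assoc, ← sp_φ₁, sp_comp,
      sp_comp, φB_γ]

variable (hinj : ∀ b b' : B, p₁ b = p₁ b' → p₂ b = p₂ b' → b = b')
  (hsurj : ∀ a₁ a₂, f₁ a₁ = f₂ a₂ → ∃ b, p₁ b = a₁ ∧ p₂ b = a₂)
  (hf₂ : Function.Surjective f₂) [Flat g₁] [Flat g₂]

include hinj hsurj hf₂ in
theorem glue_aux (k : AdPair i j) :
    (γ p₁ p₂ f₁ f₂ i j s g₂ g₁ hw h₁ h₂ k).Flat ∧
      ∀ x : k.R, k.φB x = 0 →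
        x ∈ Ideal.map (γ p₁ p₂ f₁ f₂ i j s g₂ g₁ hw h₁ h₂ k) (RingHom.ker p₁) :=
  glue_flat_and_ker p₁ p₂ f₁ f₂ (φ₁ i j g₁ k) (φ₂ i j g₂ k) (φ₀ i j s k) k.q k.p hw hinj hsurj hf₂
    (flat_φ₁ i j g₁ k) (flat_φ₂ i j g₂ k) (isBC₁ f₁ i j s g₁ h₁ k) (isBC₂ f₂ i j s g₂ h₂ k)

set_option backward.isDefEq.respectTransparency.types false in
include hinj hsurj hf₂ ha hb hw h₁ h₂ ch in
/-- the pushout is flat over `Spec B`. -/
theorem flat_r : Flat r := by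
  choose k hz using ch.cover
  let 𝒰 : P.OpenCover := Scheme.Cover.mkOfCovers P (fun z => Spec (CommRingCat.of (k z).R))
    (fun z => ch.c (k z)) (fun z => ⟨z, hz z⟩) (fun z => inferInstance)
  apply IsZariskiLocalAtSource.of_openCover 𝒰
  intro z'
  obtain ⟨z, rfl⟩ : ∃ z : P, z = z' := ⟨z', rfl⟩
  show Flat (ch.c (k z) ≫ r)
  rw [c_r p₁ p₂ f₁ f₂ i j s g₂ g₁ hw h₁ h₂ ch r ha hb (k z)]
  exact Flat.SpecMap_iff.mpr (glue_aux p₁ p₂ f₁ f₂ i j s g₂ g₁ hw h₁ h₂ hinj hsurj hf₂ (k z)).1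

include hsurj hf₂ in
theorem p₁_surjective : Function.Surjective p₁ := by
  intro a₁
  obtain ⟨a₂, ha₂⟩ := hf₂ (f₁ a₁)
  obtain ⟨b, hb, -⟩ := hsurj a₁ a₂ ha₂.symm
  exact ⟨b, hb⟩

include hinj hsurj hf₂ in
theorem isPullback_chart (k : AdPair i j) :
    IsPullback (sp k.φB) (sp (φ₁ i j g₁ k)) (sp (γ p₁ p₂ f₁ f₂ i j s g₂ g₁ hw h₁ h₂ k)) (sp p₁) := by
  have hker : RingHom.ker k.φB ≤
      Ideal.map (γ p₁ p₂ f₁ f₂ i j s g₂ g₁ hw h₁ h₂ k) (RingHom.ker p₁) := fun x hx =>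
    (glue_aux p₁ p₂ f₁ f₂ i j s g₂ g₁ hw h₁ h₂ hinj hsurj hf₂ k).2 x hx
  have hpo := Groth.Agent.R2.H56.AffDefAlg.isPushout_of_surjective p₁ (γ p₁ p₂ f₁ f₂ i j s g₂ g₁ hw h₁ h₂ k) (φ₁ i j g₁ k) k.φB
    (φB_γ p₁ p₂ f₁ f₂ i j s g₂ g₁ hw h₁ h₂ k) (p₁_surjective p₁ p₂ f₁ f₂ hsurj hf₂)
    (k.fs.surjective_fst k.p_surjective) hker
  exact isPullback_SpecMap_of_isPushout _ _ _ _ hpo.flip

include hinj hsurj hf₂ ha hb hw h₁ h₂ ch in
/-- `X₁` is the base change of the pushout to `Spec A₁`. -/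
theorem isPullback_b : IsPullback b g₁ r (sp p₁) := by
  choose k hz using ch.cover
  let 𝒰 : P.OpenCover := Scheme.Cover.mkOfCovers P (fun z => Spec (CommRingCat.of (k z).R))
    (fun z => ch.c (k z)) (fun z => ⟨z, hz z⟩) (fun z => inferInstance)
  apply Scheme.isPullback_of_openCover b g₁ r (sp p₁) 𝒰
  intro z'
  obtain ⟨z, rfl⟩ : ∃ z : P, z = z' := ⟨z', rfl⟩
  show IsPullback (pullback.snd b (ch.c (k z))) (pullback.fst b (ch.c (k z)) ≫ g₁)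
    (ch.c (k z) ≫ r) (sp p₁)
  have h1 : IsPullback (sp (k z).φB) ((k z).cY ≫ g₁) (ch.c (k z) ≫ r) (sp p₁) := by
    rw [← sp_φ₁, c_r p₁ p₂ f₁ f₂ i j s g₂ g₁ hw h₁ h₂ ch r ha hb (k z)]
    exact isPullback_chart p₁ p₂ f₁ f₂ i j s g₂ g₁ hw h₁ h₂ hinj hsurj hf₂ (k z)
  exact h1.of_iso (ch.pbY (k z)).isoPullback (Iso.refl _) (Iso.refl _) (Iso.refl _)
    (by simp) (by simp) (by simp) (by simp)

end Chart

end Groth.Agent.R2.H56.DefxChart
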