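import Mathlib
import Groth.Agent.R2.H56DefxSpec
import Groth.Agent.R2.H56DefxChart
import Groth.Agent.S0431

/-!
# PROJ:defx — PkgGlueFlat, PkgGluePb (helper56)

The Ferrand pushout of two deformations along an isomorphism of their restrictions is flat over `Spec (A₁ ×_A A₂)` and restricts
to the first deformation over `Spec A₁` (instantiating `R2/H56DefxChart`).
-/

set_option autoImplicit false
set_option linter.style.haveILetI false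
universe u

open CategoryTheory CategoryTheory.Limits AlgebraicGeometry ArtFun ArtFun.Art

namespace Groth.Agent.R2.H56.DefxGlue

open Groth.Agent.R2.H56.DefxSpec Groth.Agent.R2.H56.DefxChart
open Groth.Agent.Lib.Helper22.Ferrand Groth.Agent.Lib.Helper22.SpPO

variable {Λ : Type u} {k : Type u} [CommRing Λ] [Field k] [Algebra Λ k]
variable {X : Scheme.{u}} {x : X ⟶ specPt k}
variable {B A A₁ A₂ : Art Λ k}

theorem glue_main (p₁ : B ⟶ A₁) (p₂ : B ⟶ A₂) (f₁ : A₁ ⟶ A) (f₂ : A₂ ⟶ A)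
    (h : IsFibreProd p₁ p₂ f₁ f₂) (hf₂ : Function.Surjective f₂)
    (ξ₁ : DefSch X x A₁) (ξ₂ : DefSch X x A₂)
    (θ : DefSch.Iso (ξ₁.baseChange f₁) (ξ₂.baseChange f₂))
    (P : Scheme.{u}) (a₂ : ξ₂.total ⟶ P) (a₁ : ξ₁.total ⟶ P)
    (hPO : IsPushout (cornerI ξ₂ f₂) (cornerJ ξ₁ ξ₂ f₁ f₂ θ) a₂ a₁)
    (g : P ⟶ spec B) (hg₁ : a₁ ≫ g = ξ₁.f ≫ specMap p₁) (hg₂ : a₂ ≫ g = ξ₂.f ≫ specMap p₂) :
    Flat g ∧ IsPullback a₁ ξ₁.f g (specMap p₁) := by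
  haveI : IsClosedImmersion (specMap f₂) := IsClosedImmersion.spec_of_surjective _ hf₂
  haveI : Subsingleton (spec A₂) := inferInstanceAs (Subsingleton (PrimeSpectrum A₂))
  haveI : Nonempty (spec A) := inferInstanceAs (Nonempty (PrimeSpectrum A))
  haveI : Surjective (specMap f₂) := ⟨fun _ => ⟨Classical.arbitrary _, Subsingleton.elim _ _⟩⟩
  haveI : IsClosedImmersion (cornerI ξ₂ f₂) := by unfold cornerI; infer_instance
  haveI : Surjective (cornerI ξ₂ f₂) := by unfold cornerI; infer_instance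
  haveI : IsAffineHom (pullback.fst ξ₁.f (specMap f₁)) :=
    MorphismProperty.of_isPullback (P := @IsAffineHom) (IsPullback.of_hasPullback _ _).flip inferInstance
  haveI : IsAffineHom (cornerJ ξ₁ ξ₂ f₁ f₂ θ) := by unfold cornerJ; infer_instance
  have hY : ∀ y : ξ₁.total, ∃ k : AdPair (cornerI ξ₂ f₂) (cornerJ ξ₁ ξ₂ f₁ f₂ θ), y ∈ k.V :=
    fun y => Groth.Agent.S0431.exists_adPair (cornerI ξ₂ f₂) Surjective.surj (cornerJ ξ₁ ξ₂ f₁ f₂ θ) y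
  obtain ⟨ch⟩ := exists_charts_of_isPushout (cornerI ξ₂ f₂) (cornerJ ξ₁ ξ₂ f₁ f₂ θ) hY a₂ a₁ hPO
  have hsnd : θ.iso.inv ≫ pullback.snd ξ₁.f (specMap f₁) = pullback.snd ξ₂.f (specMap f₂) := by
    rw [Iso.inv_comp_eq]
    exact θ.hom_f.symm
  have h₂ : IsPullback (cornerI ξ₂ f₂) (pullback.snd ξ₂.f (specMap f₂)) ξ₂.f (specMap f₂) :=
    IsPullback.of_hasPullback _ _
  have h₁ : IsPullback (cornerJ ξ₁ ξ₂ f₁ f₂ θ) (pullback.snd ξ₂.f (specMap f₂)) ξ₁.f (specMap f₁) := by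
    refine (IsPullback.of_hasPullback ξ₁.f (specMap f₁)).of_iso θ.iso (Iso.refl _) (Iso.refl _)
      (Iso.refl _) ?_ ?_ ?_ ?_
    · unfold cornerJ
      rw [Iso.refl_hom, Category.comp_id, Iso.hom_inv_id_assoc]
    · rw [Iso.refl_hom, Category.comp_id, ← hsnd, Iso.hom_inv_id_assoc]
    · simp
    · simp
  exact ⟨flat_r p₁.toAlgHom.toRingHom p₂.toAlgHom.toRingHom f₁.toAlgHom.toRingHom f₂.toAlgHom.toRingHom
      (cornerI ξ₂ f₂) (cornerJ ξ₁ ξ₂ f₁ f₂ θ) (pullback.snd ξ₂.f (specMap f₂)) ξ₂.f ξ₁.f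
      (fun b => h.w_apply b) h₁ h₂ ch g hg₂ hg₁ h.inj h.surj hf₂,
    isPullback_b p₁.toAlgHom.toRingHom p₂.toAlgHom.toRingHom f₁.toAlgHom.toRingHom f₂.toAlgHom.toRingHom
      (cornerI ξ₂ f₂) (cornerJ ξ₁ ξ₂ f₁ f₂ θ) (pullback.snd ξ₂.f (specMap f₂)) ξ₂.f ξ₁.f
      (fun b => h.w_apply b) h₁ h₂ ch g hg₂ hg₁ h.inj h.surj hf₂⟩

theorem pkgGlueFlat : PkgGlueFlat.{u} := by
  intro Λ k _ _ _ X x B A A₁ A₂ p₁ p₂ f₁ f₂ h hf₂ ξ₁ ξ₂ θ P a₂ a₁ hPO g hg₁ hg₂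
  exact (glue_main p₁ p₂ f₁ f₂ h hf₂ ξ₁ ξ₂ θ P a₂ a₁ hPO g hg₁ hg₂).1

theorem pkgGluePb : PkgGluePb.{u} := by
  intro Λ k _ _ _ X x B A A₁ A₂ p₁ p₂ f₁ f₂ h hf₂ ξ₁ ξ₂ θ P a₂ a₁ hPO g hg₁ hg₂
  exact (glue_main p₁ p₂ f₁ f₂ h hf₂ ξ₁ ξ₂ θ P a₂ a₁ hPO g hg₁ hg₂).2

end Groth.Agent.R2.H56.DefxGlue
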