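import Mathlib
import Groth.Agent.Lib.Helper2Deform
import Groth.Agent.R2.H56DefxSpec

/-!
# PROJ:defx — PkgIso: a morphism of deformations is an isomorphism (helper56)
-/

set_option autoImplicit false
set_option linter.style.haveILetI false
universe u

open CategoryTheory CategoryTheory.Limits AlgebraicGeometry ArtFun ArtFun.Art

namespace Groth.Agent.R2.H56.DefxIso

open Groth.Agent.R2.H56.DefxSpec

variable {Λ : Type u} {k : Type u} [CommRing Λ] [Field k] [Algebra Λ k]

theorem isNilpotent_ker_res (A : Art Λ k) : IsNilpotent (RingHom.ker A.res.toRingHom) := by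
  have hle : RingHom.ker A.res.toRingHom ≤ IsLocalRing.maximalIdeal A :=
    IsLocalRing.le_maximalIdeal (RingHom.ker_ne_top _)
  obtain ⟨n, hn⟩ := IsArtinianRing.isNilpotent_jacobson_bot (R := A)
  rw [IsLocalRing.jacobson_eq_maximalIdeal ⊥ bot_ne_top] at hn
  refine ⟨n, ?_⟩
  have h1 := Ideal.pow_right_mono hle n
  rw [hn] at h1
  exact le_bot_iff.mp h1

theorem isFiniteOrderThickening_specRes (A : Art Λ k) :
    MoreMor.IsFiniteOrderThickening (specRes A) := by
  refine ⟨⟨IsClosedImmersion.spec_of_surjective _ A.res_surjective, ⟨fun x => ?_⟩⟩, ?_⟩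
  · haveI : Subsingleton (Spec (CommRingCat.of A)) :=
      inferInstanceAs (Subsingleton (PrimeSpectrum A))
    haveI : Inhabited (Spec (CommRingCat.of k)) := inferInstanceAs (Inhabited (PrimeSpectrum k))
    exact ⟨default, Subsingleton.elim _ _⟩
  · rw [Scheme.ker_of_isAffine, ← Scheme.IdealSheafData.equivOfIsAffine_symm_apply]
    apply IsNilpotent.map
    obtain ⟨n, hn⟩ := isNilpotent_ker_res A
    refine ⟨n, ?_⟩
    rw [Ideal.zero_eq_bot] at hn ⊢
    have hinjk : Function.Injective (Scheme.ΓSpecIso (CommRingCat.of k)).hom.hom :=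
      (ConcreteCategory.bijective_of_isIso (Scheme.ΓSpecIso (CommRingCat.of k)).hom).1
    have hinjA : Function.Injective (Scheme.ΓSpecIso (CommRingCat.of A)).hom.hom :=
      (ConcreteCategory.bijective_of_isIso (Scheme.ΓSpecIso (CommRingCat.of A)).hom).1
    have hker : RingHom.ker (Spec.map (CommRingCat.ofHom A.res.toRingHom)).appTop.hom =
        Ideal.comap (Scheme.ΓSpecIso (CommRingCat.of A)).hom.hom (RingHom.ker A.res.toRingHom) := by
      ext x
      rw [RingHom.mem_ker, Ideal.mem_comap, RingHom.mem_ker]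
      have hnat := Scheme.ΓSpecIso_naturality (CommRingCat.ofHom A.res.toRingHom)
      have h1 := congrArg (fun f => f.hom x) hnat
      simp only [CommRingCat.hom_comp, RingHom.comp_apply] at h1
      constructor
      · intro h
        rw [h, map_zero] at h1
        exact h1.symm
      · intro h
        apply hinjk
        rw [map_zero, h1]
        exact h
    rw [hker, eq_bot_iff]
    calc Ideal.comap (Scheme.ΓSpecIso (CommRingCat.of A)).hom.hom (RingHom.ker A.res.toRingHom) ^ n
        ≤ Ideal.comap (Scheme.ΓSpecIso (CommRingCat.of A)).hom.hom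
            (RingHom.ker A.res.toRingHom ^ n) := Ideal.le_comap_pow _ n
      _ = ⊥ := by
        rw [hn, ← RingHom.ker_eq_comap_bot]
        exact (RingHom.injective_iff_ker_eq_bot _).mp hinjA

theorem pkgIso : PkgIso.{u} := by
  intro Λ k _ _ _ X x A ξ ξ' φ hf hi
  have hS := isFiniteOrderThickening_specRes A
  have hcX : IsPullback ξ.i (𝟙 X ≫ x) (φ ≫ ξ'.f) (specRes A) := by
    rw [Category.id_comp, hf]
    exact ξ.isPullback
  have w : ξ.i ≫ φ = 𝟙 X ≫ ξ'.i := by rw [Category.id_comp, hi]
  haveI : Flat (φ ≫ ξ'.f) := by rw [hf]; infer_instance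
  exact Groth.Agent.Lib.Helper2.Deform.isIso_of_deform ξ.i ξ'.i (specRes A) (𝟙 X) φ x ξ'.f hS hcX
    ξ'.isPullback w

end Groth.Agent.R2.H56.DefxIso
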