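import Groth.Agent.R2.H56Glue
import Groth.Agent.R2.H56DefBC

/-!
# Gluing algebraic deformations over a fibre product of Artin rings (helper56)

ns `Groth.Agent.R2.H56.Hull`:
* `exists_rep`: every class of `Def_{Spec B₀}(A)` is the class of an algebraic deformation;
* `exists_hom_of_map_eq`: `F(g)[D] = [D']` gives a ring map `D.R → D'.R` over `g` compatible with the reductions;
* `isBC_of_hom`: such a ring map is cocartesian (`D'.R = A' ⊗_A D.R`);
* `glue`: the glued algebraic deformation over a fibre product `B = A₁ ×_A A₂` (`A₂ → A` surjective), with its projections.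
-/

set_option autoImplicit false
set_option linter.style.haveILetI false

universe u

open CategoryTheory CategoryTheory.Limits AlgebraicGeometry TensorProduct

namespace Groth.Agent.R2.H56.Hull

open ArtFun ArtFun.Art Groth.Agent.R2.H56.AffDef Groth.Agent.R2.H56.FlatNil Groth.Agent.R2.H56.Glue

variable {Λ k : Type u} [CommRing Λ] [Field k] [Algebra Λ k] {B₀ : Type u} [CommRing B₀] [Algebra k B₀]

/-- Every class is the class of an algebraic deformation. -/
theorem exists_rep {A : Art Λ k} (x : (defFunctor (Λ := Λ) (Spec (CommRingCat.of B₀)) (xB B₀)).obj A) :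
    ∃ D : AlgDef B₀ A, D.toDefSch.cl = x := by
  induction x using Quotient.inductionOn with
  | h ξ => exact ⟨ofDefSch ξ, Quotient.sound ⟨(isoToDefSchOfDefSch ξ).symm⟩⟩

section Hom

variable {A A' : Art Λ k} (g : A ⟶ A') (D : AlgDef B₀ A) (D' : AlgDef B₀ A')

/-- From `F(g)[D] = [D']` to a ring map over `g`. -/
theorem exists_hom_of_map_eq
    (h : (defFunctor (Λ := Λ) (Spec (CommRingCat.of B₀)) (xB B₀)).map g D.toDefSch.cl = D'.toDefSch.cl) :
    ∃ ψ : D.R →+* D'.R, (∀ a, ψ (D.φ a) = D'.φ (g a)) ∧ (∀ r, D'.π (ψ r) = D.π r) := by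
  obtain ⟨j⟩ := Quotient.exact h
  let u : Spec (CommRingCat.of D'.R) ⟶ Spec (CommRingCat.of D.R) :=
    j.iso.inv ≫ pullback.fst D.toDefSch.f (specMap g)
  have hu1 : u ≫ Spec.map (CommRingCat.ofHom D.φ) =
      Spec.map (CommRingCat.ofHom D'.φ) ≫ Spec.map (CommRingCat.ofHom g.toAlgHom.toRingHom) := by
    have h1 : j.iso.inv ≫ pullback.snd D.toDefSch.f (specMap g) = D'.toDefSch.f := j.symm.hom_f
    change (j.iso.inv ≫ pullback.fst D.toDefSch.f (specMap g)) ≫ D.toDefSch.f = D'.toDefSch.f ≫ specMap g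
    rw [Category.assoc, pullback.condition, ← Category.assoc, h1]
  have hu2 : Spec.map (CommRingCat.ofHom D'.π) ≫ u = Spec.map (CommRingCat.ofHom D.π) := by
    have h1 : D'.toDefSch.i ≫ j.iso.inv = (D.toDefSch.baseChange g).i := j.symm.i_hom
    change D'.toDefSch.i ≫ j.iso.inv ≫ pullback.fst D.toDefSch.f (specMap g) = D.toDefSch.i
    rw [← Category.assoc, h1]
    exact DefSch.baseChange_i_fst D.toDefSch g
  obtain ⟨ψc, hψc⟩ := Spec.map_surjective u
  refine ⟨ψc.hom, fun a => ?_, fun r => ?_⟩
  · have e : CommRingCat.ofHom D.φ ≫ ψc =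
        CommRingCat.ofHom g.toAlgHom.toRingHom ≫ CommRingCat.ofHom D'.φ := by
      apply Spec.map_injective
      rw [Spec.map_comp, Spec.map_comp, hψc]
      exact hu1
    exact congrArg (fun f => f.hom a) e
  · have e : ψc ≫ CommRingCat.ofHom D'.π = CommRingCat.ofHom D.π := by
      apply Spec.map_injective
      rw [Spec.map_comp, hψc]
      exact hu2
    exact congrArg (fun f => f.hom r) e

variable (ψ : D.R →+* D'.R) (hφ : ∀ a, ψ (D.φ a) = D'.φ (g a)) (hπ : ∀ r, D'.π (ψ r) = D.π r)

include hφ hπ in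
/-- A morphism of algebraic deformations over `g` is cocartesian. -/
theorem isBC_of_hom : IsBC g.toAlgHom.toRingHom D.φ D'.φ ψ := by
  refine ⟨hφ, ?_⟩
  letI aAA' : Algebra A A' := g.toAlgHom.toRingHom.toAlgebra
  letI aAR : Algebra A D.R := D.φ.toAlgebra
  letI aA'R' : Algebra A' D'.R := D'.φ.toAlgebra
  letI aAR' : Algebra A D'.R := (D'.φ.comp g.toAlgHom.toRingHom).toAlgebra
  haveI : IsScalarTower A A' D'.R := IsScalarTower.of_algebraMap_eq (fun _ => rfl)
  haveI hflat : Module.Flat A' D'.R := D'.flat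
  let ψL : D.R →ₗ[A] D'.R := linOf g.toAlgHom.toRingHom D.φ D'.φ ψ hφ
  let L : A' ⊗[A] D.R →ₗ[A'] D'.R := LinearMap.liftBaseChange A' ψL
  have hL : ∀ (a' : A') (r : D.R), L (a' ⊗ₜ[A] r) = D'.φ a' * ψ r := fun a' r => by
    change LinearMap.liftBaseChange A' ψL (a' ⊗ₜ[A] r) = _
    rw [LinearMap.liftBaseChange_tmul]
    rfl
  let I : Ideal A' := RingHom.ker A'.res.toRingHom
  obtain ⟨n, hn⟩ := exists_pow_ker_res_eq_bot A'
  -- every tensor is `1 ⊗ r` modulo `I`
  have hC : ∀ x : A' ⊗[A] D.R, ∃ r : D.R, x - (1 : A') ⊗ₜ[A] r ∈ I • (⊤ : Submodule A' (A' ⊗[A] D.R)) := by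
    intro x
    induction x using TensorProduct.induction_on with
    | zero => exact ⟨0, by rw [TensorProduct.tmul_zero, sub_zero]; exact zero_mem _⟩
    | tmul a' r =>
      obtain ⟨a, ha⟩ := A.res_surjective (A'.res a')
      refine ⟨D.φ a * r, ?_⟩
      have e1 : (1 : A') ⊗ₜ[A] (D.φ a * r) = (g a) ⊗ₜ[A] r := by
        have : D.φ a * r = a • r := rfl
        rw [this, ← TensorProduct.smul_tmul]
        congr 1
        change g a * 1 = g a
        rw [mul_one]
      have e2 : a' ⊗ₜ[A] r - (g a) ⊗ₜ[A] r = (a' - g a) • ((1 : A') ⊗ₜ[A] r) := by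
        rw [TensorProduct.smul_tmul', smul_eq_mul, mul_one, TensorProduct.sub_tmul]
      rw [e1, e2]
      refine Submodule.smul_mem_smul ?_ Submodule.mem_top
      rw [RingHom.mem_ker]
      change A'.res (a' - g a) = 0
      rw [map_sub, res_app, ha, sub_self]
    | add x y hx hy =>
      obtain ⟨r, hr⟩ := hx
      obtain ⟨s, hs⟩ := hy
      refine ⟨r + s, ?_⟩
      have : x + y - (1 : A') ⊗ₜ[A] (r + s) = (x - (1 : A') ⊗ₜ[A] r) + (y - (1 : A') ⊗ₜ[A] s) := by
        rw [TensorProduct.tmul_add]; abel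
      rw [this]
      exact Submodule.add_mem _ hr hs
  have hbij : Function.Bijective L := by
    refine bijective_of_flat_of_nilpotent L I n hn ?_ ?_
    · rw [eq_top_iff]
      intro y _
      obtain ⟨x, hx⟩ := D.surj (D'.π y)
      have h1 : y - ψ x ∈ I • (⊤ : Submodule A' D'.R) := by
        rw [D'.ker_π_eq_smul_top, map_sub, hπ, hx, sub_self]
      have h2 : ψ x = L ((1 : A') ⊗ₜ[A] x) := by rw [hL, map_one, one_mul]
      have : y = L ((1 : A') ⊗ₜ[A] x) + (y - ψ x) := by rw [← h2]; ring
      rw [this]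
      exact Submodule.add_mem_sup (LinearMap.mem_range_self L _) h1
    · intro x hx
      obtain ⟨r, hr⟩ := hC x
      have h1 : L (x - (1 : A') ⊗ₜ[A] r) ∈ I • (⊤ : Submodule A' D'.R) := by
        refine Submodule.smul_induction_on hr ?_ ?_
        · intro a ha m _
          rw [map_smul]
          exact Submodule.smul_mem_smul ha Submodule.mem_top
        · intro s t hs ht
          rw [map_add]
          exact Submodule.add_mem _ hs ht
      have h2 : ψ r ∈ I • (⊤ : Submodule A' D'.R) := by
        have e : ψ r = L x - L (x - (1 : A') ⊗ₜ[A] r) := by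
          rw [map_sub, hL, map_one, one_mul]; ring
        rw [e]
        exact Submodule.sub_mem _ hx h1
      rw [D'.ker_π_eq_smul_top, hπ] at h2
      have h3 : r ∈ RingHom.ker A.res.toRingHom • (⊤ : Submodule A D.R) := (D.ker_π_eq_smul_top r).2 h2
      have h4 : (1 : A') ⊗ₜ[A] r ∈ I • (⊤ : Submodule A' (A' ⊗[A] D.R)) := by
        refine Submodule.smul_induction_on h3 ?_ ?_
        · intro a ha s _
          have e : (1 : A') ⊗ₜ[A] (a • s) = (g a) • ((1 : A') ⊗ₜ[A] s) := by
            rw [← TensorProduct.smul_tmul, TensorProduct.smul_tmul', smul_eq_mul, mul_one]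
            congr 1
            change g a * 1 = g a
            rw [mul_one]
          rw [e]
          refine Submodule.smul_mem_smul ?_ Submodule.mem_top
          rw [RingHom.mem_ker]
          change A'.res (g a) = 0
          rw [res_app]
          exact ha
        · intro s t hs ht
          rw [TensorProduct.tmul_add]
          exact Submodule.add_mem _ hs ht
      have : x = (x - (1 : A') ⊗ₜ[A] r) + (1 : A') ⊗ₜ[A] r := by abel
      rw [this]
      exact Submodule.add_mem _ hr h4
  exact IsBaseChange.of_equiv (LinearEquiv.ofBijective L hbij) (fun x => by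
    change L ((1 : A') ⊗ₜ[A] x) = ψ x
    rw [hL, map_one, one_mul])

end Hom

end Groth.Agent.R2.H56.Hull
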