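import Groth.Agent.R2.H56HullA

/-!
# The deformation functor of an affine scheme satisfies (H0), (S1), (Hε) (helper56)

ns `Groth.Agent.R2.H56.Hull`: `glue` (glued algebraic deformation over `B = A₁ ×_A A₂`), `h0_defFunctor`, `s1_defFunctor`,
`heps_defFunctor` for `Def_{Spec B₀}` over any `Λ`.
-/

set_option autoImplicit false
set_option linter.style.haveILetI false

universe u

open CategoryTheory CategoryTheory.Limits AlgebraicGeometry TensorProduct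

namespace Groth.Agent.R2.H56.Hull

open ArtFun ArtFun.Art Groth.Agent.R2.H56.AffDef Groth.Agent.R2.H56.FlatNil Groth.Agent.R2.H56.Glue

variable {Λ k : Type u} [CommRing Λ] [Field k] [Algebra Λ k] {B₀ : Type u} [CommRing B₀] [Algebra k B₀]

section GlueDef

variable {B A A₁ A₂ : Art Λ k} {p₁ : B ⟶ A₁} {p₂ : B ⟶ A₂} {f₁ : A₁ ⟶ A} {f₂ : A₂ ⟶ A}
  (h : IsFibreProd p₁ p₂ f₁ f₂) (hf₂ : Function.Surjective f₂)
  (D₁ : AlgDef B₀ A₁) (D₂ : AlgDef B₀ A₂) (D₀ : AlgDef B₀ A)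
  (ψ₁ : D₁.R →+* D₀.R) (hφ₁ : ∀ a, ψ₁ (D₁.φ a) = D₀.φ (f₁ a)) (hπ₁ : ∀ r, D₀.π (ψ₁ r) = D₁.π r)
  (ψ₂ : D₂.R →+* D₀.R) (hφ₂ : ∀ a, ψ₂ (D₂.φ a) = D₀.φ (f₂ a)) (hπ₂ : ∀ r, D₀.π (ψ₂ r) = D₂.π r)

include h hf₂ in
theorem p₁_surjective : Function.Surjective p₁ := by
  intro a₁
  obtain ⟨a₂, ha₂⟩ := hf₂ (f₁ a₁)
  obtain ⟨b, hb, -⟩ := h.surj a₁ a₂ ha₂.symm
  exact ⟨b, hb⟩

/-- The structure map of the glued algebra. -/
noncomputable def glueφ : B →+* FibProd ψ₁ ψ₂ :=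
  glueMap p₁.toAlgHom.toRingHom p₂.toAlgHom.toRingHom f₁.toAlgHom.toRingHom f₂.toAlgHom.toRingHom
    D₁.φ D₂.φ D₀.φ ψ₁ ψ₂ (fun b => h.w_apply b) hφ₁ hφ₂

theorem fst_glueφ (b : B) : FibProd.fst (glueφ h D₁ D₂ D₀ ψ₁ hφ₁ ψ₂ hφ₂ b) = D₁.φ (p₁ b) := rfl

theorem snd_glueφ (b : B) : FibProd.snd (glueφ h D₁ D₂ D₀ ψ₁ hφ₁ ψ₂ hφ₂ b) = D₂.φ (p₂ b) := rfl

include h hf₂ hπ₁ hπ₂ in
theorem glue_aux :
    (glueφ h D₁ D₂ D₀ ψ₁ hφ₁ ψ₂ hφ₂).Flat ∧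
      ∀ x : FibProd ψ₁ ψ₂, FibProd.fst x = 0 →
        x ∈ Ideal.map (glueφ h D₁ D₂ D₀ ψ₁ hφ₁ ψ₂ hφ₂) (RingHom.ker p₁.toAlgHom.toRingHom) :=
  glue_flat_and_ker p₁.toAlgHom.toRingHom p₂.toAlgHom.toRingHom f₁.toAlgHom.toRingHom f₂.toAlgHom.toRingHom
    D₁.φ D₂.φ D₀.φ ψ₁ ψ₂ (fun b => h.w_apply b) h.inj h.surj hf₂ D₁.flat D₂.flat
    (isBC_of_hom f₁ D₁ D₀ ψ₁ hφ₁ hπ₁) (isBC_of_hom f₂ D₂ D₀ ψ₂ hφ₂ hπ₂)

include hf₂ hφ₂ hπ₂ in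
theorem ψ₂_surjective : Function.Surjective ψ₂ :=
  (isBC_of_hom f₂ D₂ D₀ ψ₂ hφ₂ hπ₂).surjective hf₂

/-- The glued algebraic deformation over `B = A₁ ×_A A₂`. -/
noncomputable def glue : AlgDef B₀ B where
  R := FibProd ψ₁ ψ₂
  φ := glueφ h D₁ D₂ D₀ ψ₁ hφ₁ ψ₂ hφ₂
  flat := (glue_aux h hf₂ D₁ D₂ D₀ ψ₁ hφ₁ hπ₁ ψ₂ hφ₂ hπ₂).1
  π := D₁.π.comp FibProd.fst
  comm := by
    ext b
    change D₁.π (D₁.φ (p₁ b)) = algebraMap k B₀ (B.res b)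
    rw [← res_app p₁ b]
    exact congrArg (fun f => f (p₁ b)) D₁.comm
  surj := fun b => by
    obtain ⟨r, hr⟩ := D₁.surj b
    obtain ⟨x, hx⟩ := FibProd.exists_of_fst (f := ψ₁) (ψ₂_surjective hf₂ D₂ D₀ ψ₂ hφ₂ hπ₂) r
    exact ⟨x, by change D₁.π (FibProd.fst x) = b; rw [hx, hr]⟩
  ker_eq := by
    have hker := (glue_aux h hf₂ D₁ D₂ D₀ ψ₁ hφ₁ hπ₁ ψ₂ hφ₂ hπ₂).2
    set γ := glueφ h D₁ D₂ D₀ ψ₁ hφ₁ ψ₂ hφ₂ with hγ
    have hfst : Function.Surjective (FibProd.fst (f := ψ₁) (g := ψ₂)) :=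
      FibProd.fst_surjective (ψ₂_surjective hf₂ D₂ D₀ ψ₂ hφ₂ hπ₂)
    apply le_antisymm
    · intro x hx
      have hx1 : FibProd.fst x ∈ RingHom.ker D₁.π := hx
      rw [D₁.ker_eq] at hx1
      -- `fst` maps `γ(ker res_B) G` onto `φ₁(ker res_{A₁}) R₁`
      have hmap : Ideal.map D₁.φ (RingHom.ker A₁.res.toRingHom) =
          Ideal.map (FibProd.fst (f := ψ₁) (g := ψ₂)) (Ideal.map γ (RingHom.ker B.res.toRingHom)) := by
        rw [Ideal.map_map]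
        have e1 : (FibProd.fst (f := ψ₁) (g := ψ₂)).comp γ = D₁.φ.comp p₁.toAlgHom.toRingHom := rfl
        rw [e1, ← Ideal.map_map]
        congr 1
        have e2 : RingHom.ker B.res.toRingHom =
            Ideal.comap p₁.toAlgHom.toRingHom (RingHom.ker A₁.res.toRingHom) := by
          ext b
          rw [Ideal.mem_comap, RingHom.mem_ker, RingHom.mem_ker]
          change B.res b = 0 ↔ A₁.res (p₁ b) = 0
          rw [res_app]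
        rw [e2]
        exact (Ideal.map_comap_of_surjective p₁.toAlgHom.toRingHom (p₁_surjective h hf₂) _).symm
      rw [hmap, Ideal.mem_map_iff_of_surjective _ hfst] at hx1
      obtain ⟨y, hy, hyx⟩ := hx1
      have h0 : FibProd.fst (x - y) = 0 := by rw [map_sub, hyx, sub_self]
      have h1 := hker (x - y) h0
      have hle : RingHom.ker p₁.toAlgHom.toRingHom ≤ RingHom.ker B.res.toRingHom := by
        intro b hb
        rw [RingHom.mem_ker] at hb ⊢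
        change B.res b = 0
        rw [← res_app p₁ b]
        have : p₁ b = 0 := hb
        rw [this, map_zero]
      have h2 := Ideal.map_mono (f := γ) hle h1
      have : x = (x - y) + y := by ring
      rw [this]
      exact Ideal.add_mem _ h2 hy
    · rw [Ideal.map_le_iff_le_comap]
      intro b hb
      rw [Ideal.mem_comap, RingHom.mem_ker]
      change D₁.π (D₁.φ (p₁ b)) = 0
      have e : D₁.π (D₁.φ (p₁ b)) = algebraMap k B₀ (A₁.res (p₁ b)) :=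
        congrArg (fun f => f (p₁ b)) D₁.comm
      rw [e, res_app]
      have : B.res b = 0 := hb
      rw [this, map_zero]

theorem glue_π (x : FibProd ψ₁ ψ₂) :
    (glue h hf₂ D₁ D₂ D₀ ψ₁ hφ₁ hπ₁ ψ₂ hφ₂ hπ₂).π x = D₁.π (FibProd.fst x) := rfl

include hπ₁ hπ₂ in
theorem glue_π' (x : FibProd ψ₁ ψ₂) :
    (glue h hf₂ D₁ D₂ D₀ ψ₁ hφ₁ hπ₁ ψ₂ hφ₂ hπ₂).π x = D₂.π (FibProd.snd x) := by
  rw [glue_π, ← hπ₁, ← hπ₂, FibProd.cond]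

/-- The class of the glued deformation restricts to the class of `D₁`. -/
theorem map_glue_fst :
    (defFunctor (Λ := Λ) (Spec (CommRingCat.of B₀)) (xB B₀)).map p₁
      (glue h hf₂ D₁ D₂ D₀ ψ₁ hφ₁ hπ₁ ψ₂ hφ₂ hπ₂).toDefSch.cl = D₁.toDefSch.cl :=
  defFunctor_map_toDefSch p₁ (glue h hf₂ D₁ D₂ D₀ ψ₁ hφ₁ hπ₁ ψ₂ hφ₂ hπ₂) D₁ FibProd.fst
    (fun _ => rfl) (fun _ => rfl)

/-- The class of the glued deformation restricts to the class of `D₂`. -/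
theorem map_glue_snd :
    (defFunctor (Λ := Λ) (Spec (CommRingCat.of B₀)) (xB B₀)).map p₂
      (glue h hf₂ D₁ D₂ D₀ ψ₁ hφ₁ hπ₁ ψ₂ hφ₂ hπ₂).toDefSch.cl = D₂.toDefSch.cl :=
  defFunctor_map_toDefSch p₂ (glue h hf₂ D₁ D₂ D₀ ψ₁ hφ₁ hπ₁ ψ₂ hφ₂ hπ₂) D₂ FibProd.snd
    (fun _ => rfl) (fun x => (glue_π' h hf₂ D₁ D₂ D₀ ψ₁ hφ₁ hπ₁ ψ₂ hφ₂ hπ₂ x).symm)

/-- Any algebraic deformation over `B` mapping compatibly to `D₁` and `D₂` is isomorphic to the glued one. -/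
theorem cl_eq_glue (G : AlgDef B₀ B) (α : G.R →+* D₁.R) (hα : ∀ b, α (G.φ b) = D₁.φ (p₁ b))
    (hαπ : ∀ r, D₁.π (α r) = G.π r) (β : G.R →+* D₂.R) (hβ : ∀ b, β (G.φ b) = D₂.φ (p₂ b))
    (hαβ : ∀ r, ψ₁ (α r) = ψ₂ (β r)) :
    G.toDefSch.cl = (glue h hf₂ D₁ D₂ D₀ ψ₁ hφ₁ hπ₁ ψ₂ hφ₂ hπ₂).toDefSch.cl := by
  refine Quotient.sound ⟨AlgDef.Iso.toDefSch
    (AlgDef.isoOfHom G (glue h hf₂ D₁ D₂ D₀ ψ₁ hφ₁ hπ₁ ψ₂ hφ₂ hπ₂) (FibProd.lift α β hαβ) ?_ ?_)⟩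
  · intro b
    apply FibProd.ext
    · exact hα b
    · exact hβ b
  · intro r
    exact hαπ r

end GlueDef

section Conditions

variable (Λ B₀)

/-- `(S1)` for the deformation functor of an affine scheme. -/
theorem s1_defFunctor : S1 (defFunctor (Λ := Λ) (Spec (CommRingCat.of B₀)) (xB (k := k) B₀)) := by
  intro B A A₁ A₂ p₁ p₂ f₁ f₂ h hf₂ z
  obtain ⟨⟨x₁, x₂⟩, hx⟩ := z
  obtain ⟨D₁, rfl⟩ := exists_rep x₁
  obtain ⟨D₂, rfl⟩ := exists_rep x₂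
  obtain ⟨D₀, hD₀⟩ := exists_rep
    ((defFunctor (Λ := Λ) (Spec (CommRingCat.of B₀)) (xB B₀)).map f₁ D₁.toDefSch.cl)
  obtain ⟨ψ₁, hφ₁, hπ₁⟩ := exists_hom_of_map_eq f₁ D₁ D₀ hD₀.symm
  obtain ⟨ψ₂, hφ₂, hπ₂⟩ := exists_hom_of_map_eq f₂ D₂ D₀ (hx.symm.trans hD₀.symm)
  refine ⟨(glue h hf₂ D₁ D₂ D₀ ψ₁ hφ₁ hπ₁ ψ₂ hφ₂ hπ₂).toDefSch.cl, ?_⟩
  apply ArtFun.FibProd.ext
  · exact map_glue_fst h hf₂ D₁ D₂ D₀ ψ₁ hφ₁ hπ₁ ψ₂ hφ₂ hπ₂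
  · exact map_glue_snd h hf₂ D₁ D₂ D₀ ψ₁ hφ₁ hπ₁ ψ₂ hφ₂ hπ₂

/-- Over the final object the reduction map of an algebraic deformation is injective. -/
theorem π_injective_base (D : AlgDef B₀ (base Λ k)) : Function.Injective D.π := by
  rw [injective_iff_map_eq_zero]
  intro r hr
  have h1 : r ∈ RingHom.ker D.π := hr
  rw [D.ker_eq] at h1
  have h2 : RingHom.ker (base Λ k).res.toRingHom = ⊥ := by
    rw [eq_bot_iff]
    intro c hc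
    exact hc
  rw [h2, Ideal.map_bot] at h1
  exact h1

/-- `(Hε)` for the deformation functor of an affine scheme. -/
theorem heps_defFunctor : Heps (defFunctor (Λ := Λ) (Spec (CommRingCat.of B₀)) (xB (k := k) B₀)) := by
  intro B A₁ p₁ p₂ h
  have hf₂ : Function.Surjective (toBase (dual Λ k)) := (dual Λ k).res_surjective
  refine ⟨?_, s1_defFunctor Λ B₀ p₁ p₂ _ _ h hf₂⟩
  intro z z' hzz
  obtain ⟨G, rfl⟩ := exists_rep z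
  obtain ⟨G', rfl⟩ := exists_rep z'
  set F := defFunctor (Λ := Λ) (Spec (CommRingCat.of B₀)) (xB (k := k) B₀) with hF
  have e1 : F.map p₁ G.toDefSch.cl = F.map p₁ G'.toDefSch.cl := congrArg (fun t => t.1.1) hzz
  have e2 : F.map p₂ G.toDefSch.cl = F.map p₂ G'.toDefSch.cl := congrArg (fun t => t.1.2) hzz
  obtain ⟨D₁, hD₁⟩ := exists_rep (F.map p₁ G.toDefSch.cl)
  obtain ⟨D₂, hD₂⟩ := exists_rep (F.map p₂ G.toDefSch.cl)
  obtain ⟨D₀, hD₀⟩ := exists_rep (F.map (toBase A₁) D₁.toDefSch.cl)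
  have hD₀' : F.map (toBase (dual Λ k)) D₂.toDefSch.cl = D₀.toDefSch.cl := by
    rw [hD₂, hD₀, hD₁]
    change (F.map p₂ ≫ F.map (toBase (dual Λ k))) G.toDefSch.cl = (F.map p₁ ≫ F.map (toBase A₁)) G.toDefSch.cl
    rw [← F.map_comp, ← F.map_comp, h.w]
  obtain ⟨ψ₁, hφ₁, hπ₁⟩ := exists_hom_of_map_eq (toBase A₁) D₁ D₀ hD₀.symm
  obtain ⟨ψ₂, hφ₂, hπ₂⟩ := exists_hom_of_map_eq (toBase (dual Λ k)) D₂ D₀ hD₀'
  obtain ⟨α, hα, hαπ⟩ := exists_hom_of_map_eq p₁ G D₁ hD₁.symm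
  obtain ⟨β, hβ, hβπ⟩ := exists_hom_of_map_eq p₂ G D₂ hD₂.symm
  obtain ⟨α', hα', hαπ'⟩ := exists_hom_of_map_eq p₁ G' D₁ (e1.symm.trans hD₁.symm)
  obtain ⟨β', hβ', hβπ'⟩ := exists_hom_of_map_eq p₂ G' D₂ (e2.symm.trans hD₂.symm)
  have hinj := π_injective_base Λ B₀ D₀
  have c1 := cl_eq_glue h hf₂ D₁ D₂ D₀ ψ₁ hφ₁ hπ₁ ψ₂ hφ₂ hπ₂ G α hα hαπ β hβ (fun r => hinj (by
    rw [hπ₁, hπ₂, hαπ, hβπ]))
  have c2 := cl_eq_glue h hf₂ D₁ D₂ D₀ ψ₁ hφ₁ hπ₁ ψ₂ hφ₂ hπ₂ G' α' hα' hαπ' β' hβ' (fun r => hinj (by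
    rw [hπ₁, hπ₂, hαπ', hβπ']))
  exact c1.trans c2.symm

/-- The algebraic deformation `B₀` over the final object. -/
noncomputable def selfDef : AlgDef B₀ (base Λ k) where
  R := B₀
  φ := (algebraMap k B₀).comp (base Λ k).res.toRingHom
  flat := by
    refine RingHom.Flat.comp (RingHom.Flat.of_bijective ⟨fun a b hab => hab, fun c => ⟨c, rfl⟩⟩) ?_
    exact RingHom.flat_algebraMap_iff.2 inferInstance
  π := RingHom.id B₀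
  comm := RingHom.id_comp _
  surj := fun b => ⟨b, rfl⟩
  ker_eq := by
    apply le_antisymm
    · intro b hb
      have hb0 : b = 0 := hb
      rw [hb0]
      exact zero_mem _
    · refine Ideal.map_le_iff_le_comap.2 (fun c hc => ?_)
      rw [Ideal.mem_comap, RingHom.mem_ker, RingHom.comp_apply]
      have hc0 : (base Λ k).res.toRingHom c = 0 := hc
      rw [hc0, map_zero]
      rfl

/-- `(H0)` for the deformation functor of an affine scheme. -/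
theorem h0_defFunctor : H0 (defFunctor (Λ := Λ) (Spec (CommRingCat.of B₀)) (xB (k := k) B₀)) := by
  refine ⟨⟨(selfDef Λ (k := k) B₀).toDefSch.cl⟩, ⟨fun z z' => ?_⟩⟩
  obtain ⟨D, rfl⟩ := exists_rep z
  obtain ⟨D', rfl⟩ := exists_rep z'
  have hinj' := π_injective_base Λ B₀ D'
  let e' : D'.R ≃+* B₀ := RingEquiv.ofBijective D'.π ⟨hinj', D'.surj⟩
  refine Quotient.sound ⟨AlgDef.Iso.toDefSch (AlgDef.isoOfHom D D' (e'.symm.toRingHom.comp D.π) ?_ ?_)⟩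
  · intro a
    apply hinj'
    change D'.π (e'.symm (D.π (D.φ a))) = D'.π (D'.φ a)
    have e1 : D'.π (e'.symm (D.π (D.φ a))) = D.π (D.φ a) := e'.apply_symm_apply _
    rw [e1]
    exact (congrArg (fun f => f a) D.comm).trans (congrArg (fun f => f a) D'.comm).symm
  · intro r
    exact e'.apply_symm_apply _

end Conditions

end Groth.Agent.R2.H56.Hull
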