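import Groth.Agent.R2.H56HullB
import Groth.Agent.R2.H56DefDual
import Groth.Agent.Lib.Helper19ExalT1D

/-!
# The tangent space of the deformation functor of an affine scheme (helper56)

ns `Groth.Agent.R2.H56.Tan`: for a presentation `P` of the `k`-algebra `B₀`, the map
`cls P : Def_{Spec B₀}(k[ε]) → C1 P.toExtension B₀ = Hom(I/I², B₀) / Der` is injective, additive and homogeneous for
every tangent structure; hence `Hfin` as soon as `C1` is finite-dimensional (`hfin_of_finite`).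
-/

set_option autoImplicit false
set_option linter.style.haveILetI false
set_option linter.unusedSectionVars false

universe u

open CategoryTheory CategoryTheory.Limits AlgebraicGeometry

namespace Groth.Agent.R2.H56.Tan

open ArtFun ArtFun.Art Groth.Agent.R2.H56.AffDef Groth.Agent.R2.H56.DefDual Groth.Agent.R2.H56.Hull
open Exal Groth.Agent.Lib.Helper19.ExalT1 Groth.Agent.Lib.Helper19.CotTIndep

variable {Λ k : Type u} [CommRing Λ] [Field k] [Algebra Λ k] {B₀ : Type u} [CommRing B₀] [Algebra k B₀]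

section ToK

/-- Forget the `Λ`-structure of the dual numbers. -/
@[reducible] def toK (D : AlgDef B₀ (dual Λ k)) : AlgDef B₀ (dual k k) where
  R := D.R
  φ := D.φ
  flat := D.flat
  π := D.π
  comm := D.comm
  surj := D.surj
  ker_eq := D.ker_eq

def toKIso {D D' : AlgDef B₀ (dual Λ k)} (i : AlgDef.Iso D D') : AlgDef.Iso (toK D) (toK D') :=
  ⟨i.e, i.e_φ, i.π_e⟩

def ofKIso {D D' : AlgDef B₀ (dual Λ k)} (i : AlgDef.Iso (toK D) (toK D')) : AlgDef.Iso D D' :=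
  ⟨i.e, i.e_φ, i.π_e⟩

/-- On classes. -/
def toKq : Quotient (AlgDef.setoid B₀ (dual Λ k)) → Quotient (AlgDef.setoid B₀ (dual k k)) :=
  Quotient.map' toK (fun _ _ ⟨i⟩ => ⟨toKIso i⟩)

theorem toKq_injective : Function.Injective (toKq (Λ := Λ) (k := k) (B₀ := B₀)) := by
  intro a b
  induction a using Quotient.inductionOn with
  | h D =>
    induction b using Quotient.inductionOn with
    | h D' =>
      intro h
      obtain ⟨i⟩ := Quotient.exact h
      exact Quotient.sound ⟨ofKIso i⟩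

end ToK

section Push

variable {A : Art Λ k} (jA : k →+* A) (hj : ∀ c, A.res (jA c) = c)
  (q : A ⟶ dual Λ k) (hq : ∀ c, q (jA c) = (TrivSqZeroExt.inl c : DualNumber k))
  (Z : AlgDef B₀ A) (D : AlgDef B₀ (dual Λ k)) (ψ : Z.R →+* D.R)
  (hφ : ∀ a, ψ (Z.φ a) = D.φ (q a)) (hπ : ∀ r, D.π (ψ r) = Z.π r)

theorem inr_eq (c : k) :
    (TrivSqZeroExt.inr c : DualNumber k) = TrivSqZeroExt.inl c * (DualNumber.eps : DualNumber k) := by
  change (TrivSqZeroExt.inr c : DualNumber k) = TrivSqZeroExt.inl c * TrivSqZeroExt.inr 1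
  rw [TrivSqZeroExt.inl_mul_inr, smul_eq_mul, mul_one]

theorem inr_eq' (c : k) :
    (TrivSqZeroExt.inr c : DualNumber k) = algebraMap k (dual k k) c * epsD k :=
  inr_eq c

theorem smul_π (D : AlgDef B₀ (dual k k)) (c : k) (r : D.R) :
    c • D.π r = D.π (D.φ (algebraMap k (dual k k) c) * r) := by
  rw [map_mul, π_φ, res_algebraMap_dual, Algebra.smul_def]

theorem φ_inr (D : AlgDef B₀ (dual Λ k)) (a : (dual Λ k : Art Λ k)) (c : k)
    (ha : a = (TrivSqZeroExt.inr c : DualNumber k)) :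
    D.φ a = (toK D).φ (algebraMap k (dual k k) c) * eps' (toK D) := by
  have h1 : a = algebraMap k (dual k k) c * epsD k := ha.trans (inr_eq' c)
  have h2 : D.φ a = (toK D).φ (algebraMap k (dual k k) c * epsD k) := congrArg D.φ h1
  exact h2.trans (map_mul (toK D).φ _ _)

include hφ hπ in
/-- The key formula: `ψ (t r) = incl (c • π r)` when `q t = c ε`. -/
theorem hom_mul (t : A) (c : k) (ht : q t = (TrivSqZeroExt.inr c : DualNumber k)) (r : Z.R) :
    ψ (Z.φ t * r) = incl (toK D) (c • Z.π r) := by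
  have h1 : ψ (Z.φ t) = (toK D).φ (algebraMap k (dual k k) c) * eps' (toK D) :=
    (hφ t).trans (φ_inr D _ c ht)
  have h2 : Z.π r = (toK D).π (ψ r) := (hπ r).symm
  rw [map_mul, h1, h2, smul_π, incl_π]
  ring

section Lifts

variable {ι σ : Type u} (P : Algebra.Presentation k B₀ ι σ)

/-- lifts of the presentation along a surjection onto `B₀` -/
theorem exists_lift {E : Type u} [CommRing E] [Algebra k E] (p : E →ₐ[k] B₀) (hp : Function.Surjective p) :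
    ∃ g : P.toExtension.Ring →ₐ[k] E, ∀ r, p (g r) = algebraMap P.toExtension.Ring B₀ r := by
  let g : P.toExtension.Ring →ₐ[k] E :=
    (MvPolynomial.aeval (fun i => Function.surjInv hp (P.val i)) : MvPolynomial ι k →ₐ[k] E)
  refine ⟨g, fun r => ?_⟩
  have : p.comp g = IsScalarTower.toAlgHom k P.toExtension.Ring B₀ := by
    refine MvPolynomial.algHom_ext fun i => ?_
    show p (MvPolynomial.aeval _ (MvPolynomial.X i)) = algebraMap P.toExtension.Ring B₀ (MvPolynomial.X i)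
    rw [MvPolynomial.aeval_X, Function.surjInv_eq hp]
    exact ((CotT.algebraMap_toExtension P _).trans (MvPolynomial.aeval_X _ i)).symm
  exact AlgHom.congr_fun this r

variable (g : P.toExtension.Ring →+* Z.R) (hgk : ∀ c, g (algebraMap k _ c) = Z.φ (jA c))
  (hg : ∀ r, Z.π (g r) = algebraMap P.toExtension.Ring B₀ r)

/-- the pushed lift -/
noncomputable def pushLift : P.toExtension.Ring →ₐ[k] (toExt (toK D)).E :=
  { (ψ.comp g) with
    commutes' := fun c => by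
      change ψ (g (algebraMap k _ c)) = D.φ (algebraMap k (dual k k) c)
      rw [hgk, hφ]
      exact congrArg D.φ (hq c) }

theorem pushLift_apply (r : P.toExtension.Ring) :
    pushLift jA q hq Z D ψ hφ P g hgk r = ψ (g r) := rfl

include hπ hg in
theorem pushLift_proj (r : P.toExtension.Ring) :
    (toExt (toK D)).proj (pushLift jA q hq Z D ψ hφ P g hgk r) = algebraMap P.toExtension.Ring B₀ r :=
  (hπ (g r)).trans (hg r)

theorem wOf_push (i : RingHom.ker (algebraMap P.toExtension.Ring B₀)) (t₁ t₂ : A) (c₁ c₂ : k)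
    (ht₁ : q t₁ = (TrivSqZeroExt.inr c₁ : DualNumber k))
    (ht₂ : q t₂ = (TrivSqZeroExt.inr c₂ : DualNumber k))
    (r₁ r₂ : Z.R) (hi : g i = Z.φ t₁ * r₁ + Z.φ t₂ * r₂) :
    wOf (toExt (toK D)) (pushLift jA q hq Z D ψ hφ P g hgk)
      (pushLift_proj jA q hq Z D ψ hφ hπ P g hgk hg) i = c₁ • Z.π r₁ + c₂ • Z.π r₂ := by
  apply (toExt (toK D)).isExtension.incl_injective
  rw [incl_wOf]
  change ψ (g i) = incl (toK D) (c₁ • Z.π r₁ + c₂ • Z.π r₂)
  rw [hi, map_add, hom_mul q Z D ψ hφ hπ t₁ c₁ ht₁, hom_mul q Z D ψ hφ hπ t₂ c₂ ht₂, map_add]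

end Lifts

end Push

section Cls

variable {ι σ : Type u} (P : Algebra.Presentation k B₀ ι σ)

variable (Λ) in
/-- The class in `C1 = Hom(I/I², B₀)/Der` of a first-order deformation. -/
noncomputable def cls
    (ξ : (defFunctor (Λ := Λ) (Spec (CommRingCat.of B₀)) (xB (k := k) B₀)).obj (dual Λ k)) :
    C1 P.toExtension B₀ :=
  toC1 P B₀ (algDefDualEquiv k B₀ (toKq (defEquiv B₀ (dual Λ k) ξ)))

theorem cls_injective : Function.Injective (cls Λ P) :=
  (toC1_bijective P B₀).1.comp ((algDefDualEquiv k B₀).injective.comp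
    (toKq_injective.comp (defEquiv B₀ (dual Λ k)).injective))

theorem toC1_cl (X : Exal.Ext k B₀ B₀) (g : P.toExtension.Ring →ₐ[k] X.E)
    (hg : ∀ r, X.proj (g r) = algebraMap P.toExtension.Ring B₀ r) :
    toC1 P B₀ X.cl = Submodule.Quotient.mk (φOf P (wOf X g hg)) := by
  have h1 : Φ P B₀ (φOf P (wOf X g hg)) = X.cl := by
    rw [Φ, wφ_φOf]
    exact Quotient.sound ⟨compEquiv P.toExtension.algebraMap_surjective X g hg⟩
  rw [toC1, Submodule.Quotient.eq, ← Φ_eq_iff, Φ_choose, h1]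

theorem cls_cl (D : AlgDef B₀ (dual Λ k)) (g : P.toExtension.Ring →ₐ[k] (toExt (toK D)).E)
    (hg : ∀ r, (toExt (toK D)).proj (g r) = algebraMap P.toExtension.Ring B₀ r) :
    cls Λ P D.toDefSch.cl = Submodule.Quotient.mk (φOf P (wOf (toExt (toK D)) g hg)) := by
  have h1 : defEquiv B₀ (dual Λ k) D.toDefSch.cl = Quotient.mk _ D :=
    (defEquiv B₀ (dual Λ k)).apply_symm_apply (Quotient.mk _ D)
  rw [cls, h1]
  exact toC1_cl P (toExt (toK D)) g hg

section Decomp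

/-- `ε` in the object `dual Λ k`. -/
def epsΛ : (dual Λ k : Art Λ k) := (DualNumber.eps : DualNumber k)

/-- `ε₁` -/
def e₁ : (dual2 Λ k : Art Λ k) := (TrivSqZeroExt.inr (1, 0) : TrivSqZeroExt k (k × k))

/-- `ε₂` -/
def e₂ : (dual2 Λ k : Art Λ k) := (TrivSqZeroExt.inr (0, 1) : TrivSqZeroExt k (k × k))

/-- the structure map `k → k[ε]` -/
def jD : k →+* (dual Λ k : Art Λ k) := (TrivSqZeroExt.inlHom k k : k →+* DualNumber k)

/-- the structure map `k → k[ε₁, ε₂]` -/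
def jD2 : k →+* (dual2 Λ k : Art Λ k) :=
  (TrivSqZeroExt.inlHom k (k × k) : k →+* TrivSqZeroExt k (k × k))

theorem exists_decomp1 (D : AlgDef B₀ (dual Λ k)) (x : D.R) (hx : D.π x = 0) :
    ∃ r, x = D.φ epsΛ * r := by
  have h : x ∈ RingHom.ker (toK D).π := hx
  rw [ker_π_eq, Ideal.mem_span_singleton'] at h
  obtain ⟨a, ha⟩ := h
  exact ⟨a, by rw [← ha, mul_comm]; rfl⟩

theorem ker_fst_dual2_raw :
    RingHom.ker (TrivSqZeroExt.fstHom k k (k × k) : TrivSqZeroExt k (k × k) →ₐ[k] k).toRingHom =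
      Ideal.span {(TrivSqZeroExt.inr (1, 0) : TrivSqZeroExt k (k × k)), TrivSqZeroExt.inr (0, 1)} := by
  ext a
  rw [RingHom.mem_ker, Ideal.mem_span_pair]
  change TrivSqZeroExt.fst a = 0 ↔ _
  constructor
  · intro h
    refine ⟨TrivSqZeroExt.inl (TrivSqZeroExt.snd a).1, TrivSqZeroExt.inl (TrivSqZeroExt.snd a).2, ?_⟩
    apply TrivSqZeroExt.ext
    · simp [h]
    · simp
  · rintro ⟨c, d, rfl⟩
    simp

theorem ker_res_dual2 :
    RingHom.ker (dual2 Λ k).res.toRingHom = Ideal.span {e₁, e₂} :=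
  ker_fst_dual2_raw (k := k)

theorem exists_decomp2 (Z : AlgDef B₀ (dual2 Λ k)) (x : Z.R) (hx : Z.π x = 0) :
    ∃ r₁ r₂, x = Z.φ e₁ * r₁ + Z.φ e₂ * r₂ := by
  have h : x ∈ RingHom.ker Z.π := hx
  rw [Z.ker_eq, ker_res_dual2, Ideal.map_span, Set.image_pair, Ideal.mem_span_pair] at h
  obtain ⟨a, b, hab⟩ := h
  exact ⟨a, b, by rw [← hab]; ring⟩

end Decomp

section Linear

local notation "F" => defFunctor (Λ := Λ) (Spec (CommRingCat.of B₀)) (xB (k := k) B₀)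

theorem scale_eps (c : k) : (scale c : dual Λ k ⟶ dual Λ k) epsΛ = (TrivSqZeroExt.inr c : DualNumber k) :=
  TrivSqZeroExt.ext rfl (by
    change c • (1 : k) = c
    rw [smul_eq_mul, mul_one])

theorem map_zero_inr {A : Art Λ k} (q : A ⟶ dual Λ k) :
    q 0 = (TrivSqZeroExt.inr 0 : DualNumber k) := by
  rw [map_zero, TrivSqZeroExt.inr_zero]
  rfl

theorem id_eps : (𝟙 (dual Λ k) : dual Λ k ⟶ dual Λ k) epsΛ = (TrivSqZeroExt.inr 1 : DualNumber k) := rfl

/-- the `k`-algebra map underlying a lift to the ring of a first-order deformation -/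
theorem lift_commutes (D : AlgDef B₀ (dual Λ k)) (g : P.toExtension.Ring →ₐ[k] (toExt (toK D)).E) (c : k) :
    (g.toRingHom : P.toExtension.Ring →+* D.R) (algebraMap k _ c) = D.φ (jD c) :=
  g.commutes c

theorem cls_scale (c : k) (ξ : (F).obj (dual Λ k)) :
    cls Λ P ((F).map (scale c) ξ) = c • cls Λ P ξ := by
  obtain ⟨D, rfl⟩ := exists_rep ξ
  obtain ⟨D', hD'⟩ := exists_rep ((F).map (scale c) D.toDefSch.cl)
  obtain ⟨ψ, hφ, hπ⟩ := exists_hom_of_map_eq (scale c) D D' hD'.symm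
  obtain ⟨g, hg⟩ := exists_lift P (toExt (toK D)).proj (toExt (toK D)).isExtension.proj_surjective
  let g' : P.toExtension.Ring →+* D.R := g.toRingHom
  have hgk : ∀ c, g' (algebraMap k _ c) = D.φ (jD c) := lift_commutes P D g
  have hg' : ∀ r, D.π (g' r) = algebraMap P.toExtension.Ring B₀ r := hg
  have hq1 : ∀ c, (𝟙 (dual Λ k) : dual Λ k ⟶ dual Λ k) (jD c) = (TrivSqZeroExt.inl c : DualNumber k) :=
    fun _ => rfl
  have hq2 : ∀ c', (scale c : dual Λ k ⟶ dual Λ k) (jD c') = (TrivSqZeroExt.inl c' : DualNumber k) :=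
    fun c' => TrivSqZeroExt.ext rfl (by
      change c • (0 : k) = 0
      rw [smul_zero])
  have hφ1 : ∀ a, (RingHom.id D.R) (D.φ a) = D.φ ((𝟙 (dual Λ k) : dual Λ k ⟶ dual Λ k) a) := fun _ => rfl
  have hπ1 : ∀ r, D.π ((RingHom.id D.R) r) = D.π r := fun _ => rfl
  rw [← hD', cls_cl P D' (pushLift jD (scale c) hq2 D D' ψ hφ P g' hgk)
      (pushLift_proj jD (scale c) hq2 D D' ψ hφ hπ P g' hgk hg'),
    cls_cl P D (pushLift jD (𝟙 _) hq1 D D (RingHom.id D.R) hφ1 P g' hgk)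
      (pushLift_proj jD (𝟙 _) hq1 D D (RingHom.id D.R) hφ1 hπ1 P g' hgk hg'),
    ← Submodule.Quotient.mk_smul]
  congr 1
  apply LinearMap.ext
  intro y
  obtain ⟨i, rfl⟩ := Algebra.Extension.Cotangent.mk_surjective y
  rw [LinearMap.smul_apply, φOf_mk, φOf_mk]
  obtain ⟨r, hr⟩ := exists_decomp1 D (g' i) ((hg' i).trans i.2)
  have hi : g' i = D.φ epsΛ * r + D.φ 0 * 0 := by rw [hr, mul_zero, add_zero]
  rw [wOf_push jD (scale c) hq2 D D' ψ hφ hπ P g' hgk hg' i epsΛ 0 c 0 (scale_eps c)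
      (map_zero_inr _) r 0 hi,
    wOf_push jD (𝟙 _) hq1 D D (RingHom.id D.R) hφ1 hπ1 P g' hgk hg' i epsΛ 0 1 0 id_eps
      (map_zero_inr _) r 0 hi]
  simp only [one_smul, zero_smul, add_zero]

theorem res_jD2 (c : k) : (dual2 Λ k).res (jD2 c) = c := rfl

theorem π_φ_jD2 (Z : AlgDef B₀ (dual2 Λ k)) (c : k) : Z.π (Z.φ (jD2 c)) = algebraMap k B₀ c :=
  congrArg (fun f => f (jD2 c)) Z.comm

theorem pr₁_e₁ : (pr₁ : dual2 Λ k ⟶ dual Λ k) e₁ = (TrivSqZeroExt.inr 1 : DualNumber k) := rfl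
theorem pr₁_e₂ : (pr₁ : dual2 Λ k ⟶ dual Λ k) e₂ = (TrivSqZeroExt.inr 0 : DualNumber k) := rfl
theorem pr₂_e₁ : (pr₂ : dual2 Λ k ⟶ dual Λ k) e₁ = (TrivSqZeroExt.inr 0 : DualNumber k) := rfl
theorem pr₂_e₂ : (pr₂ : dual2 Λ k ⟶ dual Λ k) e₂ = (TrivSqZeroExt.inr 1 : DualNumber k) := rfl
theorem plus_e₁ : (plus : dual2 Λ k ⟶ dual Λ k) e₁ = (TrivSqZeroExt.inr 1 : DualNumber k) :=
  TrivSqZeroExt.ext rfl (by
    change (1 : k) + 0 = 1
    rw [add_zero])
theorem plus_e₂ : (plus : dual2 Λ k ⟶ dual Λ k) e₂ = (TrivSqZeroExt.inr 1 : DualNumber k) :=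
  TrivSqZeroExt.ext rfl (by
    change (0 : k) + 1 = 1
    rw [zero_add])

theorem pr₁_jD2 (c : k) :
    (pr₁ : dual2 Λ k ⟶ dual Λ k) (jD2 c) = (TrivSqZeroExt.inl c : DualNumber k) := rfl

theorem pr₂_jD2 (c : k) :
    (pr₂ : dual2 Λ k ⟶ dual Λ k) (jD2 c) = (TrivSqZeroExt.inl c : DualNumber k) := rfl

theorem plus_jD2 (c : k) :
    (plus : dual2 Λ k ⟶ dual Λ k) (jD2 c) = (TrivSqZeroExt.inl c : DualNumber k) :=
  TrivSqZeroExt.ext rfl (by
    change (0 : k) + 0 = 0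
    rw [add_zero])

theorem cls_plus (z : (F).obj (dual2 Λ k)) :
    cls Λ P ((F).map plus z) = cls Λ P ((F).map pr₁ z) + cls Λ P ((F).map pr₂ z) := by
  obtain ⟨Z, rfl⟩ := exists_rep z
  obtain ⟨D₁, hD₁⟩ := exists_rep ((F).map pr₁ Z.toDefSch.cl)
  obtain ⟨D₂, hD₂⟩ := exists_rep ((F).map pr₂ Z.toDefSch.cl)
  obtain ⟨D₃, hD₃⟩ := exists_rep ((F).map plus Z.toDefSch.cl)
  obtain ⟨ψ₁, hφ₁, hπ₁⟩ := exists_hom_of_map_eq pr₁ Z D₁ hD₁.symm
  obtain ⟨ψ₂, hφ₂, hπ₂⟩ := exists_hom_of_map_eq pr₂ Z D₂ hD₂.symm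
  obtain ⟨ψ₃, hφ₃, hπ₃⟩ := exists_hom_of_map_eq plus Z D₃ hD₃.symm
  letI aZ : Algebra k Z.R := (Z.φ.comp jD2).toAlgebra
  let pZ : Z.R →ₐ[k] B₀ := { Z.π with commutes' := fun c => π_φ_jD2 Z c }
  obtain ⟨g, hg⟩ := exists_lift P pZ Z.surj
  let g' : P.toExtension.Ring →+* Z.R := g.toRingHom
  have hgk : ∀ c, g' (algebraMap k _ c) = Z.φ (jD2 c) := fun c => g.commutes c
  have hg' : ∀ r, Z.π (g' r) = algebraMap P.toExtension.Ring B₀ r := hg
  have hq1 : ∀ c, (pr₁ : dual2 Λ k ⟶ dual Λ k) (jD2 c) = (TrivSqZeroExt.inl c : DualNumber k) :=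
    fun c => pr₁_jD2 c
  have hq2 : ∀ c, (pr₂ : dual2 Λ k ⟶ dual Λ k) (jD2 c) = (TrivSqZeroExt.inl c : DualNumber k) :=
    fun c => pr₂_jD2 c
  have hq3 : ∀ c, (plus : dual2 Λ k ⟶ dual Λ k) (jD2 c) = (TrivSqZeroExt.inl c : DualNumber k) :=
    fun c => plus_jD2 c
  rw [← hD₁, ← hD₂, ← hD₃,
    cls_cl P D₁ (pushLift jD2 pr₁ hq1 Z D₁ ψ₁ hφ₁ P g' hgk)
      (pushLift_proj jD2 pr₁ hq1 Z D₁ ψ₁ hφ₁ hπ₁ P g' hgk hg'),
    cls_cl P D₂ (pushLift jD2 pr₂ hq2 Z D₂ ψ₂ hφ₂ P g' hgk)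
      (pushLift_proj jD2 pr₂ hq2 Z D₂ ψ₂ hφ₂ hπ₂ P g' hgk hg'),
    cls_cl P D₃ (pushLift jD2 plus hq3 Z D₃ ψ₃ hφ₃ P g' hgk)
      (pushLift_proj jD2 plus hq3 Z D₃ ψ₃ hφ₃ hπ₃ P g' hgk hg'),
    ← Submodule.Quotient.mk_add]
  congr 1
  apply LinearMap.ext
  intro y
  obtain ⟨i, rfl⟩ := Algebra.Extension.Cotangent.mk_surjective y
  rw [LinearMap.add_apply, φOf_mk, φOf_mk, φOf_mk]
  obtain ⟨r₁, r₂, hi⟩ := exists_decomp2 Z (g' i) ((hg' i).trans i.2)
  rw [wOf_push jD2 pr₁ hq1 Z D₁ ψ₁ hφ₁ hπ₁ P g' hgk hg' i e₁ e₂ 1 0 pr₁_e₁ pr₁_e₂ r₁ r₂ hi,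
    wOf_push jD2 pr₂ hq2 Z D₂ ψ₂ hφ₂ hπ₂ P g' hgk hg' i e₁ e₂ 0 1 pr₂_e₁ pr₂_e₂ r₁ r₂ hi,
    wOf_push jD2 plus hq3 Z D₃ ψ₃ hφ₃ hπ₃ P g' hgk hg' i e₁ e₂ 1 1 plus_e₁ plus_e₂ r₁ r₂ hi]
  simp only [one_smul, zero_smul, add_zero, zero_add]

variable (Λ) in
/-- Finite-dimensionality of the tangent space from finite-dimensionality of `T¹`. -/
theorem hfin_of_finite [T : TangentStr (F)] [hC : Module.Finite k (C1 P.toExtension B₀)] :
    Hfin (F) := by
  have h0 := h0_defFunctor Λ (k := k) B₀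
  haveI : Subsingleton ((F).obj (base Λ k)) := h0.2
  let L : TangentSpace (F) →ₗ[k] C1 P.toExtension B₀ :=
    { toFun := cls Λ P
      map_add' := fun ξ₁ ξ₂ => by
        have hb := heps_defFunctor Λ (k := k) B₀ pr₁ pr₂ isFibreProd_dual2
        obtain ⟨z, hz⟩ := hb.2 ⟨(ξ₁, ξ₂), Subsingleton.elim _ _⟩
        have h1 : (F).map pr₁ z = ξ₁ := congrArg (fun t => t.1.1) hz
        have h2 : (F).map pr₂ z = ξ₂ := congrArg (fun t => t.1.2) hz
        have h3 : ξ₁ + ξ₂ = (F).map plus z := by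
          rw [← h1, ← h2]
          exact T.add_eq z
        have h4 : cls Λ P ((F).map plus z) = cls Λ P ξ₁ + cls Λ P ξ₂ := by
          rw [cls_plus, h1, h2]
        exact (congrArg (cls Λ P) h3).trans h4
      map_smul' := fun c ξ => by
        have h3 : c • ξ = (F).map (scale c) ξ := T.smul_eq c ξ
        exact (congrArg (cls Λ P) h3).trans (cls_scale P c ξ) }
  exact Module.Finite.of_injective L (cls_injective P)

end Linear

end Cls

end Groth.Agent.R2.H56.Tan
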