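import Groth.Prelude.Def_ArtFun4

/-!
# Transport of the deformation functor along an isomorphism, and of hulls along natural bijections (helper56)

ns `Groth.Agent.R2.H56.Transp`:
* `hasHull_of_equiv`: a natural family of bijections `F(A) ≃ G(A)` carries hulls of `F` to hulls of `G`;
* `defEquivOfIso`: for `e : X ≅ Y` over `Spec k`, `Def_Y(A) ≃ Def_X(A)`, naturally in `A`;
* `hasHull_defFunctor_of_iso`.
-/

set_option autoImplicit false

universe u v

open CategoryTheory CategoryTheory.Limits AlgebraicGeometry

namespace Groth.Agent.R2.H56.Transp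

open ArtFun ArtFun.Art

variable {Λ k : Type u} [CommRing Λ] [Field k] [Algebra Λ k]

section Hull

variable {F G : Art Λ k ⥤ Type v} (e : ∀ A : Art Λ k, F.obj A ≃ G.obj A)
  (hnat : ∀ {A B : Art Λ k} (g : A ⟶ B) (z : F.obj A), e B (F.map g z) = G.map g (e A z))

include hnat in
/-- Hulls transfer along a natural family of bijections. -/
theorem hasHull_of_equiv (h : HasHull F) : HasHull G := by
  obtain ⟨H⟩ := h
  refine ⟨{ ring := H.ring
            family :=
              { app := fun A φ => e A (H.family.app A φ)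
                natural := fun f φ => by rw [H.family.natural, hnat] }
            miniversal := ⟨?_, ?_⟩ }⟩
  · intro B A μ hμ φ y hy
    obtain ⟨ψ, h1, h2⟩ := H.miniversal.1 μ hμ φ ((e B).symm y) (by
      apply (e A).injective
      rw [hnat, Equiv.apply_symm_apply]
      exact hy)
    refine ⟨ψ, h1, ?_⟩
    change e B (H.family.app B ψ) = y
    rw [h2, Equiv.apply_symm_apply]
  · exact (e (dual Λ k)).bijective.comp H.miniversal.2

end Hull

section Def

variable {X Y : Scheme.{u}} (e : X ≅ Y) (x : X ⟶ specPt k) (y : Y ⟶ specPt k) (hxy : e.hom ≫ y = x)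

/-- Transport of a deformation of `Y` to a deformation of `X ≅ Y`. -/
noncomputable def transport {A : Art Λ k} (ξ : DefSch Y y A) : DefSch X x A where
  total := ξ.total
  f := ξ.f
  flat := ξ.flat
  i := e.hom ≫ ξ.i
  isPullback := by
    have h1 : IsPullback e.hom x y (𝟙 _) := IsPullback.of_horiz_isIso ⟨by rw [Category.comp_id, hxy]⟩
    have h2 := h1.paste_horiz ξ.isPullback
    rwa [Category.id_comp] at h2

/-- Transport of isomorphisms. -/
noncomputable def transportIso {A : Art Λ k} {ξ ξ' : DefSch Y y A} (j : DefSch.Iso ξ ξ') :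
    DefSch.Iso (transport e x y hxy ξ) (transport e x y hxy ξ') where
  iso := j.iso
  hom_f := j.hom_f
  i_hom := by
    change (e.hom ≫ ξ.i) ≫ j.iso.hom = e.hom ≫ ξ'.i
    rw [Category.assoc, j.i_hom]

include hxy in
theorem hyx : e.symm.hom ≫ x = y := by
  rw [Iso.symm_hom, ← hxy, Iso.inv_hom_id_assoc]

/-- Round trip. -/
noncomputable def transportTransport {A : Art Λ k} (ξ : DefSch Y y A) :
    DefSch.Iso (transport e.symm y x (hyx e x y hxy) (transport e x y hxy ξ)) ξ where
  iso := Iso.refl _
  hom_f := Category.id_comp _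
  i_hom := by
    change (e.symm.hom ≫ e.hom ≫ ξ.i) ≫ 𝟙 _ = ξ.i
    rw [Category.comp_id, Iso.symm_hom, Iso.inv_hom_id_assoc]

/-- `Def_Y(A) ≃ Def_X(A)` for `X ≅ Y` over `Spec k`. -/
noncomputable def defEquivOfIso (A : Art Λ k) :
    (defFunctor (Λ := Λ) Y y).obj A ≃ (defFunctor (Λ := Λ) X x).obj A where
  toFun := Quotient.map' (s₁ := DefSch.setoid Y y A) (s₂ := DefSch.setoid X x A)
    (transport e x y hxy) (fun _ _ ⟨j⟩ => ⟨transportIso e x y hxy j⟩)
  invFun := Quotient.map' (s₁ := DefSch.setoid X x A) (s₂ := DefSch.setoid Y y A)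
    (transport e.symm y x (hyx e x y hxy)) (fun _ _ ⟨j⟩ => ⟨transportIso e.symm y x (hyx e x y hxy) j⟩)
  left_inv := by
    intro q
    induction q using Quotient.inductionOn with
    | h ξ => exact Quotient.sound ⟨transportTransport e x y hxy ξ⟩
  right_inv := by
    intro q
    induction q using Quotient.inductionOn with
    | h ξ => exact Quotient.sound ⟨transportTransport e.symm y x (hyx e x y hxy) ξ⟩

theorem defEquivOfIso_natural {A B : Art Λ k} (g : A ⟶ B) (z : (defFunctor (Λ := Λ) Y y).obj A) :
    defEquivOfIso e x y hxy B ((defFunctor (Λ := Λ) Y y).map g z) =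
      (defFunctor (Λ := Λ) X x).map g (defEquivOfIso e x y hxy A z) := by
  induction z using Quotient.inductionOn with
  | h ξ =>
    refine Quotient.sound ⟨?_⟩
    refine { iso := Iso.refl _, hom_f := Category.id_comp _, i_hom := ?_ }
    change (e.hom ≫ (ξ.baseChange g).i) ≫ 𝟙 (pullback ξ.f (specMap g)) =
      ((transport e x y hxy ξ).baseChange g).i
    rw [Category.comp_id]
    apply pullback.hom_ext
    · change (e.hom ≫ (ξ.baseChange g).i) ≫ pullback.fst ξ.f (specMap g) =
        ((transport e x y hxy ξ).baseChange g).i ≫ pullback.fst (transport e x y hxy ξ).f (specMap g)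
      rw [Category.assoc, DefSch.baseChange_i_fst, DefSch.baseChange_i_fst]
      rfl
    · change (e.hom ≫ (ξ.baseChange g).i) ≫ (ξ.baseChange g).f =
        ((transport e x y hxy ξ).baseChange g).i ≫ ((transport e x y hxy ξ).baseChange g).f
      rw [Category.assoc, DefSch.baseChange_i_f, DefSch.baseChange_i_f, ← Category.assoc, hxy]

include hxy in
/-- Hulls of the deformation functor transfer along isomorphisms of the special fibre. -/
theorem hasHull_defFunctor_of_iso (h : HasHull (defFunctor (Λ := Λ) Y y)) :
    HasHull (defFunctor (Λ := Λ) X x) :=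
  hasHull_of_equiv (fun A => defEquivOfIso e x y hxy A)
    (fun g z => defEquivOfIso_natural e x y hxy g z) h

end Def

end Groth.Agent.R2.H56.Transp
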