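import Mathlib

/-!
# Package P-NS: from a smooth open with finite complement to an ideal

`exists_ideal`: for a finite type algebra `B` over a field `k` and an open `U ⊆ Spec B` that is
smooth over `k` with finite complement, there is an ideal `a` with `B ⧸ a` finite over `k` and
`B_b` formally smooth over `k` for all `b ∈ a`.
-/

open AlgebraicGeometry CategoryTheory

universe u

namespace Groth.Agent.R2.H71.NonSmooth

/-- The ring-level finiteness statement: if `zeroLocus a` is finite and `B` is of finite type
over a field, then `B ⧸ a` is a finite `k`-module. -/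
theorem finite_quotient_of_finite_zeroLocus {k B : Type u} [Field k] [CommRing B] [Algebra k B]
    [Algebra.FiniteType k B] (a : Ideal B)
    (hfin : (PrimeSpectrum.zeroLocus (a : Set B)).Finite) :
    Module.Finite k (B ⧸ a) := by
  have hft : Algebra.FiniteType k (B ⧸ a) :=
    Algebra.FiniteType.of_surjective (Ideal.Quotient.mkₐ k a) (Ideal.Quotient.mkₐ_surjective k a)
  have hJ : IsJacobsonRing (B ⧸ a) := isJacobsonRing_of_finiteType (A := k)
  -- the spectrum of `B ⧸ a` is finite
  have hfinS : Finite (PrimeSpectrum (B ⧸ a)) := by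
    have hinj : Function.Injective (PrimeSpectrum.comap (Ideal.Quotient.mk a)) :=
      PrimeSpectrum.comap_injective_of_surjective _ Ideal.Quotient.mk_surjective
    have hrange : Set.range (PrimeSpectrum.comap (Ideal.Quotient.mk a)) ⊆
        PrimeSpectrum.zeroLocus (a : Set B) := by
      rintro _ ⟨q, rfl⟩
      intro x hx
      change Ideal.Quotient.mk a x ∈ q.asIdeal
      rw [Ideal.Quotient.eq_zero_iff_mem.mpr hx]
      exact zero_mem _
    have : (Set.range (PrimeSpectrum.comap (Ideal.Quotient.mk a))).Finite := hfin.subset hrange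
    exact (Set.finite_range_iff hinj).mp this |> fun h => h
  have hdisc : DiscreteTopology (PrimeSpectrum (B ⧸ a)) := inferInstance
  have hdim : Ring.KrullDimLE 0 (B ⧸ a) :=
    (PrimeSpectrum.discreteTopology_iff_finite_and_krullDimLE_zero.mp hdisc).2
  exact (Module.finite_iff_krullDimLE_zero k (B ⧸ a)).mpr hdim

theorem exists_ideal {k B : Type u} [Field k] [CommRing B] [Algebra k B] [Algebra.FiniteType k B]
    (U : (Spec (CommRingCat.of B)).Opens)
    (hU : Smooth (U.ι ≫ Spec.map (CommRingCat.ofHom (algebraMap k B))))
    (hfin : ((U : Set (Spec (CommRingCat.of B)))ᶜ).Finite) :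
    ∃ a : Ideal B, Module.Finite k (B ⧸ a) ∧
      ∀ b ∈ a, Algebra.FormallySmooth k (Localization.Away b) := by
  -- the complement as a subset of the prime spectrum
  let Z : Set (PrimeSpectrum B) := (U : Set (Spec (CommRingCat.of B)))ᶜ
  have hZc : IsClosed Z := U.isOpen.isClosed_compl
  refine ⟨PrimeSpectrum.vanishingIdeal Z, ?_, ?_⟩
  · apply finite_quotient_of_finite_zeroLocus
    rw [PrimeSpectrum.zeroLocus_vanishingIdeal_eq_closure, hZc.closure_eq]
    exact hfin
  · intro b hb
    -- `Spec B_b ⟶ Spec B` is an open immersion with range `D(b) ⊆ U`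
    let j : Spec (CommRingCat.of (Localization.Away b)) ⟶ Spec (CommRingCat.of B) :=
      Spec.map (CommRingCat.ofHom (algebraMap B (Localization.Away b)))
    have hj : IsOpenImmersion j :=
      IsOpenImmersion.of_isLocalization (S := Localization.Away b) b
    have hrange : Set.range j ⊆ Set.range U.ι := by
      rw [Scheme.Opens.range_ι]
      rintro _ ⟨y, rfl⟩
      by_contra hy
      have hyZ : j y ∈ Z := hy
      have hbmem : b ∈ (j y : PrimeSpectrum B).asIdeal :=
        (PrimeSpectrum.mem_vanishingIdeal _ _).mp hb _ hyZ
      -- but `b` is a unit in the localization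
      have hunit : IsUnit (algebraMap B (Localization.Away b) b) :=
        IsLocalization.Away.algebraMap_isUnit b
      have : algebraMap B (Localization.Away b) b ∈ (y : PrimeSpectrum _).asIdeal := hbmem
      exact (y : PrimeSpectrum _).isPrime.ne_top (Ideal.eq_top_of_isUnit_mem _ this hunit)
    let l := IsOpenImmersion.lift U.ι j hrange
    have hl : l ≫ U.ι = j := IsOpenImmersion.lift_fac _ _ _
    have hlo : IsOpenImmersion l := by
      have : IsOpenImmersion (l ≫ U.ι) := hl ▸ hj
      exact IsOpenImmersion.of_comp l U.ι
    have hloc : IsZariskiLocalAtSource (@Smooth.{u}) :=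
      HasRingHomProperty.instIsZariskiLocalAtSource (Q := RingHom.Smooth)
    have hsm : Smooth (l ≫ (U.ι ≫ Spec.map (CommRingCat.ofHom (algebraMap k B)))) :=
      IsZariskiLocalAtSource.comp (P := @Smooth) hU l
    rw [← Category.assoc, hl] at hsm
    have hcomp : j ≫ Spec.map (CommRingCat.ofHom (algebraMap k B)) =
        Spec.map (CommRingCat.ofHom (algebraMap k (Localization.Away b))) := by
      rw [← Spec.map_comp]
      congr 1
    rw [hcomp] at hsm
    have hsm' : (algebraMap k (Localization.Away b)).Smooth :=
      (HasRingHomProperty.Spec_iff (P := @Smooth)).mp hsm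
    have : Algebra.Smooth k (Localization.Away b) := RingHom.smooth_algebraMap.mp hsm'
    exact this.formallySmooth

end Groth.Agent.R2.H71.NonSmooth
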