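import Mathlib

/-!
Helper library (helper71): finiteness of `T¹(B/k, B)` for isolated non-smooth points.

For generators `P : Generators R S ι` (ι finite) the cokernel of
`Hom_S(S ⊗ Ω_P, S) → Hom_S(I/I², S)` is killed, elementwise, by a power of every `b : S` such that
`S[1/b]` is formally smooth over `R`.
-/

set_option autoImplicit false
set_option linter.style.haveILetI false
universe w u₁ u₂ v

open TensorProduct

namespace Groth.Agent.R2.H71.T1Fin

open Algebra

variable {R : Type u₁} {S : Type u₂} [CommRing R] [CommRing S] [Algebra R S]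
variable {ι : Type w} (P : Generators R S ι)

attribute [local instance] SMulCommClass.of_commMonoid

/-- a retraction of `T ⊗ I/I² → J/J²` for the localization away from `b`. -/
lemma exists_retraction (b : S) (T : Type u₂) [CommRing T] [Algebra R T] [Algebra S T]
    [IsScalarTower R S T] [IsLocalization.Away b T] :
    ∃ r : ((Generators.localizationAway T b).comp P).toExtension.Cotangent →ₗ[T]
        T ⊗[S] P.toExtension.Cotangent,
      ∀ x : P.toExtension.Cotangent,
        r (Extension.Cotangent.map ((Generators.localizationAway T b).toComp P).toExtensionHom x) =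
          1 ⊗ₜ x := by
  obtain ⟨x, hx⟩ := Generators.Cotangent.surjective_map_ofComp (Generators.localizationAway T b) P
    (Generators.cMulXSubOneCotangent T b)
  let e := Generators.cotangentCompLocalizationAwayEquiv b P hx
  refine ⟨LinearMap.fst T _ _ ∘ₗ e.toLinearMap, fun y => ?_⟩
  have h1 := Generators.cotangentCompLocalizationAwayEquiv_symm_inl b P hx (1 ⊗ₜ y)
  rw [LinearMap.liftBaseChange_tmul, one_smul] at h1
  change (e (Extension.Cotangent.map ((Generators.localizationAway T b).toComp P).toExtensionHom y)).1 = _
  rw [← h1]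
  change (e (e.symm (1 ⊗ₜ y, 0))).1 = _
  rw [LinearEquiv.apply_symm_apply]


/-- after localizing at `b` with `S[1/b]` formally smooth, every `φ : I/I² → S` extends to the
cotangent space (with values in the localization). -/
lemma exists_ext_localization (b : S) (T : Type u₂) [CommRing T] [Algebra R T] [Algebra S T]
    [IsScalarTower R S T] [IsLocalization.Away b T] (hsm : Algebra.FormallySmooth R T)
    (φ : P.toExtension.Cotangent →ₗ[S] S) :
    ∃ θ' : P.toExtension.CotangentSpace →ₗ[S] T,
      ∀ x, θ' (P.toExtension.cotangentComplex x) = algebraMap S T (φ x) := by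
  let Q := (Generators.localizationAway T b).comp P
  haveI : Algebra.FormallySmooth R Q.toExtension.Ring :=
    inferInstanceAs (Algebra.FormallySmooth R (MvPolynomial (Unit ⊕ ι) R))
  obtain ⟨l, hl⟩ := (Algebra.Extension.formallySmooth_iff_split_injection Q.toExtension).mp hsm
  obtain ⟨r, hr⟩ := exists_retraction P b T
  let φ' : T ⊗[S] P.toExtension.Cotangent →ₗ[T] T :=
    LinearMap.liftBaseChange T ((Algebra.linearMap S T) ∘ₗ φ)
  let θ : Q.toExtension.CotangentSpace →ₗ[T] T := φ' ∘ₗ r ∘ₗ l
  refine ⟨(θ.restrictScalars S) ∘ₗ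
    Extension.CotangentSpace.map ((Generators.localizationAway T b).toComp P).toExtensionHom, ?_⟩
  intro x
  rw [LinearMap.comp_apply, Extension.CotangentSpace.map_cotangentComplex]
  change φ' (r (l (Q.toExtension.cotangentComplex _))) = _
  have h2 := LinearMap.congr_fun hl (Extension.Cotangent.map
    ((Generators.localizationAway T b).toComp P).toExtensionHom x)
  rw [LinearMap.comp_apply, LinearMap.id_apply] at h2
  rw [h2, hr, LinearMap.liftBaseChange_tmul, one_smul]
  rfl


/-- **key step**: if `S[1/b]` is formally smooth over `R`, a power of `b` times any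
`φ : I/I² → S` extends to `S ⊗ Ω_P → S`. -/
theorem exists_pow_smul_eq_comp [Finite ι] [Module.Finite S P.toExtension.Cotangent] (b : S)
    (hsm : Algebra.FormallySmooth R (Localization.Away b))
    (φ : P.toExtension.Cotangent →ₗ[S] S) :
    ∃ (m : ℕ) (θ : P.toExtension.CotangentSpace →ₗ[S] S),
      b ^ m • φ = θ ∘ₗ P.toExtension.cotangentComplex := by
  classical
  obtain ⟨θ', hθ'⟩ := exists_ext_localization P b (Localization.Away b) hsm φ
  -- clear denominators on the basis
  obtain ⟨⟨_, ⟨m, rfl⟩⟩, hc⟩ := IsLocalization.exist_integer_multiples_of_finite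
    (Submonoid.powers b) (fun i => θ' (P.cotangentSpaceBasis i))
  choose c hc using hc
  let θ₀ : P.toExtension.CotangentSpace →ₗ[S] S := P.cotangentSpaceBasis.constr S c
  have hθ₀ : ∀ y, algebraMap S (Localization.Away b) (θ₀ y) = b ^ m • θ' y := by
    intro y
    have : (Algebra.linearMap S (Localization.Away b)) ∘ₗ θ₀ = b ^ m • θ' := by
      refine P.cotangentSpaceBasis.ext fun i => ?_
      rw [LinearMap.comp_apply, Module.Basis.constr_basis, LinearMap.smul_apply]
      exact hc i
    exact LinearMap.congr_fun this y
  -- equality after localization, on each element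
  have hloc : ∀ x : P.toExtension.Cotangent, ∃ k : ℕ,
      b ^ k * (θ₀ (P.toExtension.cotangentComplex x) - b ^ m * φ x) = 0 := by
    intro x
    have h0 : algebraMap S (Localization.Away b)
        (θ₀ (P.toExtension.cotangentComplex x) - b ^ m * φ x) = 0 := by
      rw [map_sub, hθ₀, hθ', map_mul, Algebra.smul_def, sub_self]
    obtain ⟨⟨_, ⟨k, rfl⟩⟩, hk⟩ :=
      (IsLocalization.map_eq_zero_iff (Submonoid.powers b) (Localization.Away b) _).mp h0
    exact ⟨k, hk⟩
  choose k hk using hloc
  obtain ⟨s, hs⟩ := (Module.Finite.fg_top (R := S) (M := P.toExtension.Cotangent))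
  let K := s.sup k
  refine ⟨K + m, b ^ K • θ₀, ?_⟩
  apply LinearMap.ext_on hs
  intro x hx
  have hxk : k x ≤ K := Finset.le_sup (f := k) hx
  have h1 := hk x
  have h2 : b ^ K * (θ₀ (P.toExtension.cotangentComplex x) - b ^ m * φ x) = 0 := by
    rw [← Nat.sub_add_cancel hxk, pow_add, mul_assoc, h1, mul_zero]
  rw [LinearMap.smul_apply, LinearMap.comp_apply, LinearMap.smul_apply, smul_eq_mul, smul_eq_mul,
    pow_add, mul_assoc]
  rw [mul_sub, sub_eq_zero] at h2
  exact h2.symm


section FiniteOverField

variable {k : Type u₁} {B : Type u₂} [Field k] [CommRing B] [Algebra k B]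

/-- a finite `B`-module killed by `a` is finite over `k` when `B ⧸ a` is. -/
lemma finite_of_smul_eq_zero (a : Ideal B) [Module.Finite k (B ⧸ a)]
    (M : Type*) [AddCommGroup M] [Module B M] [Module k M] [IsScalarTower k B M]
    [Module.Finite B M] (ha : ∀ x ∈ a, ∀ m : M, x • m = 0) : Module.Finite k M := by
  have htors : Module.IsTorsionBySet B M (a : Set B) := by
    intro m x
    exact ha x.1 x.2 m
  letI : Module (B ⧸ a) M := htors.module
  haveI : IsScalarTower B (B ⧸ a) M := htors.isScalarTower
  haveI : Module.Finite (B ⧸ a) M := Module.Finite.of_restrictScalars_finite B (B ⧸ a) M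
  haveI : IsScalarTower k (B ⧸ a) M := by
    refine ⟨fun c q m => ?_⟩
    obtain ⟨b, rfl⟩ := Ideal.Quotient.mk_surjective q
    have h1 : c • (Ideal.Quotient.mk a b) = Ideal.Quotient.mk a (c • b) := rfl
    have h2 : ∀ b' : B, (Ideal.Quotient.mk a b') • m = b' • m := fun b' =>
      (IsScalarTower.algebraMap_smul (B ⧸ a) b' m)
    rw [h1, h2, h2, smul_assoc]
  exact Module.Finite.trans (B ⧸ a) M

/-- a finite `B`-module killed by a power of `a` is finite over `k` when `B ⧸ a` is. -/
lemma finite_of_pow_smul_eq_zero [IsNoetherianRing B] (a : Ideal B) [Module.Finite k (B ⧸ a)]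
    (N : ℕ) : ∀ (M : Type v) [AddCommGroup M] [Module B M] [Module k M] [IsScalarTower k B M]
    [Module.Finite B M], (∀ x ∈ a ^ N, ∀ m : M, x • m = 0) → Module.Finite k M := by
  induction N with
  | zero =>
    intro M _ _ _ _ _ h
    have : Subsingleton M := by
      refine ⟨fun m m' => ?_⟩
      have h1 := h 1 (by simp) m
      have h2 := h 1 (by simp) m'
      rw [one_smul] at h1 h2
      rw [h1, h2]
    infer_instance
  | succ N ih =>
    intro M _ _ _ _ _ h
    let M' : Submodule B M := a • (⊤ : Submodule B M)
    haveI : Module.Finite B M' := Module.Finite.of_fg (IsNoetherian.noetherian M')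
    have h1 : Module.Finite k M' := by
      apply ih M'
      intro x hx m
      apply Subtype.ext
      rw [Submodule.coe_smul, Submodule.coe_zero]
      have hm : (m : M) ∈ a • (⊤ : Submodule B M) := m.2
      refine Submodule.smul_induction_on hm ?_ ?_
      · intro y hy n _
        rw [← mul_smul]
        exact h _ (by rw [pow_succ]; exact Ideal.mul_mem_mul hx hy) n
      · intro m₁ m₂ h₁ h₂
        rw [smul_add, h₁, h₂, add_zero]
    have h2 : Module.Finite k (M ⧸ M') := by
      apply finite_of_smul_eq_zero a
      intro x hx m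
      obtain ⟨m, rfl⟩ := Submodule.Quotient.mk_surjective M' m
      rw [← Submodule.Quotient.mk_smul, Submodule.Quotient.mk_eq_zero]
      exact Submodule.smul_mem_smul hx Submodule.mem_top
    haveI : Module.Finite k (M'.restrictScalars k) := h1
    haveI : Module.Finite k (M ⧸ M'.restrictScalars k) :=
      Module.Finite.equiv (Submodule.Quotient.restrictScalarsEquiv k M').symm
    exact Module.Finite.of_submodule_quotient (M'.restrictScalars k)


/-- Hom from a finite module into a Noetherian ring is a finite module. -/
lemma finite_hom [IsNoetherianRing B] (M : Type*) [AddCommGroup M] [Module B M] [Module.Finite B M] :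
    Module.Finite B (M →ₗ[B] B) := by
  obtain ⟨n, f, hf⟩ := Module.Finite.exists_fin' B M
  have hinj : Function.Injective (LinearMap.lcomp B B f) := by
    intro φ ψ h
    apply LinearMap.ext
    intro m
    obtain ⟨x, rfl⟩ := hf m
    exact LinearMap.congr_fun h x
  exact Module.Finite.of_injective (LinearMap.lcomp B B f) hinj

/-- **finiteness of `T¹`**: let `B` be a finite type algebra over a field `k` given by finitely many
generators `P`, and `a` an ideal of `B` with `B ⧸ a` finite-dimensional such that `B[1/b]` is
formally smooth over `k` for every `b ∈ a` (isolated non-smooth points). Then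
`T¹(B/k, B) = coker (Hom_B(B ⊗ Ω_P, B) → Hom_B(I/I², B))` is finite-dimensional over `k`. -/
theorem finite_T1 {ι : Type w} [Finite ι] (P : Generators k B ι) (a : Ideal B)
    [Module.Finite k (B ⧸ a)]
    (hsm : ∀ b ∈ a, Algebra.FormallySmooth k (Localization.Away b)) :
    Module.Finite k ((P.toExtension.Cotangent →ₗ[B] B) ⧸
      LinearMap.range (LinearMap.lcomp B B P.toExtension.cotangentComplex)) := by
  haveI : IsNoetherianRing P.Ring := inferInstanceAs (IsNoetherianRing (MvPolynomial ι k))
  haveI : IsNoetherianRing B :=
    isNoetherianRing_of_surjective P.Ring B (algebraMap P.Ring B) P.algebraMap_surjective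
  haveI : IsNoetherianRing P.toExtension.Ring := ‹IsNoetherianRing P.Ring›
  haveI : Module.Finite B P.toExtension.Cotangent :=
    Algebra.Extension.Cotangent.finite (P := P.toExtension)
      (IsNoetherian.noetherian (P.toExtension.ker))
  haveI : Module.Finite B (P.toExtension.Cotangent →ₗ[B] B) := finite_hom _
  set Rg := LinearMap.range (LinearMap.lcomp B B P.toExtension.cotangentComplex) with hRg
  -- every element of `a` lies in the radical of the annihilator
  have hrad : a ≤ (Module.annihilator B ((P.toExtension.Cotangent →ₗ[B] B) ⧸ Rg)).radical := by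
    intro b hb
    obtain ⟨s, hs⟩ := (Module.Finite.fg_top (R := B)
      (M := (P.toExtension.Cotangent →ₗ[B] B) ⧸ Rg))
    have hex : ∀ t : (P.toExtension.Cotangent →ₗ[B] B) ⧸ Rg, ∃ m : ℕ, b ^ m • t = 0 := by
      intro t
      obtain ⟨φ, rfl⟩ := Submodule.Quotient.mk_surjective Rg t
      obtain ⟨m, θ, hθ⟩ := exists_pow_smul_eq_comp P b (hsm b hb) φ
      refine ⟨m, ?_⟩
      rw [← Submodule.Quotient.mk_smul, Submodule.Quotient.mk_eq_zero, hθ]
      exact ⟨θ, rfl⟩
    choose m hm using hex
    refine ⟨s.sup m, ?_⟩
    rw [Module.mem_annihilator]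
    intro t
    have ht : t ∈ Submodule.span B (s : Set _) := by rw [hs]; trivial
    refine Submodule.span_induction ?_ ?_ ?_ ?_ ht
    · intro x hx
      have hle : m x ≤ s.sup m := Finset.le_sup (f := m) hx
      rw [← Nat.sub_add_cancel hle, pow_add, mul_smul, hm, smul_zero]
    · rw [smul_zero]
    · intro x y _ _ hx hy
      rw [smul_add, hx, hy, add_zero]
    · intro c x _ hx
      rw [smul_comm, hx, smul_zero]
  obtain ⟨N, hN⟩ := Ideal.exists_pow_le_of_le_radical_of_fg hrad (IsNoetherian.noetherian a)
  refine finite_of_pow_smul_eq_zero a N _ ?_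
  intro x hx t
  exact Module.mem_annihilator.mp (hN hx) t

end FiniteOverField

end Groth.Agent.R2.H71.T1Fin
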