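import Groth.Agent.R2.H56HullC
import Groth.Agent.R2.H56HullE
import Groth.Agent.R2.H71T1Fin
import Groth.Agent.R2.H71NonSmooth
import Groth.Agent.S12732
import Groth.Agent.S12726

/-!
# A hull for the deformation functor of an affine scheme with finitely many non-smooth points (helper56)

ns `Groth.Agent.R2.H56.HullMain`: `hasHull_spec` (for `Spec B₀`) and `hasHull_affine` (for an affine scheme).
-/

set_option autoImplicit false
set_option linter.style.haveILetI false
set_option linter.unusedSectionVars false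

universe u

open CategoryTheory CategoryTheory.Limits AlgebraicGeometry

namespace Groth.Agent.R2.H56.HullMain

open ArtFun ArtFun.Art Groth.Agent.R2.H56.AffDef Groth.Agent.R2.H56.Hull Groth.Agent.R2.H56.Tan
open Groth.Agent.Lib.Helper19.CotTIndep

variable (Λ k : Type u) [CommRing Λ] [IsNoetherianRing Λ] [Field k] [Algebra Λ k]

theorem subsingleton_derivation (hk : Function.Surjective (algebraMap Λ k)) :
    Subsingleton (Derivation Λ k k) := by
  refine ⟨fun D D' => ?_⟩
  ext c
  obtain ⟨a, rfl⟩ := hk c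
  rw [Derivation.map_algebraMap, Derivation.map_algebraMap]

theorem hasHull_spec (hk : Function.Surjective (algebraMap Λ k))
    (B₀ : Type u) [CommRing B₀] [Algebra k B₀] [Algebra.FiniteType k B₀]
    (U : (Spec (CommRingCat.of B₀)).Opens) (hU : Smooth (U.ι ≫ xB (k := k) B₀))
    (hfin : ((U : Set (Spec (CommRingCat.of B₀)))ᶜ).Finite) :
    HasHull (defFunctor (Λ := Λ) (Spec (CommRingCat.of B₀)) (xB (k := k) B₀)) := by
  obtain ⟨a, ha, hsm⟩ := Groth.Agent.R2.H71.NonSmooth.exists_ideal U hU hfin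
  obtain ⟨s, hs⟩ := (Algebra.FiniteType.out : (⊤ : Subalgebra k B₀).FG)
  let G : Algebra.Generators k B₀ (s : Set B₀) := Algebra.Generators.ofSet hs
  let P : Algebra.Presentation k B₀ (s : Set B₀) G.ker :=
    { toGenerators := G
      relation := Subtype.val
      span_range_relation_eq_ker := by
        rw [Subtype.range_coe]
        exact Ideal.span_eq _ }
  haveI : Finite (s : Set B₀) := (Finset.finite_toSet s).to_subtype
  haveI : Module.Finite k (C1 P.toExtension B₀) := Groth.Agent.R2.H71.T1Fin.finite_T1 G a hsm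
  haveI : Module.Finite Λ k := Module.Finite.of_surjective (Algebra.linearMap Λ k) hk
  have hder := subsingleton_derivation Λ k hk
  have h0 := h0_defFunctor Λ (k := k) B₀
  have h1 := s1_defFunctor Λ (k := k) B₀
  have h2 := heps_defFunctor Λ (k := k) B₀
  obtain ⟨T⟩ := Groth.Agent.S12726.result _ h0 h2
  exact Groth.Agent.S12732.result hder _ h0 h1 h2 (hfin_of_finite Λ P)

theorem hasHull_affine (hk : Function.Surjective (algebraMap Λ k))
    (X : Scheme.{u}) [IsAffine X] (x : X ⟶ Spec (CommRingCat.of k)) [LocallyOfFiniteType x]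
    (U : X.Opens) (hU : Smooth (U.ι ≫ x)) (hfin : ((U : Set X)ᶜ).Finite) :
    HasHull (defFunctor (Λ := Λ) X x) := by
  let B₀ : Type u := Γ(X, ⊤)
  let ρ : k →+* B₀ := ((Scheme.ΓSpecIso (CommRingCat.of k)).inv ≫ x.appTop).hom
  letI : Algebra k B₀ := ρ.toAlgebra
  let e : X ≅ Spec (CommRingCat.of B₀) := X.isoSpec
  have hxy : e.hom ≫ xB (k := k) B₀ = x := by
    change X.isoSpec.hom ≫ Spec.map (CommRingCat.ofHom ρ) = x
    have h1 : CommRingCat.ofHom ρ = (Scheme.ΓSpecIso (CommRingCat.of k)).inv ≫ x.appTop := rfl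
    rw [h1, Spec.map_comp, ← Category.assoc, Scheme.isoSpec_hom_naturality, Category.assoc,
      Scheme.isoSpec_Spec_hom, ← Spec.map_comp, Iso.inv_hom_id, Spec.map_id, Category.comp_id]
  have hinv : xB (k := k) B₀ = e.inv ≫ x := by rw [← hxy, Iso.inv_hom_id_assoc]
  have hft : LocallyOfFiniteType (xB (k := k) B₀) := by
    rw [hinv]
    infer_instance
  haveI : Algebra.FiniteType k B₀ := (HasRingHomProperty.Spec_iff (P := @LocallyOfFiniteType)).1 hft
  let U' : (Spec (CommRingCat.of B₀)).Opens := e.inv ⁻¹ᵁ U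
  have hU' : Smooth (U'.ι ≫ xB (k := k) B₀) := by
    have h1 : U'.ι ≫ xB (k := k) B₀ = (e.inv ∣_ U) ≫ (U.ι ≫ x) := by
      rw [← Category.assoc, morphismRestrict_ι, Category.assoc, hinv]
    rw [h1]
    haveI := hU
    infer_instance
  have hfin' : ((U' : Set (Spec (CommRingCat.of B₀)))ᶜ).Finite := by
    have h1 : ((U' : Set (Spec (CommRingCat.of B₀)))ᶜ) = e.inv ⁻¹' ((U : Set X)ᶜ) := rfl
    rw [h1]
    exact hfin.preimage (Set.injOn_of_injective (Scheme.homeoOfIso e.symm).injective)
  exact Groth.Agent.R2.H56.Transp.hasHull_defFunctor_of_iso e x (xB (k := k) B₀) hxy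
    (hasHull_spec Λ k hk B₀ U' hU' hfin')

end Groth.Agent.R2.H56.HullMain
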