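import Groth.Prelude.Def_ArtFun3
import Groth.Prelude.Def_CotT
import Mathlib.RingTheory.Flat.Basic
import Mathlib.RingTheory.Artinian.Ring
import Mathlib.RingTheory.LocalRing.ResidueField.Basic
import Mathlib.RingTheory.Ideal.Cotangent
import Mathlib.RingTheory.KrullDimension.Basic

/-!
# PROJ:t2-obs (helper56) — interface for the `T²` obstruction theory of `Def_{Spec B₀}`

Packages (each a `Prop`; a package is delivered as a theorem `pkgX : PkgX` in its own file):
* `PkgA`: from a "coefficient form" obstruction `o p hp u ∈ T²(P, B₀ ⊗ₖ J)` (zero iff `u` lifts, natural for `J → J/K`)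
  to `HasObsTheory F (T² P B₀)`.  Route: the natural `k`-linear map `Ψ_J : T² P B₀ ⊗ₖ J → T² P (B₀ ⊗ₖ J)`,
  `t ⊗ j ↦ T2map (b ↦ b ⊗ j) t` is bijective for `J` finite-dimensional (choose a basis), `obs := Ψ_J⁻¹ (o …)`.
* `PkgG`: flatness of `S/I` over an Artinian local ring `R` for `S` flat: `I ∩ 𝔪S ⊆ 𝔪S · I` suffices.
* `PkgB`: `dim 𝔪/𝔪² = dim V` for a hull of `F` when `F(k[ε]) ≅ V` compatibly with `scale`, `plus`.
* `PkgC`: for a hull `(R̄, ξ)` of `F` with `F(k) = pt`: `dim R̄ = dim 𝔪/𝔪²` iff `F` is smooth.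
-/

set_option autoImplicit false

universe u v

open CategoryTheory ArtFun ArtFun.Art
open scoped TensorProduct

namespace Groth.Agent.R2.H56.ObsSpec

/-- PKG-A. -/
def PkgA : Prop :=
  ∀ {k : Type u} [Field k] {B₀ : Type u} [CommRing B₀] [Algebra k B₀] {ι σ : Type u}
    (P : Algebra.Presentation k B₀ ι σ) (F : Art k k ⥤ Type v)
    (o : ∀ {C' C : Art k k} (p : C' ⟶ C), IsSemismallExt p → F.obj C →
      CotT.T2 P (B₀ ⊗[k] ↥(RingHom.ker p.toAlgHom)))
    (_h0 : ∀ {C' C : Art k k} (p : C' ⟶ C) (hp : IsSemismallExt p) (u : F.obj C),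
      o p hp u = 0 ↔ ∃ u' : F.obj C', F.map p u' = u)
    (_hq : ∀ {C' C : Art k k} (p : C' ⟶ C) (hp : IsSemismallExt p) (K : Ideal C')
      (hK : K ≤ IsLocalRing.maximalIdeal C') (hKJ : K ≤ RingHom.ker p.toAlgHom)
      (hq : IsSemismallExt (quotFactor hK p hKJ)) (u : F.obj C),
      o (quotFactor hK p hKJ) hq u =
        CotT.T2map P (((kerToQuot hK p hKJ).restrictScalars k).baseChange B₀) (o p hp u)),
    HasObsTheory F (CotT.T2 P B₀)

/-- PKG-G. -/
def PkgG : Prop :=
  ∀ {R : Type u} [CommRing R] [IsLocalRing R] [IsArtinianRing R]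
    {S : Type u} [CommRing S] [Algebra R S] [Module.Flat R S] (I : Ideal S)
    (_h : ∀ x ∈ I, x ∈ Ideal.map (algebraMap R S) (IsLocalRing.maximalIdeal R) →
      x ∈ Ideal.map (algebraMap R S) (IsLocalRing.maximalIdeal R) * I),
    Module.Flat R (S ⧸ I)

/-- PKG-C. -/
def PkgC : Prop :=
  ∀ {k : Type u} [Field k] {F : Art k k ⥤ Type v} (_h0 : H0 F) (H : Hull F),
    ringKrullDim H.ring.carrier =
        ((Module.finrank (IsLocalRing.ResidueField H.ring.carrier)
          (IsLocalRing.CotangentSpace H.ring.carrier) : ℕ∞) : WithBot ℕ∞) ↔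
      IsSmoothFunctor F

/-- PKG-B: the embedding dimension of a hull is the dimension of the tangent space, the latter being given through a
bijection `c : F(k[ε]) → V` onto a finite-dimensional vector space which is homogeneous and additive in the functorial sense. -/
def PkgB : Prop :=
  ∀ {k : Type u} [Field k] {F : Art k k ⥤ Type v} (H : Hull F)
    {V : Type u} [AddCommGroup V] [Module k V] [Module.Finite k V]
    (c : F.obj (dual k k) → V) (_hc : Function.Bijective c)
    (_hs : ∀ (a : k) (x : F.obj (dual k k)), c (F.map (scale a) x) = a • c x)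
    (_hp : ∀ z : F.obj (dual2 k k), c (F.map plus z) = c (F.map pr₁ z) + c (F.map pr₂ z)),
    Module.finrank (IsLocalRing.ResidueField H.ring.carrier) (IsLocalRing.CotangentSpace H.ring.carrier) =
      Module.finrank k V

end Groth.Agent.R2.H56.ObsSpec
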