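import Mathlib
import Groth.Agent.R2.H56ObsSpec
import Groth.Agent.Lib.Helper3FlatCxArt

/-!
# PROJ:t2-obs, package G (helper97): flatness of `S ⧸ I` over an Artinian local ring
-/

set_option autoImplicit false
universe u

open TensorProduct

namespace Groth.Agent.R2.H97.ObsG

variable {R : Type u} [CommRing R] {S : Type u} [CommRing S] [Algebra R S]

/-- `(𝔪 S) · I` is contained in the image of `𝔪 • ⊤` of the `R`-module `I`. -/
theorem mem_smul_top_of_mem_map_mul (m : Ideal R) (I : Ideal S) (b : I)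
    (hb : (b : S) ∈ Ideal.map (algebraMap R S) m * I) :
    b ∈ m • (⊤ : Submodule R (I.restrictScalars R)) := by
  suffices h : ∀ x : S, x ∈ Ideal.map (algebraMap R S) m * I →
      ∃ (hx : x ∈ I), (⟨x, hx⟩ : I.restrictScalars R) ∈ m • (⊤ : Submodule R (I.restrictScalars R)) by
    obtain ⟨_, h2⟩ := h b.1 hb
    exact h2
  intro x hx
  refine Submodule.mul_induction_on hx ?_ ?_
  · intro a ha c hc
    refine ⟨I.mul_mem_left _ hc, ?_⟩
    -- `a ∈ map m`, write it as a combination
    suffices h : ∀ a : S, a ∈ Ideal.map (algebraMap R S) m → ∀ c (hc : c ∈ I),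
        (⟨a * c, I.mul_mem_left _ hc⟩ : I.restrictScalars R) ∈
          m • (⊤ : Submodule R (I.restrictScalars R)) from h a ha c hc
    intro a ha
    refine Submodule.span_induction (p := fun a _ => ∀ c (hc : c ∈ I),
        (⟨a * c, I.mul_mem_left _ hc⟩ : I.restrictScalars R) ∈
          m • (⊤ : Submodule R (I.restrictScalars R))) ?_ ?_ ?_ ?_ ha
    · rintro _ ⟨r, hr, rfl⟩ c hc
      have : (⟨algebraMap R S r * c, I.mul_mem_left _ hc⟩ : I.restrictScalars R) =
          r • (⟨c, hc⟩ : I.restrictScalars R) := by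
        apply Subtype.ext
        simp [Algebra.smul_def]
      rw [this]
      exact Submodule.smul_mem_smul hr trivial
    · intro c hc
      have : (⟨0 * c, I.mul_mem_left _ hc⟩ : I.restrictScalars R) = 0 := by
        apply Subtype.ext; simp
      rw [this]; exact zero_mem _
    · intro a₁ a₂ _ _ h₁ h₂ c hc
      have : (⟨(a₁ + a₂) * c, I.mul_mem_left _ hc⟩ : I.restrictScalars R) =
          ⟨a₁ * c, I.mul_mem_left _ hc⟩ + ⟨a₂ * c, I.mul_mem_left _ hc⟩ := by
        apply Subtype.ext; simp [add_mul]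
      rw [this]; exact add_mem (h₁ c hc) (h₂ c hc)
    · intro s a₁ _ h₁ c hc
      have : (⟨(s • a₁) * c, I.mul_mem_left _ hc⟩ : I.restrictScalars R) =
          ⟨a₁ * (s * c), I.mul_mem_left _ (I.mul_mem_left s hc)⟩ := by
        apply Subtype.ext; simp only [smul_eq_mul]; ring
      rw [this]; exact h₁ (s * c) (I.mul_mem_left s hc)
  · rintro x y ⟨hx, hx'⟩ ⟨hy, hy'⟩
    refine ⟨I.add_mem hx hy, ?_⟩
    have : (⟨x + y, I.add_mem hx hy⟩ : I.restrictScalars R) = ⟨x, hx⟩ + ⟨y, hy⟩ := rfl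
    rw [this]; exact add_mem hx' hy'

theorem pkgG : Groth.Agent.R2.H56.ObsSpec.PkgG.{u} := by
  intro R _ _ _ S _ _ _ I h
  let m := IsLocalRing.maximalIdeal R
  let B := I.restrictScalars R
  let i : B →ₗ[R] S := B.subtype
  let π : S →ₗ[R] S ⧸ I := (Submodule.mkQ I).restrictScalars R
  have hπ : Function.Surjective π := Submodule.mkQ_surjective I
  have hex : Function.Exact i π := by
    intro s
    constructor
    · intro hs
      have : s ∈ I := (Submodule.Quotient.mk_eq_zero I).mp hs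
      exact ⟨⟨s, this⟩, rfl⟩
    · rintro ⟨b, rfl⟩
      exact (Submodule.Quotient.mk_eq_zero I).mpr b.2
  refine Groth.Agent.Lib.Helper3.flat_of_rTensor_residue_injective i π hπ hex ?_
  show Function.Injective (i.rTensor (R ⧸ m))
  rw [injective_iff_map_eq_zero]
  intro x hx
  let eB := TensorProduct.tensorQuotEquivQuotSMul B m
  let eS := TensorProduct.tensorQuotEquivQuotSMul S m
  obtain ⟨b, hb⟩ := Submodule.Quotient.mk_surjective _ (eB x)
  have hxb : x = b ⊗ₜ[R] (1 : R ⧸ m) := by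
    apply eB.injective
    rw [← hb]
    show _ = eB (b ⊗ₜ[R] (Ideal.Quotient.mk m 1))
    rw [TensorProduct.tensorQuotEquivQuotSMul_tmul_mk, one_smul]
  rw [hxb, LinearMap.rTensor_tmul] at hx
  have h1 : eS (i b ⊗ₜ[R] (1 : R ⧸ m)) = 0 := by rw [hx, map_zero]
  have h2 : eS (i b ⊗ₜ[R] (1 : R ⧸ m)) = Submodule.Quotient.mk (i b) := by
    show eS (i b ⊗ₜ[R] (Ideal.Quotient.mk m 1)) = _
    rw [TensorProduct.tensorQuotEquivQuotSMul_tmul_mk, one_smul]
  rw [h2, Submodule.Quotient.mk_eq_zero] at h1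
  have h3 : (b : S) ∈ Ideal.map (algebraMap R S) m := by
    have := h1
    rw [Ideal.smul_top_eq_map] at this
    exact this
  have h4 := h b.1 b.2 h3
  have h5 : b ∈ m • (⊤ : Submodule R B) := mem_smul_top_of_mem_map_mul m I b h4
  rw [hxb]
  apply eB.injective
  rw [map_zero]
  show eB (b ⊗ₜ[R] (Ideal.Quotient.mk m 1)) = 0
  rw [TensorProduct.tensorQuotEquivQuotSMul_tmul_mk, one_smul, Submodule.Quotient.mk_eq_zero]
  exact h5

end Groth.Agent.R2.H97.ObsG
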