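import Groth.Agent.R2.H56LciSetup
import Groth.Agent.Lib.Helper19KosApi
import Groth.Agent.R2.H97ObsG

/-!
# Lifting affine deformations along a small extension when `T² = 0`, over an arbitrary base `Λ` (helper56)

ns `Groth.Agent.R2.H56.LciLift`.
-/

set_option autoImplicit false
set_option linter.style.haveILetI false
set_option linter.unusedSectionVars false

universe u

namespace Groth.Agent.R2.H56.LciLift

open ArtFun ArtFun.Art Groth.Agent.R2.H56.AffDef Groth.Agent.R2.H56.FlatNil MvPolynomial Groth.Agent.Lib.Helper19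

section Rel

/-- A linear map defined by a functional, additive and homogeneous relation. -/
theorem exists_linear_of_relation {S Qm M : Type*} [CommRing S] [AddCommGroup Qm] [Module S Qm] [AddCommGroup M]
    [Module S M] (Rel : Qm → M → Prop) (hex : ∀ q, ∃ m, Rel q m) (huniq : ∀ q m m', Rel q m → Rel q m' → m = m')
    (hadd : ∀ q q' m m', Rel q m → Rel q' m' → Rel (q + q') (m + m'))
    (hsmul : ∀ (s : S) q m, Rel q m → Rel (s • q) (s • m)) :
    ∃ h : Qm →ₗ[S] M, ∀ q m, Rel q m → h q = m := by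
  choose c hc using hex
  refine ⟨{ toFun := c, map_add' := fun q q' => ?_, map_smul' := fun s q => ?_ }, fun q m hm => ?_⟩
  · exact huniq _ _ _ (hc _) (hadd _ _ _ _ (hc q) (hc q'))
  · exact huniq _ _ _ (hc _) (hsmul s _ _ (hc q))
  · exact huniq _ _ _ (hc q) hm

end Rel

variable {Λ k : Type u} [CommRing Λ] [Field k] [Algebra Λ k] {B₀ : Type u} [CommRing B₀] [Algebra k B₀] {ι σ : Type u}
  [Algebra (MvPolynomial ι k) B₀] [IsScalarTower k (MvPolynomial ι k) B₀]
  {A' A : Art Λ k}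

variable (p : A' ⟶ A) (D : AlgDef B₀ A) (g₀ : ι → D.R) (f : σ → MvPolynomial ι k)

/-- Lifts of the relations to `I' ⊆ A'[x]`. -/
structure LiftData where
  /-- the lifted relations -/
  Fl : σ → MvPolynomial ι A'
  mem : ∀ s, Fl s ∈ I' p D g₀
  eps_eq : ∀ s, eps ι A' (Fl s) = f s

variable {p D g₀ f}

section Red

variable (ι σ A')

/-- Coefficientwise reduction `F' → F`. -/
noncomputable def redF : (σ →₀ MvPolynomial ι A') →+ (σ →₀ MvPolynomial ι k) :=
  Finsupp.mapRange.addMonoidHom (eps ι A').toAddMonoidHom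

variable {ι σ A'}

theorem redF_apply (q' : σ →₀ MvPolynomial ι A') (s : σ) : redF ι σ A' q' s = eps ι A' (q' s) := rfl

theorem redF_single (s : σ) (r : MvPolynomial ι A') :
    redF ι σ A' (Finsupp.single s r) = Finsupp.single s (eps ι A' r) := by
  ext s'
  rw [redF_apply]
  by_cases h : s = s'
  · subst h
    rw [Finsupp.single_eq_same, Finsupp.single_eq_same]
  · rw [Finsupp.single_eq_of_ne' h, Finsupp.single_eq_of_ne' h, map_zero]

theorem redF_smul (r : MvPolynomial ι A') (q' : σ →₀ MvPolynomial ι A') :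
    redF ι σ A' (r • q') = eps ι A' r • redF ι σ A' q' := by
  ext s
  rw [redF_apply, Finsupp.smul_apply, Finsupp.smul_apply, redF_apply, smul_eq_mul, smul_eq_mul, map_mul]

theorem redF_surjective : Function.Surjective (redF ι σ A') := by
  intro q
  induction q using Finsupp.induction_linear with
  | zero => exact ⟨0, map_zero _⟩
  | add x y hx hy =>
    obtain ⟨x', rfl⟩ := hx
    obtain ⟨y', rfl⟩ := hy
    exact ⟨x' + y', map_add _ _ _⟩
  | single s r =>
    obtain ⟨r', rfl⟩ := eps_surjective (A' := A') r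
    exact ⟨Finsupp.single s r', redF_single s r'⟩

end Red

namespace LiftData

variable (L : LiftData p D g₀ f)

/-- `W : F' → S'`, `e_s ↦ Fl s`. -/
noncomputable def W : (σ →₀ MvPolynomial ι A') →ₗ[MvPolynomial ι A'] MvPolynomial ι A' :=
  Finsupp.linearCombination (MvPolynomial ι A') L.Fl

theorem W_single (s : σ) (r : MvPolynomial ι A') : L.W (Finsupp.single s r) = r * L.Fl s := by
  rw [W, Finsupp.linearCombination_single, smul_eq_mul]

theorem W_mem (q : σ →₀ MvPolynomial ι A') : L.W q ∈ I' p D g₀ := by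
  induction q using Finsupp.induction_linear with
  | zero => rw [map_zero]; exact zero_mem _
  | add x y hx hy => rw [map_add]; exact add_mem hx hy
  | single s r => rw [W_single]; exact Ideal.mul_mem_left _ _ (L.mem s)

theorem eps_W (q : σ →₀ MvPolynomial ι A') :
    eps ι A' (L.W q) = Kos.jm (MvPolynomial ι k) f (redF ι σ A' q) := by
  induction q using Finsupp.induction_linear with
  | zero => rw [map_zero, map_zero, map_zero, map_zero]
  | add x y hx hy => rw [map_add, map_add, map_add, map_add, hx, hy]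
  | single s r => rw [W_single, map_mul, L.eps_eq, redF_single, Kos.jm_single]

/-- If all coefficients reduce to zero then `W q ∈ 𝔪' I'`. -/
theorem W_mem_Z_of_redF_eq_zero (q : σ →₀ MvPolynomial ι A') (hq : redF ι σ A' q = 0) : L.W q ∈ Z p D g₀ := by
  have h1 : ∀ s, q s ∈ mS ι A' := fun s => by
    rw [← ker_eps, RingHom.mem_ker, ← redF_apply, hq, Finsupp.zero_apply]
  rw [W, Finsupp.linearCombination_apply, Finsupp.sum]
  exact Ideal.sum_mem _ fun s _ => Ideal.mul_mem_mul (h1 s) (L.mem s)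

end LiftData

section Colon

variable (p D g₀) (e : A')

/-- The colon ideal `(𝔪' I' : e)`. -/
noncomputable def colon : Ideal (MvPolynomial ι A') :=
  Submodule.comap (LinearMap.mulLeft (MvPolynomial ι A') (C e)) (Z p D g₀)

theorem mem_colon (u : MvPolynomial ι A') : u ∈ colon p D g₀ e ↔ C e * u ∈ Z p D g₀ := Iff.rfl

variable (he : e ∈ RingHom.ker p.toAlgHom)
  (hme : ∀ a, a ∈ RingHom.ker A'.res.toRingHom → a * e = 0)

include hme in
theorem C_mul_eq_zero_of_mem_mS (u : MvPolynomial ι A') (hu : u ∈ mS ι A') : C e * u = 0 := by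
  have hle : mS ι A' ≤ LinearMap.ker (LinearMap.mulLeft (MvPolynomial ι A') (C e)) := by
    rw [mS, Ideal.map_le_iff_le_comap]
    intro a ha
    rw [Ideal.mem_comap]
    change C e * C a = 0
    rw [← map_mul, mul_comm, hme a ha, map_zero]
  exact hle hu

include hme in
theorem mS_le_colon : mS ι A' ≤ colon p D g₀ e := by
  intro u hu
  rw [mem_colon, C_mul_eq_zero_of_mem_mS e hme u hu]
  exact zero_mem _

include he in
theorem C_mem_mS : C e ∈ mS ι A' := Ideal.mem_map_of_mem C (ker_le_ker_res p he)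

include he in
theorem I'_le_colon : I' p D g₀ ≤ colon p D g₀ e := by
  intro u hu
  rw [mem_colon]
  exact Ideal.mul_mem_mul (C_mem_mS p e he) hu

end Colon

section PiS

variable (B₀ ι A')

/-- `S' → S → B₀`. -/
noncomputable def πS : MvPolynomial ι A' →+* B₀ := (algebraMap (MvPolynomial ι k) B₀).comp (eps ι A')

variable {B₀ ι A'}

theorem πS_apply (u : MvPolynomial ι A') : πS B₀ ι A' u = algebraMap (MvPolynomial ι k) B₀ (eps ι A' u) := rfl

variable (p D g₀) (e : A')
  (hg : ∀ i, D.π (g₀ i) = algebraMap (MvPolynomial ι k) B₀ (X i))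
  (hp : Function.Surjective p) (hsurj : Function.Surjective (algebraMap (MvPolynomial ι k) B₀))
  (he : e ∈ RingHom.ker p.toAlgHom) (hme : ∀ a, a ∈ RingHom.ker A'.res.toRingHom → a * e = 0)

include hsurj in
theorem πS_surjective : Function.Surjective (πS B₀ ι A') := hsurj.comp eps_surjective

include hg hp hsurj he hme in
theorem mem_colon_of_πS_eq_zero (u : MvPolynomial ι A') (hu : πS B₀ ι A' u = 0) : u ∈ colon p D g₀ e := by
  obtain ⟨y, hy, hyu⟩ := exists_mem_I'_eps_eq p D g₀ hg hp hsurj hu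
  have h1 : u - y ∈ mS ι A' := by rw [← ker_eps, RingHom.mem_ker, map_sub, hyu, sub_self]
  have : u = (u - y) + y := by ring
  rw [this]
  exact add_mem (mS_le_colon p D g₀ e hme h1) (I'_le_colon p D g₀ e he hy)

/-- The image of the colon ideal in `B₀`. -/
noncomputable def aI : Ideal B₀ := Ideal.map (πS B₀ ι A') (colon p D g₀ e)

include hg hp hsurj he hme in
theorem πS_mem_aI_iff (u : MvPolynomial ι A') : πS B₀ ι A' u ∈ aI p D g₀ e ↔ u ∈ colon p D g₀ e := by
  constructor
  · intro h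
    rw [aI, Ideal.mem_map_iff_of_surjective _ (πS_surjective hsurj)] at h
    obtain ⟨v, hv, hvu⟩ := h
    have h1 : u - v ∈ colon p D g₀ e := by
      apply mem_colon_of_πS_eq_zero p D g₀ e hg hp hsurj he hme
      rw [map_sub, hvu, sub_self]
    have : u = (u - v) + v := by ring
    rw [this]
    exact add_mem h1 hv
  · exact fun h => Ideal.mem_map_of_mem _ h

end PiS

section Cocycle

variable (e : A')
  (hg : ∀ i, D.π (g₀ i) = algebraMap (MvPolynomial ι k) B₀ (X i))
  (hp : Function.Surjective p) (hsurj : Function.Surjective (algebraMap (MvPolynomial ι k) B₀))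
  (hε : RingHom.ker p.toAlgHom = Ideal.span {e}) (hme : ∀ a, a ∈ RingHom.ker A'.res.toRingHom → a * e = 0)
  (L : LiftData p D g₀ f)

include hε in
theorem e_mem : e ∈ RingHom.ker p.toAlgHom := by rw [hε]; exact Ideal.subset_span rfl

include hε in
theorem JS_eq : JS (ι := ι) p = Ideal.span {C e} := by
  rw [JS, hε, Ideal.map_span, Set.image_singleton]

/-- The relation defining the obstruction cocycle. -/
def Rel (q : Kos.Q (MvPolynomial ι k) f) (m : B₀ ⧸ aI p D g₀ e) : Prop :=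
  ∃ (q' : σ →₀ MvPolynomial ι A') (u : MvPolynomial ι A'), redF ι σ A' q' = (q : σ →₀ MvPolynomial ι k) ∧
    L.W q' - C e * u ∈ Z p D g₀ ∧ m = Ideal.Quotient.mk (aI p D g₀ e) (πS B₀ ι A' u)

include hg hp hsurj hε in
/-- For every lift `q'` of a relation, `W q'` lies in `e S' + 𝔪' I'`. -/
theorem LiftData.exists_u (q' : σ →₀ MvPolynomial ι A')
    (hq' : redF ι σ A' q' ∈ Kos.Q (MvPolynomial ι k) f) :
    ∃ u : MvPolynomial ι A', L.W q' - C e * u ∈ Z p D g₀ := by
  have h1 : L.W q' ∈ mS ι A' := by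
    rw [← ker_eps, RingHom.mem_ker, L.eps_W]
    exact (Kos.mem_Q _ _ _).1 hq'
  obtain ⟨j, hj, hz⟩ := K1 p D g₀ hg hp hsurj _ (L.W_mem q') h1
  rw [JS_eq e hε] at hj
  obtain ⟨c, rfl⟩ := Ideal.mem_span_singleton'.1 hj
  exact ⟨c, by rwa [mul_comm]⟩

include hg hp hsurj hε hme in
theorem exists_cocycle :
    ∃ h : Kos.Q (MvPolynomial ι k) f →ₗ[MvPolynomial ι k] (B₀ ⧸ aI p D g₀ e),
      ∀ q m, Rel e L q m → h q = m := by
  have he := e_mem e hε
  apply exists_linear_of_relation (Rel e L)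
  · intro q
    obtain ⟨q', hq'⟩ := redF_surjective (A' := A') (q : σ →₀ MvPolynomial ι k)
    obtain ⟨u, hu⟩ := L.exists_u e hg hp hsurj hε q' (by rw [hq']; exact q.2)
    exact ⟨_, q', u, hq', hu, rfl⟩
  · rintro q m m' ⟨q₁, u₁, hq₁, hz₁, rfl⟩ ⟨q₂, u₂, hq₂, hz₂, rfl⟩
    rw [← sub_eq_zero, ← map_sub, ← map_sub, Ideal.Quotient.eq_zero_iff_mem,
      πS_mem_aI_iff p D g₀ e hg hp hsurj he hme, mem_colon]
    have h3 : L.W (q₁ - q₂) ∈ Z p D g₀ :=
      L.W_mem_Z_of_redF_eq_zero _ (by rw [map_sub, hq₁, hq₂, sub_self])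
    have : C e * (u₁ - u₂) = (L.W q₂ - C e * u₂) - (L.W q₁ - C e * u₁) + L.W (q₁ - q₂) := by
      rw [map_sub]; ring
    rw [this]
    exact add_mem (sub_mem hz₂ hz₁) h3
  · rintro q q' m m' ⟨q₁, u₁, hq₁, hz₁, rfl⟩ ⟨q₂, u₂, hq₂, hz₂, rfl⟩
    refine ⟨q₁ + q₂, u₁ + u₂, ?_, ?_, ?_⟩
    · rw [map_add, hq₁, hq₂, Submodule.coe_add]
    · have : L.W (q₁ + q₂) - C e * (u₁ + u₂) = (L.W q₁ - C e * u₁) + (L.W q₂ - C e * u₂) := by
        rw [map_add]; ring
      rw [this]
      exact add_mem hz₁ hz₂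
    · rw [map_add, map_add]
  · rintro s q m ⟨q₁, u₁, hq₁, hz₁, rfl⟩
    obtain ⟨s', rfl⟩ := eps_surjective (A' := A') s
    refine ⟨s' • q₁, s' * u₁, ?_, ?_, ?_⟩
    · rw [redF_smul, hq₁, Submodule.coe_smul]
    · have : L.W (s' • q₁) - C e * (s' * u₁) = s' * (L.W q₁ - C e * u₁) := by
        rw [map_smul, smul_eq_mul]; ring
      rw [this]
      exact Ideal.mul_mem_left _ _ hz₁
    · rw [map_mul, map_mul, πS_apply s', Algebra.smul_def]
      rfl

/-- Trivial relations have lifts on which `W` lands in `𝔪' I'`. -/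
theorem LiftData.exists_lift_of_mem_F0 (x : σ →₀ MvPolynomial ι k) (hx : x ∈ Kos.F0 (MvPolynomial ι k) f) :
    ∃ q' : σ →₀ MvPolynomial ι A', redF ι σ A' q' = x ∧ L.W q' ∈ Z p D g₀ := by
  refine Submodule.span_induction ?_ ?_ ?_ ?_ hx
  · rintro _ ⟨a, b, rfl⟩
    obtain ⟨a', rfl⟩ := redF_surjective (A' := A') a
    obtain ⟨b', rfl⟩ := redF_surjective (A' := A') b
    refine ⟨L.W a' • b' - L.W b' • a', ?_, ?_⟩
    · rw [map_sub, redF_smul, redF_smul, L.eps_W, L.eps_W]
    · have : L.W (L.W a' • b' - L.W b' • a') = 0 := by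
        rw [map_sub, map_smul, map_smul, smul_eq_mul, smul_eq_mul]; ring
      rw [this]
      exact zero_mem _
  · exact ⟨0, map_zero _, by rw [map_zero]; exact zero_mem _⟩
  · rintro x y _ _ ⟨x', rfl, hx'⟩ ⟨y', rfl, hy'⟩
    exact ⟨x' + y', map_add _ _ _, by rw [map_add]; exact add_mem hx' hy'⟩
  · rintro r x _ ⟨x', rfl, hx'⟩
    obtain ⟨r', rfl⟩ := eps_surjective (A' := A') r
    exact ⟨r' • x', redF_smul r' x', by rw [map_smul, smul_eq_mul]; exact Ideal.mul_mem_left _ _ hx'⟩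

theorem Rel_zero_of_mem_F0 (q : Kos.Q (MvPolynomial ι k) f)
    (hq : (q : σ →₀ MvPolynomial ι k) ∈ Kos.F0 (MvPolynomial ι k) f) : Rel e L q 0 := by
  obtain ⟨q', hq', hz⟩ := L.exists_lift_of_mem_F0 _ hq
  refine ⟨q', 0, hq', ?_, ?_⟩
  · rw [mul_zero, sub_zero]; exact hz
  · rw [map_zero, map_zero]

end Cocycle

section Modify

variable (e : A') (he : e ∈ RingHom.ker p.toAlgHom) (L : LiftData p D g₀ f) (v : σ → MvPolynomial ι A')

include he in
/-- Modify the lifted relations by multiples of `e`. -/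
noncomputable def LiftData.modify : LiftData p D g₀ f where
  Fl s := L.Fl s - C e * v s
  mem s := sub_mem (L.mem s) (JS_le_I' p D g₀ (Ideal.mul_mem_right _ _ (Ideal.mem_map_of_mem C he)))
  eps_eq s := by
    have h0 : A'.res e = 0 := ker_le_ker_res p he
    rw [map_sub, map_mul, eps_C, h0, map_zero, zero_mul, sub_zero, L.eps_eq]

/-- `V : F' → S'`, `e_s ↦ v s`. -/
noncomputable def Vmap : (σ →₀ MvPolynomial ι A') →ₗ[MvPolynomial ι A'] MvPolynomial ι A' :=
  Finsupp.linearCombination (MvPolynomial ι A') v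

theorem Vmap_single (s : σ) (r : MvPolynomial ι A') : Vmap v (Finsupp.single s r) = r * v s := by
  rw [Vmap, Finsupp.linearCombination_single, smul_eq_mul]

theorem LiftData.modify_W (q' : σ →₀ MvPolynomial ι A') :
    (L.modify e he v).W q' = L.W q' - C e * Vmap v q' := by
  induction q' using Finsupp.induction_linear with
  | zero => simp only [map_zero, mul_zero, sub_zero]
  | add x y hx hy => rw [map_add, map_add, map_add, hx, hy]; ring
  | single s r =>
    rw [LiftData.W_single, LiftData.W_single, Vmap_single]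
    change r * (L.Fl s - C e * v s) = _
    ring

end Modify

section Good

variable (e : A')
  (hg : ∀ i, D.π (g₀ i) = algebraMap (MvPolynomial ι k) B₀ (X i))
  (hp : Function.Surjective p) (hsurj : Function.Surjective (algebraMap (MvPolynomial ι k) B₀))
  (hε : RingHom.ker p.toAlgHom = Ideal.span {e}) (hme : ∀ a, a ∈ RingHom.ker A'.res.toRingHom → a * e = 0)
  (hf : ∀ s, algebraMap (MvPolynomial ι k) B₀ (f s) = 0)

theorem G_redF_eq (G : (σ →₀ MvPolynomial ι k) →ₗ[MvPolynomial ι k] (B₀ ⧸ aI p D g₀ e))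
    (v : σ → MvPolynomial ι A')
    (hv : ∀ s, Ideal.Quotient.mk (aI p D g₀ e) (πS B₀ ι A' (v s)) = G (Finsupp.single s 1))
    (q' : σ →₀ MvPolynomial ι A') :
    G (redF ι σ A' q') = Ideal.Quotient.mk (aI p D g₀ e) (πS B₀ ι A' (Vmap v q')) := by
  induction q' using Finsupp.induction_linear with
  | zero => simp only [map_zero]
  | add x y hx hy => rw [map_add, map_add, map_add, map_add, map_add, hx, hy]
  | single s r =>
    rw [redF_single, Vmap_single, map_mul, map_mul, hv, πS_apply r]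
    have h1 : (Finsupp.single s (eps ι A' r) : σ →₀ MvPolynomial ι k) = eps ι A' r • Finsupp.single s 1 := by
      rw [Finsupp.smul_single, smul_eq_mul, mul_one]
    rw [h1, map_smul, Algebra.smul_def]
    rfl

include hg hp hsurj hε hme in
/-- If `T²(B₀/𝔞) = 0` the lifted relations can be corrected so that every lifted relation between them lies in `𝔪' I'`. -/
theorem exists_liftData_W_mem
    (hT2 : Subsingleton (Kos.T2 (MvPolynomial ι k) B₀ f hf (B₀ ⧸ aI p D g₀ e)))
    (L₀ : LiftData p D g₀ f) :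
    ∃ L : LiftData p D g₀ f, ∀ q' : σ →₀ MvPolynomial ι A',
      redF ι σ A' q' ∈ Kos.Q (MvPolynomial ι k) f → L.W q' ∈ Z p D g₀ := by
  have he := e_mem e hε
  obtain ⟨h, hh⟩ := exists_cocycle e hg hp hsurj hε hme L₀
  have hF0 : ∀ q : Kos.Q (MvPolynomial ι k) f, (q : σ →₀ MvPolynomial ι k) ∈ Kos.F0 (MvPolynomial ι k) f → h q = 0 :=
    fun q hq => hh q 0 (Rel_zero_of_mem_F0 e L₀ q hq)
  have h0 : (Submodule.Quotient.mk (Kos.lift2 (B := B₀) h hF0) :
      Kos.T2 (MvPolynomial ι k) B₀ f hf (B₀ ⧸ aI p D g₀ e)) = 0 := Subsingleton.elim _ _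
  rw [Submodule.Quotient.mk_eq_zero, Kos.mem_range_lcomp_d2_iff] at h0
  obtain ⟨G, hG⟩ := h0
  simp_rw [Kos.at2_lift2] at hG
  have hsurj' : ∀ m : B₀ ⧸ aI p D g₀ e, ∃ v : MvPolynomial ι A',
      Ideal.Quotient.mk (aI p D g₀ e) (πS B₀ ι A' v) = m := fun m => by
    obtain ⟨b, rfl⟩ := Ideal.Quotient.mk_surjective m
    obtain ⟨v, rfl⟩ := πS_surjective (A' := A') hsurj b
    exact ⟨v, rfl⟩
  choose v hv using fun s => hsurj' (G (Finsupp.single s 1))
  refine ⟨L₀.modify e he v, fun q' hq' => ?_⟩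
  obtain ⟨u, hu⟩ := L₀.exists_u e hg hp hsurj hε q' hq'
  have h1 : h ⟨redF ι σ A' q', hq'⟩ = Ideal.Quotient.mk (aI p D g₀ e) (πS B₀ ι A' u) :=
    hh _ _ ⟨q', u, rfl, hu, rfl⟩
  have h2 := G_redF_eq e G v hv q'
  have h3 : u - Vmap v q' ∈ colon p D g₀ e := by
    rw [← πS_mem_aI_iff p D g₀ e hg hp hsurj he hme, ← Ideal.Quotient.eq_zero_iff_mem, map_sub, map_sub, ← h1,
      ← h2, ← hG ⟨_, hq'⟩, sub_self]
  rw [LiftData.modify_W]
  have : L₀.W q' - C e * Vmap v q' = (L₀.W q' - C e * u) + C e * (u - Vmap v q') := by ring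
  rw [this]
  exact add_mem hu ((mem_colon p D g₀ e _).1 h3)

end Good

section Final

variable (e : A')
  (hg : ∀ i, D.π (g₀ i) = algebraMap (MvPolynomial ι k) B₀ (X i))
  (hp : Function.Surjective p) (hsurj : Function.Surjective (algebraMap (MvPolynomial ι k) B₀))
  (hε : RingHom.ker p.toAlgHom = Ideal.span {e}) (hme : ∀ a, a ∈ RingHom.ker A'.res.toRingHom → a * e = 0)
  (hspan : Ideal.span (Set.range f) = RingHom.ker (algebraMap (MvPolynomial ι k) B₀))
  (L : LiftData p D g₀ f)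

/-- The ideal of the lifted deformation. -/
noncomputable def I'' : Ideal (MvPolynomial ι A') := Ideal.span (Set.range L.Fl) ⊔ Z p D g₀

theorem I''_le : I'' L ≤ I' p D g₀ := by
  refine sup_le ?_ (Z_le_I' p D g₀)
  rw [Ideal.span_le]
  rintro _ ⟨s, rfl⟩
  exact L.mem s

theorem exists_W_eq (w : MvPolynomial ι A') (hw : w ∈ Ideal.span (Set.range L.Fl)) :
    ∃ c' : σ →₀ MvPolynomial ι A', L.W c' = w := by
  obtain ⟨c', hc'⟩ := (Finsupp.mem_span_range_iff_exists_finsupp).1 hw
  exact ⟨c', by rw [LiftData.W, Finsupp.linearCombination_apply]; exact hc'⟩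

theorem W_mem_I'' (c' : σ →₀ MvPolynomial ι A') : L.W c' ∈ I'' L := by
  apply Ideal.mem_sup_left
  rw [LiftData.W, Finsupp.linearCombination_apply]
  exact Ideal.sum_mem _ fun s _ => Ideal.mul_mem_left _ _ (Ideal.subset_span ⟨s, rfl⟩)

include hg hp hsurj hspan in
theorem I'_le : I' p D g₀ ≤ I'' L ⊔ JS p := by
  intro y hy
  have h1 : eps ι A' y ∈ Ideal.span (Set.range f) := by
    rw [hspan, RingHom.mem_ker]
    exact eps_mem_ker p D g₀ hg hy
  obtain ⟨c, hc⟩ := (Finsupp.mem_span_range_iff_exists_finsupp).1 h1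
  obtain ⟨c', rfl⟩ := redF_surjective (A' := A') c
  have h2 : eps ι A' (L.W c') = eps ι A' y := by
    rw [L.eps_W, Kos.jm, Finsupp.linearCombination_apply]
    exact hc
  have h3 : y - L.W c' ∈ mS ι A' := by rw [← ker_eps, RingHom.mem_ker, map_sub, h2, sub_self]
  obtain ⟨j, hj, hz⟩ := K1 p D g₀ hg hp hsurj _ (sub_mem hy (L.W_mem c')) h3
  have : y = (L.W c' + (y - L.W c' - j)) + j := by ring
  rw [this]
  exact Ideal.add_mem _ (Ideal.mem_sup_left (Ideal.add_mem _ (W_mem_I'' L c') (Ideal.mem_sup_right hz)))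
    (Ideal.mem_sup_right hj)

include hε hme in
theorem mS_mul_JS : mS ι A' * JS (ι := ι) p = ⊥ := by
  rw [eq_bot_iff, Ideal.mul_le]
  intro x hx y hy
  rw [JS_eq e hε] at hy
  obtain ⟨c, rfl⟩ := Ideal.mem_span_singleton'.1 hy
  rw [Ideal.mem_bot]
  have := C_mul_eq_zero_of_mem_mS e hme x hx
  calc x * (c * C e) = c * (C e * x) := by ring
    _ = 0 := by rw [this, mul_zero]

include hg hp hsurj hspan hε hme in
theorem Z_le_mul : Z p D g₀ ≤ mS ι A' * I'' L := by
  have h1 : Z p D g₀ ≤ mS ι A' * (I'' L ⊔ JS p) := Ideal.mul_mono_right (I'_le hg hp hsurj hspan L)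
  rw [Ideal.mul_sup, mS_mul_JS e hε hme, sup_bot_eq] at h1
  exact h1

include hg hp hsurj hspan hε hme in
/-- `I'' ∩ 𝔪'S' ⊆ 𝔪'S' · I''`: the flatness condition. -/
theorem inf_mS_le (hL : ∀ q' : σ →₀ MvPolynomial ι A', redF ι σ A' q' ∈ Kos.Q (MvPolynomial ι k) f → L.W q' ∈ Z p D g₀)
    (x : MvPolynomial ι A') (hx : x ∈ I'' L) (hx' : x ∈ mS ι A') : x ∈ mS ι A' * I'' L := by
  have hZ := Z_le_mul e hg hp hsurj hε hme hspan L
  obtain ⟨w, hw, z, hz, rfl⟩ := Submodule.mem_sup.1 hx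
  obtain ⟨c', rfl⟩ := exists_W_eq L w hw
  have e2 : eps ι A' (L.W c') = 0 := by
    have e3 : eps ι A' (L.W c' + z) = 0 := by
      rw [← RingHom.mem_ker, ker_eps]; exact hx'
    have e4 : eps ι A' z = 0 := by
      rw [← RingHom.mem_ker, ker_eps]; exact Z_le_mS p D g₀ hz
    rw [map_add, e4, add_zero] at e3
    exact e3
  have hq : redF ι σ A' c' ∈ Kos.Q (MvPolynomial ι k) f := by
    rw [Kos.mem_Q, ← L.eps_W, e2]
  exact hZ (add_mem (hL c' hq) hz)

theorem map_maximalIdeal_eq :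
    Ideal.map (algebraMap A' (MvPolynomial ι A')) (IsLocalRing.maximalIdeal A') = mS ι A' := by
  rw [← ker_res_eq]
  rfl

include hg hp hsurj hspan hε hme in
/-- A lift of the deformation from lifting data all of whose lifted relations lie in `𝔪' I'`. -/
theorem exists_lift_of_W_mem
    (hL : ∀ q' : σ →₀ MvPolynomial ι A', redF ι σ A' q' ∈ Kos.Q (MvPolynomial ι k) f → L.W q' ∈ Z p D g₀) :
    ∃ (D' : AlgDef B₀ A') (ψ : D'.R →+* D.R), (∀ a, ψ (D'.φ a) = D.φ (p a)) ∧ ∀ r, D.π (ψ r) = D'.π r := by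
  have hflat : Module.Flat A' (MvPolynomial ι A' ⧸ I'' L) := by
    apply Groth.Agent.R2.H97.ObsG.pkgG (I'' L)
    intro x hx hx'
    rw [map_maximalIdeal_eq] at hx' ⊢
    exact inf_mS_le e hg hp hsurj hε hme hspan L hL x hx hx'
  have hle : ∀ x ∈ I'' L, G' p D g₀ x = 0 := fun x hx => I''_le L hx
  let ρ : MvPolynomial ι A' ⧸ I'' L →+* D.R := Ideal.Quotient.lift (I'' L) (G' p D g₀) hle
  have hρ : ∀ y, ρ (Ideal.Quotient.mk (I'' L) y) = G' p D g₀ y := fun y => Ideal.Quotient.lift_mk _ _ _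
  have hφ : (algebraMap A' (MvPolynomial ι A' ⧸ I'' L)) = (Ideal.Quotient.mk (I'' L)).comp C := rfl
  have hπφ : ∀ a : A', D.π (ρ (algebraMap A' (MvPolynomial ι A' ⧸ I'' L) a)) = algebraMap k B₀ (A'.res a) := by
    intro a
    change D.π (ρ (Ideal.Quotient.mk (I'' L) (C a))) = _
    rw [hρ, G'_C]
    have h1 := congrArg (fun f => f (p a)) D.comm
    simp only [RingHom.comp_apply] at h1
    rw [h1]
    congr 1
    exact res_app p a
  refine ⟨{ R := MvPolynomial ι A' ⧸ I'' L
            φ := algebraMap A' (MvPolynomial ι A' ⧸ I'' L)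
            flat := RingHom.flat_algebraMap_iff.2 hflat
            π := D.π.comp ρ
            comm := ?_
            surj := ?_
            ker_eq := ?_ }, ρ, ?_, fun r => rfl⟩
  · ext a
    exact hπφ a
  · exact D.surj.comp (Ideal.Quotient.lift_surjective_of_surjective _ _ (G'_surjective p D g₀ hg hp hsurj))
  · apply le_antisymm
    · intro x hx
      obtain ⟨y, rfl⟩ := Ideal.Quotient.mk_surjective x
      rw [RingHom.mem_ker, RingHom.comp_apply, hρ, π_G' p D g₀ hg] at hx
      obtain ⟨y₁, hy₁, hyy⟩ := exists_mem_I'_eps_eq p D g₀ hg hp hsurj hx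
      have h1 : y - y₁ ∈ mS ι A' := by rw [← ker_eps, RingHom.mem_ker, map_sub, hyy, sub_self]
      have h2 : y₁ ∈ I'' L ⊔ mS ι A' :=
        sup_le_sup_left (JS_le_mS p) _ (I'_le hg hp hsurj hspan L hy₁)
      obtain ⟨y₂, hy₂, t, ht, rfl⟩ := Submodule.mem_sup.1 h2
      have h3 : Ideal.Quotient.mk (I'' L) y = Ideal.Quotient.mk (I'' L) ((y - (y₂ + t)) + t) := by
        rw [Ideal.Quotient.eq]
        have : y - ((y - (y₂ + t)) + t) = y₂ := by ring
        rw [this]
        exact hy₂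
      rw [h3, hφ, ← Ideal.map_map]
      exact Ideal.mem_map_of_mem _ (add_mem h1 ht)
    · rw [Ideal.map_le_iff_le_comap]
      intro a ha
      rw [Ideal.mem_comap, RingHom.mem_ker, RingHom.comp_apply, hπφ]
      have : A'.res a = 0 := ha
      rw [this, map_zero]
  · intro a
    change ρ (Ideal.Quotient.mk (I'' L) (C a)) = _
    rw [hρ, G'_C]

end Final

end Groth.Agent.R2.H56.LciLift
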