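import Groth.Agent.R2.H56Lift5

/-!
# Extensions of an affine deformation along a semismall extension, scheme layer (helper56)

ns `Groth.Agent.R2.H56.LiftSch`: for `𝒳` a deformation of `Spec B₀` over `C` and `p : C' ⟶ C` semismall, the type
`ExtPair p 𝒳 = Σ 𝒳', (𝒳'.baseChange p).Iso 𝒳` with the relation `ExtRel`, the map `toLift : ExtPair p 𝒳 → AlgLift p (ofDefSch 𝒳)`
and the bijection `Quot ExtRel ≃ Quotient (AlgLift.setoid p (ofDefSch 𝒳))`.
-/

set_option autoImplicit false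

universe u

open CategoryTheory CategoryTheory.Limits AlgebraicGeometry
open scoped TensorProduct

namespace Groth.Agent.R2.H56.LiftSch

open ArtFun ArtFun.Art Groth.Agent.R2.H56.AffDef Groth.Agent.R2.H56.Lift Groth.Agent.R2.H56.AffDefAlg

variable {k : Type u} [Field k] {B₀ : Type u} [CommRing B₀] [Algebra k B₀] {C' C : Art k k}

section Basic

variable (p : C' ⟶ C) (𝒳 : DefSch (Spec (CommRingCat.of B₀)) (xB B₀) C)

/-- Extensions of `𝒳` over `C'`. -/
abbrev ExtPair : Type (u + 1) :=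
  Σ 𝒳' : DefSch (Spec (CommRingCat.of B₀)) (xB B₀) C', (𝒳'.baseChange p).Iso 𝒳

variable {p 𝒳}

/-- The closed immersion `𝒳 ⟶ 𝒳'`. -/
noncomputable def gOf (a : ExtPair p 𝒳) : 𝒳.total ⟶ a.1.total :=
  a.2.iso.inv ≫ pullback.fst a.1.f (specMap p)

theorem inv_snd (a : ExtPair p 𝒳) : a.2.iso.inv ≫ pullback.snd a.1.f (specMap p) = 𝒳.f := by
  rw [Iso.inv_comp_eq]
  exact a.2.hom_f.symm

theorem gOf_f (a : ExtPair p 𝒳) : gOf a ≫ a.1.f = 𝒳.f ≫ specMap p := by
  rw [gOf, Category.assoc, pullback.condition, ← Category.assoc, inv_snd]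

theorem i_gOf (a : ExtPair p 𝒳) : 𝒳.i ≫ gOf a = a.1.i := by
  have h : 𝒳.i ≫ a.2.iso.inv = (a.1.baseChange p).i := by
    rw [Iso.comp_inv_eq]
    exact a.2.i_hom.symm
  rw [gOf, ← Category.assoc, h, DefSch.baseChange_i_fst]

theorem isPullback_gOf (a : ExtPair p 𝒳) : IsPullback (gOf a) 𝒳.f a.1.f (specMap p) := by
  refine IsPullback.of_iso (IsPullback.of_hasPullback a.1.f (specMap p)) a.2.iso (Iso.refl _)
    (Iso.refl _) (Iso.refl _) ?_ ?_ ?_ ?_
  · rw [Iso.refl_hom, Category.comp_id, gOf, Iso.hom_inv_id_assoc]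
  · rw [Iso.refl_hom, Category.comp_id]
    exact a.2.hom_f.symm
  · simp only [Iso.refl_hom, Category.id_comp, Category.comp_id]
  · simp only [Iso.refl_hom, Category.id_comp, Category.comp_id]

theorem φOf_gOf (a : ExtPair p 𝒳) :
    φOf a.1 ≫ (gOf a).appTop = CommRingCat.ofHom p.toAlgHom.toRingHom ≫ φOf 𝒳 := by
  have h1 : a.1.f.appTop ≫ (gOf a).appTop = (specMap p).appTop ≫ 𝒳.f.appTop := by
    rw [← Scheme.Hom.comp_appTop, ← Scheme.Hom.comp_appTop, gOf_f]
  have h2 : (Scheme.ΓSpecIso (CommRingCat.of C')).inv ≫ (specMap p).appTop =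
      CommRingCat.ofHom p.toAlgHom.toRingHom ≫ (Scheme.ΓSpecIso (CommRingCat.of C)).inv :=
    (Scheme.ΓSpecIso_inv_naturality (CommRingCat.ofHom p.toAlgHom.toRingHom)).symm
  rw [φOf, φOf, Category.assoc, h1, ← Category.assoc, h2, Category.assoc]

theorem gOf_πOf (a : ExtPair p 𝒳) : (gOf a).appTop ≫ πOf 𝒳 = πOf a.1 := by
  rw [πOf, πOf, ← Category.assoc, ← Scheme.Hom.comp_appTop, i_gOf]

theorem isPushout_gOf (a : ExtPair p 𝒳) :
    IsPushout (CommRingCat.ofHom p.toAlgHom.toRingHom) (φOf a.1) (φOf 𝒳) (gOf a).appTop := by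
  have h0 : IsPullback (Spec.map (gOf a).appTop) (Spec.map (φOf 𝒳)) (Spec.map (φOf a.1)) (specMap p) := by
    refine IsPullback.of_iso (isPullback_gOf a) 𝒳.total.isoSpec a.1.total.isoSpec (Iso.refl _)
      (Iso.refl _) ?_ ?_ ?_ ?_
    · exact (Scheme.isoSpec_hom_naturality (gOf a)).symm
    · rw [Iso.refl_hom, Category.comp_id, isoSpec_hom_comp_φOf]
    · rw [Iso.refl_hom, Category.comp_id, isoSpec_hom_comp_φOf]
    · simp only [Iso.refl_hom, Category.id_comp, Category.comp_id]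
  have h : IsPullback (Scheme.Spec.map (gOf a).appTop.op) (Scheme.Spec.map (φOf 𝒳).op)
      (Scheme.Spec.map (φOf a.1).op)
      (Scheme.Spec.map (CommRingCat.ofHom p.toAlgHom.toRingHom).op) := h0
  exact (IsPullback.of_map_of_faithful Scheme.Spec h).unop

end Basic

section ToLift

variable {p : C' ⟶ C} (hp : Function.Surjective p) {𝒳 : DefSch (Spec (CommRingCat.of B₀)) (xB B₀) C}

/-- The algebraic lift attached to an extension of `𝒳`. -/
noncomputable def toLift (a : ExtPair p 𝒳) : AlgLift p (ofDefSch 𝒳) where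
  R' := Γ(a.1.total, ⊤)
  φ' := (φOf a.1).hom
  flat := flat_φOf a.1
  ρ := (gOf a).appTop.hom
  comm := congrArg CommRingCat.Hom.hom (φOf_gOf a)
  surj := (surjective_and_ker_of_isPushout p.toAlgHom.toRingHom (φOf a.1).hom (φOf 𝒳).hom
    (gOf a).appTop.hom hp (isPushout_gOf a)).1
  ker_eq := (surjective_and_ker_of_isPushout p.toAlgHom.toRingHom (φOf a.1).hom (φOf 𝒳).hom
    (gOf a).appTop.hom hp (isPushout_gOf a)).2

theorem toLift_ρ (a : ExtPair p 𝒳) (x : Γ(a.1.total, ⊤)) :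
    (toLift hp a).ρ x = (gOf a).appTop.hom x := rfl

theorem toLift_φ' (a : ExtPair p 𝒳) (c : C') : (toLift hp a).φ' c = (φOf a.1).hom c := rfl

end ToLift

section Rel

variable {p : C' ⟶ C} (hp : Function.Surjective p) {𝒳 : DefSch (Spec (CommRingCat.of B₀)) (xB B₀) C}

/-- The relation of the statement. -/
def ExtRel (a b : ExtPair p 𝒳) : Prop :=
  ∃ ψ : a.1.Iso b.1, ((ψ.baseChange p).trans b.2).iso = a.2.iso

theorem extRel_iff (a b : ExtPair p 𝒳) :
    ExtRel a b ↔ ∃ ψ : a.1.Iso b.1, gOf a ≫ ψ.iso.hom = gOf b := by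
  constructor
  · rintro ⟨ψ, h⟩
    refine ⟨ψ, ?_⟩
    have h1 : DefSch.pullMap ψ.iso.hom ψ.hom_f p ≫ b.2.iso.hom = a.2.iso.hom := congrArg Iso.hom h
    have h2 : a.2.iso.inv ≫ DefSch.pullMap ψ.iso.hom ψ.hom_f p = b.2.iso.inv := by
      rw [Iso.inv_comp_eq, ← h1, Category.assoc, Iso.hom_inv_id, Category.comp_id]
    rw [gOf, gOf, Category.assoc, ← DefSch.pullMap_fst ψ.iso.hom ψ.hom_f p, ← Category.assoc, h2]
  · rintro ⟨ψ, h⟩
    refine ⟨ψ, ?_⟩
    apply Iso.ext
    change DefSch.pullMap ψ.iso.hom ψ.hom_f p ≫ b.2.iso.hom = a.2.iso.hom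
    have h2 : a.2.iso.inv ≫ DefSch.pullMap ψ.iso.hom ψ.hom_f p = b.2.iso.inv := by
      apply pullback.hom_ext
      · rw [Category.assoc, DefSch.pullMap_fst, ← Category.assoc]
        exact h
      · rw [Category.assoc, DefSch.pullMap_snd, inv_snd a, inv_snd b]
    have h3 : DefSch.pullMap ψ.iso.hom ψ.hom_f p = a.2.iso.hom ≫ b.2.iso.inv := by
      rw [← h2, Iso.hom_inv_id_assoc]
    rw [h3, Category.assoc, Iso.inv_hom_id, Category.comp_id]

/-- Related extensions have isomorphic lifts. -/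
noncomputable def liftIsoOfRel (a b : ExtPair p 𝒳) (ψ : a.1.Iso b.1)
    (h : gOf a ≫ ψ.iso.hom = gOf b) : AlgLift.Iso (toLift hp a) (toLift hp b) where
  e := (isoOfDefSch ψ).e
  e_φ := (isoOfDefSch ψ).e_φ
  ρ_e := fun x => by
    have h1 : gOf b ≫ ψ.iso.inv = gOf a := by
      rw [← h, Category.assoc, Iso.hom_inv_id, Category.comp_id]
    have h2 : ψ.iso.inv.appTop ≫ (gOf b).appTop = (gOf a).appTop := by
      rw [← Scheme.Hom.comp_appTop, h1]
    exact congrArg (fun f => f.hom x) h2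

/-- Extensions with isomorphic lifts are related. -/
theorem rel_of_liftIso (a b : ExtPair p 𝒳) (i : AlgLift.Iso (toLift hp a) (toLift hp b)) :
    ExtRel a b := by
  rw [extRel_iff]
  let j : AlgDef.Iso (ofDefSch a.1) (ofDefSch b.1) :=
    { e := i.e
      e_φ := i.e_φ
      π_e := fun r => by
        have ha : (πOf 𝒳).hom ((gOf a).appTop.hom r) = (πOf a.1).hom r :=
          congrArg (fun f => f.hom r) (gOf_πOf a)
        have hb : (πOf 𝒳).hom ((gOf b).appTop.hom (i.e r)) = (πOf b.1).hom (i.e r) :=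
          congrArg (fun f => f.hom (i.e r)) (gOf_πOf b)
        exact hb.symm.trans ((congrArg (πOf 𝒳).hom (i.ρ_e r)).trans ha) }
  let ψ : a.1.Iso b.1 :=
    (isoToDefSchOfDefSch a.1).trans (j.toDefSch.trans (isoToDefSchOfDefSch b.1).symm)
  refine ⟨ψ, ?_⟩
  let es : Γ(b.1.total, ⊤) →+* Γ(a.1.total, ⊤) := i.e.symm.toRingHom
  have hψ : ψ.iso.hom = a.1.total.isoSpec.hom ≫
      Spec.map (CommRingCat.ofHom es) ≫ b.1.total.isoSpec.inv := rfl
  have h3 : CommRingCat.ofHom es ≫ (gOf a).appTop = (gOf b).appTop := by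
    ext y
    have h := i.ρ_e (i.e.symm y)
    exact h.symm.trans (congrArg (toLift hp b).ρ (i.e.apply_symm_apply y))
  have h4 : Spec.map (gOf a).appTop ≫ Spec.map (CommRingCat.ofHom es) = Spec.map (gOf b).appTop := by
    rw [← h3]
    exact (Spec.map_comp (CommRingCat.ofHom es) (gOf a).appTop).symm
  calc gOf a ≫ ψ.iso.hom
      = (gOf a ≫ a.1.total.isoSpec.hom) ≫
          Spec.map (CommRingCat.ofHom es) ≫ b.1.total.isoSpec.inv := by
        rw [hψ, Category.assoc]
    _ = (𝒳.total.isoSpec.hom ≫ Spec.map (gOf a).appTop) ≫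
          Spec.map (CommRingCat.ofHom es) ≫ b.1.total.isoSpec.inv := by
        rw [Scheme.isoSpec_hom_naturality (gOf a)]
    _ = 𝒳.total.isoSpec.hom ≫ (Spec.map (gOf a).appTop ≫ Spec.map (CommRingCat.ofHom es)) ≫
          b.1.total.isoSpec.inv := by
        simp only [Category.assoc]
    _ = 𝒳.total.isoSpec.hom ≫ Spec.map (gOf b).appTop ≫ b.1.total.isoSpec.inv := by rw [h4]
    _ = 𝒳.total.isoSpec.hom ≫ 𝒳.total.isoSpec.inv ≫ gOf b := by
        rw [Scheme.isoSpec_inv_naturality (gOf b)]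
    _ = gOf b := by rw [Iso.hom_inv_id_assoc]

end Rel

section OfLift

variable {p : C' ⟶ C} (hp : IsSemismallExt p) {𝒳 : DefSch (Spec (CommRingCat.of B₀)) (xB B₀) C}
  (L : AlgLift p (ofDefSch 𝒳))

/-- The deformation over `C'` attached to a lift. -/
noncomputable def defOfLift : DefSch (Spec (CommRingCat.of B₀)) (xB B₀) C' :=
  (L.toAlgDef hp.1).toDefSch

/-- `Spec ρ`, typed into the total space of `defOfLift`. -/
noncomputable def ρSch : Spec Γ(𝒳.total, ⊤) ⟶ (defOfLift hp L).total :=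
  Spec.map (CommRingCat.ofHom L.ρ)

theorem isPullback_ofLift :
    IsPullback (ρSch hp L) (Spec.map (φOf 𝒳)) (defOfLift hp L).f (specMap p) :=
  isPullback_SpecMap_of_isPushout _ _ _ _
    (isPushout_of_surjective p.toAlgHom.toRingHom L.φ' (φOf 𝒳).hom L.ρ L.comm hp.1 L.surj
      L.ker_eq.le).flip

theorem ρSch_i : Spec.map (πOf 𝒳) ≫ ρSch hp L = (defOfLift hp L).i := by
  change Spec.map (πOf 𝒳) ≫ Spec.map (CommRingCat.ofHom L.ρ) = Spec.map (CommRingCat.ofHom L.π')
  rw [← Spec.map_comp]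
  rfl

/-- The identification of the base change of `defOfLift` with `𝒳`. -/
noncomputable def isoOfLift : ((defOfLift hp L).baseChange p).Iso 𝒳 where
  iso := (IsPullback.of_hasPullback (defOfLift hp L).f (specMap p)).isoIsPullback _ _
    (isPullback_ofLift hp L) ≪≫ 𝒳.total.isoSpec.symm
  hom_f := by
    have h1 : 𝒳.total.isoSpec.inv ≫ 𝒳.f = Spec.map (φOf 𝒳) := by
      rw [Iso.inv_comp_eq, isoSpec_hom_comp_φOf]
    rw [Iso.trans_hom, Iso.symm_hom, Category.assoc, h1]
    exact IsPullback.isoIsPullback_hom_snd _ _ _ _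
  i_hom := by
    rw [Iso.trans_hom, Iso.symm_hom, ← Category.assoc, Iso.comp_inv_eq, i_comp_isoSpec_hom]
    apply (isPullback_ofLift hp L).hom_ext
    · rw [Category.assoc, IsPullback.isoIsPullback_hom_fst, DefSch.baseChange_i_fst, ρSch_i]
    · rw [Category.assoc, IsPullback.isoIsPullback_hom_snd]
      exact (DefSch.baseChange_i_f (defOfLift hp L) p).trans (isPullback_of 𝒳).w.symm

theorem gOf_ofLift :
    gOf (⟨defOfLift hp L, isoOfLift hp L⟩ : ExtPair p 𝒳) = 𝒳.total.isoSpec.hom ≫ ρSch hp L := by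
  change ((IsPullback.of_hasPullback (defOfLift hp L).f (specMap p)).isoIsPullback _ _
    (isPullback_ofLift hp L) ≪≫ 𝒳.total.isoSpec.symm).inv ≫ pullback.fst _ _ = _
  rw [Iso.trans_inv, Iso.symm_inv, Category.assoc, IsPullback.isoIsPullback_inv_fst]

/-- The lift attached to `defOfLift` is the given one. -/
noncomputable def toLiftOfLift :
    AlgLift.Iso (toLift hp.1 (⟨defOfLift hp L, isoOfLift hp L⟩ : ExtPair p 𝒳)) L where
  e := (Scheme.ΓSpecIso (CommRingCat.of L.R')).commRingCatIsoToRingEquiv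
  e_φ := (ofDefSchToDefSch (L.toAlgDef hp.1)).e_φ
  ρ_e := fun x => by
    have h2 : (gOf (⟨defOfLift hp L, isoOfLift hp L⟩ : ExtPair p 𝒳)).appTop =
        (ρSch hp L).appTop ≫ 𝒳.total.isoSpec.hom.appTop := by
      rw [gOf_ofLift, Scheme.Hom.comp_appTop]
    have h3 : (ρSch hp L).appTop ≫ 𝒳.total.isoSpec.hom.appTop =
        (Scheme.ΓSpecIso (CommRingCat.of L.R')).hom ≫ CommRingCat.ofHom L.ρ :=
      (congrArg (fun t => (ρSch hp L).appTop ≫ t) (Scheme.toSpecΓ_appTop 𝒳.total)).trans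
        (Scheme.ΓSpecIso_naturality (CommRingCat.ofHom L.ρ))
    exact (congrArg (fun f => f.hom x) (h2.trans h3)).symm

end OfLift

section Final

variable {p : C' ⟶ C} (hp : IsSemismallExt p) (𝒳 : DefSch (Spec (CommRingCat.of B₀)) (xB B₀) C)

/-- Classes of extensions of `𝒳` are classes of lifts of its algebraic deformation. -/
noncomputable def quotEquiv :
    Quot (ExtRel (p := p) (𝒳 := 𝒳)) ≃ Quotient (AlgLift.setoid p (ofDefSch 𝒳)) :=
  Equiv.ofBijective
    (Quot.lift (fun a => Quotient.mk (AlgLift.setoid p (ofDefSch 𝒳)) (toLift hp.1 a))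
      (fun a b h => Quotient.sound (by
        obtain ⟨ψ, hψ⟩ := (extRel_iff a b).1 h
        exact ⟨liftIsoOfRel hp.1 a b ψ hψ⟩)))
    ⟨by
      intro q q' h
      induction q using Quot.inductionOn with
      | h a =>
      induction q' using Quot.inductionOn with
      | h b =>
      obtain ⟨i⟩ := Quotient.exact h
      exact Quot.sound (rel_of_liftIso hp.1 a b i),
     by
      intro c
      induction c using Quotient.inductionOn with
      | h L =>
      exact ⟨Quot.mk _ ⟨defOfLift hp L, isoOfLift hp L⟩, Quotient.sound ⟨toLiftOfLift hp L⟩⟩⟩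

end Final

end Groth.Agent.R2.H56.LiftSch
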