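import Groth.Agent.R2.H56ObsNat
import Groth.Agent.R2.H56HullA
import Groth.Agent.R2.H56Lift6

/-!
# The coefficient-form `T²` obstruction of `Def_{Spec B₀}` (helper56)

ns `Groth.Agent.R2.H56.ObsMain`: for a presentation `P` of `B₀` over the field `k`,
`o P p hp u ∈ CotT.T2 P (B₀ ⊗[k] ker p)` with
* `o_eq_zero_iff`: it vanishes iff `u` lifts along `p`;
* `o_quot`: compatibility with `quotFactor` / `kerToQuot`.
-/

set_option autoImplicit false
set_option linter.style.haveILetI false
set_option linter.unusedSectionVars false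

universe u

open scoped TensorProduct
open CategoryTheory CategoryTheory.Limits AlgebraicGeometry

namespace Groth.Agent.R2.H56.ObsMain

open ArtFun ArtFun.Art Groth.Agent.R2.H56.AffDef Groth.Agent.R2.H56.Lift Groth.Agent.R2.H56.LiftSch
  Groth.Agent.R2.H56.Hull Groth.Agent.R2.H56.Obs MvPolynomial Groth.Agent.Lib.Helper19

variable {k : Type u} [Field k] {B₀ : Type u} [CommRing B₀] [Algebra k B₀]

section LiftEquiv

variable {A' A : Art k k}

/-- Transport a lift along an isomorphism of algebraic deformations. -/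
def transportLift {p : A' ⟶ A} {D₁ D₂ : AlgDef B₀ A} (i : AlgDef.Iso D₁ D₂) (L : AlgLift p D₁) : AlgLift p D₂ where
  R' := L.R'
  φ' := L.φ'
  flat := L.flat
  ρ := i.e.toRingHom.comp L.ρ
  comm := by
    ext c
    change i.e (L.ρ (L.φ' c)) = D₂.φ (p c)
    rw [L.ρ_φ', i.e_φ]
  surj := i.e.surjective.comp L.surj
  ker_eq := by
    rw [RingHom.ker_comp_of_injective _ (show Function.Injective i.e.toRingHom from i.e.injective)]
    exact L.ker_eq

/-- `u` lifts along `p` iff the representing algebraic deformation has a lift. -/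
theorem exists_lift_iff (p : A' ⟶ A) (hp : Function.Surjective p) (D : AlgDef B₀ A) :
    (∃ u' : (defFunctor (Λ := k) (Spec (CommRingCat.of B₀)) (xB B₀)).obj A',
      (defFunctor (Λ := k) (Spec (CommRingCat.of B₀)) (xB B₀)).map p u' = D.toDefSch.cl) ↔
      Nonempty (AlgLift p D) := by
  constructor
  · rintro ⟨u', hu'⟩
    induction u' using Quotient.inductionOn with
    | h 𝒳' =>
      obtain ⟨j⟩ := Quotient.exact hu'
      let a : ExtPair p D.toDefSch := ⟨𝒳', j⟩
      exact ⟨transportLift (ofDefSchToDefSch D) (toLift hp a)⟩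
  · rintro ⟨La⟩
    refine ⟨(La.toAlgDef hp).toDefSch.cl, ?_⟩
    exact defFunctor_map_toDefSch p (La.toAlgDef hp) D La.ρ La.ρ_φ' (fun _ => rfl)

end LiftEquiv

section Pres

variable {ι σ : Type u} (P : Algebra.Presentation k B₀ ι σ)

/-- The algebra structure `k[x] → B₀` of the presentation, on the bare polynomial ring. -/
@[reducible] noncomputable def algS : Algebra (MvPolynomial ι k) B₀ := inferInstanceAs (Algebra P.toExtension.Ring B₀)

theorem towerS : @IsScalarTower k (MvPolynomial ι k) B₀ _ (algS P).toSMul _ :=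
  inferInstanceAs (IsScalarTower k P.toExtension.Ring B₀)

theorem surjS : Function.Surjective (@algebraMap (MvPolynomial ι k) B₀ _ _ (algS P)) :=
  P.toExtension.algebraMap_surjective

theorem relS (s : σ) : @algebraMap (MvPolynomial ι k) B₀ _ _ (algS P) (P.relation s) = 0 :=
  CotT.algebraMap_rel P s

theorem spanS : Ideal.span (Set.range P.relation) =
    RingHom.ker (@algebraMap (MvPolynomial ι k) B₀ _ _ (algS P)) :=
  P.span_range_relation_eq_ker

variable {A : Art k k}

/-- A representative of a class, with lifts of the generators. -/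
structure Rep (u : (defFunctor (Λ := k) (Spec (CommRingCat.of B₀)) (xB B₀)).obj A) where
  /-- the deformation -/
  D : AlgDef B₀ A
  hD : D.toDefSch.cl = u
  /-- lifts of the generators -/
  g₀ : ι → D.R
  hg : ∀ i, D.π (g₀ i) = @algebraMap (MvPolynomial ι k) B₀ _ _ (algS P) (X i)

theorem nonempty_rep (u : (defFunctor (Λ := k) (Spec (CommRingCat.of B₀)) (xB B₀)).obj A) :
    Nonempty (Rep P u) := by
  obtain ⟨D, hD⟩ := exists_rep u
  choose g₀ hg using fun i => D.surj (@algebraMap (MvPolynomial ι k) B₀ _ _ (algS P) (X i))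
  exact ⟨⟨D, hD, g₀, hg⟩⟩

/-- The chosen representative. -/
noncomputable def rep (u : (defFunctor (Λ := k) (Spec (CommRingCat.of B₀)) (xB B₀)).obj A) : Rep P u :=
  Classical.choice (nonempty_rep P u)

end Pres

section O

variable {ι σ : Type u} (P : Algebra.Presentation k B₀ ι σ) {A' A : Art k k}

/-- The class of lifting data, as an element of the Prelude's `T²`. -/
noncomputable def clsT2 (p : A' ⟶ A) (hp : IsSemismallExt p)
    (D : AlgDef B₀ A) (g₀ : ι → D.R)
    (hg : ∀ i, D.π (g₀ i) = @algebraMap (MvPolynomial ι k) B₀ _ _ (algS P) (X i))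
    (L : @LiftData k _ B₀ _ _ ι σ A' A p D g₀ P.relation) :
    CotT.T2 P (B₀ ⊗[k] ↥(RingHom.ker p.toAlgHom)) :=
  letI := algS P
  haveI := towerS P
  L.cls hg hp (surjS P) (relS P)

theorem clsT2_eq (p : A' ⟶ A) (hp : IsSemismallExt p)
    (D : AlgDef B₀ A) (g₀ : ι → D.R)
    (hg : ∀ i, D.π (g₀ i) = @algebraMap (MvPolynomial ι k) B₀ _ _ (algS P) (X i))
    (L L' : @LiftData k _ B₀ _ _ ι σ A' A p D g₀ P.relation) :
    clsT2 P p hp D g₀ hg L = clsT2 P p hp D g₀ hg L' :=
  letI := algS P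
  haveI := towerS P
  LiftData.cls_eq hg hp (surjS P) (relS P) L L'

theorem clsT2_eq_zero_iff (p : A' ⟶ A) (hp : IsSemismallExt p)
    (D : AlgDef B₀ A) (g₀ : ι → D.R)
    (hg : ∀ i, D.π (g₀ i) = @algebraMap (MvPolynomial ι k) B₀ _ _ (algS P) (X i))
    (L : @LiftData k _ B₀ _ _ ι σ A' A p D g₀ P.relation) :
    clsT2 P p hp D g₀ hg L = 0 ↔ Nonempty (AlgLift p D) := by
  letI := algS P
  haveI := towerS P
  constructor
  · intro h
    exact exists_algLift_of_cls_eq_zero hg hp (surjS P) (relS P) (spanS P) L h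
  · rintro ⟨La⟩
    exact cls_eq_zero_of_algLift hg hp (surjS P) (relS P) La L

theorem nonempty_liftDataP (p : A' ⟶ A) (hp : IsSemismallExt p)
    (D : AlgDef B₀ A) (g₀ : ι → D.R)
    (hg : ∀ i, D.π (g₀ i) = @algebraMap (MvPolynomial ι k) B₀ _ _ (algS P) (X i)) :
    Nonempty (@LiftData k _ B₀ _ _ ι σ A' A p D g₀ P.relation) :=
  letI := algS P
  haveI := towerS P
  nonempty_liftData hg hp (surjS P) (relS P)

/-- The coefficient-form obstruction. -/
noncomputable def o (p : A' ⟶ A) (hp : IsSemismallExt p)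
    (u : (defFunctor (Λ := k) (Spec (CommRingCat.of B₀)) (xB B₀)).obj A) :
    CotT.T2 P (B₀ ⊗[k] ↥(RingHom.ker p.toAlgHom)) :=
  clsT2 P p hp (rep P u).D (rep P u).g₀ (rep P u).hg
    (Classical.choice (nonempty_liftDataP P p hp (rep P u).D (rep P u).g₀ (rep P u).hg))

theorem o_eq_zero_iff (p : A' ⟶ A) (hp : IsSemismallExt p)
    (u : (defFunctor (Λ := k) (Spec (CommRingCat.of B₀)) (xB B₀)).obj A) :
    o P p hp u = 0 ↔ ∃ u' : (defFunctor (Λ := k) (Spec (CommRingCat.of B₀)) (xB B₀)).obj A',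
      (defFunctor (Λ := k) (Spec (CommRingCat.of B₀)) (xB B₀)).map p u' = u := by
  rw [o, clsT2_eq_zero_iff, ← exists_lift_iff p hp.1, (rep P u).hD]

/-- Naturality of the class in the extension. -/
theorem clsT2_push {A'' : Art k k} {p : A' ⟶ A} {p'' : A'' ⟶ A} (κ : A' ⟶ A'') (hκ : κ ≫ p'' = p)
    (τ : ↥(RingHom.ker p.toAlgHom) →ₗ[k] ↥(RingHom.ker p''.toAlgHom))
    (hτ : ∀ j, ((τ j : ↥(RingHom.ker p''.toAlgHom)) : A'') = κ (j : A'))
    (hp : IsSemismallExt p) (hp'' : IsSemismallExt p'')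
    (D : AlgDef B₀ A) (g₀ : ι → D.R)
    (hg : ∀ i, D.π (g₀ i) = @algebraMap (MvPolynomial ι k) B₀ _ _ (algS P) (X i))
    (L : @LiftData k _ B₀ _ _ ι σ A' A p D g₀ P.relation) :
    clsT2 P p'' hp'' D g₀ hg (L.push κ hκ) =
      CotT.T2map P (τ.baseChange B₀) (clsT2 P p hp D g₀ hg L) := by
  letI := algS P
  haveI := towerS P
  have h1 : Kos.lift2 (B := B₀) ((L.push κ hκ).hmap hg hp'' (surjS P))
        ((L.push κ hκ).hmap_F0 hg hp'' (surjS P)) =
      (τ.baseChange B₀) ∘ₗ Kos.lift2 (B := B₀) (L.hmap hg hp (surjS P)) (L.hmap_F0 hg hp (surjS P)) := by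
    apply Kos.L2_ext
    intro q
    rw [Kos.at2_lift2, Kos.at2_apply, LinearMap.comp_apply, ← Kos.at2_apply, Kos.at2_lift2]
    exact L.hmap_push κ hκ τ hτ hg hp hp'' (surjS P) q
  change Submodule.Quotient.mk _ = Submodule.Quotient.mk _
  exact congrArg _ h1

theorem o_quot (p : A' ⟶ A) (hp : IsSemismallExt p) (K : Ideal A')
    (hK : K ≤ IsLocalRing.maximalIdeal A') (hKJ : K ≤ RingHom.ker p.toAlgHom)
    (hq : IsSemismallExt (quotFactor hK p hKJ))
    (u : (defFunctor (Λ := k) (Spec (CommRingCat.of B₀)) (xB B₀)).obj A) :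
    o P (quotFactor hK p hKJ) hq u =
      CotT.T2map P (((kerToQuot hK p hKJ).restrictScalars k).baseChange B₀) (o P p hp u) := by
  exact (clsT2_eq P (quotFactor hK p hKJ) hq (rep P u).D (rep P u).g₀ (rep P u).hg _
    ((Classical.choice (nonempty_liftDataP P p hp (rep P u).D (rep P u).g₀ (rep P u).hg)).push
      (quotMk A' K hK) (quotMk_quotFactor hK p hKJ))).trans
    (clsT2_push P (quotMk A' K hK) (quotMk_quotFactor hK p hKJ)
      ((kerToQuot hK p hKJ).restrictScalars k) (fun _ => rfl) hp hq (rep P u).D (rep P u).g₀ (rep P u).hg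
      (Classical.choice (nonempty_liftDataP P p hp (rep P u).D (rep P u).g₀ (rep P u).hg)))

end O

end Groth.Agent.R2.H56.ObsMain
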