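import Groth.Agent.R2.H56LciLift
import Groth.Agent.R2.H56HullA
import Groth.Agent.R2.H56DefBC
import Groth.Agent.R2.H56ObsMain
import Groth.Agent.Lib.Helper19SmallExt
import Groth.Agent.R2.H56LciSpec

/-!
# `T² = 0` makes the deformation functor of an affine scheme smooth, over an arbitrary base `Λ` (helper56)
-/

set_option autoImplicit false
set_option linter.style.haveILetI false
set_option linter.unusedSectionVars false

universe u

open CategoryTheory CategoryTheory.Limits AlgebraicGeometry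

namespace Groth.Agent.R2.H56.LciMain

open ArtFun ArtFun.Art Groth.Agent.R2.H56.AffDef Groth.Agent.R2.H56.Hull Groth.Agent.R2.H56.LciLift
  Groth.Agent.R2.H56.ObsMain MvPolynomial

variable {Λ k : Type u} [CommRing Λ] [Field k] [Algebra Λ k] {B₀ : Type u} [CommRing B₀] [Algebra k B₀] {ι σ : Type u}
  (P : Algebra.Presentation k B₀ ι σ)

/-- Deformations of `Spec B₀` lift along small extensions when `T²(B₀/k, B₀/𝔞) = 0` for all ideals `𝔞`. -/
theorem surjective_map_of_isSmallExt (hT2 : ∀ 𝔞 : Ideal B₀, Subsingleton (CotT.T2 P (B₀ ⧸ 𝔞)))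
    {A' A : Art Λ k} (p : A' ⟶ A) (hp : IsSmallExt p) :
    Function.Surjective ((defFunctor (Λ := Λ) (Spec (CommRingCat.of B₀)) (xB B₀)).map p) := by
  intro u
  obtain ⟨D, rfl⟩ := exists_rep u
  letI := algS P
  haveI := towerS P
  choose g₀ hg using fun i => D.surj (algebraMap (MvPolynomial ι k) B₀ (X i))
  obtain ⟨e, he⟩ := hp.2.2.1.principal
  have hε : RingHom.ker p.toAlgHom = Ideal.span {e} := he
  have hme : ∀ a, a ∈ RingHom.ker A'.res.toRingHom → a * e = 0 := by
    intro a ha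
    rw [ker_res_eq] at ha
    have h1 : a * e ∈ IsLocalRing.maximalIdeal A' * RingHom.ker p.toAlgHom :=
      Ideal.mul_mem_mul ha (e_mem e hε)
    rw [hp.2.2.2] at h1
    exact h1
  obtain ⟨L₀⟩ : Nonempty (LiftData p D g₀ P.relation) := by
    choose Fl hFl hFle using fun s => exists_mem_I'_eps_eq p D g₀ hg hp.1 (surjS P) (relS P s)
    exact ⟨⟨Fl, hFl, hFle⟩⟩
  obtain ⟨L, hL⟩ := exists_liftData_W_mem e hg hp.1 (surjS P) hε hme (relS P) (hT2 _) L₀
  obtain ⟨D', ψ, hψφ, hψπ⟩ := exists_lift_of_W_mem e hg hp.1 (surjS P) hε hme (spanS P) L hL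
  exact ⟨_, defFunctor_map_toDefSch (Λ := Λ) (k := k) p D' D ψ hψφ hψπ⟩

/-- `T² = 0` makes `Def_{Spec B₀}` a smooth functor. -/
theorem isSmoothFunctor_of_T2 (hT2 : ∀ 𝔞 : Ideal B₀, Subsingleton (CotT.T2 P (B₀ ⧸ 𝔞))) :
    IsSmoothFunctor (defFunctor (Λ := Λ) (Spec (CommRingCat.of B₀)) (xB (k := k) B₀)) := by
  intro B A μ hμ
  refine Groth.Agent.Lib.Helper19.surjective_induction
    (P := fun A B f => Function.Surjective ((defFunctor (Λ := Λ) (Spec (CommRingCat.of B₀)) (xB (k := k) B₀)).map f))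
    ?_ ?_ ?_ μ hμ
  · intro A B e he
    exact ((defFunctor (Λ := Λ) (Spec (CommRingCat.of B₀)) (xB (k := k) B₀)).mapIso (asIso e)).toEquiv.surjective
  · intro A B p hp
    exact surjective_map_of_isSmallExt P hT2 p hp
  · intro A B C p q hp hq
    rw [Functor.map_comp]
    exact hq.comp hp

/-- Deformations of an affine local complete intersection are unobstructed (modulo `PkgL`). -/
theorem isSmoothFunctor_of_isLCI (hL : Groth.Agent.R2.H56.LciSpec.PkgL.{u}) (hA : LCI.IsLCI k B₀) :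
    IsSmoothFunctor (defFunctor (Λ := Λ) (Spec (CommRingCat.of B₀)) (xB (k := k) B₀)) :=
  isSmoothFunctor_of_T2 (CotT.canon k B₀) (fun 𝔞 => hL k B₀ hA (B₀ ⧸ 𝔞))

end Groth.Agent.R2.H56.LciMain
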