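import Groth.Agent.R2.H56ObsSetup
import Groth.Agent.R2.H56AffDef2

/-!
# Key lemmas for the `T²` obstruction (helper56)

ns `Groth.Agent.R2.H56.Obs`: `π_G'`, `G'_surjective`, `eps_mem_ker`, `exists_mem_I'_eps_eq`, the map `γ : S ⊗ J → S'`
(injective, `C j * z = γ (eps z ⊗ j)`), `φJ : S ⊗ J → B₀ ⊗ J`, and
* `K1`: `x ∈ I' ∩ 𝔪'S' → ∃ m, x - γ m ∈ Z`;
* `K2`: `γ m ∈ Z → φJ m = 0`.
-/

set_option autoImplicit false
set_option linter.style.haveILetI false

universe u

open scoped TensorProduct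

namespace Groth.Agent.R2.H56.Obs

open ArtFun ArtFun.Art Groth.Agent.R2.H56.AffDef Groth.Agent.R2.H56.Lift Groth.Agent.R2.H56.FlatNil
  Groth.Agent.R2.H56.ObsAlg MvPolynomial

attribute [local instance] MvPolynomial.algebraMvPolynomial

variable {k : Type u} [Field k] {B₀ : Type u} [CommRing B₀] [Algebra k B₀] {ι : Type u}
  [Algebra (MvPolynomial ι k) B₀] [IsScalarTower k (MvPolynomial ι k) B₀]
  {A' A : Art k k}

section Main

variable (p : A' ⟶ A) (D : AlgDef B₀ A) (g₀ : ι → D.R)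
  (hg : ∀ i, D.π (g₀ i) = algebraMap (MvPolynomial ι k) B₀ (X i))

include hg in
theorem π_G' (y : MvPolynomial ι A') :
    D.π (G' p D g₀ y) = algebraMap (MvPolynomial ι k) B₀ (eps ι A' y) := by
  have h : D.π.comp (G' p D g₀) = (algebraMap (MvPolynomial ι k) B₀).comp (eps ι A') := by
    apply MvPolynomial.ringHom_ext
    · intro c
      rw [RingHom.comp_apply, RingHom.comp_apply, G'_C, eps_C]
      have h1 := congrArg (fun f => f (p c)) D.comm
      simp only [RingHom.comp_apply] at h1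
      rw [h1]
      have h2 : A.res (p c) = A'.res c := res_app p c
      change algebraMap k B₀ (A.res (p c)) = _
      rw [h2, ← MvPolynomial.algebraMap_eq, ← IsScalarTower.algebraMap_apply]
    · intro i
      rw [RingHom.comp_apply, RingHom.comp_apply, G'_X, eps_X, hg]
  exact congrArg (fun f => f y) h

include hg in
theorem eps_mem_ker {y : MvPolynomial ι A'} (hy : y ∈ I' p D g₀) :
    algebraMap (MvPolynomial ι k) B₀ (eps ι A' y) = 0 := by
  rw [← π_G' p D g₀ hg, (RingHom.mem_ker.1 hy : G' p D g₀ y = 0), map_zero]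

end Main

section Surj

variable (p : A' ⟶ A) (D : AlgDef B₀ A) (g₀ : ι → D.R)
  (hg : ∀ i, D.π (g₀ i) = algebraMap (MvPolynomial ι k) B₀ (X i))
  (hp : Function.Surjective p) (hsurj : Function.Surjective (algebraMap (MvPolynomial ι k) B₀))

include hg hp hsurj in
theorem G'_surjective : Function.Surjective (G' p D g₀) := by
  letI := D.φ.toAlgebra
  let K : Submodule A D.R :=
    { carrier := Set.range (G' p D g₀)
      add_mem' := by
        rintro _ _ ⟨x, rfl⟩ ⟨y, rfl⟩
        exact ⟨x + y, map_add _ _ _⟩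
      zero_mem' := ⟨0, map_zero _⟩
      smul_mem' := by
        rintro a _ ⟨x, rfl⟩
        obtain ⟨a', rfl⟩ := hp a
        refine ⟨C a' * x, ?_⟩
        rw [map_mul, G'_C]
        rfl }
  obtain ⟨n, hn⟩ := exists_pow_ker_res_eq_bot A
  have hK : K = ⊤ := by
    apply eq_top_of_sup_smul_top_eq_top (RingHom.ker A.res.toRingHom) n hn
    rw [eq_top_iff]
    intro r _
    obtain ⟨f, hf⟩ := hsurj (D.π r)
    have h1 : r - G' p D g₀ (algebraMap (MvPolynomial ι k) (MvPolynomial ι A') f) ∈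
        RingHom.ker A.res.toRingHom • (⊤ : Submodule A D.R) := by
      rw [D.ker_π_eq_smul_top, map_sub, π_G' p D g₀ hg, eps_algebraMap, hf, sub_self]
    have : r = G' p D g₀ (algebraMap (MvPolynomial ι k) (MvPolynomial ι A') f) +
        (r - G' p D g₀ (algebraMap (MvPolynomial ι k) (MvPolynomial ι A') f)) := by ring
    rw [this]
    exact Submodule.add_mem_sup ⟨_, rfl⟩ h1
  intro r
  have : r ∈ K := by rw [hK]; trivial
  exact this

include hg hp hsurj in
/-- `eps` maps `I'` onto the kernel of `S → B₀`. -/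
theorem exists_mem_I'_eps_eq {f : MvPolynomial ι k} (hf : algebraMap (MvPolynomial ι k) B₀ f = 0) :
    ∃ y ∈ I' p D g₀, eps ι A' y = f := by
  letI := D.φ.toAlgebra
  have h1 : G' p D g₀ (algebraMap (MvPolynomial ι k) (MvPolynomial ι A') f) ∈
      RingHom.ker A.res.toRingHom • (⊤ : Submodule A D.R) := by
    rw [D.ker_π_eq_smul_top, π_G' p D g₀ hg, eps_algebraMap, hf]
  obtain ⟨κ, _, a, m, ha, hsum⟩ := exists_sum_of_mem_smul_top _ _ h1
  choose a' ha' using fun i => hp (a i)
  choose z hz using fun i => G'_surjective p D g₀ hg hp hsurj (m i)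
  refine ⟨algebraMap (MvPolynomial ι k) (MvPolynomial ι A') f - ∑ i, C (a' i) * z i, ?_, ?_⟩
  · rw [I', RingHom.mem_ker, map_sub, hsum, map_sum, sub_eq_zero]
    refine Finset.sum_congr rfl fun i _ => ?_
    rw [map_mul, G'_C, ha', hz]
    rfl
  · rw [map_sub, eps_algebraMap, map_sum, sub_eq_self]
    refine Finset.sum_eq_zero fun i _ => ?_
    rw [map_mul, eps_C]
    have : A'.res (a' i) = 0 := by
      rw [← res_app p (a' i), ha']
      exact ha i
    rw [this, map_zero, zero_mul]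

end Surj

section Gamma

variable (p : A' ⟶ A)

/-- `j ↦ C j`, `k`-linear. -/
noncomputable def ellJ : ↥(RingHom.ker p.toAlgHom) →ₗ[k] MvPolynomial ι A' :=
  ((Algebra.linearMap A' (MvPolynomial ι A')).restrictScalars k) ∘ₗ
    ((RingHom.ker p.toAlgHom).subtype.restrictScalars k)

theorem ellJ_apply (j : ↥(RingHom.ker p.toAlgHom)) : ellJ (ι := ι) p j = C (j : A') := rfl

/-- `γ : S ⊗ J → S'`, `s ⊗ j ↦ θ(s) · j`. -/
noncomputable def γ : MvPolynomial ι k ⊗[k] ↥(RingHom.ker p.toAlgHom) →ₗ[MvPolynomial ι k] MvPolynomial ι A' :=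
  LinearMap.liftBaseChange (MvPolynomial ι k) (ellJ p)

theorem γ_tmul (s : MvPolynomial ι k) (j : ↥(RingHom.ker p.toAlgHom)) :
    γ p (s ⊗ₜ[k] j) = algebraMap (MvPolynomial ι k) (MvPolynomial ι A') s * C (j : A') := by
  rw [γ, LinearMap.liftBaseChange_tmul, ellJ_apply, Algebra.smul_def]

theorem γ_mem_JS (m : MvPolynomial ι k ⊗[k] ↥(RingHom.ker p.toAlgHom)) : γ p m ∈ JS (ι := ι) p := by
  induction m using TensorProduct.induction_on with
  | zero => rw [map_zero]; exact zero_mem _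
  | tmul s j =>
    rw [γ_tmul]
    exact Ideal.mul_mem_left _ _ (Ideal.mem_map_of_mem _ j.2)
  | add x y hx hy => rw [map_add]; exact add_mem hx hy

theorem γ_injective : Function.Injective (γ (ι := ι) p) := by
  have hb : IsBaseChange (MvPolynomial ι k)
      (IsScalarTower.toAlgHom k A' (MvPolynomial ι A')).toLinearMap :=
    (inferInstance : Algebra.IsPushout k (MvPolynomial ι k) A' (MvPolynomial ι A')).out
  have h1 : γ (ι := ι) p = hb.equiv.toLinearMap ∘ₗ
      (((RingHom.ker p.toAlgHom).subtype.restrictScalars k).baseChange (MvPolynomial ι k)) := by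
    apply TensorProduct.AlgebraTensorModule.ext
    intro s j
    rw [γ_tmul, LinearMap.comp_apply, LinearMap.baseChange_tmul, LinearEquiv.coe_coe, hb.equiv_tmul,
      Algebra.smul_def]
    rfl
  rw [h1, LinearMap.coe_comp, LinearEquiv.coe_coe]
  refine hb.equiv.injective.comp ?_
  have h2 := Module.Flat.lTensor_preserves_injective_linearMap (M := MvPolynomial ι k)
    ((RingHom.ker p.toAlgHom).subtype.restrictScalars k) (Subtype.val_injective)
  exact h2

theorem C_mul_eq_γ (hp : IsSemismallExt p) (j : ↥(RingHom.ker p.toAlgHom)) (z : MvPolynomial ι A') :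
    C (j : A') * z = γ p (eps ι A' z ⊗ₜ[k] j) := by
  rw [γ_tmul]
  have h := mul_eq_zero_of_mem_JS_mS p hp (Ideal.mem_map_of_mem C j.2 : C (j : A') ∈ JS (ι := ι) p)
    (sub_algebraMap_eps_mem z)
  rw [mul_sub, sub_eq_zero] at h
  rw [h, mul_comm]

variable (B₀) in
/-- `S ⊗ J → B₀ ⊗ J`. -/
noncomputable def φJ : MvPolynomial ι k ⊗[k] ↥(RingHom.ker p.toAlgHom) →ₗ[MvPolynomial ι k]
    B₀ ⊗[k] ↥(RingHom.ker p.toAlgHom) :=
  TensorProduct.AlgebraTensorModule.map (Algebra.linearMap (MvPolynomial ι k) B₀) LinearMap.id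

theorem φJ_tmul (s : MvPolynomial ι k) (j : ↥(RingHom.ker p.toAlgHom)) :
    φJ B₀ p (s ⊗ₜ[k] j) = algebraMap (MvPolynomial ι k) B₀ s ⊗ₜ[k] j := rfl

end Gamma

section EQ

/-- Equational criterion over a quotient: a relation `∑ f(aᵢ) nᵢ = 0` in a flat module over the target of a surjection `f`
is trivial, with coefficients lifted to the source. -/
theorem exists_trivial_of_flat {R' R : Type*} [CommRing R'] [CommRing R] (f : R' →+* R)
    (hf : Function.Surjective f) {N : Type*} [AddCommGroup N] [Module R N] [Module.Flat R N]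
    {κ : Type*} [Fintype κ] (a : κ → R') (n : κ → N) (h : ∑ i, f (a i) • n i = 0) :
    ∃ (l : ℕ) (b : κ → Fin l → R') (y : Fin l → N), (∀ i, n i = ∑ j, f (b i j) • y j) ∧
      ∀ j, ∑ i, a i * b i j ∈ RingHom.ker f := by
  obtain ⟨l, b, y, hxy, hb⟩ := Module.Flat.isTrivialRelation_of_sum_smul_eq_zero h
  choose b' hb' using fun i j => hf (b i j)
  refine ⟨l, b', y, fun i => ?_, fun j => ?_⟩
  · rw [hxy i]
    exact Finset.sum_congr rfl fun j _ => by rw [hb']
  · rw [RingHom.mem_ker, map_sum, ← hb j]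
    exact Finset.sum_congr rfl fun i _ => by rw [map_mul, hb']

end EQ

section K

variable (p : A' ⟶ A) (D : AlgDef B₀ A) (g₀ : ι → D.R)
  (hg : ∀ i, D.π (g₀ i) = algebraMap (MvPolynomial ι k) B₀ (X i))
  (hp : IsSemismallExt p) (hsurj : Function.Surjective (algebraMap (MvPolynomial ι k) B₀))

theorem mem_mS_iff (x : MvPolynomial ι A') :
    x ∈ RingHom.ker A'.res.toRingHom • (⊤ : Submodule A' (MvPolynomial ι A')) ↔ x ∈ mS ι A' := by
  rw [Ideal.smul_top_eq_map, Submodule.restrictScalars_mem]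
  rfl

include hg hp hsurj in
/-- `I' ∩ 𝔪'S' ⊆ 𝔪'I' + JS'`. -/
theorem K1 (x : MvPolynomial ι A') (hx : x ∈ I' p D g₀) (hx' : x ∈ mS ι A') :
    ∃ m : MvPolynomial ι k ⊗[k] ↥(RingHom.ker p.toAlgHom), x - γ p m ∈ Z p D g₀ := by
  letI := D.φ.toAlgebra
  haveI : Module.Flat A D.R := D.flat
  obtain ⟨κ, _, a, m, ha, rfl⟩ := exists_sum_of_mem_smul_top _ _ ((mem_mS_iff x).2 hx')
  have hGa : ∀ (c : A') (y : MvPolynomial ι A'), G' p D g₀ (c • y) = p.toAlgHom.toRingHom c • G' p D g₀ y := by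
    intro c y
    rw [Algebra.smul_def, map_mul, MvPolynomial.algebraMap_eq, G'_C]
    rfl
  have hrel : ∑ i, p.toAlgHom.toRingHom (a i) • G' p D g₀ (m i) = 0 := by
    have h0 : G' p D g₀ (∑ i, a i • m i) = 0 := hx
    rw [map_sum] at h0
    rw [← h0]
    exact Finset.sum_congr rfl fun i _ => (hGa _ _).symm
  obtain ⟨l, b, y, hny, hb⟩ := exists_trivial_of_flat p.toAlgHom.toRingHom hp.1 a _ hrel
  choose z hz using fun j => G'_surjective p D g₀ hg hp.1 hsurj (y j)
  have hn' : ∀ i, m i - ∑ j, C (b i j) * z j ∈ I' p D g₀ := by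
    intro i
    rw [I', RingHom.mem_ker, map_sub, hny i, map_sum, sub_eq_zero]
    refine Finset.sum_congr rfl fun j _ => ?_
    rw [map_mul, G'_C, hz]
    rfl
  let e : Fin l → ↥(RingHom.ker p.toAlgHom) := fun j => ⟨∑ i, a i * b i j, hb j⟩
  refine ⟨∑ j, eps ι A' (z j) ⊗ₜ[k] e j, ?_⟩
  have key : ∑ i, a i • m i - γ p (∑ j, eps ι A' (z j) ⊗ₜ[k] e j) =
      ∑ i, C (a i) * (m i - ∑ j, C (b i j) * z j) := by
    rw [map_sum]
    simp_rw [← C_mul_eq_γ p hp, mul_sub, Finset.mul_sum]
    rw [Finset.sum_sub_distrib, Finset.sum_comm]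
    congr 1
    · exact Finset.sum_congr rfl fun i _ => by rw [Algebra.smul_def, MvPolynomial.algebraMap_eq]
    · refine Finset.sum_congr rfl fun j _ => ?_
      change C (∑ i, a i * b i j) * z j = _
      rw [map_sum, Finset.sum_mul]
      exact Finset.sum_congr rfl fun i _ => by rw [map_mul, mul_assoc]
  rw [key]
  exact Ideal.sum_mem _ fun i _ => Ideal.mul_mem_mul (Ideal.mem_map_of_mem C (ha i)) (hn' i)

end K

section K2

variable (p : A' ⟶ A) (D : AlgDef B₀ A) (g₀ : ι → D.R)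
  (hg : ∀ i, D.π (g₀ i) = algebraMap (MvPolynomial ι k) B₀ (X i))
  (hp : IsSemismallExt p) (hsurj : Function.Surjective (algebraMap (MvPolynomial ι k) B₀))

/-- `S' → S_C = A[x]`. -/
noncomputable def μC : MvPolynomial ι A' →+* MvPolynomial ι A := MvPolynomial.map p.toAlgHom.toRingHom

/-- `S_C → D.R`. -/
noncomputable def GC : MvPolynomial ι A →+* D.R := MvPolynomial.eval₂Hom D.φ g₀

omit [Algebra (MvPolynomial ι k) B₀] [IsScalarTower k (MvPolynomial ι k) B₀] in
theorem GC_μC (y : MvPolynomial ι A') : GC D g₀ (μC p y) = G' p D g₀ y := by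
  have h : (GC D g₀).comp (μC p) = G' p D g₀ := by
    apply MvPolynomial.ringHom_ext
    · intro c
      rw [RingHom.comp_apply, μC, MvPolynomial.map_C, G'_C, GC, MvPolynomial.coe_eval₂Hom,
        MvPolynomial.eval₂_C]
      rfl
    · intro i
      rw [RingHom.comp_apply, μC, MvPolynomial.map_X, G'_X, GC, MvPolynomial.coe_eval₂Hom,
        MvPolynomial.eval₂_X]
  exact congrArg (fun f => f y) h

theorem ker_μC : RingHom.ker (μC (ι := ι) p) = JS p := MvPolynomial.ker_map _

include hp in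
theorem μC_surjective : Function.Surjective (μC (ι := ι) p) :=
  MvPolynomial.map_surjective _ hp.1

include hg hp hsurj in
/-- `𝔪'I' ∩ JS' ⊆ J·I'`, in the form: `γ m ∈ 𝔪'I'` implies that `m` dies in `B₀ ⊗ J`. -/
theorem K2 (m : MvPolynomial ι k ⊗[k] ↥(RingHom.ker p.toAlgHom)) (hm : γ p m ∈ Z p D g₀) :
    φJ B₀ p m = 0 := by
  letI := D.φ.toAlgebra
  haveI : Module.Flat A D.R := D.flat
  let GCl : MvPolynomial ι A →ₗ[A] D.R :=
    { toFun := GC D g₀
      map_add' := map_add _
      map_smul' := fun c s => by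
        rw [Algebra.smul_def, map_mul, MvPolynomial.algebraMap_eq, GC, MvPolynomial.coe_eval₂Hom,
          MvPolynomial.eval₂_C]
        rfl }
  have hGCl : ∀ s, GCl s = GC D g₀ s := fun _ => rfl
  have hGsurj : Function.Surjective GCl := by
    intro r
    obtain ⟨y, hy⟩ := G'_surjective p D g₀ hg hp.1 hsurj r
    exact ⟨μC p y, by rw [hGCl, GC_μC, hy]⟩
  haveI : Module.Flat A ↥(LinearMap.ker GCl) := flat_ker_of_surjective GCl hGsurj
  have hm2 : γ p m ∈ RingHom.ker A'.res.toRingHom • (I' p D g₀).restrictScalars A' := by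
    rw [← Ideal.smul_restrictScalars, Submodule.restrictScalars_mem, Ideal.smul_eq_mul]
    exact hm
  obtain ⟨κ, _, a, y, ha, hy, hsum⟩ := exists_sum_of_mem_smul _ _ _ hm2
  have hyI : ∀ i, y i ∈ I' p D g₀ := hy
  let n : κ → ↥(LinearMap.ker GCl) := fun i => ⟨μC p (y i), by
    rw [LinearMap.mem_ker, hGCl, GC_μC]
    exact hyI i⟩
  have hμa : ∀ (c : A') (t : MvPolynomial ι A'), μC p (c • t) = p.toAlgHom.toRingHom c • μC p t := by
    intro c t
    rw [Algebra.smul_def, map_mul, MvPolynomial.algebraMap_eq, μC, MvPolynomial.map_C, Algebra.smul_def,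
      MvPolynomial.algebraMap_eq]
  have hrel : ∑ i, p.toAlgHom.toRingHom (a i) • n i = 0 := by
    apply Subtype.ext
    rw [Submodule.coe_sum, Submodule.coe_zero]
    have h0 : μC p (γ p m) = 0 := by
      rw [← RingHom.mem_ker, ker_μC]
      exact γ_mem_JS p m
    rw [hsum, map_sum] at h0
    rw [← h0]
    exact Finset.sum_congr rfl fun i _ => (hμa _ _).symm
  obtain ⟨l, b, v, hnv, hb⟩ := exists_trivial_of_flat p.toAlgHom.toRingHom hp.1 a n hrel
  choose v' hv' using fun j => μC_surjective p hp ((v j : MvPolynomial ι A))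
  have hv'I : ∀ j, v' j ∈ I' p D g₀ := by
    intro j
    rw [I', RingHom.mem_ker, ← GC_μC, hv']
    exact (v j).2
  have ht : ∀ i, y i - ∑ j, C (b i j) * v' j ∈ JS (ι := ι) p := by
    intro i
    rw [← ker_μC, RingHom.mem_ker, map_sub, map_sum, sub_eq_zero]
    have h1 := congrArg (fun w : ↥(LinearMap.ker GCl) => (w : MvPolynomial ι A)) (hnv i)
    simp only [Submodule.coe_sum, Submodule.coe_smul] at h1
    change μC p (y i) = _ at h1
    rw [h1]
    refine Finset.sum_congr rfl fun j _ => ?_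
    rw [map_mul, hv', μC, MvPolynomial.map_C, Algebra.smul_def, MvPolynomial.algebraMap_eq]
  let e : Fin l → ↥(RingHom.ker p.toAlgHom) := fun j => ⟨∑ i, a i * b i j, hb j⟩
  have key : γ p m = γ p (∑ j, eps ι A' (v' j) ⊗ₜ[k] e j) := by
    rw [hsum, map_sum]
    simp_rw [← C_mul_eq_γ p hp]
    have h1 : ∑ i, a i • y i = ∑ i, C (a i) * (y i - ∑ j, C (b i j) * v' j) +
        ∑ j, C ((e j : ↥(RingHom.ker p.toAlgHom)) : A') * v' j := by
      simp_rw [mul_sub, Finset.mul_sum]
      rw [Finset.sum_sub_distrib, Finset.sum_comm]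
      have h2 : ∀ j, C ((e j : ↥(RingHom.ker p.toAlgHom)) : A') * v' j = ∑ i, C (a i) * (C (b i j) * v' j) := by
        intro j
        change C (∑ i, a i * b i j) * v' j = _
        rw [map_sum, Finset.sum_mul]
        exact Finset.sum_congr rfl fun i _ => by rw [map_mul, mul_assoc]
      simp_rw [h2]
      rw [sub_add_cancel]
      exact Finset.sum_congr rfl fun i _ => by rw [Algebra.smul_def, MvPolynomial.algebraMap_eq]
    rw [h1]
    have h3 : ∑ i, C (a i) * (y i - ∑ j, C (b i j) * v' j) = 0 := by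
      refine Finset.sum_eq_zero fun i _ => ?_
      rw [mul_comm]
      exact mul_eq_zero_of_mem_JS_mS p hp (ht i) (Ideal.mem_map_of_mem C (ha i))
    rw [h3, zero_add]
  have hm3 := γ_injective p key
  rw [hm3, map_sum]
  refine Finset.sum_eq_zero fun j _ => ?_
  rw [φJ_tmul, eps_mem_ker p D g₀ hg (hv'I j), TensorProduct.zero_tmul]

end K2

end Groth.Agent.R2.H56.Obs
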