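import Mathlib.RingTheory.Polynomial.Basic
import Groth.Agent.R2.H56ObsKey
import Groth.Agent.R2.H56AffDef2

/-!
# Lifting affine deformations over an arbitrary base `Λ` (helper56): setup and the flatness lemma `K1`

ns `Groth.Agent.R2.H56.LciLift`.  `S = k[x_i]`, `S' = A'[x_i]`, `eps : S' → S`, `G' : S' → D.R`, `I' = ker G'`,
`mS = 𝔪' S'`, `JS = J S'`, `Z = 𝔪' I'`; `K1 : I' ∩ 𝔪'S' ⊆ JS' + 𝔪'I'`.
-/

set_option autoImplicit false
set_option linter.style.haveILetI false
set_option linter.unusedSectionVars false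

universe u

namespace Groth.Agent.R2.H56.LciLift

open ArtFun ArtFun.Art Groth.Agent.R2.H56.AffDef Groth.Agent.R2.H56.FlatNil MvPolynomial

variable {Λ k : Type u} [CommRing Λ] [Field k] [Algebra Λ k] {B₀ : Type u} [CommRing B₀] [Algebra k B₀] {ι : Type u}
  [Algebra (MvPolynomial ι k) B₀] [IsScalarTower k (MvPolynomial ι k) B₀]
  {A' A : Art Λ k}

section Basic

variable (ι) (A')

/-- The reduction `S' → S`. -/
noncomputable def eps : MvPolynomial ι A' →+* MvPolynomial ι k := MvPolynomial.map A'.res.toRingHom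

/-- `𝔪' S'`. -/
noncomputable def mS : Ideal (MvPolynomial ι A') := Ideal.map C (RingHom.ker A'.res.toRingHom)

variable {ι} {A'}

theorem ker_eps : RingHom.ker (eps ι A') = mS ι A' := MvPolynomial.ker_map _

theorem eps_C (c : A') : eps ι A' (C c) = C (A'.res c) := MvPolynomial.map_C _ _

theorem eps_X (i : ι) : eps ι A' (X i) = X i := MvPolynomial.map_X _ _

theorem eps_surjective : Function.Surjective (eps ι A') :=
  MvPolynomial.map_surjective _ A'.res_surjective

end Basic

section Main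

variable (p : A' ⟶ A) (D : AlgDef B₀ A) (g₀ : ι → D.R)

/-- `J S'`. -/
noncomputable def JS : Ideal (MvPolynomial ι A') := Ideal.map C (RingHom.ker p.toAlgHom)

/-- The surjection `S' → D.R`. -/
noncomputable def G' : MvPolynomial ι A' →+* D.R :=
  MvPolynomial.eval₂Hom (D.φ.comp p.toAlgHom.toRingHom) g₀

/-- `I' = ker (S' → D.R)`. -/
noncomputable def I' : Ideal (MvPolynomial ι A') := RingHom.ker (G' p D g₀)

/-- `Z = 𝔪' I'`. -/
noncomputable def Z : Ideal (MvPolynomial ι A') := mS ι A' * I' p D g₀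

theorem G'_C (c : A') : G' p D g₀ (C c) = D.φ (p c) := by
  change MvPolynomial.eval₂Hom _ _ _ = _
  rw [MvPolynomial.coe_eval₂Hom, MvPolynomial.eval₂_C]
  rfl

theorem G'_X (i : ι) : G' p D g₀ (X i) = g₀ i := by
  change MvPolynomial.eval₂Hom _ _ _ = _
  rw [MvPolynomial.coe_eval₂Hom, MvPolynomial.eval₂_X]

theorem JS_le_I' : JS (ι := ι) p ≤ I' p D g₀ := by
  rw [JS, Ideal.map_le_iff_le_comap]
  intro j hj
  rw [Ideal.mem_comap, I', RingHom.mem_ker, G'_C]
  have : p j = 0 := hj
  rw [this, map_zero]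

theorem ker_le_ker_res : RingHom.ker p.toAlgHom ≤ RingHom.ker A'.res.toRingHom := by
  intro j hj
  rw [RingHom.mem_ker] at hj ⊢
  have h := res_app p j
  change A'.res j = 0
  rw [← h]
  have : p j = 0 := hj
  rw [this, map_zero]

theorem JS_le_mS : JS (ι := ι) p ≤ mS ι A' := Ideal.map_mono (ker_le_ker_res p)

theorem Z_le_I' : Z p D g₀ ≤ I' p D g₀ := Ideal.mul_le_right

theorem Z_le_mS : Z p D g₀ ≤ mS ι A' := Ideal.mul_le_left

end Main

section Key

variable (p : A' ⟶ A) (D : AlgDef B₀ A) (g₀ : ι → D.R)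
  (hg : ∀ i, D.π (g₀ i) = algebraMap (MvPolynomial ι k) B₀ (X i))

include hg in
theorem π_G' (y : MvPolynomial ι A') :
    D.π (G' p D g₀ y) = algebraMap (MvPolynomial ι k) B₀ (eps ι A' y) := by
  have h : D.π.comp (G' p D g₀) = (algebraMap (MvPolynomial ι k) B₀).comp (eps ι A') := by
    apply MvPolynomial.ringHom_ext
    · intro c
      rw [RingHom.comp_apply, RingHom.comp_apply, G'_C, eps_C]
      have h1 := congrArg (fun f => f (p c)) D.comm
      simp only [RingHom.comp_apply] at h1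
      rw [h1]
      have h2 : A.res (p c) = A'.res c := res_app p c
      change algebraMap k B₀ (A.res (p c)) = _
      rw [h2, ← MvPolynomial.algebraMap_eq, ← IsScalarTower.algebraMap_apply]
    · intro i
      rw [RingHom.comp_apply, RingHom.comp_apply, G'_X, eps_X, hg]
  exact congrArg (fun f => f y) h

include hg in
theorem eps_mem_ker {y : MvPolynomial ι A'} (hy : y ∈ I' p D g₀) :
    algebraMap (MvPolynomial ι k) B₀ (eps ι A' y) = 0 := by
  rw [← π_G' p D g₀ hg, (RingHom.mem_ker.1 hy : G' p D g₀ y = 0), map_zero]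

variable (hp : Function.Surjective p) (hsurj : Function.Surjective (algebraMap (MvPolynomial ι k) B₀))

include hg hp hsurj in
theorem G'_surjective : Function.Surjective (G' p D g₀) := by
  letI := D.φ.toAlgebra
  let K : Submodule A D.R :=
    { carrier := Set.range (G' p D g₀)
      add_mem' := by
        rintro _ _ ⟨x, rfl⟩ ⟨y, rfl⟩
        exact ⟨x + y, map_add _ _ _⟩
      zero_mem' := ⟨0, map_zero _⟩
      smul_mem' := by
        rintro a _ ⟨x, rfl⟩
        obtain ⟨a', rfl⟩ := hp a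
        refine ⟨C a' * x, ?_⟩
        rw [map_mul, G'_C]
        rfl }
  obtain ⟨n, hn⟩ := exists_pow_ker_res_eq_bot A
  have hK : K = ⊤ := by
    apply eq_top_of_sup_smul_top_eq_top (RingHom.ker A.res.toRingHom) n hn
    rw [eq_top_iff]
    intro r _
    obtain ⟨f, hf⟩ := hsurj (D.π r)
    obtain ⟨f', rfl⟩ := eps_surjective (A' := A') f
    have h1 : r - G' p D g₀ f' ∈ RingHom.ker A.res.toRingHom • (⊤ : Submodule A D.R) := by
      rw [D.ker_π_eq_smul_top, map_sub, π_G' p D g₀ hg, hf, sub_self]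
    have : r = G' p D g₀ f' + (r - G' p D g₀ f') := by ring
    rw [this]
    exact Submodule.add_mem_sup ⟨_, rfl⟩ h1
  intro r
  have : r ∈ K := by rw [hK]; trivial
  exact this

include hg hp hsurj in
/-- `eps` maps `I'` onto the kernel of `S → B₀`. -/
theorem exists_mem_I'_eps_eq {f : MvPolynomial ι k} (hf : algebraMap (MvPolynomial ι k) B₀ f = 0) :
    ∃ y ∈ I' p D g₀, eps ι A' y = f := by
  letI := D.φ.toAlgebra
  obtain ⟨f', rfl⟩ := eps_surjective (A' := A') f
  have h1 : G' p D g₀ f' ∈ RingHom.ker A.res.toRingHom • (⊤ : Submodule A D.R) := by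
    rw [D.ker_π_eq_smul_top, π_G' p D g₀ hg, hf]
  obtain ⟨κ, _, a, m, ha, hsum⟩ := exists_sum_of_mem_smul_top _ _ h1
  choose a' ha' using fun i => hp (a i)
  choose z hz using fun i => G'_surjective p D g₀ hg hp hsurj (m i)
  refine ⟨f' - ∑ i, C (a' i) * z i, ?_, ?_⟩
  · rw [I', RingHom.mem_ker, map_sub, hsum, map_sum, sub_eq_zero]
    refine Finset.sum_congr rfl fun i _ => ?_
    rw [map_mul, G'_C, ha', hz]
    rfl
  · rw [map_sub, map_sum, sub_eq_self]
    refine Finset.sum_eq_zero fun i _ => ?_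
    rw [map_mul, eps_C]
    have : A'.res (a' i) = 0 := by
      rw [← res_app p (a' i), ha']
      exact ha i
    rw [this, map_zero, zero_mul]

theorem mem_mS_iff (x : MvPolynomial ι A') :
    x ∈ RingHom.ker A'.res.toRingHom • (⊤ : Submodule A' (MvPolynomial ι A')) ↔ x ∈ mS ι A' := by
  rw [Ideal.smul_top_eq_map, Submodule.restrictScalars_mem]
  rfl

include hg hp hsurj in
/-- `I' ∩ 𝔪'S' ⊆ JS' + 𝔪'I'`. -/
theorem K1 (x : MvPolynomial ι A') (hx : x ∈ I' p D g₀) (hx' : x ∈ mS ι A') :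
    ∃ j ∈ JS (ι := ι) p, x - j ∈ Z p D g₀ := by
  letI := D.φ.toAlgebra
  haveI : Module.Flat A D.R := D.flat
  obtain ⟨κ, _, a, m, ha, rfl⟩ := exists_sum_of_mem_smul_top _ _ ((mem_mS_iff x).2 hx')
  have hGa : ∀ (c : A') (y : MvPolynomial ι A'), G' p D g₀ (c • y) = p.toAlgHom.toRingHom c • G' p D g₀ y := by
    intro c y
    rw [Algebra.smul_def, map_mul, MvPolynomial.algebraMap_eq, G'_C]
    rfl
  have hrel : ∑ i, p.toAlgHom.toRingHom (a i) • G' p D g₀ (m i) = 0 := by
    have h0 : G' p D g₀ (∑ i, a i • m i) = 0 := hx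
    rw [map_sum] at h0
    rw [← h0]
    exact Finset.sum_congr rfl fun i _ => (hGa _ _).symm
  obtain ⟨l, b, y, hny, hb⟩ := Groth.Agent.R2.H56.Obs.exists_trivial_of_flat p.toAlgHom.toRingHom hp a _ hrel
  choose z hz using fun j => G'_surjective p D g₀ hg hp hsurj (y j)
  have hn' : ∀ i, m i - ∑ j, C (b i j) * z j ∈ I' p D g₀ := by
    intro i
    rw [I', RingHom.mem_ker, map_sub, hny i, map_sum, sub_eq_zero]
    refine Finset.sum_congr rfl fun j _ => ?_
    rw [map_mul, G'_C, hz]
    rfl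
  refine ⟨∑ j, C (∑ i, a i * b i j) * z j, ?_, ?_⟩
  · exact Ideal.sum_mem _ fun j _ => Ideal.mul_mem_right _ _ (Ideal.mem_map_of_mem C (hb j))
  · have key : ∑ i, a i • m i - ∑ j, C (∑ i, a i * b i j) * z j =
        ∑ i, C (a i) * (m i - ∑ j, C (b i j) * z j) := by
      simp_rw [mul_sub, Finset.mul_sum]
      rw [Finset.sum_sub_distrib, Finset.sum_comm]
      congr 1
      · exact Finset.sum_congr rfl fun i _ => by rw [Algebra.smul_def, MvPolynomial.algebraMap_eq]
      · refine Finset.sum_congr rfl fun j _ => ?_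
        rw [map_sum, Finset.sum_mul]
        exact Finset.sum_congr rfl fun i _ => by rw [map_mul, mul_assoc]
    rw [key]
    exact Ideal.sum_mem _ fun i _ => Ideal.mul_mem_mul (Ideal.mem_map_of_mem C (ha i)) (hn' i)

end Key

end Groth.Agent.R2.H56.LciLift
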