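import Groth.Agent.R2.H56AffDef2

/-!
# Lifts of an algebraic deformation along a semismall extension (helper56)

ns `Groth.Agent.R2.H56.Lift`.  For `p : C' ⟶ C` a semismall extension in `Art k k` and an algebraic deformation
`D` of `B₀` over `C`:
* `AlgLift p D`: a flat `C'`-algebra `R'` with a surjection `ρ : R' → D.R` over `p` whose kernel is `J R'`, `J = ker p`;
* `AlgLift.π'`, `AlgLift.ker_π'`, `AlgLift.toAlgDef`;
* `AlgLift.incl : B₀ ⊗[k] J →+ R'`, `b ⊗ j ↦ j r̃` (`r̃` any lift of `b`), injective with image `ker ρ`.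
-/

set_option autoImplicit false

universe u

open scoped TensorProduct

namespace Groth.Agent.R2.H56.Lift

open ArtFun ArtFun.Art Groth.Agent.R2.H56.AffDef Groth.Agent.R2.H56.FlatNil

variable {k : Type u} [Field k] {B₀ : Type u} [CommRing B₀] [Algebra k B₀] {C' C : Art k k}

section Ideals

variable (p : C' ⟶ C)

theorem ker_le_ker_res : RingHom.ker p.toAlgHom ≤ RingHom.ker C'.res.toRingHom := by
  intro j hj
  rw [RingHom.mem_ker] at hj ⊢
  change C'.res j = 0
  rw [← res_app p j]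
  change C.res (p.toAlgHom j) = 0
  rw [hj, map_zero]

theorem map_ker_res_le : Ideal.map p.toAlgHom.toRingHom (RingHom.ker C'.res.toRingHom) ≤
    RingHom.ker C.res.toRingHom := by
  rw [Ideal.map_le_iff_le_comap]
  intro a ha
  rw [Ideal.mem_comap, RingHom.mem_ker]
  change C.res (p a) = 0
  rw [res_app p a]
  exact ha

theorem ker_res_le_map (hp : Function.Surjective p) : RingHom.ker C.res.toRingHom ≤
    Ideal.map p.toAlgHom.toRingHom (RingHom.ker C'.res.toRingHom) := by
  intro c hc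
  obtain ⟨c', rfl⟩ := hp c
  refine Ideal.mem_map_of_mem _ ?_
  rw [RingHom.mem_ker] at hc ⊢
  change C'.res c' = 0
  rw [← res_app p c']
  exact hc

theorem mul_eq_zero_of_semismall (hp : IsSemismallExt p) {a j : C'}
    (ha : a ∈ RingHom.ker C'.res.toRingHom) (hj : j ∈ RingHom.ker p.toAlgHom) : a * j = 0 := by
  have h : a * j ∈ IsLocalRing.maximalIdeal C' * RingHom.ker p.toAlgHom :=
    Ideal.mul_mem_mul (by rwa [← ker_res_eq]) hj
  rw [hp.2] at h
  exact h

end Ideals

/-- A lift of the algebraic deformation `D` along `p : C' ⟶ C`. -/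
structure AlgLift (p : C' ⟶ C) (D : AlgDef B₀ C) : Type (u + 1) where
  /-- the ring -/
  R' : Type u
  [commRing : CommRing R']
  /-- the structure map -/
  φ' : C' →+* R'
  flat : φ'.Flat
  /-- the reduction to `D.R` -/
  ρ : R' →+* D.R
  comm : ρ.comp φ' = D.φ.comp p.toAlgHom.toRingHom
  surj : Function.Surjective ρ
  ker_eq : RingHom.ker ρ = Ideal.map φ' (RingHom.ker p.toAlgHom)

attribute [instance] AlgLift.commRing

namespace AlgLift

variable {p : C' ⟶ C} {D : AlgDef B₀ C} (L : AlgLift p D)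

theorem ρ_φ' (c : C') : L.ρ (L.φ' c) = D.φ (p c) := congrArg (fun f => f c) L.comm

/-- the reduction to `B₀` -/
def π' : L.R' →+* B₀ := D.π.comp L.ρ

theorem π'_apply (x : L.R') : L.π' x = D.π (L.ρ x) := rfl

theorem π'_surj : Function.Surjective L.π' := D.surj.comp L.surj

theorem π'_φ' (c : C') : L.π' (L.φ' c) = algebraMap k B₀ (C'.res c) := by
  rw [π'_apply, ρ_φ']
  have := congrArg (fun f => f (p c)) D.comm
  simp only [RingHom.comp_apply] at this
  rw [this]
  congr 1
  exact res_app p c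

theorem ker_π' (hp : Function.Surjective p) :
    RingHom.ker L.π' = Ideal.map L.φ' (RingHom.ker C'.res.toRingHom) := by
  apply le_antisymm
  · intro x hx
    have h1 : L.ρ x ∈ Ideal.map D.φ (RingHom.ker C.res.toRingHom) := by
      rw [← D.ker_eq]; exact hx
    have h2 : L.ρ x ∈ Ideal.map L.ρ (Ideal.map L.φ' (RingHom.ker C'.res.toRingHom)) := by
      rw [Ideal.map_map, L.comm, ← Ideal.map_map]
      exact Ideal.map_mono (ker_res_le_map p hp) h1
    rw [Ideal.mem_map_iff_of_surjective L.ρ L.surj] at h2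
    obtain ⟨y, hy, hxy⟩ := h2
    have h3 : x - y ∈ RingHom.ker L.ρ := by rw [RingHom.mem_ker, map_sub, hxy, sub_self]
    rw [L.ker_eq] at h3
    have h4 := Ideal.map_mono (f := L.φ') (ker_le_ker_res p) h3
    have : x = (x - y) + y := by ring
    rw [this]
    exact Ideal.add_mem _ h4 hy
  · rw [Ideal.map_le_iff_le_comap]
    intro a ha
    rw [Ideal.mem_comap, RingHom.mem_ker, π'_φ']
    have : C'.res a = 0 := ha
    rw [this, map_zero]

/-- The algebraic deformation over `C'` underlying a lift. -/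
def toAlgDef (hp : Function.Surjective p) : AlgDef B₀ C' where
  R := L.R'
  φ := L.φ'
  flat := L.flat
  π := L.π'
  comm := by
    ext c
    exact L.π'_φ' c
  surj := L.π'_surj
  ker_eq := L.ker_π' hp

variable (hp : IsSemismallExt p)

include hp in
theorem φ'_mul_eq {j : C'} (hj : j ∈ RingHom.ker p.toAlgHom) {x y : L.R'} (h : L.π' x = L.π' y) :
    L.φ' j * x = L.φ' j * y := by
  have h1 : x - y ∈ RingHom.ker L.π' := by rw [RingHom.mem_ker, map_sub, h, sub_self]
  rw [L.ker_π' hp.1] at h1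
  have h2 : L.φ' j * (x - y) ∈
      Ideal.map L.φ' (RingHom.ker p.toAlgHom) * Ideal.map L.φ' (RingHom.ker C'.res.toRingHom) :=
    Ideal.mul_mem_mul (Ideal.mem_map_of_mem _ hj) h1
  rw [← Ideal.map_mul] at h2
  have h3 : RingHom.ker p.toAlgHom * RingHom.ker C'.res.toRingHom = ⊥ := by
    rw [eq_bot_iff, Ideal.mul_le]
    intro a ha b hb
    rw [Ideal.mem_bot, mul_comm]
    exact mul_eq_zero_of_semismall p hp hb ha
  rw [h3, Ideal.map_bot, Ideal.mem_bot] at h2
  rw [← sub_eq_zero, ← mul_sub, h2]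

/-- `j ↦ j r̃` for a chosen lift `r̃` of `b`. -/
noncomputable def inclAux (b : B₀) : ↥(RingHom.ker p.toAlgHom) →+ L.R' where
  toFun j := L.φ' j * Function.surjInv L.π'_surj b
  map_zero' := by simp
  map_add' j j' := by simp [add_mul]

include hp in
theorem inclAux_eq (b : B₀) (j : ↥(RingHom.ker p.toAlgHom)) (r : L.R') (hr : L.π' r = b) :
    L.inclAux b j = L.φ' j * r :=
  L.φ'_mul_eq hp j.2 ((Function.surjInv_eq L.π'_surj b).trans hr.symm)

/-- `b ↦ (j ↦ j r̃)`, additive in `b`. -/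
noncomputable def inclAux₂ : B₀ →+ (↥(RingHom.ker p.toAlgHom) →+ L.R') where
  toFun := L.inclAux
  map_zero' := AddMonoidHom.ext fun j => by
    rw [L.inclAux_eq hp 0 j 0 (map_zero _), mul_zero]
    rfl
  map_add' b b' := AddMonoidHom.ext fun j => by
    rw [L.inclAux_eq hp (b + b') j (Function.surjInv L.π'_surj b + Function.surjInv L.π'_surj b')
      (by rw [map_add, Function.surjInv_eq L.π'_surj, Function.surjInv_eq L.π'_surj]), mul_add]
    rfl

/-- The inclusion `B₀ ⊗[k] J → R'` of the kernel of `ρ`. -/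
noncomputable def incl : B₀ ⊗[k] ↥(RingHom.ker p.toAlgHom) →+ L.R' :=
  TensorProduct.liftAddHom (L.inclAux₂ hp) (fun c b j => by
    change L.inclAux (c • b) j = L.inclAux b (c • j)
    rw [L.inclAux_eq hp (c • b) j (L.φ' (algebraMap k C' c) * Function.surjInv L.π'_surj b) (by
      rw [map_mul, π'_φ', Function.surjInv_eq L.π'_surj, Algebra.smul_def]
      congr 2
      exact C'.res.commutes c)]
    have hcj : ((c • j : ↥(RingHom.ker p.toAlgHom)) : C') = algebraMap k C' c * (j : C') := by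
      change c • (j : C') = _
      exact Algebra.smul_def c (j : C')
    change _ = L.φ' ((c • j : ↥(RingHom.ker p.toAlgHom)) : C') * _
    rw [hcj, map_mul]
    ring)

theorem incl_tmul (r : L.R') (j : ↥(RingHom.ker p.toAlgHom)) :
    L.incl hp (L.π' r ⊗ₜ[k] j) = L.φ' j * r := by
  change L.inclAux (L.π' r) j = _
  exact L.inclAux_eq hp _ j r rfl

theorem ρ_incl (m : B₀ ⊗[k] ↥(RingHom.ker p.toAlgHom)) : L.ρ (L.incl hp m) = 0 := by
  induction m using TensorProduct.induction_on with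
  | zero => simp
  | tmul b j =>
    obtain ⟨r, rfl⟩ := L.π'_surj b
    rw [incl_tmul, map_mul, ρ_φ']
    have : p j = 0 := j.2
    rw [this, map_zero, zero_mul]
  | add x y hx hy => rw [map_add, map_add, hx, hy, add_zero]

theorem mul_incl (x : L.R') (m : B₀ ⊗[k] ↥(RingHom.ker p.toAlgHom)) :
    x * L.incl hp m = L.incl hp (L.π' x • m) := by
  induction m using TensorProduct.induction_on with
  | zero => simp
  | tmul b j =>
    obtain ⟨r, rfl⟩ := L.π'_surj b
    rw [TensorProduct.smul_tmul', smul_eq_mul, ← map_mul, incl_tmul, incl_tmul]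
    ring
  | add y z hy hz => rw [map_add, mul_add, hy, hz, smul_add, map_add]

theorem range_incl (x : L.R') : L.ρ x = 0 ↔ x ∈ Set.range (L.incl hp) := by
  constructor
  · intro hx
    have h1 : x ∈ Ideal.map L.φ' (RingHom.ker p.toAlgHom) := by rw [← L.ker_eq]; exact hx
    refine Submodule.span_induction (p := fun x _ => x ∈ Set.range (L.incl hp)) ?_ ?_ ?_ ?_ h1
    · rintro _ ⟨j, hj, rfl⟩
      exact ⟨(1 : B₀) ⊗ₜ[k] ⟨j, hj⟩, by
        rw [← map_one L.π', incl_tmul, mul_one]⟩
    · exact ⟨0, map_zero _⟩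
    · rintro _ _ _ _ ⟨m, rfl⟩ ⟨m', rfl⟩
      exact ⟨m + m', map_add _ _ _⟩
    · rintro a _ _ ⟨m, rfl⟩
      exact ⟨L.π' a • m, by rw [smul_eq_mul, mul_incl]⟩
  · rintro ⟨m, rfl⟩
    exact L.ρ_incl hp m

end AlgLift

/-- Every element of a tensor product is a finite sum of pure tensors. -/
theorem exists_sum_tmul {R₀ M₁ M₂ : Type*} [CommRing R₀] [AddCommGroup M₁] [Module R₀ M₁]
    [AddCommGroup M₂] [Module R₀ M₂] (z : M₁ ⊗[R₀] M₂) :
    ∃ (ι : Type) (_ : Fintype ι) (b : ι → M₁) (j : ι → M₂), z = ∑ i, b i ⊗ₜ[R₀] j i := by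
  induction z using TensorProduct.induction_on with
  | zero => exact ⟨Empty, inferInstance, Empty.elim, Empty.elim, by simp⟩
  | tmul x y => exact ⟨Unit, inferInstance, fun _ => x, fun _ => y, by simp⟩
  | add x y hx hy =>
    obtain ⟨ι₁, _, b₁, j₁, rfl⟩ := hx
    obtain ⟨ι₂, _, b₂, j₂, rfl⟩ := hy
    refine ⟨ι₁ ⊕ ι₂, inferInstance, Sum.elim b₁ b₂, Sum.elim j₁ j₂, ?_⟩
    rw [Fintype.sum_sum_type]
    rfl

namespace AlgLift

variable {p : C' ⟶ C} {D : AlgDef B₀ C} (L : AlgLift p D) (hp : IsSemismallExt p)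

include hp in
theorem res_smul_eq (a : C') (j : ↥(RingHom.ker p.toAlgHom)) :
    ((C'.res a • j : ↥(RingHom.ker p.toAlgHom)) : C') = a * (j : C') := by
  change C'.res a • (j : C') = _
  rw [Algebra.smul_def, ← sub_eq_zero, ← sub_mul]
  have h1 : algebraMap k C' (C'.res a) - a ∈ RingHom.ker C'.res.toRingHom := by
    rw [RingHom.mem_ker]
    change C'.res (algebraMap k C' (C'.res a) - a) = 0
    rw [map_sub, C'.res.commutes]
    simp
  exact mul_eq_zero_of_semismall p hp h1 j.2

theorem incl_injective : Function.Injective (L.incl hp) := by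
  rw [injective_iff_map_eq_zero]
  intro z hz
  obtain ⟨ι, _, b, j, rfl⟩ := exists_sum_tmul z
  choose r hr using fun i => L.π'_surj (b i)
  letI : Algebra C' L.R' := L.φ'.toAlgebra
  have hflat : Module.Flat C' L.R' := L.flat
  have hrel : ∑ i, ((j i : ↥(RingHom.ker p.toAlgHom)) : C') • r i = 0 := by
    rw [map_sum] at hz
    rw [← hz]
    refine Finset.sum_congr rfl fun i _ => ?_
    rw [← hr i, incl_tmul]
    rfl
  have h := Module.Flat.isTrivialRelation_of_sum_smul_eq_zero (R := C') (M := L.R')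
    (f := fun i => ((j i : ↥(RingHom.ker p.toAlgHom)) : C')) (x := r) hrel
  obtain ⟨κ, a, y, hxy, ha⟩ := h
  have hb : ∀ i, b i = ∑ l, C'.res (a i l) • L.π' (y l) := by
    intro i
    rw [← hr i, hxy i, map_sum]
    refine Finset.sum_congr rfl fun l _ => ?_
    change L.π' (L.φ' (a i l) * y l) = _
    rw [map_mul, π'_φ', Algebra.smul_def]
  have hz' : ∑ i, b i ⊗ₜ[k] j i =
      ∑ l, L.π' (y l) ⊗ₜ[k] (∑ i, C'.res (a i l) • j i) := by
    calc ∑ i, b i ⊗ₜ[k] j i
        = ∑ i, ∑ l, (C'.res (a i l) • L.π' (y l)) ⊗ₜ[k] j i := by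
          refine Finset.sum_congr rfl fun i _ => ?_
          rw [hb i, TensorProduct.sum_tmul]
      _ = ∑ l, ∑ i, (C'.res (a i l) • L.π' (y l)) ⊗ₜ[k] j i := Finset.sum_comm
      _ = ∑ l, L.π' (y l) ⊗ₜ[k] (∑ i, C'.res (a i l) • j i) := by
          refine Finset.sum_congr rfl fun l _ => ?_
          rw [TensorProduct.tmul_sum]
          refine Finset.sum_congr rfl fun i _ => ?_
          rw [TensorProduct.smul_tmul]
  rw [hz']
  refine Finset.sum_eq_zero fun l _ => ?_
  have h0 : (∑ i, C'.res (a i l) • j i : ↥(RingHom.ker p.toAlgHom)) = 0 := by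
    apply Subtype.ext
    have h1 : ((∑ i, C'.res (a i l) • j i : ↥(RingHom.ker p.toAlgHom)) : C') =
        ∑ i, ((C'.res (a i l) • j i : ↥(RingHom.ker p.toAlgHom)) : C') :=
      map_sum (RingHom.ker p.toAlgHom).subtype _ _
    rw [h1, Submodule.coe_zero, ← ha l]
    refine Finset.sum_congr rfl fun i _ => ?_
    rw [res_smul_eq hp, mul_comm]
  rw [h0, TensorProduct.tmul_zero]

end AlgLift

end Groth.Agent.R2.H56.Lift
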