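import Groth.Prelude.Def_Exal
import Groth.Agent.R2.H56Lift1
import Groth.Agent.R2.H56FibProd

/-!
# The difference of two lifts of an algebraic deformation (helper56)

ns `Groth.Agent.R2.H56.Lift`:
* `AlgLift.Iso`, `AlgLift.isoOfHom` (a morphism of lifts is an isomorphism), `AlgLift.hom_incl`;
* `Fib L L₀`: the fibre product ring `R' ×_R R'₀` with its `C'`-algebra structure;
* `diffExt L L₀ : Exal.Ext k B₀ (B₀ ⊗[k] J)`: the extension `(R' ×_R R'₀) / 𝔪' (R' ×_R R'₀)` of `B₀`.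
-/

set_option autoImplicit false

universe u

open scoped TensorProduct

namespace Groth.Agent.R2.H56.Lift

open ArtFun ArtFun.Art Groth.Agent.R2.H56.AffDef Groth.Agent.R2.H56.FlatNil

variable {k : Type u} [Field k] {B₀ : Type u} [CommRing B₀] [Algebra k B₀] {C' C : Art k k}
  {p : C' ⟶ C} {D : AlgDef B₀ C}

namespace AlgLift

/-- Isomorphisms of lifts. -/
structure Iso (L L' : AlgLift p D) : Type u where
  /-- the ring isomorphism -/
  e : L.R' ≃+* L'.R'
  e_φ : ∀ c, e (L.φ' c) = L'.φ' c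
  ρ_e : ∀ x, L'.ρ (e x) = L.ρ x

def Iso.refl (L : AlgLift p D) : Iso L L := ⟨RingEquiv.refl _, fun _ => rfl, fun _ => rfl⟩

def Iso.symm {L L' : AlgLift p D} (i : Iso L L') : Iso L' L :=
  ⟨i.e.symm, fun c => by rw [RingEquiv.symm_apply_eq, i.e_φ],
    fun x => by rw [← i.ρ_e, RingEquiv.apply_symm_apply]⟩

def Iso.trans {L L' L'' : AlgLift p D} (i : Iso L L') (j : Iso L' L'') : Iso L L'' :=
  ⟨i.e.trans j.e, fun c => by rw [RingEquiv.trans_apply, i.e_φ, j.e_φ],
    fun x => by rw [RingEquiv.trans_apply, j.ρ_e, i.ρ_e]⟩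

/-- A morphism of lifts is an isomorphism. -/
noncomputable def isoOfHom (hp : Function.Surjective p) (L L' : AlgLift p D) (ψ : L.R' →+* L'.R')
    (hφ : ∀ c, ψ (L.φ' c) = L'.φ' c) (hρ : ∀ x, L'.ρ (ψ x) = L.ρ x) : Iso L L' where
  e := RingEquiv.ofBijective ψ (AlgDef.bijective_of_hom (L.toAlgDef hp) (L'.toAlgDef hp) ψ hφ
    (fun r => congrArg D.π (hρ r)))
  e_φ := hφ
  ρ_e := hρ

/-- A morphism of lifts is compatible with the inclusions of the kernels. -/
theorem hom_incl (hp : IsSemismallExt p) (L L' : AlgLift p D) (ψ : L.R' →+* L'.R')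
    (hφ : ∀ c, ψ (L.φ' c) = L'.φ' c) (hρ : ∀ x, L'.ρ (ψ x) = L.ρ x)
    (m : B₀ ⊗[k] ↥(RingHom.ker p.toAlgHom)) : ψ (L.incl hp m) = L'.incl hp m := by
  induction m using TensorProduct.induction_on with
  | zero => simp
  | tmul b j =>
    obtain ⟨r, rfl⟩ := L.π'_surj b
    rw [incl_tmul, map_mul, hφ]
    have : L.π' r = L'.π' (ψ r) := by
      change D.π (L.ρ r) = D.π (L'.ρ (ψ r))
      rw [hρ]
    rw [this, incl_tmul]
  | add x y hx hy => rw [map_add, map_add, hx, hy, map_add]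

end AlgLift

section Fib

variable (L L₀ : AlgLift p D)

/-- The fibre product `R' ×_R R'₀` (sealed). -/
abbrev Fib : Type u := FibProd L.ρ L₀.ρ

/-- The structure map `C' → R' ×_R R'₀`. -/
def fibφ : C' →+* Fib L L₀ :=
  FibProd.lift L.φ' L₀.φ' (fun c => by rw [L.ρ_φ', L₀.ρ_φ'])

@[simp] theorem fibφ_fst (c : C') : FibProd.fst (fibφ L L₀ c) = L.φ' c := rfl
@[simp] theorem fibφ_snd (c : C') : FibProd.snd (fibφ L L₀ c) = L₀.φ' c := rfl

/-- The ideal `𝔪' (R' ×_R R'₀)`. -/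
def fibIdeal : Ideal (Fib L L₀) := Ideal.map (fibφ L L₀) (RingHom.ker C'.res.toRingHom)

/-- The middle ring of the difference extension. -/
abbrev DiffCarrier : Type u := Fib L L₀ ⧸ fibIdeal L L₀

noncomputable instance : Algebra k (DiffCarrier L L₀) :=
  ((Ideal.Quotient.mk (fibIdeal L L₀)).comp ((fibφ L L₀).comp (algebraMap k C'))).toAlgebra

theorem algebraMap_diffCarrier (c : k) :
    algebraMap k (DiffCarrier L L₀) c = Ideal.Quotient.mk _ (fibφ L L₀ (algebraMap k C' c)) := rfl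

/-- The projection `R' ×_R R'₀ → B₀`. -/
def fibProj : Fib L L₀ →+* B₀ := L₀.π'.comp FibProd.snd

theorem fibProj_apply (g : Fib L L₀) : fibProj L L₀ g = L₀.π' (FibProd.snd g) := rfl

theorem fibProj_apply' (g : Fib L L₀) : fibProj L L₀ g = L.π' (FibProd.fst g) := by
  rw [fibProj_apply]
  change D.π (L₀.ρ _) = D.π (L.ρ _)
  rw [FibProd.cond g]

theorem fibProj_fibφ (c : C') : fibProj L L₀ (fibφ L L₀ c) = algebraMap k B₀ (C'.res c) := by
  rw [fibProj_apply, fibφ_snd, AlgLift.π'_φ']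

theorem fibIdeal_le_ker : fibIdeal L L₀ ≤ RingHom.ker (fibProj L L₀) := by
  rw [fibIdeal, Ideal.map_le_iff_le_comap]
  intro a ha
  rw [Ideal.mem_comap, RingHom.mem_ker, fibProj_fibφ]
  have : C'.res a = 0 := ha
  rw [this, map_zero]

end Fib

end Groth.Agent.R2.H56.Lift
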