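import Groth.Agent.R2.H56Lift2

/-!
# The difference extension of two lifts (helper56)

ns `Groth.Agent.R2.H56.Lift`:
* `equivOfHom`: a morphism of extensions is an equivalence;
* `diffExt hp L L₀ : Exal.Ext k B₀ (B₀ ⊗[k] J)` on `(R' ×_R R'₀) / 𝔪' (R' ×_R R'₀)`;
* `diffExtEquivOfIso`: isomorphic lifts have equivalent difference extensions.
-/

set_option autoImplicit false

universe u

open scoped TensorProduct

namespace Groth.Agent.R2.H56.Lift

open ArtFun ArtFun.Art Groth.Agent.R2.H56.AffDef Groth.Agent.R2.H56.FlatNil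

section Hom

variable {A : Type u} {B L : Type u} [CommRing A] [CommRing B] [Algebra A B]
  [AddCommGroup L] [Module B L]

/-- a morphism of extensions is an equivalence -/
noncomputable def equivOfHom {X Y : Exal.Ext A B L} (f : X.E →ₐ[A] Y.E)
    (hproj : ∀ x, Y.proj (f x) = X.proj x) (hincl : ∀ z, f (X.incl z) = Y.incl z) :
    X.Equiv Y where
  toAlgEquiv := AlgEquiv.ofBijective f (by
    constructor
    · rw [injective_iff_map_eq_zero]
      intro x hx
      have h1 : X.proj x = 0 := by rw [← hproj, hx, map_zero]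
      obtain ⟨z, rfl⟩ := (X.isExtension.exact x).1 h1
      rw [hincl] at hx
      have : z = 0 := Y.isExtension.incl_injective (hx.trans (map_zero _).symm)
      rw [this, map_zero]
    · intro y
      obtain ⟨x, hx⟩ := X.isExtension.proj_surjective (Y.proj y)
      have h1 : Y.proj (y - f x) = 0 := by rw [map_sub, hproj, hx, sub_self]
      obtain ⟨z, hz⟩ := (Y.isExtension.exact _).1 h1
      refine ⟨x + X.incl z, ?_⟩
      rw [map_add, hincl, hz]; ring)
  proj_apply := hproj
  apply_incl := hincl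

end Hom

variable {k : Type u} [Field k] {B₀ : Type u} [CommRing B₀] [Algebra k B₀] {C' C : Art k k}
  {p : C' ⟶ C} {D : AlgDef B₀ C}

section Diff

variable (hp : IsSemismallExt p) (L L₀ : AlgLift p D)

theorem exists_fib_of_snd (y : L₀.R') : ∃ g : Fib L L₀, FibProd.snd g = y :=
  FibProd.exists_of_snd L.surj y

theorem exists_fib_of_fst (x : L.R') : ∃ g : Fib L L₀, FibProd.fst g = x :=
  FibProd.exists_of_fst L₀.surj x

/-- The quotient map to the difference carrier. -/
def dmk : Fib L L₀ →+* DiffCarrier L L₀ := Ideal.Quotient.mk (fibIdeal L L₀)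

theorem dmk_surjective : Function.Surjective (dmk L L₀) := Ideal.Quotient.mk_surjective

theorem dmk_eq_zero_iff (g : Fib L L₀) : dmk L L₀ g = 0 ↔ g ∈ fibIdeal L L₀ :=
  Ideal.Quotient.eq_zero_iff_mem

theorem dmk_eq_iff (g g' : Fib L L₀) : dmk L L₀ g = dmk L L₀ g' ↔ g - g' ∈ fibIdeal L L₀ :=
  Ideal.Quotient.eq

theorem algebraMap_diffCarrier' (c : k) :
    algebraMap k (DiffCarrier L L₀) c = dmk L L₀ (fibφ L L₀ (algebraMap k C' c)) := rfl

/-- The projection of the difference extension. -/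
noncomputable def diffProj : DiffCarrier L L₀ →ₐ[k] B₀ where
  toRingHom := Ideal.Quotient.lift (fibIdeal L L₀) (fibProj L L₀)
    (fun _ ha => RingHom.mem_ker.1 (fibIdeal_le_ker L L₀ ha))
  commutes' := fun c => by
    rw [algebraMap_diffCarrier]
    change fibProj L L₀ (fibφ L L₀ (algebraMap k C' c)) = _
    rw [fibProj_fibφ, C'.res.commutes]
    rfl

theorem diffProj_mk (g : Fib L L₀) : diffProj L L₀ (dmk L L₀ g) = fibProj L L₀ g := rfl

/-- The element `(incl m, 0)` of the fibre product. -/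
noncomputable def fibIncl : (B₀ ⊗[k] ↥(RingHom.ker p.toAlgHom)) →+ Fib L L₀ where
  toFun m := FibProd.mk (L.incl hp m) 0 (by rw [L.ρ_incl hp m, map_zero])
  map_zero' := FibProd.ext (by rw [FibProd.fst_mk, map_zero, map_zero])
    (by rw [FibProd.snd_mk, map_zero])
  map_add' m m' := FibProd.ext (by rw [FibProd.fst_mk, map_add, map_add]; rfl)
    (by rw [FibProd.snd_mk, map_add]; exact (add_zero _).symm)

@[simp] theorem fibIncl_fst (m : B₀ ⊗[k] ↥(RingHom.ker p.toAlgHom)) :
    FibProd.fst (fibIncl hp L L₀ m) = L.incl hp m := rfl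

@[simp] theorem fibIncl_snd (m : B₀ ⊗[k] ↥(RingHom.ker p.toAlgHom)) :
    FibProd.snd (fibIncl hp L L₀ m) = 0 := rfl

/-- The inclusion of the difference extension. -/
noncomputable def diffIncl : (B₀ ⊗[k] ↥(RingHom.ker p.toAlgHom)) →+ DiffCarrier L L₀ :=
  (dmk L L₀).toAddMonoidHom.comp (fibIncl hp L L₀)

theorem diffIncl_apply (m : B₀ ⊗[k] ↥(RingHom.ker p.toAlgHom)) :
    diffIncl hp L L₀ m = dmk L L₀ (fibIncl hp L L₀ m) := rfl

theorem exists_mem_fibIdeal_of_mem (y : L₀.R')
    (hy : y ∈ Ideal.map L₀.φ' (RingHom.ker C'.res.toRingHom)) :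
    ∃ g : Fib L L₀, g ∈ fibIdeal L L₀ ∧ FibProd.snd g = y := by
  refine Submodule.span_induction
    (p := fun y _ => ∃ g : Fib L L₀, g ∈ fibIdeal L L₀ ∧ FibProd.snd g = y) ?_ ?_ ?_ ?_ hy
  · rintro _ ⟨a, ha, rfl⟩
    exact ⟨fibφ L L₀ a, Ideal.mem_map_of_mem _ ha, rfl⟩
  · exact ⟨0, Ideal.zero_mem _, map_zero _⟩
  · rintro _ _ _ _ ⟨g, hg, rfl⟩ ⟨g', hg', rfl⟩
    exact ⟨g + g', Ideal.add_mem _ hg hg', map_add _ _ _⟩
  · rintro r _ _ ⟨g, hg, rfl⟩
    obtain ⟨s, hs⟩ := exists_fib_of_snd L L₀ r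
    refine ⟨s * g, Ideal.mul_mem_left _ _ hg, ?_⟩
    rw [smul_eq_mul, ← hs, map_mul]

include hp in
theorem φ'_mul_incl_eq_zero {a : C'} (ha : a ∈ RingHom.ker C'.res.toRingHom)
    (m : B₀ ⊗[k] ↥(RingHom.ker p.toAlgHom)) : L.φ' a * L.incl hp m = 0 := by
  rw [L.mul_incl hp, L.π'_φ']
  have : C'.res a = 0 := ha
  rw [this, map_zero, zero_smul, map_zero]

theorem eq_zero_of_fibIncl_mem (m : B₀ ⊗[k] ↥(RingHom.ker p.toAlgHom))
    (h : fibIncl hp L L₀ m ∈ fibIdeal L L₀) : m = 0 := by
  letI : Algebra C' (Fib L L₀) := (fibφ L L₀).toAlgebra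
  letI : Algebra C' L₀.R' := L₀.φ'.toAlgebra
  haveI : Module.Flat C' L₀.R' := L₀.flat
  let ψ : Fib L L₀ →ₗ[C'] L₀.R' :=
    { toFun := fun g => FibProd.snd g
      map_add' := fun g g' => map_add FibProd.snd g g'
      map_smul' := fun c g => by
        change FibProd.snd (fibφ L L₀ c * g) = L₀.φ' c * FibProd.snd g
        rw [map_mul]
        rfl }
  have hψ : Function.Surjective ψ := exists_fib_of_snd L L₀
  have hmem : fibIncl hp L L₀ m ∈
      (RingHom.ker C'.res.toRingHom) • (⊤ : Submodule C' (Fib L L₀)) := by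
    rw [Ideal.smul_top_eq_map]
    exact h
  have h1 := mem_smul_ker_of_flat ψ hψ (RingHom.ker C'.res.toRingHom) _ hmem rfl
  have h2 : (RingHom.ker C'.res.toRingHom) • LinearMap.ker ψ = ⊥ := by
    rw [eq_bot_iff, Submodule.smul_le]
    intro a ha g hg
    rw [Submodule.mem_bot]
    have hg2 : FibProd.snd g = 0 := hg
    have hg1 : L.ρ (FibProd.fst g) = 0 := by
      rw [FibProd.cond g, hg2, map_zero]
    obtain ⟨m', hm'⟩ := (L.range_incl hp _).1 hg1
    change fibφ L L₀ a * g = 0
    apply FibProd.ext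
    · rw [map_mul, fibφ_fst, ← hm', φ'_mul_incl_eq_zero hp L ha, map_zero]
    · rw [map_mul, hg2, mul_zero, map_zero]
  rw [h2, Submodule.mem_bot] at h1
  have h3 : L.incl hp m = 0 := by
    have := congrArg (fun g : Fib L L₀ => FibProd.fst g) h1
    simpa using this
  exact L.incl_injective hp (h3.trans (map_zero _).symm)

theorem fib_mul_fibIncl (g : Fib L L₀) (z : B₀ ⊗[k] ↥(RingHom.ker p.toAlgHom)) :
    g * fibIncl hp L L₀ z = fibIncl hp L L₀ (fibProj L L₀ g • z) := by
  apply FibProd.ext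
  · rw [map_mul, fibIncl_fst, fibIncl_fst, L.mul_incl hp, fibProj_apply']
  · rw [map_mul, fibIncl_snd, fibIncl_snd, mul_zero]

/-- The difference extension of two lifts. -/
noncomputable def diffExt : Exal.Ext k B₀ (B₀ ⊗[k] ↥(RingHom.ker p.toAlgHom)) where
  E := DiffCarrier L L₀
  proj := diffProj L L₀
  incl := diffIncl hp L L₀
  isExtension :=
    { proj_surjective := fun b => by
        obtain ⟨y, hy⟩ := L₀.π'_surj b
        obtain ⟨g, hg⟩ := exists_fib_of_snd L L₀ y
        refine ⟨dmk L L₀ g, ?_⟩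
        rw [diffProj_mk, fibProj_apply, hg, hy]
      incl_injective := by
        rw [injective_iff_map_eq_zero]
        intro m hm
        rw [diffIncl_apply, dmk_eq_zero_iff] at hm
        exact eq_zero_of_fibIncl_mem hp L L₀ m hm
      exact := fun x => by
        obtain ⟨g, rfl⟩ := dmk_surjective L L₀ x
        constructor
        · intro hx
          rw [diffProj_mk, fibProj_apply] at hx
          have h1 : FibProd.snd g ∈ Ideal.map L₀.φ' (RingHom.ker C'.res.toRingHom) := by
            rw [← L₀.ker_π' hp.1]; exact hx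
          obtain ⟨g', hg', hg'2⟩ := exists_mem_fibIdeal_of_mem L L₀ _ h1
          have h2 : FibProd.snd (g - g') = 0 := by
            rw [map_sub, hg'2, sub_self]
          have h3 : L.ρ (FibProd.fst (g - g')) = 0 := by
            rw [FibProd.cond, h2, map_zero]
          obtain ⟨m, hm⟩ := (L.range_incl hp _).1 h3
          refine ⟨m, ?_⟩
          rw [diffIncl_apply]
          have h4 : fibIncl hp L L₀ m = g - g' := by
            apply FibProd.ext
            · exact hm
            · exact h2.symm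
          rw [h4, map_sub, (dmk_eq_zero_iff L L₀ g').2 hg', sub_zero]
        · rintro ⟨m, hm⟩
          rw [← hm, diffIncl_apply, diffProj_mk, fibProj_apply, fibIncl_snd, map_zero]
      mul_incl := fun x z => by
        obtain ⟨g, rfl⟩ := dmk_surjective L L₀ x
        rw [diffIncl_apply, ← map_mul, fib_mul_fibIncl, diffProj_mk, diffIncl_apply] }

theorem diffExt_proj_mk (g : Fib L L₀) :
    (diffExt hp L L₀).proj (dmk L L₀ g) = fibProj L L₀ g := rfl

theorem diffExt_incl (m : B₀ ⊗[k] ↥(RingHom.ker p.toAlgHom)) :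
    (diffExt hp L L₀).incl m = dmk L L₀ (fibIncl hp L L₀ m) := rfl

end Diff

section Functoriality

variable (hp : IsSemismallExt p) {L L' : AlgLift p D} (L₀ : AlgLift p D) (i : AlgLift.Iso L L')

/-- The map of fibre products induced by an isomorphism of lifts. -/
def fibMap : Fib L L₀ →+* Fib L' L₀ :=
  FibProd.lift (i.e.toRingHom.comp FibProd.fst) FibProd.snd (fun g => by
    change L'.ρ (i.e (FibProd.fst g)) = L₀.ρ (FibProd.snd g)
    rw [i.ρ_e]
    exact FibProd.cond g)

@[simp] theorem fibMap_fst (g : Fib L L₀) :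
    FibProd.fst (fibMap L₀ i g) = i.e (FibProd.fst g) := rfl

@[simp] theorem fibMap_snd (g : Fib L L₀) :
    FibProd.snd (fibMap L₀ i g) = FibProd.snd g := rfl

theorem fibMap_fibφ (c : C') : fibMap L₀ i (fibφ L L₀ c) = fibφ L' L₀ c := by
  apply FibProd.ext
  · exact i.e_φ c
  · rfl

theorem fibMap_mem (g : Fib L L₀) (hg : g ∈ fibIdeal L L₀) : fibMap L₀ i g ∈ fibIdeal L' L₀ := by
  have h : fibIdeal L L₀ ≤ Ideal.comap (fibMap L₀ i) (fibIdeal L' L₀) := by
    rw [fibIdeal, Ideal.map_le_iff_le_comap]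
    intro a ha
    rw [Ideal.mem_comap, Ideal.mem_comap, fibMap_fibφ]
    exact Ideal.mem_map_of_mem _ ha
  exact h hg

/-- The ring map of difference carriers induced by an isomorphism of lifts. -/
noncomputable def diffMap : DiffCarrier L L₀ →+* DiffCarrier L' L₀ :=
  Ideal.Quotient.lift (fibIdeal L L₀)
    ((dmk L' L₀).comp (fibMap L₀ i))
    (fun g hg => (dmk_eq_zero_iff L' L₀ _).2 (fibMap_mem L₀ i g hg))

theorem diffMap_mk (g : Fib L L₀) :
    diffMap L₀ i (dmk L L₀ g) = dmk L' L₀ (fibMap L₀ i g) := rfl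

/-- Isomorphic lifts have equivalent difference extensions. -/
noncomputable def diffExtEquivOfIso : (diffExt hp L L₀).Equiv (diffExt hp L' L₀) :=
  equivOfHom
    (X := diffExt hp L L₀) (Y := diffExt hp L' L₀)
    { toRingHom := diffMap L₀ i
      commutes' := fun c => by
        change diffMap L₀ i (dmk L L₀ (fibφ L L₀ (algebraMap k C' c))) =
          dmk L' L₀ (fibφ L' L₀ (algebraMap k C' c))
        rw [diffMap_mk, fibMap_fibφ] }
    (fun x => by
      obtain ⟨g, rfl⟩ := dmk_surjective L L₀ x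
      change (diffExt hp L' L₀).proj (diffMap L₀ i (dmk L L₀ g)) = _
      rw [diffMap_mk, diffExt_proj_mk, diffExt_proj_mk, fibProj_apply, fibProj_apply, fibMap_snd])
    (fun z => by
      rw [diffExt_incl, diffExt_incl]
      change diffMap L₀ i (dmk L L₀ (fibIncl hp L L₀ z)) = _
      rw [diffMap_mk]
      congr 1
      apply FibProd.ext
      · change i.e (L.incl hp z) = L'.incl hp z
        exact AlgLift.hom_incl hp L L' i.e.toRingHom i.e_φ i.ρ_e z
      · rfl)

end Functoriality

end Groth.Agent.R2.H56.Lift
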