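import Groth.Agent.R2.H56Lift3

/-!
# The sum of a lift and an extension (helper56)

ns `Groth.Agent.R2.H56.Lift`: for a lift `L₀` of `D` along the semismall `p` and an extension `X` of `B₀` by
`B₀ ⊗[k] J`, the lift `sumLift hp L₀ X` on `(R'₀ ×_{B₀} E) / {(incl₀ m, - incl_X m)}`.
-/

set_option autoImplicit false

universe u

open scoped TensorProduct

namespace Groth.Agent.R2.H56.Lift

open ArtFun ArtFun.Art Groth.Agent.R2.H56.AffDef Groth.Agent.R2.H56.FlatNil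

variable {k : Type u} [Field k] {B₀ : Type u} [CommRing B₀] [Algebra k B₀] {C' C : Art k k}
  {p : C' ⟶ C} {D : AlgDef B₀ C}

section Sum

variable (hp : IsSemismallExt p) (L₀ : AlgLift p D)
  (X : Exal.Ext k B₀ (B₀ ⊗[k] ↥(RingHom.ker p.toAlgHom)))

/-- The fibre product `R'₀ ×_{B₀} E` (sealed). -/
abbrev SFib : Type u := FibProd L₀.π' X.proj.toRingHom

theorem sfib_cond (g : SFib L₀ X) : L₀.π' (FibProd.fst g) = X.proj (FibProd.snd g) := FibProd.cond g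

/-- constructor -/
def smk (r : L₀.R') (e : X.E) (h : L₀.π' r = X.proj e) : SFib L₀ X := FibProd.mk r e h

@[simp] theorem smk_fst (r : L₀.R') (e : X.E) (h : L₀.π' r = X.proj e) :
    FibProd.fst (smk L₀ X r e h) = r := rfl
@[simp] theorem smk_snd (r : L₀.R') (e : X.E) (h : L₀.π' r = X.proj e) :
    FibProd.snd (smk L₀ X r e h) = e := rfl

include hp in
theorem π'_incl (m : B₀ ⊗[k] ↥(RingHom.ker p.toAlgHom)) : L₀.π' (L₀.incl hp m) = 0 := by
  rw [AlgLift.π'_apply, L₀.ρ_incl hp, map_zero]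

theorem proj_incl (m : B₀ ⊗[k] ↥(RingHom.ker p.toAlgHom)) : X.proj (X.incl m) = 0 :=
  (X.isExtension.exact _).2 ⟨m, rfl⟩

/-- The antidiagonal ideal `{(incl₀ m, - incl_X m)}`. -/
def sIdeal : Ideal (SFib L₀ X) where
  carrier := {g | ∃ m, FibProd.fst g = L₀.incl hp m ∧ FibProd.snd g = - X.incl m}
  add_mem' := by
    rintro g g' ⟨m, hm1, hm2⟩ ⟨m', hm'1, hm'2⟩
    refine ⟨m + m', ?_, ?_⟩
    · rw [map_add, hm1, hm'1, map_add]
    · rw [map_add, hm2, hm'2, map_add, neg_add]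
  zero_mem' := ⟨0, by rw [map_zero, map_zero], by rw [map_zero, map_zero, neg_zero]⟩
  smul_mem' := by
    rintro c g ⟨m, hm1, hm2⟩
    refine ⟨L₀.π' (FibProd.fst c) • m, ?_, ?_⟩
    · rw [smul_eq_mul, map_mul, hm1, L₀.mul_incl hp]
    · rw [smul_eq_mul, map_mul, hm2, mul_neg, X.isExtension.mul_incl, sfib_cond]

theorem mem_sIdeal (g : SFib L₀ X) :
    g ∈ sIdeal hp L₀ X ↔ ∃ m, FibProd.fst g = L₀.incl hp m ∧ FibProd.snd g = - X.incl m := Iff.rfl

/-- The ring of the sum. -/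
abbrev SumCarrier : Type u := SFib L₀ X ⧸ sIdeal hp L₀ X

/-- The quotient map. -/
def qS : SFib L₀ X →+* SumCarrier hp L₀ X := Ideal.Quotient.mk (sIdeal hp L₀ X)

theorem qS_surjective : Function.Surjective (qS hp L₀ X) := Ideal.Quotient.mk_surjective

theorem qS_eq_zero_iff (g : SFib L₀ X) : qS hp L₀ X g = 0 ↔ g ∈ sIdeal hp L₀ X :=
  Ideal.Quotient.eq_zero_iff_mem

theorem qS_eq_iff (g g' : SFib L₀ X) : qS hp L₀ X g = qS hp L₀ X g' ↔ g - g' ∈ sIdeal hp L₀ X :=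
  Ideal.Quotient.eq

/-- The structure map to the fibre product. -/
def sφ : C' →+* SFib L₀ X :=
  FibProd.lift L₀.φ' ((algebraMap k X.E).comp C'.res.toRingHom) (fun c => by
    change L₀.π' (L₀.φ' c) = X.proj (algebraMap k X.E (C'.res c))
    rw [L₀.π'_φ', X.proj.commutes])

@[simp] theorem sφ_fst (c : C') : FibProd.fst (sφ L₀ X c) = L₀.φ' c := rfl
@[simp] theorem sφ_snd (c : C') : FibProd.snd (sφ L₀ X c) = algebraMap k X.E (C'.res c) := rfl

/-- The structure map of the sum. -/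
def φS : C' →+* SumCarrier hp L₀ X := (qS hp L₀ X).comp (sφ L₀ X)

theorem φS_apply (c : C') : φS hp L₀ X c = qS hp L₀ X (sφ L₀ X c) := rfl

/-- The reduction on the fibre product. -/
def sρ₀ : SFib L₀ X →+* D.R := L₀.ρ.comp FibProd.fst

theorem sρ₀_apply (g : SFib L₀ X) : sρ₀ L₀ X g = L₀.ρ (FibProd.fst g) := rfl

/-- The reduction of the sum. -/
def sρ : SumCarrier hp L₀ X →+* D.R :=
  Ideal.Quotient.lift (sIdeal hp L₀ X) (sρ₀ L₀ X) (fun g hg => by
    obtain ⟨m, hm, -⟩ := hg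
    rw [sρ₀_apply, hm]
    exact L₀.ρ_incl hp m)

theorem sρ_mk (g : SFib L₀ X) : sρ hp L₀ X (qS hp L₀ X g) = L₀.ρ (FibProd.fst g) := rfl

/-- `(incl₀ m, 0)`. -/
noncomputable def sInclL : (B₀ ⊗[k] ↥(RingHom.ker p.toAlgHom)) →+ SFib L₀ X where
  toFun m := smk L₀ X (L₀.incl hp m) 0 (by rw [π'_incl hp L₀ m, map_zero])
  map_zero' := FibProd.ext (by rw [smk_fst, map_zero, map_zero]) (by rw [smk_snd, map_zero])
  map_add' m m' := FibProd.ext (by rw [smk_fst, map_add, map_add]; rfl)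
    (by rw [smk_snd, map_add]; exact (add_zero _).symm)

/-- `(0, incl_X m)`. -/
noncomputable def sInclR : (B₀ ⊗[k] ↥(RingHom.ker p.toAlgHom)) →+ SFib L₀ X where
  toFun m := smk L₀ X 0 (X.incl m) (by rw [proj_incl X m, map_zero])
  map_zero' := FibProd.ext (by rw [smk_fst, map_zero]) (by rw [smk_snd, map_zero, map_zero])
  map_add' m m' := FibProd.ext (by rw [smk_fst, map_add]; exact (add_zero _).symm)
    (by rw [smk_snd, map_add, map_add]; rfl)

@[simp] theorem sInclL_fst (m : B₀ ⊗[k] ↥(RingHom.ker p.toAlgHom)) :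
    FibProd.fst (sInclL hp L₀ X m) = L₀.incl hp m := rfl
@[simp] theorem sInclL_snd (m : B₀ ⊗[k] ↥(RingHom.ker p.toAlgHom)) :
    FibProd.snd (sInclL hp L₀ X m) = 0 := rfl
@[simp] theorem sInclR_fst (m : B₀ ⊗[k] ↥(RingHom.ker p.toAlgHom)) :
    FibProd.fst (sInclR L₀ X m) = 0 := rfl
@[simp] theorem sInclR_snd (m : B₀ ⊗[k] ↥(RingHom.ker p.toAlgHom)) :
    FibProd.snd (sInclR L₀ X m) = X.incl m := rfl

theorem qS_sInclL_eq (m : B₀ ⊗[k] ↥(RingHom.ker p.toAlgHom)) :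
    qS hp L₀ X (sInclL hp L₀ X m) = qS hp L₀ X (sInclR L₀ X m) := by
  rw [qS_eq_iff, mem_sIdeal]
  refine ⟨m, ?_, ?_⟩
  · rw [map_sub, sInclL_fst, sInclR_fst, sub_zero]
  · rw [map_sub, sInclL_snd, sInclR_snd, zero_sub]

theorem exists_sfib_of_fst (r : L₀.R') : ∃ g : SFib L₀ X, FibProd.fst g = r :=
  FibProd.exists_of_fst X.isExtension.proj_surjective r

theorem exists_sfib_of_snd (e : X.E) : ∃ g : SFib L₀ X, FibProd.snd g = e :=
  FibProd.exists_of_snd L₀.π'_surj e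

theorem sφ_mul_eq (j : ↥(RingHom.ker p.toAlgHom)) (g : SFib L₀ X) :
    sφ L₀ X j * g = sInclL hp L₀ X (L₀.π' (FibProd.fst g) ⊗ₜ[k] j) := by
  apply FibProd.ext
  · rw [map_mul, sφ_fst, sInclL_fst, L₀.incl_tmul hp]
  · rw [map_mul, sφ_snd, sInclL_snd]
    have : C'.res (j : C') = 0 := ker_le_ker_res p j.2
    rw [this, map_zero, zero_mul]

theorem qS_sInclL_mem (m : B₀ ⊗[k] ↥(RingHom.ker p.toAlgHom)) :
    qS hp L₀ X (sInclL hp L₀ X m) ∈ Ideal.map (φS hp L₀ X) (RingHom.ker p.toAlgHom) := by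
  induction m using TensorProduct.induction_on with
  | zero => rw [map_zero, map_zero]; exact Ideal.zero_mem _
  | tmul b j =>
    obtain ⟨r, hr⟩ := L₀.π'_surj b
    obtain ⟨g, hg⟩ := exists_sfib_of_fst L₀ X r
    have h := sφ_mul_eq hp L₀ X j g
    rw [hg, hr] at h
    rw [← h, map_mul]
    exact Ideal.mul_mem_right _ _ (Ideal.mem_map_of_mem (φS hp L₀ X) j.2)
  | add x y hx hy =>
    rw [map_add (sInclL hp L₀ X), map_add (qS hp L₀ X)]
    exact Ideal.add_mem _ hx hy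

theorem ker_sρ : RingHom.ker (sρ hp L₀ X) = Ideal.map (φS hp L₀ X) (RingHom.ker p.toAlgHom) := by
  apply le_antisymm
  · intro x hx
    obtain ⟨g, rfl⟩ := qS_surjective hp L₀ X x
    rw [RingHom.mem_ker, sρ_mk] at hx
    obtain ⟨m, hm⟩ := (L₀.range_incl hp _).1 hx
    have h1 : X.proj (FibProd.snd g) = 0 := by
      rw [← sfib_cond, ← hm, π'_incl hp L₀ m]
    obtain ⟨m', hm'⟩ := (X.isExtension.exact _).1 h1
    have h2 : qS hp L₀ X g = qS hp L₀ X (sInclL hp L₀ X (m + m')) := by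
      rw [eq_comm, qS_eq_iff, mem_sIdeal]
      refine ⟨m', ?_, ?_⟩
      · rw [map_sub, sInclL_fst, ← hm, map_add]
        ring
      · rw [map_sub, sInclL_snd, ← hm', zero_sub]
    rw [h2]
    exact qS_sInclL_mem hp L₀ X _
  · rw [Ideal.map_le_iff_le_comap]
    intro j hj
    rw [Ideal.mem_comap, RingHom.mem_ker, φS_apply, sρ_mk, sφ_fst, L₀.ρ_φ']
    have : p j = 0 := hj
    rw [this, map_zero]

section Tau

variable (σ : B₀ →ₗ[k] X.E) (hσ : ∀ b, X.proj (σ b) = b)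

/-- `r ↦ (r, σ (π'₀ r))`. -/
def τ₀ : L₀.R' → SFib L₀ X := fun r => smk L₀ X r (σ (L₀.π' r)) (hσ _).symm

@[simp] theorem τ₀_fst (r : L₀.R') : FibProd.fst (τ₀ L₀ X σ hσ r) = r := rfl
@[simp] theorem τ₀_snd (r : L₀.R') : FibProd.snd (τ₀ L₀ X σ hσ r) = σ (L₀.π' r) := rfl

theorem τ₀_add (r r' : L₀.R') : τ₀ L₀ X σ hσ (r + r') = τ₀ L₀ X σ hσ r + τ₀ L₀ X σ hσ r' := by
  apply FibProd.ext
  · rw [map_add, τ₀_fst, τ₀_fst, τ₀_fst]
  · rw [map_add, τ₀_snd, τ₀_snd, τ₀_snd, map_add, map_add]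

theorem τ₀_mul (c : C') (r : L₀.R') :
    τ₀ L₀ X σ hσ (L₀.φ' c * r) = sφ L₀ X c * τ₀ L₀ X σ hσ r := by
  apply FibProd.ext
  · rw [map_mul, τ₀_fst, τ₀_fst, sφ_fst]
  · rw [map_mul, τ₀_snd, τ₀_snd, sφ_snd, map_mul, L₀.π'_φ', ← Algebra.smul_def, ← Algebra.smul_def,
      map_smul]

/-- `r ↦ [(r, σ (π'₀ r))]`. -/
def τ : L₀.R' →+ SumCarrier hp L₀ X where
  toFun r := qS hp L₀ X (τ₀ L₀ X σ hσ r)
  map_zero' := by
    have h : τ₀ L₀ X σ hσ 0 = 0 := by
      apply FibProd.ext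
      · rw [τ₀_fst, map_zero]
      · rw [τ₀_snd, map_zero, map_zero, map_zero]
    rw [h, map_zero]
  map_add' r r' := by rw [τ₀_add, map_add]

theorem τ_apply (r : L₀.R') : τ hp L₀ X σ hσ r = qS hp L₀ X (τ₀ L₀ X σ hσ r) := rfl

theorem τ_mul (c : C') (r : L₀.R') :
    τ hp L₀ X σ hσ (L₀.φ' c * r) = φS hp L₀ X c * τ hp L₀ X σ hσ r := by
  rw [τ_apply, τ_apply, τ₀_mul, map_mul, φS_apply]

theorem τ_bijective : Function.Bijective (τ hp L₀ X σ hσ) := by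
  constructor
  · rw [injective_iff_map_eq_zero]
    intro r hr
    have h1 : τ₀ L₀ X σ hσ r ∈ sIdeal hp L₀ X := (qS_eq_zero_iff hp L₀ X _).1 hr
    obtain ⟨m, h2, h3⟩ := h1
    rw [τ₀_fst] at h2
    rw [τ₀_snd, h2, π'_incl hp L₀ m, map_zero, eq_comm, neg_eq_zero] at h3
    have h4 : m = 0 := X.isExtension.incl_injective (h3.trans (map_zero _).symm)
    rw [h2, h4, map_zero]
  · intro x
    obtain ⟨g, rfl⟩ := qS_surjective hp L₀ X x
    have h1 : X.proj (FibProd.snd g - σ (L₀.π' (FibProd.fst g))) = 0 := by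
      rw [map_sub, hσ, sfib_cond, sub_self]
    obtain ⟨m, hm⟩ := (X.isExtension.exact _).1 h1
    refine ⟨FibProd.fst g + L₀.incl hp m, ?_⟩
    rw [τ_apply, qS_eq_iff, mem_sIdeal]
    refine ⟨m, ?_, ?_⟩
    · rw [map_sub, τ₀_fst]
      ring
    · rw [map_sub, τ₀_snd, map_add, π'_incl hp L₀ m, add_zero, hm]
      ring

end Tau

theorem flat_φS : (φS hp L₀ X).Flat := by
  obtain ⟨σ, hσ⟩ := X.proj.toLinearMap.exists_rightInverse_of_surjective
    (LinearMap.range_eq_top.2 X.isExtension.proj_surjective)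
  have hσ' : ∀ b, X.proj (σ b) = b := fun b => LinearMap.congr_fun hσ b
  letI : Algebra C' L₀.R' := L₀.φ'.toAlgebra
  letI : Algebra C' (SumCarrier hp L₀ X) := (φS hp L₀ X).toAlgebra
  haveI : Module.Flat C' L₀.R' := L₀.flat
  let τl : L₀.R' →ₗ[C'] SumCarrier hp L₀ X :=
    { toFun := τ hp L₀ X σ hσ'
      map_add' := map_add _
      map_smul' := fun c r => τ_mul hp L₀ X σ hσ' c r }
  exact Module.Flat.of_linearEquiv (LinearEquiv.ofBijective τl (τ_bijective hp L₀ X σ hσ')).symm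

/-- The sum of a lift and an extension. -/
noncomputable def sumLift : AlgLift p D where
  R' := SumCarrier hp L₀ X
  φ' := φS hp L₀ X
  flat := flat_φS hp L₀ X
  ρ := sρ hp L₀ X
  comm := by
    ext c
    change L₀.ρ (L₀.φ' c) = D.φ (p c)
    exact L₀.ρ_φ' c
  surj := fun d => by
    obtain ⟨r, hr⟩ := L₀.surj d
    obtain ⟨g, hg⟩ := exists_sfib_of_fst L₀ X r
    refine ⟨qS hp L₀ X g, ?_⟩
    rw [sρ_mk, hg, hr]
  ker_eq := ker_sρ hp L₀ X

theorem sumLift_ρ_mk (g : SFib L₀ X) :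
    (sumLift hp L₀ X).ρ (qS hp L₀ X g) = L₀.ρ (FibProd.fst g) := rfl

theorem sumLift_φ' (c : C') : (sumLift hp L₀ X).φ' c = qS hp L₀ X (sφ L₀ X c) := rfl

theorem sumLift_π'_mk (g : SFib L₀ X) :
    (sumLift hp L₀ X).π' (qS hp L₀ X g) = L₀.π' (FibProd.fst g) := rfl

theorem sumLift_incl (m : B₀ ⊗[k] ↥(RingHom.ker p.toAlgHom)) :
    (sumLift hp L₀ X).incl hp m = qS hp L₀ X (sInclL hp L₀ X m) := by
  induction m using TensorProduct.induction_on with
  | zero =>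
    exact (map_zero _).trans ((congrArg _ (map_zero (sInclL hp L₀ X))).trans (map_zero _)).symm
  | tmul b j =>
    obtain ⟨r, hr⟩ := L₀.π'_surj b
    obtain ⟨g, hg⟩ := exists_sfib_of_fst L₀ X r
    have h := sφ_mul_eq hp L₀ X j g
    rw [hg, hr] at h
    rw [← h, map_mul]
    have h2 : (sumLift hp L₀ X).π' (qS hp L₀ X g) = b := by
      rw [sumLift_π'_mk, hg, hr]
    rw [← h2]
    exact AlgLift.incl_tmul _ hp _ j
  | add x y hx hy =>
    rw [map_add, hx, hy, map_add (sInclL hp L₀ X), map_add (qS hp L₀ X)]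
    rfl

end Sum

end Groth.Agent.R2.H56.Lift
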