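import Groth.Agent.R2.H56Lift4

/-!
# Lifts of an algebraic deformation form a torsor under extensions (helper56)

ns `Groth.Agent.R2.H56.Lift`:
* `equivDiffSum : X.Equiv (diffExt hp (sumLift hp L₀ X) L₀)`;
* `isoSumOfHom`: a morphism of extensions `diffExt hp L L₀ → X` gives an isomorphism of lifts `L ≅ sumLift hp L₀ X`;
* `AlgLift.setoid`, `liftEquivExalcom : Quotient (AlgLift.setoid p D) ≃ Exalcom k B₀ (B₀ ⊗[k] J)` (given a base lift).
-/

set_option autoImplicit false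

universe u

open scoped TensorProduct

namespace Groth.Agent.R2.H56.Lift

open ArtFun ArtFun.Art Groth.Agent.R2.H56.AffDef Groth.Agent.R2.H56.FlatNil

variable {k : Type u} [Field k] {B₀ : Type u} [CommRing B₀] [Algebra k B₀] {C' C : Art k k}
  {p : C' ⟶ C} {D : AlgDef B₀ C}

section General

variable (hp : IsSemismallExt p) (L L₀ : AlgLift p D)

omit hp L L₀ in
theorem res_eq_zero_of_mem_ker {j : C'} (hj : j ∈ RingHom.ker p.toAlgHom) : C'.res j = 0 :=
  ker_le_ker_res p hj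

theorem fibφ_mem_fibIdeal {a : C'} (ha : C'.res a = 0) : fibφ L L₀ a ∈ fibIdeal L L₀ :=
  Ideal.mem_map_of_mem _ ha

theorem dmk_fibφ (c : C') :
    dmk L L₀ (fibφ L L₀ c) = algebraMap k (DiffCarrier L L₀) (C'.res c) := by
  rw [algebraMap_diffCarrier', dmk_eq_iff, ← map_sub]
  apply fibφ_mem_fibIdeal
  rw [map_sub, C'.res.commutes]
  exact sub_self _

theorem fibProj_surjective : Function.Surjective (fibProj L L₀) := fun b => by
  obtain ⟨y, hy⟩ := L₀.π'_surj b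
  obtain ⟨g, hg⟩ := exists_fib_of_snd L L₀ y
  exact ⟨g, by rw [fibProj_apply, hg, hy]⟩

/-- `(incl m, incl₀ m)`. -/
noncomputable def fibDiag : (B₀ ⊗[k] ↥(RingHom.ker p.toAlgHom)) →+ Fib L L₀ where
  toFun m := FibProd.mk (L.incl hp m) (L₀.incl hp m) (by rw [L.ρ_incl hp m, L₀.ρ_incl hp m])
  map_zero' := FibProd.ext (by rw [FibProd.fst_mk, map_zero, map_zero])
    (by rw [FibProd.snd_mk, map_zero, map_zero])
  map_add' m m' := FibProd.ext (by rw [FibProd.fst_mk, map_add, map_add]; rfl)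
    (by rw [FibProd.snd_mk, map_add, map_add]; rfl)

@[simp] theorem fibDiag_fst (m : B₀ ⊗[k] ↥(RingHom.ker p.toAlgHom)) :
    FibProd.fst (fibDiag hp L L₀ m) = L.incl hp m := rfl
@[simp] theorem fibDiag_snd (m : B₀ ⊗[k] ↥(RingHom.ker p.toAlgHom)) :
    FibProd.snd (fibDiag hp L L₀ m) = L₀.incl hp m := rfl

theorem fibDiag_mem (m : B₀ ⊗[k] ↥(RingHom.ker p.toAlgHom)) :
    fibDiag hp L L₀ m ∈ fibIdeal L L₀ := by
  induction m using TensorProduct.induction_on with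
  | zero => rw [map_zero]; exact Ideal.zero_mem _
  | tmul b j =>
    obtain ⟨g, hg⟩ := fibProj_surjective L L₀ b
    have h : fibDiag hp L L₀ (b ⊗ₜ[k] j) = fibφ L L₀ j * g := by
      apply FibProd.ext
      · rw [fibDiag_fst, map_mul, fibφ_fst, ← hg, fibProj_apply', L.incl_tmul hp]
      · rw [fibDiag_snd, map_mul, fibφ_snd, ← hg, fibProj_apply, L₀.incl_tmul hp]
    rw [h]
    exact Ideal.mul_mem_right _ _ (fibφ_mem_fibIdeal L L₀ (res_eq_zero_of_mem_ker j.2))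
  | add x y hx hy =>
    rw [map_add (fibDiag hp L L₀)]
    exact Ideal.add_mem _ hx hy

end General

section RT1

variable (hp : IsSemismallExt p) (L₀ : AlgLift p D)
  (X : Exal.Ext k B₀ (B₀ ⊗[k] ↥(RingHom.ker p.toAlgHom)))

/-- `(r, e) ↦ ([(r, e)], r)`. -/
noncomputable def rt1₀ : SFib L₀ X →+* Fib (sumLift hp L₀ X) L₀ :=
  FibProd.lift (f := (sumLift hp L₀ X).ρ) (g := L₀.ρ) (qS hp L₀ X) FibProd.fst (fun _ => rfl)

@[simp] theorem rt1₀_fst (g : SFib L₀ X) : FibProd.fst (rt1₀ hp L₀ X g) = qS hp L₀ X g := rfl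
@[simp] theorem rt1₀_snd (g : SFib L₀ X) : FibProd.snd (rt1₀ hp L₀ X g) = FibProd.fst g := rfl

theorem rt1₀_sφ (c : C') : rt1₀ hp L₀ X (sφ L₀ X c) = fibφ (sumLift hp L₀ X) L₀ c := by
  apply FibProd.ext
  · rfl
  · rfl

theorem rt1_aux (t : L₀.R') (ht : t ∈ Ideal.map L₀.φ' (RingHom.ker C'.res.toRingHom)) :
    ∃ g : SFib L₀ X, FibProd.fst g = t ∧ FibProd.snd g = 0 ∧
      rt1₀ hp L₀ X g ∈ fibIdeal (sumLift hp L₀ X) L₀ := by
  refine Submodule.span_induction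
    (p := fun t _ => ∃ g : SFib L₀ X, FibProd.fst g = t ∧ FibProd.snd g = 0 ∧
      rt1₀ hp L₀ X g ∈ fibIdeal (sumLift hp L₀ X) L₀) ?_ ?_ ?_ ?_ ht
  · rintro _ ⟨a, ha, rfl⟩
    have ha' : C'.res a = 0 := ha
    refine ⟨sφ L₀ X a, rfl, ?_, ?_⟩
    · rw [sφ_snd, ha', map_zero]
    · rw [rt1₀_sφ]
      exact fibφ_mem_fibIdeal _ _ ha'
  · exact ⟨0, map_zero _, map_zero _, by rw [map_zero]; exact Ideal.zero_mem _⟩
  · rintro _ _ _ _ ⟨g, rfl, hg2, hg3⟩ ⟨g', rfl, hg'2, hg'3⟩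
    refine ⟨g + g', map_add _ _ _, ?_, ?_⟩
    · rw [map_add, hg2, hg'2, add_zero]
    · rw [map_add]
      exact Ideal.add_mem _ hg3 hg'3
  · rintro r _ _ ⟨g, rfl, hg2, hg3⟩
    obtain ⟨s, hs⟩ := exists_sfib_of_fst L₀ X r
    refine ⟨s * g, ?_, ?_, ?_⟩
    · rw [map_mul, hs, smul_eq_mul]
    · rw [map_mul, hg2, mul_zero]
    · rw [map_mul]
      exact Ideal.mul_mem_left _ _ hg3

theorem rt1_ker (g : SFib L₀ X) (hg : FibProd.snd g = 0) :
    rt1₀ hp L₀ X g ∈ fibIdeal (sumLift hp L₀ X) L₀ := by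
  have h1 : FibProd.fst g ∈ Ideal.map L₀.φ' (RingHom.ker C'.res.toRingHom) := by
    rw [← L₀.ker_π' hp.1, RingHom.mem_ker, sfib_cond, hg, map_zero]
  obtain ⟨g', h2, h3, h4⟩ := rt1_aux hp L₀ X _ h1
  have : g = g' := FibProd.ext h2.symm (hg.trans h3.symm)
  rw [this]
  exact h4

/-- The ring map `E → (S ×_R R'₀) / 𝔪'`. -/
noncomputable def rt1Hom : X.E →+* DiffCarrier (sumLift hp L₀ X) L₀ :=
  RingHom.liftOfSurjective (FibProd.snd : SFib L₀ X →+* X.E) (exists_sfib_of_snd L₀ X)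
    ⟨(dmk (sumLift hp L₀ X) L₀).comp (rt1₀ hp L₀ X), fun g hg => by
      rw [RingHom.mem_ker] at hg ⊢
      rw [RingHom.comp_apply, dmk_eq_zero_iff]
      exact rt1_ker hp L₀ X g hg⟩

theorem rt1Hom_snd (g : SFib L₀ X) :
    rt1Hom hp L₀ X (FibProd.snd g) = dmk (sumLift hp L₀ X) L₀ (rt1₀ hp L₀ X g) :=
  RingHom.liftOfRightInverse_comp_apply _ _ _ _ g

/-- `X` is the difference of `L₀ + X` and `L₀`. -/
noncomputable def equivDiffSum : X.Equiv (diffExt hp (sumLift hp L₀ X) L₀) :=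
  equivOfHom (X := X) (Y := diffExt hp (sumLift hp L₀ X) L₀)
    { toRingHom := rt1Hom hp L₀ X
      commutes' := fun c => by
        have h1 : algebraMap k X.E c = FibProd.snd (sφ L₀ X (algebraMap k C' c)) := by
          rw [sφ_snd, C'.res.commutes]
          rfl
        change rt1Hom hp L₀ X (algebraMap k X.E c) = _
        rw [h1, rt1Hom_snd, rt1₀_sφ]
        rfl }
    (fun e => by
      obtain ⟨g, rfl⟩ := exists_sfib_of_snd L₀ X e
      change (diffExt hp (sumLift hp L₀ X) L₀).proj (rt1Hom hp L₀ X (FibProd.snd g)) = _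
      rw [rt1Hom_snd, diffExt_proj_mk, fibProj_apply, rt1₀_snd, sfib_cond])
    (fun m => by
      have h1 : X.incl m = FibProd.snd (sInclR L₀ X m) := rfl
      change rt1Hom hp L₀ X (X.incl m) = _
      rw [h1, rt1Hom_snd, diffExt_incl]
      congr 1
      apply FibProd.ext
      · rw [rt1₀_fst, fibIncl_fst, sumLift_incl, qS_sInclL_eq]
      · rfl)

end RT1

section Typed

variable (hp : IsSemismallExt p) (L L₀ : AlgLift p D)
  (X : Exal.Ext k B₀ (B₀ ⊗[k] ↥(RingHom.ker p.toAlgHom)))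

/-- `dmk`, typed at the middle ring of `diffExt`. -/
def dmkE : Fib L L₀ →+* (diffExt hp L L₀).E := dmk L L₀

theorem dmkE_surjective : Function.Surjective (dmkE hp L L₀) := dmk_surjective L L₀

theorem dmkE_eq_zero_iff (g : Fib L L₀) : dmkE hp L L₀ g = 0 ↔ g ∈ fibIdeal L L₀ :=
  dmk_eq_zero_iff L L₀ g

theorem proj_dmkE (g : Fib L L₀) : (diffExt hp L L₀).proj (dmkE hp L L₀ g) = L₀.π' (FibProd.snd g) := rfl

theorem incl_eq_dmkE (m : B₀ ⊗[k] ↥(RingHom.ker p.toAlgHom)) :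
    (diffExt hp L L₀).incl m = dmkE hp L L₀ (fibIncl hp L L₀ m) := rfl

theorem dmkE_fibφ (c : C') :
    dmkE hp L L₀ (fibφ L L₀ c) = algebraMap k (diffExt hp L L₀).E (C'.res c) := dmk_fibφ L L₀ c

/-- `qS`, typed at the ring of `sumLift`. -/
def qSR : SFib L₀ X →+* (sumLift hp L₀ X).R' := qS hp L₀ X

theorem qSR_surjective : Function.Surjective (qSR hp L₀ X) := qS_surjective hp L₀ X

theorem qSR_eq_zero_iff (g : SFib L₀ X) : qSR hp L₀ X g = 0 ↔ g ∈ sIdeal hp L₀ X :=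
  qS_eq_zero_iff hp L₀ X g

theorem ρ_qSR (g : SFib L₀ X) : (sumLift hp L₀ X).ρ (qSR hp L₀ X g) = L₀.ρ (FibProd.fst g) := rfl

theorem φ'_eq_qSR (c : C') : (sumLift hp L₀ X).φ' c = qSR hp L₀ X (sφ L₀ X c) := rfl

end Typed

section RT2

variable (hp : IsSemismallExt p) (L L₀ : AlgLift p D)
  (X : Exal.Ext k B₀ (B₀ ⊗[k] ↥(RingHom.ker p.toAlgHom)))
  (θ : (diffExt hp L L₀).E →ₐ[k] X.E)
  (hproj : ∀ x, X.proj (θ x) = (diffExt hp L L₀).proj x)
  (hincl : ∀ z, θ ((diffExt hp L L₀).incl z) = X.incl z)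

/-- `(x, y) ↦ (y, θ [(x, y)])`. -/
noncomputable def rt2₀ : Fib L L₀ →+* SFib L₀ X :=
  FibProd.lift (f := L₀.π') (g := X.proj.toRingHom) FibProd.snd (θ.toRingHom.comp (dmkE hp L L₀))
    (fun g => ((hproj (dmkE hp L L₀ g)).trans (proj_dmkE hp L L₀ g)).symm)

@[simp] theorem rt2₀_fst (g : Fib L L₀) : FibProd.fst (rt2₀ hp L L₀ X θ hproj g) = FibProd.snd g := rfl
@[simp] theorem rt2₀_snd (g : Fib L L₀) :
    FibProd.snd (rt2₀ hp L L₀ X θ hproj g) = θ (dmkE hp L L₀ g) := rfl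

include hincl in
theorem rt2_ker (g : Fib L L₀) (hg : FibProd.fst g = 0) :
    rt2₀ hp L L₀ X θ hproj g ∈ sIdeal hp L₀ X := by
  have h1 : L₀.ρ (FibProd.snd g) = 0 := by rw [← FibProd.cond g, hg, map_zero]
  obtain ⟨m, hm⟩ := (L₀.range_incl hp _).1 h1
  rw [mem_sIdeal]
  refine ⟨m, hm.symm, ?_⟩
  have h2 : g + fibIncl hp L L₀ m = fibDiag hp L L₀ m := by
    apply FibProd.ext
    · rw [map_add, hg, zero_add, fibIncl_fst, fibDiag_fst]
    · rw [map_add, fibIncl_snd, add_zero, fibDiag_snd, hm]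
  have h3 : dmkE hp L L₀ g = - dmkE hp L L₀ (fibIncl hp L L₀ m) := by
    rw [eq_neg_iff_add_eq_zero, ← map_add, h2, dmkE_eq_zero_iff]
    exact fibDiag_mem hp L L₀ m
  rw [rt2₀_snd, h3, map_neg, ← incl_eq_dmkE, hincl]

/-- The morphism of lifts `L → L₀ + X` attached to a morphism of extensions `L - L₀ → X`. -/
noncomputable def rt2Hom : L.R' →+* (sumLift hp L₀ X).R' :=
  RingHom.liftOfSurjective (FibProd.fst : Fib L L₀ →+* L.R') (exists_fib_of_fst L L₀)
    ⟨(qSR hp L₀ X).comp (rt2₀ hp L L₀ X θ hproj), fun g hg => by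
      rw [RingHom.mem_ker] at hg ⊢
      rw [RingHom.comp_apply, qSR_eq_zero_iff]
      exact rt2_ker hp L L₀ X θ hproj hincl g hg⟩

theorem rt2Hom_fst (g : Fib L L₀) :
    rt2Hom hp L L₀ X θ hproj hincl (FibProd.fst g) = qSR hp L₀ X (rt2₀ hp L L₀ X θ hproj g) :=
  RingHom.liftOfRightInverse_comp_apply _ _ _ _ g

/-- A morphism of extensions `L - L₀ → X` gives an isomorphism of lifts `L ≅ L₀ + X`. -/
noncomputable def isoSumOfHom : AlgLift.Iso L (sumLift hp L₀ X) :=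
  AlgLift.isoOfHom hp.1 L (sumLift hp L₀ X) (rt2Hom hp L L₀ X θ hproj hincl)
    (fun c => by
      have h1 : L.φ' c = FibProd.fst (fibφ L L₀ c) := rfl
      rw [h1, rt2Hom_fst, φ'_eq_qSR]
      congr 1
      apply FibProd.ext
      · rfl
      · rw [rt2₀_snd, sφ_snd, dmkE_fibφ]
        exact θ.commutes _)
    (fun x => by
      obtain ⟨g, rfl⟩ := exists_fib_of_fst L L₀ x
      rw [rt2Hom_fst, ρ_qSR, rt2₀_fst, FibProd.cond g])

end RT2

section Torsor

variable (p D)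

/-- Isomorphism of lifts, as a setoid. -/
def AlgLift.setoid : Setoid (AlgLift p D) where
  r L L' := Nonempty (AlgLift.Iso L L')
  iseqv := ⟨fun L => ⟨AlgLift.Iso.refl L⟩, fun ⟨i⟩ => ⟨i.symm⟩, fun ⟨i⟩ ⟨j⟩ => ⟨i.trans j⟩⟩

variable {p D}
variable (hp : IsSemismallExt p) (L₀ : AlgLift p D)

/-- The class of the difference with a base lift. -/
noncomputable def diffClass :
    Quotient (AlgLift.setoid p D) → Exal.Exalcom k B₀ (B₀ ⊗[k] ↥(RingHom.ker p.toAlgHom)) :=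
  Quotient.map' (s₁ := AlgLift.setoid p D) (s₂ := Exal.Ext.setoid k B₀ (B₀ ⊗[k] ↥(RingHom.ker p.toAlgHom)))
    (fun L => diffExt hp L L₀) (fun _ _ ⟨i⟩ => ⟨diffExtEquivOfIso hp L₀ i⟩)

theorem diffClass_bijective : Function.Bijective (diffClass hp L₀) := by
  constructor
  · intro q q' h
    induction q using Quotient.inductionOn with
    | h L =>
    induction q' using Quotient.inductionOn with
    | h L' =>
    obtain ⟨θ⟩ := Quotient.exact h
    have i1 : AlgLift.Iso L (sumLift hp L₀ (diffExt hp L' L₀)) :=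
      isoSumOfHom hp L L₀ (diffExt hp L' L₀) θ.toAlgEquiv.toAlgHom θ.proj_apply θ.apply_incl
    have i2 : AlgLift.Iso L' (sumLift hp L₀ (diffExt hp L' L₀)) :=
      isoSumOfHom hp L' L₀ (diffExt hp L' L₀) (AlgHom.id k _) (fun _ => rfl) (fun _ => rfl)
    exact Quotient.sound ⟨i1.trans i2.symm⟩
  · intro c
    induction c using Quotient.inductionOn with
    | h X =>
    exact ⟨Quotient.mk _ (sumLift hp L₀ X), Quotient.sound ⟨(equivDiffSum hp L₀ X).symm⟩⟩

/-- Lifts up to isomorphism are in bijection with classes of extensions, given a base lift. -/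
noncomputable def liftEquivExalcom :
    Quotient (AlgLift.setoid p D) ≃ Exal.Exalcom k B₀ (B₀ ⊗[k] ↥(RingHom.ker p.toAlgHom)) :=
  Equiv.ofBijective _ (diffClass_bijective hp L₀)

end Torsor

end Groth.Agent.R2.H56.Lift
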