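import Mathlib
import Groth.Prelude.Def_ArtFun6
import Groth.Agent.R2.H56DefxSpec
import Groth.Agent.R2.H56DefxMain
import Groth.Agent.Lib.Helper22Thick

/-!
# The local Hilbert functor satisfies `H0`, and its comparison maps are bijective (helper56)

ns `Groth.Agent.R2.H56.LocHilb`.  Embedded deformations of a closed subscheme `ι₀ : X₀ ⟶ Y` are handled as pairs
`(ξ, ι)` of a deformation `ξ` of `X₀` and a closed immersion `ι : ξ.total ⟶ Y ×_k Spec A` over `Spec A` and under `X₀`;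
gluing over `A₁ ×_A A₂` uses the Ferrand pushout of PROJ:defx (`exists_glue`), the closed immersion lifts along the
nilpotent thickening (Lib `Helper22Thick.isClosedImmersion_of_isPullback`), uniqueness uses `PkgUnglue`.
-/

set_option autoImplicit false
set_option linter.style.haveILetI false
universe u

open CategoryTheory CategoryTheory.Limits AlgebraicGeometry ArtFun ArtFun.Art

namespace Groth.Agent.R2.H56.LocHilb

open Groth.Agent.R2.H56.DefxSpec Groth.Agent.R2.H56.DefxMain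

variable {k : Type u} [Field k] {Y : Scheme.{u}} (y : Y ⟶ specPt k)

section Res

variable {X₀ : Scheme.{u}} {ι₀ : X₀ ⟶ Y}
variable {A A' : Art k k} (ξ : DefSch X₀ (ι₀ ≫ y) A) (ι : ξ.total ⟶ XA y A)
  (hf : ι ≫ XApr y A = ξ.f) (g : A ⟶ A')

/-- the embedding of the restriction of an embedded deformation. -/
noncomputable def res : pullback ξ.f (specMap g) ⟶ XA y A' :=
  (isPullback_XAmap y g).lift (pullback.fst _ _ ≫ ι) (pullback.snd _ _) (by
    rw [Category.assoc, hf, pullback.condition])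

@[simp] lemma res_XAmap : res y ξ ι hf g ≫ XAmap y g = pullback.fst _ _ ≫ ι :=
  (isPullback_XAmap y g).lift_fst _ _ _

@[simp] lemma res_pr : res y ξ ι hf g ≫ XApr y A' = pullback.snd _ _ :=
  (isPullback_XAmap y g).lift_snd _ _ _

lemma isPullback_res :
    IsPullback (pullback.fst ξ.f (specMap g)) (res y ξ ι hf g) ι (XAmap y g) := by
  refine IsPullback.of_bot ?_ (res_XAmap y ξ ι hf g).symm (isPullback_XAmap y g)
  rw [res_pr, hf]
  exact IsPullback.of_hasPullback _ _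

instance isClosedImmersion_res [IsClosedImmersion ι] : IsClosedImmersion (res y ξ ι hf g) :=
  MorphismProperty.of_isPullback (P := @IsClosedImmersion) (isPullback_res y ξ ι hf g) inferInstance

lemma ker_res [IsClosedImmersion ι] : (res y ξ ι hf g).ker = ι.ker.comap (XAmap y g) := by
  have h := (isPullback_res y ξ ι hf g).flip
  have e : res y ξ ι hf g = h.isoPullback.hom ≫ pullback.fst (XAmap y g) ι :=
    (h.isoPullback_hom_fst).symm
  rw [e, Scheme.Hom.ker_comp_of_isIso, Scheme.IdealSheafData.ker_fst_of_isClosedImmersion]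

lemma i_res (hi : ξ.i ≫ ι = ι₀ ≫ XAincl y A) :
    (ξ.baseChange g).i ≫ res y ξ ι hf g = ι₀ ≫ XAincl y A' := by
  apply (isPullback_XAmap y g).hom_ext
  · rw [Category.assoc, res_XAmap, ← Category.assoc, DefSch.baseChange_i_fst, hi, Category.assoc,
      XAincl_XAmap]
  · rw [Category.assoc, res_pr, Category.assoc, XAincl_snd]
    exact DefSch.baseChange_i_f ξ g

end Res

instance isClosedImmersion_XAincl (A : Art k k) : IsClosedImmersion (XAincl y A) := by
  haveI : IsClosedImmersion (specRes A) := IsClosedImmersion.spec_of_surjective _ A.res_surjective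
  exact MorphismProperty.of_isPullback (P := @IsClosedImmersion) (isPullback_XAincl y A).flip
    inferInstance

instance surjective_XAincl (A : Art k k) : Surjective (XAincl y A) := by
  haveI : Surjective (specRes A) :=
    ⟨fun _ => ⟨Classical.arbitrary _, Subsingleton.elim _ _⟩⟩
  exact MorphismProperty.of_isPullback (P := @Surjective) (isPullback_XAincl y A).flip inferInstance

/-- a morphism of deformations over a map of bases gives a cartesian square. -/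
theorem isPullback_of_hom {X : Scheme.{u}} {x : X ⟶ specPt k} (hIso : PkgIso.{u}) {A A' : Art k k}
    (g : A ⟶ A') (ξ : DefSch X x A) (ξ' : DefSch X x A') (u : ξ'.total ⟶ ξ.total)
    (hu : u ≫ ξ.f = ξ'.f ≫ specMap g) (hi : ξ'.i ≫ u = ξ.i) :
    IsPullback u ξ'.f ξ.f (specMap g) :=
  IsPullback.of_iso_pullback ⟨hu⟩ (isoOfHom hIso g ξ ξ' u hu hi).iso
    (isoOfHom_hom_fst hIso g ξ ξ' u hu hi) (isoOfHom hIso g ξ ξ' u hu hi).hom_f

section Inj

variable {X₀ : Scheme.{u}} {ι₀ : X₀ ⟶ Y}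
variable {B A A₁ A₂ : Art k k} (p₁ : B ⟶ A₁) (p₂ : B ⟶ A₂) (f₁ : A₁ ⟶ A) (f₂ : A₂ ⟶ A)

include f₁ f₂ in
/-- an embedded deformation over a fibre product is determined by its two restrictions. -/
theorem ker_eq_union (hUn : PkgUnglue.{u}) (h : IsFibreProd p₁ p₂ f₁ f₂)
    (hf₂ : Function.Surjective f₂) (ξ : DefSch X₀ (ι₀ ≫ y) B) (ι : ξ.total ⟶ XA y B)
    [IsClosedImmersion ι] (hf : ι ≫ XApr y B = ξ.f) :
    ι.ker = (ι.ker.comap (XAmap y p₁)).map (XAmap y p₁) ⊓ (ι.ker.comap (XAmap y p₂)).map (XAmap y p₂) := by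
  apply le_antisymm
  · exact le_inf (Scheme.IdealSheafData.le_map_iff_comap_le.mpr le_rfl)
      (Scheme.IdealSheafData.le_map_iff_comap_le.mpr le_rfl)
  · set J := (ι.ker.comap (XAmap y p₁)).map (XAmap y p₁) ⊓
      (ι.ker.comap (XAmap y p₂)).map (XAmap y p₂) with hJ
    have hPO := hUn k k X₀ (ι₀ ≫ y) p₁ p₂ f₁ f₂ h hf₂ ξ
    have hk₁ : J.subschemeι.ker ≤ (pullback.fst ξ.f (specMap p₁) ≫ ι).ker := by
      rw [Scheme.IdealSheafData.ker_subschemeι, ← res_XAmap y ξ ι hf p₁,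
        ← Scheme.IdealSheafData.map_ker, ker_res]
      exact inf_le_left
    have hk₂ : J.subschemeι.ker ≤ (pullback.fst ξ.f (specMap p₂) ≫ ι).ker := by
      rw [Scheme.IdealSheafData.ker_subschemeι, ← res_XAmap y ξ ι hf p₂,
        ← Scheme.IdealSheafData.map_ker, ker_res]
      exact inf_le_right
    have hz : z₁ ξ p₁ f₁ ≫ pullback.fst ξ.f (specMap p₁) =
        z₂ ξ p₁ p₂ f₁ f₂ h.w ≫ pullback.fst ξ.f (specMap p₂) :=
      (pullback.lift_fst _ _ _).trans (pullback.lift_fst _ _ _).symm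
    have hcompat : z₁ ξ p₁ f₁ ≫ IsClosedImmersion.lift J.subschemeι _ hk₁ =
        z₂ ξ p₁ p₂ f₁ f₂ h.w ≫ IsClosedImmersion.lift J.subschemeι _ hk₂ := by
      rw [← cancel_mono J.subschemeι, Category.assoc, Category.assoc, IsClosedImmersion.lift_fac,
        IsClosedImmersion.lift_fac, ← Category.assoc, ← Category.assoc, hz]
    have hd : hPO.desc _ _ hcompat ≫ J.subschemeι = ι := by
      apply hPO.hom_ext
      · rw [← Category.assoc, hPO.inl_desc, IsClosedImmersion.lift_fac]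
      · rw [← Category.assoc, hPO.inr_desc, IsClosedImmersion.lift_fac]
    calc J = J.subschemeι.ker := (Scheme.IdealSheafData.ker_subschemeι J).symm
      _ ≤ (hPO.desc _ _ hcompat ≫ J.subschemeι).ker := Scheme.Hom.le_ker_comp _ _
      _ = ι.ker := congrArg Scheme.Hom.ker hd

end Inj

section Surj

variable {X₀ : Scheme.{u}} {ι₀ : X₀ ⟶ Y}
variable {B A A₁ A₂ : Art k k}

/-- gluing two embedded deformations with the same restriction. -/
theorem exists_emb (hFlat : PkgGlueFlat.{u}) (hPb : PkgGluePb.{u}) (hIso : PkgIso.{u})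
    (p₁ : B ⟶ A₁) (p₂ : B ⟶ A₂) (f₁ : A₁ ⟶ A) (f₂ : A₂ ⟶ A)
    (h : IsFibreProd p₁ p₂ f₁ f₂) (hf₂ : Function.Surjective f₂) [IsLocallyNoetherian (XA y B)]
    [IsClosedImmersion ι₀]
    (ξ₁ : DefSch X₀ (ι₀ ≫ y) A₁) (ι₁ : ξ₁.total ⟶ XA y A₁) [IsClosedImmersion ι₁]
    (hf₁ : ι₁ ≫ XApr y A₁ = ξ₁.f) (hi₁ : ξ₁.i ≫ ι₁ = ι₀ ≫ XAincl y A₁)
    (ξ₂ : DefSch X₀ (ι₀ ≫ y) A₂) (ι₂ : ξ₂.total ⟶ XA y A₂) [IsClosedImmersion ι₂]
    (hf₂' : ι₂ ≫ XApr y A₂ = ξ₂.f) (hi₂ : ξ₂.i ≫ ι₂ = ι₀ ≫ XAincl y A₂)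
    (hker : ι₁.ker.comap (XAmap y f₁) = ι₂.ker.comap (XAmap y f₂)) :
    ∃ (η : DefSch X₀ (ι₀ ≫ y) B) (G : η.total ⟶ XA y B), IsClosedImmersion G ∧
      G ≫ XApr y B = η.f ∧ η.i ≫ G = ι₀ ≫ XAincl y B ∧
      G.ker.comap (XAmap y p₁) = ι₁.ker ∧ G.ker.comap (XAmap y p₂) = ι₂.ker := by
  have hker' : (res y ξ₁ ι₁ hf₁ f₁).ker = (res y ξ₂ ι₂ hf₂' f₂).ker := by
    rw [ker_res, ker_res, hker]
  -- the isomorphism of the restrictions to `A`
  obtain ⟨t, ht⟩ : ∃ t : pullback ξ₁.f (specMap f₁) ⟶ pullback ξ₂.f (specMap f₂),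
      t ≫ res y ξ₂ ι₂ hf₂' f₂ = res y ξ₁ ι₁ hf₁ f₁ :=
    ⟨IsClosedImmersion.lift (res y ξ₂ ι₂ hf₂' f₂) (res y ξ₁ ι₁ hf₁ f₁) hker'.ge,
      IsClosedImmersion.lift_fac _ _ _⟩
  haveI : IsIso t := IsClosedImmersion.isIso_of_ker_eq (res y ξ₁ ι₁ hf₁ f₁)
    (res y ξ₂ ι₂ hf₂' f₂) t ht hker'
  have htf : t ≫ pullback.snd ξ₂.f (specMap f₂) = pullback.snd ξ₁.f (specMap f₁) := by
    rw [← res_pr y ξ₂ ι₂ hf₂' f₂, ← Category.assoc, ht, res_pr]
  have hti : (ξ₁.baseChange f₁).i ≫ t = (ξ₂.baseChange f₂).i := by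
    rw [← cancel_mono (res y ξ₂ ι₂ hf₂' f₂), Category.assoc, ht, i_res y ξ₁ ι₁ hf₁ f₁ hi₁,
      i_res y ξ₂ ι₂ hf₂' f₂ hi₂]
  let θ : DefSch.Iso (ξ₁.baseChange f₁) (ξ₂.baseChange f₂) := ⟨asIso t, htf, hti⟩
  obtain ⟨η, a₁, a₂, hPO, hg₁, hg₂, hj₁, hj₂⟩ :=
    exists_glue hFlat hPb p₁ p₂ f₁ f₂ h hf₂ ξ₁ ξ₂ θ
  -- the map to the ambient scheme
  have hcompat : cornerI ξ₂ f₂ ≫ ι₂ ≫ XAmap y p₂ =
      cornerJ ξ₁ ξ₂ f₁ f₂ θ ≫ ι₁ ≫ XAmap y p₁ := by
    have hθinv : inv t ≫ res y ξ₁ ι₁ hf₁ f₁ = res y ξ₂ ι₂ hf₂' f₂ := by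
      rw [IsIso.inv_comp_eq, ht]
    unfold cornerI cornerJ
    change pullback.fst ξ₂.f (specMap f₂) ≫ ι₂ ≫ XAmap y p₂ =
      (inv t ≫ pullback.fst ξ₁.f (specMap f₁)) ≫ ι₁ ≫ XAmap y p₁
    rw [← Category.assoc, ← res_XAmap y ξ₂ ι₂ hf₂' f₂, Category.assoc, ← XAmap_comp,
      Category.assoc, ← Category.assoc (pullback.fst ξ₁.f (specMap f₁)),
      ← res_XAmap y ξ₁ ι₁ hf₁ f₁, Category.assoc, ← XAmap_comp, ← Category.assoc, hθinv, h.w]
  obtain ⟨G, hG₂, hG₁⟩ : ∃ G : η.total ⟶ XA y B, a₂ ≫ G = ι₂ ≫ XAmap y p₂ ∧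
      a₁ ≫ G = ι₁ ≫ XAmap y p₁ :=
    ⟨hPO.desc _ _ hcompat, hPO.inl_desc _ _ _, hPO.inr_desc _ _ _⟩
  have hGpr : G ≫ XApr y B = η.f := by
    apply hPO.hom_ext
    · rw [← Category.assoc, hG₂, Category.assoc, XAmap_snd, ← Category.assoc, hf₂', hg₂]
    · rw [← Category.assoc, hG₁, Category.assoc, XAmap_snd, ← Category.assoc, hf₁, hg₁]
  have hGi : η.i ≫ G = ι₀ ≫ XAincl y B := by
    rw [← hj₁, Category.assoc, hG₁, ← Category.assoc, hi₁, Category.assoc, XAincl_XAmap]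
  -- `G` is a closed immersion
  have sq : IsPullback η.i ι₀ G (XAincl y B) := by
    refine IsPullback.of_bot ?_ hGi (isPullback_XAincl y B)
    rw [hGpr]
    exact η.isPullback
  haveI hGci : IsClosedImmersion G :=
    Groth.Agent.Lib.Helper22.Thick.isClosedImmersion_of_isPullback sq
  refine ⟨η, G, hGci, hGpr, hGi, ?_, ?_⟩
  · have sq₁ : IsPullback a₁ ι₁ G (XAmap y p₁) := by
      refine IsPullback.of_bot ?_ hG₁ (isPullback_XAmap y p₁)
      rw [hGpr, hf₁]
      exact isPullback_of_hom hIso p₁ η ξ₁ a₁ hg₁ hj₁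
    have e : ι₁ = sq₁.flip.isoPullback.hom ≫ pullback.fst (XAmap y p₁) G :=
      (sq₁.flip.isoPullback_hom_fst).symm
    rw [← Scheme.IdealSheafData.ker_fst_of_isClosedImmersion, e, Scheme.Hom.ker_comp_of_isIso]
  · have sq₂ : IsPullback a₂ ι₂ G (XAmap y p₂) := by
      refine IsPullback.of_bot ?_ hG₂ (isPullback_XAmap y p₂)
      rw [hGpr, hf₂']
      exact isPullback_of_hom hIso p₂ η ξ₂ a₂ hg₂ hj₂
    have e : ι₂ = sq₂.flip.isoPullback.hom ≫ pullback.fst (XAmap y p₂) G :=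
      (sq₂.flip.isoPullback_hom_fst).symm
    rw [← Scheme.IdealSheafData.ker_fst_of_isClosedImmersion, e, Scheme.Hom.ker_comp_of_isIso]

end Surj

section Functor

variable (I₀ : Y.IdealSheafData)

instance isIso_XAincl_base : IsIso (XAincl y (base k k)) :=
  (isPullback_XAincl y (base k k)).isIso_fst_of_isIso

theorem h0 : H0 (localHilb Y y I₀) := by
  refine ⟨⟨⟨I₀.comap (pullback.fst y (specOver (base k k))), ?_, ?_⟩⟩, ⟨fun I I' => ?_⟩⟩
  · exact flat_to_field (k := k) _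
  · rw [← Scheme.IdealSheafData.comap_comp, XAincl_fst, Scheme.IdealSheafData.comap_id]
  · apply Subtype.ext
    have h1 : I.1 = (I.1.comap (XAincl y (base k k))).comap (inv (XAincl y (base k k))) := by
      rw [← Scheme.IdealSheafData.comap_comp, IsIso.inv_hom_id, Scheme.IdealSheafData.comap_id]
    have h2 : I'.1 = (I'.1.comap (XAincl y (base k k))).comap (inv (XAincl y (base k k))) := by
      rw [← Scheme.IdealSheafData.comap_comp, IsIso.inv_hom_id, Scheme.IdealSheafData.comap_id]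
    rw [h1, h2, I.2.2, I'.2.2]

variable {I₀} {B A A₁ A₂ : Art k k} (p₁ : B ⟶ A₁) (p₂ : B ⟶ A₂) (f₁ : A₁ ⟶ A) (f₂ : A₂ ⟶ A)

/-- the underlying ideal sheaf of an element of the local Hilbert functor. -/
def idl {A : Art k k} (I : (localHilb Y y I₀).obj A) : (XA y A).IdealSheafData := I.1

lemma map_idl {A A' : Art k k} (g : A ⟶ A') (I : (localHilb Y y I₀).obj A) :
    idl y ((localHilb Y y I₀).map g I) = (idl y I).comap (XAmap y g) := rfl

lemma idl_injective {A : Art k k} {I I' : (localHilb Y y I₀).obj A} (h : idl y I = idl y I') : I = I' :=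
  Subtype.ext h

/-- the embedding of the total space of the abstract deformation underlying `I`. -/
noncomputable def emb {A : Art k k} (I : (localHilb Y y I₀).obj A) : (objectOf I).total ⟶ XA y A :=
  (idl y I).subschemeι

instance {A : Art k k} (I : (localHilb Y y I₀).obj A) : IsClosedImmersion (emb y I) :=
  inferInstanceAs (IsClosedImmersion (idl y I).subschemeι)

lemma emb_pr {A : Art k k} (I : (localHilb Y y I₀).obj A) : emb y I ≫ XApr y A = (objectOf I).f := rfl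

lemma i_emb {A : Art k k} (I : (localHilb Y y I₀).obj A) :
    (objectOf I).i ≫ emb y I = I₀.subschemeι ≫ XAincl y A := objectOf_i_compat I

lemma ker_emb {A : Art k k} (I : (localHilb Y y I₀).obj A) : (emb y I).ker = idl y I :=
  Scheme.IdealSheafData.ker_subschemeι _

include f₁ f₂ in
theorem cmp_injective (hUn : PkgUnglue.{u}) (h : IsFibreProd p₁ p₂ f₁ f₂)
    (hf₂ : Function.Surjective f₂) : Function.Injective (cmp (localHilb Y y I₀) h) := by
  intro I I' hII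
  have e1 : (idl y I).comap (XAmap y p₁) = (idl y I').comap (XAmap y p₁) :=
    congrArg (fun t : ArtFun.FibProd (localHilb Y y I₀) f₁ f₂ => idl y t.1.1) hII
  have e2 : (idl y I).comap (XAmap y p₂) = (idl y I').comap (XAmap y p₂) :=
    congrArg (fun t : ArtFun.FibProd (localHilb Y y I₀) f₁ f₂ => idl y t.1.2) hII
  apply idl_injective
  have h1 := ker_eq_union y p₁ p₂ f₁ f₂ hUn h hf₂ (objectOf I) (emb y I) (emb_pr y I)
  have h2 := ker_eq_union y p₁ p₂ f₁ f₂ hUn h hf₂ (objectOf I') (emb y I') (emb_pr y I')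
  rw [ker_emb] at h1 h2
  rw [h1, h2, e1, e2]

include f₁ f₂ in
theorem cmp_surjective (hFlat : PkgGlueFlat.{u}) (hPb : PkgGluePb.{u}) (hIso : PkgIso.{u})
    (h : IsFibreProd p₁ p₂ f₁ f₂) (hf₂ : Function.Surjective f₂) [IsLocallyNoetherian (XA y B)] :
    Function.Surjective (cmp (localHilb Y y I₀) h) := by
  rintro ⟨⟨I₁, I₂⟩, hI⟩
  have hI' : (idl y I₁).comap (XAmap y f₁) = (idl y I₂).comap (XAmap y f₂) := congrArg (idl y) hI
  obtain ⟨η, G, hGci, hGpr, hGi, hc₁, hc₂⟩ := exists_emb y hFlat hPb hIso p₁ p₂ f₁ f₂ h hf₂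
    (objectOf I₁) (emb y I₁) (emb_pr y I₁) (i_emb y I₁)
    (objectOf I₂) (emb y I₂) (emb_pr y I₂) (i_emb y I₂) (by rw [ker_emb, ker_emb]; exact hI')
  rw [ker_emb] at hc₁ hc₂
  have hfl : FlatOver Y y B G.ker := by
    unfold FlatOver
    have e : G.ker.subschemeι ≫ XApr y B = inv G.toImage ≫ η.f := by
      rw [IsIso.eq_inv_comp, ← hGpr, ← Category.assoc]
      congr 1
      exact G.toImage_imageι
    rw [e]
    infer_instance
  have h0' : G.ker.comap (XAincl y B) = I₀ := by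
    rw [← XAincl_XAmap y p₁, Scheme.IdealSheafData.comap_comp, hc₁]
    exact I₁.2.2
  refine ⟨⟨G.ker, hfl, h0'⟩, ?_⟩
  apply ArtFun.FibProd.ext
  · exact idl_injective y hc₁
  · exact idl_injective y hc₂

end Functor

end Groth.Agent.R2.H56.LocHilb
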