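import Mathlib
import Groth.Prelude.Def_CotT2

/-!
# PROJ:nine-term (S12285): interface, part B (the auxiliary presentation `P''` and its morphisms)
-/

set_option autoImplicit false
set_option linter.unusedSectionVars false
universe u

open CotT Function

namespace Groth.Agent.R2.H56.NineSpec

section concrete

variable (A B C : Type u) [CommRing A] [CommRing B] [CommRing C] [Algebra A B] [Algebra B C]
  [Algebra A C] [IsScalarTower A B C]

/-- generators of `C` over `A`: the variables of `C` and the variables of `B` -/
noncomputable def midGen : Algebra.Generators A C (C ⊕ B) where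
  val := Sum.elim id (algebraMap B C)
  σ' c := MvPolynomial.X (Sum.inl c)
  aeval_val_σ' c := by simp

/-- `A[X_b] → A[X_c, X_b]` -/
noncomputable def εmap : MvPolynomial B A →ₐ[A] MvPolynomial (C ⊕ B) A :=
  MvPolynomial.aeval (fun b => MvPolynomial.X (Sum.inr b))

/-- `A[X_c, X_b] → B[X_c]`, `X_c ↦ X_c`, `X_b ↦ b` -/
noncomputable def qmap : MvPolynomial (C ⊕ B) A →ₐ[A] MvPolynomial C B :=
  MvPolynomial.aeval (Sum.elim MvPolynomial.X (fun b => MvPolynomial.C b))

lemma qmap_X_inl (c : C) : qmap A B C (MvPolynomial.X (Sum.inl c)) = MvPolynomial.X c := by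
  simp [qmap]

lemma qmap_X_inr (b : B) : qmap A B C (MvPolynomial.X (Sum.inr b)) = MvPolynomial.C b := by
  simp [qmap]

lemma qmap_surjective : Surjective (qmap A B C) := by
  intro z
  induction z using MvPolynomial.induction_on with
  | C b => exact ⟨MvPolynomial.X (Sum.inr b), qmap_X_inr A B C b⟩
  | add p q hp hq =>
    obtain ⟨p', rfl⟩ := hp
    obtain ⟨q', rfl⟩ := hq
    exact ⟨p' + q', map_add _ _ _⟩
  | mul_X p c hp =>
    obtain ⟨p', rfl⟩ := hp
    exact ⟨p' * MvPolynomial.X (Sum.inl c), by rw [map_mul, qmap_X_inl]⟩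

lemma εmap_apply (p : MvPolynomial B A) : εmap A B C p = MvPolynomial.rename Sum.inr p := by
  have : εmap A B C = MvPolynomial.rename Sum.inr := by
    refine MvPolynomial.algHom_ext fun b => ?_
    simp [εmap]
  rw [this]

/-- the ring equivalence `A[X_c, X_b] ≃ (A[X_b])[X_c]` -/
noncomputable def eqv : MvPolynomial (C ⊕ B) A ≃+* MvPolynomial C (MvPolynomial B A) :=
  (MvPolynomial.sumAlgEquiv A C B).toRingEquiv

/-- `A[X_b] → B` -/
noncomputable def π₃ : MvPolynomial B A →+* B :=
  (MvPolynomial.aeval (_root_.id : B → B) : MvPolynomial B A →ₐ[A] B)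

/-- `qmap` through the iterated polynomial ring -/
lemma qmap_eq_comp :
    (qmap A B C : MvPolynomial (C ⊕ B) A →+* MvPolynomial C B) =
      (MvPolynomial.map (π₃ A B)).comp (eqv A B C).toRingHom := by
  refine MvPolynomial.ringHom_ext (fun a => ?_) (fun i => ?_)
  · simp [qmap, eqv, π₃]
  · cases i with
    | inl c => simp [qmap, eqv, π₃]
    | inr b => simp [qmap, eqv, π₃]

lemma eqv_symm_C (p : MvPolynomial B A) : (eqv A B C).symm (MvPolynomial.C p) = εmap A B C p := by
  rw [εmap_apply, RingEquiv.symm_apply_eq]
  have := AlgHom.congr_fun (MvPolynomial.sumAlgEquiv_comp_rename_inr (R := A) (S₁ := C) (S₂ := B)) p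
  exact this.symm

/-- the kernel of `qmap` is generated by the image of the kernel of `A[X_b] → B` -/
lemma ker_qmap :
    RingHom.ker (qmap A B C) = Ideal.map (εmap A B C) (RingHom.ker (π₃ A B)) := by
  have h1 : RingHom.ker (qmap A B C) = RingHom.ker (qmap A B C : _ →+* MvPolynomial C B) := rfl
  rw [h1, qmap_eq_comp, ← RingHom.comap_ker, MvPolynomial.ker_map]
  ext z
  rw [Ideal.mem_comap]
  have h4 : Ideal.map (eqv A B C).symm.toRingHom
      (Ideal.map (MvPolynomial.C : MvPolynomial B A →+* MvPolynomial C (MvPolynomial B A))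
        (RingHom.ker (π₃ A B))) = Ideal.map (εmap A B C) (RingHom.ker (π₃ A B)) := by
    rw [Ideal.map_map]
    congr 1
    exact RingHom.ext fun p => eqv_symm_C A B C p
  rw [← h4]
  constructor
  · intro hz
    have h5 := Ideal.mem_map_of_mem (eqv A B C).symm.toRingHom hz
    have h6 : (eqv A B C).symm.toRingHom ((eqv A B C).toRingHom z) = z :=
      (eqv A B C).symm_apply_apply z
    rwa [h6] at h5
  · intro hz
    have h5 := Ideal.mem_map_of_mem (eqv A B C).toRingHom hz
    rw [Ideal.map_map] at h5
    have h6 : (eqv A B C).toRingHom.comp (eqv A B C).symm.toRingHom = RingHom.id _ :=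
      RingHom.ext fun w => (eqv A B C).apply_symm_apply w
    rwa [h6, Ideal.map_id] at h5

/-- the structure map `A[X_c, X_b] → C` is `qmap` followed by `B[X_c] → C` -/
lemma algebraMap_midGen (z : (midGen A B C).Ring) :
    algebraMap (midGen A B C).Ring C z =
      MvPolynomial.aeval (_root_.id : C → C) (qmap A B C z) := by
  rw [Algebra.Generators.algebraMap_apply]
  have : (MvPolynomial.aeval (midGen A B C).val : MvPolynomial (C ⊕ B) A →ₐ[A] C) =
      ((MvPolynomial.aeval (_root_.id : C → C) : MvPolynomial C B →ₐ[B] C).restrictScalars A).comp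
        (qmap A B C) := by
    refine MvPolynomial.algHom_ext fun i => ?_
    cases i with
    | inl c => simp [qmap, midGen]
    | inr b => simp [qmap, midGen]
  exact AlgHom.congr_fun this z

lemma qmap_εmap (r : MvPolynomial B A) :
    qmap A B C (εmap A B C r) = MvPolynomial.C (π₃ A B r) := by
  have : (qmap A B C).comp (εmap A B C) =
      ((Algebra.ofId B (MvPolynomial C B)).restrictScalars A).comp
        (MvPolynomial.aeval (_root_.id : B → B) : MvPolynomial B A →ₐ[A] B) := by
    refine MvPolynomial.algHom_ext fun b => ?_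
    simp [qmap, εmap, Algebra.ofId_apply, MvPolynomial.algebraMap_eq]
  exact AlgHom.congr_fun this r

/-- chosen lifts to `A[X_c, X_b]` of the elements of the kernel of `B[X_c] → C` -/
noncomputable def liftRel (t : CanonRels B C) : MvPolynomial (C ⊕ B) A :=
  Function.surjInv (qmap_surjective A B C) (t : MvPolynomial C B)

lemma qmap_liftRel (t : CanonRels B C) : qmap A B C (liftRel A B C t) = (t : MvPolynomial C B) :=
  Function.surjInv_eq (qmap_surjective A B C) _

/-- the relations of the auxiliary presentation -/
noncomputable def midRel : CanonRels A B ⊕ CanonRels B C → (midGen A B C).Ring :=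
  Sum.elim (fun r => εmap A B C (r : MvPolynomial B A)) (fun t => liftRel A B C t)

lemma mem_canonRels_iff (r : MvPolynomial B A) :
    r ∈ (Algebra.Generators.self A B).ker ↔ π₃ A B r = 0 := by
  rw [Algebra.Generators.ker_eq_ker_aeval_val, RingHom.mem_ker]
  exact Iff.rfl

lemma midRel_mem_ker (s : CanonRels A B ⊕ CanonRels B C) :
    midRel A B C s ∈ (midGen A B C).ker := by
  rw [Algebra.Generators.ker_eq_ker_aeval_val, RingHom.mem_ker,
    ← Algebra.Generators.algebraMap_apply, algebraMap_midGen]
  cases s with
  | inl r =>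
    show MvPolynomial.aeval (_root_.id : C → C) (qmap A B C (εmap A B C (r : MvPolynomial B A))) = 0
    rw [qmap_εmap, (mem_canonRels_iff A B _).mp r.2, map_zero, map_zero]
  | inr t =>
    show MvPolynomial.aeval (_root_.id : C → C) (qmap A B C (liftRel A B C t)) = 0
    rw [qmap_liftRel]
    exact (mem_canonRels_iff B C _).mp t.2

/-- **The auxiliary presentation** of `C` over `A`: variables `X_c` (`c ∈ C`) and `X_b` (`b ∈ B`);
relations: the elements of the kernel of `A[X_b] → B`, and chosen lifts of the elements of the kernel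
of `B[X_c] → C`. -/
noncomputable def midPres :
    Algebra.Presentation A C (C ⊕ B) (CanonRels A B ⊕ CanonRels B C) where
  __ := midGen A B C
  relation := midRel A B C
  span_range_relation_eq_ker := by
    refine le_antisymm (Ideal.span_le.mpr ?_) fun z hz => ?_
    · rintro _ ⟨s, rfl⟩
      exact midRel_mem_ker A B C s
    · have hz' : algebraMap (midGen A B C).Ring C z = 0 := by
        rw [Algebra.Generators.ker_eq_ker_aeval_val, RingHom.mem_ker,
          ← Algebra.Generators.algebraMap_apply] at hz
        exact hz
      rw [algebraMap_midGen] at hz'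
      let t : CanonRels B C := ⟨qmap A B C z, (mem_canonRels_iff B C _).mpr hz'⟩
      have h1 : z - liftRel A B C t ∈ RingHom.ker (qmap A B C) := by
        rw [RingHom.mem_ker, map_sub, qmap_liftRel, sub_self]
      rw [ker_qmap] at h1
      have h2 : Ideal.map (εmap A B C) (RingHom.ker (π₃ A B)) ≤
          Ideal.span (Set.range (midRel A B C)) := by
        rw [Ideal.map_le_iff_le_comap]
        intro r hr
        exact Ideal.subset_span ⟨Sum.inl ⟨r, (mem_canonRels_iff A B r).mpr hr⟩, rfl⟩
      have h3 : liftRel A B C t ∈ Ideal.span (Set.range (midRel A B C)) :=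
        Ideal.subset_span ⟨Sum.inr t, rfl⟩
      have h4 := Ideal.add_mem _ (h2 h1) h3
      rwa [sub_add_cancel] at h4

/-- `b'' : canon A B → P''`, `X_b ↦ X_b`, `e_r ↦ e_{inl r}` -/
noncomputable def bHom : PresHom (canon A B) (midPres A B C) where
  hom :=
    { val := fun b => MvPolynomial.X (Sum.inr b)
      aeval_val := fun b => by
        show MvPolynomial.aeval (midGen A B C).val (MvPolynomial.X (Sum.inr b)) = _
        rw [MvPolynomial.aeval_X]
        rfl }
  relVal r := Finsupp.single (Sum.inl r) 1
  jmap_relVal r := by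
    rw [jmap_single, one_mul]
    rfl

/-- `a'' : P'' → canon B C`, `X_c ↦ X_c`, `X_b ↦ b`, `e_{inl r} ↦ 0`, `e_{inr t} ↦ e_t` -/
noncomputable def aHom : PresHom (midPres A B C) (canon B C) where
  hom :=
    { val := Sum.elim MvPolynomial.X (fun b => MvPolynomial.C b)
      aeval_val := fun i => by
        cases i with
        | inl c =>
          show MvPolynomial.aeval (canon B C).val (MvPolynomial.X c) = _
          rw [MvPolynomial.aeval_X]
          rfl
        | inr b =>
          show MvPolynomial.aeval (canon B C).val (MvPolynomial.C b) = _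
          rw [MvPolynomial.aeval_C]
          rfl }
  relVal := Sum.elim (fun _ => 0) (fun t => Finsupp.single t 1)
  jmap_relVal s := by
    cases s with
    | inl r =>
      show jmap (canon B C) 0 = qmap A B C (εmap A B C (r : MvPolynomial B A))
      rw [map_zero, qmap_εmap, (mem_canonRels_iff A B _).mp r.2, map_zero]
      rfl
    | inr t =>
      show jmap (canon B C) (Finsupp.single t 1) = qmap A B C (liftRel A B C t)
      rw [jmap_single, one_mul, qmap_liftRel]
      rfl

/-- the generator part of `ρ'' : canon A C → P''`, `X_c ↦ X_c` -/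
noncomputable def ρGen : Algebra.Generators.Hom (canon A C).toGenerators (midPres A B C).toGenerators where
  val := fun c => MvPolynomial.X (Sum.inl c)
  aeval_val := fun c => by
    show MvPolynomial.aeval (midGen A B C).val (MvPolynomial.X (Sum.inl c)) = _
    rw [MvPolynomial.aeval_X]
    rfl

lemma exists_ρrel (r : CanonRels A C) :
    ∃ x : relMod (midPres A B C), jmap (midPres A B C) x =
      (ρGen A B C).toExtensionHom.toRingHom (rel (canon A C) r) := by
  have h1 := (ρGen A B C).toExtensionHom.algebraMap_toRingHom (rel (canon A C) r)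
  rw [algebraMap_rel, map_zero] at h1
  have h2 : (ρGen A B C).toExtensionHom.toRingHom (rel (canon A C) r) ∈
      LinearMap.range (jmap (midPres A B C)) := by
    rw [range_jmap]
    exact h1
  exact h2

/-- `ρ'' : canon A C → P''`, `X_c ↦ X_c`; the relations go to chosen preimages under `jmap` -/
noncomputable def ρHom : PresHom (canon A C) (midPres A B C) where
  hom := ρGen A B C
  relVal r := (exists_ρrel A B C r).choose
  jmap_relVal r := (exists_ρrel A B C r).choose_spec

/-- the generator part of `π'' : P'' → canon A C`, `X_c ↦ X_c`, `X_b ↦ X_{b̄}` -/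
noncomputable def πGen : Algebra.Generators.Hom (midPres A B C).toGenerators (canon A C).toGenerators where
  val := Sum.elim MvPolynomial.X (fun b => MvPolynomial.X (algebraMap B C b))
  aeval_val := fun i => by
    cases i with
    | inl c =>
      show MvPolynomial.aeval (canon A C).val (MvPolynomial.X c) = _
      rw [MvPolynomial.aeval_X]
      rfl
    | inr b =>
      show MvPolynomial.aeval (canon A C).val (MvPolynomial.X (algebraMap B C b)) = _
      rw [MvPolynomial.aeval_X]
      rfl

lemma πrel_mem (s : CanonRels A B ⊕ CanonRels B C) :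
    (πGen A B C).toExtensionHom.toRingHom (rel (midPres A B C) s) ∈
      (Algebra.Generators.self A C).ker := by
  have h1 := (πGen A B C).toExtensionHom.algebraMap_toRingHom (rel (midPres A B C) s)
  rw [algebraMap_rel, map_zero] at h1
  exact h1

/-- `π'' : P'' → canon A C`; each relation goes to the basis vector of its image -/
noncomputable def πHom : PresHom (midPres A B C) (canon A C) where
  hom := πGen A B C
  relVal s := Finsupp.single ⟨_, πrel_mem A B C s⟩ 1
  jmap_relVal s := by
    rw [jmap_single, one_mul]
    rfl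

end concrete

/-! ## The packages about the auxiliary presentation -/

/-- PKG-E01: in degrees `0` and `1` the dual complexes of `canon B C`, `P''`, `canon A B` form a short
exact sequence `0 → Hom(L_j(C/B), M) → Hom(L_j(P''), M) → Hom_B(L_j(B/A), M) → 0` (the `L_j` are free
on the variables, resp. on the relation indices, and `a''`, `b''` are given on these bases by
`X_c ↦ X_c, X_b ↦ b`, resp. `e_{inl r} ↦ 0, e_{inr t} ↦ e_t`, and `X_b ↦ X_b`, `e_r ↦ e_{inl r}`). -/
def PkgE01 : Prop :=
  ∀ (A B C : Type u) [CommRing A] [CommRing B] [CommRing C] [Algebra A B] [Algebra B C]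
    [Algebra A C] [IsScalarTower A B C]
    (M : Type u) [AddCommGroup M] [Module C M] [Module B M] [IsScalarTower B C M],
    (Injective ((aHom A B C).pull0 M) ∧
      (∀ y, (bHom A B C).pull0 M y = 0 ↔ ∃ x, (aHom A B C).pull0 M x = y) ∧
      Surjective ((bHom A B C).pull0 M)) ∧
    (Injective ((aHom A B C).pull1 M) ∧
      (∀ y, (bHom A B C).pull1 M y = 0 ↔ ∃ x, (aHom A B C).pull1 M x = y) ∧
      Surjective ((bHom A B C).pull1 M))

/-- PKG-E2: in degree `2` the sequence is left exact:
`0 → Hom(L₂(C/B), M) → Hom(L₂(P''), M) → Hom_B(L₂(B/A), M)`. -/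
def PkgE2 : Prop :=
  ∀ (A B C : Type u) [CommRing A] [CommRing B] [CommRing C] [Algebra A B] [Algebra B C]
    [Algebra A C] [IsScalarTower A B C]
    (M : Type u) [AddCommGroup M] [Module C M] [Module B M] [IsScalarTower B C M],
    Injective ((aHom A B C).pull2 M) ∧
      (∀ y, (bHom A B C).pull2 M y = 0 ↔ ∃ x, (aHom A B C).pull2 M x = y)

/-- PKG-Ring: the ring-level identities between the canonical morphisms and those of `P''`, and formal
smoothness of `A[X_c, X_b]` over `A[X_c]`. -/
def PkgRing : Prop :=
  ∀ (A B C : Type u) [CommRing A] [CommRing B] [CommRing C] [Algebra A B] [Algebra B C]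
    [Algebra A C] [IsScalarTower A B C],
    (∀ x, (canonHom A C B C).ringHom x = (aHom A B C).ringHom ((ρHom A B C).ringHom x)) ∧
    (∀ x, (canonHom A B A C).ringHom x = (πHom A B C).ringHom ((bHom A B C).ringHom x)) ∧
    (∀ x, (πHom A B C).ringHom ((ρHom A B C).ringHom x) = x) ∧
    @Algebra.FormallySmooth (canon A C).toExtension.Ring (midPres A B C).toExtension.Ring _ _
      (ρHom A B C).ringHom.toAlgebra

section dummy

end dummy

end Groth.Agent.R2.H56.NineSpec
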