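import Groth.Agent.R2.H56CIT1
import Groth.Agent.R2.H56NineSpecB

/-!
# PROJ:nine-term, PKG-E2: left exactness in degree 2
-/

set_option autoImplicit false
set_option linter.unusedSectionVars false
set_option linter.style.haveILetI false
set_option linter.unusedSimpArgs false
universe u v w t t' m

open TensorProduct

namespace Groth.Agent.R2.H56.NineE2

open Groth.Agent.Lib.Helper19.Kos Groth.Agent.R2.H56.CIT1

section abs

variable {R : Type u} {A : Type v} {B : Type w} [CommRing R] [CommRing A] [CommRing B]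
  [Algebra R A] [Algebra A B] [Algebra R B] [IsScalarTower R A B]
  {σ : Type t} {τ : Type t'} {f : σ → R} {g : τ → A} {gt : τ → R}
  (hf : ∀ s, algebraMap R A (f s) = 0) (hg : ∀ s, algebraMap A B (g s) = 0)
  (hgt : ∀ s, algebraMap R A (gt s) = g s)
  (hπ : Function.Surjective (algebraMap R A))
  (hspan : ∀ z : R, algebraMap R A z = 0 → ∃ x, jm R f x = z)

variable {M : Type m} [AddCommGroup M] [Module B M] [Module A M] [IsScalarTower A B M]
  [Module R M] [IsScalarTower R A M] [IsScalarTower R B M]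

/-- `inlF a` is a relation of `f'` when `a` is a relation of `f` -/
lemma inlF_mem_Q {a : σ →₀ R} (ha : a ∈ Q R f) : inlF (τ := τ) a ∈ Q R (f' f gt) := by
  rw [mem_Q, jm_inlF]
  exact (mem_Q R f _).mp ha

include hf hgt hπ hspan in
/-- a functional on `L₂(A → B, g)` is determined by its pull-back to `Q(f')` -/
theorem at2_eq_of_pull_eq (ψ ψ' : L2 A B g →ₗ[B] M)
    (h : ∀ x : Q R (f' f gt),
      at2 ψ (τQ (algebraMap R A) (v₂ (σ := σ) (τ := τ)) (hv₂ hf hgt) x) =
      at2 ψ' (τQ (algebraMap R A) (v₂ (σ := σ) (τ := τ)) (hv₂ hf hgt) x)) : ψ = ψ' := by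
  apply L2_ext
  intro y
  obtain ⟨x, rfl⟩ := τQ_v₂_surjective hf hgt hπ hspan y
  exact h x

include hf hg hgt hπ hspan in
/-- a functional on `L₂(R → B, f')` vanishing on the relations of `f` descends to `L₂(A → B, g)` -/
theorem exists_descend_L2 (y : L2 R B (f' f gt) →ₗ[B] M)
    (hy : ∀ (a : σ →₀ R) (ha : a ∈ Q R f), at2 y ⟨inlF a, inlF_mem_Q ha⟩ = 0) :
    ∃ x : L2 A B g →ₗ[B] M, ∀ q : Q R (f' f gt),
      at2 x (τQ (algebraMap R A) (v₂ (σ := σ) (τ := τ)) (hv₂ hf hgt) q) = at2 y q := by
  have hf'' := hf' f g gt hf hg hgt (B := B)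
  let p : Q R (f' f gt) →ₛₗ[algebraMap R A] Q A g :=
    τQ (algebraMap R A) (v₂ (σ := σ) (τ := τ)) (hv₂ hf hgt)
  have hker : ∀ x : Q R (f' f gt), p x = 0 → at2 y x = 0 := by
    intro x hx
    have hx0 : τF (algebraMap R A) (v₂ (σ := σ) (τ := τ)) (x : σ ⊕ τ →₀ R) = 0 :=
      congrArg Subtype.val hx
    obtain ⟨a', ha', K, hK, hxe⟩ := exists_decomp_of_proj_eq_zero hspan _ x.2 hx0
    have hxe' : x = ⟨_, inlF_mem_Q (gt := gt) ha'⟩ + ⟨K, F0_le_Q R _ hK⟩ := Subtype.ext hxe
    rw [hxe', map_add, hy a' ha', zero_add]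
    exact at2_of_mem_F0 hf'' y _ hK
  obtain ⟨ψA, hψA⟩ := exists_descend (X := Q R (f' f gt)) (Y := Q A g) (M := M) hπ p
    (τQ_v₂_surjective hf hgt hπ hspan) (at2 y) hker
  have hψA0 : ∀ z : Q A g, (z : τ →₀ A) ∈ F0 A g → ψA z = 0 := by
    intro z hz
    obtain ⟨x, hx, hxy⟩ := exists_mem_F0_lift (σ := σ) (f := f) hf hgt hπ _ hz
    have h7 : z = p ⟨x, F0_le_Q R _ hx⟩ := Subtype.ext hxy.symm
    rw [h7, hψA]
    exact at2_of_mem_F0 hf'' y _ hx
  refine ⟨lift2 (B := B) ψA hψA0, fun q => ?_⟩
  rw [at2_lift2]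
  exact hψA q

include hf hg hgt hπ hspan in
/-- **PKG-E2, abstract form**: `pullA` is any map computing the pull-back along the projection on
representatives; `S₀` a set of relations of `f` spanning all of them. -/
theorem abstract_E2
    (pullA : (L2 A B g →ₗ[B] M) → (L2 R B (f' f gt) →ₗ[B] M))
    (keyA : ∀ (x : L2 A B g →ₗ[B] M) (q : Q R (f' f gt)),
      at2 (pullA x) q = at2 x (τQ (algebraMap R A) (v₂ (σ := σ) (τ := τ)) (hv₂ hf hgt) q))
    (S₀ : Set (σ →₀ R)) (hS₀ : S₀ ⊆ Q R f) (hsp : Q R f ≤ Submodule.span R S₀) :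
    Function.Injective pullA ∧
      ∀ y : L2 R B (f' f gt) →ₗ[B] M,
        (∀ (a : σ →₀ R) (ha : a ∈ S₀), at2 y ⟨inlF a, inlF_mem_Q (gt := gt) (hS₀ ha)⟩ = 0) ↔
          ∃ x, pullA x = y := by
  constructor
  · intro x x' hxx
    refine at2_eq_of_pull_eq hf hgt hπ hspan x x' fun q => ?_
    rw [← keyA, ← keyA, hxx]
  · intro y
    constructor
    · intro hy
      let u : Q R f →ₗ[R] Q R (f' f gt) := τQ (RingHom.id R) (v₁ (τ := τ)) (hv₁ f gt)
      have hu : ∀ (a : σ →₀ R) (ha : a ∈ Q R f),
          u ⟨a, ha⟩ = ⟨inlF a, inlF_mem_Q (gt := gt) ha⟩ := fun a ha => Subtype.ext (τF_v₁ a)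
      let Φ : Q R f →ₗ[R] M := (at2 y) ∘ₗ u
      have hΦ : ∀ (a : σ →₀ R) (ha : a ∈ Q R f), Φ ⟨a, ha⟩ = 0 := by
        intro a ha
        have hsp' := hsp ha
        induction hsp' using Submodule.span_induction with
        | mem a ha' =>
          show at2 y (u ⟨a, ha⟩) = 0
          rw [hu]
          exact hy a ha'
        | zero =>
          have : (⟨0, ha⟩ : Q R f) = 0 := rfl
          rw [this, map_zero]
        | add a b ha' hb' iha ihb =>
          have haQ : a ∈ Q R f := Submodule.span_le.mpr hS₀ ha'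
          have hbQ : b ∈ Q R f := Submodule.span_le.mpr hS₀ hb'
          have : (⟨a + b, ha⟩ : Q R f) = ⟨a, haQ⟩ + ⟨b, hbQ⟩ := rfl
          rw [this, map_add, iha haQ, ihb hbQ, add_zero]
        | smul c a ha' iha =>
          have haQ : a ∈ Q R f := Submodule.span_le.mpr hS₀ ha'
          have : (⟨c • a, ha⟩ : Q R f) = c • ⟨a, haQ⟩ := rfl
          rw [this, map_smul, iha haQ, smul_zero]
      have hy0 : ∀ (a : σ →₀ R) (ha : a ∈ Q R f),
          at2 y ⟨inlF a, inlF_mem_Q (gt := gt) ha⟩ = 0 := by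
        intro a ha
        rw [← hu a ha]
        exact hΦ a ha
      obtain ⟨x, hx⟩ := exists_descend_L2 hf hg hgt hπ hspan y hy0
      refine ⟨x, ?_⟩
      apply L2_ext
      intro q
      rw [keyA, hx]
    · rintro ⟨x, rfl⟩ a ha
      rw [keyA]
      have h0 : τQ (algebraMap R A) (v₂ (σ := σ) (τ := τ)) (hv₂ hf hgt)
          ⟨inlF a, inlF_mem_Q (gt := gt) (hS₀ ha)⟩ = 0 := Subtype.ext (τF_v₂_inlF a)
      rw [h0, map_zero]

end abs

section free

variable {R₀ : Type u} {R : Type v} [CommRing R₀] [CommRing R] (ε : R₀ →+* R)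
  {K : Type w} (κ : K → R →+ R₀) (z : K → R)
  {σ : Type t} (f₀ : σ → R₀)

/-- relations over a "free" extension `R` of `R₀` among elements coming from `R₀` are `R`-linear
combinations of relations over `R₀` -/
theorem Q_le_span_of_coordinates
    (hκ : ∀ k r x, κ k (ε r * x) = r * κ k x)
    (hrec : ∀ x : R, ∃ S : Finset K, (∀ k, k ∉ S → κ k x = 0) ∧
      x = ∑ k ∈ S, z k * ε (κ k x)) :
    Q R (fun s => ε (f₀ s)) ≤
      Submodule.span R ((fun a₀ : σ →₀ R₀ => Finsupp.mapRange ε (map_zero _) a₀) '' (Q R₀ f₀)) := by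
  classical
  intro a ha
  -- the coordinates of `a`
  let c : K → (σ →₀ R₀) := fun k => Finsupp.mapRange (κ k) (map_zero _) a
  have hc : ∀ k, c k ∈ Q R₀ f₀ := by
    intro k
    rw [mem_Q]
    have key : ∀ b : σ →₀ R, jm R₀ f₀ (Finsupp.mapRange (κ k) (map_zero _) b) =
        κ k (jm R (fun s => ε (f₀ s)) b) := by
      intro b
      induction b using Finsupp.induction_linear with
      | zero => simp
      | add x y hx hy =>
        rw [Finsupp.mapRange_add (map_add _), map_add, map_add, map_add, hx, hy]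
      | single s r =>
        rw [Finsupp.mapRange_single, jm_single, jm_single, mul_comm r, hκ, mul_comm]
    show jm R₀ f₀ (Finsupp.mapRange (κ k) (map_zero _) a) = 0
    rw [key a, (mem_Q R _ a).mp ha, map_zero]
  -- a finite set of indices
  choose S hS0 hS using hrec
  let T : Finset K := a.support.biUnion (fun s => S (a s))
  have hdec : a = ∑ k ∈ T, z k • Finsupp.mapRange ε (map_zero _) (c k) := by
    ext s
    rw [Finsupp.finsetSum_apply]
    simp only [Finsupp.smul_apply, Finsupp.mapRange_apply, smul_eq_mul, c]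
    by_cases hs : s ∈ a.support
    · have hsub : S (a s) ⊆ T := Finset.subset_biUnion_of_mem (fun s => S (a s)) hs
      rw [← Finset.sum_subset hsub (fun k _ hk => by rw [hS0 (a s) k hk, map_zero, mul_zero])]
      exact hS (a s)
    · have h0 : a s = 0 := Finsupp.notMem_support_iff.mp hs
      rw [h0]
      simp
  rw [hdec]
  refine Submodule.sum_mem _ fun k _ => Submodule.smul_mem _ _ (Submodule.subset_span ?_)
  exact ⟨c k, hc k, rfl⟩

end free

section poly

open Groth.Agent.R2.H56.NineSpec CotT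

variable (A B C : Type u) [CommRing A] [CommRing B] [CommRing C] [Algebra A B] [Algebra B C]
  [Algebra A C] [IsScalarTower A B C]

lemma eqv_εmap (r : MvPolynomial B A) : eqv A B C (εmap A B C r) = MvPolynomial.C r := by
  rw [← eqv_symm_C, RingEquiv.apply_symm_apply]

/-- the coefficient maps `A[X_c, X_b] → A[X_b]` -/
noncomputable def κc (m : C →₀ ℕ) : MvPolynomial (C ⊕ B) A →+ MvPolynomial B A where
  toFun x := MvPolynomial.coeff m (eqv A B C x)
  map_zero' := by rw [map_zero, MvPolynomial.coeff_zero]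
  map_add' x y := by rw [map_add, MvPolynomial.coeff_add]

/-- relations over `A[X_c, X_b]` among the images of elements of `A[X_b]` come from relations over
`A[X_b]` -/
theorem Q_le_span_εmap {σ : Type t} (f₀ : σ → MvPolynomial B A) :
    Q (MvPolynomial (C ⊕ B) A) (fun s => εmap A B C (f₀ s)) ≤
      Submodule.span (MvPolynomial (C ⊕ B) A)
        ((fun a₀ : σ →₀ MvPolynomial B A =>
          Finsupp.mapRange (εmap A B C : MvPolynomial B A →+* _) (map_zero _) a₀) ''
            (Q (MvPolynomial B A) f₀)) := by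
  refine Q_le_span_of_coordinates (εmap A B C : MvPolynomial B A →+* _) (κc A B C)
    (fun m => (eqv A B C).symm (MvPolynomial.monomial m 1)) f₀ ?_ ?_
  · intro m r x
    show MvPolynomial.coeff m (eqv A B C (εmap A B C r * x)) = r * MvPolynomial.coeff m (eqv A B C x)
    rw [map_mul, eqv_εmap, MvPolynomial.coeff_C_mul]
  · intro x
    refine ⟨(eqv A B C x).support, fun m hm => ?_, ?_⟩
    · exact MvPolynomial.notMem_support_iff.mp hm
    · apply (eqv A B C).injective
      rw [map_sum]
      conv_lhs => rw [← MvPolynomial.support_sum_monomial_coeff (eqv A B C x)]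
      refine Finset.sum_congr rfl fun m _ => ?_
      rw [map_mul, RingEquiv.apply_symm_apply]
      show _ = _ * eqv A B C (εmap A B C (MvPolynomial.coeff m (eqv A B C x)))
      rw [eqv_εmap, mul_comm, MvPolynomial.C_mul_monomial, mul_one]

/-- the kernel of `qmap` consists of linear combinations of the `εmap r`, `r` in the kernel of
`A[X_b] → B` -/
theorem exists_jm_of_qmap_eq_zero (z : MvPolynomial (C ⊕ B) A) (hz : qmap A B C z = 0) :
    ∃ x : CanonRels A B →₀ MvPolynomial (C ⊕ B) A,
      jm (MvPolynomial (C ⊕ B) A) (fun r : CanonRels A B => εmap A B C (r : MvPolynomial B A)) x =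
        z := by
  have h1 : z ∈ RingHom.ker (qmap A B C) := hz
  rw [ker_qmap] at h1
  have h1' : z ∈ Ideal.span ((εmap A B C) '' (RingHom.ker (π₃ A B) : Set (MvPolynomial B A))) := h1
  have h2 : (εmap A B C) '' (RingHom.ker (π₃ A B) : Set (MvPolynomial B A)) ⊆
      Set.range (fun r : CanonRels A B => εmap A B C (r : MvPolynomial B A)) := by
    rintro _ ⟨r, hr, rfl⟩
    exact ⟨⟨r, (mem_canonRels_iff A B r).mpr hr⟩, rfl⟩
  have h3 := Ideal.span_mono h2 h1'
  have h4 : LinearMap.range (jm (MvPolynomial (C ⊕ B) A)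
      (fun r : CanonRels A B => εmap A B C (r : MvPolynomial B A))) =
      Ideal.span (Set.range (fun r : CanonRels A B => εmap A B C (r : MvPolynomial B A))) := by
    rw [jm, Finsupp.range_linearCombination]
  rw [← h4] at h3
  exact h3

end poly

section final

open Groth.Agent.R2.H56.NineSpec CotT

variable (A B C : Type u) [CommRing A] [CommRing B] [CommRing C] [Algebra A B] [Algebra B C]
  [Algebra A C] [IsScalarTower A B C]

/-- the ring of the auxiliary presentation -/
abbrev Rmid : Type u := (midPres A B C).toExtension.Ring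

/-- the ring of the canonical presentation of `C` over `B` -/
abbrev Rcb : Type u := (canon B C).toExtension.Ring

/-- `R2` as an algebra over `R1` through `qmap` -/
@[reducible] noncomputable def algq : Algebra (Rmid A B C) (Rcb B C) :=
  (aHom A B C).ringHom.toAlgebra

lemma towerq : letI := algq A B C; IsScalarTower (Rmid A B C) (Rcb B C) C := by
  letI := algq A B C
  refine IsScalarTower.of_algebraMap_eq fun z => ?_
  exact ((aHom A B C).algebraMap_ringHom z).symm

/-- the `σ`-part of the relations of `P''` -/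
noncomputable def fσ : CanonRels A B → Rmid A B C := fun r => εmap A B C (r : MvPolynomial B A)

lemma rel_midPres : CotT.rel (midPres A B C) = f' (fσ A B C) (liftRel A B C) := rfl

end final

section final2

open Groth.Agent.R2.H56.NineSpec CotT

variable (A B C : Type u) [CommRing A] [CommRing B] [CommRing C] [Algebra A B] [Algebra B C]
  [Algebra A C] [IsScalarTower A B C]
  (M : Type u) [AddCommGroup M] [Module C M] [Module B M] [IsScalarTower B C M]

/-- `b''` on the free modules of relations -/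
lemma bHom_relModMap (a₀ : relMod (canon A B)) :
    (bHom A B C).relModMap a₀ =
      inlF (R := Rmid A B C) (τ := CanonRels B C)
        (Finsupp.mapRange (bHom A B C).ringHom (map_zero _) a₀) := by
  induction a₀ using Finsupp.induction_linear with
  | zero =>
    rw [map_zero, Finsupp.mapRange_zero, map_zero]
  | add x y hx hy => rw [map_add, hx, hy, Finsupp.mapRange_add (map_add _), map_add]
  | single r c =>
    rw [PresHom.relModMap_single, Finsupp.mapRange_single, inlF_single]
    show (bHom A B C).ringHom c • Finsupp.single (Sum.inl r) (1 : Rmid A B C) = _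
    rw [Finsupp.smul_single, smul_eq_mul, mul_one]

lemma aHom_ringHom_apply (z : Rmid A B C) : (aHom A B C).ringHom z = qmap A B C z := rfl

lemma bHom_ringHom_apply (r : (canon A B).toExtension.Ring) :
    (bHom A B C).ringHom r = εmap A B C r := rfl

/-- `a''` on the relation modules is the projection `τQ` of `H56CIT1` -/
lemma aHom_relModMap (x : relMod (midPres A B C)) :
    letI := algq A B C
    (aHom A B C).relModMap x =
      τF (algebraMap (Rmid A B C) (Rcb B C)) (v₂ (σ := CanonRels A B) (τ := CanonRels B C)) x := by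
  rfl


/-- the bridge for `b''`: values of the pulled-back functional on representatives -/
lemma at2_bHom_pull2 (y : CotT.L2 (midPres A B C) →ₗ[C] M)
    (q₃ : relKer (canon A B)) :
    ((bHom A B C).pull2 M y) (Submodule.Quotient.mk ((1 : B) ⊗ₜ q₃)) =
      y (Submodule.Quotient.mk ((1 : C) ⊗ₜ ((bHom A B C).relKerMap q₃))) := by
  have h1 : ((bHom A B C).pull2 M y) (Submodule.Quotient.mk ((1 : B) ⊗ₜ q₃)) =
      y (Submodule.Quotient.mk ((algebraMap B C 1) ⊗ₜ ((bHom A B C).relKerMap q₃))) := rfl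
  rw [h1, map_one]

/-- **PKG-E2.** -/
theorem pkgE2 : PkgE2.{u} := by
  intro A B C _ _ _ _ _ _ _ M _ _ _ _
  letI := algq A B C
  haveI : IsScalarTower (Rmid A B C) (Rcb B C) C := towerq A B C
  letI : Module (Rcb B C) M := Module.compHom M (algebraMap (Rcb B C) C)
  haveI : IsScalarTower (Rcb B C) C M := IsScalarTower.of_compHom _ _ _
  letI : Module (Rmid A B C) M := Module.compHom M (algebraMap (Rmid A B C) C)
  haveI : IsScalarTower (Rmid A B C) C M := IsScalarTower.of_compHom _ _ _
  haveI : IsScalarTower (Rmid A B C) (Rcb B C) M := IsScalarTower.of_algebraMap_smul fun r m => by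
    show algebraMap (Rcb B C) C (algebraMap (Rmid A B C) (Rcb B C) r) • m =
      algebraMap (Rmid A B C) C r • m
    rw [← IsScalarTower.algebraMap_apply]
  letI : Module (canon A B).toExtension.Ring M :=
    Module.compHom M (algebraMap (canon A B).toExtension.Ring B)
  haveI : IsScalarTower (canon A B).toExtension.Ring B M := IsScalarTower.of_compHom _ _ _
  -- the data of `H56CIT1`
  have hf : ∀ r, algebraMap (Rmid A B C) (Rcb B C) (fσ A B C r) = 0 := by
    intro r
    show qmap A B C (εmap A B C (r : MvPolynomial B A)) = 0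
    rw [qmap_εmap, (mem_canonRels_iff A B _).mp r.2, map_zero]
  have hg : ∀ t, algebraMap (Rcb B C) C (CotT.rel (canon B C) t) = 0 :=
    CotT.algebraMap_rel (canon B C)
  have hgt : ∀ t, algebraMap (Rmid A B C) (Rcb B C) (liftRel A B C t) = CotT.rel (canon B C) t :=
    fun t => qmap_liftRel A B C t
  have hπ : Function.Surjective (algebraMap (Rmid A B C) (Rcb B C)) := qmap_surjective A B C
  have hspan : ∀ z : Rmid A B C, algebraMap (Rmid A B C) (Rcb B C) z = 0 →
      ∃ x, jm (Rmid A B C) (fσ A B C) x = z := fun z hz => exists_jm_of_qmap_eq_zero A B C z hz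
  have keyA : ∀ (x : L2 (Rcb B C) C (CotT.rel (canon B C)) →ₗ[C] M)
      (q : Q (Rmid A B C) (f' (fσ A B C) (liftRel A B C))),
      at2 ((aHom A B C).pull2 M x) q =
        at2 x (τQ (algebraMap (Rmid A B C) (Rcb B C))
          (v₂ (σ := CanonRels A B) (τ := CanonRels B C)) (hv₂ hf hgt) q) := fun x q => rfl
  let S₀ : Set (CanonRels A B →₀ Rmid A B C) :=
    (fun a₀ : relMod (canon A B) => Finsupp.mapRange (bHom A B C).ringHom (map_zero _) a₀) ''
      (relKer (canon A B) : Set (relMod (canon A B)))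
  have hS₀ : S₀ ⊆ Q (Rmid A B C) (fσ A B C) := by
    rintro _ ⟨a₀, ha₀, rfl⟩
    have h1 : (bHom A B C).relModMap a₀ ∈ relKer (midPres A B C) :=
      ((bHom A B C).relKerMap ⟨a₀, ha₀⟩).2
    rw [bHom_relModMap] at h1
    have h2 := (mem_Q (Rmid A B C) (f' (fσ A B C) (liftRel A B C)) _).mp h1
    exact (mem_Q _ _ _).mpr ((jm_inlF (fσ A B C) (liftRel A B C) _).symm.trans h2)
  have hsp : Q (Rmid A B C) (fσ A B C) ≤ Submodule.span (Rmid A B C) S₀ :=
    Q_le_span_εmap A B C (fun r : CanonRels A B => (r : MvPolynomial B A))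
  obtain ⟨hinj, hex⟩ := abstract_E2 hf hg hgt hπ hspan (fun x => (aHom A B C).pull2 M x) keyA
    S₀ hS₀ hsp
  refine ⟨hinj, fun y => Iff.trans ?_ (hex y)⟩
  have hrel : ∀ (a₀ : relMod (canon A B)) (ha₀ : a₀ ∈ relKer (canon A B)),
      (bHom A B C).relKerMap ⟨a₀, ha₀⟩ =
        (⟨inlF (Finsupp.mapRange (bHom A B C).ringHom (map_zero _) a₀),
          inlF_mem_Q (gt := liftRel A B C) (hS₀ ⟨a₀, ha₀, rfl⟩)⟩ :
          Q (Rmid A B C) (f' (fσ A B C) (liftRel A B C))) :=
    fun a₀ ha₀ => Subtype.ext (bHom_relModMap A B C a₀)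
  constructor
  · rintro hy _ ⟨a₀, ha₀, rfl⟩
    have h5 := at2_bHom_pull2 A B C M y ⟨a₀, ha₀⟩
    have h6 : ((bHom A B C).pull2 M y) (Submodule.Quotient.mk ((1 : B) ⊗ₜ ⟨a₀, ha₀⟩)) = 0 :=
      LinearMap.congr_fun hy _
    have h7 := congrArg (fun q => y (Submodule.Quotient.mk ((1 : C) ⊗ₜ q))) (hrel a₀ ha₀)
    exact h7.symm.trans (h5.symm.trans h6)
  · intro hy
    apply L2_ext (S := (canon A B).toExtension.Ring) (B := B) (f := CotT.rel (canon A B))
    intro q₃
    have h5 := at2_bHom_pull2 A B C M y q₃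
    have h6 := hy _ ⟨(q₃ : relMod (canon A B)), q₃.2, rfl⟩
    have h7 := congrArg (fun q => y (Submodule.Quotient.mk ((1 : C) ⊗ₜ q)))
      (hrel (q₃ : relMod (canon A B)) q₃.2)
    exact h5.trans (h7.trans h6)

end final2

end Groth.Agent.R2.H56.NineE2
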