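import Mathlib
import Groth.Prelude.Def_CotT2

/-!
# PROJ:nine-term (S12285): interface, part A (packages that only need Mathlib / the Prelude)

S12285 = the nine-term transitivity sequence of the `Tⁱ` for `A → B → C`, for the canonical
presentations.  Plan: (1) an auxiliary presentation `P''` of `C` over `A` on the variables of `C` and of
`B`, with relations those of `B/A` and lifts of those of `C/B` (part B of the interface), for which the
three dual complexes form a short exact sequence (left exact in degree 2), hence a nine-term sequence by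
`PkgLES`; (2) comparison of `P''` with the canonical presentation of `C` over `A`
(`PkgCPre*`, `PkgCPost*`, `PkgId*`, `PkgInv01`, `PkgR2`).
-/

set_option autoImplicit false
universe u

open CotT Function

namespace Groth.Agent.R2.H56.NineSpec

/-- PKG-LES: the nine-term cohomology sequence of a short exact sequence (only left exact in degree 2)
of three-term cochain complexes of abelian groups `K1 → K2 → K3`.  The cohomology groups are given
abstractly: `Hj0` with an injection onto the `0`-cocycles, `Hj1` as a quotient of the `1`-cocycles by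
the coboundaries, `Hj2` as a quotient of `Kj2` by the coboundaries; the induced maps are given by their
values on representatives. -/
def PkgLES : Prop :=
  ∀ (K10 K11 K12 K20 K21 K22 K30 K31 K32 : Type u)
    [AddCommGroup K10] [AddCommGroup K11] [AddCommGroup K12]
    [AddCommGroup K20] [AddCommGroup K21] [AddCommGroup K22]
    [AddCommGroup K30] [AddCommGroup K31] [AddCommGroup K32]
    (d10 : K10 →+ K11) (d11 : K11 →+ K12) (d20 : K20 →+ K21) (d21 : K21 →+ K22)
    (d30 : K30 →+ K31) (d31 : K31 →+ K32)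
    (_ : ∀ x, d11 (d10 x) = 0) (_ : ∀ x, d21 (d20 x) = 0) (_ : ∀ x, d31 (d30 x) = 0)
    (α0 : K10 →+ K20) (α1 : K11 →+ K21) (α2 : K12 →+ K22)
    (β0 : K20 →+ K30) (β1 : K21 →+ K31) (β2 : K22 →+ K32)
    (_ : ∀ x, α1 (d10 x) = d20 (α0 x)) (_ : ∀ x, α2 (d11 x) = d21 (α1 x))
    (_ : ∀ x, β1 (d20 x) = d30 (β0 x)) (_ : ∀ x, β2 (d21 x) = d31 (β1 x))
    (_ : Injective α0) (_ : Injective α1) (_ : Injective α2)
    (_ : ∀ y, β0 y = 0 ↔ ∃ x, α0 x = y) (_ : ∀ y, β1 y = 0 ↔ ∃ x, α1 x = y)
    (_ : ∀ y, β2 y = 0 ↔ ∃ x, α2 x = y)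
    (_ : Surjective β0) (_ : Surjective β1)
    -- the cohomology groups
    (H10 H11 H12 H20 H21 H22 H30 H31 H32 : Type u)
    [AddCommGroup H10] [AddCommGroup H11] [AddCommGroup H12]
    [AddCommGroup H20] [AddCommGroup H21] [AddCommGroup H22]
    [AddCommGroup H30] [AddCommGroup H31] [AddCommGroup H32]
    (i1 : H10 →+ K10) (i2 : H20 →+ K20) (i3 : H30 →+ K30)
    (_ : Injective i1) (_ : Injective i2) (_ : Injective i3)
    (_ : ∀ x, d10 x = 0 ↔ ∃ h, i1 h = x) (_ : ∀ x, d20 x = 0 ↔ ∃ h, i2 h = x)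
    (_ : ∀ x, d30 x = 0 ↔ ∃ h, i3 h = x)
    (c1 : d11.ker →+ H11) (c2 : d21.ker →+ H21) (c3 : d31.ker →+ H31)
    (_ : Surjective c1) (_ : Surjective c2) (_ : Surjective c3)
    (_ : ∀ x : d11.ker, c1 x = 0 ↔ ∃ w, d10 w = (x : K11))
    (_ : ∀ x : d21.ker, c2 x = 0 ↔ ∃ w, d20 w = (x : K21))
    (_ : ∀ x : d31.ker, c3 x = 0 ↔ ∃ w, d30 w = (x : K31))
    (q1 : K12 →+ H12) (q2 : K22 →+ H22) (q3 : K32 →+ H32)
    (_ : Surjective q1) (_ : Surjective q2) (_ : Surjective q3)
    (_ : ∀ x, q1 x = 0 ↔ ∃ w, d11 w = x) (_ : ∀ x, q2 x = 0 ↔ ∃ w, d21 w = x)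
    (_ : ∀ x, q3 x = 0 ↔ ∃ w, d31 w = x)
    -- the induced maps
    (a0 : H10 →+ H20) (b0 : H20 →+ H30) (a1 : H11 →+ H21) (b1 : H21 →+ H31)
    (a2 : H12 →+ H22) (b2 : H22 →+ H32)
    (_ : ∀ h, i2 (a0 h) = α0 (i1 h)) (_ : ∀ h, i3 (b0 h) = β0 (i2 h))
    (_ : ∀ (x : d11.ker) (y : d21.ker), (y : K21) = α1 (x : K11) → a1 (c1 x) = c2 y)
    (_ : ∀ (x : d21.ker) (y : d31.ker), (y : K31) = β1 (x : K21) → b1 (c2 x) = c3 y)
    (_ : ∀ x, a2 (q1 x) = q2 (α2 x)) (_ : ∀ x, b2 (q2 x) = q3 (β2 x)),
    Injective a0 ∧ Exact a0 b0 ∧ Exact a1 b1 ∧ Exact a2 b2 ∧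
      ∃ (δ0 : H30 →+ H11) (δ1 : H31 →+ H12),
        Exact b0 δ0 ∧ Exact δ0 a1 ∧ Exact b1 δ1 ∧ Exact δ1 a2

/-! ## Functoriality of the pull-back maps (Prelude `CotT.PresHom`) -/

/-- PKG-CPre (i = 0,1,2): pull-back along `k : P → P'` equals pull-back along `h' : P₁ → P'`
followed by pull-back along `h : P → P₁` (a morphism over the IDENTITY square of `A → B`), as soon as
the ring maps compose: `k.ringHom = h'.ringHom ∘ h.ringHom`.  No hypothesis on the `relVal`s (so this
contains: the maps on `Tⁱ` depend only on the ring map). -/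
def PkgCPre : Prop :=
  ∀ (A B A' B' : Type u) [CommRing A] [CommRing B] [Algebra A B] [CommRing A'] [CommRing B']
    [Algebra A' B'] [Algebra A A'] [Algebra B B'] [Algebra A B'] [IsScalarTower A A' B']
    [IsScalarTower A B B']
    (ι σ ι₁ σ₁ ι' σ' : Type u)
    (P : Algebra.Presentation A B ι σ) (P₁ : Algebra.Presentation A B ι₁ σ₁)
    (P' : Algebra.Presentation A' B' ι' σ')
    (h : PresHom P P₁) (h' : PresHom P₁ P') (k : PresHom P P')
    (_ : ∀ x, k.ringHom x = h'.ringHom (h.ringHom x))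
    (M' : Type u) [AddCommGroup M'] [Module B' M'] [Module B M'] [IsScalarTower B B' M'],
    (∀ t : T0 P' M', k.T0pull M' t = h.T0pull M' (h'.T0pull M' t)) ∧
    (∀ t : T1 P' M', k.T1pull M' t = h.T1pull M' (h'.T1pull M' t)) ∧
    (∀ t : T2 P' M', k.T2pull M' t = h.T2pull M' (h'.T2pull M' t))

/-- PKG-CPost (i = 0,1,2): the same with the identity-square morphism `h' : P' → P'₁` on the target
side. -/
def PkgCPost : Prop :=
  ∀ (A B A' B' : Type u) [CommRing A] [CommRing B] [Algebra A B] [CommRing A'] [CommRing B']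
    [Algebra A' B'] [Algebra A A'] [Algebra B B'] [Algebra A B'] [IsScalarTower A A' B']
    [IsScalarTower A B B']
    (ι σ ι' σ' ι₁ σ₁ : Type u)
    (P : Algebra.Presentation A B ι σ) (P' : Algebra.Presentation A' B' ι' σ')
    (P'₁ : Algebra.Presentation A' B' ι₁ σ₁)
    (h : PresHom P P') (h' : PresHom P' P'₁) (k : PresHom P P'₁)
    (_ : ∀ x, k.ringHom x = h'.ringHom (h.ringHom x))
    (M' : Type u) [AddCommGroup M'] [Module B' M'] [Module B M'] [IsScalarTower B B' M'],
    (∀ t : T0 P'₁ M', k.T0pull M' t = h.T0pull M' (h'.T0pull M' t)) ∧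
    (∀ t : T1 P'₁ M', k.T1pull M' t = h.T1pull M' (h'.T1pull M' t)) ∧
    (∀ t : T2 P'₁ M', k.T2pull M' t = h.T2pull M' (h'.T2pull M' t))

/-- PKG-Id: an endomorphism of a presentation (over the identity square) whose ring map is the
identity induces the identity on `T⁰`, `T¹`, `T²`. -/
def PkgId : Prop :=
  ∀ (A B : Type u) [CommRing A] [CommRing B] [Algebra A B] (ι σ : Type u)
    (P : Algebra.Presentation A B ι σ) (k : PresHom P P) (_ : ∀ x, k.ringHom x = x)
    (M : Type u) [AddCommGroup M] [Module B M],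
    (∀ t : T0 P M, k.T0pull M t = t) ∧ (∀ t : T1 P M, k.T1pull M t = t) ∧
    (∀ t : T2 P M, k.T2pull M t = t)

/-- PKG-Inv01: for two presentations of the same algebra and ANY morphisms both ways over the
identity square, the pull-backs on `T⁰` and `T¹` are mutually inverse (homotopy invariance in degrees
`0, 1`; for `T¹` via Mathlib's `Algebra.Extension.Cotangent.map_sub_map`). -/
def PkgInv01 : Prop :=
  ∀ (A B : Type u) [CommRing A] [CommRing B] [Algebra A B] (ι σ ι' σ' : Type u)
    (P : Algebra.Presentation A B ι σ) (P' : Algebra.Presentation A B ι' σ')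
    (ρ : PresHom P P') (π : PresHom P' P)
    (M : Type u) [AddCommGroup M] [Module B M],
    (∀ t : T0 P' M, π.T0pull M (ρ.T0pull M t) = t) ∧
    (∀ t : T1 P' M, π.T1pull M (ρ.T1pull M t) = t)

/-- PKG-R2: for two presentations of the same algebra, a morphism `ρ : P → P'` over the identity
square which has a retraction `π` on the level of rings and makes `P'.Ring` formally smooth over
`P.Ring` induces an injective map on `T²` (Lib `Helper19KosInv.pull_injective`). -/
def PkgR2 : Prop :=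
  ∀ (A B : Type u) [CommRing A] [CommRing B] [Algebra A B] (ι σ ι' σ' : Type u)
    (P : Algebra.Presentation A B ι σ) (P' : Algebra.Presentation A B ι' σ')
    (ρ : PresHom P P') (π : PresHom P' P) (_ : ∀ x, π.ringHom (ρ.ringHom x) = x)
    (_ : @Algebra.FormallySmooth P.toExtension.Ring P'.toExtension.Ring _ _ ρ.ringHom.toAlgebra)
    (M : Type u) [AddCommGroup M] [Module B M],
    Function.Injective (ρ.T2pull M)

end Groth.Agent.R2.H56.NineSpec
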