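import Mathlib
import Groth.Agent.R2.H56NineSpecA

/-!
# PROJ:nine-term — PkgId (helper66)

An endomorphism of a presentation over the identity square whose ring map is the identity induces
the identity on `T⁰`, `T¹`, `T²`.
-/

set_option autoImplicit false
universe u

open CotT Function TensorProduct

namespace Groth.Agent.R2.H66.NineId

theorem pkgId : Groth.Agent.R2.H56.NineSpec.PkgId.{u} := by
  intro A B _ _ _ ι σ P k hk M _ _
  -- the correction terms `κ_s = relVal s - e_s` lie in the relation module
  have hκ : ∀ s, k.relVal s - Finsupp.single s 1 ∈ relKer P := by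
    intro s
    show jmap P (k.relVal s - Finsupp.single s 1) = 0
    rw [map_sub, k.jmap_relVal, jmap_single, one_mul]
    exact sub_eq_zero.2 (hk _)
  -- `Δ : F → Q`, `e_s ↦ κ_s`
  let Δ : relMod P →ₗ[P.toExtension.Ring] relKer P :=
    Finsupp.linearCombination P.toExtension.Ring
      (fun s => (⟨k.relVal s - Finsupp.single s 1, hκ s⟩ : relKer P))
  have hΔ : ∀ f : relMod P, k.relModMap f - f = (Δ f : relMod P) := by
    intro f
    induction f using Finsupp.induction_linear with
    | zero => simp
    | add f g hf hg =>
      rw [map_add, map_add, Submodule.coe_add, ← hf, ← hg]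
      abel
    | single s r =>
      rw [PresHom.relModMap_single, hk]
      show r • k.relVal s - Finsupp.single s r =
        ((Finsupp.linearCombination P.toExtension.Ring
          (fun s => (⟨k.relVal s - Finsupp.single s 1, hκ s⟩ : relKer P)) (Finsupp.single s r) :
            relKer P) : relMod P)
      rw [Finsupp.linearCombination_single, Submodule.coe_smul, smul_sub, Finsupp.smul_single,
        smul_eq_mul, mul_one]
  refine ⟨?_, ?_, ?_⟩
  · -- T⁰
    have e : k.hom.toExtensionHom = Algebra.Extension.Hom.id P.toExtension :=
      Algebra.Extension.Hom.ext (RingHom.ext hk)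
    have hL0 : ∀ x : L0 P, k.L0map x = x := by
      intro x
      rw [PresHom.L0map_apply, e, Algebra.Extension.CotangentSpace.map_id]
      rfl
    intro t
    apply Subtype.ext
    apply LinearMap.ext
    intro x
    show (t : L0 P →ₗ[B] M) (k.L0map x) = (t : L0 P →ₗ[B] M) x
    rw [hL0]
  · -- T¹
    intro t
    induction t using Submodule.Quotient.induction_on with
    | H ψ =>
      have h1 : k.cocycles1Pull M ψ = ψ := by
        apply Subtype.ext
        refine (L1basis P).ext fun s => ?_
        rw [PresHom.cocycles1Pull_coe, PresHom.pull1_apply, L1basis_apply, PresHom.L1map_tmul,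
          PresHom.relModMap_single, hk, one_smul]
        have h2 : ((1 : B) ⊗ₜ[P.toExtension.Ring] k.relVal s : L1 P) =
            (1 : B) ⊗ₜ Finsupp.single s (1 : P.toExtension.Ring) +
              d2 P (Submodule.Quotient.mk ((1 : B) ⊗ₜ
                (⟨k.relVal s - Finsupp.single s 1, hκ s⟩ : relKer P))) := by
          rw [d2_mk_tmul, ← TensorProduct.tmul_add]
          congr 1
          exact (add_sub_cancel _ _).symm
        have h3 : ∀ z : L2 P, (ψ : L1 P →ₗ[B] M) (d2 P z) = 0 := by
          intro z
          have := ψ.2
          rw [LinearMap.mem_ker] at this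
          exact LinearMap.congr_fun this z
        show (ψ : L1 P →ₗ[B] M) ((algebraMap B B) 1 ⊗ₜ[P.toExtension.Ring] k.relVal s) = _
        rw [map_one, h2, map_add, h3, add_zero]
      have h4 : k.T1pull M (Submodule.Quotient.mk ψ) =
          Submodule.Quotient.mk (k.cocycles1Pull M ψ) := rfl
      rw [h4, h1]
  · -- T²
    intro t
    induction t using Submodule.Quotient.induction_on with
    | H φ =>
      have h4 : k.T2pull M (Submodule.Quotient.mk φ) =
          Submodule.Quotient.mk (k.pull2 M φ) := rfl
      rw [h4, Submodule.Quotient.eq]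
      -- the homotopy `s : L₁ → L₂`
      let sm : L1 P →ₗ[B] L2 P :=
        (Submodule.mkQ (LinearMap.range ((trivRelKer P).subtype.baseChange B))) ∘ₗ Δ.baseChange B
      refine ⟨φ ∘ₗ sm, ?_⟩
      apply LinearMap.ext
      intro z
      induction z using Submodule.Quotient.induction_on with
      | H z =>
        induction z using TensorProduct.induction_on with
        | zero => simp
        | add x y hx hy =>
          rw [Submodule.Quotient.mk_add, map_add, map_add, hx, hy]
        | tmul b q =>
          show φ (sm (d2 P (Submodule.Quotient.mk (b ⊗ₜ q)))) =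
            φ (k.L2map (Submodule.Quotient.mk (b ⊗ₜ q))) - φ (Submodule.Quotient.mk (b ⊗ₜ q))
          rw [← map_sub, d2_mk_tmul, PresHom.L2map_mk_tmul, ← Submodule.Quotient.mk_sub]
          congr 1
          show Submodule.Quotient.mk ((Δ.baseChange B) (b ⊗ₜ (q : relMod P))) = _
          rw [LinearMap.baseChange_tmul]
          congr 1
          show b ⊗ₜ[P.toExtension.Ring] Δ (q : relMod P) =
            (algebraMap B B) b ⊗ₜ[P.toExtension.Ring] k.relKerMap q - b ⊗ₜ[P.toExtension.Ring] q
          rw [Algebra.algebraMap_self, RingHom.id_apply, eq_sub_iff_add_eq, ← TensorProduct.tmul_add]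
          congr 1
          apply Subtype.ext
          rw [Submodule.coe_add, ← hΔ, PresHom.relKerMap_coe, sub_add_cancel]

end Groth.Agent.R2.H66.NineId
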