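import Mathlib
import Groth.Agent.R2.H56NineSpecA

/-!
# PROJ:nine-term — PkgLES (helper66)

The nine-term cohomology sequence of a short exact sequence (left exact in degree 2) of three-term
cochain complexes of abelian groups; pure diagram chase.
-/

set_option autoImplicit false
universe u

open Function

namespace Groth.Agent.R2.H66.NineLES

/-- a total, functional additive relation is the graph of a homomorphism. -/
theorem exists_hom_of_rel {H T : Type*} [AddCommGroup H] [AddCommGroup T] (R : H → T → Prop)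
    (hsub : ∀ h h' t t', R h t → R h' t' → R (h - h') (t - t'))
    (htot : ∀ h, ∃ t, R h t) (h0 : ∀ t, R 0 t → t = 0) :
    ∃ f : H →+ T, ∀ h t, R h t ↔ f h = t := by
  have hfun : ∀ h t t', R h t → R h t' → t = t' := by
    intro h t t' h1 h2
    have := hsub h h t t' h1 h2
    rw [sub_self] at this
    exact sub_eq_zero.1 (h0 _ this)
  have hR0 : R 0 0 := by
    obtain ⟨t, ht⟩ := htot 0
    have := hsub 0 0 t t ht ht
    rwa [sub_self, sub_self] at this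
  have hadd : ∀ h h' t t', R h t → R h' t' → R (h + h') (t + t') := by
    intro h h' t t' h1 h2
    have h3 := hsub 0 h' 0 t' hR0 h2
    have h4 := hsub h (0 - h') t (0 - t') h1 h3
    simpa using h4
  let f : H → T := fun h => (htot h).choose
  have hf : ∀ h, R h (f h) := fun h => (htot h).choose_spec
  refine ⟨AddMonoidHom.mk' f (fun a b => hfun _ _ _ (hf (a + b)) (hadd _ _ _ _ (hf a) (hf b))), ?_⟩
  intro h t
  constructor
  · intro hr; exact hfun _ _ _ (hf h) hr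
  · rintro rfl; exact hf h

theorem pkgLES : Groth.Agent.R2.H56.NineSpec.PkgLES.{u} := by
  intro K10 K11 K12 K20 K21 K22 K30 K31 K32 _ _ _ _ _ _ _ _ _ d10 d11 d20 d21 d30 d31 hd1 hd2 hd3
    α0 α1 α2 β0 β1 β2 hα0 hα1 hβ0 hβ1 iα0 iα1 iα2 eβ0 eβ1 eβ2 sβ0 sβ1
    H10 H11 H12 H20 H21 H22 H30 H31 H32 _ _ _ _ _ _ _ _ _ i1 i2 i3 ii1 ii2 ii3 hi1 hi2 hi3
    c1 c2 c3 sc1 sc2 sc3 hc1 hc2 hc3 q1 q2 q3 sq1 sq2 sq3 hq1 hq2 hq3
    a0 b0 a1 b1 a2 b2 ha0 hb0 ha1 hb1 ha2 hb2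
  -- basic consequences
  have βα0 : ∀ x, β0 (α0 x) = 0 := fun x => (eβ0 _).2 ⟨x, rfl⟩
  have βα1 : ∀ x, β1 (α1 x) = 0 := fun x => (eβ1 _).2 ⟨x, rfl⟩
  have βα2 : ∀ x, β2 (α2 x) = 0 := fun x => (eβ2 _).2 ⟨x, rfl⟩
  have di1 : ∀ h, d10 (i1 h) = 0 := fun h => (hi1 _).2 ⟨h, rfl⟩
  have di2 : ∀ h, d20 (i2 h) = 0 := fun h => (hi2 _).2 ⟨h, rfl⟩
  have di3 : ∀ h, d30 (i3 h) = 0 := fun h => (hi3 _).2 ⟨h, rfl⟩
  -- `d11 x = 0` from `d21 (α1 x) = 0`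
  have ker1 : ∀ x, d21 (α1 x) = 0 → d11 x = 0 := by
    intro x hx
    apply iα2
    rw [hα1, hx, map_zero]
  have ker0 : ∀ x, d20 (α0 x) = 0 → d10 x = 0 := by
    intro x hx
    apply iα1
    rw [hα0, hx, map_zero]
  -- the connecting homomorphism δ0
  obtain ⟨δ0, hδ0⟩ := exists_hom_of_rel
    (fun (h : H30) (t : H11) => ∃ (y : K20) (x : d11.ker), β0 y = i3 h ∧ α1 (x : K11) = d20 y ∧
      t = c1 x)
    (by
      rintro h h' t t' ⟨y, x, e1, e2, rfl⟩ ⟨y', x', e1', e2', rfl⟩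
      refine ⟨y - y', x - x', ?_, ?_, ?_⟩
      · rw [map_sub, map_sub, e1, e1']
      · rw [AddSubgroup.coe_sub, map_sub, map_sub, e2, e2']
      · rw [map_sub])
    (by
      intro h
      obtain ⟨y, hy⟩ := sβ0 (i3 h)
      have h1 : β1 (d20 y) = 0 := by rw [hβ0, hy, di3]
      obtain ⟨x, hx⟩ := (eβ1 _).1 h1
      have h2 : d11 x = 0 := ker1 x (by rw [hx, hd2])
      exact ⟨_, y, ⟨x, AddMonoidHom.mem_ker.2 h2⟩, hy, hx, rfl⟩)
    (by
      rintro t ⟨y, x, e1, e2, rfl⟩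
      rw [map_zero] at e1
      obtain ⟨w, rfl⟩ := (eβ0 _).1 e1
      refine (hc1 x).2 ⟨w, ?_⟩
      apply iα1
      rw [hα0, e2])
  -- the connecting homomorphism δ1
  obtain ⟨δ1, hδ1⟩ := exists_hom_of_rel
    (fun (h : H31) (t : H12) => ∃ (z : d31.ker) (y : K21) (u : K12), c3 z = h ∧ β1 y = (z : K31) ∧
      α2 u = d21 y ∧ t = q1 u)
    (by
      rintro h h' t t' ⟨z, y, u, e1, e2, e3, rfl⟩ ⟨z', y', u', e1', e2', e3', rfl⟩
      refine ⟨z - z', y - y', u - u', ?_, ?_, ?_, ?_⟩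
      · rw [map_sub, e1, e1']
      · rw [AddSubgroup.coe_sub, map_sub, e2, e2']
      · rw [map_sub, map_sub, e3, e3']
      · rw [map_sub])
    (by
      intro h
      obtain ⟨z, hz⟩ := sc3 h
      obtain ⟨y, hy⟩ := sβ1 (z : K31)
      have h1 : β2 (d21 y) = 0 := by rw [hβ1, hy]; exact AddMonoidHom.mem_ker.1 z.2
      obtain ⟨u, hu⟩ := (eβ2 _).1 h1
      exact ⟨_, z, y, u, hz, hy, hu, rfl⟩)
    (by
      rintro t ⟨z, y, u, e1, e2, e3, rfl⟩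
      obtain ⟨w, hw⟩ := (hc3 z).1 e1
      obtain ⟨v, rfl⟩ := sβ0 w
      have h1 : β1 (y - d20 v) = 0 := by rw [map_sub, e2, hβ0, hw, sub_self]
      obtain ⟨x, hx⟩ := (eβ1 _).1 h1
      refine (hq1 u).2 ⟨x, ?_⟩
      apply iα2
      rw [hα1, hx, map_sub, hd2, sub_zero, e3])
  refine ⟨?_, ?_, ?_, ?_, δ0, δ1, ?_, ?_, ?_, ?_⟩
  · -- a0 injective
    intro h h' e
    apply ii1
    apply iα0
    rw [← ha0, ← ha0, e]
  · -- exact a0 b0
    intro y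
    constructor
    · intro hy
      have h1 : β0 (i2 y) = 0 := by rw [← hb0, hy, map_zero]
      obtain ⟨x, hx⟩ := (eβ0 _).1 h1
      have h2 : d10 x = 0 := ker0 x (by rw [hx, di2])
      obtain ⟨h, rfl⟩ := (hi1 _).1 h2
      refine ⟨h, ?_⟩
      apply ii2
      rw [ha0, hx]
    · rintro ⟨h, rfl⟩
      apply ii3
      rw [hb0, ha0, βα0, map_zero]
  · -- exact a1 b1
    intro y
    constructor
    · intro hy
      obtain ⟨x, rfl⟩ := sc2 y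
      have hx0 : d21 (x : K21) = 0 := AddMonoidHom.mem_ker.1 x.2
      have hz : d31 (β1 (x : K21)) = 0 := by rw [← hβ1, hx0, map_zero]
      rw [hb1 x ⟨β1 x, AddMonoidHom.mem_ker.2 hz⟩ rfl] at hy
      obtain ⟨w, hw⟩ := (hc3 _).1 hy
      obtain ⟨v, rfl⟩ := sβ0 w
      have h1 : β1 ((x : K21) - d20 v) = 0 := by
        rw [map_sub, hβ0, hw, sub_self]
      obtain ⟨u, hu⟩ := (eβ1 _).1 h1
      have h2 : d11 u = 0 := ker1 u (by rw [hu, map_sub, hd2, sub_zero, hx0])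
      refine ⟨c1 ⟨u, AddMonoidHom.mem_ker.2 h2⟩, ?_⟩
      have hk : d21 ((x : K21) - d20 v) = 0 := by rw [map_sub, hd2, sub_zero, hx0]
      rw [ha1 ⟨u, AddMonoidHom.mem_ker.2 h2⟩ ⟨(x : K21) - d20 v, AddMonoidHom.mem_ker.2 hk⟩ hu.symm]
      rw [← sub_eq_zero, ← map_sub]
      exact (hc2 _).2 ⟨-v, by rw [map_neg, AddSubgroup.coe_sub]; simp⟩
    · rintro ⟨h, rfl⟩
      obtain ⟨x, rfl⟩ := sc1 h
      have hx0 : d11 (x : K11) = 0 := AddMonoidHom.mem_ker.1 x.2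
      have hk : d21 (α1 (x : K11)) = 0 := by rw [← hα1, hx0, map_zero]
      rw [ha1 x ⟨α1 x, AddMonoidHom.mem_ker.2 hk⟩ rfl]
      have hz : d31 (β1 (α1 (x : K11))) = 0 := by rw [βα1, map_zero]
      rw [hb1 ⟨α1 x, AddMonoidHom.mem_ker.2 hk⟩ ⟨β1 (α1 x), AddMonoidHom.mem_ker.2 hz⟩ rfl]
      exact (hc3 _).2 ⟨0, by rw [map_zero]; exact (βα1 _).symm⟩
  · -- exact a2 b2
    intro y
    constructor
    · intro hy
      obtain ⟨x, rfl⟩ := sq2 y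
      rw [hb2] at hy
      obtain ⟨w, hw⟩ := (hq3 _).1 hy
      obtain ⟨v, rfl⟩ := sβ1 w
      have h1 : β2 (x - d21 v) = 0 := by rw [map_sub, hβ1, hw, sub_self]
      obtain ⟨u, hu⟩ := (eβ2 _).1 h1
      refine ⟨q1 u, ?_⟩
      rw [ha2, hu, map_sub, (hq2 (d21 v)).2 ⟨v, rfl⟩, sub_zero]
    · rintro ⟨h, rfl⟩
      obtain ⟨u, rfl⟩ := sq1 h
      rw [ha2, hb2, βα2, map_zero]
  · -- exact b0 δ0
    intro y
    constructor
    · intro hy
      obtain ⟨y0, x, e1, e2, e3⟩ := (hδ0 y 0).2 hy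
      obtain ⟨w, hw⟩ := (hc1 x).1 e3.symm
      have h1 : d20 (y0 - α0 w) = 0 := by rw [map_sub, ← hα0, hw, e2, sub_self]
      obtain ⟨h, hh⟩ := (hi2 _).1 h1
      refine ⟨h, ?_⟩
      apply ii3
      rw [hb0, hh, map_sub, βα0, sub_zero, e1]
    · rintro ⟨h, rfl⟩
      refine (hδ0 _ _).1 ⟨i2 h, 0, (hb0 h).symm, ?_, (map_zero c1).symm⟩
      rw [di2]
      exact map_zero α1
  · -- exact δ0 a1
    intro y
    constructor
    · intro hy
      obtain ⟨x, rfl⟩ := sc1 y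
      have hx0 : d11 (x : K11) = 0 := AddMonoidHom.mem_ker.1 x.2
      have hk : d21 (α1 (x : K11)) = 0 := by rw [← hα1, hx0, map_zero]
      rw [ha1 x ⟨α1 x, AddMonoidHom.mem_ker.2 hk⟩ rfl] at hy
      obtain ⟨w, hw⟩ := (hc2 _).1 hy
      have h1 : d30 (β0 w) = 0 := by rw [← hβ0, hw]; exact βα1 _
      obtain ⟨h, hh⟩ := (hi3 _).1 h1
      exact ⟨h, (hδ0 _ _).1 ⟨w, x, hh.symm, hw.symm, rfl⟩⟩
    · rintro ⟨h, rfl⟩
      obtain ⟨y0, x, e1, e2, e3⟩ := (hδ0 h _).2 rfl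
      rw [e3]
      have hx0 : d11 (x : K11) = 0 := AddMonoidHom.mem_ker.1 x.2
      have hk : d21 (α1 (x : K11)) = 0 := by rw [← hα1, hx0, map_zero]
      rw [ha1 x ⟨α1 x, AddMonoidHom.mem_ker.2 hk⟩ rfl]
      exact (hc2 _).2 ⟨y0, e2.symm⟩
  · -- exact b1 δ1
    intro y
    constructor
    · intro hy
      obtain ⟨z, y0, u, e1, e2, e3, e4⟩ := (hδ1 y 0).2 hy
      obtain ⟨w, hw⟩ := (hq1 u).1 e4.symm
      have hk : d21 (y0 - α1 w) = 0 := by rw [map_sub, ← hα1, hw, e3, sub_self]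
      refine ⟨c2 ⟨y0 - α1 w, AddMonoidHom.mem_ker.2 hk⟩, ?_⟩
      rw [hb1 ⟨y0 - α1 w, AddMonoidHom.mem_ker.2 hk⟩ z (by
        show (z : K31) = β1 (y0 - α1 w)
        rw [map_sub, βα1, sub_zero, e2]), e1]
    · rintro ⟨h, rfl⟩
      obtain ⟨x, rfl⟩ := sc2 h
      have hx0 : d21 (x : K21) = 0 := AddMonoidHom.mem_ker.1 x.2
      have hz : d31 (β1 (x : K21)) = 0 := by rw [← hβ1, hx0, map_zero]
      rw [hb1 x ⟨β1 x, AddMonoidHom.mem_ker.2 hz⟩ rfl]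
      refine (hδ1 _ _).1 ⟨⟨β1 x, AddMonoidHom.mem_ker.2 hz⟩, x, 0, rfl, rfl, ?_, (map_zero q1).symm⟩
      rw [hx0]
      exact map_zero α2
  · -- exact δ1 a2
    intro y
    constructor
    · intro hy
      obtain ⟨u, rfl⟩ := sq1 y
      rw [ha2] at hy
      obtain ⟨w, hw⟩ := (hq2 _).1 hy
      have hz : d31 (β1 w) = 0 := by rw [← hβ1, hw]; exact βα2 _
      exact ⟨c3 ⟨β1 w, AddMonoidHom.mem_ker.2 hz⟩,
        (hδ1 _ _).1 ⟨⟨β1 w, AddMonoidHom.mem_ker.2 hz⟩, w, u, rfl, rfl, hw.symm, rfl⟩⟩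
    · rintro ⟨h, rfl⟩
      obtain ⟨z, y0, u, e1, e2, e3, e4⟩ := (hδ1 h _).2 rfl
      rw [e4, ha2, e3]
      exact (hq2 _).2 ⟨y0, rfl⟩

end Groth.Agent.R2.H66.NineLES
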