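import Mathlib
import Groth.Prelude.Def_CotT2
import Groth.Agent.R2.H56NineSpecA

/-!
# PROJ:nine-term: packages `PkgCPre`, `PkgCPost`

Functoriality of the pull-back maps `T⁰pull`, `T¹pull`, `T²pull` of `CotT.PresHom` for three squares
`A → B`, `A₁ → B₁`, `A' → B'` and morphisms `h : P → P₁`, `h' : P₁ → P'`, `k : P → P'` with
`k.ringHom = h'.ringHom ∘ h.ringHom` pointwise (no hypothesis on the `relVal`s): `comp_general`.
The two packages are the special cases `A₁ → B₁ = A → B` and `A₁ → B₁ = A' → B'`.
-/

set_option autoImplicit false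
set_option linter.unusedSectionVars false
universe u

open CotT Function TensorProduct

namespace Groth.Agent.R2.H6.NineC

section General

variable {A B A₁ B₁ A' B' : Type u} [CommRing A] [CommRing B] [Algebra A B]
  [CommRing A₁] [CommRing B₁] [Algebra A₁ B₁] [CommRing A'] [CommRing B'] [Algebra A' B']
  [Algebra A A₁] [Algebra B B₁] [Algebra A B₁] [IsScalarTower A A₁ B₁] [IsScalarTower A B B₁]
  [Algebra A₁ A'] [Algebra B₁ B'] [Algebra A₁ B'] [IsScalarTower A₁ A' B'] [IsScalarTower A₁ B₁ B']
  [Algebra A A'] [Algebra B B'] [Algebra A B'] [IsScalarTower A A' B'] [IsScalarTower A B B']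
  [IsScalarTower B B₁ B']
  {ι σ ι₁ σ₁ ι' σ' : Type u}
  {P : Algebra.Presentation A B ι σ} {P₁ : Algebra.Presentation A₁ B₁ ι₁ σ₁}
  {P' : Algebra.Presentation A' B' ι' σ'}
  (h : PresHom P P₁) (h' : PresHom P₁ P') (k : PresHom P P')
  (hk : ∀ x, k.ringHom x = h'.ringHom (h.ringHom x))

include hk in
/-- The maps on `L₀` compose. -/
theorem L0map_comp (x : L0 P) : k.L0map x = h'.L0map (h.L0map x) := by
  induction x using TensorProduct.induction_on with
  | zero => simp
  | add x y hx hy => rw [map_add, map_add, hx, hy, map_add]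
  | tmul b y =>
    obtain ⟨y, rfl⟩ := KaehlerDifferential.tensorProductTo_surjective _ _ y
    induction y using TensorProduct.induction_on with
    | zero => simp
    | add x y hx hy =>
      rw [map_add, TensorProduct.tmul_add, map_add, hx, hy, map_add, map_add]
    | tmul r s =>
      rw [Derivation.tensorProductTo_tmul, TensorProduct.tmul_smul, TensorProduct.smul_tmul',
        PresHom.L0map_apply, PresHom.L0map_apply, PresHom.L0map_apply,
        Algebra.Extension.CotangentSpace.map_tmul, Algebra.Extension.CotangentSpace.map_tmul,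
        Algebra.Extension.CotangentSpace.map_tmul]
      simp only [Algebra.Extension.Hom.toAlgHom_apply]
      rw [← IsScalarTower.algebraMap_apply B B₁ B']
      exact congrArg _ (congrArg _ (hk s))

/-- The difference of the two maps `F → F'`, with values in the relation module `Q'`. -/
noncomputable def Dk : relMod P →ₛₗ[k.ringHom] relKer P' where
  toFun f := ⟨k.relModMap f - h'.relModMap (h.relModMap f), by
    change jmap P' _ = 0
    rw [map_sub, PresHom.jmap_relModMap, PresHom.jmap_relModMap, PresHom.jmap_relModMap, hk,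
      sub_self]⟩
  map_add' f g := by
    apply Subtype.ext
    simp only [map_add, Submodule.coe_add]
    abel
  map_smul' r f := by
    apply Subtype.ext
    simp only [LinearMap.map_smulₛₗ, Submodule.coe_smul, smul_sub, hk r]

@[simp] lemma Dk_coe (f : relMod P) :
    ((Dk h h' k hk f : relKer P') : relMod P') = k.relModMap f - h'.relModMap (h.relModMap f) := rfl

/-- The homotopy `L₁ → B' ⊗ Q'`. -/
noncomputable def S₀ : L1 P →ₛₗ[(algebraMap B B' : B →+* B')] B' ⊗[P'.toExtension.Ring] relKer P' :=
  tensorMap k.ringHom k.algebraMap_ringHom (Dk h h' k hk)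

@[simp] lemma S₀_tmul (b : B) (f : relMod P) :
    S₀ h h' k hk (b ⊗ₜ f) = algebraMap B B' b ⊗ₜ Dk h h' k hk f := rfl

/-- Homotopy formula on `L₁`. -/
theorem L1map_sub (x : L1 P) :
    k.L1map x - h'.L1map (h.L1map x) = d2 P' (Submodule.Quotient.mk (S₀ h h' k hk x)) := by
  induction x using TensorProduct.induction_on with
  | zero => simp
  | add x y hx hy =>
    rw [map_add, map_add, map_add, map_add, Submodule.Quotient.mk_add, map_add, ← hx, ← hy]
    abel
  | tmul b f =>
    rw [S₀_tmul, d2_mk_tmul, Dk_coe, TensorProduct.tmul_sub, PresHom.L1map_tmul,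
      PresHom.L1map_tmul, PresHom.L1map_tmul, ← IsScalarTower.algebraMap_apply B B₁ B']

/-- Homotopy formula on `L₂`. -/
theorem L2map_sub (z : L2 P) :
    k.L2map z - h'.L2map (h.L2map z) = Submodule.Quotient.mk (S₀ h h' k hk (d2 P z)) := by
  induction z using Submodule.Quotient.induction_on with
  | H z =>
    induction z using TensorProduct.induction_on with
    | zero => simp
    | add x y hx hy =>
      rw [Submodule.Quotient.mk_add, map_add, map_add, map_add, map_add, map_add,
        Submodule.Quotient.mk_add, ← hx, ← hy]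
      abel
    | tmul b q =>
      have hD : Dk h h' k hk (q : relMod P) = k.relKerMap q - h'.relKerMap (h.relKerMap q) :=
        Subtype.ext rfl
      have e : ∀ (b' : B') (x y : relKer P'),
          b' ⊗ₜ[P'.toExtension.Ring] (x - y) = b' ⊗ₜ x - b' ⊗ₜ y :=
        fun b' x y => TensorProduct.tmul_sub b' x y
      rw [d2_mk_tmul, S₀_tmul, PresHom.L2map_mk_tmul, PresHom.L2map_mk_tmul,
        PresHom.L2map_mk_tmul, ← IsScalarTower.algebraMap_apply B B₁ B', hD,
        e, Submodule.Quotient.mk_sub]

variable (M' : Type u) [AddCommGroup M'] [Module B' M'] [Module B₁ M'] [Module B M']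
  [IsScalarTower B₁ B' M'] [IsScalarTower B B' M'] [IsScalarTower B B₁ M']

include hk in
theorem T0pull_comp (t : T0 P' M') : k.T0pull M' t = h.T0pull M' (h'.T0pull M' t) := by
  apply Subtype.ext
  refine LinearMap.ext fun x => ?_
  change (t : L0 P' →ₗ[B'] M') (k.L0map x) = (t : L0 P' →ₗ[B'] M') (h'.L0map (h.L0map x))
  rw [L0map_comp h h' k hk]

include hk in
theorem T1pull_comp (t : T1 P' M') : k.T1pull M' t = h.T1pull M' (h'.T1pull M' t) := by
  induction t using Submodule.Quotient.induction_on with
  | H c =>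
    change Submodule.Quotient.mk (k.cocycles1Pull M' c) =
      Submodule.Quotient.mk (h.cocycles1Pull M' (h'.cocycles1Pull M' c))
    congr 1
    apply Subtype.ext
    refine LinearMap.ext fun x => ?_
    change (c : L1 P' →ₗ[B'] M') (k.L1map x) = (c : L1 P' →ₗ[B'] M') (h'.L1map (h.L1map x))
    rw [← sub_eq_zero, ← map_sub, L1map_sub h h' k hk]
    have hc : d2Star P' M' (c : L1 P' →ₗ[B'] M') = 0 := c.2
    rw [d2Star_apply] at hc
    exact LinearMap.congr_fun hc _

include hk in
theorem T2pull_comp (t : T2 P' M') : k.T2pull M' t = h.T2pull M' (h'.T2pull M' t) := by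
  induction t using Submodule.Quotient.induction_on with
  | H ψ =>
    change Submodule.Quotient.mk (k.pull2 M' ψ) =
      Submodule.Quotient.mk (h.pull2 M' (h'.pull2 M' ψ))
    rw [Submodule.Quotient.eq]
    let φ : L1 P →ₗ[B] M' :=
      { toFun := fun x => ψ (Submodule.Quotient.mk (S₀ h h' k hk x))
        map_add' := fun x y => by
          rw [map_add, Submodule.Quotient.mk_add, map_add]
        map_smul' := fun b x => by
          rw [RingHom.id_apply, LinearMap.map_smulₛₗ, Submodule.Quotient.mk_smul, map_smul,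
            IsScalarTower.algebraMap_smul] }
    refine ⟨φ, ?_⟩
    refine LinearMap.ext fun z => ?_
    change ψ (Submodule.Quotient.mk (S₀ h h' k hk (d2 P z))) =
      ψ (k.L2map z) - ψ (h'.L2map (h.L2map z))
    rw [← L2map_sub h h' k hk, map_sub]

include hk in
theorem comp_general :
    (∀ t : T0 P' M', k.T0pull M' t = h.T0pull M' (h'.T0pull M' t)) ∧
    (∀ t : T1 P' M', k.T1pull M' t = h.T1pull M' (h'.T1pull M' t)) ∧
    (∀ t : T2 P' M', k.T2pull M' t = h.T2pull M' (h'.T2pull M' t)) :=
  ⟨T0pull_comp h h' k hk M', T1pull_comp h h' k hk M', T2pull_comp h h' k hk M'⟩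

end General

theorem pkgCPre : Groth.Agent.R2.H56.NineSpec.PkgCPre.{u} := by
  intro A B A' B' _ _ _ _ _ _ _ _ _ _ _ ι σ ι₁ σ₁ ι' σ' P P₁ P' h h' k hk M' _ _ _ _
  exact comp_general (A₁ := A) (B₁ := B) h h' k hk M'

theorem pkgCPost : Groth.Agent.R2.H56.NineSpec.PkgCPost.{u} := by
  intro A B A' B' _ _ _ _ _ _ _ _ _ _ _ ι σ ι' σ' ι₁ σ₁ P P' P'₁ h h' k hk M' _ _ _ _
  exact comp_general (A₁ := A') (B₁ := B') h h' k hk M'

end Groth.Agent.R2.H6.NineC
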