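import Mathlib
import Groth.Prelude.Def_CotT2
import Groth.Agent.R2.H56NineSpecB

/-!
# PROJ:nine-term: package `PkgE01`

In degrees `0` and `1` the dual complexes of `canon B C`, `midPres A B C`, `canon A B` form a short
exact sequence: everything is free on bases and the maps are given on basis vectors.
-/

set_option autoImplicit false
set_option linter.unusedSectionVars false
universe u

open CotT Function TensorProduct

namespace Groth.Agent.R2.H6.NineE01

open Groth.Agent.R2.H56.NineSpec

/-- Abstract form: `X` free over `C` on `I ⊕ J`, `Y` free over `C` on `I`, `Z` free over `B` on `J`,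
`α : X → Y` with `e (inl i) ↦ f i`, `e (inr j) ↦ 0`, `β : Z → X` with `g j ↦ e (inr j)`; then
the duals form a short exact sequence. -/
theorem abstract_exact {B C : Type*} [CommRing B] [CommRing C]
    {X Y Z M : Type*} [AddCommGroup X] [Module C X] [AddCommGroup Y] [Module C Y]
    [AddCommGroup Z] [Module B Z] [AddCommGroup M] [Module C M] [Module B M]
    {I J : Type*} (e : Module.Basis (I ⊕ J) C X) (f : Module.Basis I C Y) (g : Module.Basis J B Z)
    (α : X → Y) (β : Z → X)
    (hα1 : ∀ i, α (e (Sum.inl i)) = f i) (hα2 : ∀ j, α (e (Sum.inr j)) = 0)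
    (hβ : ∀ j, β (g j) = e (Sum.inr j))
    (pα : (Y →ₗ[C] M) → (X →ₗ[C] M)) (pβ : (X →ₗ[C] M) → (Z →ₗ[B] M))
    (hpα : ∀ ψ x, pα ψ x = ψ (α x)) (hpβ : ∀ y z, pβ y z = y (β z)) :
    Injective pα ∧ (∀ y, pβ y = 0 ↔ ∃ x, pα x = y) ∧ Surjective pβ := by
  refine ⟨?_, ?_, ?_⟩
  · intro ψ ψ' hψ
    refine f.ext fun i => ?_
    rw [← hα1, ← hpα, ← hpα, hψ]
  · intro y
    constructor
    · intro hy
      have hy0 : ∀ j, y (e (Sum.inr j)) = 0 := fun j => by
        rw [← hβ, ← hpβ, hy, LinearMap.zero_apply]
      refine ⟨f.constr ℕ (fun i => y (e (Sum.inl i))), ?_⟩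
      refine e.ext fun k => ?_
      rw [hpα]
      cases k with
      | inl i => rw [hα1, Module.Basis.constr_basis]
      | inr j => rw [hα2, map_zero, hy0]
    · rintro ⟨x, rfl⟩
      refine g.ext fun j => ?_
      rw [hpβ, hpα, hβ, hα2, map_zero, LinearMap.zero_apply]
  · intro z
    refine ⟨e.constr ℕ (Sum.elim (fun _ => 0) (fun j => z (g j))), ?_⟩
    refine g.ext fun j => ?_
    rw [hpβ, hβ, Module.Basis.constr_basis, Sum.elim_inr]

section concrete

variable (A B C : Type u) [CommRing A] [CommRing B] [CommRing C] [Algebra A B] [Algebra B C]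
  [Algebra A C] [IsScalarTower A B C]

lemma aHom_L0map_inl (c : C) :
    (aHom A B C).L0map ((midPres A B C).cotangentSpaceBasis (Sum.inl c)) =
      (canon B C).cotangentSpaceBasis c := by
  rw [Algebra.Generators.cotangentSpaceBasis_apply, Algebra.Generators.cotangentSpaceBasis_apply,
    PresHom.L0map_apply]
  erw [Algebra.Extension.CotangentSpace.map_tmul]
  rw [map_one, Algebra.Generators.Hom.toExtensionHom_toAlgHom_apply]
  erw [Algebra.Generators.Hom.toAlgHom_X]
  rfl

lemma aHom_L0map_inr (b : B) :
    (aHom A B C).L0map ((midPres A B C).cotangentSpaceBasis (Sum.inr b)) = 0 := by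
  rw [Algebra.Generators.cotangentSpaceBasis_apply, PresHom.L0map_apply]
  erw [Algebra.Extension.CotangentSpace.map_tmul]
  rw [map_one, Algebra.Generators.Hom.toExtensionHom_toAlgHom_apply]
  erw [Algebra.Generators.Hom.toAlgHom_X]
  have h1 : (aHom A B C).hom.val (Sum.inr b) =
      algebraMap B (canon B C).toExtension.Ring b := rfl
  rw [h1, Derivation.map_algebraMap, TensorProduct.tmul_zero]

lemma bHom_L0map (b : B) :
    (bHom A B C).L0map ((canon A B).cotangentSpaceBasis b) =
      (midPres A B C).cotangentSpaceBasis (Sum.inr b) := by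
  rw [Algebra.Generators.cotangentSpaceBasis_apply, Algebra.Generators.cotangentSpaceBasis_apply,
    PresHom.L0map_apply]
  erw [Algebra.Extension.CotangentSpace.map_tmul]
  rw [map_one, Algebra.Generators.Hom.toExtensionHom_toAlgHom_apply]
  erw [Algebra.Generators.Hom.toAlgHom_X]
  rfl

lemma aHom_L1map_inr (t : CanonRels B C) :
    (aHom A B C).L1map (L1basis (midPres A B C) (Sum.inr t)) = L1basis (canon B C) t := by
  rw [L1basis_apply, L1basis_apply, PresHom.L1map_tmul, PresHom.relModMap_single, map_one,
    map_one, one_smul]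
  rfl

lemma aHom_L1map_inl (r : CanonRels A B) :
    (aHom A B C).L1map (L1basis (midPres A B C) (Sum.inl r)) = 0 := by
  rw [L1basis_apply, PresHom.L1map_tmul, PresHom.relModMap_single, map_one, map_one, one_smul]
  have h1 : (aHom A B C).relVal (Sum.inl r) = 0 := rfl
  rw [h1, TensorProduct.tmul_zero]

lemma bHom_L1map (r : CanonRels A B) :
    (bHom A B C).L1map (L1basis (canon A B) r) = L1basis (midPres A B C) (Sum.inl r) := by
  rw [L1basis_apply, L1basis_apply, PresHom.L1map_tmul, PresHom.relModMap_single, map_one,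
    map_one, one_smul]
  rfl

end concrete

theorem pkgE01 : PkgE01.{u} := by
  intro A B C _ _ _ _ _ _ _ M _ _ _ _
  refine ⟨?_, ?_⟩
  · exact abstract_exact (M := M)
      ((midPres A B C).cotangentSpaceBasis) ((canon B C).cotangentSpaceBasis)
      ((canon A B).cotangentSpaceBasis)
      (aHom A B C).L0map (bHom A B C).L0map
      (aHom_L0map_inl A B C) (aHom_L0map_inr A B C) (bHom_L0map A B C)
      ((aHom A B C).pull0 M) ((bHom A B C).pull0 M)
      (fun ψ x => rfl) (fun y z => rfl)
  · exact abstract_exact (M := M)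
      ((L1basis (midPres A B C)).reindex (Equiv.sumComm _ _)) (L1basis (canon B C))
      (L1basis (canon A B))
      (aHom A B C).L1map (bHom A B C).L1map
      (fun t => by
        rw [Module.Basis.reindex_apply]
        exact aHom_L1map_inr A B C t)
      (fun r => by
        rw [Module.Basis.reindex_apply]
        exact aHom_L1map_inl A B C r)
      (fun r => by
        rw [Module.Basis.reindex_apply]
        exact bHom_L1map A B C r)
      ((aHom A B C).pull1 M) ((bHom A B C).pull1 M)
      (fun ψ x => rfl) (fun y z => rfl)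

end Groth.Agent.R2.H6.NineE01
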