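import Groth.Agent.R2.H56NineSpecB

/-!
# helper88: PROJ:nine-term package `PkgRing`

Ring-level identities between the canonical morphisms and those of the auxiliary presentation `P''`
(`canonHom A C B C = a'' ∘ ρ''`, `canonHom A B A C = π'' ∘ b''`, `π'' ∘ ρ'' = id` on the polynomial
rings), and formal smoothness of `A[X_c, X_b]` over `A[X_c]` (algebra structure through `ρ''`).
All ring maps are exhibited as explicit `A`-algebra maps of polynomial rings (`ρAlg`, `aAlg`, `bAlg`,
`πAlg`, `c1Alg`, `c2Alg`; the identifications with `PresHom.ringHom` are `rfl`).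
-/

set_option autoImplicit false
set_option linter.unusedSectionVars false
set_option linter.style.haveILetI false
universe u

open CotT Function

namespace Groth.Agent.R2.H88.NineRing

open Groth.Agent.R2.H56.NineSpec

variable (A B C : Type u) [CommRing A] [CommRing B] [CommRing C] [Algebra A B] [Algebra B C]
  [Algebra A C] [IsScalarTower A B C]

/-- `ρ''` on rings, as an `A`-algebra map of polynomial rings: `rename inl`. -/
noncomputable def ρAlg : MvPolynomial C A →ₐ[A] MvPolynomial (C ⊕ B) A :=
  MvPolynomial.aeval (fun c => MvPolynomial.X (Sum.inl c))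

/-- `a''` on rings: `qmap`. -/
noncomputable def aAlg : MvPolynomial (C ⊕ B) A →ₐ[A] MvPolynomial C B := qmap A B C

/-- `b''` on rings: `rename inr`. -/
noncomputable def bAlg : MvPolynomial B A →ₐ[A] MvPolynomial (C ⊕ B) A :=
  MvPolynomial.aeval (fun b => MvPolynomial.X (Sum.inr b))

/-- `π''` on rings. -/
noncomputable def πAlg : MvPolynomial (C ⊕ B) A →ₐ[A] MvPolynomial C A :=
  MvPolynomial.aeval (Sum.elim MvPolynomial.X (fun b => MvPolynomial.X (algebraMap B C b)))

/-- `canonHom A C B C` on rings. -/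
noncomputable def c1Alg : MvPolynomial C A →ₐ[A] MvPolynomial C B :=
  MvPolynomial.aeval (fun c => MvPolynomial.X c)

/-- `canonHom A B A C` on rings. -/
noncomputable def c2Alg : MvPolynomial B A →ₐ[A] MvPolynomial C A :=
  MvPolynomial.aeval (fun b => MvPolynomial.X (algebraMap B C b))

lemma ρHom_ringHom (x : MvPolynomial C A) : (ρHom A B C).ringHom x = ρAlg A B C x := rfl
lemma aHom_ringHom (x : MvPolynomial (C ⊕ B) A) : (aHom A B C).ringHom x = aAlg A B C x := rfl
lemma bHom_ringHom (x : MvPolynomial B A) : (bHom A B C).ringHom x = bAlg A B C x := rfl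
lemma πHom_ringHom (x : MvPolynomial (C ⊕ B) A) : (πHom A B C).ringHom x = πAlg A B C x := rfl
lemma canonHom1_ringHom (x : MvPolynomial C A) :
    (canonHom A C B C).ringHom x = c1Alg A B C x := rfl
lemma canonHom2_ringHom (x : MvPolynomial B A) :
    (canonHom A B A C).ringHom x = c2Alg A B C x := rfl

lemma c1Alg_eq : c1Alg A B C = (aAlg A B C).comp (ρAlg A B C) := by
  refine MvPolynomial.algHom_ext fun c => ?_
  simp [c1Alg, aAlg, ρAlg, qmap]

lemma c2Alg_eq : c2Alg A B C = (πAlg A B C).comp (bAlg A B C) := by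
  refine MvPolynomial.algHom_ext fun b => ?_
  simp [c2Alg, πAlg, bAlg]

lemma πAlg_ρAlg : (πAlg A B C).comp (ρAlg A B C) = AlgHom.id A _ := by
  refine MvPolynomial.algHom_ext fun c => ?_
  simp [πAlg, ρAlg]

/-- the ring equivalence `(A[X_c])[X_b] ≃ A[X_c, X_b]` -/
noncomputable def swapEquiv :
    MvPolynomial B (MvPolynomial C A) ≃+* MvPolynomial (C ⊕ B) A :=
  (MvPolynomial.sumAlgEquiv A B C).symm.toRingEquiv.trans
    (MvPolynomial.renameEquiv A (Equiv.sumComm B C)).toRingEquiv

lemma swapEquiv_C (p : MvPolynomial C A) :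
    swapEquiv A B C (MvPolynomial.C p) = ρAlg A B C p := by
  have h : ((swapEquiv A B C).toRingHom.comp MvPolynomial.C : MvPolynomial C A →+* _) =
      (ρAlg A B C : MvPolynomial C A →+* _) := by
    refine MvPolynomial.ringHom_ext (fun a => ?_) (fun c => ?_)
    · simp [swapEquiv, ρAlg]
    · simp [swapEquiv, ρAlg]
  exact RingHom.congr_fun h p

lemma formallySmooth_ρAlg :
    @Algebra.FormallySmooth (MvPolynomial C A) (MvPolynomial (C ⊕ B) A) _ _
      (ρAlg A B C).toRingHom.toAlgebra := by
  letI : Algebra (MvPolynomial C A) (MvPolynomial (C ⊕ B) A) :=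
    (ρAlg A B C).toRingHom.toAlgebra
  let e : MvPolynomial B (MvPolynomial C A) ≃ₐ[MvPolynomial C A]
      MvPolynomial (C ⊕ B) A :=
    AlgEquiv.ofRingEquiv (f := swapEquiv A B C) (fun p => swapEquiv_C A B C p)
  exact Algebra.FormallySmooth.of_equiv e

theorem pkgRing : PkgRing.{u} := by
  intro A B C _ _ _ _ _ _ _
  refine ⟨?_, ?_, ?_, ?_⟩
  · intro x
    exact AlgHom.congr_fun (c1Alg_eq A B C) x
  · intro x
    exact AlgHom.congr_fun (c2Alg_eq A B C) x
  · intro x
    exact AlgHom.congr_fun (πAlg_ρAlg A B C) x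
  · exact formallySmooth_ρAlg A B C

end Groth.Agent.R2.H88.NineRing
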