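import Mathlib
import Groth.Agent.R2.H56NineSpecA
import Groth.Agent.Lib.Helper19CotTReg

/-!
# PROJ:nine-term, PkgInv01 (helper94): homotopy invariance of the pull-backs on `T⁰`, `T¹`
-/

set_option autoImplicit false
set_option linter.unusedSectionVars false
universe u

open CotT Function TensorProduct

namespace Groth.Agent.R2.H94.NineInv01

open Groth.Agent.Lib.Helper19.CotTReg

section

variable {A B : Type u} [CommRing A] [CommRing B] [Algebra A B] {ι σ ι' σ' : Type u}
  {P : Algebra.Presentation A B ι σ} {P' : Algebra.Presentation A B ι' σ'}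
  (ρ : PresHom P P') (π : PresHom P' P) (M : Type u) [AddCommGroup M] [Module B M]

lemma T1pull_mk (c : cocycles1 P' M) :
    ρ.T1pull M (Submodule.Quotient.mk c) = Submodule.Quotient.mk (ρ.cocycles1Pull M c) := rfl

/-- a `0`-cocycle kills the image of the cotangent complex map -/
lemma T0_apply_cotangentComplex (t : T0 P' M) (y : P'.toExtension.Cotangent) :
    (t : L0 P' →ₗ[B] M) (P'.toExtension.cotangentComplex y) = 0 := by
  obtain ⟨z, rfl⟩ := toCot_surjective P' y
  have h := t.2
  rw [LinearMap.mem_ker] at h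
  have h2 := LinearMap.congr_fun h z
  exact h2

theorem T0pull_comp (t : T0 P' M) : π.T0pull M (ρ.T0pull M t) = t := by
  apply Subtype.ext
  refine LinearMap.ext fun x => ?_
  change (t : L0 P' →ₗ[B] M) (ρ.L0map (π.L0map x)) = (t : L0 P' →ₗ[B] M) x
  rw [PresHom.L0map_apply, PresHom.L0map_apply, ← Algebra.Extension.CotangentSpace.map_comp_apply]
  have h1 := LinearMap.congr_fun (Algebra.Extension.CotangentSpace.map_sub_map
    (ρ.hom.toExtensionHom.comp π.hom.toExtensionHom) (.id P'.toExtension)) x
  rw [LinearMap.sub_apply, Algebra.Extension.CotangentSpace.map_id, LinearMap.id_apply,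
    LinearMap.comp_apply, LinearMap.restrictScalars_apply, sub_eq_iff_eq_add] at h1
  rw [h1, map_add, T0_apply_cotangentComplex, zero_add]

theorem T1pull_comp (t : T1 P' M) : π.T1pull M (ρ.T1pull M t) = t := by
  obtain ⟨c, rfl⟩ := Submodule.Quotient.mk_surjective _ t
  rw [T1pull_mk, T1pull_mk, Submodule.Quotient.eq]
  -- factor the cocycle through `toCot`
  have hker : LinearMap.ker (toCot P') ≤ LinearMap.ker (c : L1 P' →ₗ[B] M) := by
    intro z hz
    obtain ⟨ξ, rfl⟩ := (exact_d2_toCot P' z).1 hz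
    have h := c.2
    rw [LinearMap.mem_ker] at h
    exact LinearMap.congr_fun h ξ
  let χ : P'.toExtension.Cotangent →ₗ[B] M :=
    ((LinearMap.ker (toCot P')).liftQ (c : L1 P' →ₗ[B] M) hker) ∘ₗ
      ((toCot P').quotKerEquivOfSurjective (toCot_surjective P')).symm.toLinearMap
  have hχ : ∀ z, χ (toCot P' z) = (c : L1 P' →ₗ[B] M) z := by
    intro z
    have e : ((toCot P').quotKerEquivOfSurjective (toCot_surjective P')).symm (toCot P' z) =
        Submodule.Quotient.mk z := by
      rw [LinearEquiv.symm_apply_eq, LinearMap.quotKerEquivOfSurjective_apply_mk]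
    change ((LinearMap.ker (toCot P')).liftQ (c : L1 P' →ₗ[B] M) hker)
      (((toCot P').quotKerEquivOfSurjective (toCot_surjective P')).symm (toCot P' z)) = _
    rw [e, Submodule.liftQ_apply]
  refine ⟨χ ∘ₗ ((ρ.hom.toExtensionHom.comp π.hom.toExtensionHom).sub (.id P'.toExtension)), ?_⟩
  refine LinearMap.ext fun z => ?_
  change χ (((ρ.hom.toExtensionHom.comp π.hom.toExtensionHom).sub (.id P'.toExtension))
      (P'.toExtension.cotangentComplex (toCot P' z))) =
    (c : L1 P' →ₗ[B] M) (ρ.L1map (π.L1map z)) - (c : L1 P' →ₗ[B] M) z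
  have h1 := LinearMap.congr_fun (Algebra.Extension.Cotangent.map_sub_map
    (ρ.hom.toExtensionHom.comp π.hom.toExtensionHom) (.id P'.toExtension)) (toCot P' z)
  rw [LinearMap.sub_apply, Algebra.Extension.Cotangent.map_id, LinearMap.id_apply,
    LinearMap.comp_apply] at h1
  have h2 := LinearMap.congr_fun (Algebra.Extension.Cotangent.map_comp _ π.hom.toExtensionHom
    ρ.hom.toExtensionHom) (toCot P' z)
  rw [LinearMap.comp_apply, LinearMap.restrictScalars_apply] at h2
  rw [← h1, h2, map_sub, hχ, ← PresHom.cotMap_apply, ← PresHom.cotMap_apply,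
    ← PresHom.toCot_L1map, ← PresHom.toCot_L1map, hχ]

end

theorem pkgInv01 : Groth.Agent.R2.H56.NineSpec.PkgInv01.{u} := by
  intro A B _ _ _ ι σ ι' σ' P P' ρ π M _ _
  exact ⟨T0pull_comp ρ π M, T1pull_comp ρ π M⟩

end Groth.Agent.R2.H94.NineInv01
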