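import Mathlib
import Groth.Agent.R2.H56NineSpecA
import Groth.Agent.Lib.Helper19KosInv

/-!
# PROJ:nine-term, PkgR2 (helper94): injectivity of the pull-back on `T²` along a formally smooth
morphism of presentations with a ring-level retraction (bridge to `Helper19KosInv.pull_injective`)
-/

set_option autoImplicit false
set_option linter.unusedSectionVars false
set_option linter.style.haveILetI false
universe u

open CotT Function TensorProduct

namespace Groth.Agent.R2.H94.NineR2

open Groth.Agent.Lib.Helper19.Kos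

section

variable {A B : Type u} [CommRing A] [CommRing B] [Algebra A B] {ι σ ι' σ' : Type u}
  {P : Algebra.Presentation A B ι σ} {P' : Algebra.Presentation A B ι' σ'}
  (ρ : PresHom P P') (π : PresHom P' P) (M : Type u) [AddCommGroup M] [Module B M]

lemma T2pull_mk (ψ : L2 P' →ₗ[B] M) :
    ρ.T2pull M (Submodule.Quotient.mk ψ) = Submodule.Quotient.mk (ρ.pull2 M ψ) := rfl

lemma jm_span' (z : P'.toExtension.Ring) (hz : algebraMap P'.toExtension.Ring B z = 0) :
    ∃ x, jm P'.toExtension.Ring (CotT.rel P') x = z := by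
  have h : z ∈ LinearMap.range (CotT.jmap P') := by
    rw [CotT.range_jmap]; exact hz
  obtain ⟨x, hx⟩ := h
  exact ⟨x, hx⟩

theorem T2pull_injective (hπρ : ∀ x, π.ringHom (ρ.ringHom x) = x)
    (hsm : @Algebra.FormallySmooth P.toExtension.Ring P'.toExtension.Ring _ _
      ρ.ringHom.toAlgebra) :
    Function.Injective (ρ.T2pull M) := by
  letI alg : Algebra P.toExtension.Ring P'.toExtension.Ring := ρ.ringHom.toAlgebra
  haveI : IsScalarTower P.toExtension.Ring P'.toExtension.Ring B :=
    IsScalarTower.of_algebraMap_eq (fun x => (ρ.algebraMap_ringHom x).symm)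
  haveI : Algebra.FormallySmooth P.toExtension.Ring P'.toExtension.Ring := hsm
  let r : P'.toExtension.Ring →ₐ[P.toExtension.Ring] P.toExtension.Ring :=
    { π.ringHom with commutes' := fun x => hπρ x }
  have hr : ∀ x, algebraMap P.toExtension.Ring B (r x) = algebraMap P'.toExtension.Ring B x :=
    fun x => π.algebraMap_ringHom x
  have hv : ∀ s, jm P'.toExtension.Ring (CotT.rel P') (ρ.relVal s) =
      algebraMap P.toExtension.Ring P'.toExtension.Ring (CotT.rel P s) := fun s => ρ.jmap_relVal s
  have hw : ∀ s, jm P.toExtension.Ring (CotT.rel P) (π.relVal s) =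
      (r : P'.toExtension.Ring →+* P.toExtension.Ring) (CotT.rel P' s) := fun s => π.jmap_relVal s
  have hinj := pull_injective (CotT.algebraMap_rel P) (CotT.algebraMap_rel P') r hr hv hw
    (jm_span' (P' := P')) M
  let Lam : L2 P →ₗ[B] L2 P' := Λ (algebraMap P.toExtension.Ring P'.toExtension.Ring)
      ρ.relVal (CotT.algebraMap_rel P') hτ_of_tower hv
  have hLam : ∀ q : relKer P, Lam (Submodule.Quotient.mk ((1 : B) ⊗ₜ[P.toExtension.Ring] q)) =
      Submodule.Quotient.mk ((1 : B) ⊗ₜ[P'.toExtension.Ring] ρ.relKerMap q) := fun q =>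
    Λ_mk2 (S := P.toExtension.Ring) (S' := P'.toExtension.Ring) (B := B)
      (CotT.algebraMap_rel P') hτ_of_tower hv q
  have key : ∀ z : L2 P, ρ.L2map z = Lam z := by
    intro z
    induction z using Submodule.Quotient.induction_on with
    | H z =>
      induction z using TensorProduct.induction_on with
      | zero => rw [Submodule.Quotient.mk_zero, map_zero, map_zero]
      | add x y hx hy =>
        rw [Submodule.Quotient.mk_add, map_add, map_add, hx, hy]
      | tmul b q =>
        rw [PresHom.L2map_mk_tmul]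
        have e1 : (Submodule.Quotient.mk (b ⊗ₜ[P.toExtension.Ring] q) : L2 P) =
            b • (Submodule.Quotient.mk ((1 : B) ⊗ₜ[P.toExtension.Ring] q) : L2 P) := by
          rw [← Submodule.Quotient.mk_smul, TensorProduct.smul_tmul', smul_eq_mul, mul_one]
        rw [e1, map_smul, hLam, ← Submodule.Quotient.mk_smul, TensorProduct.smul_tmul',
          smul_eq_mul, mul_one]
        rfl
  intro x y hxy
  apply hinj
  obtain ⟨ψ, rfl⟩ := Submodule.Quotient.mk_surjective _ x
  obtain ⟨ψ', rfl⟩ := Submodule.Quotient.mk_surjective _ y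
  rw [T2pull_mk, T2pull_mk] at hxy
  have e : ∀ φ : L2 P' →ₗ[B] M, ρ.pull2 M φ = φ ∘ₗ Lam := by
    intro φ
    refine LinearMap.ext fun z => ?_
    rw [PresHom.pull2_apply, key, LinearMap.comp_apply]
  rw [e, e] at hxy
  exact hxy

end

theorem pkgR2 : Groth.Agent.R2.H56.NineSpec.PkgR2.{u} := by
  intro A B _ _ _ ι σ ι' σ' P P' ρ π hπρ hsm M _ _
  exact T2pull_injective ρ π M hπρ hsm

end Groth.Agent.R2.H94.NineR2
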