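import Mathlib
import Groth.Prelude.Def_CotT2
import Groth.Agent.R2.H56NineSpecA
import Groth.Agent.R2.H56NineSpecB
import Groth.Agent.R2.H56NineE2
import Groth.Agent.R2.H66NineLES
import Groth.Agent.R2.H66NineId
import Groth.Agent.R2.H6NineC
import Groth.Agent.R2.H6NineE01
import Groth.Agent.R2.H88NineRing
import Groth.Agent.R2.H94NineInv01
import Groth.Agent.R2.H94NineR2

/-!
# PROJ:nine-term (S12285): assembly

Part 1: the nine-term sequence of the triple `(canon B C, midPres A B C, canon A B)` (from the short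
exact sequence of dual complexes, `PkgE01`, `PkgE2`, and the abstract `PkgLES`).
Part 2: transfer to the canonical presentation `canon A C` via `ρHom`, `πHom`.
-/

set_option autoImplicit false
universe u

open CotT Function

namespace Groth.Agent.R2.H56.NineMain

open Groth.Agent.R2.H56.NineSpec

/-! ## cohomology data of one presentation -/

section data

variable {A B : Type u} [CommRing A] [CommRing B] [Algebra A B] {ι σ : Type u}
  (P : Algebra.Presentation A B ι σ) (M : Type u) [AddCommGroup M] [Module B M]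

/-- `d₁^*` as an additive map. -/
noncomputable def d1A : (L0 P →ₗ[B] M) →+ (L1 P →ₗ[B] M) := (d1Star P M).toAddMonoidHom

/-- `d₂^*` as an additive map. -/
noncomputable def d2A : (L1 P →ₗ[B] M) →+ (L2 P →ₗ[B] M) := (d2Star P M).toAddMonoidHom

/-- the class map from the `1`-cocycles (as an additive subgroup) to `T¹`. -/
noncomputable def cMap : (d2A P M).ker →+ T1 P M where
  toFun x := Submodule.Quotient.mk ⟨x.1, x.2⟩
  map_zero' := rfl
  map_add' _ _ := rfl

lemma cMap_surjective : Surjective (cMap P M) := by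
  intro t
  induction t using Submodule.Quotient.induction_on with
  | H c => exact ⟨⟨c.1, c.2⟩, rfl⟩

lemma cMap_eq_zero_iff (x : (d2A P M).ker) :
    cMap P M x = 0 ↔ ∃ w, d1A P M w = (x : L1 P →ₗ[B] M) := by
  change Submodule.Quotient.mk _ = 0 ↔ _
  rw [Submodule.Quotient.mk_eq_zero]
  exact Iff.rfl

/-- the quotient map to `T²`. -/
noncomputable def qMap : (L2 P →ₗ[B] M) →+ T2 P M :=
  (LinearMap.range (d2Star P M)).mkQ.toAddMonoidHom

lemma qMap_surjective : Surjective (qMap P M) := Submodule.mkQ_surjective _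

lemma qMap_eq_zero_iff (x : L2 P →ₗ[B] M) :
    qMap P M x = 0 ↔ ∃ w, d2A P M w = x := by
  change Submodule.Quotient.mk _ = 0 ↔ _
  rw [Submodule.Quotient.mk_eq_zero]
  exact Iff.rfl

/-- the inclusion of `T⁰`. -/
noncomputable def iMap : T0 P M →+ (L0 P →ₗ[B] M) :=
  (LinearMap.ker (d1Star P M)).subtype.toAddMonoidHom

lemma iMap_injective : Injective (iMap P M) := Subtype.val_injective

lemma iMap_range (x : L0 P →ₗ[B] M) :
    d1A P M x = 0 ↔ ∃ h, iMap P M h = x :=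
  ⟨fun hx => ⟨⟨x, hx⟩, rfl⟩, by rintro ⟨h, rfl⟩; exact h.2⟩

lemma dd (x : L0 P →ₗ[B] M) : d2A P M (d1A P M x) = 0 :=
  LinearMap.congr_fun (d2Star_comp_d1Star P M) x

end data

section hom

variable {A B A' B' : Type u} [CommRing A] [CommRing B] [Algebra A B] [CommRing A'] [CommRing B']
  [Algebra A' B'] [Algebra A A'] [Algebra B B'] [Algebra A B'] [IsScalarTower A A' B']
  [IsScalarTower A B B'] {ι σ ι' σ' : Type u}
  {P : Algebra.Presentation A B ι σ} {P' : Algebra.Presentation A' B' ι' σ'} (h : PresHom P P')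
  (M' : Type u) [AddCommGroup M'] [Module B' M'] [Module B M'] [IsScalarTower B B' M']

/-- the pull-backs on cochains as additive maps. -/
noncomputable def p0 : (L0 P' →ₗ[B'] M') →+ (L0 P →ₗ[B] M') := (h.pull0 M').toAddMonoidHom
/-- the pull-backs on cochains as additive maps. -/
noncomputable def p1 : (L1 P' →ₗ[B'] M') →+ (L1 P →ₗ[B] M') := (h.pull1 M').toAddMonoidHom
/-- the pull-backs on cochains as additive maps. -/
noncomputable def p2 : (L2 P' →ₗ[B'] M') →+ (L2 P →ₗ[B] M') := (h.pull2 M').toAddMonoidHom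

/-- the pull-backs on cohomology as additive maps. -/
noncomputable def t0 : T0 P' M' →+ T0 P M' := (h.T0pull M').toAddMonoidHom
/-- the pull-backs on cohomology as additive maps. -/
noncomputable def t1 : T1 P' M' →+ T1 P M' := (h.T1pull M').toAddMonoidHom
/-- the pull-backs on cohomology as additive maps. -/
noncomputable def t2 : T2 P' M' →+ T2 P M' := (h.T2pull M').toAddMonoidHom

lemma p1_d1A (x : L0 P' →ₗ[B'] M') : p1 h M' (d1A P' M' x) = d1A P M' (p0 h M' x) :=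
  h.pull1_d1Star M' x

lemma p2_d2A (x : L1 P' →ₗ[B'] M') : p2 h M' (d2A P' M' x) = d2A P M' (p1 h M' x) :=
  h.pull2_d2Star M' x

lemma t0_iMap (t : T0 P' M') :
    iMap P M' (t0 h M' t) = p0 h M' (iMap P' M' t) := rfl

lemma t1_cMap (x : (d2A P' M').ker) (y : (d2A P M').ker)
    (hxy : (y : L1 P →ₗ[B] M') = p1 h M' (x : L1 P' →ₗ[B'] M')) :
    t1 h M' (cMap P' M' x) = cMap P M' y := by
  obtain ⟨y, hy⟩ := y
  change y = _ at hxy
  subst hxy
  rfl

lemma t2_qMap (x : L2 P' →ₗ[B'] M') :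
    t2 h M' (qMap P' M' x) = qMap P M' (p2 h M' x) := rfl

end hom

/-! ## Part 1: the nine-term sequence of the mid presentation -/

section part1

variable (A B C : Type u) [CommRing A] [CommRing B] [CommRing C] [Algebra A B] [Algebra B C]
  [Algebra A C] [IsScalarTower A B C]
  (M : Type u) [AddCommGroup M] [Module C M] [Module B M] [IsScalarTower B C M]

theorem mid_nine :
    Injective ((aHom A B C).T0pull M) ∧
    Exact ((aHom A B C).T0pull M) ((bHom A B C).T0pull M) ∧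
    Exact ((aHom A B C).T1pull M) ((bHom A B C).T1pull M) ∧
    Exact ((aHom A B C).T2pull M) ((bHom A B C).T2pull M) ∧
    ∃ (δ₀ : T0 (canon A B) M →+ T1 (canon B C) M) (δ₁ : T1 (canon A B) M →+ T2 (canon B C) M),
      Exact ((bHom A B C).T0pull M) δ₀ ∧ Exact δ₀ ((aHom A B C).T1pull M) ∧
      Exact ((bHom A B C).T1pull M) δ₁ ∧ Exact δ₁ ((aHom A B C).T2pull M) := by
  have h01 := Groth.Agent.R2.H6.NineE01.pkgE01 A B C M
  obtain ⟨⟨e0i, e0e, e0s⟩, ⟨e1i, e1e, e1s⟩⟩ := h01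
  have h2 := Groth.Agent.R2.H56.NineE2.pkgE2 A B C M
  obtain ⟨e2i, e2e⟩ := h2
  have f0i : Injective (p0 (aHom A B C) M) := e0i
  have f1i : Injective (p1 (aHom A B C) M) := e1i
  have f2i : Injective (p2 (aHom A B C) M) := e2i
  have f0e : ∀ y, p0 (bHom A B C) M y = 0 ↔ ∃ x, p0 (aHom A B C) M x = y := e0e
  have f1e : ∀ y, p1 (bHom A B C) M y = 0 ↔ ∃ x, p1 (aHom A B C) M x = y := e1e
  have f2e : ∀ y, p2 (bHom A B C) M y = 0 ↔ ∃ x, p2 (aHom A B C) M x = y := e2e
  have f0s : Surjective (p0 (bHom A B C) M) := e0s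
  have f1s : Surjective (p1 (bHom A B C) M) := e1s
  have key := Groth.Agent.R2.H66.NineLES.pkgLES
    (L0 (canon B C) →ₗ[C] M) (L1 (canon B C) →ₗ[C] M) (L2 (canon B C) →ₗ[C] M)
    (L0 (midPres A B C) →ₗ[C] M) (L1 (midPres A B C) →ₗ[C] M) (L2 (midPres A B C) →ₗ[C] M)
    (L0 (canon A B) →ₗ[B] M) (L1 (canon A B) →ₗ[B] M) (L2 (canon A B) →ₗ[B] M)
    (d1A (canon B C) M) (d2A (canon B C) M)
    (d1A (midPres A B C) M) (d2A (midPres A B C) M)
    (d1A (canon A B) M) (d2A (canon A B) M)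
    (dd _ M) (dd _ M) (dd _ M)
    (p0 (aHom A B C) M) (p1 (aHom A B C) M) (p2 (aHom A B C) M)
    (p0 (bHom A B C) M) (p1 (bHom A B C) M) (p2 (bHom A B C) M)
    (p1_d1A (aHom A B C) M) (p2_d2A (aHom A B C) M)
    (p1_d1A (bHom A B C) M) (p2_d2A (bHom A B C) M)
    f0i f1i f2i f0e f1e f2e f0s f1s
    (T0 (canon B C) M) (T1 (canon B C) M) (T2 (canon B C) M)
    (T0 (midPres A B C) M) (T1 (midPres A B C) M) (T2 (midPres A B C) M)
    (T0 (canon A B) M) (T1 (canon A B) M) (T2 (canon A B) M)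
    (iMap _ M) (iMap _ M) (iMap _ M)
    (iMap_injective _ M) (iMap_injective _ M) (iMap_injective _ M)
    (iMap_range _ M) (iMap_range _ M) (iMap_range _ M)
    (cMap _ M) (cMap _ M) (cMap _ M)
    (cMap_surjective _ M) (cMap_surjective _ M) (cMap_surjective _ M)
    (cMap_eq_zero_iff _ M) (cMap_eq_zero_iff _ M) (cMap_eq_zero_iff _ M)
    (qMap _ M) (qMap _ M) (qMap _ M)
    (qMap_surjective _ M) (qMap_surjective _ M) (qMap_surjective _ M)
    (qMap_eq_zero_iff _ M) (qMap_eq_zero_iff _ M) (qMap_eq_zero_iff _ M)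
    (t0 (aHom A B C) M) (t0 (bHom A B C) M)
    (t1 (aHom A B C) M) (t1 (bHom A B C) M)
    (t2 (aHom A B C) M) (t2 (bHom A B C) M)
    (t0_iMap (aHom A B C) M) (t0_iMap (bHom A B C) M)
    (t1_cMap (aHom A B C) M) (t1_cMap (bHom A B C) M)
    (t2_qMap (aHom A B C) M) (t2_qMap (bHom A B C) M)
  exact key

end part1

/-! ## Part 2: transfer along a bijection -/

section abstractTransfer

variable {W X Y Y' Z V : Type*}

lemma exact_mid [Zero Z] {a : X → Y} {b : Y → Z} {ρ : Y → Y'} {π : Y' → Y} {c₁ : X → Y'} {c₂ : Y' → Z}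
    (hρπ : ∀ y', ρ (π y') = y') (hπρ : ∀ y, π (ρ y) = y)
    (hc₁ : ∀ x, c₁ x = ρ (a x)) (hc₂ : ∀ y', c₂ y' = b (π y')) (h : Exact a b) :
    Exact c₁ c₂ := by
  intro y'
  rw [hc₂, h (π y')]
  constructor
  · rintro ⟨x, hx⟩
    exact ⟨x, by rw [hc₁, hx, hρπ]⟩
  · rintro ⟨x, rfl⟩
    exact ⟨x, by rw [hc₁, hπρ]⟩

lemma exact_left [Zero V] {b : Y → Z} {ρ : Y → Y'} {π : Y' → Y} {c₂ : Y' → Z} {δ : Z → V}
    (hπρ : ∀ y, π (ρ y) = y) (hc₂ : ∀ y', c₂ y' = b (π y')) (h : Exact b δ) :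
    Exact c₂ δ := by
  intro z
  rw [h z]
  constructor
  · rintro ⟨y, rfl⟩
    exact ⟨ρ y, by rw [hc₂, hπρ]⟩
  · rintro ⟨y', rfl⟩
    exact ⟨π y', (hc₂ y').symm⟩

lemma exact_right [Zero Y] [Zero Y'] {δ : W → X} {a : X → Y} {ρ : Y → Y'} {c₁ : X → Y'}
    (hρ0 : ρ 0 = 0) (hρinj : Injective ρ) (hc₁ : ∀ x, c₁ x = ρ (a x)) (h : Exact δ a) :
    Exact δ c₁ := by
  intro x
  rw [hc₁, ← h x]
  constructor
  · intro hx
    exact hρinj (hx.trans hρ0.symm)
  · intro hx
    rw [hx, hρ0]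

end abstractTransfer

section part2

variable (A B C : Type u) [CommRing A] [CommRing B] [CommRing C] [Algebra A B] [Algebra B C]
  [Algebra A C] [IsScalarTower A B C]
  (M : Type u) [AddCommGroup M] [Module C M] [Module B M] [IsScalarTower B C M]

lemma id_ringHom {A B : Type u} [CommRing A] [CommRing B] [Algebra A B] {ι σ : Type u}
    (P : Algebra.Presentation A B ι σ) (x : P.toExtension.Ring) : (PresHom.id P).ringHom x = x := by
  show (Algebra.Generators.Hom.id P.toGenerators).toExtensionHom.toRingHom x = x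
  rw [Algebra.Generators.Hom.toExtensionHom_id]
  rfl

omit [Module B M] [IsScalarTower B C M] in
/-- `c₁^* = ρ^* ∘ a^*`. -/
theorem c1_eq :
    (∀ t, (canonHom A C B C).T0pull M t = (ρHom A B C).T0pull M ((aHom A B C).T0pull M t)) ∧
    (∀ t, (canonHom A C B C).T1pull M t = (ρHom A B C).T1pull M ((aHom A B C).T1pull M t)) ∧
    (∀ t, (canonHom A C B C).T2pull M t = (ρHom A B C).T2pull M ((aHom A B C).T2pull M t)) := by
  have hr := Groth.Agent.R2.H88.NineRing.pkgRing A B C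
  obtain ⟨r1, r2, r3, fs⟩ := hr
  have h := Groth.Agent.R2.H6.NineC.pkgCPre A C B C _ _ _ _ _ _ (canon A C) (midPres A B C)
    (canon B C) (ρHom A B C) (aHom A B C) (canonHom A C B C) r1 M
  exact h

/-- `c₂^* = b^* ∘ π^*`. -/
theorem c2_eq :
    (∀ t, (canonHom A B A C).T0pull M t = (bHom A B C).T0pull M ((πHom A B C).T0pull M t)) ∧
    (∀ t, (canonHom A B A C).T1pull M t = (bHom A B C).T1pull M ((πHom A B C).T1pull M t)) ∧
    (∀ t, (canonHom A B A C).T2pull M t = (bHom A B C).T2pull M ((πHom A B C).T2pull M t)) := by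
  have hr := Groth.Agent.R2.H88.NineRing.pkgRing A B C
  obtain ⟨r1, r2, r3, fs⟩ := hr
  have h := Groth.Agent.R2.H6.NineC.pkgCPost A B A C _ _ _ _ _ _ (canon A B) (midPres A B C)
    (canon A C) (bHom A B C) (πHom A B C) (canonHom A B A C) r2 M
  exact h

omit [Module B M] [IsScalarTower B C M] in
/-- `ρ^* ∘ π^* = id`. -/
theorem rho_pi :
    (∀ t : T0 (canon A C) M, (ρHom A B C).T0pull M ((πHom A B C).T0pull M t) = t) ∧
    (∀ t : T1 (canon A C) M, (ρHom A B C).T1pull M ((πHom A B C).T1pull M t) = t) ∧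
    (∀ t : T2 (canon A C) M, (ρHom A B C).T2pull M ((πHom A B C).T2pull M t) = t) := by
  have hr := Groth.Agent.R2.H88.NineRing.pkgRing A B C
  obtain ⟨r1, r2, r3, fs⟩ := hr
  have h := Groth.Agent.R2.H6.NineC.pkgCPre A C A C _ _ _ _ _ _ (canon A C) (midPres A B C)
    (canon A C) (ρHom A B C) (πHom A B C) (PresHom.id (canon A C))
    (fun x => (id_ringHom _ x).trans (r3 x).symm) M
  have hid := Groth.Agent.R2.H66.NineId.pkgId A C _ _ (canon A C) (PresHom.id (canon A C))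
    (id_ringHom _) M
  obtain ⟨h0, h1, h2⟩ := h
  obtain ⟨i0, i1, i2⟩ := hid
  exact ⟨fun t => (h0 t).symm.trans (i0 t), fun t => (h1 t).symm.trans (i1 t),
    fun t => (h2 t).symm.trans (i2 t)⟩

omit [Module B M] [IsScalarTower B C M] in
/-- `π^* ∘ ρ^* = id`. -/
theorem pi_rho :
    (∀ t : T0 (midPres A B C) M, (πHom A B C).T0pull M ((ρHom A B C).T0pull M t) = t) ∧
    (∀ t : T1 (midPres A B C) M, (πHom A B C).T1pull M ((ρHom A B C).T1pull M t) = t) ∧
    (∀ t : T2 (midPres A B C) M, (πHom A B C).T2pull M ((ρHom A B C).T2pull M t) = t) := by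
  have hr := Groth.Agent.R2.H88.NineRing.pkgRing A B C
  obtain ⟨r1, r2, r3, fs⟩ := hr
  have h01 := Groth.Agent.R2.H94.NineInv01.pkgInv01 A C _ _ _ _ (canon A C) (midPres A B C)
    (ρHom A B C) (πHom A B C) M
  have h2 := Groth.Agent.R2.H94.NineR2.pkgR2 A C _ _ _ _ (canon A C) (midPres A B C)
    (ρHom A B C) (πHom A B C) r3 fs M
  obtain ⟨i0, i1⟩ := h01
  have hρπ := rho_pi A B C M
  obtain ⟨-, -, j2⟩ := hρπ
  refine ⟨i0, i1, fun t => h2 ?_⟩
  exact j2 ((ρHom A B C).T2pull M t)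

theorem nine :
    Injective ((canonHom A C B C).T0pull M) ∧
    Exact ((canonHom A C B C).T0pull M) ((canonHom A B A C).T0pull M) ∧
    Exact ((canonHom A C B C).T1pull M) ((canonHom A B A C).T1pull M) ∧
    Exact ((canonHom A C B C).T2pull M) ((canonHom A B A C).T2pull M) ∧
    ∃ (δ₀ : T0 (canon A B) M →+ T1 (canon B C) M) (δ₁ : T1 (canon A B) M →+ T2 (canon B C) M),
      Exact ((canonHom A B A C).T0pull M) δ₀ ∧ Exact δ₀ ((canonHom A C B C).T1pull M) ∧
      Exact ((canonHom A B A C).T1pull M) δ₁ ∧ Exact δ₁ ((canonHom A C B C).T2pull M) := by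
  have hc1 := c1_eq A B C M
  obtain ⟨c10, c11, c12⟩ := hc1
  have hc2 := c2_eq A B C M
  obtain ⟨c20, c21, c22⟩ := hc2
  have hρπ := rho_pi A B C M
  obtain ⟨ρπ0, ρπ1, ρπ2⟩ := hρπ
  have hπρ := pi_rho A B C M
  obtain ⟨πρ0, πρ1, πρ2⟩ := hπρ
  have hmid := mid_nine A B C M
  obtain ⟨inj, e0, e1, e2, δ₀, δ₁, x1, x2, x3, x4⟩ := hmid
  have ρ0inj : Injective ((ρHom A B C).T0pull M) := LeftInverse.injective πρ0
  have ρ1inj : Injective ((ρHom A B C).T1pull M) := LeftInverse.injective πρ1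
  have ρ2inj : Injective ((ρHom A B C).T2pull M) := LeftInverse.injective πρ2
  refine ⟨?_, exact_mid ρπ0 πρ0 c10 c20 e0, exact_mid ρπ1 πρ1 c11 c21 e1,
    exact_mid ρπ2 πρ2 c12 c22 e2, δ₀, δ₁, exact_left πρ0 c20 x1,
    exact_right (map_zero _) ρ1inj c11 x2, exact_left πρ1 c21 x3,
    exact_right (map_zero _) ρ2inj c12 x4⟩
  intro s t hst
  rw [c10, c10] at hst
  exact inj (ρ0inj hst)

end part2

end Groth.Agent.R2.H56.NineMain
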