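import Groth.Agent.R2.H56AffDef2
import Groth.Agent.Lib.Helper19ArcE
import Mathlib.RingTheory.Flat.TorsionFree
import Mathlib.RingTheory.TensorProduct.Quotient
import Mathlib.RingTheory.RingHom.Flat

/-!
# The family `xy = T` over `k[T]/(T^(n+1))` (helper56)

ns `Groth.Agent.R2.H56.Node`: `U k = k[x,y]`, `NodeRing k = k[x,y]/(xy)`, `Rn k n = k[x,y]/((xy)^(n+1))` as an algebra over
`Tr k (n+1) = k[T]/(T^(n+1))` through `T ↦ xy`, flat (`flat_φn`), and the algebraic deformation `nodeDef k n` of `NodeRing k`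
over `trArt k n`.
-/

set_option autoImplicit false

universe u

namespace Groth.Agent.R2.H56.Node

open ArtFun ArtFun.Art Groth.Agent.R2.H56.AffDef Groth.Agent.Lib.Helper19.Arc

variable (k : Type u) [Field k]

/-- `k[x,y]`. -/
abbrev U : Type u := MvPolynomial (Fin 2) k

/-- `xy`. -/
noncomputable def xy : U k := MvPolynomial.X 0 * MvPolynomial.X 1

/-- `k[x,y]/(xy)`. -/
abbrev NodeRing : Type u := U k ⧸ Ideal.span {xy k}

/-- `k[T] → k[x,y]`, `T ↦ xy`. -/
noncomputable def ev : Polynomial k →ₐ[k] U k := Polynomial.aeval (xy k)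

@[simp] theorem ev_X : ev k Polynomial.X = xy k := Polynomial.aeval_X _

/-- `k[x,y] → k[T]`, `x ↦ T`, `y ↦ 1`. -/
noncomputable def back : U k →ₐ[k] Polynomial k :=
  MvPolynomial.aeval (fun i : Fin 2 => if i = 0 then Polynomial.X else 1)

theorem back_ev (p : Polynomial k) : back k (ev k p) = p := by
  have h : (back k).comp (ev k) = AlgHom.id k (Polynomial k) := by
    apply Polynomial.algHom_ext
    simp [back, ev, xy]
  exact AlgHom.congr_fun h p

theorem ev_injective : Function.Injective (ev k) :=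
  Function.LeftInverse.injective (back_ev k)

theorem flat_ev :
    letI : Algebra (Polynomial k) (U k) := (ev k).toRingHom.toAlgebra
    Module.Flat (Polynomial k) (U k) := by
  letI : Algebra (Polynomial k) (U k) := (ev k).toRingHom.toAlgebra
  rw [Module.Flat.flat_iff_torsion_eq_bot_of_isBezout, eq_bot_iff]
  intro x hx
  rw [Submodule.mem_torsion_iff] at hx
  obtain ⟨a, ha⟩ := hx
  rw [Submodule.mem_bot]
  have h1 : ev k (a : Polynomial k) * x = 0 := ha
  rcases mul_eq_zero.1 h1 with h2 | h2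
  · exfalso
    have h3 : (a : Polynomial k) = 0 := ev_injective k (h2.trans (map_zero _).symm)
    exact nonZeroDivisors.coe_ne_zero a h3
  · exact h2

/-- `(T^(n+1))`. -/
noncomputable abbrev In (n : ℕ) : Ideal (Polynomial k) := Ideal.span {(Polynomial.X : Polynomial k) ^ (n + 1)}

/-- `((xy)^(n+1))`, as the extension of `(T^(n+1))`. -/
noncomputable abbrev Jn (n : ℕ) : Ideal (U k) := Ideal.map (ev k).toRingHom (In k n)

theorem Jn_eq (n : ℕ) : Jn k n = Ideal.span {xy k ^ (n + 1)} := by
  rw [Jn, In, Ideal.map_span, Set.image_singleton]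
  congr 2
  change ev k (Polynomial.X ^ (n + 1)) = _
  rw [map_pow, ev_X]

/-- `k[x,y]/((xy)^(n+1))`. -/
abbrev Rn (n : ℕ) : Type u := U k ⧸ Jn k n

/-- The structure map `k[T]/(T^(n+1)) → k[x,y]/((xy)^(n+1))`. -/
noncomputable def φn (n : ℕ) : Tr k (n + 1) →+* Rn k n :=
  Ideal.quotientMap (Jn k n) (ev k).toRingHom Ideal.le_comap_map

theorem φn_mk (n : ℕ) (p : Polynomial k) :
    φn k n (Ideal.Quotient.mk _ p) = Ideal.Quotient.mk _ (ev k p) := rfl

theorem flat_φn (n : ℕ) : (φn k n).Flat := by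
  letI : Algebra (Polynomial k) (U k) := (ev k).toRingHom.toAlgebra
  haveI : Module.Flat (Polynomial k) (U k) := flat_ev k
  have h1 : Module.Flat (Tr k (n + 1))
      (U k ⧸ (In k n).map (algebraMap (Polynomial k) (U k))) :=
    Module.Flat.of_linearEquiv
      (Algebra.TensorProduct.quotIdealMapEquivQuotTensor (U k) (In k n)).toLinearEquiv
  have h2 : (algebraMap (Tr k (n + 1))
      (U k ⧸ (In k n).map (algebraMap (Polynomial k) (U k)))).Flat :=
    RingHom.flat_algebraMap_iff.2 h1
  have h3 : algebraMap (Tr k (n + 1)) (U k ⧸ (In k n).map (algebraMap (Polynomial k) (U k))) =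
      φn k n := by
    apply Ideal.Quotient.ringHom_ext
    exact RingHom.ext fun p => rfl
  rw [← h3]
  exact h2

theorem Jn_le (n : ℕ) : Jn k n ≤ Ideal.span {xy k} := by
  rw [Jn_eq, Ideal.span_singleton_le_iff_mem, pow_succ]
  exact Ideal.mul_mem_left _ _ (Ideal.mem_span_singleton_self _)

/-- The reduction `k[x,y]/((xy)^(n+1)) → k[x,y]/(xy)`. -/
noncomputable def πn (n : ℕ) : Rn k n →+* NodeRing k := Ideal.Quotient.factor (Jn_le k n)

theorem πn_mk (n : ℕ) (g : U k) :
    πn k n (Ideal.Quotient.mk _ g) = Ideal.Quotient.mk _ g := rfl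

theorem πn_surjective (n : ℕ) : Function.Surjective (πn k n) := fun b => by
  obtain ⟨g, rfl⟩ := Ideal.Quotient.mk_surjective b
  exact ⟨Ideal.Quotient.mk _ g, rfl⟩

theorem mk_ev (p : Polynomial k) :
    Ideal.Quotient.mk (Ideal.span {xy k}) (ev k p) = algebraMap k (NodeRing k) (p.coeff 0) := by
  induction p using Polynomial.induction_on' with
  | add p q hp hq => rw [map_add, map_add, hp, hq, Polynomial.coeff_add, map_add]
  | monomial n a =>
    rcases Nat.eq_zero_or_pos n with rfl | hn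
    · simp only [Polynomial.monomial_zero_left, Polynomial.coeff_C_zero]
      change Ideal.Quotient.mk _ (ev k (algebraMap k (Polynomial k) a)) = _
      rw [(ev k).commutes]
      rfl
    · rw [Polynomial.coeff_monomial, if_neg (Nat.ne_of_gt hn), map_zero,
        Ideal.Quotient.eq_zero_iff_mem, ← Polynomial.C_mul_X_pow_eq_monomial, map_mul, map_pow, ev_X]
      obtain ⟨m, rfl⟩ := Nat.exists_eq_succ_of_ne_zero (Nat.ne_of_gt hn)
      rw [pow_succ]
      exact Ideal.mul_mem_left _ _ (Ideal.mul_mem_left _ _ (Ideal.mem_span_singleton_self _))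

theorem πn_φn (n : ℕ) (t : Tr k (n + 1)) :
    πn k n (φn k n t) = algebraMap k (NodeRing k) (trRes k n t) := by
  obtain ⟨p, rfl⟩ := Ideal.Quotient.mk_surjective t
  rw [φn_mk, πn_mk, trRes_mk, mk_ev]

theorem ker_trRes (n : ℕ) : RingHom.ker (trRes k n).toRingHom = Ideal.span {tt k (n + 1)} := by
  apply le_antisymm
  · intro t ht
    obtain ⟨p, rfl⟩ := Ideal.Quotient.mk_surjective t
    have h1 : p.coeff 0 = 0 := by
      have : trRes k n (Ideal.Quotient.mk _ p) = 0 := ht
      rwa [trRes_mk] at this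
    obtain ⟨q, rfl⟩ := Polynomial.X_dvd_iff.2 h1
    rw [map_mul]
    exact Ideal.mul_mem_right _ (Ideal.span {tt k (n + 1)})
      (Ideal.mem_span_singleton_self (tt k (n + 1)))
  · rw [Ideal.span_singleton_le_iff_mem, RingHom.mem_ker]
    change trRes k n (Ideal.Quotient.mk _ Polynomial.X) = 0
    rw [trRes_mk, Polynomial.coeff_X_zero]

theorem ker_πn (n : ℕ) :
    RingHom.ker (πn k n) = Ideal.map (φn k n) (RingHom.ker (trRes k n).toRingHom) := by
  rw [ker_trRes, Ideal.map_span, Set.image_singleton]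
  have h0 : φn k n (tt k (n + 1)) = Ideal.Quotient.mk _ (xy k) := by
    change φn k n (Ideal.Quotient.mk _ Polynomial.X) = _
    rw [φn_mk, ev_X]
  rw [h0]
  apply le_antisymm
  · intro r hr
    obtain ⟨g, rfl⟩ := Ideal.Quotient.mk_surjective r
    rw [RingHom.mem_ker, πn_mk, Ideal.Quotient.eq_zero_iff_mem, Ideal.mem_span_singleton] at hr
    obtain ⟨h, rfl⟩ := hr
    rw [map_mul]
    exact Ideal.mul_mem_right _ (Ideal.span {Ideal.Quotient.mk (Jn k n) (xy k)})
      (Ideal.mem_span_singleton_self (Ideal.Quotient.mk (Jn k n) (xy k)))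
  · rw [Ideal.span_singleton_le_iff_mem, RingHom.mem_ker, πn_mk, Ideal.Quotient.eq_zero_iff_mem]
    exact Ideal.mem_span_singleton_self _

/-- The deformation `xy = T` of the node over `k[T]/(T^(n+1))`. -/
noncomputable def nodeDef (n : ℕ) : AlgDef (NodeRing k) (trArt k n) where
  R := Rn k n
  φ := φn k n
  flat := flat_φn k n
  π := πn k n
  comm := RingHom.ext fun t => πn_φn k n t
  surj := πn_surjective k n
  ker_eq := ker_πn k n

end Groth.Agent.R2.H56.Node
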