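import Groth.Agent.R2.H56NodeAlg

/-!
# Truncated polynomial rings: the automorphism `T ↦ T + T²` of `k[T]/(T³)` (helper56)

ns `Groth.Agent.R2.H56.Node`: the morphisms `fArt : trArt k 2 ⟶ trArt k 1` (reduction), `τArt : trArt k 2 ⟶ trArt k 2`
(`T ↦ T + T²`), `γ₀ : trArt k 2 ⟶ trArt k 1` (through the residue field), and the fact that an element of `k[T]/(T³)` fixed by
`τ` reduces to a constant modulo `T²`.
-/

set_option autoImplicit false

universe u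

namespace Groth.Agent.R2.H56.Node

open CategoryTheory
open ArtFun ArtFun.Art Groth.Agent.R2.H56.AffDef Groth.Agent.Lib.Helper19.Arc

variable {k : Type u} [Field k]

/-- Algebra maps out of a truncated polynomial ring are determined by the image of `T`. -/
theorem tr_algHom_ext {l : ℕ} {S : Type*} [Semiring S] [Algebra k S] {f g : Tr k l →ₐ[k] S}
    (h : f (tt k l) = g (tt k l)) : f = g := by
  apply Ideal.Quotient.algHom_ext
  apply Polynomial.algHom_ext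
  exact h

theorem trRes_tt (m : ℕ) : trRes k m (tt k (m + 1)) = 0 := by
  change trRes k m (Ideal.Quotient.mk _ Polynomial.X) = 0
  rw [trRes_mk, Polynomial.coeff_X_zero]

/-- The reduction `k[T]/(T³) → k[T]/(T²)`. -/
noncomputable def fArt : trArt k 2 ⟶ trArt k 1 :=
  Art.homMk (trans (k := k) 2) (tr_algHom_ext (by
    change trRes k 1 (trans 2 (tt k 3)) = trRes k 2 (tt k 3)
    rw [trans_tt, trRes_tt, trRes_tt]))

theorem fArt_apply (a : Tr k 3) : (fArt (k := k)) a = trans 2 a := rfl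

theorem tau_aux : (tt k 3 + tt k 3 ^ 2) ^ 3 = 0 := by
  have h : tt k 3 ^ 3 = 0 := tt_pow_self 3
  have h4 : tt k 3 ^ 4 = 0 := by rw [pow_succ, h, zero_mul]
  have h5 : tt k 3 ^ 5 = 0 := by rw [pow_succ, h4, zero_mul]
  have h6 : tt k 3 ^ 6 = 0 := by rw [pow_succ, h5, zero_mul]
  calc (tt k 3 + tt k 3 ^ 2) ^ 3
      = tt k 3 ^ 3 + 3 * tt k 3 ^ 4 + 3 * tt k 3 ^ 5 + tt k 3 ^ 6 := by ring
    _ = 0 := by rw [h, h4, h5, h6]; ring

/-- `T ↦ T + T²` on `k[T]/(T³)`. -/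
noncomputable def tauHom : Tr k 3 →ₐ[k] Tr k 3 :=
  Ideal.Quotient.liftₐ _ (Polynomial.aeval (tt k 3 + tt k 3 ^ 2)) (by
    intro a ha
    rw [Ideal.mem_span_singleton] at ha
    obtain ⟨q, rfl⟩ := ha
    rw [map_mul, map_pow, Polynomial.aeval_X, tau_aux, zero_mul])

theorem tauHom_tt : tauHom (k := k) (tt k 3) = tt k 3 + tt k 3 ^ 2 := by
  change Polynomial.aeval (tt k 3 + tt k 3 ^ 2) Polynomial.X = _
  rw [Polynomial.aeval_X]

/-- `T ↦ T + T²` as a morphism of `Art k k`. -/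
noncomputable def τArt : trArt k 2 ⟶ trArt k 2 :=
  Art.homMk (tauHom (k := k)) (tr_algHom_ext (by
    change trRes k 2 (tauHom (tt k 3)) = trRes k 2 (tt k 3)
    rw [tauHom_tt, map_add, map_pow, trRes_tt]
    ring))

theorem τArt_apply (a : Tr k 3) : (τArt (k := k)) a = tauHom a := rfl

/-- The morphism `k[T]/(T³) → k → k[T]/(T²)`. -/
noncomputable def γ₀ : trArt k 2 ⟶ trArt k 1 := toBase (trArt k 2) ≫ ofBase (trArt k 1)

theorem γ₀_apply (a : Tr k 3) : (γ₀ (k := k)) a = algebraMap k (Tr k 2) (trRes k 2 a) := rfl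

theorem mul_tt_sq (a : Tr k 3) : tt k 3 ^ 2 * a = trRes k 2 a • tt k 3 ^ 2 := by
  obtain ⟨c, y, rfl⟩ := exists_eq_add_tt_mul 3 a
  have h : tt k 3 ^ 3 = 0 := tt_pow_self 3
  have h1 : trRes k 2 (algebraMap k (Tr k 3) c + tt k 3 * y) = c := by
    rw [map_add, map_mul, trRes_tt, zero_mul, add_zero, AlgHom.commutes]
    rfl
  have h2 : tt k 3 ^ 2 * (tt k 3 * y) = 0 := by rw [← mul_assoc, ← pow_succ, h, zero_mul]
  rw [h1, mul_add, h2, add_zero, mul_comm]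
  exact (Algebra.smul_def c (tt k 3 ^ 2)).symm

/-- Every element of `k[T]/(T³)` is `c₀ + c₁ T + c₂ T²`. -/
theorem exists_eq_three (a : Tr k 3) :
    ∃ c₀ c₁ c₂ : k, a = algebraMap k (Tr k 3) c₀ + c₁ • tt k 3 + c₂ • tt k 3 ^ 2 := by
  obtain ⟨c₀, y, rfl⟩ := exists_eq_add_tt_mul 3 a
  obtain ⟨c₁, y', rfl⟩ := exists_eq_add_tt_mul 3 y
  refine ⟨c₀, c₁, trRes k 2 y', ?_⟩
  have e1 : tt k 3 * algebraMap k (Tr k 3) c₁ = c₁ • tt k 3 :=
    (mul_comm _ _).trans (Algebra.smul_def c₁ (tt k 3)).symm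
  have e2 : tt k 3 * (tt k 3 * y') = trRes k 2 y' • tt k 3 ^ 2 := by
    rw [← mul_assoc, ← pow_two, mul_tt_sq]
  rw [mul_add, e1, e2, add_assoc]

/-- An element of `k[T]/(T³)` fixed by `T ↦ T + T²` is constant modulo `T²`. -/
theorem trans_eq_of_tau_fixed (a : Tr k 3) (h : tauHom a = a) :
    trans 2 a = algebraMap k (Tr k 2) (trRes k 2 a) := by
  obtain ⟨c₀, c₁, c₂, rfl⟩ := exists_eq_three a
  have h3 : tt k 3 ^ 3 = 0 := tt_pow_self 3
  have h4 : tt k 3 ^ 4 = 0 := by rw [pow_succ, h3, zero_mul]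
  have hsq : (tt k 3 + tt k 3 ^ 2) ^ 2 = tt k 3 ^ 2 := by
    calc (tt k 3 + tt k 3 ^ 2) ^ 2 = tt k 3 ^ 2 + 2 * tt k 3 ^ 3 + tt k 3 ^ 4 := by ring
      _ = tt k 3 ^ 2 := by rw [h3, h4]; ring
  have h1 : tauHom (algebraMap k (Tr k 3) c₀ + c₁ • tt k 3 + c₂ • tt k 3 ^ 2) =
      algebraMap k (Tr k 3) c₀ + c₁ • tt k 3 + c₂ • tt k 3 ^ 2 + c₁ • tt k 3 ^ 2 := by
    rw [map_add, map_add, AlgHom.commutes, map_smul, map_smul, map_pow, tauHom_tt, hsq, smul_add]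
    abel
  rw [h1] at h
  have h5 : c₁ • tt k 3 ^ 2 = 0 := by
    have := congrArg (fun x => x - (algebraMap k (Tr k 3) c₀ + c₁ • tt k 3 + c₂ • tt k 3 ^ 2)) h
    simpa using this
  have hc₁ : c₁ = 0 := smul_tt_pow_eq_zero (by norm_num : 2 < 3) h5
  have hs : tt k 2 ^ 2 = 0 := tt_pow_self 2
  rw [hc₁, zero_smul, add_zero, map_add, map_add, AlgHom.commutes, AlgHom.commutes, map_smul, map_smul,
    map_pow, map_pow, trans_tt, trRes_tt, hs, smul_zero, add_zero]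
  simp

end Groth.Agent.R2.H56.Node
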