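import Groth.Agent.R2.H56NodeArt
import Groth.Agent.R2.H56DefBC
import Groth.Agent.R2.H56DefTriv

/-!
# The deformation functor of the node is not pro-representable (helper56)

ns `Groth.Agent.R2.H56.Node`: `not_isProrepresentable_node`.  The family `xy = T` over `k[T]/(T³)` is fixed by the non-trivial
automorphism `T ↦ T + T²` of the base (through `x ↦ (1 + xy) x`); a universal family would force its classifying map to be
constant modulo `T²`, so the first-order deformation `xy = ε` would be trivial, which it is not.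
-/

set_option autoImplicit false

universe u

open CategoryTheory AlgebraicGeometry
open scoped TensorProduct

namespace Groth.Agent.R2.H56.Node

open ArtFun ArtFun.Art Groth.Agent.R2.H56.AffDef Groth.Agent.Lib.Helper19.Arc

variable (k : Type u) [Field k]

theorem mk_xy_eq (n : ℕ) :
    (Ideal.Quotient.mk (Jn k n) (xy k)) =
      Ideal.Quotient.mk (Jn k n) (MvPolynomial.X 0) * Ideal.Quotient.mk (Jn k n) (MvPolynomial.X 1) := by
  rw [← map_mul]
  rfl

/-- Ring maps out of `Rn` are determined on constants and on `x`, `y`. -/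
theorem rn_ringHom_ext {n : ℕ} {S : Type*} [Semiring S] {f g : Rn k n →+* S}
    (hC : ∀ c : k, f (Ideal.Quotient.mk _ (MvPolynomial.C c)) = g (Ideal.Quotient.mk _ (MvPolynomial.C c)))
    (hX : ∀ i : Fin 2, f (Ideal.Quotient.mk _ (MvPolynomial.X i)) = g (Ideal.Quotient.mk _ (MvPolynomial.X i))) :
    f = g := by
  apply Ideal.Quotient.ringHom_ext
  apply MvPolynomial.ringHom_ext
  · exact hC
  · exact hX

/-- Ring maps out of `Tr k l` are determined on constants and on `T`. -/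
theorem tr_ringHom_ext {l : ℕ} {S : Type*} [Semiring S] {f g : Tr k l →+* S}
    (hC : ∀ c : k, f (Ideal.Quotient.mk _ (Polynomial.C c)) = g (Ideal.Quotient.mk _ (Polynomial.C c)))
    (hX : f (tt k l) = g (tt k l)) : f = g := by
  apply Ideal.Quotient.ringHom_ext
  apply Polynomial.ringHom_ext
  · exact hC
  · exact hX

section Theta

/-- `x ↦ (1 + xy) x`, `y ↦ y` on `k[x,y]`. -/
noncomputable def θ₀ : U k →ₐ[k] U k :=
  MvPolynomial.aeval (fun i : Fin 2 => if i = 0 then (1 + xy k) * MvPolynomial.X 0 else MvPolynomial.X 1)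

theorem θ₀_X0 : θ₀ k (MvPolynomial.X 0) = (1 + xy k) * MvPolynomial.X 0 := by
  simp [θ₀]

theorem θ₀_X1 : θ₀ k (MvPolynomial.X 1) = MvPolynomial.X 1 := by
  simp [θ₀]

theorem θ₀_xy : θ₀ k (xy k) = (1 + xy k) * xy k := by
  have h : θ₀ k (xy k) = θ₀ k (MvPolynomial.X 0) * θ₀ k (MvPolynomial.X 1) := by
    rw [← map_mul]
    rfl
  rw [h, θ₀_X0, θ₀_X1, mul_assoc]
  rfl

theorem θ₀_mem (n : ℕ) (a : U k) (ha : a ∈ Jn k n) : θ₀ k a ∈ Jn k n := by
  rw [Jn_eq, Ideal.mem_span_singleton] at ha ⊢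
  obtain ⟨q, rfl⟩ := ha
  rw [map_mul, map_pow, θ₀_xy, mul_pow]
  exact ⟨(1 + xy k) ^ (n + 1) * θ₀ k q, by ring⟩

/-- `x ↦ (1 + xy) x`, `y ↦ y` on `k[x,y]/((xy)^(n+1))`. -/
noncomputable def θ (n : ℕ) : Rn k n →+* Rn k n :=
  Ideal.Quotient.lift (Jn k n) ((Ideal.Quotient.mk (Jn k n)).comp (θ₀ k).toRingHom) (fun a ha => by
    rw [RingHom.comp_apply, Ideal.Quotient.eq_zero_iff_mem]
    exact θ₀_mem k n a ha)

theorem θ_mk (n : ℕ) (g : U k) : θ k n (Ideal.Quotient.mk _ g) = Ideal.Quotient.mk _ (θ₀ k g) := rfl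

theorem θ_φn (a : Tr k 3) : θ k 2 (φn k 2 a) = φn k 2 (tauHom a) := by
  have h : (θ k 2).comp (φn k 2) = (φn k 2).comp (tauHom (k := k)).toRingHom := by
    apply tr_ringHom_ext
    · intro c
      change θ k 2 (φn k 2 (Ideal.Quotient.mk _ (Polynomial.C c))) =
        φn k 2 (tauHom (algebraMap k (Tr k 3) c))
      rw [AlgHom.commutes, φn_mk, θ_mk]
      change _ = φn k 2 (Ideal.Quotient.mk _ (Polynomial.C c))
      rw [φn_mk]
      change Ideal.Quotient.mk _ (θ₀ k (ev k (algebraMap k (Polynomial k) c))) =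
        Ideal.Quotient.mk _ (ev k (algebraMap k (Polynomial k) c))
      rw [AlgHom.commutes, AlgHom.commutes]
    · change θ k 2 (φn k 2 (Ideal.Quotient.mk _ Polynomial.X)) = φn k 2 (tauHom (tt k 3))
      rw [φn_mk, θ_mk, ev_X, θ₀_xy, tauHom_tt]
      change _ = φn k 2 (Ideal.Quotient.mk _ (Polynomial.X + Polynomial.X ^ 2))
      rw [φn_mk, map_add, map_pow, ev_X]
      congr 1
      ring
  exact congrArg (fun f => f a) h

theorem πn_θ (r : Rn k 2) : πn k 2 (θ k 2 r) = πn k 2 r := by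
  have h : (πn k 2).comp (θ k 2) = πn k 2 := by
    apply rn_ringHom_ext
    · intro c
      change πn k 2 (θ k 2 (Ideal.Quotient.mk _ (algebraMap k (U k) c))) = _
      rw [θ_mk, AlgHom.commutes]
      rfl
    · have h0 : πn k 2 (θ k 2 (Ideal.Quotient.mk _ (MvPolynomial.X 0))) =
          πn k 2 (Ideal.Quotient.mk _ (MvPolynomial.X 0)) := by
        rw [θ_mk, πn_mk, πn_mk, θ₀_X0, add_mul, one_mul, map_add, map_mul]
        have : Ideal.Quotient.mk (Ideal.span {xy k}) (xy k) = 0 :=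
          Ideal.Quotient.eq_zero_iff_mem.2 (Ideal.mem_span_singleton_self _)
        rw [this, zero_mul, add_zero]
      have h1 : πn k 2 (θ k 2 (Ideal.Quotient.mk _ (MvPolynomial.X 1))) =
          πn k 2 (Ideal.Quotient.mk _ (MvPolynomial.X 1)) := by
        rw [θ_mk, θ₀_X1]
      exact Fin.forall_fin_two.2 ⟨h0, h1⟩
  exact congrArg (fun f => f r) h

end Theta

section Psi

theorem Jn_mono : Jn k 2 ≤ Jn k 1 := by
  rw [Jn_eq, Jn_eq, Ideal.span_singleton_le_iff_mem, pow_succ]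
  exact Ideal.mul_mem_right _ _ (Ideal.mem_span_singleton_self _)

/-- The reduction `k[x,y]/((xy)³) → k[x,y]/((xy)²)`. -/
noncomputable def ψ₁ : Rn k 2 →+* Rn k 1 := Ideal.Quotient.factor (Jn_mono k)

theorem ψ₁_mk (g : U k) : ψ₁ k (Ideal.Quotient.mk _ g) = Ideal.Quotient.mk _ g :=
  Ideal.Quotient.factor_mk (Jn_mono k) g

theorem trans_mk (p : Polynomial k) :
    trans (k := k) 2 (Ideal.Quotient.mk _ p) = Ideal.Quotient.mk _ p := rfl

theorem ψ₁_φn (a : Tr k 3) : ψ₁ k (φn k 2 a) = φn k 1 (trans 2 a) := by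
  obtain ⟨p, rfl⟩ := Ideal.Quotient.mk_surjective a
  rw [φn_mk, ψ₁_mk, trans_mk]
  exact (φn_mk k 1 p).symm

theorem πn_ψ₁ (r : Rn k 2) : πn k 1 (ψ₁ k r) = πn k 2 r := by
  obtain ⟨g, rfl⟩ := Ideal.Quotient.mk_surjective r
  rw [ψ₁_mk, πn_mk, πn_mk]

/-- `r ↦ 1 ⊗ π r`. -/
noncomputable def ψ₀ : Rn k 2 →+* (AlgDef.triv (NodeRing k) (trArt k 1)).R :=
  (Algebra.TensorProduct.includeRight : NodeRing k →ₐ[k] (trArt k 1) ⊗[k] NodeRing k).toRingHom.comp
    (πn k 2)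

theorem ψ₀_apply (r : Rn k 2) : ψ₀ k r = (1 : trArt k 1) ⊗ₜ[k] πn k 2 r := rfl

theorem ψ₀_φn (a : Tr k 3) :
    ψ₀ k (φn k 2 a) = (AlgDef.triv (NodeRing k) (trArt k 1)).φ ((γ₀ (k := k)) a) := by
  rw [ψ₀_apply, πn_φn, γ₀_apply]
  change _ = algebraMap (trArt k 1) ((trArt k 1) ⊗[k] NodeRing k) (algebraMap k (Tr k 2) (trRes k 2 a))
  rw [Algebra.TensorProduct.algebraMap_apply]
  have e1 : algebraMap k (NodeRing k) (trRes k 2 a) = trRes k 2 a • (1 : NodeRing k) :=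
    Algebra.algebraMap_eq_smul_one _
  have e2 : algebraMap k (Tr k 2) (trRes k 2 a) = trRes k 2 a • (1 : Tr k 2) :=
    Algebra.algebraMap_eq_smul_one _
  rw [e1, e2, TensorProduct.tmul_smul]
  exact TensorProduct.smul_tmul' _ _ _

theorem trivπ_ψ₀ (r : Rn k 2) :
    (AlgDef.triv (NodeRing k) (trArt k 1)).π (ψ₀ k r) = πn k 2 r := by
  rw [ψ₀_apply]
  change trivπ (NodeRing k) (trArt k 1) ((1 : trArt k 1) ⊗ₜ[k] πn k 2 r) = _
  rw [trivπ_tmul, map_one, map_one, one_mul]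

end Psi

section NonTrivial

/-- `x, y ↦ T` on `k[x,y]`. -/
noncomputable def ω₀ : U k →ₐ[k] Tr k 3 := MvPolynomial.aeval (fun _ : Fin 2 => tt k 3)

theorem ω₀_xy : ω₀ k (xy k) = tt k 3 ^ 2 := by
  rw [xy, map_mul]
  simp [ω₀, pow_two]

/-- `x, y ↦ T` on `k[x,y]/((xy)²)`. -/
noncomputable def ω : Rn k 1 →+* Tr k 3 :=
  Ideal.Quotient.lift (Jn k 1) (ω₀ k).toRingHom (fun a ha => by
    rw [Jn_eq, Ideal.mem_span_singleton] at ha
    obtain ⟨q, rfl⟩ := ha
    change ω₀ k (xy k ^ (1 + 1) * q) = 0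
    have h3 : tt k 3 ^ 3 = 0 := tt_pow_self 3
    rw [map_mul, map_pow, ω₀_xy, ← pow_mul]
    have : tt k 3 ^ (2 * (1 + 1)) = 0 := by
      change tt k 3 ^ (3 + 1) = 0
      rw [pow_succ, h3, zero_mul]
    rw [this, zero_mul])

theorem ω_mk (g : U k) : ω k (Ideal.Quotient.mk _ g) = ω₀ k g := rfl

theorem ker_πn_eq_span (n : ℕ) :
    RingHom.ker (πn k n) = Ideal.span {Ideal.Quotient.mk (Jn k n) (xy k)} := by
  rw [ker_πn, ker_trRes, Ideal.map_span, Set.image_singleton]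
  congr 2
  change φn k n (Ideal.Quotient.mk _ Polynomial.X) = _
  rw [φn_mk, ev_X]

/-- There is no ring-theoretic section of `k[x,y]/((xy)²) → k[x,y]/(xy)`. -/
theorem no_section (s : NodeRing k →+* Rn k 1) (hs : ∀ b, πn k 1 (s b) = b) : False := by
  let X := s (Ideal.Quotient.mk _ (MvPolynomial.X 0))
  let Y := s (Ideal.Quotient.mk _ (MvPolynomial.X 1))
  have hXY : X * Y = 0 := by
    change s _ * s _ = 0
    rw [← map_mul, ← map_mul]
    have : Ideal.Quotient.mk (Ideal.span {xy k}) (MvPolynomial.X 0 * MvPolynomial.X 1) = 0 :=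
      Ideal.Quotient.eq_zero_iff_mem.2 (Ideal.mem_span_singleton_self _)
    rw [this, map_zero]
  have hX : X - Ideal.Quotient.mk _ (MvPolynomial.X 0) ∈ RingHom.ker (πn k 1) := by
    rw [RingHom.mem_ker, map_sub, hs, πn_mk, sub_self]
  have hY : Y - Ideal.Quotient.mk _ (MvPolynomial.X 1) ∈ RingHom.ker (πn k 1) := by
    rw [RingHom.mem_ker, map_sub, hs, πn_mk, sub_self]
  rw [ker_πn_eq_span, Ideal.mem_span_singleton'] at hX hY
  obtain ⟨u, hu⟩ := hX
  obtain ⟨v, hv⟩ := hY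
  have hX' : ω k X = tt k 3 + ω k u * tt k 3 ^ 2 := by
    have : X = Ideal.Quotient.mk _ (MvPolynomial.X 0) + u * Ideal.Quotient.mk _ (xy k) := by
      rw [hu]; ring
    rw [this, map_add, map_mul, ω_mk, ω_mk, ω₀_xy]
    simp [ω₀]
  have hY' : ω k Y = tt k 3 + ω k v * tt k 3 ^ 2 := by
    have : Y = Ideal.Quotient.mk _ (MvPolynomial.X 1) + v * Ideal.Quotient.mk _ (xy k) := by
      rw [hv]; ring
    rw [this, map_add, map_mul, ω_mk, ω_mk, ω₀_xy]
    simp [ω₀]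
  have h3 : tt k 3 ^ 3 = 0 := tt_pow_self 3
  have h4 : tt k 3 ^ 4 = 0 := by rw [pow_succ, h3, zero_mul]
  have h0 : ω k X * ω k Y = tt k 3 ^ 2 := by
    rw [hX', hY']
    calc (tt k 3 + ω k u * tt k 3 ^ 2) * (tt k 3 + ω k v * tt k 3 ^ 2)
        = tt k 3 ^ 2 + (ω k u + ω k v) * tt k 3 ^ 3 + ω k u * ω k v * tt k 3 ^ 4 := by ring
      _ = tt k 3 ^ 2 := by rw [h3, h4]; ring
  rw [← map_mul, hXY, map_zero] at h0
  have h1 : (1 : k) • tt k 3 ^ 2 = 0 := by rw [one_smul]; exact h0.symm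
  exact one_ne_zero (smul_tt_pow_eq_zero (by norm_num : 2 < 3) h1)

/-- The first-order deformation `xy = ε` of the node is not trivial. -/
theorem nodeDef_one_ne_triv :
    (nodeDef k 1).toDefSch.cl ≠ (AlgDef.triv (NodeRing k) (trArt k 1)).toDefSch.cl := by
  intro h
  obtain ⟨j⟩ := Quotient.exact h
  let i : AlgDef.Iso (nodeDef k 1) (AlgDef.triv (NodeRing k) (trArt k 1)) :=
    (ofDefSchToDefSch (nodeDef k 1)).symm.trans
      ((isoOfDefSch j).trans (ofDefSchToDefSch (AlgDef.triv (NodeRing k) (trArt k 1))))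
  let s : NodeRing k →+* Rn k 1 :=
    i.e.symm.toRingHom.comp
      (Algebra.TensorProduct.includeRight : NodeRing k →ₐ[k] (trArt k 1) ⊗[k] NodeRing k).toRingHom
  refine no_section k s (fun b => ?_)
  have h1 : (AlgDef.triv (NodeRing k) (trArt k 1)).π (i.e (i.e.symm ((1 : trArt k 1) ⊗ₜ[k] b))) =
      (nodeDef k 1).π (i.e.symm ((1 : trArt k 1) ⊗ₜ[k] b)) :=
    i.π_e (i.e.symm ((1 : trArt k 1) ⊗ₜ[k] b))
  have h2 : i.e (i.e.symm ((1 : trArt k 1) ⊗ₜ[k] b)) = (1 : trArt k 1) ⊗ₜ[k] b :=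
    i.e.apply_symm_apply _
  have h3 : (AlgDef.triv (NodeRing k) (trArt k 1)).π ((1 : trArt k 1) ⊗ₜ[k] b) = b := by
    change trivπ (NodeRing k) (trArt k 1) ((1 : trArt k 1) ⊗ₜ[k] b) = b
    rw [trivπ_tmul, map_one, map_one, one_mul]
  change (nodeDef k 1).π (i.e.symm ((1 : trArt k 1) ⊗ₜ[k] b)) = b
  exact h1.symm.trans ((congrArg _ h2).trans h3)

end NonTrivial

/-- The deformation functor of the node is not pro-representable. -/
theorem not_isProrepresentable_node :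
    ¬ IsProrepresentable
      (defFunctor (Λ := k) (Spec (CommRingCat.of (NodeRing k))) (xB (k := k) (NodeRing k))) := by
  rintro ⟨P⟩
  let F := defFunctor (Λ := k) (Spec (CommRingCat.of (NodeRing k))) (xB (k := k) (NodeRing k))
  let z : F.obj (trArt k 2) := (nodeDef k 2).toDefSch.cl
  obtain ⟨ζ, hζ⟩ := (P.universal (trArt k 2)).2 z
  have hτ : F.map (τArt (k := k)) z = z :=
    defFunctor_map_toDefSch τArt (nodeDef k 2) (nodeDef k 2) (θ k 2) (θ_φn k) (πn_θ k)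
  have h1 : HomSet.map (τArt (k := k)) ζ = ζ :=
    (P.universal (trArt k 2)).1 (by rw [P.family.natural, hζ, hτ])
  have h2 : HomSet.map (fArt (k := k)) ζ = HomSet.map (γ₀ (k := k)) ζ := by
    apply Subtype.ext
    apply AlgHom.ext
    intro r
    change trans 2 (ζ.1 r) = algebraMap k (Tr k 2) (trRes k 2 (ζ.1 r))
    apply trans_eq_of_tau_fixed
    exact AlgHom.congr_fun (congrArg Subtype.val h1) r
  have h3 : F.map (fArt (k := k)) z = F.map (γ₀ (k := k)) z := by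
    rw [← hζ, ← P.family.natural, ← P.family.natural, h2]
  have h4 : F.map (fArt (k := k)) z = (nodeDef k 1).toDefSch.cl :=
    defFunctor_map_toDefSch fArt (nodeDef k 2) (nodeDef k 1) (ψ₁ k) (ψ₁_φn k) (πn_ψ₁ k)
  have h5 : F.map (γ₀ (k := k)) z = (AlgDef.triv (NodeRing k) (trArt k 1)).toDefSch.cl :=
    defFunctor_map_toDefSch γ₀ (nodeDef k 2) (AlgDef.triv (NodeRing k) (trArt k 1)) (ψ₀ k)
      (ψ₀_φn k) (trivπ_ψ₀ k)
  exact nodeDef_one_ne_triv k (h4.symm.trans (h3.trans h5))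

end Groth.Agent.R2.H56.Node
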