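import Mathlib.RingTheory.Flat.Equalizer
import Mathlib.RingTheory.Flat.Tensor
import Mathlib.RingTheory.Flat.EquationalCriterion
import Groth.Agent.R2.H56FlatNil

/-!
# General algebra for the `T²` obstruction (helper56)

ns `Groth.Agent.R2.H56.ObsAlg`:
* `flat_ker_of_surjective`: the kernel of a surjection of flat modules is flat;
* `exists_linear_of_rel`: a linear map defined by a relation `W q - γ m ∈ Z ↦ φ m`;
* `exists_sum_of_mem_smul`: elements of `I • N` are finite sums `∑ aᵢ nᵢ`.
-/

set_option autoImplicit false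

universe u

open scoped TensorProduct

namespace Groth.Agent.R2.H56.ObsAlg

open Groth.Agent.R2.H56.FlatNil

section Flat

variable {R : Type*} {N P : Type*} [CommRing R] [AddCommGroup N] [Module R N] [AddCommGroup P] [Module R P]

/-- The kernel of a surjection of flat modules is flat. -/
theorem flat_ker_of_surjective [Module.Flat R N] [Module.Flat R P] (f : N →ₗ[R] P)
    (hf : Function.Surjective f) : Module.Flat R (LinearMap.ker f) := by
  rw [Module.Flat.iff_rTensor_injective']
  intro I
  have h1 : Function.Injective ((LinearMap.ker f).subtype.lTensor I) :=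
    LinearMap.lTensor_injective_of_exact_of_flat f hf _ (LinearMap.ker f).injective_subtype
      (LinearMap.exact_subtype_ker_map f) I
  have h2 : Function.Injective (LinearMap.rTensor N I.subtype) :=
    Module.Flat.rTensor_preserves_injective_linearMap _ I.injective_subtype
  have hsq : ((LinearMap.ker f).subtype.lTensor R) ∘ₗ (LinearMap.rTensor (LinearMap.ker f) I.subtype) =
      (LinearMap.rTensor N I.subtype) ∘ₗ ((LinearMap.ker f).subtype.lTensor I) := by
    rw [LinearMap.lTensor_comp_rTensor, LinearMap.rTensor_comp_lTensor]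
  have h3 : Function.Injective (((LinearMap.ker f).subtype.lTensor R) ∘
      (LinearMap.rTensor (LinearMap.ker f) I.subtype)) := by
    rw [← LinearMap.coe_comp, hsq, LinearMap.coe_comp]
    exact h2.comp h1
  exact Function.Injective.of_comp h3

end Flat

section Rel

variable {S : Type*} [CommRing S] {Qm N M T : Type*} [AddCommGroup Qm] [Module S Qm] [AddCommGroup N]
  [Module S N] [AddCommGroup M] [Module S M] [AddCommGroup T] [Module S T]

/-- A linear map defined by a relation: `h q = φ m` whenever `W q - γ m ∈ Z`. -/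
theorem exists_linear_of_rel (W : Qm →ₗ[S] N) (γ : M →ₗ[S] N) (φ : M →ₗ[S] T) (Z : Submodule S N)
    (hex : ∀ q, ∃ m, W q - γ m ∈ Z) (huniq : ∀ m, γ m ∈ Z → φ m = 0) :
    ∃ h : Qm →ₗ[S] T, ∀ q m, W q - γ m ∈ Z → h q = φ m := by
  choose c hc using hex
  have key : ∀ q m, W q - γ m ∈ Z → φ (c q) = φ m := by
    intro q m hm
    have h1 : γ (c q - m) ∈ Z := by
      have : γ (c q - m) = (W q - γ m) - (W q - γ (c q)) := by rw [map_sub]; abel
      rw [this]
      exact Z.sub_mem hm (hc q)
    have h2 := huniq _ h1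
    rw [map_sub, sub_eq_zero] at h2
    exact h2
  refine ⟨{ toFun := fun q => φ (c q), map_add' := ?_, map_smul' := ?_ }, key⟩
  · intro q q'
    rw [← map_add]
    apply key
    have : W (q + q') - γ (c q + c q') = (W q - γ (c q)) + (W q' - γ (c q')) := by
      rw [map_add, map_add]; abel
    rw [this]
    exact Z.add_mem (hc q) (hc q')
  · intro s q
    rw [RingHom.id_apply, ← map_smul]
    apply key
    have : W (s • q) - γ (s • c q) = s • (W q - γ (c q)) := by
      rw [map_smul, map_smul, smul_sub]
    rw [this]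
    exact Z.smul_mem s (hc q)

end Rel

section Sum

variable {R : Type*} {M : Type*} [CommRing R] [AddCommGroup M] [Module R M]

/-- Elements of `I • N` are finite sums `∑ aᵢ nᵢ` with `aᵢ ∈ I`, `nᵢ ∈ N`. -/
theorem exists_sum_of_mem_smul (I : Ideal R) (N : Submodule R M) (x : M) (hx : x ∈ I • N) :
    ∃ (ι : Type) (_ : Fintype ι) (a : ι → R) (m : ι → M), (∀ i, a i ∈ I) ∧ (∀ i, m i ∈ N) ∧
      x = ∑ i, a i • m i := by
  refine Submodule.smul_induction_on hx ?_ ?_
  · intro a ha m hm
    exact ⟨Unit, inferInstance, fun _ => a, fun _ => m, fun _ => ha, fun _ => hm, by simp⟩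
  · rintro x y ⟨ι₁, _, a₁, m₁, ha₁, hm₁, rfl⟩ ⟨ι₂, _, a₂, m₂, ha₂, hm₂, rfl⟩
    refine ⟨ι₁ ⊕ ι₂, inferInstance, Sum.elim a₁ a₂, Sum.elim m₁ m₂, ?_, ?_, ?_⟩
    · rintro (i | i)
      · exact ha₁ i
      · exact ha₂ i
    · rintro (i | i)
      · exact hm₁ i
      · exact hm₂ i
    · rw [Fintype.sum_sum_type]
      rfl

end Sum

end Groth.Agent.R2.H56.ObsAlg
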