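import Groth.Agent.R2.H56ObsKey
import Groth.Agent.Lib.Helper19KosApi

/-!
# The obstruction class (helper56)

ns `Groth.Agent.R2.H56.Obs`: `LiftData`, `W`, the cocycle `hmap : Q → B₀ ⊗ J`, the class `cls ∈ T²(B₀ ⊗ J)` and its
independence of the lifting data.
-/

set_option autoImplicit false
set_option linter.style.haveILetI false
set_option linter.unusedSectionVars false

universe u

open scoped TensorProduct

namespace Groth.Agent.R2.H56.Obs

open ArtFun ArtFun.Art Groth.Agent.R2.H56.AffDef Groth.Agent.R2.H56.Lift Groth.Agent.R2.H56.FlatNil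
  Groth.Agent.R2.H56.ObsAlg MvPolynomial Groth.Agent.Lib.Helper19

attribute [local instance] MvPolynomial.algebraMvPolynomial

variable {k : Type u} [Field k] {B₀ : Type u} [CommRing B₀] [Algebra k B₀] {ι σ : Type u}
  [Algebra (MvPolynomial ι k) B₀] [IsScalarTower k (MvPolynomial ι k) B₀]
  {A' A : Art k k}

variable (p : A' ⟶ A) (D : AlgDef B₀ A) (g₀ : ι → D.R) (f : σ → MvPolynomial ι k)

/-- Lifts of the relations to `I' ⊆ A'[x]`. -/
structure LiftData where
  /-- the lifted relations -/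
  Fl : σ → MvPolynomial ι A'
  mem : ∀ s, Fl s ∈ I' p D g₀
  eps_eq : ∀ s, eps ι A' (Fl s) = f s

variable {p D g₀ f}

namespace LiftData

variable (L : LiftData p D g₀ f)

/-- `W : F → S'`, `e_s ↦ Fl s`. -/
noncomputable def W : (σ →₀ MvPolynomial ι k) →ₗ[MvPolynomial ι k] MvPolynomial ι A' :=
  Finsupp.linearCombination (MvPolynomial ι k) L.Fl

theorem W_single (s : σ) (r : MvPolynomial ι k) :
    L.W (Finsupp.single s r) = algebraMap (MvPolynomial ι k) (MvPolynomial ι A') r * L.Fl s := by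
  rw [W, Finsupp.linearCombination_single, Algebra.smul_def]

theorem W_mem (q : σ →₀ MvPolynomial ι k) : L.W q ∈ I' p D g₀ := by
  induction q using Finsupp.induction_linear with
  | zero => rw [map_zero]; exact zero_mem _
  | add x y hx hy => rw [map_add]; exact add_mem hx hy
  | single s r => rw [W_single]; exact Ideal.mul_mem_left _ _ (L.mem s)

theorem eps_W (q : σ →₀ MvPolynomial ι k) : eps ι A' (L.W q) = Kos.jm (MvPolynomial ι k) f q := by
  induction q using Finsupp.induction_linear with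
  | zero => rw [map_zero, map_zero, map_zero]
  | add x y hx hy => rw [map_add, map_add, map_add, hx, hy]
  | single s r => rw [W_single, map_mul, eps_algebraMap, L.eps_eq, Kos.jm_single]

theorem W_mem_mS (q : Kos.Q (MvPolynomial ι k) f) : L.W q ∈ mS ι A' := by
  rw [← ker_eps, RingHom.mem_ker, eps_W]
  exact (Kos.mem_Q _ _ _).1 q.2

theorem W_sub_mem (a : σ →₀ MvPolynomial ι k) :
    L.W a - algebraMap (MvPolynomial ι k) (MvPolynomial ι A') (Kos.jm (MvPolynomial ι k) f a) ∈ mS ι A' := by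
  rw [← ker_eps, RingHom.mem_ker, map_sub, eps_W, eps_algebraMap, sub_self]

end LiftData

section Cocycle

variable (hg : ∀ i, D.π (g₀ i) = algebraMap (MvPolynomial ι k) B₀ (X i))
  (hp : IsSemismallExt p) (hsurj : Function.Surjective (algebraMap (MvPolynomial ι k) B₀))
  (L : LiftData p D g₀ f)

include hg hp hsurj in
theorem LiftData.exists_m (q : Kos.Q (MvPolynomial ι k) f) :
    ∃ m : MvPolynomial ι k ⊗[k] ↥(RingHom.ker p.toAlgHom), L.W q - γ p m ∈ Z p D g₀ :=
  K1 p D g₀ hg hp hsurj _ (L.W_mem q) (L.W_mem_mS q)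


include hg hp hsurj in
theorem LiftData.exists_hmap :
    ∃ h : Kos.Q (MvPolynomial ι k) f →ₗ[MvPolynomial ι k] B₀ ⊗[k] ↥(RingHom.ker p.toAlgHom),
      ∀ (q : Kos.Q (MvPolynomial ι k) f) (m : MvPolynomial ι k ⊗[k] ↥(RingHom.ker p.toAlgHom)),
        L.W q - γ p m ∈ Z p D g₀ → h q = φJ B₀ p m := by
  choose c hc using fun q => L.exists_m hg hp hsurj q
  have key : ∀ (q : Kos.Q (MvPolynomial ι k) f) (m : MvPolynomial ι k ⊗[k] ↥(RingHom.ker p.toAlgHom)),
      L.W q - γ p m ∈ Z p D g₀ → φJ B₀ p (c q) = φJ B₀ p m := by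
    intro q m hm
    have h1 : γ p (c q - m) ∈ Z p D g₀ := by
      have : γ p (c q - m) = (L.W q - γ p m) - (L.W q - γ p (c q)) := by rw [map_sub]; ring
      rw [this]
      exact sub_mem hm (hc q)
    have h2 := K2 p D g₀ hg hp hsurj _ h1
    rw [map_sub, sub_eq_zero] at h2
    exact h2
  refine ⟨{ toFun := fun q => φJ B₀ p (c q), map_add' := ?_, map_smul' := ?_ }, key⟩
  · intro q q'
    rw [← map_add]
    apply key
    have : L.W ((q + q' : Kos.Q (MvPolynomial ι k) f) : σ →₀ MvPolynomial ι k) - γ p (c q + c q') =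
        (L.W q - γ p (c q)) + (L.W q' - γ p (c q')) := by
      rw [Submodule.coe_add, map_add, map_add]; ring
    rw [this]
    exact add_mem (hc q) (hc q')
  · intro s q
    rw [RingHom.id_apply, ← map_smul]
    apply key
    have : L.W ((s • q : Kos.Q (MvPolynomial ι k) f) : σ →₀ MvPolynomial ι k) - γ p (s • c q) =
        algebraMap (MvPolynomial ι k) (MvPolynomial ι A') s * (L.W q - γ p (c q)) := by
      rw [Submodule.coe_smul, map_smul, map_smul, Algebra.smul_def, Algebra.smul_def]; ring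
    rw [this]
    exact Ideal.mul_mem_left _ _ (hc q)

/-- The obstruction cocycle `Q → B₀ ⊗ J`. -/
noncomputable def LiftData.hmap :
    Kos.Q (MvPolynomial ι k) f →ₗ[MvPolynomial ι k] B₀ ⊗[k] ↥(RingHom.ker p.toAlgHom) :=
  Classical.choose (L.exists_hmap hg hp hsurj)

theorem LiftData.hmap_spec (q : Kos.Q (MvPolynomial ι k) f)
    (m : MvPolynomial ι k ⊗[k] ↥(RingHom.ker p.toAlgHom)) (h : L.W q - γ p m ∈ Z p D g₀) :
    L.hmap hg hp hsurj q = φJ B₀ p m :=
  Classical.choose_spec (L.exists_hmap hg hp hsurj) q m h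

theorem LiftData.hmap_eq_zero_of_mem (q : Kos.Q (MvPolynomial ι k) f) (h : L.W q ∈ Z p D g₀) :
    L.hmap hg hp hsurj q = 0 := by
  rw [L.hmap_spec hg hp hsurj q 0 (by rw [map_zero, sub_zero]; exact h), map_zero]

/-- The Koszul relation `j(a) b - j(b) a` is sent into `𝔪' I'` by `W`. -/
theorem LiftData.W_kos_mem (a b : σ →₀ MvPolynomial ι k) :
    L.W (Kos.jm (MvPolynomial ι k) f a • b - Kos.jm (MvPolynomial ι k) f b • a) ∈ Z p D g₀ := by
  have h : L.W (Kos.jm (MvPolynomial ι k) f a • b - Kos.jm (MvPolynomial ι k) f b • a) =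
      (L.W b - algebraMap (MvPolynomial ι k) (MvPolynomial ι A') (Kos.jm (MvPolynomial ι k) f b)) * L.W a -
      (L.W a - algebraMap (MvPolynomial ι k) (MvPolynomial ι A') (Kos.jm (MvPolynomial ι k) f a)) * L.W b := by
    rw [map_sub, map_smul, map_smul, Algebra.smul_def, Algebra.smul_def]
    ring
  rw [h]
  exact sub_mem (Ideal.mul_mem_mul (L.W_sub_mem b) (L.W_mem a)) (Ideal.mul_mem_mul (L.W_sub_mem a) (L.W_mem b))

theorem LiftData.W_mem_Z_of_mem_F0 (x : σ →₀ MvPolynomial ι k) (hx : x ∈ Kos.F0 (MvPolynomial ι k) f) :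
    L.W x ∈ Z p D g₀ := by
  refine Submodule.span_induction ?_ ?_ ?_ ?_ hx
  · rintro _ ⟨a, b, rfl⟩
    exact L.W_kos_mem a b
  · rw [map_zero]; exact zero_mem _
  · intro x y _ _ hx hy
    rw [map_add]; exact add_mem hx hy
  · intro r x _ hx
    rw [map_smul, Algebra.smul_def]
    exact Ideal.mul_mem_left _ _ hx

theorem LiftData.hmap_F0 (q : Kos.Q (MvPolynomial ι k) f)
    (hq : (q : σ →₀ MvPolynomial ι k) ∈ Kos.F0 (MvPolynomial ι k) f) : L.hmap hg hp hsurj q = 0 :=
  L.hmap_eq_zero_of_mem hg hp hsurj q (L.W_mem_Z_of_mem_F0 _ hq)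

/-- The obstruction class in `T²(B₀ ⊗ J)`. -/
noncomputable def LiftData.cls (hf : ∀ s, algebraMap (MvPolynomial ι k) B₀ (f s) = 0) :
    Kos.T2 (MvPolynomial ι k) B₀ f hf (B₀ ⊗[k] ↥(RingHom.ker p.toAlgHom)) :=
  Submodule.Quotient.mk (Kos.lift2 (L.hmap hg hp hsurj) (L.hmap_F0 hg hp hsurj))

theorem LiftData.cls_eq_zero_iff (hf : ∀ s, algebraMap (MvPolynomial ι k) B₀ (f s) = 0) :
    L.cls hg hp hsurj hf = 0 ↔
      ∃ G : (σ →₀ MvPolynomial ι k) →ₗ[MvPolynomial ι k] B₀ ⊗[k] ↥(RingHom.ker p.toAlgHom),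
        ∀ q : Kos.Q (MvPolynomial ι k) f, G (q : σ →₀ MvPolynomial ι k) = L.hmap hg hp hsurj q := by
  rw [LiftData.cls, Submodule.Quotient.mk_eq_zero, Kos.mem_range_lcomp_d2_iff]
  simp_rw [Kos.at2_lift2]

theorem LiftData.cls_eq (hf : ∀ s, algebraMap (MvPolynomial ι k) B₀ (f s) = 0) (L L' : LiftData p D g₀ f) :
    L.cls hg hp hsurj hf = L'.cls hg hp hsurj hf := by
  rw [LiftData.cls, LiftData.cls, Submodule.Quotient.eq, Kos.mem_range_lcomp_d2_iff]
  have hdiff : ∀ s, ∃ m : MvPolynomial ι k ⊗[k] ↥(RingHom.ker p.toAlgHom),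
      (L.Fl s - L'.Fl s) - γ p m ∈ Z p D g₀ := fun s =>
    K1 p D g₀ hg hp hsurj _ (sub_mem (L.mem s) (L'.mem s))
      (by rw [← ker_eps, RingHom.mem_ker, map_sub, L.eps_eq, L'.eps_eq, sub_self])
  choose ms hms using hdiff
  let Mq : (σ →₀ MvPolynomial ι k) →ₗ[MvPolynomial ι k] MvPolynomial ι k ⊗[k] ↥(RingHom.ker p.toAlgHom) :=
    Finsupp.linearCombination (MvPolynomial ι k) ms
  have hMq : ∀ (s : σ) (r : MvPolynomial ι k), Mq (Finsupp.single s r) = r • ms s := fun s r =>
    Finsupp.linearCombination_single _ _ _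
  refine ⟨(φJ B₀ p) ∘ₗ Mq, fun q => ?_⟩
  have h1 : ∀ x : σ →₀ MvPolynomial ι k, L.W x - L'.W x - γ p (Mq x) ∈ Z p D g₀ := by
    intro x
    induction x using Finsupp.induction_linear with
    | zero => simp only [map_zero, sub_zero]; exact zero_mem _
    | add x y hx hy =>
      have : L.W (x + y) - L'.W (x + y) - γ p (Mq (x + y)) =
          (L.W x - L'.W x - γ p (Mq x)) + (L.W y - L'.W y - γ p (Mq y)) := by
        simp only [map_add]; ring
      rw [this]
      exact add_mem hx hy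
    | single s r =>
      have : L.W (Finsupp.single s r) - L'.W (Finsupp.single s r) - γ p (Mq (Finsupp.single s r)) =
          algebraMap (MvPolynomial ι k) (MvPolynomial ι A') r * (L.Fl s - L'.Fl s - γ p (ms s)) := by
        rw [L.W_single, L'.W_single, hMq, map_smul, Algebra.smul_def]; ring
      rw [this]
      exact Ideal.mul_mem_left _ _ (hms s)
  obtain ⟨m', hm'⟩ := L'.exists_m hg hp hsurj q
  have h2 : L.W q - γ p (m' + Mq q) ∈ Z p D g₀ := by
    have : L.W q - γ p (m' + Mq q) = (L'.W q - γ p m') + (L.W q - L'.W q - γ p (Mq q)) := by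
      rw [map_add]; ring
    rw [this]
    exact add_mem hm' (h1 q)
  rw [Kos.at2_apply, LinearMap.sub_apply, ← Kos.at2_apply, ← Kos.at2_apply, Kos.at2_lift2, Kos.at2_lift2,
    L.hmap_spec hg hp hsurj q _ h2, L'.hmap_spec hg hp hsurj q _ hm', map_add, LinearMap.comp_apply]
  abel

end Cocycle

end Groth.Agent.R2.H56.Obs
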