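import Groth.Agent.R2.H56ObsSpec
import Mathlib

/-!
# PROJ:t2-obs, package A (helper76)

From a "coefficient form" obstruction `o p hp u ∈ T²(P, B₀ ⊗ₖ J)` to an obstruction theory with values in
`T²(P, B₀)`.

* `TT P M` : a non-reducible copy of `CotT.T2 P M` with `TTmk`, `TTmap` and the functoriality lemmas
  `TTmap_id`, `TTmap_comp_apply`, `TTmap_add`, `TTmap_sum`, `TTmap_smul` (rewriting inside the abbreviation
  `CotT.T2` is extremely slow, the copy avoids this).
* `Psi P J : T²(B₀) ⊗ₖ J → T²(B₀ ⊗ₖ J)`, natural in `J` (`Psi_natural`), bijective for `J` finite-dimensional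
  (`Psi_bijective`; explicit inverse `Phi` in terms of a basis).
* `finite_ker_of_isSemismallExt` : the kernel of a semismall extension in `Art k k` is finite-dimensional.
* `pkgA : Groth.Agent.R2.H56.ObsSpec.PkgA`.
-/

set_option autoImplicit false
universe u v
open CategoryTheory ArtFun ArtFun.Art
open scoped TensorProduct

namespace Groth.Agent.R2.H76.ObsA

section TT

variable {A : Type*} {B : Type*} {ι σ : Type*} [CommRing A] [CommRing B] [Algebra A B]
  (P : Algebra.Presentation A B ι σ)
  (M : Type*) [AddCommGroup M] [Module B M]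

/-- a non-reducible copy of `CotT.T2 P M` (the abbreviation unfolds to a very large term, which makes
rewriting slow). -/
def TT : Type _ := CotT.T2 P M

noncomputable instance : AddCommGroup (TT P M) := inferInstanceAs (AddCommGroup (CotT.T2 P M))
noncomputable instance : Module B (TT P M) := inferInstanceAs (Module B (CotT.T2 P M))

section tower

variable (k : Type*) [Semiring k] [SMul k B] [Module k M] [IsScalarTower k B M]
  [SMulCommClass B k M]

noncomputable instance : Module k (TT P M) := inferInstanceAs (Module k (CotT.T2 P M))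
instance : IsScalarTower k B (TT P M) := inferInstanceAs (IsScalarTower k B (CotT.T2 P M))

end tower

variable {M} {N N' : Type*} [AddCommGroup N] [Module B N] [AddCommGroup N'] [Module B N']

/-- the class of a linear map. -/
noncomputable def TTmk : (CotT.L2 P →ₗ[B] M) →ₗ[B] TT P M := CotT.toT2 P M

lemma TTmk_surjective : Function.Surjective (TTmk P (M := M)) :=
  Submodule.Quotient.mk_surjective _

/-- functoriality. -/
noncomputable def TTmap (g : M →ₗ[B] N) : TT P M →ₗ[B] TT P N := CotT.T2map P g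

lemma TTmap_mk (g : M →ₗ[B] N) (φ : CotT.L2 P →ₗ[B] M) :
    TTmap P g (TTmk P φ) = TTmk P (g ∘ₗ φ) := rfl

lemma TTmap_id : TTmap P (LinearMap.id : M →ₗ[B] M) = LinearMap.id := by
  refine LinearMap.ext fun t => ?_
  obtain ⟨φ, rfl⟩ := TTmk_surjective P t
  rfl

lemma TTmap_comp_apply (g : M →ₗ[B] N) (h : N →ₗ[B] N') (t : TT P M) :
    TTmap P h (TTmap P g t) = TTmap P (h ∘ₗ g) t := by
  obtain ⟨φ, rfl⟩ := TTmk_surjective P t
  rfl

lemma TTmap_add (g g' : M →ₗ[B] N) : TTmap P (g + g') = TTmap P g + TTmap P g' := by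
  refine LinearMap.ext fun t => ?_
  obtain ⟨φ, rfl⟩ := TTmk_surjective P t
  rfl

lemma TTmap_zero : TTmap P (0 : M →ₗ[B] N) = 0 := by
  refine LinearMap.ext fun t => ?_
  obtain ⟨φ, rfl⟩ := TTmk_surjective P t
  exact (TTmap_mk P 0 φ).trans (by rw [LinearMap.zero_comp, map_zero]; rfl)

lemma TTmap_sum {α : Type*} (s : Finset α) (g : α → M →ₗ[B] N) :
    TTmap P (∑ a ∈ s, g a) = ∑ a ∈ s, TTmap P (g a) := by
  classical
  induction s using Finset.induction_on with
  | empty => simp [TTmap_zero]
  | insert a s ha ih => rw [Finset.sum_insert ha, Finset.sum_insert ha, TTmap_add, ih]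

lemma TTmap_smul (b : B) (g : M →ₗ[B] N) : TTmap P (b • g) = b • TTmap P g := by
  refine LinearMap.ext fun t => ?_
  obtain ⟨φ, rfl⟩ := TTmk_surjective P t
  rfl

end TT

section Psi

variable {k : Type*} [Field k] {B₀ : Type*} [CommRing B₀] [Algebra k B₀] {ι σ : Type*}
    (P : Algebra.Presentation k B₀ ι σ)

section

variable (J : Type*) [AddCommGroup J] [Module k J]

/-- `b ↦ b ⊗ j`. -/
noncomputable def inJ (j : J) : B₀ →ₗ[B₀] B₀ ⊗[k] J :=
  (TensorProduct.AlgebraTensorModule.mk k B₀ B₀ J).flip j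

variable {J}

lemma inJ_apply (j : J) (b : B₀) : inJ (k := k) J j b = b ⊗ₜ j := rfl

lemma inJ_add (j j' : J) : inJ (k := k) (B₀ := B₀) J (j + j') = inJ J j + inJ J j' :=
  map_add _ _ _

lemma inJ_smul (c : k) (j : J) :
    inJ (k := k) (B₀ := B₀) J (c • j) = algebraMap k B₀ c • inJ J j := by
  refine LinearMap.ext fun b => ?_
  rw [LinearMap.smul_apply, inJ_apply, inJ_apply, TensorProduct.tmul_smul, algebraMap_smul]

variable (J)

/-- the comparison map `T²(B₀) ⊗ J → T²(B₀ ⊗ J)`. -/
noncomputable def Psi : TT P B₀ ⊗[k] J →ₗ[k] TT P (B₀ ⊗[k] J) :=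
  TensorProduct.lift (LinearMap.mk₂ k (fun v j => TTmap P (inJ J j) v)
    (fun v v' j => map_add _ _ _)
    (fun c v j => LinearMap.map_smul_of_tower _ _ _)
    (fun v j j' => by rw [inJ_add, TTmap_add, LinearMap.add_apply])
    (fun c v j => by rw [inJ_smul, TTmap_smul, LinearMap.smul_apply, algebraMap_smul]))

variable {J}

lemma Psi_tmul (v : TT P B₀) (j : J) : Psi P J (v ⊗ₜ j) = TTmap P (inJ J j) v := rfl

/-- naturality of `Psi` in `J`. -/
lemma Psi_natural {J' : Type*} [AddCommGroup J'] [Module k J'] (κ : J →ₗ[k] J')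
    (x : TT P B₀ ⊗[k] J) :
    Psi P J' (LinearMap.lTensor (TT P B₀) κ x) = TTmap P (κ.baseChange B₀) (Psi P J x) := by
  induction x using TensorProduct.induction_on with
  | zero => simp
  | add x y hx hy => rw [map_add, map_add, hx, hy, map_add, map_add]
  | tmul v j =>
    have h2 : inJ (k := k) (B₀ := B₀) J' (κ j) = κ.baseChange B₀ ∘ₗ inJ J j := by
      refine LinearMap.ext fun x => ?_
      rw [LinearMap.comp_apply, inJ_apply, inJ_apply, LinearMap.baseChange_tmul]
    rw [LinearMap.lTensor_tmul, Psi_tmul, Psi_tmul, TTmap_comp_apply, h2]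

end

section Basis

variable {J : Type*} [AddCommGroup J] [Module k J] {α : Type*} (b : Module.Basis α k J)

/-- the `a`-th coordinate `B₀ ⊗ J → B₀`. -/
noncomputable def lam (a : α) : B₀ ⊗[k] J →ₗ[B₀] B₀ :=
  LinearMap.liftBaseChange B₀ ((Algebra.linearMap k B₀) ∘ₗ (b.coord a))

lemma lam_tmul (a : α) (x : B₀) (j : J) :
    lam (B₀ := B₀) b a (x ⊗ₜ j) = x * algebraMap k B₀ (b.repr j a) := by
  simp [lam]

lemma lam_comp_inJ (a : α) (j : J) :
    lam (B₀ := B₀) b a ∘ₗ inJ J j = algebraMap k B₀ (b.repr j a) • LinearMap.id := by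
  refine LinearMap.ext fun x => ?_
  rw [LinearMap.comp_apply, inJ_apply, lam_tmul, LinearMap.smul_apply, LinearMap.id_apply,
    smul_eq_mul, mul_comm]

variable [Fintype α]

lemma sum_inJ_comp_lam :
    ∑ a, inJ (k := k) (B₀ := B₀) J (b a) ∘ₗ lam b a = LinearMap.id := by
  refine TensorProduct.AlgebraTensorModule.ext fun x j => ?_
  rw [LinearMap.sum_apply, LinearMap.id_apply]
  conv_rhs => rw [← b.sum_repr j, TensorProduct.tmul_sum]
  refine Finset.sum_congr rfl fun a _ => ?_
  rw [LinearMap.comp_apply, lam_tmul, inJ_apply, TensorProduct.tmul_smul, mul_comm,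
    ← Algebra.smul_def, TensorProduct.smul_tmul']

/-- the inverse of `Psi`, in terms of a basis. -/
noncomputable def Phi : TT P (B₀ ⊗[k] J) →ₗ[k] TT P B₀ ⊗[k] J :=
  ∑ a, (TensorProduct.mk k (TT P B₀) J).flip (b a) ∘ₗ (TTmap P (lam b a)).restrictScalars k

lemma Phi_apply (t : TT P (B₀ ⊗[k] J)) :
    Phi P b t = ∑ a, TTmap P (lam b a) t ⊗ₜ[k] b a := by
  simp [Phi]

lemma Psi_Phi (t : TT P (B₀ ⊗[k] J)) : Psi P J (Phi P b t) = t := by
  rw [Phi_apply, map_sum]
  simp_rw [Psi_tmul, TTmap_comp_apply]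
  rw [← LinearMap.sum_apply, ← TTmap_sum, sum_inJ_comp_lam, TTmap_id, LinearMap.id_apply]

lemma Phi_Psi (x : TT P B₀ ⊗[k] J) : Phi P b (Psi P J x) = x := by
  induction x using TensorProduct.induction_on with
  | zero => simp
  | add x y hx hy => rw [map_add, map_add, hx, hy]
  | tmul v j =>
    rw [Psi_tmul, Phi_apply]
    simp_rw [TTmap_comp_apply, lam_comp_inJ, TTmap_smul, TTmap_id, LinearMap.smul_apply,
      LinearMap.id_apply, algebraMap_smul, TensorProduct.smul_tmul]
    rw [← TensorProduct.tmul_sum, b.sum_repr]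

end Basis

lemma Psi_bijective (J : Type*) [AddCommGroup J] [Module k J] [Module.Finite k J] :
    Function.Bijective (Psi P J) := by
  have b := Module.finBasis k J
  exact ⟨Function.LeftInverse.injective (Phi_Psi P b), Function.RightInverse.surjective (Psi_Phi P b)⟩

end Psi

section Final

variable {k : Type u} [Field k]

/-- the kernel of a semismall extension is finite-dimensional over `k`. -/
lemma finite_ker_of_isSemismallExt {C' C : Art k k} (p : C' ⟶ C) (hp : IsSemismallExt p) :
    Module.Finite k ↥(RingHom.ker p.toAlgHom) := by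
  have hJ : ∀ c : C', ∀ x ∈ RingHom.ker p.toAlgHom, c * x = algebraMap k C' (C'.res c) * x := by
    intro c x hx
    have hm : c - algebraMap k C' (C'.res c) ∈ IsLocalRing.maximalIdeal C' := by
      rw [Art.mem_maximalIdeal_iff, map_sub, AlgHom.commutes, Algebra.algebraMap_self_apply, sub_self]
    have h0 : (c - algebraMap k C' (C'.res c)) * x ∈
        IsLocalRing.maximalIdeal C' * RingHom.ker p.toAlgHom := Ideal.mul_mem_mul hm hx
    rw [hp.2, Ideal.mem_bot] at h0
    linear_combination h0
  obtain ⟨S, hS⟩ := (IsNoetherian.noetherian (RingHom.ker p.toAlgHom) :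
    (RingHom.ker p.toAlgHom).FG)
  have hmem : ∀ s : S, (s : C') ∈ RingHom.ker p.toAlgHom := fun s => by
    rw [← hS]; exact Submodule.subset_span s.2
  refine Module.Finite.of_surjective
    (Fintype.linearCombination k (fun s : S => (⟨s.1, hmem s⟩ : ↥(RingHom.ker p.toAlgHom)))) ?_
  intro x
  have hx : (x : C') ∈ Submodule.span C' (S : Set C') := by rw [hS]; exact x.2
  obtain ⟨f, hf⟩ := Submodule.mem_span_finset'.1 hx
  refine ⟨fun s => C'.res (f s), Subtype.ext ?_⟩
  rw [Fintype.linearCombination_apply, ← hf, AddSubmonoidClass.coe_finsetSum]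
  refine Finset.sum_congr rfl fun s _ => ?_
  change (C'.res (f s) • (s : C')) = f s • (s : C')
  rw [smul_eq_mul, hJ (f s) s (hmem s), Algebra.smul_def]

/-- **Package A** of PROJ:t2-obs. -/
theorem pkgA : Groth.Agent.R2.H56.ObsSpec.PkgA.{u, v} := by
  intro k _ B₀ _ _ ι σ P F o h0 hq
  have hfin : ∀ {C' C : Art k k} (p : C' ⟶ C), IsSemismallExt p →
      Module.Finite k ↥(RingHom.ker p.toAlgHom) := fun p hp => finite_ker_of_isSemismallExt p hp
  have hbij : ∀ {C' C : Art k k} (p : C' ⟶ C), IsSemismallExt p →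
      Function.Bijective (Psi P ↥(RingHom.ker p.toAlgHom)) := fun p hp => by
    have := hfin p hp
    exact Psi_bijective P _
  refine ⟨{ obs := fun {C' C} p hp u => (Equiv.ofBijective _ (hbij p hp)).symm (o p hp u)
            obs_eq_zero_iff := ?_
            obs_quot := ?_ }⟩
  · intro C' C p hp u
    rw [← h0 p hp u]
    have hz : Psi P ↥(RingHom.ker p.toAlgHom) 0 = 0 := map_zero _
    constructor
    · intro h
      have h1 := (Equiv.ofBijective _ (hbij p hp)).apply_symm_apply (o p hp u)
      rw [h] at h1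
      exact h1.symm.trans hz
    · intro h
      apply (hbij p hp).1
      exact ((Equiv.ofBijective _ (hbij p hp)).apply_symm_apply (o p hp u)).trans
        (h.trans hz.symm)
  · intro C' C p hp K hK hKJ hq' u
    apply (hbij (quotFactor hK p hKJ) hq').1
    refine ((Equiv.ofBijective _ (hbij (quotFactor hK p hKJ) hq')).apply_symm_apply _).trans ?_
    refine Eq.trans ?_ (Psi_natural P ((kerToQuot hK p hKJ).restrictScalars k) _).symm
    rw [hq p hp K hK hKJ hq' u]
    congr 1
    exact ((Equiv.ofBijective _ (hbij p hp)).apply_symm_apply (o p hp u)).symm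

end Final

end Groth.Agent.R2.H76.ObsA
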