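import Groth.Agent.R2.H56ObsMain
import Groth.Agent.R2.H76ObsA

/-!
# The `T²` obstruction theory of `Def_{Spec B₀}` (helper56)

ns `Groth.Agent.R2.H56.ObsFinal`:
* `hasObsTheory P : HasObsTheory (defFunctor (Spec B₀)) (CotT.T2 P B₀)`;
* `exists_lift_of_subsingleton`: an obstruction theory with zero obstruction space gives liftings along semismall extensions.
-/

set_option autoImplicit false

universe u v

open scoped TensorProduct
open CategoryTheory CategoryTheory.Limits AlgebraicGeometry

namespace Groth.Agent.R2.H56.ObsFinal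

open ArtFun ArtFun.Art Groth.Agent.R2.H56.AffDef

section General

variable {k : Type u} [Field k]

theorem eq_zero_of_subsingleton_left {V J : Type*} [AddCommGroup V] [Module k V] [AddCommGroup J] [Module k J]
    [Subsingleton V] (x : V ⊗[k] J) : x = 0 := by
  induction x using TensorProduct.induction_on with
  | zero => rfl
  | tmul v j => rw [Subsingleton.elim v 0, TensorProduct.zero_tmul]
  | add x y hx hy => rw [hx, hy, add_zero]

theorem exists_lift_of_subsingleton {F : Art k k ⥤ Type v} {V : Type u} [AddCommGroup V] [Module k V]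
    [Subsingleton V] (T : ObsTheory F V) {C' C : Art k k} (p : C' ⟶ C) (hp : IsSemismallExt p)
    (u : F.obj C) : ∃ u' : F.obj C', F.map p u' = u :=
  (T.obs_eq_zero_iff p hp u).1 (eq_zero_of_subsingleton_left _)

end General

variable {k : Type u} [Field k] {B₀ : Type u} [CommRing B₀] [Algebra k B₀] {ι σ : Type u}
  (P : Algebra.Presentation k B₀ ι σ)

/-- `T²(B₀/k, B₀)` is an obstruction space for `Def_{Spec B₀}`. -/
theorem hasObsTheory :
    HasObsTheory (defFunctor (Λ := k) (Spec (CommRingCat.of B₀)) (xB B₀)) (CotT.T2 P B₀) :=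
  Groth.Agent.R2.H76.ObsA.pkgA P
    (defFunctor (Λ := k) (Spec (CommRingCat.of B₀)) (xB B₀))
    (fun p hp u => Groth.Agent.R2.H56.ObsMain.o P p hp u)
    (fun p hp u => Groth.Agent.R2.H56.ObsMain.o_eq_zero_iff P p hp u)
    (fun p hp K hK hKJ hq u => Groth.Agent.R2.H56.ObsMain.o_quot P p hp K hK hKJ hq u)

end Groth.Agent.R2.H56.ObsFinal
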