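import Groth.Agent.R2.H56HullC

/-!
# The tangent space of `Def_{Spec B₀}` over `Λ = k` is `T¹` (helper56)

ns `Groth.Agent.R2.H56.ObsTan`: `cls_bijective`, and the bijection `tanT1 : Def(k[ε]) → T¹(P, B₀)` with its
compatibility with `scale` and `plus`.
-/

set_option autoImplicit false
set_option linter.style.haveILetI false
set_option linter.unusedSectionVars false

universe u

open CategoryTheory CategoryTheory.Limits AlgebraicGeometry

namespace Groth.Agent.R2.H56.ObsTan

open ArtFun ArtFun.Art Groth.Agent.R2.H56.AffDef Groth.Agent.R2.H56.DefDual Groth.Agent.R2.H56.Hull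
  Groth.Agent.R2.H56.Tan
open Exal Groth.Agent.Lib.Helper19.ExalT1 Groth.Agent.Lib.Helper19.CotTIndep

variable {k : Type u} [Field k] {B₀ : Type u} [CommRing B₀] [Algebra k B₀] {ι σ : Type u}
  (P : Algebra.Presentation k B₀ ι σ)

theorem toKq_surjective : Function.Surjective (toKq (Λ := k) (k := k) (B₀ := B₀)) := by
  intro q
  induction q using Quotient.inductionOn with
  | h D => exact ⟨Quotient.mk _ D, rfl⟩

theorem toKq_bijective : Function.Bijective (toKq (Λ := k) (k := k) (B₀ := B₀)) :=
  ⟨toKq_injective, toKq_surjective⟩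

theorem cls_bijective : Function.Bijective (cls k P) :=
  (toC1_bijective P B₀).comp ((algDefDualEquiv k B₀).bijective.comp
    (Function.Bijective.comp toKq_bijective (defEquiv B₀ (dual k k)).bijective))

/-- The tangent space of the deformation functor, identified with `T¹`. -/
noncomputable def tanT1
    (ξ : (defFunctor (Λ := k) (Spec (CommRingCat.of B₀)) (xB (k := k) B₀)).obj (dual k k)) :
    CotT.T1 P B₀ :=
  (T1equivC1 P B₀).symm (cls k P ξ)

theorem tanT1_bijective : Function.Bijective (tanT1 P) :=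
  (T1equivC1 P B₀).symm.bijective.comp (cls_bijective P)

theorem tanT1_scale (c : k)
    (ξ : (defFunctor (Λ := k) (Spec (CommRingCat.of B₀)) (xB (k := k) B₀)).obj (dual k k)) :
    tanT1 P ((defFunctor (Λ := k) (Spec (CommRingCat.of B₀)) (xB (k := k) B₀)).map (scale c) ξ) =
      c • tanT1 P ξ := by
  rw [tanT1, cls_scale, tanT1]
  exact ((T1equivC1 P B₀).symm.restrictScalars k).map_smul c _

theorem tanT1_plus
    (z : (defFunctor (Λ := k) (Spec (CommRingCat.of B₀)) (xB (k := k) B₀)).obj (dual2 k k)) :
    tanT1 P ((defFunctor (Λ := k) (Spec (CommRingCat.of B₀)) (xB (k := k) B₀)).map plus z) =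
      tanT1 P ((defFunctor (Λ := k) (Spec (CommRingCat.of B₀)) (xB (k := k) B₀)).map pr₁ z) +
        tanT1 P ((defFunctor (Λ := k) (Spec (CommRingCat.of B₀)) (xB (k := k) B₀)).map pr₂ z) := by
  rw [tanT1, cls_plus, map_add]
  rfl

end Groth.Agent.R2.H56.ObsTan
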