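import Groth.Agent.R2.H56ObsSpec
import Groth.Agent.Lib.Helper19RegLift
import Groth.Agent.Lib.Helper19PsIso
import Groth.Agent.Lib.Helper19FormallySmooth

/-!
# PROJ:t2-obs PKG-C (helper97): a hull is regular iff the functor is smooth

For a hull `(R̄, ξ)` of `F : Art k k ⥤ Type v` with `F(k) = pt`:
`dim R̄ = dim 𝔪/𝔪²` (i.e. `R̄` is a regular local ring) iff `F` is smooth.
-/

set_option autoImplicit false

universe u v

open CategoryTheory ArtFun ArtFun.Art

namespace Groth.Agent.R2.H97.ObsC

open Groth.Agent.Lib.Helper19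

attribute [local instance] isAdicComplete_field

/-- The numerical criterion `dim R = dim 𝔪/𝔪²` is regularity. -/
theorem dim_eq_finrank_iff_isRegularLocalRing (R : Type u) [CommRing R] [IsLocalRing R]
    [IsNoetherianRing R] :
    ringKrullDim R =
        ((Module.finrank (IsLocalRing.ResidueField R) (IsLocalRing.CotangentSpace R) : ℕ∞) :
          WithBot ℕ∞) ↔ IsRegularLocalRing R := by
  rw [isRegularLocalRing_iff, IsLocalRing.spanFinrank_maximalIdeal_eq_finrank_cotangentSpace]
  constructor
  · intro h; rw [h]; rfl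
  · intro h; rw [← h]; rfl

/-- For a coefficient ring over a field `k` with residue field `k`: regular iff `h_R` smooth. -/
theorem isRegularLocalRing_iff_isSmoothFunctor_hR {k : Type u} [Field k] (R : CRing k k) :
    IsRegularLocalRing R.carrier ↔ IsSmoothFunctor (hR R.carrier R.res) := by
  rw [isSmoothFunctor_hR_iff_powerSeries (hk0 (k := k)) R]
  constructor
  · intro h
    have := R.isAdicComplete
    obtain ⟨d, ψ, hψ⟩ := exists_ps_algEquiv_of_isRegularLocalRing (A := R.carrier) R.res
    exact ⟨d, ⟨(AlgEquiv.ofBijective ψ hψ).symm⟩⟩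
  · rintro ⟨n, ⟨e⟩⟩
    exact IsRegularLocalRing.of_ringEquiv e.symm.toRingEquiv

/-- PKG-C. -/
theorem pkgC : Groth.Agent.R2.H56.ObsSpec.PkgC.{u, v} := by
  intro k _ F h0 H
  rw [dim_eq_finrank_iff_isRegularLocalRing,
    isSmoothFunctor_iff_of_versal h0 H.ring H.family H.miniversal.1]
  exact isRegularLocalRing_iff_isSmoothFunctor_hR H.ring

end Groth.Agent.R2.H97.ObsC
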