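import Groth.Agent.R2.H56ObsFinal
import Groth.Agent.R2.H56ObsTan
import Groth.Agent.R2.H97ObsC
import Groth.Agent.S12327

/-!
# Dimension of the hull of `Def_{Spec B₀}` (helper56): assembler for S12268, modulo `PkgB`
-/

set_option autoImplicit false

universe u

open scoped TensorProduct
open CategoryTheory CategoryTheory.Limits AlgebraicGeometry

namespace Groth.Agent.R2.H56.ObsHull

open ArtFun ArtFun.Art Groth.Agent.R2.H56.AffDef Groth.Agent.R2.H56.Hull

variable {k : Type u} [Field k] (B₀ : Type u) [CommRing B₀] [Algebra k B₀] {ι σ : Type u}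
  (P : Algebra.Presentation k B₀ ι σ)

theorem hull_bounds (hB : Groth.Agent.R2.H56.ObsSpec.PkgB.{u, u + 1})
    [Module.Finite k (CotT.T1 P B₀)]
    (H : Hull (defFunctor (Λ := k) (Spec (CommRingCat.of B₀)) (xB (k := k) B₀))) :
    ringKrullDim H.ring.carrier ≤ ((Module.finrank k (CotT.T1 P B₀) : ℕ∞) : WithBot ℕ∞) ∧
      (Module.Finite k (CotT.T2 P B₀) →
        ((Module.finrank k (CotT.T1 P B₀) : ℕ∞) : WithBot ℕ∞) ≤
          ringKrullDim H.ring.carrier + ((Module.finrank k (CotT.T2 P B₀) : ℕ∞) : WithBot ℕ∞)) ∧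
      (ringKrullDim H.ring.carrier = ((Module.finrank k (CotT.T1 P B₀) : ℕ∞) : WithBot ℕ∞) ↔
        IsSmoothFunctor (defFunctor (Λ := k) (Spec (CommRingCat.of B₀)) (xB (k := k) B₀))) := by
  have he : Module.finrank (IsLocalRing.ResidueField H.ring.carrier)
      (IsLocalRing.CotangentSpace H.ring.carrier) = Module.finrank k (CotT.T1 P B₀) :=
    hB H (Groth.Agent.R2.H56.ObsTan.tanT1 P) (Groth.Agent.R2.H56.ObsTan.tanT1_bijective P)
      (Groth.Agent.R2.H56.ObsTan.tanT1_scale P) (Groth.Agent.R2.H56.ObsTan.tanT1_plus P)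
  rw [← he]
  refine ⟨?_, ?_, ?_⟩
  · have h1 := ringKrullDim_le_spanFinrank_maximalIdeal H.ring.carrier
    rw [IsLocalRing.spanFinrank_maximalIdeal_eq_finrank_cotangentSpace] at h1
    exact h1
  · intro hfin
    obtain ⟨T⟩ := Groth.Agent.R2.H56.ObsFinal.hasObsTheory P
    exact (Groth.Agent.S12327.result (CotT.T2 P B₀) T H).2.1
  · exact Groth.Agent.R2.H97.ObsC.pkgC (h0_defFunctor k B₀) H

end Groth.Agent.R2.H56.ObsHull
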