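import Groth.Agent.R2.H56ObsClass
import Groth.Agent.R2.H97ObsG

/-!
# The obstruction class vanishes iff a lift exists (helper56)

ns `Groth.Agent.R2.H56.Obs`:
* `cls_eq_zero_of_algLift`: a lift forces the class to vanish;
* `exists_algLift_of_cls_eq_zero`: a vanishing class gives a lift.
-/

set_option autoImplicit false
set_option linter.style.haveILetI false
set_option linter.unusedSectionVars false

universe u

open scoped TensorProduct

namespace Groth.Agent.R2.H56.Obs

open ArtFun ArtFun.Art CategoryTheory Groth.Agent.R2.H56.AffDef Groth.Agent.R2.H56.Lift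
  Groth.Agent.R2.H56.FlatNil Groth.Agent.R2.H56.ObsAlg MvPolynomial Groth.Agent.Lib.Helper19

attribute [local instance] MvPolynomial.algebraMvPolynomial

variable {k : Type u} [Field k] {B₀ : Type u} [CommRing B₀] [Algebra k B₀] {ι σ : Type u}
  [Algebra (MvPolynomial ι k) B₀] [IsScalarTower k (MvPolynomial ι k) B₀]
  {A' A : Art k k}

variable {p : A' ⟶ A} {D : AlgDef B₀ A} {g₀ : ι → D.R} {f : σ → MvPolynomial ι k}
  (hg : ∀ i, D.π (g₀ i) = algebraMap (MvPolynomial ι k) B₀ (X i))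
  (hp : IsSemismallExt p) (hsurj : Function.Surjective (algebraMap (MvPolynomial ι k) B₀))
  (hf : ∀ s, algebraMap (MvPolynomial ι k) B₀ (f s) = 0)

section Id

theorem ker_id : RingHom.ker (𝟙 A' : A' ⟶ A').toAlgHom = ⊥ := by
  rw [eq_bot_iff]
  intro x hx
  exact hx

theorem isSemismallExt_id : IsSemismallExt (𝟙 A' : A' ⟶ A') :=
  ⟨fun x => ⟨x, rfl⟩, by rw [ker_id, Ideal.mul_bot]⟩

theorem JS_id : JS (ι := ι) (𝟙 A' : A' ⟶ A') = ⊥ := by
  rw [JS, ker_id, Ideal.map_bot]

end Id

section Backward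

include hg hp hsurj hf in
/-- If a lift exists then the obstruction class vanishes. -/
theorem cls_eq_zero_of_algLift (La : AlgLift p D) (L₀ : LiftData p D g₀ f) :
    L₀.cls hg hp hsurj hf = 0 := by
  let D' : AlgDef B₀ A' := La.toAlgDef hp.1
  choose g₁ hg₁ using fun i => La.surj (g₀ i)
  let g₀' : ι → D'.R := g₁
  let ρ' : D'.R →+* D.R := La.ρ
  have hg₀' : ∀ i, ρ' (g₀' i) = g₀ i := hg₁
  have hρφ : ∀ c, ρ' (D'.φ c) = D.φ (p c) := La.ρ_φ'
  have hg' : ∀ i, D'.π (g₀' i) = algebraMap (MvPolynomial ι k) B₀ (X i) := by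
    intro i
    change D.π (ρ' (g₀' i)) = _
    rw [hg₀', hg]
  have hid : Function.Surjective (𝟙 A' : A' ⟶ A') := fun x => ⟨x, rfl⟩
  have hρ : ∀ y, ρ' (G' (𝟙 A') D' g₀' y) = G' p D g₀ y := by
    have h : ρ'.comp (G' (𝟙 A') D' g₀') = G' p D g₀ := by
      apply MvPolynomial.ringHom_ext
      · intro c
        rw [RingHom.comp_apply, G'_C, G'_C]
        exact hρφ c
      · intro i
        rw [RingHom.comp_apply, G'_X, G'_X, hg₀']
    exact fun y => congrArg (fun g => g y) h
  have hI : I' (𝟙 A') D' g₀' ≤ I' p D g₀ := by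
    intro y hy
    rw [I', RingHom.mem_ker] at hy ⊢
    rw [← hρ, hy, map_zero]
  choose Fl hFl hFle using fun s =>
    exists_mem_I'_eps_eq (𝟙 A') D' g₀' hg' hid hsurj (hf s)
  let L : LiftData p D g₀ f := ⟨Fl, fun s => hI (hFl s), hFle⟩
  let L₁ : LiftData (𝟙 A') D' g₀' f := ⟨Fl, hFl, hFle⟩
  rw [LiftData.cls_eq hg hp hsurj hf L₀ L, LiftData.cls_eq_zero_iff]
  refine ⟨0, fun q => ?_⟩
  rw [LinearMap.zero_apply]
  symm
  apply L.hmap_eq_zero_of_mem
  obtain ⟨m, hm⟩ := K1 (𝟙 A') D' g₀' hg' isSemismallExt_id hsurj (L₁.W q) (L₁.W_mem q) (L₁.W_mem_mS q)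
  have hγ : γ (ι := ι) (𝟙 A' : A' ⟶ A') m = 0 := by
    have := γ_mem_JS (ι := ι) (𝟙 A' : A' ⟶ A') m
    rw [JS_id] at this
    exact this
  rw [hγ, sub_zero] at hm
  exact Ideal.mul_mono_right hI hm

end Backward

section K3

include hg hp hsurj in
/-- Converse of `K2`: elements of `S ⊗ J` dying in `B₀ ⊗ J` are sent into `𝔪' I'` by `γ`. -/
theorem K3 (m : MvPolynomial ι k ⊗[k] ↥(RingHom.ker p.toAlgHom)) (hm : φJ B₀ p m = 0) :
    γ p m ∈ Z p D g₀ := by
  let I₀ : Ideal (MvPolynomial ι k) := RingHom.ker (algebraMap (MvPolynomial ι k) B₀)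
  let f₁ : ↥I₀ →ₗ[k] MvPolynomial ι k := I₀.subtype.restrictScalars k
  let g₁ : MvPolynomial ι k →ₗ[k] B₀ := (Algebra.linearMap (MvPolynomial ι k) B₀).restrictScalars k
  have hex : Function.Exact f₁ g₁ := by
    intro x
    constructor
    · intro hx
      exact ⟨⟨x, hx⟩, rfl⟩
    · rintro ⟨y, rfl⟩
      exact y.2
  have hgs : Function.Surjective g₁ := hsurj
  have hex2 := rTensor_exact (↥(RingHom.ker p.toAlgHom)) hex hgs
  have hφ : ∀ m, φJ B₀ p m = g₁.rTensor (↥(RingHom.ker p.toAlgHom)) m := by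
    intro m
    induction m using TensorProduct.induction_on with
    | zero => rw [map_zero, map_zero]
    | tmul s j => rfl
    | add x y hx hy => rw [map_add, map_add, hx, hy]
  rw [hφ] at hm
  obtain ⟨w, rfl⟩ := (hex2 m).1 hm
  clear hm
  induction w using TensorProduct.induction_on with
  | zero => rw [map_zero, map_zero]; exact zero_mem _
  | tmul i j =>
    rw [LinearMap.rTensor_tmul]
    obtain ⟨y, hy, hye⟩ := exists_mem_I'_eps_eq p D g₀ hg hp.1 hsurj (i.2 : algebraMap _ B₀ (i : MvPolynomial ι k) = 0)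
    have h1 : γ p (f₁ i ⊗ₜ[k] j) = C (j : A') * y := by
      rw [C_mul_eq_γ p hp, hye]
      rfl
    rw [h1]
    exact Ideal.mul_mem_mul (JS_le_mS p (Ideal.mem_map_of_mem C j.2)) hy
  | add x y hx hy => rw [map_add, map_add]; exact add_mem hx hy

include hsurj in
theorem φJ_surjective : Function.Surjective (φJ (ι := ι) B₀ p) := by
  intro t
  induction t using TensorProduct.induction_on with
  | zero => exact ⟨0, map_zero _⟩
  | tmul b j =>
    obtain ⟨s, rfl⟩ := hsurj b
    exact ⟨s ⊗ₜ[k] j, rfl⟩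
  | add x y hx hy =>
    obtain ⟨x', rfl⟩ := hx
    obtain ⟨y', rfl⟩ := hy
    exact ⟨x' + y', map_add _ _ _⟩

end K3

section Forward

include hg hp hsurj hf in
/-- If the class vanishes, the lifting data can be chosen with `W(Q) ⊆ 𝔪' I'`. -/
theorem exists_liftData_W_mem (L₀ : LiftData p D g₀ f) (h : L₀.cls hg hp hsurj hf = 0) :
    ∃ L : LiftData p D g₀ f, ∀ q : Kos.Q (MvPolynomial ι k) f, L.W q ∈ Z p D g₀ := by
  obtain ⟨G, hG⟩ := (L₀.cls_eq_zero_iff hg hp hsurj hf).1 h
  choose ms hms using fun s => φJ_surjective (ι := ι) (p := p) hsurj (G (Finsupp.single s 1))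
  let Mq : (σ →₀ MvPolynomial ι k) →ₗ[MvPolynomial ι k] MvPolynomial ι k ⊗[k] ↥(RingHom.ker p.toAlgHom) :=
    Finsupp.linearCombination (MvPolynomial ι k) ms
  have hMq : ∀ (s : σ) (r : MvPolynomial ι k), Mq (Finsupp.single s r) = r • ms s := fun s r =>
    Finsupp.linearCombination_single _ _ _
  have hGM : ∀ x, G x = φJ B₀ p (Mq x) := by
    intro x
    induction x using Finsupp.induction_linear with
    | zero => rw [map_zero, map_zero, map_zero]
    | add x y hx hy => rw [map_add, map_add, map_add, hx, hy]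
    | single s r =>
      rw [hMq, map_smul, hms, ← map_smul, Finsupp.smul_single_one]
  let L : LiftData p D g₀ f :=
    { Fl := fun s => L₀.Fl s - γ p (ms s)
      mem := fun s => sub_mem (L₀.mem s) (JS_le_I' p D g₀ (γ_mem_JS p _))
      eps_eq := fun s => by
        rw [map_sub, L₀.eps_eq, sub_eq_self, ← RingHom.mem_ker, ker_eps]
        exact JS_le_mS p (γ_mem_JS p _) }
  have hW : ∀ x, L.W x = L₀.W x - γ p (Mq x) := by
    intro x
    induction x using Finsupp.induction_linear with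
    | zero => simp only [map_zero, sub_zero]
    | add x y hx hy => rw [map_add, map_add, map_add, map_add, hx, hy]; ring
    | single s r =>
      rw [L.W_single, L₀.W_single, hMq, map_smul, Algebra.smul_def]
      change _ * (L₀.Fl s - γ p (ms s)) = _
      ring
  refine ⟨L, fun q => ?_⟩
  obtain ⟨m, hm⟩ := L₀.exists_m hg hp hsurj q
  have h1 : φJ B₀ p (m - Mq q) = 0 := by
    rw [map_sub, ← hGM, hG q, L₀.hmap_spec hg hp hsurj q m hm, sub_self]
  have h2 := K3 (D := D) (g₀ := g₀) hg hp hsurj _ h1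
  have : L.W q = (L₀.W q - γ p m) + γ p (m - Mq q) := by rw [hW, map_sub]; ring
  rw [this]
  exact add_mem hm h2

/-- The ideal of the lifted algebra. -/
noncomputable def I'' (L : LiftData p D g₀ f) : Ideal (MvPolynomial ι A') :=
  Ideal.span (Set.range L.Fl) ⊔ Z p D g₀

theorem I''_le (L : LiftData p D g₀ f) : I'' L ≤ I' p D g₀ :=
  sup_le (Ideal.span_le.2 (by rintro _ ⟨s, rfl⟩; exact L.mem s)) (Z_le_I' p D g₀)

theorem W_mem_span (L : LiftData p D g₀ f) (x : σ →₀ MvPolynomial ι k) :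
    L.W x ∈ Ideal.span (Set.range L.Fl) := by
  induction x using Finsupp.induction_linear with
  | zero => rw [map_zero]; exact zero_mem _
  | add x y hx hy => rw [map_add]; exact add_mem hx hy
  | single s r =>
    rw [L.W_single]
    exact Ideal.mul_mem_left _ _ (Ideal.subset_span ⟨s, rfl⟩)

variable (hspan : Ideal.span (Set.range f) = RingHom.ker (algebraMap (MvPolynomial ι k) B₀))

include hg hp hsurj hspan in
theorem I'_le (L : LiftData p D g₀ f) : I' p D g₀ ≤ I'' L ⊔ JS p := by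
  intro y hy
  have h1 : eps ι A' y ∈ Ideal.span (Set.range f) := by
    rw [hspan]
    exact eps_mem_ker p D g₀ hg hy
  obtain ⟨c, hc⟩ := (Finsupp.mem_span_range_iff_exists_finsupp).1 h1
  have hc' : Kos.jm (MvPolynomial ι k) f c = eps ι A' y := by
    rw [← hc, Kos.jm, Finsupp.linearCombination_apply]
  have h2 : y - L.W c ∈ I' p D g₀ := sub_mem hy (L.W_mem c)
  have h3 : y - L.W c ∈ mS ι A' := by
    rw [← ker_eps, RingHom.mem_ker, map_sub, L.eps_W, hc', sub_self]
  obtain ⟨m, hm⟩ := K1 p D g₀ hg hp hsurj _ h2 h3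
  have : y = L.W c + ((y - L.W c) - γ p m) + γ p m := by ring
  rw [this]
  exact add_mem (add_mem (Ideal.mem_sup_left (Ideal.mem_sup_left (W_mem_span L c)))
    (Ideal.mem_sup_left (Ideal.mem_sup_right hm))) (Ideal.mem_sup_right (γ_mem_JS p m))

include hg hp hsurj hspan in
theorem Z_le_mul (L : LiftData p D g₀ f) : Z p D g₀ ≤ mS ι A' * I'' L := by
  have hbot : mS ι A' * JS (ι := ι) p = ⊥ := by
    rw [eq_bot_iff, Ideal.mul_le]
    intro a ha j hj
    rw [mul_comm]
    exact (Ideal.mem_bot).2 (mul_eq_zero_of_mem_JS_mS p hp hj ha)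
  calc Z p D g₀ = mS ι A' * I' p D g₀ := rfl
    _ ≤ mS ι A' * (I'' L ⊔ JS p) := Ideal.mul_mono_right (I'_le hg hp hsurj hspan L)
    _ = mS ι A' * I'' L ⊔ mS ι A' * JS p := Ideal.mul_sup _ _ _
    _ = mS ι A' * I'' L := by rw [hbot, sup_bot_eq]

end Forward

section Forward2

variable (hspan : Ideal.span (Set.range f) = RingHom.ker (algebraMap (MvPolynomial ι k) B₀))

/-- `∑ c'_s Fl_s - W(eps c') ∈ 𝔪'S' · (Fl)`. -/
theorem lin_sub_W_mem (L : LiftData p D g₀ f) (c' : σ →₀ MvPolynomial ι A') :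
    Finsupp.linearCombination (MvPolynomial ι A') L.Fl c' -
      L.W (Finsupp.mapRange (eps ι A') (map_zero _) c') ∈ mS ι A' * Ideal.span (Set.range L.Fl) := by
  induction c' using Finsupp.induction_linear with
  | zero =>
    rw [Finsupp.mapRange_zero, map_zero, map_zero, sub_zero]
    exact zero_mem _
  | add x y hx hy =>
    rw [Finsupp.mapRange_add (map_add _), map_add, map_add]
    have : ∀ a b c d : MvPolynomial ι A', a + b - (c + d) = (a - c) + (b - d) := fun a b c d => by ring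
    rw [this]
    exact add_mem hx hy
  | single s a =>
    rw [Finsupp.mapRange_single, Finsupp.linearCombination_single, L.W_single, smul_eq_mul, ← sub_mul]
    exact Ideal.mul_mem_mul (sub_algebraMap_eps_mem a) (Ideal.subset_span ⟨s, rfl⟩)

include hg hp hsurj hspan in
/-- `I'' ∩ 𝔪'S' ⊆ 𝔪'S' · I''`: the flatness condition. -/
theorem inf_mS_le (L : LiftData p D g₀ f) (hL : ∀ q : Kos.Q (MvPolynomial ι k) f, L.W q ∈ Z p D g₀)
    (x : MvPolynomial ι A') (hx : x ∈ I'' L) (hx' : x ∈ mS ι A') : x ∈ mS ι A' * I'' L := by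
  have hZ := Z_le_mul hg hp hsurj hspan L
  obtain ⟨w, hw, z, hz, rfl⟩ := Submodule.mem_sup.1 hx
  obtain ⟨c', hc'⟩ := (Finsupp.mem_span_range_iff_exists_finsupp).1 hw
  rw [← Finsupp.linearCombination_apply] at hc'
  let q : σ →₀ MvPolynomial ι k := Finsupp.mapRange (eps ι A') (map_zero _) c'
  have h3 := lin_sub_W_mem L c'
  rw [hc'] at h3
  have h3' : w - L.W q ∈ mS ι A' * I'' L :=
    Ideal.mul_mono_right (le_sup_left) h3
  have hqQ : q ∈ Kos.Q (MvPolynomial ι k) f := by
    rw [Kos.mem_Q, ← L.eps_W]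
    have e1 : eps ι A' (w - L.W q) = 0 := by
      rw [← RingHom.mem_ker, ker_eps]
      exact Ideal.mul_le_left h3
    have e2 : eps ι A' w = 0 := by
      have e3 : eps ι A' (w + z) = 0 := by
        rw [← RingHom.mem_ker, ker_eps]; exact hx'
      have e4 : eps ι A' z = 0 := by
        rw [← RingHom.mem_ker, ker_eps]; exact Z_le_mS p D g₀ hz
      rw [map_add, e4, add_zero] at e3
      exact e3
    rw [map_sub, e2, zero_sub, neg_eq_zero] at e1
    exact e1
  have : w + z = (w - L.W q) + L.W q + z := by ring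
  rw [this]
  exact add_mem (add_mem h3' (hZ (hL ⟨q, hqQ⟩))) (hZ hz)

end Forward2

section Forward3

variable (hspan : Ideal.span (Set.range f) = RingHom.ker (algebraMap (MvPolynomial ι k) B₀))

theorem map_maximalIdeal_eq : Ideal.map (algebraMap A' (MvPolynomial ι A')) (IsLocalRing.maximalIdeal A') = mS ι A' := by
  rw [← ker_res_eq]
  rfl

include hg hp hsurj hspan in
/-- A lift from lifting data with `W(Q) ⊆ 𝔪' I'`. -/
theorem exists_algLift_of_W_mem (L : LiftData p D g₀ f)
    (hL : ∀ q : Kos.Q (MvPolynomial ι k) f, L.W q ∈ Z p D g₀) : Nonempty (AlgLift p D) := by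
  have hflat : Module.Flat A' (MvPolynomial ι A' ⧸ I'' L) := by
    apply Groth.Agent.R2.H97.ObsG.pkgG (I'' L)
    intro x hx hx'
    rw [map_maximalIdeal_eq] at hx' ⊢
    exact inf_mS_le hg hp hsurj hspan L hL x hx hx'
  have hle : ∀ x ∈ I'' L, G' p D g₀ x = 0 := fun x hx => I''_le L hx
  refine ⟨{ R' := MvPolynomial ι A' ⧸ I'' L
            φ' := algebraMap A' (MvPolynomial ι A' ⧸ I'' L)
            flat := RingHom.flat_algebraMap_iff.2 hflat
            ρ := Ideal.Quotient.lift (I'' L) (G' p D g₀) hle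
            comm := ?_
            surj := ?_
            ker_eq := ?_ }⟩
  · ext c
    change Ideal.Quotient.lift (I'' L) (G' p D g₀) hle (Ideal.Quotient.mk (I'' L) (C c)) = _
    rw [Ideal.Quotient.lift_mk, G'_C]
    rfl
  · exact Ideal.Quotient.lift_surjective_of_surjective _ _ (G'_surjective p D g₀ hg hp.1 hsurj)
  · have hφ : (algebraMap A' (MvPolynomial ι A' ⧸ I'' L)) = (Ideal.Quotient.mk (I'' L)).comp C := rfl
    apply le_antisymm
    · intro x hx
      obtain ⟨y, rfl⟩ := Ideal.Quotient.mk_surjective x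
      rw [RingHom.mem_ker, Ideal.Quotient.lift_mk] at hx
      have hy : y ∈ I'' L ⊔ JS p := I'_le hg hp hsurj hspan L hx
      obtain ⟨y₁, hy₁, t, ht, rfl⟩ := Submodule.mem_sup.1 hy
      rw [map_add, Ideal.Quotient.eq_zero_iff_mem.2 hy₁, zero_add, hφ, ← Ideal.map_map]
      exact Ideal.mem_map_of_mem _ ht
    · rw [Ideal.map_le_iff_le_comap]
      intro j hj
      rw [Ideal.mem_comap, RingHom.mem_ker]
      change Ideal.Quotient.lift (I'' L) (G' p D g₀) hle (Ideal.Quotient.mk (I'' L) (C j)) = 0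
      rw [Ideal.Quotient.lift_mk, G'_C]
      have : p j = 0 := hj
      rw [this, map_zero]

include hg hp hsurj hf hspan in
/-- If the obstruction class vanishes then a lift exists. -/
theorem exists_algLift_of_cls_eq_zero (L₀ : LiftData p D g₀ f) (h : L₀.cls hg hp hsurj hf = 0) :
    Nonempty (AlgLift p D) := by
  obtain ⟨L, hL⟩ := exists_liftData_W_mem hg hp hsurj hf L₀ h
  exact exists_algLift_of_W_mem hg hp hsurj hspan L hL

include hg hp hsurj hf in
theorem nonempty_liftData : Nonempty (LiftData p D g₀ f) := by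
  choose Fl hFl hFle using fun s => exists_mem_I'_eps_eq p D g₀ hg hp.1 hsurj (hf s)
  exact ⟨⟨Fl, hFl, hFle⟩⟩

end Forward3

end Groth.Agent.R2.H56.Obs
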