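import Groth.Agent.R2.H56ObsLift

/-!
# Naturality of the obstruction cocycle in the extension (helper56)

ns `Groth.Agent.R2.H56.Obs`: for `κ : A' ⟶ A''` with `κ ≫ p'' = p` and `τ : ker p → ker p''` induced by `κ`, the cocycle for
`p''` is `(id ⊗ τ)` of the cocycle for `p` (`hmap_nat`).
-/

set_option autoImplicit false
set_option linter.style.haveILetI false
set_option linter.unusedSectionVars false

universe u

open scoped TensorProduct

namespace Groth.Agent.R2.H56.Obs

open ArtFun ArtFun.Art CategoryTheory Groth.Agent.R2.H56.AffDef Groth.Agent.R2.H56.Lift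
  Groth.Agent.R2.H56.FlatNil Groth.Agent.R2.H56.ObsAlg MvPolynomial Groth.Agent.Lib.Helper19

attribute [local instance] MvPolynomial.algebraMvPolynomial

variable {k : Type u} [Field k] {B₀ : Type u} [CommRing B₀] [Algebra k B₀] {ι σ : Type u}
  {A' A'' A : Art k k}

variable {p : A' ⟶ A} {p'' : A'' ⟶ A} (κ : A' ⟶ A'') (hκ : κ ≫ p'' = p)
  (τ : ↥(RingHom.ker p.toAlgHom) →ₗ[k] ↥(RingHom.ker p''.toAlgHom))
  (hτ : ∀ j, ((τ j : ↥(RingHom.ker p''.toAlgHom)) : A'') = κ (j : A'))
  {D : AlgDef B₀ A} {g₀ : ι → D.R} {f : σ → MvPolynomial ι k}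

/-- `S' → S''`. -/
noncomputable def μκ : MvPolynomial ι A' →+* MvPolynomial ι A'' := MvPolynomial.map κ.toAlgHom.toRingHom

theorem μκ_C (c : A') : μκ (ι := ι) κ (C c) = C (κ c) := MvPolynomial.map_C _ _

theorem μκ_X (i : ι) : μκ (ι := ι) κ (X i) = X i := MvPolynomial.map_X _ _

theorem μκ_algebraMap (s : MvPolynomial ι k) :
    μκ κ (algebraMap (MvPolynomial ι k) (MvPolynomial ι A') s) =
      algebraMap (MvPolynomial ι k) (MvPolynomial ι A'') s := by
  change MvPolynomial.map κ.toAlgHom.toRingHom (MvPolynomial.map (algebraMap k A') s) =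
    MvPolynomial.map (algebraMap k A'') s
  rw [MvPolynomial.map_map]
  have h : κ.toAlgHom.toRingHom.comp (algebraMap k A') = algebraMap k A'' := by
    ext c
    exact κ.toAlgHom.commutes c
  rw [h]

theorem eps_μκ (y : MvPolynomial ι A') : eps ι A'' (μκ κ y) = eps ι A' y := by
  change MvPolynomial.map A''.res.toRingHom (MvPolynomial.map κ.toAlgHom.toRingHom y) =
    MvPolynomial.map A'.res.toRingHom y
  rw [MvPolynomial.map_map]
  have h : A''.res.toRingHom.comp κ.toAlgHom.toRingHom = A'.res.toRingHom := by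
    ext c
    exact res_app κ c
  rw [h]

include hκ in
theorem G'_μκ (y : MvPolynomial ι A') : G' p'' D g₀ (μκ κ y) = G' p D g₀ y := by
  have h : (G' p'' D g₀).comp (μκ κ) = G' p D g₀ := by
    apply MvPolynomial.ringHom_ext
    · intro c
      rw [RingHom.comp_apply, μκ_C, G'_C, G'_C, ← hκ]
      rfl
    · intro i
      rw [RingHom.comp_apply, μκ_X, G'_X, G'_X]
  exact congrArg (fun g => g y) h

include hκ in
theorem μκ_mem_I' {y : MvPolynomial ι A'} (hy : y ∈ I' p D g₀) : μκ κ y ∈ I' p'' D g₀ := by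
  rw [I', RingHom.mem_ker] at hy ⊢
  rw [G'_μκ κ hκ, hy]

theorem μκ_mem_mS {y : MvPolynomial ι A'} (hy : y ∈ mS ι A') : μκ κ y ∈ mS ι A'' := by
  rw [← ker_eps, RingHom.mem_ker] at hy ⊢
  rw [eps_μκ, hy]

include hκ in
theorem μκ_mem_Z {y : MvPolynomial ι A'} (hy : y ∈ Z p D g₀) : μκ κ y ∈ Z p'' D g₀ := by
  have h : Ideal.map (μκ (ι := ι) κ) (Z p D g₀) ≤ Z p'' D g₀ := by
    rw [Z, Ideal.map_mul]
    refine Ideal.mul_mono ?_ ?_
    · rw [Ideal.map_le_iff_le_comap]
      exact fun y hy => μκ_mem_mS κ hy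
    · rw [Ideal.map_le_iff_le_comap]
      exact fun y hy => μκ_mem_I' κ hκ hy
  exact h (Ideal.mem_map_of_mem _ hy)

include hτ in
theorem μκ_γ (m : MvPolynomial ι k ⊗[k] ↥(RingHom.ker p.toAlgHom)) :
    μκ κ (γ p m) = γ p'' (τ.baseChange (MvPolynomial ι k) m) := by
  induction m using TensorProduct.induction_on with
  | zero => rw [map_zero, map_zero, map_zero, map_zero]
  | tmul s j =>
    rw [γ_tmul, map_mul, μκ_algebraMap, μκ_C, LinearMap.baseChange_tmul, γ_tmul, hτ]
  | add x y hx hy => rw [map_add, map_add, hx, hy, map_add, map_add]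

section Data

variable (L : LiftData p D g₀ f)

include hκ in
/-- Push lifting data forward. -/
noncomputable def LiftData.push : LiftData p'' D g₀ f where
  Fl := fun s => μκ κ (L.Fl s)
  mem := fun s => μκ_mem_I' κ hκ (L.mem s)
  eps_eq := fun s => by rw [eps_μκ, L.eps_eq]

variable [Algebra (MvPolynomial ι k) B₀] [IsScalarTower k (MvPolynomial ι k) B₀]

theorem LiftData.push_W (x : σ →₀ MvPolynomial ι k) : (L.push κ hκ).W x = μκ κ (L.W x) := by
  induction x using Finsupp.induction_linear with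
  | zero => rw [map_zero, map_zero, map_zero]
  | add x y hx hy => rw [map_add, map_add, map_add, hx, hy]
  | single s r =>
    rw [LiftData.W_single, LiftData.W_single, map_mul, μκ_algebraMap]
    rfl

theorem φJ_baseChange (m : MvPolynomial ι k ⊗[k] ↥(RingHom.ker p.toAlgHom)) :
    φJ B₀ p'' (τ.baseChange (MvPolynomial ι k) m) = τ.baseChange B₀ (φJ B₀ p m) := by
  induction m using TensorProduct.induction_on with
  | zero => rw [map_zero, map_zero, map_zero, map_zero]
  | tmul s j => rfl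
  | add x y hx hy => rw [map_add, map_add, hx, hy, map_add, map_add]

variable (hg : ∀ i, D.π (g₀ i) = algebraMap (MvPolynomial ι k) B₀ (X i))
  (hp : IsSemismallExt p) (hp'' : IsSemismallExt p'')
  (hsurj : Function.Surjective (algebraMap (MvPolynomial ι k) B₀))

include hτ in
/-- Naturality of the cocycle. -/
theorem LiftData.hmap_push (q : Kos.Q (MvPolynomial ι k) f) :
    (L.push κ hκ).hmap hg hp'' hsurj q = τ.baseChange B₀ (L.hmap hg hp hsurj q) := by
  obtain ⟨m, hm⟩ := L.exists_m hg hp hsurj q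
  have h1 : (L.push κ hκ).W q - γ p'' (τ.baseChange (MvPolynomial ι k) m) ∈ Z p'' D g₀ := by
    rw [L.push_W, ← μκ_γ κ τ hτ, ← map_sub]
    exact μκ_mem_Z κ hκ hm
  rw [(L.push κ hκ).hmap_spec hg hp'' hsurj q _ h1, L.hmap_spec hg hp hsurj q m hm, φJ_baseChange]

end Data

end Groth.Agent.R2.H56.Obs
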