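import Mathlib.RingTheory.TensorProduct.MvPolynomial
import Mathlib.RingTheory.Polynomial.Basic
import Groth.Agent.R2.H56ObsAlg
import Groth.Agent.R2.H56Lift1

/-!
# Setup for the `T²` obstruction (helper56)

ns `Groth.Agent.R2.H56.Obs`.  `S = k[x_i]`, `S' = C'[x_i]`, `θ = algebraMap S S'`, `eps : S' → S`,
`G' : S' → D.R`, `I' = ker G'`, `mS = 𝔪' S'`, `JS = J S'`, `Z = 𝔪' I'`, `γ : S ⊗ J → S'`.
-/

set_option autoImplicit false

universe u

open scoped TensorProduct

namespace Groth.Agent.R2.H56.Obs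

open ArtFun ArtFun.Art Groth.Agent.R2.H56.AffDef Groth.Agent.R2.H56.Lift Groth.Agent.R2.H56.FlatNil
  Groth.Agent.R2.H56.ObsAlg MvPolynomial

attribute [local instance] MvPolynomial.algebraMvPolynomial

variable {k : Type u} [Field k] {B₀ : Type u} [CommRing B₀] [Algebra k B₀] {ι : Type u}
  {A' A : Art k k}

section Basic

variable (ι) (A')

/-- The reduction `S' → S`. -/
noncomputable def eps : MvPolynomial ι A' →+* MvPolynomial ι k := MvPolynomial.map A'.res.toRingHom

/-- `𝔪' S'`. -/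
noncomputable def mS : Ideal (MvPolynomial ι A') := Ideal.map C (RingHom.ker A'.res.toRingHom)

variable {ι} {A'}

theorem res_algebraMap (c : k) : A'.res (algebraMap k A' c) = c := by
  rw [AlgHom.commutes]
  rfl

theorem eps_algebraMap (s : MvPolynomial ι k) :
    eps ι A' (algebraMap (MvPolynomial ι k) (MvPolynomial ι A') s) = s := by
  change MvPolynomial.map A'.res.toRingHom (MvPolynomial.map (algebraMap k A') s) = s
  rw [MvPolynomial.map_map]
  have : (A'.res.toRingHom.comp (algebraMap k A')) = RingHom.id k := by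
    ext c
    exact res_algebraMap c
  rw [this, MvPolynomial.map_id]

theorem ker_eps : RingHom.ker (eps ι A') = mS ι A' := MvPolynomial.ker_map _

theorem sub_algebraMap_eps_mem (y : MvPolynomial ι A') :
    y - algebraMap (MvPolynomial ι k) (MvPolynomial ι A') (eps ι A' y) ∈ mS ι A' := by
  rw [← ker_eps, RingHom.mem_ker, map_sub, eps_algebraMap, sub_self]

theorem eps_C (c : A') : eps ι A' (C c) = C (A'.res c) := MvPolynomial.map_C _ _

theorem eps_X (i : ι) : eps ι A' (X i) = X i := MvPolynomial.map_X _ _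

end Basic

section Main

variable (p : A' ⟶ A) (D : AlgDef B₀ A) (g₀ : ι → D.R)

/-- `J S'`. -/
noncomputable def JS : Ideal (MvPolynomial ι A') := Ideal.map C (RingHom.ker p.toAlgHom)

/-- The surjection `S' → D.R`. -/
noncomputable def G' : MvPolynomial ι A' →+* D.R :=
  MvPolynomial.eval₂Hom (D.φ.comp p.toAlgHom.toRingHom) g₀

/-- `I' = ker (S' → D.R)`. -/
noncomputable def I' : Ideal (MvPolynomial ι A') := RingHom.ker (G' p D g₀)

/-- `Z = 𝔪' I'`. -/
noncomputable def Z : Ideal (MvPolynomial ι A') := mS ι A' * I' p D g₀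

theorem G'_C (c : A') : G' p D g₀ (C c) = D.φ (p c) := by
  change MvPolynomial.eval₂Hom _ _ _ = _
  rw [MvPolynomial.coe_eval₂Hom, MvPolynomial.eval₂_C]
  rfl

theorem G'_X (i : ι) : G' p D g₀ (X i) = g₀ i := by
  change MvPolynomial.eval₂Hom _ _ _ = _
  rw [MvPolynomial.coe_eval₂Hom, MvPolynomial.eval₂_X]

theorem JS_le_I' : JS (ι := ι) p ≤ I' p D g₀ := by
  rw [JS, Ideal.map_le_iff_le_comap]
  intro j hj
  rw [Ideal.mem_comap, I', RingHom.mem_ker, G'_C]
  have : p j = 0 := hj
  rw [this, map_zero]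

theorem JS_le_mS : JS (ι := ι) p ≤ mS ι A' := Ideal.map_mono (ker_le_ker_res p)

include D g₀ in
theorem Z_le_I' : Z p D g₀ ≤ I' p D g₀ := Ideal.mul_le_right

theorem Z_le_mS : Z p D g₀ ≤ mS ι A' := Ideal.mul_le_left

/-- `J · 𝔪' S' = 0`. -/
theorem mul_eq_zero_of_mem_JS_mS (hp : IsSemismallExt p) {x y : MvPolynomial ι A'} (hx : x ∈ JS (ι := ι) p)
    (hy : y ∈ mS ι A') : x * y = 0 := by
  have h : JS (ι := ι) p * mS ι A' = ⊥ := by
    rw [JS, mS, ← Ideal.map_mul]
    have : RingHom.ker p.toAlgHom * RingHom.ker A'.res.toRingHom = ⊥ := by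
      rw [eq_bot_iff, Ideal.mul_le]
      intro j hj a ha
      rw [mul_comm]
      exact (Ideal.mem_bot).2 (mul_eq_zero_of_semismall p hp ha hj)
    rw [this, Ideal.map_bot]
  have h2 : x * y ∈ JS (ι := ι) p * mS ι A' := Ideal.mul_mem_mul hx hy
  rw [h] at h2
  exact h2

end Main

end Groth.Agent.R2.H56.Obs
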