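import Groth.Agent.R2.H56DefRigid
import Groth.Agent.Lib.Helper7ExalBaer
import Groth.Agent.S12292
import Mathlib.RingTheory.Jacobson.Ring
import Mathlib.FieldTheory.IsAlgClosed.Basic
import Mathlib.RingTheory.HopkinsLevitzki
import Mathlib.RingTheory.TensorProduct.Quotient

/-!
# PROJ:rigid (helper56): the thickenings `A/(t^m)` of a rational point of a curve as objects of `Art k k`, and the induced
algebraic deformation `B/(t^m)` of the fibre `B/(t)`
-/

set_option autoImplicit false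
set_option linter.style.haveILetI false
set_option linter.unusedSectionVars false

universe u

open scoped TensorProduct

namespace Groth.Agent.R2.H56.RigArt

open ArtFun ArtFun.Art Groth.Agent.R2.H56.AffDef

section Rigid

variable {k : Type u} [Field k] {B₀ : Type u} [CommRing B₀] [Algebra k B₀]

/-- `T¹(B₀/k, B₀) = 0` makes every `k`-extension of `B₀` by `B₀` trivial. -/
theorem isTrivial_of_subsingleton_T1 (h : Subsingleton (CotT.T1 (CotT.canon k B₀) B₀)) (E : Exal.Ext k B₀ B₀) :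
    E.IsTrivial := by
  obtain ⟨e, -⟩ := Groth.Agent.S12292.result k B₀ B₀
  have h1 : E.cl = (Exal.Ext.trivial k B₀ B₀).cl := e.injective (Subsingleton.elim _ _)
  obtain ⟨eq⟩ := Quotient.exact h1
  exact Groth.Agent.Lib.Helper7.ExalLib.isTrivial_of_equiv eq
    (Groth.Agent.Lib.Helper7.ExalLib.trivial_isTrivial k B₀ B₀)

end Rigid

section Point

variable {k : Type u} [Field k] [IsAlgClosed k] {A : Type u} [CommRing A] [Algebra k A] [Algebra.FiniteType k A]
  (t : A) [ht : (Ideal.span {t}).IsMaximal]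

theorem bijective_algebraMap_quot : Function.Bijective (algebraMap k (A ⧸ Ideal.span {t})) := by
  letI : Field (A ⧸ Ideal.span {t}) := Ideal.Quotient.field _
  haveI : Algebra.FiniteType k (A ⧸ Ideal.span {t}) :=
    Algebra.FiniteType.of_surjective (Ideal.Quotient.mkₐ k _) (Ideal.Quotient.mkₐ_surjective k _)
  haveI : Module.Finite k (A ⧸ Ideal.span {t}) := finite_of_finite_type_of_isJacobsonRing k _
  haveI : Algebra.IsIntegral k (A ⧸ Ideal.span {t}) := Algebra.IsIntegral.of_finite k _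
  exact IsAlgClosed.algebraMap_bijective_of_isIntegral

variable (k) in
/-- The rational point `A → k` cut out by `t`. -/
noncomputable def pt : A →ₐ[k] k :=
  (AlgEquiv.ofBijective (Algebra.ofId k (A ⧸ Ideal.span {t})) (bijective_algebraMap_quot t)).symm.toAlgHom.comp
    (Ideal.Quotient.mkₐ k (Ideal.span {t}))

theorem pt_eq_zero_iff (a : A) : pt k t a = 0 ↔ a ∈ Ideal.span {t} := by
  change (AlgEquiv.ofBijective (Algebra.ofId k (A ⧸ Ideal.span {t})) (bijective_algebraMap_quot t)).symm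
    (Ideal.Quotient.mk _ a) = 0 ↔ _
  rw [EmbeddingLike.map_eq_zero_iff, Ideal.Quotient.eq_zero_iff_mem]

theorem pt_surjective : Function.Surjective (pt k t) := fun c => ⟨algebraMap k A c, (pt k t).commutes c⟩

theorem pt_t : pt k t t = 0 := (pt_eq_zero_iff (k := k) t t).2 (Ideal.subset_span rfl)

theorem sub_algebraMap_pt_mem (a : A) : a - algebraMap k A (pt k t a) ∈ Ideal.span {t} := by
  rw [← pt_eq_zero_iff (k := k), map_sub, AlgHom.commutes, Algebra.algebraMap_self_apply, sub_self]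

end Point

section Thick

variable (k : Type u) [Field k] [IsAlgClosed k] {A : Type u} [CommRing A] [Algebra k A] [Algebra.FiniteType k A]
  (t : A) [ht : (Ideal.span {t}).IsMaximal] (n : ℕ)

/-- The augmentation `A/(t^(n+1)) → k`. -/
noncomputable def resQ : (A ⧸ Ideal.span {t ^ (n + 1)}) →ₐ[k] k :=
  Ideal.Quotient.liftₐ (Ideal.span {t ^ (n + 1)}) (pt k t) (by
    intro a ha
    obtain ⟨c, rfl⟩ := Ideal.mem_span_singleton'.1 ha
    rw [map_mul, map_pow, pt_t, zero_pow (Nat.succ_ne_zero n), mul_zero])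

theorem resQ_mk (a : A) : resQ k t n (Ideal.Quotient.mk _ a) = pt k t a := rfl

theorem resQ_surjective : Function.Surjective (resQ k t n) := fun c =>
  ⟨Ideal.Quotient.mk _ (algebraMap k A c), by rw [resQ_mk]; exact (pt k t).commutes c⟩

omit ht in
theorem mk_t_pow : (Ideal.Quotient.mk (Ideal.span {t ^ (n + 1)}) t) ^ (n + 1) = 0 := by
  rw [← map_pow, Ideal.Quotient.eq_zero_iff_mem]
  exact Ideal.subset_span rfl

theorem isUnit_of_resQ_ne_zero (x : A ⧸ Ideal.span {t ^ (n + 1)}) (hx : resQ k t n x ≠ 0) : IsUnit x := by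
  obtain ⟨a, rfl⟩ := Ideal.Quotient.mk_surjective x
  rw [resQ_mk] at hx
  have ha : a ∉ Ideal.span {t} := fun h => hx ((pt_eq_zero_iff t a).2 h)
  obtain ⟨y, i, hi, hyi⟩ := ht.exists_inv ha
  obtain ⟨c, rfl⟩ := Ideal.mem_span_singleton'.1 hi
  have h1 : Ideal.Quotient.mk (Ideal.span {t ^ (n + 1)}) y * Ideal.Quotient.mk _ a =
      1 - Ideal.Quotient.mk _ c * Ideal.Quotient.mk _ t := by
    rw [← map_mul, ← map_mul, ← map_one (Ideal.Quotient.mk (Ideal.span {t ^ (n + 1)})), ← map_sub]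
    congr 1
    rw [← hyi]; ring
  have h2 : IsNilpotent (Ideal.Quotient.mk (Ideal.span {t ^ (n + 1)}) c * Ideal.Quotient.mk _ t) :=
    ⟨n + 1, by rw [mul_pow, mk_t_pow, mul_zero]⟩
  have h3 : IsUnit (Ideal.Quotient.mk (Ideal.span {t ^ (n + 1)}) y * Ideal.Quotient.mk _ a) := by
    rw [h1]; exact h2.isUnit_one_sub
  exact isUnit_of_mul_isUnit_right h3

theorem isLocalHom_resQ : IsLocalHom (resQ k t n).toRingHom :=
  ⟨fun x hx => isUnit_of_resQ_ne_zero k t n x hx.ne_zero⟩

include k in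
theorem isLocalRing_Q : IsLocalRing (A ⧸ Ideal.span {t ^ (n + 1)}) :=
  haveI := isLocalHom_resQ k t n
  (resQ k t n).toRingHom.domain_isLocalRing

theorem mem_span_mk_t_of_resQ_eq_zero (x : A ⧸ Ideal.span {t ^ (n + 1)}) (hx : resQ k t n x = 0) :
    x ∈ Ideal.span {Ideal.Quotient.mk (Ideal.span {t ^ (n + 1)}) t} := by
  obtain ⟨a, rfl⟩ := Ideal.Quotient.mk_surjective x
  rw [resQ_mk, pt_eq_zero_iff] at hx
  obtain ⟨c, rfl⟩ := Ideal.mem_span_singleton'.1 hx
  rw [map_mul]
  exact Ideal.mul_mem_left _ _ (Ideal.subset_span rfl)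

theorem ker_resQ : RingHom.ker (resQ k t n).toRingHom =
    Ideal.span {Ideal.Quotient.mk (Ideal.span {t ^ (n + 1)}) t} := by
  apply le_antisymm
  · intro x hx
    exact mem_span_mk_t_of_resQ_eq_zero k t n x hx
  · rw [Ideal.span_le, Set.singleton_subset_iff]
    change resQ k t n (Ideal.Quotient.mk _ t) = 0
    rw [resQ_mk, pt_t]

include k in
theorem isArtinianRing_Q : IsArtinianRing (A ⧸ Ideal.span {t ^ (n + 1)}) := by
  haveI : IsNoetherianRing A := Algebra.FiniteType.isNoetherianRing k A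
  haveI := isLocalRing_Q k t n
  rw [isArtinianRing_iff_isNilpotent_maximalIdeal]
  refine ⟨n + 1, ?_⟩
  have h1 : IsLocalRing.maximalIdeal (A ⧸ Ideal.span {t ^ (n + 1)}) ≤
      Ideal.span {Ideal.Quotient.mk (Ideal.span {t ^ (n + 1)}) t} := by
    intro x hx
    apply mem_span_mk_t_of_resQ_eq_zero k t n x
    by_contra h
    exact hx (isUnit_of_resQ_ne_zero k t n x h)
  have h2 := Ideal.pow_right_mono h1 (n + 1)
  rw [Ideal.span_singleton_pow, mk_t_pow, Ideal.span_singleton_zero] at h2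
  exact le_bot_iff.1 h2

/-- `A/(t^(n+1))` as an object of `Art k k`. -/
noncomputable def Am : Art k k :=
  letI := isLocalRing_Q k t n
  letI := isArtinianRing_Q k t n
  Art.of (A ⧸ Ideal.span {t ^ (n + 1)}) (resQ k t n) (resQ_surjective k t n)

theorem Am_res (x : A ⧸ Ideal.span {t ^ (n + 1)}) : (Am k t n).res x = resQ k t n x := rfl

end Thick

section Def

variable (k : Type u) [Field k] [IsAlgClosed k] {A : Type u} [CommRing A] [Algebra k A] [Algebra.FiniteType k A]
  (t : A) [ht : (Ideal.span {t}).IsMaximal] (n : ℕ)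
  (B : Type u) [CommRing B] [Algebra A B] [Module.Flat A B] [Algebra k B] [IsScalarTower k A B]
  {B₀ : Type u} [CommRing B₀] [Algebra k B₀] (e : (B ⧸ Ideal.span {algebraMap A B t}) ≃ₐ[k] B₀)

omit [Field k] [IsAlgClosed k] [Algebra k A] [Algebra.FiniteType k A] ht [Module.Flat A B] in
theorem map_span_pow_le :
    (Ideal.span {t ^ (n + 1)}).map (algebraMap A B) ≤ Ideal.span {algebraMap A B t} := by
  rw [Ideal.map_span, Set.image_singleton, Ideal.span_le, Set.singleton_subset_iff, map_pow, pow_succ]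
  exact Ideal.mul_mem_left _ _ (Ideal.subset_span rfl)

omit [Field k] [IsAlgClosed k] [Algebra k A] [Algebra.FiniteType k A] ht [Module.Flat A B] in
theorem flat_quot [Module.Flat A B] : Module.Flat (A ⧸ Ideal.span {t ^ (n + 1)})
    (B ⧸ (Ideal.span {t ^ (n + 1)}).map (algebraMap A B)) :=
  Module.Flat.of_linearEquiv
    (Algebra.TensorProduct.quotIdealMapEquivQuotTensor B (Ideal.span {t ^ (n + 1)})).toLinearEquiv

variable {B}

/-- The reduction `B/(t^(n+1)) → B/(t) ≅ B₀`. -/
noncomputable def πm : (B ⧸ (Ideal.span {t ^ (n + 1)}).map (algebraMap A B)) →+* B₀ :=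
  (e : (B ⧸ Ideal.span {algebraMap A B t}) →+* B₀).comp (Ideal.Quotient.factor (map_span_pow_le t n B))

omit [IsAlgClosed k] [Algebra.FiniteType k A] ht [Module.Flat A B] in
theorem πm_mk (b : B) : πm k t n e (Ideal.Quotient.mk _ b) = e (Ideal.Quotient.mk _ b) := rfl

omit [IsAlgClosed k] [Algebra.FiniteType k A] ht [Module.Flat A B] in
theorem πm_eq_zero_iff (b : B) : πm k t n e (Ideal.Quotient.mk _ b) = 0 ↔ b ∈ Ideal.span {algebraMap A B t} := by
  rw [πm_mk, EmbeddingLike.map_eq_zero_iff, Ideal.Quotient.eq_zero_iff_mem]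

omit [Module.Flat A B] in
theorem πm_comp :
    (πm k t n e).comp (algebraMap (A ⧸ Ideal.span {t ^ (n + 1)}) (B ⧸ (Ideal.span {t ^ (n + 1)}).map (algebraMap A B))) =
      (algebraMap k B₀).comp (resQ k t n).toRingHom := by
  refine RingHom.ext fun x => ?_
  obtain ⟨a, rfl⟩ := Ideal.Quotient.mk_surjective x
  change πm k t n e (Ideal.Quotient.mk _ (algebraMap A B a)) = algebraMap k B₀ (pt k t a)
  rw [πm_mk, ← e.commutes, IsScalarTower.algebraMap_apply k B (B ⧸ Ideal.span {algebraMap A B t}),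
    IsScalarTower.algebraMap_apply k A B]
  congr 1
  change Ideal.Quotient.mk _ (algebraMap A B a) = Ideal.Quotient.mk _ (algebraMap A B (algebraMap k A (pt k t a)))
  rw [Ideal.Quotient.eq, ← map_sub]
  have h := Ideal.mem_map_of_mem (algebraMap A B) (sub_algebraMap_pt_mem (k := k) t a)
  rwa [Ideal.map_span, Set.image_singleton] at h

omit [Module.Flat A B] in
theorem ker_πm :
    RingHom.ker (πm k t n e) =
      Ideal.map (algebraMap (A ⧸ Ideal.span {t ^ (n + 1)}) (B ⧸ (Ideal.span {t ^ (n + 1)}).map (algebraMap A B)))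
        (RingHom.ker (resQ k t n).toRingHom) := by
  rw [ker_resQ k t n, Ideal.map_span (algebraMap (A ⧸ Ideal.span {t ^ (n + 1)})
    (B ⧸ (Ideal.span {t ^ (n + 1)}).map (algebraMap A B))), Set.image_singleton]
  apply le_antisymm
  · intro x hx
    obtain ⟨b, rfl⟩ := Ideal.Quotient.mk_surjective x
    have hb : b ∈ Ideal.span {algebraMap A B t} := (πm_eq_zero_iff k t n e b).1 hx
    obtain ⟨c, rfl⟩ := Ideal.mem_span_singleton'.1 hb
    rw [map_mul]
    exact Ideal.mul_mem_left _ _ (Ideal.subset_span rfl)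
  · rw [Ideal.span_le, Set.singleton_subset_iff]
    change πm k t n e (Ideal.Quotient.mk _ (algebraMap A B t)) = 0
    rw [πm_eq_zero_iff]
    exact Ideal.subset_span rfl

omit [IsAlgClosed k] [Algebra.FiniteType k A] ht [Module.Flat A B] in
theorem πm_surjective : Function.Surjective (πm k t n e) := fun b₀ => by
  obtain ⟨x, rfl⟩ := e.surjective b₀
  obtain ⟨b, rfl⟩ := Ideal.Quotient.mk_surjective x
  exact ⟨Ideal.Quotient.mk _ b, rfl⟩

variable (B) in
/-- The structure map `A/(t^(n+1)) → B/(t^(n+1))`. -/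
noncomputable def φm : (A ⧸ Ideal.span {t ^ (n + 1)}) →+* (B ⧸ (Ideal.span {t ^ (n + 1)}).map (algebraMap A B)) :=
  algebraMap _ _

omit [Field k] [IsAlgClosed k] [Algebra k A] [Algebra.FiniteType k A] ht [Algebra k B] [IsScalarTower k A B] in
variable (B) in
theorem flat_φm : (φm t n B).Flat := RingHom.flat_algebraMap_iff.2 (flat_quot t n B)

/-- `B/(t^(n+1))` as an algebraic deformation of `B₀` over `A/(t^(n+1))`. -/
noncomputable def defm : AlgDef B₀ (Am k t n) where
  R := B ⧸ (Ideal.span {t ^ (n + 1)}).map (algebraMap A B)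
  φ := φm t n B
  flat := flat_φm t n B
  π := πm k t n e
  comm := πm_comp k t n e
  surj := πm_surjective k t n e
  ker_eq := ker_πm k t n e

include e in
/-- Rigidity trivialises the thickening: `B/(t^(n+1)) ≅ A/(t^(n+1)) ⊗[k] B₀` compatibly with `A`. -/
theorem exists_trivialisation (hrig : Subsingleton (CotT.T1 (CotT.canon k B₀) B₀)) :
    ∃ q : B →+* (A ⧸ Ideal.span {t ^ (n + 1)}) ⊗[k] B₀, Function.Surjective q ∧
      RingHom.ker q = (Ideal.span {t ^ (n + 1)}).map (algebraMap A B) ∧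
      ∀ a : A, q (algebraMap A B a) = (Ideal.Quotient.mk (Ideal.span {t ^ (n + 1)}) a) ⊗ₜ[k] (1 : B₀) := by
  have hT := isTrivial_of_subsingleton_T1 hrig
  obtain ⟨s, hs, hπs⟩ := Groth.Agent.R2.H56.Rigid.exists_section hT (defm k t n e)
  obtain ⟨i⟩ := AlgDef.nonempty_iso_triv_of_section (defm k t n e) s hs hπs
  let ε : (B ⧸ (Ideal.span {t ^ (n + 1)}).map (algebraMap A B)) ≃+* (A ⧸ Ideal.span {t ^ (n + 1)}) ⊗[k] B₀ :=
    i.e.symm
  refine ⟨ε.toRingHom.comp (Ideal.Quotient.mk _), ?_, ?_, ?_⟩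
  · exact ε.surjective.comp Ideal.Quotient.mk_surjective
  · ext b
    rw [RingHom.mem_ker, RingHom.comp_apply]
    change ε (Ideal.Quotient.mk _ b) = 0 ↔ _
    rw [EmbeddingLike.map_eq_zero_iff, Ideal.Quotient.eq_zero_iff_mem]
  · intro a
    change ε (Ideal.Quotient.mk _ (algebraMap A B a)) = _
    have h1 := i.e_φ (Ideal.Quotient.mk (Ideal.span {t ^ (n + 1)}) a)
    have h2 : (defm k t n e).φ (Ideal.Quotient.mk (Ideal.span {t ^ (n + 1)}) a) =
        Ideal.Quotient.mk _ (algebraMap A B a) := rfl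
    rw [← h2, ← h1]
    change i.e.symm (i.e _) = _
    rw [RingEquiv.symm_apply_apply]
    change algebraMap (A ⧸ Ideal.span {t ^ (n + 1)}) ((A ⧸ Ideal.span {t ^ (n + 1)}) ⊗[k] B₀) _ = _
    rw [Algebra.TensorProduct.algebraMap_apply]
    rfl

end Def

end Groth.Agent.R2.H56.RigArt
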