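import Groth.Agent.R2.H56RigSpec
import Groth.Agent.Lib.Helper19CotTIndep

/-!
# PROJ:rigid (helper56): retractions up to `τ ^ n` do not depend on the extension
-/

set_option autoImplicit false

universe w u

open scoped TensorProduct

namespace Groth.Agent.R2.H56.RigX

open Groth.Agent.R2.H56.RigSpec Groth.Agent.Lib.Helper19.CotTIndep

variable {R S : Type u} [CommRing R] [CommRing S] [Algebra R S]

theorem smul_C1_eq_zero {P : Algebra.Extension.{max w u} R S} {τ : S} {n : ℕ} (h : RetrUpTo.{w, u} P τ n)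
    (M : Type (max w u)) [AddCommGroup M] [Module S M] (x : C1 P M) : τ ^ n • x = 0 := by
  obtain ⟨l, hl⟩ := h
  obtain ⟨φ, rfl⟩ := Submodule.Quotient.mk_surjective _ x
  rw [← Submodule.Quotient.mk_smul, Submodule.Quotient.mk_eq_zero]
  refine ⟨φ ∘ₗ l, ?_⟩
  rw [LinearMap.lcomp_apply', LinearMap.comp_assoc, hl, LinearMap.comp_smul, LinearMap.comp_id]

theorem retrUpTo_of_smul_C1_eq_zero {P : Algebra.Extension.{max w u} R S} {τ : S} {n : ℕ}
    (h : τ ^ n • (Submodule.Quotient.mk LinearMap.id : C1 P P.Cotangent) = 0) : RetrUpTo.{w, u} P τ n := by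
  rw [← Submodule.Quotient.mk_smul, Submodule.Quotient.mk_eq_zero] at h
  obtain ⟨l, hl⟩ := h
  exact ⟨l, hl⟩

/-- Retractions up to `τ ^ n` pass between extensions admitting homomorphisms both ways. -/
theorem retrUpTo_of_homs {P₁ P₂ : Algebra.Extension.{max w u} R S} (f : P₁.Hom P₂) (g : P₂.Hom P₁) {τ : S} {n : ℕ}
    (h : RetrUpTo.{w, u} P₁ τ n) : RetrUpTo.{w, u} P₂ τ n := by
  apply retrUpTo_of_smul_C1_eq_zero
  let e := C1equiv (M := P₂.Cotangent) f g
  have h1 := smul_C1_eq_zero h P₂.Cotangent (e.symm (Submodule.Quotient.mk LinearMap.id))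
  have h2 := congrArg e h1
  rw [map_smul, LinearEquiv.apply_symm_apply, map_zero] at h2
  exact h2

/-- Retractions up to `τ ^ n` do not depend on the generators. -/
theorem retrUpTo_generators {ι ι' : Type w} (G : Algebra.Generators R S ι) (G' : Algebra.Generators R S ι') {τ : S}
    {n : ℕ} (h : RetrUpTo.{w, u} G.toExtension τ n) : RetrUpTo.{w, u} G'.toExtension τ n :=
  retrUpTo_of_homs (Algebra.Generators.defaultHom G G').toExtensionHom
    (Algebra.Generators.defaultHom G' G).toExtensionHom h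

end Groth.Agent.R2.H56.RigX
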