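import Groth.Agent.R2.H56RigArt
import Groth.Agent.R2.H56RigX
import Groth.Agent.R2.H32RigY
import Groth.Agent.Lib.Helper19TorsRetrC
import Mathlib.LinearAlgebra.Dual.Lemmas
import Mathlib.RingTheory.KrullDimension.Field

/-!
# PROJ:rigid (helper56): a rigid singular fibre is not smoothed by a flat affine family over a smooth curve — assembly
modulo `PkgZ`
-/

set_option autoImplicit false
set_option linter.style.haveILetI false
set_option linter.unusedSectionVars false

universe u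

open scoped TensorProduct

namespace Groth.Agent.R2.H56.RigMain

open Groth.Agent.R2.H56.RigSpec Groth.Agent.R2.H56.RigArt Groth.Agent.Lib.Helper19.TorsRetr

section NonZero

variable {A : Type u} [CommRing A] [IsDomain A] (t : A)

theorem pow_not_mem (ht : (Ideal.span {t}).IsMaximal) (ht0 : t ≠ 0) (n : ℕ) :
    t ^ n ∉ Ideal.span {t ^ (n + 1)} := by
  intro h
  obtain ⟨c, hc⟩ := Ideal.mem_span_singleton'.1 h
  have h0 : t ^ n * (c * t - 1) = 0 := by
    have : t ^ n * (c * t - 1) = c * t ^ (n + 1) - t ^ n := by ring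
    rw [this, hc, sub_self]
  rcases mul_eq_zero.1 h0 with h1 | h1
  · exact pow_ne_zero n ht0 h1
  · have h2 : c * t = 1 := sub_eq_zero.1 h1
    have h3 : IsUnit t := IsUnit.of_mul_eq_one c (by rw [mul_comm]; exact h2)
    exact ht.ne_top (Ideal.span_singleton_eq_top.2 h3)

theorem ne_zero_of_dim (ht : (Ideal.span {t}).IsMaximal) (hdim : ringKrullDim A = 1) : t ≠ 0 := by
  rintro rfl
  have h1 : (⊥ : Ideal A).IsMaximal := by
    have : Ideal.span {(0 : A)} = ⊥ := Ideal.span_singleton_eq_bot.2 rfl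
    rwa [this] at ht
  have h2 : IsField A := Ring.isField_iff_maximal_bot.2 h1
  have h3 := ringKrullDim_eq_zero_of_isField h2
  rw [hdim] at h3
  exact one_ne_zero h3

end NonZero

section Functional

variable {k : Type u} [Field k] {V : Type u} [AddCommGroup V] [Module k V]

theorem exists_functional (v : V) (hv : v ≠ 0) : ∃ lam : V →ₗ[k] k, lam v = 1 := by
  have h1 : ¬ ∀ φ : Module.Dual k V, φ v = 0 := fun h => hv ((Module.forall_dual_apply_eq_zero_iff k v).1 h)
  push Not at h1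
  obtain ⟨φ, hφ⟩ := h1
  refine ⟨(φ v)⁻¹ • φ, ?_⟩
  rw [LinearMap.smul_apply, smul_eq_mul, inv_mul_cancel₀ hφ]

end Functional

section Main

variable {k : Type u} [Field k] [IsAlgClosed k] (B₀ : Type u) [CommRing B₀] [Algebra k B₀] [Algebra.FiniteType k B₀]
  (A B : Type u) [CommRing A] [CommRing B] [IsDomain A] [Algebra k A] [Algebra.FiniteType k A]
  (t : A) [Algebra A B] [Algebra.FiniteType A B] [Module.Flat A B] [Algebra k B] [IsScalarTower k A B]

theorem not_smoothing (hZ : PkgZ.{0, u}) (hsing : ¬ Algebra.Smooth k B₀)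
    (hrigid : Subsingleton (CotT.T1 (CotT.canon k B₀) B₀)) (hdim : ringKrullDim A = 1)
    (ht : (Ideal.span {t}).IsMaximal) (e : (B ⧸ Ideal.span {algebraMap A B t}) ≃ₐ[k] B₀) :
    ∃ q : PrimeSpectrum B, algebraMap A B t ∉ q.asIdeal ∧ q ∉ Algebra.smoothLocus A B := by
  by_contra hcon
  push Not at hcon
  haveI : IsNoetherianRing A := Algebra.FiniteType.isNoetherianRing k A
  haveI : IsNoetherianRing B := Algebra.FiniteType.isNoetherianRing A B
  haveI : Algebra.FinitePresentation A B := Algebra.FinitePresentation.of_finiteType.mp inferInstance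
  haveI : Algebra.FinitePresentation k B₀ := Algebra.FinitePresentation.of_finiteType.mp inferInstance
  haveI := ht
  have ht0 : t ≠ 0 := ne_zero_of_dim t ht hdim
  -- step 1: a retraction up to `τ ^ n`
  obtain ⟨n, l, hl⟩ := (smooth_iff_hasRetr A (algebraMap A B t)).1 hcon
  let G : Algebra.Generators A B _ := (P0 A B).toGenerators
  have hG : RetrUpTo.{0, u} G.toExtension (algebraMap A B t) n := ⟨l, hl⟩
  -- step 2: the trivialisation of the thickening
  obtain ⟨q, hq_surj, hq_ker, hq_A⟩ := exists_trivialisation k t n e hrigid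
  letI : Algebra B ((A ⧸ Ideal.span {t ^ (n + 1)}) ⊗[k] B₀) := q.toAlgebra
  haveI : IsScalarTower A B ((A ⧸ Ideal.span {t ^ (n + 1)}) ⊗[k] B₀) :=
    IsScalarTower.of_algebraMap_eq (fun a => by
      change _ = q (algebraMap A B a)
      rw [hq_A, Algebra.TensorProduct.algebraMap_apply]
      rfl)
  -- step 3: generators of the thickening induced by those of `B`
  have hsurj' : Function.Surjective (MvPolynomial.aeval (R := A ⧸ Ideal.span {t ^ (n + 1)})
      (fun i => algebraMap B ((A ⧸ Ideal.span {t ^ (n + 1)}) ⊗[k] B₀) (G.val i))) := by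
    intro s
    obtain ⟨b, rfl⟩ := hq_surj s
    obtain ⟨p, rfl⟩ := G.aeval_val_surjective b
    refine ⟨MvPolynomial.map (algebraMap A (A ⧸ Ideal.span {t ^ (n + 1)})) p, ?_⟩
    rw [MvPolynomial.aeval_map_algebraMap (A ⧸ Ideal.span {t ^ (n + 1)})]
    exact MvPolynomial.aeval_algebraMap_apply ((A ⧸ Ideal.span {t ^ (n + 1)}) ⊗[k] B₀) G.val p
  let G' : Algebra.Generators (A ⧸ Ideal.span {t ^ (n + 1)}) ((A ⧸ Ideal.span {t ^ (n + 1)}) ⊗[k] B₀) _ :=
    Algebra.Generators.ofSurjective _ hsurj'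
  have hG' : RetrUpTo.{0, u} G'.toExtension
      (algebraMap B ((A ⧸ Ideal.span {t ^ (n + 1)}) ⊗[k] B₀) (algebraMap A B t)) n := by
    refine Groth.Agent.R2.H32.RigY.pkgY A B (A ⧸ Ideal.span {t ^ (n + 1)}) ((A ⧸ Ideal.span {t ^ (n + 1)}) ⊗[k] B₀)
      Ideal.Quotient.mk_surjective hq_surj ?_ G G' (fun i => rfl) (algebraMap A B t) n hG
    change RingHom.ker q = _
    rw [hq_ker, Ideal.Quotient.algebraMap_eq, Ideal.mk_ker]
  have hτ : algebraMap B ((A ⧸ Ideal.span {t ^ (n + 1)}) ⊗[k] B₀) (algebraMap A B t) =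
      (Ideal.Quotient.mk (Ideal.span {t ^ (n + 1)}) t) ⊗ₜ[k] (1 : B₀) := hq_A t
  rw [hτ] at hG'
  -- step 4: change to the generators `1 ⊗ x_i`
  let G₀ : Algebra.Generators k B₀ _ := (P0 k B₀).toGenerators
  let G₀' : Algebra.Generators (A ⧸ Ideal.span {t ^ (n + 1)}) ((A ⧸ Ideal.span {t ^ (n + 1)}) ⊗[k] B₀) _ :=
    G₀.baseChange (A ⧸ Ideal.span {t ^ (n + 1)})
  have hG₀' := Groth.Agent.R2.H56.RigX.retrUpTo_generators.{0, u} G' G₀' hG'
  -- step 5: the functional
  have hv : (Ideal.Quotient.mk (Ideal.span {t ^ (n + 1)}) t) ^ n ≠ 0 := by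
    rw [← map_pow, Ne, Ideal.Quotient.eq_zero_iff_mem]
    exact pow_not_mem t ht ht0 n
  obtain ⟨lam, hlam⟩ := exists_functional (k := k) _ hv
  have hfs : Algebra.FormallySmooth k B₀ :=
    hZ k (A ⧸ Ideal.span {t ^ (n + 1)}) B₀ G₀ G₀' (fun i => rfl) _ n lam hlam hG₀'
  exact hsing ⟨hfs, inferInstance⟩

end Main

end Groth.Agent.R2.H56.RigMain
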