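import Mathlib

/-! A basis adapted to the valuation rings for an extension of discretely valued fields with
coefficient fields, the bottom one being complete (abstract, valuation-theoretic form).

Setting: fields `K ⊆ L` (coefficient fields, `L/K` finite), `F ⊆ E` with normalised discrete valuations
`v`, `w` (`w` restricted to `F` equivalent to `v`), `K ⊆ F`, `L ⊆ E`; `K` is a set of representatives of
the residue field of `v`, `L` of that of `w`; `F` is complete (every series `∑ cₙ tⁿ` with `cₙ ∈ K` has a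
sum in `F`). Conclusion: `E` has an `F`-basis `b` (the products `πⁱ βⱼ`) such that
`w z ≤ 1 ↔ ∀ i, v (b.repr z i) ≤ 1`. -/

set_option autoImplicit false

namespace Groth.Agent.R2.H57.AdaptedBasis

open WithZero

abbrev ZM0 := WithZero (Multiplicative ℤ)

lemma zm0_lt_one_iff {x : ZM0} : x < 1 ↔ x ≤ exp (-1 : ℤ) := by
  induction x using WithZero.expRecOn with
  | zero => simp
  | exp a => rw [← exp_zero, exp_lt_exp, exp_le_exp]; omega

lemma zm0_lt_exp_iff {x : ZM0} {n : ℤ} : x < exp n ↔ x ≤ exp (n - 1) := by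
  induction x using WithZero.expRecOn with
  | zero => simp
  | exp a => rw [exp_lt_exp, exp_le_exp]; omega

lemma zm0_exp_pow (a : ℤ) (r : ℕ) : (exp a : ZM0) ^ r = exp (r * a) := by
  rw [← exp_nsmul]; simp

lemma zm0_exp_zpow (a : ℤ) (r : ℤ) : (exp a : ZM0) ^ r = exp (r * a) := by
  rw [← exp_zsmul]; simp

section Core

variable {K L F E : Type*} [Field K] [Field L] [Field F] [Field E]
  [Algebra K L] [Algebra K F] [Algebra F E] [Algebra L E]
  (v : Valuation F ZM0) (w : Valuation E ZM0)

/-- the hypotheses, bundled. -/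
structure Hyp (t : F) (π : E) (e : ℕ) : Prop where
  he : 0 < e
  vt : v t = exp (-1 : ℤ)
  wπ : w π = exp (-1 : ℤ)
  wv : ∀ a : F, w (algebraMap F E a) = v a ^ e
  resF : ∀ a : F, v a ≤ 1 → ∃ c : K, v (a - algebraMap K F c) < 1
  unitK : ∀ c : K, c ≠ 0 → v (algebraMap K F c) = 1
  resE : ∀ z : E, w z ≤ 1 → ∃ l : L, w (z - algebraMap L E l) < 1
  unitL : ∀ l : L, l ≠ 0 → w (algebraMap L E l) = 1
  compat : ∀ c : K, algebraMap F E (algebraMap K F c) = algebraMap L E (algebraMap K L c)
  complete : ∀ c : ℕ → K, ∃ a : F, ∀ N : ℕ,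
    v (a - ∑ n ∈ Finset.range N, algebraMap K F (c n) * t ^ n) ≤ exp (-(N : ℤ))

variable {v w} {t : F} {π : E} {e : ℕ}

omit [Algebra K L] [Algebra K F] [Algebra F E] in
/-- a "polynomial" in `π` of degree `< m` with coefficients in `L`, not all zero, has valuation
`> exp (-m)`. -/
lemma val_sum_pow (wπ : w π = exp (-1 : ℤ)) (unitL : ∀ l : L, l ≠ 0 → w (algebraMap L E l) = 1)
    (lam : ℕ → L) : ∀ m : ℕ,
    (∀ i < m, lam i = 0) ∨ exp (-(m : ℤ)) < w (∑ i ∈ Finset.range m, π ^ i * algebraMap L E (lam i)) := by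
  intro m
  induction m with
  | zero => left; intro i hi; omega
  | succ m ih =>
    rw [Finset.sum_range_succ]
    have hterm : lam m ≠ 0 → w (π ^ m * algebraMap L E (lam m)) = exp (-(m : ℤ)) := by
      intro h
      rw [map_mul, map_pow, wπ, unitL _ h, mul_one, zm0_exp_pow]; simp
    rcases ih with h0 | hlt
    · have hS : ∑ i ∈ Finset.range m, π ^ i * algebraMap L E (lam i) = 0 := by
        apply Finset.sum_eq_zero
        intro i hi
        rw [h0 i (Finset.mem_range.mp hi), map_zero, mul_zero]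
      by_cases hm : lam m = 0
      · left
        intro i hi
        rcases Nat.lt_succ_iff_lt_or_eq.mp hi with h | h
        · exact h0 i h
        · rw [h]; exact hm
      · right
        rw [hS, zero_add, hterm hm, exp_lt_exp]
        push_cast; omega
    · right
      have hle : w (π ^ m * algebraMap L E (lam m)) ≤ exp (-(m : ℤ)) := by
        by_cases hm : lam m = 0
        · rw [hm, map_zero, mul_zero, map_zero]; exact zero_le
        · exact (hterm hm).le
      have hlt' : w (π ^ m * algebraMap L E (lam m)) <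
          w (∑ i ∈ Finset.range m, π ^ i * algebraMap L E (lam i)) := lt_of_le_of_lt hle hlt
      rw [Valuation.map_add_eq_of_lt_left _ hlt']
      refine lt_trans ?_ hlt
      rw [exp_lt_exp]; push_cast; omega

end Core

section Basis

variable {K L F E : Type*} [Field K] [Field L] [Field F] [Field E]
  [Algebra K L] [Algebra K F] [Algebra F E] [Algebra L E]
  {v : Valuation F ZM0} {w : Valuation E ZM0} {t : F} {π : E} {e : ℕ} {f : ℕ}

/-- the candidate basis `πⁱ βⱼ`. -/
noncomputable def bfun (π : E) (β : Module.Basis (Fin f) K L) (ij : Fin e × Fin f) : E :=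
  π ^ (ij.1 : ℕ) * algebraMap L E (β ij.2)

omit [Algebra K F] [Algebra F E] in
lemma w_bfun (wπ : w π = exp (-1 : ℤ)) (unitL : ∀ l : L, l ≠ 0 → w (algebraMap L E l) = 1)
    (β : Module.Basis (Fin f) K L) (ij : Fin e × Fin f) :
    w (bfun π β ij) = exp (-((ij.1 : ℕ) : ℤ)) := by
  rw [bfun, map_mul, map_pow, wπ, unitL _ (β.ne_zero _), mul_one, zm0_exp_pow]; simp

omit [Algebra K F] [Algebra F E] in
lemma w_bfun_le_one (wπ : w π = exp (-1 : ℤ)) (unitL : ∀ l : L, l ≠ 0 → w (algebraMap L E l) = 1)
    (β : Module.Basis (Fin f) K L) (ij : Fin e × Fin f) : w (bfun π β ij) ≤ 1 := by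
  rw [w_bfun wπ unitL, ← exp_zero, exp_le_exp]; omega

/-- Core lemma: integral coefficients, small sum => all coefficients are non-units. -/
lemma coeff_lt_one (H : Hyp (K := K) (L := L) v w t π e) (β : Module.Basis (Fin f) K L)
    (a : Fin e × Fin f → F) (ha : ∀ ij, v (a ij) ≤ 1)
    (hz : w (∑ ij, algebraMap F E (a ij) * bfun π β ij) ≤ exp (-(e : ℤ))) :
    ∀ ij, v (a ij) < 1 := by
  classical
  choose c hc using fun ij => H.resF (a ij) (ha ij)
  -- the part with small coefficients
  have hsmall : w (∑ ij, algebraMap F E (a ij - algebraMap K F (c ij)) * bfun π β ij) ≤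
      exp (-(e : ℤ)) := by
    apply Valuation.map_sum_le
    intro ij _
    rw [map_mul, H.wv]
    have h1 : v (a ij - algebraMap K F (c ij)) ^ e ≤ exp (-(e : ℤ)) := by
      calc v (a ij - algebraMap K F (c ij)) ^ e ≤ (exp (-1 : ℤ) : ZM0) ^ e :=
            pow_le_pow_left' (zm0_lt_one_iff.mp (hc ij)) e
        _ = exp (-(e : ℤ)) := by rw [zm0_exp_pow]; simp
    calc v (a ij - algebraMap K F (c ij)) ^ e * w (bfun π β ij) ≤ exp (-(e : ℤ)) * 1 :=
          mul_le_mul' h1 (w_bfun_le_one H.wπ H.unitL β ij)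
      _ = exp (-(e : ℤ)) := mul_one _
  -- the constant part
  set lam : ℕ → L := fun i => if h : i < e then ∑ j, c (⟨i, h⟩, j) • β j else 0 with hlam
  have hconst : ∑ ij, algebraMap F E (algebraMap K F (c ij)) * bfun π β ij =
      ∑ i ∈ Finset.range e, π ^ i * algebraMap L E (lam i) := by
    rw [Fintype.sum_prod_type, ← Fin.sum_univ_eq_sum_range (fun i => π ^ i * algebraMap L E (lam i))]
    refine Finset.sum_congr rfl fun i _ => ?_
    have : lam (i : ℕ) = ∑ j, c (i, j) • β j := by
      simp only [hlam, dif_pos i.2]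
    rw [this, map_sum, Finset.mul_sum]
    refine Finset.sum_congr rfl fun j _ => ?_
    rw [bfun, H.compat, Algebra.smul_def, map_mul]
    ring
  have hw : w (∑ i ∈ Finset.range e, π ^ i * algebraMap L E (lam i)) ≤ exp (-(e : ℤ)) := by
    rw [← hconst]
    have : ∑ ij, algebraMap F E (algebraMap K F (c ij)) * bfun π β ij =
        ∑ ij, algebraMap F E (a ij) * bfun π β ij -
          ∑ ij, algebraMap F E (a ij - algebraMap K F (c ij)) * bfun π β ij := by
      rw [← Finset.sum_sub_distrib]
      refine Finset.sum_congr rfl fun ij _ => ?_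
      rw [map_sub]; ring
    rw [this]
    exact (Valuation.map_sub _ _ _).trans (max_le hz hsmall)
  have hzero : ∀ i < e, lam i = 0 := by
    rcases val_sum_pow H.wπ H.unitL lam e with h | h
    · exact h
    · exact absurd hw (not_le.mpr h)
  have hc0 : ∀ ij, c ij = 0 := by
    rintro ⟨i, j⟩
    have := hzero i i.2
    simp only [hlam, dif_pos i.2] at this
    exact Fintype.linearIndependent_iff.mp β.linearIndependent (fun j => c (i, j)) this j
  intro ij
  have := hc ij
  rwa [hc0 ij, map_zero, sub_zero] at this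

/-- Quantitative independence: a nonzero coefficient bounds the valuation of the sum from below. -/
lemma lt_w_sum (H : Hyp (K := K) (L := L) v w t π e) (β : Module.Basis (Fin f) K L)
    (a : Fin e × Fin f → F) (ij₀ : Fin e × Fin f) (h0 : a ij₀ ≠ 0) :
    exp (-(e : ℤ)) * v (a ij₀) ^ e < w (∑ ij, algebraMap F E (a ij) * bfun π β ij) := by
  classical
  obtain ⟨ij₁, -, hmax⟩ := Finset.exists_max_image Finset.univ (fun ij => v (a ij))
    ⟨ij₀, Finset.mem_univ _⟩
  have h1 : a ij₁ ≠ 0 := by
    intro h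
    have := hmax ij₀ (Finset.mem_univ _)
    rw [h, map_zero] at this
    exact h0 ((map_eq_zero v).mp (le_antisymm this (zero_le)))
  have hv1 : v (a ij₁) ≠ 0 := (Valuation.ne_zero_iff v).mpr h1
  by_contra hnot
  rw [not_lt] at hnot
  -- scale
  have key := coeff_lt_one H β (fun ij => a ij / a ij₁) (fun ij => by
    rw [map_div₀]; exact div_le_one_of_le₀ (hmax ij (Finset.mem_univ _)) (zero_le)) ?_ ij₁
  · rw [div_self h1, map_one] at key
    exact lt_irrefl _ key
  · have : ∑ ij, algebraMap F E (a ij / a ij₁) * bfun π β ij =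
        (∑ ij, algebraMap F E (a ij) * bfun π β ij) * (algebraMap F E (a ij₁))⁻¹ := by
      rw [Finset.sum_mul]
      refine Finset.sum_congr rfl fun ij _ => ?_
      rw [map_div₀]; ring
    rw [this, map_mul, map_inv₀, H.wv]
    have hle : w (∑ ij, algebraMap F E (a ij) * bfun π β ij) ≤ exp (-(e : ℤ)) * v (a ij₁) ^ e :=
      hnot.trans (mul_le_mul' le_rfl (pow_le_pow_left' (hmax ij₀ (Finset.mem_univ _)) e))
    calc w (∑ ij, algebraMap F E (a ij) * bfun π β ij) * (v (a ij₁) ^ e)⁻¹
        ≤ exp (-(e : ℤ)) * v (a ij₁) ^ e * (v (a ij₁) ^ e)⁻¹ := mul_le_mul' hle le_rfl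
      _ = exp (-(e : ℤ)) := by
          rw [mul_assoc, mul_inv_cancel₀ (pow_ne_zero _ hv1), mul_one]

end Basis

section Span

variable {K L F E : Type*} [Field K] [Field L] [Field F] [Field E]
  [Algebra K L] [Algebra K F] [Algebra F E] [Algebra L E]
  {v : Valuation F ZM0} {w : Valuation E ZM0} {t : F} {π : E} {e : ℕ} {f : ℕ}

omit [Algebra K L] [Algebra K F] [Algebra F E] in
/-- `π`-adic expansion of an integral element with coefficients in `L`, to any order. -/
lemma exists_pi_expansion (wπ : w π = exp (-1 : ℤ))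
    (resE : ∀ z : E, w z ≤ 1 → ∃ l : L, w (z - algebraMap L E l) < 1) (z : E) (hz : w z ≤ 1) :
    ∀ m : ℕ, ∃ lam : ℕ → L,
      w (z - ∑ i ∈ Finset.range m, π ^ i * algebraMap L E (lam i)) ≤ exp (-(m : ℤ)) := by
  intro m
  induction m with
  | zero => exact ⟨fun _ => 0, by simpa using hz⟩
  | succ m ih =>
    obtain ⟨lam, hlam⟩ := ih
    have hπ0 : π ≠ 0 := by
      rintro rfl; rw [map_zero] at wπ; exact exp_ne_zero wπ.symm
    have hwπm : w (π ^ m) = exp (-(m : ℤ)) := by rw [map_pow, wπ, zm0_exp_pow]; simp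
    set S := ∑ i ∈ Finset.range m, π ^ i * algebraMap L E (lam i) with hS
    have hr : w ((z - S) * (π ^ m)⁻¹) ≤ 1 := by
      rw [map_mul, map_inv₀, hwπm]
      calc w (z - S) * (exp (-(m : ℤ)))⁻¹ ≤ exp (-(m : ℤ)) * (exp (-(m : ℤ)))⁻¹ :=
            mul_le_mul' hlam le_rfl
        _ = 1 := mul_inv_cancel₀ exp_ne_zero
    obtain ⟨l, hl⟩ := resE _ hr
    classical
    refine ⟨Function.update lam m l, ?_⟩
    rw [Finset.sum_range_succ, Function.update_self]
    have hsame : ∑ i ∈ Finset.range m, π ^ i * algebraMap L E (Function.update lam m l i) = S := by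
      refine Finset.sum_congr rfl fun i hi => ?_
      rw [Function.update_of_ne (Finset.mem_range.mp hi).ne]
    rw [hsame]
    have : z - (S + π ^ m * algebraMap L E l) = π ^ m * ((z - S) * (π ^ m)⁻¹ - algebraMap L E l) := by
      field_simp
      ring
    rw [this, map_mul, hwπm]
    calc exp (-(m : ℤ)) * w ((z - S) * (π ^ m)⁻¹ - algebraMap L E l)
        ≤ exp (-(m : ℤ)) * exp (-1 : ℤ) := mul_le_mul' le_rfl (zm0_lt_one_iff.mp hl)
      _ = exp (-((m + 1 : ℕ) : ℤ)) := by rw [← exp_add]; congr 1; push_cast; ring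

/-- one step: an integral element is a `K`-combination of the `πⁱ βⱼ` modulo `t`. -/
lemma exists_step (H : Hyp (K := K) (L := L) v w t π e) (β : Module.Basis (Fin f) K L)
    (z : E) (hz : w z ≤ 1) :
    ∃ c : Fin e × Fin f → K,
      w (z - ∑ ij, algebraMap F E (algebraMap K F (c ij)) * bfun π β ij) ≤ exp (-(e : ℤ)) := by
  obtain ⟨lam, hlam⟩ := exists_pi_expansion H.wπ H.resE z hz e
  refine ⟨fun ij => β.repr (lam ij.1) ij.2, ?_⟩
  have : ∑ ij : Fin e × Fin f, algebraMap F E (algebraMap K F (β.repr (lam ij.1) ij.2)) * bfun π β ij =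
      ∑ i ∈ Finset.range e, π ^ i * algebraMap L E (lam i) := by
    rw [Fintype.sum_prod_type, ← Fin.sum_univ_eq_sum_range (fun i => π ^ i * algebraMap L E (lam i))]
    refine Finset.sum_congr rfl fun i _ => ?_
    conv_rhs => rw [← β.sum_repr (lam i), map_sum, Finset.mul_sum]
    refine Finset.sum_congr rfl fun j _ => ?_
    rw [bfun, H.compat, Algebra.smul_def, map_mul]
    ring
  rw [this]
  exact hlam

/-- every integral element is an `O_v`-combination of the `πⁱ βⱼ`. -/
lemma exists_repr_of_le_one (H : Hyp (K := K) (L := L) v w t π e) (β : Module.Basis (Fin f) K L)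
    (z : E) (hz : w z ≤ 1) :
    ∃ a : Fin e × Fin f → F, z = ∑ ij, algebraMap F E (a ij) * bfun π β ij := by
  classical
  have hwt : w (algebraMap F E t) = exp (-(e : ℤ)) := by
    rw [H.wv, H.vt, zm0_exp_pow]; simp
  have ht0 : algebraMap F E t ≠ 0 := by
    intro h; rw [h, map_zero] at hwt; exact exp_ne_zero hwt.symm
  -- the recursion on remainders
  choose cOf hcOf using fun z : {z : E // w z ≤ 1} => exists_step H β z.1 z.2
  let next : {z : E // w z ≤ 1} → {z : E // w z ≤ 1} := fun z =>
    ⟨(z.1 - ∑ ij, algebraMap F E (algebraMap K F (cOf z ij)) * bfun π β ij) * (algebraMap F E t)⁻¹, by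
      rw [map_mul, map_inv₀, hwt]
      calc _ ≤ exp (-(e : ℤ)) * (exp (-(e : ℤ)))⁻¹ := mul_le_mul' (hcOf z) le_rfl
        _ = 1 := mul_inv_cancel₀ exp_ne_zero⟩
  let r : ℕ → {z : E // w z ≤ 1} := fun n => next^[n] ⟨z, hz⟩
  have hr0 : (r 0).1 = z := rfl
  have hrs : ∀ n, (r n).1 = ∑ ij, algebraMap F E (algebraMap K F (cOf (r n) ij)) * bfun π β ij +
      algebraMap F E t * (r (n + 1)).1 := by
    intro n
    have : r (n + 1) = next (r n) := Function.iterate_succ_apply' next n _
    rw [this]
    simp only [next]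
    field_simp
    ring
  have hexp : ∀ N : ℕ, z = ∑ ij, algebraMap F E (∑ n ∈ Finset.range N,
      algebraMap K F (cOf (r n) ij) * t ^ n) * bfun π β ij + algebraMap F E t ^ N * (r N).1 := by
    intro N
    induction N with
    | zero => simp [hr0]
    | succ N ih =>
      conv_lhs => rw [ih, hrs N]
      simp only [Finset.sum_range_succ, map_add, add_mul, Finset.sum_add_distrib, map_mul, map_pow,
        pow_succ]
      have : ∑ x, algebraMap F E t ^ N *
          (algebraMap F E (algebraMap K F (cOf (r N) x)) * bfun π β x) =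
          ∑ x, algebraMap F E (algebraMap K F (cOf (r N) x)) * algebraMap F E t ^ N * bfun π β x := by
        refine Finset.sum_congr rfl fun x _ => ?_
        ring
      rw [mul_add, Finset.mul_sum, this]
      ring
  choose a ha using fun ij => H.complete (fun n => cOf (r n) ij)
  refine ⟨a, ?_⟩
  -- the difference has arbitrarily small valuation
  by_contra hne
  have hd0 : z - ∑ ij, algebraMap F E (a ij) * bfun π β ij ≠ 0 := sub_ne_zero.mpr hne
  have hsmall : ∀ N : ℕ, w (z - ∑ ij, algebraMap F E (a ij) * bfun π β ij) ≤ exp (-(N : ℤ)) := by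
    intro N
    have : z - ∑ ij, algebraMap F E (a ij) * bfun π β ij =
        ∑ ij, algebraMap F E ((∑ n ∈ Finset.range N,
          algebraMap K F (cOf (r n) ij) * t ^ n) - a ij) * bfun π β ij +
          algebraMap F E t ^ N * (r N).1 := by
      conv_lhs => rw [hexp N]
      simp only [map_sub, sub_mul, Finset.sum_sub_distrib]
      ring
    rw [this]
    apply Valuation.map_add_le
    · apply Valuation.map_sum_le
      intro ij _
      rw [map_mul, H.wv, ← Valuation.map_neg, neg_sub]
      have h1 : v (a ij - ∑ n ∈ Finset.range N, algebraMap K F (cOf (r n) ij) * t ^ n) ^ e ≤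
          exp (-(N : ℤ)) := by
        calc _ ≤ (exp (-(N : ℤ)) : ZM0) ^ e := pow_le_pow_left' (ha ij N) e
          _ ≤ exp (-(N : ℤ)) := by
              rw [zm0_exp_pow, exp_le_exp]
              have : (1 : ℤ) ≤ e := by exact_mod_cast H.he
              nlinarith
      calc _ ≤ exp (-(N : ℤ)) * 1 := mul_le_mul' h1 (w_bfun_le_one H.wπ H.unitL β ij)
        _ = _ := mul_one _
    · rw [map_mul, map_pow, hwt]
      calc (exp (-(e : ℤ)) : ZM0) ^ N * w (r N).1 ≤ (exp (-(e : ℤ)) : ZM0) ^ N * 1 :=
            mul_le_mul' le_rfl (r N).2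
        _ ≤ exp (-(N : ℤ)) := by
            rw [mul_one, zm0_exp_pow, exp_le_exp]
            have : (1 : ℤ) ≤ e := by exact_mod_cast H.he
            nlinarith
  have hw0 : w (z - ∑ ij, algebraMap F E (a ij) * bfun π β ij) ≠ 0 :=
    (Valuation.ne_zero_iff w).mpr hd0
  obtain ⟨m, hm⟩ : ∃ m : ℤ, w (z - ∑ ij, algebraMap F E (a ij) * bfun π β ij) = exp m :=
    ⟨log _, (exp_log hw0).symm⟩
  have := hsmall (-m + 1).toNat
  rw [hm, exp_le_exp] at this
  omega

/-- every element is an `F`-combination of the `πⁱ βⱼ`. -/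
lemma exists_repr (H : Hyp (K := K) (L := L) v w t π e) (β : Module.Basis (Fin f) K L) (z : E) :
    ∃ a : Fin e × Fin f → F, z = ∑ ij, algebraMap F E (a ij) * bfun π β ij := by
  by_cases hz0 : z = 0
  · exact ⟨fun _ => 0, by simp [hz0]⟩
  have hwt : w (algebraMap F E t) = exp (-(e : ℤ)) := by
    rw [H.wv, H.vt, zm0_exp_pow]; simp
  have ht0 : t ≠ 0 := by
    rintro rfl
    have := H.vt
    rw [map_zero] at this; exact exp_ne_zero this.symm
  obtain ⟨m, hm⟩ : ∃ m : ℤ, w z = exp m := ⟨log _, (exp_log ((Valuation.ne_zero_iff w).mpr hz0)).symm⟩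
  set N := m.toNat with hN
  have hz' : w (algebraMap F E t ^ N * z) ≤ 1 := by
    rw [map_mul, map_pow, hwt, hm, zm0_exp_pow, ← exp_add, ← exp_zero, exp_le_exp]
    have : (1 : ℤ) ≤ e := by exact_mod_cast H.he
    have h2 : m ≤ N := Int.self_le_toNat m
    nlinarith
  obtain ⟨a, ha⟩ := exists_repr_of_le_one H β _ hz'
  refine ⟨fun ij => a ij / t ^ N, ?_⟩
  have htN : algebraMap F E t ^ N ≠ 0 := pow_ne_zero _ (by
    rw [Ne, map_eq_zero]; exact ht0)
  have : z = (algebraMap F E t ^ N)⁻¹ * (algebraMap F E t ^ N * z) := by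
    rw [← mul_assoc, inv_mul_cancel₀ htN, one_mul]
  rw [this, ha, Finset.mul_sum]
  refine Finset.sum_congr rfl fun ij _ => ?_
  rw [map_div₀, map_pow]
  field_simp

end Span

section Main

variable {K L F E : Type*} [Field K] [Field L] [Field F] [Field E]
  [Algebra K L] [Algebra K F] [Algebra F E] [Algebra L E]
  {v : Valuation F ZM0} {w : Valuation E ZM0} {t : F} {π : E} {e : ℕ} {f : ℕ}

theorem exists_adapted_basis (H : Hyp (K := K) (L := L) v w t π e) (β : Module.Basis (Fin f) K L) :
    ∃ b : Module.Basis (Fin e × Fin f) F E, ∀ z, w z ≤ 1 ↔ ∀ ij, v (b.repr z ij) ≤ 1 := by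
  classical
  have li : LinearIndependent F (bfun (e := e) π β) := by
    rw [Fintype.linearIndependent_iff]
    intro g hg ij
    by_contra h0
    have := lt_w_sum H β g ij h0
    have hsum : ∑ ij, algebraMap F E (g ij) * bfun π β ij = 0 := by
      rw [← hg]
      exact Finset.sum_congr rfl fun ij _ => (Algebra.smul_def _ _).symm
    rw [hsum, map_zero] at this
    exact not_lt_zero this
  have sp : ⊤ ≤ Submodule.span F (Set.range (bfun (e := e) π β)) := by
    intro z _
    obtain ⟨a, ha⟩ := exists_repr H β z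
    rw [ha]
    refine Submodule.sum_mem _ fun ij _ => ?_
    rw [← Algebra.smul_def]
    exact Submodule.smul_mem _ _ (Submodule.subset_span ⟨ij, rfl⟩)
  refine ⟨Module.Basis.mk li sp, fun z => ?_⟩
  set b := Module.Basis.mk li sp with hb
  have hbij : ∀ ij, b ij = bfun π β ij := fun ij => by rw [hb, Module.Basis.mk_apply]
  have hz : z = ∑ ij, algebraMap F E (b.repr z ij) * bfun π β ij := by
    conv_lhs => rw [← b.sum_repr z]
    exact Finset.sum_congr rfl fun ij _ => by rw [hbij, Algebra.smul_def]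
  constructor
  · intro hw ij
    by_contra hgt
    rw [not_le] at hgt
    have h0 : b.repr z ij ≠ 0 := by
      intro h; rw [h, map_zero] at hgt; exact not_lt_zero hgt
    have h1 := lt_w_sum H β (fun ij => b.repr z ij) ij h0
    rw [← hz] at h1
    have h2 : exp (1 : ℤ) ≤ v (b.repr z ij) := by
      have := zm0_lt_exp_iff (x := 1) (n := 1)
      by_contra hlt
      rw [not_le, zm0_lt_exp_iff] at hlt
      simp only [sub_self, exp_zero] at hlt
      exact absurd hgt (not_lt.mpr hlt)
    have h3 : (1 : ZM0) ≤ exp (-(e : ℤ)) * v (b.repr z ij) ^ e := by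
      calc (1 : ZM0) = exp (-(e : ℤ)) * (exp (1 : ℤ)) ^ e := by
            rw [zm0_exp_pow, ← exp_add]; simp
        _ ≤ exp (-(e : ℤ)) * v (b.repr z ij) ^ e :=
            mul_le_mul' le_rfl (pow_le_pow_left' h2 e)
    exact absurd (lt_of_le_of_lt h3 h1) (not_lt.mpr hw)
  · intro h
    rw [hz]
    apply Valuation.map_sum_le
    intro ij _
    rw [map_mul, H.wv]
    exact mul_le_one' (pow_le_one' (h ij) e) (w_bfun_le_one H.wπ H.unitL β ij)

end Main

end Groth.Agent.R2.H57.AdaptedBasis
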