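import Mathlib

/-! Yoneda lemma for schemes tested on affine points: morphisms of schemes are determined by, and can
be constructed from, their effect on `Spec B`-valued points. -/

set_option autoImplicit false

namespace Groth.Agent.R2.H57.AffYoneda

open AlgebraicGeometry CategoryTheory Limits

universe u

/-- Two morphisms of schemes that agree on all affine points are equal. -/
theorem hom_ext_of_affine {X Y : Scheme.{u}} (f g : X ⟶ Y)
    (h : ∀ (B : CommRingCat.{u}) (p : Spec B ⟶ X), p ≫ f = p ≫ g) : f = g := by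
  apply X.affineOpenCover.openCover.hom_ext
  intro i
  exact h _ _

/-- a morphism injective on affine points is a monomorphism. -/
theorem mono_of_affine {X Y : Scheme.{u}} (c : X ⟶ Y)
    (h : ∀ (B : CommRingCat.{u}) (p p' : Spec B ⟶ X), p ≫ c = p' ≫ c → p = p') : Mono c := by
  constructor
  intro T f g hfg
  apply hom_ext_of_affine
  intro B p
  apply h
  rw [Category.assoc, Category.assoc, hfg]

lemma aux1 {C : Type*} [Category C] {T P S Q X' Y' : C} (q : T ⟶ P) (fst : P ⟶ S) (snd : P ⟶ Q)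
    (p : S ⟶ X') (φ : Q ⟶ X') (c : X' ⟶ Y') (g : Q ⟶ Y') (hcond : fst ≫ p = snd ≫ φ)
    (hc : φ ≫ c = g) : q ≫ fst ≫ p ≫ c = (q ≫ snd) ≫ g := by
  rw [← hc, ← Category.assoc fst, hcond]; simp only [Category.assoc]

lemma aux2 {C : Type*} [Category C] {T P S Q X' : C} (q : T ⟶ P) (fst : P ⟶ S) (snd : P ⟶ Q)
    (p : S ⟶ X') (φ : Q ⟶ X') (hcond : fst ≫ p = snd ≫ φ) :
    (q ≫ snd) ≫ φ = (q ≫ fst) ≫ p := by
  rw [Category.assoc, Category.assoc, hcond]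

lemma aux3 {C : Type*} [Category C] {T P S Q Y' : C} (q : T ⟶ P) (fst : P ⟶ S) (snd : P ⟶ Q)
    (g : S ⟶ Y') (g' : Q ⟶ Y') (h : (q ≫ fst) ≫ g = (q ≫ snd) ≫ g') :
    q ≫ fst ≫ g = q ≫ snd ≫ g' := by
  rw [← Category.assoc, h, Category.assoc]

section

variable {X Y : Scheme.{u}}
  (F : ∀ B : CommRingCat.{u}, (Spec B ⟶ X) → (Spec B ⟶ Y))
  (hF : ∀ (B B' : CommRingCat.{u}) (τ : B ⟶ B') (p : Spec B ⟶ X),
      F B' (Spec.map τ ≫ p) = Spec.map τ ≫ F B p)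

include hF in
lemma nat' (B B' : CommRingCat.{u}) (r : Spec B' ⟶ Spec B) (p : Spec B ⟶ X) :
    F B' (r ≫ p) = r ≫ F B p := by
  have hr : r = Spec.map (Spec.preimage r) := (Spec.map_preimage r).symm
  rw [hr]
  exact hF B B' _ p

include hF in
/-- **Yoneda over affine points**: a natural transformation between the functors of affine points is
induced by a morphism of schemes. -/
theorem exists_hom_of_affine :
    ∃ c : X ⟶ Y, ∀ (B : CommRingCat.{u}) (p : Spec B ⟶ X), p ≫ c = F B p := by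
  let 𝒰 := X.affineOpenCover
  let 𝒱 : X.OpenCover := 𝒰.openCover
  let φ : ∀ i : 𝒱.I₀, Spec (𝒰.X i) ⟶ X := fun i => 𝒰.f i
  let G : ∀ i : 𝒱.I₀, 𝒱.X i ⟶ Y := fun i => F (𝒰.X i) (φ i)
  -- the basic compatibility: any affine point of `X` factoring through two charts
  have key : ∀ (i j : 𝒱.I₀) (B : CommRingCat.{u}) (r : Spec B ⟶ Spec (𝒰.X i))
      (r' : Spec B ⟶ Spec (𝒰.X j)), r ≫ φ i = r' ≫ φ j → r ≫ G i = r' ≫ G j := by
    intro i j B r r' h
    have h1 := nat' F hF (𝒰.X i) B r (φ i)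
    have h2 := nat' F hF (𝒰.X j) B r' (φ j)
    show r ≫ F (𝒰.X i) (φ i) = r' ≫ F (𝒰.X j) (φ j)
    rw [← h1, ← h2, h]
  have hglue : ∀ i j, pullback.fst (𝒱.f i) (𝒱.f j) ≫ G i = pullback.snd (𝒱.f i) (𝒱.f j) ≫ G j := by
    intro i j
    apply hom_ext_of_affine
    intro B q
    exact aux3 q _ _ (G i) (G j)
      (key i j B (q ≫ pullback.fst (𝒱.f i) (𝒱.f j)) (q ≫ pullback.snd (𝒱.f i) (𝒱.f j))
        (aux2 q (pullback.fst (𝒱.f i) (𝒱.f j)) (pullback.snd (𝒱.f i) (𝒱.f j)) (𝒱.f i) (𝒱.f j)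
          pullback.condition).symm)
  let c : X ⟶ Y := 𝒱.glueMorphisms G hglue
  have hc : ∀ i, 𝒱.f i ≫ c = G i := fun i => 𝒱.ι_glueMorphisms G hglue i
  refine ⟨c, ?_⟩
  intro B p
  apply (𝒱.pullback₁ p).hom_ext
  intro i
  apply hom_ext_of_affine
  intro B' q
  show q ≫ pullback.fst p (𝒱.f i) ≫ p ≫ c = q ≫ pullback.fst p (𝒱.f i) ≫ F B p
  have hcond : pullback.fst p (𝒱.f i) ≫ p = pullback.snd p (𝒱.f i) ≫ 𝒱.f i := pullback.condition
  have e1 : q ≫ pullback.fst p (𝒱.f i) ≫ p ≫ c = (q ≫ pullback.snd p (𝒱.f i)) ≫ G i :=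
    aux1 q _ _ p _ c _ hcond (hc i)
  have e2 : (q ≫ pullback.snd p (𝒱.f i)) ≫ G i =
      F B' ((q ≫ pullback.snd p (𝒱.f i)) ≫ φ i) :=
    (nat' F hF (𝒰.X i) B' (q ≫ pullback.snd p (𝒱.f i)) (φ i)).symm
  have e3 : (q ≫ pullback.snd p (𝒱.f i)) ≫ φ i = (q ≫ pullback.fst p (𝒱.f i)) ≫ p :=
    aux2 q _ _ p _ hcond
  have e4 : F B' ((q ≫ pullback.fst p (𝒱.f i)) ≫ p) = (q ≫ pullback.fst p (𝒱.f i)) ≫ F B p :=
    nat' F hF B B' (q ≫ pullback.fst p (𝒱.f i)) p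
  rw [e1, e2, e3, e4, Category.assoc]

end

/-- lifting through a monomorphism can be tested on affine points. -/
theorem exists_lift_of_affine {X Y Z : Scheme.{u}} (ι : Z ⟶ Y) [Mono ι] (c : X ⟶ Y)
    (h : ∀ (B : CommRingCat.{u}) (p : Spec B ⟶ X), ∃ q : Spec B ⟶ Z, q ≫ ι = p ≫ c) :
    ∃ a : X ⟶ Z, a ≫ ι = c := by
  choose F hFι using h
  have hF : ∀ (B B' : CommRingCat.{u}) (τ : B ⟶ B') (p : Spec B ⟶ X),
      F B' (Spec.map τ ≫ p) = Spec.map τ ≫ F B p := by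
    intro B B' τ p
    rw [← cancel_mono ι, hFι, Category.assoc, Category.assoc, hFι]
  obtain ⟨a, ha⟩ := exists_hom_of_affine F hF
  refine ⟨a, ?_⟩
  apply hom_ext_of_affine
  intro B p
  rw [← Category.assoc, ha, hFι]

/-- two monomorphisms into `Y` with the same affine points are isomorphic over `Y`. -/
theorem exists_iso_of_affine {W Y Z : Scheme.{u}} (ι : Z ⟶ Y) [Mono ι] (j : W ⟶ Y) [Mono j]
    (h : ∀ (B : CommRingCat.{u}) (p : Spec B ⟶ Y),
      (∃ q : Spec B ⟶ Z, q ≫ ι = p) ↔ (∃ q : Spec B ⟶ W, q ≫ j = p)) :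
    ∃ a : W ≅ Z, a.hom ≫ ι = j := by
  obtain ⟨a, ha⟩ := exists_lift_of_affine ι j (fun B p => (h B (p ≫ j)).mpr ⟨p, rfl⟩)
  obtain ⟨b, hb⟩ := exists_lift_of_affine j ι (fun B p => (h B (p ≫ ι)).mp ⟨p, rfl⟩)
  refine ⟨⟨a, b, ?_, ?_⟩, ha⟩
  · rw [← cancel_mono j, Category.assoc, hb, ha, Category.id_comp]
  · rw [← cancel_mono ι, Category.assoc, ha, hb, Category.id_comp]

end Groth.Agent.R2.H57.AffYoneda
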