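import Groth.Agent.Lib.LeadCE3
import Mathlib

/-! Existence of a model (in the universe of `K`) of the constant extension `k' ⊗_k K` of a geometric
function field. -/

set_option autoImplicit false

namespace Groth.Agent.R2.H57.Model

open FunFld TensorProduct
open Groth.Agent.Lib

universe u v

variable {k : Type u} {K : Type v} [Field k] [Field K] [Algebra k K]

theorem exists_model (hg : IsGeometric k K) (k' : Type u) [Field k'] [Algebra k k']
    [FiniteDimensional k k'] :
    ∃ (K' : Type v) (_ : Field K') (_ : Algebra K K') (_ : Algebra k' K') (_ : Algebra k K')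
      (_ : IsScalarTower k k' K') (_ : IsScalarTower k K K'),
      Function.Bijective (Algebra.TensorProduct.productMap
        (IsScalarTower.toAlgHom k k' K') (IsScalarTower.toAlgHom k K K')) := by
  letI : Field (k' ⊗[k] K) := (hg k' inferInstance).toField
  letI : Algebra K (k' ⊗[k] K) := Algebra.TensorProduct.rightAlgebra
  have hbij : Function.Bijective (Algebra.TensorProduct.productMap
      (IsScalarTower.toAlgHom k k' (k' ⊗[k] K)) (IsScalarTower.toAlgHom k K (k' ⊗[k] K))) := by
    have : Algebra.TensorProduct.productMap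
      (IsScalarTower.toAlgHom k k' (k' ⊗[k] K)) (IsScalarTower.toAlgHom k K (k' ⊗[k] K)) =
        AlgHom.id k (k' ⊗[k] K) := by
      apply Algebra.TensorProduct.ext'
      intro a b
      simp only [Algebra.TensorProduct.productMap_apply_tmul, IsScalarTower.coe_toAlgHom',
        AlgHom.coe_id, id_eq]
      rw [Algebra.TensorProduct.algebraMap_apply, Algebra.TensorProduct.right_algebraMap_apply,
        Algebra.TensorProduct.tmul_mul_tmul, mul_one, one_mul]
      rfl
    rw [this]
    exact Function.bijective_id
  haveI : FiniteDimensional K (k' ⊗[k] K) := LeadCE.finiteDimensional_of_surjective hbij.2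
  haveI : Small.{v} (k' ⊗[k] K) := Module.Finite.small (R := K) (M := k' ⊗[k] K)
  have hk : ∀ c : k, (equivShrink (k' ⊗[k] K)).symm (algebraMap k (Shrink.{v} (k' ⊗[k] K)) c) =
      algebraMap k (k' ⊗[k] K) c := fun c => (Shrink.algEquiv k (k' ⊗[k] K)).commutes c
  have hk' : ∀ c : k', (equivShrink (k' ⊗[k] K)).symm (algebraMap k' (Shrink.{v} (k' ⊗[k] K)) c) =
      algebraMap k' (k' ⊗[k] K) c := fun c => (Shrink.algEquiv k' (k' ⊗[k] K)).commutes c
  have hKK : ∀ a : K, (equivShrink (k' ⊗[k] K)).symm (algebraMap K (Shrink.{v} (k' ⊗[k] K)) a) =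
      algebraMap K (k' ⊗[k] K) a := fun a => (Shrink.algEquiv K (k' ⊗[k] K)).commutes a
  haveI t1 : IsScalarTower k k' (Shrink.{v} (k' ⊗[k] K)) := IsScalarTower.of_algebraMap_eq (fun c => by
    apply (equivShrink (k' ⊗[k] K)).symm.injective
    rw [hk, hk', ← IsScalarTower.algebraMap_apply])
  haveI t2 : IsScalarTower k K (Shrink.{v} (k' ⊗[k] K)) := IsScalarTower.of_algebraMap_eq (fun c => by
    apply (equivShrink (k' ⊗[k] K)).symm.injective
    rw [hk, hKK, ← IsScalarTower.algebraMap_apply])
  refine ⟨Shrink.{v} (k' ⊗[k] K), inferInstance, inferInstance, inferInstance, inferInstance,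
    t1, t2, ?_⟩
  have key : ∀ w : k' ⊗[k] K, (Shrink.algEquiv k (k' ⊗[k] K))
      (Algebra.TensorProduct.productMap
        (IsScalarTower.toAlgHom k k' (Shrink.{v} (k' ⊗[k] K)))
        (IsScalarTower.toAlgHom k K (Shrink.{v} (k' ⊗[k] K))) w) =
      Algebra.TensorProduct.productMap
        (IsScalarTower.toAlgHom k k' (k' ⊗[k] K)) (IsScalarTower.toAlgHom k K (k' ⊗[k] K)) w := by
    intro w
    induction w using TensorProduct.induction_on with
    | zero => simp
    | tmul a b =>
      simp only [Algebra.TensorProduct.productMap_apply_tmul, IsScalarTower.coe_toAlgHom', map_mul]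
      congr 1
      · exact hk' a
      · exact hKK b
    | add x y hx hy => simp only [map_add, hx, hy]
  have : (Algebra.TensorProduct.productMap
        (IsScalarTower.toAlgHom k k' (Shrink.{v} (k' ⊗[k] K)))
        (IsScalarTower.toAlgHom k K (Shrink.{v} (k' ⊗[k] K))) : k' ⊗[k] K → _) =
      (Shrink.algEquiv k (k' ⊗[k] K)).symm ∘ (Algebra.TensorProduct.productMap
        (IsScalarTower.toAlgHom k k' (k' ⊗[k] K)) (IsScalarTower.toAlgHom k K (k' ⊗[k] K))) := by
    funext w
    rw [Function.comp_apply, ← key w, AlgEquiv.symm_apply_apply]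
  rw [this]
  exact (Shrink.algEquiv k (k' ⊗[k] K)).symm.bijective.comp hbij

end Groth.Agent.R2.H57.Model
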