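import Mathlib

/-! For a normal extension `N/F`, the fixed field of `Aut(N/F)` is purely inseparable over `F`
(and `N` is Galois over it when `N/F` is finite). -/

set_option autoImplicit false

namespace Groth.Agent.R2.H57.NormalPI

open Polynomial

variable (F N : Type*) [Field F] [Field N] [Algebra F N]

theorem isPurelyInseparable_fixedField_top [Normal F N] :
    IsPurelyInseparable F (IntermediateField.fixedField (⊤ : Subgroup (N ≃ₐ[F] N))) := by
  classical
  rw [isPurelyInseparable_iff_natSepDegree_eq_one]
  intro x
  have hmin : minpoly F x = minpoly F (x : N) :=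
    (minpoly.algebraMap_eq (algebraMap (IntermediateField.fixedField
      (⊤ : Subgroup (N ≃ₐ[F] N))) N).injective x).symm
  rw [hmin, natSepDegree_eq_of_splits (E := N) _ (Normal.splits inferInstance (x : N))]
  have hx0 : minpoly F (x : N) ≠ 0 := minpoly.ne_zero (Normal.isIntegral inferInstance (x : N))
  have hset : ((minpoly F (x : N)).aroots N).toFinset = {(x : N)} := by
    ext y
    rw [Multiset.mem_toFinset, mem_aroots, Finset.mem_singleton]
    constructor
    · rintro ⟨-, hy⟩
      obtain ⟨σ, hσ⟩ := minpoly.exists_algEquiv_of_root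
        (Normal.isIntegral inferInstance (x : N)).isAlgebraic hy
      have hfix : σ.symm (x : N) = x :=
        (IntermediateField.mem_fixedField_iff _ _).mp x.2 σ.symm (Subgroup.mem_top _)
      rw [← hfix, ← hσ, AlgEquiv.symm_apply_apply]
    · rintro rfl
      exact ⟨hx0, minpoly.aeval F _⟩
  rw [hset, Finset.card_singleton]

theorem isGalois_fixedField_top [FiniteDimensional F N] :
    IsGalois (IntermediateField.fixedField (⊤ : Subgroup (N ≃ₐ[F] N))) N :=
  IsGalois.of_fixed_field N (⊤ : Subgroup (N ≃ₐ[F] N))

end Groth.Agent.R2.H57.NormalPI
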