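import Groth.Agent.R2.H57ConstExt
import Groth.Agent.Lib.LeadCE1

/-! Separable constant extensions create no singularities (the earlier team's S11012) in subring
language, and the passage between places over `k` and places over an algebraic extension `k'`. -/

set_option autoImplicit false

namespace Groth.Agent.R2.H57.SepNS

open FunFld WithZero TensorProduct
open Groth.Agent.Lib Groth.Agent.R2.H57.ConstExt

section Up

variable {k k' K' : Type*} [Field k] [Field k'] [Field K'] [Algebra k k'] [Algebra k' K']
  [Algebra k K'] [IsScalarTower k k' K'] [Algebra.IsIntegral k k']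

/-- a place over `k` is a place over the algebraic extension `k'`. -/
def up (Q : Place k K') : Place k' K' :=
  ⟨Q.1, fun c => by
    have hc : IsIntegral k (algebraMap k' K' c) :=
      (Algebra.IsIntegral.isIntegral (R := k) c).algebraMap
    exact LeadFG.val_le_one_of_isIntegral (LeadFG.place_trivOn Q) hc, Q.2.2⟩

@[simp] lemma up_val (Q : Place k K') (z : K') : (up (k' := k') Q).1 z = Q.1 z := rfl

end Up

section Sep

variable {k k' K K' : Type*} [Field k] [Field k'] [Field K] [Field K']
  [Algebra k k'] [Algebra k K] [Algebra K K'] [Algebra k' K'] [Algebra k K']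
  [IsScalarTower k k' K'] [IsScalarTower k K K'] [FiniteDimensional k k']
  [Algebra.IsSeparable k k']

theorem nonsingular_of_separable
    (h : Function.Surjective (Algebra.TensorProduct.productMap
      (IsScalarTower.toAlgHom k k' K') (IsScalarTower.toAlgHom k K K')))
    (hK : IsFunctionField k K) (P : Place k K) :
    integralClosure (P.O.toSubring.map (algebraMap K K')) K' =
      Algebra.adjoin (P.O.toSubring.map (algebraMap K K')) (Set.range (algebraMap k' K')) := by
  refine le_antisymm ?_ (adjoin_le_integralClosure_map (K' := K') (k' := k') P)
  intro z hz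
  have hz' : IsIntegral (P.O.toSubring.map (algebraMap K K')) z := hz
  letI : Algebra P.O K' := ((algebraMap K K').comp P.O.subtype).toAlgebra
  haveI : IsScalarTower P.O K K' := IsScalarTower.of_algebraMap_eq (fun _ => rfl)
  have hkey := LeadCE.integralClosure_eq (k' := k') (K' := K') h hK P
  -- integrality over `P.O`
  have hinj : Function.Injective (algebraMap K K') := (algebraMap K K').injective
  let e := P.O.toSubring.equivMapOfInjective (algebraMap K K') hinj
  have hzO : IsIntegral P.O z := by
    have := IsIntegral.map_of_comp_eq (e.symm : (P.O.toSubring.map (algebraMap K K')) →+* P.O)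
      (RingHom.id K') ?_ hz'
    · simpa using this
    · ext r
      obtain ⟨r', rfl⟩ := e.surjective r
      simp only [RingHom.coe_comp, RingHom.coe_coe, Function.comp_apply,
        RingEquiv.symm_apply_apply, RingHom.id_apply]
      rfl
  have hmem : z ∈ (Algebra.adjoin P.O (Set.range (algebraMap k' K'))).toSubring := by
    rw [← hkey]; exact hzO
  have hmem' : z ∈ Algebra.adjoin P.O (Set.range (algebraMap k' K')) := hmem
  clear hmem hzO hz' hz
  induction hmem' using Algebra.adjoin_induction with
  | mem x hx => exact Algebra.subset_adjoin hx
  | algebraMap r =>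
    exact Subalgebra.algebraMap_mem _
      (⟨algebraMap K K' (r : K), ⟨r, r.2, rfl⟩⟩ : P.O.toSubring.map (algebraMap K K'))
  | add x y _ _ hx hy => exact Subalgebra.add_mem _ hx hy
  | mul x y _ _ hx hy => exact Subalgebra.mul_mem _ hx hy

end Sep

end Groth.Agent.R2.H57.SepNS
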