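import Groth.Agent.R2.H57PiStable
import Groth.Agent.R2.H57SepNS
import Groth.Agent.R2.H57NormalPI
import Groth.Agent.R2.H57Model
import Groth.Agent.Lib.Helper7FunFldConst

/-! From nonsingularity with respect to purely inseparable finite constant extensions to
nonsingularity with respect to all finite constant extensions (normal closure = purely inseparable
followed by Galois; separable extensions create no singularities; tower criterion twice). -/

set_option autoImplicit false

namespace Groth.Agent.R2.H57.AllFinite

open FunFld WithZero TensorProduct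
open Groth.Agent.Lib Groth.Agent.R2.H57.ConstExt Groth.Agent.R2.H57.ConstExtTower
open Groth.Agent.Lib.Helper7.FunFldConst

universe u v

section Abstract

variable {k k'' F : Type u} {K K'' : Type v} [Field k] [Field k''] [Field F]
  [Field K] [Field K'']
  [Algebra k k''] [Algebra k F]
  [FiniteDimensional k k''] [FiniteDimensional k F]
  [Algebra k K] [Algebra K K''] [Algebra k'' K''] [Algebra k K''] [IsScalarTower k k'' K'']
  [IsScalarTower k K K'']

theorem nonsingular_of_tower_data
    (N : Type u) [Field N] [Algebra k'' N] [Algebra k N] [IsScalarTower k k'' N]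
    [Algebra F N] [IsScalarTower k F N] [FiniteDimensional k'' N]
    [FiniteDimensional F N] [Algebra.IsSeparable F N]
    (hK : IsFunctionField k K) (hg : IsGeometric k K)
    (hpiF : ∀ (K_F : Type v) [Field K_F] [Algebra K K_F] [Algebra F K_F] [Algebra k K_F]
      [IsScalarTower k F K_F] [IsScalarTower k K K_F],
      Function.Bijective (Algebra.TensorProduct.productMap
        (IsScalarTower.toAlgHom k F K_F) (IsScalarTower.toAlgHom k K K_F)) →
      ∀ Q : Place k K, integralClosure (Q.O.toSubring.map (algebraMap K K_F)) K_F =
        Algebra.adjoin (Q.O.toSubring.map (algebraMap K K_F)) (Set.range (algebraMap F K_F)))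
    (h'' : Function.Bijective (Algebra.TensorProduct.productMap
      (IsScalarTower.toAlgHom k k'' K'') (IsScalarTower.toAlgHom k K K'')))
    (Q : Place k K) :
    integralClosure (Q.O.toSubring.map (algebraMap K K'')) K'' =
      Algebra.adjoin (Q.O.toSubring.map (algebraMap K K'')) (Set.range (algebraMap k'' K'')) := by
  classical
  have hK'' : IsFunctionField k'' K'' := isFunctionField_constExt h'' hK hg
  have hg'' : IsGeometric k'' K'' := isGeometric_constExt h'' hg
  haveI : FiniteDimensional k N := Module.Finite.trans k'' N
  -- models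
  obtain ⟨K_F, _, _, _, _, _, _, hF⟩ := Model.exists_model hg F
  have hK_F : IsFunctionField F K_F := isFunctionField_constExt hF hK hg
  have hg_F : IsGeometric F K_F := isGeometric_constExt hF hg
  obtain ⟨K_N, _, _, _, _, _, _, hN''⟩ := Model.exists_model hg'' N
  -- the remaining structure on `K_N`
  letI aKN : Algebra k K_N := ((algebraMap k'' K_N).comp (algebraMap k k'')).toAlgebra
  haveI t1 : IsScalarTower k k'' K_N := IsScalarTower.of_algebraMap_eq (fun _ => rfl)
  letI aKKN : Algebra K K_N := ((algebraMap K'' K_N).comp (algebraMap K K'')).toAlgebra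
  haveI t2 : IsScalarTower K K'' K_N := IsScalarTower.of_algebraMap_eq (fun _ => rfl)
  haveI t3 : IsScalarTower k K K_N := IsScalarTower.of_algebraMap_eq (fun c => by
    show algebraMap k'' K_N (algebraMap k k'' c) =
      algebraMap K'' K_N (algebraMap K K'' (algebraMap k K c))
    rw [← IsScalarTower.algebraMap_apply k K K'', IsScalarTower.algebraMap_apply k k'' K'',
      ← IsScalarTower.algebraMap_apply k'' K'' K_N])
  haveI t4 : IsScalarTower k N K_N := IsScalarTower.of_algebraMap_eq (fun c => by
    show algebraMap k'' K_N (algebraMap k k'' c) = algebraMap N K_N (algebraMap k N c)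
    rw [IsScalarTower.algebraMap_apply k k'' N, ← IsScalarTower.algebraMap_apply k'' N K_N])
  letI aFN : Algebra F K_N := ((algebraMap N K_N).comp (algebraMap F N)).toAlgebra
  haveI t5 : IsScalarTower F N K_N := IsScalarTower.of_algebraMap_eq (fun _ => rfl)
  haveI t6 : IsScalarTower k F K_N := IsScalarTower.of_algebraMap_eq (fun c => by
    show algebraMap k K_N c = algebraMap N K_N (algebraMap F N (algebraMap k F c))
    rw [← IsScalarTower.algebraMap_apply k F N, ← IsScalarTower.algebraMap_apply k N K_N])
  -- `K_N` is a model of `N ⊗_k K`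
  have hNk : Function.Bijective (Algebra.TensorProduct.productMap
      (IsScalarTower.toAlgHom k N K_N) (IsScalarTower.toAlgHom k K K_N)) :=
    PiStable.bijective_tower (k' := k'') (K' := K'') h''.2 hN''.2 hg
  -- the map `K_F → K_N`
  let eF : (F ⊗[k] K) ≃ₐ[k] K_F := AlgEquiv.ofBijective _ hF
  let φ : K_F →ₐ[k] K_N := (Algebra.TensorProduct.productMap
      (IsScalarTower.toAlgHom k F K_N) (IsScalarTower.toAlgHom k K K_N)).comp eF.symm.toAlgHom
  letI aFF : Algebra K_F K_N := φ.toRingHom.toAlgebra
  have hφF : ∀ c : F, φ (algebraMap F K_F c) = algebraMap F K_N c := by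
    intro c
    have : algebraMap F K_F c = eF (c ⊗ₜ[k] (1 : K)) := by simp [eF]
    rw [this]
    simp [φ]
  have hφK : ∀ a : K, φ (algebraMap K K_F a) = algebraMap K K_N a := by
    intro a
    have : algebraMap K K_F a = eF ((1 : F) ⊗ₜ[k] a) := by simp [eF]
    rw [this]
    simp [φ]
  haveI t7 : IsScalarTower F K_F K_N := IsScalarTower.of_algebraMap_eq (fun c => (hφF c).symm)
  haveI t8 : IsScalarTower K K_F K_N := IsScalarTower.of_algebraMap_eq (fun a => (hφK a).symm)
  -- `K_N` is a model of `N ⊗_F K_F`
  have hFN : Function.Bijective (Algebra.TensorProduct.productMap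
      (IsScalarTower.toAlgHom F N K_N) (IsScalarTower.toAlgHom F K_F K_N)) := by
    constructor
    · letI : Field (N ⊗[F] K_F) := (hg_F N inferInstance).toField
      exact RingHom.injective ((Algebra.TensorProduct.productMap
        (IsScalarTower.toAlgHom F N K_N) (IsScalarTower.toAlgHom F K_F K_N)) :
          N ⊗[F] K_F →+* K_N)
    · set f := Algebra.TensorProduct.productMap
        (IsScalarTower.toAlgHom F N K_N) (IsScalarTower.toAlgHom F K_F K_N) with hf
      intro z
      have hz := LeadCE.mem_adjoin_range hNk.2 z
      show z ∈ f.range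
      induction hz using Algebra.adjoin_induction with
      | mem x hx => obtain ⟨c, rfl⟩ := hx; exact ⟨c ⊗ₜ 1, by simp [hf]⟩
      | algebraMap a =>
        refine ⟨1 ⊗ₜ algebraMap K K_F a, ?_⟩
        show f (1 ⊗ₜ[F] algebraMap K K_F a) = _
        rw [hf, Algebra.TensorProduct.productMap_apply_tmul, map_one, one_mul,
          IsScalarTower.coe_toAlgHom']
        exact (IsScalarTower.algebraMap_apply K K_F K_N a).symm
      | add x y _ _ hx hy => exact f.range.add_mem hx hy
      | mul x y _ _ hx hy => exact f.range.mul_mem hx hy
  -- (a) purely inseparable step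
  have hNS_F := hpiF K_F hF Q
  -- (b) separable step
  have hNS_b : ∀ Q_F : Place k K_F, IsOver Q_F Q →
      integralClosure (Q_F.O.toSubring.map (algebraMap K_F K_N)) K_N =
        Algebra.adjoin (Q_F.O.toSubring.map (algebraMap K_F K_N))
          (Set.range (algebraMap N K_N)) := by
    intro Q_F _
    exact SepNS.nonsingular_of_separable (k := F) (k' := N) (K := K_F) (K' := K_N) hFN.2 hK_F
      (SepNS.up (k := k) (k' := F) Q_F)
  -- (c), (d) the tower criterion twice
  have hNS_N := (nonsingular_tower_iff k F N K K_F K_N hF hFN hK Q).mpr ⟨hNS_F, hNS_b⟩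
  exact ((nonsingular_tower_iff k k'' N K K'' K_N h'' hN'' hK Q).mp hNS_N).1

end Abstract

section Main

variable {k : Type u} {K : Type v} [Field k] [Field K] [Algebra k K]

theorem nonsingular_all_of_pi (hK : IsFunctionField k K) (hg : IsGeometric k K)
    (hpi : ∀ (F : Type u) [Field F] [Algebra k F] [FiniteDimensional k F]
      [IsPurelyInseparable k F]
      (K_F : Type v) [Field K_F] [Algebra K K_F] [Algebra F K_F] [Algebra k K_F]
      [IsScalarTower k F K_F] [IsScalarTower k K K_F],
      Function.Bijective (Algebra.TensorProduct.productMap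
        (IsScalarTower.toAlgHom k F K_F) (IsScalarTower.toAlgHom k K K_F)) →
      ∀ Q : Place k K, integralClosure (Q.O.toSubring.map (algebraMap K K_F)) K_F =
        Algebra.adjoin (Q.O.toSubring.map (algebraMap K K_F)) (Set.range (algebraMap F K_F)))
    (k'' : Type u) [Field k''] [Algebra k k''] [FiniteDimensional k k'']
    (K'' : Type v) [Field K''] [Algebra K K''] [Algebra k'' K''] [Algebra k K'']
    [IsScalarTower k k'' K''] [IsScalarTower k K K'']
    (h'' : Function.Bijective (Algebra.TensorProduct.productMap
      (IsScalarTower.toAlgHom k k'' K'') (IsScalarTower.toAlgHom k K K'')))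
    (Q : Place k K) :
    integralClosure (Q.O.toSubring.map (algebraMap K K'')) K'' =
      Algebra.adjoin (Q.O.toSubring.map (algebraMap K K'')) (Set.range (algebraMap k'' K'')) := by
  haveI : IsAlgClosure k (AlgebraicClosure k'') :=
    IsAlgClosure.ofAlgebraic k k'' (AlgebraicClosure k'')
  haveI : Normal k (AlgebraicClosure k'') := IsAlgClosure.normal k (AlgebraicClosure k'')
  haveI : FiniteDimensional k'' (IntermediateField.normalClosure k k'' (AlgebraicClosure k'')) :=
    Module.Finite.right k k'' _
  haveI : IsPurelyInseparable k (IntermediateField.fixedField (⊤ : Subgroup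
      ((IntermediateField.normalClosure k k'' (AlgebraicClosure k'')) ≃ₐ[k]
        (IntermediateField.normalClosure k k'' (AlgebraicClosure k''))))) :=
    NormalPI.isPurelyInseparable_fixedField_top k _
  haveI : IsGalois (IntermediateField.fixedField (⊤ : Subgroup
      ((IntermediateField.normalClosure k k'' (AlgebraicClosure k'')) ≃ₐ[k]
        (IntermediateField.normalClosure k k'' (AlgebraicClosure k''))))) 
      (IntermediateField.normalClosure k k'' (AlgebraicClosure k'')) :=
    NormalPI.isGalois_fixedField_top k _
  exact nonsingular_of_tower_data (k := k) (k'' := k'')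
    (F := IntermediateField.fixedField (⊤ : Subgroup
      ((IntermediateField.normalClosure k k'' (AlgebraicClosure k'')) ≃ₐ[k]
        (IntermediateField.normalClosure k k'' (AlgebraicClosure k'')))))
    (IntermediateField.normalClosure k k'' (AlgebraicClosure k'')) hK hg
    (fun K_F _ _ _ _ _ _ hF Q => hpi _ K_F hF Q) h'' Q

end Main

end Groth.Agent.R2.H57.AllFinite
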