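import Mathlib
import Groth.Prelude.Def_BlowUp2
import Groth.Agent.Lib.Helper20EffCartier
import Groth.Agent.R2.H82BlowUpDisjoint
import Groth.Agent.R2.H92BlowAffA
import Groth.Agent.R2.H92BlowAffB

/-!
# `Proj` of a Rees-like algebra over `Spec R` is the blow-up (helper92)

The `Spec R` form of `R2/H92BlowAffC`: for a ring `R`, an ideal `I` and a graded `R`-algebra `𝒜`
that is Rees-like for `I`, the structure morphism `toBase 𝒜 : Proj 𝒜 ⟶ Spec R` is a blowing up of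
`Spec R` in the ideal sheaf of `I` (`isBlowUp_toBase`); in particular for the Rees algebra
(`isBlowUp_toBase_rees`).
-/

set_option autoImplicit false
universe u

open CategoryTheory CategoryTheory.Limits AlgebraicGeometry HomogeneousLocalization nonZeroDivisors

namespace Groth.Agent.R2.H92.BlowAffS

open Groth.Agent.Helper13Dehom Groth.Agent.Helper13ProjUP Groth.Agent.Helper13AffMor
  Groth.Agent.R2.H92.BlowAffA Groth.Agent.Lib.Helper20

variable {R : Type u} [CommRing R] (I : Ideal R)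

/-- the ideal sheaf on `Spec R` of the ideal `I` -/
noncomputable abbrev sheafOf : (Spec (CommRingCat.of R)).IdealSheafData :=
  Scheme.IdealSheafData.ofIdealTop (I.map (Scheme.ΓSpecIso (CommRingCat.of R)).inv.hom)

theorem le_pre_top {Y T : Scheme.{u}} (g : Y ⟶ T) (V : Y.Opens) : V ≤ g ⁻¹ᵁ ⊤ := fun _ _ => trivial

/-- the ring map `R → Γ(Y, V)` of a morphism `g : Y ⟶ Spec R` -/
noncomputable def phi {Y : Scheme.{u}} (g : Y ⟶ Spec (CommRingCat.of R)) (V : Y.Opens) :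
    CommRingCat.of R ⟶ Γ(Y, V) :=
  (Scheme.ΓSpecIso (CommRingCat.of R)).inv ≫ g.appLE ⊤ V (le_pre_top g V)

theorem sheafOf_ideal_top :
    (sheafOf I).ideal ⟨⊤, isAffineOpen_top _⟩ =
      I.map (Scheme.ΓSpecIso (CommRingCat.of R)).inv.hom :=
  (Scheme.IdealSheafData.equivOfIsAffine (X := Spec (CommRingCat.of R))).apply_symm_apply _

theorem ideal_comap_eq {Y : Scheme.{u}} (g : Y ⟶ Spec (CommRingCat.of R)) {V : Y.Opens}
    (hV : IsAffineOpen V) :
    ((sheafOf I).comap g).ideal ⟨V, hV⟩ = I.map (phi g V).hom := by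
  rw [EffCartier.ideal_comap_eq_map g (sheafOf I) hV (isAffineOpen_top _) (le_pre_top g V),
    sheafOf_ideal_top, Ideal.map_map]
  rfl

theorem fromSpec_top_eq :
    (isAffineOpen_top (Spec (CommRingCat.of R))).fromSpec =
      Spec.map (Scheme.ΓSpecIso (CommRingCat.of R)).inv := by
  rw [IsAffineOpen.fromSpec_top, Scheme.isoSpec_Spec_inv]

theorem ι_comp_eq {Y : Scheme.{u}} (g : Y ⟶ Spec (CommRingCat.of R)) (V : Y.Opens) :
    V.ι ≫ g = V.toSpecΓ ≫ Spec.map (phi g V) := by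
  rw [ι_comp_eq_toAff (isAffineOpen_top _) g (le_pre_top g V)]
  unfold toAff phi
  rw [fromSpec_top_eq, ← Spec.map_comp]

theorem phi_res {Y : Scheme.{u}} (g : Y ⟶ Spec (CommRingCat.of R)) {V V' : Y.Opens}
    (h : V' ≤ V) : phi g V ≫ Y.presheaf.map (homOfLE h).op = phi g V' := by
  unfold phi
  rw [Category.assoc, Scheme.Hom.appLE_map]

theorem phi_comp {Y Z : Scheme.{u}} (k : Y ⟶ Z) (b : Z ⟶ Spec (CommRingCat.of R)) (U : Z.Opens)
    (V : Y.Opens) (hV : V ≤ k ⁻¹ᵁ U) : phi b U ≫ k.appLE U V hV = phi (k ≫ b) V := by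
  unfold phi
  rw [Category.assoc, Scheme.Hom.appLE_comp_appLE]

variable {I} {A : Type u} [CommRing A] [Algebra R A] {𝒜 : ℕ → Submodule R A}
  [GradedAlgebra 𝒜] {L : I → A} (hL : ReesLike I 𝒜 L)

include hL

theorem phi_toBase (a : I) :
    phi (toBase 𝒜) (Proj.basicOpen 𝒜 (L a)) = strMap (hL.mem_one a) := by
  have h1 := IsAffineOpen.SpecMap_appLE_fromSpec (toBase 𝒜) (isAffineOpen_top _)
    (isAffineOpen_basicOpen (hL.mem_one a)) (le_pre_top _ _)
  rw [fromSpec_toBase (hL.mem_one a), fromSpec_top_eq, ← Spec.map_comp] at h1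
  exact Spec.map_injective h1

theorem exists_mem_basicOpen (x : Proj 𝒜) : ∃ a : I, x ∈ Proj.basicOpen 𝒜 (L a) := by
  by_contra! H
  refine x.not_irrelevant_le ?_
  change (HomogeneousIdeal.irrelevant 𝒜).toIdeal ≤ x.asHomogeneousIdeal.toIdeal
  have h1 : Ideal.span (Set.range L) ≤ x.asHomogeneousIdeal.toIdeal := by
    rw [Ideal.span_le]
    rintro _ ⟨a, rfl⟩
    have := H a
    rw [Proj.mem_basicOpen, not_not] at this
    exact this
  rw [HomogeneousIdeal.toIdeal_irrelevant_le]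
  intro i hi s hs
  exact h1 (hL.irr i hi s hs)

theorem ideal_comap_toBase (a : I) :
    ((sheafOf I).comap (toBase 𝒜)).ideal
      ⟨Proj.basicOpen 𝒜 (L a), isAffineOpen_basicOpen (hL.mem_one a)⟩ =
      Ideal.span {dehom (hL.mem_one a) (algebraMap R A a)} := by
  have h1 := ideal_comap_eq I (toBase 𝒜) (isAffineOpen_basicOpen (hL.mem_one a))
  rw [h1, phi_toBase hL a]
  exact map_strMap_eq_span hL a

theorem isEffCartierIdeal_comap_toBase :
    BlowUp.IsEffCartierIdeal ((sheafOf I).comap (toBase 𝒜)) := by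
  intro x
  obtain ⟨a, ha⟩ := exists_mem_basicOpen hL x
  exact ⟨⟨Proj.basicOpen 𝒜 (L a), isAffineOpen_basicOpen (hL.mem_one a)⟩, ha,
    dehom (hL.mem_one a) (algebraMap R A a), dehom_c0_mem_nonZeroDivisors hL a,
    ideal_comap_toBase hL a⟩

omit hL in
/-- locally the inverse image of `I` under `g` is generated by the image of an element of `I`,
a nonzerodivisor -/
theorem exists_local_gen {Y : Scheme.{u}} (g : Y ⟶ Spec (CommRingCat.of R))
    (hE : BlowUp.IsEffCartierIdeal ((sheafOf I).comap g)) (y : Y) (W : Y.Opens) (hy : y ∈ W) :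
    ∃ (V : Y.Opens) (_ : IsAffineOpen V), y ∈ V ∧ V ≤ W ∧ ∃ a : I,
      (phi g V).hom a ∈ Γ(Y, V)⁰ ∧
      I.map (phi g V).hom = Ideal.span {(phi g V).hom a} := by
  obtain ⟨V₀, hV₀, hyV₀, hV₀W, f, hf, hIf⟩ := EffCartier.exists_le_of_isEffCartierIdeal hE y W hy
  rw [ideal_comap_eq] at hIf
  have hspan := span_cofactors_eq_top (phi g V₀).hom f hf hIf
  have hcov := iSup_basicOpen_of_span_eq_top V₀ _ hspan
  have hy' : y ∈ ⨆ i ∈ {d : Γ(Y, V₀) | ∃ a ∈ I, (phi g V₀).hom a = f * d},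
      Y.basicOpen i := by rw [hcov]; exact hyV₀
  obtain ⟨d, hyd⟩ := TopologicalSpace.Opens.mem_iSup.mp hy'
  obtain ⟨⟨a, ha, had⟩, hyd⟩ := TopologicalSpace.Opens.mem_iSup.mp hyd
  have inst := hV₀.isLocalization_basicOpen d
  have hres : (Y.presheaf.map (homOfLE (Y.basicOpen_le d)).op).hom = algebraMap _ _ := rfl
  have happ : (phi g (Y.basicOpen d)).hom =
      (algebraMap Γ(Y, V₀) Γ(Y, Y.basicOpen d)).comp (phi g V₀).hom := by
    rw [← hres, ← CommRingCat.hom_comp, phi_res]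
  have hfnzd : algebraMap Γ(Y, V₀) Γ(Y, Y.basicOpen d) f ∈ Γ(Y, Y.basicOpen d)⁰ :=
    IsLocalization.map_nonZeroDivisors_le (.powers d) _ (Submonoid.mem_map_of_mem _ hf)
  have hdunit : IsUnit (algebraMap Γ(Y, V₀) Γ(Y, Y.basicOpen d) d) :=
    IsLocalization.Away.algebraMap_isUnit d
  have hval : (phi g (Y.basicOpen d)).hom a =
      algebraMap Γ(Y, V₀) Γ(Y, Y.basicOpen d) f * algebraMap Γ(Y, V₀) Γ(Y, Y.basicOpen d) d := by
    rw [happ, RingHom.comp_apply, had, map_mul]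
  refine ⟨Y.basicOpen d, hV₀.basicOpen d, hyd, (Y.basicOpen_le d).trans hV₀W, ⟨a, ha⟩, ?_, ?_⟩
  · rw [hval]
    exact mul_mem hfnzd hdunit.mem_nonZeroDivisors
  · rw [hval, Ideal.span_singleton_mul_right_unit hdunit, happ, ← Ideal.map_map, hIf,
      Ideal.map_span, Set.image_singleton]

/-- a lift over an open on which `I` is generated by the image of `a` -/
theorem exists_chart_lift {Y : Scheme.{u}} (g : Y ⟶ Spec (CommRingCat.of R)) (V : Y.Opens) (a : I)
    (hnzd : (phi g V).hom a ∈ Γ(Y, V)⁰)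
    (hspan : I.map (phi g V).hom = Ideal.span {(phi g V).hom a}) :
    ∃ h : V.toScheme ⟶ Proj 𝒜, h ≫ toBase 𝒜 = V.ι ≫ g := by
  obtain ⟨ψ, hψ⟩ := exists_chart_hom hL a (phi g V).hom hnzd (fun c hc => by
    have h1 : (phi g V).hom c ∈ Ideal.span {(phi g V).hom a} :=
      hspan ▸ Ideal.mem_map_of_mem _ hc
    obtain ⟨b, hb⟩ := Ideal.mem_span_singleton'.mp h1
    exact ⟨b, by rw [← hb, mul_comm]⟩)
  refine ⟨toAff (isAffineOpen_basicOpen (hL.mem_one a))
    (ConcreteCategory.ofHom (C := CommRingCat) (X := Γ(Proj 𝒜, Proj.basicOpen 𝒜 (L a)))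
      (Y := Γ(Y, V)) ψ), ?_⟩
  rw [ι_comp_eq g V]
  unfold toAff
  rw [Category.assoc, Category.assoc, fromSpec_toBase (hL.mem_one a), ← Spec.map_comp]
  congr 2
  ext c
  exact hψ c

/-- uniqueness of lifts through `toBase` -/
theorem toBase_hom_ext {W : Scheme.{u}} (k₁ k₂ : W ⟶ Proj 𝒜)
    (h : k₁ ≫ toBase 𝒜 = k₂ ≫ toBase 𝒜)
    (hE : BlowUp.IsEffCartierIdeal ((sheafOf I).comap (k₁ ≫ toBase 𝒜))) : k₁ = k₂ := by
  refine Scheme.hom_ext_of_forall _ _ fun w => ?_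
  obtain ⟨a, ha⟩ := exists_mem_basicOpen hL (k₁ w)
  obtain ⟨a', ha'⟩ := exists_mem_basicOpen hL (k₂ w)
  obtain ⟨V, hV, hwV, hVle, f, hf, hIf⟩ := EffCartier.exists_le_of_isEffCartierIdeal hE w
    (k₁ ⁻¹ᵁ Proj.basicOpen 𝒜 (L a) ⊓ k₂ ⁻¹ᵁ Proj.basicOpen 𝒜 (L a')) ⟨ha, ha'⟩
  refine ⟨V, hwV, ?_⟩
  have hV1 : V ≤ k₁ ⁻¹ᵁ Proj.basicOpen 𝒜 (L a) := hVle.trans inf_le_left
  have hV2 : V ≤ k₂ ⁻¹ᵁ Proj.basicOpen 𝒜 (L a') := hVle.trans inf_le_right
  rw [ι_comp_eq_toAff (isAffineOpen_basicOpen (hL.mem_one a)) k₁ hV1,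
    ι_comp_eq_toAff (isAffineOpen_basicOpen (hL.mem_one a')) k₂ hV2]
  have hα : strMap (hL.mem_one a) ≫ k₁.appLE _ V hV1 = phi (k₁ ≫ toBase 𝒜) V := by
    rw [← phi_toBase hL a, phi_comp]
  have hβ : strMap (hL.mem_one a') ≫ k₂.appLE _ V hV2 = phi (k₁ ≫ toBase 𝒜) V := by
    rw [← phi_toBase hL a', phi_comp]
    congr 1
    exact h.symm
  have hspan : I.map ((k₁.appLE _ V hV1).hom.comp (strMap (hL.mem_one a)).hom) =
      Ideal.span {f} := by
    rw [← hIf, ideal_comap_eq, ← hα]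
    rfl
  obtain ⟨u, v, huv, hu, hcompat⟩ := chart_compat hL a a' (k₁.appLE _ V hV1).hom
    (k₂.appLE _ V hV2).hom (fun c => by
      have := congrArg (fun φ => φ.hom c) (hα.trans hβ.symm)
      exact this) f hf hspan
  exact toAff_eq_toAff (hL.mem_one a) (hL.mem_one a') _ _ u v huv hu hcompat

/-- existence of lifts through `toBase` -/
theorem exists_toBase_lift {Y : Scheme.{u}} (g : Y ⟶ Spec (CommRingCat.of R))
    (hE : BlowUp.IsEffCartierIdeal ((sheafOf I).comap g)) :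
    ∃ h : Y ⟶ Proj 𝒜, h ≫ toBase 𝒜 = g := by
  have key : ∀ y : Y, ∃ V : Y.Opens, y ∈ V ∧
      ∃ h : V.toScheme ⟶ Proj 𝒜, h ≫ toBase 𝒜 = V.ι ≫ g := by
    intro y
    obtain ⟨V, -, hyV, -, a, hnzd, hspan⟩ := exists_local_gen g hE y ⊤ trivial
    exact ⟨V, hyV, exists_chart_lift hL g V a hnzd hspan⟩
  choose V hyV h hh using key
  obtain ⟨r, hr⟩ := glue_opens V (fun y => ⟨y, hyV y⟩) h (fun y z => by
    apply toBase_hom_ext hL
    · rw [Category.assoc, Category.assoc, hh, hh, ← Category.assoc, ← Category.assoc,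
        Scheme.homOfLE_ι, Scheme.homOfLE_ι]
    · rw [Category.assoc, hh, ← Category.assoc, Scheme.homOfLE_ι,
        Scheme.IdealSheafData.comap_comp]
      exact Groth.Agent.R2.H82.BlowUpDisjoint.isEffCartierIdeal_comap_openImmersion _ _ hE)
  refine ⟨r, Scheme.hom_ext_of_forall _ _ fun y => ⟨V y, hyV y, ?_⟩⟩
  rw [← Category.assoc, hr, hh]

/-- `Proj` of a Rees-like algebra is the blow-up of `Spec R` in `I` -/
theorem isBlowUp_toBase : BlowUp.IsBlowUp (toBase 𝒜) (sheafOf I) := by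
  refine ⟨isEffCartierIdeal_comap_toBase hL, fun Y g hE => ?_⟩
  obtain ⟨h, hh⟩ := exists_toBase_lift hL g hE
  refine ⟨h, hh, fun h' hh' => ?_⟩
  apply toBase_hom_ext hL
  · rw [hh', hh]
  · rw [hh']; exact hE

omit hL in
/-- `Proj` of the Rees algebra is the blow-up of `Spec R` in `I` -/
theorem isBlowUp_toBase_rees (I : Ideal R) :
    BlowUp.IsBlowUp (toBase (Rees.deg (reesAlgebra I))) (sheafOf I) :=
  isBlowUp_toBase (Groth.Agent.R2.H92.BlowAffB.reesLike I)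

end Groth.Agent.R2.H92.BlowAffS
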