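import Mathlib
import Groth.Prelude.Def_BlowUp2
import Groth.Prelude.Def_ega3
import Groth.Agent.R2.H92BlowAffS
import Groth.Agent.R2.H92BlowGlue

/-!
# Blow-ups of affine schemes are proper; function fields of birational morphisms (helper57)

* `isProper_toBase_rees`: for a finitely generated ideal `I` of `R`, the structure morphism
  `Proj (Rees I) ⟶ Spec R` is proper.
* `isProper_of_isBlowUp`: any blowing up of `Spec R` in a finitely generated ideal is proper.
* `isEmpty_of_isBlowUp_bot`: a blowing up in the zero ideal sheaf is empty.
* `stalkToFunctionField_surjective`: if `b : X ⟶ Y` (integral schemes) maps the generic point to the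
  generic point and is bijective on residue fields there, then `R(Y) ⟶ R(X)` is surjective.
-/

set_option autoImplicit false
universe u

open CategoryTheory CategoryTheory.Limits AlgebraicGeometry

namespace Groth.Agent.R2.H57.BlowConn

open Groth.Agent.Helper13ProjUP Groth.Agent.R2.H92.BlowAffS

section Proper

variable {R : Type u} [CommRing R] (I : Ideal R)

/-- the degree zero part of the Rees algebra consists of constants -/
theorem algebraMap_deg_zero_surjective :
    Function.Surjective (algebraMap R (Rees.deg (reesAlgebra I) 0)) := by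
  rintro ⟨s, hs⟩
  refine ⟨(s : Polynomial R).coeff 0, ?_⟩
  apply Subtype.ext
  apply Subtype.ext
  change Polynomial.C ((s : Polynomial R).coeff 0) = (s : Polynomial R)
  ext m
  rw [Polynomial.coeff_C]
  split_ifs with h
  · rw [h]
  · exact (hs m h).symm

theorem isProper_toBase {A : Type u} [CommRing A] [Algebra R A] (𝒜 : ℕ → Submodule R A)
    [GradedAlgebra 𝒜] [Algebra.FiniteType (𝒜 0) A]
    (h : Function.Surjective (algebraMap R (𝒜 0))) : IsProper (toBase 𝒜) := by
  haveI : IsClosedImmersion (Spec.map (CommRingCat.ofHom (algebraMap R (𝒜 0)))) :=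
    IsClosedImmersion.spec_of_surjective _ h
  unfold toBase
  infer_instance

theorem isProper_toBase_rees (hI : I.FG) : IsProper (toBase (Rees.deg (reesAlgebra I))) := by
  haveI : Algebra.FiniteType R (reesAlgebra I) :=
    (Subalgebra.fg_iff_finiteType _).mp (reesAlgebra.fg hI)
  haveI : IsScalarTower R (Rees.deg (reesAlgebra I) 0) (reesAlgebra I) :=
    IsScalarTower.of_algebraMap_eq (R := R) (S := Rees.deg (reesAlgebra I) 0)
      (A := reesAlgebra I) (fun x => by rfl)
  haveI : Algebra.FiniteType (Rees.deg (reesAlgebra I) 0) (reesAlgebra I) :=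
    Algebra.FiniteType.of_restrictScalars_finiteType R _ _
  exact isProper_toBase _ (algebraMap_deg_zero_surjective I)

/-- any blowing up of `Spec R` in a finitely generated ideal is proper -/
theorem isProper_of_isBlowUp (hI : I.FG) {X : Scheme.{u}} (b : X ⟶ Spec (CommRingCat.of R))
    (hb : BlowUp.IsBlowUp b (sheafOf I)) : IsProper b := by
  have hb' := isBlowUp_toBase_rees I
  obtain ⟨h, hh, -⟩ := hb'.2 X b hb.1
  haveI : IsIso h := Groth.Agent.R2.H92.BlowGlue.isIso_of_isBlowUp hb hb' h hh
  haveI := isProper_toBase_rees I hI
  rw [← hh]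
  infer_instance

end Proper

section Empty

/-- a blowing up in the zero ideal sheaf is empty -/
theorem isEmpty_of_isEffCartierIdeal_bot {X : Scheme.{u}}
    (h : BlowUp.IsEffCartierIdeal (⊥ : X.IdealSheafData)) : IsEmpty X := by
  refine ⟨fun x => ?_⟩
  obtain ⟨U, hxU, f, hf, hspan⟩ := h x
  have h0 : f = 0 := by
    have : f ∈ (⊥ : X.IdealSheafData).ideal U := by
      rw [hspan]; exact Ideal.mem_span_singleton_self f
    simpa using this
  subst h0
  have : Subsingleton Γ(X, U.1) := by
    have h1 : (1 : Γ(X, U.1)) * 0 = 0 := mul_zero _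
    have := (mem_nonZeroDivisors_iff.mp hf).2 1 h1
    exact subsingleton_of_zero_eq_one this.symm
  have hbot : U.1 = ⊥ := by
    have h1 : X.basicOpen (0 : Γ(X, U.1)) = U.1 :=
      Scheme.basicOpen_of_isUnit X (isUnit_of_subsingleton _)
    rw [← h1, Scheme.basicOpen_zero]
  rw [hbot] at hxU
  exact hxU

end Empty

section FunctionField

variable {X Y : Scheme.{u}} [IsIntegral X] [IsIntegral Y]

theorem stalkToFunctionField_surjective (b : X ⟶ Y)
    (hgen : b.base (genericPoint X) = genericPoint Y)
    (hbij : Function.Bijective (b.residueFieldMap (genericPoint X)).hom)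
    (hdom : b.base (genericPoint X) ⤳ genericPoint Y) :
    Function.Surjective (CohIII.stalkToFunctionField b (genericPoint Y) hdom) := by
  intro z
  -- the residue map of the function field is injective
  have hinjX : Function.Injective (X.residue (genericPoint X)).hom :=
    RingHom.injective (X.residue (genericPoint X)).hom
  obtain ⟨w, hw⟩ := hbij.2 ((X.residue (genericPoint X)).hom z)
  obtain ⟨w', rfl⟩ := Y.residue_surjective (b.base (genericPoint X)) w
  -- `stalkSpecializes` between equal points is bijective
  have hsurj : Function.Surjective (Y.presheaf.stalkSpecializes hdom).hom := by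
    have e : Inseparable (genericPoint Y) (b.base (genericPoint X)) := Inseparable.of_eq hgen.symm
    have h1 : Y.presheaf.stalkSpecializes hdom = (Y.presheaf.stalkCongr e).hom := rfl
    rw [h1]
    exact (ConcreteCategory.bijective_of_isIso (Y.presheaf.stalkCongr e).hom).2
  obtain ⟨w'', rfl⟩ := hsurj w'
  refine ⟨w'', ?_⟩
  apply hinjX
  rw [← hw]
  have h2 := congrArg (fun φ => φ.hom ((Y.presheaf.stalkSpecializes hdom).hom w''))
    (Scheme.residue_residueFieldMap b (genericPoint X))
  exact h2.symm

end FunctionField

end Groth.Agent.R2.H57.BlowConn
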