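import Mathlib

/-! Commutative algebra lemmas for counting branches: (1) a Noetherian local ring whose maximal ideal
is principal with non-nilpotent generator is a domain; (2) comparison of minimal primes along an
injective integral extension `R ⊆ T` with a common "conductor" non-zero-divisor. -/

set_option autoImplicit false

namespace Groth.Agent.R2.H57.BranchA

open IsLocalRing

universe u

/-- a Noetherian local ring whose maximal ideal is generated by a non-nilpotent element is a domain. -/
theorem isDomain_of_maximalIdeal_eq_span {R : Type*} [CommRing R] [IsLocalRing R] [IsNoetherianRing R]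
    (π : R) (hπ : maximalIdeal R = Ideal.span {π}) (hnil : ¬ IsNilpotent π) : IsDomain R := by
  -- every nonzero element is a unit times a power of π
  have key : ∀ x : R, x ≠ 0 → ∃ (n : ℕ) (u : R), IsUnit u ∧ x = u * π ^ n := by
    intro x hx
    by_contra hcon
    push Not at hcon
    have hall : ∀ n : ℕ, x ∈ maximalIdeal R ^ n := by
      intro n
      induction n with
      | zero => simp
      | succ n ih =>
        rw [hπ, Ideal.span_singleton_pow, Ideal.mem_span_singleton'] at ih
        obtain ⟨a, ha⟩ := ih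
        have hnu : ¬ IsUnit a := fun hu => hcon n a hu ha.symm
        have ham : a ∈ maximalIdeal R := (mem_maximalIdeal a).mpr hnu
        rw [hπ, Ideal.mem_span_singleton'] at ham
        obtain ⟨b, hb⟩ := ham
        rw [hπ, Ideal.span_singleton_pow, Ideal.mem_span_singleton']
        exact ⟨b, by rw [← ha, ← hb, pow_succ]; ring⟩
    have hbot : (⨅ n : ℕ, maximalIdeal R ^ n) = ⊥ :=
      Ideal.iInf_pow_eq_bot_of_isLocalRing (maximalIdeal R) (maximalIdeal.isMaximal R).ne_top
    have : x ∈ (⨅ n : ℕ, maximalIdeal R ^ n) := by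
      rw [Ideal.mem_iInf]; exact hall
    rw [hbot] at this
    exact hx this
  haveI : NoZeroDivisors R := by
    constructor
    intro x y hxy
    by_contra hcon
    push Not at hcon
    obtain ⟨n, u, hu, rfl⟩ := key x hcon.1
    obtain ⟨k, w, hw, rfl⟩ := key y hcon.2
    apply hnil
    refine ⟨n + k, ?_⟩
    have h1 : (u * w) * π ^ (n + k) = 0 := by
      rw [pow_add]; rw [← hxy]; ring
    exact (hu.mul hw).mul_right_eq_zero.mp (by rw [mul_comm] at h1; rw [mul_comm]; exact h1)
  exact NoZeroDivisors.to_isDomain R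

section Conductor

variable {R T : Type*} [CommRing R] [CommRing T] (ι : R →+* T)

/-- **minimal primes along a conductor**: for an injective integral ring map `ι : R → T` and an element
`d` with `ι d` a non-zero-divisor and `ι d • T ⊆ ι R`, contraction is a bijection on minimal primes. -/
theorem ncard_minimalPrimes_eq (hinj : Function.Injective ι) (hint : ι.IsIntegral) (d : R)
    (hd : ι d ∈ nonZeroDivisors T) (hcond : ∀ t : T, ∃ c : R, ι d * t = ι c) :
    (minimalPrimes R).ncard = (minimalPrimes T).ncard := by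
  letI : Algebra R T := ι.toAlgebra
  haveI : Algebra.IsIntegral R T := ⟨hint⟩
  have halg : algebraMap R T = ι := rfl
  have key : ∀ Q₀ Q : Ideal T, Q.IsPrime → ι d ∉ Q → Q₀.comap ι ≤ Q.comap ι → Q₀ ≤ Q := by
    intro Q₀ Q hQ hdQ hle t ht
    obtain ⟨c, hc⟩ := hcond t
    have h1 : ι c ∈ Q₀ := by rw [← hc]; exact Ideal.mul_mem_left _ _ ht
    have h2 : ι c ∈ Q := hle h1
    rw [← hc] at h2
    exact (hQ.mem_or_mem h2).resolve_left hdQ
  have hnot : ∀ Q ∈ minimalPrimes T, ι d ∉ Q := fun Q hQ hdQ =>
    Set.disjoint_left.mp (Ideal.disjoint_nonZeroDivisors_of_mem_minimalPrimes hQ) hdQ hd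
  have hsurj : ∀ p ∈ minimalPrimes R, ∃ Q ∈ minimalPrimes T, Q.comap ι = p := by
    intro p hp
    haveI : p.IsPrime := hp.1.1
    obtain ⟨Q', -, hQ', hQ'p⟩ := Ideal.exists_ideal_over_prime_of_isIntegral p (⊥ : Ideal T) (by
      rw [halg, ← RingHom.ker_eq_comap_bot, (RingHom.injective_iff_ker_eq_bot ι).mp hinj]
      exact bot_le)
    obtain ⟨Q, hQ, hQQ'⟩ := Ideal.exists_minimalPrimes_le (I := (⊥ : Ideal T)) (J := Q') bot_le
    refine ⟨Q, hQ, ?_⟩
    haveI : Q.IsPrime := hQ.1.1
    have h1 : Q.comap ι ≤ p := by rw [← hQ'p]; exact Ideal.comap_mono hQQ'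
    exact le_antisymm h1 (hp.2 ⟨Ideal.comap_isPrime ι Q, bot_le⟩ h1)
  have hmaps : ∀ Q ∈ minimalPrimes T, Q.comap ι ∈ minimalPrimes R := by
    intro Q hQ
    haveI : Q.IsPrime := hQ.1.1
    haveI : (Q.comap ι).IsPrime := Ideal.comap_isPrime ι Q
    obtain ⟨p₀, hp₀, hp₀Q⟩ := Ideal.exists_minimalPrimes_le (I := (⊥ : Ideal R))
      (J := Q.comap ι) bot_le
    obtain ⟨Q₀, hQ₀, hQ₀p⟩ := hsurj p₀ hp₀
    have h1 : Q₀ ≤ Q := key Q₀ Q inferInstance (hnot Q hQ) (by rw [hQ₀p]; exact hp₀Q)
    have h2 : Q ≤ Q₀ := hQ.2 ⟨hQ₀.1.1, bot_le⟩ h1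
    have h3 : Q₀ = Q := le_antisymm h1 h2
    rw [← h3, hQ₀p]
    exact hp₀
  have himg : minimalPrimes R = Ideal.comap ι '' minimalPrimes T := by
    ext p
    constructor
    · intro hp
      obtain ⟨Q, hQ, rfl⟩ := hsurj p hp
      exact ⟨Q, hQ, rfl⟩
    · rintro ⟨Q, hQ, rfl⟩
      exact hmaps Q hQ
  rw [himg]
  apply Set.InjOn.ncard_image
  intro Q hQ Q' hQ' h
  have h' : Q.comap ι = Q'.comap ι := h
  exact le_antisymm (key Q Q' hQ'.1.1 (hnot Q' hQ') h'.le) (key Q' Q hQ.1.1 (hnot Q hQ) h'.ge)

end Conductor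

section ProdDomains

/-- a ring which is the product of its localizations at its finitely many maximal ideals, all of them
domains, has as many minimal primes as maximal ideals. -/
theorem ncard_minimalPrimes_eq_card_maximalSpectrum {T : Type u} [CommRing T]
    (hbij : Function.Bijective
      (algebraMap T ((m : MaximalSpectrum T) → Localization.AtPrime m.asIdeal)))
    (hdom : ∀ m : MaximalSpectrum T, IsDomain (Localization.AtPrime m.asIdeal)) :
    (minimalPrimes T).ncard = Nat.card (MaximalSpectrum T) := by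
  classical
  let Q : MaximalSpectrum T → Ideal T := fun N =>
    RingHom.ker (algebraMap T (Localization.AtPrime N.asIdeal))
  have hQprime : ∀ N, (Q N).IsPrime := fun N => by
    haveI := hdom N
    exact RingHom.ker_isPrime _
  have hmem : ∀ N t, t ∈ Q N ↔ ∃ s, s ∉ N.asIdeal ∧ s * t = 0 := by
    intro N t
    rw [RingHom.mem_ker, IsLocalization.map_eq_zero_iff N.asIdeal.primeCompl]
    constructor
    · rintro ⟨⟨s, hs⟩, h⟩
      exact ⟨s, hs, h⟩
    · rintro ⟨s, hs, h⟩
      exact ⟨⟨s, hs⟩, h⟩
  have hQle : ∀ N, Q N ≤ N.asIdeal := by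
    intro N t ht
    obtain ⟨s, hs, hst⟩ := (hmem N t).mp ht
    have : s * t ∈ N.asIdeal := by rw [hst]; exact zero_mem _
    exact (N.isMaximal.isPrime.mem_or_mem this).resolve_left hs
  have hQmin : ∀ N, Q N ∈ minimalPrimes T := by
    intro N
    refine ⟨⟨hQprime N, bot_le⟩, ?_⟩
    rintro P ⟨hP, -⟩ hPQ t ht
    obtain ⟨s, hs, hst⟩ := (hmem N t).mp ht
    have : s * t ∈ P := by rw [hst]; exact zero_mem _
    rcases hP.mem_or_mem this with h | h
    · exact absurd (hQle N (hPQ h)) hs
    · exact h
  have hall : ∀ q ∈ minimalPrimes T, ∃ N, Q N = q := by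
    intro q hq
    obtain ⟨N, hN, hqN⟩ := Ideal.exists_le_maximal q hq.1.1.ne_top
    refine ⟨⟨N, hN⟩, ?_⟩
    have hle : Q ⟨N, hN⟩ ≤ q := by
      intro t ht
      obtain ⟨s, hs, hst⟩ := (hmem ⟨N, hN⟩ t).mp ht
      have : s * t ∈ q := by rw [hst]; exact zero_mem _
      exact (hq.1.1.mem_or_mem this).resolve_left (fun h => hs (hqN h))
    exact le_antisymm hle (hq.2 ⟨hQprime _, bot_le⟩ hle)
  have hinj : Function.Injective Q := by
    intro N₁ N₂ h
    by_contra hne
    obtain ⟨e, he⟩ := hbij.2 (Pi.single N₁ 1)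
    have h1 : algebraMap T (Localization.AtPrime N₁.asIdeal) e = 1 := by
      have := congrFun he N₁
      rw [Pi.single_eq_same] at this
      exact this
    have h2 : algebraMap T (Localization.AtPrime N₂.asIdeal) e = 0 := by
      have := congrFun he N₂
      rw [Pi.single_eq_of_ne (Ne.symm hne)] at this
      exact this
    have h3 : e ∈ Q N₂ := h2
    rw [← h] at h3
    have h4 : algebraMap T (Localization.AtPrime N₁.asIdeal) e = 0 := h3
    rw [h1] at h4
    haveI := hdom N₁
    exact one_ne_zero h4
  have himg : minimalPrimes T = Set.range Q := by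
    ext q
    constructor
    · intro hq
      obtain ⟨N, rfl⟩ := hall q hq
      exact ⟨N, rfl⟩
    · rintro ⟨N, rfl⟩
      exact hQmin N
  rw [himg, ← Set.image_univ, Set.InjOn.ncard_image hinj.injOn, Set.ncard_univ]

end ProdDomains

section DimOne

/-- in a reduced ring, an element outside all minimal primes is a non-zero-divisor. -/
theorem mem_nonZeroDivisors_of_forall_notMem {R : Type*} [CommRing R] [IsReduced R] (x : R)
    (h : ∀ q ∈ minimalPrimes R, x ∉ q) : x ∈ nonZeroDivisors R := by
  rw [mem_nonZeroDivisors_iff_right]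
  intro y hy
  have hInf : sInf (minimalPrimes R) = (⊥ : Ideal R) := by
    have := Ideal.sInf_minimalPrimes (I := (⊥ : Ideal R))
    rw [show (⊥ : Ideal R).radical = nilradical R from rfl, nilradical_eq_zero] at this
    exact this
  have : y ∈ sInf (minimalPrimes R) := by
    rw [Submodule.mem_sInf]
    intro q hq
    have : y * x ∈ q := hy ▸ q.zero_mem
    exact (hq.1.1.mem_or_mem this).resolve_right (h q hq)
  rwa [hInf] at this

/-- a reduced Noetherian local ring of dimension one has a non-zero-divisor in its maximal ideal. -/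
theorem exists_nonZeroDivisor_mem_maximalIdeal (A : Type*) [CommRing A] [IsNoetherianRing A]
    [IsLocalRing A] [IsReduced A] (hdim : ringKrullDim A = 1) :
    ∃ x ∈ maximalIdeal A, x ∈ nonZeroDivisors A := by
  classical
  have hfin : (minimalPrimes A).Finite := minimalPrimes.finite_of_isNoetherianRing A
  have hm : maximalIdeal A ∉ minimalPrimes A := by
    intro hmin
    have h0 : (maximalIdeal A).height = 0 := Ideal.height_eq_zero_iff.mpr hmin
    have h1 : ((maximalIdeal A).height : WithBot ℕ∞) = 1 := by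
      rw [IsLocalRing.maximalIdeal_height_eq_ringKrullDim, hdim]
    rw [h0] at h1
    exact absurd h1 (by decide)
  by_contra hcon
  push Not at hcon
  have hsub : ((maximalIdeal A : Ideal A) : Set A) ⊆ ⋃ i ∈ (↑hfin.toFinset : Set (Ideal A)), (i : Set A) := by
    intro x hx
    have hx' := hcon x hx
    by_contra hnot
    apply hx'
    apply mem_nonZeroDivisors_of_forall_notMem
    intro q hq hxq
    apply hnot
    rw [Set.mem_iUnion₂]
    exact ⟨q, by simpa using hq, hxq⟩
  have := (Ideal.subset_union_prime (R := A) (s := hfin.toFinset) (f := fun i => i) (maximalIdeal A)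
    (maximalIdeal A) (fun i hi _ _ => by
      have : i ∈ minimalPrimes A := by simpa using hi
      exact this.1.1)).mp hsub
  obtain ⟨p, hp, hle⟩ := this
  have hp' : p ∈ minimalPrimes A := by simpa using hp
  have : p = maximalIdeal A :=
    ((maximalIdeal.isMaximal A).eq_of_le hp'.1.1.ne_top hle).symm
  exact hm (this ▸ hp')

/-- a Noetherian integrally closed local domain of dimension at most one has principal maximal
ideal. -/
theorem exists_maximalIdeal_eq_span {V : Type*} [CommRing V] [IsDomain V] [IsLocalRing V]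
    [IsNoetherianRing V] [IsIntegrallyClosed V] (hdim : ringKrullDim V ≤ 1) :
    ∃ ϖ : V, maximalIdeal V = Ideal.span {ϖ} := by
  haveI : Ring.KrullDimLE 1 V := Ring.krullDimLE_iff.mpr hdim
  have h4 : IsIntegrallyClosed V ∧ ∀ P : Ideal V, P ≠ ⊥ → P.IsPrime → P = maximalIdeal V := by
    refine ⟨inferInstance, fun P hP hPp => ?_⟩
    exact IsLocalRing.eq_maximalIdeal (hPp.isMaximal_of_ne_bot hP)
  have h5 : (maximalIdeal V).IsPrincipal :=
    ((_root_.tfae_of_isNoetherianRing_of_isLocalRing_of_isDomain (R := V)).out 3 4).mp h4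
  exact ⟨_, (Ideal.span_singleton_generator (maximalIdeal V)).symm⟩

end DimOne

section Cond

/-- a module-finite subalgebra of the total ring of fractions has a non-zero-divisor conductor. -/
theorem exists_conductor (A : Type*) [CommRing A] (A' : Subalgebra A (FractionRing A))
    [Module.Finite A A'] :
    ∃ d ∈ nonZeroDivisors A, ∀ x : A', ∃ a : A,
      algebraMap A (FractionRing A) d * (x : FractionRing A) = algebraMap A (FractionRing A) a := by
  classical
  obtain ⟨s, hs⟩ := (Module.Finite.fg_top : (⊤ : Submodule A A').FG)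
  obtain ⟨b, hb⟩ := IsLocalization.exist_integer_multiples_of_finset (nonZeroDivisors A)
    (s.image (fun x : A' => (x : FractionRing A)))
  refine ⟨b.1, b.2, ?_⟩
  intro x
  have hx : x ∈ Submodule.span A (s : Set A') := by rw [hs]; trivial
  induction hx using Submodule.span_induction with
  | mem y hy =>
    obtain ⟨a, ha⟩ := hb (y : FractionRing A) (Finset.mem_image_of_mem _ hy)
    refine ⟨a, ?_⟩
    rw [ha, Algebra.smul_def]
  | zero => exact ⟨0, by simp⟩
  | add y z _ _ hy hz =>
    obtain ⟨a, ha⟩ := hy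
    obtain ⟨a', ha'⟩ := hz
    refine ⟨a + a', ?_⟩
    rw [Subalgebra.coe_add, mul_add, ha, ha', map_add]
  | smul c y _ hy =>
    obtain ⟨a, ha⟩ := hy
    refine ⟨c * a, ?_⟩
    have : ((c • y : A') : FractionRing A) = algebraMap A (FractionRing A) c * (y : FractionRing A) := by
      rw [← Algebra.smul_def]; rfl
    rw [this, map_mul, ← ha]
    ring

end Cond

end Groth.Agent.R2.H57.BranchA
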