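import Mathlib
import Groth.Agent.R2.H57BranchA
import Groth.Agent.Lib.Helper3TensorLocal
import Groth.Agent.Lib.Helper18ComplProd
import Groth.Agent.Lib.Helper4TotalFracFin
import Groth.Agent.Lib.Helper19ComplNoeth
import Groth.Agent.Lib.Helper5IntDim

/-! Number of maximal ideals of the (finite) normalization of a reduced one-dimensional Noetherian
local ring = number of minimal primes of its completion. -/

set_option autoImplicit false
set_option linter.style.haveILetI false

namespace Groth.Agent.R2.H57.BranchB

open IsLocalRing TensorProduct Algebra.TensorProduct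
open Groth.Agent.Lib.Helper3.TensorLocal

universe u

section Count

/- (the next three lemmas are as in `Lib/Helper3Branch`, restated here to avoid its imports) -/

variable {A B S : Type*} [CommRing A] [CommRing B] [CommRing S] [Algebra A B] [Algebra A S]
  [IsLocalRing S] [Algebra.IsIntegral A B]

theorem isMaximal_comap_includeLeft
    (hres : ∀ s : S, ∃ a : A, s - algebraMap A S a ∈ maximalIdeal S)
    (M : Ideal (B ⊗[A] S)) [hM : M.IsMaximal] :
    (M.comap (includeLeftRingHom : B →+* B ⊗[A] S)).IsMaximal := by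
  letI : Field ((B ⊗[A] S) ⧸ M) := Ideal.Quotient.field M
  let f : B →+* (B ⊗[A] S) ⧸ M := (Ideal.Quotient.mk M).comp includeLeftRingHom
  have hsurj : Function.Surjective f := by
    intro y
    obtain ⟨t, rfl⟩ := Ideal.Quotient.mk_surjective y
    obtain ⟨b, hb⟩ := exists_sub_mem_K hres t
    refine ⟨b, ?_⟩
    show Ideal.Quotient.mk M (b ⊗ₜ[A] (1 : S)) = Ideal.Quotient.mk M t
    symm
    rw [Ideal.Quotient.mk_eq_mk_iff_sub_mem]
    exact K_le_of_isMaximal M hb
  have hker : M.comap (includeLeftRingHom : B →+* B ⊗[A] S) = RingHom.ker f := by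
    ext b
    rw [RingHom.mem_ker, Ideal.mem_comap]
    show _ ↔ Ideal.Quotient.mk M _ = 0
    rw [Ideal.Quotient.eq_zero_iff_mem]
  rw [hker]
  exact RingHom.ker_isMaximal_of_surjective f hsurj

theorem comap_includeLeft_injective
    (hres : ∀ s : S, ∃ a : A, s - algebraMap A S a ∈ maximalIdeal S)
    (M₁ M₂ : Ideal (B ⊗[A] S)) [M₁.IsMaximal] [M₂.IsMaximal]
    (h : M₁.comap (includeLeftRingHom : B →+* B ⊗[A] S) = M₂.comap includeLeftRingHom) :
    M₁ = M₂ := by
  have key : ∀ (N₁ N₂ : Ideal (B ⊗[A] S)) [N₁.IsMaximal] [N₂.IsMaximal],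
      N₁.comap (includeLeftRingHom : B →+* B ⊗[A] S) = N₂.comap includeLeftRingHom → N₁ ≤ N₂ := by
    intro N₁ N₂ _ _ h t ht
    obtain ⟨b, hb⟩ := exists_sub_mem_K hres t
    have h1 : b ⊗ₜ[A] (1 : S) ∈ N₁ := by
      have := sub_mem ht (K_le_of_isMaximal N₁ hb)
      simpa using this
    have h2 : b ∈ N₁.comap (includeLeftRingHom : B →+* B ⊗[A] S) := h1
    rw [h] at h2
    have h3 : b ⊗ₜ[A] (1 : S) ∈ N₂ := h2
    have := add_mem (K_le_of_isMaximal N₂ hb) h3
    simpa using this
  exact le_antisymm (key M₁ M₂ h) (key M₂ M₁ h.symm)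

theorem exists_isMaximal_comap_includeLeft [Module.FaithfullyFlat A S]
    (m' : Ideal B) [hm' : m'.IsMaximal] :
    ∃ M : Ideal (B ⊗[A] S), M.IsMaximal ∧ M.comap (includeLeftRingHom : B →+* B ⊗[A] S) = m' := by
  have hne : Ideal.map (algebraMap B (B ⊗[A] S)) m' ≠ ⊤ := by
    intro htop
    have h1 := Module.FaithfullyFlat.submodule_ne_top (R := B) (M := B ⊗[A] S) hm'
    apply h1
    rw [Ideal.smul_top_eq_map, htop]
    rfl
  obtain ⟨M, hM, hle⟩ := Ideal.exists_le_maximal _ hne
  refine ⟨M, hM, ?_⟩
  have h2 : m' ≤ M.comap (includeLeftRingHom : B →+* B ⊗[A] S) := Ideal.le_comap_of_map_le hle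
  have h3 : M.comap (includeLeftRingHom : B →+* B ⊗[A] S) ≠ ⊤ :=
    (Ideal.comap_isPrime _ M).ne_top
  exact (hm'.eq_of_le h3 h2).symm

theorem card_maximalSpectrum_tensor [Module.FaithfullyFlat A S]
    (hres : ∀ s : S, ∃ a : A, s - algebraMap A S a ∈ maximalIdeal S) :
    Nat.card (MaximalSpectrum (B ⊗[A] S)) = Nat.card (MaximalSpectrum B) := by
  let F : MaximalSpectrum (B ⊗[A] S) → MaximalSpectrum B := fun M =>
    ⟨M.asIdeal.comap (includeLeftRingHom : B →+* B ⊗[A] S),
      haveI := M.isMaximal; isMaximal_comap_includeLeft hres M.asIdeal⟩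
  refine Nat.card_congr (Equiv.ofBijective F ⟨?_, ?_⟩)
  · intro M₁ M₂ h
    haveI := M₁.isMaximal
    haveI := M₂.isMaximal
    apply MaximalSpectrum.ext
    exact comap_includeLeft_injective hres _ _ (congrArg MaximalSpectrum.asIdeal h)
  · intro m'
    haveI := m'.isMaximal
    obtain ⟨M, hM, hM'⟩ := exists_isMaximal_comap_includeLeft (A := A) (S := S) m'.asIdeal
    exact ⟨⟨M, hM⟩, MaximalSpectrum.ext hM'⟩

/-- a maximal ideal of `B ⊗[A] S` is extended from its contraction to `B`, when `m_S` is extended from
an ideal of `A` contained in that contraction. -/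
theorem eq_map_comap_includeLeft
    (hres : ∀ s : S, ∃ a : A, s - algebraMap A S a ∈ maximalIdeal S)
    (I : Ideal A) (hI : maximalIdeal S = I.map (algebraMap A S))
    (N : Ideal (B ⊗[A] S)) [N.IsMaximal] :
    N = (N.comap (includeLeftRingHom : B →+* B ⊗[A] S)).map includeLeftRingHom := by
  apply le_antisymm _ Ideal.map_comap_le
  have hK : K A B S ≤ (N.comap (includeLeftRingHom : B →+* B ⊗[A] S)).map includeLeftRingHom := by
    rw [K, hI, Ideal.map_map, Ideal.map_le_iff_le_comap]
    intro a ha
    rw [Ideal.mem_comap]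
    have h1 : ((includeRight : S →ₐ[A] B ⊗[A] S).toRingHom.comp (algebraMap A S)) a =
        (includeLeftRingHom : B →+* B ⊗[A] S) (algebraMap A B a) := by
      rw [← RingHom.comp_apply, Algebra.TensorProduct.includeLeftRingHom_comp_algebraMap]
    rw [h1]
    apply Ideal.mem_map_of_mem
    rw [Ideal.mem_comap, ← h1]
    apply K_le_of_isMaximal N
    exact Ideal.mem_map_of_mem _ (by rw [hI]; exact Ideal.mem_map_of_mem _ ha)
  intro t ht
  obtain ⟨b, hb⟩ := exists_sub_mem_K hres t
  have h1 : b ⊗ₜ[A] (1 : S) ∈ N := by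
    have := sub_mem ht (K_le_of_isMaximal N hb)
    simpa using this
  have h2 : b ⊗ₜ[A] (1 : S) ∈
      (N.comap (includeLeftRingHom : B →+* B ⊗[A] S)).map includeLeftRingHom :=
    Ideal.mem_map_of_mem _ (show b ∈ N.comap (includeLeftRingHom : B →+* B ⊗[A] S) from h1)
  have := add_mem (hK hb) h2
  simpa using this

end Count

section Cpl

variable (A : Type u) [CommRing A] [IsNoetherianRing A] [IsLocalRing A]

local notation "Â" => AdicCompletion (maximalIdeal A) A

instance : IsNoetherianRing Â := Groth.Agent.Lib.Helper19.isNoetherianRing_adicCompletion _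

theorem isAdicComplete_cpl : IsAdicComplete (maximalIdeal Â) Â := by
  have h1 : IsAdicComplete (maximalIdeal A) Â :=
    AdicCompletion.isAdicComplete (IsNoetherian.noetherian _)
  rw [AdicCompletion.maximalIdeal_eq_map]
  exact (IsAdicComplete.map_algebraMap_iff (I := maximalIdeal A) (S := Â) (M := Â)).mpr h1

instance : Module.FaithfullyFlat A Â := Module.FaithfullyFlat.of_flat_of_isLocalHom

/-- the completion has the same residue field. -/
theorem hres_cpl (s : Â) : ∃ a : A, s - algebraMap A Â a ∈ maximalIdeal Â := by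
  let ev : Â →ₐ[A] A ⧸ maximalIdeal A := AdicCompletion.evalOneₐ (maximalIdeal A)
  letI : Field (A ⧸ maximalIdeal A) := Ideal.Quotient.field _
  have hsurj : Function.Surjective ev.toRingHom := AdicCompletion.evalOneₐ_surjective _
  have hker : RingHom.ker ev.toRingHom = maximalIdeal Â :=
    IsLocalRing.eq_maximalIdeal (RingHom.ker_isMaximal_of_surjective _ hsurj)
  obtain ⟨a, ha⟩ := Ideal.Quotient.mk_surjective (ev s)
  refine ⟨a, ?_⟩
  rw [← hker, RingHom.mem_ker]
  show ev (s - algebraMap A Â a) = 0
  rw [map_sub, AlgHom.commutes, ← ha]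
  exact sub_self _

end Cpl

section Norm

variable (A : Type u) [CommRing A] [IsNoetherianRing A] [IsLocalRing A] [IsReduced A]

local notation "A'" => integralClosure A (FractionRing A)

open Groth.Agent.Lib.Helper4 in
theorem localization_normal (M : Ideal A') [M.IsPrime] :
    IsDomain (Localization.AtPrime M) ∧ IsIntegrallyClosed (Localization.AtPrime M) := by
  have hfin : (minimalPrimes A).Finite := minimalPrimes.finite_of_isNoetherianRing A
  haveI : Finite (minimalPrimes A) := hfin.to_subtype
  haveI : ∀ q : minimalPrimes A,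
      IsIntegrallyClosed (integralClosure (A ⧸ q.1) (FractionRing (A ⧸ q.1))) :=
    fun q => TotalFrac.isIntegrallyClosed_integralClosure_field _ _
  let ψ : (integralClosure A (FractionRing A)) ≃+*
      ∀ q : minimalPrimes A, integralClosure (A ⧸ q.1) (FractionRing (A ⧸ q.1)) :=
    TotalFracFin.normPiEquiv hfin
  refine TotalFrac.isDomain_isIntegrallyClosed_localization_of_ringEquiv ψ M ?_
  intro P _
  exact TotalFrac.isDomain_isIntegrallyClosed_localization_pi _ P

theorem ringKrullDim_localization_le (hdim : ringKrullDim A = 1) (M : Ideal A') [M.IsPrime]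
    (V : Type*) [CommRing V] [Algebra A' V] [IsLocalization.AtPrime V M] :
    ringKrullDim V ≤ 1 := by
  rw [IsLocalization.AtPrime.ringKrullDim_eq_height M V]
  calc (M.height : WithBot ℕ∞) ≤ ringKrullDim A' := Ideal.height_le_ringKrullDim_of_isPrime
    _ ≤ ringKrullDim A := Groth.Agent.Lib.Helper5.ringKrullDim_le_of_isIntegral A A'
    _ = 1 := hdim

theorem comap_eq_maximalIdeal (M : Ideal A') [M.IsMaximal] :
    M.comap (algebraMap A A') = maximalIdeal A :=
  IsLocalRing.eq_maximalIdeal (Ideal.isMaximal_comap_of_isIntegral_of_isMaximal M)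

/-- the local ring of the normalization at a maximal ideal has principal maximal ideal with a
nonzero generator. -/
theorem exists_uniformizer (hdim : ringKrullDim A = 1) (hfin : Module.Finite A A')
    (M : Ideal A') [M.IsMaximal] :
    ∃ ϖ : Localization.AtPrime M,
      maximalIdeal (Localization.AtPrime M) = Ideal.span {ϖ} ∧ ϖ ≠ 0 := by
  obtain ⟨hdom, hic⟩ := localization_normal A M
  haveI := hdom
  haveI := hic
  haveI : IsNoetherianRing A' := IsNoetherianRing.of_finite A A'
  haveI : IsNoetherianRing (Localization.AtPrime M) :=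
    IsLocalization.isNoetherianRing M.primeCompl _ inferInstance
  obtain ⟨ϖ, hϖ⟩ := BranchA.exists_maximalIdeal_eq_span
    (ringKrullDim_localization_le A hdim M (Localization.AtPrime M))
  refine ⟨ϖ, hϖ, ?_⟩
  rintro rfl
  obtain ⟨x, hxm, hx⟩ := BranchA.exists_nonZeroDivisor_mem_maximalIdeal A hdim
  have hxM : algebraMap A A' x ∈ M := by
    have : x ∈ M.comap (algebraMap A A') := by rw [comap_eq_maximalIdeal A M]; exact hxm
    exact this
  have h1 : algebraMap A' (Localization.AtPrime M) (algebraMap A A' x) ∈
      maximalIdeal (Localization.AtPrime M) := by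
    rw [← Localization.AtPrime.map_eq_maximalIdeal]
    exact Ideal.mem_map_of_mem _ hxM
  rw [hϖ, Ideal.span_singleton_eq_bot.mpr rfl, Ideal.mem_bot,
    IsLocalization.map_eq_zero_iff M.primeCompl] at h1
  obtain ⟨⟨s, hs⟩, hsx⟩ := h1
  apply hs
  have h2 : (s : FractionRing A) * algebraMap A (FractionRing A) x = 0 := by
    have := congrArg (fun y : A' => (y : FractionRing A)) hsx
    simpa using this
  have hu : IsUnit (algebraMap A (FractionRing A) x) :=
    IsLocalization.map_units (FractionRing A) (⟨x, hx⟩ : nonZeroDivisors A)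
  have h3 : (s : FractionRing A) = 0 := by
    rwa [hu.mul_left_eq_zero] at h2
  have h4 : s = 0 := Subtype.ext h3
  rw [h4]
  exact zero_mem _

end Norm

section Dom

variable {A B S : Type u} [CommRing A] [CommRing B] [CommRing S] [Algebra A B] [Algebra A S]
  [IsLocalRing S] [Algebra.IsIntegral A B] [Module.Flat A S]

/-- the local rings of `B ⊗ S` at maximal ideals are domains, when the corresponding local rings of
`B` are domains with principal maximal ideal (nonzero generator), `S` is flat with the same residue field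
and `m_S` extended from `A`. -/
theorem isDomain_localization_tensor
    (hres : ∀ s : S, ∃ a : A, s - algebraMap A S a ∈ maximalIdeal S)
    (I : Ideal A) (hI : maximalIdeal S = I.map (algebraMap A S))
    (N : Ideal (B ⊗[A] S)) [hN : N.IsMaximal] [hnoeth : IsNoetherianRing (Localization.AtPrime N)]
    (M : Ideal B) [hMmax : M.IsMaximal] (hM : M = N.comap (includeLeftRingHom : B →+* B ⊗[A] S))
    [hdomV : IsDomain (Localization.AtPrime M)]
    (ϖ : Localization.AtPrime M) (hϖ : maximalIdeal (Localization.AtPrime M) = Ideal.span {ϖ})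
    (hϖ0 : ϖ ≠ 0) :
    IsDomain (Localization.AtPrime N) := by
  let ρ : Localization.AtPrime M →+* Localization.AtPrime N :=
    Localization.localRingHom M N includeLeftRingHom hM
  -- `N` is extended from `M`
  have hNM : N = M.map (includeLeftRingHom : B →+* B ⊗[A] S) := by
    rw [hM]
    exact eq_map_comap_includeLeft hres I hI N
  have hcomp : (algebraMap (B ⊗[A] S) (Localization.AtPrime N)).comp includeLeftRingHom =
      ρ.comp (algebraMap B (Localization.AtPrime M)) := by
    ext x
    exact (Localization.localRingHom_to_map M N includeLeftRingHom hM x).symm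
  -- the maximal ideal of `T_N`
  have hmax : maximalIdeal (Localization.AtPrime N) = Ideal.span {ρ ϖ} := by
    rw [← Localization.AtPrime.map_eq_maximalIdeal (I := N)]
    have h1 := congrArg (Ideal.map (algebraMap (B ⊗[A] S) (Localization.AtPrime N))) hNM
    rw [h1, Ideal.map_map, hcomp, ← Ideal.map_map, Localization.AtPrime.map_eq_maximalIdeal, hϖ,
      Ideal.map_span, Set.image_singleton]
  -- `ρ` is injective
  have hρinj : Function.Injective ρ := by
    letI : Algebra (Localization.AtPrime M) (Localization.AtPrime N) := ρ.toAlgebra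
    haveI : IsScalarTower B (Localization.AtPrime M) (Localization.AtPrime N) :=
      IsScalarTower.of_algebraMap_eq' (by
        rw [IsScalarTower.algebraMap_eq B (B ⊗[A] S) (Localization.AtPrime N)]
        exact hcomp)
    haveI : Module.Flat B (Localization.AtPrime N) :=
      Module.Flat.trans B (B ⊗[A] S) (Localization.AtPrime N)
    haveI : Module.Flat (Localization.AtPrime M) (Localization.AtPrime N) :=
      (Module.flat_iff_of_isLocalization (Localization.AtPrime M) M.primeCompl
        (Localization.AtPrime N)).mpr inferInstance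
    haveI : IsLocalHom (algebraMap (Localization.AtPrime M) (Localization.AtPrime N)) :=
      Localization.isLocalHom_localRingHom M N _ hM
    haveI : Module.FaithfullyFlat (Localization.AtPrime M) (Localization.AtPrime N) :=
      Module.FaithfullyFlat.of_flat_of_isLocalHom
    exact FaithfulSMul.algebraMap_injective _ _
  apply BranchA.isDomain_of_maximalIdeal_eq_span (ρ ϖ) hmax
  rintro ⟨n, hn⟩
  rw [← map_pow, map_eq_zero_iff ρ hρinj] at hn
  exact hϖ0 (eq_zero_of_pow_eq_zero hn)

end Dom

end Groth.Agent.R2.H57.BranchB
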