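import Mathlib
import Groth.Agent.R2.H57BranchB

/-! Number of maximal ideals of a finite birational extension `B` of a Noetherian local ring `A` whose
local rings are "DVR-like" = number of minimal primes of the completion of `A`. -/

set_option autoImplicit false
set_option linter.style.haveILetI false

namespace Groth.Agent.R2.H57.BranchC

open IsLocalRing TensorProduct Algebra.TensorProduct
open Groth.Agent.Lib.Helper3.TensorLocal
open Groth.Agent.R2.H57.BranchB

universe u

variable (A : Type u) [CommRing A] [IsNoetherianRing A] [IsLocalRing A]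
  (B : Type u) [CommRing B] [Algebra A B] [Module.Finite A B]

local notation "Â" => AdicCompletion (maximalIdeal A) A

theorem ncard_minimalPrimes_cpl_eq
    (hinjAB : Function.Injective (algebraMap A B))
    (d : A) (hd : algebraMap A B d ∈ nonZeroDivisors B)
    (hcond : ∀ b : B, ∃ a : A, algebraMap A B d * b = algebraMap A B a)
    (hloc : ∀ (M : Ideal B) [M.IsMaximal], IsDomain (Localization.AtPrime M) ∧
      ∃ ϖ : Localization.AtPrime M,
        maximalIdeal (Localization.AtPrime M) = Ideal.span {ϖ} ∧ ϖ ≠ 0) :
    (minimalPrimes Â).ncard = Nat.card (MaximalSpectrum B) := by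
  haveI : Algebra.IsIntegral A B := Algebra.IsIntegral.of_finite A B
  letI : Algebra Â (B ⊗[A] Â) := Algebra.TensorProduct.rightAlgebra
  haveI : Module.Finite Â (B ⊗[A] Â) :=
    Module.Finite.of_surjective (Algebra.TensorProduct.commRight A Â B).toLinearMap
      (Algebra.TensorProduct.commRight A Â B).surjective
  haveI := isAdicComplete_cpl A
  obtain ⟨-, hbij, hN⟩ := Groth.Agent.Lib.Helper18ComplProd.main Â (B ⊗[A] Â)
  have hdom : ∀ m : MaximalSpectrum (B ⊗[A] Â), IsDomain (Localization.AtPrime m.asIdeal) := by
    intro m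
    haveI := m.isMaximal
    haveI := (hN m).1
    haveI hMmax : (m.asIdeal.comap (includeLeftRingHom : B →+* B ⊗[A] Â)).IsMaximal :=
      isMaximal_comap_includeLeft (hres_cpl A) m.asIdeal
    obtain ⟨hdomV, ϖ, hϖ, hϖ0⟩ := hloc (m.asIdeal.comap (includeLeftRingHom : B →+* B ⊗[A] Â))
    haveI := hdomV
    exact isDomain_localization_tensor (hres_cpl A) (maximalIdeal A)
      AdicCompletion.maximalIdeal_eq_map m.asIdeal _ rfl ϖ hϖ hϖ0
  have h1 := BranchA.ncard_minimalPrimes_eq_card_maximalSpectrum hbij hdom
  have h2 := card_maximalSpectrum_tensor (A := A) (B := B) (S := Â) (hres_cpl A)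
  have h3 : (minimalPrimes Â).ncard = (minimalPrimes (B ⊗[A] Â)).ncard := by
    refine BranchA.ncard_minimalPrimes_eq (includeRight : Â →ₐ[A] B ⊗[A] Â).toRingHom ?_
      includeRight_isIntegral (algebraMap A Â d) ?_ ?_
    · -- injectivity
      exact Algebra.TensorProduct.includeRight_injective hinjAB
    · -- non-zero-divisor
      have hmul : Function.Injective (LinearMap.mulLeft A (algebraMap A B d)) := by
        intro x y hxy
        have h0 : algebraMap A B d * (x - y) = 0 := by
          rw [mul_sub]; exact sub_eq_zero.mpr hxy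
        exact sub_eq_zero.mp ((mem_nonZeroDivisors_iff.mp hd).1 _ h0)
      have hinj2 := Module.Flat.rTensor_preserves_injective_linearMap (M := Â)
        (LinearMap.mulLeft A (algebraMap A B d)) hmul
      have hkey : ∀ t : B ⊗[A] Â,
          (includeRight : Â →ₐ[A] B ⊗[A] Â).toRingHom (algebraMap A Â d) * t =
            LinearMap.rTensor Â (LinearMap.mulLeft A (algebraMap A B d)) t := by
        intro t
        have h1 : (includeRight : Â →ₐ[A] B ⊗[A] Â).toRingHom (algebraMap A Â d) =
            (algebraMap A B d) ⊗ₜ[A] (1 : Â) := by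
          show (1 : B) ⊗ₜ[A] (algebraMap A Â d) = _
          rw [Algebra.algebraMap_eq_smul_one, Algebra.algebraMap_eq_smul_one,
            TensorProduct.tmul_smul, TensorProduct.smul_tmul']
        rw [h1]
        induction t with
        | zero => simp
        | tmul b s => simp
        | add x y hx hy => rw [mul_add, hx, hy, map_add]
      rw [mem_nonZeroDivisors_iff]
      have : ∀ t : B ⊗[A] Â,
          (includeRight : Â →ₐ[A] B ⊗[A] Â).toRingHom (algebraMap A Â d) * t = 0 → t = 0 := by
        intro t ht
        rw [hkey] at ht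
        exact hinj2 (by rw [ht, map_zero])
      refine ⟨this, fun t ht => this t (by rw [mul_comm]; exact ht)⟩
    · -- conductor
      intro t
      induction t with
      | zero => exact ⟨0, by simp⟩
      | tmul b s =>
        obtain ⟨a, ha⟩ := hcond b
        refine ⟨algebraMap A Â a * s, ?_⟩
        show ((1 : B) ⊗ₜ[A] (algebraMap A Â d)) * (b ⊗ₜ[A] s) =
          (1 : B) ⊗ₜ[A] (algebraMap A Â a * s)
        rw [Algebra.TensorProduct.tmul_mul_tmul, one_mul, ← Algebra.smul_def, ← Algebra.smul_def,
          TensorProduct.tmul_smul, TensorProduct.tmul_smul, TensorProduct.smul_tmul',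
          TensorProduct.smul_tmul', Algebra.smul_def, ha, Algebra.smul_def, mul_one]
      | add x y hx hy =>
        obtain ⟨c₁, h₁⟩ := hx
        obtain ⟨c₂, h₂⟩ := hy
        exact ⟨c₁ + c₂, by rw [mul_add, h₁, h₂, map_add]⟩
  rw [h3, h1, h2]

end Groth.Agent.R2.H57.BranchC
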