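import Mathlib

/-!
# PROJ:chev-int — Chevalley's theorem for integral (universally closed) surjections, non-Noetherian
(helper96).  Interface file.

Target: S0593 (`f : X ⟶ S` surjective universally closed, `X` affine ⟹ `S` affine; Stacks 05YU / 01ZT),
consumers S7499 (Grpd), S13712 (ZeroCyc, TOP), ...

Plan (Stacks, Limits 32.11.2, slightly rearranged so that only ONE factorization is needed):
0. `S` is quasi-compact and separated (`Lib/Helper1ProperOver.isSeparated_of_comp_surjective`).
1. [FIN] there is a FINITE surjective `h : Z ⟶ S` with `Z` affine: by prior S7383 (`X = lim X_a` over `S`,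
   `X_a ⟶ S` of finite presentation, affine transitions) and Mathlib `Scheme.exists_isAffine_of_isLimit`
   some `X' := X_a` is affine; `Z :=` scheme-theoretic image of `X ⟶ X'` (closed in `X'`, so affine);
   `X ⟶ Z` is dominant and universally closed (`X' ⟶ S` is separated as `X'` is affine), hence surjective,
   so `Z ⟶ S` is universally closed (`UniversallyClosed.of_comp_surjective`), affine (`S` separated, `Z`
   affine), of finite type: finite (`IsFinite.iff_isProper_and_isAffineHom` or integral + finite type).
2. [FP] we may take `h` of finite presentation: prior S7381 (`Z = lim Z_b`, `Z_b ⟶ S` finite f.p., closed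
   immersions as transition maps) + `Scheme.exists_isAffine_of_isLimit`; `Z_b ⟶ S` is surjective because
   `Z ⟶ S` factors through it.
3. [STAGE] if `S = lim S_i` (cofiltered, affine transitions, qcqs stages), `h` descends to a finite
   surjective `h_i : Z_i ⟶ S_i` with `Z_i` affine: prior S0591 (descent of f.p. morphisms),
   `R2/H44LimSp.isLimitPbCone` (`Z = lim_j Z_i ×_{S_i} S_j`), `Scheme.exists_isAffine_of_isLimit`,
   prior S9187 (finiteness at a stage); surjectivity: the complement `U` of the closed image of
   `Z_j ⟶ S_j` has empty preimage in `S`, hence in some `S_k` (`Scheme.nonempty_of_isLimit` on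
   `isLimitOpensCone`/`pbFunctor`), and finite/affine/surjective are stable under the base change to `S_k`.
4. [DESC] (helper96) prior S0590 (`S = lim S_i`, `S_i` of finite type over `ℤ`) + [STAGE] + S0021
   (Noetherian Chevalley) + `isAffineHom_π_app`.
-/

set_option autoImplicit false
universe u

open CategoryTheory CategoryTheory.Limits AlgebraicGeometry

namespace Groth.Agent.R2.H96.ChevIntSpec

/-- **[FIN]** step 1. -/
def FinStmt : Prop :=
  ∀ {X S : Scheme.{u}} (f : X ⟶ S) [IsAffine X] [Surjective f] [UniversallyClosed f]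
    [S.IsSeparated] [CompactSpace S],
    ∃ (Z : Scheme.{u}) (h : Z ⟶ S), IsAffine Z ∧ IsFinite h ∧ Surjective h

/-- **[FP]** step 2. -/
def FpStmt : Prop :=
  ∀ {Z S : Scheme.{u}} (h : Z ⟶ S) [IsAffine Z] [IsFinite h] [Surjective h] [CompactSpace S]
    [QuasiSeparatedSpace S],
    ∃ (Z' : Scheme.{u}) (h' : Z' ⟶ S), IsAffine Z' ∧ IsFinite h' ∧
      LocallyOfFinitePresentation h' ∧ Surjective h'

/-- **[STAGE]** step 3. -/
def StageStmt : Prop :=
  ∀ {I : Type u} [SmallCategory I] [IsCofiltered I] (D : I ⥤ Scheme.{u}) (c : Cone D)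
    (_ : IsLimit c) [∀ (i j : I) (a : i ⟶ j), IsAffineHom (D.map a)]
    [∀ i, CompactSpace (D.obj i)] [∀ i, QuasiSeparatedSpace (D.obj i)]
    {Z : Scheme.{u}} (h : Z ⟶ c.pt) [IsAffine Z] [IsFinite h] [LocallyOfFinitePresentation h]
    [Surjective h],
    ∃ (i : I) (Zi : Scheme.{u}) (hi : Zi ⟶ D.obj i), IsAffine Zi ∧ IsFinite hi ∧ Surjective hi

/-- **[DESC]** step 4 (helper96). -/
def DescStmt : Prop :=
  StageStmt.{u} →
    ∀ {Z S : Scheme.{u}} (h : Z ⟶ S) [IsAffine Z] [IsFinite h] [LocallyOfFinitePresentation h]
      [Surjective h] [CompactSpace S] [QuasiSeparatedSpace S], IsAffine S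

/-- the goal (= S0593). -/
def ChevIntStmt : Prop :=
  ∀ (X S : Scheme.{u}) (f : X ⟶ S) [IsAffine X] [Surjective f] [UniversallyClosed f], IsAffine S

end Groth.Agent.R2.H96.ChevIntSpec
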