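import Mathlib
import Groth.Agent.S7383
import Groth.Agent.S7381
import Groth.Agent.R2.H96ChevIntSpec

/-!
# PROJ:chev-int, packages [FIN] and [FP] (helper57)

* `exists_isAffine_stage`: a cofiltered limit in `Over S` of qcqs `S`-schemes with affine transition maps
  whose limit is affine has an affine stage.
* `finStmt : ChevIntSpec.FinStmt`: `f : X ⟶ S` surjective universally closed, `X` affine, `S` separated and
  quasi-compact ⟹ there is a finite surjective `Z ⟶ S` with `Z` affine.
* `fpStmt : ChevIntSpec.FpStmt`: a finite surjective `Z ⟶ S` with `Z` affine, `S` qcqs, may be replaced by one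
  that is moreover of finite presentation.
-/

set_option autoImplicit false
universe u

open CategoryTheory CategoryTheory.Limits AlgebraicGeometry

namespace Groth.Agent.R2.H57.ChevFin

open Groth.Agent.R2.H96.ChevIntSpec

/-- an affine stage of a directed inverse system over `S` with affine limit -/
theorem exists_isAffine_stage {S T : Scheme.{u}} (t : T ⟶ S) [IsAffine T]
    {I : Type u} [Preorder I] [IsDirected I (fun a b => a ≤ b)] [Nonempty I]
    (D : Iᵒᵖ ⥤ Over S) (c : Cone D) (hc : IsLimit c)
    (hcpt : ∀ i, CompactSpace (D.obj i).left) (hqs : ∀ i, QuasiSeparatedSpace (D.obj i).left)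
    (haff : ∀ (i j : Iᵒᵖ) (a : i ⟶ j), IsAffineHom (D.map a).left)
    (e : c.pt ≅ Over.mk t) :
    ∃ (i : Iᵒᵖ) (p : T ⟶ (D.obj i).left), IsAffine (D.obj i).left ∧ p ≫ (D.obj i).hom = t := by
  haveI : IsCofiltered Iᵒᵖ := inferInstance
  haveI : IsConnected Iᵒᵖ := IsCofiltered.isConnected _
  have hc' : IsLimit ((Over.forget S).mapCone c) := isLimitOfPreserves (Over.forget S) hc
  haveI : ∀ {i j : Iᵒᵖ} (a : i ⟶ j), IsAffineHom ((D ⋙ Over.forget S).map a) :=
    fun {i j} a => haff i j a
  haveI : ∀ i : Iᵒᵖ, CompactSpace ((D ⋙ Over.forget S).obj i) := fun i => hcpt i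
  haveI : ∀ i : Iᵒᵖ, QuasiSeparatedSpace ((D ⋙ Over.forget S).obj i) := fun i => hqs i
  haveI : IsAffine ((Over.forget S).obj (Over.mk t)) := ‹IsAffine T›
  haveI : IsAffine ((Over.forget S).mapCone c).pt := by
    change IsAffine c.pt.left
    exact IsAffine.of_isIso ((Over.forget S).mapIso e).hom
  obtain ⟨i, hi⟩ := Scheme.exists_isAffine_of_isLimit (D ⋙ Over.forget S)
    ((Over.forget S).mapCone c) hc'
  refine ⟨i, e.inv.left ≫ (c.π.app i).left, hi, ?_⟩
  rw [Category.assoc, Over.w (c.π.app i)]
  exact Over.w e.inv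

/-- **[FIN]** -/
theorem finStmt : FinStmt.{u} := by
  intro X S f _ _ _ _ _
  obtain ⟨I, _, _, _, D, c, hc, hD, haff, ⟨e⟩⟩ := Groth.Agent.S7383.result f
  obtain ⟨i, p, hi, hp⟩ := exists_isAffine_stage f D c hc
    (fun i => by
      haveI := (hD i).2.1
      exact QuasiCompact.compactSpace_of_compactSpace (D.obj i).hom)
    (fun i => by
      haveI := (hD i).2.2
      exact quasiSeparatedSpace_of_quasiSeparated (D.obj i).hom)
    haff e
  haveI := hi
  set g : (D.obj i).left ⟶ S := (D.obj i).hom with hg
  haveI : LocallyOfFinitePresentation g := (hD i).1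
  haveI : UniversallyClosed (p ≫ g) := by rw [hp]; infer_instance
  haveI : UniversallyClosed p := UniversallyClosed.of_comp_of_isSeparated p g
  haveI : QuasiCompact p := inferInstance
  -- the scheme-theoretic image
  refine ⟨p.image, p.imageι ≫ g, ?_, ?_, ?_⟩
  · exact isAffine_of_isAffineHom p.imageι
  · haveI : Surjective p.toImage := inferInstance
    haveI : UniversallyClosed (p.toImage ≫ (p.imageι ≫ g)) := by
      rw [← Category.assoc, Scheme.Hom.toImage_imageι]; infer_instance
    haveI : UniversallyClosed (p.imageι ≫ g) :=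
      UniversallyClosed.of_comp_surjective p.toImage (p.imageι ≫ g)
    haveI : IsAffine p.image := isAffine_of_isAffineHom p.imageι
    haveI : IsAffineHom ((p.imageι ≫ g) ≫ terminal.from S) := inferInstance
    haveI : IsAffineHom (p.imageι ≫ g) := IsAffineHom.of_comp _ (terminal.from S)
    haveI : LocallyOfFiniteType (p.imageι ≫ g) := inferInstance
    rw [IsFinite.iff_isProper_and_isAffineHom]
    exact ⟨{ }, inferInstance⟩
  · haveI : Surjective (p.toImage ≫ (p.imageι ≫ g)) := by
      rw [← Category.assoc, Scheme.Hom.toImage_imageι, hp]; infer_instance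
    exact Surjective.of_comp p.toImage (p.imageι ≫ g)

/-- **[FP]** -/
theorem fpStmt : FpStmt.{u} := by
  intro Z S h _ _ _ _ _
  obtain ⟨I, _, _, _, D, c, hc, hD, hcl, ⟨e⟩⟩ := Groth.Agent.S7381.result h
  obtain ⟨i, p, hi, hp⟩ := exists_isAffine_stage h D c hc
    (fun i => by
      haveI := (hD i).1
      exact QuasiCompact.compactSpace_of_compactSpace (D.obj i).hom)
    (fun i => by
      haveI := (hD i).1
      exact quasiSeparatedSpace_of_quasiSeparated (D.obj i).hom)
    (fun i j a => by
      haveI := hcl i j a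
      infer_instance) e
  refine ⟨(D.obj i).left, (D.obj i).hom, hi, (hD i).1, (hD i).2, ?_⟩
  haveI : Surjective (p ≫ (D.obj i).hom) := by rw [hp]; infer_instance
  exact Surjective.of_comp p (D.obj i).hom

end Groth.Agent.R2.H57.ChevFin
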