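import Mathlib

/-! A Zariski-local predicate on morphisms from affine schemes to `X` which on every affine open of
`X` is cut out by an ideal is represented by a closed subscheme. -/

set_option autoImplicit false

namespace Groth.Agent.R2.H57.ClosedFun

open AlgebraicGeometry CategoryTheory Opposite TopologicalSpace

universe u

variable {X : Scheme.{u}}

/-- the localization map `B ⟶ Γ(Spec B, D(b))`. -/
noncomputable def toBasic (B : CommRingCat.{u}) (b : B) :
    B ⟶ Γ(Spec B, (Spec B).basicOpen ((Scheme.ΓSpecIso B).inv b)) :=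
  (Scheme.ΓSpecIso B).inv ≫ (Spec B).presheaf.map (homOfLE le_top).op

lemma isAffineOpen_basic (B : CommRingCat.{u}) (b : B) :
    IsAffineOpen ((Spec B).basicOpen ((Scheme.ΓSpecIso B).inv b)) :=
  (isAffineOpen_top (Spec B)).basicOpen _

lemma fromSpec_basic (B : CommRingCat.{u}) (b : B) :
    (isAffineOpen_basic B b).fromSpec = Spec.map (toBasic B b) := by
  have h := (isAffineOpen_basic B b).fromSpec_toSpecΓ
  rw [← SpecMap_ΓSpecIso_hom] at h
  have h2 : (isAffineOpen_basic B b).fromSpec =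
      Spec.map ((Spec B).presheaf.map (homOfLE le_top).op) ≫ Spec.map (Scheme.ΓSpecIso B).inv := by
    rw [← h, Category.assoc, ← Spec.map_comp, Iso.inv_hom_id, Spec.map_id, Category.comp_id]
  rw [h2, ← Spec.map_comp]
  rfl

lemma isLocalization_toBasic (B : CommRingCat.{u}) (b : B) :
    letI := (toBasic B b).hom.toAlgebra
    IsLocalization.Away b Γ(Spec B, (Spec B).basicOpen ((Scheme.ΓSpecIso B).inv b)) := by
  letI := (toBasic B b).hom.toAlgebra
  haveI := isLocalization_away_of_isAffine (X := Spec B) ((Scheme.ΓSpecIso B).inv b)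
  refine IsLocalization.of_ringEquiv_left (Scheme.ΓSpecIso B).symm.commRingCatIsoToRingEquiv
    (M₁ := Submonoid.powers ((Scheme.ΓSpecIso B).inv b)) ?_ ?_
  · rw [Submonoid.map_powers]
    rfl
  · intro x
    rfl

/-- a predicate on morphisms from affine schemes to `X`. -/
abbrev AffPred (X : Scheme.{u}) := ∀ (B : CommRingCat.{u}), (Spec B ⟶ X) → Prop

/-- **closed subfunctors are closed subschemes**: a predicate on morphisms `Spec B ⟶ X` which is
cut out by an ideal on every affine open of `X`, is stable under base change and Zariski local on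
`Spec B`, is the predicate of factoring through a closed subscheme. -/
theorem exists_closedImmersion (P : AffPred X)
    (h1 : ∀ W : X.affineOpens, ∃ I : Ideal Γ(X, W), ∀ (B : CommRingCat.{u}) (σ : Γ(X, W) ⟶ B),
      P B (Spec.map σ ≫ W.2.fromSpec) ↔ I ≤ RingHom.ker σ.hom)
    (h2 : ∀ (B B' : CommRingCat.{u}) (τ : B ⟶ B') (g : Spec B ⟶ X),
      P B g → P B' (Spec.map τ ≫ g))
    (h3 : ∀ (B : CommRingCat.{u}) (g : Spec B ⟶ X) (s : Set B), Ideal.span s = ⊤ →
      (∀ b ∈ s, ∃ (B' : CommRingCat.{u}) (τ : B ⟶ B'),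
        (letI := τ.hom.toAlgebra; IsLocalization.Away b B') ∧ P B' (Spec.map τ ≫ g)) → P B g) :
    ∃ (Z : Scheme.{u}) (ι : Z ⟶ X), IsClosedImmersion ι ∧
      ∀ (B : CommRingCat.{u}) (g : Spec B ⟶ X), (∃ h : Spec B ⟶ Z, h ≫ ι = g) ↔ P B g := by
  classical
  choose I hI using h1
  -- compatibility with basic opens
  have hcompat : ∀ (W : X.affineOpens) (f : Γ(X, W)),
      (I W).map (X.presheaf.map (homOfLE <| X.basicOpen_le f).op).hom =
        I (X.affineBasicOpen f) := by
    intro W f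
    set W' := X.affineBasicOpen f with hW'
    set ρ : Γ(X, W) ⟶ Γ(X, W') := X.presheaf.map (homOfLE <| X.basicOpen_le f).op with hρ
    have hfs : Spec.map ρ ≫ W.2.fromSpec = W'.2.fromSpec := W.2.map_fromSpec W'.2 _
    have key : ∀ (B : CommRingCat.{u}) (σ' : Γ(X, W') ⟶ B),
        I W' ≤ RingHom.ker σ'.hom ↔ (I W).map ρ.hom ≤ RingHom.ker σ'.hom := by
      intro B σ'
      rw [← hI W' B σ', ← hfs, ← Category.assoc, ← Spec.map_comp, hI W B (ρ ≫ σ'),
        Ideal.map_le_iff_le_comap, CommRingCat.hom_comp, ← RingHom.comap_ker]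
    apply le_antisymm
    · have := (key (CommRingCat.of (Γ(X, W') ⧸ I W'))
        (CommRingCat.ofHom (Ideal.Quotient.mk (I W')))).mp
        (by rw [CommRingCat.hom_ofHom, Ideal.mk_ker])
      rwa [CommRingCat.hom_ofHom, Ideal.mk_ker] at this
    · have := (key (CommRingCat.of (Γ(X, W') ⧸ (I W).map ρ.hom))
        (CommRingCat.ofHom (Ideal.Quotient.mk ((I W).map ρ.hom)))).mpr
        (by rw [CommRingCat.hom_ofHom, Ideal.mk_ker])
      rwa [CommRingCat.hom_ofHom, Ideal.mk_ker] at this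
  let 𝓘 : X.IdealSheafData := { ideal := I, map_ideal_basicOpen := hcompat }
  refine ⟨𝓘.subscheme, 𝓘.subschemeι, inferInstance, fun B g => ?_⟩
  have hfac : (∃ h : Spec B ⟶ 𝓘.subscheme, h ≫ 𝓘.subschemeι = g) ↔
      ∀ W : X.affineOpens, I W ≤ RingHom.ker (g.app W).hom := by
    constructor
    · rintro ⟨h, rfl⟩ W
      have h1 : 𝓘 ≤ (h ≫ 𝓘.subschemeι).ker := by
        calc 𝓘 = 𝓘.subschemeι.ker := 𝓘.ker_subschemeι.symm
          _ ≤ _ := Scheme.Hom.le_ker_comp h 𝓘.subschemeι
      exact (h1 W).trans (Scheme.Hom.ideal_ker_le _ W)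
    · intro hW
      have h' : 𝓘.subschemeι.ker ≤ g.ker := by
        rw [𝓘.ker_subschemeι]
        exact Scheme.IdealSheafData.le_ofIdeals_iff.mpr hW
      exact ⟨IsClosedImmersion.lift 𝓘.subschemeι g h', IsClosedImmersion.lift_fac _ _ _⟩
  rw [hfac]
  constructor
  · intro hW
    let s : Set B := {b | ∃ W : X.affineOpens,
      (Spec B).basicOpen ((Scheme.ΓSpecIso B).inv b) ≤ g ⁻¹ᵁ W.1}
    have hs : Ideal.span s = ⊤ := by
      by_contra hne
      obtain ⟨m, hm, hsm⟩ := Ideal.exists_le_maximal _ hne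
      let y : Spec B := ⟨m, hm.isPrime⟩
      obtain ⟨_, ⟨W, hWaff, rfl⟩, hyW, -⟩ :=
        X.isBasis_affineOpens.exists_subset_of_mem_open (Set.mem_univ (g y)) isOpen_univ
      obtain ⟨_, ⟨_, ⟨b, rfl⟩, rfl⟩, hyb, hbW⟩ :=
        PrimeSpectrum.isBasis_basic_opens.exists_subset_of_mem_open
          (show y ∈ ((g ⁻¹ᵁ W : (Spec B).Opens) : Set (Spec B)) from hyW) (g ⁻¹ᵁ W).2
      have hb : b ∈ s := ⟨⟨W, hWaff⟩, by rw [basicOpen_eq_of_affine]; exact hbW⟩
      exact hyb (hsm (Ideal.subset_span hb))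
    apply h3 B g s hs
    rintro b ⟨W, hbW⟩
    refine ⟨_, toBasic B b, isLocalization_toBasic B b, ?_⟩
    rw [← fromSpec_basic, ← IsAffineOpen.SpecMap_appLE_fromSpec g W.2 (isAffineOpen_basic B b) hbW,
      hI W]
    intro r hr
    have := hW W hr
    rw [RingHom.mem_ker] at this ⊢
    rw [Scheme.Hom.appLE, CommRingCat.hom_comp, RingHom.comp_apply, this, map_zero]
  · intro hP W r hr
    rw [RingHom.mem_ker]
    -- the basic opens inside `g⁻¹ W`
    let ι := {b : B // (Spec B).basicOpen ((Scheme.ΓSpecIso B).inv b) ≤ g ⁻¹ᵁ W.1}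
    fapply (Spec B).sheaf.eq_of_locally_eq'
      (fun i : ι => (Spec B).basicOpen ((Scheme.ΓSpecIso B).inv i.1)) (g ⁻¹ᵁ W.1)
      (fun i => homOfLE i.2)
    · intro y hy
      obtain ⟨_, ⟨_, ⟨b, rfl⟩, rfl⟩, hyb, hbW⟩ :=
        PrimeSpectrum.isBasis_basic_opens.exists_subset_of_mem_open
          (show y ∈ ((g ⁻¹ᵁ W.1 : (Spec B).Opens) : Set (Spec B)) from hy) (g ⁻¹ᵁ W.1).2
      have hb : (Spec B).basicOpen ((Scheme.ΓSpecIso B).inv b) ≤ g ⁻¹ᵁ W.1 := by
        rw [basicOpen_eq_of_affine]; exact hbW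
      simp only [Opens.iSup_mk, Opens.carrier_eq_coe, Opens.mem_mk, Set.mem_iUnion,
        SetLike.mem_coe]
      refine ⟨⟨b, hb⟩, ?_⟩
      show y ∈ (Spec B).basicOpen ((Scheme.ΓSpecIso B).inv b)
      rw [basicOpen_eq_of_affine]; exact hyb
    · rintro ⟨b, hb⟩
      change ((Spec B).presheaf.map _) _ = ((Spec B).presheaf.map _) _
      rw [map_zero]
      have hPb := h2 B _ (toBasic B b) g hP
      rw [← fromSpec_basic, ← IsAffineOpen.SpecMap_appLE_fromSpec g W.2 (isAffineOpen_basic B b) hb,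
        hI W] at hPb
      have := hPb hr
      rw [RingHom.mem_ker, Scheme.Hom.appLE, CommRingCat.hom_comp, RingHom.comp_apply] at this
      exact this

end Groth.Agent.R2.H57.ClosedFun
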