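import Groth.Agent.Lib.LeadCE6
import Groth.Agent.Lib.LeadCE3
import Groth.Agent.Lib.LeadCE8

/-! Constant field extensions of function fields: places below (weak function field version),
coordinates of `k'' ⊗_{k'} K'` with respect to a basis of `k''` over `k'`, and the description of
`A[k'']` in these coordinates. Used for the tower criterion of nonsingularity. -/

set_option autoImplicit false

namespace Groth.Agent.R2.H57.ConstExt

open FunFld WithZero TensorProduct
open Groth.Agent.Lib

section Below

variable {k K K' : Type*} [Field k] [Field K] [Field K'] [Algebra k K] [Algebra K K']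
  [Algebra k K'] [IsScalarTower k K K'] [Algebra.IsIntegral K K']

/-- the place below, for a weak function field `K/k` (no condition on constants). -/
theorem exists_below_FF (hK : LeadFG.IsFF k K) (Q : Place k K') :
    ∃ (P : Place k K) (e : ℕ), 0 < e ∧ IsOverWith Q P e := by
  let w : Valuation K LeadFG.ZM0 := Q.1.comap (algebraMap K K')
  have hw : ∀ x, w x = Q.1 (algebraMap K K' x) := fun x => rfl
  have hk : LeadFG.TrivOn k w := by
    intro c hc
    rw [hw, ← IsScalarTower.algebraMap_apply]
    exact LeadFG.place_trivOn Q c hc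
  have hnt : ∃ z : K, z ≠ 0 ∧ w z < 1 := by
    by_contra hno
    push Not at hno
    have htriv : LeadFG.TrivOn K Q.1 := by
      intro z hz
      have h1 := hno z hz
      have h2 := hno z⁻¹ (inv_ne_zero hz)
      have h3 : w z * w z⁻¹ = 1 := by rw [← map_mul, mul_inv_cancel₀ hz, map_one]
      rw [← hw]
      apply le_antisymm _ h1
      by_contra hlt
      rw [not_le] at hlt
      have : 1 < w z * w z⁻¹ := by
        calc (1 : LeadFG.ZM0) < w z := hlt
          _ = w z * 1 := (mul_one _).symm
          _ ≤ w z * w z⁻¹ := mul_le_mul' le_rfl h2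
      exact absurd h3 this.ne'
    obtain ⟨u, hu⟩ := Q.2.2 (exp (1 : ℤ))
    have hint : IsIntegral K u := Algebra.IsIntegral.isIntegral u
    have := LeadFG.val_le_one_of_isIntegral htriv hint
    rw [hu, ← exp_zero, exp_le_exp] at this
    omega
  obtain ⟨z, hz0, hz⟩ := hnt
  obtain ⟨P, hP⟩ := LeadFG.exists_place_of_valuation hK hk hz0 hz
  obtain ⟨t, ht⟩ := LeadFG.exists_unif P
  have ht0 := LeadFG.unif_ne_zero ht
  have hwt0 : w t ≠ 0 := (Valuation.ne_zero_iff _).mpr ht0
  have hwt1 : w t < 1 := by
    by_contra hge
    rw [not_lt] at hge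
    have : P.1 1 ≤ P.1 t := (hP 1 t).mpr (by rwa [map_one])
    rw [map_one, ht, ← exp_zero, exp_le_exp] at this
    omega
  obtain ⟨a, ha⟩ : ∃ a : ℤ, w t = exp a := ⟨log (w t), (exp_log hwt0).symm⟩
  have ha0 : a < 0 := by rwa [ha, ← exp_zero, exp_lt_exp] at hwt1
  have hunit : ∀ u : K, P.1 u = 1 → w u = 1 := by
    intro u hu
    apply le_antisymm
    · have := (hP u 1).mp (by rw [hu, map_one])
      rwa [map_one] at this
    · have := (hP 1 u).mp (by rw [hu, map_one])
      rwa [map_one] at this
  have key : ∀ y : K, y ≠ 0 → w y = w t ^ (P.ord y) := by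
    intro y hy
    have hu : P.1 (y / t ^ (P.ord y)) = 1 := by
      rw [map_div₀, map_zpow₀, ht, LeadFG.val_eq_exp_neg_ord P hy, LeadFG.zm0_exp_zpow, mul_neg_one,
        div_self exp_ne_zero]
    have := hunit _ hu
    rw [map_div₀, map_zpow₀, div_eq_one_iff_eq] at this
    · exact this
    · exact zpow_ne_zero _ hwt0
  refine ⟨P, (-a).toNat, by omega, ?_⟩
  intro y
  rw [← hw]
  by_cases hy : y = 0
  · subst hy
    rw [map_zero, map_zero, zero_pow (by omega)]
  rw [key y hy, ha, LeadFG.zm0_exp_zpow, LeadFG.val_eq_exp_neg_ord P hy, LeadFG.zm0_exp_pow]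
  congr 1
  rw [Int.toNat_of_nonneg (by omega)]
  ring

end Below

section Tower

variable {k K K' K'' : Type*} [Field k] [Field K] [Field K'] [Field K''] [Algebra k K]
  [Algebra K K'] [Algebra k K'] [IsScalarTower k K K'] [Algebra K' K''] [Algebra k K'']
  [Algebra K K''] [IsScalarTower K K' K''] [IsScalarTower k K K'']

/-- transitivity of lying over. -/
lemma isOverWith_trans {Q'' : Place k K''} {Q : Place k K'} {P : Place k K} {e e' : ℕ}
    (h1 : IsOverWith Q'' Q e') (h2 : IsOverWith Q P e) : IsOverWith Q'' P (e * e') := by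
  intro x
  rw [IsScalarTower.algebraMap_apply K K' K'', h1, h2, pow_mul]

lemma isOver_trans {Q'' : Place k K''} {Q : Place k K'} {P : Place k K}
    (h1 : IsOver Q'' Q) (h2 : IsOver Q P) : IsOver Q'' P := by
  obtain ⟨e', he'⟩ := h1
  obtain ⟨e, he⟩ := h2
  exact ⟨e * e', isOverWith_trans he' he⟩

end Tower

section Coord

variable {k' k'' K' K'' : Type*} [Field k'] [Field k''] [Field K'] [Field K''] [Algebra k' k'']
  [Algebra k' K'] [Algebra K' K''] [Algebra k'' K''] [Algebra k' K''] [IsScalarTower k' k'' K'']
  [IsScalarTower k' K' K'']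

/-- The `K'`-algebra map `K' ⊗ k'' → K''`. -/
noncomputable def prodL : K' ⊗[k'] k'' →ₐ[K'] K'' :=
  Algebra.TensorProduct.productLeftAlgHom (Algebra.ofId K' K'') (IsScalarTower.toAlgHom k' k'' K'')

lemma prodL_tmul (a : K') (c : k'') :
    prodL (k' := k') (k'' := k'') (K' := K') (K'' := K'') (a ⊗ₜ c) =
      algebraMap K' K'' a * algebraMap k'' K'' c := by
  simp [prodL, Algebra.ofId_apply]

lemma prodL_bijective
    (h2 : Function.Bijective (Algebra.TensorProduct.productMap
      (IsScalarTower.toAlgHom k' k'' K'') (IsScalarTower.toAlgHom k' K' K''))) :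
    Function.Bijective (prodL (k' := k') (k'' := k'') (K' := K') (K'' := K'')) := by
  have key : ∀ x : K' ⊗[k'] k'', prodL x =
      Algebra.TensorProduct.productMap (IsScalarTower.toAlgHom k' k'' K'')
        (IsScalarTower.toAlgHom k' K' K'') (Algebra.TensorProduct.comm k' K' k'' x) := by
    intro x
    induction x using TensorProduct.induction_on with
    | zero => simp
    | tmul a c => simp [prodL_tmul, mul_comm]
    | add x y hx hy => simp only [map_add, hx, hy]
  have : (prodL (k' := k') (k'' := k'') (K' := K') (K'' := K'') : K' ⊗[k'] k'' → K'') =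
      (Algebra.TensorProduct.productMap (IsScalarTower.toAlgHom k' k'' K'')
        (IsScalarTower.toAlgHom k' K' K'')) ∘ (Algebra.TensorProduct.comm k' K' k'') := by
    funext x; exact key x
  rw [this]
  exact h2.comp (Algebra.TensorProduct.comm k' K' k'').bijective

variable {ι : Type*} [Fintype ι] [DecidableEq ι]

/-- The `K'`-basis of `K''` given by a `k'`-basis of `k''`. -/
noncomputable def coordBasis
    (h2 : Function.Bijective (Algebra.TensorProduct.productMap
      (IsScalarTower.toAlgHom k' k'' K'') (IsScalarTower.toAlgHom k' K' K'')))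
    (b : Module.Basis ι k' k'') : Module.Basis ι K' K'' :=
  (Algebra.TensorProduct.basis K' b).map
    (LinearEquiv.ofBijective (prodL (k' := k') (k'' := k'') (K' := K') (K'' := K'')).toLinearMap
      (prodL_bijective h2))

lemma coordBasis_apply
    (h2 : Function.Bijective (Algebra.TensorProduct.productMap
      (IsScalarTower.toAlgHom k' k'' K'') (IsScalarTower.toAlgHom k' K' K'')))
    (b : Module.Basis ι k' k'') (j : ι) :
    coordBasis h2 b j = algebraMap k'' K'' (b j) := by
  simp [coordBasis, prodL_tmul]

/-- coordinates of a constant. -/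
lemma coordBasis_repr_algebraMap
    (h2 : Function.Bijective (Algebra.TensorProduct.productMap
      (IsScalarTower.toAlgHom k' k'' K'') (IsScalarTower.toAlgHom k' K' K'')))
    (b : Module.Basis ι k' k'') (c : k'') (j : ι) :
    (coordBasis h2 b).repr (algebraMap k'' K'' c) j = algebraMap k' K' (b.repr c j) := by
  have hc : algebraMap k'' K'' c =
      ∑ i, (algebraMap k' K' (b.repr c i)) • coordBasis h2 b i := by
    conv_lhs => rw [← b.sum_repr c]
    rw [map_sum]
    refine Finset.sum_congr rfl fun i _ => ?_
    rw [coordBasis_apply, Algebra.smul_def, map_mul, Algebra.smul_def,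
      ← IsScalarTower.algebraMap_apply k' k'' K'', ← IsScalarTower.algebraMap_apply k' K' K'']
  rw [hc, (coordBasis h2 b).repr_sum_self]

/-- coordinates are `K'`-linear. -/
lemma coordBasis_repr_mul
    (h2 : Function.Bijective (Algebra.TensorProduct.productMap
      (IsScalarTower.toAlgHom k' k'' K'') (IsScalarTower.toAlgHom k' K' K'')))
    (b : Module.Basis ι k' k'') (a : K') (z : K'') (j : ι) :
    (coordBasis h2 b).repr (algebraMap K' K'' a * z) j = a * (coordBasis h2 b).repr z j := by
  rw [← Algebra.smul_def, map_smul, Finsupp.smul_apply, smul_eq_mul]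

/-- `A[k'']` in coordinates: `z ∈ A[k'']` iff all coordinates of `z` lie in `A`. -/
theorem mem_adjoin_map_iff
    (h2 : Function.Bijective (Algebra.TensorProduct.productMap
      (IsScalarTower.toAlgHom k' k'' K'') (IsScalarTower.toAlgHom k' K' K'')))
    (b : Module.Basis ι k' k'') (A : Subring K') (hA : ∀ c : k', algebraMap k' K' c ∈ A) (z : K'') :
    z ∈ Algebra.adjoin (A.map (algebraMap K' K'')) (Set.range (algebraMap k'' K'')) ↔
      ∀ j, (coordBasis h2 b).repr z j ∈ A := by
  constructor
  · intro hz
    have hz' : z ∈ Subalgebra.toSubmodule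
        (Algebra.adjoin (A.map (algebraMap K' K'')) (Set.range (algebraMap k'' K''))) := hz
    rw [Algebra.adjoin_eq_span] at hz'
    have hcl : Submonoid.closure (Set.range (algebraMap k'' K'')) =
        (algebraMap k'' K'').range.toSubmonoid := by
      have : Set.range (algebraMap k'' K'') = ((algebraMap k'' K'').range.toSubmonoid : Set K'') := by
        ext x; simp
      rw [this, Submonoid.closure_eq]
    rw [hcl] at hz'
    clear hz
    induction hz' using Submodule.span_induction with
    | mem x hx =>
      obtain ⟨c, rfl⟩ := hx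
      intro j
      rw [coordBasis_repr_algebraMap]
      exact hA _
    | zero => intro j; simp
    | add x y _ _ hx hy =>
      intro j
      rw [map_add, Finsupp.add_apply]
      exact A.add_mem (hx j) (hy j)
    | smul a x _ hx =>
      intro j
      obtain ⟨a, a0, ha0, rfl⟩ := a
      have : (⟨algebraMap K' K'' a0, ⟨a0, ha0, rfl⟩⟩ : A.map (algebraMap K' K'')) • x =
          algebraMap K' K'' a0 * x := rfl
      rw [this, coordBasis_repr_mul]
      exact A.mul_mem ha0 (hx j)
  · intro h
    rw [← (coordBasis h2 b).sum_repr z]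
    refine Subalgebra.sum_mem _ fun j _ => ?_
    rw [Algebra.smul_def, coordBasis_apply]
    refine Subalgebra.mul_mem _ ?_ (Algebra.subset_adjoin ⟨b j, rfl⟩)
    exact Subalgebra.algebraMap_mem _
      (⟨algebraMap K' K'' ((coordBasis h2 b).repr z j), ⟨_, h j, rfl⟩⟩ : A.map (algebraMap K' K''))

end Coord

section Bridge

variable {k K K' : Type*} [Field k] [Field K] [Field K'] [Algebra k K] [Algebra K K']
  [Algebra k K'] [IsScalarTower k K K']

/-- the easy direction: integral over (the image of) `O_P` implies integral at every place above. -/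
lemma val_le_one_of_isIntegral_map {Q : Place k K'} {P : Place k K} (hQ : IsOver Q P) {z : K'}
    (hz : IsIntegral (P.O.toSubring.map (algebraMap K K')) z) : Q.1 z ≤ 1 := by
  refine LeadCE.val_le_one_of_isIntegral' Q.1 (fun r => ?_) hz
  obtain ⟨r, a, ha, rfl⟩ := r
  obtain ⟨e, he⟩ := hQ
  show Q.1 (algebraMap K K' a) ≤ 1
  rw [he]
  exact pow_le_one' ha e

/-- constants are integral over the image of `O_P`. -/
lemma isIntegral_map_algebraMap {k' : Type*} [Field k'] [Algebra k k'] [Algebra k' K']
    [IsScalarTower k k' K'] [Algebra.IsIntegral k k'] (P : Place k K) (c : k') :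
    IsIntegral (P.O.toSubring.map (algebraMap K K')) (algebraMap k' K' c) := by
  have hc : IsIntegral k c := Algebra.IsIntegral.isIntegral c
  let φ : k →+* (P.O.toSubring.map (algebraMap K K')) :=
    RingHom.codRestrict (algebraMap k K') _ (fun a => by
      rw [IsScalarTower.algebraMap_apply k K K']
      exact ⟨algebraMap k K a, P.2.1 a, rfl⟩)
  refine IsIntegral.map_of_comp_eq φ (algebraMap k' K') ?_ hc
  ext a
  show algebraMap k K' a = algebraMap k' K' (algebraMap k k' a)
  rw [← IsScalarTower.algebraMap_apply]

lemma adjoin_le_integralClosure_map {k' : Type*} [Field k'] [Algebra k k'] [Algebra k' K']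
    [IsScalarTower k k' K'] [Algebra.IsIntegral k k'] (P : Place k K) :
    Algebra.adjoin (P.O.toSubring.map (algebraMap K K')) (Set.range (algebraMap k' K')) ≤
      integralClosure (P.O.toSubring.map (algebraMap K K')) K' := by
  apply Algebra.adjoin_le
  rintro _ ⟨c, rfl⟩
  exact isIntegral_map_algebraMap P c

variable [FiniteDimensional K K']

/-- the hard direction, in subring language. -/
theorem isIntegral_map_of_forall_over (hK : IsFunctionField k K) (P : Place k K) {y : K'}
    (hy : ∀ Q' : Place k K', IsOver Q' P → Q'.1 y ≤ 1) :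
    IsIntegral (P.O.toSubring.map (algebraMap K K')) y := by
  let _ : Algebra P.O K' := ((algebraMap K K').comp P.O.subtype).toAlgebra
  have : IsScalarTower P.O K K' := IsScalarTower.of_algebraMap_eq (fun _ => rfl)
  have h := LeadCE.isIntegral_of_forall_over hK P hy
  let φ : P.O →+* (P.O.toSubring.map (algebraMap K K')) :=
    RingHom.codRestrict ((algebraMap K K').comp P.O.subtype) _ (fun a => ⟨a, a.2, rfl⟩)
  have := IsIntegral.map_of_comp_eq φ (RingHom.id K') (by ext; rfl) h
  simpa using this

end Bridge

end Groth.Agent.R2.H57.ConstExt
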