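import Groth.Agent.R2.H57ConstExt

/-! The tower criterion for nonsingularity of a place with respect to finite constant extensions
`k ⊆ k' ⊆ k''`. -/

set_option autoImplicit false

namespace Groth.Agent.R2.H57.ConstExtTower

open FunFld WithZero TensorProduct
open Groth.Agent.Lib Groth.Agent.R2.H57.ConstExt

universe u v

section

variable {k k' k'' : Type u} {K K' K'' : Type v} [Field k] [Field k'] [Field k''] [Field K]
  [Field K'] [Field K'']
  [Algebra k k'] [Algebra k' k''] [Algebra k k''] [IsScalarTower k k' k'']
  [FiniteDimensional k k'] [FiniteDimensional k' k'']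
  [Algebra k K] [Algebra K K'] [Algebra k' K'] [Algebra k K'] [IsScalarTower k k' K']
  [IsScalarTower k K K']
  [Algebra K' K''] [Algebra k'' K''] [Algebra k' K''] [Algebra k K''] [Algebra K K'']
  [IsScalarTower k' k'' K''] [IsScalarTower k' K' K''] [IsScalarTower K K' K'']
  [IsScalarTower k K K'']

/-- `O_P[k'']` computed in two steps: `O_P[k''] = (O_P[k'])[k'']`. -/
lemma mem_adjoin_iff_mem_adjoin_adjoin (P : Place k K) (z : K'') :
    z ∈ Algebra.adjoin (P.O.toSubring.map (algebraMap K K'')) (Set.range (algebraMap k'' K'')) ↔
      z ∈ Algebra.adjoin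
        (((Algebra.adjoin (P.O.toSubring.map (algebraMap K K'))
          (Set.range (algebraMap k' K'))).toSubring).map (algebraMap K' K''))
        (Set.range (algebraMap k'' K'')) := by
  rw [← Subalgebra.mem_toSubring, ← Subalgebra.mem_toSubring (S := Algebra.adjoin
        (((Algebra.adjoin (P.O.toSubring.map (algebraMap K K'))
          (Set.range (algebraMap k' K'))).toSubring).map (algebraMap K' K''))
        (Set.range (algebraMap k'' K''))),
    Algebra.adjoin_eq_ring_closure, Algebra.adjoin_eq_ring_closure]
  have e1 : Set.range (algebraMap (P.O.toSubring.map (algebraMap K K'')) K'') =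
      ((P.O.toSubring.map (algebraMap K K'') : Subring K'') : Set K'') := by
    ext x; constructor
    · rintro ⟨y, rfl⟩; exact y.2
    · intro hx; exact ⟨⟨x, hx⟩, rfl⟩
  have e2 : Set.range (algebraMap (((Algebra.adjoin (P.O.toSubring.map (algebraMap K K'))
          (Set.range (algebraMap k' K'))).toSubring).map (algebraMap K' K'')) K'') =
      ((((Algebra.adjoin (P.O.toSubring.map (algebraMap K K'))
          (Set.range (algebraMap k' K'))).toSubring).map (algebraMap K' K'') : Subring K'') :
        Set K'') := by
    ext x; constructor
    · rintro ⟨y, rfl⟩; exact y.2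
    · intro hx; exact ⟨⟨x, hx⟩, rfl⟩
  rw [e1, e2]
  have hEq : Subring.closure (((P.O.toSubring.map (algebraMap K K'') : Subring K'') : Set K'') ∪
        Set.range (algebraMap k'' K'')) =
      Subring.closure (((((Algebra.adjoin (P.O.toSubring.map (algebraMap K K'))
          (Set.range (algebraMap k' K'))).toSubring).map (algebraMap K' K'') : Subring K'') :
        Set K'') ∪ Set.range (algebraMap k'' K'')) := by
    apply le_antisymm
    · apply Subring.closure_mono
      apply Set.union_subset_union_left
      rintro _ ⟨a, ha, rfl⟩
      refine ⟨algebraMap K K' a, ?_, (IsScalarTower.algebraMap_apply K K' K'' a).symm⟩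
      exact Subalgebra.algebraMap_mem _
        (⟨algebraMap K K' a, ⟨a, ha, rfl⟩⟩ : P.O.toSubring.map (algebraMap K K'))
    · rw [Subring.closure_le]
      apply Set.union_subset
      · rintro _ ⟨y, hy, rfl⟩
        have key : ∀ y ∈ (Algebra.adjoin (P.O.toSubring.map (algebraMap K K'))
            (Set.range (algebraMap k' K'))), algebraMap K' K'' y ∈
            Subring.closure (((P.O.toSubring.map (algebraMap K K'') : Subring K'') : Set K'') ∪
              Set.range (algebraMap k'' K'')) := by
          intro y hy
          induction hy using Algebra.adjoin_induction with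
          | mem x hx =>
            obtain ⟨c, rfl⟩ := hx
            apply Subring.subset_closure
            right
            exact ⟨algebraMap k' k'' c, by
              rw [← IsScalarTower.algebraMap_apply, ← IsScalarTower.algebraMap_apply]⟩
          | algebraMap r =>
            obtain ⟨r, a, ha, rfl⟩ := r
            apply Subring.subset_closure
            left
            exact ⟨a, ha, IsScalarTower.algebraMap_apply K K' K'' a⟩
          | add x y _ _ hx hy =>
            rw [map_add]
            exact Subring.add_mem _ hx hy
          | mul x y _ _ hx hy =>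
            rw [map_mul]
            exact Subring.mul_mem _ hx hy
        exact key y hy
      · exact fun x hx => Subring.subset_closure (Or.inr hx)
  rw [hEq]

end

section Main

variable (k k' k'' : Type u) (K K' K'' : Type v) [Field k] [Field k'] [Field k''] [Field K]
  [Field K'] [Field K'']
  [Algebra k k'] [Algebra k' k''] [Algebra k k''] [IsScalarTower k k' k'']
  [FiniteDimensional k k'] [FiniteDimensional k' k'']
  [Algebra k K] [Algebra K K'] [Algebra k' K'] [Algebra k K'] [IsScalarTower k k' K']
  [IsScalarTower k K K']
  [Algebra K' K''] [Algebra k'' K''] [Algebra k' K''] [Algebra k K''] [Algebra K K'']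
  [IsScalarTower k' k'' K''] [IsScalarTower k' K' K''] [IsScalarTower K K' K'']
  [IsScalarTower k K K'']

theorem nonsingular_tower_iff
    (h1 : Function.Bijective (Algebra.TensorProduct.productMap
      (IsScalarTower.toAlgHom k k' K') (IsScalarTower.toAlgHom k K K')))
    (h2 : Function.Bijective (Algebra.TensorProduct.productMap
      (IsScalarTower.toAlgHom k' k'' K'') (IsScalarTower.toAlgHom k' K' K'')))
    (hK : FunFld.IsFunctionField k K) (P : FunFld.Place k K) :
    (integralClosure (P.O.toSubring.map (algebraMap K K'')) K'' =
        Algebra.adjoin (P.O.toSubring.map (algebraMap K K'')) (Set.range (algebraMap k'' K''))) ↔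
      (integralClosure (P.O.toSubring.map (algebraMap K K')) K' =
          Algebra.adjoin (P.O.toSubring.map (algebraMap K K')) (Set.range (algebraMap k' K')) ∧
        ∀ Q : FunFld.Place k K', FunFld.IsOver Q P →
          integralClosure (Q.O.toSubring.map (algebraMap K' K'')) K'' =
            Algebra.adjoin (Q.O.toSubring.map (algebraMap K' K''))
              (Set.range (algebraMap k'' K''))) := by
  classical
  have fin1 : FiniteDimensional K K' := LeadCE.finiteDimensional_of_surjective h1.2
  have fin2 : FiniteDimensional K' K'' := LeadCE.finiteDimensional_of_surjective h2.2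
  have fin3 : FiniteDimensional K K'' := Module.Finite.trans K' K''
  have tw : IsScalarTower k K' K'' := IsScalarTower.of_algebraMap_eq (fun c => by
    rw [IsScalarTower.algebraMap_apply k K K'', IsScalarTower.algebraMap_apply K K' K'',
      ← IsScalarTower.algebraMap_apply k K K'])
  have tw2 : IsScalarTower k k'' K'' := IsScalarTower.of_algebraMap_eq (fun c => by
    rw [IsScalarTower.algebraMap_apply k k' k'', ← IsScalarTower.algebraMap_apply k' k'' K'',
      IsScalarTower.algebraMap_apply k' K' K'', ← IsScalarTower.algebraMap_apply k k' K',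
      IsScalarTower.algebraMap_apply k K K', ← IsScalarTower.algebraMap_apply K K' K'',
      ← IsScalarTower.algebraMap_apply k K K''])
  have : FiniteDimensional k k'' := Module.Finite.trans k' k''
  have hFF' : LeadFG.IsFF k K' := LeadFF.isFF_of_finite hK
  let b := Module.finBasis k' k''
  -- constants of `k'` lie in every valuation ring of `K'`
  have hk'Q : ∀ (Q : Place k K') (c : k'), algebraMap k' K' c ∈ Q.O.toSubring := by
    intro Q c
    have hc : IsIntegral k (algebraMap k' K' c) :=
      (Algebra.IsIntegral.isIntegral (R := k) c).algebraMap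
    exact LeadFG.val_le_one_of_isIntegral (LeadFG.place_trivOn Q) hc
  -- every place of `K''` over `P` lies over a place of `K'` over `P`
  have hmid : ∀ Q'' : Place k K'', IsOver Q'' P → ∃ Q : Place k K', IsOver Q P ∧ IsOver Q'' Q := by
    intro Q'' hQ''
    obtain ⟨Q, e', he'0, he'⟩ := exists_below_FF (K := K') hFF' Q''
    obtain ⟨P', e, he0, he⟩ := LeadFF.exists_below hK Q
    obtain ⟨e'', he''⟩ := hQ''
    have := (LeadFF.isOverWith_unique he'' (isOverWith_trans he' he)).1
    subst this
    exact ⟨Q, ⟨e, he⟩, ⟨e', he'⟩⟩
  -- the easy inclusions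
  have hle1 := adjoin_le_integralClosure_map (K' := K') (k' := k') P
  have hle2 := adjoin_le_integralClosure_map (K' := K'') (k' := k'') P
  have hle3 : ∀ Q : Place k K', Algebra.adjoin (Q.O.toSubring.map (algebraMap K' K''))
      (Set.range (algebraMap k'' K'')) ≤
      integralClosure (Q.O.toSubring.map (algebraMap K' K'')) K'' :=
    fun Q => adjoin_le_integralClosure_map (K := K') (K' := K'') (k' := k'') Q
  constructor
  · intro hL
    have hL' : ∀ z : K'', IsIntegral (P.O.toSubring.map (algebraMap K K'')) z →
        z ∈ Algebra.adjoin (P.O.toSubring.map (algebraMap K K''))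
          (Set.range (algebraMap k'' K'')) := fun z hz => by
      rw [← hL]; exact hz
    -- coordinates of elements of `O_P[k'']`
    have hcoord : ∀ z : K'', IsIntegral (P.O.toSubring.map (algebraMap K K'')) z → ∀ j,
        (coordBasis h2 b).repr z j ∈ Algebra.adjoin (P.O.toSubring.map (algebraMap K K'))
          (Set.range (algebraMap k' K')) := by
      intro z hz
      have := (mem_adjoin_iff_mem_adjoin_adjoin (k' := k') (K' := K') P z).mp (hL' z hz)
      exact (mem_adjoin_map_iff h2 b (Algebra.adjoin (P.O.toSubring.map (algebraMap K K'))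
          (Set.range (algebraMap k' K'))).toSubring (fun c => Algebra.subset_adjoin ⟨c, rfl⟩) z).mp this
    refine ⟨le_antisymm ?_ hle1, fun Q hQ => le_antisymm ?_ (hle3 Q)⟩
    · -- part 1
      intro y hy
      have hy' : IsIntegral (P.O.toSubring.map (algebraMap K K')) y := hy
      have hint : IsIntegral (P.O.toSubring.map (algebraMap K K'')) (algebraMap K' K'' y) := by
        apply isIntegral_map_of_forall_over hK P
        intro Q'' hQ''
        obtain ⟨Q, hQP, e', he'⟩ := hmid Q'' hQ''
        rw [he']
        exact pow_le_one' (val_le_one_of_isIntegral_map hQP hy') _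
      have hc := hcoord _ hint
      -- some coordinate of `1` is nonzero
      obtain ⟨j, hj⟩ : ∃ j, b.repr (1 : k'') j ≠ 0 := by
        by_contra hno
        push Not at hno
        have : b.repr (1 : k'') = 0 := Finsupp.ext hno
        rw [map_eq_zero_iff _ b.repr.injective] at this
        exact one_ne_zero this
      have h3 := hc j
      have h4 : (coordBasis h2 b).repr (algebraMap K' K'' y) j =
          y * algebraMap k' K' (b.repr (1 : k'') j) := by
        conv_lhs => rw [← mul_one (algebraMap K' K'' y), ← map_one (algebraMap k'' K'')]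
        rw [coordBasis_repr_mul, coordBasis_repr_algebraMap]
      rw [h4] at h3
      have h5 : y = y * algebraMap k' K' (b.repr (1 : k'') j) *
          algebraMap k' K' (b.repr (1 : k'') j)⁻¹ := by
        rw [mul_assoc, ← map_mul, mul_inv_cancel₀ hj, map_one, mul_one]
      rw [h5]
      exact Subalgebra.mul_mem _ h3 (Algebra.subset_adjoin ⟨_, rfl⟩)
    · -- part 2
      intro z hz
      have hz' : IsIntegral (Q.O.toSubring.map (algebraMap K' K'')) z := hz
      -- places over `P`
      have hfin'' := LeadFF.finite_over (K' := K'') hK P
      have hfin' := LeadFF.finite_over (K' := K') hK P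
      obtain ⟨N, hN⟩ := LeadFG.zm0_finset_bound hfin''.toFinset (fun Q'' => Q''.1 z)
      -- approximation
      obtain ⟨s, hs⟩ := LeadFG.weak_approx hfin'.toFinset
        (fun Q' => if Q' = Q then (1 : K') else 0) (fun Q' => if Q' = Q then (-1 : ℤ) else -(N : ℤ))
      have hsQ : Q.1 s = 1 := by
        have := hs Q (hfin'.mem_toFinset.mpr hQ)
        simp only [if_true] at this
        have hlt : Q.1 (s - 1) < Q.1 1 := by
          rw [this, map_one, ← exp_zero, exp_lt_exp]; norm_num
        have := Valuation.map_eq_of_sub_lt Q.1 hlt
        rw [this, map_one]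
      have hsQ' : ∀ Q' : Place k K', IsOver Q' P → Q' ≠ Q → Q'.1 s = exp (-(N : ℤ)) := by
        intro Q' hQ' hne
        have := hs Q' (hfin'.mem_toFinset.mpr hQ')
        simpa only [if_neg hne, sub_zero] using this
      have hint : IsIntegral (P.O.toSubring.map (algebraMap K K'')) (algebraMap K' K'' s * z) := by
        apply isIntegral_map_of_forall_over hK P
        intro Q'' hQ''
        obtain ⟨Q', hQ'P, e', he'⟩ := hmid Q'' hQ''
        have he'0 := LeadFF.isOverWith_pos he'
        rw [map_mul, he']
        by_cases hQQ : Q' = Q
        · subst hQQ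
          rw [hsQ, one_pow, one_mul]
          exact val_le_one_of_isIntegral_map ⟨e', he'⟩ hz'
        · rw [hsQ' Q' hQ'P hQQ]
          have h1 : (exp (-(N : ℤ)) : LeadFG.ZM0) ^ e' ≤ exp (-(N : ℤ)) := by
            rw [LeadFG.zm0_exp_pow, exp_le_exp]
            have : (1 : ℤ) ≤ e' := by exact_mod_cast he'0
            nlinarith
          calc (exp (-(N : ℤ)) : LeadFG.ZM0) ^ e' * Q''.1 z
              ≤ exp (-(N : ℤ)) * exp (N : ℤ) :=
                mul_le_mul' h1 (hN Q'' (hfin''.mem_toFinset.mpr hQ''))
            _ = 1 := by rw [← exp_add]; simp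
      have hc := hcoord _ hint
      rw [mem_adjoin_map_iff h2 b Q.O.toSubring (hk'Q Q)]
      intro j
      have h3 := hle1 (hc j)
      have h3' : IsIntegral (P.O.toSubring.map (algebraMap K K'))
          ((coordBasis h2 b).repr (algebraMap K' K'' s * z) j) := h3
      have h4 := val_le_one_of_isIntegral_map hQ h3'
      rw [coordBasis_repr_mul, map_mul, hsQ, one_mul] at h4
      exact h4
  · rintro ⟨hR1, hR2⟩
    refine le_antisymm ?_ hle2
    intro z hz
    have hz' : IsIntegral (P.O.toSubring.map (algebraMap K K'')) z := hz
    rw [mem_adjoin_iff_mem_adjoin_adjoin (k' := k') (K' := K') P z,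
      mem_adjoin_map_iff h2 b (Algebra.adjoin (P.O.toSubring.map (algebraMap K K'))
          (Set.range (algebraMap k' K'))).toSubring (fun c => Algebra.subset_adjoin ⟨c, rfl⟩)]
    intro j
    show (coordBasis h2 b).repr z j ∈ Algebra.adjoin (P.O.toSubring.map (algebraMap K K'))
          (Set.range (algebraMap k' K'))
    rw [← hR1]
    apply isIntegral_map_of_forall_over hK P
    intro Q hQ
    -- `z` is integral over `O_Q`
    have hle : P.O.toSubring.map (algebraMap K K'') ≤ Q.O.toSubring.map (algebraMap K' K'') := by
      rintro _ ⟨a, ha, rfl⟩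
      exact ⟨algebraMap K K' a, LeadCE.val_map_le_one hQ ha,
        (IsScalarTower.algebraMap_apply K K' K'' a).symm⟩
    have hzQ : IsIntegral (Q.O.toSubring.map (algebraMap K' K'')) z := by
      have := IsIntegral.map_of_comp_eq (Subring.inclusion hle) (RingHom.id K'') (by ext; rfl) hz'
      simpa using this
    have hzW : z ∈ Algebra.adjoin (Q.O.toSubring.map (algebraMap K' K''))
        (Set.range (algebraMap k'' K'')) := by
      rw [← hR2 Q hQ]; exact hzQ
    exact (mem_adjoin_map_iff h2 b Q.O.toSubring (hk'Q Q) z).mp hzW j

end Main

end Groth.Agent.R2.H57.ConstExtTower
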