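import Groth.Agent.R2.H57Split
import Groth.Agent.Lib.LeadZT1
import Groth.Agent.Lib.LeadCE4

/-! Counting the places above a nonsingular place in a splitting constant extension. -/

set_option autoImplicit false

namespace Groth.Agent.R2.H57.Count

open FunFld WithZero TensorProduct Polynomial
open Groth.Agent.Lib Groth.Agent.R2.H57.ConstExt Groth.Agent.R2.H57.ConstExtTower

universe u v

section DegOne

variable {k' : Type u} {K' : Type v} [Field k'] [Field K'] [Algebra k' K']

/-- at a place of degree one every integral element is congruent to a constant. -/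
theorem exists_const_of_deg_one (Q : Place k' K') (hdeg : Q.deg = 1) (w : K') (hw : Q.1 w ≤ 1) :
    ∃ c : k', Q.1 (w - algebraMap k' K' c) < 1 := by
  unfold Place.deg at hdeg
  rw [finrank_eq_one_iff_of_nonzero' (1 : IsLocalRing.ResidueField Q.O) one_ne_zero] at hdeg
  obtain ⟨c, hc⟩ := hdeg (IsLocalRing.residue Q.O ⟨w, hw⟩)
  refine ⟨c, ?_⟩
  have hc' : IsLocalRing.residue Q.O (c • (1 : Q.O)) = IsLocalRing.residue Q.O ⟨w, hw⟩ := hc
  rw [Algebra.smul_def, mul_one] at hc'
  have := hc'.symm
  rw [← sub_eq_zero, ← map_sub, LeadFF.residue_eq_zero_iff] at this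
  exact this

lemma const_eq_zero_of_lt_one (Q : Place k' K') {c : k'} (hc : Q.1 (algebraMap k' K' c) < 1) :
    c = 0 := by
  by_contra h0
  rw [LeadFG.place_trivOn Q c h0] at hc
  exact lt_irrefl _ hc

lemma const_unique (Q : Place k' K') {w : K'} {c c' : k'}
    (hc : Q.1 (w - algebraMap k' K' c) < 1) (hc' : Q.1 (w - algebraMap k' K' c') < 1) : c = c' := by
  have : algebraMap k' K' (c - c') = (w - algebraMap k' K' c') - (w - algebraMap k' K' c) := by
    rw [map_sub]; ring
  have h1 : Q.1 (algebraMap k' K' (c - c')) < 1 := by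
    rw [this]; exact lt_of_le_of_lt (Q.1.map_sub _ _) (max_lt hc' hc)
  exact sub_eq_zero.mp (const_eq_zero_of_lt_one Q h1)

end DegOne

section Sep

variable {k k' : Type u} {K' : Type v} [Field k] [Field k'] [Field K'] [Algebra k k']
  [Algebra k' K'] [Algebra k K'] [IsScalarTower k k' K']

/-- for a separable polynomial `g` over `k` with a root `c ∈ k'`, `g(w)` and `w - c` have the same
valuation whenever `w ≡ c`. -/
theorem val_aeval_eq_of_separable (Q : Place k' K') (g : k[X]) (hg : g.Separable) {w : K'}
    (hw : Q.1 w ≤ 1) {c : k'} (hc : Q.1 (w - algebraMap k' K' c) < 1)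
    (hroot : Polynomial.aeval c g = 0) :
    Q.1 (Polynomial.aeval w g) = Q.1 (w - algebraMap k' K' c) := by
  let φ : k' →+* Q.O := algebraMap k' Q.O
  let p : k'[X] := g.map (algebraMap k k')
  let f : (Q.O)[X] := p.map φ
  let x : Q.O := φ c
  let wO : Q.O := ⟨w, hw⟩
  obtain ⟨κ, hκ⟩ := Polynomial.binomExpansion f x (wO - x)
  rw [add_sub_cancel] at hκ
  have hpc : p.eval c = 0 := by
    show (g.map (algebraMap k k')).eval c = 0
    rw [Polynomial.eval_map_algebraMap]; exact hroot
  have hfx : f.eval x = 0 := by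
    show (p.map φ).eval (φ c) = 0
    rw [Polynomial.eval_map, Polynomial.eval₂_at_apply, hpc, map_zero]
  have hd0 : p.derivative.eval c ≠ 0 := by
    show (g.map (algebraMap k k')).derivative.eval c ≠ 0
    rw [Polynomial.derivative_map, Polynomial.eval_map_algebraMap]
    exact hg.aeval_derivative_ne_zero hroot
  have hfdx : f.derivative.eval x = φ (p.derivative.eval c) := by
    show (p.map φ).derivative.eval (φ c) = _
    rw [Polynomial.derivative_map, Polynomial.eval_map, Polynomial.eval₂_at_apply]
  have hcoe : ((f.eval wO : Q.O) : K') = Polynomial.aeval w g := by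
    show Q.O.subtype ((p.map φ).eval wO) = _
    rw [Polynomial.eval_map, Polynomial.hom_eval₂]
    show Polynomial.eval₂ (algebraMap k' K') w (g.map (algebraMap k k')) = _
    rw [Polynomial.eval₂_map, ← IsScalarTower.algebraMap_eq k k' K', Polynomial.aeval_def]
  rw [hfx, zero_add, hfdx] at hκ
  have hy : ((wO - x : Q.O) : K') = w - algebraMap k' K' c := rfl
  have hval1 : Q.1 ((φ (p.derivative.eval c) : Q.O) : K') = 1 :=
    LeadFG.place_trivOn Q _ hd0
  have hκy : Q.1 ((κ * (wO - x) : Q.O) : K') < 1 := by
    show Q.1 ((κ : K') * ((wO - x : Q.O) : K')) < 1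
    rw [map_mul, hy]
    calc Q.1 (κ : K') * Q.1 (w - algebraMap k' K' c) ≤ 1 * Q.1 (w - algebraMap k' K' c) :=
          mul_le_mul' κ.2 le_rfl
      _ < 1 := by rw [one_mul]; exact hc
  have hfac : f.eval wO = (wO - x) * (φ (p.derivative.eval c) + κ * (wO - x)) := by
    rw [hκ]; ring
  rw [← hcoe, hfac]
  show Q.1 (((wO - x : Q.O) : K') * ((φ (p.derivative.eval c) + κ * (wO - x) : Q.O) : K')) = _
  rw [map_mul, hy]
  have : Q.1 ((φ (p.derivative.eval c) + κ * (wO - x) : Q.O) : K') = 1 := by
    show Q.1 (((φ (p.derivative.eval c) : Q.O) : K') + ((κ * (wO - x) : Q.O) : K')) = 1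
    rw [Valuation.map_add_eq_of_lt_left _ (by rw [hval1]; exact hκy), hval1]
  rw [this, mul_one]

end Sep

section Sigma

variable {k k' : Type u} {K K' : Type v} [Field k] [Field k'] [Field K] [Field K']
  [Algebra k k'] [Algebra k K] [Algebra K K'] [Algebra k' K']
  [Algebra k K'] [IsScalarTower k k' K'] [IsScalarTower k K K']

/-- `Q` (a place over `k'`) lies over `P` with index `e`. -/
def Over (Q : Place k' K') (P : Place k K) (e : ℕ) : Prop :=
  0 < e ∧ ∀ z : K, Q.1 (algebraMap K K' z) = P.1 z ^ e

omit [Algebra k k'] [Algebra k K'] [IsScalarTower k k' K'] [IsScalarTower k K K'] in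
lemma Over.le_one {Q : Place k' K'} {P : Place k K} {e : ℕ} (h : Over Q P e) {a : K}
    (ha : P.1 a ≤ 1) : Q.1 (algebraMap K K' a) ≤ 1 := by
  rw [h.2]; exact pow_le_one' ha e

omit [Algebra k k'] [Algebra k K'] [IsScalarTower k k' K'] [IsScalarTower k K K'] in
lemma Over.lt_one {Q : Place k' K'} {P : Place k K} {e : ℕ} (h : Over Q P e) {a : K}
    (ha : P.1 a < 1) : Q.1 (algebraMap K K' a) < 1 := by
  rw [h.2]; exact pow_lt_one' ha h.1.ne'

variable (Q : Place k' K') (P : Place k K) (hdeg : Q.deg = 1) {e : ℕ} (hov : Over Q P e)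

/-- the constant of `k'` congruent to `u ∈ O_P` at `Q`. -/
noncomputable def cst (u : P.O) : k' :=
  Classical.choose (exists_const_of_deg_one Q hdeg (algebraMap K K' u) (hov.le_one u.2))

omit [Algebra k k'] [Algebra k K'] [IsScalarTower k k' K'] [IsScalarTower k K K'] in
lemma cst_spec (u : P.O) :
    Q.1 (algebraMap K K' u - algebraMap k' K' (cst Q P hdeg hov u)) < 1 :=
  Classical.choose_spec (exists_const_of_deg_one Q hdeg (algebraMap K K' u) (hov.le_one u.2))

omit [Algebra k k'] [Algebra k K'] [IsScalarTower k k' K'] [IsScalarTower k K K'] in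
lemma cst_eq (u : P.O) {c : k'} (hc : Q.1 (algebraMap K K' u - algebraMap k' K' c) < 1) :
    cst Q P hdeg hov u = c :=
  const_unique Q (cst_spec Q P hdeg hov u) hc

/-- the ring homomorphism `O_P → k'`, reduction at `Q`. -/
noncomputable def sigma : P.O →+* k' where
  toFun := cst Q P hdeg hov
  map_one' := cst_eq Q P hdeg hov 1 (by
    show Q.1 (algebraMap K K' 1 - algebraMap k' K' 1) < 1
    rw [map_one, map_one, sub_self, map_zero]; exact zero_lt_one)
  map_zero' := cst_eq Q P hdeg hov 0 (by
    show Q.1 (algebraMap K K' 0 - algebraMap k' K' 0) < 1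
    rw [map_zero, map_zero, sub_self, map_zero]; exact zero_lt_one)
  map_mul' u v := cst_eq Q P hdeg hov (u * v) (by
    have hu := cst_spec Q P hdeg hov u
    have hv := cst_spec Q P hdeg hov v
    set c := cst Q P hdeg hov u
    set d := cst Q P hdeg hov v
    show Q.1 (algebraMap K K' ((u : K) * (v : K)) - algebraMap k' K' (c * d)) < 1
    have : algebraMap K K' ((u : K) * (v : K)) - algebraMap k' K' (c * d) =
        algebraMap K K' u * (algebraMap K K' v - algebraMap k' K' d) +
          algebraMap k' K' d * (algebraMap K K' u - algebraMap k' K' c) := by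
      rw [map_mul, map_mul]; ring
    rw [this]
    refine lt_of_le_of_lt (Q.1.map_add _ _) (max_lt ?_ ?_)
    · rw [map_mul]
      calc Q.1 (algebraMap K K' u) * Q.1 (algebraMap K K' v - algebraMap k' K' d)
          ≤ 1 * Q.1 (algebraMap K K' v - algebraMap k' K' d) :=
            mul_le_mul' (hov.le_one u.2) le_rfl
        _ < 1 := by rw [one_mul]; exact hv
    · rw [map_mul]
      calc Q.1 (algebraMap k' K' d) * Q.1 (algebraMap K K' u - algebraMap k' K' c)
          ≤ 1 * Q.1 (algebraMap K K' u - algebraMap k' K' c) := mul_le_mul' (Q.2.1 d) le_rfl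
        _ < 1 := by rw [one_mul]; exact hu)
  map_add' u v := cst_eq Q P hdeg hov (u + v) (by
    have hu := cst_spec Q P hdeg hov u
    have hv := cst_spec Q P hdeg hov v
    set c := cst Q P hdeg hov u
    set d := cst Q P hdeg hov v
    show Q.1 (algebraMap K K' ((u : K) + (v : K)) - algebraMap k' K' (c + d)) < 1
    have : algebraMap K K' ((u : K) + (v : K)) - algebraMap k' K' (c + d) =
        (algebraMap K K' u - algebraMap k' K' c) + (algebraMap K K' v - algebraMap k' K' d) := by
      rw [map_add, map_add]; ring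
    rw [this]
    exact lt_of_le_of_lt (Q.1.map_add _ _) (max_lt hu hv))

omit [Algebra k k'] [Algebra k K'] [IsScalarTower k k' K'] [IsScalarTower k K K'] in
lemma sigma_spec (u : P.O) :
    Q.1 (algebraMap K K' u - algebraMap k' K' (sigma Q P hdeg hov u)) < 1 :=
  cst_spec Q P hdeg hov u

omit [Algebra k k'] [Algebra k K'] [IsScalarTower k k' K'] [IsScalarTower k K K'] in
lemma sigma_eq_zero (u : P.O) (hu : u ∈ IsLocalRing.maximalIdeal P.O) :
    sigma Q P hdeg hov u = 0 :=
  cst_eq Q P hdeg hov u (by
    rw [map_zero, sub_zero]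
    exact hov.lt_one ((LeadFF.mem_maxIdeal_iff P u).mp hu))

lemma sigma_algebraMap (a : k) :
    sigma Q P hdeg hov (algebraMap k P.O a) = algebraMap k k' a :=
  cst_eq Q P hdeg hov _ (by
    show Q.1 (algebraMap K K' (algebraMap k K a) - algebraMap k' K' (algebraMap k k' a)) < 1
    rw [← IsScalarTower.algebraMap_apply k K K', ← IsScalarTower.algebraMap_apply k k' K',
      sub_self, map_zero]
    exact zero_lt_one)

/-- the induced `k`-embedding of the residue field of `P` into `k'`. -/
noncomputable def tau : IsLocalRing.ResidueField P.O →ₐ[k] k' :=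
  { Ideal.Quotient.lift (IsLocalRing.maximalIdeal P.O) (sigma Q P hdeg hov)
      (sigma_eq_zero Q P hdeg hov) with
    commutes' := fun a => sigma_algebraMap Q P hdeg hov a }

lemma tau_residue (u : P.O) :
    tau Q P hdeg hov (IsLocalRing.residue P.O u) = sigma Q P hdeg hov u := rfl

end Sigma

section Inj

open Groth.Agent.R2.H57.UnifCond

variable {k k' : Type u} {K K' : Type v} [Field k] [Field k'] [Field K] [Field K']
  [Algebra k k'] [FiniteDimensional k k'] [Algebra k K] [Algebra K K'] [Algebra k' K']
  [Algebra k K'] [IsScalarTower k k' K'] [IsScalarTower k K K']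

omit [FiniteDimensional k k'] in
/-- elements of `O_P[k']` have a common constant at two places with the same reduction. -/
lemma exists_common_const (P : Place k K) (Q Q' : Place k' K') (hdeg : Q.deg = 1)
    (hdeg' : Q'.deg = 1) {e e' : ℕ} (hov : Over Q P e) (hov' : Over Q' P e')
    (hσ : ∀ u, sigma Q P hdeg hov u = sigma Q' P hdeg' hov' u) :
    ∀ r ∈ Algebra.adjoin (P.O.toSubring.map (algebraMap K K')) (Set.range (algebraMap k' K')),
      (Q.1 r ≤ 1 ∧ Q'.1 r ≤ 1) ∧
        ∃ c : k', Q.1 (r - algebraMap k' K' c) < 1 ∧ Q'.1 (r - algebraMap k' K' c) < 1 := by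
  intro r hr
  induction hr using Algebra.adjoin_induction with
  | mem x hx =>
    obtain ⟨c, rfl⟩ := hx
    refine ⟨⟨Q.2.1 c, Q'.2.1 c⟩, c, ?_, ?_⟩ <;>
    · rw [sub_self, map_zero]; exact zero_lt_one
  | algebraMap r =>
    obtain ⟨r, a, ha, rfl⟩ := r
    refine ⟨⟨hov.le_one ha, hov'.le_one ha⟩, sigma Q P hdeg hov ⟨a, ha⟩, ?_, ?_⟩
    · exact sigma_spec Q P hdeg hov ⟨a, ha⟩
    · rw [hσ]; exact sigma_spec Q' P hdeg' hov' ⟨a, ha⟩
  | add x y _ _ hx hy =>
    obtain ⟨⟨hx1, hx1'⟩, c, hc, hc'⟩ := hx
    obtain ⟨⟨hy1, hy1'⟩, d, hd, hd'⟩ := hy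
    have key : x + y - algebraMap k' K' (c + d) =
        (x - algebraMap k' K' c) + (y - algebraMap k' K' d) := by rw [map_add]; ring
    refine ⟨⟨(Q.1.map_add x y).trans (max_le hx1 hy1), (Q'.1.map_add x y).trans (max_le hx1' hy1')⟩,
      c + d, ?_, ?_⟩
    · rw [key]; exact lt_of_le_of_lt (Q.1.map_add _ _) (max_lt hc hd)
    · rw [key]; exact lt_of_le_of_lt (Q'.1.map_add _ _) (max_lt hc' hd')
  | mul x y _ _ hx hy =>
    obtain ⟨⟨hx1, hx1'⟩, c, hc, hc'⟩ := hx
    obtain ⟨⟨hy1, hy1'⟩, d, hd, hd'⟩ := hy
    have key : x * y - algebraMap k' K' (c * d) =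
        x * (y - algebraMap k' K' d) + algebraMap k' K' d * (x - algebraMap k' K' c) := by
      rw [map_mul]; ring
    have aux : ∀ (R : Place k' K'), R.1 x ≤ 1 → R.1 (x - algebraMap k' K' c) < 1 →
        R.1 (y - algebraMap k' K' d) < 1 →
        R.1 (x * (y - algebraMap k' K' d) + algebraMap k' K' d * (x - algebraMap k' K' c)) < 1 := by
      intro R h1 h2 h3
      refine lt_of_le_of_lt (R.1.map_add _ _) (max_lt ?_ ?_)
      · rw [map_mul]
        calc R.1 x * R.1 (y - algebraMap k' K' d) ≤ 1 * R.1 (y - algebraMap k' K' d) :=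
              mul_le_mul' h1 le_rfl
          _ < 1 := by rw [one_mul]; exact h3
      · rw [map_mul]
        calc R.1 (algebraMap k' K' d) * R.1 (x - algebraMap k' K' c)
            ≤ 1 * R.1 (x - algebraMap k' K' c) := mul_le_mul' (R.2.1 d) le_rfl
          _ < 1 := by rw [one_mul]; exact h2
    refine ⟨⟨by rw [map_mul]; exact mul_le_one' hx1 hy1, by rw [map_mul]; exact mul_le_one' hx1' hy1'⟩,
      c * d, ?_, ?_⟩
    · rw [key]; exact aux Q hx1 hc hd
    · rw [key]; exact aux Q' hx1' hc' hd'

/-- places above a nonsingular place with the same reduction coincide. -/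
theorem eq_of_sigma_eq
    (h : Function.Bijective (Algebra.TensorProduct.productMap
      (IsScalarTower.toAlgHom k k' K') (IsScalarTower.toAlgHom k K K')))
    (hK : IsFunctionField k K) (P : Place k K)
    (hns : integralClosure (P.O.toSubring.map (algebraMap K K')) K' =
      Algebra.adjoin (P.O.toSubring.map (algebraMap K K')) (Set.range (algebraMap k' K')))
    (Q Q' : Place k' K') (hdeg : Q.deg = 1) (hdeg' : Q'.deg = 1) {e e' : ℕ}
    (hov : Over Q P e) (hov' : Over Q' P e')
    (hσ : ∀ u, sigma Q P hdeg hov u = sigma Q' P hdeg' hov' u) : Q = Q' := by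
  classical
  by_contra hne
  haveI : FiniteDimensional K K' := LeadCE.finiteDimensional_of_surjective h.2
  set Q₀ : Place k K' := down (k := k) Q with hQ₀
  set Q₀' : Place k K' := down (k := k) Q' with hQ₀'
  have hne₀ : Q₀ ≠ Q₀' := by
    intro heq
    apply hne
    apply Subtype.ext
    exact congrArg (fun R : Place k K' => R.1) heq
  have hfin := LeadFF.finite_over (K' := K') hK P
  have hQ₀P : IsOver Q₀ P := ⟨e, hov.2⟩
  have hQ₀'P : IsOver Q₀' P := ⟨e', hov'.2⟩
  obtain ⟨r, hr⟩ := LeadFG.weak_approx hfin.toFinset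
    (fun R => if R = Q₀' then (1 : K') else 0)
    (fun R => if R = Q₀ ∨ R = Q₀' then (-1 : ℤ) else 0)
  have hrQ : Q.1 r < 1 := by
    have := hr Q₀ (hfin.mem_toFinset.mpr hQ₀P)
    simp only [if_neg hne₀, sub_zero, true_or, if_true] at this
    show Q₀.1 r < 1
    rw [this, ← exp_zero, exp_lt_exp]; norm_num
  have hrQ' : Q'.1 (r - 1) < 1 := by
    have := hr Q₀' (hfin.mem_toFinset.mpr hQ₀'P)
    simp only [if_true, or_true] at this
    show Q₀'.1 (r - 1) < 1
    rw [this, ← exp_zero, exp_lt_exp]; norm_num
  have hrint : IsIntegral (P.O.toSubring.map (algebraMap K K')) r := by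
    apply isIntegral_map_of_forall_over hK P
    intro R hR
    by_cases h1 : R = Q₀
    · subst h1; exact hrQ.le
    · by_cases h2 : R = Q₀'
      · subst h2
        have : r = (r - 1) + 1 := by ring
        rw [this]
        exact (Q₀'.1.map_add _ _).trans (max_le hrQ'.le (by rw [map_one]))
      · have := hr R (hfin.mem_toFinset.mpr hR)
        simp only [if_neg h2, sub_zero, h1, h2, or_self, if_false, exp_zero] at this
        exact this.le
  have hrmem : r ∈ Algebra.adjoin (P.O.toSubring.map (algebraMap K K'))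
      (Set.range (algebraMap k' K')) := by rw [← hns]; exact hrint
  obtain ⟨-, c, hc, hc'⟩ := exists_common_const P Q Q' hdeg hdeg' hov hov' hσ r hrmem
  have hc0 : c = 0 := by
    apply const_eq_zero_of_lt_one Q
    have : algebraMap k' K' c = r - (r - algebraMap k' K' c) := by ring
    rw [this]
    exact lt_of_le_of_lt (Q.1.map_sub _ _) (max_lt hrQ hc)
  have hc1 : c - 1 = 0 := by
    apply const_eq_zero_of_lt_one Q'
    have : algebraMap k' K' (c - 1) = (r - 1) - (r - algebraMap k' K' c) := by
      rw [map_sub, map_one]; ring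
    rw [this]
    exact lt_of_le_of_lt (Q'.1.map_sub _ _) (max_lt hrQ' hc')
  rw [hc0] at hc1
  norm_num at hc1

end Inj

section Indep

variable {k' : Type u} {K' : Type v} [Field k'] [Field K'] [Algebra k' K']

/-- `1, π, …, π^{e-1}` are `k'`-independent modulo `π^e`. -/
lemma indep_pow_unif (Q : Place k' K') {π : K'} (hπ : Q.1 π = exp (-1 : ℤ)) (e : ℕ)
    (c : Fin e → k') (hc : Q.1 (∑ i, algebraMap k' K' (c i) * π ^ (i : ℕ)) ≤ exp (-(e : ℤ))) :
    c = 0 := by
  have hβ : LinearIndependent k' (fun _ : Fin 1 => IsLocalRing.residue Q.O (1 : Q.O)) := by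
    apply LinearIndependent.of_subsingleton (0 : Fin 1)
    rw [map_one]; exact one_ne_zero
  have := LeadCE.local_indep Q hπ (fun _ : Fin 1 => (1 : Q.O)) hβ e (fun i _ => c i) (by
    convert hc using 2
    refine Finset.sum_congr rfl fun i _ => ?_
    simp)
  funext i
  exact this i 0

end Indep

section RamBound

attribute [-instance] IsLocalRing.instModuleResidueFieldOfAlgebra

open Groth.Agent.R2.H57.UnifCond

variable {k k' : Type u} {K K' : Type v} [Field k] [Field k'] [Field K] [Field K']
  [Algebra k k'] [FiniteDimensional k k'] [Algebra k K] [Algebra K K'] [Algebra k' K']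
  [Algebra k K'] [IsScalarTower k k' K'] [IsScalarTower k K K']

/-- the ramification index at a degree one place above a nonsingular place is at most the
inseparable degree of the residue field. -/
theorem ramIdx_le
    (h : Function.Bijective (Algebra.TensorProduct.productMap
      (IsScalarTower.toAlgHom k k' K') (IsScalarTower.toAlgHom k K K')))
    (hK : IsFunctionField k K) (P : Place k K)
    (hns : integralClosure (P.O.toSubring.map (algebraMap K K')) K' =
      Algebra.adjoin (P.O.toSubring.map (algebraMap K K')) (Set.range (algebraMap k' K')))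
    (Q : Place k' K') (hdeg : Q.deg = 1) {e : ℕ} (hov : Over Q P e) :
    e ≤ Module.finrank (separableClosure k (IsLocalRing.ResidueField P.O))
      (IsLocalRing.ResidueField P.O) := by
  classical
  haveI : FiniteDimensional K K' := LeadCE.finiteDimensional_of_surjective h.2
  haveI hFfin : FiniteDimensional k (IsLocalRing.ResidueField P.O) :=
    LeadFF.residueField_finite hK P
  let B := Module.finBasis (separableClosure k (IsLocalRing.ResidueField P.O))
    (IsLocalRing.ResidueField P.O)
  choose v hv using fun l => IsLocalRing.residue_surjective (R := P.O) (B l)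
  obtain ⟨t, ht⟩ := LeadFF.exists_unif P
  have hmono : ∀ a : K, P.1 a < 1 → Q.1 (algebraMap K K' a) ≤ exp (-(e : ℤ)) := by
    intro a ha
    have h1 : P.1 a ≤ exp (-1 : ℤ) := LeadFF.zm0_lt_one_iff.mp ha
    rw [hov.2]
    calc P.1 a ^ e ≤ (exp (-1 : ℤ) : LeadFG.ZM0) ^ e := pow_le_pow_left' h1 e
      _ = exp (-(e : ℤ)) := by rw [LeadFF.zm0_exp_pow]; congr 1; ring
  -- the two `k'`-submodules
  let T : Submodule k' K' :=
    { carrier := {x | Q.1 x ≤ exp (-(e : ℤ))}
      add_mem' := fun ha hb => (Q.1.map_add _ _).trans (max_le ha hb)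
      zero_mem' := by simp
      smul_mem' := fun c x hx => by
        show Q.1 (c • x) ≤ _
        rw [Algebra.smul_def, map_mul]
        exact (mul_le_mul' (Q.2.1 c) hx).trans (by rw [one_mul]) }
  let S : Submodule k' K' :=
    Submodule.span k' (Set.range fun l => algebraMap K K' (v l : K))
  have hTmul : ∀ x y : K', Q.1 x ≤ 1 → y ∈ T → x * y ∈ T := by
    intro x y hx hy
    show Q.1 (x * y) ≤ _
    rw [map_mul]
    exact (mul_le_mul' hx hy).trans (by rw [one_mul])
  -- Step 1: `O_P ⊆ S + T`
  have h1 : ∀ u : P.O, algebraMap K K' (u : K) ∈ S ⊔ T := by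
    intro u
    set s := B.repr (IsLocalRing.residue P.O u) with hs
    choose w hw using fun l => IsLocalRing.residue_surjective (R := P.O)
      ((s l : separableClosure k (IsLocalRing.ResidueField P.O)) : IsLocalRing.ResidueField P.O)
    have hres : IsLocalRing.residue P.O (u - ∑ l, w l * v l) = 0 := by
      rw [map_sub, map_sum]
      simp only [map_mul, hw, hv]
      rw [sub_eq_zero]
      conv_lhs => rw [← B.sum_repr (IsLocalRing.residue P.O u)]
      refine Finset.sum_congr rfl fun l _ => ?_
      rfl
    rw [LeadFF.residue_eq_zero_iff] at hres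
    have hmem : algebraMap K K' ((u - ∑ l, w l * v l : P.O) : K) ∈ T := hmono _ hres
    have hdecomp : algebraMap K K' (u : K) =
        algebraMap K K' ((u - ∑ l, w l * v l : P.O) : K) +
          ∑ l, algebraMap K K' (w l : K) * algebraMap K K' (v l : K) := by
      have : ((u - ∑ l, w l * v l : P.O) : K) = (u : K) - ∑ l, (w l : K) * (v l : K) := by
        simp only [AddSubgroupClass.coe_sub, AddSubmonoidClass.coe_finsetSum,
          MulMemClass.coe_mul]
      rw [this, map_sub, map_sum]
      simp only [map_mul]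
      ring
    rw [hdecomp]
    refine Submodule.add_mem _ (Submodule.mem_sup_right hmem)
      (Submodule.sum_mem _ fun l _ => ?_)
    set c := sigma Q P hdeg hov (w l) with hcdef
    have hc := sigma_spec Q P hdeg hov (w l)
    set g := minpoly k ((s l : separableClosure k (IsLocalRing.ResidueField P.O)) :
      IsLocalRing.ResidueField P.O) with hg
    have hsep : g.Separable := (mem_separableClosure_iff).mp (s l).2
    have hroot : Polynomial.aeval c g = 0 := by
      have : c = tau Q P hdeg hov ((s l : separableClosure k (IsLocalRing.ResidueField P.O)) :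
          IsLocalRing.ResidueField P.O) := by rw [← hw l]; rfl
      rw [this, Polynomial.aeval_algHom_apply, minpoly.aeval, map_zero]
    have hval := val_aeval_eq_of_separable Q g hsep (hov.le_one (w l).2) hc hroot
    have hPg : P.1 (Polynomial.aeval ((w l : P.O) : K) g) < 1 := by
      have e1 : IsLocalRing.residue P.O (Polynomial.aeval (w l) g) = 0 := by
        have := Polynomial.aeval_algHom_apply
          (IsScalarTower.toAlgHom k P.O (IsLocalRing.ResidueField P.O)) (w l) g
        rw [IsScalarTower.coe_toAlgHom'] at this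
        show algebraMap P.O (IsLocalRing.ResidueField P.O) (Polynomial.aeval (w l) g) = 0
        rw [← this]
        show Polynomial.aeval (IsLocalRing.residue P.O (w l)) g = 0
        rw [hw l]
        exact minpoly.aeval k _
      rw [LeadFF.residue_eq_zero_iff] at e1
      have e2 : ((Polynomial.aeval (w l) g : P.O) : K) = Polynomial.aeval ((w l : P.O) : K) g := by
        have := Polynomial.aeval_algHom_apply (IsScalarTower.toAlgHom k P.O K) (w l) g
        rw [IsScalarTower.coe_toAlgHom'] at this
        exact this.symm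
      rw [e2] at e1
      exact e1
    have hQg : Q.1 (Polynomial.aeval (algebraMap K K' (w l : K)) g) ≤ exp (-(e : ℤ)) := by
      rw [Polynomial.aeval_algebraMap_apply]; exact hmono _ hPg
    have hdiff : algebraMap K K' (w l : K) - algebraMap k' K' c ∈ T := by
      show Q.1 _ ≤ _
      rw [← hval]; exact hQg
    have : algebraMap K K' (w l : K) * algebraMap K K' (v l : K) =
        c • algebraMap K K' (v l : K) +
          algebraMap K K' (v l : K) * (algebraMap K K' (w l : K) - algebraMap k' K' c) := by
      rw [Algebra.smul_def]; ring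
    rw [this]
    exact Submodule.add_mem _
      (Submodule.mem_sup_left (Submodule.smul_mem _ _ (Submodule.subset_span ⟨l, rfl⟩)))
      (Submodule.mem_sup_right (hTmul _ _ (hov.le_one (v l).2) hdiff))
  -- Step 2: `O_P[k'] ⊆ S + T`
  have h2 : ∀ r ∈ Algebra.adjoin (P.O.toSubring.map (algebraMap K K'))
      (Set.range (algebraMap k' K')), r ∈ S ⊔ T := by
    intro r hr
    let b := Module.finBasis k k'
    have hcoord := (mem_adjoin_map_iff h b P.O.toSubring (fun c => P.2.1 c) r).mp hr
    rw [← (coordBasis h b).sum_repr r]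
    refine Submodule.sum_mem _ fun j _ => ?_
    rw [Algebra.smul_def, coordBasis_apply, mul_comm, ← Algebra.smul_def]
    exact Submodule.smul_mem _ _ (h1 ⟨_, hcoord j⟩)
  -- Step 3: `O_Q ⊆ S + T`
  have h3 : ∀ w : K', Q.1 w ≤ 1 → w ∈ S ⊔ T := by
    intro w hw
    set Q₀ : Place k K' := down (k := k) Q with hQ₀
    have hfin := LeadFF.finite_over (K' := K') hK P
    have hQ₀P : IsOver Q₀ P := ⟨e, hov.2⟩
    obtain ⟨r, hr⟩ := LeadFG.weak_approx hfin.toFinset
      (fun R => if R = Q₀ then w else 0) (fun R => if R = Q₀ then -(e : ℤ) else 0)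
    have hrQ : Q.1 (r - w) = exp (-(e : ℤ)) := by
      have := hr Q₀ (hfin.mem_toFinset.mpr hQ₀P)
      simp only [if_true] at this
      exact this
    have hrint : IsIntegral (P.O.toSubring.map (algebraMap K K')) r := by
      apply isIntegral_map_of_forall_over hK P
      intro R hR
      by_cases hRQ : R = Q₀
      · subst hRQ
        have : r = (r - w) + w := by ring
        rw [this]
        refine (Q₀.1.map_add _ _).trans (max_le ?_ hw)
        show Q.1 (r - w) ≤ 1
        rw [hrQ, ← exp_zero, exp_le_exp]; omega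
      · have := hr R (hfin.mem_toFinset.mpr hR)
        simp only [if_neg hRQ, sub_zero, exp_zero] at this
        exact this.le
    have hrmem : r ∈ Algebra.adjoin (P.O.toSubring.map (algebraMap K K'))
        (Set.range (algebraMap k' K')) := by rw [← hns]; exact hrint
    have hwr : w - r ∈ T := by
      show Q.1 (w - r) ≤ _
      rw [Valuation.map_sub_swap, hrQ]
    have : w = r + (w - r) := by ring
    rw [this]
    exact Submodule.add_mem _ (h2 r hrmem) (Submodule.mem_sup_right hwr)
  -- Step 4: powers of a uniformizer of `Q`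
  obtain ⟨π, hπ⟩ := Q.2.2 (exp (-1 : ℤ))
  have hπ1 : Q.1 π ≤ 1 := by rw [hπ, ← exp_zero, exp_le_exp]; norm_num
  let φ : (Fin e → k') →ₗ[k'] K' ⧸ T :=
    T.mkQ ∘ₗ Fintype.linearCombination k' (fun i : Fin e => π ^ (i : ℕ))
  have hφinj : Function.Injective φ := by
    rw [← LinearMap.ker_eq_bot, LinearMap.ker_eq_bot']
    intro c hc
    have hc' : (∑ i, c i • π ^ (i : ℕ)) ∈ T := by
      have : T.mkQ (Fintype.linearCombination k' (fun i : Fin e => π ^ (i : ℕ)) c) = 0 := hc
      rw [Submodule.mkQ_apply, Submodule.Quotient.mk_eq_zero,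
        Fintype.linearCombination_apply] at this
      exact this
    apply indep_pow_unif Q hπ e c
    have : ∑ i, algebraMap k' K' (c i) * π ^ (i : ℕ) = ∑ i, c i • π ^ (i : ℕ) :=
      Finset.sum_congr rfl fun i _ => (Algebra.smul_def _ _).symm
    rw [this]
    exact hc'
  have hrange : LinearMap.range φ ≤ S.map T.mkQ := by
    rintro _ ⟨c, rfl⟩
    have hmem : Fintype.linearCombination k' (fun i : Fin e => π ^ (i : ℕ)) c ∈ S ⊔ T := by
      rw [Fintype.linearCombination_apply]
      refine Submodule.sum_mem _ fun i _ => Submodule.smul_mem _ _ (h3 _ ?_)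
      rw [map_pow]; exact pow_le_one' hπ1 _
    obtain ⟨s, hs, t', ht', hst⟩ := Submodule.mem_sup.mp hmem
    refine ⟨s, hs, ?_⟩
    show T.mkQ s = T.mkQ (Fintype.linearCombination k' (fun i : Fin e => π ^ (i : ℕ)) c)
    have ht0 : T.mkQ t' = 0 := (Submodule.Quotient.mk_eq_zero T).mpr ht'
    rw [← hst, map_add, ht0, add_zero]
  haveI : Module.Finite k' S := Module.Finite.span_of_finite k' (Set.finite_range _)
  haveI : Module.Finite k' (S.map T.mkQ) := Module.Finite.map S T.mkQ
  calc e = Module.finrank k' (Fin e → k') := by simp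
    _ = Module.finrank k' (LinearMap.range φ) := (LinearMap.finrank_range_of_inj hφinj).symm
    _ ≤ Module.finrank k' (S.map T.mkQ) := Submodule.finrank_mono hrange
    _ ≤ Module.finrank k' S := Submodule.finrank_map_le _ _
    _ ≤ Module.finrank (separableClosure k (IsLocalRing.ResidueField P.O))
        (IsLocalRing.ResidueField P.O) := by
      have := finrank_range_le_card (R := k') (fun l => algebraMap K K' (v l : K))
      simpa [Set.finrank] using this

end RamBound

end Groth.Agent.R2.H57.Count
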