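import Groth.Agent.R2.H57Count

/-! The count of places above a nonsingular place in a splitting constant extension. -/

set_option autoImplicit false

namespace Groth.Agent.R2.H57.Count

open FunFld WithZero TensorProduct Polynomial
open Groth.Agent.Lib Groth.Agent.R2.H57.ConstExt Groth.Agent.R2.H57.ConstExtTower

universe u v

section Final

attribute [-instance] IsLocalRing.instModuleResidueFieldOfAlgebra

open Groth.Agent.R2.H57.UnifCond

variable {k k' : Type u} {K K' : Type v} [Field k] [Field k'] [Field K] [Field K']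
  [Algebra k k'] [FiniteDimensional k k'] [Algebra k K] [Algebra K K'] [Algebra k' K']
  [Algebra k K'] [IsScalarTower k k' K'] [IsScalarTower k K K']

/-- in a splitting constant extension there are exactly `[F_P : k]_s` places above a nonsingular
place `P`, each of ramification index `[F_P : k]_i`. -/
theorem count
    (h : Function.Bijective (Algebra.TensorProduct.productMap
      (IsScalarTower.toAlgHom k k' K') (IsScalarTower.toAlgHom k K K')))
    (hK : IsFunctionField k K) (P : Place k K)
    (hns : integralClosure (P.O.toSubring.map (algebraMap K K')) K' =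
      Algebra.adjoin (P.O.toSubring.map (algebraMap K K')) (Set.range (algebraMap k' K')))
    (hsplit : ∀ Q : Place k' K', (∃ e : ℕ, ∀ z : K, Q.1 (algebraMap K K' z) = P.1 z ^ e) →
      Q.deg = 1) :
    {Q : Place k' K' | ∃ e : ℕ, ∀ z : K, Q.1 (algebraMap K K' z) = P.1 z ^ e}.Finite ∧
    {Q : Place k' K' | ∃ e : ℕ, ∀ z : K, Q.1 (algebraMap K K' z) = P.1 z ^ e}.ncard =
      Field.finSepDegree k (IsLocalRing.ResidueField P.O) ∧
    ∀ Q : Place k' K', (∃ e : ℕ, ∀ z : K, Q.1 (algebraMap K K' z) = P.1 z ^ e) →
      ∀ z : K, Q.1 (algebraMap K K' z) = P.1 z ^ Module.finrank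
        (separableClosure k (IsLocalRing.ResidueField P.O)) (IsLocalRing.ResidueField P.O) := by
  classical
  haveI : FiniteDimensional K K' := LeadCE.finiteDimensional_of_surjective h.2
  haveI hFfin : FiniteDimensional k (IsLocalRing.ResidueField P.O) :=
    LeadFF.residueField_finite hK P
  set S' : Set (Place k' K') :=
    {Q | ∃ e : ℕ, ∀ z : K, Q.1 (algebraMap K K' z) = P.1 z ^ e} with hS'
  have hOver : ∀ Q ∈ S', Over Q P (ramIdx (down (k := k) Q) P) := by
    intro Q hQ
    obtain ⟨e, he⟩ := hQ
    have he' : IsOverWith (down (k := k) Q) P e := he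
    rw [LeadFF.ramIdx_eq he']
    exact ⟨LeadFF.isOverWith_pos he', he⟩
  have hfin0 := LeadFF.finite_over (K' := K') hK P
  have hdown_inj : Function.Injective (down (k := k) : Place k' K' → Place k K') := by
    intro Q Q' hQQ'
    apply Subtype.ext
    exact congrArg (fun R : Place k K' => R.1) hQQ'
  have hfin : S'.Finite := by
    apply Set.Finite.subset (hfin0.preimage (hdown_inj.injOn))
    intro Q hQ
    exact hQ
  have himage : hfin0.toFinset = hfin.toFinset.image (down (k := k)) := by
    ext Q₀
    simp only [Set.Finite.mem_toFinset, Finset.mem_image, Set.mem_ofPred_eq]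
    constructor
    · intro hQ₀
      exact ⟨LeadZT.up (k' := k') Q₀, hQ₀, Subtype.ext rfl⟩
    · rintro ⟨Q, hQ, rfl⟩
      exact hQ
  have hsum := LeadFF.sum_ramIdx_deg hK P hfin0.toFinset (fun Q => hfin0.mem_toFinset)
  rw [himage, Finset.sum_image (fun _ _ _ _ hxy => hdown_inj hxy),
    LeadZT.finrank_constExt h] at hsum
  have hdegs : ∀ Q ∈ hfin.toFinset, (down (k := k) Q).deg = Module.finrank k k' := by
    intro Q hQ
    have hQ' := hfin.mem_toFinset.mp hQ
    have := LeadZT.up_deg (k' := k') (down (k := k) Q)
    have hup : LeadZT.up (k' := k') (down (k := k) Q) = Q := Subtype.ext rfl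
    rw [hup, hsplit Q hQ', one_mul] at this
    exact this.symm
  have hsum2 : (∑ Q ∈ hfin.toFinset, ramIdx (down (k := k) Q) P) * Module.finrank k k' =
      Module.finrank k k' * P.deg := by
    rw [← hsum, Finset.sum_mul]
    apply Finset.sum_congr rfl
    intro Q hQ
    rw [hdegs Q hQ]
  have hn : 0 < Module.finrank k k' := Module.finrank_pos
  have hsum3 : ∑ Q ∈ hfin.toFinset, ramIdx (down (k := k) Q) P = P.deg := by
    rw [mul_comm] at hsum2
    exact Nat.eq_of_mul_eq_mul_left hn hsum2
  -- the injection into the embeddings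
  let Ω := AlgebraicClosure k'
  let ι : k' →ₐ[k] Ω := IsScalarTower.toAlgHom k k' Ω
  let f : S' → (IsLocalRing.ResidueField P.O →ₐ[k] Ω) := fun Q =>
    ι.comp (tau Q.1 P (hsplit Q.1 Q.2) (hOver Q.1 Q.2))
  have hf : Function.Injective f := by
    intro Q Q' hQQ'
    apply Subtype.ext
    apply eq_of_sigma_eq h hK P hns Q.1 Q'.1 (hsplit Q.1 Q.2) (hsplit Q'.1 Q'.2)
      (hOver Q.1 Q.2) (hOver Q'.1 Q'.2)
    intro u
    have := DFunLike.congr_fun hQQ' (IsLocalRing.residue P.O u)
    simp only [f, AlgHom.comp_apply, tau_residue] at this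
    exact (ι : k' →+* Ω).injective this
  have hcard : S'.ncard ≤ Field.finSepDegree k (IsLocalRing.ResidueField P.O) := by
    rw [Field.finSepDegree_eq_of_isAlgClosed k (IsLocalRing.ResidueField P.O) Ω,
      ← Nat.card_coe_set_eq]
    exact Nat.card_le_card_of_injective f hf
  have hle : ∀ Q ∈ hfin.toFinset, ramIdx (down (k := k) Q) P ≤
      Module.finrank (separableClosure k (IsLocalRing.ResidueField P.O))
        (IsLocalRing.ResidueField P.O) := fun Q hQ =>
    ramIdx_le h hK P hns Q (hsplit Q (hfin.mem_toFinset.mp hQ)) (hOver Q (hfin.mem_toFinset.mp hQ))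
  have hmul := Field.finSepDegree_mul_finInsepDegree k (IsLocalRing.ResidueField P.O)
  have hPdeg : P.deg = Module.finrank k (IsLocalRing.ResidueField P.O) := rfl
  have hdi : Field.finInsepDegree k (IsLocalRing.ResidueField P.O) =
    Module.finrank (separableClosure k (IsLocalRing.ResidueField P.O))
        (IsLocalRing.ResidueField P.O) := rfl
  rw [hdi] at hmul
  have hcardeq : S'.ncard = hfin.toFinset.card := Set.ncard_eq_toFinset_card S' hfin
  have hsumle := Finset.sum_le_card_nsmul hfin.toFinset _ _ hle
  rw [smul_eq_mul, hsum3, ← hcardeq] at hsumle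
  have hdi_pos : 0 < Module.finrank (separableClosure k (IsLocalRing.ResidueField P.O))
        (IsLocalRing.ResidueField P.O) := Module.finrank_pos
  have h1 : S'.ncard * Module.finrank (separableClosure k (IsLocalRing.ResidueField P.O))
        (IsLocalRing.ResidueField P.O) = Field.finSepDegree k (IsLocalRing.ResidueField P.O) *
      Module.finrank (separableClosure k (IsLocalRing.ResidueField P.O))
        (IsLocalRing.ResidueField P.O) := by
    apply le_antisymm (Nat.mul_le_mul_right _ hcard)
    rw [hmul, ← hPdeg]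
    exact hsumle
  have hcard_eq : S'.ncard = Field.finSepDegree k (IsLocalRing.ResidueField P.O) :=
    Nat.eq_of_mul_eq_mul_right hdi_pos h1
  have hall : ∀ Q ∈ hfin.toFinset, ramIdx (down (k := k) Q) P =
      Module.finrank (separableClosure k (IsLocalRing.ResidueField P.O))
        (IsLocalRing.ResidueField P.O) := by
    have hsum_eq : ∑ Q ∈ hfin.toFinset, ramIdx (down (k := k) Q) P =
        ∑ _Q ∈ hfin.toFinset, Module.finrank (separableClosure k (IsLocalRing.ResidueField P.O))
        (IsLocalRing.ResidueField P.O) := by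
      rw [Finset.sum_const, smul_eq_mul, ← hcardeq, h1, hmul, ← hPdeg, hsum3]
    exact (Finset.sum_eq_sum_iff_of_le hle).mp hsum_eq
  refine ⟨hfin, hcard_eq, ?_⟩
  intro Q hQ z
  have := (hOver Q hQ).2 z
  rw [hall Q (hfin.mem_toFinset.mpr hQ)] at this
  exact this

end Final

end Groth.Agent.R2.H57.Count
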