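import Groth.Agent.R2.H57PlaneModel
import Groth.Agent.Lib.LeadFF16

/-! Places of a plane model away from the poles of `x`, `y` and the zeros of `δ = H_Y(x,y)` are
nonsingular with respect to every finite constant extension. -/

set_option autoImplicit false

namespace Groth.Agent.R2.H57.Sing

open FunFld Polynomial
open Groth.Agent.Lib Groth.Agent.R2.H57.UnifCond Groth.Agent.R2.H57.ConstExt

section

variable {k k' K K' : Type*} [Field k] [Field k'] [Field K] [Field K']
  [Algebra k k'] [FiniteDimensional k k'] [Algebra k K] [Algebra K K'] [Algebra k' K']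
  [Algebra k K'] [IsScalarTower k k' K'] [IsScalarTower k K K']

theorem nonsingular_of_good
    (h : Function.Bijective (Algebra.TensorProduct.productMap
      (IsScalarTower.toAlgHom k k' K') (IsScalarTower.toAlgHom k K K')))
    (hK : IsFunctionField k K) {x y : K} (hx : Transcendental k x)
    (hgen : IntermediateField.adjoin k ({x, y} : Set K) = ⊤)
    (H : (k[X])[X]) (hH : H.Monic) (hroot : ev x y H = 0)
    (P : Place k K) (hPx : P.1 x ≤ 1) (hPy : P.1 y ≤ 1)
    (hPδ : 1 ≤ P.1 (ev x y (Polynomial.derivative H))) :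
    integralClosure (P.O.toSubring.map (algebraMap K K')) K' =
      Algebra.adjoin (P.O.toSubring.map (algebraMap K K')) (Set.range (algebraMap k' K')) := by
  have hδ : ev x y (Polynomial.derivative H) ≠ 0 := by
    intro h0; rw [h0, map_zero] at hPδ; exact absurd hPδ (by simp)
  apply le_antisymm _ (adjoin_le_integralClosure_map (K' := K') (k' := k') P)
  intro z hz
  have hmem := uniform_conductor h hK hx hgen H hH hroot hδ P hPx hPy hz
  set δ := ev x y (Polynomial.derivative H) with hδdef
  have hinv : P.1 δ⁻¹ ≤ 1 := by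
    rw [map_inv₀]
    exact inv_le_one_of_one_le₀ hPδ
  have hδ' : algebraMap K K' δ ≠ 0 := (_root_.map_ne_zero _).mpr hδ
  have hz' : z = algebraMap K K' δ⁻¹ * (algebraMap K K' δ * z) := by
    rw [map_inv₀]; field_simp
  rw [hz']
  refine Subalgebra.mul_mem _ ?_ hmem
  exact Subalgebra.algebraMap_mem _
    (⟨algebraMap K K' δ⁻¹, ⟨δ⁻¹, hinv, rfl⟩⟩ : P.O.toSubring.map (algebraMap K K'))

end

section

variable {k K : Type*} [Field k] [Field K] [Algebra k K]

/-- finiteness of the exceptional set of a plane model. -/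
theorem bad_finite (hK : IsFunctionField k K) (x y : K) (H : (k[X])[X])
    (hδ : ev x y (Polynomial.derivative H) ≠ 0) :
    {P : Place k K | ¬ (P.1 x ≤ 1 ∧ P.1 y ≤ 1 ∧
      1 ≤ P.1 (ev x y (Polynomial.derivative H)))}.Finite := by
  apply (((LeadFF.poles_finite' hK x).union (LeadFF.poles_finite' hK y)).union
    (LeadFF.zeros_finite' hK hδ)).subset
  intro P hP
  simp only [Set.mem_setOf_eq] at hP
  simp only [Set.mem_union, Set.mem_setOf_eq]
  by_contra hcon
  push_neg at hcon
  exact hP ⟨hcon.1.1, hcon.1.2, hcon.2⟩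

end

end Groth.Agent.R2.H57.Sing
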