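import Groth.Agent.R2.H57ConstExtTower
import Groth.Agent.R2.H57Sing

/-! The defect of a place with respect to a finite constant extension: the number of elements of the
integral closure of `O_P` in `K' = k' ⊗ K` that are `k'`-linearly independent modulo `O_P[k']`.
It is bounded independently of `k'` (uniform conductor), monotone in `k'`, and if it does not grow
from `k'` to `k''` then the integral closure in `K''` is generated by the one in `K'`. -/

set_option autoImplicit false

namespace Groth.Agent.R2.H57.Defect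

open FunFld WithZero TensorProduct Polynomial
open Groth.Agent.Lib Groth.Agent.R2.H57.ConstExt Groth.Agent.R2.H57.ConstExtTower
open Groth.Agent.R2.H57.UnifCond

universe u v

section Span

variable {k : Type u} {K : Type v} [Field k] [Field K] [Algebra k K]

/-- `O_P` is spanned over `k`, modulo `t^N O_P`, by finitely many elements. -/
theorem exists_span_mod (hK : IsFunctionField k K) (P : Place k K) (N : ℕ) :
    ∃ (r : ℕ) (a : Fin r → K), (∀ l, P.1 (a l) ≤ 1) ∧ ∀ u : K, P.1 u ≤ 1 →
      ∃ c : Fin r → k, P.1 (u - ∑ l, algebraMap k K (c l) * a l) ≤ exp (-(N : ℤ)) := by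
  classical
  induction N with
  | zero =>
    refine ⟨0, Fin.elim0, fun l => l.elim0, fun u hu => ⟨Fin.elim0, ?_⟩⟩
    simpa using hu
  | succ N ih =>
    obtain ⟨r, a, ha, hspan⟩ := ih
    obtain ⟨t, ht⟩ := LeadFF.exists_unif P
    have ht0 : t ≠ 0 := LeadFF.unif_ne_zero ht
    haveI := LeadFF.residueField_finite hK P
    let B := Module.finBasis k (IsLocalRing.ResidueField P.O)
    set f := Module.finrank k (IsLocalRing.ResidueField P.O) with hf
    choose sl hsl using fun j => IsLocalRing.residue_surjective (R := P.O) (B j)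
    have htN : P.1 (t ^ N) = exp (-(N : ℤ)) := by
      rw [map_pow, ht, LeadFF.zm0_exp_pow]; congr 1; ring
    refine ⟨r + f, Fin.append a (fun j => t ^ N * (sl j : K)), ?_, ?_⟩
    · intro l
      induction l using Fin.addCases with
      | left l => rw [Fin.append_left]; exact ha l
      | right j =>
        rw [Fin.append_right, map_mul, htN]
        calc exp (-(N : ℤ)) * P.1 (sl j : K) ≤ 1 * 1 := by
              refine mul_le_mul' ?_ (sl j).2
              rw [← exp_zero, exp_le_exp]; omega
          _ = 1 := one_mul 1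
    · intro u hu
      obtain ⟨c, hc⟩ := hspan u hu
      set v := u - ∑ l, algebraMap k K (c l) * a l with hv
      have hv' : P.1 (v / t ^ N) ≤ 1 := by
        rw [map_div₀, htN]
        rw [div_le_iff₀ (by simp), one_mul]
        exact hc
      let vO : P.O := ⟨v / t ^ N, hv'⟩
      set d := B.repr (IsLocalRing.residue P.O vO) with hd
      have hres : IsLocalRing.residue P.O (vO - ∑ j, d j • sl j) = 0 := by
        rw [map_sub, map_sum]
        simp only [LeadFF.residue_smul, hsl]
        rw [hd]
        exact sub_eq_zero.mpr (B.sum_repr _).symm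
      rw [LeadFF.residue_eq_zero_iff] at hres
      have hcoe : ((vO - ∑ j, d j • sl j : P.O) : K) =
          v / t ^ N - ∑ j, algebraMap k K (d j) * (sl j : K) := by
        simp only [AddSubgroupClass.coe_sub, AddSubmonoidClass.coe_finsetSum, LeadFF.coe_smul_O, vO]
      rw [hcoe] at hres
      refine ⟨Fin.append c (fun j => d j), ?_⟩
      rw [Fin.sum_univ_add]
      simp only [Fin.append_left, Fin.append_right]
      have hEq : u - (∑ l, algebraMap k K (c l) * a l +
          ∑ j, algebraMap k K (d j) * (t ^ N * (sl j : K))) =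
          t ^ N * (v / t ^ N - ∑ j, algebraMap k K (d j) * (sl j : K)) := by
        rw [mul_sub, mul_div_cancel₀ _ (pow_ne_zero N ht0), hv, Finset.mul_sum]
        rw [sub_sub]
        congr 2
        refine Finset.sum_congr rfl fun j _ => ?_
        ring
      rw [hEq, map_mul, htN]
      have h1 : P.1 (v / t ^ N - ∑ j, algebraMap k K (d j) * (sl j : K)) ≤ exp (-1 : ℤ) :=
        LeadFF.zm0_lt_one_iff.mp hres
      calc exp (-(N : ℤ)) * P.1 (v / t ^ N - ∑ j, algebraMap k K (d j) * (sl j : K))
          ≤ exp (-(N : ℤ)) * exp (-1 : ℤ) := mul_le_mul' le_rfl h1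
        _ = exp (-((N + 1 : ℕ) : ℤ)) := by rw [← exp_add]; congr 1; push_cast; ring

end Span

section Def

variable {k : Type u} {K : Type v} [Field k] [Field K] [Algebra k K]

/-- `n` elements of the integral closure of `O_P` in `K'` that are `k'`-linearly independent
modulo `O_P[k']`. -/
def HasDefect (k' : Type u) (K' : Type v) [Field k'] [Field K'] [Algebra K K'] [Algebra k' K']
    (P : Place k K) (n : ℕ) : Prop :=
  ∃ z : Fin n → K', (∀ i, IsIntegral (P.O.toSubring.map (algebraMap K K')) (z i)) ∧
    ∀ c : Fin n → k', (∑ i, algebraMap k' K' (c i) * z i) ∈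
      Algebra.adjoin (P.O.toSubring.map (algebraMap K K')) (Set.range (algebraMap k' K')) → c = 0

variable {k' k'' : Type u} {K' L' : Type v} [Field k'] [Field k''] [Field K'] [Field L']
  [Algebra K K'] [Algebra k' K'] [Algebra K L'] [Algebra k'' L']

omit [Algebra k K] in
lemma map_mem_adjoin (ψ : K' →+* L') (j : k' →+* k'')
    (hψK : ∀ a, ψ (algebraMap K K' a) = algebraMap K L' a)
    (hψk : ∀ c, ψ (algebraMap k' K' c) = algebraMap k'' L' (j c)) (A : Subring K) {r : K'}
    (hr : r ∈ Algebra.adjoin (A.map (algebraMap K K')) (Set.range (algebraMap k' K'))) :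
    ψ r ∈ Algebra.adjoin (A.map (algebraMap K L')) (Set.range (algebraMap k'' L')) := by
  induction hr using Algebra.adjoin_induction with
  | mem x hx =>
    obtain ⟨c, rfl⟩ := hx
    rw [hψk]
    exact Algebra.subset_adjoin ⟨j c, rfl⟩
  | algebraMap r =>
    obtain ⟨r, a, ha, rfl⟩ := r
    show ψ (algebraMap K K' a) ∈ _
    rw [hψK]
    exact Subalgebra.algebraMap_mem _
      (⟨algebraMap K L' a, ⟨a, ha, rfl⟩⟩ : A.map (algebraMap K L'))
  | add x y _ _ hx hy => rw [map_add]; exact Subalgebra.add_mem _ hx hy
  | mul x y _ _ hx hy => rw [map_mul]; exact Subalgebra.mul_mem _ hx hy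

omit [Algebra k K] [Algebra k' K'] [Algebra k'' L'] in
lemma map_isIntegral (ψ : K' →+* L')
    (hψK : ∀ a, ψ (algebraMap K K' a) = algebraMap K L' a) (A : Subring K) {z : K'}
    (hz : IsIntegral (A.map (algebraMap K K')) z) :
    IsIntegral (A.map (algebraMap K L')) (ψ z) := by
  let φ : (A.map (algebraMap K K')) →+* (A.map (algebraMap K L')) :=
    RingHom.codRestrict (ψ.comp (A.map (algebraMap K K')).subtype) _ (fun a => by
      obtain ⟨_, a, ha, rfl⟩ := a
      exact ⟨a, ha, (hψK a).symm⟩)
  exact IsIntegral.map_of_comp_eq φ ψ (by ext; rfl) hz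

end Def

section Model

variable {k k' : Type u} {K K' L' : Type v} [Field k] [Field k'] [Field K] [Field K'] [Field L']
  [Algebra k k'] [Algebra k K]
  [Algebra K K'] [Algebra k' K'] [Algebra k K'] [IsScalarTower k k' K'] [IsScalarTower k K K']
  [Algebra K L'] [Algebra k' L'] [Algebra k L'] [IsScalarTower k k' L'] [IsScalarTower k K L']

/-- the canonical isomorphism between two models of `k' ⊗ K`. -/
noncomputable def modelEquiv
    (h₁ : Function.Bijective (Algebra.TensorProduct.productMap
      (IsScalarTower.toAlgHom k k' K') (IsScalarTower.toAlgHom k K K')))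
    (h₂ : Function.Bijective (Algebra.TensorProduct.productMap
      (IsScalarTower.toAlgHom k k' L') (IsScalarTower.toAlgHom k K L'))) : K' ≃ₐ[k] L' :=
  (AlgEquiv.ofBijective _ h₁).symm.trans (AlgEquiv.ofBijective _ h₂)

lemma modelEquiv_algebraMap_right
    (h₁ : Function.Bijective (Algebra.TensorProduct.productMap
      (IsScalarTower.toAlgHom k k' K') (IsScalarTower.toAlgHom k K K')))
    (h₂ : Function.Bijective (Algebra.TensorProduct.productMap
      (IsScalarTower.toAlgHom k k' L') (IsScalarTower.toAlgHom k K L'))) (a : K) :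
    modelEquiv h₁ h₂ (algebraMap K K' a) = algebraMap K L' a := by
  have e1 : algebraMap K K' a = AlgEquiv.ofBijective _ h₁ ((1 : k') ⊗ₜ[k] a) := by
    simp
  rw [modelEquiv, AlgEquiv.trans_apply, e1, AlgEquiv.symm_apply_apply]
  simp

lemma modelEquiv_algebraMap_left
    (h₁ : Function.Bijective (Algebra.TensorProduct.productMap
      (IsScalarTower.toAlgHom k k' K') (IsScalarTower.toAlgHom k K K')))
    (h₂ : Function.Bijective (Algebra.TensorProduct.productMap
      (IsScalarTower.toAlgHom k k' L') (IsScalarTower.toAlgHom k K L'))) (c : k') :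
    modelEquiv h₁ h₂ (algebraMap k' K' c) = algebraMap k' L' c := by
  have e1 : algebraMap k' K' c = AlgEquiv.ofBijective _ h₁ (c ⊗ₜ[k] (1 : K)) := by
    simp
  rw [modelEquiv, AlgEquiv.trans_apply, e1, AlgEquiv.symm_apply_apply]
  simp

lemma modelEquiv_symm
    (h₁ : Function.Bijective (Algebra.TensorProduct.productMap
      (IsScalarTower.toAlgHom k k' K') (IsScalarTower.toAlgHom k K K')))
    (h₂ : Function.Bijective (Algebra.TensorProduct.productMap
      (IsScalarTower.toAlgHom k k' L') (IsScalarTower.toAlgHom k K L'))) :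
    (modelEquiv h₁ h₂).symm = modelEquiv h₂ h₁ := by
  ext x
  simp [modelEquiv]

/-- the defect does not depend on the model of `k' ⊗ K`. -/
theorem HasDefect.of_model
    (h₁ : Function.Bijective (Algebra.TensorProduct.productMap
      (IsScalarTower.toAlgHom k k' K') (IsScalarTower.toAlgHom k K K')))
    (h₂ : Function.Bijective (Algebra.TensorProduct.productMap
      (IsScalarTower.toAlgHom k k' L') (IsScalarTower.toAlgHom k K L')))
    (P : Place k K) {n : ℕ} (hd : HasDefect k' K' P n) : HasDefect k' L' P n := by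
  obtain ⟨z, hz, hind⟩ := hd
  set ψ := modelEquiv h₁ h₂ with hψ
  refine ⟨fun i => ψ (z i), fun i => ?_, fun c hc => hind c ?_⟩
  · exact map_isIntegral (ψ : K' →+* L') (modelEquiv_algebraMap_right h₁ h₂) _ (hz i)
  · have := map_mem_adjoin ((modelEquiv h₂ h₁ : L' ≃ₐ[k] K') : L' →+* K') (RingHom.id k')
      (modelEquiv_algebraMap_right h₂ h₁) (modelEquiv_algebraMap_left h₂ h₁) P.O.toSubring hc
    rw [map_sum] at this
    convert this using 2 with i
    rw [map_mul]
    congr 1
    · exact (modelEquiv_algebraMap_left h₂ h₁ (c i)).symm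
    · show z i = modelEquiv h₂ h₁ (modelEquiv h₁ h₂ (z i))
      rw [← modelEquiv_symm h₁ h₂, AlgEquiv.symm_apply_apply]

end Model

section Tower

variable {k k' k'' : Type u} {K K' K'' : Type v} [Field k] [Field k'] [Field k''] [Field K]
  [Field K'] [Field K'']
  [Algebra k k'] [Algebra k' k''] [Algebra k k''] [IsScalarTower k k' k'']
  [FiniteDimensional k k'] [FiniteDimensional k' k'']
  [Algebra k K] [Algebra K K'] [Algebra k' K'] [Algebra k K'] [IsScalarTower k k' K']
  [IsScalarTower k K K']
  [Algebra K' K''] [Algebra k'' K''] [Algebra k' K''] [Algebra k K''] [Algebra K K'']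
  [IsScalarTower k' k'' K''] [IsScalarTower k' K' K''] [IsScalarTower K K' K'']
  [IsScalarTower k K K'']

/-- `z ∈ O_P[k'']` iff all coordinates of `z` (w.r.t. a `k'`-basis of `k''`) lie in `O_P[k']`. -/
lemma mem_adjoin_iff_coord
    (h2 : Function.Bijective (Algebra.TensorProduct.productMap
      (IsScalarTower.toAlgHom k' k'' K'') (IsScalarTower.toAlgHom k' K' K'')))
    {ι : Type*} [Fintype ι] [DecidableEq ι] (b : Module.Basis ι k' k'') (P : Place k K) (z : K'') :
    z ∈ Algebra.adjoin (P.O.toSubring.map (algebraMap K K'')) (Set.range (algebraMap k'' K'')) ↔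
      ∀ j, (coordBasis h2 b).repr z j ∈
        Algebra.adjoin (P.O.toSubring.map (algebraMap K K')) (Set.range (algebraMap k' K')) := by
  rw [mem_adjoin_iff_mem_adjoin_adjoin (k' := k') (K' := K') P z]
  exact mem_adjoin_map_iff h2 b _ (fun c => Algebra.subset_adjoin (Set.mem_range_self c)) z

lemma coord_sum
    (h2 : Function.Bijective (Algebra.TensorProduct.productMap
      (IsScalarTower.toAlgHom k' k'' K'') (IsScalarTower.toAlgHom k' K' K'')))
    {ι : Type*} [Fintype ι] [DecidableEq ι] (b : Module.Basis ι k' k'') {n : ℕ}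
    (c : Fin n → k'') (z : Fin n → K') (j : ι) :
    (coordBasis h2 b).repr (∑ i, algebraMap k'' K'' (c i) * algebraMap K' K'' (z i)) j =
      ∑ i, algebraMap k' K' (b.repr (c i) j) * z i := by
  rw [map_sum, Finsupp.coe_finsetSum, Finset.sum_apply]
  refine Finset.sum_congr rfl fun i _ => ?_
  rw [mul_comm, coordBasis_repr_mul, coordBasis_repr_algebraMap, mul_comm]

/-- independence is preserved. -/
lemma indep_mono
    (h2 : Function.Bijective (Algebra.TensorProduct.productMap
      (IsScalarTower.toAlgHom k' k'' K'') (IsScalarTower.toAlgHom k' K' K'')))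
    (P : Place k K) {n : ℕ} {z : Fin n → K'}
    (hind : ∀ c : Fin n → k', (∑ i, algebraMap k' K' (c i) * z i) ∈
      Algebra.adjoin (P.O.toSubring.map (algebraMap K K')) (Set.range (algebraMap k' K')) → c = 0)
    (c : Fin n → k'') (hc : (∑ i, algebraMap k'' K'' (c i) * algebraMap K' K'' (z i)) ∈
      Algebra.adjoin (P.O.toSubring.map (algebraMap K K'')) (Set.range (algebraMap k'' K''))) :
    c = 0 := by
  classical
  let b := Module.finBasis k' k''
  rw [mem_adjoin_iff_coord h2 b] at hc
  have h0 : ∀ j, (fun i => b.repr (c i) j) = 0 := fun j =>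
    hind _ (by rw [← coord_sum h2 b c z j]; exact hc j)
  funext i
  apply b.repr.injective
  ext j
  have := congrFun (h0 j) i
  simpa using this

/-- the defect is monotone in the constant field. -/
theorem HasDefect.mono
    (h2 : Function.Bijective (Algebra.TensorProduct.productMap
      (IsScalarTower.toAlgHom k' k'' K'') (IsScalarTower.toAlgHom k' K' K'')))
    (P : Place k K) {n : ℕ} (hd : HasDefect k' K' P n) : HasDefect k'' K'' P n := by
  obtain ⟨z, hz, hind⟩ := hd
  refine ⟨fun i => algebraMap K' K'' (z i), fun i => ?_, fun c hc => indep_mono h2 P hind c hc⟩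
  exact map_isIntegral (algebraMap K' K'')
    (fun a => (IsScalarTower.algebraMap_apply K K' K'' a).symm) _ (hz i)

/-- if the defect does not grow then the integral closure upstairs is generated by the one
downstairs. -/
theorem mem_adjoin_integralClosure_of_not_hasDefect
    (h2 : Function.Bijective (Algebra.TensorProduct.productMap
      (IsScalarTower.toAlgHom k' k'' K'') (IsScalarTower.toAlgHom k' K' K'')))
    (P : Place k K) {n : ℕ} (hd : HasDefect k' K' P n) (hnd : ¬ HasDefect k'' K'' P (n + 1))
    {w : K''} (hw : IsIntegral (P.O.toSubring.map (algebraMap K K'')) w) :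
    w ∈ Algebra.adjoin
      (((integralClosure (P.O.toSubring.map (algebraMap K K')) K').toSubring).map
        (algebraMap K' K'')) (Set.range (algebraMap k'' K'')) := by
  obtain ⟨z, hz, hind⟩ := hd
  set T := Algebra.adjoin
      (((integralClosure (P.O.toSubring.map (algebraMap K K')) K').toSubring).map
        (algebraMap K' K'')) (Set.range (algebraMap k'' K'')) with hT
  have hz'' : ∀ i, IsIntegral (P.O.toSubring.map (algebraMap K K'')) (algebraMap K' K'' (z i)) :=
    fun i => map_isIntegral (algebraMap K' K'')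
      (fun a => (IsScalarTower.algebraMap_apply K K' K'' a).symm) _ (hz i)
  have hzT : ∀ v : K', IsIntegral (P.O.toSubring.map (algebraMap K K')) v →
      algebraMap K' K'' v ∈ T := fun v hv =>
    Subalgebra.algebraMap_mem T
      (⟨algebraMap K' K'' v, ⟨v, hv, rfl⟩⟩ :
        ((integralClosure (P.O.toSubring.map (algebraMap K K')) K').toSubring).map
          (algebraMap K' K''))
  have hkT : ∀ c : k'', algebraMap k'' K'' c ∈ T := fun c => Algebra.subset_adjoin ⟨c, rfl⟩
  -- `O_P[k''] ⊆ T`
  have hRT : ∀ r ∈ Algebra.adjoin (P.O.toSubring.map (algebraMap K K''))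
      (Set.range (algebraMap k'' K'')), r ∈ T := by
    intro r hr
    induction hr using Algebra.adjoin_induction with
    | mem x hx => obtain ⟨c, rfl⟩ := hx; exact hkT c
    | algebraMap r =>
      obtain ⟨r, a, ha, rfl⟩ := r
      show algebraMap K K'' a ∈ T
      rw [IsScalarTower.algebraMap_apply K K' K'']
      apply hzT
      exact (integralClosure (P.O.toSubring.map (algebraMap K K')) K').algebraMap_mem
        (⟨algebraMap K K' a, ⟨a, ha, rfl⟩⟩ : P.O.toSubring.map (algebraMap K K'))
    | add x y _ _ hx hy => exact T.add_mem hx hy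
    | mul x y _ _ hx hy => exact T.mul_mem hx hy
  -- the family `w, z₁, …, zₙ` is dependent
  have hdep : ¬ ∀ c : Fin (n + 1) → k'',
      (∑ i, algebraMap k'' K'' (c i) *
        (Fin.cons w (fun i => algebraMap K' K'' (z i)) : Fin (n + 1) → K'') i) ∈
      Algebra.adjoin (P.O.toSubring.map (algebraMap K K''))
        (Set.range (algebraMap k'' K'')) → c = 0 := by
    intro hall
    apply hnd
    refine ⟨Fin.cons w (fun i => algebraMap K' K'' (z i)), fun i => ?_, hall⟩
    induction i using Fin.cases with
    | zero => simpa using hw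
    | succ i => simpa using hz'' i
  push_neg at hdep
  obtain ⟨c, hc, hc0⟩ := hdep
  rw [Fin.sum_univ_succ] at hc
  simp only [Fin.cons_zero, Fin.cons_succ] at hc
  by_cases h0 : c 0 = 0
  · exfalso
    rw [h0, map_zero, zero_mul, zero_add] at hc
    have := indep_mono h2 P hind (fun i => c i.succ) hc
    apply hc0
    funext i
    induction i using Fin.cases with
    | zero => exact h0
    | succ i => exact congrFun this i
  · have hc0' : algebraMap k'' K'' (c 0) ≠ 0 := (_root_.map_ne_zero _).mpr h0
    have hw' : w = algebraMap k'' K'' (c 0)⁻¹ *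
        ((algebraMap k'' K'' (c 0) * w +
          ∑ i : Fin n, algebraMap k'' K'' (c i.succ) * algebraMap K' K'' (z i)) -
          ∑ i : Fin n, algebraMap k'' K'' (c i.succ) * algebraMap K' K'' (z i)) := by
      rw [map_inv₀]; field_simp; ring
    rw [hw']
    refine T.mul_mem (hkT _) (T.sub_mem (hRT _ hc) ?_)
    exact T.sum_mem fun i _ => T.mul_mem (hkT _) (hzT _ (hz i))

end Tower

section Bound

variable {k : Type u} {K : Type v} [Field k] [Field K] [Algebra k K]

open scoped IntermediateField in
/-- a separable plane model adapted to a place: `x, y ∈ O_P`. -/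
theorem exists_plane_model_at (hK : IsFunctionField k K) (hg : IsGeometric k K) (P : Place k K) :
    ∃ (x y : K) (H : (k[X])[X]), Transcendental k x ∧
      IntermediateField.adjoin k ({x, y} : Set K) = ⊤ ∧ H.Monic ∧
      ev x y H = 0 ∧ ev x y (Polynomial.derivative H) ≠ 0 ∧ P.1 x ≤ 1 ∧ P.1 y ≤ 1 := by
  obtain ⟨x₀, hx₀, hsep₀⟩ := LeadMS.exists_separating hK hg
  obtain ⟨x, hx, hsep, hPx⟩ : ∃ x : K, Transcendental k x ∧ Algebra.IsSeparable k⟮x⟯ K ∧
      P.1 x ≤ 1 := by
    by_cases h1 : P.1 x₀ ≤ 1
    · exact ⟨x₀, hx₀, hsep₀, h1⟩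
    · refine ⟨x₀⁻¹, LeadFG.transcendental_inv' hx₀, ?_, ?_⟩
      · rw [LeadFF.adjoin_inv]; exact hsep₀
      · rw [map_inv₀]
        exact inv_le_one_of_one_le₀ (not_le.mp h1).le
  obtain ⟨y, H, hgen, hH, hroot, hδ⟩ := PlaneModel.exists_plane_model_of_separating hK hx hsep
  refine ⟨x, y, H, hx, hgen, hH, hroot, hδ, hPx, ?_⟩
  -- `y` is integral over `k[x] ⊆ O_P`
  let f : k[X] →+* K := ((Polynomial.aeval x : k[X] →ₐ[k] K) : k[X] →+* K)
  letI : Algebra k[X] K := f.toAlgebra
  have hint : IsIntegral k[X] y := ⟨H, hH, hroot⟩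
  refine LeadCE.val_le_one_of_isIntegral' P.1 (fun p => ?_) hint
  show P.1 (Polynomial.aeval x p) ≤ 1
  rw [Polynomial.aeval_eq_sum_range]
  apply Valuation.map_sum_le
  intro i _
  rw [Algebra.smul_def, map_mul, map_pow]
  exact mul_le_one' (P.2.1 _) (pow_le_one' hPx i)

/-- the defect is bounded independently of the constant extension. -/
theorem hasDefect_bound (hK : IsFunctionField k K) (hg : IsGeometric k K) (P : Place k K) :
    ∃ D : ℕ, ∀ (k' : Type u) [Field k'] [Algebra k k'] [FiniteDimensional k k']
      (K' : Type v) [Field K'] [Algebra K K'] [Algebra k' K'] [Algebra k K']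
      [IsScalarTower k k' K'] [IsScalarTower k K K'],
      Function.Bijective (Algebra.TensorProduct.productMap
        (IsScalarTower.toAlgHom k k' K') (IsScalarTower.toAlgHom k K K')) →
      ∀ n : ℕ, HasDefect k' K' P n → n ≤ D := by
  classical
  obtain ⟨x, y, H, hx, hgen, hH, hroot, hδ, hPx, hPy⟩ := exists_plane_model_at hK hg P
  set δ := ev x y (Polynomial.derivative H) with hδdef
  set N : ℕ := (P.ord δ).toNat with hN
  have hNδ : exp (-(N : ℤ)) ≤ P.1 δ := by
    rw [LeadFF.val_eq_exp_neg_ord P hδ, exp_le_exp, hN]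
    have := Int.self_le_toNat (P.ord δ)
    omega
  obtain ⟨r, a, ha, hspan⟩ := exists_span_mod hK P N
  refine ⟨r, ?_⟩
  intro k' _ _ _ K' _ _ _ _ _ _ h n hd
  obtain ⟨z, hz, hind⟩ := hd
  have hδ' : algebraMap K K' δ ≠ 0 := (_root_.map_ne_zero _).mpr hδ
  set R' := Algebra.adjoin (P.O.toSubring.map (algebraMap K K')) (Set.range (algebraMap k' K'))
    with hR'
  have hOR : ∀ a : K, P.1 a ≤ 1 → algebraMap K K' a ∈ R' := fun a ha =>
    Subalgebra.algebraMap_mem R'
      (⟨algebraMap K K' a, ⟨a, ha, rfl⟩⟩ : P.O.toSubring.map (algebraMap K K'))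
  have hkR : ∀ c : k', algebraMap k' K' c ∈ R' := fun c => Algebra.subset_adjoin ⟨c, rfl⟩
  have hw : ∀ i, algebraMap K K' δ * z i ∈ R' := fun i =>
    uniform_conductor h hK hx hgen H hH hroot hδ P hPx hPy (hz i)
  -- `k'`-submodules of `K'`
  let Rsub : Submodule k' K' :=
    { carrier := R'
      add_mem' := fun ha hb => R'.add_mem ha hb
      zero_mem' := R'.zero_mem
      smul_mem' := fun c x hx => by
        rw [Algebra.smul_def]; exact R'.mul_mem (hkR c) hx }
  let T : Submodule k' K' := Rsub.map (LinearMap.mulLeft k' (algebraMap K K' δ))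
  let S : Submodule k' K' := Submodule.span k' (Set.range fun l => algebraMap K K' (a l))
  have hT : ∀ v : K', v ∈ T ↔ ∃ ρ ∈ R', algebraMap K K' δ * ρ = v := by
    intro v
    constructor
    · rintro ⟨ρ, hρ, rfl⟩; exact ⟨ρ, hρ, rfl⟩
    · rintro ⟨ρ, hρ, rfl⟩; exact ⟨ρ, hρ, rfl⟩
  -- `R' ⊆ S + T`
  have hRS : ∀ ρ ∈ R', ρ ∈ S ⊔ T := by
    intro ρ hρ
    let b := Module.finBasis k k'
    have hcoord := (mem_adjoin_map_iff h b P.O.toSubring (fun c => P.2.1 c) ρ).mp hρ
    rw [← (coordBasis h b).sum_repr ρ]
    refine Submodule.sum_mem _ fun j _ => ?_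
    set u := (coordBasis h b).repr ρ j with hu
    have hu1 : P.1 u ≤ 1 := hcoord j
    obtain ⟨c, hc⟩ := hspan u hu1
    set v := (u - ∑ l, algebraMap k K (c l) * a l) / δ with hv
    have hv1 : P.1 v ≤ 1 := by
      rw [hv, map_div₀, div_le_iff₀ (zero_lt_iff.mpr ((Valuation.ne_zero_iff _).mpr hδ)), one_mul]
      exact hc.trans hNδ
    have hu' : u = ∑ l, algebraMap k K (c l) * a l + δ * v := by
      rw [hv, mul_div_cancel₀ _ hδ]; ring
    rw [Algebra.smul_def, coordBasis_apply, hu', map_add, add_mul, map_sum, Finset.sum_mul]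
    refine Submodule.add_mem _ (Submodule.mem_sup_left ?_) (Submodule.mem_sup_right ?_)
    · refine Submodule.sum_mem _ fun l _ => ?_
      have : algebraMap K K' (algebraMap k K (c l) * a l) * algebraMap k' K' (b j) =
          (algebraMap k k' (c l) * b j) • algebraMap K K' (a l) := by
        rw [Algebra.smul_def, map_mul, map_mul, ← IsScalarTower.algebraMap_apply k K K',
          IsScalarTower.algebraMap_apply k k' K']
        ring
      rw [this]
      exact Submodule.smul_mem _ _ (Submodule.subset_span ⟨l, rfl⟩)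
    · rw [hT]
      refine ⟨algebraMap K K' v * algebraMap k' K' (b j), R'.mul_mem (hOR v hv1) (hkR _), ?_⟩
      rw [map_mul]; ring
  -- the linear map `c ↦ ∑ cᵢ δ zᵢ mod T`
  let φ : (Fin n → k') →ₗ[k'] K' ⧸ T :=
    T.mkQ ∘ₗ Fintype.linearCombination k' (fun i => algebraMap K K' δ * z i)
  have hφinj : Function.Injective φ := by
    rw [← LinearMap.ker_eq_bot, LinearMap.ker_eq_bot']
    intro c hc
    have hc' : (∑ i, c i • (algebraMap K K' δ * z i)) ∈ T := by
      have : T.mkQ (Fintype.linearCombination k' (fun i => algebraMap K K' δ * z i) c) = 0 := hc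
      rw [Submodule.mkQ_apply, Submodule.Quotient.mk_eq_zero,
        Fintype.linearCombination_apply] at this
      exact this
    obtain ⟨ρ, hρ, hρeq⟩ := (hT _).mp hc'
    apply hind
    have : ∑ i, algebraMap k' K' (c i) * z i = ρ := by
      apply mul_left_cancel₀ hδ'
      rw [hρeq, Finset.mul_sum]
      refine Finset.sum_congr rfl fun i _ => ?_
      rw [Algebra.smul_def]; ring
    rw [this]; exact hρ
  have hrange : LinearMap.range φ ≤ S.map T.mkQ := by
    rintro _ ⟨c, rfl⟩
    have h1 : Fintype.linearCombination k' (fun i => algebraMap K K' δ * z i) c ∈ S ⊔ T := by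
      rw [Fintype.linearCombination_apply]
      refine Submodule.sum_mem _ fun i _ => Submodule.smul_mem _ _ (hRS _ (hw i))
    obtain ⟨s, hs, t, ht, hst⟩ := Submodule.mem_sup.mp h1
    refine ⟨s, hs, ?_⟩
    show T.mkQ s = T.mkQ (Fintype.linearCombination k' (fun i => algebraMap K K' δ * z i) c)
    have ht0 : T.mkQ t = 0 := (Submodule.Quotient.mk_eq_zero T).mpr ht
    rw [← hst, map_add, ht0, add_zero]
  haveI : Module.Finite k' S := Module.Finite.span_of_finite k' (Set.finite_range _)
  haveI : Module.Finite k' (S.map T.mkQ) := Module.Finite.map S T.mkQ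
  calc n = Module.finrank k' (Fin n → k') := by simp
    _ = Module.finrank k' (LinearMap.range φ) := (LinearMap.finrank_range_of_inj hφinj).symm
    _ ≤ Module.finrank k' (S.map T.mkQ) := Submodule.finrank_mono hrange
    _ ≤ Module.finrank k' S := Submodule.finrank_map_le _ _
    _ ≤ r := by
      have := finrank_range_le_card (R := k') (fun l : Fin r => algebraMap K K' (a l))
      simpa [Set.finrank] using this

end Bound

end Groth.Agent.R2.H57.Defect
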