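import Mathlib

/-! The "different bound": for an integrally closed domain `A` with fraction field `M`, a finite
extension `N = M[y]` and a monic `H ∈ A[X]` with `H(y) = 0`, `H'(y) ≠ 0`: `H'(y) · z ∈ A[y]` for every
`z ∈ N` integral over `A` (separability of `N/M` is deduced from `H'(y) ≠ 0`). -/

set_option autoImplicit false

namespace Groth.Agent.R2.H57.DiffBound

open Polynomial
open scoped IntermediateField

variable {A M N : Type*} [CommRing A] [IsDomain A] [IsIntegrallyClosed A] [Field M] [Field N]
  [Algebra A M] [IsFractionRing A M] [Algebra M N] [Algebra A N] [IsScalarTower A M N]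
  [FiniteDimensional M N]

theorem isSeparable_of_root (y : N) (hy : Algebra.adjoin M {y} = ⊤)
    (H : A[X]) (hH : H.Monic) (hroot : aeval y H = 0) (hδ : aeval y (derivative H) ≠ 0) :
    Algebra.IsSeparable M N ∧ ∃ q : A[X], H = minpoly A y * q ∧
      aeval y (derivative H) = aeval y (derivative (minpoly M y)) * aeval y q := by
  have : Module.IsTorsionFree A N := by
    rw [Module.isTorsionFree_iff_algebraMap_injective, IsScalarTower.algebraMap_eq A M N]
    exact (algebraMap M N).injective.comp (IsFractionRing.injective A M)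
  have hAy : IsIntegral A y := ⟨H, hH, hroot⟩
  obtain ⟨q, hq⟩ := minpoly.isIntegrallyClosed_dvd hAy hroot
  have hM : minpoly M y = (minpoly A y).map (algebraMap A M) :=
    minpoly.isIntegrallyClosed_eq_field_fractions' M hAy
  have hder : aeval y (derivative (minpoly M y)) = aeval y (derivative (minpoly A y)) := by
    rw [hM, derivative_map, aeval_map_algebraMap]
  have hδ' : aeval y (derivative H) = aeval y (derivative (minpoly M y)) * aeval y q := by
    rw [hder, hq, derivative_mul, map_add, map_mul, map_mul, minpoly.aeval, zero_mul, add_zero]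
  have hg' : aeval y (derivative (minpoly M y)) ≠ 0 := by
    intro h0; rw [hδ', h0, zero_mul] at hδ; exact hδ rfl
  have hMy : IsIntegral M y := hAy.tower_top
  have hsepy : IsSeparable M y := by
    rw [IsSeparable, separable_iff_derivative_ne_zero (minpoly.irreducible hMy)]
    intro h0; rw [h0, map_zero] at hg'; exact hg' rfl
  refine ⟨?_, q, hq, hδ'⟩
  have h1 : Algebra.IsSeparable M M⟮y⟯ :=
    (IntermediateField.isSeparable_adjoin_simple_iff_isSeparable M N).mpr hsepy
  have h2 : M⟮y⟯ = ⊤ := by
    apply IntermediateField.toSubalgebra_injective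
    rw [IntermediateField.adjoin_simple_toSubalgebra_of_isAlgebraic hMy.isAlgebraic, hy,
      IntermediateField.top_toSubalgebra]
  rw [h2] at h1
  exact Algebra.IsSeparable.of_algHom M (⊤ : IntermediateField M N)
    ((IntermediateField.topEquiv (F := M) (E := N)).symm : N →ₐ[M] (⊤ : IntermediateField M N))

theorem deriv_mul_mem_adjoin_of_root (y : N) (hy : Algebra.adjoin M {y} = ⊤)
    (H : A[X]) (hH : H.Monic) (hroot : aeval y H = 0) (hδ : aeval y (derivative H) ≠ 0)
    {z : N} (hz : IsIntegral A z) :
    aeval y (derivative H) * z ∈ Algebra.adjoin A {y} := by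
  obtain ⟨hsep, q, -, hδ'⟩ := isSeparable_of_root y hy H hH hroot hδ
  have hAy : IsIntegral A y := ⟨H, hH, hroot⟩
  have hg' : aeval y (derivative (minpoly M y)) ≠ 0 := by
    intro h0; rw [hδ', h0, zero_mul] at hδ; exact hδ rfl
  have hmem : z ∈ (Algebra.traceForm M N).dualSubmodule
      (Subalgebra.toSubmodule (Algebra.adjoin A ({y} : Set N))) := by
    rw [LinearMap.BilinForm.mem_dualSubmodule]
    intro r hr
    rw [Algebra.traceForm_apply, Submodule.mem_one]
    have hri : IsIntegral A r := adjoin_le_integralClosure hAy hr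
    have hint : IsIntegral A (Algebra.trace M N (z * r)) := Algebra.isIntegral_trace (hz.mul hri)
    exact IsIntegrallyClosed.isIntegral_iff.mp hint
  rw [traceForm_dualSubmodule_adjoin A M hy hAy,
    Submodule.mem_smul_iff_inv_mul_mem (inv_ne_zero hg'), inv_inv] at hmem
  rw [hδ', mul_comm (aeval y (derivative (minpoly M y))), mul_assoc]
  refine Subalgebra.mul_mem _ ?_ hmem
  rw [Algebra.adjoin_singleton_eq_range_aeval]
  exact ⟨q, rfl⟩

end Groth.Agent.R2.H57.DiffBound
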