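import Mathlib
import Groth.Prelude.Def_Magnet3

/-! Fixed points along a fixed-point reflecting equivariant morphism: general (categorical) part. -/

set_option autoImplicit false

universe v₁ u₁

namespace Groth.Agent.R2.H57.FixDescA

open CategoryTheory CategoryTheory.Limits MonoidalCategory CartesianMonoidalCategory MonObj Opposite
open Magnet Magnet.MonAct

variable {C : Type u₁} [Category.{v₁} C] [CartesianMonoidalCategory C]
variable {A U X : C} [MonObj A]

/-- the predicate "the `T`-point `x` is fixed". -/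
def IsFixed (a : MonAct A X) {T : C} (x : T ⟶ X) : Prop :=
  ∀ (T' : C) (t : T' ⟶ T) (g : T' ⟶ A), lift g (t ≫ x) ≫ a.act = t ≫ x

theorem IsFixed.comp {a : MonAct A X} {T T' : C} {x : T ⟶ X} (hx : IsFixed a x) (t : T' ⟶ T) :
    IsFixed a (t ≫ x) := by
  intro T'' t' g
  rw [← Category.assoc]
  exact hx T'' (t' ≫ t) g

theorem IsFixed.map {a : MonAct A U} {b : MonAct A X} (f : U ⟶ X) (hf : IsEquivariant a b f)
    {T : C} {x : T ⟶ U} (hx : IsFixed a x) : IsFixed b (x ≫ f) :=
  ((fixedPsh.map f hf).app (op T) ⟨x, hx⟩).2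

/-- a fixed-point reflecting morphism reflects fixed points. -/
theorem isFixed_of_comp {a : MonAct A U} {b : MonAct A X} (f : U ⟶ X) (hf : IsEquivariant a b f)
    (hfpr : IsPullback (fixedPsh.map f hf) (fixedPshι a) (fixedPshι b) (yoneda.map f))
    {T : C} (x : T ⟶ U) (hx : IsFixed b (x ≫ f)) : IsFixed a x := by
  have h1 := hfpr.map ((evaluation Cᵒᵖ (Type v₁)).obj (op T))
  obtain ⟨z, -, hz⟩ := Limits.Types.exists_of_isPullback h1 (⟨x ≫ f, hx⟩ : (fixedPsh b).obj (op T))
    (x : (yoneda.obj U).obj (op T)) rfl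
  have hz' : z.1 = x := hz
  rw [← hz']
  exact z.2

theorem isFixed_iff_comp {a : MonAct A U} {b : MonAct A X} (f : U ⟶ X) (hf : IsEquivariant a b f)
    (hfpr : IsPullback (fixedPsh.map f hf) (fixedPshι a) (fixedPshι b) (yoneda.map f))
    {T : C} (x : T ⟶ U) : IsFixed a x ↔ IsFixed b (x ≫ f) :=
  ⟨fun h => h.map f hf, isFixed_of_comp f hf hfpr x⟩

/-- with a representing object whose inclusion is `i'`, fixed means factoring through `i'`. -/
theorem isFixed_iff_exists_of_representableBy {a : MonAct A U} {W' : C} (i' : W' ⟶ U)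
    (e' : (fixedPsh a).RepresentableBy W')
    (he' : ∀ (T : C) (w : T ⟶ W'), (fixedPshι a).app (op T) (e'.homEquiv w) = w ≫ i')
    {T : C} (x : T ⟶ U) : IsFixed a x ↔ ∃ w : T ⟶ W', w ≫ i' = x := by
  constructor
  · intro hx
    refine ⟨e'.homEquiv.symm ⟨x, hx⟩, ?_⟩
    rw [← he', Equiv.apply_symm_apply]
    rfl
  · rintro ⟨w, rfl⟩
    rw [← he']
    exact (e'.homEquiv w).2

/-- conversely, a monomorphism `i : W ⟶ X` through which exactly the fixed points factor represents the
fixed point functor. -/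
noncomputable def representableBy_of_mono (b : MonAct A X) {W : C} (i : W ⟶ X) [Mono i]
    (h : ∀ {T : C} (x : T ⟶ X), IsFixed b x ↔ ∃ w : T ⟶ W, w ≫ i = x) :
    (fixedPsh b).RepresentableBy W where
  homEquiv {T} :=
    { toFun := fun w => ⟨w ≫ i, (h (w ≫ i)).mpr ⟨w, rfl⟩⟩
      invFun := fun x => ((h x.1).mp x.2).choose
      left_inv := fun w => by
        apply (cancel_mono i).mp
        exact ((h (w ≫ i)).mp ((h (w ≫ i)).mpr ⟨w, rfl⟩)).choose_spec
      right_inv := fun x => Subtype.ext ((h x.1).mp x.2).choose_spec }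
  homEquiv_comp g w := Subtype.ext (Category.assoc _ _ _)

theorem representableBy_of_mono_ι (b : MonAct A X) {W : C} (i : W ⟶ X) [Mono i]
    (h : ∀ {T : C} (x : T ⟶ X), IsFixed b x ↔ ∃ w : T ⟶ W, w ≫ i = x) (T : C) (w : T ⟶ W) :
    (fixedPshι b).app (op T) ((representableBy_of_mono b i h).homEquiv w) = w ≫ i := rfl

end Groth.Agent.R2.H57.FixDescA
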