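import Mathlib
import Groth.Prelude.Def_Magnet3
import Groth.Prelude.Def_DescFam
import Groth.Agent.R2.H57FixDescA
import Groth.Agent.S6044
import Groth.Agent.S0083

/-! Fixed points along a fixed-point reflecting étale surjective equivariant morphism: scheme part
(descent of the closed subscheme of fixed points). -/

set_option autoImplicit false
set_option linter.style.haveILetI false

universe u

namespace Groth.Agent.R2.H57.FixDescB

open CategoryTheory CategoryTheory.Limits MonoidalCategory CartesianMonoidalCategory MonObj Opposite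
open AlgebraicGeometry Magnet Magnet.MonAct
open Groth.Agent.R2.H57.FixDescA

section Descent

instance : MorphismProperty.DescendsAlong @IsClosedImmersion
    (@Surjective ⊓ @Flat ⊓ @QuasiCompact : MorphismProperty Scheme.{u}) :=
  Groth.Agent.S0083.result

/-- closed immersions descend along étale surjective base change. -/
theorem isClosedImmersion_of_pullback_fst {X Y Z : Scheme.{u}} (p : Y ⟶ X) (g : Z ⟶ X)
    [Etale p] [Surjective p] (h : IsClosedImmersion (pullback.fst p g)) : IsClosedImmersion g :=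
  MorphismProperty.of_pullback_fst_of_descendsAlong (P := @IsClosedImmersion)
    (Q := (@Surjective ⊓ @Flat ⊓ @LocallyOfFinitePresentation : MorphismProperty Scheme.{u}))
    (f := p) (g := g) ⟨⟨inferInstance, inferInstance⟩, inferInstance⟩ h

/-- isomorphisms descend along étale surjective base change. -/
theorem isIso_of_pullback_fst {X Y Z : Scheme.{u}} (p : Y ⟶ X) (g : Z ⟶ X)
    [Etale p] [Surjective p] (h : IsIso (pullback.fst p g)) : IsIso g :=
  MorphismProperty.of_pullback_fst_of_descendsAlong (P := MorphismProperty.isomorphisms Scheme.{u})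
    (Q := (@Surjective ⊓ @Flat ⊓ @LocallyOfFinitePresentation : MorphismProperty Scheme.{u}))
    (f := p) (g := g) ⟨⟨inferInstance, inferInstance⟩, inferInstance⟩ h

/-- factoring through a closed immersion descends along an étale surjective cover. -/
theorem exists_factor_of_cover {X Z T T' : Scheme.{u}} (j : Z ⟶ X) [IsClosedImmersion j]
    (t : T ⟶ X) (c : T' ⟶ T) [Etale c] [Surjective c]
    (h : ∃ s : T' ⟶ Z, s ≫ j = c ≫ t) : ∃ z : T ⟶ Z, z ≫ j = t := by
  obtain ⟨s, hs⟩ := h
  -- `q : Z_T → T`
  have hq : IsIso (pullback.snd j t) := by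
    apply isIso_of_pullback_fst c (pullback.snd j t)
    -- the base change of `q` along `c` is a closed immersion with a section
    haveI : IsClosedImmersion (pullback.fst c (pullback.snd j t)) :=
      MorphismProperty.pullback_fst (P := @IsClosedImmersion) _ _ inferInstance
    let σ : T' ⟶ pullback c (pullback.snd j t) :=
      pullback.lift (𝟙 T') (pullback.lift s c hs) (by rw [Category.id_comp, pullback.lift_snd])
    have hσ : σ ≫ pullback.fst c (pullback.snd j t) = 𝟙 T' := pullback.lift_fst _ _ _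
    haveI : IsSplitEpi (pullback.fst c (pullback.snd j t)) := ⟨⟨σ, hσ⟩⟩
    exact isIso_of_mono_of_isSplitEpi _
  haveI := hq
  refine ⟨inv (pullback.snd j t) ≫ pullback.fst j t, ?_⟩
  rw [Category.assoc, pullback.condition, IsIso.inv_hom_id_assoc]

end Descent

section Sheaf

variable {S : Scheme.{u}} {A X : Over S} [MonObj A]

/-- fixedness can be checked on a flat surjective cover. -/
theorem isFixed_of_cover (b : MonAct A X) {T T' : Over S} (x : T ⟶ X) (c : T' ⟶ T)
    [Flat c.left] [Surjective c.left] (h : IsFixed b (c ≫ x)) : IsFixed b x := by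
  intro T'' t g
  let P : Over S := Over.mk (pullback.fst t.left c.left ≫ T''.hom)
  let p₁ : P ⟶ T'' := Over.homMk (pullback.fst t.left c.left) rfl
  let p₂ : P ⟶ T' := Over.homMk (pullback.snd t.left c.left) (by
    show pullback.snd t.left c.left ≫ T'.hom = pullback.fst t.left c.left ≫ T''.hom
    rw [← Over.w c, ← Over.w t, ← Category.assoc, ← Category.assoc, pullback.condition])
  have hsq : p₁ ≫ t = p₂ ≫ c := by
    ext
    exact pullback.condition
  haveI : Epi p₁ := by
    haveI : Epi ((Over.forget S).map p₁) :=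
      Flat.epi_of_flat_of_surjective (pullback.fst t.left c.left)
    exact (Over.forget S).epi_of_epi_map this
  rw [← cancel_epi p₁]
  have h1 := h P p₂ (p₁ ≫ g)
  rw [← Category.assoc p₂ c x, ← hsq, Category.assoc] at h1
  rw [← Category.assoc, comp_lift]
  exact h1

end Sheaf

section Main

variable {S : Scheme.{u}} {A X U : Over S} [MonObj A]

theorem lifts_subsingleton {Y V T : Scheme.{u}} (j : V ⟶ Y) [Mono j] (x : T ⟶ Y) :
    Subsingleton (Desc.Lifts (Over.mk j) x) :=
  ⟨fun v w => Subtype.ext ((cancel_mono j).mp (v.2.trans w.2.symm))⟩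

/-- **Descent of the fixed-point subscheme along a fixed-point reflecting étale cover.** -/
theorem exists_representing_closed (b : MonAct A X) (a : MonAct A U)
    (f : U ⟶ X) [Etale f.left] [Surjective f.left]
    (hf : IsEquivariant a b f)
    (hfpr : IsPullback (fixedPsh.map f hf) (fixedPshι a) (fixedPshι b) (yoneda.map f))
    (W' : Over S) (i' : W' ⟶ U) (e' : (fixedPsh a).RepresentableBy W')
    (hi' : IsClosedImmersion i'.left)
    (he' : ∀ (T : Over S) (w : T ⟶ W'), (fixedPshι a).app (op T) (e'.homEquiv w) = w ≫ i') :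
    ∃ (W : Over S) (i : W ⟶ X) (e : (fixedPsh b).RepresentableBy W),
      IsClosedImmersion i.left ∧ ∀ (T : Over S) (w : T ⟶ W),
        (fixedPshι b).app (op T) (e.homEquiv w) = w ≫ i := by
  haveI := hi'
  -- (1) fixed `U`-points
  have hfixU : ∀ {T : Over S} (x : T ⟶ U),
      IsFixed a x ↔ ∃ v : T.left ⟶ W'.left, v ≫ i'.left = x.left := by
    intro T x
    rw [isFixed_iff_exists_of_representableBy i' e' he' x]
    constructor
    · rintro ⟨w, hw⟩
      exact ⟨w.left, by rw [← hw]; rfl⟩
    · rintro ⟨v, hv⟩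
      refine ⟨Over.homMk v (by
        show v ≫ W'.hom = T.hom
        rw [← Over.w i', ← Category.assoc, hv, Over.w x]), ?_⟩
      ext
      exact hv
  have hcomp : ∀ {T : Over S} (x : T ⟶ U), IsFixed a x ↔ IsFixed b (x ≫ f) :=
    fun x => isFixed_iff_comp f hf hfpr x
  -- (2) transfer between two points with the same image
  have htrans : ∀ {T : Scheme.{u}} (x₀ x₁ : T ⟶ U.left), x₀ ≫ f.left = x₁ ≫ f.left →
      (∃ v : T ⟶ W'.left, v ≫ i'.left = x₀) → ∃ v : T ⟶ W'.left, v ≫ i'.left = x₁ := by
    intro T x₀ x₁ h h0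
    let x₀' : Over.mk (x₀ ≫ U.hom) ⟶ U := Over.homMk x₀ rfl
    let x₁' : Over.mk (x₀ ≫ U.hom) ⟶ U := Over.homMk x₁ (by
      show x₁ ≫ U.hom = x₀ ≫ U.hom
      rw [← Over.w f, ← Category.assoc, ← h, Category.assoc])
    have h01 : x₀' ≫ f = x₁' ≫ f := by
      ext
      exact h
    have h1 : IsFixed a x₀' := (hfixU x₀').mpr h0
    have h2 : IsFixed a x₁' := by
      rw [hcomp, ← h01, ← hcomp]
      exact h1
    exact (hfixU x₁').mp h2
  -- (3) the descent datum
  let eqv : ∀ {T : Scheme.{u}} (x₀ x₁ : T ⟶ U.left), x₀ ≫ f.left = x₁ ≫ f.left →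
      (Desc.Lifts (Over.mk i'.left) x₀ ≃ Desc.Lifts (Over.mk i'.left) x₁) := fun x₀ x₁ h =>
    { toFun := fun v => ⟨(htrans x₀ x₁ h ⟨v.1, v.2⟩).choose,
        (htrans x₀ x₁ h ⟨v.1, v.2⟩).choose_spec⟩
      invFun := fun v => ⟨(htrans x₁ x₀ h.symm ⟨v.1, v.2⟩).choose,
        (htrans x₁ x₀ h.symm ⟨v.1, v.2⟩).choose_spec⟩
      left_inv := fun v => (lifts_subsingleton i'.left x₀).elim _ _
      right_inv := fun v => (lifts_subsingleton i'.left x₁).elim _ _ }
  let D : @Desc.SchDDFam X.left PUnit.{u+1} (fun _ => U.left) (fun _ => f.left) :=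
    { obj := fun _ => Over.mk i'.left
      φ := fun T _ _ x₀ x₁ h => eqv x₀ x₁ h
      φ_natural := by
        intro T T' g _ _ x₀ x₁ h y₀ y₁ hy₀ hy₁ h' v v' hv'
        have hA : (eqv y₀ y₁ h' v').1 ≫ i'.left = y₁ := (eqv y₀ y₁ h' v').2
        have hB : (eqv x₀ x₁ h v).1 ≫ i'.left = x₁ := (eqv x₀ x₁ h v).2
        apply (cancel_mono i'.left).mp
        rw [Category.assoc, hB, hy₁]
        exact hA
      φ_self := fun T _ x v => (lifts_subsingleton i'.left x).elim _ _
      φ_comp := fun T _ _ _ x₀ x₁ x₂ h₀₁ h₁₂ v => (lifts_subsingleton i'.left x₂).elim _ _ }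
  -- (4) effectiveness
  have hcov : Presieve.ofArrows (fun _ : PUnit.{u+1} => U.left) (fun _ => f.left) ∈
      Scheme.fpqcPrecoverage X.left := by
    apply Scheme.fppfPrecoverage_le_fpqcPrecoverage
    rw [Scheme.fppfPrecoverage, Scheme.ofArrows_mem_precoverage_iff]
    exact ⟨fun x => ⟨⟨⟩, (inferInstance : Surjective f.left).surj x⟩,
      fun _ => ⟨inferInstance, inferInstance⟩⟩
  obtain ⟨Z, ⟨φ⟩⟩ := Groth.Agent.S6044.result (fun _ => f.left) hcov D (fun _ => hi')
  -- (5) the comparison maps
  let φh : pullback f.left Z.hom ⟶ W'.left := (φ.hom.hom PUnit.unit).left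
  let φi : W'.left ⟶ pullback f.left Z.hom := (φ.inv.hom PUnit.unit).left
  have hφh : φh ≫ i'.left = pullback.fst f.left Z.hom := Over.w (φ.hom.hom PUnit.unit)
  have hφi : φi ≫ pullback.fst f.left Z.hom = i'.left := Over.w (φ.inv.hom PUnit.unit)
  have hhi : φh ≫ φi = 𝟙 _ := by
    have := congrArg (fun m => (Desc.SchDDFam.Hom.hom m PUnit.unit).left) φ.hom_inv_id
    exact this
  have hih : φi ≫ φh = 𝟙 _ := by
    have := congrArg (fun m => (Desc.SchDDFam.Hom.hom m PUnit.unit).left) φ.inv_hom_id
    exact this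
  -- (6) `Z → X` is a closed immersion
  haveI hZ : IsClosedImmersion Z.hom := by
    apply isClosedImmersion_of_pullback_fst f.left Z.hom
    rw [← hφh]
    haveI : IsIso φh := ⟨φi, hhi, hih⟩
    infer_instance
  -- (7) the representing object
  let W : Over S := Over.mk (Z.hom ≫ X.hom)
  let i : W ⟶ X := Over.homMk Z.hom rfl
  haveI : Mono i := by
    haveI : Mono ((Over.forget S).map i) := (inferInstance : Mono Z.hom)
    exact (Over.forget S).mono_of_mono_map this
  -- (8) key characterization
  have key : ∀ {T : Over S} (x : T ⟶ X), IsFixed b x ↔ ∃ w : T ⟶ W, w ≫ i = x := by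
    intro T x
    -- the cover
    let c : pullback x.left f.left ⟶ T.left := pullback.fst x.left f.left
    let u : pullback x.left f.left ⟶ U.left := pullback.snd x.left f.left
    have hcu : c ≫ x.left = u ≫ f.left := pullback.condition
    let T' : Over S := Over.mk (c ≫ T.hom)
    let c' : T' ⟶ T := Over.homMk c rfl
    let u' : T' ⟶ U := Over.homMk u (by
      show u ≫ U.hom = c ≫ T.hom
      rw [← Over.w f, ← Category.assoc, ← hcu, Category.assoc, Over.w x])
    have hcu' : c' ≫ x = u' ≫ f := by
      ext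
      exact hcu
    haveI : Etale c'.left := (inferInstance : Etale (pullback.fst x.left f.left))
    haveI : Surjective c'.left := (inferInstance : Surjective (pullback.fst x.left f.left))
    -- (i),(ii)
    have h1 : IsFixed b x ↔ IsFixed a u' := by
      rw [hcomp, ← hcu']
      exact ⟨fun h => h.comp c', fun h => isFixed_of_cover b x c' h⟩
    -- (iii)
    have h2 : IsFixed a u' ↔ ∃ v : pullback x.left f.left ⟶ W'.left, v ≫ i'.left = u := hfixU u'
    -- (iv)
    have h3 : (∃ v : pullback x.left f.left ⟶ W'.left, v ≫ i'.left = u) ↔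
        ∃ s : pullback x.left f.left ⟶ Z.left, s ≫ Z.hom = c ≫ x.left := by
      constructor
      · rintro ⟨v, hv⟩
        refine ⟨v ≫ φi ≫ pullback.snd f.left Z.hom, ?_⟩
        rw [Category.assoc, Category.assoc, ← pullback.condition, ← Category.assoc φi,
          hφi, ← Category.assoc, hv, hcu]
      · rintro ⟨s, hs⟩
        refine ⟨pullback.lift u s (by rw [hs, hcu]) ≫ φh, ?_⟩
        rw [Category.assoc, hφh, pullback.lift_fst]
    -- (v)
    have h4 : (∃ s : pullback x.left f.left ⟶ Z.left, s ≫ Z.hom = c ≫ x.left) ↔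
        ∃ z : T.left ⟶ Z.left, z ≫ Z.hom = x.left := by
      constructor
      · intro h
        exact exists_factor_of_cover Z.hom x.left c h
      · rintro ⟨z, hz⟩
        exact ⟨c ≫ z, by rw [Category.assoc, hz]⟩
    -- (vi)
    have h5 : (∃ z : T.left ⟶ Z.left, z ≫ Z.hom = x.left) ↔ ∃ w : T ⟶ W, w ≫ i = x := by
      constructor
      · rintro ⟨z, hz⟩
        refine ⟨Over.homMk z (by
          show z ≫ Z.hom ≫ X.hom = T.hom
          rw [← Category.assoc, hz, Over.w x]), ?_⟩
        ext
        exact hz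
      · rintro ⟨w, hw⟩
        exact ⟨w.left, by rw [← hw]; rfl⟩
    rw [h1, h2, h3, h4, h5]
  exact ⟨W, i, representableBy_of_mono b i key, hZ, representableBy_of_mono_ι b i key⟩

end Main

end Groth.Agent.R2.H57.FixDescB
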