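import Mathlib
import Groth.Agent.R2.H81GenBCSpec2

/-!
# PROJ:genbc-flat, packages G and J (helper57): pure algebra on universal properties of base changes
-/

set_option autoImplicit false
universe u

open TensorProduct

namespace Groth.Agent.R2.H57.GenBCGJ

open Groth.Agent.R2.H81.GenBCSpec2

section J

variable {A A' : Type u} [CommRing A] [CommRing A'] (ρ : A →+* A')
  {H H' : Type u} [AddCommGroup H] [Module A H] [AddCommGroup H'] [Module A' H']

/-- **PKG-J** -/
theorem pkgJ : PkgJ.{u} := by
  intro A A' _ _ ρ H H' _ _ _ _ π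
  letI : Module A A' := Module.compHom A' ρ
  intro L hL Q _ _ l hl
  letI : Module A Q := Module.compHom Q ρ
  haveI : IsScalarTower A A' Q := ⟨fun a a' q => by
    change (ρ a * a') • q = ρ a • (a' • q)
    rw [mul_smul]⟩
  -- `l` as an `A`-linear map
  let lA : H →ₗ[A] Q :=
    { toFun := l
      map_add' := l.map_add
      map_smul' := fun a x => hl a x }
  -- the bilinear map `(x, a') ↦ a' • l x`
  let bil : H →ₗ[A] A' →ₗ[A] Q := LinearMap.mk₂ A (fun x a' => a' • l x)
    (fun x₁ x₂ a' => by rw [map_add, smul_add])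
    (fun a x a' => by
      rw [hl]
      change a' • (ρ a • l x) = ρ a • (a' • l x)
      rw [smul_smul, smul_smul, mul_comm])
    (fun x a₁ a₂ => by rw [add_smul])
    (fun a x a' => by
      change (ρ a * a') • l x = ρ a • (a' • l x)
      rw [mul_smul])
  let lam : H ⊗[A] A' →ₗ[A] Q := TensorProduct.lift bil
  have hlam : ∀ x a', lam (x ⊗ₜ[A] a') = a' • l x := fun x a' => by
    simp [lam, bil]
  -- multiplication by `a'` on the right factor
  let μ : A' → (A' →ₗ[A] A') := fun a' =>
    { toFun := fun b => a' * b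
      map_add' := fun b c => mul_add a' b c
      map_smul' := fun a b => by
        change a' * (ρ a * b) = ρ a * (a' * b)
        ring }
  have hLμ : ∀ (a' : A') (t : H ⊗[A] A'), L ((μ a').lTensor H t) = a' • L t := by
    intro a' t
    induction t using TensorProduct.induction_on with
    | zero => simp
    | tmul x b =>
      rw [LinearMap.lTensor_tmul, hL, hL]
      change (a' * b) • π x = a' • b • π x
      rw [mul_smul]
    | add t₁ t₂ h₁ h₂ => rw [map_add, map_add, h₁, h₂, map_add, smul_add]
  have hlamμ : ∀ (a' : A') (t : H ⊗[A] A'), lam ((μ a').lTensor H t) = a' • lam t := by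
    intro a' t
    induction t using TensorProduct.induction_on with
    | zero => simp
    | tmul x b =>
      rw [LinearMap.lTensor_tmul, hlam, hlam]
      change (a' * b) • l x = a' • b • l x
      rw [mul_smul]
    | add t₁ t₂ h₁ h₂ => rw [map_add, map_add, h₁, h₂, map_add, smul_add]
  refine ⟨lam.toAddMonoidHom.comp L.symm.toAddMonoidHom, ⟨?_, ?_⟩, ?_⟩
  · intro a' y
    change lam (L.symm (a' • y)) = a' • lam (L.symm y)
    have h1 : L.symm (a' • y) = (μ a').lTensor H (L.symm y) := by
      apply L.injective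
      rw [L.apply_symm_apply, hLμ, L.apply_symm_apply]
    rw [h1, hlamμ]
  · intro x
    change lam (L.symm (π x)) = l x
    have h1 : L.symm (π x) = x ⊗ₜ[A] (1 : A') := by
      apply L.injective
      rw [L.apply_symm_apply, hL, one_smul]
    rw [h1, hlam, one_smul]
  · rintro l'' ⟨hl''1, hl''2⟩
    ext y
    change l'' y = lam (L.symm y)
    obtain ⟨t, rfl⟩ := L.surjective y
    rw [L.symm_apply_apply]
    induction t using TensorProduct.induction_on with
    | zero => simp
    | tmul x b => rw [hL, hl''1, hl''2, hlam]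
    | add t₁ t₂ h₁ h₂ => rw [map_add, map_add, h₁, h₂, map_add]

end J

section G

/-- **PKG-G** -/
theorem pkgG : PkgG.{u} := by
  intro A A' B B' _ _ _ _ α β i i' hsq hcl M P P' _ _ _ _ _ _ u hu huUP v hv hvUP ψ hψ hψu
  have hsq' : ∀ a, i' (α a) = β (i a) := fun a => RingHom.congr_fun hsq a
  -- `P` as an `A'`-module through `i'`
  let mP : Module A' P := Module.compHom P i'
  let mP' : Module A' P' := Module.compHom P' i'
  have hu' : ∀ (a : A) (m : M), u (i a • m) = @HSMul.hSMul A' P P (@instHSMul A' P mP.toSMul) (α a) (u m) := by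
    intro a m
    rw [hu]
    change β (i a) • u m = i' (α a) • u m
    rw [hsq']
  -- the candidate inverse
  obtain ⟨φ, ⟨hφ1, hφ2⟩, -⟩ := @hvUP P _ mP u hu'
  have hφ1' : ∀ (a' : A') (y : P'), φ (i' a' • y) = i' a' • φ y := hφ1
  -- `φ` commutes with `β b`
  have hφβ : ∀ (b : B) (y : P'), φ (β b • y) = β b • φ y := by
    intro b
    -- both sides are lifts of `m ↦ u (b • m)`
    let lb : M →+ P :=
      { toFun := fun m => u (b • m)
        map_zero' := by simp
        map_add' := fun m₁ m₂ => by rw [smul_add, map_add] }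
    have hlb : ∀ (a : A) (m : M),
        lb (i a • m) = @HSMul.hSMul A' P P (@instHSMul A' P mP.toSMul) (α a) (lb m) := by
      intro a m
      change u (b • i a • m) = i' (α a) • u (b • m)
      rw [smul_comm, hu, hsq']
    obtain ⟨φb, -, huniq⟩ := @hvUP P _ mP lb hlb
    let φ₁ : P' →+ P :=
      { toFun := fun y => φ (β b • y)
        map_zero' := by simp
        map_add' := fun y₁ y₂ => by rw [smul_add, map_add] }
    let φ₂ : P' →+ P :=
      { toFun := fun y => β b • φ y
        map_zero' := by simp
        map_add' := fun y₁ y₂ => by rw [map_add, smul_add] }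
    have h₁ : φ₁ = φb := by
      apply huniq
      refine ⟨fun a' y => ?_, fun m => ?_⟩
      · change φ (β b • i' a' • y) = i' a' • φ (β b • y)
        rw [smul_comm, hφ1']
      · change φ (β b • v m) = u (b • m)
        rw [← hv, hφ2]
    have h₂ : φ₂ = φb := by
      apply huniq
      refine ⟨fun a' y => ?_, fun m => ?_⟩
      · change β b • φ (i' a' • y) = i' a' • (β b • φ y)
        rw [hφ1', smul_comm]
      · change β b • φ (v m) = u (b • m)
        rw [hφ2, hu]
    intro y
    have := DFunLike.congr_fun (h₁.trans h₂.symm) y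
    exact this
  -- `φ` is `B'`-linear
  have hφlin : ∀ (b' : B') (y : P'), φ (b' • y) = b' • φ y := by
    intro b'
    have hmem : b' ∈ Subring.closure (Set.range β ∪ Set.range i') := by rw [hcl]; trivial
    induction hmem using Subring.closure_induction with
    | mem x hx =>
      rcases hx with ⟨b, rfl⟩ | ⟨a', rfl⟩
      · exact hφβ b
      · exact hφ1' a'
    | zero => intro y; simp
    | one => intro y; simp
    | add x y _ _ hx hy => intro z; rw [add_smul, map_add, hx, hy, add_smul]
    | neg x _ hx => intro z; rw [neg_smul, map_neg, hx, neg_smul]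
    | mul x y _ _ hx hy => intro z; rw [mul_smul, hx, hy, mul_smul]
  -- `φ ∘ ψ = id`
  have h1 : ∀ y : P, φ (ψ y) = y := by
    obtain ⟨w, -, hwuniq⟩ := huUP P u hu
    have e1 : φ.comp ψ = w := by
      apply hwuniq
      refine ⟨fun b' y => ?_, fun m => ?_⟩
      · change φ (ψ (b' • y)) = b' • φ (ψ y)
        rw [hψ, hφlin]
      · change φ (ψ (u m)) = u m
        rw [hψu, hφ2]
    have e2 : AddMonoidHom.id P = w := by
      apply hwuniq
      exact ⟨fun _ _ => rfl, fun _ => rfl⟩
    intro y
    exact DFunLike.congr_fun (e1.trans e2.symm) y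
  -- `ψ ∘ φ = id`
  have h2 : ∀ y : P', ψ (φ y) = y := by
    have hv' : ∀ (a : A) (m : M),
        v (i a • m) = @HSMul.hSMul A' P' P' (@instHSMul A' P' mP'.toSMul) (α a) (v m) := by
      intro a m
      rw [hv]
      change β (i a) • v m = i' (α a) • v m
      rw [hsq']
    obtain ⟨w, -, hwuniq⟩ := @hvUP P' _ mP' v hv'
    have e1 : ψ.comp φ = w := by
      apply hwuniq
      refine ⟨fun a' y => ?_, fun m => ?_⟩
      · change ψ (φ (i' a' • y)) = i' a' • ψ (φ y)
        rw [hφ1', hψ]
      · change ψ (φ (v m)) = v m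
        rw [hφ2, hψu]
    have e2 : AddMonoidHom.id P' = w := by
      apply hwuniq
      exact ⟨fun _ _ => rfl, fun _ => rfl⟩
    intro y
    exact DFunLike.congr_fun (e1.trans e2.symm) y
  exact ⟨fun y₁ y₂ h => by rw [← h1 y₁, ← h1 y₂, h], fun y => ⟨φ y, h2 y⟩⟩

end G

end Groth.Agent.R2.H57.GenBCGJ
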