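import Mathlib

/-! Plumbing for schemes over `Spec R` representing a Grassmannian functor on affine `R`-schemes, given
as in the Grass rows by a family of bijections
`e A : (Over.mk (Spec.map (algebraMap R A)) ⟶ X) ≃ (Module.Grassmannian.functor k).obj A`
for `A : CommAlgCat R`, natural in `A`. We pass between such "relative" points and absolute
points `Spec B₀ ⟶ X.left` with `B₀ : CommRingCat`. -/

set_option autoImplicit false

namespace Groth.Agent.R2.H57.GrassRep

open AlgebraicGeometry CategoryTheory TensorProduct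

universe u

variable {R : Type u} [CommRing R]

/-- the `R`-algebra structure on `B₀` attached to a morphism `Spec B₀ ⟶ Spec R`. -/
@[reducible] noncomputable def algOf {B₀ : CommRingCat.{u}} (q : Spec B₀ ⟶ Spec (CommRingCat.of R)) :
    Algebra R B₀ :=
  (Spec.preimage q).hom.toAlgebra

lemma algOf_spec {B₀ : CommRingCat.{u}} (q : Spec B₀ ⟶ Spec (CommRingCat.of R)) :
    q = Spec.map (CommRingCat.ofHom (@algebraMap R B₀ _ _ (algOf q))) := by
  rw [RingHom.algebraMap_toAlgebra, CommRingCat.ofHom_hom, Spec.map_preimage]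

/-- two algebra structures inducing the same morphism `Spec B₀ ⟶ Spec R` agree. -/
lemma algebra_eq {B₀ : CommRingCat.{u}} (alg alg' : Algebra R B₀)
    (h : Spec.map (CommRingCat.ofHom (@algebraMap R B₀ _ _ alg)) =
      Spec.map (CommRingCat.ofHom (@algebraMap R B₀ _ _ alg'))) : alg = alg' := by
  have h3 := Spec.map_injective h
  apply Algebra.algebra_ext
  intro c
  have := congrArg (fun φ => φ.hom c) h3
  simpa using this

/-- a ring map compatible with the structure morphisms to `Spec R` is an algebra map. -/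
lemma comm_of_compat {B₀ B₁ : CommRingCat.{u}} [Algebra R B₀] [Algebra R B₁] (τ : B₀ ⟶ B₁)
    (h : Spec.map τ ≫ Spec.map (CommRingCat.ofHom (algebraMap R B₀)) =
      Spec.map (CommRingCat.ofHom (algebraMap R B₁))) :
    ∀ c : R, τ.hom (algebraMap R B₀ c) = algebraMap R B₁ c := by
  rw [← Spec.map_comp] at h
  have h3 := Spec.map_injective h
  intro c
  have := congrArg (fun φ => φ.hom c) h3
  simpa using this

/-- a ring map commuting with the algebra maps, as an algebra map. -/
def algHomOf {B₀ B₁ : CommRingCat.{u}} [Algebra R B₀] [Algebra R B₁] (τ : B₀ ⟶ B₁)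
    (hcomm : ∀ c : R, τ.hom (algebraMap R B₀ c) = algebraMap R B₁ c) : B₀ →ₐ[R] B₁ :=
  { τ.hom with commutes' := hcomm }

@[simp] lemma algHomOf_toRingHom {B₀ B₁ : CommRingCat.{u}} [Algebra R B₀] [Algebra R B₁]
    (τ : B₀ ⟶ B₁) (hcomm : ∀ c : R, τ.hom (algebraMap R B₀ c) = algebraMap R B₁ c) :
    (algHomOf τ hcomm).toRingHom = τ.hom := rfl

variable {M : Type u} [AddCommGroup M] [Module R M] {k : ℕ}
  {X : Over (Spec (CommRingCat.of R))}
  (e : ∀ A : CommAlgCat.{u} R,
      (Over.mk (Spec.map (CommRingCat.ofHom (algebraMap R A))) ⟶ X) ≃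
        (Module.Grassmannian.functor (R := R) (M := M) k).obj A)
  (he : ∀ (A B : CommAlgCat.{u} R) (φ : A ⟶ B)
      (g : Over.mk (Spec.map (CommRingCat.ofHom (algebraMap R A))) ⟶ X)
      (g' : Over.mk (Spec.map (CommRingCat.ofHom (algebraMap R B))) ⟶ X),
      g'.left = Spec.map (CommRingCat.ofHom φ.hom.toRingHom) ≫ g.left →
        e B g' = (Module.Grassmannian.functor (R := R) (M := M) k).map φ (e A g))

include he in
/-- naturality of the representing bijections, in absolute form. -/
lemma nat {B₀ B₁ : CommRingCat.{u}} [Algebra R B₀] [Algebra R B₁] (τ : B₀ ⟶ B₁)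
    (hcomm : ∀ c : R, τ.hom (algebraMap R B₀ c) = algebraMap R B₁ c)
    (g : Over.mk (Spec.map (CommRingCat.ofHom (algebraMap R B₀))) ⟶ X)
    (g' : Over.mk (Spec.map (CommRingCat.ofHom (algebraMap R B₁))) ⟶ X)
    (hg' : g'.left = Spec.map τ ≫ g.left) :
    e (CommAlgCat.of R B₁) g' =
      Module.Grassmannian.map (algHomOf τ hcomm) (e (CommAlgCat.of R B₀) g) :=
  he (CommAlgCat.of R B₀) (CommAlgCat.of R B₁) (CommAlgCat.ofHom (algHomOf τ hcomm)) g g' hg'

/-- compatibility of a composite with the structure morphism. -/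
lemma comp_compat {B₀ B₁ : CommRingCat.{u}} [Algebra R B₀] [Algebra R B₁] (τ : B₀ ⟶ B₁)
    (hcomm : ∀ c : R, τ.hom (algebraMap R B₀ c) = algebraMap R B₁ c)
    (p : Spec B₀ ⟶ X.left) (hp : p ≫ X.hom = Spec.map (CommRingCat.ofHom (algebraMap R B₀))) :
    (Spec.map τ ≫ p) ≫ X.hom = Spec.map (CommRingCat.ofHom (algebraMap R B₁)) := by
  rw [Category.assoc, hp, ← Spec.map_comp]
  congr 1
  ext c
  exact hcomm c

end Groth.Agent.R2.H57.GrassRep
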