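import Mathlib

/-! Left ideals of `R ⊗ 𝔄` with finite projective quotient: the locus where the base change is a left
ideal is cut out by an ideal, and the left ideal property is Zariski local. -/

set_option autoImplicit false

namespace Groth.Agent.R2.H57.LeftIdeal

open TensorProduct Module.Grassmannian

universe u v w

variable {k : Type u} [CommRing k] {𝔄 : Type v} [Ring 𝔄] [Algebra k 𝔄]
variable {R : Type w} [CommRing R] [Algebra k R]

/-- a submodule of `R ⊗ 𝔄` stable under left multiplication by the `1 ⊗ a`. -/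
def IsLeft (N : Submodule R (R ⊗[k] 𝔄)) : Prop :=
  ∀ (a : 𝔄) (x : R ⊗[k] 𝔄), x ∈ N → ((1 : R) ⊗ₜ[k] a) * x ∈ N

section BC

variable (B : Type w) [CommRing B] [Algebra k B] [Algebra R B] [IsScalarTower k R B]

/-- the canonical map `R ⊗ 𝔄 → B ⊗ 𝔄`. -/
noncomputable def iota : R ⊗[k] 𝔄 →ₗ[R] B ⊗[k] 𝔄 :=
  ((AlgebraTensorModule.cancelBaseChange k R B B 𝔄).toLinearMap.restrictScalars R) ∘ₗ
    (TensorProduct.mk R B (R ⊗[k] 𝔄) 1)

lemma iota_apply (x : R ⊗[k] 𝔄) :
    iota (k := k) B x = AlgebraTensorModule.cancelBaseChange k R B B 𝔄 ((1 : B) ⊗ₜ[R] x) := rfl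

lemma iota_tmul (r : R) (a : 𝔄) : iota (k := k) B (r ⊗ₜ[k] a) = algebraMap R B r ⊗ₜ[k] a := by
  rw [iota_apply, AlgebraTensorModule.cancelBaseChange_tmul, Algebra.smul_def, mul_one]

lemma iota_mul (a : 𝔄) (x : R ⊗[k] 𝔄) :
    iota (k := k) B (((1 : R) ⊗ₜ[k] a) * x) = ((1 : B) ⊗ₜ[k] a) * iota (k := k) B x := by
  induction x using TensorProduct.induction_on with
  | zero => rw [mul_zero, map_zero, mul_zero]
  | tmul r a' =>
    rw [Algebra.TensorProduct.tmul_mul_tmul, iota_tmul, iota_tmul,
      Algebra.TensorProduct.tmul_mul_tmul, one_mul, one_mul]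
  | add x y hx hy => rw [mul_add, map_add, map_add, mul_add, hx, hy]

lemma baseChangeMkQ_iota (N : Submodule R (R ⊗[k] 𝔄)) (x : R ⊗[k] 𝔄) :
    baseChangeMkQ B N (iota (k := k) B x) = (1 : B) ⊗ₜ[R] N.mkQ x := by
  rw [baseChangeMkQ, LinearMap.comp_apply, iota_apply]
  erw [LinearEquiv.symm_apply_apply]
  rw [LinearMap.baseChange_tmul]

lemma iota_mem_ker (N : Submodule R (R ⊗[k] 𝔄)) {x : R ⊗[k] 𝔄} (hx : x ∈ N) :
    iota (k := k) B x ∈ LinearMap.ker (baseChangeMkQ B N) := by
  rw [LinearMap.mem_ker, baseChangeMkQ_iota]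
  have : N.mkQ x = 0 := (Submodule.Quotient.mk_eq_zero N).mpr hx
  rw [this, tmul_zero]

/-- the kernel of the base change of the quotient map is spanned by the image of `N`. -/
theorem ker_baseChangeMkQ (N : Submodule R (R ⊗[k] 𝔄)) :
    LinearMap.ker (baseChangeMkQ B N) = Submodule.span B (iota (k := k) B '' (N : Set (R ⊗[k] 𝔄))) := by
  apply le_antisymm
  · intro y hy
    rw [LinearMap.mem_ker, baseChangeMkQ, LinearMap.comp_apply] at hy
    set e := AlgebraTensorModule.cancelBaseChange k R B B 𝔄 with he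
    have h1 : (LinearMap.lTensor B N.mkQ) (e.symm y) = 0 := by
      have := hy
      rw [show (N.mkQ.baseChange B) (e.symm.toLinearMap y) =
        (LinearMap.lTensor B N.mkQ) (e.symm y) from
          congrFun (LinearMap.baseChange_eq_ltensor (A := B) N.mkQ) (e.symm y)] at this
      exact this
    have h2 : e.symm y ∈ LinearMap.range (LinearMap.lTensor B N.subtype) := by
      rw [← lTensor_mkQ]; exact h1
    obtain ⟨z, hz⟩ := h2
    have hy' : y = e (LinearMap.lTensor B N.subtype z) := by rw [hz, LinearEquiv.apply_symm_apply]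
    rw [hy']
    clear hy' hz h1 hy
    induction z using TensorProduct.induction_on with
    | zero => rw [map_zero, map_zero]; exact zero_mem _
    | tmul b x =>
      rw [LinearMap.lTensor_tmul]
      have : (b ⊗ₜ[R] (N.subtype x) : B ⊗[R] (R ⊗[k] 𝔄)) = b • ((1 : B) ⊗ₜ[R] (x : R ⊗[k] 𝔄)) := by
        rw [TensorProduct.smul_tmul', smul_eq_mul, mul_one]; rfl
      rw [this, map_smul]
      exact Submodule.smul_mem _ _ (Submodule.subset_span ⟨x.1, x.2, rfl⟩)
    | add z w hz hw => rw [map_add, map_add]; exact add_mem hz hw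
  · rw [Submodule.span_le]
    rintro _ ⟨x, hx, rfl⟩
    exact iota_mem_ker B N hx

/-- base change of a left ideal is a left ideal. -/
theorem isLeft_ker_of_isLeft (N : Submodule R (R ⊗[k] 𝔄)) (hN : IsLeft N) :
    IsLeft (LinearMap.ker (baseChangeMkQ B N)) := by
  intro a y hy
  rw [ker_baseChangeMkQ] at hy ⊢
  induction hy using Submodule.span_induction with
  | mem y hy =>
    obtain ⟨x, hx, rfl⟩ := hy
    rw [← iota_mul]
    exact Submodule.subset_span ⟨_, hN a x hx, rfl⟩
  | zero => rw [mul_zero]; exact zero_mem _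
  | add y z _ _ hy hz => rw [mul_add]; exact add_mem hy hz
  | smul b y _ hy => rw [mul_smul_comm]; exact Submodule.smul_mem _ _ hy

/-- vanishing of `1 ⊗ q` in the base change of a finite projective module. -/
theorem one_tmul_eq_zero_iff {Q : Type*} [AddCommGroup Q] [Module R Q] [Module.Finite R Q]
    [Module.Projective R Q] (q : Q) :
    ((1 : B) ⊗ₜ[R] q = 0) ↔ ∀ l : Q →ₗ[R] R, algebraMap R B (l q) = 0 := by
  constructor
  · intro h l
    have h1 := congrArg (fun t => TensorProduct.rid R B (LinearMap.lTensor B l t)) h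
    simp only [LinearMap.lTensor_tmul, TensorProduct.rid_tmul, map_zero] at h1
    rw [Algebra.algebraMap_eq_smul_one]
    exact h1
  · intro h
    obtain ⟨n, f, g, -, -, hfg⟩ := Module.Finite.exists_comp_eq_id_of_projective R Q
    have h1 : q = f (g q) := by
      have := LinearMap.congr_fun hfg q
      rw [LinearMap.comp_apply, LinearMap.id_apply] at this
      exact this.symm
    have h2 : (1 : B) ⊗ₜ[R] (g q) = 0 := by
      have : g q = ∑ j, (g q j) • (Pi.single j (1 : R) : Fin n → R) := by
        ext i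
        simp [Finset.sum_apply, Pi.single_apply]
      rw [this, tmul_sum]
      apply Finset.sum_eq_zero
      intro j _
      have hj := h ((LinearMap.proj j).comp g)
      rw [LinearMap.comp_apply, LinearMap.proj_apply] at hj
      rw [tmul_smul, TensorProduct.smul_tmul', Algebra.smul_def, mul_one, hj, zero_tmul]
    have h3 := congrArg (LinearMap.lTensor B f) h2
    rw [LinearMap.lTensor_tmul, map_zero, ← h1] at h3
    exact h3

end BC

/-- the ideal cutting out the locus where the base change of `N` is a left ideal. -/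
def cI (N : Submodule R (R ⊗[k] 𝔄)) : Ideal R :=
  Ideal.span {r | ∃ (l : (R ⊗[k] 𝔄 ⧸ N) →ₗ[R] R) (a : 𝔄) (x : R ⊗[k] 𝔄),
    x ∈ N ∧ r = l (N.mkQ (((1 : R) ⊗ₜ[k] a) * x))}

section LC

variable (B : Type w) [CommRing B] [Algebra k B] [Algebra R B] [IsScalarTower k R B]

/-- **local criterion**: the base change of `N` is a left ideal iff `cI N` dies. -/
theorem isLeft_ker_iff (N : Submodule R (R ⊗[k] 𝔄)) [Module.Finite R (R ⊗[k] 𝔄 ⧸ N)]
    [Module.Projective R (R ⊗[k] 𝔄 ⧸ N)] :
    IsLeft (LinearMap.ker (baseChangeMkQ B N)) ↔ cI N ≤ RingHom.ker (algebraMap R B) := by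
  constructor
  · intro hL
    rw [cI, Ideal.span_le]
    rintro r ⟨l, a, x, hx, rfl⟩
    have h1 := hL a _ (iota_mem_ker B N hx)
    rw [← iota_mul, LinearMap.mem_ker, baseChangeMkQ_iota] at h1
    exact (one_tmul_eq_zero_iff B _).mp h1 l
  · intro hc a y hy
    rw [ker_baseChangeMkQ] at hy
    induction hy using Submodule.span_induction with
    | mem y hy =>
      obtain ⟨x, hx, rfl⟩ := hy
      rw [← iota_mul, LinearMap.mem_ker, baseChangeMkQ_iota, one_tmul_eq_zero_iff]
      intro l
      exact hc (Ideal.subset_span ⟨l, a, x, hx, rfl⟩)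
    | zero => rw [mul_zero]; exact zero_mem _
    | add y z _ _ hy hz => rw [mul_add]; exact add_mem hy hz
    | smul b y _ hy => rw [mul_smul_comm]; exact Submodule.smul_mem _ _ hy

end LC

/-- **locality**: if the base changes of `N` to localizations `R_b`, `b ∈ s`, `s` generating the unit
ideal, are left ideals then so is `N`. -/
theorem isLeft_of_localizations (N : Submodule R (R ⊗[k] 𝔄)) (s : Set R) (hs : Ideal.span s = ⊤)
    (h : ∀ b ∈ s, ∃ (B : Type w) (_ : CommRing B) (_ : Algebra k B) (_ : Algebra R B)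
      (_ : IsScalarTower k R B), IsLocalization.Away b B ∧
        IsLeft (LinearMap.ker (baseChangeMkQ B N))) :
    IsLeft N := by
  intro a x hx
  set q := N.mkQ (((1 : R) ⊗ₜ[k] a) * x) with hq
  suffices hq0 : q = 0 by
    exact (Submodule.Quotient.mk_eq_zero N).mp hq0
  have hann : ∀ b ∈ s, b ∈ (Ideal.span {r : R | r • q = 0} ).radical := by
    intro b hb
    obtain ⟨B, _, _, _, _, hloc, hL⟩ := h b hb
    have h1 := hL a _ (iota_mem_ker B N hx)
    rw [← iota_mul, LinearMap.mem_ker, baseChangeMkQ_iota] at h1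
    have h2 : (TensorProduct.mk R B (R ⊗[k] 𝔄 ⧸ N) 1) q = 0 := h1
    rw [IsLocalizedModule.eq_zero_iff (Submonoid.powers b)] at h2
    obtain ⟨⟨_, n, rfl⟩, hn⟩ := h2
    exact ⟨n, Ideal.subset_span hn⟩
  have h1 : (Ideal.span {r : R | r • q = 0}).radical = ⊤ := by
    rw [eq_top_iff, ← hs, Ideal.span_le]
    exact hann
  have h2 : Ideal.span {r : R | r • q = 0} = ⊤ := Ideal.radical_eq_top.mp h1
  have h3 : (1 : R) ∈ Ideal.span {r : R | r • q = 0} := by rw [h2]; trivial
  have h4 : ∀ r ∈ Ideal.span {r : R | r • q = 0}, r • q = 0 := by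
    intro r hr
    induction hr using Submodule.span_induction with
    | mem r hr => exact hr
    | zero => rw [zero_smul]
    | add r r' _ _ h h' => rw [add_smul, h, h', add_zero]
    | smul c r _ h => rw [smul_eq_mul, mul_smul, h, smul_zero]
  have := h4 1 h3
  rwa [one_smul] at this

section Map

variable {e : ℕ} {B : Type w} [CommRing B] [Algebra k B]

/-- local criterion, for `Module.Grassmannian.map`. -/
theorem isLeft_map_iff (f : R →ₐ[k] B) (N : Module.Grassmannian R (R ⊗[k] 𝔄) e) :
    IsLeft (Module.Grassmannian.map f N).toSubmodule ↔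
      cI N.toSubmodule ≤ RingHom.ker f.toRingHom := by
  letI : Algebra R B := f.toAlgebra
  letI : IsScalarTower k R B :=
    IsScalarTower.of_algebraMap_eq' <| IsScalarTower.algebraMap_eq k R B
  rw [Module.Grassmannian.map_toSubmodule]
  exact isLeft_ker_iff B N.toSubmodule

/-- base change of a left ideal, for `Module.Grassmannian.map`. -/
theorem isLeft_map_of_isLeft (f : R →ₐ[k] B) (N : Module.Grassmannian R (R ⊗[k] 𝔄) e)
    (hN : IsLeft N.toSubmodule) : IsLeft (Module.Grassmannian.map f N).toSubmodule := by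
  letI : Algebra R B := f.toAlgebra
  letI : IsScalarTower k R B :=
    IsScalarTower.of_algebraMap_eq' <| IsScalarTower.algebraMap_eq k R B
  rw [Module.Grassmannian.map_toSubmodule]
  exact isLeft_ker_of_isLeft B N.toSubmodule hN

/-- locality, for `Module.Grassmannian.map`. -/
theorem isLeft_of_map_localizations (N : Module.Grassmannian R (R ⊗[k] 𝔄) e) (s : Set R)
    (hs : Ideal.span s = ⊤)
    (h : ∀ b ∈ s, ∃ (B : Type w) (_ : CommRing B) (_ : Algebra k B) (f : R →ₐ[k] B),
      (letI := f.toAlgebra; IsLocalization.Away b B) ∧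
        IsLeft (Module.Grassmannian.map f N).toSubmodule) :
    IsLeft N.toSubmodule := by
  apply isLeft_of_localizations N.toSubmodule s hs
  intro b hb
  obtain ⟨B, _, _, f, hloc, hL⟩ := h b hb
  letI : Algebra R B := f.toAlgebra
  letI : IsScalarTower k R B :=
    IsScalarTower.of_algebraMap_eq' <| IsScalarTower.algebraMap_eq k R B
  refine ⟨B, inferInstance, inferInstance, inferInstance, inferInstance, hloc, ?_⟩
  rw [Module.Grassmannian.map_toSubmodule] at hL
  exact hL

end Map

end Groth.Agent.R2.H57.LeftIdeal
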