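import Mathlib
import Groth.Agent.R2.H57LeftIdeal

/-! Sub-functors of the Grassmannian functor `A ↦ G(k, A ⊗[R] M; A)`: containment conditions are closed
(cut out by an ideal, Zariski local), and the comparison of Grassmannians along a surjection
`v : M₁ → M₂`. -/

set_option autoImplicit false

namespace Groth.Agent.R2.H57.GrassSub

open TensorProduct Module.Grassmannian

universe u v w

variable {R : Type u} [CommRing R] {M : Type v} [AddCommGroup M] [Module R M]
variable {A : Type w} [CommRing A] [Algebra R A]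

section BC

variable (B : Type w) [CommRing B] [Algebra R B] [Algebra A B] [IsScalarTower R A B]

/-- the canonical map `A ⊗ M → B ⊗ M`. -/
noncomputable def iota : A ⊗[R] M →ₗ[A] B ⊗[R] M :=
  ((AlgebraTensorModule.cancelBaseChange R A B B M).toLinearMap.restrictScalars A) ∘ₗ
    (TensorProduct.mk A B (A ⊗[R] M) 1)

lemma iota_apply (x : A ⊗[R] M) :
    iota (R := R) B x = AlgebraTensorModule.cancelBaseChange R A B B M ((1 : B) ⊗ₜ[A] x) := rfl

lemma iota_tmul (r : A) (m : M) : iota (R := R) B (r ⊗ₜ[R] m) = algebraMap A B r ⊗ₜ[R] m := by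
  rw [iota_apply, AlgebraTensorModule.cancelBaseChange_tmul, Algebra.smul_def, mul_one]

lemma baseChangeMkQ_iota (N : Submodule A (A ⊗[R] M)) (x : A ⊗[R] M) :
    baseChangeMkQ B N (iota (R := R) B x) = (1 : B) ⊗ₜ[A] N.mkQ x := by
  rw [baseChangeMkQ, LinearMap.comp_apply, iota_apply]
  erw [LinearEquiv.symm_apply_apply]
  rw [LinearMap.baseChange_tmul]

lemma iota_mem_ker (N : Submodule A (A ⊗[R] M)) {x : A ⊗[R] M} (hx : x ∈ N) :
    iota (R := R) B x ∈ LinearMap.ker (baseChangeMkQ B N) := by
  rw [LinearMap.mem_ker, baseChangeMkQ_iota]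
  have : N.mkQ x = 0 := (Submodule.Quotient.mk_eq_zero N).mpr hx
  rw [this, tmul_zero]

/-- the kernel of the base change of the quotient map is spanned by the image of `N`. -/
theorem ker_baseChangeMkQ (N : Submodule A (A ⊗[R] M)) :
    LinearMap.ker (baseChangeMkQ B N) =
      Submodule.span B (iota (R := R) B '' (N : Set (A ⊗[R] M))) := by
  apply le_antisymm
  · intro y hy
    rw [LinearMap.mem_ker, baseChangeMkQ, LinearMap.comp_apply] at hy
    set e := AlgebraTensorModule.cancelBaseChange R A B B M with he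
    have h1 : (LinearMap.lTensor B N.mkQ) (e.symm y) = 0 := by
      have := hy
      rw [show (N.mkQ.baseChange B) (e.symm.toLinearMap y) =
        (LinearMap.lTensor B N.mkQ) (e.symm y) from
          congrFun (LinearMap.baseChange_eq_ltensor (A := B) N.mkQ) (e.symm y)] at this
      exact this
    have h2 : e.symm y ∈ LinearMap.range (LinearMap.lTensor B N.subtype) := by
      rw [← lTensor_mkQ]; exact h1
    obtain ⟨z, hz⟩ := h2
    have hy' : y = e (LinearMap.lTensor B N.subtype z) := by rw [hz, LinearEquiv.apply_symm_apply]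
    rw [hy']
    clear hy' hz h1 hy
    induction z using TensorProduct.induction_on with
    | zero => rw [map_zero, map_zero]; exact zero_mem _
    | tmul b x =>
      rw [LinearMap.lTensor_tmul]
      have : (b ⊗ₜ[A] (N.subtype x) : B ⊗[A] (A ⊗[R] M)) = b • ((1 : B) ⊗ₜ[A] (x : A ⊗[R] M)) := by
        rw [TensorProduct.smul_tmul', smul_eq_mul, mul_one]; rfl
      rw [this, map_smul]
      exact Submodule.smul_mem _ _ (Submodule.subset_span ⟨x.1, x.2, rfl⟩)
    | add z w hz hw => rw [map_add, map_add]; exact add_mem hz hw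
  · rw [Submodule.span_le]
    rintro _ ⟨x, hx, rfl⟩
    exact iota_mem_ker B N hx

end BC

/-- the ideal cutting out the locus where the images of the elements of `T` lie in the base change
of `N`. -/
def cT (N : Submodule A (A ⊗[R] M)) (T : Set (A ⊗[R] M)) : Ideal A :=
  Ideal.span {r | ∃ (l : (A ⊗[R] M ⧸ N) →ₗ[A] A) (t : A ⊗[R] M), t ∈ T ∧ r = l (N.mkQ t)}

section LC

variable (B : Type w) [CommRing B] [Algebra R B] [Algebra A B] [IsScalarTower R A B]

/-- **local criterion**: the images of `T` lie in the base change of `N` iff `cT N T` dies. -/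
theorem image_subset_ker_iff (N : Submodule A (A ⊗[R] M)) [Module.Finite A (A ⊗[R] M ⧸ N)]
    [Module.Projective A (A ⊗[R] M ⧸ N)] (T : Set (A ⊗[R] M)) :
    (∀ t ∈ T, iota (R := R) B t ∈ LinearMap.ker (baseChangeMkQ B N)) ↔
      cT N T ≤ RingHom.ker (algebraMap A B) := by
  constructor
  · intro hL
    rw [cT, Ideal.span_le]
    rintro r ⟨l, t, ht, rfl⟩
    have h1 := hL t ht
    rw [LinearMap.mem_ker, baseChangeMkQ_iota] at h1
    exact (Groth.Agent.R2.H57.LeftIdeal.one_tmul_eq_zero_iff B _).mp h1 l
  · intro hc t ht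
    rw [LinearMap.mem_ker, baseChangeMkQ_iota, Groth.Agent.R2.H57.LeftIdeal.one_tmul_eq_zero_iff]
    intro l
    exact hc (Ideal.subset_span ⟨l, t, ht, rfl⟩)

end LC

/-- **locality**: if the images of `T` lie in the base changes of `N` to localizations `A_b`, `b ∈ s`,
`s` generating the unit ideal, then `T ⊆ N`. -/
theorem subset_of_localizations (N : Submodule A (A ⊗[R] M)) (T : Set (A ⊗[R] M)) (s : Set A)
    (hs : Ideal.span s = ⊤)
    (h : ∀ b ∈ s, ∃ (B : Type w) (_ : CommRing B) (_ : Algebra R B) (_ : Algebra A B)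
      (_ : IsScalarTower R A B), IsLocalization.Away b B ∧
        ∀ t ∈ T, iota (R := R) B t ∈ LinearMap.ker (baseChangeMkQ B N)) :
    T ⊆ N := by
  intro x hx
  set q := N.mkQ x with hq
  suffices hq0 : q = 0 by
    exact (Submodule.Quotient.mk_eq_zero N).mp hq0
  have hann : ∀ b ∈ s, b ∈ (Ideal.span {r : A | r • q = 0} ).radical := by
    intro b hb
    obtain ⟨B, _, _, _, _, hloc, hL⟩ := h b hb
    have h1 := hL x hx
    rw [LinearMap.mem_ker, baseChangeMkQ_iota] at h1
    have h2 : (TensorProduct.mk A B (A ⊗[R] M ⧸ N) 1) q = 0 := h1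
    rw [IsLocalizedModule.eq_zero_iff (Submonoid.powers b)] at h2
    obtain ⟨⟨_, n, rfl⟩, hn⟩ := h2
    exact ⟨n, Ideal.subset_span hn⟩
  have h1 : (Ideal.span {r : A | r • q = 0}).radical = ⊤ := by
    rw [eq_top_iff, ← hs, Ideal.span_le]
    exact hann
  have h2 : Ideal.span {r : A | r • q = 0} = ⊤ := Ideal.radical_eq_top.mp h1
  have h3 : (1 : A) ∈ Ideal.span {r : A | r • q = 0} := by rw [h2]; trivial
  have h4 : ∀ r ∈ Ideal.span {r : A | r • q = 0}, r • q = 0 := by
    intro r hr
    induction hr using Submodule.span_induction with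
    | mem r hr => exact hr
    | zero => rw [zero_smul]
    | add r r' _ _ h h' => rw [add_smul, h, h', add_zero]
    | smul c r _ h => rw [smul_eq_mul, mul_smul, h, smul_zero]
  have := h4 1 h3
  rwa [one_smul] at this

section Quot

variable {M' M'' : Type*} [AddCommGroup M'] [Module A M'] [AddCommGroup M''] [Module A M'']

/-- the quotient by a comap along a surjection. -/
noncomputable def quotComapEquiv (f : M' →ₗ[A] M'') (hf : Function.Surjective f)
    (N'' : Submodule A M'') : (M' ⧸ N''.comap f) ≃ₗ[A] (M'' ⧸ N'') :=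
  (Submodule.quotEquivOfEq _ _ (by rw [LinearMap.ker_comp, Submodule.ker_mkQ])).trans
    ((N''.mkQ ∘ₗ f).quotKerEquivOfSurjective ((Submodule.mkQ_surjective _).comp hf))

variable {k : ℕ}

/-- transfer of a Grassmannian structure along an equivalence of quotients. -/
def ofQuotEquiv (N : Module.Grassmannian A M' k) (N' : Submodule A M'')
    (e : (M' ⧸ N.toSubmodule) ≃ₗ[A] (M'' ⧸ N')) : Module.Grassmannian A M'' k :=
  { toSubmodule := N'
    finite_quotient := Module.Finite.equiv e
    projective_quotient := Module.Projective.of_equiv e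
    rankAtStalk_eq := fun p => by
      rw [← Module.rankAtStalk_eq_of_equiv e]; exact N.rankAtStalk_eq p }

end Quot

section Surj

variable {M₁ M₂ : Type v} [AddCommGroup M₁] [Module R M₁] [AddCommGroup M₂] [Module R M₂]
  (v : M₁ →ₗ[R] M₂)

/-- generators of the kernel of `v.baseChange A`. -/
def kerSet (A : Type w) [CommRing A] [Algebra R A] : Set (A ⊗[R] M₁) :=
  {t | ∃ x ∈ LinearMap.ker v, t = (1 : A) ⊗ₜ[R] x}

theorem ker_baseChange_eq_span (hv : Function.Surjective v) :
    LinearMap.ker (v.baseChange A) = Submodule.span A (kerSet v A) := by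
  apply le_antisymm
  · intro y hy
    have hex : Function.Exact (LinearMap.lTensor A (LinearMap.ker v).subtype)
        (LinearMap.lTensor A v) :=
      lTensor_exact A (LinearMap.exact_subtype_ker_map v) hv
    have h1 : (LinearMap.lTensor A v) y = 0 := by
      have := hy
      rw [LinearMap.mem_ker] at this
      rw [← this]
      exact (congrFun (LinearMap.baseChange_eq_ltensor (A := A) v) y).symm
    obtain ⟨z, rfl⟩ := (hex y).mp h1
    clear h1 hy
    induction z using TensorProduct.induction_on with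
    | zero => rw [map_zero]; exact zero_mem _
    | tmul a x =>
      rw [LinearMap.lTensor_tmul]
      have : (a ⊗ₜ[R] ((LinearMap.ker v).subtype x) : A ⊗[R] M₁) =
          a • ((1 : A) ⊗ₜ[R] (x : M₁)) := by
        rw [TensorProduct.smul_tmul', smul_eq_mul, mul_one]; rfl
      rw [this]
      exact Submodule.smul_mem _ _ (Submodule.subset_span ⟨x.1, x.2, rfl⟩)
    | add z w hz hw => rw [map_add]; exact add_mem hz hw
  · rw [Submodule.span_le]
    rintro _ ⟨x, hx, rfl⟩
    rw [SetLike.mem_coe, LinearMap.mem_ker, LinearMap.baseChange_tmul,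
      LinearMap.mem_ker.mp hx, tmul_zero]

variable {k : ℕ}

/-- the preimage of a Grassmannian point under a surjection. -/
noncomputable def comapG (hv : Function.Surjective v) (N₂ : Module.Grassmannian A (A ⊗[R] M₂) k) :
    Module.Grassmannian A (A ⊗[R] M₁) k :=
  ofQuotEquiv N₂ (N₂.toSubmodule.comap (v.baseChange A))
    (quotComapEquiv (v.baseChange A) (LinearMap.baseChange_surjective A hv) N₂.toSubmodule).symm

@[simp] lemma comapG_toSubmodule (hv : Function.Surjective v)
    (N₂ : Module.Grassmannian A (A ⊗[R] M₂) k) :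
    (comapG v hv N₂).toSubmodule = N₂.toSubmodule.comap (v.baseChange A) := rfl

lemma ker_le_comapG (hv : Function.Surjective v) (N₂ : Module.Grassmannian A (A ⊗[R] M₂) k) :
    LinearMap.ker (v.baseChange A) ≤ (comapG v hv N₂).toSubmodule := by
  rw [comapG_toSubmodule]
  exact Submodule.comap_mono bot_le

lemma comapG_injective (hv : Function.Surjective v) :
    Function.Injective (comapG (A := A) (k := k) v hv) := by
  intro N N' h
  apply Module.Grassmannian.ext
  have := congrArg Module.Grassmannian.toSubmodule h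
  rw [comapG_toSubmodule, comapG_toSubmodule] at this
  exact Submodule.comap_injective_of_surjective (LinearMap.baseChange_surjective A hv) this

/-- a Grassmannian point containing the kernel descends. -/
theorem exists_comapG_eq (hv : Function.Surjective v) (N₁ : Module.Grassmannian A (A ⊗[R] M₁) k)
    (h : LinearMap.ker (v.baseChange A) ≤ N₁.toSubmodule) :
    ∃ N₂ : Module.Grassmannian A (A ⊗[R] M₂) k, comapG v hv N₂ = N₁ := by
  have hcomap : (N₁.toSubmodule.map (v.baseChange A)).comap (v.baseChange A) = N₁.toSubmodule := by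
    rw [Submodule.comap_map_eq, sup_eq_left]
    exact h
  refine ⟨ofQuotEquiv N₁ (N₁.toSubmodule.map (v.baseChange A))
    ((Submodule.quotEquivOfEq _ _ hcomap.symm).trans
      (quotComapEquiv (v.baseChange A) (LinearMap.baseChange_surjective A hv) _)), ?_⟩
  apply Module.Grassmannian.ext
  exact hcomap

end Surj

section SurjBC

variable {M₁ M₂ : Type v} [AddCommGroup M₁] [Module R M₁] [AddCommGroup M₂] [Module R M₂]
  (v : M₁ →ₗ[R] M₂)
variable (B : Type w) [CommRing B] [Algebra R B] [Algebra A B] [IsScalarTower R A B]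

lemma baseChange_iota (x : A ⊗[R] M₁) :
    v.baseChange B (iota (R := R) B x) = iota (R := R) B (v.baseChange A x) := by
  induction x using TensorProduct.induction_on with
  | zero => simp only [map_zero]
  | tmul a m => rw [iota_tmul, LinearMap.baseChange_tmul, LinearMap.baseChange_tmul, iota_tmul]
  | add x y hx hy => simp only [map_add, hx, hy]

lemma iota_one_tmul (x : M₁) : iota (R := R) (A := A) B ((1 : A) ⊗ₜ[R] x) = (1 : B) ⊗ₜ[R] x := by
  rw [iota_tmul, map_one]

lemma kerSet_eq_image : kerSet v B = iota (R := R) B '' (kerSet v A) := by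
  ext t
  constructor
  · rintro ⟨x, hx, rfl⟩
    exact ⟨(1 : A) ⊗ₜ[R] x, ⟨x, hx, rfl⟩, iota_one_tmul B x⟩
  · rintro ⟨_, ⟨x, hx, rfl⟩, rfl⟩
    exact ⟨x, hx, iota_one_tmul B x⟩

/-- the base change of a comap is the comap of the base change. -/
theorem ker_baseChangeMkQ_comap (hv : Function.Surjective v) (N₂ : Submodule A (A ⊗[R] M₂)) :
    LinearMap.ker (baseChangeMkQ B (N₂.comap (v.baseChange A))) =
      (LinearMap.ker (baseChangeMkQ B N₂)).comap (v.baseChange B) := by
  rw [ker_baseChangeMkQ, ker_baseChangeMkQ]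
  set S := Submodule.span B (iota (R := R) B '' ((N₂.comap (v.baseChange A) :
    Submodule A (A ⊗[R] M₁)) : Set (A ⊗[R] M₁))) with hS
  have hmap : Submodule.map (v.baseChange B) S =
      Submodule.span B (iota (R := R) B '' (N₂ : Set (A ⊗[R] M₂))) := by
    rw [hS, Submodule.map_span]
    congr 1
    ext y
    constructor
    · rintro ⟨_, ⟨x, hx, rfl⟩, rfl⟩
      exact ⟨v.baseChange A x, hx, (baseChange_iota v B x).symm⟩
    · rintro ⟨n, hn, rfl⟩
      obtain ⟨x, rfl⟩ := LinearMap.baseChange_surjective A hv n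
      exact ⟨iota (R := R) B x, ⟨x, hn, rfl⟩, baseChange_iota v B x⟩
  have hker : LinearMap.ker (v.baseChange B) ≤ S := by
    rw [ker_baseChange_eq_span v hv, Submodule.span_le, kerSet_eq_image (A := A) v B]
    rintro _ ⟨t, ⟨x, hx, rfl⟩, rfl⟩
    apply Submodule.subset_span
    refine ⟨_, ?_, rfl⟩
    show (1 : A) ⊗ₜ[R] x ∈ N₂.comap (v.baseChange A)
    rw [Submodule.mem_comap, LinearMap.baseChange_tmul, LinearMap.mem_ker.mp hx, tmul_zero]
    exact zero_mem _
  rw [← hmap, Submodule.comap_map_eq, sup_eq_left.mpr hker]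

/-- **local criterion** for containing the kernel. -/
theorem ker_le_ker_iff (hv : Function.Surjective v) (N₁ : Submodule A (A ⊗[R] M₁))
    [Module.Finite A (A ⊗[R] M₁ ⧸ N₁)] [Module.Projective A (A ⊗[R] M₁ ⧸ N₁)] :
    LinearMap.ker (v.baseChange B) ≤ LinearMap.ker (baseChangeMkQ B N₁) ↔
      cT N₁ (kerSet v A) ≤ RingHom.ker (algebraMap A B) := by
  rw [← image_subset_ker_iff B N₁ (kerSet v A), ker_baseChange_eq_span v hv, Submodule.span_le,
    kerSet_eq_image (A := A) v B]
  constructor
  · intro h t ht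
    exact h ⟨t, ht, rfl⟩
  · rintro h _ ⟨t, ht, rfl⟩
    exact h t ht

/-- containing the kernel is stable under base change. -/
theorem ker_le_ker_of_ker_le (hv : Function.Surjective v) (N₁ : Submodule A (A ⊗[R] M₁))
    (h : LinearMap.ker (v.baseChange A) ≤ N₁) :
    LinearMap.ker (v.baseChange B) ≤ LinearMap.ker (baseChangeMkQ B N₁) := by
  rw [ker_baseChange_eq_span v hv, Submodule.span_le, kerSet_eq_image (A := A) v B]
  rintro _ ⟨t, ⟨x, hx, rfl⟩, rfl⟩
  apply iota_mem_ker
  apply h
  rw [LinearMap.mem_ker, LinearMap.baseChange_tmul, LinearMap.mem_ker.mp hx, tmul_zero]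

end SurjBC

section Map

variable {M₁ M₂ : Type v} [AddCommGroup M₁] [Module R M₁] [AddCommGroup M₂] [Module R M₂]
  (v : M₁ →ₗ[R] M₂)
variable {k : ℕ} {B : Type w} [CommRing B] [Algebra R B]

/-- `comapG` commutes with base change. -/
theorem comapG_map (hv : Function.Surjective v) (f : A →ₐ[R] B)
    (N₂ : Module.Grassmannian A (A ⊗[R] M₂) k) :
    comapG v hv (Module.Grassmannian.map f N₂) = Module.Grassmannian.map f (comapG v hv N₂) := by
  letI : Algebra A B := f.toAlgebra
  letI : IsScalarTower R A B :=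
    IsScalarTower.of_algebraMap_eq' <| IsScalarTower.algebraMap_eq R A B
  apply Module.Grassmannian.ext
  rw [comapG_toSubmodule, Module.Grassmannian.map_toSubmodule, Module.Grassmannian.map_toSubmodule,
    comapG_toSubmodule]
  exact (ker_baseChangeMkQ_comap v B hv N₂.toSubmodule).symm

/-- local criterion, for `Module.Grassmannian.map`. -/
theorem ker_le_map_iff (hv : Function.Surjective v) (f : A →ₐ[R] B)
    (N₁ : Module.Grassmannian A (A ⊗[R] M₁) k) :
    LinearMap.ker (v.baseChange B) ≤ (Module.Grassmannian.map f N₁).toSubmodule ↔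
      cT N₁.toSubmodule (kerSet v A) ≤ RingHom.ker f.toRingHom := by
  letI : Algebra A B := f.toAlgebra
  letI : IsScalarTower R A B :=
    IsScalarTower.of_algebraMap_eq' <| IsScalarTower.algebraMap_eq R A B
  rw [Module.Grassmannian.map_toSubmodule]
  exact ker_le_ker_iff v B hv N₁.toSubmodule

/-- base change, for `Module.Grassmannian.map`. -/
theorem ker_le_map_of_ker_le (hv : Function.Surjective v) (f : A →ₐ[R] B)
    (N₁ : Module.Grassmannian A (A ⊗[R] M₁) k)
    (h : LinearMap.ker (v.baseChange A) ≤ N₁.toSubmodule) :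
    LinearMap.ker (v.baseChange B) ≤ (Module.Grassmannian.map f N₁).toSubmodule := by
  letI : Algebra A B := f.toAlgebra
  letI : IsScalarTower R A B :=
    IsScalarTower.of_algebraMap_eq' <| IsScalarTower.algebraMap_eq R A B
  rw [Module.Grassmannian.map_toSubmodule]
  exact ker_le_ker_of_ker_le v B hv N₁.toSubmodule h

/-- locality, for `Module.Grassmannian.map`. -/
theorem ker_le_of_map_localizations (hv : Function.Surjective v)
    (N₁ : Module.Grassmannian A (A ⊗[R] M₁) k) (s : Set A) (hs : Ideal.span s = ⊤)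
    (h : ∀ b ∈ s, ∃ (B : Type w) (_ : CommRing B) (_ : Algebra R B) (f : A →ₐ[R] B),
      (letI := f.toAlgebra; IsLocalization.Away b B) ∧
        LinearMap.ker (v.baseChange B) ≤ (Module.Grassmannian.map f N₁).toSubmodule) :
    LinearMap.ker (v.baseChange A) ≤ N₁.toSubmodule := by
  rw [ker_baseChange_eq_span v hv, Submodule.span_le]
  apply subset_of_localizations N₁.toSubmodule (kerSet v A) s hs
  intro b hb
  obtain ⟨B, _, _, f, hloc, hL⟩ := h b hb
  letI : Algebra A B := f.toAlgebra
  letI : IsScalarTower R A B :=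
    IsScalarTower.of_algebraMap_eq' <| IsScalarTower.algebraMap_eq R A B
  refine ⟨B, inferInstance, inferInstance, inferInstance, inferInstance, hloc, ?_⟩
  rw [Module.Grassmannian.map_toSubmodule] at hL
  intro t ht
  apply hL
  obtain ⟨x, hx, rfl⟩ := ht
  rw [iota_one_tmul, LinearMap.mem_ker, LinearMap.baseChange_tmul, LinearMap.mem_ker.mp hx,
    tmul_zero]

end Map

end Groth.Agent.R2.H57.GrassSub
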