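import Mathlib

/-!
# Bounding the number of maximal ideals of an integral closure by a separable degree

* `comap_injective_of_radical`: for a ring map `φ : R → S` such that every element of `S` has a
  positive power in the range of `φ`, two maximal ideals of `S` with the same contraction are equal.
* `card_maximalSpectrum_integralClosure_le`: for a normal local domain `R` with fraction field `K`
  and a finite separable extension `E / K`, the integral closure of `R` in `E` has at most `[E : K]`
  maximal ideals.
* `card_maximalSpectrum_le_finSepDegree`: for a local domain `A` with fraction field `K` whose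
  integral closure in `K` is local and a field extension `L / K` such that the algebraic closure of
  `K` in `L` has finite separable degree `n > 0`, the integral closure of `A` in `L` has at most `n`
  maximal ideals.
-/

set_option autoImplicit false

namespace Groth.Agent.R2.H57.MaxSep

open scoped Pointwise

section Radical

variable {R S : Type*} [CommRing R] [CommRing S]

/-- For a ring map `φ : R → S` such that every element of `S` has a positive power in the range of `φ`,
two maximal ideals of `S` with the same contraction to `R` coincide. -/
theorem eq_of_comap_eq_of_radical (φ : R →+* S)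
    (hrad : ∀ s : S, ∃ n : ℕ, 0 < n ∧ s ^ n ∈ φ.range) (P Q : Ideal S) [P.IsMaximal] [Q.IsMaximal]
    (h : P.comap φ = Q.comap φ) : P = Q := by
  have key : ∀ (P Q : Ideal S) [P.IsMaximal] [Q.IsMaximal], P.comap φ = Q.comap φ → P ≤ Q := by
    intro P Q _ hQ h x hx
    obtain ⟨n, hn, r, hr⟩ := hrad x
    have h1 : r ∈ P.comap φ := by
      rw [Ideal.mem_comap, hr]
      exact Ideal.pow_mem_of_mem P hx n hn
    rw [h, Ideal.mem_comap, hr] at h1
    exact hQ.isPrime.mem_of_pow_mem n h1
  exact le_antisymm (key P Q h) (key Q P h.symm)

end Radical

section Galois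

variable (R K E : Type*) [CommRing R] [IsDomain R] [IsLocalRing R] [IsIntegrallyClosed R]
  [Field K] [Field E] [Algebra R K] [IsFractionRing R K] [Algebra K E] [Algebra R E]
  [IsScalarTower R K E] [FiniteDimensional K E] [Algebra.IsSeparable K E]

/-- For a normal local domain `R` with fraction field `K` and a finite separable extension `E / K`,
the integral closure of `R` in `E` has at most `[E : K]` maximal ideals. -/
theorem card_maximalSpectrum_integralClosure_le :
    Finite (MaximalSpectrum (integralClosure R E)) ∧
      Nat.card (MaximalSpectrum (integralClosure R E)) ≤ Module.finrank K E := by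
  classical
  -- an ambient Galois extension
  let F := SeparableClosure K
  let ι₀ : E →ₐ[K] F := IsSepClosed.lift
  letI algEF : Algebra E F := ι₀.toRingHom.toAlgebra
  haveI : IsScalarTower K E F := IsScalarTower.of_algebraMap_eq fun x => (ι₀.commutes x).symm
  let N := IntermediateField.normalClosure K E F
  haveI : IsScalarTower R K N := inferInstance
  let j : E →ₐ[K] N := IsScalarTower.toAlgHom K E N
  let C := integralClosure R E
  let B := integralClosure R N
  haveI : IsFractionRing B N := integralClosure.isFractionRing_of_finite_extension K N
  haveI hinv : Algebra.IsInvariant R B (B ≃ₐ[R] B) := Algebra.isInvariant_of_isGalois' R K N B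
  haveI : Finite (B ≃ₐ[R] B) := Finite.of_equiv _ (galRestrict R K N B).toEquiv
  haveI : Algebra.IsIntegral R B := integralClosure.AlgebraIsIntegral
  -- the maps `C → B` induced by the embeddings `E → N`
  let ψ : (E →ₐ[K] N) → (C →ₐ[R] B) := fun σ =>
    AlgHom.codRestrict ((σ.restrictScalars R).comp C.val) B
      (fun c => IsIntegral.map (σ.restrictScalars R) c.2)
  have hψ : ∀ (σ : E →ₐ[K] N) (c : C), ((ψ σ c : B) : N) = σ (c : E) := fun σ c => rfl
  -- `B` is nontrivial, pick a maximal ideal
  obtain ⟨P₀, hP₀⟩ := Ideal.exists_maximal B
  -- all maximal ideals of `B` lie over the maximal ideal of `R`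
  have hunder : ∀ (P : Ideal B) [P.IsMaximal], P.under R = IsLocalRing.maximalIdeal R := by
    intro P _
    have : (P.under R).IsMaximal := Ideal.isMaximal_comap_of_isIntegral_of_isMaximal P
    exact IsLocalRing.eq_maximalIdeal this
  -- `B` as a `C`-algebra through `ψ j`
  letI algCB : Algebra C B := (ψ j).toRingHom.toAlgebra
  haveI : IsScalarTower R C B := IsScalarTower.of_algebraMap_eq fun r => ((ψ j).commutes r).symm
  haveI : Algebra.IsIntegral C B := Algebra.IsIntegral.tower_top (R := R)
  have hinj : Function.Injective (algebraMap C B) := by
    intro c c' h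
    have h1 : ((ψ j c : B) : N) = ((ψ j c' : B) : N) := congrArg (fun b : B => (b : N)) h
    rw [hψ, hψ] at h1
    exact Subtype.ext (j.toRingHom.injective h1)
  -- key claim
  have key : ∀ m : MaximalSpectrum C, ∃ σ : E →ₐ[K] N, m.asIdeal = P₀.comap (ψ σ).toRingHom := by
    intro m
    haveI := m.isMaximal
    obtain ⟨P, hPmax, hPm⟩ := Ideal.exists_ideal_over_maximal_of_isIntegral (S := B) m.asIdeal
      (by rw [(RingHom.injective_iff_ker_eq_bot _).mp hinj]; exact bot_le)
    haveI := hPmax
    obtain ⟨g, hg⟩ := Algebra.IsInvariant.exists_smul_of_under_eq R B (B ≃ₐ[R] B) P₀ P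
      ((hunder P₀).trans (hunder P).symm)
    let g' : N ≃ₐ[K] N := (galRestrict R K N B).symm g
    have hg' : ∀ b : B, ((g b : B) : N) = g' (b : N) := by
      intro b
      have := algebraMap_galRestrict_apply R g' b
      rw [show galRestrict R K N B g' = g from (galRestrict R K N B).apply_symm_apply g] at this
      exact this
    refine ⟨(g'.symm : N ≃ₐ[K] N).toAlgHom.comp j, ?_⟩
    ext c
    rw [← hPm, Ideal.mem_comap, Ideal.mem_comap, hg, Ideal.mem_pointwise_smul_iff_inv_smul_mem]
    have heq : g⁻¹ • (algebraMap C B c) = (ψ ((g'.symm : N ≃ₐ[K] N).toAlgHom.comp j)).toRingHom c := by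
      apply Subtype.ext
      change ((g.symm (ψ j c) : B) : N) = g'.symm (j (c : E))
      rw [AlgEquiv.eq_symm_apply, ← hg', AlgEquiv.apply_symm_apply]
      rfl
    rw [heq]
  choose σ hσ using key
  have hσinj : Function.Injective σ := by
    intro m m' h
    apply MaximalSpectrum.ext
    rw [hσ m, hσ m', h]
  haveI : Finite (E →ₐ[K] N) := inferInstance
  refine ⟨Finite.of_injective σ hσinj, ?_⟩
  exact (Nat.card_le_card_of_injective σ hσinj).trans (card_algHom_le_finrank K E N)

end Galois

section Tower

variable (A K L : Type*) [CommRing A] [IsDomain A] [Field K] [Field L]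
  [Algebra A K] [IsFractionRing A K] [Algebra K L] [Algebra A L] [IsScalarTower A K L]

/-- For a local domain `A` with fraction field `K` whose integral closure in `K` is local and a field
extension `L / K` such that the algebraic closure of `K` in `L` has finite separable degree `n > 0`
over `K`, the integral closure of `A` in `L` has at most `n` maximal ideals. -/
theorem card_maximalSpectrum_le_finSepDegree
    (hloc : IsLocalRing (integralClosure A K)) (n : ℕ) (hn0 : 0 < n)
    (hn : Field.finSepDegree K (algebraicClosure K L) = n) :
    Finite (MaximalSpectrum (integralClosure A L)) ∧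
      Nat.card (MaximalSpectrum (integralClosure A L)) ≤ n := by
  classical
  let R := integralClosure A K
  haveI : IsLocalRing R := hloc
  haveI : IsIntegrallyClosed R := integralClosure.isIntegrallyClosedOfFiniteExtension K
  haveI : IsFractionRing R K := integralClosure.isFractionRing_of_finite_extension K K
  haveI : Algebra.IsIntegral A R := integralClosure.AlgebraIsIntegral
  let K' := algebraicClosure K L
  let E := separableClosure K K'
  -- the degree of `E / K`
  have hfin : Module.finrank K E = n := by
    have h1 := Field.finSepDegree_eq K K'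
    rw [hn] at h1
    rw [h1]
    rfl
  haveI : FiniteDimensional K E := Module.finite_of_finrank_pos (hfin ▸ hn0)
  obtain ⟨hfinite, hcard⟩ := card_maximalSpectrum_integralClosure_le R K E
  rw [hfin] at hcard
  -- the embedding `E → L`
  let emb : E →ₐ[K] L := K'.val.comp E.val
  have hemb_inj : Function.Injective emb := emb.toRingHom.injective
  -- the map `ρ`
  have hρ_mem : ∀ x : integralClosure R E,
      (emb.toRingHom.comp (algebraMap (integralClosure R E) E)) x ∈ integralClosure A L := by
    intro x
    have h1 : IsIntegral A (x : E) := isIntegral_trans (R := A) (A := R) (x : E) x.2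
    exact h1.map (emb.restrictScalars A)
  let ρ : integralClosure R E →+* integralClosure A L :=
    (emb.toRingHom.comp (algebraMap (integralClosure R E) E)).codRestrict (integralClosure A L) hρ_mem
  have hρ : ∀ x : integralClosure R E, ((ρ x : integralClosure A L) : L) = emb (x : E) := fun _ => rfl
  -- `ρ` is integral
  let φ : A →+* integralClosure R E := (algebraMap R (integralClosure R E)).comp (algebraMap A R)
  have hφ : ρ.comp φ = algebraMap A (integralClosure A L) := by
    ext a
    rw [RingHom.comp_apply, hρ]
    change emb (algebraMap K E (algebraMap A K a)) = algebraMap A L a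
    rw [emb.commutes, ← IsScalarTower.algebraMap_apply]
  have hρ_int : ρ.IsIntegral := by
    intro y
    obtain ⟨p, hp, hpy⟩ := (Algebra.IsIntegral.isIntegral (R := A) y)
    refine ⟨p.map φ, hp.map _, ?_⟩
    rw [Polynomial.eval₂_map, hφ]
    exact hpy
  -- `ρ` is radical
  have hrad : ∀ y : integralClosure A L, ∃ m : ℕ, 0 < m ∧ y ^ m ∈ ρ.range := by
    intro y
    have hyA : IsIntegral A (y : L) := y.2
    have hyK : IsIntegral K (y : L) := hyA.tower_top
    let y' : K' := ⟨(y : L), hyK⟩
    haveI : ExpChar E (ringExpChar E) := inferInstance
    obtain ⟨e, z, hz⟩ := IsPurelyInseparable.pow_mem E (ringExpChar E) y'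
    have hq : 0 < ringExpChar E := expChar_pos E (ringExpChar E)
    refine ⟨ringExpChar E ^ e, Nat.pow_pos hq, ?_⟩
    have hzL : emb z = (y : L) ^ (ringExpChar E ^ e) := by
      have h0 := congrArg (fun t : K' => (t : L)) hz
      exact h0
    have hzA : IsIntegral A z := by
      rw [← isIntegral_algHom_iff (emb.restrictScalars A) hemb_inj]
      change IsIntegral A (emb z)
      rw [hzL]
      exact hyA.pow _
    have hzR : IsIntegral R z := hzA.tower_top
    refine ⟨⟨z, hzR⟩, ?_⟩
    apply Subtype.ext
    rw [hρ]
    change emb z = ((y ^ (ringExpChar E ^ e) : integralClosure A L) : L)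
    rw [hzL]
    rfl
  -- the injection on maximal spectra
  let θ : MaximalSpectrum (integralClosure A L) → MaximalSpectrum (integralClosure R E) := fun m =>
    haveI := m.isMaximal
    ⟨m.asIdeal.comap ρ, Ideal.isMaximal_comap_of_isIntegral_of_isMaximal' ρ hρ_int m.asIdeal⟩
  have hθ : Function.Injective θ := by
    intro m m' h
    haveI := m.isMaximal
    haveI := m'.isMaximal
    apply MaximalSpectrum.ext
    exact eq_of_comap_eq_of_radical ρ hrad m.asIdeal m'.asIdeal (congrArg MaximalSpectrum.asIdeal h)
  exact ⟨Finite.of_injective θ hθ, (Nat.card_le_card_of_injective θ hθ).trans hcard⟩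

end Tower

end Groth.Agent.R2.H57.MaxSep
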