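import Groth.Agent.Lib.Helper14FTDimB

/-! Noether normalization adapted to a chain of ideals, and chains of primes over the coordinate
flag via going-down. -/

set_option autoImplicit false

namespace Groth.Agent.R2.H57.NNChain

open MvPolynomial Groth.Agent.Lib.Helper14.NNPrime Groth.Agent.Lib.Helper14.FTDim

universe u

section Poly

variable {k : Type u} [Field k]

/-- **Noether normalization adapted to a chain of ideals** of a polynomial ring. -/
theorem chain_poly : ∀ (n r : ℕ) (I : Fin r → Ideal (MvPolynomial (Fin n) k)), Monotone I →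
    (∀ i, I i ≠ ⊤) →
    ∃ φ : MvPolynomial (Fin n) k →ₐ[k] MvPolynomial (Fin n) k, φ.toRingHom.Finite ∧
      ∀ i, ∃ c ≤ n, (I i).comap φ =
        Ideal.span (MvPolynomial.X '' {l : Fin n | (l : ℕ) < c}) := by
  intro n
  induction n with
  | zero =>
    intro r I _ hI
    refine ⟨AlgHom.id k _, RingHom.Finite.id _, fun i => ⟨0, le_rfl, ?_⟩⟩
    have hbot : I i = ⊥ := by
      rw [eq_bot_iff]
      intro x hx
      by_contra hx0
      have hx0' : x ≠ 0 := by simpa using hx0
      have hxC := eq_C_of_isEmpty x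
      have hc : coeff 0 x ≠ 0 := by
        intro h; rw [h, map_zero] at hxC; exact hx0' hxC
      apply hI i
      apply Ideal.eq_top_of_isUnit_mem _ hx
      rw [hxC]
      exact (hc.isUnit).map MvPolynomial.C
    have : {l : Fin 0 | (l : ℕ) < 0} = ∅ := by ext l; simp
    rw [this, Set.image_empty, Ideal.span_empty, hbot]
    ext x; simp
  | succ n ih =>
    intro r I hmono hI
    by_cases hall : ∀ i, I i = ⊥
    · refine ⟨AlgHom.id k _, RingHom.Finite.id _, fun i => ⟨0, Nat.zero_le _, ?_⟩⟩
      have : {l : Fin (n + 1) | (l : ℕ) < 0} = ∅ := by ext l; simp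
      rw [this, Set.image_empty, Ideal.span_empty, hall i]
      ext x; simp
    · rw [not_forall] at hall
      obtain ⟨i₀, hi₀, hmin⟩ := wellFounded_lt.has_min {i : Fin r | I i ≠ ⊥} hall
      have hle : ∀ i, I i ≠ ⊥ → I i₀ ≤ I i := fun i hi => hmono (not_lt.mp (hmin i hi))
      obtain ⟨f, hfI, hf0⟩ := Submodule.exists_mem_ne_zero_of_ne_bot hi₀
      have hfu : ¬ IsUnit f := fun hu => hI i₀ (Ideal.eq_top_of_isUnit_mem _ hfI hu)
      obtain ⟨ψ, hψfin, hψ0⟩ := exists_finite_algHom_X_zero f hf0 hfu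
      obtain ⟨φ', hφ'fin, hφ'⟩ := ih r
        (fun i => ((I i).comap ψ).comap (rename Fin.succ : MvPolynomial (Fin n) k →ₐ[k] _))
        (fun i j hij => Ideal.comap_mono (Ideal.comap_mono (hmono hij)))
        (fun i => Ideal.comap_ne_top _ (Ideal.comap_ne_top _ (hI i)))
      have hΦfin : (ψ.comp (ext φ')).toRingHom.Finite :=
        AlgHom.Finite.comp hψfin (ext_finite φ' hφ'fin)
      refine ⟨ψ.comp (ext φ'), hΦfin, fun i => ?_⟩
      by_cases hi : I i = ⊥
      · refine ⟨0, Nat.zero_le _, ?_⟩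
        have : {l : Fin (n + 1) | (l : ℕ) < 0} = ∅ := by ext l; simp
        rw [this, Set.image_empty, Ideal.span_empty, hi]
        have hinj := finite_endo_injective (ψ.comp (ext φ')) hΦfin
        ext x
        simp only [Ideal.mem_comap, Ideal.mem_bot]
        exact ⟨fun hx => hinj (by rw [hx, map_zero]), fun hx => by rw [hx, map_zero]⟩
      · obtain ⟨c', hc', hcomap'⟩ := hφ' i
        have hX0 : MvPolynomial.X 0 ∈ (I i).comap ψ := by
          rw [Ideal.mem_comap, hψ0]; exact hle i hi hfI
        have h1 := comap_ext φ' ((I i).comap ψ) hX0 _ hcomap'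
        have hset : (insert 0 (Fin.succ '' {l : Fin n | (l : ℕ) < c'}) : Set (Fin (n + 1))) =
            {l : Fin (n + 1) | (l : ℕ) < c' + 1} := by
          ext l
          refine Fin.cases ?_ (fun j => ?_) l
          · simp
          · simp [Fin.succ_ne_zero]
        refine ⟨c' + 1, by omega, ?_⟩
        rw [← hset, ← h1]
        rfl

/-- the quotient of a polynomial ring by a coordinate ideal is integrally closed. -/
theorem isIntegrallyClosed_quot_span (n c : ℕ) :
    IsIntegrallyClosed (MvPolynomial (Fin n) k ⧸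
      (Ideal.span (MvPolynomial.X '' {l : Fin n | (l : ℕ) < c}) :
        Ideal (MvPolynomial (Fin n) k))) := by
  have hcomp : (kill k n c).comp
      (rename Subtype.val : MvPolynomial (Tau n c) k →ₐ[k] MvPolynomial (Fin n) k) =
      AlgHom.id k _ := by
    apply MvPolynomial.algHom_ext
    rintro ⟨i, hi⟩
    rw [AlgHom.comp_apply, rename_X, kill_X_of_not_lt hi, AlgHom.id_apply]
  have hsurj : Function.Surjective (kill k n c) := by
    intro p
    exact ⟨rename Subtype.val p, by rw [← AlgHom.comp_apply, hcomp, AlgHom.id_apply]⟩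
  have e := Ideal.quotientKerAlgEquivOfSurjective hsurj
  have h1 : IsIntegrallyClosed (MvPolynomial (Fin n) k ⧸ RingHom.ker (kill k n c)) :=
    IsIntegrallyClosed.of_equiv e.symm.toRingEquiv
  rw [ker_kill] at h1
  exact h1

end Poly

section GoingDown

variable {R S : Type*} [CommRing R] [CommRing S] [Algebra R S] [Algebra.IsIntegral R S]

/-- incomparability for an integral extension. -/
theorem eq_of_le_of_under_eq (P P' : Ideal S) [P.IsPrime] (hle : P ≤ P')
    (h : P.under R = P'.under R) : P = P' := by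
  by_contra hne
  have hlt : P < P' := lt_of_le_of_ne hle hne
  have := Ideal.IsIntegral.comap_lt_comap (R := R) hlt
  rw [← Ideal.under_def, ← Ideal.under_def, h] at this
  exact lt_irrefl _ this

/-- going down between two primes, when the quotient of the base by the contraction of the smaller
prime is integrally closed. -/
theorem exists_between (q q' : Ideal S) [q.IsPrime] [q'.IsPrime] (hqq' : q ≤ q')
    (𝔞 𝔟 : Ideal R) [𝔞.IsPrime] [𝔟.IsPrime] [q.LiesOver 𝔞] [IsIntegrallyClosed (R ⧸ 𝔞)]
    (hab : 𝔞 ≤ 𝔟) (hb : 𝔟 < q'.under R) :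
    ∃ Q : Ideal S, Q.IsPrime ∧ q ≤ Q ∧ Q < q' ∧ Q.under R = 𝔟 := by
  have hsq : Function.Surjective (Ideal.Quotient.mk q) := Ideal.Quotient.mk_surjective
  have hsa : Function.Surjective (Ideal.Quotient.mk 𝔞) := Ideal.Quotient.mk_surjective
  set Q' : Ideal (S ⧸ q) := q'.map (Ideal.Quotient.mk q) with hQ'
  set 𝔟' : Ideal (R ⧸ 𝔞) := 𝔟.map (Ideal.Quotient.mk 𝔞) with h𝔟'
  haveI : Q'.IsPrime := Ideal.map_isPrime_of_surjective hsq (by rw [Ideal.mk_ker]; exact hqq')
  haveI : 𝔟'.IsPrime := Ideal.map_isPrime_of_surjective hsa (by rw [Ideal.mk_ker]; exact hab)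
  have hcQ' : Q'.comap (Ideal.Quotient.mk q) = q' := by
    rw [hQ', Ideal.comap_map_of_surjective _ hsq, ← RingHom.ker_eq_comap_bot, Ideal.mk_ker]
    exact sup_eq_left.mpr hqq'
  have hc𝔟' : 𝔟'.comap (Ideal.Quotient.mk 𝔞) = 𝔟 := by
    rw [h𝔟', Ideal.comap_map_of_surjective _ hsa, ← RingHom.ker_eq_comap_bot, Ideal.mk_ker]
    exact sup_eq_left.mpr hab
  have hcomm : ∀ (P : Ideal (S ⧸ q)), ((P.under (R ⧸ 𝔞)).comap (Ideal.Quotient.mk 𝔞)) =
      (P.comap (Ideal.Quotient.mk q)).under R := by
    intro P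
    ext x
    simp only [Ideal.mem_comap, Ideal.under_def]
    rfl
  have h1 : (Q'.under (R ⧸ 𝔞)).comap (Ideal.Quotient.mk 𝔞) = q'.under R := by
    rw [hcomm, hcQ']
  have hlt : 𝔟' < Q'.under (R ⧸ 𝔞) := by
    rw [lt_iff_le_not_ge]
    constructor
    · rw [← Ideal.comap_le_comap_iff_of_surjective _ hsa, hc𝔟', h1]; exact hb.le
    · intro hle
      have := (Ideal.comap_le_comap_iff_of_surjective _ hsa _ _).mpr hle
      rw [hc𝔟', h1] at this
      exact (lt_iff_le_not_ge.mp hb).2 this
  obtain ⟨P, hPlt, hPprime, hPover⟩ := Ideal.exists_ideal_lt_liesOver_of_lt (p := 𝔟') Q' hlt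
  refine ⟨P.comap (Ideal.Quotient.mk q), Ideal.comap_isPrime _ _, ?_, ?_, ?_⟩
  · intro x hx
    rw [Ideal.mem_comap, Ideal.Quotient.eq_zero_iff_mem.mpr hx]; exact zero_mem _
  · rw [← hcQ', lt_iff_le_not_ge]
    constructor
    · exact Ideal.comap_mono hPlt.le
    · intro hle
      exact (lt_iff_le_not_ge.mp hPlt).2
        ((Ideal.comap_le_comap_iff_of_surjective _ hsq _ _).mp hle)
  · rw [← hcomm, ← hPover.over, hc𝔟']

/-- a chain of primes over a flag of primes `J 0 < J 1 < … < J d` of the base with integrally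
closed quotients, through prescribed primes `q i` over `J (h i)`. -/
theorem exists_chain [IsDomain S] [FaithfulSMul R S]
    (d : ℕ) (J : ℕ → Ideal R) (hJp : ∀ a, a ≤ d → (J a).IsPrime) (hJ0 : J 0 = ⊥)
    (hJlt : ∀ a, a < d → J a < J (a + 1))
    (hJic : ∀ a, a ≤ d → IsIntegrallyClosed (R ⧸ J a))
    (r : ℕ) (q : Fin r → PrimeSpectrum S) (hq : Monotone q) (h : Fin r → ℕ)
    (hh : ∀ i, h i ≤ d) (hcomap : ∀ i, (q i).asIdeal.under R = J (h i)) :
    ∃ Q : ℕ → PrimeSpectrum S, (∀ j, j ≤ d → (Q j).asIdeal.under R = J j) ∧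
      (∀ j, j < d → Q j < Q (j + 1)) ∧ ∀ i, Q (h i) = q i := by
  classical
  -- monotonicity of the flag
  have hJmono : ∀ a b, a ≤ b → b ≤ d → J a ≤ J b := by
    intro a b hab
    induction b, hab using Nat.le_induction with
    | base => intro _; exact le_rfl
    | succ b _ ih => intro hb; exact (ih (by omega)).trans (hJlt b (by omega)).le
  -- the largest prescribed prime below level `m`
  have hbelow : ∀ m : ℕ, ∃ qb : PrimeSpectrum S,
      (qb.asIdeal = ⊥ ∨ ∃ i, h i ≤ m ∧ qb = q i) ∧ ∀ i, h i ≤ m → q i ≤ qb := by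
    intro m
    by_cases hF : (Finset.univ.filter fun i : Fin r => h i ≤ m).Nonempty
    · set i₁ := (Finset.univ.filter fun i : Fin r => h i ≤ m).max' hF with hi₁
      have hi₁mem := Finset.max'_mem _ hF
      rw [← hi₁, Finset.mem_filter] at hi₁mem
      refine ⟨q i₁, Or.inr ⟨i₁, hi₁mem.2, rfl⟩, fun i hi => hq ?_⟩
      exact Finset.le_max' _ i (Finset.mem_filter.mpr ⟨Finset.mem_univ _, hi⟩)
    · refine ⟨⟨⊥, Ideal.isPrime_bot⟩, Or.inl rfl, fun i hi => ?_⟩
      exact absurd ⟨i, Finset.mem_filter.mpr ⟨Finset.mem_univ _, hi⟩⟩ hF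
  -- contraction of such a prime
  have hbelow_under : ∀ (m : ℕ) (qb : PrimeSpectrum S),
      (qb.asIdeal = ⊥ ∨ ∃ i, h i ≤ m ∧ qb = q i) → ∃ a ≤ m, qb.asIdeal.under R = J a := by
    rintro m qb (hb | ⟨i, hi, rfl⟩)
    · exact ⟨0, Nat.zero_le _, by rw [hb, Ideal.under_bot, hJ0]⟩
    · exact ⟨h i, hi, hcomap i⟩
  -- the statement at level `m`
  have key : ∀ t, t ≤ d → ∃ Q : ℕ → PrimeSpectrum S,
      (∀ j, d - t ≤ j → j ≤ d → (Q j).asIdeal.under R = J j) ∧
      (∀ j, d - t ≤ j → j < d → Q j < Q (j + 1)) ∧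
      (∀ i, d - t ≤ h i → Q (h i) = q i) ∧ (∀ i, h i < d - t → q i ≤ Q (d - t)) := by
    intro t
    induction t with
    | zero =>
      intro _
      obtain ⟨qb, hqb, hqb_le⟩ := hbelow d
      obtain ⟨a, ha, hqba⟩ := hbelow_under d qb hqb
      haveI := hJp d le_rfl
      haveI := qb.2
      obtain ⟨Qd, hQd_ge, hQd_prime, hQd⟩ :=
        Ideal.exists_ideal_over_prime_of_isIntegral_of_isPrime (J d) qb.asIdeal
          (by rw [← Ideal.under_def, hqba]; exact hJmono a d ha le_rfl)
      refine ⟨fun _ => ⟨Qd, hQd_prime⟩, ?_, ?_, ?_, ?_⟩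
      · intro j hj hjd
        have : j = d := by omega
        subst this
        exact hQd
      · intro j hj hjd; omega
      · intro i hi
        have hid : h i = d := le_antisymm (hh i) (by omega)
        haveI := (q i).2
        have hle : (q i).asIdeal ≤ Qd :=
          le_trans (show (q i).asIdeal ≤ qb.asIdeal from hqb_le i (hh i)) hQd_ge
        have := eq_of_le_of_under_eq (R := R) (q i).asIdeal Qd hle
          (by rw [hcomap i, hid]; exact hQd.symm)
        exact PrimeSpectrum.ext this.symm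
      · intro i _
        exact (hqb_le i (hh i)).trans hQd_ge
    | succ t ih =>
      intro ht
      obtain ⟨Q, hQ1, hQ2, hQ3, hQ4⟩ := ih (by omega)
      set m := d - t with hm
      have hm1 : 1 ≤ m := by omega
      have hmd : m ≤ d := by omega
      have hm' : d - (t + 1) = m - 1 := by omega
      rw [hm']
      obtain ⟨qb, hqb, hqb_le⟩ := hbelow (m - 1)
      obtain ⟨a, ha, hqba⟩ := hbelow_under (m - 1) qb hqb
      have hqbQ : qb ≤ Q m := by
        rcases hqb with hb | ⟨i, hi, rfl⟩
        · show qb.asIdeal ≤ (Q m).asIdeal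
          rw [hb]; exact bot_le
        · exact hQ4 i (by omega)
      haveI := hJp a (by omega)
      haveI := hJp (m - 1) (by omega)
      haveI := qb.2
      haveI := (Q m).2
      haveI : qb.asIdeal.LiesOver (J a) := ⟨hqba.symm⟩
      haveI := hJic a (by omega)
      have hlt : J (m - 1) < (Q m).asIdeal.under R := by
        rw [hQ1 m le_rfl hmd]
        have := hJlt (m - 1) (by omega)
        rwa [show m - 1 + 1 = m by omega] at this
      obtain ⟨Qn, hQn_prime, hQn_ge, hQn_lt, hQn⟩ :=
        exists_between (R := R) qb.asIdeal (Q m).asIdeal hqbQ (J a) (J (m - 1))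
          (hJmono a (m - 1) ha (by omega)) hlt
      refine ⟨Function.update Q (m - 1) ⟨Qn, hQn_prime⟩, ?_, ?_, ?_, ?_⟩
      · intro j hj hjd
        by_cases hjm : j = m - 1
        · subst hjm
          rw [Function.update_self]; exact hQn
        · rw [Function.update_of_ne hjm]
          exact hQ1 j (by omega) hjd
      · intro j hj hjd
        by_cases hjm : j = m - 1
        · subst hjm
          rw [Function.update_self, Function.update_of_ne (by omega),
            show m - 1 + 1 = m by omega]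
          exact hQn_lt
        · rw [Function.update_of_ne hjm, Function.update_of_ne (by omega)]
          exact hQ2 j (by omega) hjd
      · intro i hi
        by_cases him : h i = m - 1
        · rw [him, Function.update_self]
          haveI := (q i).2
          have hle : (q i).asIdeal ≤ Qn :=
            le_trans (show (q i).asIdeal ≤ qb.asIdeal from hqb_le i (by omega)) hQn_ge
          have := eq_of_le_of_under_eq (R := R) (q i).asIdeal Qn hle
            (by rw [hcomap i, him]; exact hQn.symm)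
          exact PrimeSpectrum.ext this.symm
        · rw [Function.update_of_ne him]
          exact hQ3 i (by omega)
      · intro i hi
        rw [Function.update_self]
        exact (hqb_le i (by omega)).trans hQn_ge
  obtain ⟨Q, hQ1, hQ2, hQ3, -⟩ := key d le_rfl
  rw [Nat.sub_self] at hQ1 hQ2 hQ3
  exact ⟨Q, fun j hj => hQ1 j (Nat.zero_le _) hj, fun j hj => hQ2 j (Nat.zero_le _) hj,
    fun i => hQ3 i (Nat.zero_le _)⟩

end GoingDown

end Groth.Agent.R2.H57.NNChain
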