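import Mathlib

/-!
# Nakayama along a local homomorphism (helper57; for PROJ:nearfibre)

`R → S` a local homomorphism of local rings.

* `subsingleton_of_subsingleton_tensor`: a finite `R`-module `M` with `S ⊗[R] M = 0` is zero.
* `surjective_of_lTensor_surjective`: `φ : M → N` with `N` finite and `S ⊗ φ` surjective is surjective.
* `bijective_of_lTensor_bijective`: `φ : M → N` with `M` finite, `N` finite projective and `S ⊗ φ` bijective is
  bijective.
-/

set_option autoImplicit false
universe u v w

open TensorProduct

namespace Groth.Agent.R2.H57.NearFibreA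

variable (R : Type u) (S : Type v) [CommRing R] [CommRing S] [IsLocalRing R] [IsLocalRing S]
  [Algebra R S] [IsLocalHom (algebraMap R S)]

theorem subsingleton_of_subsingleton_tensor (M : Type w) [AddCommGroup M] [Module R M]
    [Module.Finite R M] (h : Subsingleton (S ⊗[R] M)) : Subsingleton M := by
  let kR := IsLocalRing.ResidueField R
  let kS := IsLocalRing.ResidueField S
  haveI : Subsingleton (kS ⊗[S] (S ⊗[R] M)) := inferInstance
  have e1 : kS ⊗[S] (S ⊗[R] M) ≃ₗ[kS] kS ⊗[R] M :=
    AlgebraTensorModule.cancelBaseChange R S kS kS M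
  have e2 : kS ⊗[kR] (kR ⊗[R] M) ≃ₗ[kS] kS ⊗[R] M :=
    AlgebraTensorModule.cancelBaseChange R kR kS kS M
  haveI : Subsingleton (kS ⊗[kR] (kR ⊗[R] M)) :=
    (e2.toEquiv.trans e1.symm.toEquiv).subsingleton
  have h3 : Subsingleton (kR ⊗[R] M) :=
    (Module.FaithfullyFlat.subsingleton_tensorProduct_iff_right kR kS).mp inferInstance
  exact IsLocalRing.subsingleton_tensorProduct.mp h3

variable {R} {M N : Type w} [AddCommGroup M] [Module R M] [AddCommGroup N] [Module R N]

theorem surjective_of_lTensor_surjective [Module.Finite R N] (φ : M →ₗ[R] N)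
    (h : Function.Surjective (φ.lTensor S)) : Function.Surjective φ := by
  let Q := N ⧸ LinearMap.range φ
  have hq : Function.Surjective ((LinearMap.range φ).mkQ.lTensor S) :=
    LinearMap.lTensor_surjective S (Submodule.mkQ_surjective _)
  have hzero : ((LinearMap.range φ).mkQ.lTensor S).comp (φ.lTensor S) = 0 := by
    rw [← LinearMap.lTensor_comp]
    have : (LinearMap.range φ).mkQ.comp φ = 0 := by
      ext x
      simp
    rw [this, LinearMap.lTensor_zero]
  haveI : Subsingleton (S ⊗[R] Q) := by
    refine ⟨fun a b => ?_⟩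
    obtain ⟨a', rfl⟩ := hq a
    obtain ⟨b', rfl⟩ := hq b
    obtain ⟨a'', rfl⟩ := h a'
    obtain ⟨b'', rfl⟩ := h b'
    have ha := LinearMap.congr_fun hzero a''
    have hb := LinearMap.congr_fun hzero b''
    simp only [LinearMap.comp_apply, LinearMap.zero_apply] at ha hb
    rw [ha, hb]
  haveI : Subsingleton Q := subsingleton_of_subsingleton_tensor R S Q inferInstance
  rw [← LinearMap.range_eq_top]
  exact Submodule.Quotient.subsingleton_iff.mp inferInstance

theorem bijective_of_lTensor_bijective [Module.Finite R M] [Module.Finite R N]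
    [Module.Projective R N] (φ : M →ₗ[R] N)
    (h : Function.Bijective (φ.lTensor S)) : Function.Bijective φ := by
  have hsurj : Function.Surjective φ := surjective_of_lTensor_surjective S φ h.2
  refine ⟨?_, hsurj⟩
  -- a section of `φ`
  obtain ⟨s, hs⟩ := Module.projective_lifting_property φ LinearMap.id hsurj
  -- the projection onto the kernel
  let π : M →ₗ[R] M := LinearMap.id - s.comp φ
  have hφπ : φ.comp π = 0 := by
    ext x
    have := LinearMap.congr_fun hs (φ x)
    simp only [LinearMap.comp_apply, LinearMap.id_apply] at this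
    simp [π, this]
  have hπ0 : π.lTensor S = 0 := by
    have h1 : (φ.lTensor S).comp (π.lTensor S) = 0 := by
      rw [← LinearMap.lTensor_comp, hφπ, LinearMap.lTensor_zero]
    refine LinearMap.ext fun x => ?_
    apply h.1
    have := LinearMap.congr_fun h1 x
    simpa using this
  let K := LinearMap.ker φ
  let π' : M →ₗ[R] K := π.codRestrict K (fun x => by
    have := LinearMap.congr_fun hφπ x
    exact LinearMap.mem_ker.mpr this)
  have hπ'ι : π'.comp K.subtype = LinearMap.id := by
    ext ⟨x, hx⟩
    have hx' : φ x = 0 := hx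
    simp [π', π, hx']
  have hιπ' : K.subtype.comp π' = π := by
    ext x
    rfl
  haveI : Module.Finite R K := by
    refine Module.Finite.of_surjective π' ?_
    intro k
    exact ⟨k.1, by simpa using LinearMap.congr_fun hπ'ι k⟩
  haveI : Subsingleton (S ⊗[R] K) := by
    have h2 : (K.subtype.lTensor S) = 0 := by
      have : K.subtype = π.comp K.subtype := by
        rw [← hιπ', LinearMap.comp_assoc, hπ'ι, LinearMap.comp_id]
      rw [this, LinearMap.lTensor_comp, hπ0, LinearMap.zero_comp]
    have h3 : (LinearMap.id : S ⊗[R] K →ₗ[R] S ⊗[R] K) = 0 := by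
      rw [← LinearMap.lTensor_id, ← hπ'ι, LinearMap.lTensor_comp, h2, LinearMap.comp_zero]
    refine ⟨fun a b => ?_⟩
    have ha := LinearMap.congr_fun h3 a
    have hb := LinearMap.congr_fun h3 b
    simp only [LinearMap.id_apply, LinearMap.zero_apply] at ha hb
    rw [ha, hb]
  haveI : Subsingleton K := subsingleton_of_subsingleton_tensor R S K inferInstance
  rw [← LinearMap.ker_eq_bot]
  exact Submodule.eq_bot_of_subsingleton

end Groth.Agent.R2.H57.NearFibreA
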