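import Mathlib

/-!
# Injectivity modulo the maximal ideal of the base (helper57; for PROJ:nearfibre (P2))

`A → B` a flat local homomorphism of Noetherian local rings, `𝔪` the maximal ideal of `A`.

* `exists_minimal_generators`: minimal generators `e` of a finitely generated ideal `I` of a local ring:
  `∑ aᵢ eᵢ ∈ 𝔪 I ⟹ aᵢ ∈ 𝔪`.
* `mem_smul_top_of_sum_smul_mem`: if `N` is flat over `A` and `∑ eᵢ • nᵢ ∈ (𝔪 I) N` then `nᵢ ∈ 𝔪 N`.
* `injective_of_injective_mod`: a `B`-linear map `v : M → N`, `M` finite over `B`, `N` flat over `A`, which is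
  injective modulo `𝔪` (`v x ∈ 𝔪 N ⟹ x ∈ 𝔪 M`) is injective.  (Matsumura 22.5.)
-/

set_option autoImplicit false
universe u v w

open TensorProduct

namespace Groth.Agent.R2.H57.NearFibreB

section MinGen

variable {A : Type u} [CommRing A] [IsLocalRing A]

local notation "𝔪" => IsLocalRing.maximalIdeal A

theorem tmul_eq_zero_of_mem_smul_top {P : Type v} [AddCommGroup P] [Module A P] (z : P)
    (hz : z ∈ 𝔪 • (⊤ : Submodule A P)) :
    (1 : IsLocalRing.ResidueField A) ⊗ₜ[A] z = 0 := by
  refine Submodule.smul_induction_on hz (fun c hc y _ => ?_) (fun x y hx hy => ?_)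
  · rw [← TensorProduct.smul_tmul, Algebra.smul_def, mul_one]
    have : algebraMap A (IsLocalRing.ResidueField A) c = 0 :=
      (IsLocalRing.residue_eq_zero_iff c).mpr hc
    rw [this, TensorProduct.zero_tmul]
  · rw [TensorProduct.tmul_add, hx, hy, add_zero]

/-- minimal generators of a finitely generated ideal of a local ring -/
theorem exists_minimal_generators (I : Ideal A) (hI : I.FG) :
    ∃ (r : ℕ) (e : Fin r → A), Ideal.span (Set.range e) = I ∧
      ∀ a : Fin r → A, ∑ i, a i * e i ∈ 𝔪 * I → ∀ i, a i ∈ 𝔪 := by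
  classical
  let k := IsLocalRing.ResidueField A
  haveI : Module.Finite A I := Module.Finite.iff_fg.mpr hI
  let V := k ⊗[A] I
  let b := Module.finBasis k V
  have hsurj : Function.Surjective (TensorProduct.mk A k I 1) :=
    TensorProduct.mk_surjective A I k Ideal.Quotient.mk_surjective
  choose e' he' using fun i => hsurj (b i)
  have hspan : Submodule.span A (Set.range e') = ⊤ :=
    IsLocalRing.span_eq_top_of_tmul_eq_basis e' b he'
  refine ⟨_, fun i => (e' i : A), ?_, ?_⟩
  · have h1 : Submodule.map I.subtype (Submodule.span A (Set.range e')) = I := by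
      rw [hspan, Submodule.map_top, Submodule.range_subtype]
    rw [Submodule.map_span, ← Set.range_comp] at h1
    exact h1
  · intro a ha i
    let z : I := ∑ i, a i • e' i
    have hz : (z : A) = ∑ i, a i * e' i := by
      simp [z]
    have hz' : z ∈ 𝔪 • (⊤ : Submodule A I) := by
      rw [Submodule.mem_smul_top_iff, hz]
      exact ha
    have h0 := tmul_eq_zero_of_mem_smul_top z hz'
    have h1 : (1 : k) ⊗ₜ[A] z = ∑ i, (IsLocalRing.residue A (a i)) • b i := by
      simp only [z, TensorProduct.tmul_sum, TensorProduct.tmul_smul]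
      refine Finset.sum_congr rfl fun j _ => ?_
      have hj : (1 : k) ⊗ₜ[A] (e' j) = b j := he' j
      rw [hj]
      exact (algebraMap_smul k (a j) (b j)).symm
    rw [h1] at h0
    have h2 := (Fintype.linearIndependent_iff.mp b.linearIndependent) _ h0 i
    exact (IsLocalRing.residue_eq_zero_iff (a i)).mp h2

end MinGen

section Sum

variable {A : Type u} [CommRing A] {P : Type v} [AddCommGroup P] [Module A P]

/-- elements of `(J * span e) P` are sums `∑ eᵢ • yᵢ` with `yᵢ ∈ J P` -/
theorem exists_sum_of_mem_mul_smul_top {r : ℕ} (e : Fin r → A) (J : Ideal A) (x : P)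
    (hx : x ∈ (J * Ideal.span (Set.range e)) • (⊤ : Submodule A P)) :
    ∃ y : Fin r → P, (∀ i, y i ∈ J • (⊤ : Submodule A P)) ∧ x = ∑ i, e i • y i := by
  refine Submodule.smul_induction_on hx (fun c hc p _ => ?_) (fun x₁ x₂ h₁ h₂ => ?_)
  · refine Submodule.mul_induction_on hc (fun a ha s hs => ?_) (fun c₁ c₂ h₁ h₂ => ?_)
    · obtain ⟨t, rfl⟩ := Ideal.mem_span_range_iff_exists_fun.mp hs
      refine ⟨fun i => (a * t i) • p, fun i => ?_, ?_⟩
      · exact Submodule.smul_mem_smul (Ideal.mul_mem_right _ _ ha) trivial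
      · rw [Finset.mul_sum, Finset.sum_smul]
        refine Finset.sum_congr rfl fun i _ => ?_
        rw [smul_smul]
        congr 1
        ring
    · obtain ⟨y₁, hy₁, e₁⟩ := h₁
      obtain ⟨y₂, hy₂, e₂⟩ := h₂
      refine ⟨fun i => y₁ i + y₂ i, fun i => add_mem (hy₁ i) (hy₂ i), ?_⟩
      rw [add_smul, e₁, e₂, ← Finset.sum_add_distrib]
      exact Finset.sum_congr rfl fun i _ => (smul_add _ _ _).symm
  · obtain ⟨y₁, hy₁, e₁⟩ := h₁
    obtain ⟨y₂, hy₂, e₂⟩ := h₂
    refine ⟨fun i => y₁ i + y₂ i, fun i => add_mem (hy₁ i) (hy₂ i), ?_⟩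
    rw [e₁, e₂, ← Finset.sum_add_distrib]
    exact Finset.sum_congr rfl fun i _ => (smul_add _ _ _).symm

end Sum

section Flat

variable {A : Type u} [CommRing A] [IsLocalRing A]

local notation "𝔪" => IsLocalRing.maximalIdeal A

/-- `N` flat over `A`, `e` minimal generators of `I`: if `∑ eᵢ • nᵢ ∈ (𝔪 I) N` then all `nᵢ ∈ 𝔪 N`. -/
theorem mem_smul_top_of_sum_smul_mem {N : Type v} [AddCommGroup N] [Module A N] [Module.Flat A N]
    {r : ℕ} (e : Fin r → A)
    (he : ∀ a : Fin r → A, ∑ i, a i * e i ∈ 𝔪 * Ideal.span (Set.range e) → ∀ i, a i ∈ 𝔪)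
    (n : Fin r → N)
    (hn : ∑ i, e i • n i ∈ (𝔪 * Ideal.span (Set.range e)) • (⊤ : Submodule A N)) (i : Fin r) :
    n i ∈ 𝔪 • (⊤ : Submodule A N) := by
  obtain ⟨n', hn', hsum⟩ := exists_sum_of_mem_mul_smul_top e 𝔪 _ hn
  have h0 : ∑ i, e i • (n i - n' i) = 0 := by
    simp only [smul_sub, Finset.sum_sub_distrib, hsum, sub_self]
  obtain ⟨l, a, y, hxy, hfa⟩ := Module.Flat.isTrivialRelation_of_sum_smul_eq_zero h0
  have ha : ∀ j i, a i j ∈ 𝔪 := by
    intro j
    apply he (fun i => a i j)
    have : ∑ i, a i j * e i = 0 := by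
      rw [← hfa j]
      exact Finset.sum_congr rfl fun i _ => mul_comm _ _
    rw [this]
    exact zero_mem _
  have h1 : n i - n' i ∈ 𝔪 • (⊤ : Submodule A N) := by
    rw [show n i - n' i = ∑ j, a i j • y j from hxy i]
    exact Submodule.sum_mem _ fun j _ => Submodule.smul_mem_smul (ha j i) trivial
  have := add_mem h1 (hn' i)
  rwa [sub_add_cancel] at this

end Flat

section Main

variable {A : Type u} {B : Type v} [CommRing A] [CommRing B] [IsLocalRing A] [IsNoetherianRing A]
  [IsLocalRing B] [IsNoetherianRing B] [Algebra A B] [IsLocalHom (algebraMap A B)]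
  {M : Type w} {N : Type w} [AddCommGroup M] [Module A M] [Module B M] [IsScalarTower A B M]
  [Module.Finite B M] [AddCommGroup N] [Module A N] [Module B N] [IsScalarTower A B N]
  [Module.Flat A N]

local notation "𝔪" => IsLocalRing.maximalIdeal A

omit [IsNoetherianRing A] [IsLocalRing B] [IsNoetherianRing B] [IsLocalHom (algebraMap A B)]
  [Module.Finite B M] in
theorem mem_map_pow_smul_top (k : ℕ) (x : M) (hx : x ∈ (𝔪 ^ k) • (⊤ : Submodule A M)) :
    x ∈ (((IsLocalRing.maximalIdeal A).map (algebraMap A B)) ^ k) • (⊤ : Submodule B M) := by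
  rw [← Ideal.map_pow]
  refine Submodule.smul_induction_on hx (fun c hc y _ => ?_) (fun x y hx hy => add_mem hx hy)
  rw [← algebraMap_smul B c y]
  exact Submodule.smul_mem_smul (Ideal.mem_map_of_mem _ hc) trivial

/-- **Matsumura 22.5** (injectivity part): a `B`-linear map from a finite `B`-module to an `A`-flat module which is
injective modulo `𝔪` is injective. -/
theorem injective_of_injective_mod (v : M →ₗ[B] N)
    (hv : ∀ x : M, v x ∈ 𝔪 • (⊤ : Submodule A N) → x ∈ 𝔪 • (⊤ : Submodule A M)) :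
    Function.Injective v := by
  rw [← LinearMap.ker_eq_bot, eq_bot_iff]
  intro x hx
  rw [LinearMap.mem_ker] at hx
  -- `x ∈ 𝔪^k M` for all `k`
  have key : ∀ k : ℕ, x ∈ (𝔪 ^ k) • (⊤ : Submodule A M) := by
    intro k
    induction k with
    | zero => rw [pow_zero, Ideal.one_eq_top, Submodule.top_smul]; trivial
    | succ k ih =>
      obtain ⟨r, e, hspan, hmin⟩ := exists_minimal_generators (𝔪 ^ k)
        ((isNoetherianRing_iff_ideal_fg A).mp inferInstance _)
      have ih' : x ∈ ((⊤ : Ideal A) * Ideal.span (Set.range e)) • (⊤ : Submodule A M) := by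
        rw [Ideal.top_mul, hspan]; exact ih
      obtain ⟨y, -, hxy⟩ := exists_sum_of_mem_mul_smul_top e ⊤ x ih'
      have hvy : ∑ i, e i • v (y i) = 0 := by
        have h1 : v x = ∑ i, e i • v (y i) := by
          rw [hxy, map_sum]
          refine Finset.sum_congr rfl fun i _ => ?_
          rw [← algebraMap_smul B (e i) (y i), map_smul, algebraMap_smul]
        rw [← h1, hx]
      have hmem : ∀ i, v (y i) ∈ 𝔪 • (⊤ : Submodule A N) := by
        intro i
        refine mem_smul_top_of_sum_smul_mem e ?_ (fun i => v (y i)) ?_ i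
        · rw [hspan]; exact hmin
        · rw [hvy]; exact zero_mem _
      have hy : ∀ i, y i ∈ 𝔪 • (⊤ : Submodule A M) := fun i => hv _ (hmem i)
      rw [hxy, pow_succ]
      refine Submodule.sum_mem _ fun i _ => ?_
      have hei : e i ∈ 𝔪 ^ k := by
        rw [← hspan]; exact Ideal.subset_span (Set.mem_range_self i)
      rw [Submodule.mul_smul]
      exact Submodule.smul_mem_smul hei (hy i)
  -- Krull's intersection theorem
  have hne : (IsLocalRing.maximalIdeal A).map (algebraMap A B) ≠ ⊤ := by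
    intro h
    have h1 : (IsLocalRing.maximalIdeal A).map (algebraMap A B) ≤ IsLocalRing.maximalIdeal B :=
      ((IsLocalRing.local_hom_TFAE (algebraMap A B)).out 0 2).mp ‹IsLocalHom (algebraMap A B)›
    rw [h] at h1
    exact (IsLocalRing.maximalIdeal.isMaximal B).ne_top (top_le_iff.mp h1)
  have hK := Ideal.iInf_pow_smul_eq_bot_of_isLocalRing (M := M)
    ((IsLocalRing.maximalIdeal A).map (algebraMap A B)) hne
  have : x ∈ (⨅ i : ℕ, ((IsLocalRing.maximalIdeal A).map (algebraMap A B)) ^ i • ⊤ : Submodule B M) := by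
    rw [Submodule.mem_iInf]
    intro k
    exact mem_map_pow_smul_top k x (key k)
  rw [hK] at this
  exact this

end Main

end Groth.Agent.R2.H57.NearFibreB
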