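import Groth.Agent.R2.H57Stable

/-! Existence of a finite purely inseparable constant extension `k₁/k` such that every place of
`k₁ ⊗ K` is nonsingular with respect to every further finite purely inseparable constant extension
(maximise the total defect at the finitely many bad places of a plane model). -/

set_option autoImplicit false

namespace Groth.Agent.R2.H57.PiStable

open FunFld WithZero TensorProduct Polynomial
open Groth.Agent.Lib Groth.Agent.R2.H57.ConstExt Groth.Agent.R2.H57.ConstExtTower
open Groth.Agent.R2.H57.Defect Groth.Agent.R2.H57.UnifCond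

universe u v

section Tower

variable {k k' k'' : Type u} {K K' K'' : Type v} [Field k] [Field k'] [Field k''] [Field K]
  [Field K'] [Field K'']
  [Algebra k k'] [Algebra k' k''] [Algebra k k''] [IsScalarTower k k' k'']
  [Algebra k K] [Algebra K K'] [Algebra k' K'] [Algebra k K'] [IsScalarTower k k' K']
  [IsScalarTower k K K']
  [Algebra K' K''] [Algebra k'' K''] [Algebra k' K''] [Algebra k K''] [Algebra K K'']
  [IsScalarTower k' k'' K''] [IsScalarTower k' K' K''] [IsScalarTower K K' K'']
  [IsScalarTower k K K''] [IsScalarTower k k'' K'']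

/-- transitivity of models: `K''` is a model of `k'' ⊗_k K`. -/
theorem bijective_tower [FiniteDimensional k k'']
    (h1 : Function.Surjective (Algebra.TensorProduct.productMap
      (IsScalarTower.toAlgHom k k' K') (IsScalarTower.toAlgHom k K K')))
    (h2 : Function.Surjective (Algebra.TensorProduct.productMap
      (IsScalarTower.toAlgHom k' k'' K'') (IsScalarTower.toAlgHom k' K' K'')))
    (hg : IsGeometric k K) :
    Function.Bijective (Algebra.TensorProduct.productMap
      (IsScalarTower.toAlgHom k k'' K'') (IsScalarTower.toAlgHom k K K'')) := by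
  constructor
  · letI : Field (k'' ⊗[k] K) := (hg k'' inferInstance).toField
    exact RingHom.injective ((Algebra.TensorProduct.productMap
      (IsScalarTower.toAlgHom k k'' K'') (IsScalarTower.toAlgHom k K K'')) : k'' ⊗[k] K →+* K'')
  · set f := Algebra.TensorProduct.productMap
      (IsScalarTower.toAlgHom k k'' K'') (IsScalarTower.toAlgHom k K K'') with hf
    have hK : ∀ a : K, algebraMap K K'' a ∈ f.range := fun a => ⟨1 ⊗ₜ a, by simp [hf]⟩
    have hk'' : ∀ c : k'', algebraMap k'' K'' c ∈ f.range := fun c => ⟨c ⊗ₜ 1, by simp [hf]⟩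
    have hK' : ∀ a' : K', algebraMap K' K'' a' ∈ f.range := by
      intro a'
      have := LeadCE.mem_adjoin_range h1 a'
      induction this using Algebra.adjoin_induction with
      | mem x hx =>
        obtain ⟨c, rfl⟩ := hx
        rw [← IsScalarTower.algebraMap_apply k' K' K'', IsScalarTower.algebraMap_apply k' k'' K'']
        exact hk'' _
      | algebraMap a => rw [← IsScalarTower.algebraMap_apply K K' K'']; exact hK a
      | add x y _ _ hx hy => rw [map_add]; exact f.range.add_mem hx hy
      | mul x y _ _ hx hy => rw [map_mul]; exact f.range.mul_mem hx hy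
    intro z
    have := LeadCE.mem_adjoin_range h2 z
    induction this using Algebra.adjoin_induction with
    | mem x hx => obtain ⟨c, rfl⟩ := hx; exact hk'' c
    | algebraMap a' => exact hK' a'
    | add x y _ _ hx hy => exact f.range.add_mem hx hy
    | mul x y _ _ hx hy => exact f.range.mul_mem hx hy

end Tower

section Main

variable {k : Type u} {K : Type v} [Field k] [Field K] [Algebra k K]

/-- the set of achievable total defects over purely inseparable finite constant extensions. -/
def totals (S : Finset (Place k K)) : Set ℕ :=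
  {N | ∃ (k₁ : Type u) (_ : Field k₁) (_ : Algebra k k₁) (_ : FiniteDimensional k k₁)
      (_ : IsPurelyInseparable k k₁)
      (K₁ : Type v) (_ : Field K₁) (_ : Algebra K K₁) (_ : Algebra k₁ K₁) (_ : Algebra k K₁)
      (_ : IsScalarTower k k₁ K₁) (_ : IsScalarTower k K K₁)
      (_ : Function.Bijective (Algebra.TensorProduct.productMap
        (IsScalarTower.toAlgHom k k₁ K₁) (IsScalarTower.toAlgHom k K K₁)))
      (n : Place k K → ℕ), (∀ P ∈ S, HasDefect k₁ K₁ P (n P)) ∧ ∑ P ∈ S, n P = N}

lemma hasDefect_zero (k' : Type u) (K' : Type v) [Field k'] [Field K'] [Algebra K K']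
    [Algebra k' K'] (P : Place k K) : HasDefect k' K' P 0 :=
  ⟨Fin.elim0, fun i => i.elim0, fun c _ => Subsingleton.elim _ _⟩

lemma totals_nonempty (S : Finset (Place k K)) : (totals S).Nonempty := by
  refine ⟨0, k, inferInstance, inferInstance, inferInstance, inferInstance,
    K, inferInstance, inferInstance, inferInstance, inferInstance, inferInstance, inferInstance,
    ?_, fun _ => 0, fun P _ => hasDefect_zero k K P, by simp⟩
  have : (Algebra.TensorProduct.productMap
      (IsScalarTower.toAlgHom k k K) (IsScalarTower.toAlgHom k K K) : k ⊗[k] K → K) =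
      (Algebra.TensorProduct.lid k K) := by
    funext w
    induction w using TensorProduct.induction_on with
    | zero => simp
    | tmul c a => simp [Algebra.smul_def]
    | add x y hx hy => simp only [map_add, hx, hy]
  rw [this]
  exact (Algebra.TensorProduct.lid k K).bijective

theorem exists_pi_nonsingular (hK : IsFunctionField k K) (hg : IsGeometric k K) :
    ∃ (k₁ : Type u) (_ : Field k₁) (_ : Algebra k k₁), FiniteDimensional k k₁ ∧
      IsPurelyInseparable k k₁ ∧
      ∀ (K₁ : Type v) [Field K₁] [Algebra K K₁] [Algebra k₁ K₁] [Algebra k K₁]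
        [IsScalarTower k k₁ K₁] [IsScalarTower k K K₁],
        Function.Bijective (Algebra.TensorProduct.productMap
          (IsScalarTower.toAlgHom k k₁ K₁) (IsScalarTower.toAlgHom k K K₁)) →
        ∀ (Q : Place k K₁)
          (k₂ : Type u) [Field k₂] [Algebra k₁ k₂] [Algebra k k₂] [IsScalarTower k k₁ k₂]
          [FiniteDimensional k₁ k₂] [IsPurelyInseparable k k₂]
          (K₂ : Type v) [Field K₂] [Algebra K₁ K₂] [Algebra k₂ K₂] [Algebra k₁ K₂] [Algebra k K₂]
          [Algebra K K₂] [IsScalarTower k₁ k₂ K₂] [IsScalarTower k₁ K₁ K₂] [IsScalarTower K K₁ K₂]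
          [IsScalarTower k K K₂],
          Function.Bijective (Algebra.TensorProduct.productMap
            (IsScalarTower.toAlgHom k₁ k₂ K₂) (IsScalarTower.toAlgHom k₁ K₁ K₂)) →
          integralClosure (Q.O.toSubring.map (algebraMap K₁ K₂)) K₂ =
            Algebra.adjoin (Q.O.toSubring.map (algebraMap K₁ K₂))
              (Set.range (algebraMap k₂ K₂)) := by
  classical
  obtain ⟨x, y, H, hx, hgen, hH, hroot, hδ⟩ := PlaneModel.exists_plane_model hK hg
  have hbad := Sing.bad_finite hK x y H hδ
  set S : Finset (Place k K) := hbad.toFinset with hS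
  choose D hD using fun P => hasDefect_bound hK hg P
  have hbdd : BddAbove (totals S) := by
    refine ⟨∑ P ∈ S, D P, ?_⟩
    rintro N ⟨k₁, _, _, _, _, K₁, _, _, _, _, _, _, h₁, n, hn, rfl⟩
    exact Finset.sum_le_sum fun P hP => hD P k₁ K₁ h₁ _ (hn P hP)
  have hmem := Nat.sSup_mem (totals_nonempty S) hbdd
  obtain ⟨k₁, _, _, hfin₁, hpi₁, K₁, _, _, _, _, _, _, h₁, n, hn, hsum⟩ := hmem
  refine ⟨k₁, inferInstance, inferInstance, hfin₁, hpi₁, ?_⟩
  intro K₁' _ _ _ _ _ _ h₁' Q k₂ _ _ _ _ _ _ K₂ _ _ _ _ _ _ _ _ _ _ h₂
  haveI : FiniteDimensional k k₂ := Module.Finite.trans k₁ k₂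
  haveI tw2 : IsScalarTower k k₂ K₂ := IsScalarTower.of_algebraMap_eq (fun c => by
    rw [IsScalarTower.algebraMap_apply k k₁ k₂, ← IsScalarTower.algebraMap_apply k₁ k₂ K₂,
      IsScalarTower.algebraMap_apply k₁ K₁' K₂, ← IsScalarTower.algebraMap_apply k k₁ K₁',
      IsScalarTower.algebraMap_apply k K K₁', ← IsScalarTower.algebraMap_apply K K₁' K₂,
      ← IsScalarTower.algebraMap_apply k K K₂])
  have h₃ : Function.Bijective (Algebra.TensorProduct.productMap
      (IsScalarTower.toAlgHom k k₂ K₂) (IsScalarTower.toAlgHom k K K₂)) :=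
    bijective_tower (k' := k₁) (K' := K₁') h₁'.2 h₂.2 hg
  haveI : FiniteDimensional K K₁' := LeadCE.finiteDimensional_of_surjective h₁'.2
  obtain ⟨P, e, he0, he⟩ := LeadFF.exists_below hK Q
  have hQP : IsOver Q P := ⟨e, he⟩
  by_cases hP : P ∈ S
  · -- bad place: the defect is stable
    have hd' : HasDefect k₁ K₁' P (n P) := (hn P hP).of_model h₁ h₁' P
    have hnd : ¬ HasDefect k₂ K₂ P (n P + 1) := by
      intro hcon
      have hin : (∑ P' ∈ S, Function.update n P (n P + 1) P') ∈ totals S := by
        refine ⟨k₂, inferInstance, inferInstance, inferInstance, inferInstance,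
          K₂, inferInstance, inferInstance, inferInstance, inferInstance, inferInstance,
          inferInstance, h₃, Function.update n P (n P + 1), ?_, rfl⟩
        intro P' hP'
        by_cases hPP : P' = P
        · subst hPP; rw [Function.update_self]; exact hcon
        · rw [Function.update_of_ne hPP]
          exact ((hn P' hP').of_model h₁ h₁' P').mono h₂ P'
      have hle := le_csSup hbdd hin
      rw [← hsum, Finset.sum_update_of_mem hP] at hle
      have : ∑ P' ∈ S, n P' = n P + ∑ P' ∈ S \ {P}, n P' := by
        rw [← Finset.add_sum_erase S n hP, Finset.sdiff_singleton_eq_erase]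
      omega
    exact Stable.nonsingular_over_of_adjoin h₁' h₂ hK P
      (fun w hw => mem_adjoin_integralClosure_of_not_hasDefect h₂ P hd' hnd hw) Q hQP
  · -- good place
    have hgood : P.1 x ≤ 1 ∧ P.1 y ≤ 1 ∧ 1 ≤ P.1 (ev x y (Polynomial.derivative H)) := by
      by_contra hcon
      exact hP (hbad.mem_toFinset.mpr hcon)
    have hns := Sing.nonsingular_of_good (k' := k₂) (K' := K₂) h₃ hK hx hgen H hH hroot P
      hgood.1 hgood.2.1 hgood.2.2
    exact ((nonsingular_tower_iff k k₁ k₂ K K₁' K₂ h₁' h₂ hK P).mp hns).2 Q hQP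

end Main

end Groth.Agent.R2.H57.PiStable
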