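import Groth.Agent.R2.H57UnifCond
import Groth.Agent.Lib.LeadMS1

/-! Existence of a separable plane model `K = k(x, y)`, `H(x, y) = 0`, `H` monic in `Y`,
`H_Y(x, y) ≠ 0` for a geometric function field. -/

set_option autoImplicit false

namespace Groth.Agent.R2.H57.PlaneModel

open FunFld Polynomial
open Groth.Agent.Lib Groth.Agent.R2.H57.UnifCond
open scoped IntermediateField
open scoped IntermediateField.algebraAdjoinAdjoin

variable {k K : Type*} [Field k] [Field K] [Algebra k K]

/-- plane model over a given separating transcendental `x`. -/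
theorem exists_plane_model_of_separating (hK : IsFunctionField k K) {x : K}
    (hx : Transcendental k x) (hsep : Algebra.IsSeparable k⟮x⟯ K) :
    ∃ (y : K) (H : (k[X])[X]), IntermediateField.adjoin k ({x, y} : Set K) = ⊤ ∧ H.Monic ∧
      ev x y H = 0 ∧ ev x y (Polynomial.derivative H) ≠ 0 := by
  classical
  have hFF : LeadFG.IsFF k K := hK.1
  haveI hfin : FiniteDimensional k⟮x⟯ K := LeadFG.finite_over_adjoin hFF hx
  -- `k[x]` is integrally closed
  have hinj : Function.Injective (Polynomial.aeval x : k[X] →ₐ[k] K) :=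
    transcendental_iff_injective.mp hx
  let e : k[X] ≃ₐ[k] Algebra.adjoin k ({x} : Set K) :=
    (AlgEquiv.ofInjective _ hinj).trans
      (Subalgebra.equivOfEq _ _ (Algebra.adjoin_singleton_eq_range_aeval k x).symm)
  haveI : IsIntegrallyClosed (Algebra.adjoin k ({x} : Set K)) :=
    IsIntegrallyClosed.of_equiv e.toRingEquiv
  have he : ∀ p : k[X], ((e p : Algebra.adjoin k ({x} : Set K)) : K) = Polynomial.aeval x p :=
    fun p => rfl
  -- primitive element
  obtain ⟨α, hα⟩ := Field.exists_primitive_element k⟮x⟯ K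
  have hαalg : IsAlgebraic (Algebra.adjoin k ({x} : Set K)) α :=
    (IsFractionRing.isAlgebraic_iff (Algebra.adjoin k ({x} : Set K)) k⟮x⟯ K).mpr
      (Algebra.IsAlgebraic.isAlgebraic α)
  obtain ⟨d, hd0, hdint⟩ := hαalg.exists_integral_multiple
  set y : K := d • α with hy
  have hdK : (d : K) ≠ 0 := fun h => hd0 (Subtype.ext h)
  have hyd : y = (d : K) * α := rfl
  -- `y` is still primitive
  have hytop : k⟮x⟯⟮y⟯ = ⊤ := by
    rw [eq_top_iff, ← hα, IntermediateField.adjoin_simple_le_iff]
    have hdm : (d : K) ∈ k⟮x⟯⟮y⟯ := by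
      have h1 : (d : K) ∈ k⟮x⟯ := IntermediateField.algebra_adjoin_le_adjoin k _ d.2
      have : (d : K) = algebraMap k⟮x⟯ K ⟨d, h1⟩ := rfl
      rw [this]
      exact IntermediateField.algebraMap_mem _ _
    have hym : y ∈ k⟮x⟯⟮y⟯ := IntermediateField.mem_adjoin_simple_self _ y
    have : α = (d : K)⁻¹ * y := by rw [hyd]; field_simp
    rw [this]
    exact mul_mem (inv_mem hdm) hym
  -- minimal polynomial over `k[x]`
  set G := minpoly (Algebra.adjoin k ({x} : Set K)) y with hG
  have hGm : G.Monic := minpoly.monic hdint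
  have hGF : minpoly k⟮x⟯ y = G.map (algebraMap (Algebra.adjoin k ({x} : Set K)) k⟮x⟯) :=
    minpoly.isIntegrallyClosed_eq_field_fractions' k⟮x⟯ hdint
  have hsepy : (minpoly k⟮x⟯ y).Separable := Algebra.IsSeparable.isSeparable k⟮x⟯ y
  have hder : Polynomial.aeval y (Polynomial.derivative G) ≠ 0 := by
    have := hsepy.aeval_derivative_ne_zero (minpoly.aeval k⟮x⟯ y)
    rwa [hGF, Polynomial.derivative_map, Polynomial.aeval_map_algebraMap] at this
  -- transport to `k[X]`
  have hcomp : ((Polynomial.aeval x : k[X] →ₐ[k] K) : k[X] →+* K).comp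
      (e.symm : Algebra.adjoin k ({x} : Set K) →+* k[X]) =
      algebraMap (Algebra.adjoin k ({x} : Set K)) K := by
    ext a
    obtain ⟨p, rfl⟩ := e.surjective a
    simp only [RingHom.coe_comp, RingHom.coe_coe, Function.comp_apply, AlgEquiv.symm_apply_apply]
    exact (he p).symm
  have hev : ∀ G' : (Algebra.adjoin k ({x} : Set K))[X],
      ev x y (G'.map (e.symm : Algebra.adjoin k ({x} : Set K) →+* k[X])) =
        Polynomial.aeval y G' := by
    intro G'
    rw [ev, Polynomial.eval₂_map, hcomp, Polynomial.aeval_def]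
  refine ⟨y, G.map (e.symm : Algebra.adjoin k ({x} : Set K) →+* k[X]), ?_, hGm.map _, ?_, ?_⟩
  · rw [← IntermediateField.adjoin_simple_adjoin_simple, hytop,
      IntermediateField.restrictScalars_top]
  · rw [hev]; exact minpoly.aeval _ _
  · rw [Polynomial.derivative_map, hev]; exact hder

/-- a geometric function field has a separable plane model. -/
theorem exists_plane_model (hK : IsFunctionField k K) (hg : IsGeometric k K) :
    ∃ (x y : K) (H : (k[X])[X]), Transcendental k x ∧
      IntermediateField.adjoin k ({x, y} : Set K) = ⊤ ∧ H.Monic ∧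
      ev x y H = 0 ∧ ev x y (Polynomial.derivative H) ≠ 0 := by
  obtain ⟨x, hx, hsep⟩ := LeadMS.exists_separating hK hg
  obtain ⟨y, H, h1, h2, h3, h4⟩ := exists_plane_model_of_separating hK hx hsep
  exact ⟨x, y, H, hx, h1, h2, h3, h4⟩

end Groth.Agent.R2.H57.PlaneModel
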