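import Mathlib
import Groth.Agent.Lib.Helper22Amitsur

/-!
# Amitsur exactness (first two terms) for a finite jointly faithfully flat family (helper80)
-/

set_option autoImplicit false
universe u
open TensorProduct

namespace Groth.Agent.R2.H80.AmitsurFam

section General

variable {R : Type*} [CommRing R]

theorem rTensor_sum {ι : Type*} (s : Finset ι) {X Y : Type*} [AddCommGroup X] [Module R X]
    [AddCommGroup Y] [Module R Y] (N : Type*) [AddCommGroup N] [Module R N]
    (f : ι → X →ₗ[R] Y) :
    (∑ i ∈ s, f i).rTensor N = ∑ i ∈ s, (f i).rTensor N := by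
  have h := map_sum (LinearMap.rTensorHom N (R := R) (N := X) (P := Y)) f s
  simpa only [LinearMap.coe_rTensorHom] using h

theorem lTensor_sum {ι : Type*} (s : Finset ι) {X Y : Type*} [AddCommGroup X] [Module R X]
    [AddCommGroup Y] [Module R Y] (N : Type*) [AddCommGroup N] [Module R N]
    (f : ι → X →ₗ[R] Y) :
    (∑ i ∈ s, f i).lTensor N = ∑ i ∈ s, (f i).lTensor N := by
  have h := map_sum (LinearMap.lTensorHom N (R := R) (N := X) (P := Y)) f s
  simpa only [LinearMap.coe_lTensorHom] using h

/-- a family of maps with a partition of unity is jointly injective -/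
theorem eq_zero_of_sum_comp {ι : Type*} [Fintype ι] {X : Type*} [AddCommGroup X] [Module R X]
    {Y : ι → Type*} [∀ i, AddCommGroup (Y i)] [∀ i, Module R (Y i)]
    (f : ∀ i, X →ₗ[R] Y i) (g : ∀ i, Y i →ₗ[R] X)
    (h : ∑ i, (g i) ∘ₗ (f i) = LinearMap.id) (x : X) (hx : ∀ i, f i x = 0) : x = 0 := by
  have h1 : (∑ i, (g i) ∘ₗ (f i)) x = x := by rw [h, LinearMap.id_apply]
  rw [← h1, LinearMap.sum_apply]
  apply Finset.sum_eq_zero
  intro i _
  rw [LinearMap.comp_apply, hx i, map_zero]

end General

variable {R : Type*} [CommRing R] {n : ℕ} (A' : Fin n → Type*) [∀ j, CommRing (A' j)]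
  [∀ j, Algebra R (A' j)] (N : Type*) [AddCommGroup N] [Module R N]

/-- projection of the product ring -/
abbrev p (j : Fin n) : (∀ j, A' j) →ₗ[R] A' j := LinearMap.proj j

/-- inclusion into the product ring -/
abbrev e (j : Fin n) : A' j →ₗ[R] (∀ j, A' j) := LinearMap.single R A' j

theorem sum_e_p : ∑ j, (e A' j) ∘ₗ (p (R := R) A' j) = LinearMap.id := by
  apply LinearMap.ext
  intro c
  funext k
  simp only [LinearMap.coe_sum, Finset.sum_apply, LinearMap.comp_apply, LinearMap.id_apply,
    LinearMap.proj_apply, LinearMap.single_apply]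
  rw [Finset.sum_eq_single k]
  · exact Pi.single_eq_same k (c k)
  · intro j _ hjk
    exact Pi.single_eq_of_ne' hjk (c j)
  · intro h
    exact absurd (Finset.mem_univ k) h

theorem p_e_same (j : Fin n) : (p (R := R) A' j) ∘ₗ (e A' j) = LinearMap.id :=
  LinearMap.proj_comp_single_same R A' j

theorem p_e_ne (j k : Fin n) (h : j ≠ k) : (p (R := R) A' k) ∘ₗ (e A' j) = 0 :=
  LinearMap.proj_comp_single_ne R A' k j h.symm

/-- components are jointly injective -/
theorem fam_sep (w : (∀ j, A' j) ⊗[R] N)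
    (h : ∀ j, (p (R := R) A' j).rTensor N w = 0) : w = 0 := by
  refine eq_zero_of_sum_comp (fun j => (p (R := R) A' j).rTensor N)
    (fun j => (e (R := R) A' j).rTensor N) ?_ w h
  have h1 : ∀ j, ((e (R := R) A' j).rTensor N) ∘ₗ ((p (R := R) A' j).rTensor N) =
      ((e A' j) ∘ₗ (p (R := R) A' j)).rTensor N := fun j => (LinearMap.rTensor_comp _ _ _).symm
  rw [Finset.sum_congr rfl (fun j _ => h1 j), ← rTensor_sum, sum_e_p, LinearMap.rTensor_id]

/-- components are jointly injective, with a passive factor on the left -/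
theorem fam_sep_left (X : Type*) [AddCommGroup X] [Module R X] (w : X ⊗[R] ((∀ j, A' j) ⊗[R] N))
    (h : ∀ j, ((p (R := R) A' j).rTensor N).lTensor X w = 0) : w = 0 := by
  refine eq_zero_of_sum_comp (fun j => ((p (R := R) A' j).rTensor N).lTensor X)
    (fun j => ((e (R := R) A' j).rTensor N).lTensor X) ?_ w h
  have h1 : ∀ j, (((e (R := R) A' j).rTensor N).lTensor X) ∘ₗ
      (((p (R := R) A' j).rTensor N).lTensor X) =
      (((e A' j) ∘ₗ (p (R := R) A' j)).rTensor N).lTensor X := fun j => by
    rw [← LinearMap.lTensor_comp, ← LinearMap.rTensor_comp]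
  rw [Finset.sum_congr rfl (fun j _ => h1 j), ← lTensor_sum, ← rTensor_sum, sum_e_p,
    LinearMap.rTensor_id, LinearMap.lTensor_id]

/-- double components are jointly injective -/
theorem fam_sep2 (v : (∀ j, A' j) ⊗[R] ((∀ j, A' j) ⊗[R] N))
    (h : ∀ j k, TensorProduct.map (p (R := R) A' j) ((p (R := R) A' k).rTensor N) v = 0) :
    v = 0 := by
  apply fam_sep A' ((∀ j, A' j) ⊗[R] N)
  intro j
  apply fam_sep_left A' N (A' j)
  intro k
  have := h j k
  rw [← LinearMap.lTensor_comp_rTensor, LinearMap.comp_apply] at this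
  exact this

theorem p_sum_e (z : ∀ j, A' j ⊗[R] N) (j : Fin n) :
    (p (R := R) A' j).rTensor N (∑ k, (e (R := R) A' k).rTensor N (z k)) = z j := by
  rw [map_sum, Finset.sum_eq_single j]
  · rw [← LinearMap.comp_apply, ← LinearMap.rTensor_comp, p_e_same, LinearMap.rTensor_id,
      LinearMap.id_apply]
  · intro k _ hkj
    rw [← LinearMap.comp_apply, ← LinearMap.rTensor_comp, p_e_ne A' k j hkj,
      LinearMap.rTensor_zero, LinearMap.zero_apply]
  · intro h
    exact absurd (Finset.mem_univ j) h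

theorem comp_a (j k : Fin n) :
    (TensorProduct.map (p (R := R) A' j) ((p (R := R) A' k).rTensor N)) ∘ₗ
        (TensorProduct.mk R (∀ j, A' j) N 1).lTensor (∀ j, A' j) =
      ((TensorProduct.mk R (A' k) N 1).lTensor (A' j)) ∘ₗ (p (R := R) A' j).rTensor N := by
  apply TensorProduct.ext'
  intro c m
  simp only [LinearMap.comp_apply, LinearMap.lTensor_tmul, LinearMap.rTensor_tmul,
    TensorProduct.map_tmul, TensorProduct.mk_apply, LinearMap.proj_apply, Pi.one_apply]

theorem comp_b (j k : Fin n) (w : (∀ j, A' j) ⊗[R] N) :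
    TensorProduct.map (p (R := R) A' j) ((p (R := R) A' k).rTensor N)
        (TensorProduct.mk R (∀ j, A' j) ((∀ j, A' j) ⊗[R] N) 1 w) =
      TensorProduct.mk R (A' j) (A' k ⊗[R] N) 1 ((p (R := R) A' k).rTensor N w) := by
  simp only [TensorProduct.mk_apply, TensorProduct.map_tmul, LinearMap.proj_apply, Pi.one_apply]

variable [Module.FaithfullyFlat R (∀ j, A' j)]

/-- separation for a jointly faithfully flat family -/
theorem fam_mk_injective (m : N) (h : ∀ j, (1 : A' j) ⊗ₜ[R] m = 0) : m = 0 := by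
  apply Module.FaithfullyFlat.tensorProduct_mk_injective (A := R) (B := ∀ j, A' j) N
  rw [map_zero]
  apply fam_sep A' N
  intro j
  simp only [TensorProduct.mk_apply, LinearMap.rTensor_tmul, LinearMap.proj_apply, Pi.one_apply]
  exact h j

/-- gluing for a jointly faithfully flat family -/
theorem fam_glue (z : ∀ j, A' j ⊗[R] N)
    (h : ∀ j k, (TensorProduct.mk R (A' k) N 1).lTensor (A' j) (z j) =
      TensorProduct.mk R (A' j) (A' k ⊗[R] N) 1 (z k)) :
    ∃ m : N, ∀ j, z j = (1 : A' j) ⊗ₜ[R] m := by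
  have hw := p_sum_e A' N z
  have hmem := Groth.Agent.Lib.Helper22.amitsur_mem_range (R := R) (A := ∀ j, A' j) N
    (∑ k, (e (R := R) A' k).rTensor N (z k)) (by
      rw [← sub_eq_zero]
      apply fam_sep2 A' N
      intro j k
      rw [map_sub, sub_eq_zero, comp_b, hw k, ← LinearMap.comp_apply, comp_a,
        LinearMap.comp_apply, hw j]
      exact (h j k).symm)
  obtain ⟨m, hm⟩ := hmem
  refine ⟨m, fun j => ?_⟩
  rw [← hw j, ← hm]
  simp only [TensorProduct.mk_apply, LinearMap.rTensor_tmul, LinearMap.proj_apply, Pi.one_apply]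

end Groth.Agent.R2.H80.AmitsurFam
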