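import Mathlib
import Groth.Agent.R2.H48QCTSpec
import Groth.Agent.R2.H80AmitsurFam

/-!
# helper57: PROJ:qcoh-et — Package Alg
Faithfully flat descent (first two terms of the Amitsur complex) for a finite flat jointly surjective
family of ring maps, in "base change" form.
-/

set_option autoImplicit false
universe w u
open TensorProduct

namespace Groth.Agent.R2.H57.QCT

section Pair

variable {A B₁ B₂ C : Type*} [CommRing A] [CommRing B₁] [CommRing B₂] [CommRing C]
  [Algebra A B₁] [Algebra A B₂] [Algebra A C] [Algebra B₁ C] [Algebra B₂ C]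
  [IsScalarTower A B₁ C] [IsScalarTower A B₂ C] [Algebra.IsPushout A B₁ B₂ C]
  {N N₁ N₂ N₁₂ : Type*} [AddCommGroup N] [Module A N]
  [AddCommGroup N₁] [Module A N₁] [Module B₁ N₁] [IsScalarTower A B₁ N₁]
  [AddCommGroup N₂] [Module A N₂] [Module B₂ N₂] [IsScalarTower A B₂ N₂]
  [AddCommGroup N₁₂] [Module A N₁₂] [Module B₁ N₁₂] [Module B₂ N₁₂] [Module C N₁₂]
  [IsScalarTower A B₁ N₁₂] [IsScalarTower A B₂ N₁₂] [IsScalarTower A C N₁₂]
  [IsScalarTower B₁ C N₁₂] [IsScalarTower B₂ C N₁₂]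
  {r₁ : N →ₗ[A] N₁} (hr₁ : IsBaseChange B₁ r₁) {r₂ : N →ₗ[A] N₂} (hr₂ : IsBaseChange B₂ r₂)
  {s₁ : N₁ →ₗ[B₁] N₁₂} (hs₁ : IsBaseChange C s₁) (s₂ : N₂ →ₗ[B₂] N₁₂)
  (hcomp : ∀ m, s₁ (r₁ m) = s₂ (r₂ m))

include hr₁ hr₂ hs₁ hcomp in
/-- the second projection is also a base change -/
theorem isBaseChange_s₂ : IsBaseChange C s₂ := by
  refine IsBaseChange.of_comp hr₂ ?_
  have h1 : (s₂.restrictScalars A).comp r₂ = (s₁.restrictScalars A).comp r₁ :=
    LinearMap.ext fun m => (hcomp m).symm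
  have h2 := hr₁.comp hs₁
  rw [← h1] at h2
  exact h2

/-- the comparison map `B₁ ⊗ (B₂ ⊗ N) → N₁₂` -/
noncomputable def psi (hs₂ : IsBaseChange C s₂) (u : B₁ ⊗[A] (B₂ ⊗[A] N)) : N₁₂ :=
  hs₂.equiv ((Algebra.IsPushout.cancelBaseChange A B₁ B₂ C N₂).symm
    (LinearEquiv.lTensor B₁ (hr₂.equiv.restrictScalars A) u))

theorem psi_injective (hs₂ : IsBaseChange C s₂) :
    Function.Injective (psi hr₂ s₂ hs₂ : B₁ ⊗[A] (B₂ ⊗[A] N) → N₁₂) := by
  intro u v h
  unfold psi at h
  have h1 := hs₂.equiv.injective h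
  have h2 := (Algebra.IsPushout.cancelBaseChange A B₁ B₂ C N₂).symm.injective h1
  exact (LinearEquiv.lTensor B₁ (hr₂.equiv.restrictScalars A)).injective h2

theorem psi_tmul (hs₂ : IsBaseChange C s₂) (b : B₁) (w : B₂ ⊗[A] N) :
    psi hr₂ s₂ hs₂ (b ⊗ₜ[A] w) = algebraMap B₁ C b • s₂ (hr₂.equiv w) := by
  unfold psi
  rw [LinearEquiv.lTensor_tmul, Algebra.IsPushout.cancelBaseChange_symm_tmul,
    IsBaseChange.equiv_tmul]
  rfl

theorem psi_add (hs₂ : IsBaseChange C s₂) (u v : B₁ ⊗[A] (B₂ ⊗[A] N)) :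
    psi hr₂ s₂ hs₂ (u + v) = psi hr₂ s₂ hs₂ u + psi hr₂ s₂ hs₂ v := by
  unfold psi
  rw [map_add, map_add, map_add]

include hcomp in
theorem psi_lTensor (hs₂ : IsBaseChange C s₂) (z₁ : B₁ ⊗[A] N) :
    psi hr₂ s₂ hs₂ ((TensorProduct.mk A B₂ N 1).lTensor B₁ z₁) = s₁ (hr₁.equiv z₁) := by
  induction z₁ using TensorProduct.induction_on with
  | zero =>
    rw [map_zero, map_zero, map_zero]
    unfold psi
    rw [map_zero, map_zero, map_zero]
  | add x y hx hy => rw [map_add, psi_add, hx, hy, map_add, map_add]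
  | tmul b m =>
    rw [LinearMap.lTensor_tmul, psi_tmul, TensorProduct.mk_apply, IsBaseChange.equiv_tmul, one_smul,
      IsBaseChange.equiv_tmul, ← hcomp, algebraMap_smul, map_smul]

include hr₁ hs₁ hcomp in
/-- the key compatibility: equal images in `N₁₂` give the Amitsur cocycle condition -/
theorem pair_key (z₁ : B₁ ⊗[A] N) (z₂ : B₂ ⊗[A] N)
    (h : s₁ (hr₁.equiv z₁) = s₂ (hr₂.equiv z₂)) :
    (TensorProduct.mk A B₂ N 1).lTensor B₁ z₁ = TensorProduct.mk A B₁ (B₂ ⊗[A] N) 1 z₂ := by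
  have hs₂ : IsBaseChange C s₂ := isBaseChange_s₂ hr₁ hr₂ hs₁ s₂ hcomp
  apply psi_injective hr₂ s₂ hs₂
  rw [psi_lTensor hr₁ hr₂ s₂ hcomp hs₂, TensorProduct.mk_apply, psi_tmul, map_one, one_smul]
  exact h

end Pair

section FF

variable {R : Type*} [CommRing R] {n : ℕ} (A' : Fin n → Type*) [∀ j, CommRing (A' j)]
  [∀ j, Algebra R (A' j)]

theorem ff_pi (hflat : ∀ j, Module.Flat R (A' j))
    (hsurj : ∀ p : PrimeSpectrum R, ∃ j, p ∈ Set.range (PrimeSpectrum.comap (algebraMap R (A' j)))) :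
    Module.FaithfullyFlat R (∀ j, A' j) := by
  have : Module.Flat R (∀ j, A' j) :=
    Module.Flat.of_linearEquiv (DirectSum.linearEquivFunOnFintype R (Fin n) A').symm
  apply Module.FaithfullyFlat.of_comap_surjective
  intro p
  obtain ⟨j, q, hq⟩ := hsurj p
  refine ⟨PrimeSpectrum.comap (Pi.evalRingHom A' j) q, ?_⟩
  rw [← hq]
  rfl

end FF

open Groth.Agent.R2.H48.QCTSpec in
/-- **Package Alg** of PROJ:qcoh-et. -/
theorem pkgAlg : Groth.Agent.R2.H48.QCTSpec.PkgAlg.{w, u} := by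
  intro A _ n B _ a Cc _ b₁ b₂ hsq hflat hsurj hC N _ _ Nj _ _ Njk _ _ r hr s₁ hs₁ s₂ hs₂ hcomp
    hbr hbs
  letI algB : ∀ j, Algebra A (B j) := fun j => (a j).toAlgebra
  haveI flatB : ∀ j, Module.Flat A (B j) := fun j => hflat j
  haveI ff : Module.FaithfullyFlat A (∀ j, B j) := ff_pi B flatB hsurj
  letI modNjA : ∀ j, Module A (Nj j) := fun j => Module.compHom (Nj j) (a j)
  haveI towNj : ∀ j, IsScalarTower A (B j) (Nj j) := fun j =>
    IsScalarTower.of_algebraMap_smul fun _ _ => rfl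
  let rl : ∀ j, N →ₗ[A] Nj j := fun j =>
    { toFun := r j, map_add' := (r j).map_add, map_smul' := hr j }
  have hrl : ∀ j, IsBaseChange (B j) (rl j) := fun j => hbr j
  have hrl_apply : ∀ j m, rl j m = r j m := fun _ _ => rfl
  refine ⟨?_, ?_⟩
  · intro m hm
    apply Groth.Agent.R2.H80.AmitsurFam.fam_mk_injective (R := A) B N m
    intro j
    apply (hrl j).equiv.injective
    rw [IsBaseChange.equiv_tmul, one_smul, map_zero, hrl_apply, hm j]
  · intro x hx
    have key : ∀ j k, (TensorProduct.mk A (B k) N 1).lTensor (B j) ((hrl j).equiv.symm (x j)) =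
        TensorProduct.mk A (B j) (B k ⊗[A] N) 1 ((hrl k).equiv.symm (x k)) := ?_
    · obtain ⟨m, hm⟩ := Groth.Agent.R2.H80.AmitsurFam.fam_glue (R := A) B N
        (fun j => (hrl j).equiv.symm (x j)) key
      refine ⟨m, fun j => ?_⟩
      have := congrArg (hrl j).equiv (hm j)
      rw [LinearEquiv.apply_symm_apply, IsBaseChange.equiv_tmul, one_smul] at this
      exact this.symm
    · intro j k
      -- instances for the pair `(j, k)`
      letI : Algebra (B j) (Cc j k) := (b₁ j k).toAlgebra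
      letI : Algebra (B k) (Cc j k) := (b₂ j k).toAlgebra
      letI : Algebra A (Cc j k) := ((b₁ j k).comp (a j)).toAlgebra
      haveI : IsScalarTower A (B j) (Cc j k) := IsScalarTower.of_algebraMap_eq fun _ => rfl
      haveI : IsScalarTower A (B k) (Cc j k) := IsScalarTower.of_algebraMap_eq fun x => by
        show (b₁ j k).comp (a j) x = b₂ j k (a k x)
        rw [hsq j k]; rfl
      haveI : Algebra.IsPushout A (B j) (B k) (Cc j k) := ⟨hC j k⟩
      letI : Module (B j) (Njk j k) := Module.compHom _ (b₁ j k)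
      letI : Module (B k) (Njk j k) := Module.compHom _ (b₂ j k)
      letI : Module A (Njk j k) := Module.compHom _ ((b₁ j k).comp (a j))
      haveI : IsScalarTower A (B j) (Njk j k) := IsScalarTower.of_algebraMap_smul fun _ _ => rfl
      haveI : IsScalarTower A (B k) (Njk j k) := IsScalarTower.of_algebraMap_smul fun x y => by
        show b₂ j k (a k x) • y = (b₁ j k).comp (a j) x • y
        rw [hsq j k]; rfl
      haveI : IsScalarTower A (Cc j k) (Njk j k) :=
        IsScalarTower.of_algebraMap_smul fun _ _ => rfl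
      haveI : IsScalarTower (B j) (Cc j k) (Njk j k) :=
        IsScalarTower.of_algebraMap_smul fun _ _ => rfl
      haveI : IsScalarTower (B k) (Cc j k) (Njk j k) :=
        IsScalarTower.of_algebraMap_smul fun _ _ => rfl
      let sl₁ : Nj j →ₗ[B j] Njk j k :=
        { toFun := s₁ j k, map_add' := (s₁ j k).map_add, map_smul' := hs₁ j k }
      let sl₂ : Nj k →ₗ[B k] Njk j k :=
        { toFun := s₂ j k, map_add' := (s₂ j k).map_add, map_smul' := hs₂ j k }
      have hsl₁ : IsBaseChange (Cc j k) sl₁ := hbs j k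
      exact pair_key (hrl j) (hrl k) hsl₁ sl₂ (fun m => hcomp j k m) _ _ (by
        rw [LinearEquiv.apply_symm_apply, LinearEquiv.apply_symm_apply]; exact hx j k)
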