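import Mathlib
import Groth.Prelude.Def_EGA4b

/-!
# The regular locus of a scheme and of a ring
-/

namespace Groth.Agent.R2.H57.RegLocus

open CategoryTheory AlgebraicGeometry

universe u

/-- The set of points of a scheme whose local ring is regular. -/
def regSet (Y : Scheme.{u}) : Set Y := {y : Y | IsRegularLocalRing (Y.presheaf.stalk y)}

theorem isRegularLocalRing_congr {A B : Type u} [CommRing A] [CommRing B] (e : A ≃+* B) :
    IsRegularLocalRing A ↔ IsRegularLocalRing B :=
  ⟨fun _ => IsRegularLocalRing.of_ringEquiv e, fun _ => IsRegularLocalRing.of_ringEquiv e.symm⟩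

/-- For an affine scheme `Spec T`, the regular set is the regular locus of `T`. -/
theorem regSet_Spec (T : Type u) [CommRing T] :
    regSet (Spec (CommRingCat.of T)) = EGA4.regLocus T := by
  ext y
  have key : ∀ y : PrimeSpectrum T,
      IsRegularLocalRing ((Spec (CommRingCat.of T)).presheaf.stalk y) ↔
        IsRegularLocalRing (Localization.AtPrime y.asIdeal) := by
    intro y
    letI : Algebra T ((Spec (CommRingCat.of T)).presheaf.stalk y) :=
      StructureSheaf.stalkAlgebra T y
    haveI : IsLocalization.AtPrime ((Spec (CommRingCat.of T)).presheaf.stalk y) y.asIdeal :=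
      StructureSheaf.IsLocalization.to_stalk T y
    exact isRegularLocalRing_congr
      (IsLocalization.algEquiv y.asIdeal.primeCompl ((Spec (CommRingCat.of T)).presheaf.stalk y)
        (Localization.AtPrime y.asIdeal)).toRingEquiv
  exact key y

/-- Along an open immersion the regular set pulls back to the regular set. -/
theorem preimage_regSet_of_isOpenImmersion {V Y : Scheme.{u}} (j : V ⟶ Y) [IsOpenImmersion j] :
    j ⁻¹' regSet Y = regSet V := by
  ext v
  exact isRegularLocalRing_congr (asIso (j.stalkMap v)).commRingCatIsoToRingEquiv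

/-- The regular locus of the ring of sections over an affine open is the preimage of the regular set. -/
theorem regLocus_affineOpen {Y : Scheme.{u}} {V : Y.Opens} (hV : IsAffineOpen V) :
    EGA4.regLocus Γ(Y, V) = hV.fromSpec ⁻¹' regSet Y := by
  rw [preimage_regSet_of_isOpenImmersion hV.fromSpec]
  exact (regSet_Spec Γ(Y, V)).symm

theorem isOpen_regLocus_of_isOpen_regSet {Y : Scheme.{u}} {V : Y.Opens} (hV : IsAffineOpen V)
    (h : IsOpen (regSet Y)) : IsOpen (EGA4.regLocus Γ(Y, V)) := by
  rw [regLocus_affineOpen hV]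
  exact h.preimage hV.fromSpec.continuous

theorem isOpen_regSet_of_cover {Y : Scheme.{u}}
    (h : ∀ y : Y, ∃ (V : Y.Opens) (_ : IsAffineOpen V), y ∈ V ∧ IsOpen (EGA4.regLocus Γ(Y, V))) :
    IsOpen (regSet Y) := by
  rw [isOpen_iff_forall_mem_open]
  intro y hy
  obtain ⟨V, hV, hyV, hopen⟩ := h y
  refine ⟨hV.fromSpec '' (EGA4.regLocus Γ(Y, V)), ?_, ?_, ?_⟩
  · rintro _ ⟨p, hp, rfl⟩
    rw [regLocus_affineOpen hV] at hp
    exact hp
  · exact hV.fromSpec.isOpenEmbedding.isOpenMap _ hopen
  · have hy' : y ∈ Set.range hV.fromSpec := by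
      rw [hV.range_fromSpec]; exact hyV
    obtain ⟨p, rfl⟩ := hy'
    refine ⟨p, ?_, rfl⟩
    rw [regLocus_affineOpen hV]
    exact hy

end Groth.Agent.R2.H57.RegLocus
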