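import Groth.Agent.R2.H57AdaptedBasis
import Groth.Agent.Lib.LeadTT7

/-! The trace formula for residues in a finite extension of a complete discretely valued field with
coefficient fields, read through expansions (Tate's residue calculus + adapted basis). -/

set_option autoImplicit false

namespace Groth.Agent.R2.H57.ResTrace

open WithZero HahnSeries Groth.Agent.R2.H57.AdaptedBasis

section Laurent

variable (κ : Type*) [Field κ]

lemma val_sub_C_coeff_zero {g : LaurentSeries κ} (hg : Valued.v g ≤ 1) :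
    Valued.v (g - HahnSeries.C (g.coeff 0)) ≤ exp (-1 : ℤ) := by
  rw [show (-1 : ℤ) = -((1 : ℤ)) by rfl, LaurentSeries.valuation_le_iff_coeff_lt_eq_zero]
  intro n hn
  rw [HahnSeries.coeff_sub]
  by_cases h0 : n = 0
  · subst h0; simp
  · have hneg : n < 0 := by omega
    have h1 : g.coeff n = 0 := by
      have hg' : Valued.v g ≤ exp (-(0 : ℤ)) := by simpa using hg
      exact (LaurentSeries.valuation_le_iff_coeff_lt_eq_zero κ).mp hg' n hneg
    rw [h1, HahnSeries.C_apply, HahnSeries.coeff_single_of_ne h0, sub_zero]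

lemma val_C {c : κ} (hc : c ≠ 0) : Valued.v (HahnSeries.C c : LaurentSeries κ) = 1 := by
  have h1 : Valued.v (HahnSeries.C c : LaurentSeries κ) ≤ 1 := by
    have : Valued.v (HahnSeries.C c : LaurentSeries κ) ≤ exp (-(0 : ℤ)) := by
      rw [LaurentSeries.valuation_le_iff_coeff_lt_eq_zero]
      intro n hn
      rw [HahnSeries.C_apply, HahnSeries.coeff_single_of_ne hn.ne]
    simpa using this
  have h2 : ¬ Valued.v (HahnSeries.C c : LaurentSeries κ) ≤ exp (-(1 : ℤ)) := by
    rw [LaurentSeries.valuation_le_iff_coeff_lt_eq_zero]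
    intro h
    have := h 0 (by norm_num)
    rw [HahnSeries.C_apply, HahnSeries.coeff_single_same] at this
    exact hc this
  rw [not_le] at h2
  apply le_antisymm h1
  by_contra hlt
  rw [not_le, zm0_lt_one_iff] at hlt
  exact absurd h2 (not_lt.mpr hlt)

lemma val_mk_sub_sum (c : ℕ → κ) (N : ℕ) :
    Valued.v (((PowerSeries.mk c : PowerSeries κ) : LaurentSeries κ) -
      ∑ n ∈ Finset.range N, HahnSeries.C (c n) * (HahnSeries.single (1 : ℤ) (1 : κ)) ^ n) ≤
      exp (-(N : ℤ)) := by
  rw [LaurentSeries.valuation_le_iff_coeff_lt_eq_zero]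
  intro m hm
  rw [HahnSeries.coeff_sub, PowerSeries.coeff_coe]
  have hterm : ∀ n : ℕ, (HahnSeries.C (c n) * (HahnSeries.single (1 : ℤ) (1 : κ)) ^ n :
      LaurentSeries κ) = HahnSeries.single (n : ℤ) (c n) := by
    intro n
    rw [HahnSeries.single_pow, one_pow, HahnSeries.C_apply, HahnSeries.single_mul_single]
    simp
  have hsum : (∑ n ∈ Finset.range N, HahnSeries.C (c n) *
      (HahnSeries.single (1 : ℤ) (1 : κ)) ^ n : LaurentSeries κ).coeff m =
      ∑ n ∈ Finset.range N, if m = (n : ℤ) then c n else 0 := by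
    rw [HahnSeries.coeff_sum]
    refine Finset.sum_congr rfl fun n _ => ?_
    rw [hterm, HahnSeries.coeff_single]
    split_ifs <;> rfl
  rw [hsum]
  by_cases hneg : m < 0
  · rw [if_pos hneg, zero_sub, neg_eq_zero]
    apply Finset.sum_eq_zero
    intro n _
    rw [if_neg]; omega
  · rw [if_neg hneg]
    have hmN : m.natAbs < N := by omega
    rw [Finset.sum_eq_single m.natAbs]
    · rw [if_pos (by omega)]; simp
    · intro n _ hne
      rw [if_neg]; omega
    · intro h; exact absurd (Finset.mem_range.mpr hmN) h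

end Laurent

section Equiv

variable {F : Type*} [Field F]

/-- two equivalent `ℤ`-valued valuations, the first normalised: the second is a power of the first. -/
lemma exists_pow_of_isEquiv {v v' : Valuation F ZM0} (h : v.IsEquiv v') {t : F}
    (vt : v t = exp (-1 : ℤ)) : ∃ e : ℕ, 0 < e ∧ ∀ a, v' a = v a ^ e := by
  have ht0 : t ≠ 0 := by
    rintro rfl; rw [map_zero] at vt; exact exp_ne_zero vt.symm
  have hv't0 : v' t ≠ 0 := (Valuation.ne_zero_iff v').mpr ht0
  have hv't1 : v' t < 1 := h.lt_one_iff_lt_one.mp (by rw [vt, ← exp_zero, exp_lt_exp]; norm_num)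
  obtain ⟨a', ha'⟩ : ∃ a' : ℤ, v' t = exp a' := ⟨log (v' t), (exp_log hv't0).symm⟩
  have ha'0 : a' < 0 := by rwa [ha', ← exp_zero, exp_lt_exp] at hv't1
  refine ⟨(-a').toNat, by omega, fun a => ?_⟩
  by_cases ha : a = 0
  · subst ha; rw [map_zero, map_zero, zero_pow (by omega)]
  have hva0 : v a ≠ 0 := (Valuation.ne_zero_iff v).mpr ha
  obtain ⟨n, hn⟩ : ∃ n : ℤ, v a = exp n := ⟨log (v a), (exp_log hva0).symm⟩
  have hu : v (a * t ^ n) = 1 := by
    rw [map_mul, map_zpow₀, vt, hn, zm0_exp_zpow, ← exp_add, ← exp_zero]; congr 1; ring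
  have hu' : v' (a * t ^ n) = 1 := h.eq_one_iff_eq_one.mp hu
  rw [map_mul, map_zpow₀, ha', zm0_exp_zpow] at hu'
  have : v' a = exp (-(n * a')) := by
    have h2 : v' a * exp (n * a') * exp (-(n * a')) = 1 * exp (-(n * a')) := by rw [hu']
    rw [mul_assoc, ← exp_add, add_neg_cancel, exp_zero, mul_one, one_mul] at h2
    exact h2
  rw [this, hn, zm0_exp_pow]
  congr 1
  rw [Int.toNat_of_nonneg (by omega)]
  ring

end Equiv

section Inst

universe u v

variable {K L : Type u} {F E : Type v} [Field K] [Field L] [Field F] [Field E]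
  [Algebra K F] [Algebra F E] [Algebra K E] [IsScalarTower K F E]
  [Algebra K L] [Algebra L E] [IsScalarTower K L E]
  (v : Valuation F ZM0) (w : Valuation E ZM0) [v.HasExtension w]
  (φ : F →ₐ[K] LaurentSeries K) (hφ : LocRes.IsExpansionAt v φ) (hφs : Function.Surjective φ)
  (ψ : E →ₐ[L] LaurentSeries L) (hψ : LocRes.IsExpansionAt w ψ)

include hφ hφs hψ in
theorem exists_hyp : ∃ (t : F) (π : E) (e : ℕ), Hyp (K := K) (L := L) v w t π e := by
  obtain ⟨hφv, -, -⟩ := hφ
  obtain ⟨hψv, -, π, hπ⟩ := hψ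
  obtain ⟨t, ht⟩ := hφs (HahnSeries.single (1 : ℤ) (1 : K))
  have vt : v t = exp (-1 : ℤ) := by
    rw [← hφv, ht, LaurentSeries.valuation_single_zpow]
  have hequiv : v.IsEquiv (w.comap (algebraMap F E)) := Valuation.HasExtension.val_isEquiv_comap
  obtain ⟨e, he, hwv⟩ := exists_pow_of_isEquiv hequiv vt
  have hφK : ∀ c : K, φ (algebraMap K F c) = HahnSeries.C c := fun c => by
    rw [LocRes.map_algebraMap]; rfl
  have hψL : ∀ l : L, ψ (algebraMap L E l) = HahnSeries.C l := fun l => by
    rw [LocRes.map_algebraMap]; rfl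
  refine ⟨t, π, e, ⟨he, vt, hπ, hwv, ?_, ?_, ?_, ?_, ?_, ?_⟩⟩
  · intro a ha
    refine ⟨(φ a).coeff 0, ?_⟩
    rw [← hφv, map_sub, hφK, zm0_lt_one_iff]
    exact val_sub_C_coeff_zero K (by rw [hφv]; exact ha)
  · intro c hc
    rw [← hφv, hφK, val_C K hc]
  · intro z hz
    refine ⟨(ψ z).coeff 0, ?_⟩
    rw [← hψv, map_sub, hψL, zm0_lt_one_iff]
    exact val_sub_C_coeff_zero L (by rw [hψv]; exact hz)
  · intro l hl
    rw [← hψv, hψL, val_C L hl]
  · intro c
    rw [← IsScalarTower.algebraMap_apply K F E, ← IsScalarTower.algebraMap_apply K L E]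
  · intro c
    obtain ⟨a, ha⟩ := hφs ((PowerSeries.mk c : PowerSeries K) : LaurentSeries K)
    refine ⟨a, fun N => ?_⟩
    rw [← hφv, map_sub, ha, map_sum]
    have : ∑ n ∈ Finset.range N, φ (algebraMap K F (c n) * t ^ n) =
        ∑ n ∈ Finset.range N, HahnSeries.C (c n) * (HahnSeries.single (1 : ℤ) (1 : K)) ^ n := by
      refine Finset.sum_congr rfl fun n _ => ?_
      rw [map_mul, map_pow, hφK, ht]
    rw [this]
    exact val_mk_sub_sum K c N

end Inst

section Trace

open Groth.Agent.Lib.LeadTR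

universe u v

variable {K L : Type u} {F E : Type v} [Field K] [Field L] [Field F] [Field E]
  [Algebra K F] [Algebra F E] [Algebra K E] [IsScalarTower K F E]
  [Algebra K L] [Algebra L E] [IsScalarTower K L E] [FiniteDimensional K L]
  (v : Valuation F ZM0) (w : Valuation E ZM0) [v.HasExtension w]
  (φ : F →ₐ[K] LaurentSeries K) (hφ : LocRes.IsExpansionAt v φ) (hφs : Function.Surjective φ)
  (ψ : E →ₐ[L] LaurentSeries L) (hψ : LocRes.IsExpansionAt w ψ)

include hφ hφs hψ in
/-- the trace formula for residues, complete case. -/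
theorem trace_resExp_eq (x : F) (y : E) :
    Algebra.trace K L (LocRes.resExp ψ y (algebraMap F E x)) =
      LocRes.resExp φ (Algebra.trace F E y) x := by
  classical
  obtain ⟨t, π, e, H⟩ := exists_hyp v w φ hφ hφs ψ hψ
  obtain ⟨b, hb⟩ := exists_adapted_basis H (Module.finBasis K L)
  have hKL : ∀ c : K, algebraMap K (LaurentSeries L) c = HahnSeries.C (algebraMap K L c) :=
    fun c => LocRes.map_algebraMap (AlgHom.id K (LaurentSeries L)) c
  let ψK : E →ₐ[K] LaurentSeries L :=
    { ψ.toRingHom with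
      commutes' := fun c => by
        show ψ (algebraMap K E c) = _
        rw [IsScalarTower.algebraMap_apply K L E, LocRes.map_algebraMap, hKL]
        rfl }
  have hψK : LocRes.IsExpansionAt w ψK := hψ
  set A : Submodule K F := OExp φ with hA
  set A' : Submodule K E := OExp ψK with hA'def
  have hA' : ∀ z, z ∈ A' ↔ ∀ i, b.repr z i ∈ A := by
    intro z
    rw [hA'def, mem_OExp hψK, hb]
    simp only [hA, mem_OExp hφ]
  obtain ⟨C, hC⟩ := Submodule.exists_isCompl A
  set πA : Module.End K F := A.projection C hC with hπAdef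
  have hπA : LinearMap.IsProj A πA :=
    ⟨fun x => Submodule.projection_apply_mem hC x,
      fun x hx => Submodule.projection_apply_of_mem_left hC hx⟩
  obtain ⟨hπ', hres⟩ := resP_trace (k := K) b A A' hA' (fun a => inE_mulLeft φ a) hπA y x
  have h1 := resP_mul_eq_locRes ψK hψK y (algebraMap F E x) hπ'
  have h2 := resP_mul_eq_locRes φ hφ (Algebra.trace F E y) x hπA
  rw [h1, h2] at hres
  simp only [LocRes.locRes] at hres
  rw [Algebra.trace_self_apply] at hres
  exact hres

end Trace

end Groth.Agent.R2.H57.ResTrace
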