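import Groth.Agent.R2.H57AllFinite
import Groth.Agent.S12594

/-! Splitting fields of places: if `P` is nonsingular with respect to `k'` and the minimal polynomials
of the residues at `P` split in `k'`, then every place above `P` in `k' ⊗ K` has degree one. -/

set_option autoImplicit false

namespace Groth.Agent.R2.H57.Split

open FunFld WithZero TensorProduct Polynomial
open Groth.Agent.Lib Groth.Agent.R2.H57.ConstExt Groth.Agent.R2.H57.ConstExtTower

universe u v

section Deg

variable {k' : Type u} {K' : Type v} [Field k'] [Field K'] [Algebra k' K']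

/-- a place all of whose integral elements are congruent to constants has degree one. -/
theorem deg_eq_one_of_const_approx (Q : Place k' K')
    (h : ∀ w : K', Q.1 w ≤ 1 → ∃ c : k', Q.1 (w - algebraMap k' K' c) < 1) : Q.deg = 1 := by
  unfold Place.deg
  rw [finrank_eq_one_iff_of_nonzero' (1 : IsLocalRing.ResidueField Q.O) one_ne_zero]
  intro x
  obtain ⟨wO, rfl⟩ := IsLocalRing.residue_surjective x
  obtain ⟨c, hc⟩ := h (wO : K') wO.2
  refine ⟨c, ?_⟩
  show IsLocalRing.residue Q.O (c • (1 : Q.O)) = IsLocalRing.residue Q.O wO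
  rw [Algebra.smul_def, mul_one]
  symm
  rw [← sub_eq_zero, ← map_sub, LeadFF.residue_eq_zero_iff]
  exact hc

end Deg

section Local

variable {k k' : Type u} {K K' : Type v} [Field k] [Field k'] [Field K] [Field K']
  [Algebra k k'] [FiniteDimensional k k'] [Algebra k K] [Algebra K K'] [Algebra k' K']
  [Algebra k K'] [IsScalarTower k k' K'] [IsScalarTower k K K']

theorem exists_const_approx
    (h : Function.Bijective (Algebra.TensorProduct.productMap
      (IsScalarTower.toAlgHom k k' K') (IsScalarTower.toAlgHom k K K')))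
    (hK : IsFunctionField k K) (P : Place k K)
    (hns : integralClosure (P.O.toSubring.map (algebraMap K K')) K' =
      Algebra.adjoin (P.O.toSubring.map (algebraMap K K')) (Set.range (algebraMap k' K')))
    (hsplit : ∀ u : K, P.1 u ≤ 1 → ∃ m : k[X], m.Monic ∧
      P.1 (Polynomial.eval₂ (algebraMap k K) u m) < 1 ∧ (m.map (algebraMap k k')).Splits)
    (Q : Place k K') (hQ : IsOver Q P) (w : K') (hw : Q.1 w ≤ 1) :
    ∃ c : k', Q.1 (w - algebraMap k' K' c) < 1 := by
  classical
  haveI : FiniteDimensional K K' := LeadCE.finiteDimensional_of_surjective h.2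
  obtain ⟨e, he⟩ := hQ
  have he0 : 0 < e := LeadFF.isOverWith_pos he
  have hk'Q : ∀ c : k', Q.1 (algebraMap k' K' c) ≤ 1 := by
    intro c
    have hc : IsIntegral k (algebraMap k' K' c) :=
      (Algebra.IsIntegral.isIntegral (R := k) c).algebraMap
    exact LeadFG.val_le_one_of_isIntegral (LeadFG.place_trivOn Q) hc
  -- elements of `O_P`
  have hbase : ∀ u : K, P.1 u ≤ 1 → ∃ c : k', Q.1 (algebraMap K K' u - algebraMap k' K' c) < 1 := by
    intro u hu
    obtain ⟨m, hmon, hres, hsp⟩ := hsplit u hu
    have hs := hsp.map (algebraMap k' K')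
    have hmon' : ((m.map (algebraMap k k')).map (algebraMap k' K')).Monic := (hmon.map _).map _
    have heval := hs.eval_eq_prod_roots_of_monic hmon' (algebraMap K K' u)
    rw [hsp.roots_map, Multiset.map_map] at heval
    have hlhs : Polynomial.eval (algebraMap K K' u)
        ((m.map (algebraMap k k')).map (algebraMap k' K')) =
        algebraMap K K' (Polynomial.eval₂ (algebraMap k K) u m) := by
      rw [Polynomial.map_map, Polynomial.eval_map, ← IsScalarTower.algebraMap_eq k k' K',
        IsScalarTower.algebraMap_eq k K K', ← Polynomial.hom_eval₂]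
    rw [hlhs] at heval
    have hlt : Q.1 (algebraMap K K' (Polynomial.eval₂ (algebraMap k K) u m)) < 1 := by
      rw [he]; exact pow_lt_one' hres he0.ne'
    rw [heval, map_multiset_prod, Multiset.map_map] at hlt
    by_contra hcon
    push Not at hcon
    have : (1 : LeadFG.ZM0) ≤ (Multiset.map (Q.1 ∘ ((fun x => algebraMap K K' u - x) ∘
        (algebraMap k' K'))) (m.map (algebraMap k k')).roots).prod := by
      apply Multiset.one_le_prod_of_one_le
      intro x hx
      obtain ⟨c, -, rfl⟩ := Multiset.mem_map.mp hx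
      exact hcon c
    exact absurd hlt (not_lt.mpr this)
  -- elements of `O_P[k']`
  have hadj : ∀ r ∈ Algebra.adjoin (P.O.toSubring.map (algebraMap K K'))
      (Set.range (algebraMap k' K')), Q.1 r ≤ 1 ∧ ∃ c : k', Q.1 (r - algebraMap k' K' c) < 1 := by
    intro r hr
    induction hr using Algebra.adjoin_induction with
    | mem x hx =>
      obtain ⟨c, rfl⟩ := hx
      exact ⟨hk'Q c, c, by rw [sub_self, map_zero]; exact zero_lt_one⟩
    | algebraMap r =>
      obtain ⟨r, a, ha, rfl⟩ := r
      refine ⟨?_, hbase a ha⟩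
      show Q.1 (algebraMap K K' a) ≤ 1
      rw [he]; exact pow_le_one' ha e
    | add x y _ _ hx hy =>
      obtain ⟨hx1, c, hc⟩ := hx
      obtain ⟨hy1, d, hd⟩ := hy
      refine ⟨(Q.1.map_add x y).trans (max_le hx1 hy1), c + d, ?_⟩
      have : x + y - algebraMap k' K' (c + d) =
          (x - algebraMap k' K' c) + (y - algebraMap k' K' d) := by rw [map_add]; ring
      rw [this]
      exact lt_of_le_of_lt (Q.1.map_add _ _) (max_lt hc hd)
    | mul x y _ _ hx hy =>
      obtain ⟨hx1, c, hc⟩ := hx
      obtain ⟨hy1, d, hd⟩ := hy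
      refine ⟨by rw [map_mul]; exact mul_le_one' hx1 hy1, c * d, ?_⟩
      have : x * y - algebraMap k' K' (c * d) =
          x * (y - algebraMap k' K' d) + algebraMap k' K' d * (x - algebraMap k' K' c) := by
        rw [map_mul]; ring
      rw [this]
      refine lt_of_le_of_lt (Q.1.map_add _ _) (max_lt ?_ ?_)
      · rw [map_mul]
        calc Q.1 x * Q.1 (y - algebraMap k' K' d) ≤ 1 * Q.1 (y - algebraMap k' K' d) :=
              mul_le_mul' hx1 le_rfl
          _ < 1 := by rw [one_mul]; exact hd
      · rw [map_mul]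
        calc Q.1 (algebraMap k' K' d) * Q.1 (x - algebraMap k' K' c)
            ≤ 1 * Q.1 (x - algebraMap k' K' c) := mul_le_mul' (hk'Q d) le_rfl
          _ < 1 := by rw [one_mul]; exact hc
  -- approximate `w` by an element integral over `O_P`
  have hfin' := LeadFF.finite_over (K' := K') hK P
  obtain ⟨r, hr⟩ := LeadFG.weak_approx hfin'.toFinset
    (fun Q' => if Q' = Q then w else 0) (fun Q' => if Q' = Q then (-1 : ℤ) else 0)
  have hrQ : Q.1 (r - w) < 1 := by
    have := hr Q (hfin'.mem_toFinset.mpr ⟨e, he⟩)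
    simp only [if_true] at this
    rw [this, ← exp_zero, exp_lt_exp]; norm_num
  have hrint : IsIntegral (P.O.toSubring.map (algebraMap K K')) r := by
    apply isIntegral_map_of_forall_over hK P
    intro Q' hQ'
    by_cases hQQ : Q' = Q
    · subst hQQ
      have : r = (r - w) + w := by ring
      rw [this]
      exact (Q'.1.map_add _ _).trans (max_le hrQ.le hw)
    · have := hr Q' (hfin'.mem_toFinset.mpr hQ')
      simp only [if_neg hQQ, sub_zero, exp_zero] at this
      exact this.le
  have hrmem : r ∈ Algebra.adjoin (P.O.toSubring.map (algebraMap K K'))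
      (Set.range (algebraMap k' K')) := by rw [← hns]; exact hrint
  obtain ⟨-, c, hc⟩ := hadj r hrmem
  refine ⟨c, ?_⟩
  have : w - algebraMap k' K' c = (r - algebraMap k' K' c) - (r - w) := by ring
  rw [this]
  exact lt_of_le_of_lt (Q.1.map_sub _ _) (max_lt hc hrQ)

end Local

section Assemble

open Groth.Agent.Lib.Helper7.FunFldConst Groth.Agent.R2.H57.UnifCond

variable {k k₁ k' : Type u} {K K₁ : Type v} [Field k] [Field k₁] [Field k'] [Field K] [Field K₁]
  [Algebra k k₁] [FiniteDimensional k k₁] [Algebra k₁ k'] [Algebra k k'] [IsScalarTower k k₁ k']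
  [FiniteDimensional k₁ k']
  [Algebra k K] [Algebra K K₁] [Algebra k₁ K₁] [Algebra k K₁] [IsScalarTower k k₁ K₁]
  [IsScalarTower k K K₁]

theorem deg_eq_one_of_split (hK : IsFunctionField k K) (hg : IsGeometric k K) (P : Place k K)
    (h₁ : Function.Bijective (Algebra.TensorProduct.productMap
      (IsScalarTower.toAlgHom k k₁ K₁) (IsScalarTower.toAlgHom k K K₁)))
    (hns : ∀ (Q : Place k₁ K₁) (k'' : Type u) [Field k''] [Algebra k₁ k'']
      [FiniteDimensional k₁ k'']
      (K'' : Type v) [Field K''] [Algebra K₁ K''] [Algebra k'' K''] [Algebra k₁ K'']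
      [IsScalarTower k₁ k'' K''] [IsScalarTower k₁ K₁ K''],
      Function.Bijective (Algebra.TensorProduct.productMap
        (IsScalarTower.toAlgHom k₁ k'' K'') (IsScalarTower.toAlgHom k₁ K₁ K'')) →
      integralClosure (Q.O.toSubring.map (algebraMap K₁ K'')) K'' =
        Algebra.adjoin (Q.O.toSubring.map (algebraMap K₁ K'')) (Set.range (algebraMap k'' K'')))
    (hsp : ∀ P₁ : Place k₁ K₁, IsOver (down (k := k) P₁) P → ∀ u : K₁, P₁.1 u ≤ 1 →
      ∃ m : Polynomial k₁, m.Monic ∧ P₁.1 (Polynomial.eval₂ (algebraMap k₁ K₁) u m) < 1 ∧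
        (m.map (algebraMap k₁ k')).Splits)
    (K' : Type v) [Field K'] [Algebra K K'] [Algebra k' K'] [Algebra k K']
    [IsScalarTower k k' K'] [IsScalarTower k K K']
    (h : Function.Bijective (Algebra.TensorProduct.productMap
      (IsScalarTower.toAlgHom k k' K') (IsScalarTower.toAlgHom k K K')))
    (Q : Place k' K') (hQ : P.1.HasExtension Q.1) : Q.deg = 1 := by
  classical
  have hK₁ : IsFunctionField k₁ K₁ := isFunctionField_constExt h₁ hK hg
  have hg₁ : IsGeometric k₁ K₁ := isGeometric_constExt h₁ hg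
  haveI : FiniteDimensional K K₁ := LeadCE.finiteDimensional_of_surjective h₁.2
  haveI : FiniteDimensional k k' := Module.Finite.trans k₁ k'
  -- structure of `K'` over `k₁`, `K₁`
  letI a1 : Algebra k₁ K' := ((algebraMap k' K').comp (algebraMap k₁ k')).toAlgebra
  haveI t1 : IsScalarTower k₁ k' K' := IsScalarTower.of_algebraMap_eq (fun _ => rfl)
  haveI t2 : IsScalarTower k k₁ K' := IsScalarTower.of_algebraMap_eq (fun c => by
    show algebraMap k K' c = algebraMap k' K' (algebraMap k₁ k' (algebraMap k k₁ c))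
    rw [← IsScalarTower.algebraMap_apply k k₁ k', ← IsScalarTower.algebraMap_apply k k' K'])
  let e₁ : (k₁ ⊗[k] K) ≃ₐ[k] K₁ := AlgEquiv.ofBijective _ h₁
  let φ : K₁ →ₐ[k] K' := (Algebra.TensorProduct.productMap
      (IsScalarTower.toAlgHom k k₁ K') (IsScalarTower.toAlgHom k K K')).comp e₁.symm.toAlgHom
  letI a2 : Algebra K₁ K' := φ.toRingHom.toAlgebra
  have hφk : ∀ c : k₁, φ (algebraMap k₁ K₁ c) = algebraMap k₁ K' c := by
    intro c
    have : algebraMap k₁ K₁ c = e₁ (c ⊗ₜ[k] (1 : K)) := by simp [e₁]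
    rw [this]
    simp [φ]
  have hφK : ∀ a : K, φ (algebraMap K K₁ a) = algebraMap K K' a := by
    intro a
    have : algebraMap K K₁ a = e₁ ((1 : k₁) ⊗ₜ[k] a) := by simp [e₁]
    rw [this]
    simp [φ]
  haveI t3 : IsScalarTower k₁ K₁ K' := IsScalarTower.of_algebraMap_eq (fun c => (hφk c).symm)
  haveI t4 : IsScalarTower K K₁ K' := IsScalarTower.of_algebraMap_eq (fun a => (hφK a).symm)
  -- `K'` is a model of `k' ⊗_{k₁} K₁`
  have h₂ : Function.Bijective (Algebra.TensorProduct.productMap
      (IsScalarTower.toAlgHom k₁ k' K') (IsScalarTower.toAlgHom k₁ K₁ K')) := by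
    constructor
    · letI : Field (k' ⊗[k₁] K₁) := (hg₁ k' inferInstance).toField
      exact RingHom.injective ((Algebra.TensorProduct.productMap
        (IsScalarTower.toAlgHom k₁ k' K') (IsScalarTower.toAlgHom k₁ K₁ K')) :
          k' ⊗[k₁] K₁ →+* K')
    · set f := Algebra.TensorProduct.productMap
        (IsScalarTower.toAlgHom k₁ k' K') (IsScalarTower.toAlgHom k₁ K₁ K') with hf
      intro z
      have hz := LeadCE.mem_adjoin_range h.2 z
      show z ∈ f.range
      induction hz using Algebra.adjoin_induction with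
      | mem x hx => obtain ⟨c, rfl⟩ := hx; exact ⟨c ⊗ₜ 1, by simp [hf]⟩
      | algebraMap a =>
        refine ⟨1 ⊗ₜ algebraMap K K₁ a, ?_⟩
        show f (1 ⊗ₜ[k₁] algebraMap K K₁ a) = _
        rw [hf, Algebra.TensorProduct.productMap_apply_tmul, map_one, one_mul,
          IsScalarTower.coe_toAlgHom']
        exact (IsScalarTower.algebraMap_apply K K₁ K' a).symm
      | add x y _ _ hx hy => exact f.range.add_mem hx hy
      | mul x y _ _ hx hy => exact f.range.mul_mem hx hy
  haveI : FiniteDimensional K₁ K' := LeadCE.finiteDimensional_of_surjective h₂.2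
  -- the place below
  set Q₁ : Place k₁ K' := down (k := k₁) Q with hQ₁
  obtain ⟨P₁, e, he0, he⟩ := LeadFF.exists_below hK₁ Q₁
  obtain ⟨P', e', he'0, he'⟩ := LeadFF.exists_below hK (down (k := k) P₁)
  have hPP' : P = P' := by
    apply LeadFF.place_eq_of_le
    intro x hx
    have h1 : Q.1 (algebraMap K K' x) ≤ 1 :=
      (Valuation.HasExtension.val_map_le_one_iff P.1 Q.1 x).mpr hx
    rw [IsScalarTower.algebraMap_apply K K₁ K'] at h1
    have h2 : Q₁.1 (algebraMap K₁ K' (algebraMap K K₁ x)) = P₁.1 (algebraMap K K₁ x) ^ e := he _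
    have h3 : P₁.1 (algebraMap K K₁ x) = P'.1 x ^ e' := he' x
    have h4 : Q.1 (algebraMap K₁ K' (algebraMap K K₁ x)) = (P'.1 x ^ e') ^ e := by
      rw [← h3, ← h2]; rfl
    rw [h4] at h1
    exact (pow_le_one_iff he'0.ne').mp ((pow_le_one_iff he0.ne').mp h1)
  subst hPP'
  have hover : IsOver (down (k := k) P₁) P := ⟨e', he'⟩
  have hNS := hns P₁ k' K' h₂
  apply deg_eq_one_of_const_approx
  intro w hw
  exact exists_const_approx h₂ hK₁ P₁ hNS (hsp P₁ hover) Q₁ ⟨e, he⟩ w hw

end Assemble

section Normal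

variable {k₁ : Type u} [Field k₁] {ι : Type*} (F : ι → Type v) [∀ i, Field (F i)]
  [∀ i, Algebra k₁ (F i)] [∀ i, Algebra.IsAlgebraic k₁ (F i)]
  (Ω : Type u) [Field Ω] [Algebra k₁ Ω] [IsAlgClosure k₁ Ω]

/-- minimal polynomials of elements of the `F i` split in the compositum of their normal closures. -/
lemma splits_in_iSup (i : ι) (a : F i) :
    ((minpoly k₁ a).map (algebraMap k₁
      ↥(⨆ j, IntermediateField.normalClosure k₁ (F j) Ω))).Splits := by
  haveI : IsAlgClosed Ω := IsAlgClosure.isAlgClosed k₁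
  haveI : Normal k₁ Ω := IsAlgClosure.normal k₁ Ω
  let f₀ : F i →ₐ[k₁] Ω := IsAlgClosed.lift
  have hmem : f₀ a ∈ IntermediateField.normalClosure k₁ (F i) Ω :=
    AlgHom.fieldRange_le_normalClosure f₀ ⟨a, rfl⟩
  let x : IntermediateField.normalClosure k₁ (F i) Ω := ⟨f₀ a, hmem⟩
  have hmin : minpoly k₁ x = minpoly k₁ a := by
    have h1 : minpoly k₁ x = minpoly k₁ (f₀ a) :=
      (minpoly.algebraMap_eq (algebraMap (IntermediateField.normalClosure k₁ (F i) Ω) Ω).injective
        x).symm
    rw [h1, minpoly.algHom_eq f₀ f₀.injective]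
  have hs : ((minpoly k₁ x).map
      (algebraMap k₁ (IntermediateField.normalClosure k₁ (F i) Ω))).Splits :=
    Normal.splits inferInstance x
  have hle : IntermediateField.normalClosure k₁ (F i) Ω ≤
      ⨆ j, IntermediateField.normalClosure k₁ (F j) Ω :=
    le_iSup (fun j => IntermediateField.normalClosure k₁ (F j) Ω) i
  have := hs.map (IntermediateField.inclusion hle).toRingHom
  rw [Polynomial.map_map, hmin] at this
  convert this using 2
  ext c
  rfl

end Normal

section Main

attribute [-instance] IsLocalRing.instModuleResidueFieldOfAlgebra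

open Groth.Agent.Lib.Helper7.FunFldConst Groth.Agent.R2.H57.UnifCond

variable {k : Type u} {K : Type v} [Field k] [Field K] [Algebra k K]

theorem exists_splitting_field (hK : IsFunctionField k K) (hg : IsGeometric k K)
    (P : Place k K) :
    ∃ (k' : Type u) (_ : Field k') (_ : Algebra k k'), FiniteDimensional k k' ∧
      ∀ (K' : Type v) [Field K'] [Algebra K K'] [Algebra k' K'] [Algebra k K']
        [IsScalarTower k k' K'] [IsScalarTower k K K'],
        Function.Bijective (Algebra.TensorProduct.productMap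
          (IsScalarTower.toAlgHom k k' K') (IsScalarTower.toAlgHom k K K')) →
        ∀ Q : Place k' K', P.1.HasExtension Q.1 → Q.deg = 1 := by
  classical
  obtain ⟨k₁, _, _, hfin₁, hpi₁, hns⟩ := Groth.Agent.S12594.result k K hK hg
  haveI := hfin₁
  obtain ⟨K₁, _, _, _, _, _, _, h₁⟩ := Model.exists_model hg k₁
  have hK₁ : IsFunctionField k₁ K₁ := isFunctionField_constExt h₁ hK hg
  haveI : FiniteDimensional K K₁ := LeadCE.finiteDimensional_of_surjective h₁.2
  have hfinP := LeadFF.finite_over (K' := K₁) hK P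
  haveI : Finite {P₀ : Place k K₁ // IsOver P₀ P} := hfinP.to_subtype
  haveI hFfin : ∀ i : {P₀ : Place k K₁ // IsOver P₀ P},
      FiniteDimensional k₁ (IsLocalRing.ResidueField (SepNS.up (k' := k₁) i.1).O) :=
    fun i => LeadFF.residueField_finite hK₁ _
  let Ω := AlgebraicClosure k₁
  let k'I : IntermediateField k₁ Ω := ⨆ i : {P₀ : Place k K₁ // IsOver P₀ P},
    IntermediateField.normalClosure k₁
      (IsLocalRing.ResidueField (SepNS.up (k' := k₁) i.1).O) Ω
  haveI : FiniteDimensional k₁ k'I := IntermediateField.finiteDimensional_iSup_of_finite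
  haveI : IsScalarTower k k₁ k'I := inferInstance
  refine ⟨k'I, inferInstance, inferInstance, Module.Finite.trans k₁ k'I, ?_⟩
  intro K' _ _ _ _ _ _ h Q hQ
  refine deg_eq_one_of_split (k₁ := k₁) (K₁ := K₁) hK hg P h₁
    (fun Q₁ k'' _ _ _ K'' _ _ _ _ _ _ h'' => hns K₁ h₁ Q₁ k'' K'' h'') ?_ K' h Q hQ
  intro P₁ hover u hu
  let i : {P₀ : Place k K₁ // IsOver P₀ P} := ⟨down (k := k) P₁, hover⟩
  let uO : (SepNS.up (k' := k₁) i.1).O := ⟨u, hu⟩
  set a := IsLocalRing.residue (SepNS.up (k' := k₁) i.1).O uO with ha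
  set m := minpoly k₁ a with hm
  have hmon : m.Monic := minpoly.monic (Algebra.IsIntegral.isIntegral a)
  refine ⟨m, hmon, ?_, ?_⟩
  · have hres : IsLocalRing.residue (SepNS.up (k' := k₁) i.1).O
        (Polynomial.eval₂ (algebraMap k₁ (SepNS.up (k' := k₁) i.1).O) uO m) = 0 := by
      rw [Polynomial.hom_eval₂]
      exact minpoly.aeval k₁ a
    rw [LeadFF.residue_eq_zero_iff] at hres
    have hcoe : ((Polynomial.eval₂ (algebraMap k₁ (SepNS.up (k' := k₁) i.1).O) uO m :
        (SepNS.up (k' := k₁) i.1).O) : K₁) = Polynomial.eval₂ (algebraMap k₁ K₁) u m :=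
      Polynomial.hom_eval₂ m (algebraMap k₁ (SepNS.up (k' := k₁) i.1).O)
        (SepNS.up (k' := k₁) i.1).O.subtype uO
    rw [hcoe] at hres
    exact hres
  · exact splits_in_iSup
      (fun i : {P₀ : Place k K₁ // IsOver P₀ P} =>
        IsLocalRing.ResidueField (SepNS.up (k' := k₁) i.1).O) Ω i a

end Main

end Groth.Agent.R2.H57.Split
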