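import Groth.Agent.R2.H57Defect

/-! If the integral closure of `O_P` in `K''` is generated over `k''` by the integral closure of `O_P`
in `K'`, then every place of `K'` above `P` is nonsingular with respect to `k''`. -/

set_option autoImplicit false

namespace Groth.Agent.R2.H57.Stable

open FunFld WithZero TensorProduct
open Groth.Agent.Lib Groth.Agent.R2.H57.ConstExt Groth.Agent.R2.H57.ConstExtTower
open Groth.Agent.R2.H57.Defect

universe u v

section

variable {k k' k'' : Type u} {K K' K'' : Type v} [Field k] [Field k'] [Field k''] [Field K]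
  [Field K'] [Field K'']
  [Algebra k k'] [Algebra k' k''] [Algebra k k''] [IsScalarTower k k' k'']
  [FiniteDimensional k k'] [FiniteDimensional k' k'']
  [Algebra k K] [Algebra K K'] [Algebra k' K'] [Algebra k K'] [IsScalarTower k k' K']
  [IsScalarTower k K K']
  [Algebra K' K''] [Algebra k'' K''] [Algebra k' K''] [Algebra k K''] [Algebra K K'']
  [IsScalarTower k' k'' K''] [IsScalarTower k' K' K''] [IsScalarTower K K' K'']
  [IsScalarTower k K K'']

theorem nonsingular_over_of_adjoin
    (h1 : Function.Bijective (Algebra.TensorProduct.productMap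
      (IsScalarTower.toAlgHom k k' K') (IsScalarTower.toAlgHom k K K')))
    (h2 : Function.Bijective (Algebra.TensorProduct.productMap
      (IsScalarTower.toAlgHom k' k'' K'') (IsScalarTower.toAlgHom k' K' K'')))
    (hK : FunFld.IsFunctionField k K) (P : FunFld.Place k K)
    (hspan : ∀ w : K'', IsIntegral (P.O.toSubring.map (algebraMap K K'')) w →
      w ∈ Algebra.adjoin
        (((integralClosure (P.O.toSubring.map (algebraMap K K')) K').toSubring).map
          (algebraMap K' K'')) (Set.range (algebraMap k'' K'')))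
    (Q : FunFld.Place k K') (hQ : FunFld.IsOver Q P) :
    integralClosure (Q.O.toSubring.map (algebraMap K' K'')) K'' =
      Algebra.adjoin (Q.O.toSubring.map (algebraMap K' K'')) (Set.range (algebraMap k'' K'')) := by
  classical
  have fin1 : FiniteDimensional K K' := LeadCE.finiteDimensional_of_surjective h1.2
  have fin2 : FiniteDimensional K' K'' := LeadCE.finiteDimensional_of_surjective h2.2
  have fin3 : FiniteDimensional K K'' := Module.Finite.trans K' K''
  have tw : IsScalarTower k K' K'' := IsScalarTower.of_algebraMap_eq (fun c => by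
    rw [IsScalarTower.algebraMap_apply k K K'', IsScalarTower.algebraMap_apply K K' K'',
      ← IsScalarTower.algebraMap_apply k K K'])
  have tw2 : IsScalarTower k k'' K'' := IsScalarTower.of_algebraMap_eq (fun c => by
    rw [IsScalarTower.algebraMap_apply k k' k'', ← IsScalarTower.algebraMap_apply k' k'' K'',
      IsScalarTower.algebraMap_apply k' K' K'', ← IsScalarTower.algebraMap_apply k k' K',
      IsScalarTower.algebraMap_apply k K K', ← IsScalarTower.algebraMap_apply K K' K'',
      ← IsScalarTower.algebraMap_apply k K K''])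
  have : FiniteDimensional k k'' := Module.Finite.trans k' k''
  have hFF' : LeadFG.IsFF k K' := LeadFF.isFF_of_finite hK
  -- every place of `K''` over `P` lies over a place of `K'` over `P`
  have hmid : ∀ Q'' : Place k K'', IsOver Q'' P → ∃ Q : Place k K', IsOver Q P ∧ IsOver Q'' Q := by
    intro Q'' hQ''
    obtain ⟨Q, e', he'0, he'⟩ := exists_below_FF (K := K') hFF' Q''
    obtain ⟨P', e, he0, he⟩ := LeadFF.exists_below hK Q
    obtain ⟨e'', he''⟩ := hQ''
    have := (LeadFF.isOverWith_unique he'' (isOverWith_trans he' he)).1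
    subst this
    exact ⟨Q, ⟨e, he⟩, ⟨e', he'⟩⟩
  refine le_antisymm ?_ (adjoin_le_integralClosure_map (K := K') (K' := K'') (k' := k'') Q)
  intro z hz
  have hz' : IsIntegral (Q.O.toSubring.map (algebraMap K' K'')) z := hz
  -- places over `P`
  have hfin'' := LeadFF.finite_over (K' := K'') hK P
  have hfin' := LeadFF.finite_over (K' := K') hK P
  obtain ⟨N, hN⟩ := LeadFG.zm0_finset_bound hfin''.toFinset (fun Q'' => Q''.1 z)
  -- approximation
  obtain ⟨s, hs⟩ := LeadFG.weak_approx hfin'.toFinset
    (fun Q' => if Q' = Q then (1 : K') else 0) (fun Q' => if Q' = Q then (-1 : ℤ) else -(N : ℤ))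
  have hsQ : Q.1 s = 1 := by
    have := hs Q (hfin'.mem_toFinset.mpr hQ)
    simp only [if_true] at this
    have hlt : Q.1 (s - 1) < Q.1 1 := by
      rw [this, map_one, ← exp_zero, exp_lt_exp]; norm_num
    have := Valuation.map_eq_of_sub_lt Q.1 hlt
    rw [this, map_one]
  have hsQ' : ∀ Q' : Place k K', IsOver Q' P → Q' ≠ Q → Q'.1 s = exp (-(N : ℤ)) := by
    intro Q' hQ' hne
    have := hs Q' (hfin'.mem_toFinset.mpr hQ')
    simpa only [if_neg hne, sub_zero] using this
  have hint : IsIntegral (P.O.toSubring.map (algebraMap K K'')) (algebraMap K' K'' s * z) := by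
    apply isIntegral_map_of_forall_over hK P
    intro Q'' hQ''
    obtain ⟨Q', hQ'P, e', he'⟩ := hmid Q'' hQ''
    have he'0 := LeadFF.isOverWith_pos he'
    rw [map_mul, he']
    by_cases hQQ : Q' = Q
    · subst hQQ
      rw [hsQ, one_pow, one_mul]
      exact val_le_one_of_isIntegral_map ⟨e', he'⟩ hz'
    · rw [hsQ' Q' hQ'P hQQ]
      have h1 : (exp (-(N : ℤ)) : LeadFG.ZM0) ^ e' ≤ exp (-(N : ℤ)) := by
        rw [LeadFG.zm0_exp_pow, exp_le_exp]
        have : (1 : ℤ) ≤ e' := by exact_mod_cast he'0
        nlinarith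
      calc (exp (-(N : ℤ)) : LeadFG.ZM0) ^ e' * Q''.1 z
          ≤ exp (-(N : ℤ)) * exp (N : ℤ) :=
            mul_le_mul' h1 (hN Q'' (hfin''.mem_toFinset.mpr hQ''))
        _ = 1 := by rw [← exp_add]; simp
  -- `s z` lies in the algebra generated by the integral closure downstairs, hence in `O_Q[k'']`
  set W := Algebra.adjoin (Q.O.toSubring.map (algebraMap K' K'')) (Set.range (algebraMap k'' K''))
    with hW
  have hOW : ∀ a : K', Q.1 a ≤ 1 → algebraMap K' K'' a ∈ W := fun a ha =>
    Subalgebra.algebraMap_mem W
      (⟨algebraMap K' K'' a, ⟨a, ha, rfl⟩⟩ : Q.O.toSubring.map (algebraMap K' K''))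
  have hTW : ∀ w ∈ Algebra.adjoin
      (((integralClosure (P.O.toSubring.map (algebraMap K K')) K').toSubring).map
        (algebraMap K' K'')) (Set.range (algebraMap k'' K'')), w ∈ W := by
    intro w hw
    induction hw using Algebra.adjoin_induction with
    | mem x hx => exact Algebra.subset_adjoin hx
    | algebraMap r =>
      obtain ⟨r, v, hv, rfl⟩ := r
      have hv' : IsIntegral (P.O.toSubring.map (algebraMap K K')) v := hv
      exact hOW v (val_le_one_of_isIntegral_map hQ hv')
    | add x y _ _ hx hy => exact W.add_mem hx hy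
    | mul x y _ _ hx hy => exact W.mul_mem hx hy
  have hszW := hTW _ (hspan _ hint)
  have hs0 : s ≠ 0 := by rintro rfl; rw [map_zero] at hsQ; exact zero_ne_one hsQ
  have hsinv : Q.1 s⁻¹ ≤ 1 := by rw [map_inv₀, hsQ, inv_one]
  have hzeq : z = algebraMap K' K'' s⁻¹ * (algebraMap K' K'' s * z) := by
    rw [map_inv₀]
    have : algebraMap K' K'' s ≠ 0 := (_root_.map_ne_zero _).mpr hs0
    field_simp
  rw [hzeq]
  exact W.mul_mem (hOW _ hsinv) hszW

end

end Groth.Agent.R2.H57.Stable
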