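import Mathlib
import Groth.Prelude.Def_Omega3

/-!
# First order infinitesimal neighbourhoods are universal first order thickenings
-/

namespace Groth.Agent.R2.H57.Thickening

open CategoryTheory AlgebraicGeometry

universe u

variable {X : Scheme.{u}}

instance isClosedImmersion_inclusion {I J : X.IdealSheafData} (h : I ≤ J) :
    IsClosedImmersion (Scheme.IdealSheafData.inclusion h) := by
  have : IsClosedImmersion (Scheme.IdealSheafData.inclusion h ≫ I.subschemeι) := by
    rw [Scheme.IdealSheafData.inclusion_subschemeι]; infer_instance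
  exact IsClosedImmersion.of_comp (Scheme.IdealSheafData.inclusion h) I.subschemeι

theorem surjective_inclusion_of_support_eq {I J : X.IdealSheafData} (h : I ≤ J)
    (hs : I.support = J.support) : Surjective (Scheme.IdealSheafData.inclusion h) := by
  constructor
  intro y
  have hy : I.subschemeι y ∈ Set.range J.subschemeι := by
    rw [Scheme.IdealSheafData.range_subschemeι, ← hs, ← Scheme.IdealSheafData.range_subschemeι]
    exact ⟨y, rfl⟩
  obtain ⟨x, hx⟩ := hy
  refine ⟨x, ?_⟩
  apply I.subschemeι.isEmbedding.injective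
  rw [← hx, ← Scheme.IdealSheafData.inclusion_subschemeι h]
  rfl

/-- For a first order thickening-like morphism `j : T ⟶ T'` (kernel of square zero, quasi-compact), two local
sections of `O_{T'}` killed by `j♯` have product zero. -/
theorem mul_eq_zero_of_ker_mul_ker_eq_bot {T T' : Scheme.{u}} (j : T ⟶ T') [QuasiCompact j]
    (hj : j.ker * j.ker = ⊥) (W : T'.Opens) (s t : Γ(T', W))
    (hs : j.app W s = 0) (ht : j.app W t = 0) : s * t = 0 := by
  refine TopCat.Sheaf.eq_of_locally_eq' T'.sheaf
    (fun i : {W' : T'.affineOpens // W'.1 ≤ W} => i.1.1) W (fun i => homOfLE i.2) ?_ _ _ ?_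
  · intro x hx
    obtain ⟨W', hW', hxW', hW'W⟩ :=
      TopologicalSpace.Opens.isBasis_iff_nbhd.mp T'.isBasis_affineOpens hx
    exact TopologicalSpace.Opens.mem_iSup.mpr ⟨⟨⟨W', hW'⟩, hW'W⟩, hxW'⟩
  · rintro ⟨W', hW'W⟩
    have key : ∀ r : Γ(T', W), j.app W r = 0 →
        (T'.presheaf.map (homOfLE hW'W).op).hom r ∈ j.ker.ideal W' := by
      intro r hr
      rw [Scheme.Hom.ker_apply, RingHom.mem_ker]
      have := congr($(j.naturality (homOfLE hW'W).op).hom r)
      simp only [CommRingCat.hom_comp, RingHom.comp_apply] at this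
      rw [this, hr, map_zero]
    have h1 := Ideal.mul_mem_mul (key s hs) (key t ht)
    have h2 : (j.ker * j.ker).ideal W' = j.ker.ideal W' * j.ker.ideal W' := by
      rw [Scheme.IdealSheafData.ideal_mul]; rfl
    rw [← h2, hj] at h1
    simp only [Scheme.IdealSheafData.ideal_bot, Pi.bot_apply, Ideal.mem_bot] at h1
    change (T'.presheaf.map (homOfLE hW'W).op).hom (s * t) =
      (T'.presheaf.map (homOfLE hW'W).op).hom 0
    rw [map_mul, h1, map_zero]

/-- If `I ≤ J` and `J * J ≤ I`, the kernel of the inclusion `V(J) ⟶ V(I)` has square zero. -/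
theorem ker_inclusion_mul_ker_inclusion {I J : X.IdealSheafData} (h : I ≤ J) (hJ : J * J ≤ I) :
    (Scheme.IdealSheafData.inclusion h).ker * (Scheme.IdealSheafData.inclusion h).ker = ⊥ := by
  refine le_antisymm ?_ bot_le
  refine Scheme.IdealSheafData.le_of_iSup_eq_top
    (fun V : X.affineOpens => (⟨I.subschemeι ⁻¹ᵁ V.1, V.2.preimage I.subschemeι⟩ :
      I.subscheme.affineOpens)) ?_ ?_
  · change ⨆ V : X.affineOpens, I.subschemeι ⁻¹ᵁ V.1 = ⊤
    rw [← Scheme.Hom.preimage_iSup, iSup_affineOpens_eq_top]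
    rfl
  · intro V
    have h2 : ((Scheme.IdealSheafData.inclusion h).ker * (Scheme.IdealSheafData.inclusion h).ker).ideal
        ⟨I.subschemeι ⁻¹ᵁ V.1, V.2.preimage I.subschemeι⟩ =
        (Scheme.IdealSheafData.inclusion h).ker.ideal ⟨I.subschemeι ⁻¹ᵁ V.1, V.2.preimage I.subschemeι⟩ *
        (Scheme.IdealSheafData.inclusion h).ker.ideal ⟨I.subschemeι ⁻¹ᵁ V.1, V.2.preimage I.subschemeι⟩ := by
      rw [Scheme.IdealSheafData.ideal_mul]; rfl
    rw [h2, Ideal.mul_le]
    -- elements of the kernel come from `J(V)`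
    have key : ∀ a ∈ (Scheme.IdealSheafData.inclusion h).ker.ideal
        ⟨I.subschemeι ⁻¹ᵁ V.1, V.2.preimage I.subschemeι⟩,
        ∃ x ∈ J.ideal V, (I.subschemeι.app V.1).hom x = a := by
      intro a ha
      rw [Scheme.Hom.ker_apply, RingHom.mem_ker] at ha
      obtain ⟨x, rfl⟩ := I.subschemeι_app_surjective V a
      refine ⟨x, ?_, rfl⟩
      rw [← J.ker_subschemeι_app V, RingHom.mem_ker]
      have e := Scheme.Hom.congr_app (Scheme.IdealSheafData.inclusion_subschemeι h) V.1
      rw [Scheme.Hom.comp_app] at e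
      have e2 := congr($(e).hom x)
      simp only [CommRingCat.hom_comp, RingHom.comp_apply] at e2
      have hinj : ∀ {W₁ W₂ : J.subscheme.Opens} (e : W₁ = W₂),
          Function.Injective (J.subscheme.presheaf.map (eqToHom e).op).hom :=
        fun e => (ConcreteCategory.bijective_of_isIso _).1
      exact hinj _ (by rw [map_zero]; exact e2.symm.trans ha)
    intro a ha b hb
    obtain ⟨x, hx, rfl⟩ := key a ha
    obtain ⟨y, hy, rfl⟩ := key b hb
    rw [← map_mul]
    have hxy : x * y ∈ I.ideal V := by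
      have := hJ V
      rw [Scheme.IdealSheafData.ideal_mul] at this
      exact this (Ideal.mul_mem_mul hx hy)
    rw [← I.ker_subschemeι_app V, RingHom.mem_ker] at hxy
    rw [hxy]
    exact Submodule.zero_mem _

/-- The first order infinitesimal neighbourhood of `Z = V(I) ⊆ U ⊆ X` is a universal first order thickening of
`Z` over `X`. -/
theorem isUnivThickening_firstOrderNbhd (U : X.Opens) (I : (U : Scheme.{u}).IdealSheafData)
    (h : I ^ 2 ≤ I) :
    OmegaSh.IsUnivThickening (I.subschemeι ≫ U.ι) (Scheme.IdealSheafData.inclusion h)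
      ((I ^ 2).subschemeι ≫ U.ι) := by
  refine ⟨⟨⟨inferInstance, surjective_inclusion_of_support_eq h (by simp)⟩,
    ker_inclusion_mul_ker_inclusion h (by rw [sq])⟩, by simp, ?_⟩
  intro T T' j b a hj hjb
  obtain ⟨⟨hjc, hjs⟩, hjk⟩ := hj
  -- `b` lands in `U`
  have hrange : Set.range b ⊆ Set.range U.ι := by
    rintro _ ⟨t', rfl⟩
    obtain ⟨t, rfl⟩ := hjs.surj t'
    have h1 : b (j t) = (j ≫ b) t := rfl
    rw [h1, hjb]
    exact ⟨I.subschemeι (a t), rfl⟩
  have hbU : IsOpenImmersion.lift U.ι b hrange ≫ U.ι = b := IsOpenImmersion.lift_fac _ _ _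
  set bU := IsOpenImmersion.lift U.ι b hrange with hbU_def
  have hjbU : j ≫ bU = a ≫ I.subschemeι := by
    rw [← cancel_mono U.ι, Category.assoc, hbU, hjb, Category.assoc]
  have hker : (I ^ 2).subschemeι.ker ≤ bU.ker := by
    rw [Scheme.IdealSheafData.ker_subschemeι]
    refine Scheme.IdealSheafData.le_ofIdeals_iff.mpr ?_
    intro V
    have h2 : (I ^ 2).ideal V = I.ideal V * I.ideal V := by
      rw [Scheme.IdealSheafData.ideal_pow, sq]; rfl
    rw [h2, Ideal.mul_le]
    intro x hx y hy
    rw [RingHom.mem_ker, map_mul]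
    have key : ∀ z ∈ I.ideal V, (j.app (bU ⁻¹ᵁ V.1)).hom ((bU.app V.1).hom z) = 0 := by
      intro z hz
      rw [← I.ker_subschemeι_app V, RingHom.mem_ker] at hz
      have e := Scheme.Hom.congr_app hjbU V.1
      have e3 : ((a ≫ I.subschemeι).app V.1).hom z = 0 := by
        change (a.app _).hom ((I.subschemeι.app V.1).hom z) = 0
        rw [hz, map_zero]
      change ((j ≫ bU).app V.1).hom z = 0
      rw [e, CommRingCat.hom_comp, RingHom.comp_apply, e3, map_zero]
    exact mul_eq_zero_of_ker_mul_ker_eq_bot j hjk _ _ _ (key x hx) (key y hy)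
  refine ⟨IsClosedImmersion.lift (I ^ 2).subschemeι bU hker, ⟨?_, ?_⟩, ?_⟩
  · rw [← cancel_mono (I ^ 2).subschemeι, Category.assoc, IsClosedImmersion.lift_fac, hjbU,
      Category.assoc, Scheme.IdealSheafData.inclusion_subschemeι]
  · rw [← Category.assoc, IsClosedImmersion.lift_fac, hbU]
  · rintro a'' ⟨-, h2⟩
    rw [← cancel_mono ((I ^ 2).subschemeι ≫ U.ι), h2, ← Category.assoc,
      IsClosedImmersion.lift_fac, hbU]

end Groth.Agent.R2.H57.Thickening
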