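import Groth.Agent.R2.H57ConstExt
import Groth.Agent.R2.H57DiffBound
import Groth.Agent.Lib.LeadFB3
import Groth.Agent.Lib.LeadFF13

/-! Uniform conductor bound for constant field extensions of a function field with a plane model
`K = k(x, y)`, `H(x, y) = 0`, `H` monic in `Y`, `δ = H_Y(x, y) ≠ 0`: for every place `P` with `x, y`
integral at `P`, every finite `k'/k` and every `z ∈ k' ⊗ K` integral over `O_P`: `δ z ∈ O_P[k']`. -/

set_option autoImplicit false

namespace Groth.Agent.R2.H57.UnifCond

open FunFld WithZero TensorProduct Polynomial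
open Groth.Agent.Lib Groth.Agent.R2.H57.ConstExt
open scoped IntermediateField

section Crit

variable {k' K' : Type*} [Field k'] [Field K'] [Algebra k' K']

/-- valuation criterion for integrality over `k'[x']`. -/
theorem isIntegral_adjoin_of_forall_place (hFF : LeadFG.IsFF k' K') (x' : K') {w : K'}
    (hw : ∀ Q' : Place k' K', Q'.1 x' ≤ 1 → Q'.1 w ≤ 1) :
    IsIntegral (Algebra.adjoin k' ({x'} : Set K')) w := by
  by_contra hni
  have hwR : w ∉ (integralClosure (Algebra.adjoin k' ({x'} : Set K')) K').toSubring := hni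
  obtain ⟨V, hRV, hwV⟩ := Subring.exists_le_valuationSubring_of_isIntegrallyClosedIn hwR
  have hAV : ∀ a ∈ Algebra.adjoin k' ({x'} : Set K'), a ∈ V := by
    intro a ha
    apply hRV
    have : a = algebraMap (Algebra.adjoin k' ({x'} : Set K')) K' ⟨a, ha⟩ := rfl
    rw [this]
    exact (integralClosure _ K').algebraMap_mem _
  have hw0 : w ≠ 0 := by rintro rfl; exact hwV V.zero_mem
  have hwinv : V.valuation w⁻¹ < 1 := by
    have h1 : ¬ V.valuation w ≤ 1 := fun h => hwV ((V.valuation_le_one_iff w).mp h)
    rw [not_le] at h1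
    rw [map_inv₀]
    exact inv_lt_one_of_one_lt₀ h1
  have hk : LeadFG.TrivOn k' V.valuation := by
    apply LeadFG.trivOn_of_le_one
    intro c
    rw [ValuationSubring.valuation_le_one_iff]
    exact hAV _ (Subalgebra.algebraMap_mem _ c)
  obtain ⟨Q', hQ'⟩ := LeadFG.exists_place_of_valuation hFF hk (inv_ne_zero hw0) hwinv
  have hQV : ∀ z : K', Q'.1 z ≤ 1 ↔ z ∈ V := by
    intro z
    have := hQ' z 1
    rw [map_one, map_one] at this
    rw [this, V.valuation_le_one_iff]
  exact hwV ((hQV w).mp (hw Q' ((hQV x').mpr (hAV _ (Algebra.subset_adjoin rfl)))))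

end Crit

section Loc

variable {k k' K K' : Type*} [Field k] [Field k'] [Field K] [Field K']
  [Algebra k k'] [FiniteDimensional k k'] [Algebra k K] [Algebra K K'] [Algebra k' K']
  [Algebra k K'] [IsScalarTower k k' K'] [IsScalarTower k K K']

/-- a place over `k'` is a place over `k`. -/
def down (Q : Place k' K') : Place k K' :=
  ⟨Q.1, fun c => by rw [IsScalarTower.algebraMap_apply k k' K']; exact Q.2.1 _, Q.2.2⟩

omit [FiniteDimensional k k'] [Algebra K K'] [IsScalarTower k K K'] in
@[simp] lemma down_val (Q : Place k' K') (z : K') : (down (k := k) Q).1 z = Q.1 z := rfl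

lemma isFF_up (h : Function.Surjective (Algebra.TensorProduct.productMap
      (IsScalarTower.toAlgHom k k' K') (IsScalarTower.toAlgHom k K K')))
    (hK : IsFunctionField k K) : LeadFG.IsFF k' K' := by
  have hgen : Algebra.adjoin K (Set.range (algebraMap k' K')) = ⊤ := by
    rw [Algebra.eq_top_iff]
    intro z
    exact LeadCE.mem_adjoin_range h z
  exact LeadFB.isFF_constExt hK hgen

/-- localisation: an element integral over `O_P` becomes integral over `k'[x']` after multiplication
by a unit of `O_P`. -/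
theorem exists_unit_mul_isIntegral
    (h : Function.Bijective (Algebra.TensorProduct.productMap
      (IsScalarTower.toAlgHom k k' K') (IsScalarTower.toAlgHom k K K')))
    (hK : IsFunctionField k K) {x : K} (hx : Transcendental k x) (P : Place k K)
    (hPx : P.1 x ≤ 1) {z : K'} (hz : IsIntegral (P.O.toSubring.map (algebraMap K K')) z) :
    ∃ s : K, P.1 s = 1 ∧
      IsIntegral (Algebra.adjoin k' ({algebraMap K K' x} : Set K')) (algebraMap K K' s * z) := by
  classical
  haveI : FiniteDimensional K K' := LeadCE.finiteDimensional_of_surjective h.2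
  have hFFk : LeadFG.IsFF k K' := LeadFF.isFF_of_finite hK
  have hFF' : LeadFG.IsFF k' K' := isFF_up h.2 hK
  -- a pole of `x`
  have hxr : x ∉ Set.range (algebraMap k K) := by
    rintro ⟨c, rfl⟩
    exact hx (isAlgebraic_algebraMap c)
  obtain ⟨-, Pinf, hPinf⟩ := LeadFF.exists_zero_and_pole hK x hxr
  have hx0 : x ≠ 0 := fun h0 => hx (h0 ▸ isAlgebraic_zero)
  have hPinf' : 1 < Pinf.1 x := by
    rw [LeadFF.val_eq_exp_neg_ord Pinf hx0, ← exp_zero, exp_lt_exp]; omega
  have hPne : P ≠ Pinf := by rintro rfl; exact absurd hPx (not_le.mpr hPinf')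
  by_cases hz0 : z = 0
  · exact ⟨1, map_one _, by rw [hz0, mul_zero]; exact isIntegral_zero⟩
  -- poles of `z`
  have hpoles : {Q : Place k K' | 1 < Q.1 z}.Finite := by
    apply (LeadFG.support_ord_finite hFFk z).subset
    intro Q hQ
    rw [Function.mem_support]
    have : 1 < Q.1 z := hQ
    rw [LeadFG.val_eq_exp_neg_ord Q hz0, ← exp_zero, exp_lt_exp] at this
    omega
  choose below hbelow using fun Q : Place k K' => LeadFF.exists_below hK Q
  obtain ⟨N, hN⟩ := LeadFG.zm0_finset_bound hpoles.toFinset (fun Q => Q.1 z)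
  set T : Finset (Place k K) := ((hpoles.toFinset.image below).erase P).erase Pinf with hT
  have hPT : P ∉ T := by simp [hT]
  set T' : Finset (Place k K) := insert P T with hT'
  let e := T'.equivFin.symm
  let Pfun : Fin T'.card → Place k K := fun i => (e i : Place k K)
  have hPfun_inj : Function.Injective Pfun := fun i j hij =>
    e.injective (Subtype.ext hij)
  have hrange : ∀ P', P' ∈ Set.range Pfun ↔ P' ∈ T' := by
    intro P'
    constructor
    · rintro ⟨i, rfl⟩; exact (e i).2
    · intro hP'; exact ⟨e.symm ⟨P', hP'⟩, by simp [Pfun]⟩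
  have hinf : Pinf ∉ Set.range Pfun := by
    rw [hrange, hT', Finset.mem_insert]
    rintro (h1 | h1)
    · exact hPne h1.symm
    · simp [hT] at h1
  obtain ⟨s, hs1, hs2⟩ := LeadFF.strong_approx hK Pinf T'.card Pfun hPfun_inj hinf
    (fun i => if Pfun i = P then 1 else 0) (fun i => if Pfun i = P then 1 else (N : ℤ))
  have hsP : P.1 s = 1 := by
    obtain ⟨i, hi⟩ := (hrange P).mpr (by rw [hT']; exact Finset.mem_insert_self _ _)
    have := hs1 i
    rw [if_pos hi, if_pos hi, hi] at this
    have hlt : P.1 (s - 1) < P.1 1 := by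
      rw [this, map_one, ← exp_zero, exp_lt_exp]; norm_num
    rw [Valuation.map_eq_of_sub_lt P.1 hlt, map_one]
  have hsT : ∀ P' ∈ T, P'.1 s = exp (-(N : ℤ)) := by
    intro P' hP'
    obtain ⟨i, hi⟩ := (hrange P').mpr (by rw [hT']; exact Finset.mem_insert_of_mem hP')
    have hne : Pfun i ≠ P := by rw [hi]; rintro rfl; exact hPT hP'
    have := hs1 i
    rwa [if_neg hne, if_neg hne, sub_zero, hi] at this
  have hsO : ∀ P' : Place k K, P' ≠ Pinf → P'.1 s ≤ 1 := by
    intro P' hne
    by_cases hP' : P' ∈ T'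
    · rw [hT', Finset.mem_insert] at hP'
      rcases hP' with rfl | hP'
      · exact hsP.le
      · rw [hsT P' hP', ← exp_zero, exp_le_exp]; omega
    · exact hs2 P' hne (by rwa [hrange])
  refine ⟨s, hsP, ?_⟩
  apply isIntegral_adjoin_of_forall_place hFF'
  intro Q' hQ'x
  obtain ⟨eQ, heQ0, heQ⟩ := hbelow (down (k := k) Q')
  set P' := below (down (k := k) Q') with hP'def
  have hval : ∀ a : K, Q'.1 (algebraMap K K' a) = P'.1 a ^ eQ := fun a => heQ a
  have hP'x : P'.1 x ≤ 1 := by
    have := hQ'x
    rw [hval] at this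
    exact (pow_le_one_iff heQ0.ne').mp this
  have hP'inf : P' ≠ Pinf := by
    intro h1; rw [h1] at hP'x; exact absurd hP'x (not_le.mpr hPinf')
  rw [map_mul, hval]
  by_cases hPP : P' = P
  · rw [hPP, hsP, one_pow, one_mul]
    have hover : IsOver (down (k := k) Q') P := ⟨eQ, by rw [← hPP]; exact heQ⟩
    exact val_le_one_of_isIntegral_map hover hz
  · by_cases hpole : 1 < Q'.1 z
    · have hmem : down (k := k) Q' ∈ hpoles.toFinset := hpoles.mem_toFinset.mpr hpole
      have hP'T : P' ∈ T := by
        rw [hT, Finset.mem_erase, Finset.mem_erase]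
        exact ⟨hP'inf, hPP, Finset.mem_image.mpr ⟨_, hmem, rfl⟩⟩
      rw [hsT P' hP'T]
      have h1 : (exp (-(N : ℤ)) : LeadFG.ZM0) ^ eQ ≤ exp (-(N : ℤ)) := by
        rw [LeadFG.zm0_exp_pow, exp_le_exp]
        have : (1 : ℤ) ≤ eQ := by exact_mod_cast heQ0
        nlinarith
      calc (exp (-(N : ℤ)) : LeadFG.ZM0) ^ eQ * Q'.1 z ≤ exp (-(N : ℤ)) * exp (N : ℤ) :=
            mul_le_mul' h1 (hN _ hmem)
        _ = 1 := by rw [← exp_add]; simp
    · rw [not_lt] at hpole
      exact mul_le_one' (pow_le_one' (hsO P' hP'inf) eQ) hpole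

end Loc

section Plane

variable {k K : Type*} [Field k] [Field K] [Algebra k K]

/-- evaluation of a bivariate polynomial `G ∈ k[X][Y]` at `(x, y)`. -/
noncomputable def ev (x y : K) (G : (k[X])[X]) : K :=
  Polynomial.eval₂ ((Polynomial.aeval x : k[X] →ₐ[k] K) : k[X] →+* K) y G

end Plane

section UC

variable {k k' K K' : Type*} [Field k] [Field k'] [Field K] [Field K']
  [Algebra k k'] [FiniteDimensional k k'] [Algebra k K] [Algebra K K'] [Algebra k' K']
  [Algebra k K'] [IsScalarTower k k' K'] [IsScalarTower k K K']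

/-- the ring hom `k[X] → k'[x']`. -/
noncomputable def phiA (x' : K') : k[X] →+* Algebra.adjoin k' ({x'} : Set K') :=
  ((Polynomial.aeval (⟨x', Algebra.subset_adjoin rfl⟩ : Algebra.adjoin k' ({x'} : Set K')) :
      k'[X] →ₐ[k'] Algebra.adjoin k' ({x'} : Set K')) : k'[X] →+* _).comp
    (Polynomial.mapRingHom (algebraMap k k'))

omit [FiniteDimensional k k'] in
lemma algebraMap_comp_phiA (x : K) :
    (algebraMap (Algebra.adjoin k' ({algebraMap K K' x} : Set K')) K').comp
        (phiA (k := k) (algebraMap K K' x)) =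
      (algebraMap K K').comp ((Polynomial.aeval x : k[X] →ₐ[k] K) : k[X] →+* K) := by
  apply Polynomial.ringHom_ext
  · intro c
    simp only [phiA, RingHom.coe_comp, Function.comp_apply, Polynomial.coe_mapRingHom,
      Polynomial.map_C, AlgHom.coe_toRingHom, Polynomial.aeval_C]
    rw [← IsScalarTower.algebraMap_apply k K K', IsScalarTower.algebraMap_apply k k' K']
    rfl
  · simp only [phiA, RingHom.coe_comp, Function.comp_apply, Polynomial.coe_mapRingHom,
      Polynomial.map_X, AlgHom.coe_toRingHom, Polynomial.aeval_X]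
    rfl

omit [FiniteDimensional k k'] in
lemma aeval_map_phiA (x y : K) (G : (k[X])[X]) :
    Polynomial.aeval (algebraMap K K' y) (G.map (phiA (k := k) (k' := k') (algebraMap K K' x))) =
      algebraMap K K' (ev x y G) := by
  rw [Polynomial.aeval_def, Polynomial.eval₂_map, algebraMap_comp_phiA, ev, Polynomial.hom_eval₂]

end UC

section UCMain

open scoped IntermediateField.algebraAdjoinAdjoin

variable {k k' K K' : Type*} [Field k] [Field k'] [Field K] [Field K']
  [Algebra k k'] [FiniteDimensional k k'] [Algebra k K] [Algebra K K'] [Algebra k' K']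
  [Algebra k K'] [IsScalarTower k k' K'] [IsScalarTower k K K']

/-- **Uniform conductor bound.** -/
theorem uniform_conductor
    (h : Function.Bijective (Algebra.TensorProduct.productMap
      (IsScalarTower.toAlgHom k k' K') (IsScalarTower.toAlgHom k K K')))
    (hK : IsFunctionField k K) {x y : K} (hx : Transcendental k x)
    (hgen : IntermediateField.adjoin k ({x, y} : Set K) = ⊤)
    (H : (k[X])[X]) (hH : H.Monic) (hroot : ev x y H = 0)
    (hδ : ev x y (Polynomial.derivative H) ≠ 0)
    (P : Place k K) (hPx : P.1 x ≤ 1) (hPy : P.1 y ≤ 1)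
    {z : K'} (hz : IsIntegral (P.O.toSubring.map (algebraMap K K')) z) :
    algebraMap K K' (ev x y (Polynomial.derivative H)) * z ∈
      Algebra.adjoin (P.O.toSubring.map (algebraMap K K')) (Set.range (algebraMap k' K')) := by
  classical
  set x' := algebraMap K K' x with hx'def
  set y' := algebraMap K K' y with hy'def
  have hx' : Transcendental k' x' := LeadFB.transcendental_map hx
  have hFF' : LeadFG.IsFF k' K' := isFF_up h.2 hK
  haveI hfin : FiniteDimensional k'⟮x'⟯ K' := LeadFG.finite_over_adjoin hFF' hx'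
  -- `k'[x']` is integrally closed
  have hinj : Function.Injective (Polynomial.aeval x' : k'[X] →ₐ[k'] K') :=
    transcendental_iff_injective.mp hx'
  let e : k'[X] ≃ₐ[k'] Algebra.adjoin k' ({x'} : Set K') :=
    (AlgEquiv.ofInjective _ hinj).trans
      (Subalgebra.equivOfEq _ _ (Algebra.adjoin_singleton_eq_range_aeval k' x').symm)
  haveI : IsIntegrallyClosed (Algebra.adjoin k' ({x'} : Set K')) :=
    IsIntegrallyClosed.of_equiv e.toRingEquiv
  -- `K' = k'(x')[y']`
  have hy'top : Algebra.adjoin k'⟮x'⟯ ({y'} : Set K') = ⊤ := by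
    have hyalg : IsAlgebraic k'⟮x'⟯ y' := Algebra.IsAlgebraic.isAlgebraic y'
    rw [← IntermediateField.adjoin_simple_toSubalgebra_of_isAlgebraic hyalg,
      ← IntermediateField.top_toSubalgebra]
    congr 1
    rw [eq_top_iff]
    suffices hall : ∀ w : K', w ∈ k'⟮x'⟯⟮y'⟯ from fun w _ => hall w
    intro w
    have hK_mem : ∀ a : K, algebraMap K K' a ∈ k'⟮x'⟯⟮y'⟯ := by
      intro a
      have ha : a ∈ IntermediateField.adjoin k ({x, y} : Set K) := by rw [hgen]; trivial
      induction ha using IntermediateField.adjoin_induction with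
      | mem a ha =>
        rcases ha with rfl | rfl
        · have h1 : x' ∈ k'⟮x'⟯ := IntermediateField.mem_adjoin_simple_self k' x'
          have : x' = algebraMap k'⟮x'⟯ K' ⟨x', h1⟩ := rfl
          rw [← hx'def, this]
          exact IntermediateField.algebraMap_mem _ _
        · exact IntermediateField.mem_adjoin_simple_self _ y'
      | algebraMap c =>
        rw [← IsScalarTower.algebraMap_apply k K K', IsScalarTower.algebraMap_apply k k' K',
          IsScalarTower.algebraMap_apply k' k'⟮x'⟯ K']
        exact IntermediateField.algebraMap_mem _ _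
      | add a b _ _ ha hb => rw [map_add]; exact add_mem ha hb
      | inv a _ ha => rw [map_inv₀]; exact inv_mem ha
      | mul a b _ _ ha hb => rw [map_mul]; exact mul_mem ha hb
    have hw := LeadCE.mem_adjoin_range h.2 w
    induction hw using Algebra.adjoin_induction with
    | mem c hc =>
      obtain ⟨c, rfl⟩ := hc
      rw [IsScalarTower.algebraMap_apply k' k'⟮x'⟯ K']
      exact IntermediateField.algebraMap_mem _ _
    | algebraMap a => exact hK_mem a
    | add a b _ _ ha hb => exact add_mem ha hb
    | mul a b _ _ ha hb => exact mul_mem ha hb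
  -- localise
  obtain ⟨s, hsP, hint⟩ := exists_unit_mul_isIntegral h hK hx P hPx hz
  letI alg0 : Algebra (Algebra.adjoin k' ({x'} : Set K')) k'⟮x'⟯ :=
    IntermediateField.algebraAdjoinAdjoin.instAlgebraSubtypeMemSubalgebraAdjoinAdjoin k' {x'}
  haveI hfr : IsFractionRing (Algebra.adjoin k' ({x'} : Set K')) k'⟮x'⟯ :=
    IntermediateField.algebraAdjoinAdjoin.instIsFractionRingSubtypeMemSubalgebraAdjoinAdjoin k' {x'}
  haveI hst : IsScalarTower (Algebra.adjoin k' ({x'} : Set K')) k'⟮x'⟯ K' :=
    IntermediateField.algebraAdjoinAdjoin.instIsScalarTowerSubtypeMemSubalgebraAdjoinAdjoin_1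
      k' {x'} K'
  have key := DiffBound.deriv_mul_mem_adjoin_of_root
    (A := Algebra.adjoin k' ({x'} : Set K')) (M := k'⟮x'⟯) (N := K') y' hy'top
    (H.map (phiA (k := k) x')) (hH.map _)
    (by rw [aeval_map_phiA, hroot, map_zero])
    (by rw [Polynomial.derivative_map, aeval_map_phiA]; exact (_root_.map_ne_zero _).mpr hδ) hint
  rw [Polynomial.derivative_map, aeval_map_phiA] at key
  -- `k'[x'][y'] ⊆ O_P[k']`
  set W := Algebra.adjoin (P.O.toSubring.map (algebraMap K K')) (Set.range (algebraMap k' K'))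
    with hW
  have hOW : ∀ a : K, P.1 a ≤ 1 → algebraMap K K' a ∈ W := fun a ha =>
    Subalgebra.algebraMap_mem W
      (⟨algebraMap K K' a, ⟨a, ha, rfl⟩⟩ : P.O.toSubring.map (algebraMap K K'))
  have hAW : ∀ a ∈ Algebra.adjoin k' ({x'} : Set K'), a ∈ W := by
    intro a ha
    induction ha using Algebra.adjoin_induction with
    | mem a ha => rw [Set.mem_singleton_iff.mp ha]; exact hOW x hPx
    | algebraMap c => exact Algebra.subset_adjoin ⟨c, rfl⟩
    | add a b _ _ ha hb => exact W.add_mem ha hb
    | mul a b _ _ ha hb => exact W.mul_mem ha hb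
  have hBW : ∀ a ∈ Algebra.adjoin (Algebra.adjoin k' ({x'} : Set K')) ({y'} : Set K'), a ∈ W := by
    intro a ha
    induction ha using Algebra.adjoin_induction with
    | mem a ha => rw [Set.mem_singleton_iff.mp ha]; exact hOW y hPy
    | algebraMap c => exact hAW _ c.2
    | add a b _ _ ha hb => exact W.add_mem ha hb
    | mul a b _ _ ha hb => exact W.mul_mem ha hb
  have hs0 : s ≠ 0 := by rintro rfl; rw [map_zero] at hsP; exact zero_ne_one hsP
  have hsinv : P.1 s⁻¹ ≤ 1 := by rw [map_inv₀, hsP, inv_one]
  have : algebraMap K K' (ev x y (Polynomial.derivative H)) * z =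
      algebraMap K K' s⁻¹ * (algebraMap K K' (ev x y (Polynomial.derivative H)) *
        (algebraMap K K' s * z)) := by
    rw [map_inv₀]
    have : algebraMap K K' s ≠ 0 := (_root_.map_ne_zero _).mpr hs0
    field_simp
  rw [this]
  exact W.mul_mem (hOW _ hsinv) (hBW _ key)

end UCMain

end Groth.Agent.R2.H57.UnifCond
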