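import Mathlib
import Groth.Prelude.Def_ega3

/-!
# Universal injectivity from the generic point; geometric connectedness of composites (helper57)

Pure scheme theory over Mathlib.

* `subsingleton_spec_tensor`: for a triplet `(x, y, s)` over `f`, `g` with `κ(y) / κ(s)` purely
  inseparable, `Spec (κ(x) ⊗[κ(s)] κ(y))` has at most one point.
* `eq_of_fst_eq_of_snd_eq`: points of `X ×[S] Y` over such a pair `(x, y)` are equal.
* `surjective_diagonal`: `π : Y' ⟶ Y` separated, `Y'` irreducible with generic point `η'`,
  `κ(η') / κ(π η')` purely inseparable and every irreducible component of `Y' ×[Y] Y'` has its generic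
  point over `(η', η')`: the diagonal of `π` is surjective, i.e. `π` is universally injective.
* `geometricallyConnected_comp`: `f'` geometrically connected, `π` surjective and universally
  injective: `f' ≫ π` is geometrically connected.
-/

set_option autoImplicit false
universe u

open CategoryTheory CategoryTheory.Limits AlgebraicGeometry

namespace Groth.Agent.R2.H57.UnivInj

open AlgebraicGeometry.Scheme.Pullback

section Tensor

variable {X Y S : Scheme.{u}} {f : X ⟶ S} {g : Y ⟶ S}

/-- For a triplet `(x, y, s)` with `κ(y) / κ(s)` purely inseparable, the spectrum of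
`κ(x) ⊗[κ(s)] κ(y)` has at most one point. -/
theorem subsingleton_spec_tensor (T : Triplet f g)
    (h : ((S.residueFieldCongr T.hy).inv ≫ g.residueFieldMap T.y).hom.IsPurelyInseparable) :
    Subsingleton (Spec T.tensor) := by
  let a := (S.residueFieldCongr T.hx).inv ≫ f.residueFieldMap T.x
  let b := (S.residueFieldCongr T.hy).inv ≫ g.residueFieldMap T.y
  letI algA : Algebra (S.residueField T.s) (X.residueField T.x) := a.hom.toAlgebra
  letI algB : Algebra (S.residueField T.s) (Y.residueField T.y) := b.hom.toAlgebra
  haveI : IsPurelyInseparable (S.residueField T.s) (Y.residueField T.y) := h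
  -- the tensor product is a pushout
  have hpo : IsPushout a b
      (CommRingCat.ofHom (Algebra.TensorProduct.includeLeftRingHom :
        X.residueField T.x →+* TensorProduct (S.residueField T.s) (X.residueField T.x)
          (Y.residueField T.y)))
      (CommRingCat.ofHom (Algebra.TensorProduct.includeRight.toRingHom :
        Y.residueField T.y →+* TensorProduct (S.residueField T.s) (X.residueField T.x)
          (Y.residueField T.y))) := by
    have := CommRingCat.isPushout_tensorProduct (S.residueField T.s) (X.residueField T.x)
      (Y.residueField T.y)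
    exact this
  let e : T.tensor ≅ CommRingCat.of (TensorProduct (S.residueField T.s) (X.residueField T.x)
      (Y.residueField T.y)) := (IsPushout.of_hasPushout a b).isoIsPushout _ _ hpo
  have hhomeo := PrimeSpectrum.isHomeomorph_comap_of_isPurelyInseparable (S.residueField T.s)
    (Y.residueField T.y) (X.residueField T.x)
  haveI : Subsingleton (PrimeSpectrum (TensorProduct (S.residueField T.s) (X.residueField T.x)
      (Y.residueField T.y))) := hhomeo.injective.subsingleton
  haveI : Subsingleton ↥(Spec (CommRingCat.of (TensorProduct (S.residueField T.s)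
      (X.residueField T.x) (Y.residueField T.y)))) := this
  exact (Spec.map e.inv).homeomorph.injective.subsingleton

/-- an isomorphism of fields is purely inseparable -/
theorem isPurelyInseparable_of_bijective {F E : Type*} [Field F] [Field E] (c : F →+* E)
    (hc : Function.Surjective c) : c.IsPurelyInseparable := by
  letI : Algebra F E := c.toAlgebra
  change IsPurelyInseparable F E
  refine ⟨⟨fun x => ?_⟩, fun x _ => hc x⟩
  obtain ⟨a, rfl⟩ := hc x
  exact isIntegral_algebraMap

/-- Two points of `X ×[S] Y` over the same pair `(x, y)` with `κ(y) / κ(g y)` purely inseparable are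
equal. -/
theorem eq_of_fst_eq_of_snd_eq (p₁ p₂ : ↑(pullback f g))
    (h₁ : pullback.fst f g p₁ = pullback.fst f g p₂)
    (h₂ : pullback.snd f g p₁ = pullback.snd f g p₂)
    (h : (g.residueFieldMap (pullback.snd f g p₂)).hom.IsPurelyInseparable) : p₁ = p₂ := by
  apply (carrierEquiv (f := f) (g := g)).injective
  rw [carrierEquiv_eq_iff]
  have e : Triplet.ofPoint p₁ = Triplet.ofPoint p₂ := Triplet.ext h₁ h₂
  refine ⟨e, ?_⟩
  have hss : Subsingleton (Spec (Triplet.ofPoint p₂).tensor) := by
    apply subsingleton_spec_tensor
    rw [CommRingCat.hom_comp]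
    refine RingHom.IsPurelyInseparable.comp ?_ h
    exact isPurelyInseparable_of_bijective _
      (ConcreteCategory.bijective_of_isIso (S.residueFieldCongr (Triplet.ofPoint p₂).hy).inv).2
  exact @Subsingleton.elim _ hss _ _

end Tensor

section Diagonal

variable {Y' Y : Scheme.{u}} (π : Y' ⟶ Y)

/-- If `Y'` is irreducible with generic point `η'`, `κ(η') / κ(π η')` is purely inseparable and the
generic point of every irreducible component of `Y' ×[Y] Y'` lies over `(η', η')`, then the diagonal
of the separated morphism `π` is surjective. -/
theorem surjective_diagonal [IsSeparated π] [IrreducibleSpace Y']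
    (hpi : (π.residueFieldMap (genericPoint Y')).hom.IsPurelyInseparable)
    (hgen : ∀ Z ∈ irreducibleComponents ↑(pullback π π), ∀ ζ : ↑(pullback π π), IsGenericPoint ζ Z →
      pullback.fst π π ζ = genericPoint Y' ∧ pullback.snd π π ζ = genericPoint Y') :
    Surjective (pullback.diagonal π) := by
  refine ⟨fun p => ?_⟩
  obtain ⟨ζ, hζ⟩ := QuasiSober.sober (isIrreducible_irreducibleComponent (x := p))
    isClosed_irreducibleComponent
  obtain ⟨hζ1, hζ2⟩ := hgen _ (irreducibleComponent_mem_irreducibleComponents p) ζ hζ
  -- `ζ` is the image of the generic point under the diagonal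
  have hΔ1 : pullback.fst π π (pullback.diagonal π (genericPoint Y')) = genericPoint Y' := by
    rw [← Scheme.Hom.comp_apply, pullback.diagonal_fst]; rfl
  have hΔ2 : pullback.snd π π (pullback.diagonal π (genericPoint Y')) = genericPoint Y' := by
    rw [← Scheme.Hom.comp_apply, pullback.diagonal_snd]; rfl
  have hζΔ : pullback.diagonal π (genericPoint Y') = ζ := by
    apply eq_of_fst_eq_of_snd_eq _ _ (hΔ1.trans hζ1.symm) (hΔ2.trans hζ2.symm)
    rw [hζ2]
    exact hpi
  -- the range of the diagonal is closed
  have hcl : IsClosed (Set.range (pullback.diagonal π)) :=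
    (pullback.diagonal π).isClosedEmbedding.isClosed_range
  have hsub : irreducibleComponent p ⊆ Set.range (pullback.diagonal π) := by
    rw [← hζ.def]
    exact hcl.closure_subset_iff.mpr (Set.singleton_subset_iff.mpr ⟨_, hζΔ⟩)
  exact hsub mem_irreducibleComponent

end Diagonal

section Comp

variable {X Y' Y : Scheme.{u}} (f' : X ⟶ Y') (π : Y' ⟶ Y)

/-- If `f'` is geometrically connected and `π` is surjective and universally injective, then every
geometric fibre of `f' ≫ π` is connected. -/
theorem connectedSpace_pullback_comp [GeometricallyConnected f'] [Surjective π]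
    [UniversallyInjective π] {K : Type u} [Field K] (z : Spec (CommRingCat.of K) ⟶ Y) :
    ConnectedSpace ↑(pullback (f' ≫ π) z) := by
  -- the fibre `W` of `π` over `z` is a single point
  haveI : UniversallyInjective (pullback.snd π z) :=
    MorphismProperty.pullback_snd _ _ inferInstance
  haveI : Surjective (pullback.snd π z) := MorphismProperty.pullback_snd _ _ inferInstance
  haveI hsub : Subsingleton ↑(pullback π z) := (pullback.snd π z).injective.subsingleton
  obtain ⟨w, -⟩ := (pullback.snd π z).surjective (IsLocalRing.closedPoint K)
  let j := (pullback π z).fromSpecResidueField w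
  haveI : Surjective j := ⟨fun a => ⟨IsLocalRing.closedPoint _, Subsingleton.elim _ _⟩⟩
  -- the fibre of `f'` over `Spec κ(w)` is connected
  haveI hconn : ConnectedSpace ↑(pullback f' (j ≫ pullback.fst π z)) :=
    GeometricallyConnected.geometrically_connectedSpace (f := f')
      (K := (pullback π z).residueField w) (j ≫ pullback.fst π z) _ _ (.of_hasPullback _ _)
  -- it surjects onto the fibre of `f'` over `W`
  let q : pullback f' (j ≫ pullback.fst π z) ⟶ pullback f' (pullback.fst π z) :=
    (pullbackLeftPullbackSndIso f' (pullback.fst π z) j).inv ≫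
      pullback.fst (pullback.snd f' (pullback.fst π z)) j
  haveI : Surjective (pullback.fst (pullback.snd f' (pullback.fst π z)) j) :=
    MorphismProperty.pullback_fst _ _ inferInstance
  haveI : Surjective q := by
    dsimp only [q]
    infer_instance
  haveI : ConnectedSpace ↑(pullback f' (pullback.fst π z)) :=
    q.surjective.connectedSpace q.continuous
  exact (pullbackRightPullbackFstIso π z f').hom.homeomorph.surjective.connectedSpace
    (pullbackRightPullbackFstIso π z f').hom.homeomorph.continuous

/-- If `f'` is geometrically connected and `π` is surjective and universally injective, then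
`f' ≫ π` is geometrically connected. -/
theorem geometricallyConnected_comp [GeometricallyConnected f'] [Surjective π]
    [UniversallyInjective π] : GeometricallyConnected (f' ≫ π) := by
  refine ⟨geometrically_iff_of_isClosedUnderIsomorphisms.mpr fun K _ z => ?_⟩
  exact connectedSpace_pullback_comp f' π z

end Comp

section Topology

/-- In an irreducible quasi-sober T0 space, a point whose closure contains a dense set is the generic
point. -/
theorem eq_genericPoint_of_dense {α : Type*} [TopologicalSpace α] [IrreducibleSpace α]
    [QuasiSober α] [T0Space α] (x : α) (s : Set α) (hs : Dense s) (hsx : s ⊆ closure {x}) :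
    x = genericPoint α := by
  have h1 : closure ({x} : Set α) = Set.univ := by
    rw [Set.eq_univ_iff_forall]
    intro y
    have h2 : closure s ⊆ closure {x} := closure_minimal hsx isClosed_closure
    rw [hs.closure_eq] at h2
    exact h2 (Set.mem_univ y)
  have h2 : IsGenericPoint x (Set.univ : Set α) := h1
  exact h2.eq (genericPoint_spec α)

end Topology

section Components

variable {Q P Y' : Scheme.{u}} [IrreducibleSpace Y']

/-- If `q : Q ⟶ P` is surjective and every irreducible component of `Q` has dense image in the
irreducible scheme `Y'` under `q ≫ pr`, then the generic point of every irreducible component of `P`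
maps to the generic point of `Y'` under `pr`. -/
theorem genericPoint_of_dense (q : Q ⟶ P) [Surjective q] (pr : P ⟶ Y')
    (hdense : ∀ Z' ∈ irreducibleComponents ↥Q, Dense ((q ≫ pr).base '' Z'))
    (Z : Set P) (hZ : Z ∈ irreducibleComponents P) (ζ : P) (hζ : IsGenericPoint ζ Z) :
    pr ζ = genericPoint Y' := by
  obtain ⟨t, rfl⟩ := q.surjective ζ
  have hZ' : irreducibleComponent t ∈ irreducibleComponents Q :=
    irreducibleComponent_mem_irreducibleComponents t
  have hirr : IsIrreducible (closure (q '' irreducibleComponent t)) :=
    (isIrreducible_irreducibleComponent.image q q.continuous.continuousOn).closure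
  have hle : Z ⊆ closure (q '' irreducibleComponent t) := by
    rw [← hζ.def]
    exact closure_mono (Set.singleton_subset_iff.mpr ⟨t, mem_irreducibleComponent, rfl⟩)
  have heq : closure (q '' irreducibleComponent t) ⊆ Z := hZ.2 hirr hle
  apply eq_genericPoint_of_dense (pr (q t)) ((q ≫ pr).base '' irreducibleComponent t)
    (hdense _ hZ')
  rintro _ ⟨a, ha, rfl⟩
  have h1 : q a ∈ Z := heq (subset_closure ⟨a, ha, rfl⟩)
  rw [← hζ.def] at h1
  have h2 := image_closure_subset_closure_image pr.continuous (s := {q t}) ⟨_, h1, rfl⟩
  rw [Set.image_singleton] at h2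
  exact h2

end Components

section Paste

variable {X Y' Y : Scheme.{u}} (f' : X ⟶ Y') (π : Y' ⟶ Y)

/-- the canonical map `X ×[Y] Y' ⟶ Y' ×[Y] Y'` -/
noncomputable def qMap : pullback (f' ≫ π) π ⟶ pullback π π :=
  pullback.map (f' ≫ π) π π π f' (𝟙 _) (𝟙 _) (by simp) (by simp)

@[reassoc]
theorem qMap_fst : qMap f' π ≫ pullback.fst π π = pullback.fst (f' ≫ π) π ≫ f' := by
  unfold qMap
  rw [pullback.lift_fst]

@[reassoc]
theorem qMap_snd : qMap f' π ≫ pullback.snd π π = pullback.snd (f' ≫ π) π := by
  unfold qMap
  rw [pullback.lift_snd, Category.comp_id]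

theorem isPullback_qMap :
    IsPullback (qMap f' π) (pullback.fst (f' ≫ π) π) (pullback.fst π π) f' := by
  refine IsPullback.of_right ?_ (qMap_fst f' π) (IsPullback.of_hasPullback π π).flip
  rw [qMap_snd]
  exact (IsPullback.of_hasPullback (f' ≫ π) π).flip

instance [Surjective f'] : Surjective (qMap f' π) :=
  MorphismProperty.of_isPullback (P := @Surjective) (isPullback_qMap f' π).flip inferInstance

end Paste

section PInsep

variable {X Y' Y : Scheme.{u}} [IsIntegral X] [IsIntegral Y] (f' : X ⟶ Y') (π : Y' ⟶ Y)

/-- If `κ(f' ξ)` is algebraic over `κ(π (f' ξ))` (`ξ` the generic point of `X`) and every element of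
`R(X)` algebraic over `R(Y)` has a `p^e`-th power in `R(Y)`, then `κ(f' ξ) / κ(π (f' ξ))` is purely
inseparable. -/
theorem isPurelyInseparable_residueFieldMap
    (hdom : (f' ≫ π).base (genericPoint X) ⤳ genericPoint Y)
    (halg : @Algebra.IsAlgebraic (Y.residueField (π (f' (genericPoint X))))
      (Y'.residueField (f' (genericPoint X))) _ _
      (π.residueFieldMap (f' (genericPoint X))).hom.toAlgebra)
    (hrad : ∀ x : X.functionField,
      (∃ q : Polynomial Y.functionField, q ≠ 0 ∧
        Polynomial.eval₂ (CohIII.stalkToFunctionField (f' ≫ π) (genericPoint Y) hdom) x q = 0) →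
      ∃ e : ℕ, x ^ (ringExpChar X.functionField ^ e) ∈
        Set.range (CohIII.stalkToFunctionField (f' ≫ π) (genericPoint Y) hdom)) :
    (π.residueFieldMap (f' (genericPoint X))).hom.IsPurelyInseparable := by
  classical
  set ξ := genericPoint X with hξ
  set φ := CohIII.stalkToFunctionField (f' ≫ π) (genericPoint Y) hdom with hφ
  let resX : X.functionField →+* X.residueField ξ := (X.residue ξ).hom
  have hresX_inj : Function.Injective resX := RingHom.injective resX
  have hresX_surj : Function.Surjective resX := X.residue_surjective ξ
  let a : Y.residueField (π (f' ξ)) →+* Y'.residueField (f' ξ) := (π.residueFieldMap (f' ξ)).hom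
  let b : Y'.residueField (f' ξ) →+* X.residueField ξ := (f'.residueFieldMap ξ).hom
  have hb_inj : Function.Injective b := RingHom.injective b
  let c : Y.functionField →+* Y.residueField (π (f' ξ)) :=
    (Y.residue ((f' ≫ π) ξ)).hom.comp (Y.presheaf.stalkSpecializes hdom).hom
  -- `c` is surjective
  have hc_surj : Function.Surjective c := by
    have e : Inseparable (genericPoint Y) ((f' ≫ π) ξ) :=
      inseparable_iff_specializes_and.mpr ⟨genericPoint_specializes _, hdom⟩
    have h1 : Y.presheaf.stalkSpecializes hdom = (Y.presheaf.stalkCongr e).hom := rfl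
    have h2 : Function.Surjective (Y.presheaf.stalkSpecializes hdom).hom := by
      rw [h1]
      exact (ConcreteCategory.bijective_of_isIso (Y.presheaf.stalkCongr e).hom).2
    exact (Y.residue_surjective _).comp h2
  -- the key identity
  have hkey : resX.comp φ = (b.comp a).comp c := by
    have h1 := Scheme.residue_residueFieldMap (f' ≫ π) ξ
    have h2 := Scheme.residueFieldMap_comp f' π ξ
    rw [h2] at h1
    ext t
    have h3 := congrArg (fun ψ => ψ.hom ((Y.presheaf.stalkSpecializes hdom).hom t)) h1
    exact h3.symm
  letI algFE : Algebra (Y.residueField (π (f' ξ))) (Y'.residueField (f' ξ)) := a.toAlgebra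
  change IsPurelyInseparable (Y.residueField (π (f' ξ))) (Y'.residueField (f' ξ))
  -- the exponential characteristic
  haveI : ExpChar (Y.residueField (π (f' ξ))) (ringExpChar X.functionField) := by
    let σ : X.residueField ξ →+* X.functionField :=
      (RingEquiv.ofBijective resX ⟨hresX_inj, hresX_surj⟩).symm.toRingHom
    haveI h1 : ExpChar X.functionField (ringExpChar (Y.residueField (π (f' ξ)))) :=
      expChar_of_injective_ringHom (f := σ.comp (b.comp a)) (RingHom.injective _)
        (ringExpChar (Y.residueField (π (f' ξ))))
    have h2 : ringExpChar X.functionField = ringExpChar (Y.residueField (π (f' ξ))) :=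
      ringExpChar.eq _ _
    rw [h2]
    infer_instance
  rw [isPurelyInseparable_iff_pow_mem _ (ringExpChar X.functionField)]
  intro e
  -- `e` is algebraic
  obtain ⟨P, hP0, hPe⟩ := halg.isAlgebraic e
  -- lift the polynomial to `R(Y)`
  have hc_inj : Function.Injective c := RingHom.injective c
  let cE : Y.functionField ≃+* Y.residueField (π (f' ξ)) :=
    RingEquiv.ofBijective c ⟨hc_inj, hc_surj⟩
  let q : Polynomial Y.functionField := P.map cE.symm.toRingHom
  have hqP : q.map c = P := by
    rw [Polynomial.map_map]
    have : c.comp cE.symm.toRingHom = RingHom.id _ := by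
      ext t
      exact cE.apply_symm_apply t
    rw [this, Polynomial.map_id]
  have hq0 : q ≠ 0 := by
    intro h
    apply hP0
    rw [← hqP, h, Polynomial.map_zero]
  obtain ⟨l, hl⟩ := hresX_surj (b e)
  have hroot : Polynomial.eval₂ φ l q = 0 := by
    apply hresX_inj
    rw [map_zero, Polynomial.hom_eval₂, hkey, hl, ← Polynomial.eval₂_map, hqP,
      ← Polynomial.hom_eval₂]
    have : Polynomial.eval₂ a e P = 0 := hPe
    rw [this, map_zero]
  obtain ⟨n, k, hk⟩ := hrad l ⟨q, hq0, hroot⟩
  refine ⟨n, c k, ?_⟩
  apply hb_inj
  have h4 := congrArg resX hk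
  rw [map_pow, hl, ← RingHom.comp_apply, hkey] at h4
  rw [map_pow]
  exact h4

end PInsep

end Groth.Agent.R2.H57.UnivInj
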