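import Mathlib
import Groth.Prelude.Def_Cyc

/-!
# Base change to a purely inseparable extension, part A (helper9)

* `exists_evaluation_div` : elements of the residue field at a point of an affine open are
  fractions of evaluations of sections.
* `isAlgebraic_residueFieldMap_of_isIntegralHom` : integral morphisms induce algebraic residue
  field extensions.
* `trdeg_eq_of_square` : in a commutative square with algebraic "vertical" residue field
  extensions the transcendence degrees of the "horizontal" ones agree.
-/

set_option autoImplicit false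
set_option linter.style.haveILetI false

universe u

open AlgebraicGeometry CategoryTheory

namespace Groth.Agent.R2.H9.PerfBC

theorem exists_evaluation_div {X : Scheme.{u}} {U : X.Opens} (hU : IsAffineOpen U) (x : X)
    (hx : x ∈ U) (y : X.residueField x) :
    ∃ a b : Γ(X, U), (X.evaluation U x hx).hom b ≠ 0 ∧
      y * (X.evaluation U x hx).hom b = (X.evaluation U x hx).hom a := by
  obtain ⟨t, rfl⟩ := X.residue_surjective x y
  letI := TopCat.Presheaf.algebra_section_stalk X.presheaf ⟨x, hx⟩
  haveI := hU.isLocalization_stalk ⟨x, hx⟩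
  obtain ⟨⟨a, b⟩, hab⟩ := IsLocalization.surj (hU.primeIdealOf ⟨x, hx⟩).asIdeal.primeCompl t
  refine ⟨a, b.1, ?_, ?_⟩
  · have hunit : IsUnit ((X.presheaf.germ U x hx).hom b.1) :=
      IsLocalization.map_units (X.presheaf.stalk x) b
    exact (hunit.map (X.residue x).hom).ne_zero
  · have h1 : t * (X.presheaf.germ U x hx).hom b.1 = (X.presheaf.germ U x hx).hom a := hab
    have h2 := congrArg (X.residue x).hom h1
    rw [map_mul] at h2
    exact h2

/-- integral morphisms induce algebraic residue field extensions. -/
theorem isAlgebraic_residueFieldMap_of_isIntegralHom {S' S : Scheme.{u}} (π : S' ⟶ S)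
    [IsIntegralHom π] (s' : S') :
    @Algebra.IsAlgebraic (S.residueField (π s')) (S'.residueField s') _ _
      (π.residueFieldMap s').hom.toAlgebra := by
  letI := (π.residueFieldMap s').hom.toAlgebra
  obtain ⟨V, hV, hsV, -⟩ := exists_isAffineOpen_mem_and_subset (U := ⊤) (x := π s') trivial
  have hU : IsAffineOpen (π ⁻¹ᵁ V) := hV.preimage π
  have hint : (π.app V).hom.IsIntegral := IsIntegralHom.isIntegral_app π V hV
  have hcomp : (algebraMap (S.residueField (π s')) (S'.residueField s')).comp
      (S.evaluation V (π s') hsV).hom =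
      (S'.evaluation (π ⁻¹ᵁ V) s' hsV).hom.comp (π.app V).hom := by
    ext t
    exact Scheme.evaluation_naturality_apply π s' hsV t
  have key : ∀ c : Γ(S', π ⁻¹ᵁ V), IsIntegral (S.residueField (π s'))
      ((S'.evaluation (π ⁻¹ᵁ V) s' hsV).hom c) := by
    intro c
    obtain ⟨P, hPm, hP⟩ := hint c
    refine ⟨P.map (S.evaluation V (π s') hsV).hom, hPm.map _, ?_⟩
    rw [Polynomial.eval₂_map, hcomp, ← Polynomial.hom_eval₂, hP, map_zero]
  constructor
  intro y
  obtain ⟨a, b, hb, hab⟩ := exists_evaluation_div hU s' hsV y
  have hy : y = (S'.evaluation (π ⁻¹ᵁ V) s' hsV).hom a /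
      (S'.evaluation (π ⁻¹ᵁ V) s' hsV).hom b := (eq_div_iff hb).mpr hab
  rw [hy, div_eq_mul_inv]
  exact ((key a).isAlgebraic).mul ((key b).isAlgebraic).inv

/-- transcendence degree of the residue field extension of a composite. -/
theorem trdeg_comp {X Y Z : Scheme.{u}} (a : X ⟶ Y) (b : Y ⟶ Z) (x : X) :
    @Algebra.trdeg (Z.residueField (b (a x))) (Y.residueField (a x)) _ _
        (b.residueFieldMap (a x)).hom.toAlgebra +
      @Algebra.trdeg (Y.residueField (a x)) (X.residueField x) _ _
        (a.residueFieldMap x).hom.toAlgebra =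
      @Algebra.trdeg (Z.residueField ((a ≫ b) x)) (X.residueField x) _ _
        ((a ≫ b).residueFieldMap x).hom.toAlgebra := by
  letI a1 : Algebra (Z.residueField (b (a x))) (Y.residueField (a x)) :=
    (b.residueFieldMap (a x)).hom.toAlgebra
  letI a2 : Algebra (Y.residueField (a x)) (X.residueField x) := (a.residueFieldMap x).hom.toAlgebra
  letI a3 : Algebra (Z.residueField (b (a x))) (X.residueField x) :=
    ((a ≫ b).residueFieldMap x).hom.toAlgebra
  haveI : IsScalarTower (Z.residueField (b (a x))) (Y.residueField (a x)) (X.residueField x) :=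
    IsScalarTower.of_algebraMap_eq fun c => by
      change ((a ≫ b).residueFieldMap x).hom c = _
      rw [Scheme.residueFieldMap_comp]
      rfl
  haveI : FaithfulSMul (Z.residueField (b (a x))) (Y.residueField (a x)) :=
    (faithfulSMul_iff_algebraMap_injective _ _).mpr (RingHom.injective _)
  haveI : FaithfulSMul (Y.residueField (a x)) (X.residueField x) :=
    (faithfulSMul_iff_algebraMap_injective _ _).mpr (RingHom.injective _)
  exact trdeg_add_eq (Z.residueField (b (a x))) (Y.residueField (a x))

/-- in a commutative square `g ≫ f = f' ≫ σ` in which `g` and `σ` induce algebraic residue field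
extensions, the residue field extensions of `f` and `f'` have the same transcendence degree. -/
theorem trdeg_eq_of_square {X' X S' S : Scheme.{u}} (g : X' ⟶ X) (f : X ⟶ S) (f' : X' ⟶ S')
    (σ : S' ⟶ S) (w : g ≫ f = f' ≫ σ) (x' : X')
    (h1 : @Algebra.IsAlgebraic (X.residueField (g x')) (X'.residueField x') _ _
      (g.residueFieldMap x').hom.toAlgebra)
    (h2 : @Algebra.IsAlgebraic (S.residueField (σ (f' x'))) (S'.residueField (f' x')) _ _
      (σ.residueFieldMap (f' x')).hom.toAlgebra) :
    @Algebra.trdeg (S'.residueField (f' x')) (X'.residueField x') _ _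
        (f'.residueFieldMap x').hom.toAlgebra =
      @Algebra.trdeg (S.residueField (f (g x'))) (X.residueField (g x')) _ _
        (f.residueFieldMap (g x')).hom.toAlgebra := by
  have e1 := trdeg_comp g f x'
  have e2 := trdeg_comp f' σ x'
  have z1 : @Algebra.trdeg (X.residueField (g x')) (X'.residueField x') _ _
      (g.residueFieldMap x').hom.toAlgebra = 0 :=
    @trdeg_eq_zero _ _ _ _ (g.residueFieldMap x').hom.toAlgebra h1
  have z2 : @Algebra.trdeg (S.residueField (σ (f' x'))) (S'.residueField (f' x')) _ _
      (σ.residueFieldMap (f' x')).hom.toAlgebra = 0 :=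
    @trdeg_eq_zero _ _ _ _ (σ.residueFieldMap (f' x')).hom.toAlgebra h2
  rw [z1, add_zero] at e1
  rw [z2, zero_add] at e2
  rw [e1, e2]
  have key : ∀ (h h' : X' ⟶ S), h = h' →
      @Algebra.trdeg (S.residueField (h x')) (X'.residueField x') _ _
        (h.residueFieldMap x').hom.toAlgebra =
      @Algebra.trdeg (S.residueField (h' x')) (X'.residueField x') _ _
        (h'.residueFieldMap x').hom.toAlgebra := by
    intro h h' e
    subst e
    rfl
  exact (key _ _ w).symm

end Groth.Agent.R2.H9.PerfBC
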