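import Mathlib
import Groth.Prelude.Def_ega3
import Groth.Agent.S1340
import Groth.Agent.R2.H40SteinFact
import Groth.Agent.R2.H40SteinAsm2
import Groth.Agent.R2.H64SteinST0
import Groth.Agent.R2.H9PerfBCA
import Groth.Agent.R2.H57UnivInjA

/-!
# EGA III 4.3.7: universally open + purely inseparable ⇒ geometrically connected fibres (helper57)

`f : X ⟶ Y` proper dominant, `X`, `Y` integral and locally Noetherian.  With `Y' := f.normalization`,
`f' := f.toNormalization`, `π := f.fromNormalization`:

* `geometricallyConnected_toNormalization`: `f'` is geometrically connected (Zariski, Stein).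
* `isPurelyInseparable_residueFieldMap`: if the algebraic closure of `R(Y)` in `R(X)` is purely
  inseparable over `R(Y)`, then `κ(η') / κ(π η')` is purely inseparable at the generic point `η'` of
  `Y'`.
* `genericPoint_of_dense`: under the "universally open" hypothesis, the generic point of every
  irreducible component of `Y' ×[Y] Y'` lies over `(η', η')`.
* `geometricallyConnected`: `f` is geometrically connected.
-/

set_option autoImplicit false
universe u

open CategoryTheory CategoryTheory.Limits AlgebraicGeometry

namespace Groth.Agent.R2.H57.UnivInj

open Groth.Agent.R2.H40.SteinFact Groth.Agent.R2.H40.SteinAsm2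

section Stein

variable {X Y : Scheme.{u}} (f : X ⟶ Y)

theorem geometricallyConnected_toNormalization [IsProper f] [IsLocallyNoetherian Y] :
    GeometricallyConnected f.toNormalization := by
  haveI : IsFinite f.fromNormalization :=
    isFinite_fromNormalization f (finite_app_of_isProper f)
  haveI : IsLocallyNoetherian f.normalization :=
    LocallyOfFiniteType.isLocallyNoetherian f.fromNormalization
  haveI : IsProper f.toNormalization := isProper_toNormalization f
  exact geometricallyConnected_of_forall_isIso_app Groth.Agent.R2.H64.SteinST0.st0
    f.toNormalization (fun U => Groth.Agent.S1340.result f U)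

end Stein

section Main

/-- The abstract form: `f'` geometrically connected, `π` integral and surjective, `Y'` integral; if the
irreducible components of `X ×[Y] Y'` dominate `Y'` and the algebraic closure of `R(Y)` in `R(X)` is
purely inseparable over `R(Y)`, then `f' ≫ π` is geometrically connected. -/
theorem geometricallyConnected_comp_of_dense {X Y' Y : Scheme.{u}} [IsIntegral X] [IsIntegral Y]
    [IsIntegral Y'] (f' : X ⟶ Y') (π : Y' ⟶ Y) [GeometricallyConnected f'] [IsIntegralHom π]
    [Surjective π] (hξ : f' (genericPoint X) = genericPoint Y')
    (hdom : (f' ≫ π).base (genericPoint X) ⤳ genericPoint Y)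
    (hopen : ∀ Z ∈ irreducibleComponents ↥(pullback (f' ≫ π) π),
      Dense ((pullback.snd (f' ≫ π) π).base '' Z))
    (hrad : ∀ x : X.functionField,
      (∃ q : Polynomial Y.functionField, q ≠ 0 ∧
        Polynomial.eval₂ (CohIII.stalkToFunctionField (f' ≫ π) (genericPoint Y) hdom) x q = 0) →
      ∃ e : ℕ, x ^ (ringExpChar X.functionField ^ e) ∈
        Set.range (CohIII.stalkToFunctionField (f' ≫ π) (genericPoint Y) hdom)) :
    GeometricallyConnected (f' ≫ π) := by
  -- pure inseparability at the generic point of `Y'`
  have hpi0 := isPurelyInseparable_residueFieldMap f' π hdom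
    (Groth.Agent.R2.H9.PerfBC.isAlgebraic_residueFieldMap_of_isIntegralHom π
      (f' (genericPoint X))) hrad
  have hpi : (π.residueFieldMap (genericPoint Y')).hom.IsPurelyInseparable := by
    rw [← hξ]
    exact hpi0
  -- generic points of the components of `Y' ×[Y] Y'`
  have hgen : ∀ Z ∈ irreducibleComponents ↑(pullback π π), ∀ ζ : ↑(pullback π π),
      IsGenericPoint ζ Z →
      pullback.fst π π ζ = genericPoint Y' ∧ pullback.snd π π ζ = genericPoint Y' := by
    intro Z hZ ζ hζ
    constructor
    · refine genericPoint_of_dense (qMap f' π ≫ (pullbackSymmetry π π).hom) (pullback.fst π π)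
        ?_ Z hZ ζ hζ
      rw [Category.assoc, pullbackSymmetry_hom_comp_fst, qMap_snd]
      exact hopen
    · refine genericPoint_of_dense (qMap f' π) (pullback.snd π π) ?_ Z hZ ζ hζ
      rw [qMap_snd]
      exact hopen
  haveI : UniversallyInjective π :=
    (UniversallyInjective.iff_diagonal π).mpr (surjective_diagonal π hpi hgen)
  exact geometricallyConnected_comp f' π

variable {X Y : Scheme.{u}} [IsIntegral X] [IsIntegral Y] [IsLocallyNoetherian Y] (f : X ⟶ Y)
  [IsProper f]

/-- **EGA III 4.3.7.** -/
theorem geometricallyConnected
    (hdom : f.base (genericPoint X) ⤳ genericPoint Y)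
    (hopen : ∀ (Y' : Scheme.{u}) (g : Y' ⟶ Y), IrreducibleSpace ↥Y' → IsLocallyNoetherian Y' →
      IsDominant g → ∀ Z ∈ irreducibleComponents ↥(pullback f g),
        Dense ((pullback.snd f g).base '' Z))
    (hrad : ∀ x : X.functionField,
      (∃ q : Polynomial Y.functionField, q ≠ 0 ∧
        Polynomial.eval₂ (CohIII.stalkToFunctionField f (genericPoint Y) hdom) x q = 0) →
      ∃ e : ℕ, x ^ (ringExpChar X.functionField ^ e) ∈
        Set.range (CohIII.stalkToFunctionField f (genericPoint Y) hdom)) :
    GeometricallyConnected f := by
  have hfac : f.toNormalization ≫ f.fromNormalization = f := f.toNormalization_fromNormalization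
  haveI : IsFinite f.fromNormalization :=
    isFinite_fromNormalization f (finite_app_of_isProper f)
  haveI : IsLocallyNoetherian f.normalization :=
    LocallyOfFiniteType.isLocallyNoetherian f.fromNormalization
  haveI := geometricallyConnected_toNormalization f
  -- `f` is dominant, hence so is `π`, hence `π` is surjective
  haveI hfdom : IsDominant f := by
    refine ⟨?_⟩
    rw [DenseRange, dense_iff_closure_eq, Set.eq_univ_iff_forall]
    intro y
    have h1 : genericPoint Y ∈ closure (Set.range f) :=
      closure_mono (Set.singleton_subset_iff.mpr (Set.mem_range_self _)) hdom.mem_closure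
    have h2 : closure {genericPoint Y} ⊆ closure (Set.range f) :=
      closure_minimal (Set.singleton_subset_iff.mpr h1) isClosed_closure
    exact h2 ((genericPoint_specializes y).mem_closure)
  haveI : IsDominant (f.toNormalization ≫ f.fromNormalization) := by rw [hfac]; exact hfdom
  haveI : IsDominant f.fromNormalization := IsDominant.of_comp f.toNormalization f.fromNormalization
  haveI : Surjective f.fromNormalization :=
    surjective_of_isDominant_of_isClosed_range f.fromNormalization
      f.fromNormalization.isClosedMap.isClosed_range
  -- the generic point
  have hξ : f.toNormalization (genericPoint X) = genericPoint f.normalization := by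
    apply eq_genericPoint_of_dense _ (Set.range f.toNormalization) f.toNormalization.denseRange
    rintro _ ⟨x, rfl⟩
    exact ((genericPoint_specializes x).map f.toNormalization.continuous).mem_closure
  -- transport the hypotheses to `f' ≫ π`
  obtain ⟨hdom', hopen', hrad'⟩ : ∃ (hdom' : (f.toNormalization ≫ f.fromNormalization).base
      (genericPoint X) ⤳ genericPoint Y),
      (∀ Z ∈ irreducibleComponents ↥(pullback (f.toNormalization ≫ f.fromNormalization)
          f.fromNormalization),
        Dense ((pullback.snd (f.toNormalization ≫ f.fromNormalization)
          f.fromNormalization).base '' Z)) ∧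
      (∀ x : X.functionField,
        (∃ q : Polynomial Y.functionField, q ≠ 0 ∧
          Polynomial.eval₂ (CohIII.stalkToFunctionField
            (f.toNormalization ≫ f.fromNormalization) (genericPoint Y) hdom') x q = 0) →
        ∃ e : ℕ, x ^ (ringExpChar X.functionField ^ e) ∈
          Set.range (CohIII.stalkToFunctionField
            (f.toNormalization ≫ f.fromNormalization) (genericPoint Y) hdom')) := by
    rw [hfac]
    exact ⟨hdom, hopen _ f.fromNormalization inferInstance inferInstance inferInstance, hrad⟩
  have H := geometricallyConnected_comp_of_dense f.toNormalization f.fromNormalization hξ hdom'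
    hopen' hrad'
  rw [hfac] at H
  exact H

end Main

end Groth.Agent.R2.H57.UnivInj
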