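import Mathlib
import Groth.Agent.Lib.Helper4Branches

/-! A finite algebra `B` over a local ring `A` with at least `length (B/A) + 1` maximal ideals:
all residue fields of `B` are images of `A` and `A + Jac(B) = A`. -/

set_option autoImplicit false
set_option linter.style.haveILetI false

namespace Groth.Agent.R2.H57.Wedge

open IsLocalRing

section ENatAux

theorem enat_eq_zero_of_add_le {N k : ℕ∞} (hN : N ≠ ⊤) (h : N + k ≤ N) : k = 0 := by
  by_contra hk
  have h1 : 1 ≤ k := Order.one_le_iff_ne_zero.mpr hk
  have h2 : N + 1 ≤ N := (add_le_add_right h1 N).trans h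
  exact absurd ((ENat.add_one_le_iff hN).mp h2) (lt_irrefl _)

end ENatAux

variable {A : Type*} [CommRing A] [IsLocalRing A] {B : Type*} [CommRing B] [Algebra A B]
  [Module.Finite A B]

/-- the map `B → ∏_n B/n` over all maximal ideals. -/
noncomputable def piMap (A : Type*) [CommRing A] (B : Type*) [CommRing B] [Algebra A B] :
    B →ₗ[A] (∀ n : MaximalSpectrum B, B ⧸ n.asIdeal) :=
  LinearMap.pi (fun n => (Ideal.Quotient.mkₐ A n.asIdeal).toLinearMap)

omit [IsLocalRing A] [Module.Finite A B] in
theorem piMap_apply (b : B) (n : MaximalSpectrum B) :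
    piMap A B b n = Ideal.Quotient.mk n.asIdeal b := rfl

omit [IsLocalRing A] [Module.Finite A B] in
theorem piMap_surjective [Finite (MaximalSpectrum B)] : Function.Surjective (piMap A B) := by
  intro x
  have hcop : Pairwise (Function.onFun IsCoprime (fun n : MaximalSpectrum B => n.asIdeal)) := by
    intro n₁ n₂ hne
    haveI := n₁.isMaximal
    haveI := n₂.isMaximal
    exact Ideal.isCoprime_of_isMaximal (fun h => hne (MaximalSpectrum.ext h))
  obtain ⟨r, hr⟩ := Ideal.pi_quotient_surjective hcop x
  exact ⟨r, funext fun n => hr n⟩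

omit [Module.Finite A B] in
theorem one_le_length_quotient (n : MaximalSpectrum B) :
    1 ≤ Module.length A (B ⧸ n.asIdeal) := by
  rw [Order.one_le_iff_ne_zero, Ne, Module.length_eq_zero_iff]
  intro hsub
  haveI := n.isMaximal
  haveI : Nontrivial (B ⧸ n.asIdeal) := Ideal.Quotient.nontrivial_iff.mpr n.isMaximal.ne_top
  exact not_subsingleton _ hsub

/-- a finite algebra over a local ring has at most `length (B/A) + 1` maximal ideals. -/
theorem card_maximalSpectrum_le :
    ENat.card (MaximalSpectrum B) ≤
      Module.length A (B ⧸ LinearMap.range (Algebra.linearMap A B)) + 1 := by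
  classical
  apply Groth.Agent.Lib.Helper4.Branches.card_le_of_forall_finset
  intro s
  calc (s.card : ℕ∞) = ∑ _n ∈ s, (1 : ℕ∞) := by simp
    _ ≤ ∑ n ∈ s, Module.length A (B ⧸ n.asIdeal) :=
        Finset.sum_le_sum (fun n _ => one_le_length_quotient n)
    _ ≤ _ := (Groth.Agent.Lib.Helper4.Branches.sum_length_le s).trans
        Groth.Agent.Lib.Helper4.Branches.length_quotient_smul_le

theorem finite_maximalSpectrum
    (hlt : Module.length A (B ⧸ LinearMap.range (Algebra.linearMap A B)) < ⊤) :
    Finite (MaximalSpectrum B) := by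
  apply ENat.card_lt_top.mp
  refine lt_of_le_of_lt (card_maximalSpectrum_le (A := A)) ?_
  exact ENat.add_lt_top.mpr ⟨hlt, ENat.one_lt_top⟩

/-- **Main length lemma.** -/
theorem wedge_of_card_ge [Finite (MaximalSpectrum B)]
    (hcard : Module.length A (B ⧸ LinearMap.range (Algebra.linearMap A B)) + 1 ≤
      ENat.card (MaximalSpectrum B)) :
    (∀ n : MaximalSpectrum B, Function.Surjective
      ((Ideal.Quotient.mk n.asIdeal).comp (algebraMap A B))) ∧
    ∀ b : B, (∃ a : A, ∀ n : MaximalSpectrum B, b - algebraMap A B a ∈ n.asIdeal) →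
      b ∈ (algebraMap A B).range := by
  classical
  haveI := Fintype.ofFinite (MaximalSpectrum B)
  set R : Submodule A B := LinearMap.range (Algebra.linearMap A B) with hR
  set PQ := (∀ n : MaximalSpectrum B, B ⧸ n.asIdeal)
  set W : Submodule A PQ := R.map (piMap A B) with hW
  -- `W` has length at most one
  have hWlen : Module.length A W ≤ 1 := by
    let g : A →ₗ[A] PQ := (piMap A B).comp (Algebra.linearMap A B)
    have hgW : ∀ a, g a ∈ W := fun a => ⟨algebraMap A B a, ⟨a, rfl⟩, rfl⟩
    have hker : (maximalIdeal A : Submodule A A) ≤ LinearMap.ker (g.codRestrict W hgW) := by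
      intro a ha
      rw [LinearMap.mem_ker]
      apply Subtype.ext
      funext n
      show Ideal.Quotient.mk n.asIdeal (algebraMap A B a) = 0
      rw [Ideal.Quotient.eq_zero_iff_mem]
      haveI := n.isMaximal
      have : a ∈ n.asIdeal.comap (algebraMap A B) := by
        rw [Groth.Agent.Lib.Helper4.Branches.comap_eq_maximalIdeal]; exact ha
      exact this
    let g₁ : (A ⧸ maximalIdeal A) →ₗ[A] W := Submodule.liftQ _ (g.codRestrict W hgW) hker
    have hg₁ : Function.Surjective g₁ := by
      rintro ⟨_, b, ⟨a, rfl⟩, rfl⟩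
      exact ⟨Submodule.Quotient.mk a, rfl⟩
    refine (Module.length_le_of_surjective g₁ hg₁).trans ?_
    haveI : IsSimpleModule A (A ⧸ maximalIdeal A) := by
      rw [isSimpleModule_iff_isCoatom]
      exact (maximalIdeal.isMaximal A).out
    rw [Module.length_eq_one_iff.mpr inferInstance]
  -- the induced map on quotients
  let q : (B ⧸ R) →ₗ[A] (PQ ⧸ W) := R.mapQ W (piMap A B) (Submodule.le_comap_map _ _)
  have hq : Function.Surjective q := by
    intro x
    obtain ⟨y, rfl⟩ := Submodule.Quotient.mk_surjective _ x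
    obtain ⟨b, rfl⟩ := piMap_surjective (A := A) y
    exact ⟨Submodule.Quotient.mk b, rfl⟩
  have hlen1 : Module.length A (B ⧸ R) =
      Module.length A (LinearMap.ker q) + Module.length A (PQ ⧸ W) :=
    Module.length_eq_add_of_exact (LinearMap.ker q).subtype q (Submodule.subtype_injective _) hq
      (LinearMap.exact_subtype_ker_map q)
  have hlen2 : Module.length A PQ = Module.length A W + Module.length A (PQ ⧸ W) :=
    Module.length_eq_add_of_exact W.subtype W.mkQ (Submodule.subtype_injective _)
      (Submodule.mkQ_surjective _) (LinearMap.exact_subtype_mkQ _)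
  have hlen3 : Module.length A PQ = ∑ n : MaximalSpectrum B, Module.length A (B ⧸ n.asIdeal) :=
    Module.length_pi_of_fintype _ _
  set N : ℕ∞ := ENat.card (MaximalSpectrum B) with hNdef
  have hNtop : N ≠ ⊤ := by
    rw [hNdef, ENat.card_eq_coe_fintype_card]; exact ENat.natCast_ne_top _
  have hNsum : N = ∑ _n : MaximalSpectrum B, (1 : ℕ∞) := by
    rw [hNdef, ENat.card_eq_coe_fintype_card]; simp
  set D : ℕ∞ := ∑ n : MaximalSpectrum B, (Module.length A (B ⧸ n.asIdeal) - 1) with hD
  have hsum : ∑ n : MaximalSpectrum B, Module.length A (B ⧸ n.asIdeal) = N + D := by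
    rw [hNsum, hD, ← Finset.sum_add_distrib]
    exact Finset.sum_congr rfl (fun n _ => (add_tsub_cancel_of_le (one_le_length_quotient n)).symm)
  -- main inequality
  have hmain : N + (D + Module.length A (LinearMap.ker q)) ≤ N := by
    calc N + (D + Module.length A (LinearMap.ker q))
        = Module.length A PQ + Module.length A (LinearMap.ker q) := by
          rw [hlen3, hsum, add_assoc]
      _ ≤ (1 + Module.length A (PQ ⧸ W)) + Module.length A (LinearMap.ker q) := by
          rw [hlen2]; gcongr
      _ = Module.length A (B ⧸ R) + 1 := by rw [hlen1]; ring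
      _ ≤ N := hcard
  have hzero := enat_eq_zero_of_add_le hNtop hmain
  have hD0 : D = 0 := (add_eq_zero.mp hzero).1
  have hK0 : Module.length A (LinearMap.ker q) = 0 := (add_eq_zero.mp hzero).2
  refine ⟨fun n => ?_, fun b hb => ?_⟩
  · -- surjectivity onto residue fields
    have h1 : Module.length A (B ⧸ n.asIdeal) - 1 = 0 := by
      rw [hD] at hD0
      exact (Finset.sum_eq_zero_iff.mp hD0) n (Finset.mem_univ _)
    have h2 : Module.length A (B ⧸ n.asIdeal) = 1 :=
      le_antisymm (tsub_eq_zero_iff_le.mp h1) (one_le_length_quotient n)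
    haveI : IsSimpleModule A (B ⧸ n.asIdeal) := Module.length_eq_one_iff.mp h2
    let f : A →ₗ[A] B ⧸ n.asIdeal :=
      (Ideal.Quotient.mkₐ A n.asIdeal).toLinearMap.comp (Algebra.linearMap A B)
    have hf : LinearMap.range f = ⊤ := by
      rcases eq_bot_or_eq_top (LinearMap.range f) with h | h
      · exfalso
        haveI := n.isMaximal
        haveI : Nontrivial (B ⧸ n.asIdeal) :=
          Ideal.Quotient.nontrivial_iff.mpr n.isMaximal.ne_top
        have h1 : f 1 ∈ LinearMap.range f := ⟨1, rfl⟩
        rw [h, Submodule.mem_bot] at h1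
        have : (1 : B ⧸ n.asIdeal) = 0 := by
          rw [← h1]; simp [f]
        exact one_ne_zero this
      · exact h
    intro y
    have : y ∈ LinearMap.range f := by rw [hf]; trivial
    obtain ⟨a, ha⟩ := this
    exact ⟨a, ha⟩
  · obtain ⟨a, ha⟩ := hb
    haveI : Subsingleton (LinearMap.ker q) := Module.length_eq_zero_iff.mp hK0
    have hmem : (Submodule.Quotient.mk b : B ⧸ R) ∈ LinearMap.ker q := by
      rw [LinearMap.mem_ker]
      show (Submodule.Quotient.mk (piMap A B b) : PQ ⧸ W) = 0
      rw [Submodule.Quotient.mk_eq_zero]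
      refine ⟨algebraMap A B a, ⟨a, rfl⟩, ?_⟩
      funext n
      rw [piMap_apply, piMap_apply]
      symm
      rw [Ideal.Quotient.mk_eq_mk_iff_sub_mem]
      exact ha n
    have h0 : (⟨Submodule.Quotient.mk b, hmem⟩ : LinearMap.ker q) = 0 := Subsingleton.elim _ _
    have h1 : (Submodule.Quotient.mk b : B ⧸ R) = 0 := congrArg Subtype.val h0
    rw [Submodule.Quotient.mk_eq_zero] at h1
    obtain ⟨c, hc⟩ := h1
    exact ⟨c, hc⟩

end Groth.Agent.R2.H57.Wedge
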