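import Mathlib
import Groth.Prelude.Def_Curv2
import Groth.Prelude.Def_Brnch
import Groth.Prelude.Def_Found
import Groth.Agent.R2.H57Wedge
import Groth.Agent.R2.H57BranchB
import Groth.Agent.Lib.Helper4Branches
import Groth.Agent.Lib.Helper4TotalFrac

/-! Geometric branches of a local ring with separably closed residue field; DVR property of the local
rings of the normalization of a reduced one-dimensional Noetherian local ring. -/

set_option autoImplicit false
set_option linter.style.haveILetI false

namespace Groth.Agent.R2.H57.WedgeB

open IsLocalRing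

universe u

section Emb

variable (A : Type u) [CommRing A] [IsLocalRing A]

/-- over a separably closed residue field, each maximal ideal of the normalization carries at most one
embedding of its residue field. -/
theorem subsingleton_emb [IsSepClosed (ResidueField A)] (m' : MaximalSpectrum (CAlg2.normRed A)) :
    Subsingleton (Brnch.Emb A m') := by
  letI algAB : Algebra A (CAlg2.normRed A) :=
    ((algebraMap (CAlg2.red A) (CAlg2.normRed A)).comp (Ideal.Quotient.mk (nilradical A))).toAlgebra
  haveI hint : Algebra.IsIntegral A (CAlg2.normRed A) :=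
    ⟨RingHom.IsIntegral.trans _ _ (RingHom.isIntegral_of_surjective _ Ideal.Quotient.mk_surjective)
      (algebraMap_isIntegral_iff.mpr inferInstance)⟩
  haveI := m'.isMaximal
  haveI : m'.asIdeal.LiesOver (maximalIdeal A) :=
    ⟨(eq_maximalIdeal (Ideal.isMaximal_comap_of_isIntegral_of_isMaximal m'.asIdeal)).symm⟩
  letI : Field (CAlg2.normRed A ⧸ m'.asIdeal) := Ideal.Quotient.field _
  letI algκL : Algebra (ResidueField A) (CAlg2.normRed A ⧸ m'.asIdeal) :=
    Ideal.Quotient.algebraOfLiesOver m'.asIdeal (maximalIdeal A)
  haveI : IsScalarTower A (ResidueField A) (CAlg2.normRed A ⧸ m'.asIdeal) :=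
    Ideal.Quotient.isScalarTower_of_liesOver A m'.asIdeal (maximalIdeal A)
  haveI : Algebra.IsIntegral (ResidueField A) (CAlg2.normRed A ⧸ m'.asIdeal) := by
    refine ⟨fun x => ?_⟩
    obtain ⟨b, rfl⟩ := Ideal.Quotient.mk_surjective x
    have hb : IsIntegral A b := Algebra.IsIntegral.isIntegral b
    have h1 : IsIntegral A (Ideal.Quotient.mkₐ A m'.asIdeal b) := hb.map _
    exact h1.tower_top
  haveI : Algebra.IsAlgebraic (ResidueField A) (CAlg2.normRed A ⧸ m'.asIdeal) :=
    Algebra.IsIntegral.isAlgebraic
  haveI : IsPurelyInseparable (ResidueField A) (CAlg2.normRed A ⧸ m'.asIdeal) := inferInstance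
  refine ⟨fun σ τ => ?_⟩
  apply Subtype.ext
  apply IsPurelyInseparable.injective_comp_algebraMap (ResidueField A)
    (CAlg2.normRed A ⧸ m'.asIdeal) (AlgebraicClosure (ResidueField A))
  ext r
  obtain ⟨a, rfl⟩ := residue_surjective r
  have h2 : algebraMap (ResidueField A) (CAlg2.normRed A ⧸ m'.asIdeal) (residue A a) =
      Brnch.toResidue A m' a := rfl
  show σ.1 (algebraMap (ResidueField A) _ (residue A a)) =
    τ.1 (algebraMap (ResidueField A) _ (residue A a))
  rw [h2]
  have hσ := congrArg (fun f => f a) σ.2
  have hτ := congrArg (fun f => f a) τ.2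
  simp only [RingHom.comp_apply] at hσ hτ
  rw [hσ, hτ]

/-- for a reduced local ring with finitely many minimal primes and separably closed residue field, the number
of geometric branches is at most the number of maximal ideals of the normalization. -/
theorem numGeomBranches_le [IsSepClosed (ResidueField A)] [IsReduced A]
    (hmin : (minimalPrimes A).Finite) :
    Brnch.numGeomBranches A ≤
      ENat.card (MaximalSpectrum (integralClosure A (FractionRing A))) := by
  unfold Brnch.numGeomBranches
  rw [if_pos hmin]
  have hbij : Function.Bijective (Ideal.Quotient.mk (nilradical A)) := by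
    refine ⟨?_, Ideal.Quotient.mk_surjective⟩
    rw [injective_iff_map_eq_zero]
    intro a ha
    rw [Ideal.Quotient.eq_zero_iff_mem, nilradical_eq_zero] at ha
    exact ha
  let ρ : A ≃+* CAlg2.red A := RingEquiv.ofBijective (Ideal.Quotient.mk (nilradical A)) hbij
  let e : integralClosure A (FractionRing A) ≃+* CAlg2.normRed A :=
    Groth.Agent.Lib.Helper4.Branches.normalizationEquiv ρ
  -- first projection is injective
  have h1 : ENat.card (Σ m' : MaximalSpectrum (CAlg2.normRed A), Brnch.Emb A m') ≤
      ENat.card (MaximalSpectrum (CAlg2.normRed A)) := by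
    apply ENat.card_le_card_of_injective (f := Sigma.fst)
    rintro ⟨m₁, σ₁⟩ ⟨m₂, σ₂⟩ h
    obtain rfl : m₁ = m₂ := h
    haveI := subsingleton_emb A m₁
    rw [Subsingleton.elim σ₁ σ₂]
  refine h1.trans ?_
  let F : MaximalSpectrum (CAlg2.normRed A) →
      MaximalSpectrum (integralClosure A (FractionRing A)) := fun n =>
    ⟨n.asIdeal.comap (e : integralClosure A (FractionRing A) →+* CAlg2.normRed A),
      haveI := n.isMaximal; Ideal.comap_isMaximal_of_surjective _ e.surjective⟩
  apply ENat.card_le_card_of_injective (f := F)
  intro n₁ n₂ h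
  apply MaximalSpectrum.ext
  have h' : n₁.asIdeal.comap (e : integralClosure A (FractionRing A) →+* CAlg2.normRed A) =
      n₂.asIdeal.comap (e : integralClosure A (FractionRing A) →+* CAlg2.normRed A) :=
    congrArg MaximalSpectrum.asIdeal h
  exact Ideal.comap_injective_of_surjective _ e.surjective h'

end Emb

section DVR

variable (A : Type u) [CommRing A] [IsNoetherianRing A] [IsLocalRing A] [IsReduced A]

/-- the local rings of the finite normalization of a reduced one-dimensional Noetherian local ring at its
maximal ideals are discrete valuation rings. -/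
theorem isDVR_localization (hdim : ringKrullDim A = 1)
    (hfin : Module.Finite A (integralClosure A (FractionRing A)))
    (M : Ideal (integralClosure A (FractionRing A))) [M.IsMaximal] :
    ∃ _ : IsDomain (Localization.AtPrime M), IsDiscreteValuationRing (Localization.AtPrime M) := by
  obtain ⟨hdom, -⟩ := BranchB.localization_normal A M
  haveI := hdom
  refine ⟨hdom, ?_⟩
  obtain ⟨ϖ, hϖ, hϖ0⟩ := BranchB.exists_uniformizer A hdim hfin M
  haveI : IsNoetherianRing (integralClosure A (FractionRing A)) := IsNoetherianRing.of_finite A _
  haveI : IsNoetherianRing (Localization.AtPrime M) :=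
    IsLocalization.isNoetherianRing M.primeCompl _ inferInstance
  have hnf : ¬ IsField (Localization.AtPrime M) := by
    rw [IsLocalRing.isField_iff_maximalIdeal_eq, hϖ, Ideal.span_singleton_eq_bot]
    exact hϖ0
  have hprinc : (maximalIdeal (Localization.AtPrime M)).IsPrincipal :=
    ⟨⟨ϖ, by rw [hϖ]⟩⟩
  exact ((IsDiscreteValuationRing.TFAE (Localization.AtPrime M) hnf).out 0 4).mpr hprinc

end DVR

section Res

/-- surjectivity onto the residue field of the localization at a maximal ideal. -/
theorem residue_surjective_of_quotient {A B : Type*} [CommRing A] [CommRing B] [Algebra A B]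
    (M : Ideal B) [M.IsMaximal]
    (h : Function.Surjective ((Ideal.Quotient.mk M).comp (algebraMap A B))) :
    Function.Surjective (⇑(IsLocalRing.residue (Localization.AtPrime M)) ∘
      ⇑(algebraMap B (Localization.AtPrime M)) ∘ ⇑(algebraMap A B)) := by
  intro y
  obtain ⟨z, rfl⟩ := IsLocalRing.residue_surjective y
  obtain ⟨x, hx⟩ := (IsLocalization.AtPrime.equivQuotMaximalIdeal M
    (Localization.AtPrime M)).surjective (Ideal.Quotient.mk _ z)
  obtain ⟨a, rfl⟩ := h x
  refine ⟨a, ?_⟩
  rw [RingHom.comp_apply, IsLocalization.AtPrime.equivQuotMaximalIdeal_apply_mk] at hx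
  exact hx

end Res

end Groth.Agent.R2.H57.WedgeB
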