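import Mathlib
import Groth.Prelude.Def_Coh
import Groth.Prelude.Def_CohB1
import Groth.Prelude.Def_Pic
import Groth.Prelude.Def_Twist2
import Groth.Prelude.Def_FlatMod2
import Groth.Prelude.Def_SecTwist

/-!
# PROJ:h399 (lead): interface for S2427 (Hartshorne III.9.9)

`Y` noetherian, `i : X ⟶ P^r_Y` a closed immersion, `f = i ≫ toBase`, `F` coherent on `X`,
`F(n) = F ⊗ i^* O(n)`.  Then `F` is flat over `Y` iff `f_* F(n)` is finite locally free for `n ≥ n₀`.

Packages (named `Prop`s, to be proved in `R2/H<k>H399*.lean`):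

* forward: `FW1Stmt` (Serre vanishing on `f⁻¹V`), `FW2Stmt` (flatness and invertible twists),
  `FW3Stmt` (flat + acyclic ⇒ sections finite flat), `FW4Stmt` (finite flat sections ⇒ finite locally free);
* backward: `BW1Stmt` (finite locally free ⇒ flat sections), `BW2Stmt` (key: flatness of sections over `X_s`
  from flatness of the global sections of the twists), `BW3Stmt` (flat sections over an affine ⇒ flat stalks).
-/

set_option autoImplicit false

universe u

open CategoryTheory CategoryTheory.Limits AlgebraicGeometry TopologicalSpace Opposite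

namespace Groth.Agent.R2.Lead.H399Spec

/-- the twist `F(n) = F ⊗ i^* O(n)` of S2427. -/
noncomputable abbrev tw (r : ℕ) {X Y : Scheme.{u}} (i : X ⟶ CohB1.ProjSpaceOver r Y) (F : X.Modules)
    (n : ℤ) : X.Modules :=
  CohB1.tensorMod F ((Scheme.Modules.pullback i).obj (Twist.twistOver r Y n))

/-- the `A`-module structure on the sections of an `O_X`-module over an open `U`, through a ring
homomorphism `φ : A → Γ(X, ⊤)`. -/
noncomputable abbrev modOf {A : Type u} [CommRing A] {X : Scheme.{u}} (φ : A →+* Γ(X, ⊤))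
    (M : X.Modules) (U : X.Opens) : Module A Γ(M, U) :=
  Module.compHom Γ(M, U) ((X.presheaf.map (homOfLE (le_top : U ≤ ⊤)).op).hom.comp φ)

/-- **S2427, forward**. -/
def FwdStmt : Prop :=
  ∀ (r : ℕ) {X Y : Scheme.{u}} [IsNoetherian Y] (i : X ⟶ CohB1.ProjSpaceOver r Y) [IsClosedImmersion i]
    (F : X.Modules), Coh.IsCoh F →
    FlatMod.IsFlatOver (i ≫ CohB1.ProjSpaceOver.toBase r Y) F →
      ∃ n₀ : ℤ, ∀ n : ℤ, n₀ ≤ n →
        FlatMod.IsFinLocFree ((Coh.push (i ≫ CohB1.ProjSpaceOver.toBase r Y)).obj (tw r i F n))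

/-- **S2427, backward**. -/
def BwdStmt : Prop :=
  ∀ (r : ℕ) {X Y : Scheme.{u}} [IsNoetherian Y] (i : X ⟶ CohB1.ProjSpaceOver r Y) [IsClosedImmersion i]
    (F : X.Modules), Coh.IsCoh F →
    (∃ n₀ : ℤ, ∀ n : ℤ, n₀ ≤ n →
        FlatMod.IsFinLocFree ((Coh.push (i ≫ CohB1.ProjSpaceOver.toBase r Y)).obj (tw r i F n))) →
      FlatMod.IsFlatOver (i ≫ CohB1.ProjSpaceOver.toBase r Y) F

/-- [FW1] Serre vanishing for the twists over an affine open of the base. -/
def FW1Stmt : Prop :=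
  ∀ (r : ℕ) {X Y : Scheme.{u}} [IsNoetherian Y] (i : X ⟶ CohB1.ProjSpaceOver r Y) [IsClosedImmersion i]
    (F : X.Modules), Coh.IsCoh F → ∀ (V : Y.Opens), IsAffineOpen V →
      ∃ n₀ : ℤ, ∀ n : ℤ, n₀ ≤ n → ∀ p : ℕ, 0 < p →
        Subsingleton (Coh.HH ((i ≫ CohB1.ProjSpaceOver.toBase r Y) ⁻¹ᵁ V).toScheme
          ((tw r i F n).restrict ((i ≫ CohB1.ProjSpaceOver.toBase r Y) ⁻¹ᵁ V).ι) p)

/-- [FW2] flatness over the base is insensitive to twisting by an invertible module. -/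
def FW2Stmt : Prop :=
  ∀ {X Y : Scheme.{u}} (f : X ⟶ Y) (F L : X.Modules), PicF.IsInvertible L →
    FlatMod.IsFlatOver f F → FlatMod.IsFlatOver f (CohB1.tensorMod F L)

/-- [FW3] a coherent module, flat over the base and acyclic over `f⁻¹V`, has finite flat sections there. -/
def FW3Stmt : Prop :=
  ∀ {X Y : Scheme.{u}} (f : X ⟶ Y) [IsProper f] [IsLocallyNoetherian Y] (G : X.Modules), Coh.IsCoh G →
    FlatMod.IsFlatOver f G → ∀ (V : Y.Opens), IsAffineOpen V →
      (∀ p : ℕ, 0 < p → Subsingleton (Coh.HH (f ⁻¹ᵁ V).toScheme (G.restrict (f ⁻¹ᵁ V).ι) p)) →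
        Module.Finite Γ(Y, V) Γ((Coh.push f).obj G, V) ∧ Module.Flat Γ(Y, V) Γ((Coh.push f).obj G, V)

/-- [FW4] a quasi-coherent module whose sections over the members of an affine cover are finite and flat is
finite locally free. -/
def FW4Stmt : Prop :=
  ∀ {Y : Scheme.{u}} [IsLocallyNoetherian Y] (M : Y.Modules) [M.IsQuasicoherent],
    (∀ y : Y, ∃ V : Y.Opens, IsAffineOpen V ∧ y ∈ V ∧
      Module.Finite Γ(Y, V) Γ(M, V) ∧ Module.Flat Γ(Y, V) Γ(M, V)) → FlatMod.IsFinLocFree M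

/-- [BW1] the sections of a finite locally free quasi-coherent module over an affine open are flat. -/
def BW1Stmt : Prop :=
  ∀ {Y : Scheme.{u}} (M : Y.Modules) [M.IsQuasicoherent], FlatMod.IsFinLocFree M →
    ∀ (V : Y.Opens), IsAffineOpen V → Module.Flat Γ(Y, V) Γ(M, V)

/-- [BW2] (key) `X` quasi-compact quasi-separated, `L` invertible with a global section `s`, `G`
quasi-coherent, `φ : A → Γ(X, ⊤)`: if the global sections of all `(G ⊗ L^n) ⊗ L^k`, `n ≥ n₀`, are flat over `A`,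
then so are the sections of `G` over `X_s`. -/
def BW2Stmt : Prop :=
  ∀ {A : Type u} [CommRing A] (X : Scheme.{u}) [CompactSpace X] [QuasiSeparatedSpace X]
    (φ : A →+* Γ(X, ⊤)) (L : X.Modules), PicF.IsInvertible L → ∀ (s : Coh.structureModule X ⟶ L)
    (G : X.Modules) [G.IsQuasicoherent] (n₀ : ℕ),
    (∀ n k : ℕ, n₀ ≤ n →
      @Module.Flat A Γ(CohB1.tensorMod (CohB1.tensorMod G (CohB1.tensorPow L n)) (CohB1.tensorPow L k), ⊤)
        _ _ (modOf φ _ ⊤)) →
      @Module.Flat A Γ(G, CohB1.genLocus L s) _ _ (modOf φ G (CohB1.genLocus L s))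

/-- [BW3] flat sections over an affine open give flat stalks over the base. -/
def BW3Stmt : Prop :=
  ∀ {X Y : Scheme.{u}} (f : X ⟶ Y) (G : X.Modules) [G.IsQuasicoherent] (V : Y.Opens), IsAffineOpen V →
    ∀ (W : X.Opens), IsAffineOpen W → ∀ (hWV : W ≤ f ⁻¹ᵁ V),
      @Module.Flat Γ(Y, V) Γ(G, W) _ _ (Module.compHom Γ(G, W) (f.appLE V W hWV).hom) →
        ∀ x : X, x ∈ W → FlatMod.IsFlatOverAt f G x

end Groth.Agent.R2.Lead.H399Spec
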