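import Mathlib
import Groth.Prelude.Def_RelProj
import Groth.Prelude.Def_Coh
import Groth.Prelude.Def_Pic
import Groth.Prelude.Def_CohB1
import Groth.Prelude.Def_LCI2
import Groth.Prelude.Def_Twist2

/-!
# PROJ:relproj — the packages as `Prop`s (lead)

Namespace `Groth.Agent.R2.Lead.RelProjSpec`.

* `R1Stmt` (= the frozen S9717): an H-projective morphism (closed immersion into `P^n_S` followed by the projection)
  is projective in the sense of `RelProj.IsProjective` (isomorphic over `S` to the relative `Proj` of a quasi-coherent
  graded algebra generated in degree one, with degree-one part of finite type).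
* `R2Stmt`: for a quasi-compact immersion `i : X ⟶ P^n_S`, the module `i^* O(1)` is ample relative to
  `i ≫ toBase`.
* `R4Stmt`: projective morphisms are proper.  `R4AffStmt`: over an affine base they are H-projective.
-/

set_option autoImplicit false
universe u

open CategoryTheory CategoryTheory.Limits AlgebraicGeometry

namespace Groth.Agent.R2.Lead.RelProjSpec

/-- [R1] H-projective ⇒ projective (the frozen S9717). -/
def R1Stmt : Prop :=
  ∀ {X S : Scheme.{u}} (f : X ⟶ S), RelProj.IsHProjective f → RelProj.IsProjective f

/-- [R2] `i^* O(1)` is relatively ample for a quasi-compact immersion into `P^n_S`. -/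
def R2Stmt : Prop :=
  ∀ {X S : Scheme.{u}} (n : ℕ) (i : X ⟶ CohB1.ProjSpaceOver n S), IsImmersion i → QuasiCompact i →
    RelAmple.IsRelAmple (i ≫ CohB1.ProjSpaceOver.toBase n S)
      ((Scheme.Modules.pullback i).obj (Twist.twistOver n S 1))

/-- [R4] projective ⇒ proper. -/
def R4Stmt : Prop :=
  ∀ {X S : Scheme.{u}} (f : X ⟶ S), RelProj.IsProjective f → IsProper f

/-- [R4, affine form] over an affine base, projective ⇒ H-projective. -/
def R4AffStmt : Prop :=
  ∀ {X S : Scheme.{u}} [IsAffine S] (f : X ⟶ S), RelProj.IsProjective f → RelProj.IsHProjective f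

end Groth.Agent.R2.Lead.RelProjSpec
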