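import Mathlib
import Groth.Agent.R2.LeadRelProjSpec
import Groth.Agent.R2.H55RelSerreB
import Groth.Agent.Lib.Helper23AmpleIso
import Groth.Agent.Lib.Helper6Graded
import Groth.Agent.S3584
import Groth.Agent.S9815
import Groth.Agent.S9705

/-!
# PROJ:relproj, package R2 (lead): `i^* O(1)` is relatively ample for a quasi-compact immersion into `P^n_S`
-/

set_option autoImplicit false
universe u

open CategoryTheory CategoryTheory.Limits AlgebraicGeometry TopologicalSpace Opposite

namespace Groth.Agent.R2.Lead.RelProjR2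

open Groth.Agent.R2.Lead.RelProjSpec Groth.Agent.R2.H55.RelSerreB

/-- `O(1)` on `P^n_B` is ample. -/
theorem isAmple_twistProjSpace_one (n : ℕ) (B : Type u) [CommRing B] :
    CohB1.IsAmple (Twist.twistProjSpace n B 1) := by
  classical
  let s : Finset (MvPolynomial (Fin (n + 1)) B) := Finset.univ.image MvPolynomial.X
  have hs1 : ∀ f ∈ s, f ∈ CohB1.polyGrading n B 1 := by
    intro f hf
    obtain ⟨i, -, rfl⟩ := Finset.mem_image.1 hf
    exact (MvPolynomial.mem_homogeneousSubmodule _ _).2 (MvPolynomial.isHomogeneous_X B i)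
  have hs : (HomogeneousIdeal.irrelevant (CohB1.polyGrading n B)).toIdeal = Ideal.span (s : Set _) := by
    apply Groth.Agent.Lib.Helper6.irrelevant_eq_span_of_adjoin_eq_top
    · intro e he
      exact ⟨1, one_pos, hs1 e he⟩
    · rw [eq_top_iff]
      intro p hp0
      clear hp0
      induction p using MvPolynomial.induction_on with
      | C a =>
        have : (MvPolynomial.C a : MvPolynomial (Fin (n + 1)) B) =
            algebraMap (CohB1.polyGrading n B 0) _ ⟨MvPolynomial.C a,
              (MvPolynomial.mem_homogeneousSubmodule _ _).2 (MvPolynomial.isHomogeneous_C _ a)⟩ := rfl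
        rw [this]
        exact Subalgebra.algebraMap_mem _ _
      | add p q hp hq => exact Subalgebra.add_mem _ hp hq
      | mul_X p i hp =>
        refine Subalgebra.mul_mem _ hp (Algebra.subset_adjoin ?_)
        exact Finset.mem_coe.2 (Finset.mem_image.2 ⟨i, Finset.mem_univ _, rfl⟩)
  exact Groth.Agent.S3584.result (CohB1.polyGrading n B) s hs1 hs

/-- **[R2]** -/
theorem r2 : R2Stmt.{u} := by
  intro X S n i hi hqc
  have hqcπ : QuasiCompact (i ≫ CohB1.ProjSpaceOver.toBase n S) := by
    have : IsProper (CohB1.ProjSpaceOver.toBase n S) := Groth.Agent.S9705.isProper_toBase n S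
    infer_instance
  refine ⟨hqcπ, fun V => ?_⟩
  obtain ⟨a⟩ := nonempty_restrict_pullback_twistOver_iso n i
    (i ≫ CohB1.ProjSpaceOver.toBase n S) rfl V.1 V.2 1
  have hc : CompactSpace ↥(((i ≫ CohB1.ProjSpaceOver.toBase n S) ⁻¹ᵁ V.1 : X.Opens) : Scheme.{u}) :=
    isCompact_iff_compactSpace.1
      (QuasiCompact.isCompact_preimage (f := i ≫ CohB1.ProjSpaceOver.toBase n S) _ V.1.2 V.2.isCompact)
  have himm : IsImmersion (chartImm n i (i ≫ CohB1.ProjSpaceOver.toBase n S) rfl V.1 V.2) := by
    unfold chartImm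
    infer_instance
  have hemb : Topology.IsEmbedding (chartImm n i (i ≫ CohB1.ProjSpaceOver.toBase n S) rfl V.1 V.2) :=
    (chartImm n i (i ≫ CohB1.ProjSpaceOver.toBase n S) rfl V.1 V.2).isEmbedding
  exact Groth.Agent.Lib.Helper23.AmpleIso.isAmple_of_iso a.symm
    (Groth.Agent.S9815.result _ hemb _ (isAmple_twistProjSpace_one n Γ(S, V.1)))

end Groth.Agent.R2.Lead.RelProjR2
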