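import Mathlib
import Groth.Agent.R2.LeadH399Spec
import Groth.Agent.R2.LeadRelProjR2
import Groth.Agent.R2.H16CbcFIGlob3
import Groth.Agent.R2.H55AmpleVan
import Groth.Agent.R2.H55RelSerreB
import Groth.Agent.R2.H87PnTwist
import Groth.Agent.Lib.Helper23RestrTensor
import Groth.Agent.Lib.Helper23PB
import Groth.Agent.S0051
import Groth.Agent.S9705

/-!
# PROJ:h399, package [FW1] (helper58): Serre vanishing for the twists over an affine open of the base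

`Y` noetherian, `i : X ⟶ P^r_Y` a closed immersion, `f = i ≫ toBase`, `F` coherent on `X`, `V ⊆ Y` affine open.
Then `H^p(f⁻¹V, F(n)|) = 0` for `p > 0` and `n ≫ 0`.

Route: `f⁻¹V ⟶ Spec Γ(Y, V)` is proper over a noetherian ring, `(i^* O(1))|_{f⁻¹V}` is ample
(lead `RelProjR2.r2`), so S0051 gives the vanishing for `F| ⊗ ((i^*O(1))|)^{⊗ n}`; finally
`F(n)| ≅ F| ⊗ ((i^*O(1))|)^{⊗ n}` for `n ≥ 0`.
-/

set_option autoImplicit false
set_option backward.isDefEq.respectTransparency.types false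
set_option linter.style.haveILetI false

universe u

open CategoryTheory CategoryTheory.Limits AlgebraicGeometry TopologicalSpace Opposite

namespace Groth.Agent.R2.H58.H399

open Groth.Agent.R2.Lead Groth.Agent.R2.Lead.H399Spec

/-- `O(k) ≅ O(1)^{⊗ k}` on `P^r_Y`, `k ≥ 0`. -/
theorem nonempty_twistOver_iso_tensorPow (r : ℕ) (Y : Scheme.{u}) (k : ℕ) :
    Nonempty (Twist.twistOver r Y (k : ℤ) ≅ CohB1.tensorPow (Twist.twistOver r Y 1) k) := by
  obtain ⟨a⟩ := Groth.Agent.R2.H55.AmpleVan.nonempty_tensorPow_twist_one_iso r (ULift.{u} ℤ) k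
  obtain ⟨b⟩ := Groth.Agent.Lib.Helper23.PB.nonempty_pullback_tensorPow_iso
    (Groth.Agent.R2.H87.ProjSpaceOver.toZ r Y) (Twist.twistProjSpace r (ULift.{u} ℤ) 1)
    (Groth.Agent.R2.H79.TwistCalc.isInvertible_twistProjSpace r (ULift.{u} ℤ) 1) k
  rw [Groth.Agent.R2.H87.ProjSpaceOver.twistOver_eq, Groth.Agent.R2.H87.ProjSpaceOver.twistOver_eq]
  exact ⟨(Scheme.Modules.pullback (Groth.Agent.R2.H87.ProjSpaceOver.toZ r Y)).mapIso a.symm ≪≫ b⟩

/-- `i^* O(k) ≅ (i^* O(1))^{⊗ k}`, `k ≥ 0`. -/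
theorem nonempty_pullback_twistOver_iso_tensorPow (r : ℕ) {X Y : Scheme.{u}}
    (i : X ⟶ CohB1.ProjSpaceOver r Y) (k : ℕ) :
    Nonempty ((Scheme.Modules.pullback i).obj (Twist.twistOver r Y (k : ℤ)) ≅
      CohB1.tensorPow ((Scheme.Modules.pullback i).obj (Twist.twistOver r Y 1)) k) := by
  obtain ⟨a⟩ := nonempty_twistOver_iso_tensorPow r Y k
  obtain ⟨b⟩ := Groth.Agent.Lib.Helper23.PB.nonempty_pullback_tensorPow_iso i
    (Twist.twistOver r Y 1) (Groth.Agent.R2.H55.RelSerreB.isInvertible_twistOver r Y 1) k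
  exact ⟨(Scheme.Modules.pullback i).mapIso a ≪≫ b⟩

/-- **[FW1]** -/
theorem fw1 : H399Spec.FW1Stmt.{u} := by
  intro r X Y _ i _ F hF V hV
  set f := i ≫ CohB1.ProjSpaceOver.toBase r Y with hf
  haveI : IsProper (CohB1.ProjSpaceOver.toBase r Y) := Groth.Agent.S9705.isProper_toBase r Y
  haveI : IsProper f := by rw [hf]; infer_instance
  set L₁ := (Scheme.Modules.pullback i).obj (Twist.twistOver r Y 1) with hL₁
  have hL₁inv : PicF.IsInvertible L₁ :=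
    Groth.Agent.R2.H55.RelSerreB.isInvertible_pullback_twistOver r i 1
  -- ampleness of the restriction
  have hamp : RelAmple.IsRelAmple f L₁ :=
    RelProjR2.r2 r i inferInstance inferInstance
  have hampV : CohB1.IsAmple (L₁.restrict (f ⁻¹ᵁ V).ι) := hamp.2 ⟨V, hV⟩
  -- the noetherian ring of the chart
  haveI : IsNoetherianRing Γ(Y, V) := IsLocallyNoetherian.component_noetherian ⟨V, hV⟩
  -- the structure morphism
  let φ : V.toScheme ≅ Spec (CommRingCat.of Γ(Y, V)) := hV.isoSpec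
  haveI : IsProper ((f ∣_ V) ≫ φ.hom) := Groth.Agent.R2.H16.CbcFIGlob.isProper_overV f φ
  have hM : Coh.IsCoh (F.restrict (f ⁻¹ᵁ V).ι) := Groth.Agent.R2.H16.CbcFIGlob.isCoh_restrict f F hF
  have hLV : PicF.IsInvertible (L₁.restrict (f ⁻¹ᵁ V).ι) := hampV.1
  obtain ⟨n₀, hn₀⟩ := (Groth.Agent.S0051.result Γ(Y, V) (f ⁻¹ᵁ V).toScheme ((f ∣_ V) ≫ φ.hom)
    (L₁.restrict (f ⁻¹ᵁ V).ι) hLV).1 hampV (F.restrict (f ⁻¹ᵁ V).ι) hM
  refine ⟨(n₀ : ℤ), fun n hn p hp => ?_⟩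
  obtain ⟨k, rfl⟩ : ∃ k : ℕ, n = (k : ℤ) := ⟨n.toNat, (Int.toNat_of_nonneg (by omega)).symm⟩
  have hk : n₀ ≤ k := by exact_mod_cast hn
  obtain ⟨a⟩ := nonempty_pullback_twistOver_iso_tensorPow r i k
  obtain ⟨b⟩ := Groth.Agent.Lib.Helper23.RestrTensor.nonempty_restrict_twist_iso F L₁ hL₁inv
    (f ⁻¹ᵁ V) k
  have e : (tw r i F (k : ℤ)).restrict (f ⁻¹ᵁ V).ι ≅
      CohB1.tensorMod (F.restrict (f ⁻¹ᵁ V).ι) (CohB1.tensorPow (L₁.restrict (f ⁻¹ᵁ V).ι) k) :=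
    (Scheme.Modules.restrictFunctor (f ⁻¹ᵁ V).ι).mapIso
      (Groth.Agent.R2.H55.AmpleVan.tensorLeftCongr F a) ≪≫ b
  exact Groth.Agent.R2.H55.AmpleVan.subsingleton_HH_of_iso e.symm p (hn₀ k hk p hp)

end Groth.Agent.R2.H58.H399
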