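import Mathlib
import Groth.Agent.Lib.Helper21ExtShLocFree
import Groth.Agent.S0485

/-!
# The dual of a short exact sequence with finite locally free cokernel (helper58, PROJ:pn-duality D)

For `0 → K → E → F → 0` with `F` finite locally free and any `G`, there is a short exact sequence
`0 → Hom(F, G) → Hom(E, G) → Hom(K, G) → 0` of sheaf Homs (`ModSite.sheafHom`).
-/

set_option autoImplicit false
set_option backward.isDefEq.respectTransparency.types false
set_option linter.style.haveILetI false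
universe u

open CategoryTheory CategoryTheory.Limits AlgebraicGeometry

namespace Groth.Agent.R2.H58.PnDualSES

open Groth.Agent.Lib.Helper21.ExtShDelta Groth.Agent.Lib.Helper21.ExtShLocFree

attribute [local instance] hasSheafHom

variable {X : Scheme.{u}}

/-- `D M G = Hom_{O_X}(M, G)` (the `ModSite` sheaf Hom). -/
noncomputable abbrev D (M G : X.Modules) : X.Modules :=
  (ModSite.sheafHom (O := X.sheaf) M).obj G

theorem exists_dual_ses (S : ShortComplex X.Modules) (hS : S.ShortExact)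
    (h₃ : FlatMod.IsFinLocFree S.X₃) (G : X.Modules) :
    ∃ S' : ShortComplex X.Modules, S'.ShortExact ∧ Nonempty (S'.X₁ ≅ D S.X₃ G) ∧
      Nonempty (S'.X₂ ≅ D S.X₂ G) ∧ Nonempty (S'.X₃ ≅ D S.X₁ G) := by
  haveI : EnoughInjectives (ModSite.Mod X.sheaf) :=
    Groth.Agent.S0485.result (Opens.grothendieckTopology X) _
  haveI : HasInjectiveResolutions (ModSite.Mod X.sheaf) := inferInstance
  let S₀ : ShortComplex (ModSite.Mod X.sheaf) := S
  have hS₀ : S₀.ShortExact := hS
  obtain ⟨hmono, hex, δ, hδ⟩ := main (O := X.sheaf) S₀ hS₀ G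
  obtain ⟨w0, hex0⟩ := hex 0
  obtain ⟨⟨w1, hex1⟩, -⟩ := hδ 0
  have hz := isZero_extSh_of_isFinLocFree (X := X) S₀.X₃ G h₃ 0
  have hδ0 : δ 0 = 0 := hz.eq_of_tgt _ _
  have hepi : Epi ((NatTrans.rightDerived (ExtSupp.sheafHomMap S₀.f) 0).app G) :=
    hex1.epi_f hδ0
  haveI := sheafHom_preservesFiniteLimits X.sheaf S₀.X₁
  haveI := sheafHom_preservesFiniteLimits X.sheaf S₀.X₂
  haveI := sheafHom_preservesFiniteLimits X.sheaf S₀.X₃
  refine ⟨ShortComplex.mk _ _ w0, ShortComplex.ShortExact.mk' hex0 hmono hepi,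
    ⟨(ModSite.sheafHom (O := X.sheaf) S₀.X₃).rightDerivedZeroIsoSelf.app G⟩,
    ⟨(ModSite.sheafHom (O := X.sheaf) S₀.X₂).rightDerivedZeroIsoSelf.app G⟩,
    ⟨(ModSite.sheafHom (O := X.sheaf) S₀.X₁).rightDerivedZeroIsoSelf.app G⟩⟩

end Groth.Agent.R2.H58.PnDualSES
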