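import Mathlib
import Groth.Agent.R2.H58PnDualSES
import Groth.Agent.R2.H62CohDelta

/-!
# Contravariant functoriality and additivity of `M ↦ Hom(M, G)`; vanishing of the cohomology of
`Hom(∐ L, G)` (helper58, PROJ:pn-duality D)
-/

set_option autoImplicit false
set_option backward.isDefEq.respectTransparency.types false
set_option linter.style.haveILetI false
universe u

open CategoryTheory CategoryTheory.Limits AlgebraicGeometry

namespace Groth.Agent.R2.H58.PnDualSES

open Groth.Agent.Lib.Helper21.ExtShDelta Groth.Agent.R2.H62.CohLES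

attribute [local instance] hasSheafHom

variable {X : Scheme.{u}}

/-- contravariant functoriality of `D - G`. -/
noncomputable abbrev Dmap {M M' : X.Modules} (u : M' ⟶ M) (G : X.Modules) : D M G ⟶ D M' G :=
  (ExtSupp.sheafHomMap (O := X.sheaf) u).app G

theorem sheafHomMap_id (M : ModSite.Mod X.sheaf) :
    ExtSupp.sheafHomMap (O := X.sheaf) (𝟙 M) = 𝟙 _ := by
  have h : (ModSite.tensorBi X.sheaf).flip.map (𝟙 M) = 𝟙 _ :=
    (ModSite.tensorBi X.sheaf).flip.map_id M
  unfold ExtSupp.sheafHomMap
  rw [h]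
  exact conjugateEquiv_id _

theorem sheafHomMap_add {M M' : ModSite.Mod X.sheaf} (u v : M' ⟶ M) :
    ExtSupp.sheafHomMap (O := X.sheaf) (u + v) =
      ExtSupp.sheafHomMap (O := X.sheaf) u + ExtSupp.sheafHomMap (O := X.sheaf) v := by
  have h : (ModSite.tensorBi X.sheaf).flip.map (u + v) =
      (ModSite.tensorBi X.sheaf).flip.map u + (ModSite.tensorBi X.sheaf).flip.map v := by
    ext A : 2
    change ((ModSite.tensorBi X.sheaf).obj A).map (u + v) =
      ((ModSite.tensorBi X.sheaf).obj A).map u + ((ModSite.tensorBi X.sheaf).obj A).map v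
    exact Functor.map_add _
  ext G : 2
  unfold ExtSupp.sheafHomMap
  rw [h]
  simp only [conjugateEquiv_apply_app, NatTrans.app_add, Functor.map_add, Preadditive.add_comp,
    Preadditive.comp_add]

theorem Dmap_id (M G : X.Modules) : Dmap (𝟙 M) G = 𝟙 _ :=
  congrArg (fun t => NatTrans.app t G) (sheafHomMap_id (X := X) M)

theorem Dmap_comp {M M' M'' : X.Modules} (u : M'' ⟶ M') (v : M' ⟶ M) (G : X.Modules) :
    Dmap (u ≫ v) G = Dmap v G ≫ Dmap u G :=
  congrArg (fun t => NatTrans.app t G) (sheafHomMap_comp' (O := X.sheaf) u v)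

theorem Dmap_add {M M' : X.Modules} (u v : M' ⟶ M) (G : X.Modules) :
    Dmap (u + v) G = Dmap u G + Dmap v G :=
  congrArg (fun t => NatTrans.app t G) (sheafHomMap_add (X := X) u v)

theorem Dmap_zero {M M' : X.Modules} (G : X.Modules) : Dmap (0 : M' ⟶ M) G = 0 := by
  have h := Dmap_add (0 : M' ⟶ M) 0 G
  rw [add_zero] at h
  exact (add_eq_left.mp h.symm)

/-- `f ↦ H^q(D f)` as an additive map. -/
noncomputable def HDHom (E G : X.Modules) (q : ℕ) :
    (E ⟶ E) →+ (Coh.HH X (D E G) q →+ Coh.HH X (D E G) q) where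
  toFun f := HHmap (Dmap f G) q
  map_zero' := by
    ext x
    rw [Dmap_zero]
    exact HHmap_zero q x
  map_add' f g := by
    ext x
    rw [Dmap_add]
    exact HHmap_add _ _ q x

/-- the cohomology of `Hom(∐ L, G)` vanishes if that of `Hom(L, G)` does. -/
theorem subsingleton_HH_D_coprod (L G : X.Modules) (s : ℕ) (q : ℕ)
    (h : Subsingleton (Coh.HH X (D L G) q)) :
    Subsingleton (Coh.HH X (D (∐ fun _ : Fin s => L) G) q) := by
  classical
  let E : X.Modules := ∐ fun _ : Fin s => L
  let ι : Fin s → (L ⟶ E) := fun i => Sigma.ι (fun _ : Fin s => L) i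
  let π : Fin s → (E ⟶ L) := fun i => Sigma.desc (fun j => if j = i then 𝟙 L else 0)
  have hιπ : ∀ i j, ι j ≫ π i = if j = i then 𝟙 L else 0 := fun i j => by
    simp [ι, π]
  have hsum : ∑ i, π i ≫ ι i = 𝟙 E := by
    apply Sigma.hom_ext
    intro j
    change ι j ≫ _ = ι j ≫ _
    rw [Preadditive.comp_sum, Category.comp_id]
    rw [Finset.sum_eq_single j]
    · rw [← Category.assoc, hιπ, if_pos rfl, Category.id_comp]
    · intro i _ hij
      rw [← Category.assoc, hιπ, if_neg (Ne.symm hij), zero_comp]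
    · intro hj
      exact absurd (Finset.mem_univ j) hj
  refine ⟨fun x y => ?_⟩
  have key : ∀ z : Coh.HH X (D E G) q, z = 0 := by
    intro z
    have h1 : HDHom E G q (𝟙 E) z = z := by
      change HHmap (Dmap (𝟙 E) G) q z = z
      rw [Dmap_id]
      exact HHmap_id q z
    rw [← h1, ← hsum, map_sum, AddMonoidHom.finsetSum_apply]
    apply Finset.sum_eq_zero
    intro i _
    change HHmap (Dmap (π i ≫ ι i) G) q z = 0
    rw [Dmap_comp, HHmap_comp]
    have h2 : HHmap (Dmap (ι i) G) q z = 0 := Subsingleton.elim _ _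
    rw [h2, map_zero]
  rw [key x, key y]

end Groth.Agent.R2.H58.PnDualSES
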