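import Mathlib
import Groth.Agent.R2.H58PnDualAdd
import Groth.Agent.Lib.Helper21SheafHomFree
import Groth.Agent.R2.H79TwistCalc2
import Groth.Agent.S0844

/-!
# `Hom(L, -) ≅ - ⊗ L'` for `L ⊗ L' ≅ O`, and `Hom(O(a), O(b)) ≅ O(b - a)` on projective space
(helper58, PROJ:pn-duality D)
-/

set_option autoImplicit false
set_option backward.isDefEq.respectTransparency.types false
set_option linter.style.haveILetI false
universe u

open CategoryTheory CategoryTheory.Limits AlgebraicGeometry

namespace Groth.Agent.R2.H58.PnDualTwist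

open Groth.Agent.Lib.Helper21.ExtShDelta Groth.Agent.Lib.Helper21.ModTensor3
  Groth.Agent.Lib.Helper21.ModTensor5 Groth.Agent.Lib.Helper21.ModTensor6
  Groth.Agent.Lib.Helper21.ModTensor7 Groth.Agent.Lib.Helper21.SheafHomFree

attribute [local instance] hasSheafHom

section general

variable {C : Type u} [SmallCategory C] {J : GrothendieckTopology C} (O : Sheaf J CommRingCat.{u})

/-- `- ⊗ L` and `- ⊗ L'` are mutually inverse equivalences when `L ⊗ L' ≅ O`. -/
noncomputable def tREquivalence (L L' : ModSite.Mod O)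
    (e : ((ModSite.tensorBi O).obj L).obj L' ≅ ModSite.unit O) :
    ModSite.Mod O ≌ ModSite.Mod O :=
  CategoryTheory.Equivalence.mk (tR O L) (tR O L')
    ((tRUnitIso O).symm ≪≫ (ModSite.tensorBi O).flip.mapIso e.symm ≪≫ (tRTensorIso O L L').symm)
    (tRTensorIso O L' L ≪≫ (ModSite.tensorBi O).flip.mapIso (brdApp O L' L ≪≫ e) ≪≫ tRUnitIso O)

/-- `Hom(L, -) ≅ - ⊗ L'` when `L ⊗ L' ≅ O`. -/
noncomputable def sheafHomIsoOfInverse (L L' : ModSite.Mod O)
    (e : ((ModSite.tensorBi O).obj L).obj L' ≅ ModSite.unit O) :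
    ModSite.sheafHom L ≅ tR O L' :=
  (ModSite.sheafHomAdj L).rightAdjointUniq (tREquivalence O L L' e).toAdjunction

end general

section Pn

variable (n : ℕ) (R : Type u) [CommRing R]

open Groth.Agent.R2.H79.TwistCalc Groth.Agent.R2.H58.PnDualSES

/-- `Hom(O(a), O(b)) ≅ O(b - a)` on projective space. -/
theorem nonempty_D_twist_iso (a b : ℤ) :
    Nonempty (D (Twist.twistProjSpace n R a) (Twist.twistProjSpace n R b) ≅
      Twist.twistProjSpace n R (b - a)) := by
  obtain ⟨e1⟩ := nonempty_twistProjSpace_tensor_iso n R a (-a)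
  obtain ⟨e0⟩ := nonempty_twistProjSpace_zero_iso n R
  obtain ⟨e2⟩ := nonempty_twistProjSpace_tensor_iso n R b (-a)
  have h0 : a + -a = 0 := add_neg_cancel a
  have hb : b + -a = b - a := (sub_eq_add_neg b a).symm
  let e : ((ModSite.tensorBi (CohB1.ProjSpace n R).sheaf).obj (Twist.twistProjSpace n R a)).obj
      (Twist.twistProjSpace n R (-a)) ≅ ModSite.unit (CohB1.ProjSpace n R).sheaf :=
    e1 ≪≫ eqToIso (by rw [h0]) ≪≫ e0.symm
  exact ⟨(sheafHomIsoOfInverse (CohB1.ProjSpace n R).sheaf _ _ e).app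
    (Twist.twistProjSpace n R b) ≪≫ e2 ≪≫ eqToIso (by rw [hb])⟩

end Pn

end Groth.Agent.R2.H58.PnDualTwist
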