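import Mathlib
import Groth.Agent.R2.H58PnDualTwist
import Groth.Agent.Lib.Helper21Dual1
import Groth.Agent.Lib.Helper21UnitHom
import Groth.Prelude.Def_KLin
import Groth.Prelude.Def_Canon

/-!
# `H^0(X, Hom(F, ω)) ≃ₗ[k] Hom(F, ω)` and the top-degree duality count (helper58, PROJ:pn-duality D)
-/

set_option autoImplicit false
set_option backward.isDefEq.respectTransparency.types false
set_option linter.style.haveILetI false
universe u

open CategoryTheory CategoryTheory.Limits AlgebraicGeometry MonoidalCategory Opposite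

namespace Groth.Agent.R2.H58.PnDualH0

open Groth.Agent.Lib.Helper21.ExtShDelta Groth.Agent.Lib.Helper21.ModTensor2
  Groth.Agent.Lib.Helper21.ModTensor3
  Groth.Agent.Lib.Helper21.ModTensor5 Groth.Agent.Lib.Helper21.ModTensor6
  Groth.Agent.Lib.Helper21.ModTensor7 Groth.Agent.Lib.Helper21.Dual
  Groth.Agent.R2.H58.PnDualSES

attribute [local instance] hasSheafHom

variable {X : Scheme.{u}}

/-- the tensor product is bilinear for multiplication by global functions. -/
theorem tR_map_smulModΓ (F A : X.Modules) (c : Coh.Γtop X) :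
    (tR X.sheaf F).map (Formal.smulModΓ A c) = Formal.smulModΓ ((tR X.sheaf F).obj A) c := by
  apply shf_hom_ext X.sheaf
  have h1 := eta_nat X.sheaf ((fgt X.sheaf).map (Formal.smulModΓ A c) ▷ (fgt X.sheaf).obj F)
  refine h1.symm.trans ?_
  ext U : 1
  apply ModuleCat.MonoidalCategory.tensor_ext
  intro x y
  let r : ↑((X.sheaf.obj ⋙ forget₂ CommRingCat RingCat).obj U) := Coh.resTop X U c
  change ((eta X.sheaf ((fgt X.sheaf).obj A ⊗ (fgt X.sheaf).obj F)).app U).hom ((r • x) ⊗ₜ y) =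
    r • ((eta X.sheaf ((fgt X.sheaf).obj A ⊗ (fgt X.sheaf).obj F)).app U).hom (x ⊗ₜ y)
  rw [← LinearMap.map_smul]
  exact congrArg _ (TensorProduct.smul_tmul' r x y).symm

section Over

variable (k : Type u) [CommRing k] [X.Over (Spec (CommRingCat.of k))]

/-- the `k`-linear structure on `O_X`-modules, seen on `ModSite.Mod X.sheaf`. -/
noncomputable local instance linearModSite : Linear k (ModSite.Mod X.sheaf) := KLin.linearOver k X

/-- `O ⊗ F ≅ F`. -/
noncomputable def unitTensorIso (F : X.Modules) :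
    ((tR X.sheaf F).obj (ModSite.unit X.sheaf) : X.Modules) ≅ F :=
  (tLUnitIso X.sheaf).app F

/-- the adjunction bijection `Hom(O ⊗ F, ω) ≃ Hom(O, Hom(F, ω))` is `k`-linear. -/
noncomputable def adjLinearEquiv (F ω : X.Modules) :
    (((tR X.sheaf F).obj (ModSite.unit X.sheaf) : X.Modules) ⟶ ω) ≃ₗ[k]
      ((ModSite.unit X.sheaf : X.Modules) ⟶ D F ω) where
  toFun ψ := (ModSite.sheafHomAdj (O := X.sheaf) F).homEquiv _ _ ψ
  invFun φ := ((ModSite.sheafHomAdj (O := X.sheaf) F).homEquiv _ _).symm φ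
  left_inv ψ := Equiv.symm_apply_apply _ ψ
  right_inv φ := Equiv.apply_symm_apply _ φ
  map_add' ψ ψ' := by
    simp only [Adjunction.homEquiv_unit]
    rw [Functor.map_add, Preadditive.comp_add]
  map_smul' a ψ := by
    simp only [RingHom.id_apply]
    have h1 : a • ψ = (tR X.sheaf F).map
        (Formal.smulModΓ (ModSite.unit X.sheaf : X.Modules)
          (Coh.toGlobal (X ↘ Spec (CommRingCat.of k)) a)) ≫ ψ := by
      rw [tR_map_smulModΓ]
      rfl
    rw [h1]
    exact (ModSite.sheafHomAdj (O := X.sheaf) F).homEquiv_naturality_left _ ψ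

/-- `H^0(X, N) ≃ₗ[k] Hom(O_X, N)`. -/
noncomputable def h0UnitEquiv (N : X.Modules) :
    Coh.HH X N 0 ≃ₗ[k] ((ModSite.unit X.sheaf : ModSite.Mod X.sheaf) ⟶ N) where
  toFun x := (Groth.Agent.Lib.Helper21.UnitHom.unitHomAddEquiv (R := X.ringCatSheaf)
    (Limits.isTerminalTop (α := X.Opens)) N).symm
      (Groth.Agent.Lib.Helper27PnSections.hh0Equiv X N x)
  invFun φ := (Groth.Agent.Lib.Helper27PnSections.hh0Equiv X N).symm
    (Groth.Agent.Lib.Helper21.UnitHom.unitHomAddEquiv (R := X.ringCatSheaf)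
      (Limits.isTerminalTop (α := X.Opens)) N φ)
  left_inv x := by simp
  right_inv φ := by simp
  map_add' x y := by
    rw [map_add]
    exact map_add _ _ _
  map_smul' a x := by
    simp only [RingHom.id_apply]
    apply (Groth.Agent.Lib.Helper21.UnitHom.unitHomAddEquiv (R := X.ringCatSheaf)
      (Limits.isTerminalTop (α := X.Opens)) N).injective
    rw [AddEquiv.apply_symm_apply]
    have h1 : a • x = (Coh.toGlobal (X ↘ Spec (CommRingCat.of k)) a) • x := rfl
    rw [h1, Groth.Agent.Lib.Helper27PnSections.hh0Equiv_smul]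
    set φ := (Groth.Agent.Lib.Helper21.UnitHom.unitHomAddEquiv (R := X.ringCatSheaf)
      (Limits.isTerminalTop (α := X.Opens)) N).symm
      (Groth.Agent.Lib.Helper27PnSections.hh0Equiv X N x) with hφ
    have h2 : Groth.Agent.Lib.Helper27PnSections.hh0Equiv X N x =
        Groth.Agent.Lib.Helper21.UnitHom.unitHomAddEquiv (R := X.ringCatSheaf)
          (Limits.isTerminalTop (α := X.Opens)) N φ := by
      rw [hφ, AddEquiv.apply_symm_apply]
    rw [h2]
    have h3 : a • φ = φ ≫ Formal.smulModΓ N (Coh.toGlobal (X ↘ Spec (CommRingCat.of k)) a) :=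
      (KLin.comp_smulModΓ φ _).symm
    rw [h3]
    rfl

/-- `H^0(X, Hom(F, ω)) ≃ₗ[k] Hom(F, ω)`. -/
noncomputable def h0DEquiv (F ω : X.Modules) :
    Coh.HH X (D F ω) 0 ≃ₗ[k] ((F : ModSite.Mod X.sheaf) ⟶ ω) :=
  (h0UnitEquiv k (D F ω)).trans ((adjLinearEquiv k F ω).symm.trans
    (Linear.homCongr k (unitTensorIso F) (Iso.refl (ω : ModSite.Mod X.sheaf))))

open Groth.Agent.R2.H62.CohLES in
/-- the map `φ ↦ t ∘ H^r(φ)`, as a `k`-linear map. -/
noncomputable def pairingMap (F ω : X.Modules) (r : ℕ) (t : Coh.HH X ω r →ₗ[k] k) :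
    ((F : ModSite.Mod X.sheaf) ⟶ ω) →ₗ[k] Module.Dual k (Coh.HH X F r) where
  toFun φ := t ∘ₗ Canon.HHlin k φ r
  map_add' φ φ' := by
    ext x
    change t (HHmap (φ + φ') r x) = t (HHmap φ r x) + t (HHmap φ' r x)
    rw [HHmap_add, map_add]
  map_smul' a φ := by
    ext x
    simp only [RingHom.id_apply]
    change t (HHmap (Formal.smulMod k F a ≫ φ) r x) = a • t (HHmap φ r x)
    rw [HHmap_comp, ← map_smul]
    have h1 : HHmap (Formal.smulMod k F a) r x = a • x := rfl
    rw [h1]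
    have h2 : HHmap φ r (a • x) = a • HHmap φ r x := (HHmapA k φ r).map_smul a x
    rw [h2]

theorem pairingMap_apply (F ω : X.Modules) (r : ℕ) (t : Coh.HH X ω r →ₗ[k] k)
    (φ : (F : ModSite.Mod X.sheaf) ⟶ ω) (x : Coh.HH X F r) :
    pairingMap k F ω r t φ x =
      t (Sheaf.H.map ((SheafOfModules.toSheaf X.ringCatSheaf).map φ) r x) := rfl

/-- a dualizing pair identifies `Hom(F, ω)` with the dual of `H^r(X, F)`. -/
theorem bijective_pairingMap (F ω : X.Modules) (r : ℕ) (t : Coh.HH X ω r →ₗ[k] k)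
    (h : ∀ ψ : Coh.HH X F r →ₗ[k] k, ∃! φ : F ⟶ ω, ∀ x : Coh.HH X F r,
      ψ x = t (Sheaf.H.map ((SheafOfModules.toSheaf X.ringCatSheaf).map φ) r x)) :
    Function.Bijective (pairingMap k F ω r t) := by
  constructor
  · intro φ φ' hφ
    obtain ⟨φ₀, -, huniq⟩ := h (pairingMap k F ω r t φ)
    have h1 : φ = φ₀ := huniq φ (fun x => rfl)
    have h2 : φ' = φ₀ := huniq φ' (fun x => by rw [hφ]; rfl)
    rw [h1, h2]
  · intro ψ
    obtain ⟨φ, hφ, -⟩ := h ψ
    refine ⟨φ, ?_⟩
    ext x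
    exact (hφ x).symm

end Over

section Field

variable (k : Type u) [Field k] [X.Over (Spec (CommRingCat.of k))]

/-- **top-degree duality count**: for a dualizing pair `(ω, t)` in degree `r`,
`H^0(X, Hom(F, ω))` is finite-dimensional of the dimension of `H^r(X, F)`. -/
theorem finrank_HH_D_zero (F ω : X.Modules) (r : ℕ) (t : Coh.HH X ω r →ₗ[k] k)
    (h : ∀ ψ : Coh.HH X F r →ₗ[k] k, ∃! φ : F ⟶ ω, ∀ x : Coh.HH X F r,
      ψ x = t (Sheaf.H.map ((SheafOfModules.toSheaf X.ringCatSheaf).map φ) r x))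
    [Module.Finite k (Coh.HH X F r)] :
    Module.Finite k (Coh.HH X (D F ω) 0) ∧
      Module.finrank k (Coh.HH X (D F ω) 0) = Module.finrank k (Coh.HH X F r) := by
  let e : Coh.HH X (D F ω) 0 ≃ₗ[k] Module.Dual k (Coh.HH X F r) :=
    (h0DEquiv k F ω).trans (LinearEquiv.ofBijective (pairingMap k F ω r t)
      (bijective_pairingMap k F ω r t h))
  refine ⟨Module.Finite.equiv e.symm, ?_⟩
  rw [e.finrank_eq, Subspace.dual_finrank_eq]

end Field

end Groth.Agent.R2.H58.PnDualH0
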