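import Mathlib

/-!
# Linear algebra for the dimension count behind Serre duality on `P^r_k` (helper58, PROJ:pn-duality D)
-/

set_option autoImplicit false
universe u

namespace Groth.Agent.R2.H58.PnDualLin

variable {k : Type u} [Field k]

/-- In an exact sequence `0 → V₁ → V₂ → V₃ → V₄ → 0` of finite-dimensional spaces,
`dim V₁ + dim V₃ = dim V₂ + dim V₄`. -/
theorem four_term_finrank {V₁ V₂ V₃ V₄ : Type u} [AddCommGroup V₁] [AddCommGroup V₂]
    [AddCommGroup V₃] [AddCommGroup V₄] [Module k V₁] [Module k V₂] [Module k V₃] [Module k V₄]
    [Module.Finite k V₂] [Module.Finite k V₃]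
    (f : V₁ →ₗ[k] V₂) (g : V₂ →ₗ[k] V₃) (h : V₃ →ₗ[k] V₄)
    (hf : Function.Injective f) (hfg : Function.Exact f g) (hgh : Function.Exact g h)
    (hh : Function.Surjective h) :
    Module.finrank k V₁ + Module.finrank k V₃ = Module.finrank k V₂ + Module.finrank k V₄ := by
  have h1 : Module.finrank k (LinearMap.range f) = Module.finrank k V₁ :=
    LinearMap.finrank_range_of_inj hf
  have h2 : Module.finrank k (LinearMap.range g) + Module.finrank k (LinearMap.ker g) =
      Module.finrank k V₂ := LinearMap.finrank_range_add_finrank_ker g
  have h3 : Module.finrank k (LinearMap.range h) + Module.finrank k (LinearMap.ker h) =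
      Module.finrank k V₃ := LinearMap.finrank_range_add_finrank_ker h
  have h4 : LinearMap.ker g = LinearMap.range f := (LinearMap.exact_iff.mp hfg)
  have h5 : LinearMap.ker h = LinearMap.range g := (LinearMap.exact_iff.mp hgh)
  have h6 : Module.finrank k (LinearMap.range h) = Module.finrank k V₄ := by
    rw [LinearMap.range_eq_top.mpr hh, finrank_top]
  rw [h4] at h2
  rw [h5] at h3
  omega

/-- Finite-dimensional spaces of the same dimension: the dual of one is isomorphic to the other. -/
theorem nonempty_dual_equiv_of_finrank_eq {V W : Type u} [AddCommGroup V] [AddCommGroup W]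
    [Module k V] [Module k W] [Module.Finite k V] [Module.Finite k W]
    (h : Module.finrank k V = Module.finrank k W) :
    Nonempty (Module.Dual k V ≃ₗ[k] W) := by
  have h1 : Module.finrank k (Module.Dual k V) = Module.finrank k W := by
    rw [Subspace.dual_finrank_eq, h]
  exact ⟨LinearEquiv.ofFinrankEq _ _ h1⟩

/-- A surjective image of a finite-dimensional space is finite-dimensional. -/
theorem finite_of_surjective' {V W : Type u} [AddCommGroup V] [AddCommGroup W]
    [Module k V] [Module k W] [Module.Finite k V] (f : V →ₗ[k] W) (hf : Function.Surjective f) :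
    Module.Finite k W := Module.Finite.of_surjective f hf

end Groth.Agent.R2.H58.PnDualLin
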