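import Mathlib
import Groth.Agent.R2.H62CohDelta
import Groth.Agent.R2.H58PnDualLin

/-!
# Dimension consequences of the long exact cohomology sequence (helper58, PROJ:pn-duality D)
-/

set_option autoImplicit false
set_option backward.isDefEq.respectTransparency.types false
set_option linter.style.haveILetI false
universe u

open CategoryTheory CategoryTheory.Limits AlgebraicGeometry

namespace Groth.Agent.R2.H58.PnDualLES

open Groth.Agent.R2.H62.CohLES Groth.Agent.R2.H58.PnDualLin

variable {X : Scheme.{u}} (k : Type u) [Field k] [X.Over (Spec (CommRingCat.of k))]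

/-- cohomology is invariant under isomorphism, `k`-linearly. -/
noncomputable def HHequivOfIso {M N : X.Modules} (e : M ≅ N) (q : ℕ) :
    Coh.HH X M q ≃ₗ[k] Coh.HH X N q :=
  LinearEquiv.ofLinearMap (HHmapA k e.hom q) (HHmapA k e.inv q)
    (by
      ext x
      change HHmap e.hom q (HHmap e.inv q x) = x
      rw [← HHmap_comp, e.inv_hom_id]
      exact HHmap_id q x)
    (by
      ext x
      change HHmap e.inv q (HHmap e.hom q x) = x
      rw [← HHmap_comp, e.hom_inv_id]
      exact HHmap_id q x)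

theorem finrank_eq_of_iso {M N : X.Modules} (e : M ≅ N) (q : ℕ) :
    Module.finrank k (Coh.HH X M q) = Module.finrank k (Coh.HH X N q) :=
  (HHequivOfIso k e q).finrank_eq

theorem finite_of_iso {M N : X.Modules} (e : M ≅ N) (q : ℕ)
    [Module.Finite k (Coh.HH X M q)] : Module.Finite k (Coh.HH X N q) :=
  Module.Finite.equiv (HHequivOfIso k e q)

include k in
theorem subsingleton_of_iso {M N : X.Modules} (e : M ≅ N) (q : ℕ)
    (h : Subsingleton (Coh.HH X M q)) : Subsingleton (Coh.HH X N q) :=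
  (HHequivOfIso k e q).symm.toEquiv.subsingleton

variable {S : ShortComplex X.Modules} (hS : S.ShortExact)

omit [Field k] [X.Over (Spec (CommRingCat.of k))] in
theorem δ_surjective (n : ℕ) (h : Subsingleton (Coh.HH X S.X₂ (n + 1))) :
    Function.Surjective (δ hS n) := by
  intro y
  exact (exact_δ_f hS n y).mp (Subsingleton.elim _ _)

omit [Field k] [X.Over (Spec (CommRingCat.of k))] in
theorem δ_injective (n : ℕ) (h : Subsingleton (Coh.HH X S.X₂ n)) :
    Function.Injective (δ hS n) := by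
  rw [injective_iff_map_eq_zero]
  intro x hx
  obtain ⟨z, rfl⟩ := (exact_g_δ hS n x).mp hx
  rw [Subsingleton.elim z 0, map_zero]

omit [Field k] [X.Over (Spec (CommRingCat.of k))] in
include hS in
theorem g_surjective (n : ℕ) (h : Subsingleton (Coh.HH X S.X₁ (n + 1))) :
    Function.Surjective (HHmap S.g n) := by
  intro y
  exact (exact_g_δ hS n y).mp (Subsingleton.elim _ _)

include hS in
/-- `H^n(X₃) ≃ H^{n+1}(X₁)` when `H^n(X₂) = H^{n+1}(X₂) = 0`. -/
theorem finrank_δ (n : ℕ) (h0 : Subsingleton (Coh.HH X S.X₂ n))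
    (h1 : Subsingleton (Coh.HH X S.X₂ (n + 1))) :
    Module.finrank k (Coh.HH X S.X₃ n) = Module.finrank k (Coh.HH X S.X₁ (n + 1)) :=
  (LinearEquiv.ofBijective (δA hS k n) ⟨δ_injective hS n h0, δ_surjective hS n h1⟩).finrank_eq

include hS in
/-- `0 → H^n(X₃) → H^{n+1}(X₁) → H^{n+1}(X₂) → H^{n+1}(X₃) → 0`. -/
theorem finrank_four_top (n : ℕ) (h0 : Subsingleton (Coh.HH X S.X₂ n))
    (h2 : Subsingleton (Coh.HH X S.X₁ (n + 2)))
    [Module.Finite k (Coh.HH X S.X₁ (n + 1))] [Module.Finite k (Coh.HH X S.X₂ (n + 1))] :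
    Module.finrank k (Coh.HH X S.X₃ n) + Module.finrank k (Coh.HH X S.X₂ (n + 1)) =
      Module.finrank k (Coh.HH X S.X₁ (n + 1)) + Module.finrank k (Coh.HH X S.X₃ (n + 1)) :=
  four_term_finrank (δA hS k n) (HHmapA k S.f (n + 1)) (HHmapA k S.g (n + 1))
    (δ_injective hS n h0) (exact_δ_f hS n) (exact_f_g hS (n + 1))
    (g_surjective hS (n + 1) h2)

include hS in
/-- `0 → H^0(X₁) → H^0(X₂) → H^0(X₃) → H^1(X₁) → 0`. -/
theorem finrank_four_bot (h1 : Subsingleton (Coh.HH X S.X₂ 1))
    [Module.Finite k (Coh.HH X S.X₂ 0)] [Module.Finite k (Coh.HH X S.X₃ 0)] :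
    Module.finrank k (Coh.HH X S.X₁ 0) + Module.finrank k (Coh.HH X S.X₃ 0) =
      Module.finrank k (Coh.HH X S.X₂ 0) + Module.finrank k (Coh.HH X S.X₁ 1) :=
  four_term_finrank (HHmapA k S.f 0) (HHmapA k S.g 0) (δA hS k 0)
    (HHmap_f_zero_injective hS) (exact_f_g hS 0) (exact_g_δ hS 0)
    (δ_surjective hS 0 h1)

include hS in
/-- `H^{n+1}(X₁)` is finite-dimensional if `H^n(X₃)` is and `H^{n+1}(X₂) = 0`. -/
theorem finite_of_δ_surjective (n : ℕ) (h1 : Subsingleton (Coh.HH X S.X₂ (n + 1)))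
    [Module.Finite k (Coh.HH X S.X₃ n)] : Module.Finite k (Coh.HH X S.X₁ (n + 1)) :=
  Module.Finite.of_surjective (δA hS k n) (δ_surjective hS n h1)

end Groth.Agent.R2.H58.PnDualLES
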