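import Mathlib
import Groth.Agent.R2.H58PnDualH0
import Groth.Agent.R2.H58PnDualLES
import Groth.Agent.R2.H58SerreVanPn
import Groth.Agent.R2.H4FlatKer
import Groth.Agent.S0038
import Groth.Agent.S0022
import Groth.Agent.S0844
import Groth.Agent.S10942

/-!
# Serre duality on `P^r_k` for finite locally free modules, from the dualizing property of
`O(-r-1)` (helper58, PROJ:pn-duality package D)

`s2926_of` is the frozen statement S2926 conditional on the conclusion `hdual` of S11314.  The proof is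
a pure dimension count: `h^i(F) = h^{r-i}(Hom(F, ω))` by induction on `r - i` over all finite locally
free `F`, using a resolution `0 → K → O(-m)^s → F → 0`, the dual sequence, and the cohomology of the
twists.
-/

set_option autoImplicit false
set_option backward.isDefEq.respectTransparency.types false
set_option linter.style.haveILetI false
universe u

open CategoryTheory CategoryTheory.Limits AlgebraicGeometry

namespace Groth.Agent.R2.H58.PnDualD

open Groth.Agent.R2.H58.PnDualSES Groth.Agent.R2.H58.PnDualLES Groth.Agent.R2.H58.PnDualH0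
  Groth.Agent.R2.H58.PnDualTwist Groth.Agent.R2.H58.PnDualLin
  Groth.Agent.R2.H79.TwistCalc Groth.Agent.R2.H62.CohLES

section General

variable {X : Scheme.{u}}

theorem isCoh_of_isFinLocFree (M : X.Modules) (h : FlatMod.IsFinLocFree M) : Coh.IsCoh M := by
  have hfp := Groth.Agent.Lib.Helper2.LocFree.isFP_of_isFinLocFree M h
  exact ⟨Groth.Agent.Helper18Strict.isQCoh_of_isFP _ hfp,
    Groth.Agent.Helper18Strict.isFT_of_isFP _ hfp⟩

theorem isFinLocFree_coprod (L : X.Modules) (hL : FlatMod.IsFinLocFree L) (s : ℕ) :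
    FlatMod.IsFinLocFree (∐ fun _ : Fin s => L) :=
  Groth.Agent.Lib.Helper1.FLF.isFinLocFree_of_isColimit_cofan (fun _ : Fin s => L)
    (Cofan.mk _ (Sigma.ι fun _ : Fin s => L)) (coproductIsCoproduct _) Finset.univ
    (fun i hi => absurd (Finset.mem_univ i) hi) (fun _ => hL)

end General

variable (k : Type u) [Field k] (r : ℕ)

local notation "P" => CohB1.ProjSpace r k
local notation "ω" => Twist.twistProjSpace r k (-((r : ℤ) + 1))

/-- `H^q(O(-m)^s) = 0` for `q < r`, `m ≥ 1`. -/
theorem subsingleton_HH_E (s m : ℕ) (hm : 1 ≤ m) (q : ℕ) (hq : q < r) :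
    Subsingleton (Coh.HH P (∐ fun _ : Fin s => Twist.twistProjSpace r k (-(m : ℤ))) q) := by
  classical
  refine Groth.Agent.R2.H58.SerreVanPn.subsingleton_HH_coprod _ q (fun _ => ?_)
  refine Groth.Agent.S0844.result k r (-(m : ℤ)) q ?_ ?_
  · rintro ⟨-, h⟩
    omega
  · rintro ⟨h, -⟩
    omega

/-- `H^q(Hom(O(-m)^s, ω)) = 0` for `q ≥ 1`, `m ≥ 1`. -/
theorem subsingleton_HH_DE (s m : ℕ) (hm : 1 ≤ m) (q : ℕ) (hq : 1 ≤ q) :
    Subsingleton (Coh.HH P (D (∐ fun _ : Fin s => Twist.twistProjSpace r k (-(m : ℤ))) ω) q) := by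
  refine subsingleton_HH_D_coprod _ _ s q ?_
  obtain ⟨e⟩ := nonempty_D_twist_iso r k (-(m : ℤ)) (-((r : ℤ) + 1))
  refine subsingleton_of_iso k e.symm q ?_
  refine Groth.Agent.S0844.result k r _ q ?_ ?_
  · rintro ⟨h, -⟩
    omega
  · rintro ⟨-, h⟩
    omega

/-- the conclusion of S11314 for `k`, `r`. -/
def HDual : Prop :=
  ∃ t : Coh.HH (CohB1.ProjSpace r k) (Twist.twistProjSpace r k (-((r : ℤ) + 1))) r →ₗ[k] k,
    ∀ F : (CohB1.ProjSpace r k).Modules, Coh.IsCoh F →
      ∀ ψ : Coh.HH (CohB1.ProjSpace r k) F r →ₗ[k] k,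
        ∃! φ : F ⟶ (Twist.twistProjSpace r k (-((r : ℤ) + 1))),
          ∀ x : Coh.HH (CohB1.ProjSpace r k) F r,
            ψ x = t (Sheaf.H.map
              ((SheafOfModules.toSheaf (CohB1.ProjSpace r k).ringCatSheaf).map φ) r x)

theorem finite_HH (F : (P).Modules) (hF : FlatMod.IsFinLocFree F) (q : ℕ) :
    Module.Finite k (Coh.HH P F q) :=
  Groth.Agent.S0038.result r k F (isCoh_of_isFinLocFree F hF) q

/-- **the dimension count**. -/
theorem key (hdual : HDual k r) : ∀ (j : ℕ) (F : (P).Modules), FlatMod.IsFinLocFree F →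
    Module.Finite k (Coh.HH P (D F ω) j) ∧
      (j ≤ r → Module.finrank k (Coh.HH P (D F ω) j) = Module.finrank k (Coh.HH P F (r - j))) := by
  obtain ⟨t, ht⟩ := hdual
  have base : ∀ F : (P).Modules, FlatMod.IsFinLocFree F →
      Module.Finite k (Coh.HH P (D F ω) 0) ∧
        Module.finrank k (Coh.HH P (D F ω) 0) = Module.finrank k (Coh.HH P F r) := by
    intro F hF
    haveI := finite_HH k r F hF r
    exact finrank_HH_D_zero k F ω r t (ht F (isCoh_of_isFinLocFree F hF))
  intro j
  induction j with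
  | zero =>
    intro F hF
    exact ⟨(base F hF).1, fun _ => (base F hF).2⟩
  | succ j ih =>
    intro F hF
    -- the resolution
    have hcohF := isCoh_of_isFinLocFree F hF
    obtain ⟨m₀, hm₀⟩ := exists_epi_coprod_twistProjSpace r k F hcohF
    obtain ⟨m, hm0, hm⟩ : ∃ m, m₀ ≤ m ∧ 1 ≤ m := ⟨max m₀ 1, le_max_left _ _, le_max_right _ _⟩
    obtain ⟨s, π, hπ, hcohE⟩ := hm₀ m hm0
    haveI : Epi π := hπ
    let S : ShortComplex (P).Modules := ShortComplex.mk (kernel.ι π) π (kernel.condition π)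
    have hS : S.ShortExact := Groth.Agent.R2.H58.SerreFin.shortExact_kernel π
    have hE : FlatMod.IsFinLocFree S.X₂ :=
      isFinLocFree_coprod _ (Groth.Agent.Helper18PBUnit.isFinLocFree_of_isInvertible
        (isInvertible_twistProjSpace r k (-(m : ℤ)))) s
    have hK : FlatMod.IsFinLocFree S.X₁ :=
      Groth.Agent.R2.H4.Flat.isFinLocFree_X₁ S hS hE hF
    have hEvan : ∀ q, q < r → Subsingleton (Coh.HH P S.X₂ q) :=
      fun q hq => subsingleton_HH_E k r s m hm q hq
    have hDEvan : ∀ q, 1 ≤ q → Subsingleton (Coh.HH P (D S.X₂ ω) q) :=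
      fun q hq => subsingleton_HH_DE k r s m hm q hq
    -- the dual sequence
    obtain ⟨S', hS', ⟨eA⟩, ⟨eB⟩, ⟨eC⟩⟩ := exists_dual_ses S hS hF ω
    have hBvan : ∀ q, 1 ≤ q → Subsingleton (Coh.HH P S'.X₂ q) :=
      fun q hq => subsingleton_of_iso k eB.symm q (hDEvan q hq)
    -- finiteness
    obtain ⟨finK, dimK⟩ := ih S.X₁ hK
    haveI : Module.Finite k (Coh.HH P S'.X₃ j) := finite_of_iso k eC.symm j
    haveI finA : Module.Finite k (Coh.HH P S'.X₁ (j + 1)) :=
      finite_of_δ_surjective k hS' j (hBvan (j + 1) (by omega))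
    have finDF : Module.Finite k (Coh.HH P (D F ω) (j + 1)) := finite_of_iso k eA (j + 1)
    refine ⟨finDF, fun hj => ?_⟩
    rw [← finrank_eq_of_iso k eA (j + 1)]
    rcases Nat.eq_zero_or_pos j with hj0 | hjpos
    · -- `j = 0`: the two four-term sequences
      subst hj0
      have hr : r - 1 + 1 = r := by omega
      obtain ⟨finDF0, dimF0⟩ := base F hF
      obtain ⟨finDE0, dimE0⟩ := base S.X₂ hE
      obtain ⟨finDK0, dimK0⟩ := base S.X₁ hK
      haveI : Module.Finite k (Coh.HH P S'.X₂ 0) := finite_of_iso k eB.symm 0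
      haveI : Module.Finite k (Coh.HH P S'.X₃ 0) := finite_of_iso k eC.symm 0
      haveI := finite_HH k r S.X₁ hK (r - 1 + 1)
      haveI := finite_HH k r S.X₂ hE (r - 1 + 1)
      haveI : Coh.IsQCoh S.X₁ := (isCoh_of_isFinLocFree _ hK).1
      have hKvan : Subsingleton (Coh.HH P S.X₁ (r - 1 + 2)) :=
        Groth.Agent.S0022.result r k S.X₁ (r - 1 + 2) (by omega)
      have h1 : Module.finrank k (Coh.HH P F (r - 1)) +
          Module.finrank k (Coh.HH P S.X₂ (r - 1 + 1)) =
          Module.finrank k (Coh.HH P S.X₁ (r - 1 + 1)) +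
            Module.finrank k (Coh.HH P F (r - 1 + 1)) :=
        finrank_four_top k hS (r - 1) (hEvan (r - 1) (by omega)) hKvan
      rw [hr] at h1
      have h2 : Module.finrank k (Coh.HH P S'.X₁ 0) + Module.finrank k (Coh.HH P S'.X₃ 0) =
          Module.finrank k (Coh.HH P S'.X₂ 0) + Module.finrank k (Coh.HH P S'.X₁ 1) :=
        finrank_four_bot k hS' (hBvan 1 le_rfl)
      have hA0 : Module.finrank k (Coh.HH P S'.X₁ 0) =
          Module.finrank k (Coh.HH P (D F ω) 0) := finrank_eq_of_iso k eA 0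
      have hB0 : Module.finrank k (Coh.HH P S'.X₂ 0) =
          Module.finrank k (Coh.HH P (D S.X₂ ω) 0) := finrank_eq_of_iso k eB 0
      have hC0 : Module.finrank k (Coh.HH P S'.X₃ 0) =
          Module.finrank k (Coh.HH P (D S.X₁ ω) 0) := finrank_eq_of_iso k eC 0
      change Module.finrank k (Coh.HH P S'.X₁ 1) = Module.finrank k (Coh.HH P F (r - 1))
      omega
    · -- `j ≥ 1`: two connecting isomorphisms
      have h1 : Module.finrank k (Coh.HH P S'.X₃ j) = Module.finrank k (Coh.HH P S'.X₁ (j + 1)) :=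
        finrank_δ k hS' j (hBvan j hjpos) (hBvan (j + 1) (by omega))
      have h2 : Module.finrank k (Coh.HH P F (r - (j + 1))) =
          Module.finrank k (Coh.HH P S.X₁ (r - (j + 1) + 1)) :=
        finrank_δ k hS (r - (j + 1)) (hEvan _ (by omega)) (hEvan _ (by omega))
      have h3 : Module.finrank k (Coh.HH P (D S.X₁ ω) j) =
          Module.finrank k (Coh.HH P S.X₁ (r - j)) := dimK (by omega)
      have h4 : r - j = r - (j + 1) + 1 := by omega
      rw [h4] at h3
      have hC : Module.finrank k (Coh.HH P S'.X₃ j) =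
          Module.finrank k (Coh.HH P (D S.X₁ ω) j) := finrank_eq_of_iso k eC j
      omega

/-- **S2926 against the conclusion of S11314.** -/
theorem s2926_of (hdual : HDual k r) (F : (CohB1.ProjSpace r k).Modules)
    (hF : FlatMod.IsFinLocFree F) [DCoh.HasSheafHom F] (i : ℕ) (hi : i ≤ r) :
    Nonempty (Module.Dual k (Coh.HH (CohB1.ProjSpace r k) F i) ≃ₗ[k]
      Coh.HH (CohB1.ProjSpace r k)
        ((DCoh.sheafHom F).obj (Twist.twistProjSpace r k (-((r : ℤ) + 1)))) (r - i)) := by
  obtain ⟨fin1, dim1⟩ := key k r hdual (r - i) F hF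
  haveI := fin1
  haveI := finite_HH k r F hF i
  have h1 : r - (r - i) = i := by omega
  have h2 := dim1 (by omega)
  rw [h1] at h2
  obtain ⟨e⟩ := nonempty_dual_equiv_of_finrank_eq (k := k) h2.symm
  haveI : ModSite.HasSheafHom (O := (P).sheaf) F :=
    Groth.Agent.Lib.Helper21.ExtShDelta.hasSheafHom _ F
  let eD : D F ω ≅ (DCoh.sheafHom F).obj ω := ((Groth.Agent.S10942.sheafHomIso F).app ω).symm
  exact ⟨e.trans (HHequivOfIso k eD (r - i))⟩

end Groth.Agent.R2.H58.PnDualD
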