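import Mathlib
import Groth.Prelude.Def_LocCohZ
import Groth.Agent.Lib.Helper16Flasque
import Groth.Agent.Lib.Helper16ClosedEmb
import Groth.Agent.Lib.Helper23AffVanish1
import Groth.Agent.Lib.Helper23PushAcyclic

/-!
# Degree-wise vanishing of higher direct images from vanishing on a basis (helper58)

`Lib/Helper23PushAcyclic.isZero_Rpush_of_basis` needs the vanishing of `H^{i+1}(g⁻¹V, G)` for *all* `i`.  Here
is the degree-wise version:

* `rightDerived_vanish_deg`: abstract dimension shifting with a family of predicates `P k`;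
* `isZero_Rpush_succ_of_basis`: if `H^{n+1}(g⁻¹V, G) = 0` for all `V` in a basis of `Y` (for ONE `n`), then
  `R^{n+1} g_* G = 0`;
* `isZero_Rpush_zero_of_basis`: if `G(g⁻¹V) = 0` for all `V` in a basis of `Y`, then `R^0 g_* G = 0`.
-/

set_option autoImplicit false
set_option linter.style.haveILetI false
universe w v v' u u'
open CategoryTheory CategoryTheory.Limits Opposite TopologicalSpace Abelian

namespace Groth.Agent.R2.H58.RpushDeg

section RD

variable {𝒜 : Type u} [Category.{v} 𝒜] [Abelian 𝒜] [EnoughInjectives 𝒜]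
  {ℬ : Type u'} [Category.{v'} ℬ] [Abelian ℬ]

open Groth.Agent.Lib.Helper16.Flasque in
/-- Dimension shifting for right derived functors, degree by degree. -/
theorem rightDerived_vanish_deg (G : 𝒜 ⥤ ℬ) [G.Additive] [PreservesFiniteLimits G] (P : ℕ → 𝒜 → Prop)
    (h23 : ∀ (k : ℕ) (S : ShortComplex 𝒜), S.ShortExact → Injective S.X₂ → P (k + 1) S.X₁ → P k S.X₃)
    (hepi : ∀ S : ShortComplex 𝒜, S.ShortExact → P 0 S.X₁ → Epi (G.map S.g))
    (F : 𝒜) (n : ℕ) (hF : P n F) : IsZero ((G.rightDerived (n + 1)).obj F) := by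
  let I : InjectiveResolution F := Classical.choice (HasInjectiveResolution.out)
  refine IsZero.of_iso ?_ (I.isoRightDerivedObj G (n + 1))
  set K := I.cocomplex with hK
  -- the short exact sequences
  have hS' := shortExact_lift (I.ι.f 0) (K.d 0 1) (K.d 1 2) I.ι_f_zero_comp_complex_d
    (K.d_comp_d 0 1 2) I.exact₀ (I.exact_succ 0)
  have hS : ∀ k : ℕ, (ShortComplex.mk (kernel.ι (K.d (k + 1) (k + 2)))
      (kernel.lift (K.d (k + 2) (k + 3)) (K.d (k + 1) (k + 2)) (K.d_comp_d _ _ _)) (by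
        apply (cancel_mono (kernel.ι _)).1
        rw [Category.assoc, kernel.lift_ι, kernel.condition, zero_comp])).ShortExact := fun k =>
    shortExact_lift (kernel.ι (K.d (k + 1) (k + 2))) (K.d (k + 1) (k + 2)) (K.d (k + 2) (k + 3))
      (kernel.condition _) (K.d_comp_d _ _ _)
      (ShortComplex.exact_of_f_is_kernel _ (kernelIsKernel _)) (I.exact_succ (k + 1))
  have hP : ∀ k m : ℕ, k + m + 1 = n → P m (kernel (K.d (k + 1) (k + 2))) := by
    intro k
    induction k with
    | zero =>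
      intro m hm
      have hF' : P (m + 1) F := by
        have : m + 1 = n := by omega
        rw [this]; exact hF
      exact h23 m _ hS' (I.injective 0) hF'
    | succ k ih =>
      intro m hm
      exact h23 m _ (hS k) (I.injective (k + 1)) (ih (m + 1) (by omega))
  have hE : Epi (G.map (kernel.lift (K.d (n + 1) (n + 2)) (K.d n (n + 1)) (K.d_comp_d _ _ _))) := by
    cases n with
    | zero => exact hepi _ hS' hF
    | succ m => exact hepi _ (hS m) (hP m 0 (by omega))
  change IsZero (((G.mapHomologicalComplex _).obj K).homology (n + 1))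
  rw [← HomologicalComplex.exactAt_iff_isZero_homology,
    HomologicalComplex.exactAt_iff' _ n (n + 1) (n + 2) (by simp)
      (by simp only [CochainComplex.next]; rfl)]
  rw [ShortComplex.exact_iff_epi_kernel_lift]
  haveI : IsIso (kernelComparison (K.d (n + 1) (n + 2)) G) := by
    rw [← PreservesKernel.iso_hom]; infer_instance
  have key : Epi (G.map (kernel.lift (K.d (n + 1) (n + 2)) (K.d n (n + 1)) (K.d_comp_d _ _ _)) ≫
      kernelComparison (K.d (n + 1) (n + 2)) G) := inferInstance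
  rw [map_lift_kernelComparison] at key
  exact key

end RD

section Top

open Groth.Agent.Lib.Helper23.AffVanish

variable {X Y : TopCat.{u}} (g : X ⟶ Y)

/-- vanishing of `H^{k+1}(g⁻¹V, A)` for the members `V` of a family of opens of the target. -/
def AcyclicAt (B : Set (Opens Y)) (k : ℕ) (A : CohTop.Ab X) : Prop :=
  ∀ V ∈ B, Subsingleton (HE A (k + 1) ((Opens.map g).obj V))

lemma acyclicAt_X₃ (B : Set (Opens Y)) (k : ℕ) (S : ShortComplex (CohTop.Ab X)) (hS : S.ShortExact)
    (hI : Injective S.X₂) (h₁ : AcyclicAt g B (k + 1) S.X₁) : AcyclicAt g B k S.X₃ := by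
  intro V hV
  refine ⟨fun a b => ?_⟩
  have key : ∀ x₃ : HE S.X₃ (k + 1) ((Opens.map g).obj V), x₃ = 0 := by
    intro x₃
    haveI := h₁ V hV
    obtain ⟨x₂, hx₂⟩ := Ext.covariant_sequence_exact₃ (ZU ((Opens.map g).obj V)) hS x₃ rfl
      (Subsingleton.elim (α := HE S.X₁ (k + 1 + 1) ((Opens.map g).obj V)) _ _)
    have : x₂ = 0 := Ext.eq_zero_of_injective x₂
    rw [← hx₂, this, Ext.zero_comp]
  exact (key a).trans (key b).symm

lemma epi_push_map_of_acyclicAt (B : Set (Opens Y)) (hB : Opens.IsBasis B)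
    (S : ShortComplex (CohTop.Ab X)) (hS : S.ShortExact) (h₁ : AcyclicAt g B 0 S.X₁) :
    Epi ((CohTop.push g).map S.g) := by
  rw [Groth.Agent.Lib.Helper16.ClosedEmb.locSurj_iff]
  intro V t y hy
  obtain ⟨V', hV'B, hyV', hV'V⟩ := (Opens.isBasis_iff_nbhd.1 hB) hy
  refine ⟨V', hV'V, ?_, hyV'⟩
  set W := (Opens.map g).obj V' with hW
  have hWle : W ≤ (Opens.map g).obj V := (Opens.map g).monotone hV'V
  let t' : S.X₃.obj.obj (op W) := S.X₃.obj.map (homOfLE hWle).op t
  haveI := h₁ V' hV'B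
  obtain ⟨x₂, hx₂⟩ := Ext.covariant_sequence_exact₃ (ZU W) hS
    (Ext.mk₀ (CohFree.ofSect (J X) W S.X₃ t')) (zero_add 1)
    (Subsingleton.elim (α := HE S.X₁ (0 + 1) W) _ _)
  obtain ⟨c, rfl⟩ := (Ext.mk₀_bijective _ _).2 x₂
  rw [Ext.mk₀_comp_mk₀] at hx₂
  have hc : c ≫ S.g = CohFree.ofSect (J X) W S.X₃ t' := (Ext.mk₀_bijective _ _).1 hx₂
  refine ⟨CohFree.evalGen (J X) W S.X₂ c, ?_⟩
  have h3 : (S.g.hom.app (op W)).hom (CohFree.evalGen (J X) W S.X₂ c) =
      CohFree.evalGen (J X) W S.X₃ (c ≫ S.g) := rfl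
  have h4 := h3.trans (by rw [hc, CohFree.evalGen_ofSect])
  exact h4

/-- **Degree-wise vanishing of higher direct images**: if `H^{n+1}(g⁻¹V, G) = 0` for all `V` in a basis of the
target, then `R^{n+1} g_* G = 0`. -/
theorem isZero_Rpush_succ_of_basis (B : Set (Opens Y)) (hB : Opens.IsBasis B) (G : CohTop.Ab X) (n : ℕ)
    (hG : ∀ V ∈ B, Subsingleton (HE G (n + 1) ((Opens.map g).obj V))) :
    IsZero ((CohTop.Rpush g (n + 1)).obj G) := by
  haveI := Groth.Agent.Lib.Helper16.ClosedEmb.push_preservesFiniteLimits g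
  exact rightDerived_vanish_deg (CohTop.push g) (AcyclicAt g B)
    (fun k S hS hI h₁ => acyclicAt_X₃ g B k S hS hI h₁)
    (fun S hS h₁ => epi_push_map_of_acyclicAt g B hB S hS h₁) G n hG

/-- an abelian sheaf whose sections over the members of a basis vanish is zero. -/
theorem isZero_of_basis (B : Set (Opens Y)) (hB : Opens.IsBasis B) (F : CohTop.Ab Y)
    (hF : ∀ V ∈ B, Subsingleton (F.obj.obj (op V))) : IsZero F := by
  rw [IsZero.iff_id_eq_zero]
  apply Sheaf.hom_ext
  ext U s
  change s = 0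
  -- cover `U.unop` by members of the basis
  have hcov : ∀ x : U.unop, ∃ V : Opens Y, V ∈ B ∧ x.1 ∈ V ∧ V ≤ U.unop := fun x =>
    (Opens.isBasis_iff_nbhd.1 hB) x.2
  choose V hVB hxV hVU using hcov
  refine TopCat.Sheaf.eq_of_locally_eq' (F : TopCat.Sheaf AddCommGrpCat.{u} Y) V
    U.unop (fun x => homOfLE (hVU x)) ?_ s 0 ?_
  · intro y hy
    exact Opens.mem_iSup.2 ⟨⟨y, hy⟩, hxV ⟨y, hy⟩⟩
  · intro x
    haveI := hF (V x) (hVB x)
    exact Subsingleton.elim _ _

/-- **`R^0`**: if `G(g⁻¹V) = 0` for all `V` in a basis of the target, then `R^0 g_* G = 0`. -/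
theorem isZero_Rpush_zero_of_basis (B : Set (Opens Y)) (hB : Opens.IsBasis B) (G : CohTop.Ab X)
    (hG : ∀ V ∈ B, Subsingleton (G.obj.obj (op ((Opens.map g).obj V)))) :
    IsZero ((CohTop.Rpush g 0).obj G) := by
  haveI := Groth.Agent.Lib.Helper16.ClosedEmb.push_preservesFiniteLimits g
  refine IsZero.of_iso ?_ ((CohTop.push g).rightDerivedZeroIsoSelf.app G)
  exact isZero_of_basis B hB _ hG

end Top

end Groth.Agent.R2.H58.RpushDeg
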