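import Mathlib
import Groth.Prelude.Def_Coh
import Groth.Prelude.Def_CohB1
import Groth.Prelude.Def_Twist2
import Groth.Agent.R2.H58RpushDeg
import Groth.Agent.R2.H55TwistBC
import Groth.Agent.R2.H70EdgeSch
import Groth.Agent.R2.H82TwistZero
import Groth.Agent.Lib.Helper16Restr
import Groth.Agent.Lib.Helper23AffOpen2
import Groth.Agent.Lib.Helper27GrTildeQCoh
import Groth.Agent.S0844

/-!
# Higher direct images of `O(d)` along `P^r_Y ⟶ Y` (helper58)

* `nonempty_HH_equiv_of_iso`: cohomology is invariant under an isomorphism of schemes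
  (`H^i(U, (e⁻¹)^* N) ≃ H^i(P, N)` for `e : P ≅ U`, `N` quasi-coherent);
* `subsingleton_HE_preimage`: `H^i(f⁻¹V, O(d)) = 0` for `f : P^r_Y ⟶ Y`, `V ⊆ Y` affine open, outside the two
  ranges of S0844;
* `isZero_RpushAb_twistOver`: `R^i f_* O(d) = 0` outside the two ranges (= S4471).
-/

set_option autoImplicit false
set_option linter.style.haveILetI false
universe u
open CategoryTheory CategoryTheory.Limits Opposite TopologicalSpace AlgebraicGeometry

namespace Groth.Agent.R2.H58.PnOverVan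

section Transport

variable {P U : Scheme.{u}}

/-- for an isomorphism `e : P ≅ U`, `(e⁻¹)^* N ≅ e_* N`. -/
noncomputable def pullbackInvIsoPushforward (e : P ≅ U) (N : P.Modules) :
    (Scheme.Modules.pullback e.inv).obj N ≅ (Scheme.Modules.pushforward e.hom).obj N :=
  ((Scheme.Modules.restrictFunctorIsoPullback e.inv).app N).symm ≪≫
    (Scheme.Modules.restrictFunctor e.inv).mapIso
      (((Scheme.Modules.pushforwardId P).app N).symm ≪≫
        ((Scheme.Modules.pushforwardCongr e.hom_inv_id).app N).symm ≪≫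
        ((Scheme.Modules.pushforwardComp e.hom e.inv).app N).symm) ≪≫
    (Scheme.Modules.restrictFunctorAdjCounitIso e.inv).app ((Scheme.Modules.pushforward e.hom).obj N)

/-- cohomology is invariant under isomorphisms of schemes. -/
theorem nonempty_HH_equiv_of_iso (e : P ≅ U) (N : P.Modules) [Coh.IsQCoh N] (i : ℕ) :
    Nonempty (Coh.HH U ((Scheme.Modules.pullback e.inv).obj N) i ≃ Coh.HH P N i) := by
  have hb := Groth.Agent.R2.H70.Edge.pushEdge_bijective_of_isAffineHom e.hom N i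
  exact ⟨(Groth.Agent.R2.H82.TwistZero.hhEquivOfIso (pullbackInvIsoPushforward e N) i).toEquiv.trans
    (Equiv.ofBijective _ hb)⟩

end Transport

section Main

open Groth.Agent.Lib.Helper23.AffVanish

variable (Y : Scheme.{u}) (r : ℕ) (i : ℕ) (d : ℤ)

/-- `H^i(f⁻¹V, O(d)) = 0` over an affine open `V` of the base, outside the two ranges. -/
theorem subsingleton_HH_preimage (h₀ : ¬ (i = 0 ∧ 0 ≤ d)) (hn : ¬ (i = r ∧ d ≤ -((r : ℤ) + 1)))
    (V : Y.Opens) (hV : IsAffineOpen V) :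
    Subsingleton (Coh.HHon (CohB1.ProjSpaceOver r Y) (Twist.twistOver r Y d)
      (CohB1.ProjSpaceOver.toBase r Y ⁻¹ᵁ V) i) := by
  obtain ⟨a⟩ := Groth.Agent.R2.H55.TwistBC.nonempty_restrict_preimage_twistOver_iso r V hV d
  haveI : Coh.IsQCoh (Twist.twistProjSpace r Γ(Y, V) d) :=
    Groth.Agent.Lib.Helper27GrTildeSect.isQuasicoherent_tilde (CohB1.polyGrading r Γ(Y, V))
      (CohB1.polyGrading r Γ(Y, V)) d
  obtain ⟨b⟩ := nonempty_HH_equiv_of_iso (Groth.Agent.R2.H55.TwistBC.chartIso r V hV)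
    (Twist.twistProjSpace r Γ(Y, V) d) i
  haveI := Groth.Agent.S0844.result Γ(Y, V) r d i h₀ hn
  exact ((Groth.Agent.R2.H82.TwistZero.hhEquivOfIso a i).toEquiv.trans b).subsingleton

/-- the same in terms of `Ext` from the free sheaf `ℤ_{f⁻¹V}`. -/
theorem subsingleton_HE_preimage (h₀ : ¬ (i = 0 ∧ 0 ≤ d)) (hn : ¬ (i = r ∧ d ≤ -((r : ℤ) + 1)))
    (V : Y.Opens) (hV : IsAffineOpen V) :
    Subsingleton (HE (ab' (Twist.twistOver r Y d)) i
      ((Opens.map (CohB1.ProjSpaceOver.toBase r Y).base).obj V)) := by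
  have h1 := subsingleton_HH_preimage Y r i d h₀ hn V hV
  obtain ⟨eq1⟩ := Groth.Agent.Lib.Helper16.Restr.nonempty_HU_equiv
    (X := (CohB1.ProjSpaceOver r Y).carrier) (CohB1.ProjSpaceOver.toBase r Y ⁻¹ᵁ V)
    (ab' (Twist.twistOver r Y d)) i
  have h2 : Subsingleton (CohTop.H (CohTop.restr (X := (CohB1.ProjSpaceOver r Y).carrier)
      (ab' (Twist.twistOver r Y d)) (CohB1.ProjSpaceOver.toBase r Y ⁻¹ᵁ V)) i) := h1
  exact @Equiv.subsingleton _ _ eq1.toEquiv h2

/-- **`R^i f_* O(d) = 0`** on `P^r_Y ⟶ Y` outside the two ranges. -/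
theorem isZero_RpushAb_twistOver
    (h : ¬ ((i = 0 ∧ 0 ≤ d) ∨ (i = r ∧ d ≤ -((r : ℤ) + 1)))) :
    IsZero ((Coh.RpushAb (CohB1.ProjSpaceOver.toBase r Y) i).obj (Coh.toAb (Twist.twistOver r Y d))) := by
  have h₀ : ¬ (i = 0 ∧ 0 ≤ d) := fun hh => h (Or.inl hh)
  have hn : ¬ (i = r ∧ d ≤ -((r : ℤ) + 1)) := fun hh => h (Or.inr hh)
  cases i with
  | zero =>
    refine Groth.Agent.R2.H58.RpushDeg.isZero_Rpush_zero_of_basis
      (CohB1.ProjSpaceOver.toBase r Y).base Y.affineOpens Y.isBasis_affineOpens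
      (ab' (Twist.twistOver r Y d)) ?_
    intro V hV
    haveI := subsingleton_HE_preimage Y r 0 d h₀ hn V hV
    exact (h0F' (Twist.twistOver r Y d)
      ((Opens.map (CohB1.ProjSpaceOver.toBase r Y).base).obj V)).symm.toEquiv.subsingleton
  | succ n =>
    refine Groth.Agent.R2.H58.RpushDeg.isZero_Rpush_succ_of_basis
      (CohB1.ProjSpaceOver.toBase r Y).base Y.affineOpens Y.isBasis_affineOpens
      (ab' (Twist.twistOver r Y d)) n ?_
    intro V hV
    exact subsingleton_HE_preimage Y r (n + 1) d h₀ hn V hV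

end Main

end Groth.Agent.R2.H58.PnOverVan
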