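-- helper59: affineness of a map of fppf sheaves to a scheme is Zariski-local on the target; the
-- criterion "affine over every affine étale chart ⇒ affine" for maps to an algebraic space.
import Mathlib
import Groth.Agent.R2.H59AffDesc

set_option autoImplicit false
set_option linter.unusedSectionVars false
set_option linter.style.haveILetI false
universe u
open CategoryTheory CategoryTheory.Limits AlgebraicGeometry Opposite

set_option backward.isDefEq.respectTransparency false

namespace Groth.Agent.R2.H59.AffDesc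

open Groth.Agent.S13210 Groth.Agent.Lib.Helper12.ZarGlue

variable {S : Scheme.{u}}

/-- Affineness of a map to a scheme can be checked on the affine open cover of the target. -/
theorem isAffineMor_of_affineCover {P : AlgSp.Sp S} {U₀ : Over S}
    (a' : P ⟶ (AlgSp.yon S).obj U₀)
    (h : ∀ i : U₀.left.affineCover.I₀, ∃ (W : Over S)
      (w : W ⟶ Over.mk (U₀.left.affineCover.f i ≫ U₀.hom)) (m : (AlgSp.yon S).obj W ⟶ P),
      IsPullback m ((AlgSp.yon S).map w) a'
        ((AlgSp.yon S).map
          (Over.homMk (U₀.left.affineCover.f i) rfl :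
            Over.mk (U₀.left.affineCover.f i ≫ U₀.hom) ⟶ U₀)) ∧ IsAffine W.left) :
    AlgSp.IsAffineMor a' := by
  let Ti : U₀.left.affineCover.I₀ → Over S := fun i => Over.mk (U₀.left.affineCover.f i ≫ U₀.hom)
  let j : ∀ i, Ti i ⟶ U₀ := fun i => Over.homMk (U₀.left.affineCover.f i) rfl
  haveI : ∀ i, IsOpenImmersion (j i).left := fun i =>
    inferInstanceAs (IsOpenImmersion (U₀.left.affineCover.f i))
  have hj : ∀ t : U₀.left, ∃ i, t ∈ Set.range (j i).left := fun t => by
    obtain ⟨i, y, hy⟩ := U₀.left.affineCover.exists_eq t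
    exact ⟨i, y, hy⟩
  haveI hTi : ∀ i, IsAffine (Ti i).left := fun i =>
    inferInstanceAs (IsAffine (U₀.left.affineCover.X i))
  choose W w m sq hW using h
  haveI : ∀ i, IsAffine (W i).left := hW
  have sq' : ∀ i, IsPullback (m i) ((AlgSp.yon S).map (w i)) a'
      ((AlgSp.yon S).map (j i) ≫ 𝟙 _) := fun i => by
    rw [Category.comp_id]
    exact sq i
  obtain ⟨W₀, w₀, a₀, sq₀, hk⟩ := exists_rep_of_openCover a' (𝟙 _) Ti j W w m sq' hj
  choose k hk1 _ using hk
  have haff : IsAffineHom w₀.left :=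
    property_of_openCover @IsAffineHom w₀ Ti j hj W w k hk1 (fun i => inferInstance)
  intro Z hZ g
  obtain ⟨z, rfl⟩ := (AlgSp.yon S).map_surjective g
  have h1 := ((IsPullback.of_hasPullback w₀ z).map (AlgSp.yon S)).paste_horiz sq₀
  rw [Category.comp_id] at h1
  refine ⟨pullback w₀ z, pullback.snd w₀ z, (AlgSp.yon S).map (pullback.fst w₀ z) ≫ a₀, h1, ?_⟩
  have h2 := (IsPullback.of_hasPullback w₀ z).map (Over.forget S)
  haveI : IsAffineHom (pullback.snd w₀ z).left :=
    MorphismProperty.of_isPullback (P := @IsAffineHom) h2 haff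
  haveI : IsAffine Z.left := hZ
  exact isAffine_of_isAffineHom (pullback.snd w₀ z).left

/-- A map of fppf sheaves to an algebraic space whose base change to every affine étale chart is an
affine scheme is affine. -/
theorem isAffineMor_of_affine_etale_charts {F : AlgSp.Sp S} {Y : AlgSp.Space S} (f : F ⟶ Y.obj)
    (h : ∀ (V : Over S), IsAffine V.left → ∀ (b : (AlgSp.yon S).obj V ⟶ Y.obj),
      AlgSp.RepWith @Etale b → ∀ (P : AlgSp.Sp S) (fst : P ⟶ F)
      (snd : P ⟶ (AlgSp.yon S).obj V), IsPullback fst snd f b →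
      ∃ (W : Over S), IsAffine W.left ∧ Nonempty ((AlgSp.yon S).obj W ≅ P)) :
    AlgSp.IsAffineMor f := by
  obtain ⟨U₀, s, hse, hss⟩ := Y.property.atlas
  have hP := IsPullback.of_hasPullback f s
  refine isAffineMor_of_etale_surjective f s hse hss (pullback.fst f s) (pullback.snd f s) hP ?_
  apply isAffineMor_of_affineCover
  intro i
  set Ti : Over S := Over.mk (U₀.left.affineCover.f i ≫ U₀.hom) with hTi_def
  set j : Ti ⟶ U₀ := Over.homMk (U₀.left.affineCover.f i) rfl with hj_def
  have hj : Etale j.left := by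
    haveI : IsOpenImmersion j.left := inferInstanceAs (IsOpenImmersion (U₀.left.affineCover.f i))
    infer_instance
  have hb : AlgSp.RepWith @Etale ((AlgSp.yon S).map j ≫ s) :=
    (AlgSp.RepWith @Etale).comp_mem _ _ ((AlgSp.repWith_yon_map_iff _ _).2 hj) hse
  have hTi : IsAffine Ti.left := inferInstanceAs (IsAffine (U₀.left.affineCover.X i))
  obtain ⟨W, hW, ⟨e⟩⟩ := h Ti hTi ((AlgSp.yon S).map j ≫ s) hb
    (pullback f ((AlgSp.yon S).map j ≫ s)) (pullback.fst _ _) (pullback.snd _ _)
    (IsPullback.of_hasPullback _ _)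
  obtain ⟨w, hw⟩ := (AlgSp.yon S).map_surjective
    (e.hom ≫ pullback.snd f ((AlgSp.yon S).map j ≫ s))
  have sq1 : IsPullback (e.hom ≫ pullback.fst f ((AlgSp.yon S).map j ≫ s))
      ((AlgSp.yon S).map w) f ((AlgSp.yon S).map j ≫ s) := by
    rw [hw]
    exact IsPullback.of_iso (IsPullback.of_hasPullback _ _) e.symm (Iso.refl _) (Iso.refl _)
      (Iso.refl _) (by simp) (by simp) (by simp) (by simp)
  have hw' : (e.hom ≫ pullback.fst f ((AlgSp.yon S).map j ≫ s)) ≫ f =
      ((AlgSp.yon S).map w ≫ (AlgSp.yon S).map j) ≫ s := by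
    rw [sq1.w, Category.assoc]
  refine ⟨W, w, hP.lift _ _ hw', ?_, hW⟩
  refine IsPullback.of_right ?_ (hP.lift_snd _ _ _) hP
  rw [hP.lift_fst]
  exact sq1

end Groth.Agent.R2.H59.AffDesc
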