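import Groth.Agent.R2.H59QMain
import Groth.Agent.R2.H59EtSheaf
import Groth.Agent.R2.H59QPts
import Groth.Agent.S9874
import Groth.Agent.S10176
import Groth.Agent.S10177
import Groth.Agent.Lib.Helper12Proper
import Groth.Agent.Lib.Helper12QuasiFiniteDescent
import Groth.Agent.R2.H44FppfLocal
import Groth.Agent.R2.H59SLQF
import Groth.Agent.S10096

/-!
# Bootstrap: presheaves with charts representable by algebraic spaces (helper59)

* `isAlgSpaceP_of_kernelPair` : an etale sheaf `F` with an etale-locally surjective map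
  `h_U ⟶ F` whose kernel pair is an etale equivalence relation of schemes is an algebraic space.
* `exists_iso_yon_of_mono_pair` : an algebraic space with a jointly monic pair of maps to schemes,
  one of which is locally quasi-finite on etale charts, is a scheme (Theorem Q).
-/

set_option autoImplicit false
set_option backward.isDefEq.respectTransparency false
set_option linter.style.haveILetI false
set_option linter.unusedSectionVars false

universe u

open CategoryTheory CategoryTheory.Limits AlgebraicGeometry Opposite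

namespace Groth.Agent.R2.H59.Boot

open AlgSp Groth.Agent.R2.H59.EtSheaf

variable {S : Scheme.{u}}

lemma lqf_of_etale {X Y : Scheme.{u}} (f : X ⟶ Y) [Etale f] : LocallyQuasiFinite f := by
  constructor
  intro U hU V hV e
  have h1 : (f.appLE U V e).hom.FiniteType :=
    HasRingHomProperty.appLE (P := @LocallyOfFiniteType) f inferInstance ⟨U, hU⟩ ⟨V, hV⟩ e
  have h2 : (f.appLE U V e).hom.FormallyUnramified :=
    HasRingHomProperty.appLE (P := @FormallyUnramified) f inferInstance ⟨U, hU⟩ ⟨V, hV⟩ e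
  algebraize [(f.appLE U V e).hom]
  rw [← RingHom.algebraMap_toAlgebra (f.appLE U V e).hom, RingHom.quasiFinite_algebraMap]
  infer_instance

/-- An etale sheaf with an etale-locally surjective map from a scheme whose kernel pair is an
etale equivalence relation of schemes is an algebraic space. -/
theorem isAlgSpaceP_of_kernelPair (F : PSp S) (h1 : Presheaf.IsSheaf (Jet S) F) {R U : Over S}
    (s t : R ⟶ U) (p : (pyon S).obj U ⟶ F)
    (sq : IsPullback ((pyon S).map t) ((pyon S).map s) p p)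
    (hset : Etale s.left) (htet : Etale t.left)
    (hloc : Presheaf.IsLocallySurjective (Jet S) p) : IsAlgSpaceP F := by
  have hE : IsEqvRel s t := isEqvRel_of_isPullback s t p sq
  have hkπ := Groth.Agent.R2.H43.Quot.isPullback_πy s t hE
  obtain ⟨hG, hπe, hπs⟩ := Groth.Agent.R2.H59.EtQuot.isAlgSpace_of_kernelPair s t
    (Groth.Agent.R2.H43.Quot.πy s t) hkπ hset htet
  set G := QuotSh.quot Scheme.fppfPrecoverage s t with hGdef
  set π := Groth.Agent.R2.H43.Quot.πy s t with hπdef
  let Fe : Sheaf (Jet S) (Type (u + 1)) := ⟨F, h1⟩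
  let Ge : Sheaf (Jet S) (Type (u + 1)) := ⟨G.obj, Presheaf.IsSheaf.of_le Jet_le G.property⟩
  let Ue : Sheaf (Jet S) (Type (u + 1)) :=
    ⟨(pyon S).obj U, Presheaf.IsSheaf.of_le Jet_le ((yon S).obj U).property⟩
  let Re : Sheaf (Jet S) (Type (u + 1)) :=
    ⟨(pyon S).obj R, Presheaf.IsSheaf.of_le Jet_le ((yon S).obj R).property⟩
  let pe : Ue ⟶ Fe := ObjectProperty.homMk p
  let πe : Ue ⟶ Ge := ObjectProperty.homMk π.hom
  let te : Re ⟶ Ue := ObjectProperty.homMk ((pyon S).map t)
  let se : Re ⟶ Ue := ObjectProperty.homMk ((pyon S).map s)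
  have hkp : IsKernelPair pe te se :=
    IsPullback.of_map_of_faithful (sheafToPresheaf (Jet S) (Type (u + 1))) sq
  have hkq : IsKernelPair πe te se :=
    IsPullback.of_map_of_faithful (sheafToPresheaf (Jet S) (Type (u + 1)))
      (hkπ.map (sheafToPresheaf (AlgSp.J S) (Type (u + 1))))
  haveI : Epi pe := (Sheaf.isLocallySurjective_iff_epi pe).1 hloc
  haveI : Epi πe := (Sheaf.isLocallySurjective_iff_epi πe).1
    (isLocallySurjective_of_repWith π hπe hπs)
  obtain ⟨e, -⟩ := exists_iso_of_isKernelPair te se pe πe hkp hkq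
  exact ((isAlgSpaceP_obj_iff G).2 hG).of_iso
    ((sheafToPresheaf (Jet S) (Type (u + 1))).mapIso e).symm

/-- An algebraic space with a jointly monic pair of maps to schemes, the second of which is
locally quasi-finite on etale charts, is a scheme. -/
theorem exists_iso_yon_of_mono_pair {R : Sp S} (hR : IsAlgSpace R) {U V : Over S}
    (pt : R ⟶ (yon S).obj U) (ps : R ⟶ (yon S).obj V)
    (hmono : ∀ ⦃W : Sp S⦄ (a b : W ⟶ R), a ≫ pt = b ≫ pt → a ≫ ps = b ≫ ps → a = b)
    (hps : ∀ ⦃A : Over S⦄ (a : (yon S).obj A ⟶ R) (g : A ⟶ V), RepWith @Etale a →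
      a ≫ ps = (yon S).map g → LocallyQuasiFinite g.left ∧ LocallyOfFiniteType g.left) :
    ∃ W : Over S, Nonempty ((yon S).obj W ≅ R) := by
  let f : R ⟶ (yon S).obj (U ⨯ V) := Groth.Agent.R2.H43.Quot.yonProdLift pt ps
  have hf1 : f ≫ (yon S).map prod.fst = pt := Groth.Agent.R2.H43.Quot.yonProdLift_fst pt ps
  have hf2 : f ≫ (yon S).map prod.snd = ps := Groth.Agent.R2.H43.Quot.yonProdLift_snd pt ps
  haveI : Mono f := ⟨fun a b hab => hmono a b
    (by rw [← hf1, ← Category.assoc, hab, Category.assoc])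
    (by rw [← hf2, ← Category.assoc, hab, Category.assoc])⟩
  refine Groth.Agent.R2.H59.QMain.exists_iso_yon hR f
    (Groth.Agent.Lib.Helper12.Proper.isSeparatedMor_of_mono f) ?_
  intro A B a b h ha hb hcomm
  obtain ⟨b, rfl⟩ := (yon S).map_surjective b
  haveI : Etale b.left := (repWith_yon_map_iff _ _).1 hb
  have h1 : a ≫ ps = (yon S).map (h ≫ b ≫ prod.snd) := by
    rw [← hf2, ← Category.assoc, hcomm, Functor.map_comp, Functor.map_comp, Category.assoc]
  obtain ⟨h2, h3⟩ := hps a _ ha h1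
  rw [Over.comp_left] at h2 h3
  exact ⟨LocallyQuasiFinite.of_comp h.left (b ≫ prod.snd).left,
    locallyOfFiniteType_of_comp h.left (b ≫ prod.snd).left⟩

/-- `LocP lqf` gives the chart hypothesis of `exists_iso_yon_of_mono_pair`. -/
lemma chart_of_locP {R : Sp S} {V : Over S} (ps : R ⟶ (yon S).obj V)
    (h : LocP ((@LocallyQuasiFinite : MorphismProperty Scheme.{u}) ⊓ @LocallyOfFiniteType) ps) :
    ∀ ⦃A : Over S⦄ (a : (yon S).obj A ⟶ R) (g : A ⟶ V), RepWith @Etale a →
      a ≫ ps = (yon S).map g → LocallyQuasiFinite g.left ∧ LocallyOfFiniteType g.left := by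
  intro A a g ha hg
  exact h a (𝟙 _) g ha (repWith_id _ V) (by rw [Category.comp_id, hg])

/-- `IsEtaleMor` gives the chart hypothesis of `exists_iso_yon_of_mono_pair`. -/
lemma chart_of_isEtaleMor {R : Sp S} {V : Over S} (ps : R ⟶ (yon S).obj V)
    (h : IsEtaleMor ps) :
    ∀ ⦃A : Over S⦄ (a : (yon S).obj A ⟶ R) (g : A ⟶ V), RepWith @Etale a →
      a ≫ ps = (yon S).map g → LocallyQuasiFinite g.left ∧ LocallyOfFiniteType g.left := by
  intro A a g ha hg
  have h1 := h a ha
  rw [hg] at h1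
  haveI : Etale g.left := (repWith_yon_map_iff _ _).1 h1
  exact ⟨lqf_of_etale g.left, inferInstance⟩

/-- A map `h_X ⟶ F` of presheaves which is representable by algebraic spaces and locally
quasi-finite is representable by schemes. -/
theorem relativelyRepresentable_of_lqf (F : PSp S) (X : Over S) (p : (pyon S).obj X ⟶ F)
    (hp : RepBySpWith
      (LocP ((@LocallyQuasiFinite : MorphismProperty Scheme.{u}) ⊓ @LocallyOfFiniteType)) p) :
    (pyon S).relativelyRepresentable p := by
  intro Z ξ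
  have sq := IsPullback.of_hasPullback p ξ
  obtain ⟨hsh, hAlg, hQ⟩ := hp ξ _ _ sq
  let W : Sp S := ⟨pullback p ξ, hsh⟩
  let pt : W ⟶ (yon S).obj X := ObjectProperty.homMk (pullback.fst p ξ)
  let ps : W ⟶ (yon S).obj Z := ObjectProperty.homMk (pullback.snd p ξ)
  have hmono : ∀ ⦃W' : Sp S⦄ (a b : W' ⟶ W), a ≫ pt = b ≫ pt → a ≫ ps = b ≫ ps → a = b := by
    intro W' a b h1 h2
    apply ObjectProperty.hom_ext
    apply pullback.hom_ext
    · exact congrArg (fun m => m.hom) h1
    · exact congrArg (fun m => m.hom) h2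
  obtain ⟨W₀, ⟨e⟩⟩ := exists_iso_yon_of_mono_pair hAlg pt ps hmono (chart_of_locP ps hQ)
  obtain ⟨snd, hsnd⟩ := (yon S).map_surjective (e.hom ≫ ps)
  refine ⟨W₀, snd, (e.hom ≫ pt).hom, ?_⟩
  have hinv : e.inv.hom ≫ e.hom.hom = 𝟙 (pullback p ξ) :=
    congrArg (fun m => m.hom) e.inv_hom_id
  have hsnd' : (pyon S).map snd = e.hom.hom ≫ pullback.snd p ξ :=
    congrArg (fun m => m.hom) hsnd
  refine IsPullback.of_iso sq ((sheafToPresheaf _ _).mapIso e).symm (Iso.refl _) (Iso.refl _)
    (Iso.refl _) ?_ ?_ ?_ ?_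
  · change pullback.fst p ξ ≫ 𝟙 _ = e.inv.hom ≫ e.hom.hom ≫ pullback.fst p ξ
    rw [← Category.assoc, hinv, Category.id_comp, Category.comp_id]
  · change pullback.snd p ξ ≫ 𝟙 _ = e.inv.hom ≫ (pyon S).map snd
    rw [hsnd', ← Category.assoc, hinv, Category.id_comp, Category.comp_id]
  · simp
  · simp

/-- A map of sheaves which is representable by algebraic spaces, separated and locally
quasi-finite is representable by schemes (Theorem Q), with the same properties. -/
theorem repWith_of_repBySpWith_sep_lqf {E F : Sp S} (a : E ⟶ F)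
    (ha : RepBySpWith (IsSeparatedMor ⊓
      LocP ((@LocallyQuasiFinite : MorphismProperty Scheme.{u}) ⊓ @LocallyOfFiniteType)) a.hom) :
    RepWith @IsSeparated a ∧ RepWith @LocallyQuasiFinite a ∧ RepWith @LocallyOfFiniteType a := by
  rw [repBySpWith_hom_iff] at ha
  have hrep : Representable a := by
    intro T ξ
    obtain ⟨hX, hsep, hqf⟩ := ha ξ _ _ (IsPullback.of_hasPullback a ξ)
    obtain ⟨W, ⟨e⟩⟩ := Groth.Agent.R2.H59.QMain.exists_iso_yon hX (pullback.snd a ξ) hsep hqf
    obtain ⟨w, hw⟩ := (yon S).map_surjective (e.hom ≫ pullback.snd a ξ)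
    refine ⟨W, w, e.hom ≫ pullback.fst a ξ, ?_⟩
    rw [hw]
    exact IsPullback.of_iso (IsPullback.of_hasPullback a ξ) e.symm (Iso.refl _) (Iso.refl _)
      (Iso.refl _) (by simp) (by simp) (by simp) (by simp)
  have key : ∀ ⦃U V : Over S⦄ (g : (yon S).obj U ⟶ F) (fst : (yon S).obj V ⟶ E) (snd : V ⟶ U),
      IsPullback fst ((yon S).map snd) a g →
        IsSeparated snd.left ∧ LocallyQuasiFinite snd.left ∧ LocallyOfFiniteType snd.left := by
    intro U V g fst snd sq
    obtain ⟨-, hsep, hqf⟩ := ha g fst _ sq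
    exact ⟨(isSeparatedMor_yon_map_iff snd).1 hsep, locP_yon_map hqf⟩
  exact ⟨⟨hrep, fun U V g fst snd sq => (key g fst snd sq).1⟩,
    ⟨hrep, fun U V g fst snd sq => (key g fst snd sq).2.1⟩,
    ⟨hrep, fun U V g fst snd sq => (key g fst snd sq).2.2⟩⟩

/-- fppf descent of representability for separated locally quasi-finite maps, with covers
representable by algebraic spaces. -/
theorem repWith_of_isPullback_fppf {E F G H : Sp S}
    (a : E ⟶ F) (f : E ⟶ H) (g : F ⟶ G) (b : H ⟶ G) (sq : IsPullback a f g b)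
    (hg : RepBySpWith (IsSurjectiveMor ⊓ LocP @Flat ⊓ LocP @LocallyOfFinitePresentation) g.hom)
    (ha : RepBySpWith (IsSeparatedMor ⊓
      LocP ((@LocallyQuasiFinite : MorphismProperty Scheme.{u}) ⊓ @LocallyOfFiniteType)) a.hom) :
    RepWith @IsSeparated b ∧
      RepWith ((@LocallyQuasiFinite : MorphismProperty Scheme.{u}) ⊓ @LocallyOfFiniteType) b := by
  obtain ⟨h₁, h₂, h₃⟩ := repWith_of_repBySpWith_sep_lqf a ha
  haveI : Epi g := Groth.Agent.S10096.result S F G g hg
  haveI : Sheaf.IsLocallySurjective g := (Sheaf.isLocallySurjective_iff_epi g).2 inferInstance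
  haveI := Groth.Agent.R2.H44.FppfLocal.isSeparated.{u}
  haveI : MorphismProperty.IsLocalAtTarget
      ((@LocallyQuasiFinite : MorphismProperty Scheme.{u}) ⊓ @LocallyOfFiniteType)
      Scheme.fppfPrecoverage :=
    Groth.Agent.R2.H44.FppfLocal.isLocalAtTarget_fppf_of_fpqc _
      Groth.Agent.Lib.Helper12.descendsAlong_locallyQuasiFinite_inf_locallyOfFiniteType
  have h₄ : RepWith ((@LocallyQuasiFinite : MorphismProperty Scheme.{u}) ⊓ @LocallyOfFiniteType) a :=
    ⟨h₁.1, fun U V g fst snd sq => ⟨h₂.2 g fst snd sq, h₃.2 g fst snd sq⟩⟩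
  exact ⟨Groth.Agent.R2.H59.SLQF.repWith_of_locallySurjective b g f a sq.flip h₁ h₂ h₃ _ h₁,
    Groth.Agent.R2.H59.SLQF.repWith_of_locallySurjective b g f a sq.flip h₁ h₂ h₃ _ h₄⟩

/-- A chart of a surjective map to a scheme is surjective on underlying schemes. -/
lemma surjective_left_of_isSurjectiveMor {Y : Sp S} {T V : Over S} (snd : Y ⟶ (yon S).obj T)
    (hsurj : IsSurjectiveMor snd) (d : (yon S).obj V ⟶ Y) (hds : RepWith @Surjective d)
    (v : V ⟶ T) (hv : (yon S).map v = d ≫ snd) : Surjective v.left := by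
  refine ⟨fun t => ?_⟩
  obtain ⟨y, hy⟩ := hsurj (AlgSp.Points.ofScheme T t)
  obtain ⟨u, hu⟩ := Groth.Agent.S10177.surjective_ofPt d hds y
  refine ⟨u, ?_⟩
  apply (AlgSp.Points.schemeEquiv T).injective
  show AlgSp.Points.ofScheme T (v.left u) = AlgSp.Points.ofScheme T t
  rw [← hy, ← hu, AlgSp.Points.map_ofPt, ← hv]
  have h3 := Groth.Agent.S10176.ofPt_map_comp v (𝟙 _) u
  rw [Category.comp_id] at h3
  exact h3.symm

/-- A map of presheaves which is representable by algebraic spaces, surjective and etale is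
locally surjective for the etale topology. -/
theorem isLocallySurjective_of_repBySpWith {G F : PSp S} (p : G ⟶ F)
    (h2 : RepBySpWith (IsSurjectiveMor ⊓ IsEtaleMor) p) :
    Presheaf.IsLocallySurjective (Jet S) p := by
  constructor
  intro T x
  obtain ⟨ξ, hξ⟩ : ∃ ξ : (pyon S).obj T ⟶ F, uliftYonedaEquiv ξ = x :=
    ⟨uliftYonedaEquiv.symm x, Equiv.apply_symm_apply _ _⟩
  have sq := IsPullback.of_hasPullback p ξ
  obtain ⟨hsh, hAlg, hsurj, het⟩ := h2 ξ _ _ sq
  let Y : Sp S := ⟨pullback p ξ, hsh⟩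
  let snd : Y ⟶ (yon S).obj T := ObjectProperty.homMk (pullback.snd p ξ)
  have hAlg' : IsAlgSpace Y := hAlg
  obtain ⟨V, d, hde, hds⟩ := hAlg'.atlas
  obtain ⟨v, hv⟩ := (yon S).map_surjective (d ≫ snd)
  haveI : Etale v.left := (repWith_yon_map_iff _ _).1 (by rw [hv]; exact het d hde)
  haveI : Surjective v.left := surjective_left_of_isSurjectiveMor snd hsurj d hds v hv
  refine (Jet S).superset_covering ?_ (generate_singleton_mem_Jet v)
  rw [Sieve.generate_le_iff]
  rintro _ _ ⟨⟩
  refine ⟨uliftYonedaEquiv (d.hom ≫ pullback.fst p ξ), ?_⟩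
  rw [← hξ]
  have h3 := uliftYonedaEquiv_comp (d.hom ≫ pullback.fst p ξ) p
  have h4 : (d.hom ≫ pullback.fst p ξ) ≫ p = (pyon S).map v ≫ ξ := by
    rw [Category.assoc, pullback.condition, ← Category.assoc]
    exact congrArg (fun m => m ≫ ξ) (congrArg (fun m => m.hom) hv).symm
  rw [h4] at h3
  rw [← h3]
  exact (uliftYonedaEquiv_naturality ξ v.op).symm

/-- **Bootstrap**: an etale sheaf receiving a surjective etale map, representable by algebraic
spaces, from an algebraic space is an algebraic space. -/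
theorem isAlgSpaceP_of_repBySpWith_etale (F : PSp S) (h1 : Presheaf.IsSheaf (Jet S) F)
    (U : Space S) (p : U.obj.obj ⟶ F) (h2 : RepBySpWith (IsSurjectiveMor ⊓ IsEtaleMor) p) :
    IsAlgSpaceP F := by
  obtain ⟨U₀, c, hce, hcs⟩ := U.property.atlas
  let q : (pyon S).obj U₀ ⟶ F := c.hom ≫ p
  have sqY := IsPullback.of_hasPullback p q
  obtain ⟨hYsh, hY, hYsurj, hYet⟩ := h2 q _ _ sqY
  let Y : Sp S := ⟨pullback p q, hYsh⟩
  let fstY : Y ⟶ U.obj := ObjectProperty.homMk (pullback.fst p q)
  let sndY : Y ⟶ (yon S).obj U₀ := ObjectProperty.homMk (pullback.snd p q)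
  have hY' : IsAlgSpace Y := hY
  have hYet' : IsEtaleMor sndY := hYet
  have sqR := IsPullback.of_hasPullback c fstY
  have hR : IsAlgSpace (pullback c fstY) :=
    Groth.Agent.S9874.isAlgSpace_of_isPullback U.property.diag (IsAlgSpace.yon_obj U₀) hY' sqR
  let pt : pullback c fstY ⟶ (yon S).obj U₀ := pullback.fst c fstY
  let ps : pullback c fstY ⟶ (yon S).obj U₀ := pullback.snd c fstY ≫ sndY
  have hkP : IsPullback ps.hom pt.hom q q :=
    ((sqR.flip).map (sheafToPresheaf (J S) (Type (u + 1)))).paste_horiz sqY.flip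
  have hsndR : RepWith @Etale (pullback.snd c fstY) :=
    MorphismProperty.of_isPullback (P := RepWith @Etale) sqR hce
  have hps : IsEtaleMor ps := by
    intro W φ hφ
    have h3 := hYet' (φ ≫ pullback.snd c fstY)
      (Groth.Agent.R2.H59.QPts.repWith_etale_comp hφ hsndR)
    rwa [Category.assoc] at h3
  have hmono : ∀ ⦃W' : Sp S⦄ (a b : W' ⟶ pullback c fstY),
      a ≫ pt = b ≫ pt → a ≫ ps = b ≫ ps → a = b := by
    intro W' a b h3 h4
    apply ObjectProperty.hom_ext
    apply hkP.hom_ext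
    · exact congrArg (fun m => m.hom) h4
    · exact congrArg (fun m => m.hom) h3
  obtain ⟨R₀, ⟨e⟩⟩ := exists_iso_yon_of_mono_pair hR pt ps hmono (chart_of_isEtaleMor ps hps)
  obtain ⟨s, hs⟩ := (yon S).map_surjective (e.hom ≫ pt)
  obtain ⟨t, ht⟩ := (yon S).map_surjective (e.hom ≫ ps)
  have hs' : (pyon S).map s = e.hom.hom ≫ pt.hom := congrArg (fun m => m.hom) hs
  have ht' : (pyon S).map t = e.hom.hom ≫ ps.hom := congrArg (fun m => m.hom) ht
  have hk : IsPullback ((pyon S).map t) ((pyon S).map s) q q := by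
    refine IsPullback.of_iso hkP ((sheafToPresheaf _ _).mapIso e).symm (Iso.refl _) (Iso.refl _)
      (Iso.refl _) ?_ ?_ (by simp) (by simp)
    · change ps.hom ≫ 𝟙 _ = e.inv.hom ≫ (pyon S).map t
      rw [ht', ← Category.assoc]
      have : e.inv.hom ≫ e.hom.hom = 𝟙 _ := congrArg (fun m => m.hom) e.inv_hom_id
      rw [this, Category.id_comp, Category.comp_id]
    · change pt.hom ≫ 𝟙 _ = e.inv.hom ≫ (pyon S).map s
      rw [hs', ← Category.assoc]
      have : e.inv.hom ≫ e.hom.hom = 𝟙 _ := congrArg (fun m => m.hom) e.inv_hom_id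
      rw [this, Category.id_comp, Category.comp_id]
  have htet : Etale t.left := by
    refine (repWith_yon_map_iff _ _).1 ?_
    rw [ht]
    exact hps e.hom (MorphismProperty.of_isIso (RepWith @Etale) e.hom)
  -- the swap
  obtain ⟨σ', hσ1, hσ2⟩ := hk.exists_lift ((pyon S).map s) ((pyon S).map t) hk.w.symm
  obtain ⟨σ, rfl⟩ : ∃ σ : R₀ ⟶ R₀, (pyon S).map σ = σ' := ⟨_, (pyon S).map_preimage σ'⟩
  have hσt : σ ≫ t = s := (pyon S).map_injective (by rw [Functor.map_comp, hσ1])
  have hσs : σ ≫ s = t := (pyon S).map_injective (by rw [Functor.map_comp, hσ2])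
  have hσσ : σ ≫ σ = 𝟙 R₀ := by
    apply (pyon S).map_injective
    apply hk.hom_ext
    · rw [← Functor.map_comp, ← Functor.map_comp, Category.assoc, hσt, hσs, Category.id_comp]
    · rw [← Functor.map_comp, ← Functor.map_comp, Category.assoc, hσs, hσt, Category.id_comp]
  haveI : IsIso σ := ⟨σ, hσσ, hσσ⟩
  have hset : Etale s.left := by
    rw [← hσt, Over.comp_left]
    infer_instance
  haveI : Presheaf.IsLocallySurjective (Jet S) c.hom := isLocallySurjective_of_repWith c hce hcs
  haveI : Presheaf.IsLocallySurjective (Jet S) p := isLocallySurjective_of_repBySpWith p h2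
  have hloc : Presheaf.IsLocallySurjective (Jet S) q := inferInstance
  exact isAlgSpaceP_of_kernelPair F h1 s t q hk hset htet hloc

end Groth.Agent.R2.H59.Boot
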