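import Groth.Agent.R2.H59Boot
import Groth.Agent.R2.H44LimSp
import Groth.Agent.S9882
import Groth.Agent.S9948
import Groth.Agent.Lib.Helper12LocPCases

/-!
# Bootstrap: the diagonal of a sheaf with an fppf cover representable by algebraic spaces
(helper59)

* `IsEqz` : a lightweight equalizer predicate, with base change and the relation to pullbacks of
  the diagonal.
* `lqf_of_lqf_pullback_fst` : a morphism of schemes whose kernel pair projection is locally
  quasi-finite is locally quasi-finite.
* `locP_lqf_of_mono` : a monomorphism from a sheaf to a scheme, locally of finite type on etale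
  charts, is locally quasi-finite.
* `representable_diag` : the diagonal of `F` is representable when `F` receives a map from an
  algebraic space which is representable by algebraic spaces, flat, surjective, locally of finite
  presentation.
-/

set_option autoImplicit false
set_option backward.isDefEq.respectTransparency false
set_option linter.style.haveILetI false
set_option linter.unusedSectionVars false

universe u

open CategoryTheory CategoryTheory.Limits AlgebraicGeometry Opposite

namespace Groth.Agent.R2.H59.BootDiag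

open AlgSp Groth.Agent.R2.H59.Boot

section Eqz

variable {C : Type*} [Category C]

/-- `ι` is an equalizer of `φ` and `ψ`. -/
structure IsEqz {E G F : C} (ι : E ⟶ G) (φ ψ : G ⟶ F) : Prop where
  w : ι ≫ φ = ι ≫ ψ
  mono : Mono ι
  lift : ∀ ⦃W : C⦄ (t : W ⟶ G), t ≫ φ = t ≫ ψ → ∃ l : W ⟶ E, l ≫ ι = t

variable {E G F : C} {ι : E ⟶ G} {φ ψ : G ⟶ F}

lemma IsEqz.isPullback [HasBinaryProducts C] (h : IsEqz ι φ ψ) :
    IsPullback (ι ≫ φ) ι (Limits.diag F) (prod.lift φ ψ) := by
  haveI := h.mono
  have hw : (ι ≫ φ) ≫ Limits.diag F = ι ≫ prod.lift φ ψ := by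
    apply Limits.prod.hom_ext
    · simp
    · simp [h.w]
  have key1 : ∀ s : PullbackCone (Limits.diag F) (prod.lift φ ψ), s.fst = s.snd ≫ φ := by
    intro s
    have h1 := congrArg (fun k => k ≫ prod.fst) s.condition
    simpa only [Category.assoc, Limits.diag, prod.lift_fst, Category.comp_id] using h1
  have key2 : ∀ s : PullbackCone (Limits.diag F) (prod.lift φ ψ), s.fst = s.snd ≫ ψ := by
    intro s
    have h2 := congrArg (fun k => k ≫ prod.snd) s.condition
    simpa only [Category.assoc, Limits.diag, prod.lift_snd, Category.comp_id] using h2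
  have key : ∀ s : PullbackCone (Limits.diag F) (prod.lift φ ψ), s.snd ≫ φ = s.snd ≫ ψ :=
    fun s => (key1 s).symm.trans (key2 s)
  refine IsPullback.of_isLimit' ⟨hw⟩ (PullbackCone.IsLimit.mk _
    (fun s => (h.lift s.snd (key s)).choose) (fun s => ?_)
    (fun s => (h.lift s.snd (key s)).choose_spec) (fun s m' h1 h2 => ?_))
  · rw [← Category.assoc, (h.lift s.snd (key s)).choose_spec, key1 s]
  · rw [← cancel_mono ι, h2, (h.lift s.snd (key s)).choose_spec]

lemma IsEqz.of_isPullback [HasBinaryProducts C] {e : E ⟶ F}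
    (sq : IsPullback e ι (Limits.diag F) (prod.lift φ ψ)) : IsEqz ι φ ψ := by
  have h1 := congrArg (fun k => k ≫ prod.fst) sq.w
  have h2 := congrArg (fun k => k ≫ prod.snd) sq.w
  simp only [Category.assoc, Limits.diag, prod.lift_fst, prod.lift_snd, Category.comp_id] at h1 h2
  refine ⟨h1.symm.trans h2, ⟨fun a b hab => ?_⟩, fun W t ht => ?_⟩
  · apply sq.hom_ext _ hab
    rw [h1, ← Category.assoc, hab, Category.assoc]
  · refine ⟨sq.lift (t ≫ φ) t ?_, sq.lift_snd _ _ _⟩
    apply Limits.prod.hom_ext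
    · simp
    · simp [ht]

lemma IsEqz.baseChange (h : IsEqz ι φ ψ) {E' G' : C} {t' : E' ⟶ E} {ι' : E' ⟶ G'} {t : G' ⟶ G}
    (sq : IsPullback t' ι' ι t) : IsEqz ι' (t ≫ φ) (t ≫ ψ) := by
  haveI := h.mono
  refine ⟨?_, ⟨fun a b hab => ?_⟩, fun W s hs => ?_⟩
  · rw [← Category.assoc, ← Category.assoc, ← sq.w, Category.assoc, Category.assoc, h.w]
  · apply sq.hom_ext _ hab
    rw [← cancel_mono ι, Category.assoc, Category.assoc, sq.w, ← Category.assoc, hab,
      Category.assoc]
  · obtain ⟨l, hl⟩ := h.lift (s ≫ t) (by simpa only [Category.assoc] using hs)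
    exact ⟨sq.lift l s hl, sq.lift_snd _ _ _⟩

end Eqz

section Sch

lemma fpqc_of_fields {K L : Type u} [Field K] [Field L]
    (f : Spec (CommRingCat.of L) ⟶ Spec (CommRingCat.of K)) :
    (@Surjective ⊓ @Flat ⊓ @QuasiCompact : MorphismProperty Scheme.{u}) f := by
  refine ⟨⟨⟨fun y => ?_⟩, ?_⟩, inferInstance⟩
  · haveI : Subsingleton (Spec (CommRingCat.of K)) :=
      inferInstanceAs (Subsingleton (PrimeSpectrum K))
    haveI : Nonempty (Spec (CommRingCat.of L)) := inferInstanceAs (Nonempty (PrimeSpectrum L))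
    exact ⟨Classical.arbitrary _, Subsingleton.elim _ _⟩
  · obtain ⟨φ, rfl⟩ := Spec.map_surjective f
    rw [HasRingHomProperty.Spec_iff (P := @Flat)]
    algebraize [φ.hom]
    show Module.Flat K L
    infer_instance

/-- A morphism of schemes whose kernel pair projection is locally quasi-finite is locally
quasi-finite. -/
lemma lqf_of_lqf_pullback_fst {A B : Scheme.{u}} (h : A ⟶ B)
    (hp : LocallyQuasiFinite (pullback.fst h h)) : LocallyQuasiFinite h := by
  refine LocallyQuasiFinite.of_fiberToSpecResidueField h (fun b => ?_)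
  rcases isEmpty_or_nonempty (h.fiber b) with hE | ⟨⟨z⟩⟩
  · infer_instance
  · let r := B.fromSpecResidueField b
    let g := h.fiberToSpecResidueField b
    let ι : h.fiber b ⟶ A := h.fiberι b
    let f : Spec ((h.fiber b).residueField z) ⟶ Spec (B.residueField b) :=
      (h.fiber b).fromSpecResidueField z ≫ g
    let ζ : Spec ((h.fiber b).residueField z) ⟶ A := (h.fiber b).fromSpecResidueField z ≫ ι
    have hf : (@Surjective ⊓ @Flat ⊓ @QuasiCompact : MorphismProperty Scheme.{u}) f :=
      fpqc_of_fields (K := B.residueField b) (L := (h.fiber b).residueField z) f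
    haveI := Groth.Agent.Lib.Helper12.descendsAlong_locallyQuasiFinite.{u}
    refine MorphismProperty.of_pullback_fst_of_descendsAlong (P := @LocallyQuasiFinite)
      (f := f) (g := g) hf ?_
    have sqR : IsPullback ι g h r := IsPullback.of_hasPullback h r
    have hζ : f ≫ r = ζ ≫ h := by
      simp only [f, ζ, Category.assoc]
      rw [sqR.w]
    have big : IsPullback (pullback.snd f g ≫ ι) (pullback.fst f g) h (ζ ≫ h) := by
      rw [← hζ]
      exact (IsPullback.of_hasPullback f g).flip.paste_horiz sqR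
    have w : (pullback.fst f g ≫ ζ) ≫ h = (pullback.snd f g ≫ ι) ≫ h := by
      rw [Category.assoc, ← hζ, ← Category.assoc, pullback.condition, Category.assoc, ← sqR.w,
        Category.assoc]
    have left : IsPullback (pullback.lift _ _ w) (pullback.fst f g) (pullback.fst h h) ζ := by
      refine IsPullback.of_right ?_ (pullback.lift_fst _ _ _) (IsPullback.of_hasPullback h h).flip
      rw [pullback.lift_snd]
      exact big
    exact MorphismProperty.of_isPullback (P := @LocallyQuasiFinite) left hp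

end Sch

variable {S : Scheme.{u}}

/-- An etale chart of a sheaf which is monic over a scheme is locally quasi-finite over it. -/
lemma lqf_of_mono_chart {R : Sp S} {A B : Over S} (j : R ⟶ (yon S).obj B) [Mono j]
    (a : (yon S).obj A ⟶ R) (ha : RepWith @Etale a) (h : A ⟶ B)
    (hh : a ≫ j = (yon S).map h) : LocallyQuasiFinite h.left := by
  obtain ⟨P, snd, fst, sq⟩ := ha.rep a
  obtain ⟨fst, rfl⟩ := (yon S).map_surjective fst
  haveI : Etale snd.left := ha.property a _ snd sq
  have hk : IsPullback ((yon S).map fst) ((yon S).map snd) ((yon S).map h) ((yon S).map h) := by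
    rw [← hh]
    exact IsKernelPair.comp_of_mono sq
  have hk' : IsPullback fst snd h h :=
    IsPullback.of_map (yon S) ((yon S).map_injective (by
      rw [Functor.map_comp, Functor.map_comp, hk.w])) hk
  have hk'' := (hk'.map (Over.forget S)).flip
  apply lqf_of_lqf_pullback_fst
  have h3 : pullback.fst h.left h.left = hk''.isoPullback.inv ≫ snd.left :=
    (hk''.isoPullback_inv_fst).symm
  rw [h3]
  haveI := lqf_of_etale snd.left
  infer_instance

/-- A monomorphism from a sheaf to a scheme which is locally of finite type on etale charts is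
locally quasi-finite. -/
theorem locP_lqf_of_mono {R : Sp S} {B : Over S} (j : R ⟶ (yon S).obj B) [Mono j]
    (hlft : ∀ ⦃A : Over S⦄ (a : (yon S).obj A ⟶ R) (h : A ⟶ B), RepWith @Etale a →
      a ≫ j = (yon S).map h → LocallyOfFiniteType h.left) :
    LocP ((@LocallyQuasiFinite : MorphismProperty Scheme.{u}) ⊓ @LocallyOfFiniteType) j := by
  intro A B' a b h ha hb comm
  obtain ⟨b, rfl⟩ := (yon S).map_surjective b
  haveI : Etale b.left := (repWith_yon_map_iff _ _).1 hb
  rw [← Functor.map_comp] at comm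
  have h1 : LocallyQuasiFinite (h ≫ b).left := lqf_of_mono_chart j a ha _ comm
  have h2 : LocallyOfFiniteType (h ≫ b).left := hlft a _ ha comm
  rw [Over.comp_left] at h1 h2
  exact ⟨LocallyQuasiFinite.of_comp h.left b.left, locallyOfFiniteType_of_comp h.left b.left⟩

/-- base change for `RepBySpWith`, at the level of sheaves. -/
lemma repBySpWith_baseChange (Q : MorphismProperty (Sp S)) {F₁ G G' F₁' : Sp S} {a : F₁ ⟶ G}
    {g' : G' ⟶ G} {fst : F₁' ⟶ F₁} {snd : F₁' ⟶ G'} (sq : IsPullback fst snd a g')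
    (ha : RepBySpWith Q a.hom) : RepBySpWith Q snd.hom := by
  rw [repBySpWith_hom_iff] at ha ⊢
  intro U ξ F'' fst' snd' sq'
  exact ha (ξ ≫ g') (fst' ≫ fst) snd' (sq'.paste_horiz sq)

/-- flat, surjective, locally of finite presentation. -/
abbrev FppfQ : MorphismProperty (Sp S) :=
  IsSurjectiveMor ⊓ LocP @Flat ⊓ LocP @LocallyOfFinitePresentation

/-- separated and locally quasi-finite. -/
abbrev SlqfQ : MorphismProperty (Sp S) :=
  IsSeparatedMor ⊓ LocP ((@LocallyQuasiFinite : MorphismProperty Scheme.{u}) ⊓ @LocallyOfFiniteType)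

variable {X F : Sp S}

/-- Claim C: the locus where two points of `X` agree in `F` is an algebraic space, separated and
locally quasi-finite over the base. -/
theorem claimC (hX : IsAlgSpace X) (p : X ⟶ F) (hp : RepBySpWith FppfQ p.hom) {V : Over S}
    (x₁ x₂ : (yon S).obj V ⟶ X) {E : Sp S} (ι : E ⟶ (yon S).obj V)
    (h : IsEqz ι (x₁ ≫ p) (x₂ ≫ p)) : IsAlgSpace E ∧ SlqfQ ι := by
  haveI := h.mono
  have hp' := (repBySpWith_hom_iff _ p).1 hp
  obtain ⟨hX₂, -, hlfp⟩ := hp' (x₂ ≫ p) _ _ (IsPullback.of_hasPullback p (x₂ ≫ p))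
  have hw : (ι ≫ x₁) ≫ p = ι ≫ x₂ ≫ p := by rw [Category.assoc, h.w]
  let m : E ⟶ pullback p (x₂ ≫ p) := pullback.lift (ι ≫ x₁) ι hw
  have hm1 : m ≫ pullback.fst p (x₂ ≫ p) = ι ≫ x₁ := pullback.lift_fst _ _ _
  have hm2 : m ≫ pullback.snd p (x₂ ≫ p) = ι := pullback.lift_snd _ _ _
  have hm : IsEqz m (pullback.fst p (x₂ ≫ p)) (pullback.snd p (x₂ ≫ p) ≫ x₁) := by
    refine ⟨by rw [hm1, ← Category.assoc, hm2], mono_of_mono_fac hm2, fun W t ht => ?_⟩
    obtain ⟨l, hl⟩ := h.lift (t ≫ pullback.snd p (x₂ ≫ p)) (by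
      have h5 : t ≫ (pullback.snd p (x₂ ≫ p) ≫ x₁) ≫ p = t ≫ pullback.fst p (x₂ ≫ p) ≫ p := by
        rw [← Category.assoc, ← ht, Category.assoc]
      rw [Category.assoc, Category.assoc, ← Category.assoc (pullback.snd p (x₂ ≫ p)), h5,
        pullback.condition])
    refine ⟨l, ?_⟩
    apply pullback.hom_ext
    · rw [Category.assoc, hm1, ← Category.assoc, hl, Category.assoc, ht]
    · rw [Category.assoc, hm2, hl]
  have sqm := hm.isPullback
  obtain ⟨hd1, -, -, -⟩ := Groth.Agent.S9882.result S ⟨X, hX⟩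
  have hmlft : RepWith @LocallyOfFiniteType m :=
    MorphismProperty.of_isPullback (P := RepWith @LocallyOfFiniteType) sqm hd1
  have hE : IsAlgSpace E :=
    Groth.Agent.R2.H44.LimSp.isAlgSpace_of_representable m hmlft.1 hX₂
  have hm' : LocP @LocallyOfFiniteType m :=
    (Groth.Agent.S9948.locP_iff_repWith @LocallyOfFiniteType
      (fun g hg => by haveI := hg; infer_instance) hX₂ m hmlft.1).2 hmlft
  have hsnd : LocP @LocallyOfFiniteType (pullback.snd p (x₂ ≫ p)) := by
    intro A B a b k ha hb comm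
    haveI : LocallyOfFinitePresentation k.left := hlfp a b k ha hb comm
    infer_instance
  have hι : LocP @LocallyOfFiniteType ι := by
    rw [← hm2]
    exact Groth.Agent.Lib.Helper12.LocPCases.good_lft.locP_comp hX₂ (IsAlgSpace.yon_obj V) m _
      hm' hsnd
  refine ⟨hE, Groth.Agent.Lib.Helper12.Proper.isSeparatedMor_of_mono ι, ?_⟩
  refine locP_lqf_of_mono ι (fun A a k ha hk => ?_)
  exact hι a (𝟙 _) k ha (repWith_id _ V) (by rw [hk, Category.comp_id])

/-- Claim A: the locus where a point of `X` and a point of `F` agree in `F`. -/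
theorem claimA (hX : IsAlgSpace X) (p : X ⟶ F) (hp : RepBySpWith FppfQ p.hom) {V : Over S}
    (x : (yon S).obj V ⟶ X) (ψ : (yon S).obj V ⟶ F) {E : Sp S} (ι : E ⟶ (yon S).obj V)
    (h : IsEqz ι (x ≫ p) ψ) : IsAlgSpace E ∧ SlqfQ ι := by
  haveI := h.mono
  let g : pullback p ψ ⟶ (yon S).obj V := pullback.snd p ψ
  have hg : RepBySpWith FppfQ g.hom :=
    repBySpWith_baseChange _ (IsPullback.of_hasPullback p ψ) hp
  have sq : IsPullback (pullback.snd ι g) (pullback.fst ι g) g ι :=
    (IsPullback.of_hasPullback ι g).flip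
  have ha : RepBySpWith SlqfQ (pullback.snd ι g).hom := by
    rw [repBySpWith_hom_iff]
    intro V' ξ F'' fst' snd' sq'
    have h1 : IsEqz snd' ((ξ ≫ g) ≫ x ≫ p) ((ξ ≫ g) ≫ ψ) :=
      h.baseChange (sq'.paste_horiz (IsPullback.of_hasPullback ι g))
    have e2 : (ξ ≫ g) ≫ ψ = (ξ ≫ pullback.fst p ψ) ≫ p := by
      rw [Category.assoc, Category.assoc, pullback.condition]
    have e1 : (ξ ≫ g) ≫ x ≫ p = ((ξ ≫ g) ≫ x) ≫ p := by simp only [Category.assoc]
    rw [e1, e2] at h1
    exact claimC hX p hp _ _ snd' h1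
  obtain ⟨hsep, hlqf⟩ := repWith_of_isPullback_fppf (pullback.snd ι g) (pullback.fst ι g) g ι sq
    hg ha
  have hgood := Groth.Agent.Lib.Helper12.LocPCases.good_lqf.{u}
  haveI := hgood.bc
  haveI := hgood.comp
  haveI := hgood.desc
  exact ⟨Groth.Agent.R2.H44.LimSp.isAlgSpace_of_representable ι hsep.1 (IsAlgSpace.yon_obj V),
    Groth.Agent.Lib.Helper12.Proper.isSeparatedMor_of_mono ι,
    (Groth.Agent.S9948.locP_iff_repWith _ hgood.hEt (IsAlgSpace.yon_obj V) ι hsep.1).2 hlqf⟩

/-- Claim B: the locus where two points of `F` agree is representable. -/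
theorem claimB (hX : IsAlgSpace X) (p : X ⟶ F) (hp : RepBySpWith FppfQ p.hom) {T : Over S}
    (φ ψ : (yon S).obj T ⟶ F) {E : Sp S} (ι : E ⟶ (yon S).obj T)
    (h : IsEqz ι φ ψ) : Representable ι := by
  haveI := h.mono
  let g : pullback p φ ⟶ (yon S).obj T := pullback.snd p φ
  have hg : RepBySpWith FppfQ g.hom :=
    repBySpWith_baseChange _ (IsPullback.of_hasPullback p φ) hp
  have sq : IsPullback (pullback.snd ι g) (pullback.fst ι g) g ι :=
    (IsPullback.of_hasPullback ι g).flip
  have ha : RepBySpWith SlqfQ (pullback.snd ι g).hom := by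
    rw [repBySpWith_hom_iff]
    intro V' ξ F'' fst' snd' sq'
    have h1 : IsEqz snd' ((ξ ≫ g) ≫ φ) ((ξ ≫ g) ≫ ψ) :=
      h.baseChange (sq'.paste_horiz (IsPullback.of_hasPullback ι g))
    have e1 : (ξ ≫ g) ≫ φ = (ξ ≫ pullback.fst p φ) ≫ p := by
      rw [Category.assoc, Category.assoc, pullback.condition]
    rw [e1] at h1
    exact claimA hX p hp _ _ snd' h1
  exact (repWith_of_isPullback_fppf (pullback.snd ι g) (pullback.fst ι g) g ι sq hg ha).1.1

/-- **The diagonal of a sheaf with an fppf cover representable by algebraic spaces is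
representable.** -/
theorem representable_diag (hX : IsAlgSpace X) (p : X ⟶ F) (hp : RepBySpWith FppfQ p.hom) :
    Representable (Limits.diag F) := by
  intro T c
  have hc : c = prod.lift (c ≫ prod.fst) (c ≫ prod.snd) := by
    apply Limits.prod.hom_ext <;> simp
  have sq := IsPullback.of_hasPullback (Limits.diag F) c
  have h : IsEqz (pullback.snd (Limits.diag F) c) (c ≫ prod.fst) (c ≫ prod.snd) :=
    IsEqz.of_isPullback (e := pullback.fst (Limits.diag F) c) (by rw [← hc]; exact sq)
  obtain ⟨W, w, fst, sqW⟩ := claimB hX p hp _ _ _ h (𝟙 _)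
  refine ⟨W, w, fst ≫ pullback.fst _ _, ?_⟩
  have h2 := sqW.paste_horiz sq
  rwa [Category.id_comp] at h2

end Groth.Agent.R2.H59.BootDiag
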