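-- helper59: cancellation for functors representable by algebraic spaces with two properties
-- (`b` has `Q'`, `f ≫ b` has `Q`, then `f` has `Q`), adapted from helper83's one-property version
-- (`R2/H83DiagCancel.lean`), plus base-change stability lemmas in the `BCStable` form.
import Mathlib
import Groth.Agent.Lib.Helper15DiagLft
import Groth.Agent.Lib.Helper15DiagComp
import Groth.Agent.R2.H83DiagCancel

set_option autoImplicit false
set_option backward.isDefEq.respectTransparency false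
set_option backward.isDefEq.respectTransparency.types false
open CategoryTheory CategoryTheory.Functor CategoryTheory.Limits Opposite AlgebraicGeometry

universe u

namespace Groth.Agent.R2.H59.Cancel2

open Groth.Agent.Lib.Helper17 Groth.Agent.Lib.Helper15PshFib Groth.Agent.Lib.Helper15RepComp
  Groth.Agent.Lib.Helper15RepPsh Groth.Agent.Lib.Helper15DiagBase Groth.Agent.Lib.Helper15DiagRepSp
  Groth.Agent.Lib.Helper15EquivRep Groth.Agent.Lib.Helper15BaseChange Groth.Agent.Lib.Helper15Descent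
  Groth.Agent.Lib.Helper15SpMapRep Groth.Agent.Lib.Helper15DiagDescent Groth.Agent.Lib.Helper15DiagLft

section Slice

variable {S : Scheme.{u}} {𝒜 ℬ : AlgSt.Cat S}

/-- Two-property cancellation over a slice. -/
theorem repByAlgSpWith_of_comp_to_slice₂ (Q Q' : MorphismProperty (AlgSp.Sp S)) (hQb : BCStable Q)
    (hQ'b : BCStable Q')
    (hcancel : ∀ ⦃X Y Z : AlgSp.Sp S⦄, AlgSp.IsAlgSpace X → AlgSp.IsAlgSpace Y → AlgSp.IsAlgSpace Z →
      ∀ (a : X ⟶ Y) (b : Y ⟶ Z), Q' b → Q (a ≫ b) → Q a)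
    (h𝒜 : AlgSt.RepByAlgSp 𝒜) (hℬ : AlgSt.RepByAlgSp ℬ) (r : 𝒜 ⥤ᵇ ℬ) {T : Over S}
    (p : ℬ ⥤ᵇ FibCat.overCat T) (hp : AlgSt.RepByAlgSpWith Q' p)
    (h : AlgSt.RepByAlgSpWith Q (BasedFunctor.comp r p)) :
    AlgSt.RepByAlgSpWith Q r := by
  obtain ⟨A, eA, heA⟩ := h𝒜
  obtain ⟨B, eB, heB⟩ := hℬ
  obtain ⟨eB', heB', -, ⟨β⟩⟩ := IsEquivOver.exists_inverse_isEquivOver' eB heB
  let r' : AlgSt.ofSp A.obj ⥤ᵇ AlgSt.ofSp B.obj :=
    BasedFunctor.comp eA (BasedFunctor.comp r eB')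
  let a₀ : A.obj ⟶ B.obj := ObjectProperty.homMk (pshMapOf r')
  let a : A ⟶ B := ObjectProperty.homMk a₀
  let σ : BasedFunctor.comp (AlgSt.ofSpMap a₀) eB ≅ BasedFunctor.comp eA r :=
    (whiskerRightIso (ofPshMapIso r') eB : _ ≅
      BasedFunctor.comp (BasedFunctor.comp eA r) (BasedFunctor.comp eB' eB)) ≪≫
    whiskerLeftIso (BasedFunctor.comp eA r) β
  have hb : Q' (AlgSt.spMapOfOver (BasedFunctor.comp eB p)) :=
    prop_spMapOfOver_of_repByAlgSpWith Q' hQ'b p hp B eB heB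
  have h1 : Q (a₀ ≫ AlgSt.spMapOfOver (BasedFunctor.comp eB p)) := by
    rw [← spMapOfOver_ofSpMap_comp]
    have h2 := spMapOfOver_eq_of_iso
      (BasedFunctor.comp (AlgSt.ofSpMap a₀) (BasedFunctor.comp eB p))
      (BasedFunctor.comp eA (BasedFunctor.comp r p)) (whiskerRightIso σ p)
    rw [h2]
    exact prop_spMapOfOver_of_repByAlgSpWith Q hQb _ h A eA heA
  have h3 : Q a₀ := hcancel A.property B.property (AlgSp.IsAlgSpace.yon_obj T) a₀ _ hb h1
  have h4 : AlgSt.RepByAlgSpWith Q (AlgSt.ofSpMap a.hom) := repByAlgSpWith_ofSpMap Q hQb A B a h3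
  exact (repByAlgSpWith_of_square Q r (AlgSt.ofSpMap a₀) eA eB heA heB σ).2 h4

end Slice

section Triangle

variable {S : Scheme.{u}} {𝒳 𝒴 𝒵 : AlgSt.Cat S}

/-- Two-property cancellation: if `b` has `Q'` and `f ≫ b` has `Q`, then `f` has `Q`, for `Q`, `Q'`
stable under base change and satisfying the corresponding cancellation among algebraic spaces. -/
theorem repByAlgSpWith_cancel₂ (Q Q' : MorphismProperty (AlgSp.Sp S)) (hQb : BCStable Q)
    (hQ'b : BCStable Q')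
    (hcancel : ∀ ⦃X Y Z : AlgSp.Sp S⦄, AlgSp.IsAlgSpace X → AlgSp.IsAlgSpace Y → AlgSp.IsAlgSpace Z →
      ∀ (a : X ⟶ Y) (b : Y ⟶ Z), Q' b → Q (a ≫ b) → Q a)
    (f : 𝒳 ⥤ᵇ 𝒴) (b : 𝒴 ⥤ᵇ 𝒵) (hb : AlgSt.RepByAlgSpWith Q' b)
    (h : AlgSt.RepByAlgSpWith Q (BasedFunctor.comp f b)) :
    AlgSt.RepByAlgSpWith Q f := by
  intro U y
  let z : FibCat.overCat U ⥤ᵇ 𝒵 := BasedFunctor.comp y b
  have hp : AlgSt.RepByAlgSpWith Q' (FibCat.fpFst z b) := repByAlgSpWith_fpFst Q' b z hb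
  have hℬ : AlgSt.RepByAlgSp (FibCat.fp z b) := by
    obtain ⟨W, eW, heW, -⟩ := hb U z
    exact ⟨W, eW, heW⟩
  have h𝒜 : AlgSt.RepByAlgSp (FibCat.fp (FibCat.fpSnd z b) f) := by
    obtain ⟨F', eF', heF', -⟩ := h U z
    exact repByAlgSp_of_isEquivOver' (pasteR z f b) (isEquivOver_pasteR z f b) ⟨F', eF', heF'⟩
  have hrp : AlgSt.RepByAlgSpWith Q
      (BasedFunctor.comp (FibCat.fpFst (FibCat.fpSnd z b) f) (FibCat.fpFst z b)) := by
    have h0 : AlgSt.RepByAlgSpWith Q (FibCat.fpFst z (BasedFunctor.comp f b)) :=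
      repByAlgSpWith_fpFst Q (BasedFunctor.comp f b) z h
    exact (repByAlgSpWith_of_square Q (FibCat.fpFst z (BasedFunctor.comp f b))
      (BasedFunctor.comp (FibCat.fpFst (FibCat.fpSnd z b) f) (FibCat.fpFst z b))
      (pasteR z f b) (BasedFunctor.id _) (isEquivOver_pasteR z f b) (isEquivOver_id _)
      (Iso.refl _)).1 h0
  have hr : AlgSt.RepByAlgSpWith Q (FibCat.fpFst (FibCat.fpSnd z b) f) :=
    repByAlgSpWith_of_comp_to_slice₂ Q Q' hQb hQ'b hcancel h𝒜 hℬ _ (FibCat.fpFst z b) hp hrp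
  let σ : FibCat.overCat U ⥤ᵇ FibCat.fp z b :=
    FibCat.fpLift (BasedFunctor.id (FibCat.overCat U)) y (Iso.refl _)
  exact repWith_transfer (FibCat.fpFst σ (FibCat.fpFst (FibCat.fpSnd z b) f)) (FibCat.fpFst y f)
    (pasteL f (FibCat.fpSnd z b) σ) (isEquivOver_pasteL f (FibCat.fpSnd z b) σ) (Iso.refl _) Q
    (hr U σ)

/-- Two-property cancellation for diagonals: if the diagonal of `g` has `Q'` and the diagonal of
`f ≫ g` has `Q`, then the diagonal of `f` has `Q`. -/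
theorem repByAlgSpWith_diag_of_diag_comp₂ (Q Q' : MorphismProperty (AlgSp.Sp S)) (hQb : BCStable Q)
    (hQ'b : BCStable Q')
    (hcancel : ∀ ⦃X Y Z : AlgSp.Sp S⦄, AlgSp.IsAlgSpace X → AlgSp.IsAlgSpace Y → AlgSp.IsAlgSpace Z →
      ∀ (a : X ⟶ Y) (b : Y ⟶ Z), Q' b → Q (a ≫ b) → Q a)
    (f : 𝒳 ⥤ᵇ 𝒴) (g : 𝒴 ⥤ᵇ 𝒵) (hg : AlgSt.RepByAlgSpWith Q' (FibCat.diag g))
    (hgf : AlgSt.RepByAlgSpWith Q (FibCat.diag (BasedFunctor.comp f g))) :
    AlgSt.RepByAlgSpWith Q (FibCat.diag f) := by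
  have h1 : AlgSt.RepByAlgSpWith Q' (toRel f f g) := repByAlgSpWith_toRel Q' f f g hg
  have h2 : AlgSt.RepByAlgSpWith Q (BasedFunctor.comp (FibCat.diag f) (toRel f f g)) :=
    Groth.Agent.R2.H83.DiagCancel.repByAlgSpWith_of_iso Q
      (Groth.Agent.Lib.Helper15DiagComp.diagCompIso f g) hgf
  exact repByAlgSpWith_cancel₂ Q Q' hQb hQ'b hcancel (FibCat.diag f) (toRel f f g) h1 h2

end Triangle

section BC

variable {S : Scheme.{u}}

/-- Properties of the form "representable with `P`" are stable under base change. -/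
theorem bcStable_repWith (P : MorphismProperty Scheme.{u}) : BCStable (AlgSp.RepWith (S := S) P) :=
  fun _ _ _ _ _ _ _ _ _ _ _ _ sq h =>
    MorphismProperty.of_isPullback (P := AlgSp.RepWith P) sq h

/-- Properties of the form "the diagonal is representable with `P`" are stable under base change. -/
theorem bcStable_diagonal_repWith (P : MorphismProperty Scheme.{u}) [P.IsStableUnderBaseChange] :
    BCStable (fun (X Y : AlgSp.Sp S) (f : X ⟶ Y) => AlgSp.RepWith P (pullback.diagonal f)) := by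
  intro X₁ Y₁ X₂ Y₂ _ _ _ _ a b a' b' sq h
  have : (AlgSp.RepWith (S := S) P).diagonal a' :=
    MorphismProperty.of_isPullback (P := (AlgSp.RepWith (S := S) P).diagonal) sq h
  exact this

theorem bcStable_isSeparatedMor : BCStable (AlgSp.IsSeparatedMor (S := S)) :=
  bcStable_diagonal_repWith @IsClosedImmersion

theorem bcStable_isQuasiSeparatedMor : BCStable (AlgSp.IsQuasiSeparatedMor (S := S)) :=
  bcStable_diagonal_repWith @QuasiCompact

end BC

end Groth.Agent.R2.H59.Cancel2
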