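-- helper59: from effectivity of descent data for schemes (`Desc.SchDD`) to representability of
-- sheaves: if `P ⟶ h_Z` is a map of fppf sheaves whose base change to an fppf cover `t : Y ⟶ Z` is a
-- scheme `W'`, the scheme `W'` carries a canonical descent datum relative to `t`, and a scheme
-- descending it represents `P`.
import Mathlib
import Groth.Prelude.Def_Desc
import Groth.Agent.R2.H59AffDescCore

set_option autoImplicit false
set_option linter.unusedSectionVars false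
set_option linter.style.haveILetI false
universe u
open CategoryTheory CategoryTheory.Limits AlgebraicGeometry Opposite

set_option backward.isDefEq.respectTransparency false

namespace Groth.Agent.R2.H59.ChartDesc

open Desc Groth.Agent.S13210 Groth.Agent.R2.H59.AffDescGlue

variable {S : Scheme.{u}} {P : AlgSp.Sp S} {Z Y W' : Over S} (a : P ⟶ (AlgSp.yon S).obj Z)
  (t : Y ⟶ Z) (w' : W' ⟶ Y) (e' : (AlgSp.yon S).obj W' ⟶ P)

/-- the scheme `Y ×_Z W'`, over `S`. -/
noncomputable abbrev T₁ : Over S := Over.mk (pullback.fst t.left (w'.left ≫ t.left) ≫ Y.hom)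

/-- first projection. -/
noncomputable abbrev pr₁ : T₁ t w' ⟶ Y := Over.homMk (pullback.fst t.left (w'.left ≫ t.left)) rfl

/-- second projection. -/
noncomputable abbrev pr₂ : T₁ t w' ⟶ W' :=
  Over.homMk (pullback.snd t.left (w'.left ≫ t.left)) (by
    have h1 : w'.left ≫ Y.hom = W'.hom := Over.w w'
    have h2 : t.left ≫ Z.hom = Y.hom := Over.w t
    change pullback.snd t.left (w'.left ≫ t.left) ≫ W'.hom =
      pullback.fst t.left (w'.left ≫ t.left) ≫ Y.hom
    rw [← h1, ← h2, pullback.condition_assoc, Category.assoc])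

lemma hT₁ : IsPullback (pr₁ t w') (pr₂ t w') t (w' ≫ t) :=
  IsPullback.of_map (Over.forget S) (Over.OverMorphism.ext pullback.condition)
    (IsPullback.of_hasPullback t.left (w'.left ≫ t.left))

variable {a t w' e'} (sq' : IsPullback e' ((AlgSp.yon S).map w') a ((AlgSp.yon S).map t))

include sq'

lemma exists_act : ∃ act : T₁ t w' ⟶ W',
    (AlgSp.yon S).map act ≫ e' = (AlgSp.yon S).map (pr₂ t w') ≫ e' ∧ act ≫ w' = pr₁ t w' :=
  exists_point sq' ((AlgSp.yon S).map (pr₂ t w') ≫ e') (pr₁ t w') (by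
    rw [Category.assoc, sq'.w, ← Functor.map_comp, ← Functor.map_comp, ← Functor.map_comp,
      (hT₁ t w').w])

/-- the action map. -/
noncomputable def act : T₁ t w' ⟶ W' := (exists_act sq').choose

lemma act_e' : (AlgSp.yon S).map (act sq') ≫ e' = (AlgSp.yon S).map (pr₂ t w') ≫ e' :=
  (exists_act sq').choose_spec.1

lemma act_w' : act sq' ≫ w' = pr₁ t w' := (exists_act sq').choose_spec.2

/-- transport of a point `v₀` of `W'` to a point over `x₁`. -/
noncomputable def tr {T : Scheme.{u}} (x₁ : T ⟶ Y.left) (v₀ : T ⟶ W'.left)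
    (h : x₁ ≫ t.left = v₀ ≫ w'.left ≫ t.left) : T ⟶ W'.left :=
  pullback.lift x₁ v₀ h ≫ (act sq').left

lemma tr_w {T : Scheme.{u}} (x₁ : T ⟶ Y.left) (v₀ : T ⟶ W'.left)
    (h : x₁ ≫ t.left = v₀ ≫ w'.left ≫ t.left) : tr sq' x₁ v₀ h ≫ w'.left = x₁ := by
  have h1 : (act sq').left ≫ w'.left = pullback.fst t.left (w'.left ≫ t.left) :=
    congrArg (fun m => m.left) (act_w' sq')
  rw [tr, Category.assoc, h1, pullback.lift_fst]

lemma tr_nat {T T' : Scheme.{u}} (g : T' ⟶ T) (x₁ : T ⟶ Y.left) (v₀ : T ⟶ W'.left)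
    (h : x₁ ≫ t.left = v₀ ≫ w'.left ≫ t.left)
    (h' : (g ≫ x₁) ≫ t.left = (g ≫ v₀) ≫ w'.left ≫ t.left) :
    tr sq' (g ≫ x₁) (g ≫ v₀) h' = g ≫ tr sq' x₁ v₀ h := by
  rw [tr, tr, ← Category.assoc]
  congr 1
  apply pullback.hom_ext <;> simp

/-- Over-`S` version of the transport, with its characterization. -/
lemma tr_char {To : Over S} (xo : To ⟶ Y) (vo : To ⟶ W')
    (h : xo.left ≫ t.left = vo.left ≫ w'.left ≫ t.left) :
    ∃ m : To ⟶ W', m.left = tr sq' xo.left vo.left h ∧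
      (AlgSp.yon S).map m ≫ e' = (AlgSp.yon S).map vo ≫ e' ∧ m ≫ w' = xo := by
  have hw : xo ≫ t = vo ≫ w' ≫ t := by
    ext1
    exact h
  refine ⟨(hT₁ t w').lift xo vo hw ≫ act sq', ?_, ?_, ?_⟩
  · rw [Over.comp_left, tr]
    congr 1
    apply pullback.hom_ext
    · rw [pullback.lift_fst]
      exact congrArg (fun m => m.left) ((hT₁ t w').lift_fst xo vo hw)
    · rw [pullback.lift_snd]
      exact congrArg (fun m => m.left) ((hT₁ t w').lift_snd xo vo hw)
  · rw [Functor.map_comp, Category.assoc, act_e', ← Category.assoc, ← Functor.map_comp,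
      (hT₁ t w').lift_snd]
  · rw [Category.assoc, act_w', (hT₁ t w').lift_fst]

/-- two points of `W'` (maps of schemes) over the same point of `Y` with the same image in `P`
agree. -/
lemma pt_ext {To : Over S} (m m' : To ⟶ W')
    (h1 : (AlgSp.yon S).map m ≫ e' = (AlgSp.yon S).map m' ≫ e') (h2 : m ≫ w' = m' ≫ w') :
    m.left = m'.left :=
  congrArg (fun k => k.left) (point_ext sq' m m' h1 h2)

lemma tr_self {T : Scheme.{u}} (x : T ⟶ Y.left) (v : T ⟶ W'.left) (hv : v ≫ w'.left = x)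
    (h : x ≫ t.left = v ≫ w'.left ≫ t.left) : tr sq' x v h = v := by
  subst hv
  let To : Over S := Over.mk (v ≫ W'.hom)
  let vo : To ⟶ W' := Over.homMk v rfl
  obtain ⟨m, hm₁, hm₂, hm₃⟩ := tr_char sq' (vo ≫ w') vo h
  exact hm₁.symm.trans (pt_ext sq' m vo hm₂ hm₃)

lemma tr_comp {T : Scheme.{u}} (x₁ x₂ : T ⟶ Y.left) (v₀ : T ⟶ W'.left)
    (h₁ : x₁ ≫ t.left = v₀ ≫ w'.left ≫ t.left)
    (h₂ : x₂ ≫ t.left = tr sq' x₁ v₀ h₁ ≫ w'.left ≫ t.left)
    (h₁₂ : x₂ ≫ t.left = v₀ ≫ w'.left ≫ t.left) :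
    tr sq' x₂ (tr sq' x₁ v₀ h₁) h₂ = tr sq' x₂ v₀ h₁₂ := by
  let To : Over S := Over.mk (v₀ ≫ W'.hom)
  let vo : To ⟶ W' := Over.homMk v₀ rfl
  have hY : w'.left ≫ Y.hom = W'.hom := Over.w w'
  have hZ : t.left ≫ Z.hom = Y.hom := Over.w t
  have hx : ∀ (x : T ⟶ Y.left), x ≫ t.left = v₀ ≫ w'.left ≫ t.left → x ≫ Y.hom = To.hom := by
    intro x hx
    change x ≫ Y.hom = v₀ ≫ W'.hom
    rw [← hY, ← hZ, ← Category.assoc, hx, Category.assoc, Category.assoc]
  let xo₁ : To ⟶ Y := Over.homMk x₁ (hx x₁ h₁)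
  let xo₂ : To ⟶ Y := Over.homMk x₂ (hx x₂ h₁₂)
  obtain ⟨m₁, hm₁, hm₁', hm₁''⟩ := tr_char sq' xo₁ vo h₁
  have h₂' : xo₂.left ≫ t.left = m₁.left ≫ w'.left ≫ t.left := by
    rw [hm₁]
    exact h₂
  obtain ⟨m₂, hm₂, hm₂', hm₂''⟩ := tr_char sq' xo₂ m₁ h₂'
  obtain ⟨m₃, hm₃, hm₃', hm₃''⟩ := tr_char sq' xo₂ vo h₁₂
  have e1 : tr sq' x₂ (tr sq' x₁ v₀ h₁) h₂ = m₂.left := by
    rw [hm₂]
    congr 1
    exact hm₁.symm
  rw [e1]
  exact (pt_ext sq' m₂ m₃ (by rw [hm₂', hm₁', hm₃']) (by rw [hm₂'', hm₃''])).trans hm₃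

/-- **The canonical descent datum** on `W'` relative to `t`. -/
noncomputable def dd : Desc.SchDD t.left where
  obj := Over.mk w'.left
  φ T x₀ x₁ h :=
    { toFun := fun v => ⟨tr sq' x₁ v.1 (by
          have hv : v.1 ≫ w'.left = x₀ := v.2
          rw [← Category.assoc, hv, h]), tr_w sq' _ _ _⟩
      invFun := fun v => ⟨tr sq' x₀ v.1 (by
          have hv : v.1 ≫ w'.left = x₁ := v.2
          rw [← Category.assoc, hv, h]), tr_w sq' _ _ _⟩
      left_inv := fun v => by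
        have hv : v.1 ≫ w'.left = x₀ := v.2
        apply Subtype.ext
        simp only
        rw [tr_comp sq' x₁ x₀ v.1 _ _ (by rw [← Category.assoc, hv])]
        exact tr_self sq' x₀ v.1 hv _
      right_inv := fun v => by
        have hv : v.1 ≫ w'.left = x₁ := v.2
        apply Subtype.ext
        simp only
        rw [tr_comp sq' x₀ x₁ v.1 _ _ (by rw [← Category.assoc, hv])]
        exact tr_self sq' x₁ v.1 hv _ }
  φ_natural T T' g x₀ x₁ h h' v v' hv' := by
    have e : v' = ⟨g ≫ v.1, by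
        have hv : v.1 ≫ w'.left = x₀ := v.2
        change (g ≫ v.1) ≫ w'.left = g ≫ x₀
        rw [Category.assoc, hv]⟩ := Subtype.ext hv'
    subst e
    exact tr_nat sq' g x₁ v.1 _ _
  φ_self T x v := by
    have hv : v.1 ≫ w'.left = x := v.2
    apply Subtype.ext
    exact tr_self sq' x v.1 hv _
  φ_comp T x₀ x₁ x₂ h₀₁ h₁₂ v := by
    apply Subtype.ext
    exact tr_comp sq' x₁ x₂ v.1 _ _ _

@[simp] lemma dd_obj : (dd sq').obj = Over.mk w'.left := rfl

lemma dd_φ_val {T : Scheme.{u}} (x₀ x₁ : T ⟶ Y.left) (h : x₀ ≫ t.left = x₁ ≫ t.left)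
    (v : Lifts (dd sq').obj x₀) (h') : ((dd sq').φ x₀ x₁ h v).1 = tr sq' x₁ v.1 h' := rfl

omit sq' in
lemma lift_fst_snd_eq_id {A B C : Scheme.{u}} (f : A ⟶ C) (g : B ⟶ C) :
    pullback.lift (pullback.fst f g) (pullback.snd f g) pullback.condition = 𝟙 _ := by
  apply pullback.hom_ext <;> simp

/-- **A scheme descending the canonical descent datum represents the sheaf.** -/
theorem exists_rep_of_effective [Flat t.left] [LocallyOfFinitePresentation t.left]
    [Surjective t.left] (heff : (Desc.toDD t.left).essImage (dd sq')) :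
    ∃ (W : Over S) (i : W ⟶ Z) (fst : (AlgSp.yon S).obj W ⟶ P),
      IsPullback fst ((AlgSp.yon S).map i) a (𝟙 _) := by
  obtain ⟨Wd, ⟨ψ⟩⟩ := heff
  obtain ⟨β, hβ⟩ : ∃ β : W'.left ⟶ pullback t.left Wd.hom, β = ψ.inv.hom.left := ⟨_, rfl⟩
  obtain ⟨β', hβ'⟩ : ∃ β' : pullback t.left Wd.hom ⟶ W'.left, β' = ψ.hom.hom.left := ⟨_, rfl⟩
  have hββ' : β ≫ β' = 𝟙 _ := by
    rw [hβ, hβ', ← Over.comp_left, ← SchDD.comp_hom, Iso.inv_hom_id]
    rfl
  have hβ'β : β' ≫ β = 𝟙 _ := by
    rw [hβ, hβ', ← Over.comp_left, ← SchDD.comp_hom, Iso.hom_inv_id]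
    rfl
  have hβ₁ : β ≫ pullback.fst t.left Wd.hom = w'.left := by
    rw [hβ]
    exact Over.w ψ.inv.hom
  have hβ'₁ : β' ≫ w'.left = pullback.fst t.left Wd.hom := by
    rw [← hβ₁, ← Category.assoc, hβ'β, Category.id_comp]
  obtain ⟨c₀, hc₀⟩ : ∃ c₀ : W'.left ⟶ Wd.left, c₀ = β ≫ pullback.snd t.left Wd.hom := ⟨_, rfl⟩
  have hsch : IsPullback w'.left c₀ t.left Wd.hom := by
    refine (IsPullback.of_hasPullback t.left Wd.hom).of_iso
      (⟨β', β, hβ'β, hββ'⟩ : pullback t.left Wd.hom ≅ W'.left) (Iso.refl _) (Iso.refl _)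
      (Iso.refl _) ?_ ?_ (by simp) (by simp)
    · simp only [Iso.refl_hom, Category.comp_id]
      exact hβ'₁.symm
    · simp only [Iso.refl_hom, Category.comp_id]
      rw [hc₀, ← Category.assoc, hβ'β, Category.id_comp]
  let Wo : Over S := Over.mk (Wd.hom ≫ Z.hom)
  let i : Wo ⟶ Z := Over.homMk Wd.hom rfl
  have hY : w'.left ≫ Y.hom = W'.hom := Over.w w'
  have hZ : t.left ≫ Z.hom = Y.hom := Over.w t
  let c : W' ⟶ Wo := Over.homMk c₀ (by
    change c₀ ≫ Wd.hom ≫ Z.hom = W'.hom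
    rw [← Category.assoc, ← hsch.w, Category.assoc, hZ, hY])
  have P1 : IsPullback w' c t i :=
    IsPullback.of_map (Over.forget S) (Over.OverMorphism.ext hsch.w) hsch
  have P2 : act sq' ≫ c = pr₂ t w' ≫ c := by
    ext1
    change (act sq').left ≫ c₀ = pullback.snd t.left (w'.left ≫ t.left) ≫ c₀
    have h : (pullback.snd t.left (w'.left ≫ t.left) ≫ w'.left) ≫ t.left =
        pullback.fst t.left (w'.left ≫ t.left) ≫ t.left := by
      rw [Category.assoc, pullback.condition]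
    have hw : (pullback.snd t.left (w'.left ≫ t.left) ≫ β) ≫
        ((Desc.toDD t.left).obj Wd).obj.hom = pullback.snd t.left (w'.left ≫ t.left) ≫ w'.left := by
      change (pullback.snd t.left (w'.left ≫ t.left) ≫ β) ≫ pullback.fst t.left Wd.hom = _
      rw [Category.assoc, hβ₁]
    have key := ψ.inv.comm (pullback.snd t.left (w'.left ≫ t.left) ≫ w'.left)
      (pullback.fst t.left (w'.left ≫ t.left)) h
      ⟨pullback.snd t.left (w'.left ≫ t.left), rfl⟩
      ⟨pullback.snd t.left (w'.left ≫ t.left) ≫ β, hw⟩ (by subst hβ; rfl)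
    have e1 : (((Desc.toDD t.left).obj Wd).φ
        (pullback.snd t.left (w'.left ≫ t.left) ≫ w'.left)
        (pullback.fst t.left (w'.left ≫ t.left)) h
        ⟨pullback.snd t.left (w'.left ≫ t.left) ≫ β, hw⟩).1 ≫ pullback.snd t.left Wd.hom =
        pullback.snd t.left (w'.left ≫ t.left) ≫ c₀ := by
      change (canMap t.left Wd _ _ h _).1 ≫ pullback.snd t.left Wd.hom = _
      rw [canMap_val, pullback.lift_snd, hc₀, Category.assoc]
    have e2 : ((dd sq').φ (pullback.snd t.left (w'.left ≫ t.left) ≫ w'.left)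
        (pullback.fst t.left (w'.left ≫ t.left)) h
        ⟨pullback.snd t.left (w'.left ≫ t.left), rfl⟩).1 = (act sq').left := by
      change tr sq' _ _ _ = _
      unfold tr
      have := lift_fst_snd_eq_id t.left (w'.left ≫ t.left)
      simp only [this, Category.id_comp]
    have key' : pullback.snd t.left (w'.left ≫ t.left) ≫ c₀ = (act sq').left ≫ c₀ := by
      rw [← e1, key, e2, hc₀, hβ, Category.assoc]
    exact key'.symm
  have sq'' : IsPullback e' ((AlgSp.yon S).map w') a ((AlgSp.yon S).map t ≫ 𝟙 _) := by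
    rw [Category.comp_id]
    exact sq'
  obtain ⟨fst, hfst⟩ := Groth.Agent.R2.H59.AffDescCore.isPullback_of_descent a (𝟙 _) t w' e' sq''
    (pr₁ t w') (pr₂ t w') (hT₁ t w') (act sq') (act_e' sq') (act_w' sq') c i P1 P2
  exact ⟨Wo, i, fst, hfst⟩

section Chart

variable {F G : AlgSp.Sp S}

omit sq' in
/-- **Representability from a chart and effectivity of descent data.** -/
theorem representable_of_effective_chart (Q : MorphismProperty Scheme.{u})
    [Q.IsStableUnderBaseChange]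
    (hdesc : ∀ ⦃X' S' : Scheme.{u}⦄ (p : X' ⟶ S'), Surjective p → Flat p →
      LocallyOfFinitePresentation p → ∀ D : Desc.SchDD p, Q D.obj.hom → (Desc.toDD p).essImage D)
    (f : G ⟶ F) {U V : Over S} (q : (AlgSp.yon S).obj U ⟶ F) (hqe : AlgSp.RepWith @Etale q)
    (hqs : AlgSp.RepWith @Surjective q) (fst : (AlgSp.yon S).obj V ⟶ G) (g : V ⟶ U)
    (sq : IsPullback fst ((AlgSp.yon S).map g) f q) (hQ : Q g.left) : AlgSp.Representable f := by
  intro T c
  obtain ⟨T', p, c', sqT⟩ := hqe.1 c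
  have hpe : Etale p.left := hqe.2 c c' p sqT
  have hps : Surjective p.left := hqs.2 c c' p sqT
  obtain ⟨u, rfl⟩ := (AlgSp.yon S).map_surjective c'
  haveI := hpe
  haveI := hps
  have hV := IsPullback.of_hasPullback g u
  have hQw : Q (pullback.snd g u).left :=
    MorphismProperty.of_isPullback (P := Q) (hV.map (Over.forget S)) hQ
  have big : IsPullback ((AlgSp.yon S).map (pullback.fst g u) ≫ fst)
      ((AlgSp.yon S).map (pullback.snd g u)) f ((AlgSp.yon S).map p ≫ c) := by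
    have := (hV.map (AlgSp.yon S)).paste_horiz sq
    rwa [sqT.w] at this
  have hw : ((AlgSp.yon S).map (pullback.fst g u) ≫ fst) ≫ f =
      ((AlgSp.yon S).map (pullback.snd g u) ≫ (AlgSp.yon S).map p) ≫ c := by
    rw [big.w, Category.assoc]
  obtain ⟨e₀, he₀⟩ : ∃ e₀ : (AlgSp.yon S).obj (pullback g u) ⟶ pullback f c,
      e₀ = pullback.lift _ _ hw := ⟨_, rfl⟩
  have he₀₁ : e₀ ≫ pullback.fst f c = (AlgSp.yon S).map (pullback.fst g u) ≫ fst := by
    rw [he₀, pullback.lift_fst]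
  have he₀₂ : e₀ ≫ pullback.snd f c =
      (AlgSp.yon S).map (pullback.snd g u) ≫ (AlgSp.yon S).map p := by
    rw [he₀, pullback.lift_snd]
  have sq₀ : IsPullback e₀ ((AlgSp.yon S).map (pullback.snd g u)) (pullback.snd f c)
      ((AlgSp.yon S).map p) := by
    refine IsPullback.of_right ?_ he₀₂ (IsPullback.of_hasPullback f c)
    rw [he₀₁]
    exact big
  have heff := hdesc p.left hps inferInstance inferInstance (dd sq₀) hQw
  obtain ⟨W, i, fst₀, hfst₀⟩ := exists_rep_of_effective sq₀ heff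
  refine ⟨W, i, fst₀ ≫ pullback.fst f c, ?_⟩
  have := hfst₀.paste_horiz (IsPullback.of_hasPullback f c)
  rwa [Category.id_comp] at this

end Chart

end Groth.Agent.R2.H59.ChartDesc
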