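-- helper59: fppf covers of algebraic stacks by morphisms that are flat / locally of finite
-- presentation in the chart sense (`LocQ`), reduced to covers by schemes.
import Mathlib
import Groth.Agent.Lib.Helper15QcLocal
import Groth.Agent.Lib.Helper15LocQComp
import Groth.Agent.Lib.Helper15LocQRep
import Groth.Agent.Lib.Helper15LocQProps
import Groth.Agent.S10527
import Groth.Agent.S10530

set_option autoImplicit false
set_option backward.isDefEq.respectTransparency false
set_option backward.isDefEq.respectTransparency.types false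
open CategoryTheory CategoryTheory.Functor CategoryTheory.Limits Opposite AlgebraicGeometry

universe u

namespace Groth.Agent.R2.H59.FppfCover

open Groth.Agent.Lib.Helper17 Groth.Agent.Lib.Helper15PshFib Groth.Agent.Lib.Helper15RepComp
  Groth.Agent.Lib.Helper15RepPsh Groth.Agent.Lib.Helper15DiagBase Groth.Agent.Lib.Helper15DiagRepSp
  Groth.Agent.Lib.Helper15Descent Groth.Agent.Lib.Helper15DiagLft
  Groth.Agent.Lib.Helper15DiagDescent Groth.Agent.Lib.Helper15SpMapRep
  Groth.Agent.Lib.Helper15SrcCancel Groth.Agent.Lib.Helper15ChartSp Groth.Agent.Lib.Helper15Atlas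
  Groth.Agent.Lib.Helper15LocEss Groth.Agent.Lib.Helper15UnivComp Groth.Agent.Lib.Helper15SmLoc
  Groth.Agent.Lib.Helper15PtsComp Groth.Agent.Lib.Helper15PtsTop Groth.Agent.Lib.Helper15PtsQc
  Groth.Agent.Lib.Helper15FpSwap Groth.Agent.Lib.Helper15QcLocal Groth.Agent.Lib.Helper15LocQComp
  Groth.Agent.Lib.Helper15LocQRep Groth.Agent.Lib.Helper15LocQProps Groth.Agent.Lib.Helper15ClosedQc

section Cover

variable {S : Scheme.{u}} {𝒴 𝒵 : AlgSt.Cat S}

theorem isLocalOnBase_fppf_flat :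
    AlgSp.IsLocalOnBase AlgSp.IsFppfCover (AlgSp.LocP (S := S) @Flat) :=
  isLocalOnBase_fppf_of_fpqc _ (Groth.Agent.S10530.result S)

theorem isLocalOnBase_fppf_lfp :
    AlgSp.IsLocalOnBase AlgSp.IsFppfCover (AlgSp.LocP (S := S) @LocallyOfFinitePresentation) :=
  isLocalOnBase_fppf_of_fpqc _ (Groth.Agent.S10527.result S)

/-- A flat, locally finitely presented (in the chart sense), surjective morphism of algebraic
stacks, precomposed with a smooth atlas of its source, is a flat, locally finitely presented,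
surjective morphism from a scheme, representable by algebraic spaces. -/
theorem exists_scheme_cover_of_locQ (h𝒴 : AlgSt.IsAlgStack Scheme.fppfPrecoverage 𝒴)
    (h𝒵 : AlgSt.IsAlgStack Scheme.fppfPrecoverage 𝒵) (z : 𝒵 ⥤ᵇ 𝒴)
    (hz₁ : AlgSt.LocQ (AlgSp.LocP @Flat) z)
    (hz₂ : AlgSt.LocQ (AlgSp.LocP @LocallyOfFinitePresentation) z)
    (hz₃ : AlgSt.IsSurjective z) :
    ∃ (V : Over S) (v : FibCat.overCat V ⥤ᵇ 𝒵),
      AlgSt.RepByAlgSpWith (AlgSp.LocP @Smooth) v ∧ AlgSt.RepByAlgSpWith AlgSp.IsSurjectiveMor v ∧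
      AlgSt.RepByAlgSpWith (AlgSp.LocP @Flat) (BasedFunctor.comp v z) ∧
      AlgSt.RepByAlgSpWith (AlgSp.LocP @LocallyOfFinitePresentation) (BasedFunctor.comp v z) ∧
      AlgSt.RepByAlgSpWith AlgSp.IsSurjectiveMor (BasedFunctor.comp v z) := by
  obtain ⟨V, v, hv₁, hv₂⟩ := h𝒵.atlas
  have hV := isAlgStack_overCat V
  have hrep : AlgSt.RepByAlgSp1 (BasedFunctor.comp v z) :=
    repByAlgSp1_of_repByAlgSp1_diag h𝒴.diag V (BasedFunctor.comp v z)
  have hvs : AlgSt.IsSurjective v :=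
    (isSurjective_iff_repByAlgSpWith hV h𝒵 v (repByAlgSp1_of_repByAlgSpWith _ _ hv₂)).2 hv₂
  refine ⟨V, v, hv₁, hv₂, ?_, ?_, ?_⟩
  · refine repByAlgSpWith_of_locQ _ isSmoothLocalST_flat bcStable_flat isLocalOnBase_fppf_flat hV h𝒴
      _ hrep ?_
    exact locQ_comp _ isSmoothLocalST_flat (fun _ _ _ _ hY hZ a b => locP_flat_comp hY hZ a b)
      hV h𝒵 h𝒴 v z (locQ_of_repByAlgSpWith _ isSmoothLocalST_flat hV h𝒵 v (flat_of_smooth hv₁)) hz₁
  · refine repByAlgSpWith_of_locQ _ isSmoothLocalST_lfp bcStable_lfp isLocalOnBase_fppf_lfp hV h𝒴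
      _ hrep ?_
    exact locQ_comp _ isSmoothLocalST_lfp (fun _ _ _ _ hY hZ a b => locP_lfp_comp hY hZ a b)
      hV h𝒵 h𝒴 v z (locQ_of_repByAlgSpWith _ isSmoothLocalST_lfp hV h𝒵 v (lfp_of_smooth hv₁)) hz₂
  · exact (isSurjective_iff_repByAlgSpWith hV h𝒴 _ hrep).1 (isSurjective_comp v z hvs hz₃)

end Cover

end Groth.Agent.R2.H59.FppfCover
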