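-- helper59: chart independence over arbitrary (not necessarily smooth) charts of the target, for
-- properties smooth local on source-and-target that are stable under base change; base change of
-- `LocQ`.
import Mathlib
import Groth.Agent.Lib.Helper15GoodComp
import Groth.Agent.R2.H59FppfCover

set_option autoImplicit false
set_option backward.isDefEq.respectTransparency false
set_option backward.isDefEq.respectTransparency.types false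
open CategoryTheory CategoryTheory.Functor CategoryTheory.Limits Opposite AlgebraicGeometry

universe u

namespace Groth.Agent.R2.H59.LocQBC

open Groth.Agent.Lib.Helper17 Groth.Agent.Lib.Helper15PshFib Groth.Agent.Lib.Helper15RepComp
  Groth.Agent.Lib.Helper15RepPsh Groth.Agent.Lib.Helper15DiagBase Groth.Agent.Lib.Helper15DiagRepSp
  Groth.Agent.Lib.Helper15Descent Groth.Agent.Lib.Helper15DiagLft
  Groth.Agent.Lib.Helper15DiagDescent Groth.Agent.Lib.Helper15SpMapRep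
  Groth.Agent.Lib.Helper15SrcCancel Groth.Agent.Lib.Helper15ChartSp Groth.Agent.Lib.Helper15Atlas
  Groth.Agent.Lib.Helper15LocEss Groth.Agent.Lib.Helper15UnivComp Groth.Agent.Lib.Helper15SmLoc
  Groth.Agent.Lib.Helper15PtsComp Groth.Agent.Lib.Helper15PtsTop Groth.Agent.Lib.Helper15PtsQc
  Groth.Agent.Lib.Helper15FpSwap Groth.Agent.Lib.Helper15QcLocal Groth.Agent.Lib.Helper15ClosedQc
  Groth.Agent.Lib.Helper15UnivPts Groth.Agent.Lib.Helper15BaseChange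
  Groth.Agent.Lib.Helper15BaseChange2
  Groth.Agent.Lib.Helper15MonoSep Groth.Agent.Lib.Helper15QcRep Groth.Agent.Lib.Helper15LocQ
  Groth.Agent.Lib.Helper15LocQEngine

section Engine

variable {S : Scheme.{u}} {𝒳 𝒴 : AlgSt.Cat S}

/-- Chart independence over an arbitrary chart of the target: a property smooth local on
source-and-target and stable under base change which holds on one smooth chart square with
surjective source chart holds on every chart square whose source chart is smooth over the base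
change of the (arbitrary) target chart. -/
theorem prop_of_good_square_bc (P : MorphismProperty (AlgSp.Sp S)) (hP : AlgSp.IsSmoothLocalST P)
    (hPb : BCStable P)
    (h𝒳 : AlgSt.IsAlgStack Scheme.fppfPrecoverage 𝒳)
    (h𝒴 : AlgSt.IsAlgStack Scheme.fppfPrecoverage 𝒴) (f : 𝒳 ⥤ᵇ 𝒴)
    {U₁ V₁ : Over S} (x₁ : FibCat.overCat U₁ ⥤ᵇ 𝒳) (y₁ : FibCat.overCat V₁ ⥤ᵇ 𝒴) (h₁ : U₁ ⟶ V₁)
    (α₁ : BasedFunctor.comp x₁ f ≅ BasedFunctor.comp (AlgSt.overMap h₁) y₁)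
    (hx₁ : AlgSt.RepByAlgSpWith (AlgSp.LocP @Smooth) x₁)
    (hx₁s : AlgSt.RepByAlgSpWith AlgSp.IsSurjectiveMor x₁)
    (hy₁ : AlgSt.RepByAlgSpWith (AlgSp.LocP @Smooth) y₁) (hP₁ : P ((AlgSp.yon S).map h₁))
    {U₂ V₂ : Over S} (x₂ : FibCat.overCat U₂ ⥤ᵇ 𝒳) (y₂ : FibCat.overCat V₂ ⥤ᵇ 𝒴) (h₂ : U₂ ⟶ V₂)
    (α₂ : BasedFunctor.comp x₂ f ≅ BasedFunctor.comp (AlgSt.overMap h₂) y₂)
    (hℓ₂ : AlgSt.RepByAlgSpWith (AlgSp.LocP @Smooth) (FibCat.fpLift x₂ (AlgSt.overMap h₂) α₂)) :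
    P ((AlgSp.yon S).map h₂) := by
  have hfib𝒳 := h𝒳.isStack.1
  have hfib𝒴 := h𝒴.isStack.1
  have hU₁ : FibCat.IsFibGrpd (FibCat.overCat U₁).p := (isFibSet_overForget U₁).1
  have hU₂ : FibCat.IsFibGrpd (FibCat.overCat U₂).p := (isFibSet_overForget U₂).1
  have hV₂ : FibCat.IsFibGrpd (FibCat.overCat V₂).p := (isFibSet_overForget V₂).1
  have hy₂rep : AlgSt.RepByAlgSp1 y₂ := repByAlgSp1_of_repByAlgSp1_diag h𝒴.diag V₂ y₂
  -- the space `B = V₁ ×_𝒴 V₂`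
  obtain ⟨B, e_B, he_B⟩ := hy₂rep V₁ y₁
  have hb₂ : AlgSp.LocP @Smooth
      (AlgSt.spMapOfOver (BasedFunctor.comp e_B (FibCat.fpSnd y₁ y₂))) :=
    prop_spMapOfOver_of_repByAlgSpWith _ bcStable_smooth (FibCat.fpSnd y₁ y₂)
      (repByAlgSpWith_fpSnd _ y₁ y₂ hy₁) B e_B he_B
  -- the space `T = U₁ ×_𝒴 V₂`
  obtain ⟨T, e_T, he_T⟩ := hy₂rep U₁ (BasedFunctor.comp x₁ f)
  obtain ⟨q, sq, ⟨iq⟩⟩ := exists_isPullback_baseChange' y₂ y₁ B.obj e_B he_B h₁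
    (BasedFunctor.comp x₁ f) α₁ T.obj e_T he_T
  let p_T : T.obj ⟶ (AlgSp.yon S).obj V₂ :=
    AlgSt.spMapOfOver (BasedFunctor.comp e_T (FibCat.fpSnd (BasedFunctor.comp x₁ f) y₂))
  have hqb : q ≫ AlgSt.spMapOfOver (BasedFunctor.comp e_B (FibCat.fpSnd y₁ y₂)) = p_T := by
    rw [← spMapOfOver_ofSpMap_comp]
    exact spMapOfOver_eq_of_iso _ _ iq
  have hPq : P q :=
    hPb (AlgSp.IsAlgSpace.yon_obj U₁) (AlgSp.IsAlgSpace.yon_obj V₁) T.property B.property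
      ((AlgSp.yon S).map h₁) _ q _ sq.flip hP₁
  have hPpT : P p_T := by
    rw [← hqb]
    let V₂' : AlgSp.Space S := ⟨(AlgSp.yon S).obj V₂, AlgSp.IsAlgSpace.yon_obj V₂⟩
    let qq : T ⟶ B := ObjectProperty.homMk q
    let bb : B ⟶ V₂' := ObjectProperty.homMk
      (AlgSt.spMapOfOver (BasedFunctor.comp e_B (FibCat.fpSnd y₁ y₂)))
    exact (Groth.Agent.S10565.result hP).2.2 qq bb hPq hb₂
  -- the chart `τ : T ⟶ 𝒳 ×_𝒴 V₂`
  have hT : FibCat.IsFibGrpd (AlgSt.ofSp T.obj).p := (isFibSetoid_ofPsh T.obj.obj).1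
  have hfpT : FibCat.IsFibGrpd (FibCat.fp (BasedFunctor.comp x₁ f) y₂).p :=
    isFibGrpd_fp (BasedFunctor.comp x₁ f) y₂ hU₁ hV₂ hfib𝒴
  have hZ : FibCat.IsFibGrpd (FibCat.fp f y₂).p := isFibGrpd_fp f y₂ hfib𝒳 hV₂ hfib𝒴
  let τ : AlgSt.ofSp T.obj ⥤ᵇ FibCat.fp f y₂ := BasedFunctor.comp e_T (fpMapLeft x₁ f y₂)
  have hτ₁ : AlgSt.RepByAlgSpWith (AlgSp.LocP @Smooth) τ :=
    (chart_precomp_equiv hT hfpT e_T he_T (fpMapLeft x₁ f y₂)).1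
      (repByAlgSpWith_fpMapLeft _ x₁ f y₂ hx₁)
  have hτ₂ : AlgSt.RepByAlgSpWith AlgSp.IsSurjectiveMor τ :=
    (chart_precomp_equiv hT hfpT e_T he_T (fpMapLeft x₁ f y₂)).2
      (repByAlgSpWith_fpMapLeft _ x₁ f y₂ hx₁s)
  -- the space `G = T ×_Z U₂`
  let ℓ₂ := FibCat.fpLift x₂ (AlgSt.overMap h₂) α₂
  obtain ⟨G, a_G, e_G, he_G, ⟨ι_G⟩, ha_G⟩ :=
    exists_space_map_of_repByAlgSpWith hU₂ hZ (AlgSp.LocP @Smooth) isLocalOnBase_fppf_smooth ℓ₂ hℓ₂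
      T τ
  let g₂ : G.obj ⟶ (AlgSp.yon S).obj U₂ :=
    AlgSt.spMapOfOver (BasedFunctor.comp e_G (FibCat.fpSnd τ ℓ₂))
  have hg₂ : AlgSp.LocP @Smooth g₂ :=
    prop_spMapOfOver_of_repByAlgSpWith _ bcStable_smooth (FibCat.fpSnd τ ℓ₂)
      (repByAlgSpWith_fpSnd _ τ ℓ₂ hτ₁) G e_G he_G
  have hg₂s : AlgSp.IsSurjectiveMor g₂ :=
    prop_spMapOfOver_of_repByAlgSpWith _ bcStable_isSurjectiveMor (FibCat.fpSnd τ ℓ₂)
      (repByAlgSpWith_fpSnd _ τ ℓ₂ hτ₂) G e_G he_G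
  -- commutativity
  have comm : g₂ ≫ (AlgSp.yon S).map h₂ = a_G.hom ≫ p_T := by
    rw [← spMapOfOver_comp_overMap, ← spMapOfOver_ofSpMap_comp]
    apply spMapOfOver_eq_of_iso
    exact (whiskerLeftIso e_G (whiskerRightIso (FibCat.fpIso τ ℓ₂).symm (FibCat.fpSnd f y₂)) :
      BasedFunctor.comp (BasedFunctor.comp e_G (FibCat.fpSnd τ ℓ₂)) (AlgSt.overMap h₂) ≅
        BasedFunctor.comp (BasedFunctor.comp e_G (FibCat.fpFst τ ℓ₂))
          (BasedFunctor.comp e_T (FibCat.fpSnd (BasedFunctor.comp x₁ f) y₂))) ≪≫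
      whiskerRightIso ι_G (BasedFunctor.comp e_T (FibCat.fpSnd (BasedFunctor.comp x₁ f) y₂))
  -- locality
  refine (hP.locality (AlgSp.IsAlgSpace.yon_obj U₂) (AlgSp.IsAlgSpace.yon_obj V₂)
    ((AlgSp.yon S).map h₂)).2 (fun p => ?_)
  obtain ⟨v, hv⟩ := hg₂s p
  exact ⟨G.obj, (AlgSp.yon S).obj V₂, g₂, 𝟙 _, a_G.hom ≫ p_T, v, G.property,
    AlgSp.IsAlgSpace.yon_obj V₂, hg₂, locP_smooth_id V₂, by rw [comm, Category.comp_id], hv,
    hP.precomp G.property T.property (AlgSp.IsAlgSpace.yon_obj V₂) a_G.hom p_T ha_G hPpT⟩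

end Engine

section BC

open Groth.Agent.Lib.Helper15LocQComp

variable {S : Scheme.{u}} {𝒳 𝒴 𝒴' 𝒱 : AlgSt.Cat S}

/-- The functor `𝒱 ×_𝒴 𝒳 ⟶ 𝒴' ×_𝒴 𝒳` induced by `y' : 𝒱 ⟶ 𝒴'`. -/
noncomputable def fpBaseMap (f : 𝒳 ⥤ᵇ 𝒴) (g : 𝒴' ⥤ᵇ 𝒴) (y' : 𝒱 ⥤ᵇ 𝒴') :
    FibCat.fp (BasedFunctor.comp y' g) f ⥤ᵇ FibCat.fp g f :=
  FibCat.fpLift (BasedFunctor.comp (FibCat.fpFst (BasedFunctor.comp y' g) f) y')
    (FibCat.fpSnd (BasedFunctor.comp y' g) f) (FibCat.fpIso (BasedFunctor.comp y' g) f)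

/-- `fpBaseMap` is a base change of `y'`. -/
noncomputable def fpBaseMapIso (f : 𝒳 ⥤ᵇ 𝒴) (g : 𝒴' ⥤ᵇ 𝒴) (y' : 𝒱 ⥤ᵇ 𝒴') :
    BasedFunctor.comp (pasteL f g y') (fpBaseMap f g y') ≅ FibCat.fpSnd y' (FibCat.fpFst g f) :=
  fpIsoMk g f (H := BasedFunctor.comp (pasteL f g y') (fpBaseMap f g y'))
    (K := FibCat.fpSnd y' (FibCat.fpFst g f)) (FibCat.fpIso y' (FibCat.fpFst g f)) (Iso.refl _)
    (fun a => by
      change g.map a.obj.iso.hom ≫ a.obj.snd.obj.iso.hom =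
        (g.map a.obj.iso.hom ≫ a.obj.snd.obj.iso.hom) ≫ f.map (𝟙 _)
      rw [f.toFunctor.map_id, Category.comp_id])

theorem repByAlgSpWith_fpBaseMap (Q : MorphismProperty (AlgSp.Sp S)) (f : 𝒳 ⥤ᵇ 𝒴) (g : 𝒴' ⥤ᵇ 𝒴)
    (y' : 𝒱 ⥤ᵇ 𝒴') (hy' : AlgSt.RepByAlgSpWith Q y') :
    AlgSt.RepByAlgSpWith Q (fpBaseMap f g y') := by
  have h1 : AlgSt.RepByAlgSpWith Q (FibCat.fpSnd y' (FibCat.fpFst g f)) :=
    repByAlgSpWith_fpSnd Q y' (FibCat.fpFst g f) hy'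
  exact (repByAlgSpWith_of_square Q (fpBaseMap f g y') (FibCat.fpSnd y' (FibCat.fpFst g f))
    (pasteL f g y') (BasedFunctor.id _) (isEquivOver_pasteL f g y') (isEquivOver_id _)
    (fpBaseMapIso f g y').symm).2 h1

/-- Base change of `LocQ P`, for `P` smooth local on source-and-target and stable under base
change. -/
theorem locQ_fpFst {𝒳 𝒴 𝒴' : AlgSt.Cat S} (P : MorphismProperty (AlgSp.Sp S))
    (hP : AlgSp.IsSmoothLocalST P) (hPb : BCStable P)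
    (h𝒳 : AlgSt.IsAlgStack Scheme.fppfPrecoverage 𝒳)
    (h𝒴 : AlgSt.IsAlgStack Scheme.fppfPrecoverage 𝒴)
    (h𝒴' : AlgSt.IsAlgStack Scheme.fppfPrecoverage 𝒴')
    (f : 𝒳 ⥤ᵇ 𝒴) (g : 𝒴' ⥤ᵇ 𝒴) (hf : AlgSt.LocQ P f) : AlgSt.LocQ P (FibCat.fpFst g f) := by
  obtain ⟨U₁, V₁, x₁, y₁, h₁, α₁, hx₁, hx₁s, hy₁, hP₁⟩ := hf
  obtain ⟨V', y', hy'₁, hy'₂⟩ := h𝒴'.atlas
  obtain ⟨U, x, h, α, hℓ₁, hℓ₂, -, -⟩ :=
    exists_good_square_over h𝒳 h𝒴 f (BasedFunctor.comp y' g)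
  have hPh : P ((AlgSp.yon S).map h) :=
    prop_of_good_square_bc P hP hPb h𝒳 h𝒴 f x₁ y₁ h₁ α₁ hx₁ hx₁s hy₁ hP₁ x
      (BasedFunctor.comp y' g) h α hℓ₁
  have hU : FibCat.IsFibGrpd (FibCat.overCat U).p := (isFibSet_overForget U).1
  have hV' : FibCat.IsFibGrpd (FibCat.overCat V').p := (isFibSet_overForget V').1
  have hfp : FibCat.IsFibGrpd (FibCat.fp f (BasedFunctor.comp y' g)).p :=
    isFibGrpd_fp f _ h𝒳.isStack.1 hV' h𝒴.isStack.1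
  have hD : ∀ Q : MorphismProperty (AlgSp.Sp S), AlgSt.RepByAlgSpWith Q y' →
      AlgSt.RepByAlgSpWith Q (BasedFunctor.comp (fpSwap f (BasedFunctor.comp y' g))
        (fpBaseMap f g y')) := fun Q hy' =>
    (repByAlgSpWith_of_square Q (fpBaseMap f g y')
      (BasedFunctor.comp (fpSwap f (BasedFunctor.comp y' g)) (fpBaseMap f g y'))
      (fpSwap f (BasedFunctor.comp y' g)) (BasedFunctor.id _)
      (isEquivOver_fpSwap f (BasedFunctor.comp y' g)) (isEquivOver_id _) (Iso.refl _)).1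
      (repByAlgSpWith_fpBaseMap Q f g y' hy')
  refine ⟨U, V', BasedFunctor.comp (FibCat.fpLift x (AlgSt.overMap h) α)
    (BasedFunctor.comp (fpSwap f (BasedFunctor.comp y' g)) (fpBaseMap f g y')), y', h, Iso.refl _,
    repByAlgSpWith_comp_of_compCond hU hfp _ compCond_smooth _ _ hℓ₁ (hD _ hy'₁),
    repByAlgSpWith_comp_of_compCond hU hfp _ compCond_isSurjectiveMor _ _ hℓ₂ (hD _ hy'₂),
    hy'₁, hPh⟩

end BC

section Equiv

variable {S : Scheme.{u}} {𝒳 𝒴 𝒳' 𝒴' : AlgSt.Cat S}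

/-- `LocQ P` passes along a 2-commutative square whose vertical functors are equivalences. -/
theorem locQ_of_square_equiv (P : MorphismProperty (AlgSp.Sp S)) (f : 𝒳 ⥤ᵇ 𝒴) (f' : 𝒳' ⥤ᵇ 𝒴')
    (a : 𝒳' ⥤ᵇ 𝒳) (b : 𝒴' ⥤ᵇ 𝒴) (ha : FibCat.IsEquivOver a) (hb : FibCat.IsEquivOver b)
    (e : BasedFunctor.comp f' b ≅ BasedFunctor.comp a f) (h : AlgSt.LocQ P f') :
    AlgSt.LocQ P f := by
  obtain ⟨U, V, x', y', k, α', hx'₁, hx'₂, hy'₁, hPk⟩ := h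
  refine ⟨U, V, BasedFunctor.comp x' a, BasedFunctor.comp y' b, k, ?_, ?_, ?_, ?_, hPk⟩
  · exact (whiskerLeftIso x' e.symm : BasedFunctor.comp (BasedFunctor.comp x' a) f ≅
      BasedFunctor.comp (BasedFunctor.comp x' f') b) ≪≫ whiskerRightIso α' b
  · exact (repByAlgSpWith_of_square _ (BasedFunctor.comp x' a) x' (BasedFunctor.id _) a
      (isEquivOver_id _) ha (Iso.refl _)).2 hx'₁
  · exact (repByAlgSpWith_of_square _ (BasedFunctor.comp x' a) x' (BasedFunctor.id _) a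
      (isEquivOver_id _) ha (Iso.refl _)).2 hx'₂
  · exact (repByAlgSpWith_of_square _ (BasedFunctor.comp y' b) y' (BasedFunctor.id _) b
      (isEquivOver_id _) hb (Iso.refl _)).2 hy'₁

theorem locQ_of_iso (P : MorphismProperty (AlgSp.Sp S)) {f f' : 𝒳 ⥤ᵇ 𝒴} (e : f' ≅ f)
    (h : AlgSt.LocQ P f') : AlgSt.LocQ P f :=
  locQ_of_square_equiv P f f' (BasedFunctor.id _) (BasedFunctor.id _) (isEquivOver_id _)
    (isEquivOver_id _) e h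

end Equiv

end Groth.Agent.R2.H59.LocQBC
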