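-- helper59: the category of a pullback of presheaves is the 2-fibre product of the categories of
-- presheaves (an equivalence over the base).
import Mathlib
import Groth.Agent.Lib.Helper15PshFib

set_option autoImplicit false
set_option backward.isDefEq.respectTransparency false
set_option backward.isDefEq.respectTransparency.types false
open CategoryTheory CategoryTheory.Functor CategoryTheory.Limits Opposite

universe v u w

namespace Groth.Agent.R2.H59.PshPB

open Groth.Agent.Lib.Helper17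

section A

variable {C : Type u} [Category.{v} C] {F H G B : Cᵒᵖ ⥤ Type w}
  (a : F ⟶ G) (b : H ⟶ G) (p₁ : B ⟶ F) (p₂ : B ⟶ H)

theorem comm_app (comm : p₁ ≫ a = p₂ ≫ b) (V : C) (r : B.obj (op V)) :
    a.app (op V) (p₁.app (op V) r) = b.app (op V) (p₂.app (op V) r) := by
  have := congrArg (fun t => t.app (op V) r) comm
  simpa using this

/-- The component of the comparison 2-isomorphism. -/
def pbIsoApp (comm : p₁ ≫ a = p₂ ≫ b) (c : (Stk.ofPsh B).obj) :
    (Stk.ofPshMap a).obj ((Stk.ofPshMap p₁).obj c) ≅ (Stk.ofPshMap b).obj ((Stk.ofPshMap p₂).obj c) where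
  hom := ⟨𝟙 c.base, by
    change G.map (𝟙 c.base).op (b.app _ (p₂.app _ c.sec)) = a.app _ (p₁.app _ c.sec)
    rw [comm_app a b p₁ p₂ comm]
    simp⟩
  inv := ⟨𝟙 c.base, by
    change G.map (𝟙 c.base).op (a.app _ (p₁.app _ c.sec)) = b.app _ (p₂.app _ c.sec)
    rw [comm_app a b p₁ p₂ comm]
    simp⟩
  hom_inv_id := by
    apply Stk.EltObj.hom_ext
    exact Category.id_comp _
  inv_hom_id := by
    apply Stk.EltObj.hom_ext
    exact Category.id_comp _

/-- The comparison 2-isomorphism. -/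
def pbIso (comm : p₁ ≫ a = p₂ ≫ b) :
    BasedFunctor.comp (Stk.ofPshMap p₁) (Stk.ofPshMap a) ≅
      BasedFunctor.comp (Stk.ofPshMap p₂) (Stk.ofPshMap b) :=
  BasedNatIso.mkNatIso
    (NatIso.ofComponents (fun c => pbIsoApp a b p₁ p₂ comm c) (fun {c c'} f => by
      apply Stk.EltObj.hom_ext
      change f.hom ≫ 𝟙 _ = 𝟙 _ ≫ f.hom
      rw [Category.comp_id, Category.id_comp]))
    (fun c => by
      change (Stk.ofPsh G).p.IsHomLift (𝟙 c.base) (pbIsoApp a b p₁ p₂ comm c).hom
      exact IsHomLift.map (Stk.EltObj.forget G) (pbIsoApp a b p₁ p₂ comm c).hom)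

/-- The comparison functor from the category of `B` to the 2-fibre product. -/
def pbFunctor (comm : p₁ ≫ a = p₂ ≫ b) :
    Stk.ofPsh B ⥤ᵇ FibCat.fp (Stk.ofPshMap a) (Stk.ofPshMap b) :=
  FibCat.fpLift (Stk.ofPshMap p₁) (Stk.ofPshMap p₂) (pbIso a b p₁ p₂ comm)

theorem pbFunctor_faithful (comm : p₁ ≫ a = p₂ ≫ b) :
    (pbFunctor a b p₁ p₂ comm).toFunctor.Faithful := by
  refine ⟨fun {c c'} m m' h => ?_⟩
  apply Stk.EltObj.hom_ext
  exact congrArg (fun t => t.hom.fst.hom) h

theorem pbFunctor_full (comm : p₁ ≫ a = p₂ ≫ b)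
    (hinj : ∀ (V : C) (r r' : B.obj (op V)), p₁.app _ r = p₁.app _ r' →
      p₂.app _ r = p₂.app _ r' → r = r') :
    (pbFunctor a b p₁ p₂ comm).toFunctor.Full := by
  refine ⟨fun {c c'} n => ?_⟩
  let g : c.base ⟶ c'.base := n.hom.fst.hom
  have hg' : n.hom.snd.hom = g := by
    have hw := congrArg (fun t => t.hom) n.hom.w
    change n.hom.fst.hom ≫ 𝟙 _ = 𝟙 _ ≫ n.hom.snd.hom at hw
    rw [Category.comp_id, Category.id_comp] at hw
    exact hw.symm
  have h1 : F.map g.op (p₁.app _ c'.sec) = p₁.app _ c.sec := n.hom.fst.map_sec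
  have h2 : H.map g.op (p₂.app _ c'.sec) = p₂.app _ c.sec := by
    have := n.hom.snd.map_sec
    rw [hg'] at this
    exact this
  have hsec : B.map g.op c'.sec = c.sec := by
    apply hinj
    · rw [← h1]
      exact NatTrans.naturality_apply p₁ g.op c'.sec
    · rw [← h2]
      exact NatTrans.naturality_apply p₂ g.op c'.sec
  refine ⟨⟨g, hsec⟩, ?_⟩
  apply ObjectProperty.hom_ext
  apply CategoricalPullback.hom_ext
  · apply Stk.EltObj.hom_ext
    rfl
  · apply Stk.EltObj.hom_ext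
    exact hg'.symm

theorem pbFunctor_essSurjOver (comm : p₁ ≫ a = p₂ ≫ b)
    (hsurj : ∀ (V : C) (s : F.obj (op V)) (t : H.obj (op V)), a.app _ s = b.app _ t →
      ∃ r : B.obj (op V), p₁.app _ r = s ∧ p₂.app _ r = t) :
    EssSurjOver (pbFunctor a b p₁ p₂ comm) := by
  intro η
  let V : C := η.obj.fst.base
  let k : V ⟶ η.obj.snd.base := η.obj.iso.hom.hom
  let kinv : η.obj.snd.base ⟶ V := η.obj.iso.inv.hom
  have hk1 : k ≫ kinv = 𝟙 _ := congrArg (fun t => t.hom) η.obj.iso.hom_inv_id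
  have hk2 : kinv ≫ k = 𝟙 _ := congrArg (fun t => t.hom) η.obj.iso.inv_hom_id
  let s : F.obj (op V) := η.obj.fst.sec
  let t : H.obj (op V) := H.map k.op η.obj.snd.sec
  have hst : a.app _ s = b.app _ t := by
    have h1 : G.map k.op (b.app _ η.obj.snd.sec) = a.app _ s := η.obj.iso.hom.map_sec
    rw [← h1]
    exact (NatTrans.naturality_apply b k.op η.obj.snd.sec).symm
  obtain ⟨r, hr1, hr2⟩ := hsurj V s t hst
  let ξ : (Stk.ofPsh B).obj := ⟨V, r⟩
  let e₁ : (Stk.ofPshMap p₁).obj ξ ≅ η.obj.fst :=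
    { hom := ⟨𝟙 V, by
        change F.map (𝟙 V).op η.obj.fst.sec = p₁.app _ r
        rw [hr1]
        simp [s]⟩
      inv := ⟨𝟙 V, by
        change F.map (𝟙 V).op (p₁.app _ r) = η.obj.fst.sec
        rw [hr1]
        simp [s]⟩
      hom_inv_id := by
        apply Stk.EltObj.hom_ext
        exact Category.id_comp _
      inv_hom_id := by
        apply Stk.EltObj.hom_ext
        exact Category.id_comp _ }
  let e₂ : (Stk.ofPshMap p₂).obj ξ ≅ η.obj.snd :=
    { hom := ⟨k, by
        change H.map k.op η.obj.snd.sec = p₂.app _ r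
        rw [hr2]⟩
      inv := ⟨kinv, by
        change H.map kinv.op (p₂.app _ r) = η.obj.snd.sec
        rw [hr2]
        change H.map kinv.op (H.map k.op η.obj.snd.sec) = η.obj.snd.sec
        rw [← Functor.map_comp_apply, ← op_comp, hk2]
        simp⟩
      hom_inv_id := by
        apply Stk.EltObj.hom_ext
        exact hk1
      inv_hom_id := by
        apply Stk.EltObj.hom_ext
        exact hk2 }
  have w : (Stk.ofPshMap a).toFunctor.map e₁.hom ≫ η.obj.iso.hom =
      ((pbFunctor a b p₁ p₂ comm).obj ξ).obj.iso.hom ≫ (Stk.ofPshMap b).toFunctor.map e₂.hom := by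
    apply Stk.EltObj.hom_ext
    change 𝟙 V ≫ k = 𝟙 V ≫ k
    rfl
  refine ⟨ξ, ObjectProperty.isoMk _ (CategoricalPullback.mkIso e₁ e₂ w), ?_⟩
  rw [fp_isHomLift_iff]
  exact IsHomLift.map (Stk.EltObj.forget F) e₁.hom

theorem isEquivOver_pbFunctor (comm : p₁ ≫ a = p₂ ≫ b)
    (hinj : ∀ (V : C) (r r' : B.obj (op V)), p₁.app _ r = p₁.app _ r' →
      p₂.app _ r = p₂.app _ r' → r = r')
    (hsurj : ∀ (V : C) (s : F.obj (op V)) (t : H.obj (op V)), a.app _ s = b.app _ t →
      ∃ r : B.obj (op V), p₁.app _ r = s ∧ p₂.app _ r = t) :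
    FibCat.IsEquivOver (pbFunctor a b p₁ p₂ comm) := by
  have := pbFunctor_faithful a b p₁ p₂ comm
  have := pbFunctor_full a b p₁ p₂ comm hinj
  exact isEquivOver_of_fullyFaithful_of_essSurjOver _
    (pbFunctor_essSurjOver a b p₁ p₂ comm hsurj)

end A

end Groth.Agent.R2.H59.PshPB
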