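-- helper83: the diagonal of a functor has a property as soon as the diagonals of all its base changes
-- to schemes do (no locality hypothesis: the relevant lifts are exact).
import Mathlib
import Groth.Agent.Lib.Helper15DiagDescent

set_option autoImplicit false
set_option backward.isDefEq.respectTransparency false
set_option backward.isDefEq.respectTransparency.types false
open CategoryTheory CategoryTheory.Functor CategoryTheory.Limits Opposite AlgebraicGeometry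

universe u

namespace Groth.Agent.R2.H83.DiagLocal

open Groth.Agent.Lib.Helper17 Groth.Agent.Lib.Helper15PshFib Groth.Agent.Lib.Helper15RepComp
  Groth.Agent.Lib.Helper15RepPsh Groth.Agent.Lib.Helper15DiagBase Groth.Agent.Lib.Helper15DiagRepSp
  Groth.Agent.Lib.Helper15BaseChange Groth.Agent.Lib.Helper15Descent
  Groth.Agent.Lib.Helper15.DiagBC Groth.Agent.Lib.Helper15DiagDescent

section A

variable {S : Scheme.{u}} {𝒳 𝒴 𝒵 : AlgSt.Cat S}

/-- Representing spaces (with the property of the projection) only depend on the point up to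
2-isomorphism. -/
theorem repWith_of_iso_point (P : MorphismProperty (AlgSp.Sp S)) (g : 𝒳 ⥤ᵇ 𝒴) {U : Over S}
    (y y' : FibCat.overCat U ⥤ᵇ 𝒴) (κ : y' ≅ y)
    (h : ∃ (F : AlgSp.Space S) (e : AlgSt.ofSp F.obj ⥤ᵇ FibCat.fp y' g),
      FibCat.IsEquivOver e ∧ P (AlgSt.spMapOfOver (BasedFunctor.comp e (FibCat.fpFst y' g)))) :
    ∃ (F : AlgSp.Space S) (e : AlgSt.ofSp F.obj ⥤ᵇ FibCat.fp y g),
      FibCat.IsEquivOver e ∧ P (AlgSt.spMapOfOver (BasedFunctor.comp e (FibCat.fpFst y g))) := by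
  have iY := IsEquivOver.isEquivalence (BasedFunctor.id 𝒴) (isEquivOver_id _)
  let M : FibCat.fp y' g ⥤ᵇ FibCat.fp y g :=
    fpMap y g y' g (BasedFunctor.id _) (BasedFunctor.id _) (BasedFunctor.id _) κ (Iso.refl _)
  have hM : FibCat.IsEquivOver M :=
    isEquivOver_fpMap y g y' g (BasedFunctor.id _) (BasedFunctor.id _) (BasedFunctor.id _) κ
      (Iso.refl _) (isEquivOver_id _) (isEquivOver_id _)
  exact repWith_transfer (FibCat.fpFst y' g) (FibCat.fpFst y g) M hM (Iso.refl _) P h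

/-- If the base change of `f` along `z` has `P`, then `f` has `P` at every point that lifts
through `z`. -/
theorem repWith_of_fpFst_of_lift (P : MorphismProperty (AlgSp.Sp S)) (f : 𝒳 ⥤ᵇ 𝒴) (z : 𝒵 ⥤ᵇ 𝒴)
    (h' : AlgSt.RepByAlgSpWith P (FibCat.fpFst z f)) {U : Over S} (y : FibCat.overCat U ⥤ᵇ 𝒴)
    (t : FibCat.overCat U ⥤ᵇ 𝒵) (κ : BasedFunctor.comp t z ≅ y) :
    ∃ (F : AlgSp.Space S) (e : AlgSt.ofSp F.obj ⥤ᵇ FibCat.fp y f),
      FibCat.IsEquivOver e ∧ P (AlgSt.spMapOfOver (BasedFunctor.comp e (FibCat.fpFst y f))) := by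
  refine repWith_of_iso_point P f y (BasedFunctor.comp t z) κ ?_
  exact repWith_transfer (FibCat.fpFst t (FibCat.fpFst z f)) (FibCat.fpFst (BasedFunctor.comp t z) f)
    (pasteL f z t) (isEquivOver_pasteL f z t) (Iso.refl _) P (h' U t)

/-- The diagonal of `f` has `P` as soon as the diagonals of its base changes to schemes do. -/
theorem repByAlgSpWith_diag_of_forall_fpFst (P : MorphismProperty (AlgSp.Sp S)) (f : 𝒳 ⥤ᵇ 𝒴)
    (h : ∀ (T : Over S) (y : FibCat.overCat T ⥤ᵇ 𝒴),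
      AlgSt.RepByAlgSpWith P (FibCat.diag (FibCat.fpFst y f))) :
    AlgSt.RepByAlgSpWith P (FibCat.diag f) := by
  intro U t
  let a₁ : FibCat.overCat U ⥤ᵇ 𝒳 := BasedFunctor.comp t (FibCat.fpFst f f)
  let a₂ : FibCat.overCat U ⥤ᵇ 𝒳 := BasedFunctor.comp t (FibCat.fpSnd f f)
  let w : FibCat.overCat U ⥤ᵇ 𝒴 := BasedFunctor.comp a₁ f
  let t₀ : FibCat.overCat U ⥤ᵇ FibCat.overCat U := BasedFunctor.id _
  let κ₁ : BasedFunctor.comp t₀ w ≅ BasedFunctor.comp a₁ f := Iso.refl _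
  let κ₂ : BasedFunctor.comp t₀ w ≅ BasedFunctor.comp a₂ f :=
    κ₁ ≪≫ whiskerLeftIso t (FibCat.fpIso f f)
  let x₁ : FibCat.overCat U ⥤ᵇ FibCat.fp w f := FibCat.fpLift t₀ a₁ κ₁
  let x₂ : FibCat.overCat U ⥤ᵇ FibCat.fp w f := FibCat.fpLift t₀ a₂ κ₂
  let t' : FibCat.overCat U ⥤ᵇ FibCat.fp (f' f w) (f' f w) :=
    FibCat.fpLift x₁ x₂ (Iso.refl _)
  have κ : BasedFunctor.comp t' (GG f w) ≅ t :=
    fpIsoMk f f (H := BasedFunctor.comp t' (GG f w)) (K := t) (Iso.refl _) (Iso.refl _)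
      (fun a => by
        change f.map (𝟙 _) ≫ (t.obj a).obj.iso.hom =
          ((bApp κ₁ a).inv ≫ w.map (𝟙 _) ≫ (bApp κ₂ a).hom) ≫ f.map (𝟙 _)
        exact aux_conj (bApp κ₁ a) (t.obj a).obj.iso.hom _ _ _ (f.toFunctor.map_id _)
          (w.toFunctor.map_id _) (f.toFunctor.map_id _))
  have h1 : AlgSt.RepByAlgSpWith P (FibCat.fpFst (GG f w) (FibCat.diag f)) :=
    (repByAlgSpWith_of_square P (FibCat.fpFst (GG f w) (FibCat.diag f))
      (FibCat.diag (f' f w)) (EE f w) (BasedFunctor.id _) (isEquivOver_EE f w)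
      (isEquivOver_id _) (Iso.refl _)).mpr (h U w)
  exact repWith_of_fpFst_of_lift P (FibCat.diag f) (GG f w) h1 t t' κ

end A

end Groth.Agent.R2.H83.DiagLocal
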