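-- helper59: the diagonal of a functor representable by algebraic spaces, read on base changes to
-- schemes: `RepByAlgSpWith P (diag h)` iff all base changes `F_y ⟶ h_U` have `P` on their diagonal.
import Mathlib
import Groth.Agent.R2.H59PshPB
import Groth.Agent.R2.H59Cancel2
import Groth.Agent.R2.H83DiagLocal
import Groth.Agent.Lib.Helper15DiagOfComp
import Groth.Agent.Lib.Helper15LocQSpace2

set_option autoImplicit false
set_option backward.isDefEq.respectTransparency false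
set_option backward.isDefEq.respectTransparency.types false
open CategoryTheory CategoryTheory.Functor CategoryTheory.Limits Opposite AlgebraicGeometry

universe u

namespace Groth.Agent.R2.H59.KeyDiag

open Groth.Agent.Lib.Helper17 Groth.Agent.Lib.Helper15PshFib Groth.Agent.Lib.Helper15RepComp
  Groth.Agent.Lib.Helper15RepPsh Groth.Agent.Lib.Helper15DiagBase Groth.Agent.Lib.Helper15DiagRepSp
  Groth.Agent.Lib.Helper15EquivRep Groth.Agent.Lib.Helper15BaseChange Groth.Agent.Lib.Helper15Descent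
  Groth.Agent.Lib.Helper15SpMapRep Groth.Agent.Lib.Helper15DiagDescent Groth.Agent.Lib.Helper15DiagLft
  Groth.Agent.R2.H59.PshPB

section Square

theorem aux_conj' {D : Type*} [Category D] {A B : D} (k : A ≅ B) (i : A ⟶ A) (hi : i = 𝟙 A)
    (j : B ⟶ B) (hj : j = 𝟙 B) : j ≫ 𝟙 _ = (k.inv ≫ i ≫ k.hom) ≫ j := by
  subst hi hj
  simp

variable {S : Scheme.{u}} {𝒜 𝒜' ℬ ℬ' : AlgSt.Cat S}

/-- The diagonal of a functor only depends on the functor up to equivalences of source and target. -/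
theorem repByAlgSpWith_diag_of_square (P : MorphismProperty (AlgSp.Sp S)) (h : 𝒜 ⥤ᵇ ℬ)
    (h' : 𝒜' ⥤ᵇ ℬ') (a : 𝒜' ⥤ᵇ 𝒜) (b : ℬ' ⥤ᵇ ℬ) (ha : FibCat.IsEquivOver a)
    [b.toFunctor.Full] [b.toFunctor.Faithful]
    (e : BasedFunctor.comp h' b ≅ BasedFunctor.comp a h) :
    AlgSt.RepByAlgSpWith P (FibCat.diag h) ↔ AlgSt.RepByAlgSpWith P (FibCat.diag h') := by
  let M : FibCat.fp h' h' ⥤ᵇ FibCat.fp h h := fpMap h h h' h' a a b e e
  have hM : FibCat.IsEquivOver M := isEquivOver_fpMap h h h' h' a a b e e ha ha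
  refine repByAlgSpWith_of_square P (FibCat.diag h) (FibCat.diag h') a M ha hM ?_
  exact fpIsoMk h h (H := BasedFunctor.comp (FibCat.diag h') M)
    (K := BasedFunctor.comp a (FibCat.diag h)) (Iso.refl _) (Iso.refl _) (fun x => by
      change h.map (𝟙 _) ≫ 𝟙 _ = ((bApp e x).inv ≫ b.map (𝟙 _) ≫ (bApp e x).hom) ≫ h.map (𝟙 _)
      exact aux_conj' (bApp e x) _ (b.toFunctor.map_id _) _ (h.toFunctor.map_id _))

end Square

section Core

variable {S : Scheme.{u}}

/-- A pullback square of sheaves is pointwise a pullback of sets: uniqueness. -/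
theorem sec_ext_of_isPullback {F H G B : AlgSp.Sp S} {a : F ⟶ G} {b : H ⟶ G} {p₁ : B ⟶ F}
    {p₂ : B ⟶ H} (sq : IsPullback p₁ p₂ a b) (V : Over S) (r r' : B.obj.obj (op V))
    (h1 : p₁.hom.app _ r = p₁.hom.app _ r') (h2 : p₂.hom.app _ r = p₂.hom.app _ r') : r = r' := by
  have sq1 := sq.map (sheafToPresheaf (AlgSp.J S) (Type (u + 1)))
  have sq2 := sq1.map ((evaluation _ _).obj (op V))
  rw [Limits.Types.isPullback_iff] at sq2
  exact sq2.2.1 r r' ⟨h1, h2⟩

/-- A pullback square of sheaves is pointwise a pullback of sets: existence. -/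
theorem exists_sec_of_isPullback {F H G B : AlgSp.Sp S} {a : F ⟶ G} {b : H ⟶ G} {p₁ : B ⟶ F}
    {p₂ : B ⟶ H} (sq : IsPullback p₁ p₂ a b) (V : Over S) (s : F.obj.obj (op V))
    (t : H.obj.obj (op V)) (h : a.hom.app _ s = b.hom.app _ t) :
    ∃ r : B.obj.obj (op V), p₁.hom.app _ r = s ∧ p₂.hom.app _ r = t := by
  have sq1 := sq.map (sheafToPresheaf (AlgSp.J S) (Type (u + 1)))
  have sq2 := sq1.map ((evaluation _ _).obj (op V))
  rw [Limits.Types.isPullback_iff] at sq2
  exact sq2.2.2 s t h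

theorem ofPsh_hom_unique {C : Type*} [Category C] {G : Cᵒᵖ ⥤ Type*} {z' z : (Stk.ofPsh G).obj}
    {T' T : C} (f : T' ⟶ T) (φ φ' : z' ⟶ z)
    (h : (Stk.ofPsh G).p.IsHomLift f φ) (h' : (Stk.ofPsh G).p.IsHomLift f φ') : φ = φ' := by
  apply Stk.EltObj.hom_ext
  have h1 := IsHomLift.fac' (Stk.ofPsh G).p f φ
  have h2 := IsHomLift.fac' (Stk.ofPsh G).p f φ'
  exact h1.trans h2.symm

/-- The diagonal of the functor of a map of sheaves is, up to the comparison equivalence, the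
functor of the diagonal of the map. -/
theorem repByAlgSpWith_diag_ofSpMap_iff (P : MorphismProperty (AlgSp.Sp S)) {F G : AlgSp.Sp S}
    (m : F ⟶ G) :
    AlgSt.RepByAlgSpWith P (FibCat.diag (AlgSt.ofSpMap m)) ↔
      AlgSt.RepByAlgSpWith P (AlgSt.ofSpMap (pullback.diagonal m)) := by
  have sq := IsPullback.of_hasPullback m m
  have comm : (pullback.fst m m).hom ≫ m.hom = (pullback.snd m m).hom ≫ m.hom :=
    congrArg (fun t => t.hom) sq.w
  let R : AlgSt.ofSp (pullback m m) ⥤ᵇ FibCat.fp (AlgSt.ofSpMap m) (AlgSt.ofSpMap m) :=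
    pbFunctor m.hom m.hom (pullback.fst m m).hom (pullback.snd m m).hom comm
  have hR : FibCat.IsEquivOver R := isEquivOver_pbFunctor _ _ _ _ comm
    (fun V r r' h1 h2 => sec_ext_of_isPullback sq V r r' h1 h2)
    (fun V s t h => exists_sec_of_isPullback sq V s t h)
  refine repByAlgSpWith_of_square P (FibCat.diag (AlgSt.ofSpMap m))
    (AlgSt.ofSpMap (pullback.diagonal m)) (BasedFunctor.id _) R (isEquivOver_id _) hR ?_
  have k1 : ∀ (V : Over S) (s : F.obj.obj (op V)),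
      (pullback.fst m m).hom.app _ ((pullback.diagonal m).hom.app _ s) = s := fun V s =>
    congrArg (fun t => t.hom.app (op V) s) (pullback.diagonal_fst m)
  have k2 : ∀ (V : Over S) (s : F.obj.obj (op V)),
      (pullback.snd m m).hom.app _ ((pullback.diagonal m).hom.app _ s) = s := fun V s =>
    congrArg (fun t => t.hom.app (op V) s) (pullback.diagonal_snd m)
  let H₀ : AlgSt.ofSp F ⥤ᵇ FibCat.fp (AlgSt.ofSpMap m) (AlgSt.ofSpMap m) :=
    BasedFunctor.comp (AlgSt.ofSpMap (pullback.diagonal m)) R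
  let K₀ : AlgSt.ofSp F ⥤ᵇ FibCat.fp (AlgSt.ofSpMap m) (AlgSt.ofSpMap m) :=
    BasedFunctor.comp (BasedFunctor.id _) (FibCat.diag (AlgSt.ofSpMap m))
  let e₁ : BasedFunctor.comp H₀ (FibCat.fpFst _ _) ≅ BasedFunctor.comp K₀ (FibCat.fpFst _ _) :=
    pshIsoOfSecEq (fun c => by
      unfold pshSec
      exact (psh_map_id_op F.obj _).trans ((k1 c.base c.sec).trans (psh_map_id_op F.obj _).symm))
  let e₂ : BasedFunctor.comp H₀ (FibCat.fpSnd _ _) ≅ BasedFunctor.comp K₀ (FibCat.fpSnd _ _) :=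
    pshIsoOfSecEq (fun c => by
      unfold pshSec
      exact (psh_map_id_op F.obj _).trans ((k2 c.base c.sec).trans (psh_map_id_op F.obj _).symm))
  refine fpIsoMk (AlgSt.ofSpMap m) (AlgSt.ofSpMap m) (H := H₀) (K := K₀) e₁ e₂ (fun c => ?_)
  refine ofPsh_hom_unique (𝟙 c.base) _ _ ?_ ?_
  · refine isHomLift_id_comp (AlgSt.ofSp G).p c.base _ _ ?_ (K₀.obj c).property
    have h₁ : (AlgSt.ofSp F).p.IsHomLift (𝟙 c.base) (e₁.hom.toNatTrans.app c) :=
      e₁.hom.isHomLift' c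
    exact BasedFunctor.preserves_isHomLift (AlgSt.ofSpMap m) _ _
  · refine isHomLift_id_comp (AlgSt.ofSp G).p c.base _ _ (H₀.obj c).property ?_
    have h₂ : (AlgSt.ofSp F).p.IsHomLift (𝟙 c.base) (e₂.hom.toNatTrans.app c) :=
      e₂.hom.isHomLift' c
    exact BasedFunctor.preserves_isHomLift (AlgSt.ofSpMap m) _ _

end Core

section Key

variable {S : Scheme.{u}}

/-- The diagonal of a functor from an algebraic space to a slice has `P` iff the diagonal of the
associated map of algebraic spaces has `P` (the implication from left to right uses that `P` is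
fppf local on the base). -/
theorem repByAlgSpWith_diag_over_of_prop (P : MorphismProperty (AlgSp.Sp S)) (hPb : BCStable P)
    (F : AlgSp.Space S) {U : Over S} (Φ : AlgSt.ofSp F.obj ⥤ᵇ FibCat.overCat U)
    (h : P (pullback.diagonal (AlgSt.spMapOfOver Φ))) :
    AlgSt.RepByAlgSpWith P (FibCat.diag Φ) := by
  have := IsEquivOver.isEquivalence (AlgSt.ofOverCat U) (isEquivOver_ofOverCat U)
  have e : BasedFunctor.comp Φ (AlgSt.ofOverCat U) ≅
      BasedFunctor.comp (BasedFunctor.id _) (AlgSt.ofSpMap (AlgSt.spMapOfOver Φ)) := spMapIso Φ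
  refine (repByAlgSpWith_diag_of_square P (AlgSt.ofSpMap (AlgSt.spMapOfOver Φ)) Φ
    (BasedFunctor.id _) (AlgSt.ofOverCat U) (isEquivOver_id _) e).1 ?_
  rw [repByAlgSpWith_diag_ofSpMap_iff]
  have hW : AlgSp.IsAlgSpace (pullback (AlgSt.spMapOfOver Φ) (AlgSt.spMapOfOver Φ)) :=
    Groth.Agent.S9874.isAlgSpace_of_isPullback (AlgSp.IsAlgSpace.yon_obj U).diag F.property
      F.property (IsPullback.of_hasPullback _ _)
  exact repByAlgSpWith_ofSpMap P hPb F ⟨_, hW⟩
    (ObjectProperty.homMk (pullback.diagonal (AlgSt.spMapOfOver Φ))) h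

theorem prop_of_repByAlgSpWith_diag_over (P : MorphismProperty (AlgSp.Sp S)) (hPb : BCStable P)
    (hPl : AlgSp.IsLocalOnBase AlgSp.IsFppfCover P)
    (F : AlgSp.Space S) {U : Over S} (Φ : AlgSt.ofSp F.obj ⥤ᵇ FibCat.overCat U)
    (h : AlgSt.RepByAlgSpWith P (FibCat.diag Φ)) :
    P (pullback.diagonal (AlgSt.spMapOfOver Φ)) := by
  have := IsEquivOver.isEquivalence (AlgSt.ofOverCat U) (isEquivOver_ofOverCat U)
  have e : BasedFunctor.comp Φ (AlgSt.ofOverCat U) ≅
      BasedFunctor.comp (BasedFunctor.id _) (AlgSt.ofSpMap (AlgSt.spMapOfOver Φ)) := spMapIso Φ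
  have h1 := (repByAlgSpWith_diag_of_square P (AlgSt.ofSpMap (AlgSt.spMapOfOver Φ)) Φ
    (BasedFunctor.id _) (AlgSt.ofOverCat U) (isEquivOver_id _) e).2 h
  rw [repByAlgSpWith_diag_ofSpMap_iff] at h1
  have hW : AlgSp.IsAlgSpace (pullback (AlgSt.spMapOfOver Φ) (AlgSt.spMapOfOver Φ)) :=
    Groth.Agent.S9874.isAlgSpace_of_isPullback (AlgSp.IsAlgSpace.yon_obj U).diag F.property
      F.property (IsPullback.of_hasPullback _ _)
  exact Groth.Agent.Lib.Helper15LocQSpace2.prop_of_repByAlgSpWith_ofSpMap P hPb hPl F ⟨_, hW⟩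
    (ObjectProperty.homMk (pullback.diagonal (AlgSt.spMapOfOver Φ))) h1

variable {𝒜 ℬ : AlgSt.Cat S}

/-- If every base change of `h` to a scheme has `P` on its diagonal, the diagonal of `h` has `P`. -/
theorem repByAlgSpWith_diag_of_repByAlgSpWith_diagonal (P : MorphismProperty (AlgSp.Sp S))
    (hPb : BCStable P) (h : 𝒜 ⥤ᵇ ℬ)
    (hq : AlgSt.RepByAlgSpWith (fun _ _ f => P (pullback.diagonal f)) h) :
    AlgSt.RepByAlgSpWith P (FibCat.diag h) := by
  refine Groth.Agent.R2.H83.DiagLocal.repByAlgSpWith_diag_of_forall_fpFst P h (fun T y => ?_)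
  obtain ⟨F, e, he, hQ⟩ := hq T y
  exact (Groth.Agent.Lib.Helper15DiagOfComp.repByAlgSpWith_diag_equiv_source P e he
    (FibCat.fpFst y h)).2 (repByAlgSpWith_diag_over_of_prop P hPb F _ hQ)

/-- If the diagonal of `h` (representable by algebraic spaces) has `P`, every base change of `h`
to a scheme has `P` on its diagonal. -/
theorem repByAlgSpWith_diagonal_of_repByAlgSpWith_diag (P : MorphismProperty (AlgSp.Sp S))
    (hPb : BCStable P) (hPl : AlgSp.IsLocalOnBase AlgSp.IsFppfCover P) (h : 𝒜 ⥤ᵇ ℬ)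
    (hrep : AlgSt.RepByAlgSp1 h) (hd : AlgSt.RepByAlgSpWith P (FibCat.diag h)) :
    AlgSt.RepByAlgSpWith (fun _ _ f => P (pullback.diagonal f)) h := by
  intro U y
  obtain ⟨F, e, he⟩ := hrep U y
  refine ⟨F, e, he, ?_⟩
  have h1 : AlgSt.RepByAlgSpWith P (FibCat.diag (FibCat.fpFst y h)) :=
    Groth.Agent.Lib.Helper15.DiagBC.repByAlgSpWith_diag_fpFst P h y hd
  have h2 := (Groth.Agent.Lib.Helper15DiagOfComp.repByAlgSpWith_diag_equiv_source P e he
    (FibCat.fpFst y h)).1 h1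
  exact prop_of_repByAlgSpWith_diag_over P hPb hPl F _ h2

/-- A property (stable under base change) of one representation of a base change of `g` passes to
any other representation. -/
theorem prop_of_rep (Q : MorphismProperty (AlgSp.Sp S)) (hQb : BCStable Q) (g : 𝒜 ⥤ᵇ ℬ)
    (hg : AlgSt.RepByAlgSpWith Q g) {U : Over S} (y : FibCat.overCat U ⥤ᵇ ℬ) (F : AlgSp.Space S)
    (e : AlgSt.ofSp F.obj ⥤ᵇ FibCat.fp y g) (he : FibCat.IsEquivOver e) :
    Q (AlgSt.spMapOfOver (BasedFunctor.comp e (FibCat.fpFst y g))) := by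
  obtain ⟨F', e', he', hQ'⟩ := hg U y
  obtain ⟨i, hi⟩ := exists_iso_of_two_reps g y F'.obj e' he' F.obj e he
  rw [← hi]
  exact precomp_iso_of_bcStable Q hQb F.property F'.property (AlgSp.IsAlgSpace.yon_obj U) i _ hQ'

/-- Pointwise (on maps from algebraic spaces to schemes) implication of properties. -/
theorem repByAlgSpWith_mono' {Q Q' : MorphismProperty (AlgSp.Sp S)} (g : 𝒜 ⥤ᵇ ℬ)
    (hg : AlgSt.RepByAlgSpWith Q g)
    (imp : ∀ (F : AlgSp.Space S) (U : Over S) (m : F.obj ⟶ (AlgSp.yon S).obj U), Q m → Q' m) :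
    AlgSt.RepByAlgSpWith Q' g := by
  intro U y
  obtain ⟨F, e, he, hQ⟩ := hg U y
  exact ⟨F, e, he, imp F U _ hQ⟩

/-- The diagonal of any representation of a base change of `h` has `P`, if the diagonal of `h`
has `P`. -/
theorem prop_diagonal_of_repByAlgSpWith_diag (P : MorphismProperty (AlgSp.Sp S))
    (hPb : BCStable P) (hPl : AlgSp.IsLocalOnBase AlgSp.IsFppfCover P) (h : 𝒜 ⥤ᵇ ℬ)
    (hd : AlgSt.RepByAlgSpWith P (FibCat.diag h)) {U : Over S} (y : FibCat.overCat U ⥤ᵇ ℬ)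
    (F : AlgSp.Space S) (e : AlgSt.ofSp F.obj ⥤ᵇ FibCat.fp y h) (he : FibCat.IsEquivOver e) :
    P (pullback.diagonal (AlgSt.spMapOfOver (BasedFunctor.comp e (FibCat.fpFst y h)))) := by
  have h1 : AlgSt.RepByAlgSpWith P (FibCat.diag (FibCat.fpFst y h)) :=
    Groth.Agent.Lib.Helper15.DiagBC.repByAlgSpWith_diag_fpFst P h y hd
  have h2 := (Groth.Agent.Lib.Helper15DiagOfComp.repByAlgSpWith_diag_equiv_source P e he
    (FibCat.fpFst y h)).1 h1
  exact prop_of_repByAlgSpWith_diag_over P hPb hPl F _ h2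

end Key

end Groth.Agent.R2.H59.KeyDiag
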