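-- helper59: base-change stability and fppf locality of the properties used with `H59KeyDiag`.
import Mathlib
import Groth.Agent.R2.H59KeyDiag
import Groth.Agent.Lib.Helper15ImmQc
import Groth.Agent.S10519
import Groth.Agent.S10521

set_option autoImplicit false
open CategoryTheory CategoryTheory.Functor CategoryTheory.Limits Opposite AlgebraicGeometry

universe u

namespace Groth.Agent.R2.H59.DiagProps

open Groth.Agent.Lib.Helper15DiagLft Groth.Agent.Lib.Helper15DiagDescent

variable {S : Scheme.{u}}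

theorem bcStable_univSp (Q : MorphismProperty (AlgSp.Sp S)) : BCStable (AlgSp.UnivSp Q) := by
  intro X₁ Y₁ X₂ Y₂ _ _ _ _ a b a' b' sq h Z Z' hZ g fst snd sq'
  exact h hZ (g ≫ b) (fst ≫ b') snd (sq'.paste_horiz sq)

theorem bcStable_isUnivClosedMor : BCStable (AlgSp.IsUnivClosedMor (S := S)) :=
  bcStable_univSp _

theorem bcStable_isQuasiCompactMor : BCStable (AlgSp.IsQuasiCompactMor (S := S)) :=
  fun _ _ _ _ _ _ _ _ _ _ _ _ sq h =>
    Groth.Agent.Lib.Helper15ImmQc.isQuasiCompactMor_of_isPullback sq h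

theorem isLocalOnBase_fppf_isUnivClosedMor :
    AlgSp.IsLocalOnBase AlgSp.IsFppfCover (AlgSp.IsUnivClosedMor (S := S)) :=
  isLocalOnBase_fppf_of_fpqc _ (Groth.Agent.S10521.result S)

theorem isLocalOnBase_fppf_isQuasiCompactMor :
    AlgSp.IsLocalOnBase AlgSp.IsFppfCover (AlgSp.IsQuasiCompactMor (S := S)) :=
  isLocalOnBase_fppf_of_fpqc _ (Groth.Agent.S10519.result S)

end Groth.Agent.R2.H59.DiagProps
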