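-- helper59: the base category over itself is an algebraic stack; quasi-compactness of the structure
-- functor of a quasi-compact algebraic stack over a quasi-separated base.
import Mathlib
import Groth.Agent.R2.H59FppfCover
import Groth.Agent.R2.H59DiagProps
import Groth.Agent.Lib.Helper15QcRep
import Groth.Agent.Lib.Helper15QsComp
import Groth.Agent.Lib.Helper17AlgStEquiv2

set_option autoImplicit false
set_option backward.isDefEq.respectTransparency false
set_option backward.isDefEq.respectTransparency.types false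
open CategoryTheory CategoryTheory.Functor CategoryTheory.Limits Opposite AlgebraicGeometry

universe u

namespace Groth.Agent.R2.H59.SelfOver

open Groth.Agent.Lib.Helper17 Groth.Agent.Lib.Helper15PshFib Groth.Agent.Lib.Helper15RepComp
  Groth.Agent.Lib.Helper15RepPsh Groth.Agent.Lib.Helper15DiagBase Groth.Agent.Lib.Helper15DiagRepSp
  Groth.Agent.Lib.Helper15Descent Groth.Agent.Lib.Helper15DiagLft
  Groth.Agent.Lib.Helper15DiagDescent Groth.Agent.Lib.Helper15SpMapRep
  Groth.Agent.Lib.Helper15SrcCancel Groth.Agent.Lib.Helper15ChartSp Groth.Agent.Lib.Helper15Atlas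
  Groth.Agent.Lib.Helper15LocEss Groth.Agent.Lib.Helper15UnivComp Groth.Agent.Lib.Helper15SmLoc
  Groth.Agent.Lib.Helper15PtsComp Groth.Agent.Lib.Helper15PtsTop Groth.Agent.Lib.Helper15PtsQc
  Groth.Agent.Lib.Helper15FpSwap Groth.Agent.Lib.Helper15QcLocal Groth.Agent.Lib.Helper15ClosedQc
  Groth.Agent.Lib.Helper15QsComp Groth.Agent.R2.H59.DiagProps

section Term

variable (S : Scheme.{u})

/-- The terminal object of schemes over `S`. -/
abbrev termOver : Over S := Over.mk (𝟙 S)

/-- The unique morphism to the terminal object. -/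
def toTerm (B : Over S) : B ⟶ termOver S := Over.homMk B.hom

variable {S}

theorem hom_termOver_ext {B : Over S} (a b : B ⟶ termOver S) : a = b := by
  apply Over.OverMorphism.ext
  have ha : a.left = B.hom := by simpa using Over.w a
  have hb : b.left = B.hom := by simpa using Over.w b
  rw [ha, hb]

instance full_toSelf_termOver :
    (FibCat.toSelf (FibCat.overCat (termOver S))).toFunctor.Full := by
  refine ⟨fun {X Y} f => ?_⟩
  exact ⟨Over.homMk f (hom_termOver_ext _ _), rfl⟩

instance faithful_toSelf_termOver :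
    (FibCat.toSelf (FibCat.overCat (termOver S))).toFunctor.Faithful :=
  inferInstanceAs (Over.forget (termOver S)).Faithful

theorem isEquivOver_toSelf_termOver :
    FibCat.IsEquivOver (FibCat.toSelf (FibCat.overCat (termOver S))) := by
  apply isEquivOver_of_fullyFaithful_of_essSurjOver
  intro η
  refine ⟨Over.mk (toTerm S η), Iso.refl _, ?_⟩
  exact IsHomLift.id rfl

theorem isAlgStack_selfOver :
    AlgSt.IsAlgStack Scheme.fppfPrecoverage (FibCat.selfOver (Over S)) :=
  isAlgStack_of_isEquivOver _ _ isEquivOver_toSelf_termOver (isAlgStack_overCat (termOver S))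

end Term

section OverMap

variable {S : Scheme.{u}}

/-- The slice functor of a morphism of schemes whose associated map of sheaves has a base change
stable property has that property. -/
theorem repByAlgSpWith_overMap (P : MorphismProperty (AlgSp.Sp S)) (hPb : BCStable P)
    {W V : Over S} (g : W ⟶ V) (hg : P ((AlgSp.yon S).map g)) :
    AlgSt.RepByAlgSpWith P (AlgSt.overMap g) := by
  let WW : AlgSp.Space S := ⟨(AlgSp.yon S).obj W, AlgSp.IsAlgSpace.yon_obj W⟩
  let VV : AlgSp.Space S := ⟨(AlgSp.yon S).obj V, AlgSp.IsAlgSpace.yon_obj V⟩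
  let a : WW ⟶ VV := ObjectProperty.homMk ((AlgSp.yon S).map g)
  have h1 : AlgSt.RepByAlgSpWith P (AlgSt.ofSpMap ((AlgSp.yon S).map g)) :=
    repByAlgSpWith_ofSpMap P hPb WW VV a hg
  obtain ⟨lam⟩ := nonempty_iso_overMap g
  have h2 : AlgSt.RepByAlgSpWith P (BasedFunctor.comp (BasedFunctor.comp (AlgSt.ofOverCat W)
      (AlgSt.ofSpMap ((AlgSp.yon S).map g))) (AlgSt.toOverCat V)) :=
    (repByAlgSpWith_of_square P (AlgSt.ofSpMap ((AlgSp.yon S).map g)) _
      (AlgSt.ofOverCat W) (AlgSt.ofOverCat V) (isEquivOver_ofOverCat W) (isEquivOver_ofOverCat V)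
      (Iso.refl _)).1 h1
  refine (repByAlgSpWith_of_square P _ (AlgSt.overMap g) (BasedFunctor.id _) (BasedFunctor.id _)
    (isEquivOver_id _) (isEquivOver_id _) ?_).1 h2
  exact lam.symm

/-- The structure functor of a slice has every base change stable property enjoyed by the
structure morphism of the scheme. -/
theorem repByAlgSpWith_toSelf_overCat (P : MorphismProperty (AlgSp.Sp S)) (hPb : BCStable P)
    (B : Over S) (hB : P ((AlgSp.yon S).map (toTerm S B))) :
    AlgSt.RepByAlgSpWith P (FibCat.toSelf (FibCat.overCat B)) := by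
  have h1 := repByAlgSpWith_overMap P hPb (toTerm S B) hB
  refine (repByAlgSpWith_of_square P (FibCat.toSelf (FibCat.overCat B))
    (AlgSt.overMap (toTerm S B)) (BasedFunctor.id _)
    (FibCat.toSelf (FibCat.overCat (termOver S))) (isEquivOver_id _)
    isEquivOver_toSelf_termOver ?_).2 h1
  exact selfOverIso _ _

/-- Over a quasi-separated base, the structure functor of the slice of an affine scheme is
quasi-compact. -/
theorem isQuasiCompactMor_toSelf_overCat [QuasiSeparatedSpace S] (B : Over S)
    (hB : IsAffine B.left) :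
    AlgSt.IsQuasiCompactMor Scheme.fppfPrecoverage (FibCat.toSelf (FibCat.overCat B)) := by
  apply Groth.Agent.Lib.Helper15QcRep.isQuasiCompactMor_of_rep (isAlgStack_overCat B)
    isAlgStack_selfOver
  apply repByAlgSpWith_toSelf_overCat _ bcStable_isQuasiCompactMor
  apply Groth.Agent.Lib.Helper15ImmQc.isQuasiCompactMor_yon_map
  change QuasiCompact B.hom
  infer_instance

/-- Over a quasi-separated base, the structure functor of a quasi-compact algebraic stack is
quasi-compact. -/
theorem isQuasiCompactMor_toSelf [QuasiSeparatedSpace S] {𝒳 : AlgSt.Cat S}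
    (h𝒳 : AlgSt.IsAlgStack Scheme.fppfPrecoverage 𝒳) (hqc : AlgSt.IsQuasiCompact 𝒳) :
    AlgSt.IsQuasiCompactMor Scheme.fppfPrecoverage (FibCat.toSelf 𝒳) := by
  obtain ⟨B, b, hB, hb₁, hb₂⟩ := hqc
  have hbs : AlgSt.IsSurjective b :=
    (isSurjective_iff_repByAlgSpWith (isAlgStack_overCat B) h𝒳 b
      (repByAlgSp1_of_repByAlgSpWith _ _ hb₂)).2 hb₂
  exact isQuasiCompactMor_of_isSurjective_of_triangle (isAlgStack_overCat B) h𝒳
    isAlgStack_selfOver b (FibCat.toSelf (FibCat.overCat B)) (FibCat.toSelf 𝒳)
    (selfOverIso _ _) hbs (isQuasiCompactMor_toSelf_overCat B hB)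

end OverMap

end Groth.Agent.R2.H59.SelfOver
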