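-- helper59: `LocQ` for properties smooth local on source-and-target (no base change stability):
-- composition with smooth functors, smooth base change, and fppf descent along a cover of the
-- target.
import Mathlib
import Groth.Agent.R2.H59LocQBC
import Groth.Agent.R2.H59SelfOver

set_option autoImplicit false
set_option backward.isDefEq.respectTransparency false
set_option backward.isDefEq.respectTransparency.types false
open CategoryTheory CategoryTheory.Functor CategoryTheory.Limits Opposite AlgebraicGeometry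

universe u

namespace Groth.Agent.R2.H59.LocQDesc

open Groth.Agent.Lib.Helper17 Groth.Agent.Lib.Helper15PshFib Groth.Agent.Lib.Helper15RepComp
  Groth.Agent.Lib.Helper15RepPsh Groth.Agent.Lib.Helper15DiagBase Groth.Agent.Lib.Helper15DiagRepSp
  Groth.Agent.Lib.Helper15Descent Groth.Agent.Lib.Helper15DiagLft
  Groth.Agent.Lib.Helper15DiagDescent Groth.Agent.Lib.Helper15SpMapRep
  Groth.Agent.Lib.Helper15SrcCancel Groth.Agent.Lib.Helper15ChartSp Groth.Agent.Lib.Helper15Atlas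
  Groth.Agent.Lib.Helper15LocEss Groth.Agent.Lib.Helper15UnivComp Groth.Agent.Lib.Helper15SmLoc
  Groth.Agent.Lib.Helper15PtsComp Groth.Agent.Lib.Helper15PtsTop Groth.Agent.Lib.Helper15PtsQc
  Groth.Agent.Lib.Helper15FpSwap Groth.Agent.Lib.Helper15QcLocal Groth.Agent.Lib.Helper15ClosedQc
  Groth.Agent.Lib.Helper15UnivPts Groth.Agent.Lib.Helper15BaseChange
  Groth.Agent.Lib.Helper15BaseChange2
  Groth.Agent.Lib.Helper15MonoSep Groth.Agent.Lib.Helper15QcRep Groth.Agent.Lib.Helper15LocQ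
  Groth.Agent.Lib.Helper15LocQEngine Groth.Agent.Lib.Helper15LocQComp
  Groth.Agent.Lib.Helper15LocQRep Groth.Agent.Lib.Helper15LocQProps
  Groth.Agent.R2.H59.LocQBC Groth.Agent.R2.H59.FppfCover

section Comp

variable {S : Scheme.{u}} {𝒳 𝒴 𝒵 : AlgSt.Cat S}

/-- Composition of chart-square properties: three properties, with `P` then `Q` giving `R`. -/
theorem locQ_comp₃ (P Q R : MorphismProperty (AlgSp.Sp S)) (hP : AlgSp.IsSmoothLocalST P)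
    (hQ : AlgSp.IsSmoothLocalST Q)
    (hPc : ∀ ⦃X₁ Y₁ Z₁ : AlgSp.Sp S⦄, AlgSp.IsAlgSpace X₁ → AlgSp.IsAlgSpace Y₁ →
      AlgSp.IsAlgSpace Z₁ → ∀ (a : X₁ ⟶ Y₁) (b : Y₁ ⟶ Z₁), P a → Q b → R (a ≫ b))
    (h𝒳 : AlgSt.IsAlgStack Scheme.fppfPrecoverage 𝒳)
    (h𝒴 : AlgSt.IsAlgStack Scheme.fppfPrecoverage 𝒴)
    (h𝒵 : AlgSt.IsAlgStack Scheme.fppfPrecoverage 𝒵)
    (f : 𝒳 ⥤ᵇ 𝒴) (g : 𝒴 ⥤ᵇ 𝒵) (hf : AlgSt.LocQ P f) (hg : AlgSt.LocQ Q g) :
    AlgSt.LocQ R (BasedFunctor.comp f g) := by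
  obtain ⟨W, z, hz₁, hz₂⟩ := h𝒵.atlas
  obtain ⟨V, y, k, β, hβ₁, hβ₂, hy₁, hy₂⟩ := exists_good_square_over h𝒴 h𝒵 g z
  obtain ⟨U, x, h, α, hα₁, hα₂, hx₁, hx₂⟩ := exists_good_square_over h𝒳 h𝒴 f y
  have hPk : Q ((AlgSp.yon S).map k) :=
    (locQ_iff_forall_good Q hQ h𝒴 h𝒵 g).1 hg V W y z k β (hy₁ hz₁) hz₁ hβ₁
  have hPh : P ((AlgSp.yon S).map h) :=
    (locQ_iff_forall_good P hP h𝒳 h𝒴 f).1 hf U V x y h α (hx₁ (hy₁ hz₁)) (hy₁ hz₁) hα₁
  refine ⟨U, W, x, z, h ≫ k, compSquareIso f g x y z h k α β, hx₁ (hy₁ hz₁),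
    hx₂ (hy₂ hz₂), hz₁, ?_⟩
  rw [Functor.map_comp]
  exact hPc (AlgSp.IsAlgSpace.yon_obj U) (AlgSp.IsAlgSpace.yon_obj V) (AlgSp.IsAlgSpace.yon_obj W)
    _ _ hPh hPk

/-- Precomposition with a smooth functor (representable by algebraic spaces) keeps `LocQ P`. -/
theorem locQ_precomp_smooth (P : MorphismProperty (AlgSp.Sp S)) (hP : AlgSp.IsSmoothLocalST P)
    (h𝒳 : AlgSt.IsAlgStack Scheme.fppfPrecoverage 𝒳)
    (h𝒴 : AlgSt.IsAlgStack Scheme.fppfPrecoverage 𝒴)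
    (h𝒵 : AlgSt.IsAlgStack Scheme.fppfPrecoverage 𝒵)
    (s : 𝒳 ⥤ᵇ 𝒴) (g : 𝒴 ⥤ᵇ 𝒵) (hs : AlgSt.RepByAlgSpWith (AlgSp.LocP @Smooth) s)
    (hg : AlgSt.LocQ P g) : AlgSt.LocQ P (BasedFunctor.comp s g) :=
  locQ_comp₃ (AlgSp.LocP @Smooth) P P isSmoothLocalST_smooth hP
    (fun _ _ _ hX hY hZ a b ha hb => hP.precomp hX hY hZ a b ha hb) h𝒳 h𝒴 h𝒵 s g
    (locQ_of_repByAlgSpWith _ isSmoothLocalST_smooth h𝒳 h𝒴 s hs) hg

/-- `LocQ P` descends along a smooth surjective functor on the source. -/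
theorem locQ_of_precomp_smooth_surj (P : MorphismProperty (AlgSp.Sp S))
    (h𝒳 : AlgSt.IsAlgStack Scheme.fppfPrecoverage 𝒳)
    (s : 𝒳 ⥤ᵇ 𝒴) (g : 𝒴 ⥤ᵇ 𝒵) (hs₁ : AlgSt.RepByAlgSpWith (AlgSp.LocP @Smooth) s)
    (hs₂ : AlgSt.RepByAlgSpWith AlgSp.IsSurjectiveMor s)
    (h : AlgSt.LocQ P (BasedFunctor.comp s g)) : AlgSt.LocQ P g := by
  obtain ⟨U, V, x, y, k, α, hx₁, hx₂, hy₁, hPk⟩ := h
  have hU : FibCat.IsFibGrpd (FibCat.overCat U).p := (isFibSet_overForget U).1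
  exact ⟨U, V, BasedFunctor.comp x s, y, k, α,
    repByAlgSpWith_comp_of_compCond hU h𝒳.isStack.1 _ compCond_smooth x s hx₁ hs₁,
    repByAlgSpWith_comp_of_compCond hU h𝒳.isStack.1 _ compCond_isSurjectiveMor x s hx₂ hs₂,
    hy₁, hPk⟩

end Comp

section BC

variable {S : Scheme.{u}}

/-- Base change of `LocQ P` along a smooth functor, for `P` smooth local on source-and-target. -/
theorem locQ_fpFst_of_smooth {𝒳 𝒴 𝒴' : AlgSt.Cat S} (P : MorphismProperty (AlgSp.Sp S))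
    (hP : AlgSp.IsSmoothLocalST P)
    (h𝒳 : AlgSt.IsAlgStack Scheme.fppfPrecoverage 𝒳)
    (h𝒴 : AlgSt.IsAlgStack Scheme.fppfPrecoverage 𝒴)
    (h𝒴' : AlgSt.IsAlgStack Scheme.fppfPrecoverage 𝒴')
    (f : 𝒳 ⥤ᵇ 𝒴) (g : 𝒴' ⥤ᵇ 𝒴) (hg : AlgSt.RepByAlgSpWith (AlgSp.LocP @Smooth) g)
    (hf : AlgSt.LocQ P f) : AlgSt.LocQ P (FibCat.fpFst g f) := by
  obtain ⟨U₁, V₁, x₁, y₁, h₁, α₁, hx₁, hx₁s, hy₁, hP₁⟩ := hf
  obtain ⟨V', y', hy'₁, hy'₂⟩ := h𝒴'.atlas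
  obtain ⟨U, x, h, α, hℓ₁, hℓ₂, -, -⟩ :=
    exists_good_square_over h𝒳 h𝒴 f (BasedFunctor.comp y' g)
  have hU : FibCat.IsFibGrpd (FibCat.overCat U).p := (isFibSet_overForget U).1
  have hV' : FibCat.IsFibGrpd (FibCat.overCat V').p := (isFibSet_overForget V').1
  have hy'g : AlgSt.RepByAlgSpWith (AlgSp.LocP @Smooth) (BasedFunctor.comp y' g) :=
    repByAlgSpWith_comp_of_compCond hV' h𝒴'.isStack.1 _ compCond_smooth y' g hy'₁ hg
  have hPh : P ((AlgSp.yon S).map h) :=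
    prop_of_good_square P hP h𝒳 h𝒴 f x₁ y₁ h₁ α₁ hx₁ hx₁s hy₁ hP₁ x
      (BasedFunctor.comp y' g) h α hy'g hℓ₁
  have hfp : FibCat.IsFibGrpd (FibCat.fp f (BasedFunctor.comp y' g)).p :=
    isFibGrpd_fp f _ h𝒳.isStack.1 hV' h𝒴.isStack.1
  have hD : ∀ Q : MorphismProperty (AlgSp.Sp S), AlgSt.RepByAlgSpWith Q y' →
      AlgSt.RepByAlgSpWith Q (BasedFunctor.comp (fpSwap f (BasedFunctor.comp y' g))
        (fpBaseMap f g y')) := fun Q hy' =>
    (repByAlgSpWith_of_square Q (fpBaseMap f g y')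
      (BasedFunctor.comp (fpSwap f (BasedFunctor.comp y' g)) (fpBaseMap f g y'))
      (fpSwap f (BasedFunctor.comp y' g)) (BasedFunctor.id _)
      (isEquivOver_fpSwap f (BasedFunctor.comp y' g)) (isEquivOver_id _) (Iso.refl _)).1
      (repByAlgSpWith_fpBaseMap Q f g y' hy')
  refine ⟨U, V', BasedFunctor.comp (FibCat.fpLift x (AlgSt.overMap h) α)
    (BasedFunctor.comp (fpSwap f (BasedFunctor.comp y' g)) (fpBaseMap f g y')), y', h, Iso.refl _,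
    repByAlgSpWith_comp_of_compCond hU hfp _ compCond_smooth _ _ hℓ₁ (hD _ hy'₁),
    repByAlgSpWith_comp_of_compCond hU hfp _ compCond_isSurjectiveMor _ _ hℓ₂ (hD _ hy'₂),
    hy'₁, hPh⟩

end BC

section Square

variable {S : Scheme.{u}} {𝒴 : AlgSt.Cat S}

/-- The scheme-level square attached to a smooth chart `y` and a flat, locally finitely presented
representable chart `w`: the first projection is flat, locally finitely presented (and surjective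
when `w` is), the second is smooth. -/
theorem exists_scheme_square' {V W : Over S}
    (y : FibCat.overCat V ⥤ᵇ 𝒴) (w : FibCat.overCat W ⥤ᵇ 𝒴)
    (hy₁ : AlgSt.RepByAlgSpWith (AlgSp.LocP @Smooth) y)
    (hw₁ : AlgSt.RepByAlgSpWith (AlgSp.LocP @Flat) w)
    (hw₂ : AlgSt.RepByAlgSpWith (AlgSp.LocP @LocallyOfFinitePresentation) w)
    (hw₃ : AlgSt.RepByAlgSpWith AlgSp.IsSurjectiveMor w) :
    ∃ (B : Over S) (b : B ⟶ V) (c : B ⟶ W), Flat b.left ∧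
      LocallyOfFinitePresentation b.left ∧ Function.Surjective b.left ∧
      AlgSp.LocP @Smooth ((AlgSp.yon S).map c) ∧
      Nonempty (BasedFunctor.comp (AlgSt.overMap b) y ≅ BasedFunctor.comp (AlgSt.overMap c) w) := by
  obtain ⟨F, e, he, -⟩ := hw₁ V y
  have hp₁ : AlgSp.LocP @Flat
      (AlgSt.spMapOfOver (BasedFunctor.comp e (FibCat.fpFst y w))) :=
    prop_spMapOfOver_of_repByAlgSpWith _ bcStable_flat (FibCat.fpFst y w)
      (repByAlgSpWith_fpFst _ w y hw₁) F e he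
  have hp₂ : AlgSp.LocP @LocallyOfFinitePresentation
      (AlgSt.spMapOfOver (BasedFunctor.comp e (FibCat.fpFst y w))) :=
    prop_spMapOfOver_of_repByAlgSpWith _ bcStable_lfp (FibCat.fpFst y w)
      (repByAlgSpWith_fpFst _ w y hw₂) F e he
  have hp₃ : AlgSp.LocP @Smooth
      (AlgSt.spMapOfOver (BasedFunctor.comp e (FibCat.fpSnd y w))) :=
    prop_spMapOfOver_of_repByAlgSpWith _ bcStable_smooth (FibCat.fpSnd y w)
      (repByAlgSpWith_fpSnd _ y w hy₁) F e he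
  obtain ⟨B, s, hse, hss⟩ := F.property.atlas
  obtain ⟨b, c, hb, hc, hi⟩ := exists_chart_square y w F e s
  have hs_surj := isSurjectiveMor_atlas F s hse hss
  let BB : AlgSp.Space S := ⟨(AlgSp.yon S).obj B, AlgSp.IsAlgSpace.yon_obj B⟩
  refine ⟨B, b, c, ?_, ?_, ?_, ?_, hi⟩
  · exact hp₁ s (𝟙 _) b hse (AlgSp.repWith_id _ V) (by rw [Category.comp_id, hb])
  · exact hp₂ s (𝟙 _) b hse (AlgSp.repWith_id _ V) (by rw [Category.comp_id, hb])
  · have hp₁s : AlgSp.IsSurjectiveMor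
        (AlgSt.spMapOfOver (BasedFunctor.comp e (FibCat.fpFst y w))) :=
      prop_spMapOfOver_of_repByAlgSpWith _ bcStable_isSurjectiveMor (FibCat.fpFst y w)
        (repByAlgSpWith_fpFst _ w y hw₃) F e he
    apply surjective_of_isSurjectiveMor_yon_map b
    rw [hb]
    intro p
    obtain ⟨q, hq⟩ := hp₁s p
    obtain ⟨r, hr⟩ := hs_surj q
    exact ⟨r, by rw [AlgSp.Points.map_comp, hr, hq]⟩
  · rw [hc]
    exact isSmoothLocalST_smooth.precomp BB.property F.property (AlgSp.IsAlgSpace.yon_obj W) s _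
      (Groth.Agent.Lib.Helper15LocQSpace.locP_smooth_of_repWith_etale (X := BB) (Y := F) s hse) hp₃

end Square

section Desc

open Groth.Agent.Lib.Helper17.RepStack Groth.Agent.R2.H59.SelfOver

variable {S : Scheme.{u}} {𝒳 𝒴 𝒵 : AlgSt.Cat S}

/-- fppf descent of `LocQ P` along a representable cover by a scheme, for a functor from a
scheme. -/
theorem locQ_of_fpFst_cover_rep (P : MorphismProperty (AlgSp.Sp S)) (hP : AlgSp.IsSmoothLocalST P)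
    (hP₂ : AlgSp.IsLocalOnBase AlgSp.IsFppfCover P)
    (h𝒴 : AlgSt.IsAlgStack Scheme.fppfPrecoverage 𝒴) {U W : Over S}
    (f : FibCat.overCat U ⥤ᵇ 𝒴) (w : FibCat.overCat W ⥤ᵇ 𝒴)
    (hw₁ : AlgSt.RepByAlgSpWith (AlgSp.LocP @Flat) w)
    (hw₂ : AlgSt.RepByAlgSpWith (AlgSp.LocP @LocallyOfFinitePresentation) w)
    (hw₃ : AlgSt.RepByAlgSpWith AlgSp.IsSurjectiveMor w)
    (h : AlgSt.LocQ P (FibCat.fpFst w f)) : AlgSt.LocQ P f := by
  have hU := isAlgStack_overCat (S := S) U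
  have hW := isAlgStack_overCat (S := S) W
  have hpre𝒴 := IsStack.isPrestack _ h𝒴.isStack
  have hfp : AlgSt.IsAlgStack Scheme.fppfPrecoverage (FibCat.fp w f) :=
    isAlgStack_fp_of_isPrestack hpre𝒴 h𝒴.diag hW hU w f
  have hrepf : AlgSt.RepByAlgSp1 f := repByAlgSp1_of_repByAlgSp1_diag h𝒴.diag U f
  obtain ⟨V, y, hy₁, hy₂⟩ := h𝒴.atlas
  obtain ⟨B, b, c, hb₁, hb₂, hb₃, hc, ⟨κ⟩⟩ := exists_scheme_square' y w hy₁ hw₁ hw₂ hw₃
  have hc' : AlgSt.RepByAlgSpWith (AlgSp.LocP @Smooth) (AlgSt.overMap c) :=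
    repByAlgSpWith_overMap _ bcStable_smooth c hc
  -- the space `G = B ×_W (W ×_𝒴 U)`
  obtain ⟨G, e, he⟩ := repByAlgSp1_fpFst f w hrepf B (AlgSt.overMap c)
  have hPG : P (AlgSt.spMapOfOver (BasedFunctor.comp e
      (FibCat.fpFst (AlgSt.overMap c) (FibCat.fpFst w f)))) :=
    prop_atlas_of_locQ P hP hfp hW (FibCat.fpFst w f) h (AlgSt.overMap c) hc' G e he
  let y' : FibCat.overCat B ⥤ᵇ 𝒴 := BasedFunctor.comp (AlgSt.overMap c) w
  let e₀ : AlgSt.ofSp G.obj ⥤ᵇ FibCat.fp y' f :=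
    BasedFunctor.comp e (pasteL f w (AlgSt.overMap c))
  have he₀ : FibCat.IsEquivOver e₀ :=
    IsEquivOver.comp _ _ he (isEquivOver_pasteL f w (AlgSt.overMap c))
  have hPG' : P (AlgSt.spMapOfOver (BasedFunctor.comp e₀ (FibCat.fpFst y' f))) := hPG
  -- the space `D = V ×_𝒴 U`
  obtain ⟨D, e_D, he_D⟩ := hrepf V y
  have hPD : P (AlgSt.spMapOfOver (BasedFunctor.comp e_D (FibCat.fpFst y f))) :=
    prop_of_baseChange P hP₂ f y D e_D he_D b
      (isFppfCover_of_schemes (fun _ : PUnit.{u + 1} => B) (fun _ => b) (fun _ => hb₁)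
        (fun _ => hb₂) (fun x => ⟨PUnit.unit, hb₃ x⟩))
      y' κ.symm G e₀ he₀ hPG'
  -- a chart square for `f`
  obtain ⟨U', s, hse, hss⟩ := D.property.atlas
  obtain ⟨k, hk⟩ := (AlgSp.yon S).map_surjective
    (s ≫ AlgSt.spMapOfOver (BasedFunctor.comp e_D (FibCat.fpFst y f)))
  obtain ⟨x, α, hx₁, hx₂⟩ := exists_chart_of_rep hU.isStack.1 h𝒴.isStack.1 f y hy₁ hy₂ D e_D he_D
    s hse hss k hk
  let UU : AlgSp.Space S := ⟨(AlgSp.yon S).obj U', AlgSp.IsAlgSpace.yon_obj U'⟩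
  refine ⟨U', V, x, y, k, α, hx₁, hx₂, hy₁, ?_⟩
  rw [hk]
  exact hP.precomp UU.property D.property (AlgSp.IsAlgSpace.yon_obj V) s _
    (Groth.Agent.Lib.Helper15LocQSpace.locP_smooth_of_repWith_etale (X := UU) (Y := D) s hse) hPD

/-- fppf descent of `LocQ P` along a representable cover by a scheme. -/
theorem locQ_of_fpFst_cover (P : MorphismProperty (AlgSp.Sp S)) (hP : AlgSp.IsSmoothLocalST P)
    (hP₂ : AlgSp.IsLocalOnBase AlgSp.IsFppfCover P)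
    (h𝒳 : AlgSt.IsAlgStack Scheme.fppfPrecoverage 𝒳)
    (h𝒴 : AlgSt.IsAlgStack Scheme.fppfPrecoverage 𝒴) {W : Over S}
    (f : 𝒳 ⥤ᵇ 𝒴) (w : FibCat.overCat W ⥤ᵇ 𝒴)
    (hw₁ : AlgSt.RepByAlgSpWith (AlgSp.LocP @Flat) w)
    (hw₂ : AlgSt.RepByAlgSpWith (AlgSp.LocP @LocallyOfFinitePresentation) w)
    (hw₃ : AlgSt.RepByAlgSpWith AlgSp.IsSurjectiveMor w)
    (h : AlgSt.LocQ P (FibCat.fpFst w f)) : AlgSt.LocQ P f := by
  obtain ⟨U, x, hx₁, hx₂⟩ := h𝒳.atlas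
  have hU := isAlgStack_overCat (S := S) U
  have hW := isAlgStack_overCat (S := S) W
  have hpre𝒴 := IsStack.isPrestack _ h𝒴.isStack
  let fU : FibCat.overCat U ⥤ᵇ 𝒴 := BasedFunctor.comp x f
  have hfp : AlgSt.IsAlgStack Scheme.fppfPrecoverage (FibCat.fp w f) :=
    isAlgStack_fp_of_isPrestack hpre𝒴 h𝒴.diag hW h𝒳 w f
  have hfpU : AlgSt.IsAlgStack Scheme.fppfPrecoverage (FibCat.fp w fU) :=
    isAlgStack_fp_of_isPrestack hpre𝒴 h𝒴.diag hW hU w fU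
  refine locQ_of_precomp_smooth_surj P hU x f hx₁ hx₂ ?_
  refine locQ_of_fpFst_cover_rep P hP hP₂ h𝒴 fU w hw₁ hw₂ hw₃ ?_
  -- the base change of `x` to `W`
  let r : FibCat.fp w fU ⥤ᵇ FibCat.fp w f :=
    BasedFunctor.comp (fpSwap w fU) (BasedFunctor.comp (fpMapLeft x f w) (fpSwap f w))
  have hr₀ : AlgSt.RepByAlgSpWith (AlgSp.LocP @Smooth)
      (BasedFunctor.comp (fpSwap w fU) (fpMapLeft x f w)) :=
    (repByAlgSpWith_of_square _ (fpMapLeft x f w)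
      (BasedFunctor.comp (fpSwap w fU) (fpMapLeft x f w)) (fpSwap w fU) (BasedFunctor.id _)
      (isEquivOver_fpSwap w fU) (isEquivOver_id _) (Iso.refl _)).1
      (repByAlgSpWith_fpMapLeft _ x f w hx₁)
  have hr : AlgSt.RepByAlgSpWith (AlgSp.LocP @Smooth) r :=
    (repByAlgSpWith_of_square _ r (BasedFunctor.comp (fpSwap w fU) (fpMapLeft x f w))
      (BasedFunctor.id _) (fpSwap f w) (isEquivOver_id _) (isEquivOver_fpSwap f w)
      (Iso.refl _)).2 hr₀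
  have h1 : AlgSt.LocQ P (BasedFunctor.comp r (FibCat.fpFst w f)) :=
    locQ_precomp_smooth P hP hfpU hfp hW r (FibCat.fpFst w f) hr h
  exact locQ_of_iso P (Iso.refl _) h1

/-- fppf descent of `LocQ P` along a flat, locally finitely presented, surjective functor of
algebraic stacks, for `P` smooth local on source-and-target and fppf local on the base. -/
theorem locQ_of_locQ_fpFst_of_fppf (P : MorphismProperty (AlgSp.Sp S))
    (hP : AlgSp.IsSmoothLocalST P) (hP₂ : AlgSp.IsLocalOnBase AlgSp.IsFppfCover P)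
    (h𝒳 : AlgSt.IsAlgStack Scheme.fppfPrecoverage 𝒳)
    (h𝒴 : AlgSt.IsAlgStack Scheme.fppfPrecoverage 𝒴)
    (h𝒵 : AlgSt.IsAlgStack Scheme.fppfPrecoverage 𝒵) (f : 𝒳 ⥤ᵇ 𝒴) (z : 𝒵 ⥤ᵇ 𝒴)
    (hz₁ : AlgSt.LocQ (AlgSp.LocP @Flat) z)
    (hz₂ : AlgSt.LocQ (AlgSp.LocP @LocallyOfFinitePresentation) z)
    (hz₃ : AlgSt.IsSurjective z) (h : AlgSt.LocQ P (FibCat.fpFst z f)) : AlgSt.LocQ P f := by
  obtain ⟨W, v, hv₁, -, hw₁, hw₂, hw₃⟩ := exists_scheme_cover_of_locQ h𝒴 h𝒵 z hz₁ hz₂ hz₃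
  have hW := isAlgStack_overCat (S := S) W
  have hpre𝒴 := IsStack.isPrestack _ h𝒴.isStack
  have hfp : AlgSt.IsAlgStack Scheme.fppfPrecoverage (FibCat.fp z f) :=
    isAlgStack_fp_of_isPrestack hpre𝒴 h𝒴.diag h𝒵 h𝒳 z f
  have h1 : AlgSt.LocQ P (FibCat.fpFst v (FibCat.fpFst z f)) :=
    locQ_fpFst_of_smooth P hP hfp h𝒵 hW (FibCat.fpFst z f) v hv₁ h
  have h2 : AlgSt.LocQ P (FibCat.fpFst (BasedFunctor.comp v z) f) :=
    locQ_of_square_equiv P (FibCat.fpFst (BasedFunctor.comp v z) f)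
      (FibCat.fpFst v (FibCat.fpFst z f)) (pasteL f z v) (BasedFunctor.id _)
      (isEquivOver_pasteL f z v) (isEquivOver_id _) (Iso.refl _) h1
  exact locQ_of_fpFst_cover P hP hP₂ h𝒳 h𝒴 f (BasedFunctor.comp v z) hw₁ hw₂ hw₃ h2

end Desc

end Groth.Agent.R2.H59.LocQDesc
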