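import Mathlib
import Groth.Prelude.Def_AlgSt3
import Groth.Agent.Lib.Helper17FibYoneda
import Groth.Agent.Lib.Helper17FibEquiv
import Groth.Agent.Lib.Helper15DiagRepSp
import Groth.Agent.Lib.Helper15EquivRep
import Groth.Agent.Lib.Helper15LocQEngine
import Groth.Agent.Lib.Helper15Atlas

/-!
# Open substacks from open predicates (helper59)

A predicate `Q` on the objects of a category fibred in groupoids `𝒳` over `(Sch/S)` is *open* if
for every object `x` over `T` there is an open immersion `j : W ⟶ T` such that a pullback of `x`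
along `g : T' ⟶ T` satisfies `Q` exactly when `g` factors through `j`.  The full subcategory on an
open predicate is an open substack.
-/

set_option autoImplicit false
set_option backward.isDefEq.respectTransparency false
set_option backward.isDefEq.respectTransparency.types false
set_option linter.style.haveILetI false
set_option linter.unusedSectionVars false

universe u

open CategoryTheory CategoryTheory.Functor CategoryTheory.Limits AlgebraicGeometry Opposite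

namespace Groth.Agent.R2.H59.OpenSub

open Groth.Agent.Lib.Helper17 Groth.Agent.Lib.Helper15DiagRepSp Groth.Agent.Lib.Helper15EquivRep

variable {S : Scheme.{u}} {𝒳 : AlgSt.Cat S}

/-- `Q` is an open predicate on the objects of `𝒳`. -/
def IsOpenPred (𝒳 : AlgSt.Cat S) (Q : 𝒳.obj → Prop) : Prop :=
  ∀ (T : Over S) (x : 𝒳.obj), 𝒳.p.obj x = T → ∃ (W : Over S) (j : W ⟶ T),
    IsOpenImmersion j.left ∧
    ∀ (x' : 𝒳.obj) (a : x' ⟶ x) (T' : Over S) (g : T' ⟶ T), 𝒳.p.IsHomLift g a →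
      (Q x' ↔ ∃ g' : T' ⟶ W, g' ≫ j = g)

theorem IsOpenPred.pullStable {Q : 𝒳.obj → Prop} (hQ : IsOpenPred 𝒳 Q) {x' x : 𝒳.obj}
    (a : x' ⟶ x) (hx : Q x) : Q x' := by
  obtain ⟨W, j, -, hW⟩ := hQ (𝒳.p.obj x) x rfl
  obtain ⟨s, hs⟩ := (hW x (𝟙 x) (𝒳.p.obj x) (𝟙 _) inferInstance).1 hx
  exact (hW x' a (𝒳.p.obj x') (𝒳.p.map a) inferInstance).2 ⟨𝒳.p.map a ≫ s, by
    rw [Category.assoc, hs, Category.comp_id]⟩

theorem IsOpenPred.isClosedUnderIsomorphisms {Q : 𝒳.obj → Prop} (hQ : IsOpenPred 𝒳 Q) :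
    ObjectProperty.IsClosedUnderIsomorphisms Q :=
  ⟨fun e hx => hQ.pullStable e.inv hx⟩

/-- A functor over the base all of whose values satisfy `Q` factors through the full
subcategory. -/
def liftSub {𝒲 : AlgSt.Cat S} (Q : 𝒳.obj → Prop) (F : 𝒲 ⥤ᵇ 𝒳) (h : ∀ w, Q (F.obj w)) :
    𝒲 ⥤ᵇ AlgSt.fullSub 𝒳 Q where
  toFunctor := ObjectProperty.lift Q F.toFunctor h
  w := F.w

/-- The full subcategory on a pullback-stable predicate of a category fibred in groupoids is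
fibred in groupoids. -/
theorem isFibGrpd_fullSub (h𝒳 : FibCat.IsFibGrpd 𝒳.p) (Q : 𝒳.obj → Prop)
    (hQ : ∀ {x' x : 𝒳.obj} (_ : x' ⟶ x), Q x → Q x') :
    FibCat.IsFibGrpd (AlgSt.fullSub 𝒳 Q).p := by
  refine ⟨?_, ?_⟩
  · intro x V f
    obtain ⟨y, φ, hφ⟩ := h𝒳.exists_lift (x := x.obj) f
    exact ⟨⟨y, hQ φ x.property⟩, ObjectProperty.homMk φ,
      (isHomLift_comp_iff (ObjectProperty.ι Q) 𝒳.p f _).2 hφ⟩
  · intro y x φ
    have hc := h𝒳.isStronglyCartesian φ.hom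
    have hl : (ObjectProperty.ι Q ⋙ 𝒳.p).IsHomLift ((ObjectProperty.ι Q ⋙ 𝒳.p).map φ) φ :=
      inferInstance
    refine { toIsHomLift := hl, universal_property' := ?_ }
    intro a' g φ' hφ'
    have hφ'' : 𝒳.p.IsHomLift (g ≫ 𝒳.p.map φ.hom) φ'.hom :=
      (isHomLift_comp_iff (ObjectProperty.ι Q) 𝒳.p _ φ').1 hφ'
    obtain ⟨χ, ⟨hχ₁, hχ₂⟩, hχu⟩ := hc.universal_property' g φ'.hom
    refine ⟨ObjectProperty.homMk χ, ⟨(isHomLift_comp_iff (ObjectProperty.ι Q) 𝒳.p g _).2 hχ₁,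
      ObjectProperty.hom_ext _ hχ₂⟩, ?_⟩
    rintro χ' ⟨hχ'₁, hχ'₂⟩
    apply ObjectProperty.hom_ext
    exact hχu χ'.hom ⟨(isHomLift_comp_iff (ObjectProperty.ι Q) 𝒳.p g χ').1 hχ'₁,
      congrArg (fun m => m.hom) hχ'₂⟩

section A

variable (Q : 𝒳.obj → Prop) {T W : Over S} (y : FibCat.overCat T ⥤ᵇ 𝒳) (j : W ⟶ T)
  (hmem : ∀ c : (FibCat.overCat W).obj, Q ((BasedFunctor.comp (AlgSt.overMap j) y).obj c))

/-- The comparison functor from `(Sch/W)` to the base change of the full subcategory. -/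
def cmpE : FibCat.overCat W ⥤ᵇ FibCat.fp y (AlgSt.subIncl 𝒳 Q) :=
  FibCat.fpLift (AlgSt.overMap j) (liftSub Q (BasedFunctor.comp (AlgSt.overMap j) y) hmem)
    (Iso.refl _)

theorem cmpE_fst : BasedFunctor.comp (cmpE Q y j hmem) (FibCat.fpFst y (AlgSt.subIncl 𝒳 Q)) =
    AlgSt.overMap j := rfl

theorem cmpE_faithful : (cmpE Q y j hmem).toFunctor.Faithful := by
  refine ⟨fun {c c'} φ₁ φ₂ h => ?_⟩
  have h1 : (Over.map j).map φ₁ = (Over.map j).map φ₂ :=
    congrArg (fun m => m.hom.fst) h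
  have h2 : φ₁.left = φ₂.left := congrArg (fun m => m.left) h1
  exact Over.OverMorphism.ext h2

theorem cmpE_full [Mono j] : (cmpE Q y j hmem).toFunctor.Full := by
  refine ⟨fun {c c'} m => ?_⟩
  have hw : m.hom.fst.left ≫ (c'.hom ≫ j) = c.hom ≫ j := Over.w m.hom.fst
  have hw' : m.hom.fst.left ≫ c'.hom = c.hom := by
    rw [← cancel_mono j, Category.assoc, hw]
  refine ⟨Over.homMk m.hom.fst.left hw', ?_⟩
  apply ObjectProperty.hom_ext
  have hfst : (Over.map j).map (Over.homMk m.hom.fst.left hw' : c ⟶ c') = m.hom.fst :=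
    Over.OverMorphism.ext rfl
  apply CategoricalPullback.hom_ext
  · exact hfst
  · have h3 := m.hom.w
    apply ObjectProperty.hom_ext
    change y.map ((Over.map j).map (Over.homMk m.hom.fst.left hw' : c ⟶ c')) = m.hom.snd.hom
    rw [hfst]
    have h4 : y.map m.hom.fst ≫ 𝟙 _ = 𝟙 _ ≫ m.hom.snd.hom := h3
    rw [Category.comp_id, Category.id_comp] at h4
    exact h4

theorem cmpE_essSurjOver
    (hpull : ∀ {x' x : 𝒳.obj} (_ : x' ⟶ x), Q x → Q x')
    (hW : ∀ d : Over T, Q (y.obj d) → ∃ g' : d.left ⟶ W, g' ≫ j = d.hom) :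
    EssSurjOver (cmpE Q y j hmem) := by
  intro η
  have hQd : Q (y.obj η.obj.fst) := hpull η.obj.iso.hom η.obj.snd.property
  obtain ⟨g', hg'⟩ := hW η.obj.fst hQd
  let ξ : Over W := Over.mk g'
  let eₗ : (Over.map j).obj ξ ≅ η.obj.fst :=
    Over.isoMk (Iso.refl _) (by simp [ξ, hg'])
  let eᵣ : (liftSub Q (BasedFunctor.comp (AlgSt.overMap j) y) hmem).obj ξ ≅ η.obj.snd :=
    ObjectProperty.isoMk _ (y.toFunctor.mapIso eₗ ≪≫ η.obj.iso)
  let e₀ : ((cmpE Q y j hmem).obj ξ).obj ≅ η.obj :=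
    CategoricalPullback.mkIso eₗ eᵣ (by
      change y.map eₗ.hom ≫ η.obj.iso.hom = 𝟙 _ ≫ (y.map eₗ.hom ≫ η.obj.iso.hom)
      rw [Category.id_comp])
  refine ⟨ξ, ObjectProperty.isoMk _ e₀, ?_⟩
  apply IsHomLift.of_fac' _ _ _ rfl rfl
  change eₗ.hom.left = _
  simp only [eₗ, Over.isoMk_hom_left, Iso.refl_hom, eqToHom_refl, Category.comp_id]
  rfl

end A

section Main

/-- The full subcategory on an open predicate is included by an open immersion. -/
theorem isOpenImm_subIncl (Q : 𝒳.obj → Prop) (hQ : IsOpenPred 𝒳 Q) :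
    AlgSt.IsOpenImm (AlgSt.subIncl 𝒳 Q) := by
  intro T y
  obtain ⟨W, j, hj, hW⟩ := hQ T (y.obj (Over.mk (𝟙 T))) (y.w_obj _)
  have hjmono : Mono j := by
    have : Mono j.left := inferInstance
    exact (Over.forget S).mono_of_mono_map this
  have key : ∀ d : Over T, Q (y.obj d) ↔ ∃ g' : d.left ⟶ W, g' ≫ j = d.hom := fun d =>
    hW (y.obj d) (y.map (overTerm T d)) d.left d.hom (by
      have h0 : (FibCat.overCat T).p.IsHomLift d.hom (overTerm T d) := overTerm_isHomLift T d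
      infer_instance)
  have hmem : ∀ c : (FibCat.overCat W).obj,
      Q ((BasedFunctor.comp (AlgSt.overMap j) y).obj c) := fun c =>
    (key ((AlgSt.overMap j).obj c)).2 ⟨c.hom, rfl⟩
  have hfull := cmpE_full Q y j hmem
  have hfaith := cmpE_faithful Q y j hmem
  have hE : FibCat.IsEquivOver (cmpE Q y j hmem) :=
    isEquivOver_of_fullyFaithful_of_essSurjOver _
      (cmpE_essSurjOver Q y j hmem (fun a hx => hQ.pullStable a hx) (fun d hd => (key d).1 hd))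
  refine ⟨⟨(AlgSp.yon S).obj W, AlgSp.IsAlgSpace.yon_obj W⟩,
    BasedFunctor.comp (AlgSt.toOverCat W) (cmpE Q y j hmem),
    IsEquivOver.comp _ _ (isEquivOver_toOverCat W) hE, ?_⟩
  have h2 : AlgSt.spMapOfOver (BasedFunctor.comp (BasedFunctor.comp (AlgSt.toOverCat W)
      (cmpE Q y j hmem)) (FibCat.fpFst y (AlgSt.subIncl 𝒳 Q))) = (AlgSp.yon S).map j := by
    change AlgSt.spMapOfOver (BasedFunctor.comp (AlgSt.toOverCat W) (AlgSt.overMap j)) = _
    rw [Groth.Agent.Lib.Helper15LocQEngine.spMapOfOver_comp_overMap, spMapOfOver_toOverCat,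
      Category.id_comp]
  rw [h2]
  exact (AlgSp.repWith_yon_map_iff @IsOpenImmersion j).2 hj

/-- The full subcategory of an algebraic stack on an open predicate is an open substack. -/
theorem isOpenSubstack_of_isOpenPred (h𝒳 : AlgSt.IsAlgStack Scheme.fppfPrecoverage 𝒳)
    (Q : 𝒳.obj → Prop) (hQ : IsOpenPred 𝒳 Q) :
    AlgSt.IsOpenSubstack 𝒳 Q Scheme.fppfPrecoverage := by
  have hi := isOpenImm_subIncl Q hQ
  refine ⟨hQ.isClosedUnderIsomorphisms, ?_, hi⟩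
  exact Groth.Agent.Lib.Helper15Atlas.isAlgStack_of_repByAlgSp1
    (isFibGrpd_fullSub h𝒳.isStack.1 Q (fun a hx => hQ.pullStable a hx)) h𝒳 _
    (fun U y => by obtain ⟨F, e, he, -⟩ := hi U y; exact ⟨F, e, he⟩)

end Main

section B

variable (Q : 𝒳.obj → Prop)

theorem pullStable_of_isFibGrpd_fullSub (h𝒳 : FibCat.IsFibGrpd 𝒳.p)
    (hiso : ObjectProperty.IsClosedUnderIsomorphisms Q)
    (hsub : FibCat.IsFibGrpd (AlgSt.fullSub 𝒳 Q).p)
    {x' x : 𝒳.obj} (a : x' ⟶ x) (hx : Q x) : Q x' := by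
  obtain ⟨x'', φ, hφ⟩ :=
    hsub.exists_lift (x := (⟨x, hx⟩ : (AlgSt.fullSub 𝒳 Q).obj)) (𝒳.p.map a)
  have hφ' : 𝒳.p.IsHomLift (𝒳.p.map a) φ.hom :=
    (isHomLift_comp_iff (ObjectProperty.ι Q) 𝒳.p _ φ).1 hφ
  obtain ⟨e, -, -⟩ := IsFibGrpd.exists_iso_of_lifts h𝒳 (𝒳.p.map a) φ.hom a
  exact hiso.of_iso e x''.property

theorem isOpenPred_aux (h𝒳 : FibCat.IsFibGrpd 𝒳.p)
    (hpull : ∀ {x' x : 𝒳.obj} (_ : x' ⟶ x), Q x → Q x') {T : Over S} (x : 𝒳.obj)
    (y : FibCat.overCat T ⥤ᵇ 𝒳) (e₀ : y.obj (Over.mk (𝟙 T)) ≅ x)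
    (he₀ : 𝒳.p.IsHomLift (𝟙 T) e₀.hom) (F : AlgSp.Space S)
    (e : AlgSt.ofSp F.obj ⥤ᵇ FibCat.fp y (AlgSt.subIncl 𝒳 Q)) (he : FibCat.IsEquivOver e)
    (W : Over S) (j : W ⟶ T) (fst : (AlgSp.yon S).obj W ⟶ F.obj) [IsIso fst]
    (hcomm : fst ≫ AlgSt.spMapOfOver (BasedFunctor.comp e
      (FibCat.fpFst y (AlgSt.subIncl 𝒳 Q))) = (AlgSp.yon S).map j)
    (x' : 𝒳.obj) (a : x' ⟶ x) (T' : Over S) (g : T' ⟶ T) (hg : 𝒳.p.IsHomLift g a) :
    Q x' ↔ ∃ g' : T' ⟶ W, g' ≫ j = g := by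
  -- the section of `h_T` attached to a section of `F`
  have hsec : ∀ (c : (AlgSt.ofSp F.obj).obj),
      ((inv fst).hom.app (op c.base) c.sec).down ≫ j =
        AlgSt.secHom (BasedFunctor.comp e (FibCat.fpFst y (AlgSt.subIncl 𝒳 Q))) c := by
    intro c
    have h1 : inv fst ≫ (AlgSp.yon S).map j = AlgSt.spMapOfOver (BasedFunctor.comp e
        (FibCat.fpFst y (AlgSt.subIncl 𝒳 Q))) := by
      rw [← hcomm, IsIso.inv_hom_id_assoc]
    have h2 := congrArg (fun t => (t.hom.app (op c.base) c.sec).down) h1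
    exact h2
  constructor
  · intro hQ'
    have hb : 𝒳.p.IsHomLift g (y.map (overTerm T (Over.mk g)) ≫ e₀.hom) := by
      have h0 : (FibCat.overCat T).p.IsHomLift g (overTerm T (Over.mk g)) :=
        overTerm_isHomLift T (Over.mk g)
      have h1 : 𝒳.p.IsHomLift g (y.map (overTerm T (Over.mk g))) := inferInstance
      infer_instance
    obtain ⟨θ, hθ, hθa⟩ := IsFibGrpd.exists_iso_of_lifts h𝒳 g
      (y.map (overTerm T (Over.mk g)) ≫ e₀.hom) a
    let η : (FibCat.fp y (AlgSt.subIncl 𝒳 Q)).obj :=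
      ⟨{ fst := Over.mk g, snd := ⟨x', hQ'⟩, iso := θ }, hθ⟩
    obtain ⟨ξ, ε, hε⟩ := (IsEquivOver.essSurjOver e he) η
    let ε₁ : (e.obj ξ).obj.fst ⟶ Over.mk g := ε.hom.hom.fst
    have hε₁iso : IsIso ε₁ :=
      inferInstanceAs (IsIso (((ObjectProperty.ι _ ⋙ CategoricalPullback.π₁ _ _).mapIso ε).hom))
    have hε₁l : IsIso ε₁.left :=
      inferInstanceAs (IsIso ((Over.forget T).map ε₁))
    have hw : ε₁.left ≫ g = ((e.obj ξ).obj.fst).hom := Over.w ε₁
    let u : ξ.base ⟶ T' :=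
      eqToHom ((BasedFunctor.comp e (FibCat.fpFst y (AlgSt.subIncl 𝒳 Q))).w_obj ξ).symm ≫ ε₁.left
    have hu : IsIso u := inferInstance
    have hug : u ≫ g =
        AlgSt.secHom (BasedFunctor.comp e (FibCat.fpFst y (AlgSt.subIncl 𝒳 Q))) ξ := by
      simp only [u, Category.assoc, hw]
      rfl
    refine ⟨inv u ≫ ((inv fst).hom.app (op ξ.base) ξ.sec).down, ?_⟩
    rw [Category.assoc, hsec ξ, ← hug, IsIso.inv_hom_id_assoc]
  · rintro ⟨g', hg'⟩
    let c : (AlgSt.ofSp F.obj).obj := ⟨T', fst.hom.app (op T') ⟨g'⟩⟩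
    have h1 := hsec c
    have h2 : (inv fst).hom.app (op T') (fst.hom.app (op T') ⟨g'⟩) = ⟨g'⟩ := by
      have := congrArg (fun t => t.hom.app (op T') (⟨g'⟩ : ULift (T' ⟶ W)))
        (IsIso.hom_inv_id fst)
      exact this
    have h3 : g = AlgSt.secHom (BasedFunctor.comp e (FibCat.fpFst y (AlgSt.subIncl 𝒳 Q))) c := by
      rw [← h1]
      change _ = ((inv fst).hom.app (op T') (fst.hom.app (op T') ⟨g'⟩)).down ≫ j
      rw [h2]
      exact hg'.symm
    have hQd : Q (y.obj (e.obj c).obj.fst) :=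
      hpull (e.obj c).obj.iso.hom (e.obj c).obj.snd.property
    have hb : 𝒳.p.IsHomLift (e.obj c).obj.fst.hom
        (y.map (overTerm T (e.obj c).obj.fst) ≫ e₀.hom) := by
      have h0 : (FibCat.overCat T).p.IsHomLift (e.obj c).obj.fst.hom
          (overTerm T (e.obj c).obj.fst) := overTerm_isHomLift T _
      have h1 : 𝒳.p.IsHomLift (e.obj c).obj.fst.hom
        (y.map (overTerm T (e.obj c).obj.fst)) := inferInstance
      infer_instance
    have hsc := IsFibGrpd.isStronglyCartesian_of_isHomLift h𝒳 (e.obj c).obj.fst.hom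
      (y.map (overTerm T (e.obj c).obj.fst) ≫ e₀.hom)
    exact hpull (IsStronglyCartesian.map 𝒳.p (e.obj c).obj.fst.hom
      (y.map (overTerm T (e.obj c).obj.fst) ≫ e₀.hom) h3 a) hQd

/-- The objects of an open substack form an open predicate. -/
theorem isOpenPred_of_isOpenImm (h𝒳 : FibCat.IsFibGrpd 𝒳.p)
    (hpull : ∀ {x' x : 𝒳.obj} (_ : x' ⟶ x), Q x → Q x')
    (hi : AlgSt.IsOpenImm (AlgSt.subIncl 𝒳 Q)) : IsOpenPred 𝒳 Q := by
  intro T x hx
  have hfib := IsFibGrpd.isFibered h𝒳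
  obtain ⟨e₀, he₀⟩ := yonedaFunctor_iso (𝒳 := 𝒳) hx
  obtain ⟨F, e, he, hP⟩ := hi T (yonedaFunctor (𝒳 := 𝒳) hx)
  obtain ⟨W, j, fst, sq⟩ := hP.1 (𝟙 ((AlgSp.yon S).obj T))
  have hj : IsOpenImmersion j.left := hP.2 _ fst j sq
  have hfst : IsIso fst := sq.isIso_fst_of_isIso
  have hcomm : fst ≫ AlgSt.spMapOfOver (BasedFunctor.comp e
      (FibCat.fpFst (yonedaFunctor (𝒳 := 𝒳) hx) (AlgSt.subIncl 𝒳 Q))) = (AlgSp.yon S).map j := by
    have := sq.w
    rwa [Category.comp_id] at this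
  exact ⟨W, j, hj, fun x' a T' g hg =>
    isOpenPred_aux Q h𝒳 hpull x _ e₀ he₀ F e he W j fst hcomm x' a T' g hg⟩

theorem isOpenPred_of_isOpenSubstack (h𝒳 : FibCat.IsFibGrpd 𝒳.p) (Q : 𝒳.obj → Prop)
    (hQ : AlgSt.IsOpenSubstack 𝒳 Q Scheme.fppfPrecoverage) : IsOpenPred 𝒳 Q :=
  isOpenPred_of_isOpenImm Q h𝒳
    (fun a hx => pullStable_of_isFibGrpd_fullSub Q h𝒳 hQ.1 hQ.2.1.isStack.1 a hx) hQ.2.2

section Points

variable {Q : 𝒳.obj → Prop}

/-- An open immersion into the spectrum of a field with nonempty source is an isomorphism. -/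
theorem isIso_of_isOpenImmersion_field {K : Type u} [Field K] {W : Scheme.{u}}
    (j : W ⟶ Spec (CommRingCat.of K)) [IsOpenImmersion j] [Nonempty W] : IsIso j := by
  rw [isIso_iff_isOpenImmersion_and_epi_base]
  refine ⟨inferInstance, ?_⟩
  rw [TopCat.epi_iff_surjective]
  intro t
  obtain ⟨w⟩ := (inferInstance : Nonempty W)
  exact ⟨w, Subsingleton.elim _ _⟩

/-- For an open predicate, an object over the spectrum of a field satisfies it as soon as one of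
its pullbacks to a nonempty scheme does. -/
theorem IsOpenPred.of_pullback_field (hQ : IsOpenPred 𝒳 Q) {K : Type u} [Field K]
    (str : Spec (CommRingCat.of K) ⟶ S) {x' x : 𝒳.obj} (hx : 𝒳.p.obj x = Over.mk str)
    (a : x' ⟶ x) [Nonempty (𝒳.p.obj x').left] (hx' : Q x') : Q x := by
  obtain ⟨W, j, hj, hW⟩ := hQ (Over.mk str) x hx
  have hlift : 𝒳.p.IsHomLift (𝒳.p.map a ≫ eqToHom hx) a := inferInstance
  obtain ⟨g', hg'⟩ := (hW x' a (𝒳.p.obj x') (𝒳.p.map a ≫ eqToHom hx) hlift).1 hx'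
  have hne : Nonempty W.left := by
    obtain ⟨t⟩ := (inferInstance : Nonempty (𝒳.p.obj x').left)
    exact ⟨g'.left.base t⟩
  have hiso : IsIso j.left := isIso_of_isOpenImmersion_field (K := K) j.left
  have hiso' : IsIso j := by
    have : IsIso ((Over.forget S).map j) := hiso
    exact isIso_of_reflects_iso j (Over.forget S)
  exact (hW x (𝟙 x) (Over.mk str) (𝟙 _) (IsHomLift.id hx)).2 ⟨inv j, IsIso.inv_hom_id j⟩

/-- An open predicate is constant on the classes of field-valued points. -/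
theorem IsOpenPred.iff_of_rel (hQ : IsOpenPred 𝒳 Q) {p q : AlgSt.FPt 𝒳} (h : AlgSt.FPt.Rel p q) :
    Q p.obj ↔ Q q.obj := by
  obtain ⟨r, a, b, -⟩ := h
  have hne : Nonempty (𝒳.p.obj r.obj).left := by
    rw [r.lies]
    exact inferInstanceAs (Nonempty (Spec (CommRingCat.of r.K)))
  constructor
  · intro hp
    exact hQ.of_pullback_field q.str q.lies b (hQ.pullStable a hp)
  · intro hq
    exact hQ.of_pullback_field p.str p.lies a (hQ.pullStable b hq)

/-- The predicate on points induced by an open predicate. -/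
def IsOpenPred.onPoints (hQ : IsOpenPred 𝒳 Q) : AlgSt.Points 𝒳 → Prop :=
  Quot.lift (fun p => Q p.obj) (fun _ _ h => propext (hQ.iff_of_rel h))

theorem IsOpenPred.onPoints_mk (hQ : IsOpenPred 𝒳 Q) (p : AlgSt.FPt 𝒳) :
    hQ.onPoints (AlgSt.Points.mk p) ↔ Q p.obj := Iff.rfl

/-- The points of the open substack cut out by an open predicate. -/
theorem IsOpenPred.mem_range_iff (hQ : IsOpenPred 𝒳 Q) (p : AlgSt.FPt 𝒳) :
    AlgSt.Points.mk p ∈ Set.range (AlgSt.Points.map (AlgSt.subIncl 𝒳 Q)) ↔ Q p.obj := by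
  constructor
  · rintro ⟨z, hz⟩
    obtain ⟨q, rfl⟩ := AlgSt.Points.mk_surjective z
    have h1 : hQ.onPoints (AlgSt.Points.mk (q.map (AlgSt.subIncl 𝒳 Q))) := q.obj.property
    rw [← AlgSt.Points.map_mk, hz] at h1
    exact h1
  · intro hp
    exact ⟨AlgSt.Points.mk { K := p.K, str := p.str, obj := ⟨p.obj, hp⟩, lies := p.lies }, rfl⟩

theorem IsOpenPred.range_eq (hQ : IsOpenPred 𝒳 Q) :
    Set.range (AlgSt.Points.map (AlgSt.subIncl 𝒳 Q)) = {z | hQ.onPoints z} := by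
  ext z
  obtain ⟨p, rfl⟩ := AlgSt.Points.mk_surjective z
  exact hQ.mem_range_iff p

end Points

end B

end Groth.Agent.R2.H59.OpenSub
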