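-- helper59: closed substacks as closed predicates; a functor from a reduced algebraic stack
-- factors through a closed substack as soon as it does so on points.
import Mathlib
import Groth.Agent.R2.H59OpenSub
import Groth.Agent.R2.H59LocQDesc

set_option autoImplicit false
set_option backward.isDefEq.respectTransparency false
set_option backward.isDefEq.respectTransparency.types false
set_option linter.style.haveILetI false
set_option linter.unusedSectionVars false

universe u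

open CategoryTheory CategoryTheory.Functor CategoryTheory.Limits AlgebraicGeometry Opposite

namespace Groth.Agent.R2.H59.ClosedSub

open Groth.Agent.Lib.Helper17 Groth.Agent.Lib.Helper15PshFib Groth.Agent.Lib.Helper15RepComp
  Groth.Agent.Lib.Helper15RepPsh Groth.Agent.Lib.Helper15DiagBase Groth.Agent.Lib.Helper15DiagRepSp
  Groth.Agent.Lib.Helper15Descent Groth.Agent.Lib.Helper15DiagLft
  Groth.Agent.Lib.Helper15DiagDescent Groth.Agent.Lib.Helper15SpMapRep
  Groth.Agent.Lib.Helper15SrcCancel Groth.Agent.Lib.Helper15ChartSp Groth.Agent.Lib.Helper15Atlas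
  Groth.Agent.Lib.Helper15LocEss Groth.Agent.Lib.Helper15UnivComp Groth.Agent.Lib.Helper15SmLoc
  Groth.Agent.Lib.Helper15PtsComp Groth.Agent.Lib.Helper15PtsTop Groth.Agent.Lib.Helper15PtsQc
  Groth.Agent.Lib.Helper15EquivRep
  Groth.Agent.R2.H59.OpenSub

variable {S : Scheme.{u}} {𝒳 𝒴 : AlgSt.Cat S}

/-- `Q` is a closed predicate on the objects of `𝒳`. -/
def IsClosedPred (𝒳 : AlgSt.Cat S) (Q : 𝒳.obj → Prop) : Prop :=
  ∀ (T : Over S) (x : 𝒳.obj), 𝒳.p.obj x = T → ∃ (W : Over S) (j : W ⟶ T),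
    IsClosedImmersion j.left ∧
    ∀ (x' : 𝒳.obj) (a : x' ⟶ x) (T' : Over S) (g : T' ⟶ T), 𝒳.p.IsHomLift g a →
      (Q x' ↔ ∃ g' : T' ⟶ W, g' ≫ j = g)

theorem IsClosedPred.pullStable {Q : 𝒳.obj → Prop} (hQ : IsClosedPred 𝒳 Q) {x' x : 𝒳.obj}
    (a : x' ⟶ x) (hx : Q x) : Q x' := by
  obtain ⟨W, j, -, hW⟩ := hQ (𝒳.p.obj x) x rfl
  obtain ⟨s, hs⟩ := (hW x (𝟙 x) (𝒳.p.obj x) (𝟙 _) inferInstance).1 hx
  exact (hW x' a (𝒳.p.obj x') (𝒳.p.map a) inferInstance).2 ⟨𝒳.p.map a ≫ s, by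
    rw [Category.assoc, hs, Category.comp_id]⟩

theorem IsClosedPred.isClosedUnderIsomorphisms {Q : 𝒳.obj → Prop} (hQ : IsClosedPred 𝒳 Q) :
    ObjectProperty.IsClosedUnderIsomorphisms Q :=
  ⟨fun e hx => hQ.pullStable e.inv hx⟩

variable (Q : 𝒳.obj → Prop)

/-- The objects of a closed substack form a closed predicate. -/
theorem isClosedPred_of_isClosedImm (h𝒳 : FibCat.IsFibGrpd 𝒳.p)
    (hpull : ∀ {x' x : 𝒳.obj} (_ : x' ⟶ x), Q x → Q x')
    (hi : AlgSt.IsClosedImm (AlgSt.subIncl 𝒳 Q)) : IsClosedPred 𝒳 Q := by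
  intro T x hx
  have hfib := IsFibGrpd.isFibered h𝒳
  obtain ⟨e₀, he₀⟩ := yonedaFunctor_iso (𝒳 := 𝒳) hx
  obtain ⟨F, e, he, hP⟩ := hi T (yonedaFunctor (𝒳 := 𝒳) hx)
  obtain ⟨W, j, fst, sq⟩ := hP.1 (𝟙 ((AlgSp.yon S).obj T))
  have hj : IsClosedImmersion j.left := hP.2 _ fst j sq
  have hfst : IsIso fst := sq.isIso_fst_of_isIso
  have hcomm : fst ≫ AlgSt.spMapOfOver (BasedFunctor.comp e
      (FibCat.fpFst (yonedaFunctor (𝒳 := 𝒳) hx) (AlgSt.subIncl 𝒳 Q))) = (AlgSp.yon S).map j := by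
    have := sq.w
    rwa [Category.comp_id] at this
  exact ⟨W, j, hj, fun x' a T' g hg =>
    isOpenPred_aux Q h𝒳 hpull x _ e₀ he₀ F e he W j fst hcomm x' a T' g hg⟩

theorem isClosedPred_of_isClosedSubstack (h𝒳 : FibCat.IsFibGrpd 𝒳.p) (Q : 𝒳.obj → Prop)
    (hQ : AlgSt.IsClosedSubstack 𝒳 Q Scheme.fppfPrecoverage) : IsClosedPred 𝒳 Q :=
  isClosedPred_of_isClosedImm Q h𝒳
    (fun a hx => pullStable_of_isFibGrpd_fullSub Q h𝒳 hQ.1 hQ.2.1.isStack.1 a hx) hQ.2.2

section Points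

variable {Q}

/-- A closed immersion into the spectrum of a field with nonempty source is an isomorphism. -/
theorem isIso_of_isClosedImmersion_field {K : Type u} [Field K] {W : Scheme.{u}}
    (j : W ⟶ Spec (CommRingCat.of K)) [IsClosedImmersion j] [Nonempty W] : IsIso j := by
  have : Surjective j := ⟨fun t => by
    obtain ⟨w⟩ := (inferInstance : Nonempty W)
    exact ⟨w, Subsingleton.elim _ _⟩⟩
  exact isIso_of_isClosedImmersion_of_surjective j

/-- For a closed predicate, an object over the spectrum of a field satisfies it as soon as one of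
its pullbacks to a nonempty scheme does. -/
theorem IsClosedPred.of_pullback_field (hQ : IsClosedPred 𝒳 Q) {K : Type u} [Field K]
    (str : Spec (CommRingCat.of K) ⟶ S) {x' x : 𝒳.obj} (hx : 𝒳.p.obj x = Over.mk str)
    (a : x' ⟶ x) [Nonempty (𝒳.p.obj x').left] (hx' : Q x') : Q x := by
  obtain ⟨W, j, hj, hW⟩ := hQ (Over.mk str) x hx
  have hlift : 𝒳.p.IsHomLift (𝒳.p.map a ≫ eqToHom hx) a := inferInstance
  obtain ⟨g', hg'⟩ := (hW x' a (𝒳.p.obj x') (𝒳.p.map a ≫ eqToHom hx) hlift).1 hx'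
  have hne : Nonempty W.left := by
    obtain ⟨t⟩ := (inferInstance : Nonempty (𝒳.p.obj x').left)
    exact ⟨g'.left.base t⟩
  have hiso : IsIso j.left := isIso_of_isClosedImmersion_field (K := K) j.left
  have hiso' : IsIso j := by
    have : IsIso ((Over.forget S).map j) := hiso
    exact isIso_of_reflects_iso j (Over.forget S)
  exact (hW x (𝟙 x) (Over.mk str) (𝟙 _) (IsHomLift.id hx)).2 ⟨inv j, IsIso.inv_hom_id j⟩

/-- A closed predicate is constant on the classes of field-valued points. -/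
theorem IsClosedPred.iff_of_rel (hQ : IsClosedPred 𝒳 Q) {p q : AlgSt.FPt 𝒳}
    (h : AlgSt.FPt.Rel p q) : Q p.obj ↔ Q q.obj := by
  obtain ⟨r, a, b, -⟩ := h
  have hne : Nonempty (𝒳.p.obj r.obj).left := by
    rw [r.lies]
    exact inferInstanceAs (Nonempty (Spec (CommRingCat.of r.K)))
  constructor
  · intro hp
    exact hQ.of_pullback_field q.str q.lies b (hQ.pullStable a hp)
  · intro hq
    exact hQ.of_pullback_field p.str p.lies a (hQ.pullStable b hq)

/-- The predicate on points induced by a closed predicate. -/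
def IsClosedPred.onPoints (hQ : IsClosedPred 𝒳 Q) : AlgSt.Points 𝒳 → Prop :=
  Quot.lift (fun p => Q p.obj) (fun _ _ h => propext (hQ.iff_of_rel h))

/-- The points of the closed substack cut out by a closed predicate. -/
theorem IsClosedPred.mem_range_iff (hQ : IsClosedPred 𝒳 Q) (p : AlgSt.FPt 𝒳) :
    AlgSt.Points.mk p ∈ Set.range (AlgSt.Points.map (AlgSt.subIncl 𝒳 Q)) ↔ Q p.obj := by
  constructor
  · rintro ⟨z, hz⟩
    obtain ⟨q, rfl⟩ := AlgSt.Points.mk_surjective z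
    have h1 : hQ.onPoints (AlgSt.Points.mk (q.map (AlgSt.subIncl 𝒳 Q))) := q.obj.property
    rw [← AlgSt.Points.map_mk, hz] at h1
    exact h1
  · intro hp
    exact ⟨AlgSt.Points.mk { K := p.K, str := p.str, obj := ⟨p.obj, hp⟩, lies := p.lies }, rfl⟩

end Points

section Reduced

variable {Q}

/-- On a reduced chart of the source, a functor whose points land in a closed substack takes
values in the substack. -/
theorem IsClosedPred.of_reduced_chart (hQ : IsClosedPred 𝒳 Q) (f : 𝒴 ⥤ᵇ 𝒳)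
    (hsub : Set.range (AlgSt.Points.map f) ⊆
      Set.range (AlgSt.Points.map (AlgSt.subIncl 𝒳 Q)))
    {U : Over S} [IsReduced U.left] (y : FibCat.overCat U ⥤ᵇ 𝒴) :
    Q (f.obj (y.obj (Over.mk (𝟙 U)))) := by
  have hx : 𝒳.p.obj (f.obj (y.obj (Over.mk (𝟙 U)))) = U :=
    (BasedFunctor.comp y f).w_obj (Over.mk (𝟙 U))
  obtain ⟨Z, j, hj, hZ⟩ := hQ U _ hx
  have hsurj : Surjective j.left := by
    constructor
    intro t
    let ξ : Over U := Over.mk (Over.homMk (U.left.fromSpecResidueField t) rfl :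
      Over.mk (U.left.fromSpecResidueField t ≫ U.hom) ⟶ U)
    let p : AlgSt.FPt 𝒴 :=
      { K := ↥(U.left.residueField t)
        str := U.left.fromSpecResidueField t ≫ U.hom
        obj := y.obj ξ
        lies := y.w_obj _ }
    have h1 : AlgSt.Points.mk (p.map f) ∈
        Set.range (AlgSt.Points.map (AlgSt.subIncl 𝒳 Q)) :=
      hsub ⟨AlgSt.Points.mk p, rfl⟩
    have h2 : Q (f.obj (y.obj ξ)) := (hQ.mem_range_iff (p.map f)).1 h1
    have hlift : 𝒳.p.IsHomLift ξ.hom (f.map (y.map (overTerm U ξ))) := by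
      have h0 : (FibCat.overCat U).p.IsHomLift ξ.hom (overTerm U ξ) := overTerm_isHomLift U ξ
      have h1 : 𝒴.p.IsHomLift ξ.hom (y.map (overTerm U ξ)) := inferInstance
      infer_instance
    obtain ⟨g', hg'⟩ := (hZ _ (f.map (y.map (overTerm U ξ))) ξ.left ξ.hom hlift).1 h2
    obtain ⟨pt⟩ : Nonempty ↥(Spec (U.left.residueField t)) := inferInstance
    refine ⟨g'.left pt, ?_⟩
    have h3 : g'.left ≫ j.left = U.left.fromSpecResidueField t := congrArg CommaMorphism.left hg'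
    have h4 : (g'.left ≫ j.left) pt = t := by
      rw [h3]
      exact Scheme.fromSpecResidueField_apply _ _
    exact h4
  have hiso : IsIso j.left := isIso_of_isClosedImmersion_of_surjective j.left
  have hiso' : IsIso j := by
    have : IsIso ((Over.forget S).map j) := hiso
    exact isIso_of_reflects_iso j (Over.forget S)
  exact (hZ _ (𝟙 _) U (𝟙 _) (IsHomLift.id hx)).2 ⟨inv j, IsIso.inv_hom_id j⟩

end Reduced

section Descent

/-- A closed immersion through which an fppf covering factors is an isomorphism. -/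
theorem isIso_of_isClosedImmersion_of_factors {Z T B : Scheme.{u}} (j : Z ⟶ T)
    [IsClosedImmersion j] (b : B ⟶ T) [Flat b] [LocallyOfFinitePresentation b] [Surjective b]
    (b' : B ⟶ Z) (h : b' ≫ j = b) : IsIso j := by
  have hm : Mono (pullback.fst b j) := inferInstance
  have hs : pullback.lift (𝟙 B) b' (by rw [Category.id_comp, h]) ≫ pullback.fst b j = 𝟙 B :=
    pullback.lift_fst _ _ _
  have hse : IsSplitEpi (pullback.fst b j) := ⟨⟨_, hs⟩⟩
  have hfst : IsIso (pullback.fst b j) := isIso_of_mono_of_isSplitEpi _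
  exact MorphismProperty.of_pullback_fst_of_descendsAlong
    (P := MorphismProperty.isomorphisms Scheme.{u})
    (Q := @Surjective ⊓ @Flat ⊓ @LocallyOfFinitePresentation) (f := b) (g := j)
    ⟨⟨inferInstance, inferInstance⟩, inferInstance⟩ hfst

/-- The scheme-level square attached to a chart `y` and a flat, locally finitely presented
surjective representable chart `w`: the first projection is an fppf covering. -/
theorem exists_cover_square {V W : Over S}
    (y : FibCat.overCat V ⥤ᵇ 𝒴) (w : FibCat.overCat W ⥤ᵇ 𝒴)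
    (hw₁ : AlgSt.RepByAlgSpWith (AlgSp.LocP @Flat) w)
    (hw₂ : AlgSt.RepByAlgSpWith (AlgSp.LocP @LocallyOfFinitePresentation) w)
    (hw₃ : AlgSt.RepByAlgSpWith AlgSp.IsSurjectiveMor w) :
    ∃ (B : Over S) (b : B ⟶ V) (c : B ⟶ W), Flat b.left ∧
      LocallyOfFinitePresentation b.left ∧ Function.Surjective b.left ∧
      Nonempty (BasedFunctor.comp (AlgSt.overMap b) y ≅ BasedFunctor.comp (AlgSt.overMap c) w) := by
  obtain ⟨F, e, he, -⟩ := hw₁ V y
  have hp₁ : AlgSp.LocP @Flat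
      (AlgSt.spMapOfOver (BasedFunctor.comp e (FibCat.fpFst y w))) :=
    prop_spMapOfOver_of_repByAlgSpWith _ bcStable_flat (FibCat.fpFst y w)
      (repByAlgSpWith_fpFst _ w y hw₁) F e he
  have hp₂ : AlgSp.LocP @LocallyOfFinitePresentation
      (AlgSt.spMapOfOver (BasedFunctor.comp e (FibCat.fpFst y w))) :=
    prop_spMapOfOver_of_repByAlgSpWith _ bcStable_lfp (FibCat.fpFst y w)
      (repByAlgSpWith_fpFst _ w y hw₂) F e he
  obtain ⟨B, s, hse, hss⟩ := F.property.atlas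
  obtain ⟨b, c, hb, hc, hi⟩ := exists_chart_square y w F e s
  have hs_surj := isSurjectiveMor_atlas F s hse hss
  refine ⟨B, b, c, ?_, ?_, ?_, hi⟩
  · exact hp₁ s (𝟙 _) b hse (AlgSp.repWith_id _ V) (by rw [Category.comp_id, hb])
  · exact hp₂ s (𝟙 _) b hse (AlgSp.repWith_id _ V) (by rw [Category.comp_id, hb])
  · have hp₁s : AlgSp.IsSurjectiveMor
        (AlgSt.spMapOfOver (BasedFunctor.comp e (FibCat.fpFst y w))) :=
      prop_spMapOfOver_of_repByAlgSpWith _ bcStable_isSurjectiveMor (FibCat.fpFst y w)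
        (repByAlgSpWith_fpFst _ w y hw₃) F e he
    apply surjective_of_isSurjectiveMor_yon_map b
    rw [hb]
    intro p
    obtain ⟨q, hq⟩ := hp₁s p
    obtain ⟨r, hr⟩ := hs_surj q
    exact ⟨r, by rw [AlgSp.Points.map_comp, hr, hq]⟩

end Descent

section Main

variable {Q}

/-- A functor from a reduced algebraic stack whose points land in a closed substack takes values
in the substack. -/
theorem IsClosedPred.of_points (hQ : IsClosedPred 𝒳 Q)
    (h𝒴 : AlgSt.IsAlgStack Scheme.fppfPrecoverage 𝒴)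
    (hred : AlgSt.SmoothLocally (fun X => IsReduced X) 𝒴) (f : 𝒴 ⥤ᵇ 𝒳)
    (hsub : Set.range (AlgSt.Points.map f) ⊆
      Set.range (AlgSt.Points.map (AlgSt.subIncl 𝒳 Q))) (y₀ : 𝒴.obj) : Q (f.obj y₀) := by
  obtain ⟨U, u, hu₁, hu₂⟩ := h𝒴.atlas
  have hUred : IsReduced U.left := hred U u hu₁
  have hfibY : FibCat.IsFibGrpd 𝒴.p := h𝒴.isStack.1
  have hfib := IsFibGrpd.isFibered hfibY
  obtain ⟨e₀, he₀⟩ := yonedaFunctor_iso (𝒳 := 𝒴) (rfl : 𝒴.p.obj y₀ = 𝒴.p.obj y₀)
  obtain ⟨B, b, c, hb₁, hb₂, hb₃, ⟨κ⟩⟩ := exists_cover_square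
    (yonedaFunctor (𝒳 := 𝒴) (rfl : 𝒴.p.obj y₀ = 𝒴.p.obj y₀)) u (flat_of_smooth hu₁)
    (lfp_of_smooth hu₁) hu₂
  have h1 : Q (f.obj (u.obj (Over.mk (𝟙 U)))) := hQ.of_reduced_chart f hsub u
  have h2 : Q (f.obj (u.obj ((AlgSt.overMap c).obj (Over.mk (𝟙 B))))) :=
    hQ.pullStable (f.map (u.map (overTerm U _))) h1
  have h3 : Q (f.obj ((yonedaFunctor (𝒳 := 𝒴) (rfl : 𝒴.p.obj y₀ = 𝒴.p.obj y₀)).obj
      ((AlgSt.overMap b).obj (Over.mk (𝟙 B))))) :=
    hQ.pullStable (f.map (κ.hom.toNatTrans.app (Over.mk (𝟙 B)))) h2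
  obtain ⟨Z, j, hj, hZ⟩ := hQ (𝒴.p.obj y₀) (f.obj y₀) (f.w_obj y₀)
  have hlift : 𝒳.p.IsHomLift ((AlgSt.overMap b).obj (Over.mk (𝟙 B))).hom
      (f.map ((yonedaFunctor (𝒳 := 𝒴) (rfl : 𝒴.p.obj y₀ = 𝒴.p.obj y₀)).map
        (overTerm (𝒴.p.obj y₀) ((AlgSt.overMap b).obj (Over.mk (𝟙 B)))) ≫ e₀.hom)) := by
    have h0 : (FibCat.overCat (𝒴.p.obj y₀)).p.IsHomLift
        ((AlgSt.overMap b).obj (Over.mk (𝟙 B))).hom
        (overTerm (𝒴.p.obj y₀) ((AlgSt.overMap b).obj (Over.mk (𝟙 B)))) :=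
      overTerm_isHomLift _ _
    have h1 : 𝒴.p.IsHomLift ((AlgSt.overMap b).obj (Over.mk (𝟙 B))).hom
        ((yonedaFunctor (𝒳 := 𝒴) (rfl : 𝒴.p.obj y₀ = 𝒴.p.obj y₀)).map
          (overTerm (𝒴.p.obj y₀) ((AlgSt.overMap b).obj (Over.mk (𝟙 B))))) := inferInstance
    have h2 : 𝒴.p.IsHomLift ((AlgSt.overMap b).obj (Over.mk (𝟙 B))).hom
        ((yonedaFunctor (𝒳 := 𝒴) (rfl : 𝒴.p.obj y₀ = 𝒴.p.obj y₀)).map
          (overTerm (𝒴.p.obj y₀) ((AlgSt.overMap b).obj (Over.mk (𝟙 B)))) ≫ e₀.hom) :=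
      inferInstance
    infer_instance
  obtain ⟨g', hg'⟩ := (hZ _ _ _ _ hlift).1 h3
  have h5 : g'.left ≫ j.left = b.left := by
    have h6 := congrArg CommaMorphism.left hg'
    have h7 : ((AlgSt.overMap b).obj (Over.mk (𝟙 B))).hom = b := by
      change (𝟙 B ≫ b) = b
      exact Category.id_comp b
    rw [h7] at h6
    exact h6
  have hbs : Surjective b.left := ⟨hb₃⟩
  have hiso : IsIso j.left := isIso_of_isClosedImmersion_of_factors j.left b.left g'.left h5
  have hiso' : IsIso j := by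
    have : IsIso ((Over.forget S).map j) := hiso
    exact isIso_of_reflects_iso j (Over.forget S)
  exact (hZ _ (𝟙 _) _ (𝟙 _) (IsHomLift.id (f.w_obj y₀))).2 ⟨inv j, IsIso.inv_hom_id j⟩

end Main

end Groth.Agent.R2.H59.ClosedSub
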