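-- helper59: the equivalence relation `X ×_S V ⇉ V` attached to a descent datum `D` for schemes
-- relative to `p : X ⟶ S` (`V = D.obj`), as an `AlgSp.IsEqvRel` in `Over S`.
import Mathlib
import Groth.Prelude.Def_Desc
import Groth.Prelude.Def_AlgSp

set_option autoImplicit false
set_option linter.unusedSectionVars false
set_option linter.style.haveILetI false
universe u
open CategoryTheory CategoryTheory.Limits AlgebraicGeometry Opposite

set_option backward.isDefEq.respectTransparency false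

namespace Groth.Agent.R2.H59.DescRel

open Desc

variable {X S : Scheme.{u}} {p : X ⟶ S} (D : Desc.SchDD p)

/-- `X` as a scheme over `S`. -/
abbrev Xo (p : X ⟶ S) : Over S := Over.mk p

/-- the scheme of the descent datum, over `S`. -/
abbrev Vo : Over S := Over.mk (D.obj.hom ≫ p)

/-- the structure map of the descent datum, over `S`. -/
abbrev w' : Vo D ⟶ Xo p := Over.homMk D.obj.hom rfl

variable {D}

lemma pt_cond {To : Over S} (xo : To ⟶ Xo p) (vo : To ⟶ Vo D) :
    (vo ≫ w' D).left ≫ p = xo.left ≫ p := by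
  have h1 : (vo ≫ w' D).left ≫ p = To.hom := Over.w (vo ≫ w' D)
  have h2 : xo.left ≫ p = To.hom := Over.w xo
  rw [h1, h2]

/-- the lift attached to a point of `V` over `S`. -/
def ptLift {To : Over S} (vo : To ⟶ Vo D) : Lifts D.obj (vo ≫ w' D).left := ⟨vo.left, rfl⟩

/-- transport of a point `vo` of `V` to a point over `xo`. -/
def actPt {To : Over S} (xo : To ⟶ Xo p) (vo : To ⟶ Vo D) : To ⟶ Vo D :=
  Over.homMk (D.φ (vo ≫ w' D).left xo.left (pt_cond xo vo) (ptLift vo)).1 (by
    have h := (D.φ (vo ≫ w' D).left xo.left (pt_cond xo vo) (ptLift vo)).2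
    change (D.φ (vo ≫ w' D).left xo.left (pt_cond xo vo) (ptLift vo)).1 ≫ D.obj.hom ≫ p = To.hom
    rw [← Category.assoc, h]
    exact Over.w xo)

lemma actPt_left {To : Over S} (xo : To ⟶ Xo p) (vo : To ⟶ Vo D) :
    (actPt xo vo).left = (D.φ (vo ≫ w' D).left xo.left (pt_cond xo vo) (ptLift vo)).1 := rfl

lemma actPt_w' {To : Over S} (xo : To ⟶ Xo p) (vo : To ⟶ Vo D) : actPt xo vo ≫ w' D = xo := by
  ext1
  exact (D.φ (vo ≫ w' D).left xo.left (pt_cond xo vo) (ptLift vo)).2

/-- general form of a value of `φ` as `actPt`. -/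
lemma φ_eq_actPt {To : Over S} (xo : To ⟶ Xo p) (vo : To ⟶ Vo D) (x₀ : To.left ⟶ X)
    (hx₀ : x₀ = (vo ≫ w' D).left) (h : x₀ ≫ p = xo.left ≫ p) (v : Lifts D.obj x₀)
    (hv : v.1 = vo.left) : (D.φ x₀ xo.left h v).1 = (actPt xo vo).left := by
  subst hx₀
  have : v = ptLift vo := Subtype.ext hv
  subst this
  rfl

lemma comp_actPt {To To' : Over S} (r : To' ⟶ To) (xo : To ⟶ Xo p) (vo : To ⟶ Vo D) :
    r ≫ actPt xo vo = actPt (r ≫ xo) (r ≫ vo) := by
  ext1
  rw [Over.comp_left, actPt_left, actPt_left]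
  exact (D.φ_natural r.left (vo ≫ w' D).left xo.left (pt_cond xo vo)
    (pt_cond (r ≫ xo) (r ≫ vo)) (ptLift vo) (ptLift (r ≫ vo)) rfl).symm

lemma actPt_self {To : Over S} (vo : To ⟶ Vo D) : actPt (vo ≫ w' D) vo = vo := by
  ext1
  rw [actPt_left]
  exact congrArg Subtype.val (D.φ_self (vo ≫ w' D).left (ptLift vo))

lemma actPt_actPt {To : Over S} (xo xo' : To ⟶ Xo p) (vo : To ⟶ Vo D) :
    actPt xo' (actPt xo vo) = actPt xo' vo := by
  ext1
  rw [actPt_left, actPt_left]
  have h1 : (actPt xo vo ≫ w' D).left = xo.left := by rw [actPt_w']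
  have key : ∀ (x₁ : To.left ⟶ X) (hx₁ : x₁ = xo.left) (v : Lifts D.obj x₁)
      (hv : v.1 = (actPt xo vo).left) (h : x₁ ≫ p = xo'.left ≫ p),
      (D.φ x₁ xo'.left h v).1 =
        (D.φ (vo ≫ w' D).left xo'.left (pt_cond xo' vo) (ptLift vo)).1 := by
    intro x₁ hx₁ v hv h
    subst hx₁
    have hv' : v = D.φ (vo ≫ w' D).left xo.left (pt_cond xo vo) (ptLift vo) := Subtype.ext hv
    rw [hv', D.φ_comp]
  exact key _ h1 _ rfl _

variable (D)

/-- the relation scheme `X ×_S V`. -/
noncomputable abbrev Ro : Over S := Xo p ⨯ Vo D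

/-- the source map of the relation: the `V`-component. -/
noncomputable abbrev s : Ro D ⟶ Vo D := prod.snd

/-- the target map of the relation: transport of the `V`-component to the `X`-component. -/
noncomputable def t : Ro D ⟶ Vo D := actPt prod.fst prod.snd

variable {D}

lemma comp_t {To : Over S} (r : To ⟶ Ro D) : r ≫ t D = actPt (r ≫ prod.fst) (r ≫ prod.snd) :=
  comp_actPt r _ _

lemma lift_t {To : Over S} (xo : To ⟶ Xo p) (vo : To ⟶ Vo D) :
    prod.lift xo vo ≫ t D = actPt xo vo := by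
  rw [comp_t, prod.lift_fst, prod.lift_snd]

lemma t_w' : t D ≫ w' D = prod.fst := actPt_w' _ _

/-- the relation is an equivalence relation. -/
theorem isEqvRel : AlgSp.IsEqvRel (s D) (t D) where
  injective To r r' ht hs := by
    apply Limits.prod.hom_ext
    · rw [← t_w' (D := D), ← Category.assoc, ← Category.assoc, ht]
    · exact hs
  equivalence To := by
    have hrel : ∀ a b : To ⟶ Vo D, (∃ r : To ⟶ Ro D, r ≫ t D = a ∧ r ≫ s D = b) ↔
        a = actPt (a ≫ w' D) b := by
      intro a b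
      constructor
      · rintro ⟨r, rfl, rfl⟩
        rw [Category.assoc, t_w', comp_t]
      · intro h
        exact ⟨prod.lift (a ≫ w' D) b, by rw [lift_t, ← h], prod.lift_snd _ _⟩
    refine ⟨fun a => (hrel a a).2 (actPt_self a).symm, ?_, ?_⟩
    · intro a b hab
      rw [hrel] at hab ⊢
      calc b = actPt (b ≫ w' D) b := (actPt_self b).symm
        _ = actPt (b ≫ w' D) (actPt (a ≫ w' D) b) := (actPt_actPt _ _ _).symm
        _ = actPt (b ≫ w' D) a := by rw [← hab]
    · intro a b c hab hbc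
      rw [hrel] at hab hbc ⊢
      calc a = actPt (a ≫ w' D) b := hab
        _ = actPt (a ≫ w' D) (actPt (b ≫ w' D) c) := by rw [← hbc]
        _ = actPt (a ≫ w' D) c := actPt_actPt _ _ _

end Groth.Agent.R2.H59.DescRel
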