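-- helper59: effectivity of descent data for schemes (functor-of-points form `Desc.SchDD`) whose
-- underlying morphism is separated, locally quasi-finite and locally of finite type, along a
-- flat, surjective, locally finitely presented morphism.  The descended scheme represents the
-- quotient sheaf of `V = D.obj` by the equivalence relation `X ×_S V ⇉ V`.
import Mathlib
import Groth.Agent.R2.H59DescRel
import Groth.Agent.R2.H59SLQF
import Groth.Agent.R2.H43Quot
import Groth.Agent.R2.H43DescIso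

set_option autoImplicit false
set_option linter.unusedSectionVars false
set_option linter.style.haveILetI false
universe u
open CategoryTheory CategoryTheory.Limits AlgebraicGeometry Opposite

set_option backward.isDefEq.respectTransparency false

namespace Groth.Agent.R2.H59.DescSLQF

open Desc Groth.Agent.R2.H59.DescRel Groth.Agent.S13210 Groth.Agent.R2.H59.AffDescGlue
  Groth.Agent.R2.H59.OpenDesc Groth.Agent.R2.H59.SLQFRel Groth.Agent.R2.H43.Quot

variable {X S : Scheme.{u}} {p : X ⟶ S} (D : Desc.SchDD p)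

/-- the base, as the terminal scheme over itself. -/
abbrev So (S : Scheme.{u}) : Over S := Over.mk (𝟙 S)

/-- `p` over `S`. -/
abbrev p' (p : X ⟶ S) : Xo p ⟶ So S := Over.homMk p (Category.comp_id p)

/-- the quotient sheaf of the descent datum. -/
noncomputable abbrev F : AlgSp.Sp S := QuotSh.quot Scheme.fppfPrecoverage (s D) (t D)

/-- the quotient map. -/
noncomputable abbrev π : (AlgSp.yon S).obj (Vo D) ⟶ F D := πy (s D) (t D)

lemma hk : IsPullback ((AlgSp.yon S).map (t D)) ((AlgSp.yon S).map (s D)) (π D) (π D) :=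
  isPullback_πy (s D) (t D) isEqvRel

/-- `h_S` is the terminal sheaf. -/
noncomputable def hTerm (S : Scheme.{u}) : IsTerminal ((AlgSp.yon S).obj (So S)) :=
  IsTerminal.isTerminalObj (AlgSp.yon S) _ Over.mkIdTerminal

/-- the structure map of the quotient sheaf. -/
noncomputable def a : F D ⟶ (AlgSp.yon S).obj (So S) := (hTerm S).from _

variable {D}

/-- two points of `V` over the same point of `X` with the same image in the quotient agree. -/
lemma point_unique {To : Over S} (v v' : To ⟶ Vo D)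
    (h1 : (AlgSp.yon S).map v ≫ π D = (AlgSp.yon S).map v' ≫ π D)
    (h2 : v ≫ w' D = v' ≫ w' D) : v = v' := by
  obtain ⟨r, hr₁, hr₂⟩ := exists_pair (hk D) v v' h1
  have h3 : r ≫ prod.fst = v' ≫ w' D := by
    rw [← t_w' (D := D), ← Category.assoc, hr₁, h2]
  rw [← hr₁, comp_t, h3]
  have : r ≫ prod.snd = v' := hr₂
  rw [this, actPt_self]

/-- transported points have the same image in the quotient. -/
lemma actPt_π {To : Over S} (xo : To ⟶ Xo p) (vo : To ⟶ Vo D) :
    (AlgSp.yon S).map (actPt xo vo) ≫ π D = (AlgSp.yon S).map vo ≫ π D := by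
  rw [← lift_t, Functor.map_comp, Category.assoc, (hk D).w, ← Category.assoc, ← Functor.map_comp,
    prod.lift_snd]

variable (D)

/-- **`V = F ×_S X`.** -/
theorem isPullback_π :
    IsPullback (π D) ((AlgSp.yon S).map (w' D)) (a D) ((AlgSp.yon S).map (p' p)) := by
  refine isPullback_of_yon ((hTerm S).hom_ext _ _) (fun To ξ z' _ => ?_)
  obtain ⟨xo, rfl⟩ := (AlgSp.yon S).map_surjective z'
  apply existsUnique_of_exists_of_unique
  · obtain ⟨κ, Y, f, d, hf, hs, hd⟩ := exists_lift_family (π D) ξ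
    have hv : ∀ k, ∃ v : Y k ⟶ Vo D, (AlgSp.yon S).map v = d k :=
      fun k => (AlgSp.yon S).map_surjective (d k)
    choose v hv using hv
    have hmem : Sieve.ofArrows Y f ∈ AlgSp.J S To :=
      Groth.Agent.R2.H43.CutOut.ofArrows_mem_J Y f hf hs
    have hv'π : ∀ k, (AlgSp.yon S).map (actPt (f k ≫ xo) (v k)) ≫ π D =
        (AlgSp.yon S).map (f k) ≫ ξ := by
      intro k
      rw [actPt_π, hv, hd]
    obtain ⟨l', hl'⟩ := exists_glue ((AlgSp.yon S).obj (Vo D)) Y f hmem
      (fun k => (AlgSp.yon S).map (actPt (f k ≫ xo) (v k))) (by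
        intro k k' T'' gi gj hg
        rw [← Functor.map_comp, ← Functor.map_comp]
        congr 1
        apply point_unique
        · rw [Functor.map_comp, Functor.map_comp, Category.assoc, Category.assoc, hv'π, hv'π,
            ← Category.assoc, ← Category.assoc, ← Functor.map_comp, ← Functor.map_comp, hg]
        · rw [Category.assoc, Category.assoc, actPt_w', actPt_w', ← Category.assoc,
            ← Category.assoc, hg])
    obtain ⟨l, rfl⟩ := (AlgSp.yon S).map_surjective l'
    refine ⟨(AlgSp.yon S).map l, ?_, ?_⟩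
    · apply eq_of_cover (F D) Y f hmem
      intro k
      rw [← Category.assoc, hl', hv'π]
    · apply eq_of_cover ((AlgSp.yon S).obj (Xo p)) Y f hmem
      intro k
      rw [← Category.assoc, hl', ← Functor.map_comp, actPt_w', Functor.map_comp]
  · rintro l₁' l₂' ⟨h₁, h₁'⟩ ⟨h₂, h₂'⟩
    obtain ⟨l₁, rfl⟩ := (AlgSp.yon S).map_surjective l₁'
    obtain ⟨l₂, rfl⟩ := (AlgSp.yon S).map_surjective l₂'
    congr 1
    apply point_unique
    · rw [h₁, h₂]
    · apply (AlgSp.yon S).map_injective
      rw [Functor.map_comp, Functor.map_comp, h₁', h₂']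

/-- the quotient sheaf is representable. -/
theorem exists_rep [Flat p] [Surjective p] [LocallyOfFinitePresentation p]
    [IsSeparated D.obj.hom] [LocallyQuasiFinite D.obj.hom] [LocallyOfFiniteType D.obj.hom] :
    ∃ (U : Over S), Nonempty ((AlgSp.yon S).obj U ≅ F D) := by
  haveI : Sheaf.IsLocallySurjective ((AlgSp.yon S).map (p' p)) :=
    Groth.Agent.S9885.isLocallySurjective_of_repWith _
      ((AlgSp.repWith_yon_map_iff @Flat (p' p)).2 (inferInstanceAs (Flat p)))
      ((AlgSp.repWith_yon_map_iff @LocallyOfFinitePresentation (p' p)).2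
        (inferInstanceAs (LocallyOfFinitePresentation p)))
      ((AlgSp.repWith_yon_map_iff @Surjective (p' p)).2 (inferInstanceAs (Surjective p)))
  have hrep := Groth.Agent.R2.H59.SLQF.representable_of_locallySurjective (a D)
    ((AlgSp.yon S).map (p' p)) (π D) ((AlgSp.yon S).map (w' D)) (isPullback_π D)
    ((AlgSp.repWith_yon_map_iff @IsSeparated (w' D)).2 (inferInstanceAs (IsSeparated D.obj.hom)))
    ((AlgSp.repWith_yon_map_iff @LocallyQuasiFinite (w' D)).2
      (inferInstanceAs (LocallyQuasiFinite D.obj.hom)))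
    ((AlgSp.repWith_yon_map_iff @LocallyOfFiniteType (w' D)).2
      (inferInstanceAs (LocallyOfFiniteType D.obj.hom)))
  obtain ⟨U, i, fst, sq⟩ := hrep (𝟙 ((AlgSp.yon S).obj (So S)))
  haveI : IsIso fst := sq.isIso_fst_of_isIso
  exact ⟨U, ⟨asIso fst⟩⟩

section Iso

open Groth.Agent.R2.H43.DescIso

variable {D} {U : Over S} (e : (AlgSp.yon S).obj U ≅ F D)

/-- `T` as a scheme over `S` through a point `x` of `X`. -/
abbrev To (p : X ⟶ S) {T : Scheme.{u}} (x : T ⟶ X) : Over S := Over.mk (x ≫ p)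

/-- a point of `X`, over `S`. -/
abbrev xo (p : X ⟶ S) {T : Scheme.{u}} (x : T ⟶ X) : To p x ⟶ Xo p := Over.homMk x rfl

/-- a lift of `x` to `V`, over `S`. -/
def voOf {T : Scheme.{u}} {x : T ⟶ X} (v : Lifts D.obj x) : To p x ⟶ Vo D :=
  Over.homMk v.1 (by
    change v.1 ≫ D.obj.hom ≫ p = x ≫ p
    rw [← Category.assoc, v.2])

/-- the `U`-component of a lift of `x` to `X ×_S U`, over `S`. -/
noncomputable def uoOf {T : Scheme.{u}} {x : T ⟶ X} (c : Lifts (Over.mk (pullback.fst p U.hom)) x) :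
    To p x ⟶ U :=
  Over.homMk (c.1 ≫ pullback.snd p U.hom) (by
    have hc : c.1 ≫ pullback.fst p U.hom = x := c.2
    change (c.1 ≫ pullback.snd p U.hom) ≫ U.hom = x ≫ p
    rw [Category.assoc, ← pullback.condition, ← Category.assoc, hc])

lemma voOf_w' {T : Scheme.{u}} {x : T ⟶ X} (v : Lifts D.obj x) : voOf v ≫ w' D = xo p x := by
  ext1
  exact v.2

/-- the correspondence between lifts to `X ×_S U` and lifts to `V`. -/
def Corr {T : Scheme.{u}} (x : T ⟶ X) (c : Lifts (Over.mk (pullback.fst p U.hom)) x)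
    (v : Lifts D.obj x) : Prop :=
  (AlgSp.yon S).map (voOf v) ≫ π D = (AlgSp.yon S).map (uoOf c) ≫ e.hom

lemma corr_exists_v {T : Scheme.{u}} (x : T ⟶ X) (c : Lifts (Over.mk (pullback.fst p U.hom)) x) :
    ∃ v, Corr e x c v := by
  obtain ⟨vo, hvo₁, hvo₂⟩ := exists_point (isPullback_π D) ((AlgSp.yon S).map (uoOf c) ≫ e.hom)
    (xo p x) ((hTerm S).hom_ext _ _)
  refine ⟨⟨vo.left, congrArg (fun m => m.left) hvo₂⟩, ?_⟩
  exact hvo₁

lemma corr_unique_v {T : Scheme.{u}} (x : T ⟶ X) (c : Lifts (Over.mk (pullback.fst p U.hom)) x)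
    (v v' : Lifts D.obj x) (h : Corr e x c v) (h' : Corr e x c v') : v = v' := by
  have := point_unique (voOf v) (voOf v') (h.trans h'.symm) (by rw [voOf_w', voOf_w'])
  exact Subtype.ext (congrArg (fun m => m.left) this)

lemma corr_exists_c {T : Scheme.{u}} (x : T ⟶ X) (v : Lifts D.obj x) : ∃ c, Corr e x c v := by
  obtain ⟨uo, huo⟩ := (AlgSp.yon S).map_surjective ((AlgSp.yon S).map (voOf v) ≫ π D ≫ e.inv)
  have hw : x ≫ p = uo.left ≫ U.hom := (Over.w uo).symm
  refine ⟨⟨pullback.lift x uo.left hw, pullback.lift_fst _ _ _⟩, ?_⟩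
  have : uoOf (U := U) ⟨pullback.lift x uo.left hw, pullback.lift_fst _ _ _⟩ = uo := by
    ext1
    exact pullback.lift_snd _ _ _
  unfold Corr
  rw [this, huo, Category.assoc, Category.assoc, Iso.inv_hom_id, Category.comp_id]

lemma corr_unique_c {T : Scheme.{u}} (x : T ⟶ X) (c c' : Lifts (Over.mk (pullback.fst p U.hom)) x)
    (v : Lifts D.obj x) (h : Corr e x c v) (h' : Corr e x c' v) : c = c' := by
  have h1 : (AlgSp.yon S).map (uoOf c) = (AlgSp.yon S).map (uoOf c') := by
    rw [← cancel_mono e.hom]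
    exact h.symm.trans h'
  have h2 : uoOf c = uoOf c' := (AlgSp.yon S).map_injective h1
  apply Subtype.ext
  apply pullback.hom_ext
  · exact c.2.trans c'.2.symm
  · exact congrArg (fun m => m.left) h2

/-- the bijection on lifts. -/
noncomputable def eqv {T : Scheme.{u}} (x : T ⟶ X) :
    Lifts (Over.mk (pullback.fst p U.hom)) x ≃ Lifts D.obj x :=
  Equiv.ofBijective (fun c => (corr_exists_v e x c).choose)
    ⟨fun c c' hcc' => by
      have h := (corr_exists_v e x c).choose_spec
      have h' := (corr_exists_v e x c').choose_spec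
      simp only at hcc'
      rw [hcc'] at h
      exact corr_unique_c e x c c' _ h h',
    fun v => by
      obtain ⟨c, hc⟩ := corr_exists_c e x v
      exact ⟨c, corr_unique_v e x c _ _ (corr_exists_v e x c).choose_spec hc⟩⟩

lemma corr_eqv {T : Scheme.{u}} (x : T ⟶ X) (c : Lifts (Over.mk (pullback.fst p U.hom)) x) :
    Corr e x c (eqv e x c) := (corr_exists_v e x c).choose_spec

lemma corr_restr {T T' : Scheme.{u}} (r : T' ⟶ T) (x : T ⟶ X)
    (c : Lifts (Over.mk (pullback.fst p U.hom)) x) (v : Lifts D.obj x) (h : Corr e x c v) :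
    Corr e (r ≫ x) (Lifts.restr r c (r ≫ x) rfl) (Lifts.restr r v (r ≫ x) rfl) := by
  let ro : To p (r ≫ x) ⟶ To p x := Over.homMk r (by
    change r ≫ x ≫ p = (r ≫ x) ≫ p
    rw [Category.assoc])
  have h1 : voOf (Lifts.restr r v (r ≫ x) rfl) = ro ≫ voOf v := by
    ext1
    rfl
  have h2 : uoOf (Lifts.restr r c (r ≫ x) rfl) = ro ≫ uoOf c := by
    ext1
    exact Category.assoc _ _ _
  unfold Corr
  rw [h1, h2, Functor.map_comp, Functor.map_comp, Category.assoc, Category.assoc, h]

lemma corr_φ {T : Scheme.{u}} (x₀ x₁ : T ⟶ X) (h : x₀ ≫ p = x₁ ≫ p)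
    (c : Lifts (Over.mk (pullback.fst p U.hom)) x₀) (v : Lifts D.obj x₀) (hcv : Corr e x₀ c v) :
    Corr e x₁ (canMap p U x₀ x₁ h c) (D.φ x₀ x₁ h v) := by
  let ι : To p x₁ ⟶ To p x₀ := Over.homMk (𝟙 T) (by
    change 𝟙 T ≫ x₀ ≫ p = x₁ ≫ p
    rw [Category.id_comp, h])
  have h1 : uoOf (canMap p U x₀ x₁ h c) = ι ≫ uoOf c := by
    ext1
    change (canMap p U x₀ x₁ h c).1 ≫ pullback.snd p U.hom = 𝟙 T ≫ c.1 ≫ pullback.snd p U.hom
    rw [canMap_val, pullback.lift_snd, Category.id_comp]
  have h2 : voOf (D.φ x₀ x₁ h v) = actPt (xo p x₁) (ι ≫ voOf v) := by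
    ext1
    refine φ_eq_actPt (xo p x₁) (ι ≫ voOf v) x₀ ?_ h v ?_
    · change x₀ = (𝟙 T ≫ v.1) ≫ D.obj.hom
      rw [Category.id_comp, v.2]
    · change v.1 = 𝟙 T ≫ v.1
      rw [Category.id_comp]
  unfold Corr
  rw [h2, actPt_π, h1, Functor.map_comp, Functor.map_comp, Category.assoc, Category.assoc, hcv]

/-- the isomorphism on points. -/
noncomputable def ptIso : PtIso ((SchDDFam.ofSchDD.{0} p).obj ((toDD p).obj U))
    ((SchDDFam.ofSchDD.{0} p).obj D) where
  e _ _ x := eqv e x
  nat := by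
    intro T T' r _ x y hy c c' hc
    subst hy
    have hc' : c' = Lifts.restr r c (r ≫ x) rfl := Subtype.ext hc
    subst hc'
    have := corr_unique_v e (r ≫ x) _ _ _ (corr_eqv e (r ≫ x) _)
      (corr_restr e r x c _ (corr_eqv e x c))
    exact congrArg Subtype.val this
  compat := by
    intro T _ _ x₀ x₁ h c
    exact corr_unique_v e x₁ _ _ _ (corr_φ e x₀ x₁ h c _ (corr_eqv e x₀ c)) (corr_eqv e x₁ _)

end Iso

/-- **Effectivity of descent data for separated, locally quasi-finite morphisms** along a flat,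
surjective, locally finitely presented morphism. -/
theorem effective [Flat p] [Surjective p] [LocallyOfFinitePresentation p]
    [IsSeparated D.obj.hom] [LocallyQuasiFinite D.obj.hom] [LocallyOfFiniteType D.obj.hom] :
    ∃ U : Over S, Nonempty ((Desc.toDD p).obj U ≅ D) := by
  obtain ⟨U, ⟨e⟩⟩ := exists_rep D
  exact ⟨U, ⟨(SchDDFam.toSchDD.{0} p).mapIso (ptIso e).iso⟩⟩

end Groth.Agent.R2.H59.DescSLQF
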