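-- helper59: descent of flatness along a flat surjective morphism on the source (rings, schemes),
-- and surjectivity of the scheme morphism in a good chart square of a surjective functor.
import Mathlib
import Groth.Agent.Lib.Helper15GoodComp
import Groth.Agent.R2.H59FppfCover

set_option autoImplicit false
open CategoryTheory CategoryTheory.Functor CategoryTheory.Limits Opposite AlgebraicGeometry

universe u

namespace Groth.Agent.R2.H59.FlatDesc

section Rings

open TensorProduct Module

/-- If `T` is faithfully flat over `S` and flat over `R`, then `S` is flat over `R`. -/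
theorem flat_of_flat_of_faithfullyFlat (R S T : Type u) [CommRing R] [CommRing S] [CommRing T]
    [Algebra R S] [Algebra S T] [Algebra R T] [IsScalarTower R S T] [Module.Flat R T]
    [Module.FaithfullyFlat S T] : Module.Flat R S := by
  rw [Module.Flat.iff_lTensor_preserves_injective_linearMap]
  intro N N' _ _ _ _ f hf
  rw [← AlgebraTensorModule.coe_lTensor (A := S)]
  rw [← Module.FaithfullyFlat.lTensor_injective_iff_injective S T]
  have key := AlgebraTensorModule.lTensor_comp_cancelBaseChange (R := R) (A := S) (B := T) (M := T) f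
  have h1 : Function.Injective (AlgebraTensorModule.lTensor T T f) := by
    rw [AlgebraTensorModule.coe_lTensor]
    exact Module.Flat.lTensor_preserves_injective_linearMap _ hf
  have h2 : Function.Injective
      ((AlgebraTensorModule.lTensor T T f) ∘ₗ
        (AlgebraTensorModule.cancelBaseChange R S T T N).toLinearMap) := by
    rw [LinearMap.coe_comp]
    exact h1.comp (AlgebraTensorModule.cancelBaseChange R S T T N).injective
  rw [key] at h2
  rw [LinearMap.coe_comp] at h2
  have h3 := Function.Injective.of_comp_iff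
    (AlgebraTensorModule.cancelBaseChange R S T T N').injective
    (AlgebraTensorModule.lTensor T T (AlgebraTensorModule.lTensor S S f))
  exact (h3.1 h2)

theorem ringHom_flat_of_comp_of_isLocalHom {A B C : Type u} [CommRing A] [CommRing B] [CommRing C]
    [IsLocalRing B] [IsLocalRing C] (f : A →+* B) (g : B →+* C) [IsLocalHom g] (hg : g.Flat)
    (hgf : (g.comp f).Flat) : f.Flat := by
  algebraize [f, g, g.comp f]
  have : Module.FaithfullyFlat B C := Module.FaithfullyFlat.of_flat_of_isLocalHom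
  exact flat_of_flat_of_faithfullyFlat A B C

end Rings

section Schemes

/-- Flatness descends along a flat surjective morphism on the source. -/
theorem flat_of_comp_of_surjective {X Y Z : Scheme.{u}} (f : X ⟶ Y) (g : Y ⟶ Z)
    [Flat f] (hs : Function.Surjective f) [Flat (f ≫ g)] : Flat g := by
  rw [Flat.iff_flat_stalkMap]
  intro y
  obtain ⟨x, rfl⟩ := hs y
  have h1 : ((f ≫ g).stalkMap x).hom.Flat := Flat.stalkMap (f ≫ g) x
  have h2 : (f.stalkMap x).hom.Flat := Flat.stalkMap f x
  rw [Scheme.Hom.stalkMap_comp] at h1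
  exact ringHom_flat_of_comp_of_isLocalHom (g.stalkMap (f x)).hom (f.stalkMap x).hom h2 h1

end Schemes

section Surj

open Groth.Agent.Lib.Helper17 Groth.Agent.Lib.Helper15PshFib Groth.Agent.Lib.Helper15RepComp
  Groth.Agent.Lib.Helper15RepPsh Groth.Agent.Lib.Helper15DiagBase Groth.Agent.Lib.Helper15DiagRepSp
  Groth.Agent.Lib.Helper15Descent Groth.Agent.Lib.Helper15DiagLft
  Groth.Agent.Lib.Helper15DiagDescent Groth.Agent.Lib.Helper15SpMapRep
  Groth.Agent.Lib.Helper15SrcCancel Groth.Agent.Lib.Helper15ChartSp Groth.Agent.Lib.Helper15Atlas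
  Groth.Agent.Lib.Helper15LocEss Groth.Agent.Lib.Helper15UnivComp Groth.Agent.Lib.Helper15SmLoc
  Groth.Agent.Lib.Helper15PtsComp Groth.Agent.Lib.Helper15PtsTop Groth.Agent.Lib.Helper15PtsQc
  Groth.Agent.Lib.Helper15FpSwap Groth.Agent.Lib.Helper15QcLocal Groth.Agent.Lib.Helper15ClosedQc
  Groth.Agent.Lib.Helper15LocQEngine Groth.Agent.Lib.Helper15LocQProps
  Groth.Agent.Lib.Helper15LocQComp Groth.Agent.Lib.Helper15GoodComp

variable {S : Scheme.{u}} {𝒳 𝒴 𝒵 : AlgSt.Cat S}

theorem surjective_left_of_isSurjective_overMap {U V : Over S} (h : U ⟶ V)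
    (hs : AlgSt.IsSurjective (AlgSt.overMap h)) : Function.Surjective h.left := by
  intro v
  obtain ⟨ξ, hξ⟩ := hs (ptOver V v)
  obtain ⟨u, rfl⟩ := (ptOver_bijective U).2 ξ
  rw [ptOver_map] at hξ
  exact ⟨u, (ptOver_bijective V).1 hξ⟩

/-- The second projection of a 2-fibre product whose first leg is surjective is surjective. -/
theorem isSurjective_fpSnd (h𝒳 : AlgSt.IsAlgStack Scheme.fppfPrecoverage 𝒳)
    (h𝒴 : AlgSt.IsAlgStack Scheme.fppfPrecoverage 𝒴)
    (h𝒵 : AlgSt.IsAlgStack Scheme.fppfPrecoverage 𝒵) (f : 𝒳 ⥤ᵇ 𝒴) (g : 𝒵 ⥤ᵇ 𝒴)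
    (hf : AlgSt.IsSurjective f) : AlgSt.IsSurjective (FibCat.fpSnd f g) := by
  have h1 : AlgSt.IsSurjective (BasedFunctor.comp (fpSwap f g) (FibCat.fpFst g f)) :=
    isSurjective_comp _ _ (isSurjective_of_isEquivOver _ (isEquivOver_fpSwap f g))
      (Groth.Agent.S12825.result h𝒳 h𝒴 h𝒵 f g hf)
  exact h1

/-- In a chart square of a surjective functor whose source chart is surjective onto the base
change of the target chart, the morphism of schemes is surjective. -/
theorem surjective_left_of_good_square (h𝒳 : AlgSt.IsAlgStack Scheme.fppfPrecoverage 𝒳)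
    (h𝒴 : AlgSt.IsAlgStack Scheme.fppfPrecoverage 𝒴) (f : 𝒳 ⥤ᵇ 𝒴) (hf : AlgSt.IsSurjective f)
    {U V : Over S} (x : FibCat.overCat U ⥤ᵇ 𝒳) (y : FibCat.overCat V ⥤ᵇ 𝒴) (h : U ⟶ V)
    (α : BasedFunctor.comp x f ≅ BasedFunctor.comp (AlgSt.overMap h) y)
    (hℓ : AlgSt.RepByAlgSpWith AlgSp.IsSurjectiveMor (FibCat.fpLift x (AlgSt.overMap h) α)) :
    Function.Surjective h.left := by
  have hV := isAlgStack_overCat V
  have hU := isAlgStack_overCat U
  have hpre𝒴 := IsStack.isPrestack _ h𝒴.isStack
  have hZ : AlgSt.IsAlgStack Scheme.fppfPrecoverage (FibCat.fp f y) :=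
    isAlgStack_fp_of_isPrestack hpre𝒴 h𝒴.diag h𝒳 hV f y
  have hℓs : AlgSt.IsSurjective (FibCat.fpLift x (AlgSt.overMap h) α) :=
    (isSurjective_iff_repByAlgSpWith hU hZ _ (repByAlgSp1_of_repByAlgSpWith _ _ hℓ)).2 hℓ
  have hsnd : AlgSt.IsSurjective (FibCat.fpSnd f y) := isSurjective_fpSnd h𝒳 h𝒴 hV f y hf
  have h1 : AlgSt.IsSurjective
      (BasedFunctor.comp (FibCat.fpLift x (AlgSt.overMap h) α) (FibCat.fpSnd f y)) :=
    isSurjective_comp _ _ hℓs hsnd
  exact surjective_left_of_isSurjective_overMap h h1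

end Surj

end Groth.Agent.R2.H59.FlatDesc
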