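import Groth.Agent.R2.H59StackSp
import Groth.Agent.Lib.Helper15Atlas
import Groth.Agent.S12763
import Groth.Agent.S12776
import Groth.Agent.Lib.Helper17FibDiag
import Groth.Agent.Lib.Helper17FibFF
import Groth.Agent.Lib.Helper17FibInertia2
import Groth.Agent.Lib.Helper17FibSetoid
import Groth.Agent.S12774
import Groth.Agent.S12787
import Groth.Agent.S6405

/-!
# Faithful morphisms of algebraic stacks are representable by algebraic spaces (helper59)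
-/

set_option autoImplicit false
set_option backward.isDefEq.respectTransparency false
set_option backward.isDefEq.respectTransparency.types false
set_option linter.style.haveILetI false
set_option linter.unusedSectionVars false

universe u

open CategoryTheory CategoryTheory.Functor CategoryTheory.Limits AlgebraicGeometry Opposite

namespace Groth.Agent.R2.H59.StackSp

open AlgSp AlgSt Groth.Agent.Lib.Helper17 Groth.Agent.Lib.Helper15PshFib
  Groth.Agent.Lib.Helper15RepComp Groth.Agent.Lib.Helper15RepPsh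

variable {S : Scheme.{u}}

/-- **A faithful morphism of algebraic stacks is representable by algebraic spaces.** -/
theorem repByAlgSp1_of_faithful {𝒳 𝒴 : AlgSt.Cat S}
    (h𝒳 : AlgSt.IsAlgStack Scheme.fppfPrecoverage 𝒳)
    (h𝒴 : AlgSt.IsAlgStack Scheme.fppfPrecoverage 𝒴) (f : 𝒳 ⥤ᵇ 𝒴) [f.toFunctor.Faithful] :
    AlgSt.RepByAlgSp1 f := by
  intro U y
  have hU : AlgSt.IsAlgStack Scheme.fppfPrecoverage (FibCat.overCat U) :=
    (Groth.Agent.Lib.Helper15Atlas.isDM_of_repByAlgSp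
      (Groth.Agent.Lib.Helper15DiagRepSp.repByAlgSp_overCat U)).1
  have h1 : AlgSt.IsAlgStack Scheme.fppfPrecoverage (FibCat.fp y f) :=
    Groth.Agent.S12763.result h𝒴.isStack h𝒴.diag hU h𝒳 y f
  have h2 : FibCat.IsFibSetoid (FibCat.fp y f).p :=
    isFibSetoid_fp_left y f ⟨(isFibSet_overForget U).1,
      fun V a b => ((isFibSet_overForget U).2 V).subsingleton a b⟩ h𝒳.isStack.1 h𝒴.isStack.1
  exact repByAlgSp_of_isFibSetoid h1 h2

section General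

variable {C : Type*} [Category C] {𝒳 𝒴 : BasedCategory C}

/-- For categories fibred in groupoids, a functor over the base is faithful iff no nontrivial
automorphism over an identity is sent to an identity. -/
theorem faithful_iff_trivial_kernel (h𝒳 : FibCat.IsFibGrpd 𝒳.p) (h𝒴 : FibCat.IsFibGrpd 𝒴.p)
    (f : 𝒳 ⥤ᵇ 𝒴) :
    f.toFunctor.Faithful ↔
      ∀ (a : 𝒳.obj) (φ : a ⟶ a), 𝒳.p.map φ = 𝟙 (𝒳.p.obj a) → f.map φ = 𝟙 (f.obj a) → φ = 𝟙 a := by
  constructor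
  · intro hf a φ _ h2
    apply f.toFunctor.map_injective
    exact h2.trans (f.map_id a).symm
  · intro h
    apply faithful_of_fiberwise f (hasGoodLifts_of_isFibGrpd f h𝒳 h𝒴)
    intro U a a' χ₁ χ₂ h1 h2 he
    haveI := h1
    haveI := h2
    have hiso2 : IsIso χ₂ := IsFibGrpd.isIso_of_isHomLift_id h𝒳 U χ₂
    have hφ : 𝒳.p.IsHomLift (𝟙 U) (χ₁ ≫ inv χ₂) := inferInstance
    have hφ' : 𝒳.p.IsHomLift (𝟙 (𝒳.p.obj a)) (χ₁ ≫ inv χ₂) :=
      isHomLift_id_of_eq 𝒳.p (IsHomLift.domain_eq 𝒳.p (𝟙 U) χ₁).symm (χ₁ ≫ inv χ₂)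
    have e1 : 𝒳.p.map (χ₁ ≫ inv χ₂) = 𝟙 (𝒳.p.obj a) :=
      (IsHomLift.eq_of_isHomLift 𝒳.p (𝟙 (𝒳.p.obj a)) (χ₁ ≫ inv χ₂)).symm
    have e2 : f.map (χ₁ ≫ inv χ₂) = 𝟙 (f.obj a) := by
      rw [f.map_comp, he, ← f.map_comp, IsIso.hom_inv_id, f.map_id]
    have e3 := h a (χ₁ ≫ inv χ₂) e1 e2
    rw [← Category.comp_id χ₁, ← IsIso.inv_hom_id χ₂, ← Category.assoc, e3, Category.id_comp]

/-- The relative inertia maps equivalently to the source iff the functor is faithful. -/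
theorem isEquivOver_inertiaToBase_iff_faithful (h𝒳 : FibCat.IsFibGrpd 𝒳.p)
    (h𝒴 : FibCat.IsFibGrpd 𝒴.p) (f : 𝒳 ⥤ᵇ 𝒴) :
    FibCat.IsEquivOver (FibCat.inertiaToBase f) ↔ f.toFunctor.Faithful := by
  rw [faithful_iff_trivial_kernel h𝒳 h𝒴 f]
  constructor
  · intro h a φ h1 h2
    have hequiv := IsEquivOver.isEquivalence _ h
    haveI hφl : 𝒳.p.IsHomLift (𝟙 (𝒳.p.obj a)) φ := by
      rw [← h1]
      infer_instance
    have hiso : IsIso φ := IsFibGrpd.isIso_of_isHomLift_id h𝒳 (𝒳.p.obj a) φ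
    let X₁ : FibCat.InertiaObj f := ⟨a, asIso φ, h2⟩
    let X₂ : FibCat.InertiaObj f := ⟨a, Iso.refl a, f.map_id a⟩
    obtain ⟨m, hm⟩ := (FibCat.inertiaToBase f).toFunctor.map_surjective (X := X₁) (Y := X₂) (𝟙 a)
    have hm' : m.hom = 𝟙 a := hm
    have hc : φ ≫ m.hom = m.hom ≫ 𝟙 a := m.comm
    rw [hm', Category.comp_id, Category.comp_id] at hc
    exact hc
  · intro h
    rw [isEquivOver_iff_fullyFaithful_and_essSurjOver]
    refine ⟨⟨⟨fun {x y} m => ?_⟩, ⟨fun {x y} m m' hmm => ?_⟩⟩, fun a => ?_⟩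
    · have hx : x.aut.hom = 𝟙 x.pt := by
        refine h x.pt x.aut.hom ?_ x.map_aut
        haveI := inertia_aut_isHomLift f x
        exact (IsHomLift.eq_of_isHomLift 𝒳.p (𝟙 (𝒳.p.obj x.pt)) x.aut.hom).symm
      have hy : y.aut.hom = 𝟙 y.pt := by
        refine h y.pt y.aut.hom ?_ y.map_aut
        haveI := inertia_aut_isHomLift f y
        exact (IsHomLift.eq_of_isHomLift 𝒳.p (𝟙 (𝒳.p.obj y.pt)) y.aut.hom).symm
      refine ⟨⟨m, ?_⟩, rfl⟩
      rw [hx, hy, Category.id_comp, Category.comp_id]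
    · exact FibCat.InertiaObj.Hom.ext hmm
    · refine ⟨⟨a, Iso.refl a, f.map_id a⟩, Iso.refl _, ?_⟩
      change 𝒳.p.IsHomLift (𝟙 (𝒳.p.obj a)) (𝟙 a)
      infer_instance

end General

/-- `faithful ↔ representable by algebraic spaces` for morphisms of algebraic stacks. -/
theorem faithful_iff_repByAlgSp1 {𝒳 𝒴 : AlgSt.Cat S}
    (h𝒳 : AlgSt.IsAlgStack Scheme.fppfPrecoverage 𝒳)
    (h𝒴 : AlgSt.IsAlgStack Scheme.fppfPrecoverage 𝒴) (f : 𝒳 ⥤ᵇ 𝒴) :
    f.toFunctor.Faithful ↔ AlgSt.RepByAlgSp1 f :=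
  ⟨fun _ => repByAlgSp1_of_faithful h𝒳 h𝒴 f,
    fun hf => Groth.Agent.S12776.result h𝒳.isStack.1 h𝒴.isStack.1 f hf⟩

/-- second diagonal -/
theorem repByAlgSp1_iff_isEquivOver_diag_diag {𝒳 𝒴 : AlgSt.Cat S}
    (h𝒳 : AlgSt.IsAlgStack Scheme.fppfPrecoverage 𝒳)
    (h𝒴 : AlgSt.IsAlgStack Scheme.fppfPrecoverage 𝒴) (f : 𝒳 ⥤ᵇ 𝒴) :
    AlgSt.RepByAlgSp1 f ↔ FibCat.IsEquivOver (FibCat.diag (FibCat.diag f)) := by
  rw [← faithful_iff_repByAlgSp1 h𝒳 h𝒴 f,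
    ← fullyFaithful_iff_isEquivOver_diag (FibCat.diag f) h𝒳.isStack.1
      (isFibGrpd_fp f f h𝒳.isStack.1 h𝒳.isStack.1 h𝒴.isStack.1)]
  constructor
  · intro hf
    exact ⟨diag_full f, diag_faithful f⟩
  · rintro ⟨hfull, -⟩
    exact faithful_of_diag_full f

/-- mono diagonal -/
theorem repByAlgSp1_of_isMono_diag {𝒳 𝒴 : AlgSt.Cat S}
    (h𝒳 : AlgSt.IsAlgStack Scheme.fppfPrecoverage 𝒳)
    (h𝒴 : AlgSt.IsAlgStack Scheme.fppfPrecoverage 𝒴) (f : 𝒳 ⥤ᵇ 𝒴)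
    (h : AlgSt.IsMono (FibCat.diag f)) : AlgSt.RepByAlgSp1 f := by
  rw [← faithful_iff_repByAlgSp1 h𝒳 h𝒴 f]
  obtain ⟨hfull, -⟩ := Groth.Agent.S12774.result h𝒳.isStack.1
    (isFibGrpd_fp f f h𝒳.isStack.1 h𝒳.isStack.1 h𝒴.isStack.1) (FibCat.diag f) h
  exact faithful_of_diag_full f

/-- absolute inertia -/
theorem isEquivOver_inertiaToBase_iff_repByAlgSp {𝒳 : AlgSt.Cat S}
    (h𝒳 : AlgSt.IsAlgStack Scheme.fppfPrecoverage 𝒳) :
    FibCat.IsEquivOver (FibCat.inertiaToBase (FibCat.toSelf 𝒳)) ↔ AlgSt.RepByAlgSp 𝒳 := by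
  constructor
  · intro h
    exact repByAlgSp_of_isFibSetoid h𝒳 (Groth.Agent.S6405.result h𝒳.isStack.1 h)
  · intro hr
    have hs : FibCat.IsFibSetoid 𝒳.p := Groth.Agent.S12787.result h𝒳.isStack.1 hr
    rw [isEquivOver_inertiaToBase_iff_faithful h𝒳.isStack.1 (isFibGrpd_selfOver _),
      faithful_iff_trivial_kernel h𝒳.isStack.1 (isFibGrpd_selfOver _)]
    intro a φ h1 _
    haveI : 𝒳.p.IsHomLift (𝟙 (𝒳.p.obj a)) φ := by
      rw [← h1]
      infer_instance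
    exact IsFibSetoid.hom_ext hs (𝟙 (𝒳.p.obj a)) φ (𝟙 a)

end Groth.Agent.R2.H59.StackSp
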