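-- helper83: monomorphisms of algebraic spaces are fpqc local on the base.
import Mathlib
import Groth.Agent.Lib.Helper12BaseLocal
import Groth.Agent.Lib.Helper15RepComp2
import Groth.Agent.Lib.Helper12MonoFactor

set_option autoImplicit false
set_option linter.style.haveILetI false
universe u
open CategoryTheory CategoryTheory.Limits AlgebraicGeometry Opposite
open AlgSp

namespace Groth.Agent.R2.H83.MonoFpqc

open Groth.Agent.S13210 Groth.Agent.Lib.Helper12.ZarGlue Groth.Agent.Lib.Helper12.BaseLocal
  MorphismProperty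

variable {S : Scheme.{u}}

/-- Two `T`-points of an algebraic space `X` agree as soon as they agree after restriction along
every member of a family of morphisms to `T` which, Zariski locally on `T`, contains standard fpqc
coverings. -/
theorem eq_of_forall_standard_fpqc {X : AlgSp.Sp S} (hX : AlgSp.IsAlgSpace X) {T : Over S}
    (a a' : (AlgSp.yon S).obj T ⟶ X)
    (H : ∀ (Z : Over S) (ζ : Z ⟶ T), IsAffine Z.left →
      ∃ (m : ℕ) (W : Fin m → Over S) (c : ∀ j, W j ⟶ Z),
        (∀ j, IsAffine (W j).left) ∧ (∀ j, Flat (c j).left) ∧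
        (∀ z : ↥Z.left, ∃ j, z ∈ Set.range (c j).left) ∧
        ∀ j, (AlgSp.yon S).map (c j ≫ ζ) ≫ a = (AlgSp.yon S).map (c j ≫ ζ) ≫ a') :
    a = a' := by
  -- the equaliser of `a` and `a'`
  obtain ⟨E₀, ε, e', sqE⟩ := hX.diag (prod.lift a a')
  have he1 : e' = (AlgSp.yon S).map ε ≫ a := by
    have h := congrArg (· ≫ (prod.fst : X ⨯ X ⟶ X)) sqE.w
    simp only [Category.assoc, Limits.diag, prod.lift_fst, Category.comp_id] at h
    exact h
  have he2 : e' = (AlgSp.yon S).map ε ≫ a' := by
    have h := congrArg (· ≫ (prod.snd : X ⨯ X ⟶ X)) sqE.w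
    simp only [Category.assoc, Limits.diag, prod.lift_snd, Category.comp_id] at h
    exact h
  -- `ε` is a monomorphism
  haveI : Mono (Limits.diag X) := inferInstance
  haveI hmε' : Mono ((AlgSp.yon S).map ε) := sqE.mono_snd_of_mono
  haveI hmε : Mono ε := (AlgSp.yon S).mono_of_mono_map hmε'
  haveI : Mono ε.left := inferInstance
  -- morphisms equalising `a` and `a'` factor through `ε`
  have hfac : ∀ {R : Over S} (r : R ⟶ T),
      (AlgSp.yon S).map r ≫ a = (AlgSp.yon S).map r ≫ a' → ∃ σ : R ⟶ E₀, σ ≫ ε = r := by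
    intro R r hr
    have hw : ((AlgSp.yon S).map r ≫ a) ≫ Limits.diag X = (AlgSp.yon S).map r ≫ prod.lift a a' := by
      apply Limits.prod.hom_ext
      · simp only [Category.assoc, Limits.diag, prod.lift_fst, Category.comp_id]
      · simp only [Category.assoc, Limits.diag, prod.lift_snd, Category.comp_id]
        exact hr
    obtain ⟨u, -, hu2⟩ := sqE.exists_lift _ _ hw
    refine ⟨(AlgSp.yon S).preimage u, (AlgSp.yon S).map_injective ?_⟩
    rw [Functor.map_comp, Functor.map_preimage, hu2]
  -- it suffices to show that `ε` is an isomorphism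
  suffices hiso : IsIso ε.left by
    haveI : IsIso ε := by
      have : IsIso ((Over.forget S).map ε) := hiso
      exact isIso_of_reflects_iso ε (Over.forget S)
    haveI : IsIso ((AlgSp.yon S).map ε) := inferInstance
    rw [← cancel_epi ((AlgSp.yon S).map ε), ← he1, ← he2]
  show (MorphismProperty.isomorphisms Scheme.{u}) ε.left
  rw [IsZariskiLocalAtTarget.iff_of_openCover (P := MorphismProperty.isomorphisms Scheme.{u})
    T.left.affineCover]
  intro k
  obtain ⟨ζ, hζ⟩ : ∃ ζ : T.left.affineCover.X k ⟶ T.left, ζ = T.left.affineCover.f k := ⟨_, rfl⟩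
  show (MorphismProperty.isomorphisms Scheme.{u}) (pullback.snd ε.left (T.left.affineCover.f k))
  rw [← hζ]
  let Zo : Over S := Over.mk (ζ ≫ T.hom)
  let ζ' : Zo ⟶ T := Over.homMk ζ rfl
  have hZa : IsAffine Zo.left := by
    show IsAffine (T.left.affineCover.X k)
    infer_instance
  obtain ⟨m, W, c, hWa, hcfl, hcs, hc⟩ := H Zo ζ' hZa
  haveI : IsAffine (T.left.affineCover.X k) := hZa
  refine of_standard_fpqc (MorphismProperty.isomorphisms Scheme.{u}) (pullback.snd ε.left ζ)
    (fun j => (W j).left) (fun j => (c j).left) hWa hcfl hcs (fun j => ?_)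
  obtain ⟨σ, hσ⟩ := hfac (c j ≫ ζ') (hc j)
  refine ⟨pullback (pullback.snd ε.left ζ) (c j).left, pullback.fst _ _, pullback.snd _ _,
    IsPullback.of_hasPullback _ _, ?_⟩
  show IsIso (pullback.snd (pullback.snd ε.left ζ) (c j).left)
  -- a monomorphism with a section
  haveI : Mono (pullback.snd (pullback.snd ε.left ζ) (c j).left) := inferInstance
  have hσl : σ.left ≫ ε.left = (c j).left ≫ ζ := by
    have := congrArg (fun φ => φ.left) hσ
    exact this
  let τ : (W j).left ⟶ pullback (pullback.snd ε.left ζ) (c j).left :=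
    pullback.lift (pullback.lift σ.left (c j).left hσl) (𝟙 _)
      (by rw [pullback.lift_snd, Category.id_comp])
  have hτ : τ ≫ pullback.snd (pullback.snd ε.left ζ) (c j).left = 𝟙 _ := pullback.lift_snd _ _ _
  haveI : IsSplitEpi (pullback.snd (pullback.snd ε.left ζ) (c j).left) := ⟨⟨τ, hτ⟩⟩
  exact isIso_of_mono_of_isSplitEpi _

open Groth.Agent.Lib.Helper15RepComp in
/-- Monomorphisms of algebraic spaces are fpqc local on the base. -/
theorem isLocalOnBase_fpqc_mono (S : Scheme.{u}) :
    AlgSp.IsLocalOnBase (AlgSp.IsFpqcCover (S := S))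
      (MorphismProperty.monomorphisms (AlgSp.Sp S)) := by
  intro ι Y Yi g hY hYi hcov X f hX Xi p q hXi sq
  constructor
  · intro hf i
    haveI : Mono f := hf
    exact (sq i).mono_snd_of_mono
  · intro H
    have hmono : ∀ i, Mono (p i) := H
    show Mono f
    rw [sp_mono_iff_injective]
    intro T s s' hss'
    have haa : (yEquiv T.unop X).symm s ≫ f = (yEquiv T.unop X).symm s' ≫ f := by
      rw [yEquiv_symm_comp, yEquiv_symm_comp]
      exact congrArg _ hss'
    have key : (yEquiv T.unop X).symm s = (yEquiv T.unop X).symm s' := by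
      refine eq_of_forall_standard_fpqc hX _ _ (fun Z ζ hZ => ?_)
      obtain ⟨m, W, c, hWa, hcfl, hcs, hl⟩ :=
        hcov.2 Z hZ ((AlgSp.yon S).map ζ ≫ (yEquiv T.unop X).symm s ≫ f)
      refine ⟨m, W, c, hWa, hcfl, hcs, fun j => ?_⟩
      obtain ⟨i, l, hl⟩ := hl j
      have hb : ((AlgSp.yon S).map (c j ≫ ζ) ≫ (yEquiv T.unop X).symm s) ≫ f = l ≫ g i := by
        rw [hl, Functor.map_comp, Category.assoc, Category.assoc]
      have hb' : ((AlgSp.yon S).map (c j ≫ ζ) ≫ (yEquiv T.unop X).symm s') ≫ f = l ≫ g i := by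
        rw [hl, Functor.map_comp, Category.assoc, Category.assoc, ← haa]
      obtain ⟨β, hβ1, hβ2⟩ := (sq i).exists_lift _ l hb
      obtain ⟨β', hβ1', hβ2'⟩ := (sq i).exists_lift _ l hb'
      haveI := hmono i
      have hββ : β = β' := (cancel_mono (p i)).1 (hβ2.trans hβ2'.symm)
      rw [← hβ1, ← hβ1', hββ]
    exact (yEquiv T.unop X).symm.injective key

end Groth.Agent.R2.H83.MonoFpqc
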