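import Groth.Agent.R2.H59StackBoot
import Groth.Agent.R2.H59StackSp2
import Groth.Agent.Lib.Helper15Descent
import Groth.Agent.Lib.Helper15SmLoc
import Groth.Agent.Lib.Helper17StkLoc2
import Groth.Agent.Lib.Helper17StkLoc3
import Groth.Agent.Lib.Helper17FibYoneda
import Groth.Agent.Lib.Helper9QuotSh
import Groth.Agent.Lib.Helper17FibSetoid
import Groth.Agent.S12787
import Groth.Agent.Lib.Helper15DiagDescent
import Groth.Agent.Lib.Helper15SpMapRep
import Groth.Agent.Lib.Helper17MonoFF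
import Groth.Agent.Lib.Helper15DiagBase
import Groth.Agent.Lib.Helper15RepComp2
import Groth.Agent.S10546

/-!
# Flat covers of algebraic stacks: local liftings and consequences (helper59)
-/

set_option autoImplicit false
set_option backward.isDefEq.respectTransparency false
set_option backward.isDefEq.respectTransparency.types false
set_option linter.style.haveILetI false
set_option linter.unusedSectionVars false

universe u

open CategoryTheory CategoryTheory.Functor CategoryTheory.Limits AlgebraicGeometry Opposite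

namespace Groth.Agent.R2.H59.StackBoot

open AlgSp AlgSt Groth.Agent.Lib.Helper17 Groth.Agent.Lib.Helper15PshFib
  Groth.Agent.Lib.Helper15RepComp Groth.Agent.Lib.Helper15RepPsh Groth.Agent.R2.H59.StackSp
  Groth.Agent.Lib.Helper15DiagRepSp Groth.Agent.Lib.Helper15Atlas Groth.Agent.Lib.Helper15Descent
  Groth.Agent.Lib.Helper15DiagDescent Groth.Agent.Lib.Helper15DiagBase

variable {S : Scheme.{u}}

/-- Objects of the target of a flat, locally finitely presented, surjective functor representable by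
algebraic spaces lift fppf locally. -/
theorem locally_lifts_of_cover {𝒵 𝒴 : AlgSt.Cat S} (h𝒴 : FibCat.IsFibGrpd 𝒴.p) (z : 𝒵 ⥤ᵇ 𝒴)
    (hz₁ : AlgSt.RepByAlgSpWith (AlgSp.LocP @Flat) z)
    (hz₂ : AlgSt.RepByAlgSpWith (AlgSp.LocP @LocallyOfFinitePresentation) z)
    (hz₃ : AlgSt.RepByAlgSpWith AlgSp.IsSurjectiveMor z) (y : 𝒴.obj) :
    ∃ R ∈ QuotSh.J Scheme.fppfPrecoverage S (𝒴.p.obj y),
      ∀ ⦃V : Over S⦄ (f : V ⟶ 𝒴.p.obj y), R f →
        ∃ (x : 𝒵.obj) (φ : z.obj x ⟶ y), 𝒴.p.IsHomLift f φ := by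
  have := IsFibGrpd.isFibered h𝒴
  obtain ⟨e₀, he₀⟩ := yonedaFunctor_iso (𝒳 := 𝒴) (rfl : 𝒴.p.obj y = 𝒴.p.obj y)
  obtain ⟨V, v, t, ⟨κ⟩, hcov⟩ := exists_scheme_cover z hz₁ hz₂ hz₃
    (yonedaFunctor (𝒳 := 𝒴) (rfl : 𝒴.p.obj y = 𝒴.p.obj y))
  have hfl : Flat v.left := AlgSp.locP_yon_map (hcov.1 PUnit.unit).1
  have hlfp : LocallyOfFinitePresentation v.left := AlgSp.locP_yon_map (hcov.1 PUnit.unit).2
  have hsurj : Surjective v.left :=
    ⟨Groth.Agent.Lib.Helper15SmLoc.surjective_of_isSurjectiveMor_yon_map v (fun x => by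
      obtain ⟨_, x', hx'⟩ := hcov.2 x
      exact ⟨x', hx'⟩)⟩
  refine ⟨Sieve.generate (Presieve.singleton v),
    Groth.Agent.Lib.Helper9.generate_singleton_mem_J_fppf v, ?_⟩
  rintro V' f ⟨W, g, _, ⟨⟩, rfl⟩
  let c : Over V := Over.mk g
  have h1 : 𝒴.p.IsHomLift (𝟙 V') (bApp κ c).hom := bApp_isHomLift κ c
  have h2 : 𝒴.p.IsHomLift (g ≫ v)
      ((yonedaFunctor (𝒳 := 𝒴) (rfl : 𝒴.p.obj y = 𝒴.p.obj y)).map
        (overTerm (𝒴.p.obj y) ((AlgSt.overMap v).obj c))) := by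
    have h0 : (FibCat.overCat (𝒴.p.obj y)).p.IsHomLift (g ≫ v)
        (overTerm (𝒴.p.obj y) ((AlgSt.overMap v).obj c)) :=
      overTerm_isHomLift (𝒴.p.obj y) ((AlgSt.overMap v).obj c)
    infer_instance
  refine ⟨t.obj c, (bApp κ c).hom ≫ (yonedaFunctor (𝒳 := 𝒴) (rfl : 𝒴.p.obj y = 𝒴.p.obj y)).map
    (overTerm (𝒴.p.obj y) ((AlgSt.overMap v).obj c)) ≫ e₀.hom, ?_⟩
  infer_instance

section Gen

variable {C : Type*} [Category C] {𝒜 ℬ : BasedCategory C}

/-- Any functor over the base out of a category fibred in setoids is faithful. -/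
theorem faithful_of_isFibSetoid (hs : FibCat.IsFibSetoid 𝒜.p) (H : 𝒜 ⥤ᵇ ℬ) :
    H.toFunctor.Faithful := by
  refine ⟨fun {a b} m m' h => ?_⟩
  have e1 := Functor.congr_hom H.w.symm m
  have e2 := Functor.congr_hom H.w.symm m'
  have h1 : 𝒜.p.map m = 𝒜.p.map m' := by
    rw [e1, e2, Functor.comp_map, Functor.comp_map, h]
  haveI : 𝒜.p.IsHomLift (𝒜.p.map m) m' := by
    rw [h1]
    infer_instance
  exact IsFibSetoid.hom_ext hs (𝒜.p.map m) m m'

end Gen

/-- If the base change of `f` along a flat, locally finitely presented, surjective functor is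
representable by an algebraic space, then `f` is representable by algebraic spaces. -/
theorem repByAlgSp1_of_repByAlgSp_fp_cover {𝒳 𝒴 𝒵 : AlgSt.Cat S}
    (h𝒳 : AlgSt.IsAlgStack Scheme.fppfPrecoverage 𝒳)
    (h𝒴 : AlgSt.IsAlgStack Scheme.fppfPrecoverage 𝒴) (h𝒵 : FibCat.IsFibGrpd 𝒵.p)
    (f : 𝒳 ⥤ᵇ 𝒴) (z : 𝒵 ⥤ᵇ 𝒴)
    (hz₁ : AlgSt.RepByAlgSpWith (AlgSp.LocP @Flat) z)
    (hz₂ : AlgSt.RepByAlgSpWith (AlgSp.LocP @LocallyOfFinitePresentation) z)
    (hz₃ : AlgSt.RepByAlgSpWith AlgSp.IsSurjectiveMor z)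
    (h : AlgSt.RepByAlgSp (FibCat.fp z f)) : AlgSt.RepByAlgSp1 f := by
  rw [← faithful_iff_repByAlgSp1 h𝒳 h𝒴 f]
  have hs : FibCat.IsFibSetoid (FibCat.fp z f).p :=
    Groth.Agent.S12787.result (isFibGrpd_fp z f h𝒵 h𝒳.isStack.1 h𝒴.isStack.1) h
  exact faithful_of_faithful_fpFst _ h𝒴.isStack.1 (IsStack.isPrestack _ h𝒳.isStack) z f
    (locally_lifts_of_cover h𝒴.isStack.1 z hz₁ hz₂ hz₃) (faithful_of_isFibSetoid hs _)

/-- A full functor over the base between categories of presheaves is injective on sections. -/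
theorem injective_pshMapOf_of_full {P Q : AlgSp.PSp S} (Φ : Stk.ofPsh P ⥤ᵇ Stk.ofPsh Q)
    [Φ.toFunctor.Full] (T : Over S) : Function.Injective ((pshMapOf Φ).app (op T)) := by
  intro s s' h
  let c : (Stk.ofPsh P).obj := ⟨T, s⟩
  let c' : (Stk.ofPsh P).obj := ⟨T, s'⟩
  have hb : (Φ.obj c).base = T := pshBase Φ c
  have hb' : (Φ.obj c').base = T := pshBase Φ c'
  have h0 : Q.map (eqToHom hb.symm).op (Φ.obj c).sec = Q.map (eqToHom hb'.symm).op (Φ.obj c').sec := h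
  let k : Φ.obj c ⟶ Φ.obj c' := ⟨eqToHom hb ≫ eqToHom hb'.symm, by
    have h1 := congrArg (Q.map (eqToHom hb).op) h0
    rw [psh_map_op_map_op, psh_map_op_map_op] at h1
    rw [← h1]
    simp⟩
  obtain ⟨m, hm⟩ := Φ.toFunctor.map_surjective k
  have h5 : m.hom = 𝟙 T := by
    have h6 := pshHom Φ m
    rw [hm] at h6
    change eqToHom hb ≫ eqToHom hb'.symm = eqToHom hb ≫ m.hom ≫ eqToHom hb'.symm at h6
    have h7 := (cancel_mono (eqToHom hb'.symm)).1 ((cancel_epi (eqToHom hb)).1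
      (by simpa using h6 : eqToHom hb ≫ 𝟙 T ≫ eqToHom hb'.symm = eqToHom hb ≫ m.hom ≫ eqToHom hb'.symm))
    exact h7.symm
  have h8 := m.map_sec
  rw [h5] at h8
  exact ((psh_map_id_op P s').symm.trans h8).symm

/-- Monomorphisms of algebraic stacks can be tested after a flat, locally finitely presented,
surjective base change from an algebraic space. -/
theorem isMono_iff_of_cover {S : Scheme.{u}} {𝒳 𝒴 : AlgSt.Cat S}
    (h𝒳 : AlgSt.IsAlgStack Scheme.fppfPrecoverage 𝒳) (h𝒴 : AlgSt.IsAlgStack Scheme.fppfPrecoverage 𝒴)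
    (f : 𝒳 ⥤ᵇ 𝒴) (W : AlgSp.Space S) (w : AlgSt.ofSp W.obj ⥤ᵇ 𝒴)
    (hw₁ : AlgSt.RepByAlgSpWith (AlgSp.LocP @Flat) w)
    (hw₂ : AlgSt.RepByAlgSpWith (AlgSp.LocP @LocallyOfFinitePresentation) w)
    (hw₃ : AlgSt.RepByAlgSpWith AlgSp.IsSurjectiveMor w) :
    AlgSt.IsMono f ↔
      ∃ (V : AlgSp.Space S) (a : V ⟶ W) (e : AlgSt.ofSp V.obj ⥤ᵇ FibCat.fp w f),
        FibCat.IsEquivOver e ∧
          Nonempty (BasedFunctor.comp e (FibCat.fpFst w f) ≅ AlgSt.ofSpMap a.hom) ∧ Mono a.hom := by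
  have hWf : FibCat.IsFibGrpd (AlgSt.ofSp W.obj).p := (isFibSetoid_ofPsh W.obj.obj).1
  constructor
  · intro hf
    have hf1 : AlgSt.RepByAlgSp1 f := fun U y => by
      obtain ⟨F, e, he, -⟩ := hf U y
      exact ⟨F, e, he⟩
    obtain ⟨hfull, hfaith⟩ := Groth.Agent.Lib.Helper17.MonoFF.full_faithful_of_isMono h𝒳.isStack.1 h𝒴.isStack.1 f hf
    obtain ⟨V, e, he⟩ := Groth.Agent.S12766.result h𝒳.isStack.1 h𝒴.isStack.1 hWf f w hf1
      ⟨W, BasedFunctor.id _, isEquivOver_id _⟩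
    let Φ : AlgSt.ofSp V.obj ⥤ᵇ AlgSt.ofSp W.obj := BasedFunctor.comp e (FibCat.fpFst w f)
    let a : V ⟶ W := ObjectProperty.homMk (ObjectProperty.homMk (pshMapOf Φ))
    refine ⟨V, a, e, he, ⟨(ofPshMapIso Φ).symm⟩, ?_⟩
    have := IsEquivOver.isEquivalence e he
    have h1 := fpFst_faithful_of_faithful w f
    have h2 := fpFst_full_of_ff w f
    have i1 : Φ.toFunctor.Full :=
      inferInstanceAs (e.toFunctor ⋙ (FibCat.fpFst w f).toFunctor).Full
    rw [Groth.Agent.Lib.Helper15RepComp.sp_mono_iff_injective]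
    intro T
    exact injective_pshMapOf_of_full Φ T.unop
  · rintro ⟨V, a, e, he, ⟨ι⟩, hmono⟩
    have hf1 : AlgSt.RepByAlgSp1 f :=
      repByAlgSp1_of_repByAlgSp_fp_cover h𝒳 h𝒴 hWf f w hw₁ hw₂ hw₃ ⟨V, e, he⟩
    have hA : AlgSt.RepByAlgSpWith (MorphismProperty.monomorphisms (AlgSp.Sp S))
        (AlgSt.ofSpMap a.hom) :=
      Groth.Agent.Lib.Helper15SpMapRep.repByAlgSpWith_ofSpMap _
        (fun X₁ Y₁ X₂ Y₂ _ _ _ _ a b a' b' sq ha => by
          have : Mono a := ha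
          exact (MorphismProperty.monomorphisms.iff _).2 (sq.mono_snd_of_mono)) V W a hmono
    have h' : AlgSt.RepByAlgSpWith (MorphismProperty.monomorphisms (AlgSp.Sp S))
        (FibCat.fpFst w f) :=
      (repByAlgSpWith_of_square _ (FibCat.fpFst w f) (AlgSt.ofSpMap a.hom) e (BasedFunctor.id _)
        he (isEquivOver_id _) ι.symm).2 hA
    exact repByAlgSpWith_of_fpFst_of_hasSchemeCovers _
      (isLocalOnBase_fppf_of_fpqc _ (Groth.Agent.S10546.result S)) f hf1 w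
      (hasSchemeCovers_of_cover w hw₁ hw₂ hw₃) h'

end Groth.Agent.R2.H59.StackBoot
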