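import Mathlib
import Groth.Prelude.Def_StGerb
import Groth.Agent.R2.H59FppfCover
import Groth.Agent.R2.H59StackBoot2

/-!
# Gerbes: descent along base change (helper59)

Site-level lemmas: if objects of `𝒴` lift locally along `g : 𝒴' ⟶ 𝒴` and the base change of
`f : 𝒳 ⟶ 𝒴` to `𝒴'` is a gerbe, then `f` is a gerbe.
-/

set_option autoImplicit false
set_option backward.isDefEq.respectTransparency false
set_option backward.isDefEq.respectTransparency.types false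
set_option linter.style.haveILetI false
set_option linter.unusedSectionVars false

universe u

open CategoryTheory CategoryTheory.Functor CategoryTheory.Limits AlgebraicGeometry Opposite

namespace Groth.Agent.R2.H59.Gerbe

open Groth.Agent.Lib.Helper17

section Gen

variable {C : Type*} [Category C] (J : GrothendieckTopology C) {𝒳 𝒴 𝒴' : BasedCategory C}

/-- Lifts in a category fibred in groupoids, over an object propositionally equal to the image. -/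
theorem exists_lift' (h𝒳 : FibCat.IsFibGrpd 𝒳.p) (x : 𝒳.obj) {U V : C} (hU : 𝒳.p.obj x = U)
    (a : V ⟶ U) : ∃ (x' : 𝒳.obj) (α : x' ⟶ x), 𝒳.p.IsHomLift a α := by
  subst hU
  exact h𝒳.exists_lift a

/-- `LocSurjObj` with the base object propositionally equal to the image. -/
theorem locSurjObj' {g : 𝒴' ⥤ᵇ 𝒴} (hg : Gerb.LocSurjObj J g) (y : 𝒴.obj) {U : C}
    (hU : 𝒴.p.obj y = U) : ∃ R ∈ J U, ∀ ⦃V : C⦄ (a : V ⟶ U), R a →
      ∃ (y' : 𝒴'.obj) (m : g.obj y' ⟶ y), 𝒴.p.IsHomLift a m := by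
  subst hU
  exact hg y

/-- The sieve of morphisms to the base of `y` along which `y` lifts to `𝒳`. -/
def liftSieve (h𝒳 : FibCat.IsFibGrpd 𝒳.p) (f : 𝒳 ⥤ᵇ 𝒴) (y : 𝒴.obj) : Sieve (𝒴.p.obj y) where
  arrows V c := ∃ (x : 𝒳.obj) (k : f.obj x ⟶ y), 𝒴.p.IsHomLift c k
  downward_closed := by
    rintro V V' c ⟨x, k, hk⟩ d
    have hx : 𝒳.p.obj x = V := (f.w_obj x).symm.trans (IsHomLift.domain_eq 𝒴.p c k)
    obtain ⟨x', α, hα⟩ := exists_lift' h𝒳 x hx d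
    exact ⟨x', f.map α ≫ k, inferInstance⟩

theorem locSurjObj_of_fpFst (h𝒳 : FibCat.IsFibGrpd 𝒳.p) (f : 𝒳 ⥤ᵇ 𝒴) (g : 𝒴' ⥤ᵇ 𝒴)
    (hg : Gerb.LocSurjObj J g) (h : Gerb.LocSurjObj J (FibCat.fpFst g f)) :
    Gerb.LocSurjObj J f := by
  intro y
  obtain ⟨R, hR, hR'⟩ := hg y
  refine ⟨liftSieve h𝒳 f y, ?_, fun V c hc => hc⟩
  refine J.transitive hR _ (fun V a ha => ?_)
  obtain ⟨y'', m, hm⟩ := hR' a ha
  have hV : 𝒴'.p.obj y'' = V := (g.w_obj y'').symm.trans (IsHomLift.domain_eq 𝒴.p a m)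
  subst hV
  obtain ⟨R', hR'₁, hR'₂⟩ := h y''
  refine J.superset_covering ?_ hR'₁
  intro V' b hb
  obtain ⟨w, n, hn⟩ := hR'₂ b hb
  have hw : 𝒴.p.IsHomLift (𝟙 (𝒴'.p.obj w.obj.fst)) w.obj.iso.hom := w.property
  have hV' : 𝒴'.p.obj w.obj.fst = V' := IsHomLift.domain_eq 𝒴'.p b n
  subst hV'
  have hn' : 𝒴'.p.IsHomLift b n := hn
  have h1 : 𝒴.p.IsHomLift (𝟙 (𝒴'.p.obj w.obj.fst)) w.obj.iso.inv := inferInstance
  have h2 : 𝒴.p.IsHomLift b (g.map n) := inferInstance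
  have h3 : 𝒴.p.IsHomLift (b ≫ a) (g.map n ≫ m) := inferInstance
  exact ⟨w.obj.snd, w.obj.iso.inv ≫ g.map n ≫ m, inferInstance⟩

/-- The sieve of morphisms to the base of `x` along which `b : f x ⟶ f x'` lifts to `𝒳`. -/
def homSieve (h𝒳 : FibCat.IsFibGrpd 𝒳.p) (f : 𝒳 ⥤ᵇ 𝒴) (x x' : 𝒳.obj) (b : f.obj x ⟶ f.obj x') :
    Sieve (𝒳.p.obj x) where
  arrows V c := ∃ (x₀ : 𝒳.obj) (φ : x₀ ⟶ x) (ψ : x₀ ⟶ x'),
    𝒳.p.IsHomLift c φ ∧ 𝒳.p.IsHomLift c ψ ∧ f.map φ ≫ b = f.map ψ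
  downward_closed := by
    rintro V V' c ⟨x₀, φ, ψ, hφ, hψ, hb⟩ d
    have hx : 𝒳.p.obj x₀ = V := IsHomLift.domain_eq 𝒳.p c φ
    obtain ⟨x₁, δ, hδ⟩ := exists_lift' h𝒳 x₀ hx d
    refine ⟨x₁, δ ≫ φ, δ ≫ ψ, inferInstance, inferInstance, ?_⟩
    rw [f.map_comp, f.map_comp, Category.assoc, hb]

theorem locSurjHom_of_fpFst (h𝒳 : FibCat.IsFibGrpd 𝒳.p) (h𝒴 : FibCat.IsFibGrpd 𝒴.p)
    (f : 𝒳 ⥤ᵇ 𝒴) (g : 𝒴' ⥤ᵇ 𝒴)
    (hg : Gerb.LocSurjObj J g) (h : Gerb.LocSurjHom J (FibCat.fpFst g f)) :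
    Gerb.LocSurjHom J f := by
  intro x x' b hb
  have hx' : 𝒳.p.obj x' = 𝒳.p.obj x :=
    (f.w_obj x').symm.trans (IsHomLift.codomain_eq 𝒴.p (𝟙 (𝒳.p.obj x)) b)
  obtain ⟨R, hR, hR'⟩ := locSurjObj' J hg (f.obj x) (f.w_obj x)
  refine ⟨homSieve h𝒳 f x x' b, ?_, fun V c hc => hc⟩
  refine J.transitive hR _ (fun V a ha => ?_)
  obtain ⟨y'', m, hm⟩ := hR' a ha
  have hV : 𝒴'.p.obj y'' = V := (g.w_obj y'').symm.trans (IsHomLift.domain_eq 𝒴.p a m)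
  subst hV
  obtain ⟨xa, α, hα⟩ := h𝒳.exists_lift (x := x) a
  obtain ⟨xa', α', hα'⟩ := exists_lift' h𝒳 x' hx' a
  have hfα : 𝒴.p.IsHomLift a (f.map α) := inferInstance
  have hfα' : 𝒴.p.IsHomLift a (f.map α') := inferInstance
  have hc := IsFibGrpd.isStronglyCartesian_of_isHomLift h𝒴 a (f.map α)
  have hc' := IsFibGrpd.isStronglyCartesian_of_isHomLift h𝒴 a (f.map α')
  -- the comparison `g y'' ⟶ f xa` over the identity
  let θ : g.obj y'' ⟶ f.obj xa :=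
    IsStronglyCartesian.map 𝒴.p a (f.map α) (Category.id_comp a).symm m
  have hθ : 𝒴.p.IsHomLift (𝟙 (𝒴'.p.obj y'')) θ :=
    IsStronglyCartesian.map_isHomLift 𝒴.p a (f.map α) (Category.id_comp a).symm m
  have hθfac : θ ≫ f.map α = m :=
    IsStronglyCartesian.fac 𝒴.p a (f.map α) (Category.id_comp a).symm m
  have hθiso : IsIso θ := IsFibGrpd.isIso_of_isHomLift_id h𝒴 (𝒴'.p.obj y'') θ
  -- the pullback of `b`
  have hαb : 𝒴.p.IsHomLift a (f.map α ≫ b) := inferInstance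
  let ba : f.obj xa ⟶ f.obj xa' :=
    IsStronglyCartesian.map 𝒴.p a (f.map α') (Category.id_comp a).symm (f.map α ≫ b)
  have hba : 𝒴.p.IsHomLift (𝟙 (𝒴'.p.obj y'')) ba :=
    IsStronglyCartesian.map_isHomLift 𝒴.p a (f.map α') (Category.id_comp a).symm (f.map α ≫ b)
  have hbafac : ba ≫ f.map α' = f.map α ≫ b :=
    IsStronglyCartesian.fac 𝒴.p a (f.map α') (Category.id_comp a).symm (f.map α ≫ b)
  have hbaiso : IsIso ba := IsFibGrpd.isIso_of_isHomLift_id h𝒴 (𝒴'.p.obj y'') ba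
  -- two objects of the fibre product with the same first projection
  have hθba : 𝒴.p.IsHomLift (𝟙 (𝒴'.p.obj y'')) (θ ≫ ba) := inferInstance
  let w : (FibCat.fp g f).obj := ⟨{ fst := y'', snd := xa, iso := asIso θ }, hθ⟩
  let w' : (FibCat.fp g f).obj := ⟨{ fst := y'', snd := xa', iso := asIso θ ≪≫ asIso ba }, hθba⟩
  have h1 : 𝒴'.p.IsHomLift (𝟙 ((FibCat.fp g f).p.obj w)) (𝟙 y'') :=
    inferInstanceAs (𝒴'.p.IsHomLift (𝟙 (𝒴'.p.obj y'')) (𝟙 y''))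
  obtain ⟨R', hR'₁, hR'₂⟩ := h w w' (𝟙 y'') h1
  refine J.superset_covering ?_ hR'₁
  intro V' c hc
  obtain ⟨w₀, φ, ψ, hφ, hψ, hφψ⟩ := hR'₂ c hc
  have hφ₂ : 𝒳.p.IsHomLift c ((FibCat.fpSnd g f).map φ) := inferInstance
  have hψ₂ : 𝒳.p.IsHomLift c ((FibCat.fpSnd g f).map ψ) := inferInstance
  have e1 : g.map φ.hom.fst ≫ θ = w₀.obj.iso.hom ≫ f.map φ.hom.snd := φ.hom.w
  have e2 : g.map ψ.hom.fst ≫ θ ≫ ba = w₀.obj.iso.hom ≫ f.map ψ.hom.snd := ψ.hom.w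
  have e3 : φ.hom.fst = ψ.hom.fst := by
    have h0 : (FibCat.fpFst g f).map φ ≫ 𝟙 _ = (FibCat.fpFst g f).map φ := Category.comp_id _
    exact h0.symm.trans hφψ
  have e4 : f.map ψ.hom.snd = f.map φ.hom.snd ≫ ba := by
    rw [← cancel_epi w₀.obj.iso.hom, ← e2, ← e3, ← Category.assoc, e1, Category.assoc]
  refine ⟨w₀.obj.snd, φ.hom.snd ≫ α, ψ.hom.snd ≫ α', ?_, ?_, ?_⟩
  · exact inferInstanceAs (𝒳.p.IsHomLift (c ≫ a) ((FibCat.fpSnd g f).map φ ≫ α))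
  · exact inferInstanceAs (𝒳.p.IsHomLift (c ≫ a) ((FibCat.fpSnd g f).map ψ ≫ α'))
  · rw [f.map_comp, f.map_comp, Category.assoc, ← hbafac, e4, Category.assoc]

/-- Being a gerbe descends along a functor along which objects lift locally. -/
theorem isGerbeOver_of_fpFst (h𝒳 : FibCat.IsFibGrpd 𝒳.p) (h𝒴 : FibCat.IsFibGrpd 𝒴.p)
    (f : 𝒳 ⥤ᵇ 𝒴) (g : 𝒴' ⥤ᵇ 𝒴)
    (hg : Gerb.LocSurjObj J g) (h : Gerb.IsGerbeOver J (FibCat.fpFst g f)) :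
    Gerb.IsGerbeOver J f :=
  ⟨locSurjObj_of_fpFst J h𝒳 f g hg h.1, locSurjHom_of_fpFst J h𝒳 h𝒴 f g hg h.2⟩

/-- If objects lift locally along a composite, they lift locally along the second functor. -/
theorem locSurjObj_of_comp {𝒱 : BasedCategory C} (v : 𝒱 ⥤ᵇ 𝒴') (g : 𝒴' ⥤ᵇ 𝒴)
    (h : Gerb.LocSurjObj J (BasedFunctor.comp v g)) : Gerb.LocSurjObj J g := by
  intro y
  obtain ⟨R, hR, hR'⟩ := h y
  refine ⟨R, hR, fun V a ha => ?_⟩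
  obtain ⟨x, m, hm⟩ := hR' a ha
  exact ⟨v.obj x, m, hm⟩

end Gen

section AlgSt

variable {S : Scheme.{u}} {𝒳 𝒴 𝒴' : AlgSt.Cat S}

/-- Objects of the target of a surjective, flat, locally finitely presented morphism of algebraic
stacks lift fppf locally. -/
theorem locSurjObj_of_fppf (h𝒴 : AlgSt.IsAlgStack Scheme.fppfPrecoverage 𝒴)
    (h𝒴' : AlgSt.IsAlgStack Scheme.fppfPrecoverage 𝒴') (g : 𝒴' ⥤ᵇ 𝒴)
    (hg₁ : AlgSt.IsSurjective g) (hg₂ : AlgSt.LocQ (AlgSp.LocP @Flat) g)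
    (hg₃ : AlgSt.LocQ (AlgSp.LocP @LocallyOfFinitePresentation) g) :
    Gerb.LocSurjObj (QuotSh.J Scheme.fppfPrecoverage S) g := by
  obtain ⟨V, v, -, -, hw₁, hw₂, hw₃⟩ :=
    Groth.Agent.R2.H59.FppfCover.exists_scheme_cover_of_locQ h𝒴 h𝒴' g hg₂ hg₃ hg₁
  exact locSurjObj_of_comp _ v g (fun y =>
    Groth.Agent.R2.H59.StackBoot.locally_lifts_of_cover h𝒴.isStack.1 (BasedFunctor.comp v g)
      hw₁ hw₂ hw₃ y)

/-- Being a gerbe descends along a surjective, flat, locally finitely presented base change. -/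
theorem isGerbeOver_of_fpFst_of_fppf (h𝒳 : AlgSt.IsAlgStack Scheme.fppfPrecoverage 𝒳)
    (h𝒴 : AlgSt.IsAlgStack Scheme.fppfPrecoverage 𝒴)
    (h𝒴' : AlgSt.IsAlgStack Scheme.fppfPrecoverage 𝒴') (f : 𝒳 ⥤ᵇ 𝒴) (g : 𝒴' ⥤ᵇ 𝒴)
    (hg₁ : AlgSt.IsSurjective g) (hg₂ : AlgSt.LocQ (AlgSp.LocP @Flat) g)
    (hg₃ : AlgSt.LocQ (AlgSp.LocP @LocallyOfFinitePresentation) g)
    (h : Gerb.IsGerbeOver (QuotSh.J Scheme.fppfPrecoverage S) (FibCat.fpFst g f)) :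
    Gerb.IsGerbeOver (QuotSh.J Scheme.fppfPrecoverage S) f :=
  isGerbeOver_of_fpFst _ h𝒳.isStack.1 h𝒴.isStack.1 f g
    (locSurjObj_of_fppf h𝒴 h𝒴' g hg₁ hg₂ hg₃) h

end AlgSt

end Groth.Agent.R2.H59.Gerbe
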