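import Mathlib
import Groth.Agent.R2.H59OpenSub

/-!
# Open predicates: the form with open subsets, and unions (helper59)
-/

set_option autoImplicit false
set_option backward.isDefEq.respectTransparency false
set_option backward.isDefEq.respectTransparency.types false
set_option linter.style.haveILetI false
set_option linter.unusedSectionVars false

universe u w

open CategoryTheory CategoryTheory.Functor CategoryTheory.Limits AlgebraicGeometry Opposite

namespace Groth.Agent.R2.H59.OpenSub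

open Groth.Agent.Lib.Helper17

variable {S : Scheme.{u}} {𝒳 : AlgSt.Cat S}

/-- A morphism over `S` factors through an open immersion iff its range does. -/
theorem exists_factor_iff {T' T W : Over S} (j : W ⟶ T) [IsOpenImmersion j.left] (g : T' ⟶ T) :
    (∃ g' : T' ⟶ W, g' ≫ j = g) ↔ Set.range g.left.base ⊆ Set.range j.left.base := by
  constructor
  · rintro ⟨g', rfl⟩
    rintro _ ⟨t, rfl⟩
    exact ⟨g'.left.base t, rfl⟩
  · intro h
    refine ⟨Over.homMk (IsOpenImmersion.lift j.left g.left h) ?_, ?_⟩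
    · have h1 : W.hom = j.left ≫ T.hom := (Over.w j).symm
      rw [h1, IsOpenImmersion.lift_fac_assoc]
      exact Over.w g
    · exact Over.OverMorphism.ext (IsOpenImmersion.lift_fac j.left g.left h)

/-- The open-subset form of an open predicate. -/
theorem IsOpenPred.exists_opens {Q : 𝒳.obj → Prop} (hQ : IsOpenPred 𝒳 Q) (T : Over S) (x : 𝒳.obj)
    (hx : 𝒳.p.obj x = T) : ∃ U : T.left.Opens,
      ∀ (x' : 𝒳.obj) (a : x' ⟶ x) (T' : Over S) (g : T' ⟶ T), 𝒳.p.IsHomLift g a →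
        (Q x' ↔ Set.range g.left.base ⊆ (U : Set T.left)) := by
  obtain ⟨W, j, hj, hW⟩ := hQ T x hx
  refine ⟨j.left.opensRange, fun x' a T' g hg => ?_⟩
  rw [hW x' a T' g hg, exists_factor_iff j g]
  rfl

/-- An open predicate from its open-subset form. -/
theorem isOpenPred_of_opens {Q : 𝒳.obj → Prop}
    (h : ∀ (T : Over S) (x : 𝒳.obj), 𝒳.p.obj x = T → ∃ U : T.left.Opens,
      ∀ (x' : 𝒳.obj) (a : x' ⟶ x) (T' : Over S) (g : T' ⟶ T), 𝒳.p.IsHomLift g a →
        (Q x' ↔ Set.range g.left.base ⊆ (U : Set T.left))) : IsOpenPred 𝒳 Q := by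
  intro T x hx
  obtain ⟨U, hU⟩ := h T x hx
  let j : Over.mk (U.ι ≫ T.hom) ⟶ T := Over.homMk U.ι rfl
  have hj : IsOpenImmersion j.left := inferInstanceAs (IsOpenImmersion U.ι)
  refine ⟨Over.mk (U.ι ≫ T.hom), j, hj, fun x' a T' g hg => ?_⟩
  rw [hU x' a T' g hg, exists_factor_iff j g]
  have : Set.range j.left.base = (U : Set T.left) := Scheme.Opens.range_ι U
  rw [this]

section Union

variable {ι : Type w} (Q : ι → 𝒳.obj → Prop)

/-- The union of a family of predicates: every point of the base has a neighbourhood (more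
generally, a scheme mapping to the base and hitting it) over which the object satisfies one of
the predicates. -/
def unionPred (x : 𝒳.obj) : Prop :=
  ∀ t : (𝒳.p.obj x).left, ∃ (i : ι) (x' : 𝒳.obj) (a : x' ⟶ x) (T'' : Over S)
    (h : T'' ⟶ 𝒳.p.obj x), 𝒳.p.IsHomLift h a ∧ Q i x' ∧ t ∈ Set.range h.left.base

theorem unionPred_of_mem {i : ι} {x : 𝒳.obj} (hx : Q i x) : unionPred Q x :=
  fun t => ⟨i, x, 𝟙 x, 𝒳.p.obj x, 𝟙 _, inferInstance, hx, ⟨t, rfl⟩⟩

theorem isOpenPred_unionPred (h𝒳 : FibCat.IsFibGrpd 𝒳.p) (hQ : ∀ i, IsOpenPred 𝒳 (Q i)) :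
    IsOpenPred 𝒳 (unionPred Q) := by
  apply isOpenPred_of_opens
  intro T x hx
  subst hx
  choose U hU using fun i => (hQ i).exists_opens (𝒳.p.obj x) x rfl
  refine ⟨⨆ i, U i, fun x' a T' g hg => ?_⟩
  have hT' : 𝒳.p.obj x' = T' := IsHomLift.domain_eq 𝒳.p g a
  subst hT'
  constructor
  · intro hx'
    rintro _ ⟨t', rfl⟩
    obtain ⟨i, x'', a', T'', h, hh, hQi, t'', ht''⟩ := hx' t'
    have h1 := (hU i x'' (a' ≫ a) T'' (h ≫ g) inferInstance).1 hQi
    have h2 : g.left.base t' ∈ (U i : Set _) := by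
      rw [← ht'']
      exact h1 ⟨t'', rfl⟩
    exact TopologicalSpace.Opens.mem_iSup.2 ⟨i, h2⟩
  · intro hsub t'
    have h0 : g.left.base t' ∈ ((⨆ i, U i : (𝒳.p.obj x).left.Opens) : Set _) := hsub ⟨t', rfl⟩
    obtain ⟨i, hi⟩ := TopologicalSpace.Opens.mem_iSup.1 h0
    let V : (𝒳.p.obj x').left.Opens := g.left ⁻¹ᵁ (U i)
    let T'' : Over S := Over.mk (V.ι ≫ (𝒳.p.obj x').hom)
    let h : T'' ⟶ 𝒳.p.obj x' := Over.homMk V.ι rfl
    obtain ⟨x'', a', ha'⟩ := h𝒳.exists_lift (x := x') h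
    refine ⟨i, x'', a', T'', h, ha', ?_, ?_⟩
    · refine (hU i x'' (a' ≫ a) T'' (h ≫ g) inferInstance).2 ?_
      rintro _ ⟨s, rfl⟩
      exact s.2
    · have h3 : Set.range h.left.base = (V : Set _) := Scheme.Opens.range_ι V
      rw [h3]
      exact hi

theorem unionPred_field_iff (hQ : ∀ i, IsOpenPred 𝒳 (Q i)) (p : AlgSt.FPt 𝒳) :
    unionPred Q p.obj ↔ ∃ i, Q i p.obj := by
  constructor
  · intro h
    have hne : Nonempty (𝒳.p.obj p.obj).left := by
      rw [p.lies]
      exact inferInstanceAs (Nonempty (Spec (CommRingCat.of p.K)))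
    obtain ⟨t⟩ := hne
    obtain ⟨i, x', a, T'', h', hh', hQi, t'', -⟩ := h t
    have hT'' : 𝒳.p.obj x' = T'' := IsHomLift.domain_eq 𝒳.p h' a
    have hne' : Nonempty (𝒳.p.obj x').left := by
      rw [hT'']
      exact ⟨t''⟩
    exact ⟨i, (hQ i).of_pullback_field p.str p.lies a hQi⟩
  · rintro ⟨i, hi⟩
    exact unionPred_of_mem Q hi

theorem range_unionPred (h𝒳 : FibCat.IsFibGrpd 𝒳.p) (hQ : ∀ i, IsOpenPred 𝒳 (Q i)) :
    Set.range (AlgSt.Points.map (AlgSt.subIncl 𝒳 (unionPred Q))) =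
      ⋃ i, Set.range (AlgSt.Points.map (AlgSt.subIncl 𝒳 (Q i))) := by
  ext z
  obtain ⟨p, rfl⟩ := AlgSt.Points.mk_surjective z
  rw [(isOpenPred_unionPred Q h𝒳 hQ).mem_range_iff p, unionPred_field_iff Q hQ p, Set.mem_iUnion]
  exact exists_congr fun i => ((hQ i).mem_range_iff p).symm

end Union

end Groth.Agent.R2.H59.OpenSub
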