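import Mathlib
import Groth.Agent.R2.H59OpenSub2
import Groth.Agent.Lib.Helper15PtsTop
import Groth.Agent.Lib.Helper15OpenSub

/-!
# Open substacks and open subsets of the space of points (helper59)
-/

set_option autoImplicit false
set_option backward.isDefEq.respectTransparency false
set_option backward.isDefEq.respectTransparency.types false
set_option linter.style.haveILetI false
set_option linter.unusedSectionVars false

universe u w

open CategoryTheory CategoryTheory.Functor CategoryTheory.Limits AlgebraicGeometry Opposite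

namespace Groth.Agent.R2.H59.OpenSub

open Groth.Agent.Lib.Helper17 Groth.Agent.Lib.Helper15PtsTop

variable {S : Scheme.{u}} {𝒳 : AlgSt.Cat S}

/-- The class of a field-valued point with a morphism to `x` is a chart point of `x`. -/
theorem mk_eq_ofChart (h𝒳 : FibCat.IsFibGrpd 𝒳.p) {T : Over S} (x : 𝒳.obj)
    (y : FibCat.overCat T ⥤ᵇ 𝒳) (e₀ : y.obj (Over.mk (𝟙 T)) ≅ x)
    (he₀ : 𝒳.p.IsHomLift (𝟙 T) e₀.hom) (p : AlgSt.FPt 𝒳) (b : p.obj ⟶ x)
    (h : Over.mk p.str ⟶ T) (hb : 𝒳.p.IsHomLift h b) :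
    ∃ t' : (Over.mk p.str).left, AlgSt.Points.mk p = AlgSt.Points.ofChart y (h.left.base t') := by
  let pK : AlgSt.FPt (FibCat.overCat (Over.mk p.str)) :=
    { K := p.K, str := p.str, obj := Over.mk (𝟙 _), lies := rfl }
  obtain ⟨t', ht'⟩ := (ptOver_bijective (Over.mk p.str)).2 (AlgSt.Points.mk pK)
  refine ⟨t', ?_⟩
  rw [ofChart_eq_map_ptOver, ← ptOver_map h t', ht', AlgSt.Points.map_mk, AlgSt.Points.map_mk]
  have hc0 : (FibCat.overCat T).p.IsHomLift ((AlgSt.overMap h).obj (Over.mk (𝟙 _))).hom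
      (overTerm T ((AlgSt.overMap h).obj (Over.mk (𝟙 _)))) := overTerm_isHomLift T _
  have hc1 : 𝒳.p.IsHomLift ((AlgSt.overMap h).obj (Over.mk (𝟙 _))).hom
      (y.map (overTerm T ((AlgSt.overMap h).obj (Over.mk (𝟙 _))))) := inferInstance
  have hc : 𝒳.p.IsHomLift ((AlgSt.overMap h).obj (Over.mk (𝟙 _))).hom
      (y.map (overTerm T ((AlgSt.overMap h).obj (Over.mk (𝟙 _)))) ≫ e₀.hom) := inferInstance
  have hsc := IsFibGrpd.isStronglyCartesian_of_isHomLift h𝒳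
    ((AlgSt.overMap h).obj (Over.mk (𝟙 _))).hom
    (y.map (overTerm T ((AlgSt.overMap h).obj (Over.mk (𝟙 _)))) ≫ e₀.hom)
  have hfac : h = 𝟙 _ ≫ ((AlgSt.overMap h).obj (Over.mk (𝟙 _))).hom := by
    change h = 𝟙 _ ≫ (𝟙 _ ≫ h)
    rw [Category.id_comp, Category.id_comp]
  exact AlgSt.Points.sound ⟨p, 𝟙 _, IsStronglyCartesian.map 𝒳.p
    ((AlgSt.overMap h).obj (Over.mk (𝟙 _))).hom
    (y.map (overTerm T ((AlgSt.overMap h).obj (Over.mk (𝟙 _)))) ≫ e₀.hom) hfac b, trivial⟩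

/-- The field-valued point of `𝒳` obtained by pulling back an object to a point of its base. -/
theorem exists_fpt_at (h𝒳 : FibCat.IsFibGrpd 𝒳.p) (y : 𝒳.obj) (t : (𝒳.p.obj y).left) :
    ∃ (p : AlgSt.FPt 𝒳) (b : p.obj ⟶ y) (h : Over.mk p.str ⟶ 𝒳.p.obj y),
      𝒳.p.IsHomLift h b ∧ Set.range h.left.base = {t} := by
  let str := (𝒳.p.obj y).left.fromSpecResidueField t ≫ (𝒳.p.obj y).hom
  let h : Over.mk str ⟶ 𝒳.p.obj y := Over.homMk ((𝒳.p.obj y).left.fromSpecResidueField t) rfl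
  obtain ⟨xt, b, hb⟩ := h𝒳.exists_lift (x := y) h
  have lies : 𝒳.p.obj xt = Over.mk str := IsHomLift.domain_eq 𝒳.p h b
  exact ⟨{ K := (𝒳.p.obj y).left.residueField t, str := str, obj := xt, lies := lies }, b, h, hb,
    Scheme.range_fromSpecResidueField t⟩

/-- An open predicate holds for an object as soon as it holds at all its field-valued points. -/
theorem IsOpenPred.iff_forall_point {Q : 𝒳.obj → Prop} (hQ : IsOpenPred 𝒳 Q)
    (h𝒳 : FibCat.IsFibGrpd 𝒳.p) (y : 𝒳.obj) :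
    Q y ↔ ∀ (p : AlgSt.FPt 𝒳) (_ : p.obj ⟶ y), Q p.obj := by
  constructor
  · intro hy p b
    exact hQ.pullStable b hy
  · intro hall
    obtain ⟨U, hU⟩ := hQ.exists_opens (𝒳.p.obj y) y rfl
    refine (hU y (𝟙 y) (𝒳.p.obj y) (𝟙 _) inferInstance).2 ?_
    rintro _ ⟨t, rfl⟩
    obtain ⟨p, b, h, hb, hr⟩ := exists_fpt_at h𝒳 y t
    have h1 := (hU p.obj b _ h hb).1 (hall p b)
    apply h1
    rw [hr]
    rfl

theorem le_iff_range_subset {Q Q' : 𝒳.obj → Prop} (hQ : IsOpenPred 𝒳 Q) (hQ' : IsOpenPred 𝒳 Q')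
    (h𝒳 : FibCat.IsFibGrpd 𝒳.p) :
    (∀ y, Q y → Q' y) ↔ Set.range (AlgSt.Points.map (AlgSt.subIncl 𝒳 Q)) ⊆
      Set.range (AlgSt.Points.map (AlgSt.subIncl 𝒳 Q')) := by
  constructor
  · intro h z hz
    obtain ⟨p, rfl⟩ := AlgSt.Points.mk_surjective z
    exact (hQ'.mem_range_iff p).2 (h _ ((hQ.mem_range_iff p).1 hz))
  · intro h y hy
    refine (hQ'.iff_forall_point h𝒳 y).2 (fun p b => ?_)
    exact (hQ'.mem_range_iff p).1 (h ((hQ.mem_range_iff p).2 (hQ.pullStable b hy)))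

/-- The predicate of an open subset of the space of points. -/
def pointsPred (O : Set (AlgSt.Points 𝒳)) (y : 𝒳.obj) : Prop :=
  ∀ (p : AlgSt.FPt 𝒳) (_ : p.obj ⟶ y), AlgSt.Points.mk p ∈ O

theorem pointsPred_field_iff (O : Set (AlgSt.Points 𝒳)) (p : AlgSt.FPt 𝒳) :
    pointsPred O p.obj ↔ AlgSt.Points.mk p ∈ O := by
  constructor
  · intro h
    exact h p (𝟙 _)
  · intro h q b
    have : AlgSt.Points.mk q = AlgSt.Points.mk p := AlgSt.Points.sound ⟨q, 𝟙 _, b, trivial⟩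
    rw [this]
    exact h

theorem isOpenPred_pointsPred (h𝒳 : AlgSt.IsAlgStack Scheme.fppfPrecoverage 𝒳)
    (O : Set (AlgSt.Points 𝒳)) (hO : IsOpen O) : IsOpenPred 𝒳 (pointsPred O) := by
  have hfib := h𝒳.isStack.1
  have hfibered := IsFibGrpd.isFibered hfib
  apply isOpenPred_of_opens
  intro T x hx
  obtain ⟨e₀, he₀⟩ := yonedaFunctor_iso (𝒳 := 𝒳) hx
  refine ⟨⟨AlgSt.Points.ofChart (yonedaFunctor (𝒳 := 𝒳) hx) ⁻¹' O,
    hO.preimage (continuous_ofChart h𝒳 _)⟩, fun x' a T' g hg => ?_⟩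
  have hT' : 𝒳.p.obj x' = T' := IsHomLift.domain_eq 𝒳.p g a
  subst hT'
  constructor
  · intro hx'
    rintro _ ⟨t', rfl⟩
    obtain ⟨p, b, h, hb, hr⟩ := exists_fpt_at hfib x' t'
    have hmem := hx' p b
    obtain ⟨t'', ht''⟩ := mk_eq_ofChart hfib x _ e₀ he₀ p (b ≫ a) (h ≫ g) inferInstance
    have h2 : h.left.base t'' = t' := by
      have : h.left.base t'' ∈ Set.range h.left.base := ⟨t'', rfl⟩
      rw [hr] at this
      exact this
    have h3 : (h ≫ g).left.base t'' = g.left.base t' := by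
      rw [← h2]
      rfl
    rw [h3] at ht''
    change AlgSt.Points.ofChart _ (g.left.base t') ∈ O
    rw [← ht'']
    exact hmem
  · intro hsub p b
    have hb : 𝒳.p.IsHomLift (eqToHom p.lies.symm ≫ 𝒳.p.map b) b := inferInstance
    obtain ⟨t'', ht''⟩ := mk_eq_ofChart hfib x _ e₀ he₀ p (b ≫ a)
      ((eqToHom p.lies.symm ≫ 𝒳.p.map b) ≫ g) inferInstance
    rw [ht'']
    exact hsub ⟨(eqToHom p.lies.symm ≫ 𝒳.p.map b).left.base t'', rfl⟩

theorem range_pointsPred (h𝒳 : AlgSt.IsAlgStack Scheme.fppfPrecoverage 𝒳)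
    (O : Set (AlgSt.Points 𝒳)) (hO : IsOpen O) :
    Set.range (AlgSt.Points.map (AlgSt.subIncl 𝒳 (pointsPred O))) = O := by
  ext z
  obtain ⟨p, rfl⟩ := AlgSt.Points.mk_surjective z
  rw [(isOpenPred_pointsPred h𝒳 O hO).mem_range_iff p, pointsPred_field_iff]

end Groth.Agent.R2.H59.OpenSub
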