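import Mathlib
import Groth.Prelude.Def_AlgSt3
import Groth.Agent.Lib.Helper15LocQEngine
import Groth.Agent.Lib.Helper15SmLoc
import Groth.Agent.Lib.Helper15MonoFF
import Groth.Agent.Lib.Helper15OpenSub
import Groth.Agent.Lib.Helper15Atlas
import Groth.Agent.R2.H59Cancel2
import Groth.Agent.R2.H59SelfOver
import Groth.Agent.R2.H59OpenSub
import Groth.Agent.R2.H59OpenSub2
import Groth.Agent.S12868
import Groth.Agent.S10265
import Groth.Agent.S9947
import Groth.Agent.Lib.Helper15LocQProps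
import Groth.Agent.Lib.Helper15PtsQc
import Groth.Agent.Lib.Helper15GoodComp

/-!
# The largest open substack on which a morphism is smooth (helper59)
-/

set_option autoImplicit false
set_option backward.isDefEq.respectTransparency false
set_option backward.isDefEq.respectTransparency.types false
set_option linter.style.haveILetI false
set_option linter.unusedSectionVars false

universe u w

open CategoryTheory CategoryTheory.Functor CategoryTheory.Limits AlgebraicGeometry Opposite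

namespace Groth.Agent.R2.H59.SmoothLocus

open Groth.Agent.Lib.Helper17 Groth.Agent.Lib.Helper15DiagLft Groth.Agent.R2.H59.OpenSub
  Groth.Agent.R2.H59.Cancel2

section Cancel

variable {S : Scheme.{u}} {𝒳 𝒴 𝒵 : AlgSt.Cat S}

theorem bcStable_mono : BCStable (MorphismProperty.monomorphisms (AlgSp.Sp S)) := by
  intro X₁ Y₁ X₂ Y₂ _ _ _ _ a b a' b' sq ha
  have : Mono a := ha
  exact (MorphismProperty.monomorphisms.iff _).2 (sq.mono_snd_of_mono)

/-- Cancellation of a monomorphism on the right. -/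
theorem repByAlgSpWith_cancel_mono (Q : MorphismProperty (AlgSp.Sp S)) (hQb : BCStable Q)
    (f : 𝒳 ⥤ᵇ 𝒴) (b : 𝒴 ⥤ᵇ 𝒵) (hb : AlgSt.IsMono b)
    (h : AlgSt.RepByAlgSpWith Q (BasedFunctor.comp f b)) : AlgSt.RepByAlgSpWith Q f := by
  refine repByAlgSpWith_cancel₂ Q (MorphismProperty.monomorphisms (AlgSp.Sp S)) hQb bcStable_mono
    ?_ f b hb h
  intro X Y Z hX hY hZ a b hb hab
  have : Mono b := hb
  refine hQb hX hZ hX hY (a ≫ b) b a (𝟙 X) ?_ hab
  exact IsPullback.of_horiz_isIso_mono ⟨by rw [Category.id_comp]⟩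

theorem isMono_of_isOpenImm (i : 𝒴 ⥤ᵇ 𝒳) (hi : AlgSt.IsOpenImm i) : AlgSt.IsMono i := by
  apply Groth.Agent.S12868.result
  intro U y
  obtain ⟨F, e, he, hP⟩ := hi U y
  exact ⟨F, e, he, Groth.Agent.Lib.Helper15OpenSub.repWith_mono
    (fun _ _ g hg => by have : IsOpenImmersion g := hg; infer_instance) hP⟩

theorem smooth_of_isOpenImm (i : 𝒴 ⥤ᵇ 𝒳) (hi : AlgSt.IsOpenImm i) :
    AlgSt.RepByAlgSpWith (AlgSp.LocP @Smooth) i := by
  intro U y
  obtain ⟨F, e, he, hP⟩ := hi U y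
  refine ⟨F, e, he, ?_⟩
  let TT : AlgSp.Space S := ⟨(AlgSp.yon S).obj U, AlgSp.IsAlgSpace.yon_obj U⟩
  let f : F ⟶ TT := ObjectProperty.homMk (AlgSt.spMapOfOver (BasedFunctor.comp e (FibCat.fpFst y i)))
  have he' : AlgSp.RepWith @Etale f.hom := Groth.Agent.Lib.Helper15OpenSub.repWith_mono
    (fun _ _ g hg => by have : IsOpenImmersion g := hg; infer_instance) hP
  have het : AlgSp.IsEtaleMor f.hom := fun V φ hφ => MorphismProperty.comp_mem _ _ _ hφ he'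
  exact (Groth.Agent.S10265.result f het).2.1

end Cancel

section Restrict

variable {S : Scheme.{u}} {𝒳 𝒴 : AlgSt.Cat S}

theorem locP_yon_map_of_smooth {U V : Over S} (h : U ⟶ V) (hh : Smooth h.left) :
    AlgSp.LocP @Smooth ((AlgSp.yon S).map h) := by
  let X : AlgSp.Space S := ⟨(AlgSp.yon S).obj U, AlgSp.IsAlgSpace.yon_obj U⟩
  let Y : AlgSp.Space S := ⟨(AlgSp.yon S).obj V, AlgSp.IsAlgSpace.yon_obj V⟩
  let f : X ⟶ Y := ObjectProperty.homMk ((AlgSp.yon S).map h)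
  exact Groth.Agent.S9947.result @Smooth (Or.inr (Or.inr (Or.inr (Or.inl rfl)))) f (𝟙 _) (𝟙 _) h
    (AlgSp.repWith_id _ U) (AlgSp.repWith_id _ U) (AlgSp.repWith_id _ V)
    (by rw [Category.id_comp, Category.comp_id]; rfl) hh

theorem exists_opens_of_unionPred {ι : Type w} (Qs : ι → 𝒳.obj → Prop)
    (hQ : ∀ i, IsOpenPred 𝒳 (Qs i)) (ξ : 𝒳.obj) (T : Over S)
    (hξ : 𝒳.p.obj ξ = T) (h : unionPred Qs ξ) (t : T.left) :
    ∃ (i : ι) (W : T.left.Opens), t ∈ W ∧ ∀ (x' : 𝒳.obj) (a : x' ⟶ ξ) (T' : Over S) (g : T' ⟶ T),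
      𝒳.p.IsHomLift g a → Set.range g.left.base ⊆ (W : Set T.left) → Qs i x' := by
  subst hξ
  obtain ⟨i, x'', a', T'', h', hh', hQi, t'', ht''⟩ := h t
  obtain ⟨W, hW⟩ := (hQ i).exists_opens _ ξ rfl
  refine ⟨i, W, ?_, fun x' a T' g hg hsub => (hW x' a T' g hg).2 hsub⟩
  rw [← ht'']
  exact (hW x'' a' T'' h' hh').1 hQi ⟨t'', rfl⟩

/-- An open subscheme as an object over `S`. -/
abbrev opensOver (U : Over S) (W : U.left.Opens) : Over S := Over.mk (W.ι ≫ U.hom)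

/-- The inclusion of an open subscheme, over `S`. -/
abbrev opensIncl (U : Over S) (W : U.left.Opens) : opensOver U W ⟶ U := Over.homMk W.ι rfl

theorem mem_of_restrict (Q Q' : 𝒳.obj → Prop) {U : Over S}
    (x : FibCat.overCat U ⥤ᵇ AlgSt.fullSub 𝒳 Q) (W : U.left.Opens)
    (hW : ∀ (x' : 𝒳.obj) (a : x' ⟶ (x.obj (Over.mk (𝟙 U))).obj) (T' : Over S) (g : T' ⟶ U),
      𝒳.p.IsHomLift g a → Set.range g.left.base ⊆ (W : Set U.left) → Q' x')
    (c : (FibCat.overCat (opensOver U W)).obj) :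
    Q' ((BasedFunctor.comp (BasedFunctor.comp (AlgSt.overMap (opensIncl U W)) x)
      (AlgSt.subIncl 𝒳 Q)).obj c) := by
  let c' : Over U := (Over.map (opensIncl U W)).obj c
  let m : c' ⟶ Over.mk (𝟙 U) := Over.homMk c'.hom (by simp)
  have h1 : (AlgSt.fullSub 𝒳 Q).p.IsHomLift c'.hom (x.map m) := by
    have : (FibCat.overCat U).p.IsHomLift c'.hom m :=
      inferInstanceAs ((FibCat.overCat U).p.IsHomLift ((FibCat.overCat U).p.map m) m)
    exact BasedFunctor.preserves_isHomLift x c'.hom m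
  have h2 : 𝒳.p.IsHomLift c'.hom (x.map m).hom :=
    (isHomLift_comp_iff (ObjectProperty.ι Q) 𝒳.p c'.hom (x.map m)).1 h1
  refine hW _ (x.map m).hom c'.left c'.hom h2 ?_
  rintro _ ⟨s, rfl⟩
  change (c.hom ≫ opensIncl U W).left.base s ∈ _
  have : (c.hom ≫ opensIncl U W).left.base s = W.ι.base (c.hom.left.base s) := by
    simp [opensIncl]
  rw [this]
  exact (c.hom.left.base s).2

/-- The inclusion of a smaller full subcategory into a larger one. -/
def inclSub (Q Q' : 𝒳.obj → Prop) (hle : ∀ a, Q' a → Q a) :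
    AlgSt.fullSub 𝒳 Q' ⥤ᵇ AlgSt.fullSub 𝒳 Q :=
  liftSub Q (AlgSt.subIncl 𝒳 Q') (fun w => hle _ w.property)

theorem inclSub_comp (Q Q' : 𝒳.obj → Prop) (hle : ∀ a, Q' a → Q a) :
    BasedFunctor.comp (inclSub Q Q' hle) (AlgSt.subIncl 𝒳 Q) = AlgSt.subIncl 𝒳 Q' := rfl

theorem isMono_inclSub (Q Q' : 𝒳.obj → Prop) (hle : ∀ a, Q' a → Q a)
    (hQ : AlgSt.IsOpenImm (AlgSt.subIncl 𝒳 Q)) (hQ' : AlgSt.IsOpenImm (AlgSt.subIncl 𝒳 Q')) :
    AlgSt.IsMono (inclSub Q Q' hle) :=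
  repByAlgSpWith_cancel_mono _ bcStable_mono (inclSub Q Q' hle) (AlgSt.subIncl 𝒳 Q)
    (isMono_of_isOpenImm _ hQ) (isMono_of_isOpenImm _ hQ')

set_option maxHeartbeats 800000 in
/-- On an open of the source chart over which the chart factors through a smaller open substack
where the morphism is smooth, the chart map is smooth. -/
theorem smooth_restrict (h𝒳 : AlgSt.IsAlgStack Scheme.fppfPrecoverage 𝒳)
    (h𝒴 : AlgSt.IsAlgStack Scheme.fppfPrecoverage 𝒴) (f : 𝒳 ⥤ᵇ 𝒴) (Q Q' : 𝒳.obj → Prop)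
    (hQ : IsOpenPred 𝒳 Q) (hQ' : IsOpenPred 𝒳 Q') (hle : ∀ a, Q' a → Q a)
    (hsm : AlgSt.LocQ (AlgSp.LocP @Smooth) (BasedFunctor.comp (AlgSt.subIncl 𝒳 Q') f))
    {U V : Over S} (x : FibCat.overCat U ⥤ᵇ AlgSt.fullSub 𝒳 Q) (y : FibCat.overCat V ⥤ᵇ 𝒴)
    (h : U ⟶ V)
    (α : BasedFunctor.comp x (BasedFunctor.comp (AlgSt.subIncl 𝒳 Q) f) ≅
      BasedFunctor.comp (AlgSt.overMap h) y)
    (hx : AlgSt.RepByAlgSpWith (AlgSp.LocP @Smooth) x)
    (hy : AlgSt.RepByAlgSpWith (AlgSp.LocP @Smooth) y)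
    (hℓ : AlgSt.RepByAlgSpWith (AlgSp.LocP @Smooth) (FibCat.fpLift x (AlgSt.overMap h) α))
    (W : U.left.Opens)
    (hW : ∀ c : (FibCat.overCat (opensOver U W)).obj,
      Q' ((BasedFunctor.comp (BasedFunctor.comp (AlgSt.overMap (opensIncl U W)) x)
        (AlgSt.subIncl 𝒳 Q)).obj c)) :
    Smooth (W.ι ≫ h.left) := by
  have hfib := h𝒳.isStack.1
  have hS := isOpenSubstack_of_isOpenPred h𝒳 Q hQ
  have hS' := isOpenSubstack_of_isOpenPred h𝒳 Q' hQ'
  let j : opensOver U W ⟶ U := opensIncl U W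
  have hjet : Etale j.left := by
    change Etale W.ι
    infer_instance
  let F : AlgSt.fullSub 𝒳 Q ⥤ᵇ 𝒴 := BasedFunctor.comp (AlgSt.subIncl 𝒳 Q) f
  let incl : AlgSt.fullSub 𝒳 Q' ⥤ᵇ AlgSt.fullSub 𝒳 Q := inclSub Q Q' hle
  have hincl : AlgSt.IsMono incl := isMono_inclSub Q Q' hle hS.2.2 hS'.2.2
  let x' : FibCat.overCat (opensOver U W) ⥤ᵇ AlgSt.fullSub 𝒳 Q' :=
    liftSub Q' (BasedFunctor.comp (BasedFunctor.comp (AlgSt.overMap j) x) (AlgSt.subIncl 𝒳 Q)) hW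
  have hx'incl : BasedFunctor.comp x' incl = BasedFunctor.comp (AlgSt.overMap j) x := rfl
  have hx' : AlgSt.RepByAlgSpWith (AlgSp.LocP @Smooth) x' := by
    apply repByAlgSpWith_cancel_mono _ Groth.Agent.Lib.Helper15SmLoc.bcStable_smooth x' incl hincl
    rw [hx'incl]
    exact Groth.Agent.Lib.Helper15PtsQc.smooth_overMap_comp j hjet x hx
  let α' : BasedFunctor.comp x' (BasedFunctor.comp incl F) ≅
      BasedFunctor.comp (AlgSt.overMap (j ≫ h)) y :=
    (whiskerLeftIso (AlgSt.overMap j) α : BasedFunctor.comp x' (BasedFunctor.comp incl F) ≅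
      BasedFunctor.comp (BasedFunctor.comp (AlgSt.overMap j) (AlgSt.overMap h)) y) ≪≫
    whiskerRightIso (Groth.Agent.Lib.Helper15GoodComp.overMapCompIso j h) y
  let ℓ' : FibCat.overCat (opensOver U W) ⥤ᵇ FibCat.fp (BasedFunctor.comp incl F) y :=
    FibCat.fpLift x' (AlgSt.overMap (j ≫ h)) α'
  let E := Groth.Agent.Lib.Helper15LocQEngine.fpMapLeft incl F y
  have hE : AlgSt.IsMono E :=
    Groth.Agent.Lib.Helper15LocQEngine.repByAlgSpWith_fpMapLeft _ incl F y hincl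
  have hℓ' : AlgSt.RepByAlgSpWith (AlgSp.LocP @Smooth) ℓ' := by
    apply repByAlgSpWith_cancel_mono _ Groth.Agent.Lib.Helper15SmLoc.bcStable_smooth ℓ' E hE
    have h1 : AlgSt.RepByAlgSpWith (AlgSp.LocP @Smooth)
        (BasedFunctor.comp (AlgSt.overMap j) (FibCat.fpLift x (AlgSt.overMap h) α)) :=
      Groth.Agent.Lib.Helper15PtsQc.smooth_overMap_comp j hjet _ hℓ
    refine Groth.Agent.Lib.Helper15LocQEngine.repByAlgSpWith_of_iso _ ?_ h1
    refine fpIsoMk F y (H := BasedFunctor.comp (AlgSt.overMap j)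
      (FibCat.fpLift x (AlgSt.overMap h) α)) (K := BasedFunctor.comp ℓ' E) (Iso.refl _)
      (Groth.Agent.Lib.Helper15GoodComp.overMapCompIso j h) ?_
    intro a
    change F.map (𝟙 _) ≫ (𝟙 _ ≫ (BasedFunctor.id 𝒴).map
      (α.hom.toNatTrans.app ((AlgSt.overMap j).obj a) ≫
        y.map ((Groth.Agent.Lib.Helper15GoodComp.overMapCompIso j h).hom.toNatTrans.app a)) ≫ 𝟙 _) =
      α.hom.toNatTrans.app ((AlgSt.overMap j).obj a) ≫
        y.map ((Groth.Agent.Lib.Helper15GoodComp.overMapCompIso j h).hom.toNatTrans.app a)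
    rw [F.toFunctor.map_id, Category.id_comp, Category.id_comp, Category.comp_id]
    rfl
  have hsm' : AlgSt.LocQ (AlgSp.LocP @Smooth) (BasedFunctor.comp incl F) := hsm
  have h𝒰' : AlgSt.IsAlgStack Scheme.fppfPrecoverage (AlgSt.fullSub 𝒳 Q') := hS'.2.1
  have key := (Groth.Agent.Lib.Helper15LocQEngine.locQ_iff_forall_good (AlgSp.LocP @Smooth)
    Groth.Agent.Lib.Helper15LocQProps.isSmoothLocalST_smooth h𝒰' h𝒴 (BasedFunctor.comp incl F)).1
    hsm' (opensOver U W) V x' y (j ≫ h) α' hx' hy hℓ'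
  exact AlgSp.locP_yon_map key

/-- A morphism which is smooth on each member of a family of open substacks is smooth on their
union. -/
theorem locQ_smooth_unionPred (h𝒳 : AlgSt.IsAlgStack Scheme.fppfPrecoverage 𝒳)
    (h𝒴 : AlgSt.IsAlgStack Scheme.fppfPrecoverage 𝒴) (f : 𝒳 ⥤ᵇ 𝒴)
    {ι : Type w} (Qs : ι → 𝒳.obj → Prop) (hQ : ∀ i, IsOpenPred 𝒳 (Qs i))
    (hsm : ∀ i, AlgSt.LocQ (AlgSp.LocP @Smooth) (BasedFunctor.comp (AlgSt.subIncl 𝒳 (Qs i)) f)) :
    AlgSt.LocQ (AlgSp.LocP @Smooth)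
      (BasedFunctor.comp (AlgSt.subIncl 𝒳 (unionPred Qs)) f) := by
  have hfib := h𝒳.isStack.1
  have hQu := isOpenPred_unionPred Qs hfib hQ
  have hS := isOpenSubstack_of_isOpenPred h𝒳 _ hQu
  obtain ⟨U, V, x, y, h, α, hx₁, hx₂, hy₁, -, hℓ⟩ :=
    Groth.Agent.Lib.Helper15LocQEngine.exists_good_square hS.2.1 h𝒴
      (BasedFunctor.comp (AlgSt.subIncl 𝒳 (unionPred Qs)) f)
  refine ⟨U, V, x, y, h, α, hx₁, hx₂, hy₁, locP_yon_map_of_smooth h ?_⟩
  have hξ : 𝒳.p.obj (x.obj (Over.mk (𝟙 U))).obj = U := x.w_obj (Over.mk (𝟙 U))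
  choose i W htW hW using fun t : U.left =>
    exists_opens_of_unionPred Qs hQ _ U hξ (x.obj (Over.mk (𝟙 U))).property t
  apply IsZariskiLocalAtSource.of_iSup_eq_top (P := @Smooth) W
  · exact top_le_iff.1 (fun t _ => TopologicalSpace.Opens.mem_iSup.2 ⟨t, htW t⟩)
  · intro t
    exact smooth_restrict h𝒳 h𝒴 f _ (Qs (i t)) hQu (hQ (i t))
      (fun a ha => unionPred_of_mem Qs ha) (hsm (i t)) x y h α hx₁ hy₁ hℓ (W t)
      (mem_of_restrict _ _ x (W t) (hW t))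

end Restrict

end Groth.Agent.R2.H59.SmoothLocus
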