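import Mathlib
import Groth.Agent.R2.H59SmoothLocus
import Groth.Agent.R2.H59OpenSub3
import Groth.Agent.Lib.Helper17StkPts
import Groth.Agent.Lib.Helper15PtsComp
import Groth.Agent.Lib.Helper15SpMapRep
import Groth.Agent.Lib.Helper15QcLocal

/-!
# The image of an open morphism as an open substack (helper59)
-/

set_option autoImplicit false
set_option backward.isDefEq.respectTransparency false
set_option backward.isDefEq.respectTransparency.types false
set_option linter.style.haveILetI false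
set_option linter.unusedSectionVars false

universe u w

open CategoryTheory CategoryTheory.Functor CategoryTheory.Limits AlgebraicGeometry Opposite

namespace Groth.Agent.R2.H59.ImageSub

open Groth.Agent.Lib.Helper17 Groth.Agent.Lib.Helper15DiagLft Groth.Agent.R2.H59.OpenSub
  Groth.Agent.R2.H59.SmoothLocus Groth.Agent.Lib.Helper15PtsTop Groth.Agent.Lib.Helper15PtsComp

variable {S : Scheme.{u}} {𝒵 𝒳 : AlgSt.Cat S}

/-- Every value of a functor lies in the predicate of the image of the functor on points. -/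
theorem pointsPred_range_map (h𝒵 : FibCat.IsFibGrpd 𝒵.p) (h𝒳 : FibCat.IsFibGrpd 𝒳.p)
    (φ : 𝒵 ⥤ᵇ 𝒳) (z : 𝒵.obj) : pointsPred (Set.range (AlgSt.Points.map φ)) (φ.obj z) := by
  intro p b
  let t' : Over.mk p.str ⟶ 𝒵.p.obj z := eqToHom p.lies.symm ≫ 𝒳.p.map b ≫ eqToHom (φ.w_obj z)
  obtain ⟨z', a, ha⟩ := h𝒵.exists_lift (x := z) t'
  have lies : 𝒵.p.obj z' = Over.mk p.str := IsHomLift.domain_eq 𝒵.p t' a
  have h1 : 𝒳.p.IsHomLift t' (φ.map a) := BasedFunctor.preserves_isHomLift φ t' a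
  have h2 : 𝒳.p.IsHomLift t' b := inferInstance
  obtain ⟨e, -, -⟩ := IsFibGrpd.exists_iso_of_lifts h𝒳 t' (φ.map a) b
  let q : AlgSt.FPt 𝒵 := { K := p.K, str := p.str, obj := z', lies := lies }
  refine ⟨AlgSt.Points.mk q, ?_⟩
  rw [AlgSt.Points.map_mk]
  exact AlgSt.Points.sound ⟨q.map φ, 𝟙 _, e.hom, trivial⟩

/-- The inclusion of the full subcategory on an open predicate is injective on points. -/
theorem points_map_subIncl_injective (h𝒳 : FibCat.IsFibGrpd 𝒳.p) {Q : 𝒳.obj → Prop}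
    (hQ : IsOpenPred 𝒳 Q) : Function.Injective (AlgSt.Points.map (AlgSt.subIncl 𝒳 Q)) := by
  intro v w h
  obtain ⟨p, rfl⟩ := AlgSt.Points.mk_surjective v
  obtain ⟨q, rfl⟩ := AlgSt.Points.mk_surjective w
  rw [AlgSt.Points.map_mk, AlgSt.Points.map_mk] at h
  obtain ⟨r, a, b, -⟩ := fpt_rel_of_mk_eq h𝒳 h
  have hr : Q r.obj := hQ.pullStable a p.obj.property
  exact AlgSt.Points.sound ⟨{ K := r.K, str := r.str, obj := ⟨r.obj, hr⟩, lies := r.lies },
    ObjectProperty.homMk a, ObjectProperty.homMk b, trivial⟩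

/-- The factorisation of a functor through the open substack of its (open) image is surjective on
points. -/
theorem surjective_liftSub_pointsPred (h𝒵 : FibCat.IsFibGrpd 𝒵.p)
    (h𝒳 : AlgSt.IsAlgStack Scheme.fppfPrecoverage 𝒳) (φ : 𝒵 ⥤ᵇ 𝒳)
    (hopen : IsOpen (Set.range (AlgSt.Points.map φ))) :
    Function.Surjective (AlgSt.Points.map (liftSub (pointsPred (Set.range (AlgSt.Points.map φ))) φ
      (pointsPred_range_map h𝒵 h𝒳.isStack.1 φ))) := by
  intro w
  have hQ := isOpenPred_pointsPred h𝒳 _ hopen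
  have hw : AlgSt.Points.map (AlgSt.subIncl 𝒳 (pointsPred (Set.range (AlgSt.Points.map φ)))) w ∈
      Set.range (AlgSt.Points.map φ) :=
    (range_pointsPred h𝒳 _ hopen).subset ⟨w, rfl⟩
  obtain ⟨v, hv⟩ := hw
  refine ⟨v, points_map_subIncl_injective h𝒳.isStack.1 hQ ?_⟩
  rw [← hv, ← points_map_comp]
  rfl

/-- The image of a smooth representable morphism of algebraic stacks is an open substack onto
which the morphism is smooth and surjective. -/
theorem exists_image_substack (h𝒵 : AlgSt.IsAlgStack Scheme.fppfPrecoverage 𝒵)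
    (h𝒳 : AlgSt.IsAlgStack Scheme.fppfPrecoverage 𝒳) (φ : 𝒵 ⥤ᵇ 𝒳)
    (hφ : AlgSt.RepByAlgSpWith (AlgSp.LocP @Smooth) φ) :
    ∃ (Q : 𝒳.obj → Prop) (hmem : ∀ z, Q (φ.obj z)), IsOpenPred 𝒳 Q ∧
      Set.range (AlgSt.Points.map (AlgSt.subIncl 𝒳 Q)) = Set.range (AlgSt.Points.map φ) ∧
      AlgSt.RepByAlgSpWith (AlgSp.LocP @Smooth) (liftSub Q φ hmem) ∧
      AlgSt.RepByAlgSpWith AlgSp.IsSurjectiveMor (liftSub Q φ hmem) := by
  have hopen : IsOpen (Set.range (AlgSt.Points.map φ)) :=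
    (Groth.Agent.Lib.Helper15QcLocal.isOpenMap_points_map_of_flat_lfp h𝒵 h𝒳 φ (flat_of_smooth hφ)
      (lfp_of_smooth hφ)).isOpen_range
  have hQ := isOpenPred_pointsPred h𝒳 _ hopen
  have hS := isOpenSubstack_of_isOpenPred h𝒳 _ hQ
  have hmem := pointsPred_range_map h𝒵.isStack.1 h𝒳.isStack.1 φ
  have hsm : AlgSt.RepByAlgSpWith (AlgSp.LocP @Smooth)
      (liftSub (pointsPred (Set.range (AlgSt.Points.map φ))) φ hmem) :=
    repByAlgSpWith_cancel_mono _ Groth.Agent.Lib.Helper15SmLoc.bcStable_smooth _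
      (AlgSt.subIncl 𝒳 _) (isMono_of_isOpenImm _ hS.2.2) hφ
  refine ⟨_, hmem, hQ, range_pointsPred h𝒳 _ hopen, hsm, ?_⟩
  refine (isSurjective_iff_repByAlgSpWith h𝒵 hS.2.1 _ (fun U y => ?_)).1
    (surjective_liftSub_pointsPred h𝒵.isStack.1 h𝒳 φ hopen)
  obtain ⟨F, e, he, -⟩ := hsm U y
  exact ⟨F, e, he⟩

/-- The image of an open subspace of a smooth chart from an algebraic space. -/
theorem exists_image_open_subspace (h𝒳 : AlgSt.IsAlgStack Scheme.fppfPrecoverage 𝒳)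
    (U : AlgSp.Space S) (u : AlgSt.ofSp U.obj ⥤ᵇ 𝒳)
    (hu₁ : AlgSt.RepByAlgSpWith (AlgSp.LocP @Smooth) u)
    (V : AlgSp.Space S) (j : V ⟶ U) (hj : AlgSp.RepWith @IsOpenImmersion j.hom) :
    ∃ (Q : 𝒳.obj → Prop) (hmem : ∀ z, Q ((BasedFunctor.comp (AlgSt.ofSpMap j.hom) u).obj z)),
      IsOpenPred 𝒳 Q ∧
      AlgSt.RepByAlgSpWith (AlgSp.LocP @Smooth)
        (liftSub Q (BasedFunctor.comp (AlgSt.ofSpMap j.hom) u) hmem) ∧
      AlgSt.RepByAlgSpWith AlgSp.IsSurjectiveMor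
        (liftSub Q (BasedFunctor.comp (AlgSt.ofSpMap j.hom) u) hmem) := by
  have hV : AlgSt.IsAlgStack Scheme.fppfPrecoverage (AlgSt.ofSp V.obj) := isAlgStack_ofSp V
  have hUst : AlgSt.IsAlgStack Scheme.fppfPrecoverage (AlgSt.ofSp U.obj) := isAlgStack_ofSp U
  have hj' : AlgSp.LocP @Smooth j.hom := by
    have he' : AlgSp.RepWith @Etale j.hom := Groth.Agent.Lib.Helper15OpenSub.repWith_mono
      (fun _ _ g hg => by have : IsOpenImmersion g := hg; infer_instance) hj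
    have het : AlgSp.IsEtaleMor j.hom := fun V φ hφ => MorphismProperty.comp_mem _ _ _ hφ he'
    exact (Groth.Agent.S10265.result j het).2.1
  have hjs : AlgSt.RepByAlgSpWith (AlgSp.LocP @Smooth) (AlgSt.ofSpMap j.hom) :=
    Groth.Agent.Lib.Helper15SpMapRep.repByAlgSpWith_ofSpMap _
      Groth.Agent.Lib.Helper15SmLoc.bcStable_smooth V U j hj'
  have hφ : AlgSt.RepByAlgSpWith (AlgSp.LocP @Smooth)
      (BasedFunctor.comp (AlgSt.ofSpMap j.hom) u) :=
    Groth.Agent.Lib.Helper15RepComp.repByAlgSpWith_comp_of_compCond hV.isStack.1 hUst.isStack.1 _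
      Groth.Agent.Lib.Helper15Atlas.compCond_smooth _ _ hjs hu₁
  obtain ⟨Q, hmem, hQ, -, hsm, hsurj⟩ := exists_image_substack hV h𝒳 _ hφ
  exact ⟨Q, hmem, hQ, hsm, hsurj⟩

end Groth.Agent.R2.H59.ImageSub
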