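import Mathlib
import Groth.Prelude.Def_AlgSt3
import Groth.Agent.R2.H59OpenSub
import Groth.Agent.Lib.Helper17AlgStEquiv
import Groth.Agent.Lib.Helper17FibEquiv
import Groth.Agent.Lib.Helper17StkLoc
import Groth.Agent.Lib.Helper17MonoFF
import Groth.Agent.S12868

/-!
# The essential image of an immersion as a substack (helper59)
-/

set_option autoImplicit false
set_option backward.isDefEq.respectTransparency false
set_option backward.isDefEq.respectTransparency.types false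
set_option linter.style.haveILetI false
set_option linter.unusedSectionVars false

universe u

open CategoryTheory CategoryTheory.Functor CategoryTheory.Limits AlgebraicGeometry Opposite

namespace Groth.Agent.R2.H59.ImmImage

open Groth.Agent.Lib.Helper17 Groth.Agent.R2.H59.OpenSub

variable {S : Scheme.{u}} {𝒵 𝒳 : AlgSt.Cat S}

/-- The essential image of a functor over the base, as a predicate on objects. -/
def essImagePred (i : 𝒵 ⥤ᵇ 𝒳) (x : 𝒳.obj) : Prop := ∃ z : 𝒵.obj, Nonempty (i.obj z ≅ x)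

theorem essImagePred_closed (i : 𝒵 ⥤ᵇ 𝒳) :
    ObjectProperty.IsClosedUnderIsomorphisms (essImagePred i) :=
  ⟨fun e ⟨z, ⟨e'⟩⟩ => ⟨z, ⟨e' ≪≫ e⟩⟩⟩

/-- The functor to the essential image. -/
def toEssImage (i : 𝒵 ⥤ᵇ 𝒳) : 𝒵 ⥤ᵇ AlgSt.fullSub 𝒳 (essImagePred i) :=
  liftSub _ i (fun z => ⟨z, ⟨Iso.refl _⟩⟩)

theorem toEssImage_comp (i : 𝒵 ⥤ᵇ 𝒳) :
    BasedFunctor.comp (toEssImage i) (AlgSt.subIncl 𝒳 (essImagePred i)) = i := rfl

theorem essSurjOver_toEssImage (h𝒵 : FibCat.IsFibGrpd 𝒵.p) (h𝒳 : FibCat.IsFibGrpd 𝒳.p)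
    (i : 𝒵 ⥤ᵇ 𝒳) : EssSurjOver (toEssImage i) := by
  intro η
  obtain ⟨z, ⟨e⟩⟩ := η.property
  let g : 𝒳.p.obj η.obj ⟶ 𝒵.p.obj z := 𝒳.p.map e.inv ≫ eqToHom (i.w_obj z)
  obtain ⟨z', c, hc⟩ := h𝒵.exists_lift (x := z) g
  have h1 : 𝒳.p.IsHomLift g (i.map c) := BasedFunctor.preserves_isHomLift i g c
  have h2 : 𝒳.p.IsHomLift g e.inv := inferInstance
  obtain ⟨ε, hε, -⟩ := IsFibGrpd.exists_iso_of_lifts h𝒳 g (i.map c) e.inv
  exact ⟨z', ObjectProperty.isoMk _ ε, (isHomLift_comp_iff (ObjectProperty.ι _) 𝒳.p _ _).2 hε⟩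

theorem isEquivOver_toEssImage (h𝒵 : FibCat.IsFibGrpd 𝒵.p) (h𝒳 : FibCat.IsFibGrpd 𝒳.p)
    (i : 𝒵 ⥤ᵇ 𝒳) [i.toFunctor.Full] [i.toFunctor.Faithful] :
    FibCat.IsEquivOver (toEssImage i) := by
  have hfull : (toEssImage i).toFunctor.Full :=
    ⟨fun {a b} m => ⟨i.toFunctor.preimage m.hom, by
      apply ObjectProperty.hom_ext
      exact i.toFunctor.map_preimage m.hom⟩⟩
  have hfaith : (toEssImage i).toFunctor.Faithful :=
    ⟨fun {a b} m m' h => i.toFunctor.map_injective (congrArg (fun k => k.hom) h)⟩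
  exact isEquivOver_of_fullyFaithful_of_essSurjOver _ (essSurjOver_toEssImage h𝒵 h𝒳 i)

/-- Uniqueness: a strictly full subcategory onto which `i` is an equivalence is the essential
image. -/
theorem eq_essImagePred (i : 𝒵 ⥤ᵇ 𝒳) (Q' : 𝒳.obj → Prop)
    (hQ' : ObjectProperty.IsClosedUnderIsomorphisms Q')
    (i' : 𝒵 ⥤ᵇ AlgSt.fullSub 𝒳 Q') (hi' : FibCat.IsEquivOver i')
    (e : BasedFunctor.comp i' (AlgSt.subIncl 𝒳 Q') ≅ i) : Q' = essImagePred i := by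
  funext x
  apply propext
  constructor
  · intro hx
    obtain ⟨z, ε, -⟩ := IsEquivOver.essSurjOver i' hi' ⟨x, hx⟩
    exact ⟨z, ⟨(bApp e z).symm ≪≫ (ObjectProperty.ι Q').mapIso ε⟩⟩
  · rintro ⟨z, ⟨ε⟩⟩
    exact hQ'.of_iso (bApp e z ≪≫ ε) (i'.obj z).property

end Groth.Agent.R2.H59.ImmImage
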