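-- helper59: the relative inertia as base change of the diagonal along itself, on the level of
-- `RepByAlgSpWith`.
import Mathlib
import Groth.Agent.Lib.Helper17FibInertia3
import Groth.Agent.Lib.Helper17AlgStEquiv
import Groth.Agent.Lib.Helper17AlgStRep

set_option autoImplicit false
set_option backward.isDefEq.respectTransparency false
set_option backward.isDefEq.respectTransparency.types false
open CategoryTheory CategoryTheory.Functor CategoryTheory.Limits Opposite AlgebraicGeometry

universe u

namespace Groth.Agent.R2.H59.Inertia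

open Groth.Agent.Lib.Helper17

variable {S : Scheme.{u}} {𝒳 𝒴 : AlgSt.Cat S}

/-- The structure functor of the relative inertia is the base change of the diagonal along itself. -/
theorem repByAlgSpWith_inertiaToBase_iff (Q : MorphismProperty (AlgSp.Sp S)) (f : 𝒳 ⥤ᵇ 𝒴) :
    AlgSt.RepByAlgSpWith Q (FibCat.fpFst (FibCat.diag f) (FibCat.diag f)) ↔
      AlgSt.RepByAlgSpWith Q (FibCat.inertiaToBase f) :=
  repByAlgSpWith_of_square Q (FibCat.fpFst (FibCat.diag f) (FibCat.diag f))
    (FibCat.inertiaToBase f) (inertiaToFpDiag f) (BasedFunctor.id 𝒳)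
    (isEquivOver_inertiaToFpDiag f) (isEquivOver_id _) (Iso.refl _)

/-- The neutral section of the relative inertia is the second diagonal. -/
theorem repByAlgSpWith_inertiaNeutral_iff (Q : MorphismProperty (AlgSp.Sp S)) (f : 𝒳 ⥤ᵇ 𝒴) :
    AlgSt.RepByAlgSpWith Q (FibCat.diag (FibCat.diag f)) ↔
      AlgSt.RepByAlgSpWith Q (FibCat.inertiaNeutral f) := by
  refine repByAlgSpWith_of_square Q (FibCat.diag (FibCat.diag f)) (FibCat.inertiaNeutral f)
    (BasedFunctor.id 𝒳) (inertiaToFpDiag f) (isEquivOver_id _) (isEquivOver_inertiaToFpDiag f) ?_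
  exact fpIsoMk (FibCat.diag f) (FibCat.diag f)
    (H := BasedFunctor.comp (FibCat.inertiaNeutral f) (inertiaToFpDiag f))
    (K := BasedFunctor.comp (BasedFunctor.id 𝒳) (FibCat.diag (FibCat.diag f)))
    (Iso.refl _) (Iso.refl _) (fun x => by
      apply ObjectProperty.hom_ext
      apply Limits.CategoricalPullback.hom_ext
      · change 𝟙 x ≫ 𝟙 x = 𝟙 x ≫ 𝟙 x
        rfl
      · change 𝟙 x ≫ 𝟙 x = 𝟙 x ≫ 𝟙 x
        rfl)

end Groth.Agent.R2.H59.Inertia
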