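import Mathlib
import Groth.Prelude.Def_W4c2isonaturalstkIso
import Groth.Prelude.Def_AlgSt4
import Groth.Agent.Lib.Helper17StkPts
import Groth.Agent.Lib.Helper17StkLoc
import Groth.Agent.Lib.Helper17MonoFF
import Groth.Agent.Lib.Helper17FibFp
import Groth.Agent.Lib.Helper15PtsComp
import Groth.Agent.R2.H59SmoothLocus

/-!
# Isomorphism-class presheaves: surjectivity and open immersions (helper59)
-/

set_option autoImplicit false
set_option backward.isDefEq.respectTransparency false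
set_option backward.isDefEq.respectTransparency.types false
set_option linter.style.haveILetI false
set_option linter.unusedSectionVars false

universe u

open CategoryTheory CategoryTheory.Functor CategoryTheory.Limits AlgebraicGeometry Opposite

namespace Groth.Agent.R2.H59.IsoNatLib

open Groth.Agent.Lib.Helper17 IsoNat

variable {S : Scheme.{u}}

section Basics

variable {𝒳 𝒴 : AlgSt.Cat S}

theorem cls_eq_of_iso {T : Over S} (x y : 𝒳.p.Fiber T) (e : x.1 ≅ y.1)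
    (he : 𝒳.p.IsHomLift (𝟙 T) e.hom) : cls x = cls y := by
  have hinv : 𝒳.p.IsHomLift (𝟙 T) e.inv := IsHomLift.lift_id_inv 𝒳.p T e
  refine Quotient.sound ⟨⟨⟨e.hom, he⟩, ⟨e.inv, hinv⟩, ?_, ?_⟩⟩
  · exact Subtype.ext e.hom_inv_id
  · exact Subtype.ext e.inv_hom_id

theorem exists_iso_of_cls_eq {T : Over S} {x y : 𝒳.p.Fiber T} (h : cls x = cls y) :
    ∃ e : x.1 ≅ y.1, 𝒳.p.IsHomLift (𝟙 T) e.hom := by
  obtain ⟨ε⟩ := Quotient.exact h
  exact ⟨Functor.Fiber.fiberInclusion.mapIso ε, ε.hom.2⟩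

theorem mapCls_cls (f : 𝒳 ⥤ᵇ 𝒴) {T : Over S} (x : 𝒳.p.Fiber T) :
    mapCls f T (cls x) = cls ((fibFun f T).obj x) := rfl

theorem fibFun_obj_val (f : 𝒳 ⥤ᵇ 𝒴) {T : Over S} (x : 𝒳.p.Fiber T) :
    ((fibFun f T).obj x).1 = f.obj x.1 := rfl

end Basics

section Surj

variable {𝒳 𝒴 𝒳' 𝒴' : AlgSt.Cat S}

/-- Surjectivity on points is detected by the presheaves of isomorphism classes. -/
theorem isSurjective_of_fIsoSq (h𝒳 : FibCat.IsFibGrpd 𝒳.p) (h𝒴 : FibCat.IsFibGrpd 𝒴.p)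
    (f : 𝒳 ⥤ᵇ 𝒴) (f' : 𝒳' ⥤ᵇ 𝒴') (φ : FIsoSq f f') (hf : AlgSt.IsSurjective f) :
    AlgSt.IsSurjective f' := by
  intro z'
  obtain ⟨q', rfl⟩ := AlgSt.Points.mk_surjective z'
  let TK : Over S := Over.mk q'.str
  let y'F : 𝒴'.p.Fiber TK := ⟨q'.obj, q'.lies⟩
  obtain ⟨yF, hyF⟩ := Quotient.exists_rep ((φ.tgt.toEquiv TK).symm (cls y'F))
  have hy : φ.tgt.toEquiv TK (cls yF) = cls y'F := by
    have : cls yF = (φ.tgt.toEquiv TK).symm (cls y'F) := hyF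
    rw [this, Equiv.apply_symm_apply]
  let q : AlgSt.FPt 𝒴 := { K := q'.K, str := q'.str, obj := yF.1, lies := yF.2 }
  obtain ⟨w, hw⟩ := hf (AlgSt.Points.mk q)
  obtain ⟨px, rfl⟩ := AlgSt.Points.mk_surjective w
  rw [AlgSt.Points.map_mk] at hw
  obtain ⟨r, b, a, -⟩ := fpt_rel_of_mk_eq h𝒴 hw
  let TM : Over S := Over.mk r.str
  let t : TM ⟶ 𝒳.p.obj px.obj := eqToHom r.lies.symm ≫ 𝒴.p.map b ≫ eqToHom (f.w_obj px.obj)
  obtain ⟨xM, c, hc⟩ := h𝒳.exists_lift (x := px.obj) t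
  have hxM : 𝒳.p.obj xM = TM := IsHomLift.domain_eq 𝒳.p t c
  have h1 : 𝒴.p.IsHomLift t (f.map c) := BasedFunctor.preserves_isHomLift f t c
  have h2 : 𝒴.p.IsHomLift t b := inferInstance
  obtain ⟨e, he, -⟩ := IsFibGrpd.exists_iso_of_lifts h𝒴 t (f.map c) b
  let xMF : 𝒳.p.Fiber TM := ⟨xM, hxM⟩
  let rF : 𝒴.p.Fiber TM := ⟨r.obj, r.lies⟩
  have hcls : mapCls f TM (cls xMF) = cls rF := cls_eq_of_iso _ _ e he
  obtain ⟨x'MF, hx'⟩ := Quotient.exists_rep (φ.src.toEquiv TM (cls xMF))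
  have hx'' : cls x'MF = φ.src.toEquiv TM (cls xMF) := hx'
  have hcomm := φ.comm TM (cls xMF)
  let g : TM ⟶ TK := eqToHom r.lies.symm ≫ 𝒴.p.map a ≫ eqToHom yF.2
  have hg : 𝒴.p.IsHomLift g a := inferInstance
  obtain ⟨y'', y''', b', hb', h3, h4⟩ := φ.tgt.natural g rF yF a hg
  have h5 : cls ((fibFun f' TM).obj x'MF) = cls y'' := by
    rw [← h3, ← hcls, hcomm, ← hx'']
    rfl
  have h6 : cls y''' = cls y'F := by rw [← h4, hy]
  obtain ⟨e₁, -⟩ := exists_iso_of_cls_eq h5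
  obtain ⟨e₂, -⟩ := exists_iso_of_cls_eq h6
  let p' : AlgSt.FPt 𝒳' := { K := r.K, str := r.str, obj := x'MF.1, lies := x'MF.2 }
  refine ⟨AlgSt.Points.mk p', ?_⟩
  rw [AlgSt.Points.map_mk]
  exact AlgSt.Points.sound ⟨p'.map f', 𝟙 _, e₁.hom ≫ b' ≫ e₂.hom, trivial⟩

/-- The representable-surjective version. -/
theorem repByAlgSpWith_surjective_of_fIsoSq
    (h𝒳 : AlgSt.IsAlgStack Scheme.fppfPrecoverage 𝒳)
    (h𝒴 : AlgSt.IsAlgStack Scheme.fppfPrecoverage 𝒴)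
    (h𝒳' : AlgSt.IsAlgStack Scheme.fppfPrecoverage 𝒳')
    (h𝒴' : AlgSt.IsAlgStack Scheme.fppfPrecoverage 𝒴')
    (f : 𝒳 ⥤ᵇ 𝒴) (f' : 𝒳' ⥤ᵇ 𝒴') (φ : FIsoSq f f') (hf' : AlgSt.RepByAlgSp1 f')
    (hf : AlgSt.RepByAlgSpWith AlgSp.IsSurjectiveMor f) :
    AlgSt.RepByAlgSpWith AlgSp.IsSurjectiveMor f' := by
  have hf1 : AlgSt.RepByAlgSp1 f := fun U y => by
    obtain ⟨F, e, he, -⟩ := hf U y
    exact ⟨F, e, he⟩
  have hs : AlgSt.IsSurjective f :=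
    (Groth.Agent.Lib.Helper15PtsComp.isSurjective_iff_repByAlgSpWith h𝒳 h𝒴 f hf1).2 hf
  exact (Groth.Agent.Lib.Helper15PtsComp.isSurjective_iff_repByAlgSpWith h𝒳' h𝒴' f' hf').1
    (isSurjective_of_fIsoSq h𝒳.isStack.1 h𝒴.isStack.1 f f' φ hs)

end Surj

section OpenImm

variable {𝒳 𝒴 𝒴' : AlgSt.Cat S}

/-- Objects of `𝒳 ×_𝒴 𝒴'` for a fully faithful `i : 𝒴' ⟶ 𝒴` are determined up to isomorphism by
their first components. -/
theorem cls_fp_eq_of_ff (f : 𝒳 ⥤ᵇ 𝒴) (i : 𝒴' ⥤ᵇ 𝒴) [i.toFunctor.Full] [i.toFunctor.Faithful]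
    (T : Over S) (z₁ z₂ : (FibCat.fp f i).p.Fiber T)
    (h₁ : mapCls (FibCat.fpFst f i) T (cls z₁) = mapCls (FibCat.fpFst f i) T (cls z₂)) :
    cls z₁ = cls z₂ := by
  obtain ⟨α, hα⟩ := exists_iso_of_cls_eq h₁
  change z₁.1.obj.fst ≅ z₂.1.obj.fst at α
  let m : i.obj z₁.1.obj.snd ⟶ i.obj z₂.1.obj.snd :=
    z₁.1.obj.iso.inv ≫ f.map α.hom ≫ z₂.1.obj.iso.hom
  let β : z₁.1.obj.snd ⟶ z₂.1.obj.snd := i.toFunctor.preimage m
  have hβ : i.map β = m := i.toFunctor.map_preimage m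
  have hiso : IsIso β := by
    have : IsIso (i.toFunctor.map β) := by
      rw [show i.toFunctor.map β = m from hβ]
      infer_instance
    exact isIso_of_fully_faithful i.toFunctor β
  let e₀ : z₁.1.obj ≅ z₂.1.obj :=
    CategoricalPullback.mkIso α (asIso β) (by
      change f.map α.hom ≫ z₂.1.obj.iso.hom = z₁.1.obj.iso.hom ≫ i.map β
      rw [hβ]
      simp [m])
  refine cls_eq_of_iso z₁ z₂ (ObjectProperty.isoMk _ e₀) ?_
  rw [fp_isHomLift_iff]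
  exact hα

end OpenImm

end Groth.Agent.R2.H59.IsoNatLib
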