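import Mathlib
import Groth.Agent.R2.H59LocQBC
import Groth.Agent.R2.H59LocQDesc
import Groth.Agent.Lib.Helper17FibEquiv
import Groth.Agent.Lib.Helper17FibFp

/-!
# Cancelling a fully faithful functor from a chart-square property (helper59)

For `i : 𝒴' ⟶ 𝒴` fully faithful and `c : 𝒵 ⟶ 𝒴'`, the functor `𝒵 ⟶ 𝒴' ×_𝒴 𝒵` is an equivalence, so
`c` is a base change of `c ≫ i`; hence `LocQ P (c ≫ i)` gives `LocQ P c` for `P` stable under base
change.
-/

set_option autoImplicit false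
set_option backward.isDefEq.respectTransparency false
set_option backward.isDefEq.respectTransparency.types false
set_option linter.style.haveILetI false
set_option linter.unusedSectionVars false

universe u

open CategoryTheory CategoryTheory.Functor CategoryTheory.Limits AlgebraicGeometry Opposite

namespace Groth.Agent.R2.H59.LocQCancel

open Groth.Agent.Lib.Helper17 Groth.Agent.Lib.Helper15DiagLft Groth.Agent.R2.H59.LocQBC

section Cmp

variable {S : Scheme.{u}} {𝒵 𝒴' 𝒴 : AlgSt.Cat S} (i : 𝒴' ⥤ᵇ 𝒴) (c : 𝒵 ⥤ᵇ 𝒴')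

/-- The comparison functor `𝒵 ⟶ 𝒴' ×_𝒴 𝒵`. -/
abbrev cmpF : 𝒵 ⥤ᵇ FibCat.fp i (BasedFunctor.comp c i) :=
  FibCat.fpLift (F := i) (G := BasedFunctor.comp c i) c (BasedFunctor.id 𝒵) (Iso.refl _)

theorem cmpF_fst : BasedFunctor.comp (cmpF i c) (FibCat.fpFst i (BasedFunctor.comp c i)) = c := rfl

theorem cmpF_faithful : (cmpF i c).toFunctor.Faithful :=
  ⟨fun {_ _} _ _ h => congrArg (fun k => k.hom.snd) h⟩

theorem cmpF_full [i.toFunctor.Faithful] : (cmpF i c).toFunctor.Full :=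
  ⟨fun {a b} k => by
    have hw := k.hom.w
    have hw1 : i.map k.hom.fst = i.map (c.map k.hom.snd) := by
      have : i.map k.hom.fst ≫ 𝟙 _ = 𝟙 _ ≫ i.map (c.map k.hom.snd) := hw
      simpa using this
    have h12 : k.hom.fst = c.map k.hom.snd := i.toFunctor.map_injective hw1
    refine ⟨k.hom.snd, ?_⟩
    apply ObjectProperty.hom_ext
    apply Limits.CategoricalPullback.hom_ext
    · exact h12.symm
    · rfl⟩

theorem cmpF_essSurjOver [i.toFunctor.Full] [i.toFunctor.Faithful] : EssSurjOver (cmpF i c) := by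
  intro η
  let ψ : η.obj.fst ⟶ c.obj η.obj.snd := i.toFunctor.preimage η.obj.iso.hom
  have hψ : i.map ψ = η.obj.iso.hom := i.toFunctor.map_preimage _
  have hiso : IsIso ψ := by
    have : IsIso (i.toFunctor.map ψ) := by
      rw [show i.toFunctor.map ψ = η.obj.iso.hom from hψ]
      infer_instance
    exact isIso_of_fully_faithful i.toFunctor ψ
  have hη : 𝒴.p.IsHomLift (𝟙 (𝒴'.p.obj η.obj.fst)) η.obj.iso.hom := η.property
  have hψl : 𝒴'.p.IsHomLift (𝟙 (𝒴'.p.obj η.obj.fst)) ψ := by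
    rw [← BasedFunctor.isHomLift_iff i, hψ]
    exact hη
  let e₀ : ((cmpF i c).obj η.obj.snd).obj ≅ η.obj :=
    CategoricalPullback.mkIso (asIso ψ).symm (Iso.refl _) (by
      change i.map (inv ψ) ≫ η.obj.iso.hom = 𝟙 _ ≫ i.map (c.map (𝟙 _))
      rw [← hψ, ← i.toFunctor.map_comp]
      simp)
  refine ⟨η.obj.snd, ObjectProperty.isoMk _ e₀, ?_⟩
  rw [fp_isHomLift_iff]
  change 𝒴'.p.IsHomLift (𝟙 (𝒴'.p.obj η.obj.fst)) (inv ψ)
  infer_instance

theorem isEquivOver_cmpF [i.toFunctor.Full] [i.toFunctor.Faithful] :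
    FibCat.IsEquivOver (cmpF i c) := by
  have := cmpF_faithful i c
  have := cmpF_full i c
  exact isEquivOver_of_fullyFaithful_of_essSurjOver _ (cmpF_essSurjOver i c)

end Cmp

section Main

variable {S : Scheme.{u}} {𝒵 𝒴' 𝒴 : AlgSt.Cat S}

/-- Cancelling a fully faithful functor on the right from `LocQ P`. -/
theorem locQ_cancel_ff (P : MorphismProperty (AlgSp.Sp S)) (hP : AlgSp.IsSmoothLocalST P)
    (hPb : BCStable P)
    (h𝒵 : AlgSt.IsAlgStack Scheme.fppfPrecoverage 𝒵)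
    (h𝒴' : AlgSt.IsAlgStack Scheme.fppfPrecoverage 𝒴')
    (h𝒴 : AlgSt.IsAlgStack Scheme.fppfPrecoverage 𝒴)
    (i : 𝒴' ⥤ᵇ 𝒴) [i.toFunctor.Full] [i.toFunctor.Faithful] (c : 𝒵 ⥤ᵇ 𝒴')
    (h : AlgSt.LocQ P (BasedFunctor.comp c i)) : AlgSt.LocQ P c := by
  have h1 : AlgSt.LocQ P (FibCat.fpFst i (BasedFunctor.comp c i)) :=
    locQ_fpFst P hP hPb h𝒵 h𝒴 h𝒴' (BasedFunctor.comp c i) i h
  obtain ⟨G, hG, -, ⟨β⟩⟩ := IsEquivOver.exists_inverse_isEquivOver' (cmpF i c) (isEquivOver_cmpF i c)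
  refine locQ_of_square_equiv P c (FibCat.fpFst i (BasedFunctor.comp c i)) G (BasedFunctor.id _) hG
    (isEquivOver_id _) ?_ h1
  exact (whiskerRightIso β.symm (FibCat.fpFst i (BasedFunctor.comp c i)) :
    BasedFunctor.comp (FibCat.fpFst i (BasedFunctor.comp c i)) (BasedFunctor.id _) ≅
      BasedFunctor.comp G c)

end Main

end Groth.Agent.R2.H59.LocQCancel
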