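-- helper59: the neutral section of the relative inertia is an immersion when the inertia (or the
-- diagonal) is locally separated.
import Mathlib
import Groth.Agent.R2.H59KeyDiag
import Groth.Agent.R2.H59Cancel2
import Groth.Agent.R2.H59Inertia
import Groth.Agent.Lib.Helper15EquivRep
import Groth.Agent.Lib.Helper15LocQEngine

set_option autoImplicit false
set_option backward.isDefEq.respectTransparency false
set_option backward.isDefEq.respectTransparency.types false
open CategoryTheory CategoryTheory.Functor CategoryTheory.Limits Opposite AlgebraicGeometry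

universe u

namespace Groth.Agent.R2.H59.NeutralImm

open Groth.Agent.R2.H59.Cancel2 Groth.Agent.R2.H59.Inertia Groth.Agent.Lib.Helper17
  Groth.Agent.Lib.Helper15DiagLft

variable {S : Scheme.{u}} {𝒳 𝒴 : AlgSt.Cat S}

/-- A section of a functor whose diagonal has `RepWith P` has `RepWith P`, for `P` stable under
base change and composition and containing identities. -/
theorem repByAlgSpWith_of_section (P : MorphismProperty Scheme.{u}) [P.IsStableUnderBaseChange]
    [P.IsMultiplicative] (s : 𝒳 ⥤ᵇ 𝒴) (p : 𝒴 ⥤ᵇ 𝒳)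
    (e : BasedFunctor.comp s p ≅ BasedFunctor.id 𝒳)
    (hp : AlgSt.RepByAlgSpWith (AlgSp.RepWith (S := S) P).diagonal p) :
    AlgSt.RepByAlgSpWith (AlgSp.RepWith P) s := by
  have hb : BCStable (AlgSp.RepWith (S := S) P) := bcStable_repWith _
  have hb' : BCStable (AlgSp.RepWith (S := S) P).diagonal := bcStable_diagonal_repWith P
  have hpc : (AlgSp.RepWith (S := S) P).HasOfPostcompProperty
      (AlgSp.RepWith (S := S) P).diagonal :=
    MorphismProperty.hasOfPostcompProperty_iff_le_diagonal.2 le_rfl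
  refine repByAlgSpWith_cancel₂ (AlgSp.RepWith P) (AlgSp.RepWith (S := S) P).diagonal hb hb'
    (fun _ _ _ _ _ _ a b hb hab => hpc.of_postcomp a b hb hab) s p hp ?_
  refine Groth.Agent.Lib.Helper15LocQEngine.repByAlgSpWith_of_iso _ e.symm ?_
  exact Groth.Agent.Lib.Helper15EquivRep.repByAlgSpWith_of_isEquivOver _
    (fun U => AlgSp.repWith_id _ U) (BasedFunctor.id 𝒳) (isEquivOver_id _)

theorem isImm_inertiaNeutral_of_inertiaToBase (f : 𝒳 ⥤ᵇ 𝒴)
    (h : AlgSt.RepByAlgSpWith AlgSp.IsLocallySeparatedMor (FibCat.inertiaToBase f)) :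
    AlgSt.IsImm (FibCat.inertiaNeutral f) :=
  repByAlgSpWith_of_section @IsImmersion (FibCat.inertiaNeutral f) (FibCat.inertiaToBase f)
    (Iso.refl _) h

theorem isImm_inertiaNeutral_of_diag (f : 𝒳 ⥤ᵇ 𝒴)
    (h : AlgSt.RepByAlgSpWith AlgSp.IsLocallySeparatedMor (FibCat.diag f)) :
    AlgSt.IsImm (FibCat.inertiaNeutral f) :=
  (repByAlgSpWith_inertiaNeutral_iff _ f).1
    (Groth.Agent.R2.H59.KeyDiag.repByAlgSpWith_diag_of_repByAlgSpWith_diagonal
      (AlgSp.RepWith @IsImmersion) (bcStable_repWith _) (FibCat.diag f) h)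

end Groth.Agent.R2.H59.NeutralImm
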