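-- helper59: effective descent of (representable) open immersions along locally surjective maps
-- of fppf sheaves: if the base change of `a : F ⟶ G` along a locally surjective `b : H ⟶ G` is
-- representable by open immersions, so is `a`.  No algebraic-space hypothesis on `F`, `G`, `H`.
import Mathlib
import Groth.Agent.R2.H59AffDescGlue
import Groth.Agent.R2.H44Descent
import Groth.Agent.S9884
import Groth.Agent.S9928

set_option autoImplicit false
set_option linter.unusedSectionVars false
set_option linter.style.haveILetI false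
universe u
open CategoryTheory CategoryTheory.Limits AlgebraicGeometry Opposite

set_option backward.isDefEq.respectTransparency false

namespace Groth.Agent.R2.H59.OpenDesc

open Groth.Agent.S13210 Groth.Agent.Lib.Helper12.ZarGlue Groth.Agent.R2.H59.AffDescGlue

variable {S : Scheme.{u}} {F G H Q : AlgSp.Sp S}

/-- Local lifts along a locally surjective map of fppf sheaves, indexed by a small type. -/
lemma exists_lift_family (b : H ⟶ G) [Sheaf.IsLocallySurjective b] {T : Over S}
    (g : (AlgSp.yon S).obj T ⟶ G) :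
    ∃ (κ : Type u) (Y : κ → Over S) (f : ∀ k, Y k ⟶ T) (d : ∀ k, (AlgSp.yon S).obj (Y k) ⟶ H),
      (∀ k, Flat (f k).left ∧ LocallyOfFinitePresentation (f k).left) ∧
      (∀ w : T.left, ∃ k, w ∈ Set.range (f k).left) ∧
      ∀ k, d k ≫ b = (AlgSp.yon S).map (f k) ≫ g := by
  obtain ⟨R, hR, hlift⟩ := Groth.Agent.S9884.exists_fppf_lift b g
  obtain ⟨ι, U, t, rfl⟩ := R.exists_eq_ofArrows
  rw [Scheme.fppfPrecoverage, Scheme.ofArrows_mem_precoverage_iff] at hR
  obtain ⟨hsurj, hP⟩ := hR
  choose i hi using hsurj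
  have hd : ∀ w : T.left, ∃ d : (AlgSp.yon S).obj (Over.mk (t (i w) ≫ T.hom)) ⟶ H,
      d ≫ b = (AlgSp.yon S).map (Over.homMk (t (i w)) : Over.mk (t (i w) ≫ T.hom) ⟶ T) ≫ g :=
    fun w => hlift (t (i w)) ⟨i w⟩
  choose d hd using hd
  exact ⟨T.left, fun w => Over.mk (t (i w) ≫ T.hom), fun w => Over.homMk (t (i w)), d,
    fun w => ⟨(hP (i w)).1, (hP (i w)).2⟩, fun w => ⟨w, hi w⟩, hd⟩

/-- **Descent of open immersions** along a locally surjective map of fppf sheaves. -/
theorem repWith_isOpenImmersion_of_locallySurjective (a : F ⟶ G) (b : H ⟶ G)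
    [Sheaf.IsLocallySurjective b] (b' : Q ⟶ F) (a' : Q ⟶ H) (sq : IsPullback b' a' a b)
    (h : AlgSp.RepWith @IsOpenImmersion a') : AlgSp.RepWith @IsOpenImmersion a := by
  haveI : Mono a' := Groth.Agent.S9928.mono_of_repWith @IsOpenImmersion
    (fun X Y g hg => by haveI : IsOpenImmersion g := hg; infer_instance) a' h
  haveI : Mono a := Groth.Agent.R2.H44.Descent.mono_of_isPullback sq.flip
  refine MorphismProperty.relative.of_exists (fun T g => ?_)
  obtain ⟨κ, Y, f, d, hf, hs, hd⟩ := exists_lift_family b g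
  -- the open pieces
  have hO : ∀ k, ∃ (O : Over S) (o : O ⟶ Y k) (c : (AlgSp.yon S).obj O ⟶ Q),
      IsPullback c ((AlgSp.yon S).map o) a' (d k) ∧ IsOpenImmersion o.left := by
    intro k
    obtain ⟨O, o, c, sqO⟩ := h.1 (d k)
    exact ⟨O, o, c, sqO, h.2 (d k) c o sqO⟩
  choose O o c sqO hoi using hO
  haveI : ∀ k, IsOpenImmersion (o k).left := hoi
  haveI : ∀ k, Flat (f k).left := fun k => (hf k).1
  haveI : ∀ k, LocallyOfFinitePresentation (f k).left := fun k => (hf k).2
  have big : ∀ k, IsPullback (c k ≫ b') ((AlgSp.yon S).map (o k)) a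
      ((AlgSp.yon S).map (f k) ≫ g) := by
    intro k
    have h1 := (sqO k).paste_horiz sq
    rw [hd k] at h1
    exact h1
  -- the open subscheme of `T`
  let V : T.left.Opens := ⨆ k, ⟨Set.range ((o k).left ≫ (f k).left),
    ((o k).left ≫ (f k).left).isOpenMap.isOpen_range⟩
  have hV : ∀ x : T.left, x ∈ V ↔ ∃ k, x ∈ Set.range ((o k).left ≫ (f k).left) := by
    intro x
    simp only [V, TopologicalSpace.Opens.mem_iSup]
    rfl
  let Vo : Over S := Over.mk (V.ι ≫ T.hom)
  let j : Vo ⟶ T := Over.homMk V.ι rfl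
  haveI : IsOpenImmersion j.left := inferInstanceAs (IsOpenImmersion V.ι)
  haveI : Mono j := by
    haveI : Mono j.left := inferInstanceAs (Mono V.ι)
    exact Over.mono_of_mono_left j
  have hrange : ∀ k, Set.range ((o k).left ≫ (f k).left) ⊆ Set.range V.ι := by
    intro k x hx
    rw [Scheme.Opens.range_ι]
    exact (hV x).2 ⟨k, hx⟩
  let r : ∀ k, O k ⟶ Vo := fun k => Over.homMk (IsOpenImmersion.lift V.ι _ (hrange k)) (by
    change IsOpenImmersion.lift V.ι _ (hrange k) ≫ V.ι ≫ T.hom = (O k).hom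
    rw [IsOpenImmersion.lift_fac_assoc, Category.assoc, Over.w, Over.w])
  have hr : ∀ k, r k ≫ j = o k ≫ f k := by
    intro k
    ext1
    exact IsOpenImmersion.lift_fac _ _ _
  have hrP : ∀ k, IsPullback (𝟙 (O k).left) (r k).left ((o k).left ≫ (f k).left) V.ι :=
    fun k => IsPullback.of_horiz_isIso_mono ⟨by
      rw [Category.id_comp]
      exact (IsOpenImmersion.lift_fac _ _ _).symm⟩
  have hmem : Sieve.ofArrows O r ∈ AlgSp.J S Vo := by
    refine Groth.Agent.R2.H43.CutOut.ofArrows_mem_J O r (fun k => ⟨?_, ?_⟩) (fun v => ?_)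
    · exact MorphismProperty.of_isPullback (P := @Flat) (hrP k) inferInstance
    · exact MorphismProperty.of_isPullback (P := @LocallyOfFinitePresentation) (hrP k)
        inferInstance
    · have hv : V.ι v ∈ V := by
        have : V.ι v ∈ Set.range V.ι := ⟨v, rfl⟩
        rwa [Scheme.Opens.range_ι] at this
      obtain ⟨k, y, hy⟩ := (hV _).1 hv
      refine ⟨k, y, ?_⟩
      apply V.ι.injective
      rw [← hy]
      exact (Scheme.Hom.comp_apply _ _ _).symm.trans
        (congrArg (fun m : (O k).left ⟶ T.left => m y) (IsOpenImmersion.lift_fac _ _ _))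
  -- the section of `F` over `V`
  obtain ⟨ξ, hξ⟩ := Groth.Agent.R2.H43.CutOut.exists_factor_of_cover a
    ((AlgSp.yon S).map j ≫ g) O r hmem (fun k => ⟨c k ≫ b', by
      rw [(big k).w, ← Category.assoc, ← Category.assoc, ← Functor.map_comp, ← Functor.map_comp,
        hr k]⟩)
  refine ⟨Vo, ξ, j, ?_, inferInstanceAs (IsOpenImmersion V.ι)⟩
  refine isPullback_of_yon hξ (fun T' ζ z' hζ => ?_)
  obtain ⟨z, rfl⟩ := (AlgSp.yon S).map_surjective z'
  apply existsUnique_of_exists_of_unique
  · -- existence: `z` lands in `V`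
    have hz : Set.range z.left ⊆ Set.range V.ι := by
      rintro _ ⟨t', rfl⟩
      rw [Scheme.Opens.range_ι]
      obtain ⟨k, y, hy⟩ := hs (z.left t')
      have hP := IsPullback.of_hasPullback z (f k)
      obtain ⟨π, hπ₁, hπ₂⟩ := Scheme.exists_preimage_of_isPullback (hP.map (Over.forget S))
        t' y hy.symm
      have hw : ((AlgSp.yon S).map (pullback.fst z (f k)) ≫ ζ) ≫ a =
          ((AlgSp.yon S).map (pullback.snd z (f k)) ≫ d k) ≫ b := by
        rw [Category.assoc, hζ, Category.assoc, hd k, ← Category.assoc, ← Category.assoc,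
          ← Functor.map_comp, ← Functor.map_comp, hP.w]
      obtain ⟨l', -, hl'⟩ := exists_point (sqO k) (sq.lift _ _ hw) (pullback.snd z (f k))
        (sq.lift_snd _ _ hw)
      refine (hV _).2 ⟨k, l'.left π, ?_⟩
      rw [Scheme.Hom.comp_apply, ← Scheme.Hom.comp_apply l'.left, ← Over.comp_left, hl']
      exact (congrArg (f k).left hπ₂).trans hy
    let l : T' ⟶ Vo := Over.homMk (IsOpenImmersion.lift V.ι z.left hz) (by
      change IsOpenImmersion.lift V.ι z.left hz ≫ V.ι ≫ T.hom = T'.hom
      rw [IsOpenImmersion.lift_fac_assoc, Over.w])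
    have hl : l ≫ j = z := by
      ext1
      exact IsOpenImmersion.lift_fac _ _ _
    refine ⟨(AlgSp.yon S).map l, ?_, by rw [← Functor.map_comp, hl]⟩
    rw [← cancel_mono a, Category.assoc, hξ, ← Category.assoc, ← Functor.map_comp, hl, hζ]
  · rintro l₁ l₂ ⟨-, h₁⟩ ⟨-, h₂⟩
    rw [← cancel_mono ((AlgSp.yon S).map j), h₁, h₂]

end Groth.Agent.R2.H59.OpenDesc
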