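import Groth.Agent.S10110
import Groth.Agent.S12782
import Groth.Agent.S12777
import Groth.Agent.Lib.Helper15RepPsh
import Groth.Agent.Lib.Helper15DiagRepSp
import Groth.Agent.Lib.Helper17StkPsh3
import Groth.Agent.Lib.Helper17AlgStEquiv

/-!
# Algebraic stacks fibred in setoids are algebraic spaces (helper59)

Consequences of the bootstrap theorem for smooth covers (`S10110`).
-/

set_option autoImplicit false
set_option backward.isDefEq.respectTransparency false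
set_option backward.isDefEq.respectTransparency.types false
set_option linter.style.haveILetI false
set_option linter.unusedSectionVars false

universe u

open CategoryTheory CategoryTheory.Functor CategoryTheory.Limits AlgebraicGeometry Opposite

namespace Groth.Agent.R2.H59.StackSp

open AlgSp AlgSt Groth.Agent.Lib.Helper17 Groth.Agent.Lib.Helper15PshFib
  Groth.Agent.Lib.Helper15RepComp Groth.Agent.Lib.Helper15RepPsh

variable {S : Scheme.{u}}

/-- `RepByAlgSpWith Q` of the functor of a presheaf map gives `RepBySpWith Q` of the map, for `Q`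
invariant under precomposition with isomorphisms. -/
theorem repBySpWith_of_repByAlgSpWith (Q : MorphismProperty (AlgSp.Sp S))
    (hQ : ∀ ⦃X Y Z : AlgSp.Sp S⦄ (j : X ≅ Y) (f : Y ⟶ Z), Q (j.hom ≫ f) → Q f)
    {F G : AlgSp.PSp S} (a : F ⟶ G) (h : AlgSt.RepByAlgSpWith Q (Stk.ofPshMap a)) :
    AlgSp.RepBySpWith Q a := by
  intro U ξ F' fst snd sq
  obtain ⟨H, e, he, hQ'⟩ := h U (pshOfSection (uliftYonedaEquiv ξ))
  have sq' := isPullback_of_isEquivOver a (uliftYonedaEquiv ξ) e he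
  rw [Equiv.symm_apply_apply] at sq'
  let i : H.obj.obj ≅ F' := sq'.isoIsPullback _ _ sq
  obtain ⟨hs, hA⟩ := ((AlgSp.isAlgSpaceP_obj_iff H.obj).2 H.property).of_iso i
  refine ⟨hs, hA, ?_⟩
  let j : H.obj ≅ (⟨F', hs⟩ : AlgSp.Sp S) := ObjectProperty.isoMk _ i
  have hj : AlgSt.spMapOfOver (BasedFunctor.comp e (FibCat.fpFst _ _)) =
      j.hom ≫ (ObjectProperty.homMk snd : (⟨F', hs⟩ : AlgSp.Sp S) ⟶ (AlgSp.yon S).obj U) := by
    apply ObjectProperty.hom_ext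
    exact (sq'.isoIsPullback_hom_snd _ _ sq).symm
  rw [hj] at hQ'
  exact hQ j _ hQ'

lemma isSurjectiveMor_of_iso_comp ⦃X Y Z : AlgSp.Sp S⦄ (j : X ≅ Y) (f : Y ⟶ Z)
    (h : AlgSp.IsSurjectiveMor (j.hom ≫ f)) : AlgSp.IsSurjectiveMor f := by
  intro z
  obtain ⟨x, hx⟩ := h z
  refine ⟨AlgSp.Points.map j.hom x, ?_⟩
  rw [← hx, AlgSp.Points.map_comp]

lemma locP_of_iso_comp (P : MorphismProperty Scheme.{u}) ⦃X Y Z : AlgSp.Sp S⦄ (j : X ≅ Y)
    (f : Y ⟶ Z) (h : AlgSp.LocP P (j.hom ≫ f)) : AlgSp.LocP P f := by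
  intro A B a b k ha hb hcomm
  refine h (a ≫ j.inv) b k ?_ hb ?_
  · exact Groth.Agent.R2.H59.QPts.repWith_etale_comp ha
      (MorphismProperty.of_isIso (RepWith @Etale) j.inv)
  · rw [Category.assoc, Iso.inv_hom_id_assoc, hcomm]

/-- An atlas of the category of a presheaf `P`, as a map of presheaves `h_U ⟶ P`. -/
theorem repBySpWith_of_atlas (Q : MorphismProperty (AlgSp.Sp S))
    (hQ : ∀ ⦃X Y Z : AlgSp.Sp S⦄ (j : X ≅ Y) (f : Y ⟶ Z), Q (j.hom ≫ f) → Q f)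
    {P : AlgSp.PSp S} {U : Over S} (x : FibCat.overCat U ⥤ᵇ Stk.ofPsh P)
    (hx : AlgSt.RepByAlgSpWith Q x) :
    AlgSp.RepBySpWith Q (pshMapOf (BasedFunctor.comp (AlgSt.toOverCat U) x)) := by
  set Φ : AlgSt.ofSch U ⥤ᵇ Stk.ofPsh P := BasedFunctor.comp (AlgSt.toOverCat U) x with hΦ
  apply repBySpWith_of_repByAlgSpWith Q hQ
  refine (Groth.Agent.S12782.result (isFibSet_overForget U).1 (isFibSetoid_ofPsh P).1
    (isFibSetoid_ofPsh _).1 (isFibSetoid_ofPsh P).1 Q x (Stk.ofPshMap (pshMapOf Φ))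
    (AlgSt.toOverCat U) (BasedFunctor.id _) (Groth.Agent.Lib.Helper15DiagRepSp.isEquivOver_toOverCat U)
    (isEquivOver_id _) ?_).1 hx
  exact ofPshMapIso Φ

/-- **An algebraic stack fibred in setoids is representable by an algebraic space.** -/
theorem repByAlgSp_of_isFibSetoid {𝒳 : AlgSt.Cat S}
    (h𝒳 : AlgSt.IsAlgStack Scheme.fppfPrecoverage 𝒳) (hs : FibCat.IsFibSetoid 𝒳.p) :
    AlgSt.RepByAlgSp 𝒳 := by
  obtain ⟨P, E, hE⟩ := exists_psh_equivOver 𝒳 hs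
  have hP : AlgSt.IsAlgStack Scheme.fppfPrecoverage (Stk.ofPsh P) :=
    (isAlgStack_iff_of_isEquivOver _ E hE).2 h𝒳
  have hsh : Presheaf.IsSheaf (AlgSp.J S) P :=
    (isSheaf_iff_isSheaf_of_type _ _).2 ((isStack_ofPsh_iff_isSheaf _ P).1 hP.isStack)
  obtain ⟨U, x, hxsm, hxsurj⟩ := hP.atlas
  have h1 := repBySpWith_of_atlas _ (locP_of_iso_comp @Smooth) x hxsm
  have h2 := repBySpWith_of_atlas _ isSurjectiveMor_of_iso_comp x hxsurj
  have h3 : AlgSp.RepBySpWith (AlgSp.IsSurjectiveMor ⊓ AlgSp.LocP @Smooth)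
      (pshMapOf (BasedFunctor.comp (AlgSt.toOverCat U) x)) := fun T ξ F' fst snd sq => by
    obtain ⟨hs1, hA1, hQ1⟩ := h1 ξ fst snd sq
    obtain ⟨hs2, hA2, hQ2⟩ := h2 ξ fst snd sq
    exact ⟨hs1, hA1, hQ2, hQ1⟩
  have hPet : Presheaf.IsSheaf (QuotSh.J Scheme.etalePrecoverage S) P :=
    Presheaf.IsSheaf.of_le Groth.Agent.R2.H59.EtSheaf.Jet_le hsh
  obtain ⟨hsh', hA⟩ := Groth.Agent.S10110.result S P hPet
    ⟨(AlgSp.yon S).obj U, AlgSp.IsAlgSpace.yon_obj U⟩ _ h3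
  exact ⟨⟨⟨P, hsh'⟩, hA⟩, E, hE⟩

end Groth.Agent.R2.H59.StackSp
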