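import Mathlib
import Groth.Agent.R2.H59OpenSub3
import Groth.Agent.R2.H59StackSp
import Groth.Agent.Lib.Helper17StkElem

/-!
# Algebraic stacks covered by open substacks that are algebraic spaces (helper59)
-/

set_option autoImplicit false
set_option backward.isDefEq.respectTransparency false
set_option backward.isDefEq.respectTransparency.types false
set_option linter.style.haveILetI false
set_option linter.unusedSectionVars false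

universe u w

open CategoryTheory CategoryTheory.Functor CategoryTheory.Limits AlgebraicGeometry Opposite

namespace Groth.Agent.R2.H59.OpenSub

open Groth.Agent.Lib.Helper17 Groth.Agent.Lib.Helper15PtsTop

variable {S : Scheme.{u}} {𝒳 : AlgSt.Cat S}

/-- A sieve containing open neighbourhoods of all points is a covering sieve for the fppf
topology. -/
theorem mem_J_of_open_nhds {T : Over S} (R : Sieve T)
    (h : ∀ t : T.left, ∃ V : T.left.Opens, t ∈ V ∧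
      R.arrows (Over.homMk V.ι rfl : Over.mk (V.ι ≫ T.hom) ⟶ T)) :
    R ∈ QuotSh.J Scheme.fppfPrecoverage S T := by
  choose V hV hR using h
  rw [GrothendieckTopology.mem_over_iff]
  have hmem : Presieve.ofArrows (fun t => ((V t : T.left.Opens) : Scheme.{u})) (fun t => (V t).ι) ∈
      Scheme.fppfPrecoverage T.left := by
    rw [Scheme.fppfPrecoverage, Scheme.ofArrows_mem_precoverage_iff]
    refine ⟨fun x => ⟨x, ?_⟩, fun t => ⟨inferInstance, inferInstance⟩⟩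
    rw [Scheme.Opens.range_ι]
    exact hV x
  refine GrothendieckTopology.superset_covering _ ?_
    (Precoverage.generate_mem_toGrothendieck hmem)
  rintro W g ⟨W', a, b, ⟨t⟩, rfl⟩
  rw [Sieve.overEquiv_iff]
  have h1 := R.downward_closed (hR t)
    (Over.homMk a (by simp) : Over.mk ((a ≫ (V t).ι) ≫ T.hom) ⟶ Over.mk ((V t).ι ≫ T.hom))
  exact h1

theorem exists_lift_of_eq (h𝒳 : FibCat.IsFibGrpd 𝒳.p) (x : 𝒳.obj) {T V : Over S}
    (hx : 𝒳.p.obj x = T) (g : V ⟶ T) : ∃ (a : 𝒳.obj) (φ : a ⟶ x), 𝒳.p.IsHomLift g φ := by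
  subst hx
  exact h𝒳.exists_lift g

/-- The sieve on which two morphisms over the identity agree. -/
def agreeSieve (h𝒳 : FibCat.IsFibGrpd 𝒳.p) {x x' : 𝒳.obj} (θ θ' : x ⟶ x') :
    Sieve (𝒳.p.obj x) where
  arrows V g := ∀ (a : 𝒳.obj) (φ : a ⟶ x), 𝒳.p.IsHomLift g φ → φ ≫ θ = φ ≫ θ'
  downward_closed := by
    intro V V' g hg d a φ hφ
    obtain ⟨a', φ', hφ'⟩ := h𝒳.exists_lift (x := x) g
    have hsc := IsFibGrpd.isStronglyCartesian_of_isHomLift h𝒳 g φ'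
    have hfac : IsStronglyCartesian.map 𝒳.p g φ' (rfl : d ≫ g = d ≫ g) φ ≫ φ' = φ :=
      IsStronglyCartesian.fac 𝒳.p g φ' rfl φ
    rw [← hfac, Category.assoc, Category.assoc, hg a' φ' hφ']

theorem hom_eq_of_open_cover (h𝒳 : AlgSt.IsAlgStack Scheme.fppfPrecoverage 𝒳) {ι : Type w}
    (Q : ι → 𝒳.obj → Prop) (hQ : ∀ i, IsOpenPred 𝒳 (Q i))
    (hcov : ∀ p : AlgSt.FPt 𝒳, ∃ i, Q i p.obj)
    (hsub : ∀ i, FibCat.IsFibSetoid (AlgSt.fullSub 𝒳 (Q i)).p) {x x' : 𝒳.obj} (θ θ' : x ⟶ x')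
    (hθ : 𝒳.p.IsHomLift (𝟙 (𝒳.p.obj x)) θ) (hθ' : 𝒳.p.IsHomLift (𝟙 (𝒳.p.obj x)) θ') :
    θ = θ' := by
  have hfib := h𝒳.isStack.1
  have hθiso : IsIso θ := IsFibGrpd.isIso_of_isHomLift_id hfib (𝒳.p.obj x) θ
  have hx' : 𝒳.p.obj x' = 𝒳.p.obj x := IsHomLift.codomain_eq 𝒳.p (𝟙 (𝒳.p.obj x)) θ
  have hR : agreeSieve hfib θ θ' ∈ QuotSh.J Scheme.fppfPrecoverage S (𝒳.p.obj x) := by
    apply mem_J_of_open_nhds
    intro t
    obtain ⟨p, b, h, hb, hr⟩ := exists_fpt_at hfib x t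
    obtain ⟨i, hi⟩ := hcov p
    obtain ⟨U, hU⟩ := (hQ i).exists_opens (𝒳.p.obj x) x rfl
    have hsubU := (hU p.obj b _ h hb).1 hi
    have htU : t ∈ U := by
      apply hsubU
      rw [hr]
      rfl
    refine ⟨U, htU, ?_⟩
    intro a φ hφ
    have hrange : Set.range (Over.homMk U.ι rfl :
        Over.mk (U.ι ≫ (𝒳.p.obj x).hom) ⟶ 𝒳.p.obj x).left.base ⊆ (U : Set _) := by
      have h0 : Set.range (Over.homMk U.ι rfl :
        Over.mk (U.ι ≫ (𝒳.p.obj x).hom) ⟶ 𝒳.p.obj x).left.base = (U : Set _) :=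
        Scheme.Opens.range_ι U
      rw [h0]
    have hQa : Q i a := (hU a φ _ _ hφ).2 hrange
    obtain ⟨a', φ', hφ'⟩ := exists_lift_of_eq hfib x' hx'
      (Over.homMk U.ι rfl : Over.mk (U.ι ≫ (𝒳.p.obj x).hom) ⟶ 𝒳.p.obj x)
    have hinv : 𝒳.p.IsHomLift (𝟙 (𝒳.p.obj x)) (inv θ) := inferInstance
    have hφ'' : 𝒳.p.IsHomLift (Over.homMk U.ι rfl :
        Over.mk (U.ι ≫ (𝒳.p.obj x).hom) ⟶ 𝒳.p.obj x) (φ' ≫ inv θ) := inferInstance
    have hQa' : Q i a' := (hU a' (φ' ≫ inv θ) _ _ hφ'').2 hrange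
    have hsc := IsFibGrpd.isStronglyCartesian_of_isHomLift hfib
      (Over.homMk U.ι rfl : Over.mk (U.ι ≫ (𝒳.p.obj x).hom) ⟶ 𝒳.p.obj x) φ'
    have h1 : 𝒳.p.IsHomLift (Over.homMk U.ι rfl :
        Over.mk (U.ι ≫ (𝒳.p.obj x).hom) ⟶ 𝒳.p.obj x) (φ ≫ θ) := inferInstance
    have h2 : 𝒳.p.IsHomLift (Over.homMk U.ι rfl :
        Over.mk (U.ι ≫ (𝒳.p.obj x).hom) ⟶ 𝒳.p.obj x) (φ ≫ θ') := inferInstance
    let jU : Over.mk (U.ι ≫ (𝒳.p.obj x).hom) ⟶ 𝒳.p.obj x := Over.homMk U.ι rfl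
    let χ := IsStronglyCartesian.map 𝒳.p jU φ' (Category.id_comp jU).symm (φ ≫ θ)
    let χ' := IsStronglyCartesian.map 𝒳.p jU φ' (Category.id_comp jU).symm (φ ≫ θ')
    have hχ : 𝒳.p.IsHomLift (𝟙 (Over.mk (U.ι ≫ (𝒳.p.obj x).hom))) χ :=
      IsStronglyCartesian.map_isHomLift 𝒳.p jU φ' (Category.id_comp jU).symm (φ ≫ θ)
    have hχ' : 𝒳.p.IsHomLift (𝟙 (Over.mk (U.ι ≫ (𝒳.p.obj x).hom))) χ' :=
      IsStronglyCartesian.map_isHomLift 𝒳.p jU φ' (Category.id_comp jU).symm (φ ≫ θ')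
    have hχfac : χ ≫ φ' = φ ≫ θ :=
      IsStronglyCartesian.fac 𝒳.p jU φ' (Category.id_comp jU).symm (φ ≫ θ)
    have hχ'fac : χ' ≫ φ' = φ ≫ θ' :=
      IsStronglyCartesian.fac 𝒳.p jU φ' (Category.id_comp jU).symm (φ ≫ θ')
    let A : (AlgSt.fullSub 𝒳 (Q i)).obj := ⟨a, hQa⟩
    let A' : (AlgSt.fullSub 𝒳 (Q i)).obj := ⟨a', hQa'⟩
    let m : A ⟶ A' := ObjectProperty.homMk χ
    let m' : A ⟶ A' := ObjectProperty.homMk χ'
    have hm : (AlgSt.fullSub 𝒳 (Q i)).p.IsHomLift (𝟙 (Over.mk (U.ι ≫ (𝒳.p.obj x).hom))) m :=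
      (isHomLift_comp_iff (ObjectProperty.ι (Q i)) 𝒳.p _ m).2 hχ
    have hm' : (AlgSt.fullSub 𝒳 (Q i)).p.IsHomLift (𝟙 (Over.mk (U.ι ≫ (𝒳.p.obj x).hom))) m' :=
      (isHomLift_comp_iff (ObjectProperty.ι (Q i)) 𝒳.p _ m').2 hχ'
    have hmm : m = m' :=
      IsFibSetoid.hom_ext (hsub i) (𝟙 (Over.mk (U.ι ≫ (𝒳.p.obj x).hom))) m m'
    have hχχ : χ = χ' := congrArg (fun k => k.hom) hmm
    rw [← hχfac, ← hχ'fac, hχχ]
  have hps := ((Elem.isPrestackFor_iff hfib).1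
    ((IsStack.isPrestack _ h𝒳.isStack).2 _ hR)).1
  exact hps θ θ' hθ hθ' (fun a φ ⟨W, f, hf, hφ⟩ => hf a φ hφ)

/-- An algebraic stack covered by open substacks fibred in setoids is fibred in setoids. -/
theorem isFibSetoid_of_open_cover (h𝒳 : AlgSt.IsAlgStack Scheme.fppfPrecoverage 𝒳) {ι : Type w}
    (Q : ι → 𝒳.obj → Prop) (hQ : ∀ i, IsOpenPred 𝒳 (Q i))
    (hcov : ∀ p : AlgSt.FPt 𝒳, ∃ i, Q i p.obj)
    (hsub : ∀ i, FibCat.IsFibSetoid (AlgSt.fullSub 𝒳 (Q i)).p) : FibCat.IsFibSetoid 𝒳.p := by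
  refine ⟨h𝒳.isStack.1, fun T => fun X X' => ⟨fun θ θ' => ?_⟩⟩
  obtain ⟨x, hx⟩ := X
  subst hx
  apply Subtype.ext
  exact hom_eq_of_open_cover h𝒳 Q hQ hcov hsub θ.1 θ'.1 θ.2 θ'.2

/-- An algebraic stack covered by open substacks which are algebraic spaces is an algebraic
space. -/
theorem repByAlgSp_of_open_cover (h𝒳 : AlgSt.IsAlgStack Scheme.fppfPrecoverage 𝒳) {ι : Type w}
    (Q : ι → 𝒳.obj → Prop) (hQ : ∀ i, AlgSt.IsOpenSubstack 𝒳 (Q i) Scheme.fppfPrecoverage)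
    (hcov : ⋃ i, Set.range (AlgSt.Points.map (AlgSt.subIncl 𝒳 (Q i))) = Set.univ)
    (hsp : ∀ i, AlgSt.RepByAlgSp (AlgSt.fullSub 𝒳 (Q i))) : AlgSt.RepByAlgSp 𝒳 := by
  have hfib := h𝒳.isStack.1
  have hQ' : ∀ i, IsOpenPred 𝒳 (Q i) := fun i => isOpenPred_of_isOpenSubstack hfib (Q i) (hQ i)
  have hcov' : ∀ p : AlgSt.FPt 𝒳, ∃ i, Q i p.obj := by
    intro p
    have h1 : AlgSt.Points.mk p ∈ ⋃ i, Set.range (AlgSt.Points.map (AlgSt.subIncl 𝒳 (Q i))) := by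
      rw [hcov]
      trivial
    obtain ⟨i, hi⟩ := Set.mem_iUnion.1 h1
    exact ⟨i, ((hQ' i).mem_range_iff p).1 hi⟩
  have hsub : ∀ i, FibCat.IsFibSetoid (AlgSt.fullSub 𝒳 (Q i)).p := by
    intro i
    obtain ⟨F, e, he⟩ := hsp i
    exact (IsEquivOver.isFibSetoid_iff' e he).1 (isFibSetoid_ofPsh _)
  exact Groth.Agent.R2.H59.StackSp.repByAlgSp_of_isFibSetoid h𝒳
    (isFibSetoid_of_open_cover h𝒳 Q hQ' hcov' hsub)

end Groth.Agent.R2.H59.OpenSub
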