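import Groth.Agent.R2.H59StackBoot2

/-!
# Properties of morphisms of algebraic stacks tested after a flat cover (helper59)
-/

set_option autoImplicit false
set_option backward.isDefEq.respectTransparency false
set_option backward.isDefEq.respectTransparency.types false
set_option linter.style.haveILetI false
set_option linter.unusedSectionVars false

universe u

open CategoryTheory CategoryTheory.Functor CategoryTheory.Limits AlgebraicGeometry Opposite

namespace Groth.Agent.R2.H59.StackBoot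

open AlgSp AlgSt Groth.Agent.Lib.Helper17 Groth.Agent.Lib.Helper15PshFib
  Groth.Agent.Lib.Helper15RepComp Groth.Agent.Lib.Helper15RepPsh Groth.Agent.R2.H59.StackSp
  Groth.Agent.Lib.Helper15DiagRepSp Groth.Agent.Lib.Helper15Atlas Groth.Agent.Lib.Helper15Descent
  Groth.Agent.Lib.Helper15DiagDescent Groth.Agent.Lib.Helper15DiagBase

variable {S : Scheme.{u}}

/-- A map of sheaves all of whose base changes to schemes are (algebraic spaces which are)
representable with `Q` is representable with `Q`. -/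
theorem repWith_of_repBySpWith (Q : MorphismProperty Scheme.{u}) [Q.IsStableUnderBaseChange]
    {V W : AlgSp.Sp S} (a : V ⟶ W)
    (h : AlgSp.RepBySpWith (AlgSp.RepWith Q) a.hom) : AlgSp.RepWith Q a := by
  apply MorphismProperty.relative.of_exists
  intro U g
  have sq := IsPullback.of_hasPullback a g
  have sq' := sq.map (sheafToPresheaf (AlgSp.J S) (Type (u + 1)))
  obtain ⟨hs, hA, hQ⟩ := h g.hom _ _ sq'
  have hQ' : AlgSp.RepWith Q (pullback.snd a g) := hQ
  obtain ⟨hrep, hall⟩ := (AlgSp.repWith_iff Q _).1 hQ'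
  obtain ⟨V', v, fst', sq''⟩ := hrep (𝟙 ((AlgSp.yon S).obj U))
  refine ⟨V', fst' ≫ pullback.fst a g, v, ?_, hall _ fst' v sq''⟩
  have := sq''.paste_horiz sq
  rwa [Category.id_comp] at this

/-- The functor of a map of sheaves is representable by algebraic spaces with `RepWith Q` only if
the map is `RepWith Q`. -/
theorem repWith_of_repByAlgSpWith_ofSpMap (Q : MorphismProperty Scheme.{u})
    [Q.IsStableUnderBaseChange] {V W : AlgSp.Sp S} (a : V ⟶ W)
    (h : AlgSt.RepByAlgSpWith (AlgSp.RepWith Q) (AlgSt.ofSpMap a)) : AlgSp.RepWith Q a := by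
  apply repWith_of_repBySpWith Q a
  have : (AlgSp.RepWith (S := S) Q).RespectsIso :=
    MorphismProperty.IsStableUnderBaseChange.respectsIso
  exact repBySpWith_of_repByAlgSpWith _
    (fun X Y Z j f hjf => (MorphismProperty.cancel_left_of_respectsIso _ j.hom f).1 hjf) a.hom h

/-- A property of morphisms representable by algebraic spaces which is stable under base change and
fppf local on the base can be tested after a flat, locally finitely presented, surjective base
change from an algebraic space. -/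
theorem repByAlgSpWith_iff_of_cover (P : MorphismProperty (AlgSp.Sp S)) [P.IsStableUnderBaseChange]
    (hloc : AlgSp.IsLocalOnBase AlgSp.IsFppfCover P)
    (hsch : ∀ {V W : AlgSp.Space S} (a : V ⟶ W),
      AlgSt.RepByAlgSpWith P (AlgSt.ofSpMap a.hom) → P a.hom)
    {𝒳 𝒴 : AlgSt.Cat S}
    (h𝒳 : AlgSt.IsAlgStack Scheme.fppfPrecoverage 𝒳) (h𝒴 : AlgSt.IsAlgStack Scheme.fppfPrecoverage 𝒴)
    (f : 𝒳 ⥤ᵇ 𝒴) (W : AlgSp.Space S) (w : AlgSt.ofSp W.obj ⥤ᵇ 𝒴)
    (hw₁ : AlgSt.RepByAlgSpWith (AlgSp.LocP @Flat) w)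
    (hw₂ : AlgSt.RepByAlgSpWith (AlgSp.LocP @LocallyOfFinitePresentation) w)
    (hw₃ : AlgSt.RepByAlgSpWith AlgSp.IsSurjectiveMor w) :
    AlgSt.RepByAlgSpWith P f ↔
      ∃ (V : AlgSp.Space S) (a : V ⟶ W) (e : AlgSt.ofSp V.obj ⥤ᵇ FibCat.fp w f),
        FibCat.IsEquivOver e ∧
          Nonempty (BasedFunctor.comp e (FibCat.fpFst w f) ≅ AlgSt.ofSpMap a.hom) ∧ P a.hom := by
  have hWf : FibCat.IsFibGrpd (AlgSt.ofSp W.obj).p := (isFibSetoid_ofPsh W.obj.obj).1
  constructor
  · intro hf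
    have hf1 : AlgSt.RepByAlgSp1 f := fun U y => by
      obtain ⟨F, e, he, -⟩ := hf U y
      exact ⟨F, e, he⟩
    obtain ⟨V, e, he⟩ := Groth.Agent.S12766.result h𝒳.isStack.1 h𝒴.isStack.1 hWf f w hf1
      ⟨W, BasedFunctor.id _, isEquivOver_id _⟩
    let Φ : AlgSt.ofSp V.obj ⥤ᵇ AlgSt.ofSp W.obj := BasedFunctor.comp e (FibCat.fpFst w f)
    let a : V ⟶ W := ObjectProperty.homMk (ObjectProperty.homMk (pshMapOf Φ))
    refine ⟨V, a, e, he, ⟨(ofPshMapIso Φ).symm⟩, hsch a ?_⟩
    exact (repByAlgSpWith_of_square _ (FibCat.fpFst w f) (AlgSt.ofSpMap a.hom) e (BasedFunctor.id _)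
      he (isEquivOver_id _) (ofPshMapIso Φ)).1 (repByAlgSpWith_fpFst P f w hf)
  · rintro ⟨V, a, e, he, ⟨ι⟩, hP⟩
    have hf1 : AlgSt.RepByAlgSp1 f :=
      repByAlgSp1_of_repByAlgSp_fp_cover h𝒳 h𝒴 hWf f w hw₁ hw₂ hw₃ ⟨V, e, he⟩
    have hA : AlgSt.RepByAlgSpWith P (AlgSt.ofSpMap a.hom) :=
      Groth.Agent.Lib.Helper15SpMapRep.repByAlgSpWith_ofSpMap _
        (fun X₁ Y₁ X₂ Y₂ _ _ _ _ a b a' b' sq ha => P.of_isPullback sq ha) V W a hP
    have h' : AlgSt.RepByAlgSpWith P (FibCat.fpFst w f) :=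
      (repByAlgSpWith_of_square _ (FibCat.fpFst w f) (AlgSt.ofSpMap a.hom) e (BasedFunctor.id _)
        he (isEquivOver_id _) ι.symm).2 hA
    exact repByAlgSpWith_of_fpFst_of_hasSchemeCovers _ hloc f hf1 w
      (hasSchemeCovers_of_cover w hw₁ hw₂ hw₃) h'

end Groth.Agent.R2.H59.StackBoot
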