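import Mathlib
import Groth.Agent.Lib.Helper17AlgStEquiv
import Groth.Agent.Lib.Helper15DiagRepSp
import Groth.Prelude.Def_W4stkstmodspWNA

/-!
# Well-nigh affine stacks: base change along affine morphisms (helper for S16699)
-/

set_option autoImplicit false
set_option backward.isDefEq.respectTransparency false
set_option backward.isDefEq.respectTransparency.types false
open CategoryTheory CategoryTheory.Functor CategoryTheory.Limits Opposite AlgebraicGeometry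

universe u

namespace Groth.Agent.R2.H79.WNA

open Groth.Agent.Lib.Helper17 Groth.Agent.Lib.Helper15DiagRepSp

variable {S : Scheme.{u}}

theorem ofSpMap_comp {F G H : AlgSp.Sp S} (a : F ⟶ G) (b : G ⟶ H) :
    BasedFunctor.comp (AlgSt.ofSpMap a) (AlgSt.ofSpMap b) = AlgSt.ofSpMap (a ≫ b) := rfl

theorem ofSpMap_id (F : AlgSp.Sp S) : AlgSt.ofSpMap (𝟙 F) = BasedFunctor.id (AlgSt.ofSp F) := rfl

theorem isEquivOver_ofSpMap_of_iso {F G : AlgSp.Sp S} (a : F ≅ G) :
    FibCat.IsEquivOver (AlgSt.ofSpMap a.hom) := by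
  refine ⟨AlgSt.ofSpMap a.inv, ⟨eqToIso ?_⟩, ⟨eqToIso ?_⟩⟩
  · rw [ofSpMap_comp, a.hom_inv_id, ofSpMap_id]
  · rw [ofSpMap_comp, a.inv_hom_id, ofSpMap_id]

/-- An algebraic stack affine over a well-nigh affine one is well-nigh affine. -/
theorem isWellNighAffine_of_affine (𝒳 𝒳' : AlgSt.Cat S) (hw : AlgSt.IsWellNighAffine 𝒳)
    (f : 𝒳' ⥤ᵇ 𝒳) (hf : AlgSt.RepByAlgSpWith AlgSp.IsAffineMor f) :
    AlgSt.IsWellNighAffine 𝒳' := by
  obtain ⟨U, x, hU, hx⟩ := hw
  obtain ⟨F, e, he, haff⟩ := hf U x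
  obtain ⟨W, i, fst, hpb, hW⟩ := haff hU (𝟙 _)
  have : IsIso fst := hpb.isIso_fst_of_isIso
  let a : (AlgSp.yon S).obj W ≅ F.obj := asIso fst
  let E : FibCat.overCat W ⥤ᵇ FibCat.fp x f :=
    BasedFunctor.comp (AlgSt.ofOverCat W) (BasedFunctor.comp (AlgSt.ofSpMap fst) e)
  have hE : FibCat.IsEquivOver E :=
    IsEquivOver.comp _ _ (isEquivOver_ofOverCat W)
      (IsEquivOver.comp _ _ (isEquivOver_ofSpMap_of_iso a) he)
  refine ⟨W, BasedFunctor.comp E (FibCat.fpSnd x f), hW, ?_⟩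
  have h1 := repByAlgSpWith_fpSnd _ x f hx
  exact (repByAlgSpWith_of_square _ (FibCat.fpSnd x f)
    (BasedFunctor.comp E (FibCat.fpSnd x f)) E (BasedFunctor.id _) hE (isEquivOver_id _)
    (Iso.refl _)).1 h1

end Groth.Agent.R2.H79.WNA
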