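import Mathlib
import Groth.Agent.R2.H59OpenSub4
import Groth.Agent.R2.H59StackBoot3
import Groth.Agent.R2.H59QPts
import Groth.Agent.Lib.Helper17StkPts3
import Groth.Agent.Lib.Helper15PtsComp
import Groth.Agent.R2.H79WNA

/-!
# Algebraic stacks covered by open substacks that are schemes (helper59)
-/

set_option autoImplicit false
set_option backward.isDefEq.respectTransparency false
set_option backward.isDefEq.respectTransparency.types false
set_option linter.style.haveILetI false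
set_option linter.unusedSectionVars false

universe u w

open CategoryTheory CategoryTheory.Functor CategoryTheory.Limits AlgebraicGeometry Opposite

namespace Groth.Agent.R2.H59.OpenSub

open Groth.Agent.Lib.Helper17 Groth.Agent.Lib.Helper15PtsTop Groth.Agent.Lib.Helper15PshFib
  Groth.Agent.Lib.Helper15DiagRepSp Groth.Agent.Lib.Helper15PtsComp

variable {S : Scheme.{u}} {𝒳 : AlgSt.Cat S}

/-- An open substack which is a scheme, inside a stack equivalent to an algebraic space `F`, gives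
an open immersion from that scheme to `F`. -/
theorem exists_open_chart (Q : 𝒳.obj → Prop) (hi : AlgSt.IsOpenImm (AlgSt.subIncl 𝒳 Q))
    (hrep : FibCat.IsRepresentable (AlgSt.fullSub 𝒳 Q)) (F : AlgSp.Space S)
    (E : AlgSt.ofSp F.obj ⥤ᵇ 𝒳) (hE : FibCat.IsEquivOver E) :
    ∃ (W : Over S) (a : (AlgSp.yon S).obj W ⟶ F.obj) (E₁ : AlgSt.ofSch W ⥤ᵇ AlgSt.fullSub 𝒳 Q),
      FibCat.IsEquivOver E₁ ∧ AlgSp.RepWith @IsOpenImmersion a ∧
      Nonempty (BasedFunctor.comp E₁ (AlgSt.subIncl 𝒳 Q) ≅ BasedFunctor.comp (AlgSt.ofSpMap a) E) := by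
  obtain ⟨W, G, hG⟩ := hrep
  obtain ⟨G', hG', -, -⟩ := IsEquivOver.exists_inverse_isEquivOver' G hG
  obtain ⟨E', hE', -, ⟨β⟩⟩ := IsEquivOver.exists_inverse_isEquivOver' E hE
  let E₁ : AlgSt.ofSch W ⥤ᵇ AlgSt.fullSub 𝒳 Q := BasedFunctor.comp (AlgSt.toOverCat W) G'
  have hE₁ : FibCat.IsEquivOver E₁ := IsEquivOver.comp _ _ (isEquivOver_toOverCat W) hG'
  let Φ : AlgSt.ofSch W ⥤ᵇ AlgSt.ofSp F.obj :=
    BasedFunctor.comp (BasedFunctor.comp E₁ (AlgSt.subIncl 𝒳 Q)) E'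
  let a : (AlgSp.yon S).obj W ⟶ F.obj := ObjectProperty.homMk (pshMapOf Φ)
  have κ : BasedFunctor.comp E₁ (AlgSt.subIncl 𝒳 Q) ≅ BasedFunctor.comp (AlgSt.ofSpMap a) E :=
    (whiskerLeftIso (BasedFunctor.comp E₁ (AlgSt.subIncl 𝒳 Q)) β).symm ≪≫
      whiskerRightIso (ofPshMapIso Φ).symm E
  refine ⟨W, a, E₁, hE₁, ?_, ⟨κ⟩⟩
  apply Groth.Agent.R2.H59.StackBoot.repWith_of_repByAlgSpWith_ofSpMap
  exact (repByAlgSpWith_of_square _ (AlgSt.subIncl 𝒳 Q) (AlgSt.ofSpMap a) E₁ E hE₁ hE κ.symm).1 hi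

/-- An algebraic stack covered by open substacks which are schemes is a scheme. -/
theorem isRepresentable_of_open_cover (h𝒳 : AlgSt.IsAlgStack Scheme.fppfPrecoverage 𝒳)
    {ι : Type w} (Q : ι → 𝒳.obj → Prop)
    (hQ : ∀ i, AlgSt.IsOpenSubstack 𝒳 (Q i) Scheme.fppfPrecoverage)
    (hcov : ⋃ i, Set.range (AlgSt.Points.map (AlgSt.subIncl 𝒳 (Q i))) = Set.univ)
    (hsch : ∀ i, FibCat.IsRepresentable (AlgSt.fullSub 𝒳 (Q i))) : FibCat.IsRepresentable 𝒳 := by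
  have hsp : ∀ i, AlgSt.RepByAlgSp (AlgSt.fullSub 𝒳 (Q i)) := fun i => by
    obtain ⟨W, G, hG⟩ := hsch i
    obtain ⟨G', hG', -, -⟩ := IsEquivOver.exists_inverse_isEquivOver' G hG
    exact ⟨⟨(AlgSp.yon S).obj W, AlgSp.IsAlgSpace.yon_obj W⟩,
      BasedFunctor.comp (AlgSt.toOverCat W) G',
      IsEquivOver.comp _ _ (isEquivOver_toOverCat W) hG'⟩
  obtain ⟨F, E, hE⟩ := repByAlgSp_of_open_cover h𝒳 Q hQ hcov hsp
  obtain ⟨U, p, hpe, hps⟩ := F.property.atlas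
  have hsch' : ∀ u : U.left, Groth.Agent.R2.H59.QPts.SchAt F.obj (AlgSp.Points.ofPt p u) := by
    intro u
    have hz : AlgSt.Points.map E (toSt F.obj (AlgSp.Points.ofPt p u)) ∈
        ⋃ i, Set.range (AlgSt.Points.map (AlgSt.subIncl 𝒳 (Q i))) := by
      rw [hcov]
      trivial
    obtain ⟨i, z', hz'⟩ := Set.mem_iUnion.1 hz
    obtain ⟨W, a, E₁, hE₁, ha, ⟨κ⟩⟩ := exists_open_chart (Q i) (hQ i).2.2 (hsch i) F E hE
    obtain ⟨z'', hz''⟩ := Groth.Agent.Lib.Helper15UnivComp.points_map_surjective_of_isEquivOver E₁ hE₁ z'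
    obtain ⟨x'', hx''⟩ := toSt_surjective ((AlgSp.yon S).obj W) z''
    refine ⟨W, a, ha, ?_⟩
    have h1 : AlgSt.Points.map E (toSt F.obj (AlgSp.Points.ofPt p u)) =
        AlgSt.Points.map E (toSt F.obj (AlgSp.Points.map a x'')) := by
      rw [← toSt_map, ← points_map_comp,
        ← points_map_congr _ _ ((BasedNatTrans.forgetful _ _).mapIso κ), points_map_comp, hx'',
        hz'', hz']
    have h2 : AlgSp.Points.ofPt p u = AlgSp.Points.map a x'' :=
      toSt_injective _ (points_map_injective_of_isEquivOver E hE h1)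
    obtain ⟨w, rfl⟩ := (AlgSp.Points.schemeEquiv W).surjective x''
    refine ⟨w, ?_⟩
    rw [AlgSp.Points.ofPt_eq_map_ofScheme]
    exact h2.symm
  obtain ⟨W₀, ⟨e⟩⟩ := Groth.Agent.R2.H59.QPts.exists_iso_yon_of_schAt p hps hsch'
  obtain ⟨E', hE', -, -⟩ := IsEquivOver.exists_inverse_isEquivOver' E hE
  exact ⟨W₀, BasedFunctor.comp E' (BasedFunctor.comp (AlgSt.ofSpMap e.inv) (AlgSt.toOverCat W₀)),
    IsEquivOver.comp _ _ hE' (IsEquivOver.comp _ _
      (Groth.Agent.R2.H79.WNA.isEquivOver_ofSpMap_of_iso e.symm) (isEquivOver_toOverCat W₀))⟩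

end Groth.Agent.R2.H59.OpenSub
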