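import Mathlib

/-!
# Slices at a point (helper59, PROJ:smooth-boot, PKG-E)

For a smooth "equivalence relation" `s t : R ⟶ X` with `(s, t)` jointly monic and identity `e`,
every point `u` of `X` lies in the image of `Z ×_{a,X,t} R ⟶ X` restricted to an open on which it
is etale, for a suitable slice `a : Z ⟶ X`.
-/

set_option autoImplicit false
set_option backward.isDefEq.respectTransparency false
set_option linter.style.haveILetI false
set_option linter.unusedSectionVars false

universe u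

open CategoryTheory CategoryTheory.Limits AlgebraicGeometry TensorProduct KaehlerDifferential

namespace Groth.Agent.R2.H59.SBE

/-- **PKG-B** as a statement. -/
def PkgBStmt : Prop :=
  ∀ {B C : Type u} [CommRing B] [CommRing C] [Algebra B C] [Algebra.Smooth B C]
    (q : Ideal C) [q.IsPrime] (T : Set C) (_ : Submodule.span C (D B C '' T) = ⊤),
    ∃ (n : ℕ) (c : Fin n → C) (_ : ∀ i, c i ∈ T) (g : C) (_ : g ∉ q),
      ((algebraMap C (Localization.Away g)).comp
        (MvPolynomial.aeval c : MvPolynomial (Fin n) B →ₐ[B] C).toRingHom).Etale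

/-- **PKG-C** as a statement. -/
def PkgCStmt : Prop :=
  ∀ {X R : Scheme.{u}} (s t : R ⟶ X)
    (_ : ∀ ⦃T : Scheme.{u}⦄ (a b : T ⟶ R), a ≫ s = b ≫ s → a ≫ t = b ≫ t → a = b)
    (W : X.Opens) (_ : IsAffineOpen W) (V : R.Opens) (_ : IsAffineOpen V)
    (hs : V ≤ s ⁻¹ᵁ W) (ht : V ≤ t ⁻¹ᵁ W),
    letI := (s.appLE W V hs).hom.toAlgebra
    Submodule.span Γ(R, V) (D Γ(X, W) Γ(R, V) '' Set.range (t.appLE W V ht).hom) = ⊤

/-- **PKG-D** as a statement (over the base ring `ULift ℤ`). -/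
def PkgDStmt : Prop :=
  ∀ {B : Type u} [CommRing B] (φ : ULift.{u} ℤ →+* B) (n : ℕ)
    (O : Set (PrimeSpectrum (MvPolynomial (Fin n) B))) (_ : IsOpen O)
    (o₀ : PrimeSpectrum (MvPolynomial (Fin n) B)) (_ : o₀ ∈ O),
    ∃ (A' : Type u) (_ : CommRing A') (ψ : ULift.{u} ℤ →+* A') (_ : ψ.Etale) (r : Fin n → A')
      (y : PrimeSpectrum A') (o : PrimeSpectrum (MvPolynomial (Fin n) B)), o ∈ O ∧
      o.comap (MvPolynomial.C : B →+* MvPolynomial (Fin n) B) =
        o₀.comap (MvPolynomial.C : B →+* MvPolynomial (Fin n) B) ∧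
      o.comap (MvPolynomial.map φ) = y.comap (MvPolynomial.eval₂Hom ψ r)

/-- ring homs out of `ULift ℤ` are unique. -/
lemma ulift_int_hom_ext {R : Type*} [Semiring R] (f g : ULift.{u} ℤ →+* R) : f = g := by
  have h : f.comp (ULift.ringEquiv.symm : ℤ ≃+* ULift.{u} ℤ).toRingHom =
      g.comp (ULift.ringEquiv.symm : ℤ ≃+* ULift.{u} ℤ).toRingHom := RingHom.ext_int _ _
  ext x
  have := congrArg (fun k => k x.down) h
  exact this

/-- composing a pullback square with a monomorphism. -/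
lemma isPullback_comp_mono {C : Type*} [Category C] {P X Y Z W : C} {fst : P ⟶ X} {snd : P ⟶ Y}
    {f : X ⟶ Z} {g : Y ⟶ Z} (sq : IsPullback fst snd f g) (i : Z ⟶ W) [Mono i] :
    IsPullback fst snd (f ≫ i) (g ≫ i) := by
  refine ⟨⟨by rw [← Category.assoc, sq.w, Category.assoc]⟩, ⟨PullbackCone.IsLimit.mk _
    (fun c => sq.lift c.fst c.snd (by
      rw [← cancel_mono i, Category.assoc, Category.assoc]; exact c.condition))
    (fun c => sq.lift_fst _ _ _) (fun c => sq.lift_snd _ _ _) (fun c m h1 h2 => ?_)⟩⟩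
  apply sq.hom_ext
  · rw [h1, sq.lift_fst]
  · rw [h2, sq.lift_snd]

attribute [local instance] MvPolynomial.algebraMvPolynomial in
/-- `𝔸ⁿ_B = Spec B ×_{Spec ℤ} 𝔸ⁿ_ℤ`. -/
lemma sqB_aux {B : Type u} [CommRing B] {n : ℕ} (φB : ULift.{u} ℤ →+* B) :
    IsPullback (Spec.map (CommRingCat.ofHom (MvPolynomial.map φB :
        MvPolynomial (Fin n) (ULift.{u} ℤ) →+* MvPolynomial (Fin n) B)))
      (Spec.map (CommRingCat.ofHom (MvPolynomial.C : B →+* MvPolynomial (Fin n) B)))
      (Spec.map (CommRingCat.ofHom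
        (MvPolynomial.C : ULift.{u} ℤ →+* MvPolynomial (Fin n) (ULift.{u} ℤ))))
      (Spec.map (CommRingCat.ofHom φB)) := by
  letI : Algebra (ULift.{u} ℤ) B := φB.toAlgebra
  have hpo := CommRingCat.isPushout_of_isPushout (ULift.{u} ℤ) (MvPolynomial (Fin n) (ULift.{u} ℤ))
    B (MvPolynomial (Fin n) B)
  have sqB := isPullback_SpecMap_of_isPushout _ _ _ _ hpo
  have e1 : algebraMap (ULift.{u} ℤ) B = φB := RingHom.algebraMap_toAlgebra φB
  have e2 : algebraMap (MvPolynomial (Fin n) (ULift.{u} ℤ)) (MvPolynomial (Fin n) B) =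
      MvPolynomial.map φB := by
    rw [← e1]; rfl
  rw [e2, e1, MvPolynomial.algebraMap_eq, MvPolynomial.algebraMap_eq] at sqB
  exact sqB

open MvPolynomial in
/-- The etaleness computation behind the slices. -/
lemma etale_core {B Cg A' : Type u} [CommRing B] [CommRing Cg] [CommRing A'] {n : ℕ}
    (φB : ULift.{u} ℤ →+* B) (σg : B →+* Cg) (h : MvPolynomial (Fin n) B →+* Cg) (hh : h.Etale)
    (hσ : h.comp MvPolynomial.C = σg) (ψ : ULift.{u} ℤ →+* A') (hψ : ψ.Etale) (r : Fin n → A')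
    (γ : MvPolynomial (Fin n) (ULift.{u} ℤ) →+* Cg) (hγ : γ = h.comp (MvPolynomial.map φB)) :
    Etale (pullback.fst (Spec.map (CommRingCat.ofHom γ))
      (Spec.map (CommRingCat.ofHom (MvPolynomial.eval₂Hom ψ r))) ≫
        Spec.map (CommRingCat.ofHom σg)) := by
  set α := MvPolynomial.eval₂Hom ψ r with hα
  set ι : MvPolynomial (Fin n) (ULift.{u} ℤ) →+* MvPolynomial (Fin n) B := MvPolynomial.map φB
    with hι
  have hγ' : Spec.map (CommRingCat.ofHom γ) =
      Spec.map (CommRingCat.ofHom h) ≫ Spec.map (CommRingCat.ofHom ι) := by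
    rw [← Spec.map_comp, ← CommRingCat.ofHom_comp, hγ]
  -- the map to `E`
  let n₁ : pullback (Spec.map (CommRingCat.ofHom γ)) (Spec.map (CommRingCat.ofHom α)) ⟶
      pullback (Spec.map (CommRingCat.ofHom ι)) (Spec.map (CommRingCat.ofHom α)) :=
    pullback.map _ _ _ _ (Spec.map (CommRingCat.ofHom h)) (𝟙 _) (𝟙 _)
      (by rw [Category.comp_id, hγ']) (by simp)
  have hn1 : n₁ ≫ pullback.fst _ _ = pullback.fst _ _ ≫ Spec.map (CommRingCat.ofHom h) :=
    pullback.lift_fst _ _ _
  have hn2 : n₁ ≫ pullback.snd _ _ = pullback.snd _ _ := by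
    rw [pullback.lift_snd, Category.comp_id]
  have sqn : IsPullback n₁ (pullback.fst (Spec.map (CommRingCat.ofHom γ))
      (Spec.map (CommRingCat.ofHom α)))
      (pullback.fst (Spec.map (CommRingCat.ofHom ι)) (Spec.map (CommRingCat.ofHom α)))
      (Spec.map (CommRingCat.ofHom h)) := by
    refine IsPullback.of_right ?_ hn1 (IsPullback.of_hasPullback _ _).flip
    rw [hn2, ← hγ']
    exact (IsPullback.of_hasPullback _ _).flip
  have hhE : Etale (Spec.map (CommRingCat.ofHom h)) := by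
    rw [HasRingHomProperty.Spec_iff (P := @Etale)]
    exact hh
  have hn₁ : Etale n₁ := MorphismProperty.of_isPullback (P := @Etale) sqn.flip hhE
  -- `E` is etale over `Spec B`
  have sqB := sqB_aux (n := n) φB
  have sqE := (IsPullback.of_hasPullback (Spec.map (CommRingCat.ofHom ι))
    (Spec.map (CommRingCat.ofHom α))).flip.paste_vert sqB
  have hαC : Spec.map (CommRingCat.ofHom α) ≫ Spec.map (CommRingCat.ofHom
      (MvPolynomial.C : ULift.{u} ℤ →+* MvPolynomial (Fin n) (ULift.{u} ℤ))) =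
      Spec.map (CommRingCat.ofHom ψ) := by
    rw [← Spec.map_comp, ← CommRingCat.ofHom_comp]
    congr 2
    ext x
    simp [hα]
  rw [hαC] at sqE
  have hψE : Etale (Spec.map (CommRingCat.ofHom ψ)) := by
    rw [HasRingHomProperty.Spec_iff (P := @Etale)]
    exact hψ
  have hE : Etale (pullback.fst (Spec.map (CommRingCat.ofHom ι)) (Spec.map (CommRingCat.ofHom α)) ≫
      Spec.map (CommRingCat.ofHom (MvPolynomial.C : B →+* MvPolynomial (Fin n) B))) :=
    MorphismProperty.of_isPullback (P := @Etale) sqE hψE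
  have hfac : pullback.fst (Spec.map (CommRingCat.ofHom γ)) (Spec.map (CommRingCat.ofHom α)) ≫
      Spec.map (CommRingCat.ofHom σg) = n₁ ≫ pullback.fst (Spec.map (CommRingCat.ofHom ι))
        (Spec.map (CommRingCat.ofHom α)) ≫
      Spec.map (CommRingCat.ofHom (MvPolynomial.C : B →+* MvPolynomial (Fin n) B)) := by
    rw [← Category.assoc, hn1, Category.assoc, ← Spec.map_comp, ← CommRingCat.ofHom_comp, hσ]
  rw [hfac]
  infer_instance

/-- **PKG-E** (slice at a point), from PKG-B, PKG-C, PKG-D. -/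
theorem pkgE (hB : PkgBStmt.{u}) (hC : PkgCStmt.{u}) (hD : PkgDStmt.{u}) {X R : Scheme.{u}}
    (s t : R ⟶ X) (e : X ⟶ R) (hes : e ≫ s = 𝟙 X) (het : e ≫ t = 𝟙 X) [Smooth s]
    (hmono : ∀ ⦃T : Scheme.{u}⦄ (a b : T ⟶ R), a ≫ s = b ≫ s → a ≫ t = b ≫ t → a = b) (u : X) :
    ∃ (Z : Scheme.{u}) (a : Z ⟶ X) (_ : LocallyOfFinitePresentation a) (Q₁ : Scheme.{u})
      (k : Q₁ ⟶ pullback a t) (_ : IsOpenImmersion k), Etale (k ≫ pullback.snd a t ≫ s) ∧
      u ∈ Set.range (k ≫ pullback.snd a t ≫ s) := by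
  -- affine opens
  obtain ⟨_, ⟨W, hW, rfl⟩, huW, -⟩ := X.isBasis_affineOpens.exists_subset_of_mem_open
    (Set.mem_univ u) isOpen_univ
  have hr₀s : s (e u) = u := by rw [← Scheme.Hom.comp_apply, hes]; rfl
  have hr₀t : t (e u) = u := by rw [← Scheme.Hom.comp_apply, het]; rfl
  have hr₀ : e u ∈ s ⁻¹ᵁ W ⊓ t ⁻¹ᵁ W := by
    refine ⟨?_, ?_⟩
    · change s (e u) ∈ W
      rw [hr₀s]; exact huW
    · change t (e u) ∈ W
      rw [hr₀t]; exact huW
  obtain ⟨_, ⟨V, hV, rfl⟩, hr₀V, hVle⟩ := R.isBasis_affineOpens.exists_subset_of_mem_open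
    hr₀ (s ⁻¹ᵁ W ⊓ t ⁻¹ᵁ W).2
  have hs : V ≤ s ⁻¹ᵁ W := fun x hx => (hVle hx).1
  have ht : V ≤ t ⁻¹ᵁ W := fun x hx => (hVle hx).2
  -- the rings
  set σ : Γ(X, W) →+* Γ(R, V) := (s.appLE W V hs).hom with hσdef
  set τ : Γ(X, W) →+* Γ(R, V) := (t.appLE W V ht).hom with hτdef
  letI : Algebra Γ(X, W) Γ(R, V) := σ.toAlgebra
  have hσalg : algebraMap Γ(X, W) Γ(R, V) = σ := RingHom.algebraMap_toAlgebra σ
  haveI : Algebra.Smooth Γ(X, W) Γ(R, V) :=
    HasRingHomProperty.appLE (P := @Smooth) s inferInstance ⟨W, hW⟩ ⟨V, hV⟩ hs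
  have hspan := hC s t hmono W hW V hV hs ht
  let q : PrimeSpectrum Γ(R, V) := hV.primeIdealOf ⟨e u, hr₀V⟩
  have hq : hV.fromSpec q = e u := hV.fromSpec_primeIdealOf ⟨e u, hr₀V⟩
  obtain ⟨n, c, hc, g, hg, hhet⟩ := hB q.asIdeal (Set.range τ) hspan
  choose b hb using hc
  set alg : Γ(R, V) →+* Localization.Away g := algebraMap Γ(R, V) (Localization.Away g) with halg
  set h : MvPolynomial (Fin n) Γ(X, W) →+* Localization.Away g :=
    alg.comp (MvPolynomial.aeval c : MvPolynomial (Fin n) Γ(X, W) →ₐ[Γ(X, W)] Γ(R, V)).toRingHom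
    with hh
  -- the prime of the localization
  have hdisj : Disjoint (Submonoid.powers g : Set Γ(R, V)) q.asIdeal := by
    rw [Set.disjoint_left]
    rintro _ ⟨m, rfl⟩ hm
    exact hg (Ideal.IsPrime.mem_of_pow_mem inferInstance m hm)
  let qg : PrimeSpectrum (Localization.Away g) := ⟨q.asIdeal.map alg,
    IsLocalization.isPrime_of_isPrime_disjoint (.powers g) _ q.asIdeal inferInstance hdisj⟩
  have hqg : PrimeSpectrum.comap alg qg = q := by
    ext1
    exact IsLocalization.under_map_of_isPrime_disjoint (.powers g) _ inferInstance hdisj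
  -- the open image of the etale coordinates
  have hhE : Etale (Spec.map (CommRingCat.ofHom h)) := by
    rw [HasRingHomProperty.Spec_iff (P := @Etale)]
    exact hhet
  have hO : IsOpen (Set.range (PrimeSpectrum.comap h)) :=
    (Spec.map (CommRingCat.ofHom h)).isOpenMap.isOpen_range
  let φB : ULift.{u} ℤ →+* Γ(X, W) := (Int.castRingHom _).comp ULift.ringEquiv.toRingHom
  obtain ⟨A', _, ψ, hψ, r, y, o, ⟨r₁, hr₁⟩, ho1, ho2⟩ :=
    hD φB n (Set.range (PrimeSpectrum.comap h)) hO (PrimeSpectrum.comap h qg) ⟨qg, rfl⟩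
  set σg : Γ(X, W) →+* Localization.Away g := alg.comp σ with hσg
  set τg : Γ(X, W) →+* Localization.Away g := alg.comp τ with hτg
  set β : MvPolynomial (Fin n) (ULift.{u} ℤ) →+* Γ(X, W) := MvPolynomial.eval₂Hom φB b with hβ
  set α : MvPolynomial (Fin n) (ULift.{u} ℤ) →+* A' := MvPolynomial.eval₂Hom ψ r with hα
  set γ : MvPolynomial (Fin n) (ULift.{u} ℤ) →+* Localization.Away g := τg.comp β with hγdef
  have hσh : h.comp MvPolynomial.C = σg := by
    ext x
    simp [hh, hσg, hσalg]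
  have hγ : γ = h.comp (MvPolynomial.map φB) := by
    apply MvPolynomial.ringHom_ext'
    · exact ulift_int_hom_ext _ _
    · intro i
      simp [hγdef, hβ, hh, hτg, hb]
  -- the schemes
  have hγ' : Spec.map (CommRingCat.ofHom τg) ≫ Spec.map (CommRingCat.ofHom β) =
      Spec.map (CommRingCat.ofHom γ) := by
    rw [← Spec.map_comp, ← CommRingCat.ofHom_comp]
  let ιg : Spec (CommRingCat.of (Localization.Away g)) ⟶ R :=
    Spec.map (CommRingCat.ofHom alg) ≫ hV.fromSpec
  have hιt : ιg ≫ t = Spec.map (CommRingCat.ofHom τg) ≫ hW.fromSpec := by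
    change (Spec.map (CommRingCat.ofHom alg) ≫ hV.fromSpec) ≫ t = _
    rw [Category.assoc, ← IsAffineOpen.SpecMap_appLE_fromSpec t hW hV ht, ← Category.assoc,
      ← Spec.map_comp]
    rfl
  have hιs : ιg ≫ s = Spec.map (CommRingCat.ofHom σg) ≫ hW.fromSpec := by
    change (Spec.map (CommRingCat.ofHom alg) ≫ hV.fromSpec) ≫ s = _
    rw [Category.assoc, ← IsAffineOpen.SpecMap_appLE_fromSpec s hW hV hs, ← Category.assoc,
      ← Spec.map_comp]
    rfl
  let a : pullback (Spec.map (CommRingCat.ofHom β)) (Spec.map (CommRingCat.ofHom α)) ⟶ X :=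
    pullback.fst _ _ ≫ hW.fromSpec
  let m : pullback (Spec.map (CommRingCat.ofHom γ)) (Spec.map (CommRingCat.ofHom α)) ⟶
      pullback (Spec.map (CommRingCat.ofHom β)) (Spec.map (CommRingCat.ofHom α)) :=
    pullback.map _ _ _ _ (Spec.map (CommRingCat.ofHom τg)) (𝟙 _) (𝟙 _)
      (by rw [Category.comp_id, hγ']) (by simp)
  have hm1 : m ≫ pullback.fst _ _ = pullback.fst _ _ ≫ Spec.map (CommRingCat.ofHom τg) :=
    pullback.lift_fst _ _ _
  have hm2 : m ≫ pullback.snd _ _ = pullback.snd _ _ := by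
    rw [pullback.lift_snd, Category.comp_id]
  have hcomm : m ≫ a = (pullback.fst (Spec.map (CommRingCat.ofHom γ))
      (Spec.map (CommRingCat.ofHom α)) ≫ ιg) ≫ t := by
    change m ≫ pullback.fst _ _ ≫ hW.fromSpec = _
    rw [Category.assoc, hιt, ← Category.assoc m, hm1, Category.assoc]
  let k : pullback (Spec.map (CommRingCat.ofHom γ)) (Spec.map (CommRingCat.ofHom α)) ⟶
      pullback a t := pullback.lift m (pullback.fst _ _ ≫ ιg) hcomm
  have hk1 : k ≫ pullback.fst a t = m := pullback.lift_fst _ _ _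
  have hk2 : k ≫ pullback.snd a t = pullback.fst _ _ ≫ ιg := pullback.lift_snd _ _ _
  have sq_left : IsPullback m (pullback.fst (Spec.map (CommRingCat.ofHom γ))
      (Spec.map (CommRingCat.ofHom α)))
      (pullback.fst (Spec.map (CommRingCat.ofHom β)) (Spec.map (CommRingCat.ofHom α)))
      (Spec.map (CommRingCat.ofHom τg)) := by
    refine IsPullback.of_right ?_ hm1 (IsPullback.of_hasPullback _ _).flip
    rw [hm2, hγ']
    exact (IsPullback.of_hasPullback _ _).flip
  have sq_outer := isPullback_comp_mono sq_left hW.fromSpec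
  rw [← hιt] at sq_outer
  have sqk : IsPullback k (pullback.fst (Spec.map (CommRingCat.ofHom γ))
      (Spec.map (CommRingCat.ofHom α))) (pullback.snd a t) ιg := by
    refine IsPullback.of_right ?_ hk2 (IsPullback.of_hasPullback a t)
    rw [hk1]
    exact sq_outer
  have hkoi : IsOpenImmersion k :=
    MorphismProperty.of_isPullback (P := @IsOpenImmersion) sqk.flip inferInstance
  -- finite presentation of the slice
  have hαfp : α.FinitePresentation := by
    refine RingHom.FinitePresentation.of_comp_finiteType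
      (MvPolynomial.C : ULift.{u} ℤ →+* MvPolynomial (Fin n) (ULift.{u} ℤ)) ?_ ?_
    · have : α.comp MvPolynomial.C = ψ := by
        ext x
        simp [hα]
      rw [this]
      exact hψ.finitePresentation
    · rw [← MvPolynomial.algebraMap_eq, RingHom.finiteType_algebraMap]
      infer_instance
  haveI : LocallyOfFinitePresentation (Spec.map (CommRingCat.ofHom α)) :=
    (LocallyOfFinitePresentation.SpecMap_iff _).2 hαfp
  have halfp : LocallyOfFinitePresentation a := inferInstance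
  refine ⟨_, a, halfp, _, k, hkoi, ?_, ?_⟩
  · -- etaleness
    have h1 := etale_core φB σg h hhet hσh ψ hψ r γ hγ
    have h2 : k ≫ pullback.snd a t ≫ s = (pullback.fst (Spec.map (CommRingCat.ofHom γ))
        (Spec.map (CommRingCat.ofHom α)) ≫ Spec.map (CommRingCat.ofHom σg)) ≫ hW.fromSpec := by
      rw [← Category.assoc, hk2, Category.assoc, hιs, Category.assoc]
    rw [h2]
    infer_instance
  · -- the point
    have hpt : (Spec.map (CommRingCat.ofHom γ)) r₁ = (Spec.map (CommRingCat.ofHom α)) y := by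
      change PrimeSpectrum.comap γ r₁ = PrimeSpectrum.comap α y
      rw [← ho2, ← hr₁, hγ]
      rfl
    obtain ⟨z, hz1, hz2⟩ := Scheme.Pullback.exists_preimage_pullback
      (f := Spec.map (CommRingCat.ofHom γ)) (g := Spec.map (CommRingCat.ofHom α)) r₁ y hpt
    refine ⟨z, ?_⟩
    have h2 : k ≫ pullback.snd a t ≫ s = pullback.fst (Spec.map (CommRingCat.ofHom γ))
        (Spec.map (CommRingCat.ofHom α)) ≫ Spec.map (CommRingCat.ofHom σg) ≫ hW.fromSpec := by
      rw [← Category.assoc, hk2, Category.assoc, hιs]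
    rw [h2, Scheme.Hom.comp_apply, hz1, Scheme.Hom.comp_apply]
    have h3 : (Spec.map (CommRingCat.ofHom σg)) r₁ = (Spec.map (CommRingCat.ofHom σ)) q := by
      change PrimeSpectrum.comap σg r₁ = PrimeSpectrum.comap σ q
      rw [← hqg, ← hσh]
      change PrimeSpectrum.comap MvPolynomial.C (PrimeSpectrum.comap h r₁) =
        PrimeSpectrum.comap σ (PrimeSpectrum.comap alg qg)
      rw [hr₁, ho1]
      change PrimeSpectrum.comap (h.comp MvPolynomial.C) qg = PrimeSpectrum.comap (alg.comp σ) qg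
      rw [hσh]
    rw [h3, ← Scheme.Hom.comp_apply]
    have h4 : Spec.map (CommRingCat.ofHom σ) ≫ hW.fromSpec = hV.fromSpec ≫ s :=
      IsAffineOpen.SpecMap_appLE_fromSpec s hW hV hs
    rw [h4, Scheme.Hom.comp_apply]
    exact (congrArg (fun x => s x) hq).trans hr₀s

end Groth.Agent.R2.H59.SBE
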