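-- helper59: the equivalence relation on the points of a scheme `W'` induced by a representable
-- kernel pair `(p, q) : T₁ ⇉ W'` of a map `e' : h_{W'} ⟶ F` of fppf sheaves, saturations of open
-- subsets, and the sub-sheaf of `F` attached to an invariant open subscheme of `W'`.
import Mathlib
import Groth.Agent.R2.H59OpenDesc

set_option autoImplicit false
set_option linter.unusedSectionVars false
set_option linter.style.haveILetI false
universe u
open CategoryTheory CategoryTheory.Limits AlgebraicGeometry Opposite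

set_option backward.isDefEq.respectTransparency false

namespace Groth.Agent.R2.H59.SLQFRel

open Groth.Agent.S13210 Groth.Agent.Lib.Helper12.ZarGlue Groth.Agent.R2.H59.AffDescGlue
  Groth.Agent.R2.H59.OpenDesc

variable {S : Scheme.{u}} {F : AlgSp.Sp S} {W' T₁ : Over S} {e' : (AlgSp.yon S).obj W' ⟶ F}
  {p q : T₁ ⟶ W'}

/-- The relation on the points of `W'` induced by `(p, q) : T₁ ⇉ W'`. -/
def Rel (p q : T₁ ⟶ W') (x₁ x₂ : W'.left) : Prop := ∃ τ : T₁.left, p.left τ = x₁ ∧ q.left τ = x₂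

/-- The saturation of a subset of `W'`. -/
def sat (p q : T₁ ⟶ W') (A : Set W'.left) : Set W'.left := p.left '' (q.left ⁻¹' A)

lemma mem_sat {A : Set W'.left} {x : W'.left} : x ∈ sat p q A ↔ ∃ y ∈ A, Rel p q x y := by
  constructor
  · rintro ⟨τ, hτ, rfl⟩
    exact ⟨q.left τ, hτ, τ, rfl, rfl⟩
  · rintro ⟨y, hy, τ, rfl, rfl⟩
    exact ⟨τ, hy, rfl⟩

section

variable (hk : IsPullback ((AlgSp.yon S).map p) ((AlgSp.yon S).map q) e' e')

include hk

lemma exists_pair {T : Over S} (x₁ x₂ : T ⟶ W')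
    (h : (AlgSp.yon S).map x₁ ≫ e' = (AlgSp.yon S).map x₂ ≫ e') :
    ∃ l : T ⟶ T₁, l ≫ p = x₁ ∧ l ≫ q = x₂ := by
  obtain ⟨l, hl⟩ := (AlgSp.yon S).map_surjective (hk.lift _ _ h)
  refine ⟨l, ?_, ?_⟩
  · apply (AlgSp.yon S).map_injective
    rw [Functor.map_comp, hl]
    exact hk.lift_fst _ _ _
  · apply (AlgSp.yon S).map_injective
    rw [Functor.map_comp, hl]
    exact hk.lift_snd _ _ _

lemma pair_ext {T : Over S} (l₁ l₂ : T ⟶ T₁) (h₁ : l₁ ≫ p = l₂ ≫ p) (h₂ : l₁ ≫ q = l₂ ≫ q) :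
    l₁ = l₂ := by
  apply (AlgSp.yon S).map_injective
  apply hk.hom_ext
  · rw [← Functor.map_comp, ← Functor.map_comp, h₁]
  · rw [← Functor.map_comp, ← Functor.map_comp, h₂]

lemma exists_swap : ∃ σ : T₁ ⟶ T₁, σ ≫ p = q ∧ σ ≫ q = p ∧ σ ≫ σ = 𝟙 _ := by
  obtain ⟨σ, h₁, h₂⟩ := exists_pair hk q p hk.w.symm
  refine ⟨σ, h₁, h₂, ?_⟩
  apply pair_ext hk
  · rw [Category.assoc, h₁, h₂, Category.id_comp]
  · rw [Category.assoc, h₂, h₁, Category.id_comp]

lemma exists_refl : ∃ δ : W' ⟶ T₁, δ ≫ p = 𝟙 _ ∧ δ ≫ q = 𝟙 _ :=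
  exists_pair hk (𝟙 _) (𝟙 _) rfl

lemma exists_comp : ∃ μ : pullback q p ⟶ T₁,
    μ ≫ p = pullback.fst q p ≫ p ∧ μ ≫ q = pullback.snd q p ≫ q := by
  refine exists_pair hk _ _ ?_
  have h1 : (AlgSp.yon S).map (pullback.fst q p ≫ p) ≫ e' =
      (AlgSp.yon S).map (pullback.fst q p ≫ q) ≫ e' := by
    rw [Functor.map_comp, Functor.map_comp, Category.assoc, Category.assoc, hk.w]
  have h2 : (AlgSp.yon S).map (pullback.snd q p ≫ p) ≫ e' =
      (AlgSp.yon S).map (pullback.snd q p ≫ q) ≫ e' := by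
    rw [Functor.map_comp, Functor.map_comp, Category.assoc, Category.assoc, hk.w]
  rw [h1, pullback.condition, h2]

lemma rel_refl (x : W'.left) : Rel p q x x := by
  obtain ⟨δ, h₁, h₂⟩ := exists_refl hk
  refine ⟨δ.left x, ?_, ?_⟩
  · rw [← Scheme.Hom.comp_apply, ← Over.comp_left, h₁]
    rfl
  · rw [← Scheme.Hom.comp_apply, ← Over.comp_left, h₂]
    rfl

lemma rel_symm {x y : W'.left} (h : Rel p q x y) : Rel p q y x := by
  obtain ⟨σ, h₁, h₂, -⟩ := exists_swap hk
  obtain ⟨τ, rfl, rfl⟩ := h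
  refine ⟨σ.left τ, ?_, ?_⟩
  · rw [← Scheme.Hom.comp_apply, ← Over.comp_left, h₁]
  · rw [← Scheme.Hom.comp_apply, ← Over.comp_left, h₂]

lemma rel_trans {x y z : W'.left} (h : Rel p q x y) (h' : Rel p q y z) : Rel p q x z := by
  obtain ⟨μ, h₁, h₂⟩ := exists_comp hk
  obtain ⟨τ, rfl, rfl⟩ := h
  obtain ⟨τ', hτ', rfl⟩ := h'
  obtain ⟨π, hπ₁, hπ₂⟩ := Scheme.exists_preimage_of_isPullback
    ((IsPullback.of_hasPullback q p).map (Over.forget S)) τ τ' hτ'.symm
  refine ⟨μ.left π, ?_, ?_⟩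
  · rw [← Scheme.Hom.comp_apply, ← Over.comp_left, h₁, Over.comp_left, Scheme.Hom.comp_apply]
    exact congrArg p.left hπ₁
  · rw [← Scheme.Hom.comp_apply, ← Over.comp_left, h₂, Over.comp_left, Scheme.Hom.comp_apply]
    exact congrArg q.left hπ₂

lemma subset_sat (A : Set W'.left) : A ⊆ sat p q A :=
  fun x hx => mem_sat.2 ⟨x, hx, rel_refl hk x⟩

lemma sat_inv (A : Set W'.left) {x x' : W'.left} (h : Rel p q x x') (hx : x ∈ sat p q A) :
    x' ∈ sat p q A := by
  obtain ⟨y, hy, hxy⟩ := mem_sat.1 hx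
  exact mem_sat.2 ⟨y, hy, rel_trans hk (rel_symm hk h) hxy⟩

lemma isOpen_sat [Flat q.left] [LocallyOfFinitePresentation q.left] {A : Set W'.left}
    (hA : IsOpen A) : IsOpen (sat p q A) := by
  obtain ⟨σ, h₁, h₂, h₃⟩ := exists_swap hk
  haveI : IsIso σ.left := ⟨σ.left, by rw [← Over.comp_left, h₃]; rfl,
    by rw [← Over.comp_left, h₃]; rfl⟩
  have hp : p.left = σ.left ≫ q.left := by rw [← Over.comp_left, h₂]
  haveI : Flat p.left := by rw [hp]; infer_instance
  haveI : LocallyOfFinitePresentation p.left := by rw [hp]; infer_instance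
  exact p.left.isOpenMap _ (hA.preimage q.left.continuous)

lemma isCompact_sat [QuasiCompact q.left] {A : Set W'.left} (hA : IsOpen A)
    (hA' : IsCompact A) : IsCompact (sat p q A) :=
  (QuasiCompact.isCompact_preimage (f := q.left) A hA hA').image p.left.continuous

/-- **The sub-sheaf attached to an invariant open subscheme.**  If `o : O ⟶ W'` is an open
immersion with invariant image and `h_O ⟶ F' ⟶ F` is the (locally surjective, mono)
factorization of `h_O ⟶ h_{W'} ⟶ F`, then `h_O = F' ×_F h_{W'}`. -/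
theorem isPullback_image {O : Over S} (o : O ⟶ W') [IsOpenImmersion o.left] {F' : AlgSp.Sp S}
    (π : (AlgSp.yon S).obj O ⟶ F') (m : F' ⟶ F) [Sheaf.IsLocallySurjective π] [Mono m]
    (hπm : π ≫ m = (AlgSp.yon S).map o ≫ e')
    (hinv : ∀ x x', Rel p q x x' → x ∈ Set.range o.left → x' ∈ Set.range o.left) :
    IsPullback π ((AlgSp.yon S).map o) m e' := by
  haveI : Mono o := by
    haveI : Mono o.left := inferInstance
    exact Over.mono_of_mono_left o
  refine isPullback_of_yon hπm (fun T ξ z' hξ => ?_)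
  obtain ⟨z, rfl⟩ := (AlgSp.yon S).map_surjective z'
  apply existsUnique_of_exists_of_unique
  · have hz : Set.range z.left ⊆ Set.range o.left := by
      rintro _ ⟨t, rfl⟩
      obtain ⟨κ, Y, f, d, -, hs, hd⟩ := exists_lift_family π ξ
      obtain ⟨k, y, hy⟩ := hs t
      obtain ⟨l, hl⟩ := (AlgSp.yon S).map_surjective (d k)
      obtain ⟨c, hc₁, hc₂⟩ := exists_pair hk (l ≫ o) (f k ≫ z) (by
        rw [Functor.map_comp, Category.assoc, ← hπm, ← Category.assoc, hl, hd k, Category.assoc,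
          hξ, Functor.map_comp, Category.assoc])
      have h1 : Rel p q ((l ≫ o).left y) ((f k ≫ z).left y) :=
        ⟨c.left y, by rw [← Scheme.Hom.comp_apply, ← Over.comp_left, hc₁],
          by rw [← Scheme.Hom.comp_apply, ← Over.comp_left, hc₂]⟩
      have h2 := hinv _ _ h1 ⟨l.left y, by rw [Over.comp_left, Scheme.Hom.comp_apply]⟩
      rw [Over.comp_left, Scheme.Hom.comp_apply, hy] at h2
      exact h2
    let l : T ⟶ O := Over.homMk (IsOpenImmersion.lift o.left z.left hz) (by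
      have : o.left ≫ W'.hom = O.hom := Over.w o
      rw [← this, IsOpenImmersion.lift_fac_assoc, Over.w])
    have hl : l ≫ o = z := by
      ext1
      exact IsOpenImmersion.lift_fac _ _ _
    refine ⟨(AlgSp.yon S).map l, ?_, by rw [← Functor.map_comp, hl]⟩
    rw [← cancel_mono m, Category.assoc, hπm, ← Category.assoc, ← Functor.map_comp, hl, hξ]
  · rintro l₁ l₂ ⟨-, h₁⟩ ⟨-, h₂⟩
    rw [← cancel_mono ((AlgSp.yon S).map o), h₁, h₂]

end

end Groth.Agent.R2.H59.SLQFRel
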