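import Groth.Agent.R2.H59Boot
import Groth.Agent.R2.H59BootDiag
import Groth.Agent.Lib.Helper20SmoothSec

/-!
# Bootstrap for smooth covers (helper59)

An etale sheaf with a smooth surjective cover by an algebraic space, representable by algebraic
spaces, is an algebraic space.  This file holds the sheaf-level part of the argument.
-/

set_option autoImplicit false
set_option backward.isDefEq.respectTransparency false
set_option linter.style.haveILetI false
set_option linter.unusedSectionVars false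

universe u

open CategoryTheory CategoryTheory.Limits AlgebraicGeometry Opposite

namespace Groth.Agent.R2.H59.SmoothBoot

open AlgSp Groth.Agent.R2.H59.EtSheaf Groth.Agent.R2.H59.Boot

variable {S : Scheme.{u}}

/-- A smooth surjective morphism of schemes has a section over an etale cover of the target. -/
theorem exists_etale_cover_section {V T : Scheme.{u}} (v : V ⟶ T) [Smooth v] [Surjective v] :
    ∃ (T' : Scheme.{u}) (g : T' ⟶ T) (h : T' ⟶ V), Etale g ∧ Surjective g ∧ h ≫ v = g := by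
  have hx : ∀ t : T, ∃ x : V, v x = t := fun t => v.surjective t
  choose x hx using hx
  have H := fun t : T => Groth.Agent.Lib.Helper20.SmoothSec.exists_etale_section_of_smooth v (x t)
  choose T' g s' hg hgs h hh using H
  refine ⟨∐ T', Sigma.desc g, Sigma.desc h, ?_, ?_, ?_⟩
  · exact IsZariskiLocalAtSource.sigmaDesc (P := @Etale) hg
  · refine ⟨fun t => ⟨Sigma.ι T' t (s' t), ?_⟩⟩
    rw [← Scheme.Hom.comp_apply, Sigma.ι_desc, hgs, hx]
  · apply Sigma.hom_ext
    intro t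
    rw [← Category.assoc, Sigma.ι_desc, Sigma.ι_desc, hh]

/-- A map of presheaves which is representable by algebraic spaces, surjective and smooth is
locally surjective for the etale topology. -/
theorem isLocallySurjective_of_repBySpWith_smooth {G F : PSp S} (p : G ⟶ F)
    (h2 : RepBySpWith (IsSurjectiveMor ⊓ LocP @Smooth) p) :
    Presheaf.IsLocallySurjective (Jet S) p := by
  constructor
  intro T x
  obtain ⟨ξ, hξ⟩ : ∃ ξ : (pyon S).obj T ⟶ F, uliftYonedaEquiv ξ = x :=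
    ⟨uliftYonedaEquiv.symm x, Equiv.apply_symm_apply _ _⟩
  have sq := IsPullback.of_hasPullback p ξ
  obtain ⟨hsh, hAlg, hsurj, hsm⟩ := h2 ξ _ _ sq
  let Y : Sp S := ⟨pullback p ξ, hsh⟩
  let snd : Y ⟶ (yon S).obj T := ObjectProperty.homMk (pullback.snd p ξ)
  have hAlg' : IsAlgSpace Y := hAlg
  obtain ⟨V, d, hde, hds⟩ := hAlg'.atlas
  obtain ⟨v, hv⟩ := (yon S).map_surjective (d ≫ snd)
  haveI : Smooth v.left := hsm d (𝟙 _) v hde (repWith_id _ T) (by rw [Category.comp_id, hv])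
  haveI : Surjective v.left := surjective_left_of_isSurjectiveMor snd hsurj d hds v hv
  obtain ⟨T', g, h, hg, hgs, hgh⟩ := exists_etale_cover_section v.left
  let T'' : Over S := Over.mk (g ≫ T.hom)
  let g' : T'' ⟶ T := Over.homMk g rfl
  let h' : T'' ⟶ V := Over.homMk h (by
    change h ≫ V.hom = g ≫ T.hom
    rw [← hgh, Category.assoc, Over.w v])
  have hgh' : h' ≫ v = g' := by
    apply Over.OverMorphism.ext
    exact hgh
  haveI : Etale g'.left := hg
  haveI : Surjective g'.left := hgs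
  refine (Jet S).superset_covering ?_ (generate_singleton_mem_Jet g')
  rw [Sieve.generate_le_iff]
  rintro _ _ ⟨⟩
  refine ⟨uliftYonedaEquiv ((pyon S).map h' ≫ d.hom ≫ pullback.fst p ξ), ?_⟩
  rw [← hξ]
  have h3 := uliftYonedaEquiv_comp ((pyon S).map h' ≫ d.hom ≫ pullback.fst p ξ) p
  have h4 : ((pyon S).map h' ≫ d.hom ≫ pullback.fst p ξ) ≫ p = (pyon S).map g' ≫ ξ := by
    rw [Category.assoc, Category.assoc, pullback.condition, ← hgh', Functor.map_comp,
      Category.assoc]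
    congr 1
    rw [← Category.assoc]
    exact congrArg (fun m => m ≫ ξ) (congrArg (fun m => m.hom) hv).symm
  rw [h4] at h3
  rw [← h3]
  exact (uliftYonedaEquiv_naturality ξ g'.op).symm

/-- The kernel pair of a smooth atlas: a smooth equivalence relation of schemes. -/
theorem exists_smooth_kernelPair (F : PSp S) (U : Space S) (p : U.obj.obj ⟶ F)
    (h2 : RepBySpWith (IsSurjectiveMor ⊓ LocP @Smooth) p) :
    ∃ (X R₀ : Over S) (q : (pyon S).obj X ⟶ F) (s t : R₀ ⟶ X),
      IsPullback ((pyon S).map t) ((pyon S).map s) q q ∧ Smooth s.left ∧ Smooth t.left ∧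
      Presheaf.IsLocallySurjective (Jet S) q := by
  obtain ⟨U₀, c, hce, hcs⟩ := U.property.atlas
  let q : (pyon S).obj U₀ ⟶ F := c.hom ≫ p
  have sqY := IsPullback.of_hasPullback p q
  obtain ⟨hYsh, hY, hYsurj, hYsm⟩ := h2 q _ _ sqY
  let Y : Sp S := ⟨pullback p q, hYsh⟩
  let fstY : Y ⟶ U.obj := ObjectProperty.homMk (pullback.fst p q)
  let sndY : Y ⟶ (yon S).obj U₀ := ObjectProperty.homMk (pullback.snd p q)
  have hY' : IsAlgSpace Y := hY
  have hYsm' : LocP @Smooth sndY := hYsm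
  have sqR := IsPullback.of_hasPullback c fstY
  have hR : IsAlgSpace (pullback c fstY) :=
    Groth.Agent.S9874.isAlgSpace_of_isPullback U.property.diag (IsAlgSpace.yon_obj U₀) hY' sqR
  let pt : pullback c fstY ⟶ (yon S).obj U₀ := pullback.fst c fstY
  let ps : pullback c fstY ⟶ (yon S).obj U₀ := pullback.snd c fstY ≫ sndY
  have hkP : IsPullback ps.hom pt.hom q q :=
    ((sqR.flip).map (sheafToPresheaf (J S) (Type (u + 1)))).paste_horiz sqY.flip
  have hsndR : RepWith @Etale (pullback.snd c fstY) :=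
    MorphismProperty.of_isPullback (P := RepWith @Etale) sqR hce
  have hps : ∀ ⦃A : Over S⦄ (a : (yon S).obj A ⟶ pullback c fstY) (g : A ⟶ U₀),
      RepWith @Etale a → a ≫ ps = (yon S).map g → Smooth g.left := by
    intro A a g ha hg
    refine hYsm' (a ≫ pullback.snd c fstY) (𝟙 _) g
      (Groth.Agent.R2.H59.QPts.repWith_etale_comp ha hsndR) (repWith_id _ U₀) ?_
    rw [Category.comp_id, Category.assoc]
    exact hg
  have hmono : ∀ ⦃W' : Sp S⦄ (a b : W' ⟶ pullback c fstY),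
      a ≫ pt = b ≫ pt → a ≫ ps = b ≫ ps → a = b := by
    intro W' a b h3 h4
    apply ObjectProperty.hom_ext
    apply hkP.hom_ext
    · exact congrArg (fun m => m.hom) h4
    · exact congrArg (fun m => m.hom) h3
  -- the kernel pair is a scheme by Theorem Q
  let f : pullback c fstY ⟶ (yon S).obj (U₀ ⨯ U₀) := Groth.Agent.R2.H43.Quot.yonProdLift pt ps
  have hf1 : f ≫ (yon S).map prod.fst = pt := Groth.Agent.R2.H43.Quot.yonProdLift_fst pt ps
  have hf2 : f ≫ (yon S).map prod.snd = ps := Groth.Agent.R2.H43.Quot.yonProdLift_snd pt ps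
  haveI : Mono f := ⟨fun a b hab => hmono a b
    (by rw [← hf1, ← Category.assoc, hab, Category.assoc])
    (by rw [← hf2, ← Category.assoc, hab, Category.assoc])⟩
  have hfq := Groth.Agent.R2.H59.BootDiag.locP_lqf_of_mono f (fun A a h ha hah => by
    have h1 : a ≫ ps = (yon S).map (h ≫ prod.snd) := by
      rw [← hf2, ← Category.assoc, hah, Functor.map_comp]
    haveI : Smooth (h ≫ prod.snd).left := hps a _ ha h1
    rw [Over.comp_left] at this
    haveI : LocallyOfFiniteType (h.left ≫ (prod.snd : U₀ ⨯ U₀ ⟶ U₀).left) := inferInstance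
    exact locallyOfFiniteType_of_comp h.left (prod.snd : U₀ ⨯ U₀ ⟶ U₀).left)
  obtain ⟨R₀, ⟨e⟩⟩ := Groth.Agent.R2.H59.QMain.exists_iso_yon hR f
    (Groth.Agent.Lib.Helper12.Proper.isSeparatedMor_of_mono f) hfq
  obtain ⟨s, hs⟩ := (yon S).map_surjective (e.hom ≫ pt)
  obtain ⟨t, ht⟩ := (yon S).map_surjective (e.hom ≫ ps)
  have hs' : (pyon S).map s = e.hom.hom ≫ pt.hom := congrArg (fun m => m.hom) hs
  have ht' : (pyon S).map t = e.hom.hom ≫ ps.hom := congrArg (fun m => m.hom) ht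
  have hk : IsPullback ((pyon S).map t) ((pyon S).map s) q q := by
    refine IsPullback.of_iso hkP ((sheafToPresheaf _ _).mapIso e).symm (Iso.refl _) (Iso.refl _)
      (Iso.refl _) ?_ ?_ (by simp) (by simp)
    · change ps.hom ≫ 𝟙 _ = e.inv.hom ≫ (pyon S).map t
      rw [ht', ← Category.assoc]
      have : e.inv.hom ≫ e.hom.hom = 𝟙 _ := congrArg (fun m => m.hom) e.inv_hom_id
      rw [this, Category.id_comp, Category.comp_id]
    · change pt.hom ≫ 𝟙 _ = e.inv.hom ≫ (pyon S).map s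
      rw [hs', ← Category.assoc]
      have : e.inv.hom ≫ e.hom.hom = 𝟙 _ := congrArg (fun m => m.hom) e.inv_hom_id
      rw [this, Category.id_comp, Category.comp_id]
  have htsm : Smooth t.left :=
    hps e.hom t (MorphismProperty.of_isIso (RepWith @Etale) e.hom) ht.symm
  -- the swap
  obtain ⟨σ', hσ1, hσ2⟩ := hk.exists_lift ((pyon S).map s) ((pyon S).map t) hk.w.symm
  obtain ⟨σ, rfl⟩ : ∃ σ : R₀ ⟶ R₀, (pyon S).map σ = σ' := ⟨_, (pyon S).map_preimage σ'⟩
  have hσt : σ ≫ t = s := (pyon S).map_injective (by rw [Functor.map_comp, hσ1])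
  have hσs : σ ≫ s = t := (pyon S).map_injective (by rw [Functor.map_comp, hσ2])
  have hσσ : σ ≫ σ = 𝟙 R₀ := by
    apply (pyon S).map_injective
    apply hk.hom_ext
    · rw [← Functor.map_comp, ← Functor.map_comp, Category.assoc, hσt, hσs, Category.id_comp]
    · rw [← Functor.map_comp, ← Functor.map_comp, Category.assoc, hσs, hσt, Category.id_comp]
  haveI : IsIso σ := ⟨σ, hσσ, hσσ⟩
  have hssm : Smooth s.left := by
    rw [← hσt, Over.comp_left]
    infer_instance
  haveI : Presheaf.IsLocallySurjective (Jet S) c.hom := isLocallySurjective_of_repWith c hce hcs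
  haveI : Presheaf.IsLocallySurjective (Jet S) p := isLocallySurjective_of_repBySpWith_smooth p h2
  have hloc : Presheaf.IsLocallySurjective (Jet S) q := inferInstance
  exact ⟨U₀, R₀, q, s, t, hk, hssm, htsm, hloc⟩

/-- An etale surjective morphism of schemes induces a locally surjective map of presheaves. -/
theorem isLocallySurjective_pyon_map {Q X : Over S} (π : Q ⟶ X) [Etale π.left]
    [Surjective π.left] : Presheaf.IsLocallySurjective (Jet S) ((pyon S).map π) := by
  constructor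
  intro T x
  obtain ⟨ξ, hξ⟩ : ∃ ξ : (pyon S).obj T ⟶ (pyon S).obj X, uliftYonedaEquiv ξ = x :=
    ⟨uliftYonedaEquiv.symm x, Equiv.apply_symm_apply _ _⟩
  obtain ⟨x', rfl⟩ : ∃ x' : T ⟶ X, (pyon S).map x' = ξ := ⟨_, (pyon S).map_preimage ξ⟩
  have sq := (IsPullback.of_hasPullback π x').map (Over.forget S)
  haveI : Etale (pullback.snd π x').left :=
    MorphismProperty.of_isPullback (P := @Etale) sq (inferInstanceAs (Etale π.left))
  haveI : Surjective (pullback.snd π x').left :=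
    MorphismProperty.of_isPullback (P := @Surjective) sq (inferInstanceAs (Surjective π.left))
  refine (Jet S).superset_covering ?_ (generate_singleton_mem_Jet (pullback.snd π x'))
  rw [Sieve.generate_le_iff]
  rintro _ _ ⟨⟩
  refine ⟨uliftYonedaEquiv ((pyon S).map (pullback.fst π x')), ?_⟩
  rw [← hξ]
  have := uliftYonedaEquiv_comp ((pyon S).map (pullback.fst π x')) ((pyon S).map π)
  rw [← Functor.map_comp, pullback.condition, Functor.map_comp] at this
  rw [← this]
  exact (uliftYonedaEquiv_naturality ((pyon S).map x') (pullback.snd π x').op).symm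

/-- **Final assembly**: an etale sheaf `F` with a locally surjective map `q : h_X ⟶ F` whose kernel
pair is a scheme `R₀`, together with a slice `a : Z ⟶ X` such that `Z ×_{a,X,t} R₀ ⟶ X` is etale
and surjective, is an algebraic space. -/
theorem isAlgSpaceP_of_slice (F : PSp S) (h1 : Presheaf.IsSheaf (Jet S) F) {X R₀ : Over S}
    (q : (pyon S).obj X ⟶ F) (s t : R₀ ⟶ X)
    (hk : IsPullback ((pyon S).map t) ((pyon S).map s) q q)
    (hloc : Presheaf.IsLocallySurjective (Jet S) q)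
    {Z Q : Over S} (a : Z ⟶ X) (ρZ : Q ⟶ Z) (r : Q ⟶ R₀) (sqQ : IsPullback ρZ r a t)
    (hπe : Etale (r ≫ s).left) (hπs : Surjective (r ≫ s).left) : IsAlgSpaceP F := by
  let π : Q ⟶ X := r ≫ s
  let pZ : (pyon S).obj Z ⟶ F := (pyon S).map a ≫ q
  -- `Q = Z ×_F X`
  have sqQF : IsPullback ((pyon S).map π) ((pyon S).map ρZ) q pZ := by
    have h := (sqQ.flip.map (pyon S)).paste_horiz hk.flip
    rwa [← Functor.map_comp] at h
  -- the kernel pair of `pZ`
  let RZ : Over S := pullback π a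
  let s' : RZ ⟶ Z := pullback.snd π a
  let t' : RZ ⟶ Z := pullback.fst π a ≫ ρZ
  have hkZ : IsPullback ((pyon S).map t') ((pyon S).map s') pZ pZ := by
    have h := ((IsPullback.of_hasPullback π a).map (pyon S)).paste_horiz sqQF.flip
    rwa [← Functor.map_comp] at h
  have sqRZ := (IsPullback.of_hasPullback π a).map (Over.forget S)
  have hs'e : Etale s'.left := MorphismProperty.of_isPullback (P := @Etale) sqRZ hπe
  -- the swap
  obtain ⟨σ', hσ1, hσ2⟩ := hkZ.exists_lift ((pyon S).map s') ((pyon S).map t') hkZ.w.symm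
  obtain ⟨σ, rfl⟩ : ∃ σ : RZ ⟶ RZ, (pyon S).map σ = σ' := ⟨_, (pyon S).map_preimage σ'⟩
  have hσt : σ ≫ t' = s' := (pyon S).map_injective (by rw [Functor.map_comp, hσ1])
  have hσs : σ ≫ s' = t' := (pyon S).map_injective (by rw [Functor.map_comp, hσ2])
  have hσσ : σ ≫ σ = 𝟙 RZ := by
    apply (pyon S).map_injective
    apply hkZ.hom_ext
    · rw [← Functor.map_comp, ← Functor.map_comp, Category.assoc, hσt, hσs, Category.id_comp]
    · rw [← Functor.map_comp, ← Functor.map_comp, Category.assoc, hσs, hσt, Category.id_comp]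
  haveI : IsIso σ := ⟨σ, hσσ, hσσ⟩
  have ht'e : Etale t'.left := by
    rw [← hσs, Over.comp_left]
    infer_instance
  -- local surjectivity
  haveI : Etale π.left := hπe
  haveI : Surjective π.left := hπs
  haveI := isLocallySurjective_pyon_map π
  haveI := hloc
  have hfac : (pyon S).map ρZ ≫ pZ = (pyon S).map π ≫ q := sqQF.w.symm
  haveI : Presheaf.IsLocallySurjective (Jet S) ((pyon S).map π ≫ q) := inferInstance
  have hlocZ : Presheaf.IsLocallySurjective (Jet S) pZ :=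
    Presheaf.isLocallySurjective_of_isLocallySurjective_fac (Jet S) hfac
  exact isAlgSpaceP_of_kernelPair F h1 s' t' pZ hkZ hs'e ht'e hlocZ

/-- The squares behind the translation invariance: `Q = Z ×_F X`, `R = X ×_F X`,
`P = Q ×_{π,X,t} R`.  Then `P` is also `Q ×_{π,X,s} R` and `Q ×_Z Q`. -/
lemma trans_squares {C : Type*} [Category C] {Z X R Q P F : C} {pZ : Z ⟶ F} {p : X ⟶ F}
    {ρZ : Q ⟶ Z} {π : Q ⟶ X} {t s : R ⟶ X} {q₁ : P ⟶ Q} {ρ : P ⟶ R}
    (sqQ : IsPullback ρZ π pZ p) (sqR : IsPullback t s p p) (sqP : IsPullback q₁ ρ π t) :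
    ∃ q₂ : P ⟶ Q, q₂ ≫ ρZ = q₁ ≫ ρZ ∧ q₂ ≫ π = ρ ≫ s ∧ IsPullback q₂ ρ π s ∧
      IsPullback q₁ q₂ ρZ ρZ := by
  have hcond : (q₁ ≫ ρZ) ≫ pZ = (ρ ≫ s) ≫ p := by
    rw [Category.assoc, sqQ.w, ← Category.assoc, sqP.w, Category.assoc, sqR.w, Category.assoc]
  let q₂ : P ⟶ Q := sqQ.lift (q₁ ≫ ρZ) (ρ ≫ s) hcond
  have h1 : q₂ ≫ ρZ = q₁ ≫ ρZ := sqQ.lift_fst _ _ _
  have h2 : q₂ ≫ π = ρ ≫ s := sqQ.lift_snd _ _ _
  have o1 : IsPullback (ρ ≫ s) q₁ p (π ≫ p) := sqP.flip.paste_horiz sqR.flip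
  have sqQQ : IsPullback q₂ q₁ ρZ ρZ := by
    refine IsPullback.of_right ?_ h1 sqQ.flip
    rw [h2, sqQ.w]
    exact o1
  have o2 : IsPullback (q₁ ≫ π) q₂ p (ρZ ≫ pZ) := sqQQ.flip.paste_horiz sqQ.flip
  have sq2 : IsPullback ρ q₂ s π := by
    refine IsPullback.of_right ?_ h2.symm sqR
    rw [← sqP.w, ← sqQ.w]
    exact o2
  exact ⟨q₂, h1, h2, sq2.flip, sqQQ.flip⟩

/-! ### Scheme-level translation invariance -/

/-- **PKG-A** (etaleness at a point descends along flat base change), as a statement. -/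
def PkgAStmt : Prop :=
  ∀ {X' X T' T : Scheme.{u}} {g' : X' ⟶ X} {π' : X' ⟶ T'} {π : X ⟶ T} {g : T' ⟶ T}
    (_ : IsPullback g' π' π g) [Flat g] [LocallyOfFinitePresentation π]
    (x' : X') (U' : X'.Opens) (_ : x' ∈ U') (_ : Etale (U'.ι ≫ π')),
    ∃ U : X.Opens, g' x' ∈ U ∧ Etale (U.ι ≫ π)

lemma exists_preimage_of_isPullback {P X Y Z : Scheme.{u}} {fst : P ⟶ X} {snd : P ⟶ Y}
    {f : X ⟶ Z} {g : Y ⟶ Z} (sq : IsPullback fst snd f g) (x : X) (y : Y) (h : f x = g y) :
    ∃ z : P, fst z = x ∧ snd z = y := by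
  obtain ⟨z, hz1, hz2⟩ := Scheme.Pullback.exists_preimage_pullback x y h
  refine ⟨sq.isoPullback.inv z, ?_, ?_⟩
  · rw [← Scheme.Hom.comp_apply, sq.isoPullback_inv_fst, hz1]
  · rw [← Scheme.Hom.comp_apply, sq.isoPullback_inv_snd, hz2]

lemma etale_of_forall_exists_nhd {Q X : Scheme.{u}} (π : Q ⟶ X) (Q' : Q.Opens)
    (h : ∀ y ∈ Q', ∃ U : Q.Opens, y ∈ U ∧ Etale (U.ι ≫ π)) : Etale (Q'.ι ≫ π) := by
  choose U hyU hU using h
  refine IsZariskiLocalAtSource.of_iSup_eq_top (P := @Etale)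
    (fun y : Q' => Q'.ι ⁻¹ᵁ (U y.1 y.2)) ?_ (fun y => ?_)
  · rw [eq_top_iff]
    rintro y -
    rw [TopologicalSpace.Opens.mem_iSup]
    refine ⟨⟨Q'.ι y, ?_⟩, ?_⟩
    · exact y.2
    · exact hyU _ _
  · have h1 : (Q'.ι ⁻¹ᵁ (U y.1 y.2)).ι ≫ Q'.ι ≫ π =
        (Q'.ι ∣_ (U y.1 y.2)) ≫ (U y.1 y.2).ι ≫ π := by
      rw [← Category.assoc, ← morphismRestrict_ι, Category.assoc]
    rw [h1]
    haveI := hU y.1 y.2
    infer_instance

theorem etale_saturate (hA : PkgAStmt.{u}) {Q Z X R P : Scheme.{u}} {ρZ : Q ⟶ Z} {π : Q ⟶ X}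
    {s t : R ⟶ X} {q₁ q₂ : P ⟶ Q} {ρ : P ⟶ R}
    (sq1 : IsPullback q₁ ρ π t) (sq2 : IsPullback q₂ ρ π s) (sqQQ : IsPullback q₁ q₂ ρZ ρZ)
    [Flat s] [LocallyOfFinitePresentation π] (hopen : IsOpenMap ρZ)
    (E : Q.Opens) (hE : Etale (E.ι ≫ π)) :
    ∃ Z' : Z.Opens, E ≤ ρZ ⁻¹ᵁ Z' ∧ Etale ((ρZ ⁻¹ᵁ Z').ι ≫ π) := by
  refine ⟨⟨ρZ '' E, hopen _ E.2⟩, fun y hy => ⟨y, hy, rfl⟩, ?_⟩
  apply etale_of_forall_exists_nhd
  rintro y₂ ⟨y₁, hy₁, hy⟩
  obtain ⟨x, hx1, hx2⟩ := exists_preimage_of_isPullback sqQQ y₁ y₂ hy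
  have sqU : IsPullback (q₁ ∣_ E) ((q₁ ⁻¹ᵁ E).ι ≫ ρ) (E.ι ≫ π) t :=
    (isPullback_morphismRestrict q₁ E).paste_vert sq1
  have hU' : Etale ((q₁ ⁻¹ᵁ E).ι ≫ ρ) := MorphismProperty.of_isPullback (P := @Etale) sqU hE
  obtain ⟨U, hxU, hU⟩ := hA sq2 x (q₁ ⁻¹ᵁ E) (by
    change q₁ x ∈ E
    rw [hx1]
    exact hy₁) hU'
  exact ⟨U, hx2 ▸ hxU, hU⟩

/-- **PKG-E** (slice at a point), as a statement. -/
def PkgEStmt : Prop :=
  ∀ {X R : Scheme.{u}} (s t : R ⟶ X) (e : X ⟶ R) (_ : e ≫ s = 𝟙 X) (_ : e ≫ t = 𝟙 X) [Smooth s]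
    (_ : ∀ ⦃T : Scheme.{u}⦄ (a b : T ⟶ R), a ≫ s = b ≫ s → a ≫ t = b ≫ t → a = b) (u : X),
    ∃ (Z : Scheme.{u}) (a : Z ⟶ X) (_ : LocallyOfFinitePresentation a) (Q₁ : Scheme.{u})
      (k : Q₁ ⟶ pullback a t) (_ : IsOpenImmersion k), Etale (k ≫ pullback.snd a t ≫ s) ∧
      u ∈ Set.range (k ≫ pullback.snd a t ≫ s)

lemma isPullback_over_of_left {P X Y Z : Over S} {fst : P ⟶ X} {snd : P ⟶ Y} {f : X ⟶ Z}
    {g : Y ⟶ Z} (h : IsPullback fst.left snd.left f.left g.left) : IsPullback fst snd f g :=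
  IsPullback.of_map (Over.forget S) (by ext; exact h.w) h

/-- Slices through the orbit of every point. -/
theorem exists_slice_at (hA : PkgAStmt.{u}) (hE : PkgEStmt.{u}) (F : PSp S) {X R₀ : Over S}
    (q : (pyon S).obj X ⟶ F) (s t : R₀ ⟶ X)
    (hk : IsPullback ((pyon S).map t) ((pyon S).map s) q q) [Smooth s.left] [Smooth t.left]
    (u : X.left) :
    ∃ (Z Q : Scheme.{u}) (a : Z ⟶ X.left) (ρZ : Q ⟶ Z) (r : Q ⟶ R₀.left),
      IsPullback ρZ r a t.left ∧ Etale (r ≫ s.left) ∧ u ∈ Set.range (r ≫ s.left) := by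
  -- the identity section and joint monicity
  obtain ⟨e', he1, he2⟩ := hk.exists_lift (𝟙 _) (𝟙 _) rfl
  obtain ⟨e, rfl⟩ : ∃ e : X ⟶ R₀, (pyon S).map e = e' := ⟨_, (pyon S).map_preimage e'⟩
  have het : e ≫ t = 𝟙 X := (pyon S).map_injective (by rw [Functor.map_comp, he1]; exact ((pyon S).map_id X).symm)
  have hes : e ≫ s = 𝟙 X := (pyon S).map_injective (by rw [Functor.map_comp, he2]; exact ((pyon S).map_id X).symm)
  have hmono : ∀ ⦃T : Scheme.{u}⦄ (a b : T ⟶ R₀.left), a ≫ s.left = b ≫ s.left →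
      a ≫ t.left = b ≫ t.left → a = b := by
    intro T a b h1 h2
    have hb : b ≫ R₀.hom = a ≫ R₀.hom := by
      rw [← Over.w s, ← Category.assoc, ← h1, Category.assoc]
    let a' : Over.mk (a ≫ R₀.hom) ⟶ R₀ := Over.homMk a rfl
    let b' : Over.mk (a ≫ R₀.hom) ⟶ R₀ := Over.homMk b hb
    have : a' = b' := by
      apply (pyon S).map_injective
      apply hk.hom_ext
      · rw [← Functor.map_comp, ← Functor.map_comp]
        congr 1
        ext
        exact h2
      · rw [← Functor.map_comp, ← Functor.map_comp]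
        congr 1
        ext
        exact h1
    exact congrArg (fun m => m.left) this
  obtain ⟨Z₀, a₀, ha₀, Q₁, k, hk₁, hket, hku⟩ := hE s.left t.left e.left
    (by rw [← Over.comp_left, hes]; rfl) (by rw [← Over.comp_left, het]; rfl) hmono u
  -- objects over `S`
  let Zo : Over S := Over.mk (a₀ ≫ X.hom)
  let ao : Zo ⟶ X := Over.homMk a₀ rfl
  let Qo : Over S := Over.mk (pullback.fst a₀ t.left ≫ Zo.hom)
  let ρZo : Qo ⟶ Zo := Over.homMk (pullback.fst a₀ t.left) rfl
  let ro : Qo ⟶ R₀ := Over.homMk (pullback.snd a₀ t.left) (by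
    change pullback.snd a₀ t.left ≫ R₀.hom = pullback.fst a₀ t.left ≫ a₀ ≫ X.hom
    rw [← Over.w t, ← Category.assoc, ← pullback.condition, Category.assoc])
  have sqQo : IsPullback ρZo ro ao t :=
    isPullback_over_of_left (IsPullback.of_hasPullback a₀ t.left)
  let πo : Qo ⟶ X := ro ≫ s
  let Po : Over S := Over.mk (pullback.fst πo.left t.left ≫ Qo.hom)
  let q₁o : Po ⟶ Qo := Over.homMk (pullback.fst πo.left t.left) rfl
  let ρo : Po ⟶ R₀ := Over.homMk (pullback.snd πo.left t.left) (by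
    change pullback.snd πo.left t.left ≫ R₀.hom = pullback.fst πo.left t.left ≫ Qo.hom
    rw [← Over.w t, ← Category.assoc, ← pullback.condition, Category.assoc, Over.w πo])
  have sqPo : IsPullback q₁o ρo πo t :=
    isPullback_over_of_left (IsPullback.of_hasPullback πo.left t.left)
  -- presheaf-level squares
  let pZ : (pyon S).obj Zo ⟶ F := (pyon S).map ao ≫ q
  have sqQF : IsPullback ((pyon S).map ρZo) ((pyon S).map πo) pZ q := by
    have h := (sqQo.flip.map (pyon S)).paste_horiz hk.flip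
    rw [← Functor.map_comp] at h
    exact h.flip
  obtain ⟨q₂', h1, h2, sq2', sqQQ'⟩ := trans_squares sqQF hk (sqPo.map (pyon S))
  obtain ⟨q₂o, rfl⟩ : ∃ q₂o : Po ⟶ Qo, (pyon S).map q₂o = q₂' := ⟨_, (pyon S).map_preimage q₂'⟩
  have sq2o : IsPullback q₂o ρo πo s := IsPullback.of_map (pyon S)
    ((pyon S).map_injective (by rw [Functor.map_comp, Functor.map_comp]; exact sq2'.w)) sq2'
  have sqQQo : IsPullback q₁o q₂o ρZo ρZo := IsPullback.of_map (pyon S)
    ((pyon S).map_injective (by rw [Functor.map_comp, Functor.map_comp]; exact sqQQ'.w)) sqQQ'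
  -- scheme-level squares
  have sq1 := sqPo.map (Over.forget S)
  have sq2 := sq2o.map (Over.forget S)
  have sqQQ := sqQQo.map (Over.forget S)
  haveI : LocallyOfFinitePresentation a₀ := ha₀
  haveI : LocallyOfFinitePresentation πo.left := by
    change LocallyOfFinitePresentation (pullback.snd a₀ t.left ≫ s.left)
    infer_instance
  have hopen : IsOpenMap ρZo.left := (pullback.fst a₀ t.left).isOpenMap
  have hEet : Etale (k.opensRange.ι ≫ πo.left) := by
    have h3 : k = k.isoOpensRange.hom ≫ k.opensRange.ι := (Scheme.Hom.isoOpensRange_hom_ι k).symm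
    have h4 : Etale (k.isoOpensRange.hom ≫ k.opensRange.ι ≫ πo.left) := by
      rw [← Category.assoc, ← h3]
      exact hket
    exact (MorphismProperty.cancel_left_of_respectsIso @Etale _ _).1 h4
  obtain ⟨Z', hEZ', hZ'et⟩ := etale_saturate hA (ρZ := ρZo.left) (π := πo.left) (s := s.left)
    (t := t.left) sq1 sq2 sqQQ hopen k.opensRange hEet
  refine ⟨Z', ρZo.left ⁻¹ᵁ Z', Z'.ι ≫ a₀, ρZo.left ∣_ Z', (ρZo.left ⁻¹ᵁ Z').ι ≫ ro.left,
    (isPullback_morphismRestrict ρZo.left Z').paste_vert (IsPullback.of_hasPullback a₀ t.left),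
    ?_, ?_⟩
  · rw [Category.assoc]
    exact hZ'et
  · obtain ⟨x₀, hx₀⟩ := hku
    refine ⟨⟨k x₀, hEZ' ⟨x₀, rfl⟩⟩, ?_⟩
    rw [← hx₀]
    rfl

/-- **Bootstrap for smooth covers**, modulo the two scheme-theoretic packages. -/
theorem isAlgSpaceP_of_smooth_cover (hA : PkgAStmt.{u}) (hE : PkgEStmt.{u}) (F : PSp S)
    (h1 : Presheaf.IsSheaf (Jet S) F) (U : Space S) (p : U.obj.obj ⟶ F)
    (h2 : RepBySpWith (IsSurjectiveMor ⊓ LocP @Smooth) p) : IsAlgSpaceP F := by
  obtain ⟨X, R₀, q, s, t, hk, hs, ht, hloc⟩ := exists_smooth_kernelPair F U p h2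
  haveI := hs
  haveI := ht
  choose Z Q a ρZ r sq het hu using fun u => exists_slice_at hA hE F q s t hk u
  let a_tot : ∐ Z ⟶ X.left := Sigma.desc a
  let Zo : Over S := Over.mk (a_tot ≫ X.hom)
  let ao : Zo ⟶ X := Over.homMk a_tot rfl
  let Qo : Over S := Over.mk (pullback.fst a_tot t.left ≫ Zo.hom)
  let ρZo : Qo ⟶ Zo := Over.homMk (pullback.fst a_tot t.left) rfl
  let ro : Qo ⟶ R₀ := Over.homMk (pullback.snd a_tot t.left) (by
    change pullback.snd a_tot t.left ≫ R₀.hom = pullback.fst a_tot t.left ≫ a_tot ≫ X.hom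
    rw [← Over.w t, ← Category.assoc, ← pullback.condition, Category.assoc])
  have sqQo : IsPullback ρZo ro ao t :=
    isPullback_over_of_left (IsPullback.of_hasPullback a_tot t.left)
  -- the local pieces
  have key : ∀ u : X.left, ∃ φ : pullback (pullback.fst a_tot t.left) (Sigma.ι Z u) ≅ Q u,
      pullback.fst (pullback.fst a_tot t.left) (Sigma.ι Z u) ≫ pullback.snd a_tot t.left =
        φ.hom ≫ r u := by
    intro u
    have sqW : IsPullback (pullback.snd (pullback.fst a_tot t.left) (Sigma.ι Z u))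
        (pullback.fst (pullback.fst a_tot t.left) (Sigma.ι Z u) ≫ pullback.snd a_tot t.left)
        (Sigma.ι Z u ≫ a_tot) t.left :=
      (IsPullback.of_hasPullback (pullback.fst a_tot t.left) (Sigma.ι Z u)).flip.paste_vert
        (IsPullback.of_hasPullback a_tot t.left)
    have h3 : Sigma.ι Z u ≫ a_tot = a u := Sigma.ι_desc _ _
    rw [h3] at sqW
    exact ⟨sqW.isoIsPullback _ _ (sq u), (IsPullback.isoIsPullback_hom_snd _ _ sqW (sq u)).symm⟩
  choose φ hφ using key
  have hπe : Etale (ro ≫ s).left := by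
    change Etale (pullback.snd a_tot t.left ≫ s.left)
    refine IsZariskiLocalAtSource.of_openCover (P := @Etale)
      (𝒰 := (sigmaOpenCover Z).pullback₁ (pullback.fst a_tot t.left)) (fun u => ?_)
    change Etale (pullback.fst (pullback.fst a_tot t.left) (Sigma.ι Z u) ≫
      pullback.snd a_tot t.left ≫ s.left)
    rw [← Category.assoc, hφ u, Category.assoc]
    haveI := het u
    infer_instance
  have hπs : Surjective (ro ≫ s).left := by
    change Surjective (pullback.snd a_tot t.left ≫ s.left)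
    refine ⟨fun x => ?_⟩
    obtain ⟨y, hy⟩ := hu x
    refine ⟨pullback.fst (pullback.fst a_tot t.left) (Sigma.ι Z x) ((φ x).inv y), ?_⟩
    rw [← Scheme.Hom.comp_apply, ← Scheme.Hom.comp_apply, ← Category.assoc,
      ← Category.assoc, Category.assoc (φ x).inv, hφ x, Iso.inv_hom_id_assoc]
    exact hy
  exact isAlgSpaceP_of_slice F h1 q s t hk hloc ao ρZo ro sqQo hπe hπs

end Groth.Agent.R2.H59.SmoothBoot
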