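import Mathlib
import Groth.Agent.R2.H59SmoothLocus
import Groth.Agent.R2.H59ImageSub
import Groth.Agent.R2.H59LocQCancel
import Groth.Agent.Lib.Helper15LocQRep
import Groth.Agent.Lib.Helper15LocQComp
import Groth.Agent.S13008

/-!
# The largest smooth open substack and smooth precomposition (helper59)
-/

set_option autoImplicit false
set_option backward.isDefEq.respectTransparency false
set_option backward.isDefEq.respectTransparency.types false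
set_option linter.style.haveILetI false
set_option linter.unusedSectionVars false

universe u w

open CategoryTheory CategoryTheory.Functor CategoryTheory.Limits AlgebraicGeometry Opposite

namespace Groth.Agent.R2.H59.SmoothLocus

open Groth.Agent.Lib.Helper17 Groth.Agent.Lib.Helper15DiagLft Groth.Agent.R2.H59.OpenSub
  Groth.Agent.R2.H59.Cancel2 Groth.Agent.R2.H59.ImageSub Groth.Agent.R2.H59.LocQCancel
  Groth.Agent.R2.H59.LocQDesc Groth.Agent.Lib.Helper15LocQProps Groth.Agent.Lib.Helper15PtsComp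
  Groth.Agent.Lib.Helper15DiagRepSp

section Pre

variable {S : Scheme.{u}} {𝒜 ℬ 𝒞 : AlgSt.Cat S}

theorem locQ_mono {P P' : MorphismProperty (AlgSp.Sp S)}
    (h : ∀ ⦃F G : AlgSp.Sp S⦄ (f : F ⟶ G), P f → P' f) {f : 𝒜 ⥤ᵇ ℬ} (hf : AlgSt.LocQ P f) :
    AlgSt.LocQ P' f := by
  obtain ⟨U, V, x, y, k, α, hx₁, hx₂, hy₁, hPk⟩ := hf
  exact ⟨U, V, x, y, k, α, hx₁, hx₂, hy₁, h _ hPk⟩

/-- The preimage of an open predicate under a functor over the base is an open predicate. -/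
theorem isOpenPred_preimage (g : 𝒜 ⥤ᵇ ℬ) {Q : ℬ.obj → Prop} (hQ : IsOpenPred ℬ Q) :
    IsOpenPred 𝒜 (fun a => Q (g.obj a)) := by
  intro T x hx
  obtain ⟨W, j, hj, hW⟩ := hQ T (g.obj x) ((g.w_obj x).trans hx)
  exact ⟨W, j, hj, fun x' a T' t hlift =>
    hW (g.obj x') (g.map a) T' t (BasedFunctor.preserves_isHomLift g t a)⟩

/-- `LocQ P` descends along a smooth (chart sense) functor which is surjective on points. -/
theorem locQ_of_precomp_locQ_smooth_surj (P : MorphismProperty (AlgSp.Sp S))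
    (hP : AlgSp.IsSmoothLocalST P)
    (h𝒜 : AlgSt.IsAlgStack Scheme.fppfPrecoverage 𝒜)
    (hℬ : AlgSt.IsAlgStack Scheme.fppfPrecoverage ℬ)
    (h𝒞 : AlgSt.IsAlgStack Scheme.fppfPrecoverage 𝒞)
    (s : 𝒜 ⥤ᵇ ℬ) (g : ℬ ⥤ᵇ 𝒞) (hs₁ : AlgSt.LocQ (AlgSp.LocP @Smooth) s)
    (hs₂ : Function.Surjective (AlgSt.Points.map s))
    (h : AlgSt.LocQ P (BasedFunctor.comp s g)) : AlgSt.LocQ P g := by
  obtain ⟨U, x, hx₁, hx₂⟩ := h𝒜.atlas
  have hU : AlgSt.IsAlgStack Scheme.fppfPrecoverage (FibCat.overCat U) := isAlgStack_overCat U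
  have hrepx : AlgSt.RepByAlgSp1 x := (repByAlgSp1_diag_toSelf_iff.1 h𝒜.diag) U x
  have hrep : AlgSt.RepByAlgSp1 (BasedFunctor.comp x s) :=
    (repByAlgSp1_diag_toSelf_iff.1 hℬ.diag) U _
  have hL : AlgSt.LocQ (AlgSp.LocP @Smooth) (BasedFunctor.comp x s) :=
    locQ_precomp_smooth _ isSmoothLocalST_smooth hU h𝒜 hℬ x s hx₁ hs₁
  have hs'₁ : AlgSt.RepByAlgSpWith (AlgSp.LocP @Smooth) (BasedFunctor.comp x s) :=
    Groth.Agent.Lib.Helper15LocQRep.repByAlgSpWith_of_locQ _ isSmoothLocalST_smooth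
      Groth.Agent.Lib.Helper15SmLoc.bcStable_smooth
      Groth.Agent.Lib.Helper15LocQEngine.isLocalOnBase_fppf_smooth hU hℬ _ hrep hL
  have hxsurj : AlgSt.IsSurjective x := (isSurjective_iff_repByAlgSpWith hU h𝒜 x hrepx).2 hx₂
  have hsurj : AlgSt.IsSurjective (BasedFunctor.comp x s) := by
    intro z
    obtain ⟨w, rfl⟩ := hs₂ z
    obtain ⟨v, rfl⟩ := hxsurj w
    exact ⟨v, points_map_comp x s v⟩
  have hs'₂ : AlgSt.RepByAlgSpWith AlgSp.IsSurjectiveMor (BasedFunctor.comp x s) :=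
    (isSurjective_iff_repByAlgSpWith hU hℬ _ hrep).1 hsurj
  have h' : AlgSt.LocQ P (BasedFunctor.comp (BasedFunctor.comp x s) g) :=
    locQ_precomp_smooth P hP hU h𝒜 h𝒞 x (BasedFunctor.comp s g) hx₁ h
  exact locQ_of_precomp_smooth_surj P hU (BasedFunctor.comp x s) g hs'₁ hs'₂ h'

end Pre

section Main

variable {S : Scheme.{u}} {𝒳' 𝒳 𝒴 : AlgSt.Cat S}

theorem subIncl_full (Q : 𝒳.obj → Prop) : (AlgSt.subIncl 𝒳 Q).toFunctor.Full :=
  inferInstanceAs (ObjectProperty.ι Q).Full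

theorem subIncl_faithful (Q : 𝒳.obj → Prop) : (AlgSt.subIncl 𝒳 Q).toFunctor.Faithful :=
  inferInstanceAs (ObjectProperty.ι Q).Faithful

theorem locP_smooth_comp ⦃X₁ Y₁ Z₁ : AlgSp.Sp S⦄ (hX : AlgSp.IsAlgSpace X₁)
    (hY : AlgSp.IsAlgSpace Y₁) (hZ : AlgSp.IsAlgSpace Z₁) (a : X₁ ⟶ Y₁) (b : Y₁ ⟶ Z₁)
    (ha : AlgSp.LocP @Smooth a) (hb : AlgSp.LocP @Smooth b) : AlgSp.LocP @Smooth (a ≫ b) :=
  isSmoothLocalST_smooth.precomp hX hY hZ a b ha hb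

/-- The restriction of a smooth morphism to the preimage of an open substack is smooth. -/
theorem locQ_smooth_restrict_preimage (h𝒳' : AlgSt.IsAlgStack Scheme.fppfPrecoverage 𝒳')
    (h𝒳 : AlgSt.IsAlgStack Scheme.fppfPrecoverage 𝒳) (g : 𝒳' ⥤ᵇ 𝒳)
    (hg : AlgSt.LocQ (AlgSp.LocP @Smooth) g) (Q : 𝒳.obj → Prop) (hQ : IsOpenPred 𝒳 Q) :
    AlgSt.LocQ (AlgSp.LocP @Smooth)
      (liftSub Q (BasedFunctor.comp (AlgSt.subIncl 𝒳' (fun a => Q (g.obj a))) g)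
        (fun w => w.property)) := by
  have hQg := isOpenPred_preimage g hQ
  have hS' := isOpenSubstack_of_isOpenPred h𝒳' _ hQg
  have hS := isOpenSubstack_of_isOpenPred h𝒳 Q hQ
  have h1 : AlgSt.LocQ (AlgSp.LocP @Smooth)
      (BasedFunctor.comp (AlgSt.subIncl 𝒳' (fun a => Q (g.obj a))) g) :=
    locQ_precomp_smooth _ isSmoothLocalST_smooth hS'.2.1 h𝒳' h𝒳 _ g
      (smooth_of_isOpenImm _ hS'.2.2) hg
  have := subIncl_full Q
  have := subIncl_faithful Q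
  exact locQ_cancel_ff _ isSmoothLocalST_smooth Groth.Agent.Lib.Helper15SmLoc.bcStable_smooth
    hS'.2.1 hS.2.1 h𝒳 (AlgSt.subIncl 𝒳 Q) _ h1

/-- `f ∘ g` is smooth on the preimage of an open substack on which `f` is smooth, for smooth
`g`. -/
theorem locQ_smooth_comp_preimage (h𝒳' : AlgSt.IsAlgStack Scheme.fppfPrecoverage 𝒳')
    (h𝒳 : AlgSt.IsAlgStack Scheme.fppfPrecoverage 𝒳)
    (h𝒴 : AlgSt.IsAlgStack Scheme.fppfPrecoverage 𝒴) (g : 𝒳' ⥤ᵇ 𝒳)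
    (hg : AlgSt.LocQ (AlgSp.LocP @Smooth) g) (f : 𝒳 ⥤ᵇ 𝒴) (Q : 𝒳.obj → Prop)
    (hQ : IsOpenPred 𝒳 Q)
    (hQ₂ : AlgSt.LocQ (AlgSp.LocP @Smooth) (BasedFunctor.comp (AlgSt.subIncl 𝒳 Q) f)) :
    AlgSt.LocQ (AlgSp.LocP @Smooth)
      (BasedFunctor.comp (AlgSt.subIncl 𝒳' (fun a => Q (g.obj a))) (BasedFunctor.comp g f)) := by
  have hQg := isOpenPred_preimage g hQ
  have hS' := isOpenSubstack_of_isOpenPred h𝒳' _ hQg
  have hS := isOpenSubstack_of_isOpenPred h𝒳 Q hQ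
  exact Groth.Agent.Lib.Helper15LocQComp.locQ_comp _ isSmoothLocalST_smooth locP_smooth_comp
    hS'.2.1 hS.2.1 h𝒴 _ _ (locQ_smooth_restrict_preimage h𝒳' h𝒳 g hg Q hQ) hQ₂

/-- If `f ∘ g` is smooth on an open substack `Q'` of the source of a smooth `g`, then `f` is smooth
on the (open) image of `Q'`. -/
theorem exists_image_locQ_smooth (h𝒳' : AlgSt.IsAlgStack Scheme.fppfPrecoverage 𝒳')
    (h𝒳 : AlgSt.IsAlgStack Scheme.fppfPrecoverage 𝒳)
    (h𝒴 : AlgSt.IsAlgStack Scheme.fppfPrecoverage 𝒴) (g : 𝒳' ⥤ᵇ 𝒳)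
    (hg : AlgSt.LocQ (AlgSp.LocP @Smooth) g) (f : 𝒳 ⥤ᵇ 𝒴) (Q' : 𝒳'.obj → Prop)
    (hQ' : IsOpenPred 𝒳' Q')
    (hsm : AlgSt.LocQ (AlgSp.LocP @Smooth)
      (BasedFunctor.comp (AlgSt.subIncl 𝒳' Q') (BasedFunctor.comp g f))) :
    ∃ Q'' : 𝒳.obj → Prop, IsOpenPred 𝒳 Q'' ∧ (∀ a, Q' a → Q'' (g.obj a)) ∧
      AlgSt.LocQ (AlgSp.LocP @Smooth) (BasedFunctor.comp (AlgSt.subIncl 𝒳 Q'') f) := by
  have hS' := isOpenSubstack_of_isOpenPred h𝒳' Q' hQ'
  let φ : AlgSt.fullSub 𝒳' Q' ⥤ᵇ 𝒳 := BasedFunctor.comp (AlgSt.subIncl 𝒳' Q') g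
  have hφ : AlgSt.LocQ (AlgSp.LocP @Smooth) φ :=
    locQ_precomp_smooth _ isSmoothLocalST_smooth hS'.2.1 h𝒳' h𝒳 _ g
      (smooth_of_isOpenImm _ hS'.2.2) hg
  have hflat : AlgSt.LocQ (AlgSp.LocP @Flat) φ :=
    locQ_mono (fun _ _ _ h => Groth.Agent.Lib.Helper15PtsTop.locP_mono (fun _ _ k hk => by
      have : Smooth k := hk
      exact (inferInstance : Flat k)) h) hφ
  have hlfp : AlgSt.LocQ (AlgSp.LocP @LocallyOfFinitePresentation) φ :=
    locQ_mono (fun _ _ _ h => Groth.Agent.Lib.Helper15PtsTop.locP_mono (fun _ _ k hk => by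
      have : Smooth k := hk
      exact (inferInstance : LocallyOfFinitePresentation k)) h) hφ
  have hopen : IsOpen (Set.range (AlgSt.Points.map φ)) :=
    (Groth.Agent.S13008.result S _ _ hS'.2.1 h𝒳 φ hflat hlfp).isOpen_range
  have hQ'' := isOpenPred_pointsPred h𝒳 _ hopen
  have hS'' := isOpenSubstack_of_isOpenPred h𝒳 _ hQ''
  have hmem := pointsPred_range_map hS'.2.1.isStack.1 h𝒳.isStack.1 φ
  refine ⟨pointsPred (Set.range (AlgSt.Points.map φ)), hQ'', fun a ha => hmem ⟨a, ha⟩, ?_⟩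
  have := subIncl_full (pointsPred (Set.range (AlgSt.Points.map φ)))
  have := subIncl_faithful (pointsPred (Set.range (AlgSt.Points.map φ)))
  have hγ : AlgSt.LocQ (AlgSp.LocP @Smooth)
      (liftSub (pointsPred (Set.range (AlgSt.Points.map φ))) φ hmem) :=
    locQ_cancel_ff _ isSmoothLocalST_smooth Groth.Agent.Lib.Helper15SmLoc.bcStable_smooth
      hS'.2.1 hS''.2.1 h𝒳 (AlgSt.subIncl 𝒳 _) _ hφ
  exact locQ_of_precomp_locQ_smooth_surj _ isSmoothLocalST_smooth hS'.2.1 hS''.2.1 h𝒴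
    (liftSub (pointsPred (Set.range (AlgSt.Points.map φ))) φ hmem) _ hγ
    (surjective_liftSub_pointsPred hS'.2.1.isStack.1 h𝒳 φ hopen) hsm

end Main

end Groth.Agent.R2.H59.SmoothLocus
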