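import Groth.Agent.R2.H59StackSp
import Groth.Agent.R2.H59EtSheaf
import Groth.Agent.Lib.Helper17StkFp2
import Groth.Agent.Lib.Helper17StkPsh4
import Groth.Agent.Lib.Helper17FpPaste
import Groth.Agent.Lib.Helper17AlgStRep
import Groth.Agent.Lib.Helper15Atlas
import Groth.Agent.Lib.Helper17RepStack
import Groth.Agent.S12766

/-!
# Bootstrap for algebraic stacks: a stack with a smooth surjective cover by an algebraic space has
diagonal representable by algebraic spaces (helper59)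

* `isStack_of_le` : a stack for a finer topology is a stack for a coarser one.
* `repByAlgSp_of_smooth_cover` : a stack in setoids for the etale topology with a smooth surjective
  cover (representable by algebraic spaces) from the category of an algebraic space is representable
  by an algebraic space (stack form of `S10110`).
* `repByAlgSp_fp_of_cover` : for an etale stack `𝒳` with a smooth surjective cover from an algebraic
  space, fibre products of slices over `𝒳` are algebraic spaces.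
* `repByAlgSp1_diag_of_cover` : hence the diagonal of `𝒳` is representable by algebraic spaces.
* `isAlgStack_of_cover`, `isAlgStack_et_of_cover`: the algebraic stack conclusions.
-/

set_option autoImplicit false
set_option backward.isDefEq.respectTransparency false
set_option backward.isDefEq.respectTransparency.types false
set_option linter.style.haveILetI false
set_option linter.unusedSectionVars false

universe u

open CategoryTheory CategoryTheory.Functor CategoryTheory.Limits AlgebraicGeometry Opposite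

namespace Groth.Agent.R2.H59.StackBoot

open AlgSp AlgSt Groth.Agent.Lib.Helper17 Groth.Agent.Lib.Helper15PshFib
  Groth.Agent.Lib.Helper15RepComp Groth.Agent.Lib.Helper15RepPsh Groth.Agent.R2.H59.StackSp
  Groth.Agent.Lib.Helper15DiagRepSp Groth.Agent.Lib.Helper15Atlas

section Gen

universe v₁ u₁ v₂ u₂

variable {C : Type u₁} [Category.{v₁} C]

theorem isStack_of_le {J J' : GrothendieckTopology C} (h : J ≤ J')
    {𝒳 : BasedCategory.{v₂, u₂} C} (h𝒳 : Stk.IsStack J' 𝒳) : Stk.IsStack J 𝒳 :=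
  ⟨h𝒳.1, fun _ R hR => h𝒳.2 R (h _ hR)⟩

end Gen

variable {S : Scheme.{u}}

theorem isStack_overCat_et (U : Over S) :
    Stk.IsStack (QuotSh.J Scheme.etalePrecoverage S) (FibCat.overCat U) :=
  isStack_of_le Groth.Agent.R2.H59.EtSheaf.Jet_le
    (Groth.Agent.Lib.Helper17.RepStack.isStack_overCat U)

/-- **Stack form of the smooth bootstrap.** -/
theorem repByAlgSp_of_smooth_cover {𝒲 𝒜 : AlgSt.Cat S}
    (hW : Stk.IsStack (QuotSh.J Scheme.etalePrecoverage S) 𝒲) (hs : FibCat.IsFibSetoid 𝒲.p)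
    (hA : AlgSt.RepByAlgSp 𝒜) (ρ : 𝒜 ⥤ᵇ 𝒲)
    (hsm : AlgSt.RepByAlgSpWith (AlgSp.LocP @Smooth) ρ)
    (hsurj : AlgSt.RepByAlgSpWith AlgSp.IsSurjectiveMor ρ) : AlgSt.RepByAlgSp 𝒲 := by
  obtain ⟨P, E, hE⟩ := exists_psh_equivOver 𝒲 hs
  have hP : Stk.IsStack (QuotSh.J Scheme.etalePrecoverage S) (Stk.ofPsh P) :=
    (isStack_iff_of_isEquivOver' _ E hE).2 hW
  have hPet : Presheaf.IsSheaf (QuotSh.J Scheme.etalePrecoverage S) P :=
    (isSheaf_iff_isSheaf_of_type _ _).2 ((isStack_ofPsh_iff_isSheaf _ P).1 hP)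
  obtain ⟨F, e, he⟩ := hA
  obtain ⟨E', hE', ⟨α⟩, ⟨β⟩⟩ := IsEquivOver.exists_inverse_isEquivOver' E hE
  let Φ : AlgSt.ofSp F.obj ⥤ᵇ Stk.ofPsh P := BasedFunctor.comp e (BasedFunctor.comp ρ E')
  let p : F.obj.obj ⟶ P := pshMapOf Φ
  have key : ∀ Q : MorphismProperty (AlgSp.Sp S), AlgSt.RepByAlgSpWith Q ρ →
      AlgSt.RepByAlgSpWith Q (Stk.ofPshMap p) := fun Q hQ =>
    (repByAlgSpWith_of_square Q ρ (Stk.ofPshMap p) e E he hE ?_).1 hQ
  · have h1 := repBySpWith_of_repByAlgSpWith _ (locP_of_iso_comp @Smooth) p (key _ hsm)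
    have h2 := repBySpWith_of_repByAlgSpWith _ isSurjectiveMor_of_iso_comp p (key _ hsurj)
    have h3 : AlgSp.RepBySpWith (AlgSp.IsSurjectiveMor ⊓ AlgSp.LocP @Smooth) p :=
      fun T ξ F' fst snd sq => by
        obtain ⟨hs1, hA1, hQ1⟩ := h1 ξ fst snd sq
        obtain ⟨hs2, hA2, hQ2⟩ := h2 ξ fst snd sq
        exact ⟨hs1, hA1, hQ2, hQ1⟩
    obtain ⟨hsh', hAlg⟩ := Groth.Agent.S10110.result S P hPet F p h3
    exact ⟨⟨⟨P, hsh'⟩, hAlg⟩, E, hE⟩
  · exact whiskerRightIso (ofPshMapIso Φ) E ≪≫ whiskerLeftIso (BasedFunctor.comp e ρ) β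

theorem isFibSetoid_overCat (T : Over S) : FibCat.IsFibSetoid (FibCat.overCat T).p :=
  ⟨(isFibSet_overForget T).1, fun V a b => ((isFibSet_overForget T).2 V).subsingleton a b⟩

theorem isFibGrpd_of_repByAlgSp {𝒰 : AlgSt.Cat S} (hU : AlgSt.RepByAlgSp 𝒰) :
    FibCat.IsFibGrpd 𝒰.p := by
  obtain ⟨F, e, he⟩ := hU
  exact (IsEquivOver.isFibGrpd_iff' e he).1 (isFibSetoid_ofPsh F.obj.obj).1

/-- For an etale stack with a smooth surjective cover from an algebraic space, fibre products of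
slices are algebraic spaces. -/
theorem repByAlgSp_fp_of_cover {𝒳 𝒰 : AlgSt.Cat S}
    (h𝒳 : Stk.IsStack (QuotSh.J Scheme.etalePrecoverage S) 𝒳)
    (hU : AlgSt.RepByAlgSp 𝒰) (u : 𝒰 ⥤ᵇ 𝒳)
    (hsm : AlgSt.RepByAlgSpWith (AlgSp.LocP @Smooth) u)
    (hsurj : AlgSt.RepByAlgSpWith AlgSp.IsSurjectiveMor u)
    {T₁ T₂ : Over S} (a : FibCat.overCat T₁ ⥤ᵇ 𝒳) (b : FibCat.overCat T₂ ⥤ᵇ 𝒳) :
    AlgSt.RepByAlgSp (FibCat.fp a b) := by
  have hT₁ := isFibSetoid_overCat T₁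
  have hT₂ := isFibSetoid_overCat T₂
  have h𝒰 : FibCat.IsFibGrpd 𝒰.p := isFibGrpd_of_repByAlgSp hU
  have hW : Stk.IsStack (QuotSh.J Scheme.etalePrecoverage S) (FibCat.fp a b) :=
    isStack_fp a b _ (isStack_overCat_et T₁) (isStack_overCat_et T₂) (IsStack.isPrestack _ h𝒳)
  have hs : FibCat.IsFibSetoid (FibCat.fp a b).p := isFibSetoid_fp' a b hT₁ hT₂ h𝒳.1
  have hℬ : AlgSt.RepByAlgSp (FibCat.fp b u) := by
    obtain ⟨F, e, he, -⟩ := hsm T₂ b
    exact ⟨F, e, he⟩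
  have h𝒞 : AlgSt.RepByAlgSp (FibCat.fp a u) := by
    obtain ⟨F, e, he, -⟩ := hsm T₁ a
    exact ⟨F, e, he⟩
  have hπsm := repByAlgSpWith_fpFst (AlgSp.LocP @Smooth) u b hsm
  have hπsurj := repByAlgSpWith_fpFst AlgSp.IsSurjectiveMor u b hsurj
  have hρsm := repByAlgSpWith_fpFst (AlgSp.LocP @Smooth) (FibCat.fpFst b u) (FibCat.fpSnd a b) hπsm
  have hρsurj := repByAlgSpWith_fpFst AlgSp.IsSurjectiveMor (FibCat.fpFst b u) (FibCat.fpSnd a b)
    hπsurj
  have h1 : AlgSt.RepByAlgSp (FibCat.fp (FibCat.fpSnd a u) (FibCat.fpSnd b u)) :=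
    Groth.Agent.S12766.result (isFibGrpd_of_repByAlgSp hℬ) h𝒰 (isFibGrpd_of_repByAlgSp h𝒞)
      (FibCat.fpSnd b u) (FibCat.fpSnd a u) (repByAlgSp1_of_repByAlgSp hℬ hU _) h𝒞
  have h2 : AlgSt.RepByAlgSp (FibCat.fp a (BasedFunctor.comp (FibCat.fpSnd b u) u)) :=
    repByAlgSp_of_isEquivOver _ (isEquivOver_pasteR a (FibCat.fpSnd b u) u) h1
  have := IsEquivOver.isEquivalence (BasedFunctor.id 𝒳) (isEquivOver_id _)
  have hM := isEquivOver_fpMap a (BasedFunctor.comp (FibCat.fpSnd b u) u) a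
    (BasedFunctor.comp (FibCat.fpFst b u) b) (BasedFunctor.id _) (BasedFunctor.id _)
    (BasedFunctor.id _) (Iso.refl _) (FibCat.fpIso b u) (isEquivOver_id _) (isEquivOver_id _)
  have h3 : AlgSt.RepByAlgSp (FibCat.fp a (BasedFunctor.comp (FibCat.fpFst b u) b)) :=
    repByAlgSp_of_isEquivOver' _ hM h2
  have h4 : AlgSt.RepByAlgSp (FibCat.fp (FibCat.fpSnd a b) (FibCat.fpFst b u)) :=
    repByAlgSp_of_isEquivOver' _ (isEquivOver_pasteR a (FibCat.fpFst b u) b) h3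
  exact repByAlgSp_of_smooth_cover hW hs h4 _ hρsm hρsurj

/-- An etale stack with a smooth surjective cover from an algebraic space has diagonal representable
by algebraic spaces. -/
theorem repByAlgSp1_diag_of_cover {𝒳 𝒰 : AlgSt.Cat S}
    (h𝒳 : Stk.IsStack (QuotSh.J Scheme.etalePrecoverage S) 𝒳)
    (hU : AlgSt.RepByAlgSp 𝒰) (u : 𝒰 ⥤ᵇ 𝒳)
    (hsm : AlgSt.RepByAlgSpWith (AlgSp.LocP @Smooth) u)
    (hsurj : AlgSt.RepByAlgSpWith AlgSp.IsSurjectiveMor u) :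
    AlgSt.RepByAlgSp1 (FibCat.diag (FibCat.toSelf 𝒳)) :=
  repByAlgSp1_diag_toSelf_iff.2 (fun _ x _ y => repByAlgSp_fp_of_cover h𝒳 hU u hsm hsurj y x)

/-- An etale stack with a smooth surjective cover from an algebraic space has a smooth atlas. -/
theorem hasAtlas_of_cover' {𝒳 𝒰 : AlgSt.Cat S}
    (hU : AlgSt.RepByAlgSp 𝒰) (u : 𝒰 ⥤ᵇ 𝒳)
    (hsm : AlgSt.RepByAlgSpWith (AlgSp.LocP @Smooth) u)
    (hsurj : AlgSt.RepByAlgSpWith AlgSp.IsSurjectiveMor u) :
    AlgSt.HasAtlas (AlgSp.LocP @Smooth) 𝒳 :=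
  hasAtlas_of_cover (isFibGrpd_of_repByAlgSp hU) u hsm hsurj
    (hasAtlas_of_repByAlgSp _ locP_smooth_of_etale_surjective hU)

/-- **Bootstrap**: an fppf stack with a smooth surjective cover from an algebraic space is an
algebraic stack. -/
theorem isAlgStack_of_cover {𝒳 𝒰 : AlgSt.Cat S}
    (h𝒳 : Stk.IsStack (QuotSh.J Scheme.fppfPrecoverage S) 𝒳)
    (hU : AlgSt.RepByAlgSp 𝒰) (u : 𝒰 ⥤ᵇ 𝒳)
    (hsm : AlgSt.RepByAlgSpWith (AlgSp.LocP @Smooth) u)
    (hsurj : AlgSt.RepByAlgSpWith AlgSp.IsSurjectiveMor u) :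
    AlgSt.IsAlgStack Scheme.fppfPrecoverage 𝒳 :=
  ⟨h𝒳, repByAlgSp1_diag_of_cover (isStack_of_le Groth.Agent.R2.H59.EtSheaf.Jet_le h𝒳) hU u hsm hsurj,
    hasAtlas_of_cover' hU u hsm hsurj⟩

/-- **Bootstrap**, etale form. -/
theorem isAlgStack_et_of_cover {𝒳 𝒰 : AlgSt.Cat S}
    (h𝒳 : Stk.IsStack (QuotSh.J Scheme.etalePrecoverage S) 𝒳)
    (hU : AlgSt.RepByAlgSp 𝒰) (u : 𝒰 ⥤ᵇ 𝒳)
    (hsm : AlgSt.RepByAlgSpWith (AlgSp.LocP @Smooth) u)
    (hsurj : AlgSt.RepByAlgSpWith AlgSp.IsSurjectiveMor u) :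
    AlgSt.IsAlgStack Scheme.etalePrecoverage 𝒳 :=
  ⟨h𝒳, repByAlgSp1_diag_of_cover h𝒳 hU u hsm hsurj, hasAtlas_of_cover' hU u hsm hsurj⟩

end Groth.Agent.R2.H59.StackBoot
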