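-- helper59: points in the closure of the image of a morphism of affine schemes are specializations
-- of image points.
import Mathlib

set_option autoImplicit false
open CategoryTheory AlgebraicGeometry

universe u

namespace Groth.Agent.R2.H59.ValClosure

theorem exists_specializes_of_mem_closure_range_comap {R T : Type u} [CommRing R] [CommRing T]
    (ψ : R →+* T) (p : PrimeSpectrum R) (hp : p ∈ closure (Set.range (PrimeSpectrum.comap ψ))) :
    ∃ q : PrimeSpectrum T, PrimeSpectrum.comap ψ q ⤳ p := by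
  rw [PrimeSpectrum.closure_range_comap, PrimeSpectrum.mem_zeroLocus] at hp
  have hle : (⊥ : Ideal T).comap ψ ≤ p.asIdeal := by
    rw [← RingHom.ker_eq_comap_bot]
    exact hp
  obtain ⟨Q, -, hQ, hQle⟩ := Ideal.exists_ideal_comap_le_prime p.asIdeal ⊥ hle
  exact ⟨⟨Q, hQ⟩, (PrimeSpectrum.le_iff_specializes _ p).1 hQle⟩

theorem exists_specializes_of_mem_closure_range_specMap {R T : CommRingCat.{u}} (ψ : R ⟶ T)
    (p : ↥(Spec R)) (hp : p ∈ closure (Set.range (Spec.map ψ))) :
    ∃ q : ↥(Spec T), Spec.map ψ q ⤳ p :=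
  exists_specializes_of_mem_closure_range_comap ψ.hom p hp

/-- For a morphism of affine schemes, a point in the closure of the image is a specialization of a
point of the image. -/
theorem exists_specializes_of_mem_closure_range_of_affine {A B : Scheme.{u}} [IsAffine A]
    [IsAffine B] (φ : A ⟶ B) (v : B) (hv : v ∈ closure (Set.range φ)) :
    ∃ s : A, φ s ⤳ v := by
  obtain ⟨ψ, hψ⟩ := Spec.map_surjective (A.isoSpec.inv ≫ φ ≫ B.isoSpec.hom)
  have hcomp : A.isoSpec.hom ≫ Spec.map ψ = φ ≫ B.isoSpec.hom := by rw [hψ]; simp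
  have hv' : B.isoSpec.hom v ∈ closure (Set.range (Spec.map ψ)) := by
    have h1 : B.isoSpec.hom v ∈ B.isoSpec.hom '' closure (Set.range φ) := ⟨v, hv, rfl⟩
    have h2 := image_closure_subset_closure_image (f := B.isoSpec.hom) (s := Set.range φ)
      B.isoSpec.hom.continuous h1
    refine closure_mono ?_ h2
    rintro _ ⟨_, ⟨a, rfl⟩, rfl⟩
    refine ⟨A.isoSpec.hom a, ?_⟩
    rw [← Scheme.Hom.comp_apply, hcomp, Scheme.Hom.comp_apply]
  obtain ⟨q, hq⟩ := exists_specializes_of_mem_closure_range_specMap ψ (B.isoSpec.hom v) hv'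
  refine ⟨A.isoSpec.inv q, ?_⟩
  have h3 : B.isoSpec.hom (φ (A.isoSpec.inv q)) = Spec.map ψ q := by
    rw [← Scheme.Hom.comp_apply, ← Scheme.Hom.comp_apply, ← hcomp, ← Category.assoc,
      Iso.inv_hom_id, Category.id_comp]
  have h4 : B.isoSpec.hom (φ (A.isoSpec.inv q)) ⤳ B.isoSpec.hom v := by
    rw [h3]; exact hq
  have h5 := h4.map (B.isoSpec.inv.continuous)
  have e : ∀ b : B, B.isoSpec.inv (B.isoSpec.hom b) = b := fun b => by
    rw [← Scheme.Hom.comp_apply, Iso.hom_inv_id]; rfl
  rw [e, e] at h5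
  exact h5

end Groth.Agent.R2.H59.ValClosure
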