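import Groth.Agent.R2.H5DQCohAff1
import Groth.Agent.Lib.Helper21DCoprod
import Groth.Agent.Lib.Helper23QCohAbelian
import Groth.Prelude.Def_CxOX

/-!
# Coproducts in `D_QCoh` (helper5, project dqcoh)

* `homologySigmaKIso` : under AB4, `H^n` of a termwise coproduct of complexes is the colimit of the
  functor `j ↦ H^n (K j)` (presented as `(bigK K).homology n`).
* `isQCohD_coproduct` : a small coproduct in `D(O_X)` of objects of `D_QCoh` is in `D_QCoh`.
-/

set_option autoImplicit false
set_option linter.style.haveILetI false
universe w v u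
open CategoryTheory CategoryTheory.Limits AlgebraicGeometry
attribute [local instance] HasDerivedCategory.standard

namespace Groth.Agent.R2.H5.CoprodQCoh

open Groth.Agent.Lib.Helper21.DCoprod

section abstract

variable {A : Type u} [Category.{v} A] [Abelian A] {ι : Type*} (c : ComplexShape ι) {J : Type w}

/-- evaluating the big complex at `j` gives back `K j`. -/
noncomputable def evBigKIso (K : J → HomologicalComplex A c) (j : Discrete J) :
    (((evaluation (Discrete J) A).obj j).mapHomologicalComplex c).obj (bigK c K) ≅ K j.as :=
  HomologicalComplex.Hom.isoOfComponents (fun i => Iso.refl _)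
    (by intros; dsimp; erw [Category.id_comp, Category.comp_id]; rfl)

/-- the homology of the big complex, evaluated at `j`. -/
noncomputable def homologyBigKObjIso (K : J → HomologicalComplex A c) (n : ι) (j : Discrete J) :
    ((bigK c K).homology n).obj j ≅ (K j.as).homology n :=
  ((((bigK c K).sc n).mapHomologyIso ((evaluation (Discrete J) A).obj j)).symm :) ≪≫
    (HomologicalComplex.homologyFunctor A c n).mapIso (evBigKIso c K j)

variable [HasColimitsOfShape (Discrete J) A] [HasExactColimitsOfShape (Discrete J) A]

/-- the homology of the termwise coproduct. -/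
noncomputable def homologySigmaKIso (K : J → HomologicalComplex A c) (n : ι) :
    (sigmaK c K).homology n ≅ colimit ((bigK c K).homology n) :=
  (((bigK c K).sc n).mapHomologyIso (colim : (Discrete J ⥤ A) ⥤ A) :)

end abstract

section scheme

open Groth.Agent.R2.H5.DQCohAff

variable (X : Scheme.{u})

/-- `X.Modules` is AB4. -/
theorem hasExactColimitsOfShape_discrete_modules (ι : Type u) :
    HasExactColimitsOfShape (Discrete ι) X.Modules := by
  haveI := isGrothendieckAbelian_modules X
  haveI : HasFiniteBiproducts X.Modules := Abelian.hasFiniteBiproducts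
  haveI : AB4OfSize.{u} X.Modules := AB4.of_AB5 _
  infer_instance

/-- A small coproduct in `D(O_X)` of objects of `D_QCoh` is in `D_QCoh`. -/
theorem isQCohD_coproduct {ι : Type u} (K : ι → DCoh.D X) (hK : ∀ i, DCoh.IsQCohD (K i))
    [HasCoproduct K] : DCoh.IsQCohD (∐ K) := by
  haveI := hasExactColimitsOfShape_discrete_modules X ι
  let E : ι → CochainComplex X.Modules ℤ := fun i => DerivedCategory.Q.objPreimage (K i)
  let eE : ∀ i, DerivedCategory.Q.obj (E i) ≅ K i := fun i => DerivedCategory.Q.objObjPreimageIso (K i)
  have hc := isColimitQMapCofan (fun j => (cofanK (ComplexShape.up ℤ) E).inj j)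
    (isColimitCofanK (ComplexShape.up ℤ) E)
  let e : DerivedCategory.Q.obj (sigmaK (ComplexShape.up ℤ) E) ≅ ∐ K :=
    IsColimit.coconePointsIsoOfNatIso hc (coproductIsCoproduct K)
      (Discrete.natIso (fun j => eE j.as))
  intro n
  have h1 : ∀ j : Discrete ι,
      (((bigK (ComplexShape.up ℤ) E).homology n).obj j).IsQuasicoherent := by
    intro j
    let e1 : ((bigK (ComplexShape.up ℤ) E).homology n).obj j ≅ DCoh.HD (K j.as) n :=
      homologyBigKObjIso (ComplexShape.up ℤ) E n j ≪≫
        ((DerivedCategory.homologyFunctorFactors X.Modules n).app (E j.as)).symm ≪≫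
        (DerivedCategory.homologyFunctor X.Modules n).mapIso (eE j.as)
    exact (SheafOfModules.isQuasicoherent X.ringCatSheaf).prop_of_iso e1.symm (hK j.as n)
  have h2 := Groth.Agent.Lib.Helper23.QCohLocal.isQuasicoherent_colimit
    ((bigK (ComplexShape.up ℤ) E).homology n) h1
  let e2 : colimit ((bigK (ComplexShape.up ℤ) E).homology n) ≅ DCoh.HD (∐ K) n :=
    (homologySigmaKIso (ComplexShape.up ℤ) E n).symm ≪≫
      ((DerivedCategory.homologyFunctorFactors X.Modules n).app _).symm ≪≫
      (DerivedCategory.homologyFunctor X.Modules n).mapIso e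
  exact (SheafOfModules.isQuasicoherent X.ringCatSheaf).prop_of_iso e2 h2

end scheme

end Groth.Agent.R2.H5.CoprodQCoh
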