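import Groth.Prelude.Def_DCoh2
import Groth.Agent.Lib.Helper17KInjD4
import Groth.Agent.Lib.Helper17KInj12
import Groth.Agent.S0484
import Groth.Agent.S1032

/-!
# The derived adjunction `tildeD ⊣ RΓ` on an affine scheme (helper5, project dqcoh, stage A.1)

* `isGrothendieckAbelian_modules X` : `X.Modules` is Grothendieck abelian.
* `hasRightDerivedFunctor_of_additive G` : every additive functor out of `X.Modules` has an unbounded total
  right derived functor (`K(G) ⋙ Qh`), via K-injective resolutions.
* `RΓd R : D(O_{Spec R}) ⥤ D(R)` : total right derived functor of `Γ(Spec R, -)` with values in `R`-modules.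
* `adjD R : tildeD R ⊣ RΓd R`.
-/

set_option autoImplicit false
universe u
open CategoryTheory CategoryTheory.Limits AlgebraicGeometry
attribute [local instance] HasDerivedCategory.standard

namespace Groth.Agent.R2.H5.DQCohAff

/-- `X.Modules` is a Grothendieck abelian category. -/
theorem isGrothendieckAbelian_modules (X : Scheme.{u}) : IsGrothendieckAbelian.{u} X.Modules :=
  Groth.Agent.S0484.result (Opens.grothendieckTopology X) X.ringCatSheaf

/-- K-injective resolutions exist in `X.Modules`. -/
theorem exists_kInjective_resolution_modules (X : Scheme.{u}) (K : CochainComplex X.Modules ℤ) :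
    ∃ (I : CochainComplex X.Modules ℤ) (f : K ⟶ I), I.IsKInjective ∧ QuasiIso f := by
  haveI := isGrothendieckAbelian_modules X
  obtain ⟨I, f, h1, h2, -, -⟩ :=
    Groth.Agent.Lib.Helper17.KInj.exists_kInjective_resolution.{u} X.Modules K
  exact ⟨I, f, h1, h2⟩

/-- Existence of unbounded right derived functors of additive functors out of `X.Modules`. -/
theorem hasRightDerivedFunctor_of_additive (X : Scheme.{u}) {A : Type (u + 1)} [Category.{u} A] [Abelian A]
    (G : X.Modules ⥤ A) [G.Additive] :
    (G.mapHomotopyCategory (ComplexShape.up ℤ) ⋙ DerivedCategory.Qh).HasRightDerivedFunctor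
      (HomotopyCategory.quasiIso X.Modules (ComplexShape.up ℤ)) :=
  (Groth.Agent.S1032.result (exists_kInjective_resolution_modules X)
    (G.mapHomotopyCategory (ComplexShape.up ℤ) ⋙ DerivedCategory.Qh)).1

variable (R : CommRingCat.{u})

/-- global sections on `Spec R` with values in `R`-modules. -/
noncomputable abbrev ΓR : (Spec (CommRingCat.of R)).Modules ⥤ ModuleCat.{u} R := moduleSpecΓFunctor

instance : (ΓR R).Additive := (tilde.adjunction (R := R)).right_adjoint_additive

instance hasRΓd : ((ΓR R).mapHomotopyCategory (ComplexShape.up ℤ) ⋙ DerivedCategory.Qh).HasRightDerivedFunctor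
    (HomotopyCategory.quasiIso (Spec (CommRingCat.of R)).Modules (ComplexShape.up ℤ)) :=
  hasRightDerivedFunctor_of_additive _ (ΓR R)

/-- `RΓ(Spec R, -) : D(O_{Spec R}) ⥤ D(R)`. -/
noncomputable def RΓd : DCoh.D (Spec (CommRingCat.of R)) ⥤ DerivedCategory (ModuleCat.{u} R) :=
  ((ΓR R).mapHomotopyCategory (ComplexShape.up ℤ) ⋙ DerivedCategory.Qh).totalRightDerived DerivedCategory.Qh
    (HomotopyCategory.quasiIso (Spec (CommRingCat.of R)).Modules (ComplexShape.up ℤ))

/-- the unit `K(Γ) ⋙ Qh ⟶ Qh ⋙ RΓ`. -/
noncomputable def βK : (ΓR R).mapHomotopyCategory (ComplexShape.up ℤ) ⋙ DerivedCategory.Qh ⟶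
    DerivedCategory.Qh ⋙ RΓd R :=
  ((ΓR R).mapHomotopyCategory (ComplexShape.up ℤ) ⋙ DerivedCategory.Qh).totalRightDerivedUnit DerivedCategory.Qh
    (HomotopyCategory.quasiIso (Spec (CommRingCat.of R)).Modules (ComplexShape.up ℤ))

instance : (RΓd R).IsRightDerivedFunctor (βK R)
    (HomotopyCategory.quasiIso (Spec (CommRingCat.of R)).Modules (ComplexShape.up ℤ)) := by
  unfold RΓd βK
  infer_instance

/-- the unit on complexes `Γ• ⋙ Q ⟶ Q ⋙ RΓ`. -/
noncomputable def β : (ΓR R).mapHomologicalComplex (ComplexShape.up ℤ) ⋙ DerivedCategory.Q ⟶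
    DerivedCategory.Q ⋙ RΓd R :=
  Groth.Agent.Lib.Helper17.KInj.unitOfK (ΓR R) (RΓd R) (βK R)

instance : (RΓd R).IsRightDerivedFunctor (β R)
    (HomologicalComplex.quasiIso (Spec (CommRingCat.of R)).Modules (ComplexShape.up ℤ)) := by
  unfold β
  infer_instance

variable [PreservesFiniteLimits (tilde.functor R)]

/-- the derived adjunction `tildeD ⊣ RΓ`. -/
noncomputable def adjD : DCoh.tildeD R ⊣ RΓd R :=
  haveI := isGrothendieckAbelian_modules (Spec (CommRingCat.of R))
  Groth.Agent.Lib.Helper17.KInj.derivedAdjunction.{u} (tilde.functor R) (ΓR R) tilde.adjunction (RΓd R) (β R)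

end Groth.Agent.R2.H5.DQCohAff
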