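import Groth.Agent.R2.H5DQCohAff1
import Groth.Agent.S7881
import Groth.Agent.Lib.Helper17DBrown3

/-!
# Unit of a derived adjunction on a module in degree `0` (helper5, project dqcoh, stage A.2)

Abstract criterion `isIso_unit_single`: for an exact functor `F : A ⥤ B` whose derived functor has a right adjoint
`RG`, and a projective separator `P` of `A`, the unit `M[0] ⟶ RG (F M[0])` is an isomorphism as soon as
`F` is bijective on `Hom(P, M)` and the groups `Hom(P[0], M[0][n])`, `Hom(F P[0], F M[0][n])` vanish for `n ≠ 0`.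
-/

set_option autoImplicit false
open CategoryTheory CategoryTheory.Limits

namespace Groth.Agent.R2.H5.DQCohAff

open DerivedCategory

lemma bijective_conj {C : Type*} [Category C] {T X X' Y Y' : C} (a : X' ≅ X) (b : Y' ≅ Y)
    (η : X ⟶ Y) (η' : X' ⟶ Y') (h : η' = a.hom ≫ η ≫ b.inv)
    (key : Function.Bijective (fun g : T ⟶ X => g ≫ η)) :
    Function.Bijective (fun g : T ⟶ X' => g ≫ η') := by
  subst h
  constructor
  · intro g₁ g₂ h
    dsimp only at h
    have h1 : (g₁ ≫ a.hom) ≫ η = (g₂ ≫ a.hom) ≫ η := by
      have h' := h =≫ b.hom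
      simpa only [Category.assoc, Iso.inv_hom_id, Category.comp_id] using h'
    exact (cancel_mono a.hom).1 (key.1 h1)
  · intro y
    obtain ⟨g, hg⟩ := key.2 (y ≫ b.hom)
    refine ⟨g ≫ a.inv, ?_⟩
    dsimp only at hg ⊢
    rw [Category.assoc, Iso.inv_hom_id_assoc, reassoc_of% hg, Iso.hom_inv_id, Category.comp_id]

section Abstract

universe w₁ w₂ v₁ v₂ u₁ u₂

variable {A : Type u₁} [Category.{v₁} A] [Abelian A] [HasDerivedCategory.{w₁} A]
  {B : Type u₂} [Category.{v₂} B] [Abelian B] [HasDerivedCategory.{w₂} B]

/-- `Q(P[-m]) ≅ Q(P)[-m]` -/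
noncomputable def QSingleIso' (P : A) (m : ℤ) :
    (Q : _ ⥤ DerivedCategory A).obj ((HomologicalComplex.single A (ComplexShape.up ℤ) m).obj P) ≅
      (shiftFunctor (DerivedCategory A) (-m)).obj ((singleFunctor A 0).obj P) :=
  (singleFunctorIsoCompQ A m).symm.app P ≪≫
    ((DerivedCategory.singleFunctors A).shiftIso (-m) m 0 (by omega)).symm.app P

/-- a projective separator generates the derived category. -/
lemma generates_single {P : A} [Projective P] (hP : IsSeparator P) :
    CohDer.Generates (fun _ : PUnit.{w₁ + 1} => (singleFunctor A 0).obj P) := by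
  intro K hK
  obtain ⟨K', ⟨eK⟩⟩ : ∃ K' : CochainComplex A ℤ, Nonempty (Q.obj K' ≅ K) :=
    ⟨_, ⟨Q.objObjPreimageIso K⟩⟩
  refine IsZero.of_iso
    (Groth.Agent.Lib.Helper17.DBrown.isZero_Q_obj_of_forall_single hP K' (fun m g => ?_)) eK.symm
  have h0 := hK PUnit.unit m
    ((shiftFunctorCompIsoId (DerivedCategory A) (-m) m (by omega)).inv.app _ ≫
      (shiftFunctor (DerivedCategory A) m).map ((QSingleIso' P m).inv ≫ g ≫ eK.hom))
  have h1 : (shiftFunctor (DerivedCategory A) m).map ((QSingleIso' P m).inv ≫ g ≫ eK.hom) = 0 :=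
    (cancel_epi ((shiftFunctorCompIsoId (DerivedCategory A) (-m) m (by omega)).inv.app
      ((singleFunctor A 0).obj P))).1 (h0.trans comp_zero.symm)
  have h3 : (QSingleIso' P m).inv ≫ g ≫ eK.hom = 0 := by
    apply (shiftFunctor (DerivedCategory A) m).map_injective
    rw [h1, Functor.map_zero]
  have h4 : g ≫ eK.hom = 0 := by
    rw [← cancel_epi (QSingleIso' P m).inv, h3, comp_zero]
  rw [← cancel_mono eK.hom, h4, zero_comp]

variable (F : A ⥤ B) [F.Additive] [PreservesFiniteLimits F] [PreservesFiniteColimits F]
  (RG : DerivedCategory B ⥤ DerivedCategory A) (adj : F.mapDerivedCategory ⊣ RG)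

include adj in
theorem isIso_unit_single {P : A} [Projective P] (hP : IsSeparator P) (M : A)
    (h0 : Function.Bijective (fun φ : P ⟶ M => F.map φ))
    (hA : ∀ n : ℤ, n ≠ 0 → Subsingleton ((singleFunctor A 0).obj P ⟶
      (shiftFunctor (DerivedCategory A) n).obj ((singleFunctor A 0).obj M)))
    (hB : ∀ n : ℤ, n ≠ 0 → Subsingleton ((singleFunctor B 0).obj (F.obj P) ⟶
      (shiftFunctor (DerivedCategory B) n).obj ((singleFunctor B 0).obj (F.obj M)))) :
    IsIso (adj.unit.app ((singleFunctor A 0).obj M)) := by
  letI : RG.CommShift ℤ := adj.rightAdjointCommShift ℤ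
  rw [Groth.Agent.S7881.result _ (generates_single hP)]
  intro _ n
  by_cases hn : n = 0
  · subst hn
    -- reduce to bijectivity of `· ≫ η`
    have key : Function.Bijective (fun g : (singleFunctor A 0).obj P ⟶ (singleFunctor A 0).obj M =>
        g ≫ adj.unit.app ((singleFunctor A 0).obj M)) := by
      have hcomp : (fun g : (singleFunctor A 0).obj P ⟶ (singleFunctor A 0).obj M =>
          g ≫ adj.unit.app ((singleFunctor A 0).obj M)) =
          (adj.homEquiv _ _) ∘ (fun g => F.mapDerivedCategory.map g) := by
        funext g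
        simp only [Function.comp_apply, Adjunction.homEquiv_unit]
        exact (adj.unit.naturality g)
      rw [hcomp]
      refine (adj.homEquiv _ _).bijective.comp ?_
      -- `F.mapDerivedCategory` is bijective on `Hom(P[0], M[0])`
      have hS : Function.Bijective (fun φ : P ⟶ M => (singleFunctor A 0).map φ) :=
        ⟨fun _ _ h => (singleFunctor A 0).map_injective h, fun g => (singleFunctor A 0).map_surjective g⟩
      have hS' : Function.Bijective (fun φ : F.obj P ⟶ F.obj M => (singleFunctor B 0).map φ) :=
        ⟨fun _ _ h => (singleFunctor B 0).map_injective h, fun g => (singleFunctor B 0).map_surjective g⟩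
      let ν := F.mapDerivedCategorySingleFunctor 0
      have hconj : Function.Bijective (fun g : (singleFunctor B 0).obj (F.obj P) ⟶
          (singleFunctor B 0).obj (F.obj M) => ν.hom.app P ≫ g ≫ ν.inv.app M) :=
        ((ν.app P).symm.homCongr ((ν.app M).symm)).bijective
      have hall : (fun g => F.mapDerivedCategory.map g) ∘
          (fun φ : P ⟶ M => (singleFunctor A 0).map φ) =
          (fun g : (singleFunctor B 0).obj (F.obj P) ⟶ (singleFunctor B 0).obj (F.obj M) =>
            ν.hom.app P ≫ g ≫ ν.inv.app M) ∘ (fun φ => (singleFunctor B 0).map φ) ∘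
            (fun φ : P ⟶ M => F.map φ) := by
        funext φ
        simp only [Function.comp_apply]
        have h := ν.hom.naturality φ
        simp only [Functor.comp_map] at h
        have h' : ν.hom.app P ≫ (singleFunctor B 0).map (F.map φ) ≫ ν.inv.app M =
            (F.mapDerivedCategory.map ((singleFunctor A 0).map φ) ≫ ν.hom.app M) ≫ ν.inv.app M := by
          rw [h, Category.assoc]
        rw [h', Category.assoc, Iso.hom_inv_id_app]
        exact (Category.comp_id _).symm
      exact (Function.Bijective.of_comp_iff _ hS).1 (hall ▸ hconj.comp (hS'.comp h0))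
    let sfz := shiftFunctorZero (DerivedCategory A) ℤ
    exact bijective_conj (sfz.app ((singleFunctor A 0).obj M))
      (sfz.app (RG.obj (F.mapDerivedCategory.obj ((singleFunctor A 0).obj M))))
      (adj.unit.app ((singleFunctor A 0).obj M)) _
      (NatIso.naturality_2 sfz (adj.unit.app ((singleFunctor A 0).obj M))).symm key
  · haveI := hA n hn
    haveI := hB n hn
    have : Subsingleton ((singleFunctor A 0).obj P ⟶ (shiftFunctor (DerivedCategory A) n).obj
        (RG.obj (F.mapDerivedCategory.obj ((singleFunctor A 0).obj M)))) := by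
      let Z := F.mapDerivedCategory.obj ((singleFunctor A 0).obj M)
      let ν := F.mapDerivedCategorySingleFunctor 0
      let e1 : ((singleFunctor A 0).obj P ⟶ (shiftFunctor (DerivedCategory A) n).obj (RG.obj Z)) ≃
          ((singleFunctor A 0).obj P ⟶ RG.obj ((shiftFunctor (DerivedCategory B) n).obj Z)) :=
        (Iso.refl _).homCongr ((RG.commShiftIso n).symm.app Z)
      let e2 := (adj.homEquiv ((singleFunctor A 0).obj P)
        ((shiftFunctor (DerivedCategory B) n).obj Z)).symm
      let e3 : (F.mapDerivedCategory.obj ((singleFunctor A 0).obj P) ⟶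
          (shiftFunctor (DerivedCategory B) n).obj Z) ≃
          ((singleFunctor B 0).obj (F.obj P) ⟶
            (shiftFunctor (DerivedCategory B) n).obj ((singleFunctor B 0).obj (F.obj M))) :=
        (ν.app P).homCongr ((shiftFunctor (DerivedCategory B) n).mapIso (ν.app M))
      exact (e1.trans (e2.trans e3)).subsingleton
    have hsrc : Subsingleton ((singleFunctor A 0).obj P ⟶
        (shiftFunctor (DerivedCategory A) n).obj ((singleFunctor A 0).obj M)) := hA n hn
    exact ⟨fun x y _ => hsrc.elim _ _, fun y => ⟨0, this.elim _ _⟩⟩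

end Abstract

end Groth.Agent.R2.H5.DQCohAff
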