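import Groth.Agent.R2.H5DQCohAff2
import Groth.Agent.Lib.Helper21ModCoh
import Groth.Agent.Lib.Helper23AffVanish7
import Mathlib.Algebra.Category.ModuleCat.Projective

/-!
# `M ≅ RΓ(Spec R, M~)` in `D(R)` (helper5, project dqcoh, stage A.3)

`isIso_unit_tilde`: the unit of `tildeD ⊣ RΓ` is an isomorphism on modules placed in degree `0`
(affine vanishing of the cohomology of quasi-coherent modules).
-/

set_option autoImplicit false
universe u
open CategoryTheory CategoryTheory.Limits AlgebraicGeometry
attribute [local instance] HasDerivedCategory.standard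

namespace Groth.Agent.R2.H5.DQCohAff

open DerivedCategory Abelian

section General

universe w w' v' u'

variable {C : Type u'} [Category.{v'} C] [Abelian C] [HasDerivedCategory.{w'} C]

lemma subsingleton_single_shift_neg (X Y : C) (n : ℤ) (hn : n < 0) :
    Subsingleton ((singleFunctor C 0).obj X ⟶
      (shiftFunctor (DerivedCategory C) n).obj ((singleFunctor C 0).obj Y)) := by
  haveI : DerivedCategory.TStructure.t.IsGE
      ((shiftFunctor (DerivedCategory C) n).obj ((singleFunctor C 0).obj Y)) (-n) :=
    DerivedCategory.TStructure.t.isGE_shift _ 0 n (-n) (by omega)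
  have h0 : ∀ f : (singleFunctor C 0).obj X ⟶
      (shiftFunctor (DerivedCategory C) n).obj ((singleFunctor C 0).obj Y), f = 0 :=
    fun f => DerivedCategory.TStructure.t.zero f 0 (-n) (by omega)
  exact ⟨fun f g => (h0 f).trans (h0 g).symm⟩

lemma subsingleton_single_shift [HasExt.{w} C] (X Y : C)
    (hExt : ∀ k : ℕ, Subsingleton (Ext.{w} X Y (k + 1))) (n : ℤ) (hn : n ≠ 0) :
    Subsingleton ((singleFunctor C 0).obj X ⟶
      (shiftFunctor (DerivedCategory C) n).obj ((singleFunctor C 0).obj Y)) := by
  rcases lt_or_gt_of_ne hn with h | h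
  · exact subsingleton_single_shift_neg X Y n h
  · obtain ⟨k, rfl⟩ : ∃ k : ℕ, n = ((k + 1 : ℕ) : ℤ) := ⟨(n - 1).toNat, by omega⟩
    haveI := hExt k
    exact (Ext.homEquiv (X := X) (Y := Y) (n := k + 1)).symm.subsingleton

end General

lemma isSeparator_self (R : Type u) [Ring R] : IsSeparator (ModuleCat.of R R) := by
  rw [isSeparator_def]
  intro X Y f g h
  ext x
  have := h (ModuleCat.ofHom (LinearMap.toSpanSingleton R X x))
  have h2 := congrArg (fun φ => φ.hom (1 : R)) this
  simpa using h2

variable (R : CommRingCat.{u}) [PreservesFiniteLimits (tilde.functor R)]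

/-- `M ⟶ RΓ(Spec R, M~)` is an isomorphism in `D(R)`. -/
theorem isIso_unit_tilde (M : ModuleCat.{u} R) :
    IsIso ((adjD R).unit.app ((singleFunctor (ModuleCat.{u} R) 0).obj M)) := by
  haveI : Projective (ModuleCat.of R R) := ModuleCat.projective_of_categoryTheory_projective _
  haveI := isGrothendieckAbelian_modules (Spec (CommRingCat.of R))
  haveI : HasExt.{u + 1} (ModuleCat.{u} R) := HasExt.standard _
  haveI : HasExt.{u} (SheafOfModules.{u} (Spec (CommRingCat.of R)).ringCatSheaf) :=
    IsGrothendieckAbelian.hasExt.{u} (Spec (CommRingCat.of R)).Modules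
  refine isIso_unit_single (tilde.functor R) (RΓd R) (adjD R) (P := ModuleCat.of R R)
    (isSeparator_self R) M ?_ ?_ ?_
  · exact ⟨(tilde.functor R).map_injective, (tilde.functor R).map_surjective⟩
  · intro n hn
    exact subsingleton_single_shift.{u + 1} _ _ (fun k => Ext.subsingleton_of_projective _ _ k) n hn
  · intro n hn
    refine subsingleton_single_shift.{u} _ _ (fun k => ?_) n hn
    obtain ⟨e⟩ := Groth.Agent.Lib.Helper21.FreeAb.nonempty_ext_unit_iso
      (R := (Spec (CommRingCat.of R)).ringCatSheaf) ((tilde.functor R).obj M) (k + 1)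
    haveI : Subsingleton (Coh.HH (Spec (CommRingCat.of R)) ((tilde.functor R).obj M) (k + 1)) :=
      Groth.Agent.Lib.Helper23.AffVanish.subsingleton_HH _ _ (Nat.succ_pos k)
    exact AddCommGrpCat.subsingleton_of_isZero
      ((AddCommGrpCat.isZero_of_subsingleton _).of_iso e)

end Groth.Agent.R2.H5.DQCohAff
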