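import Mathlib
import Groth.Agent.Lib.Helper17K0b

/-!
# Transfer of `K₀` of a class of objects along a fully faithful triangulated functor
(helper5, project dqcoh)

`exists_k0tr_equiv F P P'` : if `F : D ⥤ D'` is a fully faithful triangulated functor, `P`, `P'` are classes
of objects closed under isomorphisms and containing zero, `F` sends `P` to `P'` and every object of `P'` is
isomorphic to the image of an object of `P`, then `K0tr P ≃+ K0tr P'` compatibly with classes.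
-/

set_option autoImplicit false
universe v v' u u'
open CategoryTheory CategoryTheory.Limits ZeroObject CategoryTheory.Pretriangulated

namespace Groth.Agent.R2.H5.K0Transfer

open KZero Groth.Agent.Lib.Helper17.K0b

variable {D : Type u} [Category.{v} D] [Preadditive D] [HasZeroObject D] [HasShift D ℤ]
  [∀ n : ℤ, (shiftFunctor D n).Additive] [Pretriangulated D]
  {D' : Type u'} [Category.{v'} D'] [Preadditive D'] [HasZeroObject D'] [HasShift D' ℤ]
  [∀ n : ℤ, (shiftFunctor D' n).Additive] [Pretriangulated D']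
  (F : D ⥤ D') [F.CommShift ℤ] [F.IsTriangulated] [F.Full] [F.Faithful]
  (P : ObjectProperty D) (P' : ObjectProperty D')
  [P.IsClosedUnderIsomorphisms] [P.ContainsZero] [P'.IsClosedUnderIsomorphisms] [P'.ContainsZero]

/-- the forward map on free abelian groups. -/
noncomputable def fwd₀ : FreeAbelianGroup (Subtype P) →+ K0tr P' :=
  FreeAbelianGroup.lift (fun K => clTr P' (F.obj K.1))

lemma relTr_le_ker_fwd₀ (h1 : ∀ K, P K → P' (F.obj K)) : relTr P ≤ (fwd₀ F P P').ker := by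
  refine (AddSubgroup.closure_le _).2 ?_
  rintro x ⟨T, h₁, h₂, h₃, hT, rfl⟩
  change fwd₀ F P P' _ = 0
  simp only [map_sub, fwd₀, FreeAbelianGroup.lift_apply_of]
  have this : clTr P' (F.obj T.obj₂) = clTr P' (F.obj T.obj₁) + clTr P' (F.obj T.obj₃) :=
    clTr_distTriang P' (F.mapTriangle.obj T) (F.map_distinguished T hT) (h1 _ h₁) (h1 _ h₂)
      (h1 _ h₃)
  rw [this]
  abel

/-- the forward map. -/
noncomputable def fwd (h1 : ∀ K, P K → P' (F.obj K)) : K0tr P →+ K0tr P' :=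
  QuotientAddGroup.lift (relTr P) (fwd₀ F P P') (relTr_le_ker_fwd₀ F P P' h1)

lemma fwd_clTr (h1 : ∀ K, P K → P' (F.obj K)) (K : D) (hK : P K) :
    fwd F P P' h1 (clTr P K) = clTr P' (F.obj K) := by
  rw [clTr_of_prop P hK]
  change fwd₀ F P P' _ = _
  simp [fwd₀]

section

variable (h2 : ∀ K', P' K' → ∃ K, P K ∧ Nonempty (F.obj K ≅ K'))

/-- a chosen preimage. -/
noncomputable def pre (K' : Subtype P') : D := (h2 K'.1 K'.2).choose

lemma pre_prop (K' : Subtype P') : P (pre F P P' h2 K') := (h2 K'.1 K'.2).choose_spec.1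

/-- the comparison iso. -/
noncomputable def preIso (K' : Subtype P') : F.obj (pre F P P' h2 K') ≅ K'.1 :=
  (h2 K'.1 K'.2).choose_spec.2.some

/-- the backward map on free abelian groups. -/
noncomputable def bwd₀ : FreeAbelianGroup (Subtype P') →+ K0tr P :=
  FreeAbelianGroup.lift (fun K' => clTr P (pre F P P' h2 K'))

lemma relTr_le_ker_bwd₀ : relTr P' ≤ (bwd₀ F P P' h2).ker := by
  refine (AddSubgroup.closure_le _).2 ?_
  rintro x ⟨T, h₁, h₂, h₃, hT, rfl⟩
  change bwd₀ F P P' h2 _ = 0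
  simp only [map_sub, bwd₀, FreeAbelianGroup.lift_apply_of]
  set G1 := pre F P P' h2 ⟨T.obj₁, h₁⟩ with hG1
  set G2 := pre F P P' h2 ⟨T.obj₂, h₂⟩ with hG2
  set G3 := pre F P P' h2 ⟨T.obj₃, h₃⟩ with hG3
  have p1 : P G1 := pre_prop F P P' h2 _
  have p2 : P G2 := pre_prop F P P' h2 _
  have p3 : P G3 := pre_prop F P P' h2 _
  let e1 : F.obj G1 ≅ T.obj₁ := preIso F P P' h2 ⟨T.obj₁, h₁⟩
  let e2 : F.obj G2 ≅ T.obj₂ := preIso F P P' h2 ⟨T.obj₂, h₂⟩
  let e3 : F.obj G3 ≅ T.obj₃ := preIso F P P' h2 ⟨T.obj₃, h₃⟩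
  let f : G1 ⟶ G2 := F.preimage (e1.hom ≫ T.mor₁ ≫ e2.inv)
  obtain ⟨C, g, h, hC⟩ := distinguished_cocone_triangle f
  have w : F.map f ≫ e2.hom = e1.hom ≫ T.mor₁ := by
    simp [f]
  let ι := isoTriangleOfIso₁₂ (F.mapTriangle.obj (Triangle.mk f g h)) T
    (F.map_distinguished _ hC) hT e1 e2 w
  let e : F.obj C ≅ F.obj G3 := Triangle.π₃.mapIso ι ≪≫ e3.symm
  have pC : P C := P.prop_of_iso (F.preimageIso e).symm p3
  have hrel : clTr P G2 = clTr P G1 + clTr P C := clTr_distTriang P _ hC p1 p2 pC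
  rw [hrel, clTr_of_iso P (F.preimageIso e) pC]
  abel

/-- the backward map. -/
noncomputable def bwd : K0tr P' →+ K0tr P :=
  QuotientAddGroup.lift (relTr P') (bwd₀ F P P' h2) (relTr_le_ker_bwd₀ F P P' h2)

lemma bwd_clTr (K' : D') (hK' : P' K') :
    bwd F P P' h2 (clTr P' K') = clTr P (pre F P P' h2 ⟨K', hK'⟩) := by
  rw [clTr_of_prop P' hK']
  change bwd₀ F P P' h2 _ = _
  simp [bwd₀]

end

/-- **Transfer of `K₀`.** -/
theorem exists_k0tr_equiv (h1 : ∀ K, P K → P' (F.obj K))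
    (h2 : ∀ K', P' K' → ∃ K, P K ∧ Nonempty (F.obj K ≅ K')) :
    ∃ φ : K0tr P ≃+ K0tr P', ∀ K, P K → φ (clTr P K) = clTr P' (F.obj K) := by
  have h12 : (bwd F P P' h2).comp (fwd F P P' h1) = AddMonoidHom.id _ := by
    apply QuotientAddGroup.addMonoidHom_ext
    apply FreeAbelianGroup.lift_ext
    rintro ⟨K, hK⟩
    change bwd F P P' h2 (fwd F P P' h1 (QuotientAddGroup.mk (FreeAbelianGroup.of ⟨K, hK⟩))) =
      QuotientAddGroup.mk (FreeAbelianGroup.of ⟨K, hK⟩)
    rw [← clTr_of_prop P hK, fwd_clTr F P P' h1 K hK, bwd_clTr F P P' h2 _ (h1 K hK)]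
    exact clTr_of_iso P (F.preimageIso (preIso F P P' h2 ⟨F.obj K, h1 K hK⟩))
      (pre_prop F P P' h2 _)
  have h21 : (fwd F P P' h1).comp (bwd F P P' h2) = AddMonoidHom.id _ := by
    apply QuotientAddGroup.addMonoidHom_ext
    apply FreeAbelianGroup.lift_ext
    rintro ⟨K', hK'⟩
    change fwd F P P' h1 (bwd F P P' h2 (QuotientAddGroup.mk (FreeAbelianGroup.of ⟨K', hK'⟩))) =
      QuotientAddGroup.mk (FreeAbelianGroup.of ⟨K', hK'⟩)
    rw [← clTr_of_prop P' hK', bwd_clTr F P P' h2 K' hK',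
      fwd_clTr F P P' h1 _ (pre_prop F P P' h2 _)]
    exact clTr_of_iso P' (preIso F P P' h2 ⟨K', hK'⟩) (h1 _ (pre_prop F P P' h2 _))
  exact ⟨AddMonoidHom.toAddEquiv (fwd F P P' h1) (bwd F P P' h2) h12 h21,
    fun K hK => fwd_clTr F P P' h1 K hK⟩

end Groth.Agent.R2.H5.K0Transfer
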