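import Groth.Agent.R2.H5PerfTilde
import Groth.Agent.R2.H5K0Transfer
import Groth.Agent.S7142
import Groth.Agent.Lib.Helper17K0Perf5
set_option backward.isDefEq.respectTransparency.types false

/-!
# `K₀(A) ≃ K₀(D_perf(Spec A))` (helper5, project dqcoh)

* `isQuasicoherent_homology` : the cohomology of a complex with quasi-coherent terms is quasi-coherent.
* `isQCohD_of_isPerfect` : perfect objects of `D(O_X)` have quasi-coherent cohomology.
* `exists_preimage_of_isPerfect` : a perfect object of `D(O_{Spec A})` is `M~` for a perfect `M`.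
* `k0_equiv` : statement S1029.
-/

set_option autoImplicit false
set_option linter.style.haveILetI false
universe u
open CategoryTheory CategoryTheory.Limits AlgebraicGeometry Opposite ZeroObject
attribute [local instance] HasDerivedCategory.standard

namespace Groth.Agent.R2.H5.K0Spec

open Groth.Agent.Lib.Helper1.Sky Groth.Agent.R2.H5.DQCoh Groth.Agent.R2.H5.DQCohAff
  Groth.Agent.R2.H5.LpullQCoh Groth.Agent.R2.H5.PerfTilde

attribute [local instance] Groth.Agent.Lib.Helper1.Sky.hasLpull

section general

variable {X : Scheme.{u}}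

open Groth.Agent.Lib.Helper23.QCohLocal in
/-- the cohomology of a complex with quasi-coherent terms is quasi-coherent. -/
theorem isQuasicoherent_homology (E : CochainComplex X.Modules ℤ)
    (hE : ∀ i, (E.X i).IsQuasicoherent) (n : ℤ) : (E.homology n).IsQuasicoherent := by
  haveI : ((E.sc n).X₁).IsQuasicoherent := hE _
  haveI : ((E.sc n).X₂).IsQuasicoherent := hE _
  haveI : ((E.sc n).X₃).IsQuasicoherent := hE _
  haveI : (kernel (E.sc n).g).IsQuasicoherent := isQuasicoherent_kernel _
  have h : (cokernel (kernel.lift (E.sc n).g (E.sc n).f (E.sc n).zero)).IsQuasicoherent :=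
    isQuasicoherent_cokernel _
  exact (SheafOfModules.isQuasicoherent X.ringCatSheaf).prop_of_iso
    (E.sc n).homologyIsoCokernelLift.symm h

/-- perfect objects have quasi-coherent cohomology. -/
theorem isQCohD_of_isPerfect (K : DCoh.D X) (h : DCoh.IsPerfect K) : DCoh.IsQCohD K := by
  rw [isPerfect_iff_lpull] at h
  choose V hxV E hE e using h
  intro n
  refine Groth.Agent.Lib.Helper23.FinType.isQuasicoherent_of_open_cover _ V ?_ (fun x => ?_)
  · rw [TopologicalSpace.IsOpenCover, eq_top_iff]
    intro x _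
    exact TopologicalSpace.Opens.mem_iSup.2 ⟨x, hxV x⟩
  · have h1 : ((E x).homology n).IsQuasicoherent :=
      isQuasicoherent_homology (E x) (fun i => isQuasicoherent_of_isFinLocFree _ ((hE x).2 i)) n
    have h2 : qcP _ (DCoh.HD ((DCoh.Lpull (V x).ι).obj K) n) :=
      (qcP _).prop_of_iso (((DerivedCategory.homologyFunctorFactors _ n).app (E x)).symm ≪≫
        (DerivedCategory.homologyFunctor _ n).mapIso (e x).some.symm) h1
    exact (qcP _).prop_of_iso (homologyLpullOpenIso (V x).ι K n) h2

instance isPerfect_isClosedUnderIsomorphisms :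
    ObjectProperty.IsClosedUnderIsomorphisms (fun K : DCoh.D X => DCoh.IsPerfect K) where
  of_iso := fun e h => isPerfect_of_iso e h

end general

section affine

open Groth.Agent.S1055 KZero

/-- `(M[0])~ ≅ M~[0]`. -/
noncomputable def tildeDSingleIso (R : CommRingCat.{u}) [PreservesFiniteLimits (tilde.functor R)]
    (M : ModuleCat.{u} R) :
    (DCoh.tildeD R).obj ((DerivedCategory.singleFunctor (ModuleCat.{u} R) 0).obj M) ≅
      DCoh.inD (Spec (CommRingCat.of R)) (tilde M) :=
  ((tilde.functor R).mapDerivedCategorySingleFunctor 0).app M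

variable (A : Type u) [CommRing A]

/-- a perfect object of `D(O_{Spec A})` is `M~` for a perfect `M`. -/
theorem exists_preimage_of_isPerfect [PreservesFiniteLimits (tilde.functor (CommRingCat.of A))]
    (K : DCoh.D (Spec (CommRingCat.of A))) (h : DCoh.IsPerfect K) :
    ∃ M : Dual.D A, DRing.IsPerfect A M ∧
      Nonempty ((DCoh.tildeD (CommRingCat.of A)).obj M ≅ K) := by
  haveI := (tildeD_equivalence (CommRingCat.of A)).2 K (isQCohD_of_isPerfect K h)
  let e : (DCoh.tildeD (CommRingCat.of A)).obj ((RΓd (CommRingCat.of A)).obj K) ≅ K :=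
    asIso ((adjD (CommRingCat.of A)).counit.app K)
  exact ⟨_, isPerfect_of_isPerfect_tildeD _ (isPerfect_of_iso e.symm h), ⟨e⟩⟩

instance isPerfect_containsZero [PreservesFiniteLimits (tilde.functor (CommRingCat.of A))] :
    ObjectProperty.ContainsZero
      (fun K : DCoh.D (Spec (CommRingCat.of A)) => DCoh.IsPerfect K) where
  exists_zero := ⟨(DCoh.tildeD (CommRingCat.of A)).obj 0,
    (DCoh.tildeD (CommRingCat.of A)).map_isZero (isZero_zero _),
    isPerfect_tildeD_of_isPerfect _
      (Groth.Agent.Lib.Helper17.DCompare.isPerfect_of_isZero (isZero_zero _))⟩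

/-- **S1029.** -/
theorem k0_equiv :
    ∃ φ : K0sub (fun M : ModuleCat.{u} A => Module.Finite A M ∧ Module.Projective A M) ≃+
        K0tr (fun K : DCoh.D (Spec (CommRingCat.of A)) => DCoh.IsPerfect K),
      ∀ (M : ModuleCat.{u} A), Module.Finite A M → Module.Projective A M →
        φ (clSub (fun M : ModuleCat.{u} A => Module.Finite A M ∧ Module.Projective A M) M) =
          clTr (fun K : DCoh.D (Spec (CommRingCat.of A)) => DCoh.IsPerfect K)
            (DCoh.inD (Spec (CommRingCat.of A)) (tilde M)) := by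
  haveI := (Groth.Agent.S9498.aux (CommRingCat.of A)).1
  obtain ⟨φ₁, hφ₁, -⟩ := Groth.Agent.S7142.result A
  haveI := (tildeDFullyFaithful (CommRingCat.of A)).full
  haveI := (tildeDFullyFaithful (CommRingCat.of A)).faithful
  obtain ⟨φ₂, hφ₂⟩ := Groth.Agent.R2.H5.K0Transfer.exists_k0tr_equiv
    (DCoh.tildeD (CommRingCat.of A))
    (fun K : Dual.D A => DRing.IsPerfect A K)
    (fun K : DCoh.D (Spec (CommRingCat.of A)) => DCoh.IsPerfect K)
    (fun K hK => isPerfect_tildeD_of_isPerfect K hK)
    (fun K' hK' => exists_preimage_of_isPerfect A K' hK')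
  refine ⟨φ₁.trans φ₂, fun M hM1 hM2 => ?_⟩
  have h1 := hφ₁ M hM1 hM2
  have hp : DRing.IsPerfect A (Dual.inD A M) :=
    Groth.Agent.Lib.Helper17.K0Perf.perf_single M ⟨hM1, hM2⟩ 0
  change φ₂ (φ₁ _) = _
  rw [show φ₁ (clSub (fun M : ModuleCat.{u} A => Module.Finite A M ∧ Module.Projective A M) M) =
    clTr (fun K : Dual.D A => DRing.IsPerfect A K) (Dual.inD A M) from h1, hφ₂ _ hp]
  exact Groth.Agent.Lib.Helper17.K0b.clTr_of_iso _
    (tildeDSingleIso (CommRingCat.of A) M)
    (isPerfect_tildeD_of_isPerfect _ hp)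

end affine

end Groth.Agent.R2.H5.K0Spec
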