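import Mathlib
import Groth.Prelude.Def_DCoh2
import Groth.Agent.R2.H5RpushBdd
import Groth.Agent.Lib.Helper17Hyp16
import Groth.Agent.Lib.Helper17Hyp18
import Groth.Agent.Lib.Helper17Hyp23
import Groth.Agent.R2.H28ProjPkg3
import Groth.Agent.R2.H28RGammaZ2

/-!
# `Rf_*` on `D_QCoh` for quasi-compact quasi-separated `f` (helper5)

* `isIso_hd_rpush_toTruncTower`: for `E ∈ D_QCoh(X)`, `H^j(Rf_* E) ≅ H^j(Rf_* τ_{≥ -n} E)` for `n ≫ 0`
  (under `Good f` and a uniform bound `Bd f d`);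
* `rpush_isQCohD_of_bd`, `isZero_hd_rpush_of_isLE`;
* `rpush_isQCohD`: `Rf_*` preserves `D_QCoh` for `f` quasi-compact and quasi-separated (= S0998);
* `rpush_uniform_bound` (= S0999).
-/

set_option autoImplicit false
set_option linter.style.haveILetI false
set_option linter.unusedSectionVars false
universe u
open CategoryTheory CategoryTheory.Limits CategoryTheory.Pretriangulated AlgebraicGeometry
  TopologicalSpace

attribute [local instance] HasDerivedCategory.standard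

namespace Groth.Agent.R2.H5.RpushQCohD

open Groth.Agent.R2.H5.RpushTri Groth.Agent.R2.H5.RpushBdd Groth.Agent.R2.H61.DT2
  Groth.Agent.R2.H28.DerBase Groth.Agent.R2.H28.RpushQCoh DerivedCategory
  Groth.Agent.Lib.Helper17.Hyp Groth.Agent.R2.H5.DQCoh Groth.Agent.S14388

section Site

variable (S : Scheme.{u})

/-- the free modules `j_! O_W` on opens `W`, as a functor to `S.Modules`. -/
noncomputable abbrev frSF : S.Opens ⥤ S.Modules := frModR (ModSite.ringSh S.sheaf)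

theorem locFr_frSF : LocFr (Opens.grothendieckTopology S) (frSF S) :=
  locFr_frModR (ModSite.ringSh S.sheaf)

/-- the free module `j_! O_W` on an open `W`. -/
noncomputable abbrev frS (W : S.Opens) : S.Modules := (frSF S).obj W

/-- every covering sieve is refined by a covering by affine opens (site form). -/
lemma exists_affine_refinement (V : S.Opens) (T : Sieve V)
    (hT : T ∈ Opens.grothendieckTopology S V) :
    ∃ (ι : Type u) (Y : ι → S.Opens) (g : ∀ i, Y i ⟶ V),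
      (∀ i, T.arrows (g i)) ∧ Sieve.ofArrows Y g ∈ Opens.grothendieckTopology S V ∧
      ∀ i, IsAffineOpen (Y i) := by
  refine ⟨{W : S.Opens // IsAffineOpen W ∧ ∃ h : W ≤ V, T.arrows (homOfLE h)}, fun W => W.1,
    fun W => homOfLE W.2.2.choose, fun W => W.2.2.choose_spec, ?_, fun W => W.2.1⟩
  intro x hx
  obtain ⟨W', f, hf, hxW'⟩ := hT x hx
  obtain ⟨W, hW, hxW, hWW'⟩ := (Opens.isBasis_iff_nbhd.1 S.isBasis_affineOpens) hxW'
  have hWV : W ≤ V := hWW'.trans (leOfHom f)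
  have hTW : T.arrows (homOfLE hWV) := by
    have := T.downward_closed hf (homOfLE hWW')
    exact (Subsingleton.elim _ _ : homOfLE hWW' ≫ f = homOfLE hWV) ▸ this
  exact ⟨W, homOfLE hWV, ⟨W, 𝟙 _, homOfLE hWV,
    Presieve.ofArrows.mk
      (⟨W, hW, hWV, hTW⟩ : {W : S.Opens // IsAffineOpen W ∧ ∃ h : W ≤ V, T.arrows (homOfLE h)}),
    Category.id_comp _⟩, hxW⟩

variable {S}

/-- affine opens are acyclic for bounded above complexes with quasi-coherent cohomology. -/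
theorem subsingleton_hom_of_affine {W : S.Opens} (hW : IsAffineOpen W) (N : DCoh.D S)
    (hN : DCoh.IsQCohD N) (a b : ℤ) (hb : ∀ i : ℤ, (i < a ∨ b < i) → IsZero (DCoh.HD N i))
    (m : ℤ) (hm : b < m) : Subsingleton (dsgl (frS S W) ⟶ N⟦m⟧) := by
  apply subsingleton_hom_of_bounded _ m N a b hb
  intro q hq1 hq2
  obtain ⟨k, hk⟩ : ∃ k : ℕ, m - q = ((k + 1 : ℕ) : ℤ) := ⟨(m - q - 1).toNat, by omega⟩
  rw [hk]
  haveI : (DCoh.HD N q).IsQuasicoherent := hN q
  exact subsingleton_hom_of_HU' S.sheaf W _ (k + 1)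
    (Groth.Agent.Lib.Helper23.AffVanish.subsingleton_HE_of_isAffineOpen hW _ k)

end Site

section Unbounded

variable {X S : Scheme.{u}} (f : X ⟶ S) [DCoh.HasRpush f]

theorem subsingleton_hom_rpush_single (hg : Good f) {d : ℕ} (hd : Bd f d) {W : S.Opens}
    (hW : IsAffineOpen W) (F : X.Modules) (hF : Coh.IsQCoh F) (a m : ℤ) (h : a + d ≤ m) :
    Subsingleton (dsgl (frS S W) ⟶
      ((DCoh.Rpush f).obj ((singleFunctor X.Modules a).obj F))⟦m⟧) := by
  apply subsingleton_hom_of_affine hW _ (fun i => isQCoh_hd_rpush_single f hg F hF a i) a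
    (a + d - 1) ?_ m (by omega)
  rintro i (hi | hi)
  · exact isZero_hd_rpush_single_of_lt f F a i hi
  · exact isZero_hd_rpush_single_of_ge f hd F hF a i (by omega)

/-- the image under `Rf_*` of the triangle `H^{-(n+1)}(E)[n+1] ⟶ τ_{≥-(n+1)}E ⟶ τ_{≥-n}E ⟶`. -/
theorem exists_step_triangle (E : DCoh.D X) (hE : DCoh.IsQCohD E) (n : ℕ) :
    ∃ (Y₀ : X.Modules) (_ : Coh.IsQCoh Y₀)
      (ι : (DCoh.Rpush f).obj ((singleFunctor X.Modules (-((n + 1 : ℕ) : ℤ))).obj Y₀) ⟶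
        (DCoh.Rpush f).obj (CohCx.truncTower E (n + 1)))
      (δ : (DCoh.Rpush f).obj (CohCx.truncTower E n) ⟶
        ((DCoh.Rpush f).obj ((singleFunctor X.Modules (-((n + 1 : ℕ) : ℤ))).obj Y₀))⟦(1 : ℤ)⟧),
      Triangle.mk ι ((DCoh.Rpush f).map (CohCx.truncTowerMap E n)) δ ∈ distTriang _ := by
  obtain ⟨Y₀, ⟨e⟩, ι, δ, hT⟩ := exists_trunc_step_triangle E (-((n + 1 : ℕ) : ℤ)) (-(n : ℤ))
    (by push_cast; omega)
  obtain ⟨δ', hδ'⟩ := weak_rpush f _ hT
  exact ⟨Y₀, isQCoh_of_iso e.symm (hE _), _, δ', hδ'⟩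

theorem isIso_hd_rpush_truncTowerMap (_hg : Good f) {d : ℕ} (hd : Bd f d) (E : DCoh.D X)
    (hE : DCoh.IsQCohD E) (j : ℤ) (n : ℕ) (hn : (d : ℤ) ≤ j + n + 1) :
    IsIso ((homologyFunctor S.Modules j).map ((DCoh.Rpush f).map (CohCx.truncTowerMap E n))) := by
  obtain ⟨Y₀, hY₀, ι, δ, hT⟩ := exists_step_triangle f E hE n
  have h1 := isZero_hd_rpush_single_of_ge f hd Y₀ hY₀ (-((n + 1 : ℕ) : ℤ)) j
    (by push_cast; omega)
  have h2 := isZero_hd_rpush_single_of_ge f hd Y₀ hY₀ (-((n + 1 : ℕ) : ℤ)) (j + 1)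
    (by push_cast; omega)
  haveI : Mono ((homologyFunctor S.Modules j).map
      ((DCoh.Rpush f).map (CohCx.truncTowerMap E n))) :=
    (HomologySequence.mono_homologyMap_mor₂_iff _ hT j).2 (h1.eq_of_src _ _)
  haveI : Epi ((homologyFunctor S.Modules j).map
      ((DCoh.Rpush f).map (CohCx.truncTowerMap E n))) :=
    (HomologySequence.epi_homologyMap_mor₂_iff _ hT j (j + 1) rfl).2 (h2.eq_of_tgt _ _)
  exact isIso_of_mono_of_epi _

theorem evBij_rpush (hg : Good f) {d : ℕ} (hd : Bd f d) (E : DCoh.D X) (hE : DCoh.IsQCohD E)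
    {W : S.Opens} (hW : IsAffineOpen W) (m : ℤ) (N : ℕ) (hN : (d : ℤ) ≤ m + N + 1) :
    EvBij (dsgl (frS S W)) (fun n => (DCoh.Rpush f).obj (CohCx.truncTower E n))
      (fun n => (DCoh.Rpush f).map (CohCx.truncTowerMap E n)) m N := by
  intro n hn
  obtain ⟨Y₀, hY₀, ι, δ, hT⟩ := exists_step_triangle f E hE n
  have hn' : (N : ℤ) ≤ n := by exact_mod_cast hn
  exact bijective_postcomp_mor₂ _ hT _ m
    (subsingleton_hom_rpush_single f hg hd hW Y₀ hY₀ _ m (by push_cast; omega))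
    (subsingleton_hom_rpush_single f hg hd hW Y₀ hY₀ _ (m + 1) (by push_cast; omega))

/-- `H^j(Rf_* E) ≅ H^j(Rf_* τ_{≥ -n} E)` for `n ≫ 0`. -/
theorem isIso_hd_rpush_toTruncTower (hg : Good f) {d : ℕ} (hd : Bd f d) (E : DCoh.D X)
    (hE : DCoh.IsQCohD E) (j : ℤ) (n : ℕ) (hn : (d : ℤ) ≤ j + n) :
    IsIso ((homologyFunctor S.Modules j).map ((DCoh.Rpush f).map (CohCx.toTruncTower E n))) := by
  haveI := hasLimitsOfShape_nat X
  haveI := hasLimitsOfShape_nat S
  haveI := additive_rpush f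
  haveI := isRightAdjoint_rpush f
  have hL := isRlimVia_map_weak (DCoh.Rpush f) (weak_rpush f)
    (isRlimVia_truncTower_of_isQCohD X E hE)
  haveI := Groth.Agent.S0484.result (Opens.grothendieckTopology S) (ModSite.ringSh S.sheaf)
  refine isIso_homology_of_evBij.{u + 1, u, u, u, u} (A := S.Modules)
    (J := Opens.grothendieckTopology S) (fr := frSF S) (locFr_frSF S) hL j n
    (fun n' hn' => isIso_hd_rpush_truncTowerMap f hg hd E hE j n' (by
      have : (n : ℤ) ≤ n' := by exact_mod_cast hn'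
      omega)) ?_
  intro U
  obtain ⟨ι, Y₀, g, hcov, -⟩ := exists_affine_cover S U
  refine ⟨Presieve.ofArrows Y₀ g, hcov, ?_⟩
  rintro V _ ⟨i⟩
  refine ⟨n, le_rfl, fun T hT => ?_⟩
  obtain ⟨ι', Y', g', hg', hcov', haff⟩ := exists_affine_refinement S (Y₀ i) T hT
  refine ⟨Presieve.ofArrows Y' g', ?_, hcov', ?_⟩
  · rintro W _ ⟨i'⟩
    exact hg' i'
  · rintro W _ ⟨i'⟩
    exact ⟨evBij_rpush f hg hd E hE (haff i') (j - 1) n (by omega),
      evBij_rpush f hg hd E hE (haff i') j n (by omega)⟩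

end Unbounded

section Main

variable {X S : Scheme.{u}} (f : X ⟶ S) [DCoh.HasRpush f]

omit [DCoh.HasRpush f] in
theorem isQCohD_truncGE (E : DCoh.D X) (hE : DCoh.IsQCohD E) (a : ℤ) :
    DCoh.IsQCohD ((tt.truncGE a).obj E) := by
  intro i
  by_cases hi : a ≤ i
  · haveI := isIso_homology_truncGEπ a i hi E
    exact isQCoh_of_iso
      (asIso ((homologyFunctor X.Modules i).map ((tt.truncGEπ a).app E))) (hE i)
  · exact isQCoh_of_isZero (isZero_of_isGE _ a i (by omega))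

/-- `Rf_*` preserves `D_QCoh` when `R^q f_*` preserves quasi-coherence and vanishes uniformly. -/
theorem rpush_isQCohD_of_bd (hg : Good f) {d : ℕ} (hd : Bd f d) (E : DCoh.D X)
    (hE : DCoh.IsQCohD E) : DCoh.IsQCohD ((DCoh.Rpush f).obj E) := by
  intro j
  haveI := isIso_hd_rpush_toTruncTower f hg hd E hE j (d - j).toNat (by omega)
  have h := rpush_boundedBelow f hg hd (CohCx.truncTower E (d - j).toNat)
    (isQCohD_truncGE E hE _) (-(((d - j).toNat : ℕ) : ℤ)) j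
  exact isQCoh_of_iso (asIso ((homologyFunctor S.Modules j).map
    ((DCoh.Rpush f).map (CohCx.toTruncTower E (d - j).toNat)))).symm h

/-- `Rf_*` has cohomological amplitude `≤ d` on `D_QCoh^{≤ 0}`. -/
theorem isZero_hd_rpush_of_isLE (hg : Good f) {d : ℕ} (hd : Bd f d) (E : DCoh.D X)
    (hE : DCoh.IsQCohD E) [E.IsLE 0] (m : ℤ) (hm : (d : ℤ) ≤ m) :
    IsZero (DCoh.HD ((DCoh.Rpush f).obj E) m) := by
  haveI := isIso_hd_rpush_toTruncTower f hg hd E hE m 0 (by simpa using hm)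
  have hab : ∀ i : ℤ, (i < 0 ∨ 0 < i) → IsZero (DCoh.HD (CohCx.truncTower E 0) i) := by
    rintro i (hi | hi)
    · exact isZero_of_isGE _ (-((0 : ℕ) : ℤ)) i (by simpa using hi)
    · haveI := isIso_homology_truncGEπ (-((0 : ℕ) : ℤ)) i (by simp; omega) E
      exact IsZero.of_iso (isZero_of_isLE E 0 i hi)
        (asIso ((homologyFunctor X.Modules i).map
          ((tt.truncGEπ (-((0 : ℕ) : ℤ))).app E))).symm
  have h := (rpush_bounded f hg hd (CohCx.truncTower E 0) (isQCohD_truncGE E hE _) 0 0 hab).2 m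
    (by omega)
  exact IsZero.of_iso h (asIso ((homologyFunctor S.Modules m).map
    ((DCoh.Rpush f).map (CohCx.toTruncTower E 0))))

open Groth.Agent.R2.H28.ProjPkg3 Groth.Agent.R2.H28.RGammaZ Groth.Agent.R2.H28.HasRpush in
/-- **`Rf_*` preserves `D_QCoh` for `f` quasi-compact and quasi-separated.** -/
theorem rpush_isQCohD [QuasiCompact f] [QuasiSeparated f] (E : DCoh.D X)
    (hE : DCoh.IsQCohD E) : DCoh.IsQCohD ((DCoh.Rpush f).obj E) := by
  intro j
  refine isQCoh_of_forall_affine_restrict _ (fun V hV => ?_)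
  haveI : IsAffine (V : Scheme.{u}) := hV
  haveI := hasRpush (f ∣_ V)
  obtain ⟨d, hd⟩ := exists_bd (f ∣_ V)
  have h1 := rpush_isQCohD_of_bd (f ∣_ V) (rpush_isQCoh (f ∣_ V)) hd
    ((DCoh.restrictD (f ⁻¹ᵁ V).ι).obj E) (isQCohD_restrictD _ E hE) j
  exact isQCoh_of_iso ((homologyFunctor _ j).mapIso ((rpushRestrictDIso f V).app E).symm ≪≫
    Groth.Agent.Lib.Helper17.AdjWay.homologyIso (Scheme.Modules.restrictFunctor V.ι) _ j) h1

/-- **uniform vanishing bound for `Rf_*` on `D_QCoh^{≤ 0}`.** -/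
theorem rpush_uniform_bound [QuasiCompact f] [QuasiSeparated f] [CompactSpace ↥S] :
    ∃ N : ℤ, ∀ (E : DCoh.D X), DCoh.IsQCohD E → E.IsLE 0 → ∀ m : ℤ, N ≤ m →
      IsZero (DCoh.HD ((DCoh.Rpush f).obj E) m) := by
  obtain ⟨d, hd⟩ := exists_bd f
  exact ⟨d, fun E hE hE0 m hm => by
    haveI := hE0
    exact isZero_hd_rpush_of_isLE f (rpush_isQCoh f) hd E hE m hm⟩

end Main

end Groth.Agent.R2.H5.RpushQCohD
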