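import Mathlib
import Groth.Prelude.Def_DCoh2
import Groth.Agent.R2.H5RpushQCohD
import Groth.Agent.R2.H28RGammaZ2
import Groth.Agent.S12229

/-!
# `RΓ_Z` preserves `D_QCoh^+` for a closed subset with quasi-compact open complement (helper5)

* `isQCohD_obj₁`: `D_QCoh` is closed under fibres in distinguished triangles;
* `isQCohD_gammaZ_of_injective`: for a bounded below complex `J` of injectives with `Q J ∈ D_QCoh`,
  `Q (Γ_Z J) ∈ D_QCoh` (uses `Rj_*` preserves `D_QCoh`, `j` the quasi-compact open immersion);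
* `isZero_restrictD_gammaZ`: `Γ_Z J` restricts to zero on `U`;
* `rgammaZPlus_iso`: the value of `DCoh.RgammaZPlus` on the class of a bounded below complex of injectives.
-/

set_option autoImplicit false
set_option linter.style.haveILetI false
set_option linter.unusedSectionVars false
universe u
open CategoryTheory CategoryTheory.Limits CategoryTheory.Pretriangulated AlgebraicGeometry

attribute [local instance] HasDerivedCategory.standard

namespace Groth.Agent.R2.H5.RGammaZQCoh

open Groth.Agent.R2.H5.RpushBdd Groth.Agent.R2.H5.RpushQCohD Groth.Agent.R2.H28.DerBase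
  Groth.Agent.R2.H28.RpushQCoh Groth.Agent.R2.H28.RGammaZ DerivedCategory

variable {X : Scheme.{u}}

/-- `D_QCoh` is closed under fibres. -/
theorem isQCohD_obj₁ (T : Triangle (DCoh.D X)) (hT : T ∈ distTriang _)
    (h₂ : DCoh.IsQCohD T.obj₂) (h₃ : DCoh.IsQCohD T.obj₃) : DCoh.IsQCohD T.obj₁ := by
  intro i
  exact isQCoh_mid _ _ _ _ _ _ _
    (HomologySequence.exact₃ _ hT (i - 1) i (by omega))
    (HomologySequence.exact₁ _ hT (i - 1) i (by omega))
    (HomologySequence.exact₂ _ hT i)
    (h₂ _) (h₃ _) (h₂ _) (h₃ _)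

theorem isQCohD_of_iso {K K' : DCoh.D X} (e : K ≅ K') (h : DCoh.IsQCohD K) : DCoh.IsQCohD K' :=
  fun i => isQCoh_of_iso ((homologyFunctor _ i).mapIso e) (h i)

/-- `Γ_Z` of a bounded below complex of injectives with quasi-coherent cohomology has quasi-coherent
cohomology, when the open complement of `Z` is quasi-compact. -/
theorem isQCohD_gammaZ_of_injective (U : X.Opens) [QuasiCompact U.ι]
    (J : CochainComplex X.Modules ℤ) (d : ℤ) [J.IsStrictlyGE d] (hinj : ∀ n, Injective (J.X n))
    (hJ : DCoh.IsQCohD (Q.obj J)) :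
    DCoh.IsQCohD (Q.obj (((DCoh.gammaZ U.ι).mapHomologicalComplex (ComplexShape.up ℤ)).obj J)) := by
  haveI := hinj
  haveI : J.IsKInjective := CochainComplex.isKInjective_of_injective J d
  haveI := isKInjective_restrict U J
  haveI := Groth.Agent.R2.H28.HasRpush.hasRpush U.ι
  have hS := gzCx_shortExact U J hinj
  have hT := DerivedCategory.triangleOfSES_distinguished hS
  refine isQCohD_obj₁ _ hT ?_ ?_
  · exact isQCohD_of_iso
      (Q.mapIso ((Functor.mapHomologicalComplexIdIso _ (ComplexShape.up ℤ)).app J).symm) hJ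
  · have h1 : DCoh.IsQCohD ((DCoh.restrictD U.ι).obj (Q.obj J)) := isQCohD_restrictD U.ι _ hJ
    have h2 := rpush_isQCohD U.ι _ h1
    let eM : Q.obj (((Scheme.Modules.restrictFunctor U.ι).mapHomologicalComplex
        (ComplexShape.up ℤ)).obj J) ≅ (DCoh.restrictD U.ι).obj (Q.obj J) :=
      ((Scheme.Modules.restrictFunctor U.ι).mapDerivedCategoryFactors.app J).symm
    exact isQCohD_of_iso ((DCoh.Rpush U.ι).mapIso eM.symm ≪≫ (rpushIso U.ι _).symm ≪≫
      (Q.mapIso ((compCxIso (Scheme.Modules.restrictFunctor U.ι)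
        (Scheme.Modules.pushforward U.ι)).app J)).symm) h2

/-- `Γ_Z J` restricts to zero on the open complement of `Z`. -/
theorem isZero_restrictD_gammaZ (U : X.Opens) (J : CochainComplex X.Modules ℤ) :
    IsZero ((DCoh.restrictD U.ι).obj
      (Q.obj (((DCoh.gammaZ U.ι).mapHomologicalComplex (ComplexShape.up ℤ)).obj J))) := by
  refine IsZero.of_iso (Q.map_isZero ?_)
    ((Scheme.Modules.restrictFunctor U.ι).mapDerivedCategoryFactors.app _)
  exact isZero_of_forall_isZero_X _ (fun n => isZero_restrict_gammaZ U.ι (J.X n))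

end Groth.Agent.R2.H5.RGammaZQCoh
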