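import Mathlib
import Groth.Agent.Lib.Helper1Sky5
import Groth.Agent.Lib.Helper1CI3
import Groth.Agent.Lib.Helper1CI8
import Groth.Agent.Lib.Helper1KBC5
import Groth.Agent.Lib.Helper23QCohLocal
import Groth.Agent.R2.H27FlatAmp
import Groth.Agent.R2.H27PushStalk
import Groth.Agent.Lib.Helper1TorM
set_option backward.isDefEq.respectTransparency.types false

/-!
# Tor amplitude can be tested on quasi-coherent modules (helper5, project dqcoh)

* `hasLTensorMod M` : the total left derived functor of `- ⊗ M` exists on `D(O_X)` (K-flat resolutions);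
* `exists_qcoh_stalk` : on a quasi-separated scheme, every module over a local ring `O_{X,x}` is the stalk at `x`
  of a quasi-coherent `O_X`-module (namely `j_*(N~)` for an affine open neighbourhood `j`);
* `hasTorAmplitudeIn_of_qcoh` : tor amplitude in `[a, b]` can be tested on quasi-coherent modules.
-/

set_option autoImplicit false
universe u
open CategoryTheory CategoryTheory.Limits AlgebraicGeometry HomologicalComplex MonoidalCategory
attribute [local instance] HasDerivedCategory.standard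

namespace Groth.Agent.R2.H5.TorAmpQCoh

open Groth.Agent.Lib.Helper1.BKF Groth.Agent.Lib.Helper1.CI Groth.Agent.Lib.Helper1.Sky

variable {X : Scheme.{u}}

/-- the total left derived functor of `- ⊗ M` exists -/
theorem hasLTensorMod (M : X.Modules) : DCoh.HasLTensorMod M := by
  obtain ⟨R, ψ, h⟩ : ∃ (R : CochainComplex X.Modules ℤ ⥤ CochainComplex X.Modules ℤ)
      (ψ : R ⟶ 𝟭 (CochainComplex X.Modules ℤ)),
      ∀ G : CochainComplex X.Modules ℤ, ModSite.IsKFlat (O := X.sheaf) (R.obj G) ∧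
        (∀ n : ℤ, ModSite.IsFlat (O := X.sheaf) ((R.obj G).X n)) ∧ QuasiIso (ψ.app G) ∧
        ∀ n : ℤ, Epi ((ψ.app G).f n) := exists_functorial_kflat_flat_resolution X.sheaf
  have hρ : ∀ G, DCoh.IsKFlat (R.obj G) := fun G => (h G).1
  have hπ : ∀ G, HomologicalComplex.quasiIso X.Modules (ComplexShape.up ℤ) (ψ.app G) :=
    fun G => (h G).2.2.1
  have hF : ∀ {E E' : CochainComplex X.Modules ℤ} (q : E ⟶ E'), DCoh.IsKFlat E → DCoh.IsKFlat E' →
      HomologicalComplex.quasiIso X.Modules (ComplexShape.up ℤ) q → IsIso ((FC M).map q) := by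
    intro E E' q hE hE' hq
    have : QuasiIso q := hq
    exact isIso_FC_map M q hE hE'
  have h1 := isLeftDerivedFunctor_res (HomologicalComplex.quasiIso X.Modules (ComplexShape.up ℤ))
    (HomotopyCategory.quotient X.Modules (ComplexShape.up ℤ) ⋙ DerivedCategory.Qh) (FC M)
    (fun E => DCoh.IsKFlat E) R ψ hρ hπ hF
  have h2 := isLeftDerivedFunctor_desc
    (HomologicalComplex.homotopyEquivalences X.Modules (ComplexShape.up ℤ))
    (HomotopyCategory.quasiIso X.Modules (ComplexShape.up ℤ))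
    (HomologicalComplex.quasiIso X.Modules (ComplexShape.up ℤ))
    (HomotopyCategory.quotient X.Modules (ComplexShape.up ℤ)) DerivedCategory.Qh
    (DCoh.tensorModKh M) _ (resCounit (HomologicalComplex.quasiIso X.Modules (ComplexShape.up ℤ))
      (HomotopyCategory.quotient X.Modules (ComplexShape.up ℤ) ⋙ DerivedCategory.Qh) (FC M)
      (fun E => DCoh.IsKFlat E) R ψ hρ hπ hF)
  exact @Functor.HasLeftDerivedFunctor.mk' _ _ _ _ _ _ _ _ _ _ _ _ h2

/-- restriction of scalars along a localization is full -/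
theorem full_restrictScalars_of_isLocalization {R S : Type u} [CommRing R] [CommRing S] (ψ : R →+* S)
    (M : Submonoid R) (h : @IsLocalization R _ M S _ ψ.toAlgebra) :
    (ModuleCat.restrictScalars.{u} ψ).Full := by
  letI : Algebra R S := ψ.toAlgebra
  refine ⟨fun {N1 N2} g => ?_⟩
  let gf : N1 → N2 := fun n => g.hom n
  have hadd : ∀ a b, gf (a + b) = gf a + gf b := fun a b => g.hom.map_add a b
  have hR : ∀ (r : R) (n : N1), gf (ψ r • n) = ψ r • gf n := fun r n => g.hom.map_smul r n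
  have key : ∀ (s : S) (n : N1), gf (s • n) = s • gf n := by
    intro s n
    obtain ⟨⟨r, m⟩, hs⟩ := IsLocalization.surj M s
    have hs' : s * ψ m = ψ r := hs
    have hu : IsUnit (ψ m) := IsLocalization.map_units S m
    rw [← hu.smul_left_cancel, ← hR, smul_smul, smul_smul, mul_comm, hs', hR]
  refine ⟨ModuleCat.ofHom { toFun := gf, map_add' := hadd, map_smul' := key }, ?_⟩
  rfl

open Groth.Agent.Lib.Helper1.KBC Groth.Agent.R2.H27.PushStalk in
/-- a module over `O_{X, j p}` is the stalk of a quasi-coherent module, for `j : Spec R ⟶ X` a quasi-compact open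
immersion -/
theorem exists_qcoh_stalk_aux {R : CommRingCat.{u}} (j : Spec R ⟶ X) [IsOpenImmersion j] [QuasiCompact j]
    (p : Spec R) (N : ModuleCat.{u} (X.presheaf.stalk (j.base p))) :
    ∃ G : X.Modules, G.IsQuasicoherent ∧ Nonempty ((DerSch.stalkFunctor X (j.base p)).obj G ≅ N) := by
  let φ : X.presheaf.stalk (j.base p) ⟶ (Spec R).presheaf.stalk p := j.stalkMap p
  let φi : (Spec R).presheaf.stalk p →+* X.presheaf.stalk (j.base p) := (inv φ).hom
  let ψ : R →+* (Spec R).presheaf.stalk p := toOx R p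
  let N' : ModuleCat.{u} ((Spec R).presheaf.stalk p) := (ModuleCat.restrictScalars φi).obj N
  let N'' : ModuleCat.{u} R := (ModuleCat.restrictScalars ψ).obj N'
  let T : (Spec R).Modules := (tilde.functor R).obj N''
  haveI : T.IsQuasicoherent := inferInstanceAs (tilde N'').IsQuasicoherent
  refine ⟨(Scheme.Modules.pushforward j).obj T,
    Groth.Agent.Lib.Helper23.QCohLocal.isQuasicoherent_pushforward j T, ⟨?_⟩⟩
  have hloc : @IsLocalization R _ p.asIdeal.primeCompl ((Spec R).presheaf.stalk p) _ ψ.toAlgebra :=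
    StructureSheaf.IsLocalization.to_stalk R p
  haveI : (ModuleCat.restrictScalars.{u} ψ).Full :=
    full_restrictScalars_of_isLocalization ψ _ hloc
  haveI : IsIso ((ModuleCat.extendRestrictScalarsAdj.{u, u, u} ψ).counit) :=
    Adjunction.counit_isIso_of_R_fully_faithful _
  let e1 : (DerSch.stalkFunctor (Spec R) p).obj T ≅ N' :=
    (stalkFunctorIso p).app T ≪≫ (tildeStalkIso R p).app N'' ≪≫
      asIso ((ModuleCat.extendRestrictScalarsAdj.{u, u, u} ψ).counit.app N')
  have hcomp : φi.comp φ.hom = RingHom.id _ := by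
    ext r
    change (inv φ).hom (φ.hom r) = r
    rw [← CommRingCat.comp_apply, IsIso.hom_inv_id]
    rfl
  let e2 : (ModuleCat.restrictScalars φ.hom).obj N' ≅ N :=
    ((ModuleCat.restrictScalarsComp'.{u} φ.hom φi _ rfl).symm ≪≫
      ModuleCat.restrictScalarsId'.{u} _ hcomp).app N
  exact (pushStalkIso j j.isOpenEmbedding.isInducing p).app T ≪≫
    (ModuleCat.restrictScalars φ.hom).mapIso e1 ≪≫ e2

/-- on a quasi-separated scheme every module over the local ring `O_{X,x}` is the stalk at `x` of a quasi-coherent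
`O_X`-module -/
theorem exists_qcoh_stalk [QuasiSeparatedSpace ↥X] (x : X) (N : ModuleCat.{u} (X.presheaf.stalk x)) :
    ∃ G : X.Modules, G.IsQuasicoherent ∧ Nonempty ((DerSch.stalkFunctor X x).obj G ≅ N) := by
  obtain ⟨_, ⟨U, hU : IsAffineOpen U, rfl⟩, hxU, -⟩ :=
    X.isBasis_affineOpens.exists_subset_of_mem_open (Set.mem_univ x) isOpen_univ
  revert N
  obtain ⟨p, rfl⟩ : ∃ p, hU.fromSpec.base p = x :=
    ⟨hU.primeIdealOf ⟨x, hxU⟩, hU.fromSpec_primeIdealOf ⟨x, hxU⟩⟩
  intro N
  exact exists_qcoh_stalk_aux hU.fromSpec p N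

open Groth.Agent.Lib.Helper1.KBC Groth.Agent.Lib.Helper1.Tor Groth.Agent.Lib.Helper1.TorM
  Groth.Agent.R2.H27.FlatAmp in
/-- exactness of `K ⊗ F` in degree `i` at the stalk `x` only depends on the stalk `F_x` -/
lemma exactAt_stalk_Ttw_iff (K : CochainComplex X.Modules ℤ) (F G : X.Modules) (x : X)
    (e : (stalkFun x).obj G ≅ (stalkFun x).obj F) (i : ℤ)
    (h : ((stalkC x).obj ((Ttw G).obj K)).ExactAt i) :
    ((stalkC x).obj ((Ttw F).obj K)).ExactAt i :=
  exactAt_of_iso (stalkTtwIso F K x).symm i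
    (exactAt_TC_of_iso e _ i (exactAt_of_iso (stalkTtwIso G K x) i h))

open Groth.Agent.Lib.Helper1.KBC Groth.Agent.R2.H27.FlatAmp in
/-- the stalk complex of a complex exact in degree `i` is exact in degree `i` -/
lemma exactAt_stalkC (C : CochainComplex X.Modules ℤ) (i : ℤ) (h : C.ExactAt i) (x : X) :
    ((stalkC x).obj C).ExactAt i := by
  rw [exactAt_iff_isZero_homology] at h ⊢
  have e := (C.sc i).mapHomologyIso (stalkFun x)
  exact IsZero.of_iso ((stalkFun x).map_isZero h) e

open Groth.Agent.Lib.Helper1.KBC Groth.Agent.R2.H27.FlatAmp in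
/-- **Tor amplitude can be tested on quasi-coherent modules** (quasi-separated scheme). -/
theorem hasTorAmplitudeIn_of_qcoh [QuasiSeparatedSpace ↥X] (E : DCoh.D X) (a b : ℤ)
    (h : ∀ (F : X.Modules), Coh.IsQCoh F → ∀ [DCoh.HasLTensorMod F] (i : ℤ), (i < a ∨ b < i) →
      IsZero (DCoh.HD ((DCoh.LTensorMod F).obj E) i)) :
    DCoh.HasTorAmplitudeIn a b E := by
  intro F _ i hi
  obtain ⟨E0, ⟨e0⟩⟩ : ∃ E0 : CochainComplex X.Modules ℤ, Nonempty (DerivedCategory.Q.obj E0 ≅ E) :=
    ⟨_, ⟨DerivedCategory.Q.objObjPreimageIso E⟩⟩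
  obtain ⟨K, q, hK, -, hq, -⟩ : ∃ (K : CochainComplex X.Modules ℤ)
      (q : K ⟶ E0), DCoh.IsKFlat K ∧
      (∀ n : ℤ, ModSite.IsFlat (O := X.sheaf) (K.X n)) ∧ QuasiIso q ∧ ∀ n : ℤ, Epi (q.f n) :=
    exists_kflat_flat_resolution X.sheaf E0
  have hqi : IsIso (DerivedCategory.Q.map q) := by
    rw [DerivedCategory.isIso_Q_map_iff_quasiIso]; exact hq
  let eK : DCoh.toD X K ≅ E := asIso (DerivedCategory.Q.map q) ≪≫ e0
  -- reduce to exactness of `K ⊗ F` in degree `i`
  have key : ∀ (F' : X.Modules) [DCoh.HasLTensorMod F'],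
      IsZero (DCoh.HD ((DCoh.LTensorMod F').obj E) i) ↔ ((Ttw F').obj K).ExactAt i := by
    intro F' _
    rw [exactAt_iff_isZero_homology]
    exact (Iso.isZero_iff ((DerivedCategory.homologyFunctor X.Modules i).mapIso
      ((DCoh.LTensorMod F').mapIso eK.symm) ≪≫ HDltmIso F' K hK i))
  rw [key F]
  apply exactAt_of_forall_stalk
  intro x
  obtain ⟨G, hG, ⟨eG⟩⟩ := exists_qcoh_stalk x ((DerSch.stalkFunctor X x).obj F)
  haveI := hasLTensorMod G
  have h1 : ((Ttw G).obj K).ExactAt i := (key G).1 (h G hG i hi)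
  refine exactAt_stalk_Ttw_iff K F G x ?_ i (exactAt_stalkC _ i h1 x)
  exact (stalkFunctorIso x).symm.app G ≪≫ eG ≪≫ (stalkFunctorIso x).app F

end Groth.Agent.R2.H5.TorAmpQCoh
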