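import Mathlib

/-!
# Exactness of the Amitsur complex in positive degrees (helper60)

For a faithfully flat `R → A`, the alternating coface complex of the Čech conerve of `R ⟶ A` in `CommRingCat`
(the Amitsur complex `A → A ⊗ A → A ⊗ A ⊗ A → ⋯`) is exact in degrees `≥ 1`.

* `B k` : the `k`-th term (a wide pushout), `head`, `ι`, `δ`, `hom_ext`, `algHom_ext`;
* `σₐ k : B (k+1) →ₐ A ⊗ B k`, `s k : A ⊗ B (k+1) →ₐ A ⊗ B k`, `T k i = A ⊗ δ_i`;
* `s_comp_T_zero`, `s_comp_T_succ` : the extra codegeneracy identities;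
* `homotopy_apply` : `s ∘ D + D ∘ s = id`;
* `exact_d`, `main`.
-/

set_option autoImplicit false
universe u
open CategoryTheory CategoryTheory.Limits TensorProduct

namespace Groth.Agent.R2.H60.Amitsur

variable (R A : Type u) [CommRing R] [CommRing A] [Algebra R A]

/-- the structure morphism `R ⟶ A` in `CommRingCat` -/
abbrev φ : CommRingCat.of R ⟶ CommRingCat.of A := CommRingCat.ofHom (algebraMap R A)

/-- the `k`-th term of the Čech conerve: the `(k+1)`-fold tensor power of `A` over `R` -/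
noncomputable abbrev B (k : ℕ) : CommRingCat.{u} :=
  widePushout (CommRingCat.of R) (fun _ : Fin (k + 1) => CommRingCat.of A) (fun _ => φ R A)

/-- the structure map `R ⟶ B k` -/
noncomputable abbrev head (k : ℕ) : CommRingCat.of R ⟶ B R A k :=
  WidePushout.head (fun _ : Fin (k + 1) => φ R A)

/-- the `j`-th coprojection `A ⟶ B k` -/
noncomputable abbrev ι (k : ℕ) (j : Fin (k + 1)) : CommRingCat.of A ⟶ B R A k :=
  WidePushout.ι (fun _ : Fin (k + 1) => φ R A) j

theorem arrow_ι (k : ℕ) (j : Fin (k + 1)) : φ R A ≫ ι R A k j = head R A k :=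
  WidePushout.arrow_ι (fun _ : Fin (k + 1) => φ R A) j

/-- the coface maps -/
noncomputable def δ (k : ℕ) (i : Fin (k + 2)) : B R A k ⟶ B R A (k + 1) :=
  WidePushout.desc (head R A (k + 1)) (fun j => ι R A (k + 1) (i.succAbove j))
    (fun _ => arrow_ι R A (k + 1) _)

@[reassoc (attr := simp)]
theorem ι_δ (k : ℕ) (i : Fin (k + 2)) (j : Fin (k + 1)) :
    ι R A k j ≫ δ R A k i = ι R A (k + 1) (i.succAbove j) :=
  WidePushout.ι_desc _ _ _ _ j

@[reassoc (attr := simp)]
theorem head_δ (k : ℕ) (i : Fin (k + 2)) :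
    head R A k ≫ δ R A k i = head R A (k + 1) :=
  WidePushout.head_desc _ _ _ _

theorem hom_ext {k : ℕ} {X : CommRingCat.{u}} (g₁ g₂ : B R A k ⟶ X)
    (hι : ∀ j, ι R A k j ≫ g₁ = ι R A k j ≫ g₂) (hh : head R A k ≫ g₁ = head R A k ≫ g₂) :
    g₁ = g₂ :=
  WidePushout.hom_ext _ _ _ hι hh

/-- the conerve -/
noncomputable abbrev cn : CosimplicialObject CommRingCat.{u} :=
  (Arrow.mk (CommRingCat.ofHom (algebraMap R A))).cechConerve

theorem cn_obj (k : ℕ) : (cn R A).obj (SimplexCategory.mk k) = B R A k := rfl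

theorem cn_δ (k : ℕ) (i : Fin (k + 2)) : (cn R A).δ i = δ R A k i := rfl

/-! ### algebra structures -/

noncomputable instance algB (k : ℕ) : Algebra R (B R A k) := (head R A k).hom.toAlgebra

theorem algebraMap_B (k : ℕ) (r : R) : algebraMap R (B R A k) r = (head R A k).hom r := rfl

/-- the coprojections as algebra maps -/
noncomputable def ιₐ (k : ℕ) (j : Fin (k + 1)) : A →ₐ[R] B R A k :=
  { (ι R A k j).hom with
    commutes' := fun r => congrArg (fun f : CommRingCat.of R ⟶ B R A k => f.hom r) (arrow_ι R A k j) }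

/-- the coface maps as algebra maps -/
noncomputable def δₐ (k : ℕ) (i : Fin (k + 2)) : B R A k →ₐ[R] B R A (k + 1) :=
  { (δ R A k i).hom with
    commutes' := fun r =>
      congrArg (fun f : CommRingCat.of R ⟶ B R A (k + 1) => f.hom r) (head_δ R A k i) }

theorem δₐ_ιₐ (k : ℕ) (i : Fin (k + 2)) (j : Fin (k + 1)) (a : A) :
    δₐ R A k i (ιₐ R A k j a) = ιₐ R A (k + 1) (i.succAbove j) a :=
  congrArg (fun f : CommRingCat.of A ⟶ B R A (k + 1) => f.hom a) (ι_δ R A k i j)

theorem algHom_ext {k : ℕ} {S : Type u} [CommRing S] [Algebra R S] (g₁ g₂ : B R A k →ₐ[R] S)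
    (h : ∀ j a, g₁ (ιₐ R A k j a) = g₂ (ιₐ R A k j a)) : g₁ = g₂ := by
  have key : CommRingCat.ofHom g₁.toRingHom = CommRingCat.ofHom g₂.toRingHom := by
    apply hom_ext
    · intro j
      ext a
      exact h j a
    · ext r
      change g₁ (algebraMap R (B R A k) r) = g₂ (algebraMap R (B R A k) r)
      rw [g₁.commutes, g₂.commutes]
  ext x
  exact congrArg (fun f : B R A k ⟶ CommRingCat.of S => f.hom x) key

/-! ### the contraction after base change to `A` -/

/-- the legs defining `σ` -/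
noncomputable def σleg (k : ℕ) (j : Fin (k + 2)) : A →ₐ[R] A ⊗[R] B R A k :=
  Fin.cases (Algebra.TensorProduct.includeLeft : A →ₐ[R] A ⊗[R] B R A k)
    (fun j' => (Algebra.TensorProduct.includeRight : B R A k →ₐ[R] A ⊗[R] B R A k).comp (ιₐ R A k j')) j

/-- `σ : B (k+1) ⟶ A ⊗ B k`, sending the `0`-th factor to `A` and the others to `B k` -/
noncomputable def σ (k : ℕ) : B R A (k + 1) ⟶ CommRingCat.of (A ⊗[R] B R A k) :=
  WidePushout.desc (CommRingCat.ofHom (algebraMap R (A ⊗[R] B R A k)))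
    (fun j => CommRingCat.ofHom (σleg R A k j).toRingHom)
    (fun j => by
      ext r
      exact (σleg R A k j).commutes r)

noncomputable def σₐ (k : ℕ) : B R A (k + 1) →ₐ[R] A ⊗[R] B R A k :=
  { (σ R A k).hom with
    commutes' := fun r =>
      congrArg (fun f : CommRingCat.of R ⟶ CommRingCat.of (A ⊗[R] B R A k) => f.hom r)
        (WidePushout.head_desc _ _ _ _) }

theorem σₐ_ιₐ (k : ℕ) (j : Fin (k + 2)) (a : A) :
    σₐ R A k (ιₐ R A (k + 1) j a) = σleg R A k j a := by
  have h : ι R A (k + 1) j ≫ σ R A k = CommRingCat.ofHom (σleg R A k j).toRingHom :=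
    WidePushout.ι_desc _ _ _ _ j
  exact congrArg (fun f : CommRingCat.of A ⟶ CommRingCat.of (A ⊗[R] B R A k) => f.hom a) h

theorem σₐ_ιₐ_zero (k : ℕ) (a : A) :
    σₐ R A k (ιₐ R A (k + 1) 0 a) = a ⊗ₜ[R] (1 : B R A k) :=
  σₐ_ιₐ R A k 0 a

theorem σₐ_ιₐ_succ (k : ℕ) (j : Fin (k + 1)) (a : A) :
    σₐ R A k (ιₐ R A (k + 1) j.succ a) = (1 : A) ⊗ₜ[R] ιₐ R A k j a :=
  σₐ_ιₐ R A k j.succ a

/-- the contraction `s : A ⊗ B (k+1) → A ⊗ B k` -/
noncomputable def s (k : ℕ) : A ⊗[R] B R A (k + 1) →ₐ[R] A ⊗[R] B R A k :=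
  Algebra.TensorProduct.productMap Algebra.TensorProduct.includeLeft (σₐ R A k)

theorem s_tmul (k : ℕ) (a : A) (b : B R A (k + 1)) :
    s R A k (a ⊗ₜ b) = (a ⊗ₜ[R] (1 : B R A k)) * σₐ R A k b := by
  simp [s]

/-- the base-changed coface maps -/
noncomputable def T (k : ℕ) (i : Fin (k + 2)) : A ⊗[R] B R A k →ₐ[R] A ⊗[R] B R A (k + 1) :=
  Algebra.TensorProduct.map (AlgHom.id R A) (δₐ R A k i)

theorem T_tmul (k : ℕ) (i : Fin (k + 2)) (a : A) (b : B R A k) :
    T R A k i (a ⊗ₜ b) = a ⊗ₜ δₐ R A k i b := by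
  simp [T]

theorem s_comp_T_zero (k : ℕ) :
    (s R A (k + 1)).comp (T R A (k + 1) 0) = AlgHom.id R _ := by
  apply Algebra.TensorProduct.ext
  · ext a
    simp [s_tmul, T_tmul]
  · apply algHom_ext
    intro j a
    simp only [AlgHom.restrictScalars_apply, AlgHom.coe_comp, Function.comp_apply,
      Algebra.TensorProduct.includeRight_apply,
      T_tmul, s_tmul, δₐ_ιₐ, Fin.succAbove_zero, σₐ_ιₐ_succ, AlgHom.coe_id, id_eq]
    rw [← Algebra.TensorProduct.one_def, one_mul]

theorem s_comp_T_succ (k : ℕ) (i : Fin (k + 2)) :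
    (s R A (k + 1)).comp (T R A (k + 1) i.succ) = (T R A k i).comp (s R A k) := by
  apply Algebra.TensorProduct.ext
  · ext a
    simp [s_tmul, T_tmul]
  · apply algHom_ext
    intro j a
    simp only [AlgHom.restrictScalars_apply, AlgHom.coe_comp, Function.comp_apply,
      Algebra.TensorProduct.includeRight_apply,
      T_tmul, s_tmul, δₐ_ιₐ]
    rw [← Algebra.TensorProduct.one_def, one_mul, ← Algebra.TensorProduct.one_def, one_mul]
    refine Fin.cases ?_ (fun j' => ?_) j
    · rw [Fin.succ_succAbove_zero, σₐ_ιₐ_zero, σₐ_ιₐ_zero, T_tmul, map_one]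
    · rw [Fin.succ_succAbove_succ, σₐ_ιₐ_succ, σₐ_ιₐ_succ, T_tmul, δₐ_ιₐ]

/-! ### the differentials -/

/-- the differential of the Amitsur complex -/
noncomputable def d (k : ℕ) : B R A k →ₗ[R] B R A (k + 1) :=
  ∑ i : Fin (k + 2), (-1 : ℤ) ^ (i : ℕ) • (δₐ R A k i).toLinearMap

/-- the differential of the base-changed Amitsur complex -/
noncomputable def D (k : ℕ) : A ⊗[R] B R A k →ₗ[R] A ⊗[R] B R A (k + 1) :=
  ∑ i : Fin (k + 2), (-1 : ℤ) ^ (i : ℕ) • (T R A k i).toLinearMap

theorem lTensor_δₐ (k : ℕ) (i : Fin (k + 2)) :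
    (δₐ R A k i).toLinearMap.lTensor A = (T R A k i).toLinearMap := by
  apply TensorProduct.ext'
  intro a b
  simp [T_tmul]

theorem lTensor_d (k : ℕ) : (d R A k).lTensor A = D R A k := by
  unfold d D
  rw [← LinearMap.coe_lTensorHom (R := R) (M := A), map_sum]
  refine Finset.sum_congr rfl fun i _ => ?_
  rw [map_zsmul, LinearMap.coe_lTensorHom, lTensor_δₐ]

theorem homotopy_apply (k : ℕ) (z : A ⊗[R] B R A (k + 1)) :
    s R A (k + 1) (D R A (k + 1) z) + D R A k (s R A k z) = z := by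
  have h0 : ∀ z, s R A (k + 1) (T R A (k + 1) 0 z) = z := fun z =>
    DFunLike.congr_fun (s_comp_T_zero R A k) z
  have h1 : ∀ i z, s R A (k + 1) (T R A (k + 1) (Fin.succ i) z) = T R A k i (s R A k z) :=
    fun i z => DFunLike.congr_fun (s_comp_T_succ R A k i) z
  simp only [D, LinearMap.sum_apply, LinearMap.smul_apply, AlgHom.toLinearMap_apply, map_sum,
    map_zsmul]
  rw [Fin.sum_univ_succ]
  simp only [h0, h1, Fin.val_zero, pow_zero, one_smul, Fin.val_succ, pow_succ]
  rw [add_assoc, ← Finset.sum_add_distrib]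
  simp

/-! ### the complex -/

/-- the cosimplicial abelian group -/
noncomputable abbrev Xab : CosimplicialObject AddCommGrpCat.{u} :=
  cn R A ⋙ forget₂ CommRingCat RingCat ⋙ forget₂ RingCat AddCommGrpCat

/-- the alternating coface complex -/
noncomputable abbrev K : CochainComplex AddCommGrpCat.{u} ℕ :=
  AlgebraicTopology.AlternatingCofaceMapComplex.obj (Xab R A)

/-- `f ↦ f.hom` as an additive map -/
def homAddHom (M N : AddCommGrpCat.{u}) : (M ⟶ N) →+ (M →+ N) where
  toFun f := f.hom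
  map_zero' := rfl
  map_add' _ _ := rfl

theorem K_d_apply (k : ℕ) (x : B R A k) :
    ((K R A).d k (k + 1)).hom x = d R A k x := by
  have h1 : (K R A).d k (k + 1) =
      ∑ i : Fin (k + 2), (-1 : ℤ) ^ (i : ℕ) • (Xab R A).δ i := by
    simp [K, AlgebraicTopology.AlternatingCofaceMapComplex.obj, CochainComplex.of_d]
  rw [h1]
  change homAddHom _ _ (∑ i : Fin (k + 2), (-1 : ℤ) ^ (i : ℕ) • (Xab R A).δ i) x = _
  rw [map_sum]
  simp only [map_zsmul, d, LinearMap.sum_apply, LinearMap.smul_apply, AddMonoidHom.finsetSum_apply,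
    AddMonoidHom.smul_apply]
  rfl

theorem d_comp_d (k : ℕ) (x : B R A k) : d R A (k + 1) (d R A k x) = 0 := by
  rw [← K_d_apply, ← K_d_apply]
  exact congrArg (fun f : (K R A).X k ⟶ (K R A).X (k + 1 + 1) => f.hom x)
    ((K R A).d_comp_d k (k + 1) (k + 1 + 1))

/-- the Amitsur complex is exact in positive degrees -/
theorem exact_d [Module.FaithfullyFlat R A] (m : ℕ) :
    Function.Exact (d R A m) (d R A (m + 1)) := by
  rw [← Module.FaithfullyFlat.lTensor_exact_iff_exact R A, lTensor_d, lTensor_d]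
  intro z
  constructor
  · intro hz
    refine ⟨s R A m z, ?_⟩
    have := homotopy_apply R A m z
    rw [hz, map_zero, zero_add] at this
    exact this
  · rintro ⟨y, rfl⟩
    have h : d R A (m + 1) ∘ₗ d R A m = 0 := by
      ext x
      exact d_comp_d R A m x
    have h' : (D R A (m + 1)) ∘ₗ (D R A m) = 0 := by
      rw [← lTensor_d, ← lTensor_d, ← LinearMap.lTensor_comp, h, LinearMap.lTensor_zero]
    exact DFunLike.congr_fun h' y

theorem main [Module.FaithfullyFlat R A] (n : ℕ) (hn : 0 < n) : (K R A).ExactAt n := by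
  obtain ⟨m, rfl⟩ : ∃ m, n = m + 1 := ⟨n - 1, by omega⟩
  rw [HomologicalComplex.exactAt_iff' _ m (m + 1) (m + 1 + 1) (by simp) (by simp),
    ShortComplex.ab_exact_iff_function_exact]
  intro x
  have h := exact_d R A m x
  constructor
  · intro hx
    obtain ⟨y, hy⟩ := h.1 ((K_d_apply R A (m + 1) x).symm.trans hx)
    exact ⟨y, (K_d_apply R A m y).trans hy⟩
  · rintro ⟨y, rfl⟩
    exact (K_d_apply R A (m + 1) _).trans (h.2 ⟨y, (K_d_apply R A m y).symm⟩)

end Groth.Agent.R2.H60.Amitsur
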