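import Mathlib

/-!
# Beauville–Laszlo gluing for points of quasi-affine schemes (helper60)

`φ : A → A'`, `t ∈ A` with `A/t^m ≅ A'/t^m` for all `m` and `φ` bijective on `t`-power torsion.
Then `A = A' ×_{A'[1/t]} A[1/t]`, and `Spec A' ⊔ Spec A[1/t] → Spec A` is surjective.
-/

set_option autoImplicit false
universe u

open AlgebraicGeometry CategoryTheory

namespace Groth.Agent.R2.H60.BLGlue

section Algebra

variable {A A' : Type u} [CommRing A] [CommRing A'] (φ : A →+* A') (t : A)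

/-- the hypotheses -/
structure Hyp : Prop where
  hq : ∀ m : ℕ, Function.Bijective
    (Ideal.quotientMap (Ideal.map φ (Ideal.span {t} ^ m)) φ Ideal.le_comap_map)
  htor : ∀ a' : A', (∃ m : ℕ, φ t ^ m * a' = 0) →
    ∃! a : A, (∃ m : ℕ, t ^ m * a = 0) ∧ φ a = a'

variable {φ t}

lemma alg_eq_zero_iff (a : A) :
    algebraMap A (Localization.Away t) a = 0 ↔ ∃ m : ℕ, t ^ m * a = 0 := by
  rw [← map_zero (algebraMap A (Localization.Away t)),
    IsLocalization.eq_iff_exists (Submonoid.powers t)]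
  constructor
  · rintro ⟨⟨_, m, rfl⟩, h⟩
    exact ⟨m, by simpa using h⟩
  · rintro ⟨m, h⟩
    exact ⟨⟨t ^ m, m, rfl⟩, by simpa using h⟩

lemma alg'_eq_zero_iff (a' : A') :
    algebraMap A' (Localization.Away (φ t)) a' = 0 ↔ ∃ m : ℕ, φ t ^ m * a' = 0 := by
  rw [← map_zero (algebraMap A' (Localization.Away (φ t))),
    IsLocalization.eq_iff_exists (Submonoid.powers (φ t))]
  constructor
  · rintro ⟨⟨_, m, rfl⟩, h⟩
    exact ⟨m, by simpa using h⟩
  · rintro ⟨m, h⟩
    exact ⟨⟨φ t ^ m, m, rfl⟩, by simpa using h⟩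

/-- (F1) joint injectivity -/
lemma joint_inj (H : Hyp φ t) (a b : A) (h1 : φ a = φ b)
    (h2 : algebraMap A (Localization.Away t) a = algebraMap A (Localization.Away t) b) :
    a = b := by
  have hd : algebraMap A (Localization.Away t) (a - b) = 0 := by rw [map_sub, h2, sub_self]
  have hd' : φ (a - b) = 0 := by rw [map_sub, h1, sub_self]
  obtain ⟨m, hm⟩ := (alg_eq_zero_iff (a - b)).mp hd
  obtain ⟨z, -, hz⟩ := H.htor 0 ⟨0, by simp⟩
  have e1 := hz (a - b) ⟨⟨m, hm⟩, hd'⟩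
  have e2 := hz 0 ⟨⟨0, by simp⟩, map_zero φ⟩
  exact sub_eq_zero.mp (e1.trans e2.symm)

lemma mem_map_span_pow (n : ℕ) (x : A') :
    x ∈ Ideal.map φ (Ideal.span {t} ^ n) ↔ ∃ b' : A', x = φ t ^ n * b' := by
  rw [Ideal.span_singleton_pow, Ideal.map_span, Set.image_singleton, map_pow,
    Ideal.mem_span_singleton']
  constructor
  · rintro ⟨b', rfl⟩; exact ⟨b', mul_comm _ _⟩
  · rintro ⟨b', rfl⟩; exact ⟨b', mul_comm _ _⟩

lemma mem_span_pow (n : ℕ) (x : A) :
    x ∈ Ideal.span {t} ^ n ↔ ∃ d : A, x = t ^ n * d := by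
  rw [Ideal.span_singleton_pow, Ideal.mem_span_singleton']
  constructor
  · rintro ⟨b', rfl⟩; exact ⟨b', mul_comm _ _⟩
  · rintro ⟨b', rfl⟩; exact ⟨b', mul_comm _ _⟩

/-- surjectivity mod `t^n` -/
lemma exists_approx (H : Hyp φ t) (n : ℕ) (a' : A') :
    ∃ (a₀ : A) (b' : A'), a' = φ a₀ + φ t ^ n * b' := by
  obtain ⟨q, hq⟩ := (H.hq n).2 (Ideal.Quotient.mk _ a')
  obtain ⟨a₀, rfl⟩ := Ideal.Quotient.mk_surjective q
  rw [Ideal.quotientMap_mk, Ideal.Quotient.eq] at hq
  obtain ⟨b', hb'⟩ := (mem_map_span_pow n _).mp hq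
  exact ⟨a₀, -b', by linear_combination -hb'⟩

/-- injectivity mod `t^n` -/
lemma exists_of_map_mem (H : Hyp φ t) (n : ℕ) (c : A) (b' : A') (h : φ c = φ t ^ n * b') :
    ∃ d : A, c = t ^ n * d := by
  have h0 : Ideal.quotientMap (Ideal.map φ (Ideal.span {t} ^ n)) φ Ideal.le_comap_map
      (Ideal.Quotient.mk _ c) = Ideal.quotientMap (Ideal.map φ (Ideal.span {t} ^ n)) φ
        Ideal.le_comap_map 0 := by
    rw [Ideal.quotientMap_mk, map_zero, Ideal.Quotient.eq_zero_iff_mem, mem_map_span_pow]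
    exact ⟨b', h⟩
  have h1 := (H.hq n).1 h0
  rw [Ideal.Quotient.eq_zero_iff_mem, mem_span_pow] at h1
  exact h1

lemma awayMap_alg (a : A) :
    Localization.awayMap φ t (algebraMap A (Localization.Away t) a) =
      algebraMap A' (Localization.Away (φ t)) (φ a) := by
  simp [Localization.awayMap, IsLocalization.Away.map, IsLocalization.map_eq]

lemma isUnit_alg_pow (n : ℕ) : IsUnit (algebraMap A (Localization.Away t) (t ^ n)) := by
  rw [map_pow]
  exact (IsLocalization.Away.algebraMap_isUnit t).pow n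

/-- (F2) gluing -/
lemma glue (H : Hyp φ t) (a' : A') (b : Localization.Away t)
    (h : algebraMap A' (Localization.Away (φ t)) a' = Localization.awayMap φ t b) :
    ∃ a : A, φ a = a' ∧ algebraMap A (Localization.Away t) a = b := by
  -- write `b = c / t^m`
  obtain ⟨⟨c, ⟨_, m, rfl⟩⟩, hc⟩ := IsLocalization.surj (Submonoid.powers t) b
  simp only at hc
  -- `φ t ^ n * a' = φ c₁`, `b * t ^ n = c₁`
  have h1 : algebraMap A' (Localization.Away (φ t)) (a' * φ t ^ m - φ c) = 0 := by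
    rw [map_sub, map_mul, h, ← map_pow, ← awayMap_alg, ← awayMap_alg, ← map_mul, hc, sub_self]
  obtain ⟨k, hk⟩ := (alg'_eq_zero_iff _).mp h1
  obtain ⟨n, c₁, e1, e2⟩ : ∃ (n : ℕ) (c₁ : A), φ t ^ n * a' = φ c₁ ∧
      b * algebraMap A (Localization.Away t) (t ^ n) =
        algebraMap A (Localization.Away t) c₁ := by
    refine ⟨m + k, t ^ k * c, ?_, ?_⟩
    · rw [map_mul, map_pow, pow_add]
      linear_combination hk
    · rw [map_mul, ← hc, pow_add, map_mul]
      ring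
  obtain ⟨a₀, b', hab⟩ := exists_approx H n a'
  have e3 : φ (c₁ - t ^ n * a₀) = φ t ^ (2 * n) * b' := by
    rw [map_sub, map_mul, map_pow, ← e1, hab]
    ring
  obtain ⟨d, hd⟩ := exists_of_map_mem H (2 * n) _ b' e3
  obtain ⟨a₁, e4⟩ : ∃ a₁ : A, c₁ = t ^ n * a₁ :=
    ⟨a₀ + t ^ n * d, by linear_combination hd⟩
  have e5 : algebraMap A (Localization.Away t) a₁ = b := by
    apply (isUnit_alg_pow (t := t) n).mul_left_injective
    show _ * _ = _ * _
    rw [e2, e4, map_mul]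
    ring
  have e6 : φ t ^ n * (a' - φ a₁) = 0 := by
    rw [mul_sub, e1, e4, map_mul, map_pow, sub_self]
  obtain ⟨τ, ⟨⟨j, hj⟩, hτ⟩, -⟩ := H.htor (a' - φ a₁) ⟨n, e6⟩
  refine ⟨a₁ + τ, by rw [map_add, hτ]; ring, ?_⟩
  rw [map_add, e5, (alg_eq_zero_iff τ).mpr ⟨j, hj⟩, add_zero]

/-- (F3) `Spec A' ⊔ Spec A[1/t] → Spec A` is surjective -/
lemma spec_cover (H : Hyp φ t) (𝔭 : PrimeSpectrum A) :
    (∃ 𝔮 : PrimeSpectrum A', PrimeSpectrum.comap φ 𝔮 = 𝔭) ∨
    (∃ 𝔮 : PrimeSpectrum (Localization.Away t),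
      PrimeSpectrum.comap (algebraMap A (Localization.Away t)) 𝔮 = 𝔭) := by
  by_cases ht : t ∈ 𝔭.asIdeal
  · left
    let I : Ideal A := Ideal.span {t} ^ 1
    let I' : Ideal A' := Ideal.map φ I
    let q := Ideal.quotientMap I' φ (Ideal.le_comap_map : I ≤ I'.comap φ)
    let e := RingEquiv.ofBijective q (H.hq 1)
    have hI : I ≤ 𝔭.asIdeal := by
      show Ideal.span {t} ^ 1 ≤ _
      rw [pow_one, Ideal.span_singleton_le_iff_mem]; exact ht
    obtain ⟨𝔭₁, h𝔭₁⟩ : 𝔭 ∈ Set.range (PrimeSpectrum.comap (Ideal.Quotient.mk I)) := by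
      rw [_root_.range_comap_of_surjective _ _ Ideal.Quotient.mk_surjective, Ideal.mk_ker]
      exact hI
    let 𝔭₂ : PrimeSpectrum (A' ⧸ I') := PrimeSpectrum.comap e.symm.toRingHom 𝔭₁
    refine ⟨PrimeSpectrum.comap (Ideal.Quotient.mk I') 𝔭₂, ?_⟩
    rw [← h𝔭₁]
    ext x
    have hx : e.symm (Ideal.Quotient.mk I' (φ x)) = Ideal.Quotient.mk I x := by
      rw [RingEquiv.symm_apply_eq]; rfl
    show e.symm (Ideal.Quotient.mk I' (φ x)) ∈ 𝔭₁.asIdeal ↔ Ideal.Quotient.mk I x ∈ 𝔭₁.asIdeal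
    rw [hx]
  · right
    have : 𝔭 ∈ Set.range (PrimeSpectrum.comap (algebraMap A (Localization.Away t))) := by
      rw [PrimeSpectrum.localization_away_comap_range (Localization.Away t) t]
      exact ht
    exact this

/-- the ring hom into `A` glued from compatible ring homs into `A'` and `A[1/t]` -/
lemma exists_glue_hom (H : Hyp φ t) {B : Type u} [CommRing B] (ψ' : B →+* A')
    (ψt : B →+* Localization.Away t)
    (h : (algebraMap A' (Localization.Away (φ t))).comp ψ' = (Localization.awayMap φ t).comp ψt) :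
    ∃ ψ : B →+* A, φ.comp ψ = ψ' ∧ (algebraMap A (Localization.Away t)).comp ψ = ψt := by
  have hex : ∀ g : B, ∃ a : A, φ a = ψ' g ∧ algebraMap A (Localization.Away t) a = ψt g :=
    fun g => glue H (ψ' g) (ψt g) (congrArg (fun k : B →+* _ => k g) h)
  choose ψ hψ1 hψ2 using hex
  refine ⟨{ toFun := ψ, map_one' := ?_, map_mul' := ?_, map_zero' := ?_, map_add' := ?_ },
    RingHom.ext hψ1, RingHom.ext hψ2⟩
  · exact joint_inj H _ _ (by rw [hψ1]; simp) (by rw [hψ2]; simp)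
  · intro x y
    exact joint_inj H _ _ (by rw [hψ1, map_mul, map_mul, hψ1, hψ1])
      (by rw [hψ2, map_mul, map_mul, hψ2, hψ2])
  · exact joint_inj H _ _ (by rw [hψ1]; simp) (by rw [hψ2]; simp)
  · intro x y
    exact joint_inj H _ _ (by rw [hψ1, map_add, map_add, hψ1, hψ1])
      (by rw [hψ2, map_add, map_add, hψ2, hψ2])

end Algebra

section Geometry

/-- The ring map of a morphism from an affine scheme to a scheme. -/
noncomputable def ringOf {X : Scheme.{u}} {B : CommRingCat.{u}} (y : Spec B ⟶ X) : Γ(X, ⊤) ⟶ B :=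
  Spec.preimage (y ≫ X.toSpecΓ)

lemma map_ringOf {X : Scheme.{u}} {B : CommRingCat.{u}} (y : Spec B ⟶ X) :
    Spec.map (ringOf y) = y ≫ X.toSpecΓ := Spec.map_preimage _

lemma ringOf_comp {X : Scheme.{u}} {B C : CommRingCat.{u}} (g : B ⟶ C) (y : Spec B ⟶ X) :
    ringOf (Spec.map g ≫ y) = ringOf y ≫ g := by
  apply Spec.map_injective
  rw [map_ringOf, Spec.map_comp, map_ringOf, Category.assoc]

lemma ringOf_injective {X : Scheme.{u}} [X.IsQuasiAffine] {B : CommRingCat.{u}} :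
    Function.Injective (ringOf : (Spec B ⟶ X) → (Γ(X, ⊤) ⟶ B)) := by
  intro y z h
  have := congrArg Spec.map h
  rw [map_ringOf, map_ringOf] at this
  exact (cancel_mono X.toSpecΓ).mp this

variable {A A' : Type u} [CommRing A] [CommRing A'] {φ : A →+* A'} {t : A}

theorem unique_section (H : Hyp φ t) (X : Scheme.{u}) [X.IsQuasiAffine]
    (s₁ s₂ : Spec (CommRingCat.of A) ⟶ X)
    (h1 : Spec.map (CommRingCat.ofHom φ) ≫ s₁ = Spec.map (CommRingCat.ofHom φ) ≫ s₂)
    (h2 : Spec.map (CommRingCat.ofHom (algebraMap A (Localization.Away t))) ≫ s₁ =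
      Spec.map (CommRingCat.ofHom (algebraMap A (Localization.Away t))) ≫ s₂) : s₁ = s₂ := by
  apply ringOf_injective
  have e1 := congrArg ringOf h1
  have e2 := congrArg ringOf h2
  rw [ringOf_comp, ringOf_comp] at e1 e2
  apply CommRingCat.hom_ext
  apply RingHom.ext
  intro g
  exact joint_inj H _ _ (ConcreteCategory.congr_hom e1 g) (ConcreteCategory.congr_hom e2 g)

theorem exists_section (H : Hyp φ t) (X : Scheme.{u}) [X.IsQuasiAffine]
    (p : X ⟶ Spec (CommRingCat.of A))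
    (x' : Spec (CommRingCat.of A') ⟶ X) (xt : Spec (CommRingCat.of (Localization.Away t)) ⟶ X)
    (hx' : x' ≫ p = Spec.map (CommRingCat.ofHom φ))
    (hxt : xt ≫ p = Spec.map (CommRingCat.ofHom (algebraMap A (Localization.Away t))))
    (hcomp : Spec.map (CommRingCat.ofHom (algebraMap A' (Localization.Away (φ t)))) ≫ x' =
      Spec.map (CommRingCat.ofHom (Localization.awayMap φ t)) ≫ xt) :
    ∃ s : Spec (CommRingCat.of A) ⟶ X, s ≫ p = 𝟙 _ ∧
      Spec.map (CommRingCat.ofHom φ) ≫ s = x' ∧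
      Spec.map (CommRingCat.ofHom (algebraMap A (Localization.Away t))) ≫ s = xt := by
  have hc : (algebraMap A' (Localization.Away (φ t))).comp (ringOf x').hom =
      (Localization.awayMap φ t).comp (ringOf xt).hom := by
    have := congrArg ringOf hcomp
    rw [ringOf_comp, ringOf_comp] at this
    exact congrArg CommRingCat.Hom.hom this
  obtain ⟨ψ, hψ1, hψ2⟩ := exists_glue_hom H (ringOf x').hom (ringOf xt).hom hc
  let s₀ : Spec (CommRingCat.of A) ⟶ Spec Γ(X, ⊤) := Spec.map (CommRingCat.ofHom ψ)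
  have e1 : Spec.map (CommRingCat.ofHom φ) ≫ s₀ = x' ≫ X.toSpecΓ := by
    rw [← map_ringOf, ← Spec.map_comp]
    congr 1
    exact CommRingCat.hom_ext hψ1
  have e2 : Spec.map (CommRingCat.ofHom (algebraMap A (Localization.Away t))) ≫ s₀ =
      xt ≫ X.toSpecΓ := by
    rw [← map_ringOf, ← Spec.map_comp]
    congr 1
    exact CommRingCat.hom_ext hψ2
  have hrange : Set.range s₀ ⊆ Set.range X.toSpecΓ := by
    rintro _ ⟨𝔭, rfl⟩
    rcases spec_cover H 𝔭 with ⟨𝔮, h𝔮⟩ | ⟨𝔮, h𝔮⟩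
    · let 𝔮' : ↥(Spec (CommRingCat.of A')) := 𝔮
      have h3 : Spec.map (CommRingCat.ofHom φ) 𝔮' = 𝔭 := h𝔮
      refine ⟨x' 𝔮', ?_⟩
      rw [← h3, ← Scheme.Hom.comp_apply, ← Scheme.Hom.comp_apply, e1]
    · let 𝔮' : ↥(Spec (CommRingCat.of (Localization.Away t))) := 𝔮
      have h3 : Spec.map (CommRingCat.ofHom (algebraMap A (Localization.Away t))) 𝔮' = 𝔭 := h𝔮
      refine ⟨xt 𝔮', ?_⟩
      rw [← h3, ← Scheme.Hom.comp_apply, ← Scheme.Hom.comp_apply, e2]
  let s := IsOpenImmersion.lift X.toSpecΓ s₀ hrange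
  have hs : s ≫ X.toSpecΓ = s₀ := IsOpenImmersion.lift_fac _ _ _
  have h1 : Spec.map (CommRingCat.ofHom φ) ≫ s = x' := by
    rw [← cancel_mono X.toSpecΓ, Category.assoc, hs, e1]
  have h2 : Spec.map (CommRingCat.ofHom (algebraMap A (Localization.Away t))) ≫ s = xt := by
    rw [← cancel_mono X.toSpecΓ, Category.assoc, hs, e2]
  refine ⟨s, ?_, h1, h2⟩
  obtain ⟨χ, hχ⟩ : ∃ χ : CommRingCat.of A ⟶ CommRingCat.of A, Spec.map χ = s ≫ p :=
    ⟨Spec.preimage _, Spec.map_preimage _⟩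
  have k1 : χ ≫ CommRingCat.ofHom φ = CommRingCat.ofHom φ := by
    apply Spec.map_injective
    rw [Spec.map_comp, hχ, ← Category.assoc, h1, hx']
  have k2 : χ ≫ CommRingCat.ofHom (algebraMap A (Localization.Away t)) =
      CommRingCat.ofHom (algebraMap A (Localization.Away t)) := by
    apply Spec.map_injective
    rw [Spec.map_comp, hχ, ← Category.assoc, h2, hxt]
  have hχ1 : χ = 𝟙 _ := by
    apply CommRingCat.hom_ext
    apply RingHom.ext
    intro a
    exact joint_inj H _ _ (ConcreteCategory.congr_hom k1 a) (ConcreteCategory.congr_hom k2 a)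
  rw [← hχ, hχ1, Spec.map_id]

end Geometry

end Groth.Agent.R2.H60.BLGlue
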