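import Mathlib
import Groth.Agent.Lib.Helper18NormalSepClosed3

/-!
The localization of the integral closure of a discrete valuation ring in the fixed field of (a
subgroup of) the decomposition group is henselian.
-/

set_option autoImplicit false
universe u

namespace Groth.Agent.R2.H60.DecompHensel

open Polynomial IsLocalRing IntermediateField

section density

variable {K Ks : Type*} [Field K] [Field Ks] [Algebra K Ks]

/-- elementwise density of a subgroup of the Galois group in the fixing subgroup of its fixed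
field -/
theorem exists_mem_apply_eq [Normal K Ks] (H : Subgroup (Ks ≃ₐ[K] Ks)) (σ : Ks ≃ₐ[K] Ks)
    (hσ : ∀ y ∈ fixedField H, σ y = y) (x : Ks) : ∃ h ∈ H, h x = σ x := by
  have halg : IsIntegral K x := Normal.isIntegral inferInstance x
  haveI : FiniteDimensional K K⟮x⟯ := adjoin.finiteDimensional halg
  let M : IntermediateField K Ks := normalClosure K K⟮x⟯ Ks
  have hxM : x ∈ M := le_normalClosure K⟮x⟯ (mem_adjoin_simple_self K x)
  let res : (Ks ≃ₐ[K] Ks) →* (M ≃ₐ[K] M) := AlgEquiv.restrictNormalHom M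
  have hres : ∀ (τ : Ks ≃ₐ[K] Ks) (y : M), ((res τ y : M) : Ks) = τ (y : Ks) :=
    fun τ y => AlgEquiv.restrictNormal_commutes τ M y
  have key : res σ ∈ fixingSubgroup (fixedField (H.map res)) := by
    rw [IntermediateField.mem_fixingSubgroup_iff]
    intro y hy
    apply Subtype.ext
    rw [hres]
    apply hσ
    rw [mem_fixedField_iff]
    intro h hh
    rw [mem_fixedField_iff] at hy
    have := hy (res h) (Subgroup.mem_map_of_mem res hh)
    rw [← hres, this]
  rw [fixingSubgroup_fixedField] at key
  obtain ⟨h, hh, hhσ⟩ := Subgroup.mem_map.mp key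
  refine ⟨h, hh, ?_⟩
  have := hres h ⟨x, hxM⟩
  rw [hhσ, hres] at this
  exact this.symm

end density

section descent

/-- uniqueness of a simple root in a residue class of a local ring -/
theorem root_unique {T : Type*} [CommRing T] [IsLocalRing T] (F : T[X]) (t t' : T)
    (ht : F.eval t = 0) (ht' : F.eval t' = 0) (hd : IsUnit (F.derivative.eval t))
    (hm : t' - t ∈ maximalIdeal T) : t' = t := by
  obtain ⟨k, hk⟩ := Polynomial.binomExpansion F t (t' - t)
  rw [add_sub_cancel, ht, ht', zero_add] at hk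
  have hu : IsUnit (F.derivative.eval t + k * (t' - t)) := by
    by_contra hnu
    have h1 : F.derivative.eval t + k * (t' - t) ∈ maximalIdeal T := (mem_maximalIdeal _).2 hnu
    have h2 : k * (t' - t) ∈ maximalIdeal T := Ideal.mul_mem_left _ _ hm
    have h3 : F.derivative.eval t ∈ maximalIdeal T := by
      have := Ideal.sub_mem _ h1 h2
      rwa [add_sub_cancel_right] at this
    exact (mem_maximalIdeal _).1 h3 hd
  have h0 : (F.derivative.eval t + k * (t' - t)) * (t' - t) = 0 := by
    rw [hk]; ring
  have := (hu.mul_right_eq_zero).mp h0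
  exact sub_eq_zero.mp this

/-- descent of the henselian property to a subring of invariants -/
theorem henselian_of_invariants {A T : Type*} [CommRing A] [IsLocalRing A] [CommRing T]
    [HenselianLocalRing T] (ψ : A →+* T) [IsLocalHom ψ] (hψ : Function.Injective ψ)
    (G : Set (T →+* T)) (hG1 : ∀ τ ∈ G, ∀ a, τ (ψ a) = ψ a)
    (hG2 : ∀ τ ∈ G, ∀ t, t ∈ maximalIdeal T → τ t ∈ maximalIdeal T)
    (hinv : ∀ t : T, (∀ τ ∈ G, τ t = t) → (∃ F : A[X], F.Monic ∧ (F.map ψ).eval t = 0) →
      ∃ a, ψ a = t) : HenselianLocalRing A := by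
  refine ⟨fun F hF a₀ h₁ h₂ => ?_⟩
  have e1 : (F.map ψ).eval (ψ a₀) = ψ (F.eval a₀) := by rw [eval_map, eval₂_at_apply]
  have e2 : (F.map ψ).derivative.eval (ψ a₀) = ψ (F.derivative.eval a₀) := by
    rw [derivative_map, eval_map, eval₂_at_apply]
  have hm1 : (F.map ψ).eval (ψ a₀) ∈ maximalIdeal T := by
    rw [e1, mem_maximalIdeal, mem_nonunits_iff]
    intro hu
    exact (mem_maximalIdeal _).1 h₁ (isUnit_of_map_unit ψ _ hu)
  have hu1 : IsUnit ((F.map ψ).derivative.eval (ψ a₀)) := by
    rw [e2]; exact h₂.map ψ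
  obtain ⟨t, ht, htm⟩ := HenselianLocalRing.is_henselian (F.map ψ) (hF.map ψ) (ψ a₀) hm1 hu1
  have hdt : IsUnit ((F.map ψ).derivative.eval t) := by
    by_contra hnu
    have h1 : (F.map ψ).derivative.eval t ∈ maximalIdeal T := (mem_maximalIdeal _).2 hnu
    have h2 : (F.map ψ).derivative.eval t - (F.map ψ).derivative.eval (ψ a₀) ∈ maximalIdeal T := by
      obtain ⟨c, hc⟩ := Polynomial.sub_dvd_eval_sub t (ψ a₀) (F.map ψ).derivative
      rw [hc]
      exact Ideal.mul_mem_right _ _ htm
    have h3 := Ideal.sub_mem _ h1 h2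
    rw [sub_sub_cancel] at h3
    exact (mem_maximalIdeal _).1 h3 hu1
  have hfix : ∀ τ ∈ G, τ t = t := by
    intro τ hτ
    apply root_unique (F.map ψ) t (τ t) ht _ hdt
    · have : τ t - t = τ (t - ψ a₀) - (t - ψ a₀) := by
        rw [map_sub, hG1 τ hτ]; ring
      rw [this]
      exact Ideal.sub_mem _ (hG2 τ hτ _ htm) htm
    · have hcomp : τ.comp ψ = ψ := RingHom.ext (hG1 τ hτ)
      have : (F.map ψ).eval (τ t) = τ ((F.map ψ).eval t) := by
        rw [eval_map, eval_map, Polynomial.hom_eval₂, hcomp]
      rw [this, ht, map_zero]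
  obtain ⟨a, ha⟩ := hinv t hfix ⟨F, hF, ht⟩
  refine ⟨a, ?_, ?_⟩
  · apply hψ
    rw [IsRoot.def] at ht
    rw [map_zero, ← ht, ← ha, eval_map, eval₂_at_apply]
  · rw [mem_maximalIdeal, mem_nonunits_iff]
    intro hu
    have h1 : IsUnit (t - ψ a₀) := by
      rw [← ha, ← map_sub]; exact hu.map ψ
    exact (mem_maximalIdeal _).1 htm h1

end descent

section galois

variable (R : Type u) {K Ks : Type u} [CommRing R] [Field K] [Algebra R K]
  [Field Ks] [Algebra K Ks] [Algebra R Ks] [IsScalarTower R K Ks]

/-- the automorphism of the integral closure induced by a field automorphism -/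
noncomputable def resInt (σ : Ks ≃ₐ[K] Ks) : integralClosure R Ks →ₐ[R] integralClosure R Ks :=
  ((σ.toAlgHom.restrictScalars R).comp (integralClosure R Ks).val).codRestrict
    (integralClosure R Ks) (fun x => IsIntegral.map (σ.toAlgHom.restrictScalars R) x.2)

@[simp] lemma resInt_coe (σ : Ks ≃ₐ[K] Ks) (x : integralClosure R Ks) :
    ((resInt R σ x : integralClosure R Ks) : Ks) = σ (x : Ks) := rfl

lemma resInt_one (x : integralClosure R Ks) : resInt R (1 : Ks ≃ₐ[K] Ks) x = x :=
  Subtype.ext rfl

lemma resInt_mul (σ τ : Ks ≃ₐ[K] Ks) (x : integralClosure R Ks) :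
    resInt R (σ * τ) x = resInt R σ (resInt R τ x) := Subtype.ext rfl

variable {R}

/-- automorphisms stabilising a maximal ideal of the integral closure -/
lemma stab_of_le (Ps : Ideal (integralClosure R Ks)) [Ps.IsMaximal] (σ : Ks ≃ₐ[K] Ks)
    (h : ∀ x : integralClosure R Ks, x ∈ Ps → resInt R σ x ∈ Ps) :
    ∀ x : integralClosure R Ks, resInt R σ x ∈ Ps ↔ x ∈ Ps := by
  have hle : Ps ≤ Ps.comap (resInt R σ).toRingHom := fun x hx => h x hx
  have hne : Ps.comap (resInt R σ).toRingHom ≠ ⊤ :=
    Ideal.comap_ne_top _ (Ideal.IsMaximal.ne_top inferInstance)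
  have := Ideal.IsMaximal.eq_of_le inferInstance hne hle
  intro x
  constructor
  · intro hx
    rw [this]
    exact hx
  · exact h x

lemma stab_closure (Ps : Ideal (integralClosure R Ks)) [Ps.IsMaximal] (S : Set (Ks ≃ₐ[K] Ks))
    (hS : ∀ σ ∈ S, ∀ x : integralClosure R Ks, x ∈ Ps → resInt R σ x ∈ Ps)
    (σ : Ks ≃ₐ[K] Ks) (hσ : σ ∈ Subgroup.closure S) :
    ∀ x : integralClosure R Ks, resInt R σ x ∈ Ps ↔ x ∈ Ps := by
  induction hσ using Subgroup.closure_induction with
  | mem σ hσ => exact stab_of_le Ps σ (hS σ hσ)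
  | one => intro x; rw [resInt_one]
  | mul σ τ _ _ h1 h2 => intro x; rw [resInt_mul, h1, h2]
  | inv σ _ h1 =>
    intro x
    rw [← h1 (resInt R σ⁻¹ x), ← resInt_mul, mul_inv_cancel, resInt_one]

/-- every automorphism fixing the fixed field of a subgroup of the stabiliser stabilises `Ps` -/
lemma stab_of_fixing [Normal K Ks] (Ps : Ideal (integralClosure R Ks)) [Ps.IsMaximal]
    (S : Set (Ks ≃ₐ[K] Ks))
    (hS : ∀ σ ∈ S, ∀ x : integralClosure R Ks, x ∈ Ps → resInt R σ x ∈ Ps)
    (σ : Ks ≃ₐ[K] Ks) (hσ : ∀ y ∈ fixedField (Subgroup.closure S), σ y = y) :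
    ∀ x : integralClosure R Ks, resInt R σ x ∈ Ps ↔ x ∈ Ps := by
  have half : ∀ τ : Ks ≃ₐ[K] Ks, (∀ y ∈ fixedField (Subgroup.closure S), τ y = y) →
      ∀ x : integralClosure R Ks, x ∈ Ps → resInt R τ x ∈ Ps := by
    intro τ hτ x hx
    obtain ⟨h, hh, hhx⟩ := exists_mem_apply_eq (Subgroup.closure S) τ hτ (x : Ks)
    have h1 : resInt R τ x = resInt R h x := Subtype.ext hhx.symm
    rw [h1]
    exact (stab_closure Ps S hS h hh x).mpr hx
  have hinv : ∀ y ∈ fixedField (Subgroup.closure S), σ⁻¹ y = y := by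
    intro y hy
    have := hσ y hy
    calc σ⁻¹ y = σ⁻¹ (σ y) := by rw [this]
      _ = y := by
        show σ.symm (σ y) = y
        exact σ.symm_apply_apply y
  intro x
  constructor
  · intro hx
    have := half σ⁻¹ hinv _ hx
    rwa [← resInt_mul, inv_mul_cancel, resInt_one] at this
  · exact half σ hσ x

end galois

section generic

/-- the localization of a normal domain at a prime, inside the fraction field -/
theorem exists_embedding {C E : Type u} [CommRing C] [IsDomain C] [IsIntegrallyClosed C]
    [Field E] [Algebra C E] [IsFractionRing C E] (P : Ideal C) [P.IsPrime] :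
    ∃ ι : Localization.AtPrime P →+* E, Function.Injective ι ∧
      (∀ c, ι (algebraMap C (Localization.AtPrime P) c) = algebraMap C E c) ∧
      (∀ e : E, (∃ F : (Localization.AtPrime P)[X], F.Monic ∧ (F.map ι).eval e = 0) →
        ∃ a, ι a = e) ∧
      (IsSepClosed E → HenselianLocalRing (Localization.AtPrime P)) := by
  have hM : P.primeCompl ≤ nonZeroDivisors C := P.primeCompl_le_nonZeroDivisors
  haveI : IsDomain (Localization.AtPrime P) :=
    IsLocalization.isDomain_of_atPrime (Localization.AtPrime P) P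
  haveI : IsIntegrallyClosed (Localization.AtPrime P) :=
    isIntegrallyClosed_of_isLocalization _ P.primeCompl hM
  have hunits : ∀ y : P.primeCompl, IsUnit (algebraMap C E y) := by
    intro y
    apply IsUnit.mk0
    intro h0
    have : (y : C) = 0 := (IsFractionRing.injective C E) (by rw [h0, map_zero])
    exact y.2 (this ▸ P.zero_mem)
  let ι : Localization.AtPrime P →+* E :=
    IsLocalization.lift (M := P.primeCompl) (S := Localization.AtPrime P) hunits
  letI : Algebra (Localization.AtPrime P) E := ι.toAlgebra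
  haveI : IsScalarTower C (Localization.AtPrime P) E :=
    IsScalarTower.of_algebraMap_eq (fun c => (IsLocalization.lift_eq hunits c).symm)
  haveI : IsFractionRing (Localization.AtPrime P) E :=
    IsFractionRing.isFractionRing_of_isDomain_of_isLocalization P.primeCompl _ E
  refine ⟨ι, IsFractionRing.injective (Localization.AtPrime P) E,
    fun c => IsLocalization.lift_eq hunits c, ?_, ?_⟩
  · rintro e ⟨F, hF, he⟩
    apply IsIntegrallyClosed.algebraMap_eq_of_integral
    refine ⟨F, hF, ?_⟩
    rw [eval₂_eq_eval_map]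
    exact he
  · intro hsep
    exact (Groth.Agent.Lib.Helper18NormalSepClosed3.main' (A := Localization.AtPrime P) E).1

theorem integralClosure_props (R K E : Type u) [CommRing R] [IsDomain R] [Field K] [Algebra R K]
    [IsFractionRing R K] [Field E] [Algebra K E] [Algebra R E] [IsScalarTower R K E]
    [Algebra.IsAlgebraic K E] :
    IsFractionRing (integralClosure R E) E ∧ IsIntegrallyClosed (integralClosure R E) := by
  haveI : Algebra.IsAlgebraic R E := IsFractionRing.comap_isAlgebraic_iff.mpr
    (inferInstance : Algebra.IsAlgebraic K E)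
  have inj : ∀ x, algebraMap R E x = 0 → x = 0 := by
    intro x hx
    rw [IsScalarTower.algebraMap_apply R K E] at hx
    exact IsFractionRing.to_map_eq_zero_iff.mp ((map_eq_zero (algebraMap K E)).mp hx)
  haveI h1 : IsFractionRing (integralClosure R E) E :=
    integralClosure.isFractionRing_of_algebraic inj
  exact ⟨h1, (IsIntegrallyClosed.integralClosure_eq_bot_iff E).mp integralClosure_idem⟩

end generic

section main

variable {R K Ks : Type u} [CommRing R] [IsDomain R] [Field K] [Algebra R K] [IsFractionRing R K]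
  [Field Ks] [Algebra K Ks] [IsSepClosure K Ks] [Algebra R Ks] [IsScalarTower R K Ks]

/-- **Main theorem**: if `L` is the fixed field of the subgroup generated by a set `S` of
automorphisms mapping `Ps` into itself, the localization of the integral closure of `R` in `L` at
the prime below `Ps` is henselian. -/
theorem main (Ps : Ideal (integralClosure R Ks)) [Ps.IsMaximal]
    (S : Set (Ks ≃ₐ[K] Ks))
    (hS : ∀ σ ∈ S, ∀ x : integralClosure R Ks, x ∈ Ps →
      ∃ h : σ (x : Ks) ∈ integralClosure R Ks, (⟨σ (x : Ks), h⟩ : integralClosure R Ks) ∈ Ps)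
    (L : IntermediateField K Ks) (hL : L = IntermediateField.fixedField (Subgroup.closure S))
    (Q : Ideal (integralClosure R L)) [Q.IsPrime]
    (hQ : ∀ y : integralClosure R L, y ∈ Q ↔
      ∃ x : integralClosure R Ks, x ∈ Ps ∧ (x : Ks) = ((y : L) : Ks)) :
    HenselianLocalRing (Localization.AtPrime Q) := by
  haveI : Algebra.IsAlgebraic K Ks := (IsSepClosure.separable (k := K) (K := Ks)).isAlgebraic
  haveI : Algebra.IsAlgebraic K L := Algebra.IsAlgebraic.of_injective
    (IsScalarTower.toAlgHom K L Ks) (algebraMap L Ks).injective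
  haveI : IsScalarTower R L Ks := IsScalarTower.of_algebraMap_eq (fun r => rfl)
  have hS' : ∀ σ ∈ S, ∀ x : integralClosure R Ks, x ∈ Ps → resInt R σ x ∈ Ps := by
    intro σ hσ x hx
    obtain ⟨h, hh⟩ := hS σ hσ x hx
    exact hh
  have hstab : ∀ σ : Ks ≃ₐ[K] Ks, (∀ y ∈ L, σ y = y) →
      ∀ x : integralClosure R Ks, resInt R σ x ∈ Ps ↔ x ∈ Ps := by
    intro σ hσ
    exact stab_of_fixing Ps S hS' σ (hL ▸ hσ)
  obtain ⟨hfrs, hics⟩ := integralClosure_props R K Ks
  obtain ⟨hfrl, hicl⟩ := integralClosure_props R K L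
  obtain ⟨ιT, hιT, hιTc, -, hT⟩ := exists_embedding (C := integralClosure R Ks) (E := Ks) Ps
  obtain ⟨ιA, hιA, hιAc, hAint, -⟩ := exists_embedding (C := integralClosure R L) (E := L) Q
  haveI : HenselianLocalRing (Localization.AtPrime Ps) := hT (IsSepClosure.sep_closed K)
  -- the inclusion of integral closures
  let incl : integralClosure R L →ₐ[R] integralClosure R Ks :=
    ((IsScalarTower.toAlgHom R L Ks).comp (integralClosure R L).val).codRestrict _
      (fun y => IsIntegral.map (IsScalarTower.toAlgHom R L Ks) y.2)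
  have hincl : ∀ y, ((incl y : integralClosure R Ks) : Ks) = ((y : L) : Ks) := fun y => rfl
  have hcomap : Q = Ps.comap incl.toRingHom := by
    ext y
    rw [hQ, Ideal.mem_comap]
    constructor
    · rintro ⟨x, hx, hxy⟩
      have : x = incl y := Subtype.ext hxy
      rw [this] at hx
      exact hx
    · intro h
      exact ⟨incl y, h, rfl⟩
  let ψ : Localization.AtPrime Q →+* Localization.AtPrime Ps :=
    Localization.localRingHom Q Ps incl.toRingHom hcomap
  have hψc : ∀ b, ψ (algebraMap _ _ b) = algebraMap _ _ (incl b) :=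
    fun b => Localization.localRingHom_to_map Q Ps incl.toRingHom hcomap b
  -- compatibility of the embeddings
  have hcompat : ∀ a, ιT (ψ a) = ((ιA a : L) : Ks) := by
    intro a
    have : ιT.comp ψ = (algebraMap L Ks).comp ιA := by
      apply IsLocalization.ringHom_ext Q.primeCompl
      ext b
      simp only [RingHom.comp_apply]
      rw [hψc, hιTc, hιAc]
      rfl
    exact RingHom.congr_fun this a
  have hψinj : Function.Injective ψ := by
    intro a a' h
    apply hιA
    apply (algebraMap L Ks).injective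
    show ((ιA a : L) : Ks) = ((ιA a' : L) : Ks)
    rw [← hcompat, ← hcompat, h]
  -- the automorphisms of the big local ring
  have hcm : ∀ σ : Ks ≃ₐ[K] Ks, (∀ y ∈ L, σ y = y) → Ps = Ps.comap (resInt R σ).toRingHom := by
    intro σ hσ
    ext x
    rw [Ideal.mem_comap]
    exact (hstab σ hσ x).symm
  let G : Set (Localization.AtPrime Ps →+* Localization.AtPrime Ps) :=
    {τ | ∃ (σ : Ks ≃ₐ[K] Ks) (hσ : ∀ y ∈ L, σ y = y),
      τ = Localization.localRingHom Ps Ps (resInt R σ).toRingHom (hcm σ hσ)}
  have hτc : ∀ (σ : Ks ≃ₐ[K] Ks) (hσ : ∀ y ∈ L, σ y = y) (t : Localization.AtPrime Ps),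
      ιT (Localization.localRingHom Ps Ps (resInt R σ).toRingHom (hcm σ hσ) t) = σ (ιT t) := by
    intro σ hσ t
    have : ιT.comp (Localization.localRingHom Ps Ps (resInt R σ).toRingHom (hcm σ hσ)) =
        (σ : Ks →+* Ks).comp ιT := by
      apply IsLocalization.ringHom_ext Ps.primeCompl
      ext r
      simp only [RingHom.comp_apply]
      rw [Localization.localRingHom_to_map, hιTc, hιTc]
      rfl
    exact RingHom.congr_fun this t
  apply henselian_of_invariants ψ hψinj G
  · rintro τ ⟨σ, hσ, rfl⟩ a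
    have : (Localization.localRingHom Ps Ps (resInt R σ).toRingHom (hcm σ hσ)).comp ψ = ψ := by
      apply IsLocalization.ringHom_ext Q.primeCompl
      ext b
      simp only [RingHom.comp_apply]
      rw [hψc, Localization.localRingHom_to_map]
      congr 1
      apply Subtype.ext
      show σ ((b : L) : Ks) = ((b : L) : Ks)
      exact hσ _ (b : L).2
    exact RingHom.congr_fun this a
  · rintro τ ⟨σ, hσ, rfl⟩ t ht
    rw [mem_maximalIdeal, mem_nonunits_iff] at ht ⊢
    intro hu
    exact ht (isUnit_of_map_unit _ t hu)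
  · rintro t hfix ⟨F, hF, hFt⟩
    have hθ : ιT t ∈ L := by
      rw [← InfiniteGalois.fixedField_fixingSubgroup L, IntermediateField.mem_fixedField_iff]
      intro σ hσ
      have hσ' : ∀ y ∈ L, σ y = y := fun y hy =>
        (IntermediateField.mem_fixingSubgroup_iff L σ).mp hσ y hy
      rw [← hτc σ hσ' t, hfix _ ⟨σ, hσ', rfl⟩]
    obtain ⟨a, ha⟩ := hAint ⟨ιT t, hθ⟩ ⟨F, hF, by
      apply (algebraMap L Ks).injective
      rw [map_zero, eval_map, Polynomial.hom_eval₂]
      have h1 : (algebraMap L Ks).comp ιA = ιT.comp ψ := RingHom.ext (fun a => (hcompat a).symm)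
      have h2 : (algebraMap L Ks) ⟨ιT t, hθ⟩ = ιT t := rfl
      rw [h1, h2, ← Polynomial.hom_eval₂, ← eval_map, hFt, map_zero]⟩
    refine ⟨a, hιT ?_⟩
    rw [hcompat, ha]

end main

end Groth.Agent.R2.H60.DecompHensel
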