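import Mathlib
import Groth.Prelude.Def_FSch5

/-!
# The formal prescheme induced on an open subset (helper60)

For a system of thickenings `𝔛` and an open `U` of the common space, `𝔛.restrictOpen h U` is again a
system of thickenings; adic and locally Noetherian if `𝔛` is; with quasi-compact space if `𝔛` is
Noetherian.
-/

set_option autoImplicit false
universe u

open AlgebraicGeometry CategoryTheory CategoryTheory.Limits

namespace Groth.Agent.R2.H60.FormalOpen

section General

variable {X Y : Scheme.{u}}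

lemma ideal_comap_pow_of_bijective {R S : Type*} [CommRing R] [CommRing S] (f : R →+* S)
    (hf : Function.Bijective f) (K : Ideal S) (n : ℕ) : (K ^ n).comap f = (K.comap f) ^ n := by
  let e := RingEquiv.ofBijective f hf
  have key : ∀ K : Ideal S, K.comap f = K.map (e.symm : S →+* R) := fun K =>
    (Ideal.map_symm (I := K) e).symm
  rw [key, key, Ideal.map_pow]

/-- Pulling back ideal sheaves along an open immersion commutes with powers. -/
lemma comap_pow_of_isOpenImmersion (I : Y.IdealSheafData) (j : X ⟶ Y) [IsOpenImmersion j] (n : ℕ) :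
    (I ^ n).comap j = (I.comap j) ^ n := by
  apply Scheme.IdealSheafData.ext
  funext U
  rw [Scheme.IdealSheafData.ideal_comap_of_isOpenImmersion, Scheme.IdealSheafData.ideal_pow,
    Pi.pow_apply, Scheme.IdealSheafData.ideal_pow, Pi.pow_apply,
    Scheme.IdealSheafData.ideal_comap_of_isOpenImmersion]
  exact ideal_comap_pow_of_bijective _ (ConcreteCategory.bijective_of_isIso (j.appIso U).inv) _ n

/-- The kernel of the restriction of a closed immersion to an open of the target. -/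
lemma ker_resLE_of_isClosedImmersion (f : X ⟶ Y) [IsClosedImmersion f] (W : Y.Opens)
    (V : X.Opens) (e : f ⁻¹ᵁ W = V) : (f.resLE W V e.ge).ker = f.ker.comap W.ι := by
  subst e
  rw [Scheme.Hom.resLE_eq_morphismRestrict,
    ← Scheme.IdealSheafData.ker_fst_of_isClosedImmersion f W.ι]
  have hp := (isPullback_morphismRestrict f W)
  rw [← hp.isoPullback_hom_fst, Scheme.Hom.ker_comp_of_isIso]

lemma isClosedImmersion_resLE (f : X ⟶ Y) [IsClosedImmersion f] (W : Y.Opens)
    (V : X.Opens) (e : f ⁻¹ᵁ W = V) : IsClosedImmersion (f.resLE W V e.ge) := by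
  subst e
  rw [Scheme.Hom.resLE_eq_morphismRestrict]
  infer_instance

lemma surjective_resLE (f : X ⟶ Y) (hf : Function.Surjective f.base) (W : Y.Opens)
    (V : X.Opens) (e : f ⁻¹ᵁ W = V) : Function.Surjective (f.resLE W V e.ge).base := by
  intro y
  obtain ⟨x, hx⟩ := hf y.1
  have hxV : x ∈ V := by
    rw [← e]
    show f x ∈ W
    rw [show f x = y.1 from hx]
    exact y.2
  refine ⟨⟨x, hxV⟩, ?_⟩
  apply Subtype.ext
  rw [show ((f.resLE W V e.ge).base ⟨x, hxV⟩) = f.resLE W V e.ge ⟨x, hxV⟩ from rfl,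
    Scheme.Hom.coe_resLE_apply]
  exact hx

end General

section Sys

open FSch

variable (𝔛 : FSch.Sys.{u}) (h : 𝔛.IsFormal) (U : (𝔛.X 0).Opens)

/-- the open of level `0` over `U` is the preimage of the open of level `n`. -/
lemma toX_preimage_lvU (n : ℕ) : (𝔛.toX n) ⁻¹ᵁ (𝔛.lvU h n U) = 𝔛.lvU h 0 U := by
  induction n with
  | zero =>
    show (𝟙 (𝔛.X 0) : 𝔛.X 0 ⟶ 𝔛.X 0) ⁻¹ᵁ _ = _
    rfl
  | succ n ih =>
    show (𝔛.toX n ≫ 𝔛.ι n) ⁻¹ᵁ _ = _
    rw [Scheme.Hom.comp_preimage, 𝔛.lvU_succ h n U, ih]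

/-- `toX` of the restricted system is the restriction of `toX`. -/
lemma restrictOpen_toX (n : ℕ) :
    (𝔛.restrictOpen h U).toX n =
      (𝔛.toX n).resLE (𝔛.lvU h n U) (𝔛.lvU h 0 U) (toX_preimage_lvU 𝔛 h U n).ge := by
  induction n with
  | zero =>
    show 𝟙 _ = _
    exact ((Scheme.Hom.resLE_id (X := 𝔛.X 0) (le_refl (𝔛.lvU h 0 U))).trans
      (Scheme.homOfLE_rfl _ _)).symm
  | succ n ih =>
    have e : (𝔛.restrictOpen h U).toX (n + 1) =
        (𝔛.restrictOpen h U).toX n ≫ (𝔛.restrictOpen h U).ι n := rfl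
    rw [e, ih]
    exact Scheme.Hom.resLE_comp_resLE _ _ _ _

theorem restrictOpen_isFormal : (𝔛.restrictOpen h U).IsFormal := by
  intro n
  have := (h n).1
  exact ⟨isClosedImmersion_resLE (𝔛.ι n) _ _ (𝔛.lvU_succ h n U),
    surjective_resLE (𝔛.ι n) (h n).2 _ _ (𝔛.lvU_succ h n U)⟩

theorem restrictOpen_isAdic (had : 𝔛.IsAdic) : (𝔛.restrictOpen h U).IsAdic := by
  intro n
  have := (h n).1
  have := FSch.Sys.toX_isClosedImmersion 𝔛 h (n + 1)
  have e1 : ((𝔛.restrictOpen h U).ι n).ker = (𝔛.ι n).ker.comap (𝔛.lvU h (n + 1) U).ι :=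
    ker_resLE_of_isClosedImmersion (𝔛.ι n) _ _ (𝔛.lvU_succ h n U)
  have e2 : ((𝔛.restrictOpen h U).toX (n + 1)).ker =
      (𝔛.toX (n + 1)).ker.comap (𝔛.lvU h (n + 1) U).ι := by
    rw [restrictOpen_toX]
    exact ker_resLE_of_isClosedImmersion (𝔛.toX (n + 1)) _ _ (toX_preimage_lvU 𝔛 h U (n + 1))
  rw [e1, e2, had n]
  exact comap_pow_of_isOpenImmersion _ _ _

theorem restrictOpen_isLocNoethFormal (hN : 𝔛.IsLocNoethFormal) :
    (𝔛.restrictOpen h U).IsLocNoethFormal := by
  refine ⟨restrictOpen_isFormal 𝔛 h U, restrictOpen_isAdic 𝔛 h U hN.2.1, fun n => ?_⟩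
  have := hN.2.2 n
  show IsLocallyNoetherian (𝔛.lvU h n U).toScheme
  infer_instance

theorem restrictOpen_compactSpace (hN : 𝔛.IsLocNoethFormal) [CompactSpace (𝔛.X 0)] :
    CompactSpace ((𝔛.restrictOpen h U).X 0) := by
  have := hN.2.2 0
  have : IsNoetherian (𝔛.X 0) := {}
  have : TopologicalSpace.NoetherianSpace (𝔛.X 0) := inferInstance
  show CompactSpace ↥(𝔛.lvU h 0 U)
  exact isCompact_iff_compactSpace.mp (TopologicalSpace.NoetherianSpace.isCompact _)

end Sys

end Groth.Agent.R2.H60.FormalOpen
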