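import Mathlib

/-!
# Frobenius-semilinear maps on finite-dimensional vector spaces over a separably closed field

For a separably closed field `κ` of characteristic `p`, a finite-dimensional `κ`-vector space `V` and a
Frobenius-semilinear map `f : V → V` whose image spans `V`, the space `V` has a basis of `f`-fixed vectors;
hence `f - 1` is surjective and has exactly `p ^ dim V` fixed vectors.
-/

set_option autoImplicit false
set_option linter.unusedSectionVars false
universe u v

namespace Groth.Agent.R2.H60.FrobField

open Polynomial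

variable {p : ℕ} [Fact p.Prime] {κ : Type u} [Field κ] [CharP κ p]

/-- Artin–Schreier: `d ^ p - d = c` is solvable in a separably closed field of characteristic `p`. -/
theorem exists_pow_sub_eq [IsSepClosed κ] (c : κ) : ∃ d : κ, d ^ p - d = c := by
  have hp : p.Prime := Fact.out
  let P : κ[X] := X ^ p - X - C c
  have hder : derivative P = -1 := by
    simp only [P, derivative_sub, derivative_X_pow, derivative_X, derivative_C, sub_zero]
    rw [show (C (p : κ) : κ[X]) = 0 by rw [CharP.cast_eq_zero κ p, C_0]]
    simp
  have hsep : P.Separable := by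
    rw [separable_def, hder]
    exact isCoprime_one_right.neg_right
  have hdeg : P.degree ≠ 0 := by
    have h1 : (X ^ p - X - C c : κ[X]) = X ^ p - (X + C c) := by ring
    have h2 : (X + C c : κ[X]).degree < (X ^ p : κ[X]).degree := by
      rw [degree_X_pow, degree_X_add_C]
      exact_mod_cast hp.one_lt
    have : P.degree = p := by
      change (X ^ p - X - C c : κ[X]).degree = p
      rw [h1, degree_sub_eq_left_of_degree_lt h2, degree_X_pow]
    rw [this]
    exact_mod_cast hp.ne_zero
  obtain ⟨d, hd⟩ := IsSepClosed.exists_root P hdeg hsep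
  refine ⟨d, ?_⟩
  have : eval d P = 0 := hd
  simp only [P, eval_sub, eval_pow, eval_X, eval_C] at this
  exact sub_eq_zero.mp this

/-- The number of solutions of `d ^ p = d` is `p`. -/
theorem card_pow_eq_self : Nat.card {d : κ // d ^ p = d} = p := by
  have e : {d : κ // d ^ p = d} ≃ ↥(⊥ : Subfield κ) :=
    Equiv.subtypeEquivRight (fun d => (Subfield.mem_bot_iff_pow_eq_self κ p).symm)
  rw [Nat.card_congr e, Subfield.card_bot κ p]

section AddPoly

variable (p)

/-- The additive polynomials `G_i(z) = ∑_{j ≤ i} a_j^{p^{i-j}} z^{p^{i-j+1}}`, defined recursively. -/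
noncomputable def G (a : ℕ → κ) : ℕ → κ[X]
  | 0 => C (a 0) * X ^ p
  | (i + 1) => (G a i) ^ p + C (a (i + 1)) * X ^ p

theorem derivative_G (a : ℕ → κ) (i : ℕ) : derivative (G p a i) = 0 := by
  have h0 : (C (p : κ) : κ[X]) = 0 := by rw [CharP.cast_eq_zero κ p, C_0]
  have hX : derivative ((X : κ[X]) ^ p) = 0 := by
    rw [derivative_X_pow, h0, zero_mul]
  induction i with
  | zero =>
    simp only [G, derivative_mul, derivative_C, zero_mul, hX, mul_zero, add_zero]
  | succ i ih =>
    simp only [G, derivative_add, derivative_mul, derivative_C, zero_mul, hX, mul_zero, add_zero,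
      derivative_pow, ih]

theorem G_eq_zero_or_le_natDegree (a : ℕ → κ) (i : ℕ) :
    ((∀ j ≤ i, a j = 0) ∧ G p a i = 0) ∨ p ≤ (G p a i).natDegree := by
  have hp : p.Prime := Fact.out
  induction i with
  | zero =>
    by_cases h : a 0 = 0
    · left
      refine ⟨fun j hj => by rw [Nat.le_zero.mp hj]; exact h, ?_⟩
      simp [G, h]
    · right
      simp only [G]
      rw [natDegree_C_mul_X_pow p _ h]
  | succ i ih =>
    rcases ih with ⟨h1, h2⟩ | h
    · by_cases h : a (i + 1) = 0
      · left
        refine ⟨fun j hj => ?_, ?_⟩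
        · rcases Nat.lt_or_ge j (i + 1) with hlt | hge
          · exact h1 j (Nat.lt_succ_iff.mp hlt)
          · rw [le_antisymm hj hge]; exact h
        · simp [G, h2, h, hp.ne_zero]
      · right
        simp only [G, h2]
        rw [zero_pow hp.ne_zero, zero_add, natDegree_C_mul_X_pow p _ h]
    · right
      simp only [G]
      have h3 : ((G p a i) ^ p).natDegree = p * (G p a i).natDegree := natDegree_pow _ _
      have h4 : (C (a (i + 1)) * X ^ p : κ[X]).natDegree ≤ p := natDegree_C_mul_X_pow_le _ _
      have h5 : p * p ≤ p * (G p a i).natDegree := Nat.mul_le_mul_left p h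
      have h6 : p < p * p := by nlinarith [hp.two_le]
      rw [natDegree_add_eq_left_of_natDegree_lt (by omega)]
      omega

/-- If some `a j ≠ 0` with `j ≤ m`, the polynomial `G_m - X` has a nonzero root in a separably closed field. -/
theorem exists_ne_zero_eval_G_eq [IsSepClosed κ] (a : ℕ → κ) (m : ℕ) (h : ∃ j ≤ m, a j ≠ 0) :
    ∃ z : κ, z ≠ 0 ∧ eval z (G p a m) = z := by
  have hp : p.Prime := Fact.out
  have hdeg : p ≤ (G p a m).natDegree := by
    rcases G_eq_zero_or_le_natDegree p a m with ⟨h1, _⟩ | h2
    · obtain ⟨j, hj, hne⟩ := h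
      exact absurd (h1 j hj) hne
    · exact h2
  let P : κ[X] := G p a m - X
  have hder : derivative P = -1 := by
    simp only [P, derivative_sub, derivative_G, derivative_X, zero_sub]
  have hsep : P.Separable := by
    rw [separable_def, hder]
    exact isCoprime_one_right.neg_right
  have hnat : P.natDegree = (G p a m).natDegree := by
    apply natDegree_sub_eq_left_of_natDegree_lt
    rw [natDegree_X]
    exact lt_of_lt_of_le hp.one_lt hdeg
  have hsplit : P.Splits := IsSepClosed.splits_of_separable P hsep
  have hcard : P.roots.card = P.natDegree := splits_iff_card_roots.mp hsplit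
  have hnodup : P.roots.Nodup := nodup_roots hsep
  have h2 : 2 ≤ P.roots.card := by
    rw [hcard, hnat]; exact le_trans hp.two_le hdeg
  -- a nodup multiset with at least two elements has an element different from `0`
  have hex : ∃ z ∈ P.roots, z ≠ 0 := by
    by_contra hcon
    push Not at hcon
    have hsub : P.roots ≤ {0} := by
      rw [Multiset.le_iff_subset hnodup]
      intro z hz
      rw [hcon z hz]
      exact Multiset.mem_singleton_self 0
    have := Multiset.card_le_card hsub
    rw [Multiset.card_singleton] at this
    omega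
  obtain ⟨z, hz, hz0⟩ := hex
  refine ⟨z, hz0, ?_⟩
  have hroot : eval z P = 0 := (mem_roots'.mp hz).2
  simp only [P, eval_sub, eval_X] at hroot
  exact sub_eq_zero.mp hroot

end AddPoly

section Semilinear

variable (p)
variable {V : Type v} [AddCommGroup V] [Module κ V]

theorem apply_eq_sum (f : V →ₛₗ[frobenius κ p] V) {ι : Type*} [Fintype ι] (b : Module.Basis ι κ V)
    (v : V) : f v = ∑ i, (b.repr v i) ^ p • f (b i) := by
  conv_lhs => rw [← b.sum_repr v]
  rw [map_sum]
  refine Finset.sum_congr rfl (fun i _ => ?_)
  rw [map_smulₛₗ, frobenius_def]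

theorem linearIndependent_map_basis [FiniteDimensional κ V] (f : V →ₛₗ[frobenius κ p] V)
    (hspan : Submodule.span κ (Set.range f) = ⊤) {ι : Type*} [Fintype ι] (b : Module.Basis ι κ V) :
    LinearIndependent κ (fun i => f (b i)) := by
  apply linearIndependent_of_top_le_span_of_card_eq_finrank
  · rw [← hspan]
    apply Submodule.span_le.mpr
    rintro _ ⟨v, rfl⟩
    rw [apply_eq_sum p f b v]
    exact Submodule.sum_mem _ (fun i _ => Submodule.smul_mem _ _ (Submodule.subset_span ⟨i, rfl⟩))
  · exact (Module.finrank_eq_card_basis b).symm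

theorem injective_of_span [FiniteDimensional κ V] (f : V →ₛₗ[frobenius κ p] V)
    (hspan : Submodule.span κ (Set.range f) = ⊤) : Function.Injective f := by
  rw [injective_iff_map_eq_zero]
  intro v hv
  let b := Module.finBasis κ V
  have hli := linearIndependent_map_basis p f hspan b
  rw [apply_eq_sum p f b v] at hv
  have h0 := Fintype.linearIndependent_iff.mp hli _ hv
  apply b.repr.map_eq_zero_iff.mp
  ext i
  exact pow_eq_zero_iff (Fact.out : p.Prime).ne_zero |>.mp (h0 i)

omit [Fact p.Prime] [CharP κ p] in
theorem linearIndependent_of_notMem (w : ℕ → V) (h0 : w 0 ≠ 0) (j : ℕ)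
    (hQ : ∀ m, m + 1 < j → w (m + 1) ∉ Submodule.span κ (Set.range (fun i : Fin (m + 1) => w i))) :
    LinearIndependent κ (fun i : Fin j => w i) := by
  induction j with
  | zero => exact linearIndependent_empty_type
  | succ j ih =>
    have hsnoc : (fun i : Fin (j + 1) => w i) = Fin.snoc (fun i : Fin j => w i) (w j) := by
      ext i
      refine Fin.lastCases ?_ (fun i => ?_) i
      · simp
      · simp
    rw [hsnoc, linearIndependent_finSnoc]
    refine ⟨ih (fun m hm => hQ m (by omega)), ?_⟩
    cases j with
    | zero =>
      have : Set.range (fun i : Fin 0 => w i) = ∅ := Set.range_eq_empty _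
      rw [this, Submodule.span_empty, Submodule.mem_bot]
      exact h0
    | succ j' => exact hQ j' (by omega)

theorem exists_fixed_ne_zero [IsSepClosed κ] [FiniteDimensional κ V] [Nontrivial V]
    (f : V →ₛₗ[frobenius κ p] V) (hinj : Function.Injective f) : ∃ x : V, x ≠ 0 ∧ f x = x := by
  obtain ⟨v, hv⟩ := exists_ne (0 : V)
  let w : ℕ → V := fun i => f^[i] v
  have hw0 : w 0 = v := rfl
  have hwsucc : ∀ i, f (w i) = w (i + 1) := fun i => (Function.iterate_succ_apply' f i v).symm
  have hwne : ∀ i, w i ≠ 0 := by
    intro i
    induction i with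
    | zero => exact hv
    | succ i ih =>
      rw [← hwsucc]
      intro h
      exact ih (hinj (h.trans (map_zero f).symm))
  -- a first linear relation
  have hex : ∃ m, w (m + 1) ∈ Submodule.span κ (Set.range (fun i : Fin (m + 1) => w i)) := by
    by_contra hcon
    push Not at hcon
    have hli := linearIndependent_of_notMem w (hw0 ▸ hv) (Module.finrank κ V + 1)
      (fun m _ => hcon m)
    have := hli.fintype_card_le_finrank
    rw [Fintype.card_fin] at this
    omega
  classical
  let m := Nat.find hex
  have hm : w (m + 1) ∈ Submodule.span κ (Set.range (fun i : Fin (m + 1) => w i)) := Nat.find_spec hex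
  have hli : LinearIndependent κ (fun i : Fin (m + 1) => w i) :=
    linearIndependent_of_notMem w (hw0 ▸ hv) (m + 1)
      (fun m' hm' => Nat.find_min hex (by omega))
  obtain ⟨a, ha⟩ := (Submodule.mem_span_range_iff_exists_fun κ).mp hm
  let a' : ℕ → κ := fun i => if h : i < m + 1 then a ⟨i, h⟩ else 0
  have ha' : ∑ i ∈ Finset.range (m + 1), a' i • w i = w (m + 1) := by
    rw [← ha, ← Fin.sum_univ_eq_sum_range (fun i => a' i • w i) (m + 1)]
    refine Finset.sum_congr rfl (fun i _ => ?_)
    simp only [a', i.isLt, dite_true, Fin.eta]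
  have hane : ∃ j ≤ m, a' j ≠ 0 := by
    by_contra hcon
    push Not at hcon
    apply hwne (m + 1)
    rw [← ha']
    apply Finset.sum_eq_zero
    intro i hi
    rw [hcon i (Nat.lt_succ_iff.mp (Finset.mem_range.mp hi)), zero_smul]
  obtain ⟨z, hz0, hz⟩ := exists_ne_zero_eval_G_eq p a' m hane
  let g : ℕ → κ := fun i => eval z (G p a' i)
  have hg0 : g 0 = a' 0 * z ^ p := by simp [g, G]
  have hgs : ∀ i, g (i + 1) = (g i) ^ p + a' (i + 1) * z ^ p := by
    intro i; simp [g, G]
  have hgm : g m = z := hz
  refine ⟨∑ i ∈ Finset.range (m + 1), g i • w i, ?_, ?_⟩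
  · intro hx
    rw [← Fin.sum_univ_eq_sum_range (fun i => g i • w i) (m + 1)] at hx
    have := Fintype.linearIndependent_iff.mp hli (fun i => g i) hx (Fin.last m)
    rw [Fin.val_last, hgm] at this
    exact hz0 this
  · rw [map_sum]
    have h1 : ∀ i ∈ Finset.range (m + 1), f (g i • w i) = (g i) ^ p • w (i + 1) := by
      intro i _
      rw [map_smulₛₗ, frobenius_def, hwsucc]
    rw [Finset.sum_congr rfl h1, Finset.sum_range_succ, hgm, ← ha']
    rw [Finset.sum_range_succ' (fun i => g i • w i) m, Finset.sum_range_succ' (fun i => a' i • w i) m]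
    rw [hg0, smul_add, Finset.smul_sum]
    rw [← add_assoc, ← Finset.sum_add_distrib]
    congr 1
    · refine Finset.sum_congr rfl (fun i _ => ?_)
      rw [hgs i, add_smul, smul_smul, mul_comm]
    · rw [smul_smul, mul_comm]

theorem exists_basis_fixed [IsSepClosed κ] : ∀ (n : ℕ) (V : Type v) [AddCommGroup V] [Module κ V]
    [FiniteDimensional κ V] (f : V →ₛₗ[frobenius κ p] V),
    Submodule.span κ (Set.range f) = ⊤ → Module.finrank κ V = n →
    ∃ b : Module.Basis (Fin n) κ V, ∀ i, f (b i) = b i := by
  intro n
  induction n with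
  | zero =>
    intro V _ _ _ f _ hn
    have : Subsingleton V := Module.finrank_zero_iff.mp hn
    exact ⟨Module.Basis.empty V, fun i => i.elim0⟩
  | succ n ih =>
    intro V _ _ _ f hspan hn
    have : Nontrivial V := Module.nontrivial_of_finrank_pos (R := κ) (by omega)
    have hinj := injective_of_span p f hspan
    obtain ⟨x, hx0, hx⟩ := exists_fixed_ne_zero p f hinj
    let L : Submodule κ V := κ ∙ x
    have hL : L ≤ L.comap f := by
      intro y hy
      obtain ⟨c, rfl⟩ := Submodule.mem_span_singleton.mp hy
      rw [Submodule.mem_comap, map_smulₛₗ, hx]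
      exact Submodule.smul_mem _ _ (Submodule.mem_span_singleton_self x)
    let f' : (V ⧸ L) →ₛₗ[frobenius κ p] (V ⧸ L) := L.mapQ L f hL
    have hf' : ∀ y : V, f' (L.mkQ y) = L.mkQ (f y) := fun y => rfl
    have hspan' : Submodule.span κ (Set.range f') = ⊤ := by
      rw [eq_top_iff]
      rintro q -
      obtain ⟨y, rfl⟩ := L.mkQ_surjective q
      have hy : y ∈ Submodule.span κ (Set.range f) := hspan ▸ Submodule.mem_top
      refine Submodule.span_induction (p := fun y _ => L.mkQ y ∈ Submodule.span κ (Set.range f'))
        ?_ ?_ ?_ ?_ hy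
      · rintro _ ⟨u, rfl⟩
        exact Submodule.subset_span ⟨L.mkQ u, hf' u⟩
      · rw [map_zero]; exact Submodule.zero_mem _
      · intro a b _ _ ha hb
        rw [map_add]; exact Submodule.add_mem _ ha hb
      · intro c a _ ha
        rw [map_smul]; exact Submodule.smul_mem _ _ ha
    have hn' : Module.finrank κ (V ⧸ L) = n := by
      have h1 := Submodule.finrank_quotient_add_finrank L
      have h2 : Module.finrank κ L = 1 := finrank_span_singleton hx0
      omega
    obtain ⟨b', hb'⟩ := ih (V ⧸ L) f' hspan' hn'
    -- lift the fixed basis vectors of the quotient to fixed vectors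
    have hlift : ∀ i, ∃ wv : V, L.mkQ wv = b' i ∧ f wv = wv := by
      intro i
      obtain ⟨u, hu⟩ := L.mkQ_surjective (b' i)
      have hmem : f u - u ∈ L := by
        rw [← Submodule.ker_mkQ L, LinearMap.mem_ker, map_sub, ← hf', hu, hb', sub_self]
      obtain ⟨c, hc⟩ := Submodule.mem_span_singleton.mp hmem
      obtain ⟨d, hd⟩ := exists_pow_sub_eq (p := p) (-c)
      refine ⟨u + d • x, ?_, ?_⟩
      · rw [map_add, hu, map_smul]
        have : L.mkQ x = 0 := by
          rw [← LinearMap.mem_ker, Submodule.ker_mkQ]
          exact Submodule.mem_span_singleton_self x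
        rw [this, smul_zero, add_zero]
      · rw [map_add, map_smulₛₗ, frobenius_def, hx]
        have hfu : f u = u + c • x := by rw [hc]; abel
        rw [hfu, add_assoc, ← add_smul]
        congr 2
        linear_combination hd
    choose wv hwv1 hwv2 using hlift
    have hliw : LinearIndependent κ wv := by
      apply LinearIndependent.of_comp L.mkQ
      have : ⇑L.mkQ ∘ wv = b' := funext hwv1
      rw [this]
      exact b'.linearIndependent
    have hxnot : x ∉ Submodule.span κ (Set.range wv) := by
      intro hmem
      obtain ⟨c, hc⟩ := (Submodule.mem_span_range_iff_exists_fun κ).mp hmem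
      have h1 : L.mkQ x = 0 := by
        rw [← LinearMap.mem_ker, Submodule.ker_mkQ]
        exact Submodule.mem_span_singleton_self x
      have h2 : ∑ i, c i • b' i = 0 := by
        rw [← h1, ← hc, map_sum]
        refine Finset.sum_congr rfl (fun i _ => ?_)
        rw [map_smul, hwv1]
      have h3 := Fintype.linearIndependent_iff.mp b'.linearIndependent c h2
      apply hx0
      rw [← hc]
      exact Finset.sum_eq_zero (fun i _ => by rw [h3 i, zero_smul])
    have hli : LinearIndependent κ (Fin.cons x wv : Fin (n + 1) → V) :=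
      linearIndependent_finCons.mpr ⟨hliw, hxnot⟩
    have hcard : Fintype.card (Fin (n + 1)) = Module.finrank κ V := by
      rw [Fintype.card_fin, hn]
    refine ⟨basisOfLinearIndependentOfCardEqFinrank hli hcard, ?_⟩
    intro i
    rw [coe_basisOfLinearIndependentOfCardEqFinrank]
    refine Fin.cases ?_ (fun j => ?_) i
    · simpa using hx
    · simpa using hwv2 j

/-- **Field case.** Over a separably closed field of characteristic `p`, for an additive Frobenius-semilinear
self-map `T` of a finite-dimensional vector space whose values span, `T - 1` is surjective and has `p ^ dim`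
fixed vectors. -/
theorem main [IsSepClosed κ] {V : Type v} [AddCommGroup V] [Module κ V] [FiniteDimensional κ V]
    (T : V →+ V) (hT : ∀ (c : κ) (v : V), T (c • v) = c ^ p • T v)
    (hspan : Submodule.span κ (Set.range T) = ⊤) :
    Function.Surjective (fun v => T v - v) ∧
      Nat.card {v : V // T v = v} = p ^ Module.finrank κ V := by
  let f : V →ₛₗ[frobenius κ p] V :=
    { toFun := T
      map_add' := map_add T
      map_smul' := fun c v => by rw [hT, frobenius_def] }
  have hfT : ∀ v, f v = T v := fun _ => rfl
  have hspanf : Submodule.span κ (Set.range f) = ⊤ := hspan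
  obtain ⟨b, hb⟩ := exists_basis_fixed p _ V f hspanf rfl
  have key : ∀ v, T v = ∑ i, (b.repr v i) ^ p • b i := by
    intro v
    rw [← hfT, apply_eq_sum p f b v]
    exact Finset.sum_congr rfl (fun i _ => by rw [hb])
  have hrepr : ∀ (v : V) i, b.repr (T v) i = (b.repr v i) ^ p := by
    intro v i
    rw [key v, Module.Basis.repr_sum_self]
  constructor
  · intro y
    choose d hd using fun i => exists_pow_sub_eq (p := p) (b.repr y i)
    refine ⟨∑ i, d i • b i, ?_⟩
    apply b.repr.injective
    ext i
    change b.repr (T (∑ i, d i • b i) - ∑ i, d i • b i) i = b.repr y i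
    rw [map_sub, Finsupp.sub_apply, hrepr, Module.Basis.repr_sum_self, hd]
  · have hiff : ∀ v, T v = v ↔ ∀ i, (b.equivFun v i) ^ p = b.equivFun v i := by
      intro v
      constructor
      · intro h i
        rw [Module.Basis.equivFun_apply, ← hrepr, h]
      · intro h
        apply b.repr.injective
        ext i
        rw [hrepr]
        exact h i
    let e1 : {v : V // T v = v} ≃ {c : Fin (Module.finrank κ V) → κ // ∀ i, c i ^ p = c i} :=
      b.equivFun.toEquiv.subtypeEquiv hiff
    let e2 : {c : Fin (Module.finrank κ V) → κ // ∀ i, c i ^ p = c i} ≃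
        (Fin (Module.finrank κ V) → {d : κ // d ^ p = d}) :=
      Equiv.subtypePiEquivPi (β := fun _ => κ) (p := fun _ d => d ^ p = d)
    rw [Nat.card_congr (e1.trans e2), Nat.card_fun, card_pow_eq_self, Nat.card_eq_fintype_card,
      Fintype.card_fin]

end Semilinear

end Groth.Agent.R2.H60.FrobField
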