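import Mathlib
import Groth.Agent.Lib.Helper3HenselL
import Groth.Agent.R2.H60FrobField

/-!
# Frobenius modules over strictly henselian local rings of characteristic `p`: lifting solutions

The system `∑_i a_{ji} x_i^p - x_j = y_j` defines an étale algebra (its Jacobian matrix is `-1`), so over a
henselian local ring its solutions correspond bijectively to its solutions in the residue field.
-/

set_option autoImplicit false
set_option linter.unusedSectionVars false
universe u v

namespace Groth.Agent.R2.H60.FrobLocal

open MvPolynomial IsLocalRing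

section Etale

variable {R : Type u} [CommRing R] (p : ℕ) [Fact p.Prime] [CharP R p] {n : ℕ}
  (a : Matrix (Fin n) (Fin n) R) (y : Fin n → R)

/-- The relations `∑_i a_{ji} X_i^p - X_j - y_j`. -/
noncomputable def rel (j : Fin n) : MvPolynomial (Fin n) R :=
  ∑ i, C (a j i) * X i ^ p - X j - C (y j)

/-- The algebra of the system. -/
abbrev E : Type u := MvPolynomial (Fin n) R ⧸ Ideal.span (Set.range (rel p a y))

lemma pderiv_rel (i j : Fin n) : pderiv i (rel p a y j) = -(if i = j then 1 else 0) := by
  have hp0 : ((p : ℕ) : MvPolynomial (Fin n) R) = 0 := by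
    rw [← map_natCast (C : R →+* MvPolynomial (Fin n) R), CharP.cast_eq_zero R p, map_zero]
  have h1 : ∀ k : Fin n, pderiv i (C (a j k) * X k ^ p : MvPolynomial (Fin n) R) = 0 := by
    intro k
    rw [Derivation.leibniz, pderiv_C, Derivation.leibniz_pow, nsmul_eq_mul, hp0]
    simp
  unfold rel
  rw [map_sub, map_sub, map_sum, Finset.sum_eq_zero (fun k _ => h1 k), pderiv_C, pderiv_X]
  simp [Pi.single_apply, eq_comm]

/-- the naive presentation -/
noncomputable def pres : Algebra.PreSubmersivePresentation R (E p a y) (Fin n) (Fin n) :=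
  Algebra.PreSubmersivePresentation.naive (v := rel p a y) id Function.injective_id

lemma jacobiMatrix_pres : (pres p a y).jacobiMatrix = -1 := by
  ext i j
  rw [pres, Algebra.PreSubmersivePresentation.jacobiMatrix_naive, id, pderiv_rel]
  simp [Matrix.one_apply]

lemma jacobian_isUnit : IsUnit (pres p a y).jacobian := by
  rw [Algebra.PreSubmersivePresentation.jacobian_eq_jacobiMatrix_det, jacobiMatrix_pres,
    Matrix.det_neg, Matrix.det_one, mul_one]
  exact (isUnit_one.neg.pow _).map _

instance etale_E : Algebra.Etale R (E p a y) := by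
  let P : Algebra.SubmersivePresentation R (E p a y) (Fin n) (Fin n) :=
    { toPreSubmersivePresentation := pres p a y
      jacobian_isUnit := jacobian_isUnit p a y }
  have : Algebra.IsStandardSmoothOfRelativeDimension 0 R (E p a y) :=
    P.isStandardSmoothOfRelativeDimension (by simp [Algebra.Presentation.dimension])
  infer_instance

end Etale

section Points

variable {R : Type u} [CommRing R] (p : ℕ) [Fact p.Prime] [CharP R p] {n : ℕ}
  (a : Matrix (Fin n) (Fin n) R) (y : Fin n → R)
  (S : Type v) [CommRing S] [Algebra R S]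

/-- Solutions of the system in an `R`-algebra `S`. -/
def Sol : Set (Fin n → S) :=
  {x | ∀ j, ∑ i, algebraMap R S (a j i) * x i ^ p - x j - algebraMap R S (y j) = 0}

variable {S}

lemma aeval_rel (x : Fin n → S) (j : Fin n) :
    aeval x (rel p a y j) = ∑ i, algebraMap R S (a j i) * x i ^ p - x j - algebraMap R S (y j) := by
  simp [rel]

/-- The algebra map attached to a solution. -/
noncomputable def ofSol (x : Fin n → S) (hx : x ∈ Sol p a y S) : E p a y →ₐ[R] S :=
  Ideal.Quotient.liftₐ _ (aeval x) (by
    intro q hq
    have hle : Ideal.span (Set.range (rel p a y)) ≤ RingHom.ker (aeval x : MvPolynomial (Fin n) R →ₐ[R] S) := by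
      rw [Ideal.span_le]
      rintro _ ⟨j, rfl⟩
      rw [SetLike.mem_coe, RingHom.mem_ker, aeval_rel]
      exact hx j
    exact RingHom.mem_ker.mp (hle hq))

lemma ofSol_X (x : Fin n → S) (hx : x ∈ Sol p a y S) (i : Fin n) :
    ofSol p a y x hx (Ideal.Quotient.mk _ (X i)) = x i := by
  change aeval x (X i : MvPolynomial (Fin n) R) = x i
  exact aeval_X x i

lemma toSol (φ : E p a y →ₐ[R] S) : (fun i => φ (Ideal.Quotient.mk _ (X i))) ∈ Sol p a y S := by
  intro j
  have h0 : φ (Ideal.Quotient.mk _ (rel p a y j)) = 0 := by
    have : (Ideal.Quotient.mk (Ideal.span (Set.range (rel p a y)))) (rel p a y j) = 0 :=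
      Ideal.Quotient.eq_zero_iff_mem.mpr (Ideal.subset_span ⟨j, rfl⟩)
    rw [this, map_zero]
  have h1 : φ (Ideal.Quotient.mk _ (rel p a y j)) =
      aeval (fun i => φ (Ideal.Quotient.mk _ (X i))) (rel p a y j) := by
    have : (φ.comp (Ideal.Quotient.mkₐ R (Ideal.span (Set.range (rel p a y))))) =
        aeval (fun i => φ (Ideal.Quotient.mk _ (X i))) := by
      apply MvPolynomial.algHom_ext
      intro i
      simp
    exact congrArg (fun ψ => ψ (rel p a y j)) this
  rw [← aeval_rel, ← h1, h0]

lemma algHom_ext_E {φ ψ : E p a y →ₐ[R] S}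
    (h : ∀ i, φ (Ideal.Quotient.mk _ (X i)) = ψ (Ideal.Quotient.mk _ (X i))) : φ = ψ := by
  apply Ideal.Quotient.algHom_ext
  apply MvPolynomial.algHom_ext
  intro i
  exact h i

end Points

section Hensel

variable {R : Type u} [CommRing R] [HenselianLocalRing R] (p : ℕ) [Fact p.Prime] [CharP R p] {n : ℕ}
  (a : Matrix (Fin n) (Fin n) R) (y : Fin n → R)

/-- Every solution in the residue field lifts to a solution in `R`. -/
theorem exists_lift (xb : Fin n → ResidueField R) (hxb : xb ∈ Sol p a y (ResidueField R)) :
    ∃ x ∈ Sol p a y R, ∀ i, residue R (x i) = xb i := by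
  obtain ⟨f, hf, -⟩ := Groth.Agent.Lib.Helper3.Hensel.existsUnique_algHom_residue (R := R) (S := R)
    (ofSol p a y xb hxb)
  refine ⟨fun i => f (Ideal.Quotient.mk _ (X i)), toSol p a y f, fun i => ?_⟩
  rw [hf, ofSol_X]

/-- Two solutions in `R` with the same reduction are equal. -/
theorem eq_of_residue_eq (x x' : Fin n → R) (hx : x ∈ Sol p a y R) (hx' : x' ∈ Sol p a y R)
    (h : ∀ i, residue R (x i) = residue R (x' i)) : x = x' := by
  let χ : E p a y →ₐ[R] ResidueField R :=
    (IsScalarTower.toAlgHom R R (ResidueField R)).comp (ofSol p a y x hx)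
  obtain ⟨f, -, huniq⟩ := Groth.Agent.Lib.Helper3.Hensel.existsUnique_algHom_residue (R := R) (S := R) χ
  have h1 : ofSol p a y x hx = f := huniq _ (fun _ => rfl)
  have h2 : ofSol p a y x' hx' = f := by
    apply huniq
    intro e
    have : (IsScalarTower.toAlgHom R R (ResidueField R)).comp (ofSol p a y x' hx') = χ := by
      apply algHom_ext_E
      intro i
      rw [AlgHom.comp_apply, AlgHom.comp_apply, ofSol_X, ofSol_X]
      exact (h i).symm
    exact congrArg (fun ψ => ψ e) this
  funext i
  rw [← ofSol_X p a y x hx i, ← ofSol_X p a y x' hx' i, h1, h2]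

end Hensel

section Assembly

variable {R : Type u} [CommRing R] [HenselianLocalRing R] (p : ℕ) [Fact p.Prime] [CharP R p]
  [IsSepClosed (ResidueField R)]
  {M : Type v} [AddCommGroup M] [Module R M] {n : ℕ} (b : Module.Basis (Fin n) R M)
  (T : M →+ M) (hT : ∀ (r : R) (m : M), T (r • m) = r ^ p • T m)

theorem charP_residueField : CharP (ResidueField R) p := by
  have hp : p.Prime := Fact.out
  have h0 : ((p : ℕ) : ResidueField R) = 0 := by
    have : ((p : ℕ) : R) = 0 := CharP.cast_eq_zero R p
    rw [← map_natCast (residue R), this, map_zero]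
  exact ringChar.of_eq (CharP.ringChar_of_prime_eq_zero hp h0)

/-- the matrix of `T` in the basis `b` -/
noncomputable def mat : Matrix (Fin n) (Fin n) R := fun j i => b.repr (T (b i)) j

include hT in
lemma repr_T (m : M) (j : Fin n) :
    b.repr (T m) j = ∑ i, mat b T j i * (b.repr m i) ^ p := by
  conv_lhs => rw [← b.sum_repr m]
  rw [map_sum, map_sum, Finsupp.coe_finsetSum, Finset.sum_apply]
  refine Finset.sum_congr rfl (fun i _ => ?_)
  rw [hT, map_smul, Finsupp.smul_apply, smul_eq_mul, mul_comm]
  rfl

include hT in
lemma sub_eq_iff_mem_Sol (m y₀ : M) :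
    T m - m = y₀ ↔ (fun i => b.repr m i) ∈ Sol p (mat b T) (fun i => b.repr y₀ i) R := by
  constructor
  · intro h j
    have := congrArg (fun z => b.repr z j) h
    simp only [map_sub, Finsupp.sub_apply] at this
    rw [repr_T p b T hT] at this
    simp only [Algebra.algebraMap_self, RingHom.id_apply]
    rw [this, sub_self]
  · intro h
    apply b.repr.injective
    ext j
    have := h j
    simp only [Algebra.algebraMap_self, RingHom.id_apply] at this
    rw [map_sub, Finsupp.sub_apply, repr_T p b T hT]
    exact sub_eq_zero.mp this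

/-- reduction of coordinates -/
noncomputable def rho (m : M) : Fin n → ResidueField R := fun i => residue R (b.repr m i)

lemma rho_surjective : Function.Surjective (rho b : M → Fin n → ResidueField R) := by
  intro w
  choose r hr using fun i => residue_surjective (w i)
  refine ⟨∑ i, r i • b i, ?_⟩
  funext i
  simp only [rho]
  rw [Module.Basis.repr_sum_self, hr]

/-- the induced map on `κ^n` -/
noncomputable def Tbar : (Fin n → ResidueField R) →+ (Fin n → ResidueField R) :=
  haveI := charP_residueField (R := R) p
  { toFun := fun x j => ∑ i, residue R (mat b T j i) * x i ^ p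
    map_zero' := by
      funext j
      simp [zero_pow (Fact.out : p.Prime).ne_zero]
    map_add' := by
      intro x x'
      funext j
      simp only [Pi.add_apply, add_pow_char, mul_add, Finset.sum_add_distrib] }

lemma Tbar_apply (x : Fin n → ResidueField R) (j : Fin n) :
    Tbar p b T x j = ∑ i, residue R (mat b T j i) * x i ^ p := rfl

include hT in
lemma rho_T (m : M) : rho b (T m) = Tbar p b T (rho b m) := by
  funext j
  simp only [rho, Tbar_apply]
  rw [repr_T p b T hT, map_sum]
  refine Finset.sum_congr rfl (fun i _ => ?_)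
  rw [map_mul, map_pow]

lemma Tbar_smul (c : ResidueField R) (x : Fin n → ResidueField R) :
    Tbar p b T (c • x) = c ^ p • Tbar p b T x := by
  funext j
  simp only [Tbar_apply, Pi.smul_apply, smul_eq_mul, mul_pow, Finset.mul_sum]
  refine Finset.sum_congr rfl (fun i _ => ?_)
  ring

include hT in
lemma span_range_Tbar (hspan : Submodule.span R (Set.range T) = ⊤) :
    Submodule.span (ResidueField R) (Set.range (Tbar p b T)) = ⊤ := by
  rw [eq_top_iff]
  rintro w -
  obtain ⟨m, rfl⟩ := rho_surjective b w
  have hm : m ∈ Submodule.span R (Set.range T) := hspan ▸ Submodule.mem_top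
  refine Submodule.span_induction
    (p := fun m _ => rho b m ∈ Submodule.span (ResidueField R) (Set.range (Tbar p b T))) ?_ ?_ ?_ ?_ hm
  · rintro _ ⟨m', rfl⟩
    rw [rho_T p b T hT]
    exact Submodule.subset_span ⟨_, rfl⟩
  · have : rho b (0 : M) = (0 : Fin n → ResidueField R) := by
      funext i; simp [rho]
    rw [this]; exact Submodule.zero_mem _
  · intro x x' _ _ hx hx'
    have : rho b (x + x') = rho b x + rho b x' := by
      funext i; simp [rho]
    rw [this]; exact Submodule.add_mem _ hx hx'
  · intro r x _ hx
    have : rho b (r • x) = residue R r • rho b x := by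
      funext i; simp [rho]
    rw [this]; exact Submodule.smul_mem _ _ hx

lemma Tbar_sub_eq_iff_mem_Sol (x : Fin n → ResidueField R) (y : Fin n → R) :
    Tbar p b T x - x = (fun i => residue R (y i)) ↔ x ∈ Sol p (mat b T) y (ResidueField R) := by
  constructor
  · intro h j
    have := congrFun h j
    simp only [Pi.sub_apply, Tbar_apply] at this
    rw [IsLocalRing.ResidueField.algebraMap_eq]
    rw [this, sub_self]
  · intro h
    funext j
    have := h j
    rw [IsLocalRing.ResidueField.algebraMap_eq] at this
    simp only [Pi.sub_apply, Tbar_apply]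
    exact sub_eq_zero.mp this

include hT b in
/-- **Free case over a strictly henselian local ring.** -/
theorem main (hspan : Submodule.span R (Set.range T) = ⊤) :
    Function.Surjective (fun m => T m - m) ∧ Nat.card {m : M // T m = m} = p ^ n := by
  have := charP_residueField (R := R) p
  obtain ⟨hs, hc⟩ := Groth.Agent.R2.H60.FrobField.main p (Tbar p b T) (Tbar_smul p b T)
    (span_range_Tbar p b T hT hspan)
  rw [Module.finrank_fintype_fun_eq_card, Fintype.card_fin] at hc
  constructor
  · intro y₀
    obtain ⟨xb, hxb⟩ := hs (rho b y₀)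
    have hxb' : xb ∈ Sol p (mat b T) (fun i => b.repr y₀ i) (ResidueField R) :=
      (Tbar_sub_eq_iff_mem_Sol p b T xb _).mp hxb
    obtain ⟨x, hx, -⟩ := exists_lift p (mat b T) _ xb hxb'
    refine ⟨∑ i, x i • b i, ?_⟩
    apply (sub_eq_iff_mem_Sol p b T hT _ y₀).mpr
    have : (fun i => b.repr (∑ i, x i • b i) i) = x := by
      funext i; rw [Module.Basis.repr_sum_self]
    rw [this]
    exact hx
  · rw [← hc]
    have h0 : (fun i => b.repr (0 : M) i) = (fun _ => (0 : R)) := by funext i; simp
    have hfix : ∀ m : M, T m = m ↔ (fun i => b.repr m i) ∈ Sol p (mat b T) (fun _ => (0 : R)) R := by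
      intro m
      rw [← h0, ← sub_eq_iff_mem_Sol p b T hT m 0, sub_eq_zero]
    have hfixb : ∀ x : Fin n → ResidueField R,
        Tbar p b T x = x ↔ x ∈ Sol p (mat b T) (fun _ => (0 : R)) (ResidueField R) := by
      intro x
      rw [← Tbar_sub_eq_iff_mem_Sol p b T x (fun _ => (0 : R))]
      simp only [map_zero]
      exact sub_eq_zero.symm
    let g : {m : M // T m = m} → {x : Fin n → ResidueField R // Tbar p b T x = x} :=
      fun m => ⟨rho b m.1, by rw [← rho_T p b T hT, m.2]⟩
    apply Nat.card_eq_of_bijective g
    constructor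
    · rintro ⟨m, hm⟩ ⟨m', hm'⟩ h
      have h' : rho b m = rho b m' := congrArg Subtype.val h
      have := eq_of_residue_eq p (mat b T) (fun _ => (0 : R)) _ _ ((hfix m).mp hm) ((hfix m').mp hm')
        (fun i => congrFun h' i)
      apply Subtype.ext
      apply b.repr.injective
      ext i
      exact congrFun this i
    · rintro ⟨xb, hxb⟩
      obtain ⟨x, hx, hres⟩ := exists_lift p (mat b T) _ xb ((hfixb xb).mp hxb)
      have hrepr : (fun i => b.repr (∑ i, x i • b i) i) = x := by
        funext i; rw [Module.Basis.repr_sum_self]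
      refine ⟨⟨∑ i, x i • b i, (hfix _).mpr (by rw [hrepr]; exact hx)⟩, ?_⟩
      apply Subtype.ext
      funext i
      change residue R (b.repr (∑ i, x i • b i) i) = xb i
      rw [Module.Basis.repr_sum_self, hres]

end Assembly

end Groth.Agent.R2.H60.FrobLocal
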