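import Mathlib
import Groth.Prelude.Def_Red2
import Groth.Agent.Lib.Helper27GaGm
import Groth.Agent.Lib.Helper12Reduced

/-!
# Homomorphisms `𝔾_a ⟶ 𝔾_m` over a reduced base are trivial (helper60)

Any `S`-morphism `φ : 𝔾_{a,S} ⟶ 𝔾_{m,S}` with `φ(0) = 1` is trivial when `S` is reduced:
`𝔾_{a,S}` is smooth over `S`, hence reduced, so it suffices to check `gmFn φ = 1` at all points,
i.e. after pulling back to `Spec K` for fields `K`; there `φ` restricted to `𝔸¹_K` is given by a unit
of `K[T]`, hence a constant, equal to its value `1` at `T = 0`.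
-/

set_option autoImplicit false
universe u

open CategoryTheory MonoidalCategory CartesianMonoidalCategory MonObj GrpObj AlgebraicGeometry
  CategoryTheory.Limits
open Groth.Agent.Lib.Helper27.GaGm

namespace Groth.Agent.R2.H60.GaGmTriv

/-- A global function on a reduced scheme vanishing at all points is zero. -/
lemma eq_zero_of_forall_pt {Y : Scheme.{u}} [IsReduced Y] (s : Γ(Y, ⊤))
    (h : ∀ y : Y, (Y.fromSpecResidueField y).appTop s = 0) : s = 0 := by
  rw [← basicOpen_eq_bot_iff]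
  rw [eq_bot_iff]
  intro y hy
  obtain ⟨z⟩ : Nonempty (Spec (Y.residueField y)) := inferInstance
  have hz : Y.fromSpecResidueField y z = y := Scheme.fromSpecResidueField_apply y z
  have h1 : z ∈ (Y.fromSpecResidueField y) ⁻¹ᵁ Y.basicOpen s := by
    show Y.fromSpecResidueField y z ∈ Y.basicOpen s
    rw [hz]; exact hy
  rw [Scheme.preimage_basicOpen_top, h y, Scheme.basicOpen_zero] at h1
  exact h1.elim

/-- The symmetric algebra of `ℤ` over `ℤ` is smooth. -/
lemma smooth_sym : Algebra.Smooth (ULift.{u} ℤ) (SymmetricAlgebra (ULift.{u} ℤ) (ULift.{u} ℤ)) := by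
  have : Algebra.Smooth (ULift.{u} ℤ) (MvPolynomial Unit (ULift.{u} ℤ)) := {}
  exact Algebra.Smooth.of_equiv
    (SymmetricAlgebra.equivMvPolynomial (Module.Basis.singleton Unit (ULift.{u} ℤ))).symm

instance smooth_GaZ : Smooth (Red.GaZ.{u}).hom := by
  show Smooth (Spec.map (CommRingCat.ofHom (algebraMap (ULift.{u} ℤ)
    (SymmetricAlgebra (ULift.{u} ℤ) (ULift.{u} ℤ)))))
  rw [HasRingHomProperty.Spec_iff (P := @Smooth)]
  exact RingHom.smooth_algebraMap.mpr smooth_sym

instance smooth_Ga (S : Scheme.{u}) : Smooth (Red.Ga S).hom := by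
  show Smooth (pullback.snd _ _)
  infer_instance

lemma isReduced_Ga (S : Scheme.{u}) [IsReduced S] : IsReduced (Red.Ga S).left :=
  Groth.Agent.Lib.Helper12.Reduced.isReduced_of_smooth (Red.Ga S).hom

variable {S : Scheme.{u}}

/-- Field-valued points: a pointed morphism `𝔾_a ⟶ 𝔾_m` kills all field-valued points. -/
lemma gmFn_comp_eq_one_of_field (φ : Red.Ga S ⟶ Red.Gm S)
    (h1 : ∀ X : Over S, (1 : X ⟶ Red.Ga S) ≫ φ = 1)
    (K : Type u) [Field K] (p : Spec (CommRingCat.of K) ⟶ S) (x : Over.mk p ⟶ Red.Ga S) :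
    Red.gmFn (x ≫ φ) = 1 := by
  let A : CommRingCat.{u} := CommRingCat.of (Polynomial K)
  let X' : Over S :=
    Over.mk (Spec.map (CommRingCat.ofHom (Polynomial.C : K →+* Polynomial K)) ≫ p)
  let t : X' ⟶ Red.Ga S := (gaEquiv X').symm ((Scheme.ΓSpecIso A).inv Polynomial.X)
  have ht : Red.gaFn t = (Scheme.ΓSpecIso A).inv Polynomial.X := gaFn_gaEquiv_symm _
  have hev : ∀ a : K, ∃ e : Over.mk p ⟶ X', ∀ P : Polynomial K,
      e.left.appTop ((Scheme.ΓSpecIso A).inv P) =
        (Scheme.ΓSpecIso (CommRingCat.of K)).inv (P.eval a) := by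
    intro a
    refine ⟨Over.homMk (Spec.map (CommRingCat.ofHom (Polynomial.evalRingHom a))) ?_, ?_⟩
    · show Spec.map _ ≫ Spec.map _ ≫ p = p
      rw [← Category.assoc, ← Spec.map_comp, ← CommRingCat.ofHom_comp]
      have : (Polynomial.evalRingHom a).comp Polynomial.C = RingHom.id K := by ext; simp
      rw [this]
      simp
    · intro P
      show (Spec.map _).appTop _ = _
      have := Scheme.ΓSpecIso_inv_naturality (CommRingCat.ofHom (Polynomial.evalRingHom a))
      exact (ConcreteCategory.congr_hom this P).symm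
  have hu : IsUnit ((Scheme.ΓSpecIso A).hom (Red.gmFn (t ≫ φ))) :=
    (gmFn_isUnit (t ≫ φ)).map (Scheme.ΓSpecIso A).hom.hom
  obtain ⟨c, hc, hcP⟩ := Polynomial.isUnit_iff.mp hu
  have hP : Red.gmFn (t ≫ φ) = (Scheme.ΓSpecIso A).inv (Polynomial.C c) := by
    rw [hcP]; simp
  have key : ∀ y : Over.mk p ⟶ Red.Ga S,
      Red.gmFn (y ≫ φ) = (Scheme.ΓSpecIso (CommRingCat.of K)).inv c := by
    intro y
    obtain ⟨e, he⟩ := hev ((Scheme.ΓSpecIso (CommRingCat.of K)).hom (Red.gaFn y))
    have hy : y = e ≫ t := by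
      apply gaFn_injective
      rw [gaFn_comp, ht, he]
      simp
    rw [hy, Category.assoc, gmFn_comp, hP, he]
    simp
  rw [key x, ← key 1, h1, gmFn_one]

/-- Over a reduced base, a pointed morphism `𝔾_a ⟶ 𝔾_m` is trivial. -/
theorem hom_eq_one (S : Scheme.{u}) [IsReduced S] (φ : Red.Ga S ⟶ Red.Gm S)
    (h1 : ∀ X : Over S, (1 : X ⟶ Red.Ga S) ≫ φ = 1) : φ = 1 := by
  have := isReduced_Ga S
  apply gmFn_injective
  rw [gmFn_one]
  have h0 : Red.gmFn φ - 1 = 0 := by
    apply eq_zero_of_forall_pt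
    intro y
    rw [map_sub, map_one, sub_eq_zero]
    have := gmFn_comp_eq_one_of_field φ h1 ((Red.Ga S).left.residueField y)
      ((Red.Ga S).left.fromSpecResidueField y ≫ (Red.Ga S).hom)
      (Over.homMk ((Red.Ga S).left.fromSpecResidueField y) rfl)
    rw [gmFn_comp] at this
    exact this
  exact sub_eq_zero.mp h0

end Groth.Agent.R2.H60.GaGmTriv
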