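import Mathlib
import Groth.Prelude.Def_W4c2azumayainvolQEt
import Groth.Agent.Lib.Helper15QuadEtale

set_option autoImplicit false
set_option linter.unusedSectionVars false

namespace Groth.Agent.R2.H60.HermDiag

open Matrix
open Groth.Agent.Lib.Helper15.QuadEtale

universe u v

section CT

variable {A : Type v} [CommRing A] (σ : A →+* A)
variable {l m n k : Type*}

/-- conjugate transpose with respect to a ring endomorphism `σ`. -/
def ct (M : Matrix m n A) : Matrix n m A := (M.map σ)ᵀ

@[simp] theorem ct_apply (M : Matrix m n A) (i : n) (j : m) : ct σ M i j = σ (M j i) := rfl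

theorem ct_mul [Fintype n] (M : Matrix m n A) (N : Matrix n k A) :
    ct σ (M * N) = ct σ N * ct σ M := by
  ext i j
  simp only [ct_apply, Matrix.mul_apply, map_sum, map_mul]
  exact Finset.sum_congr rfl fun x _ => mul_comm _ _

@[simp] theorem ct_one [DecidableEq n] : ct σ (1 : Matrix n n A) = 1 := by
  ext i j
  simp only [ct_apply, Matrix.one_apply]
  by_cases hij : i = j
  · simp [hij]
  · simp [hij, Ne.symm hij]

@[simp] theorem ct_zero : ct σ (0 : Matrix m n A) = 0 := by
  ext i j; simp

theorem ct_add (M N : Matrix m n A) : ct σ (M + N) = ct σ M + ct σ N := by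
  ext i j; simp

theorem ct_sub (M N : Matrix m n A) : ct σ (M - N) = ct σ M - ct σ N := by
  ext i j; simp

theorem ct_neg (M : Matrix m n A) : ct σ (-M) = -ct σ M := by
  ext i j; simp

theorem ct_smul (e : A) (M : Matrix m n A) : ct σ (e • M) = σ e • ct σ M := by
  ext i j; simp

theorem ct_ct (hσ : ∀ a, σ (σ a) = a) (M : Matrix m n A) : ct σ (ct σ M) = M := by
  ext i j; simp [hσ]

theorem ct_fromBlocks (a : Matrix l m A) (b : Matrix l n A) (c : Matrix k m A) (d : Matrix k n A) :
    ct σ (fromBlocks a b c d) = fromBlocks (ct σ a) (ct σ c) (ct σ b) (ct σ d) := by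
  simp only [ct, fromBlocks_map, fromBlocks_transpose]

theorem ct_transvection [DecidableEq n] (i j : n) (c : A) :
    ct σ (transvection i j c) = transvection j i (σ c) := by
  ext x y
  simp only [ct_apply, transvection, Matrix.add_apply, Matrix.one_apply, Matrix.single_apply,
    map_add]
  by_cases h1 : y = x
  · subst h1
    by_cases h2 : i = y
    · subst h2
      by_cases h3 : j = i
      · subst h3; simp
      · simp [h3]
    · simp [h2]
  · by_cases h2 : i = y
    · subst h2
      by_cases h3 : j = x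
      · subst h3; simp [h1, Ne.symm h1]
      · simp [h1, Ne.symm h1, h3]
    · simp [h1, Ne.symm h1, h2]

theorem ct_diagonal [DecidableEq n] (d : n → A) :
    ct σ (diagonal d) = diagonal (fun i => σ (d i)) := by
  ext i j
  simp only [ct_apply, Matrix.diagonal_apply]
  by_cases hij : i = j
  · simp [hij]
  · simp [hij, Ne.symm hij]

theorem isUnit_ct [Fintype n] [DecidableEq n] {M : Matrix n n A} (hM : IsUnit M) :
    IsUnit (ct σ M) := by
  obtain ⟨N, hN⟩ := hM.exists_right_inv
  have : ct σ N * ct σ M = 1 := by rw [← ct_mul, hN, ct_one]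
  exact IsUnit.of_mul_eq_one _ (mul_eq_one_comm.mp this)

theorem ct_submatrix {m' n' : Type*} (M : Matrix m n A) (e : m' → m) (f : n' → n) :
    ct σ (M.submatrix e f) = (ct σ M).submatrix f e := by
  ext i j; simp

end CT

section Ring

variable {B : Type u} {A : Type v} [CommRing B] [CommRing A] [Algebra B A]
  (lam : A ≃+* A) (hlam : Function.Involutive lam) (hB : RInv.IsFixedRing B A lam)

include hB in
theorem nontrivial_of_fixed [Nontrivial B] : Nontrivial A := hB.1.nontrivial

variable [IsLocalRing B]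

include hlam hB in
/-- a non-unit `s` with `lam s ∈ (s)` lies in the Jacobson radical. -/
theorem mem_jacobson_of_not_isUnit {s w : A} (hs : lam s = w * s) (hnu : ¬ IsUnit s) :
    s ∈ Ring.jacobson A := by
  obtain ⟨M, hM, hsM⟩ := exists_max_ideal_of_mem_nonunits hnu
  rw [← Ideal.jacobson_bot, Ideal.jacobson, Ideal.mem_sInf]
  rintro N ⟨-, hN⟩
  rcases maximal_orbit lam hlam hB M N with h | h
  · exact h ▸ hsM
  · rw [h, Ideal.mem_comap]
    show lam s ∈ M
    rw [hs]
    exact M.mul_mem_left _ hsM

include hlam hB in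
/-- if `lam` is the identity modulo the Jacobson radical then `A` is local. -/
theorem isLocalRing_of_id (hid : ∀ a : A, lam a - a ∈ Ring.jacobson A) : IsLocalRing A := by
  have : Nontrivial A := nontrivial_of_fixed lam hB
  obtain ⟨M, hM⟩ := Ideal.exists_maximal A
  refine IsLocalRing.of_unique_max_ideal ⟨M, hM, ?_⟩
  intro N hN
  rcases maximal_orbit lam hlam hB M N with h | h
  · exact h
  · rw [h]
    ext x
    rw [Ideal.mem_comap]
    have hx : lam x - x ∈ M := by
      have := hid x
      rw [← Ideal.jacobson_bot, Ideal.jacobson, Ideal.mem_sInf] at this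
      exact this ⟨bot_le, hM⟩
    constructor
    · intro h1
      have : lam x - (lam x - x) ∈ M := M.sub_mem h1 hx
      simpa using this
    · intro h1
      have : (lam x - x) + x ∈ M := M.add_mem hx h1
      simpa using this

end Ring

section Herm

variable {B : Type u} {A : Type v} [CommRing B] [CommRing A] [Algebra B A]
  (lam : A ≃+* A) (hlam : Function.Involutive lam) (hB : RInv.IsFixedRing B A lam)
variable {ι : Type*} [Fintype ι] [DecidableEq ι]

/-- the ring endomorphism underlying `lam`. -/
abbrev sg : A →+* A := (lam : A →+* A)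

theorem lam_eps {ε : A} (hε : ε = 1 ∨ ε = -1) : lam ε = ε := by
  rcases hε with h | h <;> simp [h]

theorem eps_mul_eps {ε : A} (hε : ε = 1 ∨ ε = -1) : ε * ε = 1 := by
  rcases hε with h | h <;> simp [h]

/-- entrywise form of the hermitian condition. -/
theorem herm_entry {ε : A} {h : Matrix ι ι A} (herm : ε • ct (sg lam) h = h) (i j : ι) :
    h i j = ε * lam (h j i) := by
  have := congrFun (congrFun herm i) j
  simpa using this.symm

include hlam in
/-- congruence preserves the hermitian condition. -/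
theorem herm_congr {κ : Type*} [Fintype κ] [DecidableEq κ] {ε : A}
    {h : Matrix ι ι A} (herm : ε • ct (sg lam) h = h) (v : Matrix ι κ A) :
    ε • ct (sg lam) (ct (sg lam) v * h * v) = ct (sg lam) v * h * v := by
  have hct : ct (sg lam) (ct (sg lam) v) = v := ct_ct _ (fun a => hlam a) v
  rw [ct_mul, ct_mul, hct, ← Matrix.mul_smul, ← Matrix.smul_mul, herm, Matrix.mul_assoc]

theorem herm_diag {ε : A} (hε : ε = 1 ∨ ε = -1) {h : Matrix ι ι A}
    (herm : ε • ct (sg lam) h = h) (i : ι) : lam (h i i) = ε * h i i := by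
  have h1 := herm_entry lam herm i i
  calc lam (h i i) = (ε * ε) * lam (h i i) := by rw [eps_mul_eps hε, one_mul]
    _ = ε * (ε * lam (h i i)) := by ring
    _ = ε * h i i := by rw [← h1]

theorem congr_transvection_entry (h : Matrix ι ι A) (i0 j : ι) (c : A) :
    (ct (sg lam) (transvection j i0 c) * h * transvection j i0 c) i0 i0 =
      h i0 i0 + lam c * h j i0 + c * (h i0 j + lam c * h j j) := by
  rw [ct_transvection, mul_transvection_apply_same, transvection_mul_apply_same,
    transvection_mul_apply_same]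
  simp

theorem isUnit_transvection {i j : ι} (hij : i ≠ j) (c : A) : IsUnit (transvection i j c) := by
  rw [Matrix.isUnit_iff_isUnit_det, det_transvection_of_ne _ _ hij]
  exact isUnit_one

variable [IsLocalRing B]

include hlam hB in
/-- under the first two alternatives (or when some diagonal entry is a unit), a congruence by the
identity or a transvection produces a unit diagonal entry. -/
theorem exists_unit_entry [Nonempty ι] {ε : A} (hε : ε = 1 ∨ ε = -1) {h : Matrix ι ι A}
    (hh : IsUnit h) (herm : ε • ct (sg lam) h = h)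
    (hP : ((∃ a : A, lam a - a ∉ Ring.jacobson A) ∨ ε + 1 ∉ Ring.jacobson A) ∨
      ∃ i, IsUnit (h i i)) :
    ∃ (i0 : ι) (v : Matrix ι ι A), IsUnit v ∧ IsUnit ((ct (sg lam) v * h * v) i0 i0) := by
  by_cases hd : ∃ i, IsUnit (h i i)
  · obtain ⟨i, hi⟩ := hd
    exact ⟨i, 1, isUnit_one, by simpa using hi⟩
  push Not at hd
  have hcond : (∃ a : A, lam a - a ∉ Ring.jacobson A) ∨ ε + 1 ∉ Ring.jacobson A := by
    rcases hP with h1 | ⟨i, hi⟩
    · exact h1
    · exact absurd hi (hd i)
  by_contra hcon
  push Not at hcon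
  set J := Ring.jacobson A with hJ
  have hdiag : ∀ i, h i i ∈ J := fun i =>
    mem_jacobson_of_not_isUnit lam hlam hB (herm_diag lam hε herm i) (hd i)
  let i0 : ι := Classical.arbitrary ι
  -- the mixed terms lie in the radical
  have hT : ∀ (j : ι) (c : A), lam c * h j i0 + c * h i0 j ∈ J := by
    intro j c
    by_cases hj : j = i0
    · subst hj
      exact J.add_mem (J.mul_mem_left _ (hdiag _)) (J.mul_mem_left _ (hdiag _))
    · have hv : IsUnit (transvection j i0 c) := isUnit_transvection hj c
      have hnu := hcon i0 _ hv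
      have hsym := herm_diag lam hε (herm_congr lam hlam herm (transvection j i0 c)) i0
      have hE := mem_jacobson_of_not_isUnit lam hlam hB hsym hnu
      rw [congr_transvection_entry] at hE
      have h2 : h i0 i0 + c * lam c * h j j ∈ J :=
        J.add_mem (hdiag _) (J.mul_mem_left _ (hdiag _))
      have := J.sub_mem hE h2
      have heq : h i0 i0 + lam c * h j i0 + c * (h i0 j + lam c * h j j) -
          (h i0 i0 + c * lam c * h j j) = lam c * h j i0 + c * h i0 j := by ring
      rwa [heq] at this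
  obtain ⟨g, hg⟩ := hh.exists_right_inv
  have h1 : ∑ j, h i0 j * g j i0 = 1 := by
    have := congrFun (congrFun hg i0) i0
    simpa [Matrix.mul_apply] using this
  have key : ∀ a : A, a + ε * lam a ∈ J := by
    intro a
    have hsum : ∑ j, (lam (a * g j i0) * h j i0 + a * g j i0 * h i0 j) ∈ J :=
      Ideal.sum_mem _ (fun j _ => hT j _)
    have heq : ∑ j, (lam (a * g j i0) * h j i0 + a * g j i0 * h i0 j) =
        ε * lam a * lam (∑ j, h i0 j * g j i0) + a * ∑ j, h i0 j * g j i0 := by
      rw [map_sum, Finset.mul_sum, Finset.mul_sum, ← Finset.sum_add_distrib]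
      refine Finset.sum_congr rfl fun j _ => ?_
      rw [herm_entry lam herm j i0]
      simp only [map_mul]
      ring
    rw [heq, h1, map_one, mul_one, mul_one] at hsum
    rwa [add_comm] at hsum
  have hε1 : ε + 1 ∈ J := by
    have := key 1
    rwa [map_one, mul_one, add_comm] at this
  rcases hcond with ⟨a, ha⟩ | h2
  · apply ha
    have h3 : ε * (a + ε * lam a) - (ε + 1) * a ∈ J :=
      J.sub_mem (J.mul_mem_left _ (key a)) (J.mul_mem_right _ hε1)
    have heq : ε * (a + ε * lam a) - (ε + 1) * a = (ε * ε) * lam a - a := by ring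
    rwa [heq, eps_mul_eps hε, one_mul] at h3
  · exact h2 hε1

end Herm

section Blocks

variable {A : Type v} [CommRing A] (lam : A ≃+* A) (hlam : Function.Involutive lam)
variable {m1 m2 : Type*} [Fintype m1] [DecidableEq m1] [Fintype m2] [DecidableEq m2]

theorem herm_blocks {ε : A} {a : Matrix m1 m1 A} {b : Matrix m1 m2 A} {c : Matrix m2 m1 A}
    {D : Matrix m2 m2 A}
    (herm : ε • ct (sg lam) (fromBlocks a b c D) = fromBlocks a b c D) :
    ε • ct (sg lam) a = a ∧ ε • ct (sg lam) c = b ∧ ε • ct (sg lam) b = c ∧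
      ε • ct (sg lam) D = D := by
  rw [ct_fromBlocks, fromBlocks_smul, fromBlocks_inj] at herm
  exact herm

include hlam in
/-- Schur complement as a congruence: splitting off an invertible upper left block. -/
theorem schur_congr {ε : A} (hε : ε = 1 ∨ ε = -1)
    (a : Matrix m1 m1 A) (b : Matrix m1 m2 A) (c : Matrix m2 m1 A) (D : Matrix m2 m2 A)
    (herm : ε • ct (sg lam) (fromBlocks a b c D) = fromBlocks a b c D)
    (ai : Matrix m1 m1 A) (h1 : a * ai = 1) (h2 : ai * a = 1) :
    ∃ v : Matrix (m1 ⊕ m2) (m1 ⊕ m2) A, IsUnit v ∧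
      ct (sg lam) v * fromBlocks a b c D * v = fromBlocks a 0 0 (D - c * ai * b) := by
  obtain ⟨ha, -, hb, -⟩ := herm_blocks lam herm
  have hee := eps_mul_eps hε
  -- `ct ai = ε • ai`
  have hcta : ct (sg lam) a = ε • a := by
    calc ct (sg lam) a = (ε * ε) • ct (sg lam) a := by rw [hee, one_smul]
      _ = ε • (ε • ct (sg lam) a) := by rw [mul_smul]
      _ = ε • a := by rw [ha]
  have h3 : ct (sg lam) ai * ct (sg lam) a = 1 := by rw [← ct_mul, h1, ct_one]
  have h4 : (ε • ct (sg lam) ai) * a = 1 := by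
    rw [hcta, Matrix.mul_smul] at h3
    rwa [Matrix.smul_mul]
  have h5 : ε • ct (sg lam) ai = ai := by
    calc ε • ct (sg lam) ai = (ε • ct (sg lam) ai) * (a * ai) := by rw [h1, Matrix.mul_one]
      _ = ((ε • ct (sg lam) ai) * a) * ai := by rw [Matrix.mul_assoc]
      _ = ai := by rw [h4, Matrix.one_mul]
  have hctai : ct (sg lam) ai = ε • ai := by
    calc ct (sg lam) ai = (ε * ε) • ct (sg lam) ai := by rw [hee, one_smul]
      _ = ε • (ε • ct (sg lam) ai) := by rw [mul_smul]
      _ = ε • ai := by rw [h5]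
  refine ⟨fromBlocks 1 (-(ai * b)) 0 1, ?_, ?_⟩
  · refine IsUnit.of_mul_eq_one (fromBlocks 1 (ai * b) 0 1) ?_
    rw [fromBlocks_multiply]
    simp [fromBlocks_one]
  · rw [ct_fromBlocks, fromBlocks_multiply, fromBlocks_multiply]
    have e1 : ct (sg lam) (-(ai * b)) = -(c * ai) := by
      rw [ct_neg, ct_mul, hctai, Matrix.mul_smul, ← Matrix.smul_mul, hb]
    rw [e1]
    simp only [ct_one, ct_zero, Matrix.one_mul, Matrix.zero_mul, Matrix.mul_one, Matrix.mul_zero,
      add_zero]
    congr 1
    · rw [Matrix.mul_neg, ← Matrix.mul_assoc, h1, Matrix.one_mul, neg_add_cancel]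
    · rw [Matrix.neg_mul, Matrix.mul_assoc, h2, Matrix.mul_one, neg_add_cancel]
    · rw [Matrix.neg_mul, Matrix.mul_assoc, h2, Matrix.mul_one, neg_add_cancel, Matrix.zero_mul,
        zero_add, Matrix.neg_mul, sub_eq_neg_add]

theorem congr_fromBlocks_diag (a : Matrix m1 m1 A) (S w : Matrix m2 m2 A) :
    ct (sg lam) (fromBlocks (1 : Matrix m1 m1 A) 0 0 w) * fromBlocks a 0 0 S *
      fromBlocks (1 : Matrix m1 m1 A) 0 0 w = fromBlocks a 0 0 (ct (sg lam) w * S * w) := by
  rw [ct_fromBlocks, fromBlocks_multiply, fromBlocks_multiply]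
  simp

theorem isUnit_fromBlocks_one {w : Matrix m2 m2 A} (hw : IsUnit w) :
    IsUnit (fromBlocks (1 : Matrix m1 m1 A) 0 0 w) :=
  isUnit_fromBlocks_zero₂₁.mpr ⟨isUnit_one, hw⟩

end Blocks

section Step

variable {B : Type u} {A : Type v} [CommRing B] [CommRing A] [Algebra B A]
  (lam : A ≃+* A) (hlam : Function.Involutive lam) (hB : RInv.IsFixedRing B A lam)

/-- the first two alternatives of the hypothesis. -/
def Cond (ε : A) : Prop :=
  (∃ a : A, lam a - a ∉ Ring.jacobson A) ∨ ε + 1 ∉ Ring.jacobson A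

/-- the inductive invariant: the first two alternatives hold, or some diagonal entry is a unit. -/
def Good {ι : Type*} (ε : A) (h : Matrix ι ι A) : Prop :=
  Cond lam ε ∨ ∃ i, IsUnit (h i i)

variable {m1 m2 : Type*} [Fintype m1] [DecidableEq m1] [Fintype m2] [DecidableEq m2] [Unique m1]

omit [Fintype m1] in
theorem eq_diagonal_of_unique (a : Matrix m1 m1 A) :
    a = diagonal (fun _ => a default default) := by
  ext i j
  rw [Subsingleton.elim i default, Subsingleton.elim j default]
  simp

theorem diagonal_mul_inv_unique {α αi : A} (h : α * αi = 1) :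
    (diagonal (fun _ : m1 => α)) * diagonal (fun _ : m1 => αi) = 1 := by
  rw [diagonal_mul_diagonal]
  simp [h]

/-- the effect of adding the `j1`-th basis vector to the distinguished one on a block diagonal
matrix. -/
theorem congr_transvection_blocks (α : A) (S : Matrix m2 m2 A) (j1 : m2) :
    ct (sg lam) (transvection (Sum.inr j1) (Sum.inl (default : m1)) (1 : A)) *
        fromBlocks (diagonal (fun _ : m1 => α)) 0 0 S *
        transvection (Sum.inr j1) (Sum.inl (default : m1)) (1 : A) =
      fromBlocks (diagonal (fun _ : m1 => α + S j1 j1)) (Matrix.of fun _ k => S j1 k)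
        (Matrix.of fun k _ => S k j1) S := by
  rw [ct_transvection, Matrix.mul_assoc]
  ext x y
  rcases x with i | k'
  · obtain rfl : i = default := Subsingleton.elim _ _
    rw [transvection_mul_apply_same]
    rcases y with j | k
    · obtain rfl : j = default := Subsingleton.elim _ _
      rw [mul_transvection_apply_same, mul_transvection_apply_same]
      simp
    · rw [mul_transvection_apply_of_ne _ _ _ _ (by simp), mul_transvection_apply_of_ne _ _ _ _ (by simp)]
      simp
  · rw [transvection_mul_apply_of_ne _ _ _ _ (by simp)]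
    rcases y with j | k
    · obtain rfl : j = default := Subsingleton.elim _ _
      rw [mul_transvection_apply_same]
      simp
    · rw [mul_transvection_apply_of_ne _ _ _ _ (by simp)]
      simp

theorem isUnit_eps {ε : A} (hε : ε = 1 ∨ ε = -1) : IsUnit ε :=
  IsUnit.of_mul_eq_one ε (eps_mul_eps hε)

variable [IsLocalRing B]

include hlam hB in
/-- the inductive step: with a unit in the distinguished diagonal position, a congruence splits
off a `1 × 1` block in such a way that the complement still satisfies the invariant. -/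
theorem step {ε : A} (hε : ε = 1 ∨ ε = -1) (h : Matrix (m1 ⊕ m2) (m1 ⊕ m2) A) (hh : IsUnit h)
    (herm : ε • ct (sg lam) h = h)
    (hu : IsUnit (h (Sum.inl default) (Sum.inl default))) :
    ∃ v : Matrix (m1 ⊕ m2) (m1 ⊕ m2) A, IsUnit v ∧ ∃ (α : A) (S : Matrix m2 m2 A),
      ct (sg lam) v * h * v = fromBlocks (diagonal (fun _ : m1 => α)) 0 0 S ∧
      (IsEmpty m2 ∨ Good lam ε S) := by
  obtain ⟨a, b, c, D, rfl⟩ : ∃ a b c D, h = fromBlocks a b c D :=
    ⟨_, _, _, _, (fromBlocks_toBlocks h).symm⟩
  obtain ⟨α, hα⟩ : ∃ α, α = a default default := ⟨_, rfl⟩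
  have hαu : IsUnit α := by rw [hα]; simpa using hu
  have ha : a = diagonal (fun _ => α) := by rw [hα]; exact eq_diagonal_of_unique a
  obtain ⟨αi, hαi⟩ := hαu.exists_right_inv
  have hαi' : αi * α = 1 := by rwa [mul_comm]
  subst ha
  obtain ⟨v2, hv2, hv2e⟩ := schur_congr lam hlam hε _ b c D herm (diagonal (fun _ : m1 => αi))
    (diagonal_mul_inv_unique hαi) (diagonal_mul_inv_unique hαi')
  obtain ⟨S, hS⟩ : ∃ S : Matrix m2 m2 A, S = D - c * diagonal (fun _ : m1 => αi) * b := ⟨_, rfl⟩
  rw [← hS] at hv2e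
  by_cases hgood : IsEmpty m2 ∨ Good lam ε S
  · exact ⟨v2, hv2, α, S, hv2e, hgood⟩
  obtain ⟨hne, hng⟩ := not_or.mp hgood
  rw [not_isEmpty_iff] at hne
  obtain ⟨hnc, hnd⟩ := not_or.mp hng
  have hid : ∀ x : A, lam x - x ∈ Ring.jacobson A := by
    intro x
    by_contra hx
    exact hnc (Or.inl ⟨x, hx⟩)
  push Not at hnd
  have hloc : IsLocalRing A := isLocalRing_of_id lam hlam hB hid
  have hh2 : IsUnit (fromBlocks (diagonal (fun _ : m1 => α)) 0 0 S) := by
    rw [← hv2e]
    exact ((isUnit_ct _ hv2).mul hh).mul hv2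
  have herm2 : ε • ct (sg lam) (fromBlocks (diagonal (fun _ : m1 => α)) 0 0 S) =
      fromBlocks (diagonal (fun _ : m1 => α)) 0 0 S := by
    rw [← hv2e]
    exact herm_congr lam hlam herm v2
  have hSu : IsUnit S := (isUnit_fromBlocks_zero₂₁.mp hh2).2
  have hSh : ε • ct (sg lam) S = S := (herm_blocks lam herm2).2.2.2
  have hSd : ∀ k, S k k ∈ Ring.jacobson A := fun k =>
    mem_jacobson_of_not_isUnit lam hlam hB (herm_diag lam hε hSh k) (hnd k)
  obtain ⟨j1⟩ := hne
  obtain ⟨k, hk⟩ : ∃ k, IsUnit (S j1 k) := by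
    by_contra hcon
    push Not at hcon
    obtain ⟨g, hg⟩ := hSu.exists_right_inv
    have h1 : ∑ k, S j1 k * g k j1 = 1 := by
      simpa [Matrix.mul_apply] using congrFun (congrFun hg j1) j1
    have hmem : ∑ k, S j1 k * g k j1 ∈ IsLocalRing.maximalIdeal A :=
      Ideal.sum_mem _ (fun k _ => Ideal.mul_mem_right _ _
        ((IsLocalRing.mem_maximalIdeal _).mpr (hcon k)))
    rw [h1] at hmem
    exact (IsLocalRing.mem_maximalIdeal _).mp hmem isUnit_one
  have hk' : IsUnit (S k j1) := by
    rw [herm_entry lam hSh k j1]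
    exact (isUnit_eps hε).mul (hk.map lam)
  have ht : IsUnit (transvection (Sum.inr j1) (Sum.inl (default : m1)) (1 : A)) :=
    isUnit_transvection (by simp) 1
  have h3e := congr_transvection_blocks (m1 := m1) lam α S j1
  have hα'u : IsUnit (α + S j1 j1) := isUnit_add_of_mem_jacobson hαu (hSd j1)
  obtain ⟨βi, hβi⟩ := hα'u.exists_right_inv
  have hβi' : βi * (α + S j1 j1) = 1 := by rwa [mul_comm]
  have herm3 := herm_congr lam hlam herm2
    (transvection (Sum.inr j1) (Sum.inl (default : m1)) (1 : A))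
  rw [h3e] at herm3
  obtain ⟨v4, hv4, hv4e⟩ := schur_congr lam hlam hε _ _ _ _ herm3 (diagonal (fun _ : m1 => βi))
    (diagonal_mul_inv_unique hβi) (diagonal_mul_inv_unique hβi')
  refine ⟨v2 * transvection (Sum.inr j1) (Sum.inl (default : m1)) (1 : A) * v4,
    (hv2.mul ht).mul hv4, α + S j1 j1,
    S - (Matrix.of fun k (_ : m1) => S k j1) * diagonal (fun _ : m1 => βi) *
        (Matrix.of fun (_ : m1) k => S j1 k), ?_, Or.inr (Or.inr ⟨k, ?_⟩)⟩
  · rw [← hv4e, ← h3e, ← hv2e, ct_mul, ct_mul]
    simp only [Matrix.mul_assoc]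
  · have hβu : IsUnit βi := IsUnit.of_mul_eq_one _ hβi'
    have hent : (S - (Matrix.of fun k (_ : m1) => S k j1) * diagonal (fun _ : m1 => βi) *
        (Matrix.of fun (_ : m1) k => S j1 k)) k k = -(S k j1 * βi * S j1 k) + S k k := by
      simp [Matrix.mul_apply, Matrix.sub_apply, Matrix.diagonal_apply]
      ring
    rw [hent]
    exact isUnit_add_of_mem_jacobson ((hk'.mul hβu).mul hk).neg (hSd k)

end Step

section Main

variable {B : Type u} {A : Type v} [CommRing B] [CommRing A] [Algebra B A]
  (lam : A ≃+* A) (hlam : Function.Involutive lam) (hB : RInv.IsFixedRing B A lam)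
  [IsLocalRing B]

include hlam hB in
/-- diagonalisation under the inductive invariant. -/
theorem diag_of_good {ε : A} (hε : ε = 1 ∨ ε = -1) :
    ∀ (n : ℕ) (ι : Type) [Fintype ι] [DecidableEq ι], Fintype.card ι = n →
      ∀ h : Matrix ι ι A, IsUnit h → ε • ct (sg lam) h = h → (IsEmpty ι ∨ Good lam ε h) →
        ∃ v : Matrix ι ι A, IsUnit v ∧ ∃ d : ι → A, ct (sg lam) v * h * v = diagonal d := by
  intro n
  induction n with
  | zero =>
    intro ι _ _ hc h _ _ _
    have : IsEmpty ι := Fintype.card_eq_zero_iff.mp hc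
    exact ⟨1, isUnit_one, fun _ => 0, by ext i; exact isEmptyElim i⟩
  | succ n ih =>
    intro ι _ _ hc h hh herm hgood
    have hne : Nonempty ι := Fintype.card_pos_iff.mp (by omega)
    have hg : Good lam ε h := hgood.resolve_left (not_isEmpty_iff.mpr hne)
    obtain ⟨i0, v1, hv1, hu⟩ := exists_unit_entry lam hlam hB hε hh herm hg
    obtain ⟨h1, hh1⟩ : ∃ h1, h1 = ct (sg lam) v1 * h * v1 := ⟨_, rfl⟩
    rw [← hh1] at hu
    have hh1u : IsUnit h1 := by
      rw [hh1]
      exact ((isUnit_ct _ hv1).mul hh).mul hv1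
    have herm1 : ε • ct (sg lam) h1 = h1 := by
      rw [hh1]
      exact herm_congr lam hlam herm v1
    let e : ι ≃ {a // a = i0} ⊕ {a // ¬ a = i0} := (Equiv.sumCompl (· = i0)).symm
    obtain ⟨h1', hh1'⟩ : ∃ h1', h1' = h1.submatrix e.symm e.symm := ⟨_, rfl⟩
    have hh1'u : IsUnit h1' := by
      rw [hh1']
      exact (isUnit_submatrix_equiv e.symm e.symm).mpr hh1u
    have herm1' : ε • ct (sg lam) h1' = h1' := by
      rw [hh1', ct_submatrix]
      show (ε • ct (sg lam) h1).submatrix e.symm e.symm = _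
      rw [herm1]
    have hu' : IsUnit (h1' (Sum.inl default) (Sum.inl default)) := by
      have h0 : e.symm (Sum.inl default) = i0 := (default : {a // a = i0}).2
      rw [hh1', submatrix_apply, h0]
      exact hu
    obtain ⟨v2, hv2, α, S, hv2e, hS⟩ := step lam hlam hB hε h1' hh1'u herm1' hu'
    have hh2 : IsUnit (fromBlocks (diagonal (fun _ : {a // a = i0} => α)) 0 0 S) := by
      rw [← hv2e]
      exact ((isUnit_ct _ hv2).mul hh1'u).mul hv2
    have herm2 : ε • ct (sg lam) (fromBlocks (diagonal (fun _ : {a // a = i0} => α)) 0 0 S) =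
        fromBlocks (diagonal (fun _ : {a // a = i0} => α)) 0 0 S := by
      rw [← hv2e]
      exact herm_congr lam hlam herm1' v2
    have hSu : IsUnit S := (isUnit_fromBlocks_zero₂₁.mp hh2).2
    have hSh : ε • ct (sg lam) S = S := (herm_blocks lam herm2).2.2.2
    have hcard : Fintype.card {a // ¬ a = i0} = n := by
      have h3 := Fintype.card_congr e
      have h4 : Fintype.card {a // a = i0} = 1 := Fintype.card_unique
      rw [Fintype.card_sum, h4] at h3
      omega
    obtain ⟨v3, hv3, d', hv3e⟩ := ih {a // ¬ a = i0} hcard S hSu hSh hS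
    obtain ⟨w, hw⟩ : ∃ w, w = v2 * fromBlocks (1 : Matrix {a // a = i0} {a // a = i0} A) 0 0 v3 :=
      ⟨_, rfl⟩
    have hwu : IsUnit w := by
      rw [hw]
      exact hv2.mul (isUnit_fromBlocks_one hv3)
    have hwe : ct (sg lam) w * h1' * w = diagonal (Sum.elim (fun _ => α) d') := by
      rw [hw, ct_mul]
      calc ct (sg lam) (fromBlocks (1 : Matrix {a // a = i0} {a // a = i0} A) 0 0 v3) *
            ct (sg lam) v2 * h1' *
            (v2 * fromBlocks (1 : Matrix {a // a = i0} {a // a = i0} A) 0 0 v3)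
          = ct (sg lam) (fromBlocks (1 : Matrix {a // a = i0} {a // a = i0} A) 0 0 v3) *
            (ct (sg lam) v2 * h1' * v2) *
            fromBlocks (1 : Matrix {a // a = i0} {a // a = i0} A) 0 0 v3 := by
            simp only [Matrix.mul_assoc]
        _ = _ := by rw [hv2e, congr_fromBlocks_diag, hv3e, fromBlocks_diagonal]
    refine ⟨v1 * w.submatrix e e, hv1.mul ((isUnit_submatrix_equiv e e).mpr hwu),
      (Sum.elim (fun _ => α) d') ∘ e, ?_⟩
    have h1eq : h1 = h1'.submatrix e e := by
      rw [hh1', submatrix_submatrix]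
      simp
    rw [ct_mul]
    calc ct (sg lam) (w.submatrix e e) * ct (sg lam) v1 * h * (v1 * w.submatrix e e)
        = ct (sg lam) (w.submatrix e e) * h1 * w.submatrix e e := by
          rw [hh1]
          simp only [Matrix.mul_assoc]
      _ = (ct (sg lam) w).submatrix e e * h1'.submatrix e e * w.submatrix e e := by
          rw [ct_submatrix, ← h1eq]
      _ = (ct (sg lam) w * h1' * w).submatrix e e := by
          rw [submatrix_mul_equiv, submatrix_mul_equiv]
      _ = _ := by rw [hwe, submatrix_diagonal_equiv]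

end Main

section Alt

/-- an alternating matrix of odd size has determinant zero. -/
theorem det_eq_zero_of_alt {R : Type*} [CommRing R] {ι : Type*} [Fintype ι] [DecidableEq ι]
    (M : Matrix ι ι R) (hodd : Odd (Fintype.card ι)) (hd : ∀ i, M i i = 0)
    (hs : ∀ i j, M j i = -M i j) : M.det = 0 := by
  rw [Matrix.det_apply]
  refine Finset.sum_ninvolution (fun σ : Equiv.Perm ι => σ⁻¹) ?_ ?_ (fun _ => Finset.mem_univ _)
    (fun σ => inv_inv σ)
  · intro σ
    have h1 : ∏ i, M (σ⁻¹ i) i = ∏ i, M i (σ i) := by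
      rw [← Equiv.prod_comp σ]
      simp
    have h2 : ∏ i, M i (σ i) = -∏ i, M (σ i) i := by
      have h3 : ∀ i, M i (σ i) = -M (σ i) i := fun i => hs _ _
      simp_rw [h3]
      rw [Finset.prod_neg, Finset.card_univ, Odd.neg_one_pow hodd, neg_one_mul]
    rw [Equiv.Perm.sign_inv, h1, h2, smul_neg, add_neg_cancel]
  · intro σ hne heq
    apply hne
    have hσ2 : σ ^ 2 ^ 1 = 1 := by
      rw [pow_one, sq]
      nth_rewrite 1 [← heq]
      exact inv_mul_cancel σ
    have : Fact (Nat.Prime 2) := ⟨Nat.prime_two⟩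
    obtain ⟨i, hi⟩ := Equiv.Perm.exists_fixed_point_of_prime (p := 2) (n := 1)
      (by rwa [← even_iff_two_dvd, Nat.not_even_iff_odd]) hσ2
    have h0 : ∏ j, M (σ j) j = 0 := Finset.prod_eq_zero (Finset.mem_univ i) (by rw [hi, hd])
    rw [h0, smul_zero]

variable {B : Type u} {A : Type v} [CommRing B] [CommRing A] [Algebra B A]
  (lam : A ≃+* A) (hlam : Function.Involutive lam) (hB : RInv.IsFixedRing B A lam)
  [IsLocalRing B]

include hlam hB in
/-- in the remaining case, odd size forces a unit on the diagonal. -/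
theorem exists_unit_diag_of_odd {ι : Type*} [Fintype ι] [DecidableEq ι] {ε : A}
    (hε : ε = 1 ∨ ε = -1) {h : Matrix ι ι A} (hh : IsUnit h) (herm : ε • ct (sg lam) h = h)
    (hodd : Odd (Fintype.card ι)) (hnc : ¬ Cond lam ε) : ∃ i, IsUnit (h i i) := by
  by_contra hcon
  push Not at hcon
  have hnt : Nontrivial A := nontrivial_of_fixed lam hB
  have hid : ∀ x : A, lam x - x ∈ Ring.jacobson A := by
    intro x
    by_contra hx
    exact hnc (Or.inl ⟨x, hx⟩)
  have hε1 : ε + 1 ∈ Ring.jacobson A := by
    by_contra hx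
    exact hnc (Or.inr hx)
  have hdiag : ∀ i, h i i ∈ Ring.jacobson A := fun i =>
    mem_jacobson_of_not_isUnit lam hlam hB (herm_diag lam hε herm i) (hcon i)
  let q := Ideal.Quotient.mk (Ring.jacobson A)
  have hqε : q ε = -1 := by
    have : q (ε + 1) = 0 := Ideal.Quotient.eq_zero_iff_mem.mpr hε1
    rw [map_add, map_one] at this
    exact eq_neg_of_add_eq_zero_left this
  have hqlam : ∀ x, q (lam x) = q x := by
    intro x
    have : q (lam x - x) = 0 := Ideal.Quotient.eq_zero_iff_mem.mpr (hid x)
    rw [map_sub] at this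
    exact sub_eq_zero.mp this
  have hdet : (h.map q).det = 0 := by
    apply det_eq_zero_of_alt _ hodd
    · intro i
      exact Ideal.Quotient.eq_zero_iff_mem.mpr (hdiag i)
    · intro i j
      simp only [Matrix.map_apply]
      rw [herm_entry lam herm j i, map_mul, hqε, hqlam, neg_one_mul]
  have hdet' : q h.det = 0 := by
    rw [RingHom.map_det, RingHom.mapMatrix_apply]
    exact hdet
  have hmem : h.det ∈ Ring.jacobson A := Ideal.Quotient.eq_zero_iff_mem.mp hdet'
  exact not_isUnit_of_mem_jacobson hmem ((Matrix.isUnit_iff_isUnit_det h).mp hh)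

include hlam hB in
/-- the diagonalisation theorem in matrix form. -/
theorem main (n : ℕ) {ε : A} (hε : ε = 1 ∨ ε = -1) (h : Matrix (Fin n) (Fin n) A)
    (hh : IsUnit h) (herm : ε • ct (sg lam) h = h)
    (hcase : (∃ a : A, lam a - a ∉ Ring.jacobson A) ∨ ε + 1 ∉ Ring.jacobson A ∨ Odd n) :
    ∃ v : Matrix (Fin n) (Fin n) A, IsUnit v ∧
      ∃ d : Fin n → A, ct (sg lam) v * h * v = Matrix.diagonal d := by
  have hgood : Good lam ε h := by
    by_cases hc : Cond lam ε
    · exact Or.inl hc
    · have hodd : Odd n := by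
        rcases hcase with h1 | h1 | h1
        · exact absurd (Or.inl h1) hc
        · exact absurd (Or.inr h1) hc
        · exact h1
      exact Or.inr (exists_unit_diag_of_odd lam hlam hB hε hh herm (by simpa using hodd) hc)
  exact diag_of_good lam hlam hB hε n (Fin n) (by simp) h hh herm (Or.inr hgood)

end Alt

end Groth.Agent.R2.H60.HermDiag
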