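import Mathlib
import Groth.Prelude.Def_W4c2azumayainvolQEt
import Groth.Agent.Lib.Helper15QuadEtale
import Groth.Agent.Lib.Helper3HenselInt
import Groth.Agent.Lib.Helper18HenselMap

/-!
# Rings with involution over a strictly henselian fixed ring (helper60)

If `S = R^λ` is strictly henselian then `R` is a product of one or two strictly henselian local
rings: `R` is integral over `S`, has at most two maximal ideals `M, λ M` (helper15), and when they
differ an explicit idempotent `e = (r - a)/(b - a)` separates them, where `a, b ∈ S` are the roots of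
`X² - (r + λ r) X + r λ r` given by Hensel's lemma for a suitable `r ∈ M ∖ λ M`.
-/

set_option autoImplicit false
universe u v

open IsLocalRing Polynomial

namespace Groth.Agent.R2.H60.InvHensel

open Groth.Agent.Lib.Helper15.QuadEtale

section Transfer

/-- `HenselianLocalRing` transfers along ring isomorphisms. -/
theorem henselian_of_ringEquiv {V W : Type*} [CommRing V] [CommRing W] [HenselianLocalRing V]
    (e : V ≃+* W) : HenselianLocalRing W := by
  haveI : IsLocalRing W := e.isLocalRing
  refine Groth.Agent.Lib.Helper18HenselMap.henselianLocal_of_map e.toRingHom (maximalIdeal V)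
    le_rfl ?_ ?_
  · intro w hw
    refine ⟨e.symm w, ?_, by simp⟩
    rw [mem_maximalIdeal, mem_nonunits_iff] at hw ⊢
    intro hu
    exact hw (by simpa using hu.map e)
  · intro v hv
    rw [mem_maximalIdeal, mem_nonunits_iff] at hv ⊢
    intro hu
    exact hv (by simpa using hu.map e.symm)

/-- A local ring integral over a henselian local ring is henselian (universe-polymorphic version of
helper3's `henselian_of_isIntegral`). -/
theorem henselian_of_isIntegral' (S : Type u) [CommRing S] [HenselianLocalRing S]
    (C : Type v) [CommRing C] [IsLocalRing C] [Algebra S C] [Algebra.IsIntegral S C] :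
    HenselianLocalRing C := by
  haveI : HenselianLocalRing (ULift.{v} S) :=
    henselian_of_ringEquiv (ULift.ringEquiv.symm : S ≃+* ULift.{v} S)
  haveI : IsLocalRing (ULift.{u} C) := (ULift.ringEquiv.symm : C ≃+* ULift.{u} C).isLocalRing
  let φ : ULift.{v} S →+* ULift.{u} C :=
    ((ULift.ringEquiv.symm : C ≃+* ULift.{u} C).toRingHom.comp (algebraMap S C)).comp
      (ULift.ringEquiv : ULift.{v} S ≃+* S).toRingHom
  letI : Algebra (ULift.{v} S) (ULift.{u} C) := φ.toAlgebra
  have hφ : φ.IsIntegral := by
    refine RingHom.IsIntegral.trans _ _ (RingHom.isIntegral_of_surjective _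
      (ULift.ringEquiv : ULift.{v} S ≃+* S).surjective) ?_
    refine RingHom.IsIntegral.trans _ _ (algebraMap_isIntegral_iff.mpr inferInstance)
      (RingHom.isIntegral_of_surjective _ (ULift.ringEquiv.symm : C ≃+* ULift.{u} C).surjective)
  haveI : Algebra.IsIntegral (ULift.{v} S) (ULift.{u} C) := ⟨fun x => hφ x⟩
  haveI := Groth.Agent.Lib.Helper3.HenselInt.henselian_of_isIntegral (ULift.{v} S) (ULift.{u} C)
  exact henselian_of_ringEquiv (ULift.ringEquiv : ULift.{u} C ≃+* C)

/-- The residue field of a local ring integral over a local ring with separably closed residue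
field is separably closed. -/
theorem isSepClosed_residueField (S : Type u) [CommRing S] [IsLocalRing S]
    [IsSepClosed (ResidueField S)] (C : Type v) [CommRing C] [IsLocalRing C] [Algebra S C]
    [Algebra.IsIntegral S C] : IsSepClosed (ResidueField C) := by
  haveI : IsLocalHom (algebraMap S C) := by
    have hmax : ((maximalIdeal C).comap (algebraMap S C)).IsMaximal :=
      Ideal.isMaximal_comap_of_isIntegral_of_isMaximal (maximalIdeal C)
    have := IsLocalRing.eq_maximalIdeal hmax
    exact ((local_hom_TFAE (algebraMap S C)).out 0 4 rfl rfl).mpr this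
  haveI : Algebra.IsIntegral (ResidueField S) (ResidueField C) := by
    constructor
    intro x
    obtain ⟨c, rfl⟩ := residue_surjective x
    have h1 : IsIntegral S (residue C c) :=
      (Algebra.IsIntegral.isIntegral (R := S) c).map (IsScalarTower.toAlgHom S C (ResidueField C))
    exact h1.tower_top
  haveI : Algebra.IsAlgebraic (ResidueField S) (ResidueField C) := Algebra.IsIntegral.isAlgebraic
  exact Algebra.IsAlgebraic.isSepClosed (F := ResidueField S) (E := ResidueField C)

/-- A quotient with exactly one maximal ideal above the kernel is local. -/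
theorem isLocalRing_quotient {R : Type*} [CommRing R] (I M : Ideal R) [hM : M.IsMaximal]
    (hIM : I ≤ M) (h : ∀ N : Ideal R, N.IsMaximal → I ≤ N → N = M) : IsLocalRing (R ⧸ I) := by
  haveI : Nontrivial (R ⧸ I) :=
    Ideal.Quotient.nontrivial_iff.mpr (fun h => hM.ne_top (top_le_iff.mp (h ▸ hIM)))
  apply IsLocalRing.of_unique_max_ideal
  obtain ⟨Nb, hNb⟩ := Ideal.exists_maximal (R ⧸ I)
  have key : ∀ K : Ideal (R ⧸ I), K.IsMaximal → K = M.map (Ideal.Quotient.mk I) := by
    intro K hK
    have h1 : (K.comap (Ideal.Quotient.mk I)).IsMaximal :=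
      Ideal.comap_isMaximal_of_surjective _ Ideal.Quotient.mk_surjective
    have h2 : I ≤ K.comap (Ideal.Quotient.mk I) := by
      intro x hx
      rw [Ideal.mem_comap, Ideal.Quotient.eq_zero_iff_mem.mpr hx]
      exact zero_mem _
    have h3 := h _ h1 h2
    rw [← h3, Ideal.map_comap_of_surjective _ Ideal.Quotient.mk_surjective]
  refine ⟨Nb, hNb, fun N' hN' => ?_⟩
  rw [key N' hN', key Nb hNb]

end Transfer

section Inv

variable {S : Type u} {R : Type v} [CommRing S] [CommRing R] [Algebra S R]
  (lam : R ≃+* R) (hlam : Function.Involutive lam) (hS : RInv.IsFixedRing S R lam)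

include hlam hS in
/-- `R` is integral over the fixed ring. -/
theorem isIntegral : Algebra.IsIntegral S R := by
  constructor
  intro r
  obtain ⟨t₀, ht₀⟩ := exists_trace lam hlam hS r
  obtain ⟨n₀, hn₀⟩ := exists_norm lam hlam hS r
  refine ⟨X ^ 2 + (C (-t₀) * X + C n₀),
    monic_X_pow_add (lt_of_le_of_lt degree_linear_le (by norm_num)), ?_⟩
  simp only [eval₂_add, eval₂_pow, eval₂_X, eval₂_mul, eval₂_C, eval₂_neg, map_neg, ht₀, hn₀]
  ring

include hlam hS in
/-- the idempotent separating `M` and `λ M`. -/
theorem exists_idempotent [HenselianLocalRing S] (M : Ideal R) [hM : M.IsMaximal]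
    (hne : M.comap (lam : R →+* R) ≠ M) :
    ∃ e : R, e * e = e ∧ e ∈ M ∧ 1 - e ∈ M.comap (lam : R →+* R) := by
  have hM' : (M.comap (lam : R →+* R)).IsMaximal :=
    Ideal.comap_isMaximal_of_surjective _ lam.surjective
  obtain ⟨r, hrM, hrM'⟩ : ∃ r, r ∈ M ∧ r ∉ M.comap (lam : R →+* R) := by
    by_contra hcon
    push Not at hcon
    exact hne (hM.eq_of_le hM'.ne_top hcon).symm
  obtain ⟨t₀, ht₀⟩ := exists_trace lam hlam hS r
  obtain ⟨n₀, hn₀⟩ := exists_norm lam hlam hS r
  have hjacM : ∀ s ∈ maximalIdeal S, algebraMap S R s ∈ M := by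
    intro s hs
    have h := algebraMap_mem_jacobson lam hlam hS hs
    rw [← Ideal.jacobson_bot] at h
    exact (Ideal.mem_sInf.mp h) ⟨bot_le, hM⟩
  have hn₀m : n₀ ∈ maximalIdeal S := by
    rw [mem_maximalIdeal, mem_nonunits_iff]
    intro hu
    have : IsUnit r := isUnit_of_mul_isUnit_left (hn₀ ▸ hu.map (algebraMap S R))
    exact hM.ne_top (Ideal.eq_top_of_isUnit_mem _ hrM this)
  have ht₀u : IsUnit t₀ := by
    by_contra hnu
    have h1 : algebraMap S R t₀ ∈ M := hjacM t₀ ((mem_maximalIdeal _).mpr hnu)
    rw [ht₀] at h1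
    have h2 : lam r ∈ M := by simpa using M.sub_mem h1 hrM
    exact hrM' h2
  -- Hensel's lemma for `X² - t₀ X + n₀` at `0`
  have hfm : (X ^ 2 + (C (-t₀) * X + C n₀) : S[X]).Monic :=
    monic_X_pow_add (lt_of_le_of_lt degree_linear_le (by norm_num))
  have hf0 : (X ^ 2 + (C (-t₀) * X + C n₀) : S[X]).eval 0 ∈ maximalIdeal S := by
    simpa using hn₀m
  have hf1 : IsUnit ((X ^ 2 + (C (-t₀) * X + C n₀) : S[X]).derivative.eval 0) := by
    simpa using ht₀u
  obtain ⟨a, haroot, ham⟩ := HenselianLocalRing.is_henselian _ hfm 0 hf0 hf1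
  have ham' : a ∈ maximalIdeal S := by simpa using ham
  have hroot : a ^ 2 + (-t₀ * a + n₀) = 0 := by simpa [IsRoot] using haroot
  have huu : IsUnit (t₀ - 2 * a) := by
    by_contra hnu
    have h1 : t₀ - 2 * a ∈ maximalIdeal S := (mem_maximalIdeal _).mpr hnu
    have h2 : t₀ ∈ maximalIdeal S := by
      have := Ideal.add_mem _ h1 (Ideal.mul_mem_left _ 2 ham')
      simpa using this
    exact ((mem_maximalIdeal _).mp h2) ht₀u
  obtain ⟨w, hw⟩ := huu.exists_right_inv
  have h1 : (r - algebraMap S R a) * (r - (algebraMap S R t₀ - algebraMap S R a)) = 0 := by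
    have h := congrArg (algebraMap S R) hroot
    simp only [map_add, map_mul, map_pow, map_neg, map_zero] at h
    rw [ht₀] at h ⊢
    rw [hn₀] at h
    linear_combination (-1 : R) * h
  have h2 : (algebraMap S R t₀ - 2 * algebraMap S R a) * algebraMap S R w = 1 := by
    have h := congrArg (algebraMap S R) hw
    simpa only [map_mul, map_sub, map_ofNat, map_one] using h
  refine ⟨(r - algebraMap S R a) * algebraMap S R w, ?_, ?_, ?_⟩
  · linear_combination (algebraMap S R w) ^ 2 * h1 +
      (r - algebraMap S R a) * algebraMap S R w * h2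
  · exact Ideal.mul_mem_right _ _ (M.sub_mem hrM (hjacM a ham'))
  · rw [Ideal.mem_comap]
    have h3 : (lam : R →+* R) (1 - (r - algebraMap S R a) * algebraMap S R w) =
        (r - algebraMap S R a) * algebraMap S R w := by
      show lam (1 - (r - algebraMap S R a) * algebraMap S R w) = _
      rw [map_sub, map_mul, map_sub, map_one, lam_algebraMap lam hS, lam_algebraMap lam hS]
      linear_combination (-1 : R) * h2 + algebraMap S R w * ht₀
    rw [h3]
    exact Ideal.mul_mem_right _ _ (M.sub_mem hrM (hjacM a ham'))

include hlam hS in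
theorem main [HenselianLocalRing S] [IsSepClosed (ResidueField S)] :
    ∃ (ι : Type) (_ : Fintype ι) (T : ι → Type v) (_ : ∀ i, CommRing (T i))
      (_ : ∀ i, HenselianLocalRing (T i)),
      (∀ i, IsSepClosed (IsLocalRing.ResidueField (T i))) ∧ Nonempty (R ≃+* (∀ i, T i)) := by
  haveI : Nontrivial R := hS.1.nontrivial
  haveI hint : Algebra.IsIntegral S R := isIntegral lam hlam hS
  have assemble : ∀ (ι : Type) [Fintype ι] (J : ι → Ideal R),
      Pairwise (Function.onFun IsCoprime J) → (⨅ i, J i) = ⊥ → (∀ i, IsLocalRing (R ⧸ J i)) →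
      ∃ (ι : Type) (_ : Fintype ι) (T : ι → Type v) (_ : ∀ i, CommRing (T i))
        (_ : ∀ i, HenselianLocalRing (T i)),
        (∀ i, IsSepClosed (IsLocalRing.ResidueField (T i))) ∧ Nonempty (R ≃+* (∀ i, T i)) := by
    intro ι _ J hcop hinf hloc
    haveI := hloc
    haveI hintq : ∀ i, Algebra.IsIntegral S (R ⧸ J i) := fun i =>
      Algebra.IsIntegral.of_surjective (Ideal.Quotient.mkₐ S (J i)) Ideal.Quotient.mk_surjective
    refine ⟨ι, inferInstance, fun i => R ⧸ J i, fun i => inferInstance,
      fun i => henselian_of_isIntegral' S (R ⧸ J i),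
      fun i => isSepClosed_residueField S (R ⧸ J i), ⟨?_⟩⟩
    exact ((RingEquiv.quotientBot R).symm.trans (Ideal.quotEquivOfEq hinf.symm)).trans
      (Ideal.quotientInfRingEquivPiQuotient J hcop)
  obtain ⟨M, hM⟩ := Ideal.exists_maximal R
  by_cases hcase : M.comap (lam : R →+* R) = M
  · apply assemble Unit (fun _ => ⊥)
    · intro i j hij
      exact absurd (Subsingleton.elim i j) hij
    · simp
    · intro _
      exact isLocalRing_quotient ⊥ M bot_le (fun N hN _ => by
        rcases maximal_orbit lam hlam hS M N with h | h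
        · exact h
        · rw [h, hcase])
  · obtain ⟨e, hee, heM, heM'⟩ := exists_idempotent lam hlam hS M hcase
    have hM' : (M.comap (lam : R →+* R)).IsMaximal :=
      Ideal.comap_isMaximal_of_surjective _ lam.surjective
    have hcop : IsCoprime (Ideal.span {e}) (Ideal.span {1 - e}) := by
      rw [Ideal.isCoprime_iff_sup_eq, Ideal.eq_top_iff_one]
      have h1 : e ∈ Ideal.span {e} ⊔ Ideal.span {1 - e} :=
        Ideal.mem_sup_left (Ideal.subset_span rfl)
      have h2 : 1 - e ∈ Ideal.span {e} ⊔ Ideal.span {1 - e} :=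
        Ideal.mem_sup_right (Ideal.subset_span rfl)
      have := Ideal.add_mem _ h1 h2
      simpa using this
    apply assemble (Fin 2) ![Ideal.span {e}, Ideal.span {1 - e}]
    · intro i j hij
      fin_cases i <;> fin_cases j
      · exact absurd rfl hij
      · exact hcop
      · exact hcop.symm
      · exact absurd rfl hij
    · rw [eq_bot_iff]
      intro x hx
      rw [Ideal.mem_iInf] at hx
      have h0 : x ∈ Ideal.span {e} := hx 0
      have h1 : x ∈ Ideal.span {1 - e} := hx 1
      obtain ⟨a, rfl⟩ := Ideal.mem_span_singleton'.mp h0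
      obtain ⟨b, hb⟩ := Ideal.mem_span_singleton'.mp h1
      have : a * e = 0 := by
        have e1 : a * e = a * e * e := by rw [mul_assoc, hee]
        have e2 : a * e * e = b * ((1 - e) * e) := by rw [← hb]; ring
        have e3 : (1 - e) * e = 0 := by rw [sub_mul, one_mul, hee, sub_self]
        rw [e1, e2, e3, mul_zero]
      rw [this]
      exact zero_mem _
    · intro i
      fin_cases i
      · refine isLocalRing_quotient _ M ((Ideal.span_singleton_le_iff_mem _).mpr heM)
          (fun N hN hle => ?_)
        rcases maximal_orbit lam hlam hS M N with h | h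
        · exact h
        · exfalso
          have h1 : e ∈ N := hle (Ideal.subset_span rfl)
          rw [h] at h1
          have := Ideal.add_mem _ h1 heM'
          rw [add_sub_cancel] at this
          exact hM'.ne_top ((Ideal.eq_top_iff_one _).mpr this)
      · refine isLocalRing_quotient _ (M.comap (lam : R →+* R))
          ((Ideal.span_singleton_le_iff_mem _).mpr heM') (fun N hN hle => ?_)
        rcases maximal_orbit lam hlam hS M N with h | h
        · exfalso
          have h1 : 1 - e ∈ N := hle (Ideal.subset_span rfl)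
          rw [h] at h1
          have := Ideal.add_mem _ heM h1
          rw [add_sub_cancel] at this
          exact hM.ne_top ((Ideal.eq_top_iff_one _).mpr this)
        · exact h

end Inv

end Groth.Agent.R2.H60.InvHensel
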