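import Groth.Agent.R2.H97MTSpec
import Groth.Agent.Lib.Helper12FpqcCover
import Groth.Agent.Lib.Helper12Flat

/-!
PROJ:mt-hom, package PKG-D (helper60): descent along the generalised fpqc coverings of
`Red.IsTorus` / `SGA3x.IsMultTypeFT`.
-/

set_option autoImplicit false

universe u

open CategoryTheory Limits MorphismProperty AlgebraicGeometry

namespace Groth.Agent.R2.H60.MTD

open Groth.Agent.R2.H97.MTSpec

/-- the covering condition in terms of Mathlib's `QuasiCompactCover`. -/
lemma qcc_singleton_iff {S' S : Scheme.{u}} (f : S' ⟶ S) :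
    QuasiCompactCover (PreZeroHypercover.singleton.{u} f) ↔
      ∀ V : S.Opens, IsAffineOpen V →
        ∃ W : S'.Opens, IsCompact (W : Set S') ∧ f.base '' (W : Set S') = (V : Set S) := by
  rw [quasiCompactCover_iff]
  constructor
  · intro h V hV
    have := h hV
    rw [IsCompactOpenCovered.iff_of_unique] at this
    obtain ⟨W, hW, hWV⟩ := this
    exact ⟨W, hW, hWV⟩
  · intro h V hV
    rw [IsCompactOpenCovered.iff_of_unique]
    obtain ⟨W, hW, hWV⟩ := h V hV
    exact ⟨W, hW, hWV⟩

lemma isFpqcCov_iff {S' S : Scheme.{u}} (f : S' ⟶ S) :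
    IsFpqcCov f ↔ Flat f ∧ Surjective f ∧ QuasiCompactCover (PreZeroHypercover.singleton.{u} f) := by
  rw [qcc_singleton_iff]
  rfl

/-- (2) stability under base change. -/
theorem isFpqcCov_pullback_snd {S' S T : Scheme.{u}} (f : S' ⟶ S) (g : T ⟶ S) (hf : IsFpqcCov f) :
    IsFpqcCov (pullback.snd f g) := by
  rw [isFpqcCov_iff] at hf ⊢
  obtain ⟨hflat, hsurj, hqc⟩ := hf
  refine ⟨inferInstance, inferInstance, ?_⟩
  have h1 : QuasiCompactCover ((PreZeroHypercover.singleton.{u} f).pullback₂ g) := inferInstance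
  rw [quasiCompactCover_iff] at h1 ⊢
  intro U hU
  have := h1 hU
  have hun : Unique ((PreZeroHypercover.singleton.{u} f).pullback₂ g).I₀ :=
    inferInstanceAs (Unique PUnit)
  rw [IsCompactOpenCovered.iff_of_unique] at this ⊢
  obtain ⟨W, hW, hWV⟩ := this
  exact ⟨W, hW, hWV⟩

/-- (3) stability under composition. -/
theorem isFpqcCov_comp {S'' S' S : Scheme.{u}} (f' : S'' ⟶ S') (f : S' ⟶ S) (hf' : IsFpqcCov f')
    (hf : IsFpqcCov f) : IsFpqcCov (f' ≫ f) := by
  rw [isFpqcCov_iff] at hf hf' ⊢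
  obtain ⟨hflat, hsurj, hqc⟩ := hf
  obtain ⟨hflat', hsurj', hqc'⟩ := hf'
  refine ⟨inferInstance, inferInstance, ?_⟩
  have h0 : ∀ x : (PreZeroHypercover.singleton.{u} f).I₀, QuasiCompactCover
      ((fun _ : (PreZeroHypercover.singleton.{u} f).I₀ => PreZeroHypercover.singleton.{u} f') x) :=
    fun _ => hqc'
  have h1 : QuasiCompactCover ((PreZeroHypercover.singleton.{u} f).bind
      (fun _ => PreZeroHypercover.singleton.{u} f')) :=
    @QuasiCompactCover.instBindScheme _ (PreZeroHypercover.singleton.{u} f) hqc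
      (fun _ => PreZeroHypercover.singleton.{u} f') h0
  rw [quasiCompactCover_iff] at h1 ⊢
  intro U hU
  have := h1 hU
  have hun : Unique ((PreZeroHypercover.singleton.{u} f).bind
      (fun _ => PreZeroHypercover.singleton.{u} f')).I₀ :=
    ⟨⟨⟨PUnit.unit, PUnit.unit⟩⟩, fun ⟨_, _⟩ => rfl⟩
  rw [IsCompactOpenCovered.iff_of_unique] at this ⊢
  obtain ⟨W, hW, hWV⟩ := this
  exact ⟨W, hW, hWV⟩

set_option backward.isDefEq.respectTransparency.types false in
lemma qc_of_compact {X Y : Scheme.{u}} [IsAffine Y] (f : X ⟶ Y) [CompactSpace X] :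
    QuasiCompact f := by
  rw [HasAffineProperty.iff_of_isAffine (P := @QuasiCompact)]
  infer_instance

set_option backward.isDefEq.respectTransparency.types false in
/-- the local structure of a generalised fpqc covering: over an affine open `V` there is a
flat, surjective, quasi-compact morphism `W ⟶ V` from an open subscheme of the source. -/
lemma exists_local {S' S : Scheme.{u}} (f : S' ⟶ S) (hf : IsFpqcCov f) (V : S.Opens)
    (hV : IsAffineOpen V) :
    ∃ (W : S'.Opens) (g : (W : Scheme.{u}) ⟶ (V : Scheme.{u})), g ≫ V.ι = W.ι ≫ f ∧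
      Flat g ∧ Surjective g ∧ QuasiCompact g := by
  obtain ⟨hflat, hsurj, hcov⟩ := hf
  obtain ⟨W, hWc, hWV⟩ := hcov V hV
  have hrange : Set.range (W.ι ≫ f).base ⊆ Set.range V.ι.base := by
    rintro _ ⟨w, rfl⟩
    rw [Scheme.Opens.range_ι, ← hWV]
    exact ⟨w.1, w.2, rfl⟩
  let g : (W : Scheme.{u}) ⟶ (V : Scheme.{u}) := IsOpenImmersion.lift V.ι (W.ι ≫ f) hrange
  have hg : g ≫ V.ι = W.ι ≫ f := IsOpenImmersion.lift_fac _ _ _
  have hgflat : Flat g := by
    have h1 : Flat (g ≫ V.ι) := by rw [hg]; infer_instance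
    exact MorphismProperty.of_postcomp (W := @Flat) (W' := @IsOpenImmersion) g V.ι
      inferInstance h1
  have hgsurj : Surjective g := by
    constructor
    intro v
    have hv : v.1 ∈ (V : Set S) := v.2
    rw [← hWV] at hv
    obtain ⟨w, hw, hwv⟩ := hv
    refine ⟨⟨w, hw⟩, ?_⟩
    apply V.ι.injective
    calc V.ι (g ⟨w, hw⟩) = (g ≫ V.ι) ⟨w, hw⟩ := rfl
      _ = (W.ι ≫ f) ⟨w, hw⟩ := by rw [hg]
      _ = f w := rfl
      _ = V.ι v := hwv
  have : IsAffine (V : Scheme.{u}) := hV
  have : CompactSpace (W : Scheme.{u}) := isCompact_iff_compactSpace.mp hWc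
  exact ⟨W, g, hg, hgflat, hgsurj, qc_of_compact g⟩

/-- (1) a generalised fpqc covering is a topological quotient map. -/
theorem isOpen_of_isOpen_preimage {S' S : Scheme.{u}} (f : S' ⟶ S) (hf : IsFpqcCov f) (A : Set S)
    (hA : IsOpen (f.base ⁻¹' A)) : IsOpen A := by
  rw [isOpen_iff_forall_mem_open]
  intro x hx
  obtain ⟨V, hV, hxV⟩ : ∃ V : S.Opens, IsAffineOpen V ∧ x ∈ V := by
    obtain ⟨V, hV, hxV, -⟩ := TopologicalSpace.Opens.isBasis_iff_nbhd.mp S.isBasis_affineOpens
      (TopologicalSpace.Opens.mem_top x)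
    exact ⟨V, hV, hxV⟩
  obtain ⟨W, g, hg, hgflat, hgsurj, hgqc⟩ := exists_local f hf V hV
  have hq := Flat.isQuotientMap_of_surjective g
  have hopen : IsOpen (V.ι.base ⁻¹' A) := by
    rw [← hq.isOpen_preimage]
    have e : g.base ⁻¹' (V.ι.base ⁻¹' A) = W.ι.base ⁻¹' (f.base ⁻¹' A) := by
      rw [← Set.preimage_comp, ← Set.preimage_comp]
      have := congrArg (fun h => (h.base : _ → _)) hg
      simp only [Scheme.Hom.comp_base, TopCat.hom_comp, ContinuousMap.coe_comp] at this
      rw [this]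
    rw [e]
    exact hA.preimage W.ι.continuous
  refine ⟨V.ι.base '' (V.ι.base ⁻¹' A), Set.image_preimage_subset _ _,
    V.ι.isOpenEmbedding.isOpenMap _ hopen, ⟨⟨x, hxV⟩, hx, rfl⟩⟩

/-- (2') stability under base change, first projection. -/
theorem isFpqcCov_pullback_fst {S' S T : Scheme.{u}} (f : S' ⟶ S) (g : T ⟶ S) (hf : IsFpqcCov f) :
    IsFpqcCov (pullback.fst g f) := by
  rw [isFpqcCov_iff] at hf ⊢
  obtain ⟨hflat, hsurj, hqc⟩ := hf
  refine ⟨inferInstance, inferInstance, ?_⟩
  have h1 : QuasiCompactCover ((PreZeroHypercover.singleton.{u} f).pullback₁ g) := inferInstance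
  rw [quasiCompactCover_iff] at h1 ⊢
  intro U hU
  have := h1 hU
  have hun : Unique ((PreZeroHypercover.singleton.{u} f).pullback₁ g).I₀ :=
    inferInstanceAs (Unique PUnit)
  rw [IsCompactOpenCovered.iff_of_unique] at this ⊢
  obtain ⟨W, hW, hWV⟩ := this
  exact ⟨W, hW, hWV⟩

/-- the base change of `v` along `f` is a base change of `v.left` along `pullback.fst Y.hom f`. -/
lemma isPullback_map {S' S : Scheme.{u}} (f : S' ⟶ S) {X Y : Over S} (v : X ⟶ Y) :
    IsPullback (pullback.fst X.hom f) ((Over.pullback f).map v).left v.left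
      (pullback.fst Y.hom f) := by
  have h1 : ((Over.pullback f).map v).left ≫ pullback.fst Y.hom f
      = pullback.fst X.hom f ≫ v.left := by
    exact pullback.lift_fst _ _ _
  have h2 : ((Over.pullback f).map v).left ≫ pullback.snd Y.hom f = pullback.snd X.hom f := by
    exact pullback.lift_snd _ _ _
  refine IsPullback.of_bot ?_ h1.symm (IsPullback.of_hasPullback Y.hom f)
  rw [h2, Over.w v]
  exact IsPullback.of_hasPullback X.hom f

lemma prop_pullback_snd_of_map {P : MorphismProperty Scheme.{u}} [P.RespectsIso]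
    {S' S : Scheme.{u}} (f : S' ⟶ S) {X Y : Over S} (v : X ⟶ Y)
    (H : P ((Over.pullback f).map v).left) : P (pullback.snd v.left (pullback.fst Y.hom f)) := by
  have hpb := isPullback_map f v
  rw [← hpb.isoPullback_hom_snd, P.cancel_left_of_respectsIso] at H
  exact H

open Limits MorphismProperty in
/-- flatness descends along fpqc morphisms (copied from `Lib.Helper12Torsor`). -/
theorem descendsAlong_flat :
    DescendsAlong @Flat
      (@Surjective ⊓ @Flat ⊓ @QuasiCompact : MorphismProperty Scheme.{u}) := by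
  constructor
  intro A X Y Z fst snd f g h hf hfst
  obtain ⟨⟨hf1, hf2⟩, hf3⟩ := hf
  have hf1 : Surjective f := hf1
  have hf2 : Flat f := hf2
  have hfst : Flat fst := hfst
  have h1 : Flat snd := MorphismProperty.of_isPullback (P := @Flat) h hf2
  have h2 : Surjective snd := MorphismProperty.of_isPullback (P := @Surjective) h hf1
  have h3 : Flat (snd ≫ g) := by rw [← h.w]; infer_instance
  exact Groth.Agent.Lib.Helper12.flat_of_comp_of_flat_of_surjective snd g

/-- descent of a property along a single generalised fpqc covering. -/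
theorem descend_of_fpqcCov {P : MorphismProperty Scheme.{u}} [IsZariskiLocalAtTarget P]
    (hP : P.DescendsAlong (@Surjective ⊓ @Flat ⊓ @QuasiCompact : MorphismProperty Scheme.{u}))
    {X Y Y' : Scheme.{u}} (g : X ⟶ Y) (h : Y' ⟶ Y) (hh : IsFpqcCov h)
    (H : P (pullback.snd g h)) : P g := by
  rw [isFpqcCov_iff] at hh
  obtain ⟨hflat, hsurj, hqc⟩ := hh
  let 𝒰0 : Scheme.Cover.{u} (Scheme.precoverage @Flat) Y := h.cover (P := @Flat) hflat
  have hqc0 : QuasiCompactCover 𝒰0.1 := hqc
  let 𝒰 : Scheme.Cover Scheme.fpqcPrecoverage Y := Scheme.Cover.ofQuasiCompactCover 𝒰0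
  exact Groth.Agent.Lib.Helper12.of_fpqcCover hP g 𝒰 (fun _ => H)

theorem descendsFpqc_of {P : MorphismProperty Scheme.{u}} [IsZariskiLocalAtTarget P]
    (hP : P.DescendsAlong (@Surjective ⊓ @Flat ⊓ @QuasiCompact : MorphismProperty Scheme.{u})) :
    DescendsFpqc P := by
  intro S' S f hf X Y v H
  exact descend_of_fpqcCov hP v.left (pullback.fst Y.hom f) (isFpqcCov_pullback_fst f Y.hom hf)
    (prop_pullback_snd_of_map f v H)

theorem zariskiLocalOnBase_of {P : MorphismProperty Scheme.{u}} [IsZariskiLocalAtTarget P] :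
    ZariskiLocalOnBase P := by
  intro S X Y v J W hW H
  have hcov : TopologicalSpace.IsOpenCover W :=
    eq_top_iff.mpr fun x _ => TopologicalSpace.Opens.mem_iSup.mpr (hW x)
  let 𝒰 : Y.left.OpenCover := (S.openCoverOfIsOpenCover W hcov).pullback₁ Y.hom
  apply IsZariskiLocalAtTarget.of_openCover 𝒰
  intro i
  exact prop_pullback_snd_of_map (W i).ι v (H i)

set_option backward.isDefEq.respectTransparency.types false in
/-- PKG-D of PROJ:mt-hom. -/
theorem pkgD : PkgD.{u} := by
  refine ⟨fun f hf A hA => isOpen_of_isOpen_preimage f hf A hA,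
    fun f g hf => isFpqcCov_pullback_snd f g hf,
    fun f' f hf' hf => isFpqcCov_comp f' f hf' hf, ⟨?_, ?_, ?_⟩, ⟨?_, ?_, ?_⟩⟩
  · exact descendsFpqc_of (P := MorphismProperty.isomorphisms Scheme.{u}) inferInstance
  · have hmono : (MorphismProperty.monomorphisms Scheme.{u}).DescendsAlong
        (@Surjective ⊓ @Flat ⊓ @QuasiCompact : MorphismProperty Scheme.{u}) := by
      rw [← MorphismProperty.diagonal_isomorphisms]
      infer_instance
    exact @descendsFpqc_of (MorphismProperty.monomorphisms Scheme.{u}) _ hmono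
  · intro S' S f hf X Y v H
    exact ⟨descendsFpqc_of (P := @Flat) descendsAlong_flat f hf v H.1,
      descendsFpqc_of (P := @Surjective) inferInstance f hf v H.2⟩
  · exact zariskiLocalOnBase_of (P := MorphismProperty.isomorphisms Scheme.{u})
  · exact zariskiLocalOnBase_of (P := MorphismProperty.monomorphisms Scheme.{u})
  · intro S X Y v J W hW H
    exact ⟨zariskiLocalOnBase_of (P := @Flat) v W hW (fun i => (H i).1),
      zariskiLocalOnBase_of (P := @Surjective) v W hW (fun i => (H i).2)⟩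

end Groth.Agent.R2.H60.MTD
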