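import Groth.Agent.R2.H97MTSpec
import Groth.Agent.R2.H55DSPts
import Groth.Agent.R2.H55GrpAlg
import Groth.Agent.Lib.Helper27DiagSub

/-!
PROJ:mt-hom, package PKG-P (helper60): properties of `D_S(φ)`.
-/

set_option autoImplicit false

universe u

open CategoryTheory Limits MorphismProperty AlgebraicGeometry

namespace Groth.Agent.R2.H60.MTP

open Groth.Agent.R2.H97.MTSpec Groth.Agent.R2.H55.DSPts

variable {S : Scheme.{u}} {M N P : Type} [AddCommGroup M] [AddCommGroup N] [AddCommGroup P]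

lemma dsFn_DSmap_id (φ : N →+ M) (n : N) :
    dsFn (Red.DSmap S φ) n = dsFn (𝟙 (Red.DS S M)) (φ n) := by
  have := dsFn_DSmap φ (𝟙 (Red.DS S M)) n
  rwa [Category.id_comp] at this

lemma DSmap_comp (φ : N →+ M) (ψ : P →+ N) :
    Red.DSmap S φ ≫ Red.DSmap S ψ = Red.DSmap S (φ.comp ψ) := by
  apply dsFn_injective
  intro p
  rw [dsFn_DSmap, dsFn_DSmap_id, dsFn_DSmap_id]
  rfl

lemma DSmap_id : Red.DSmap S (AddMonoidHom.id M) = 𝟙 (Red.DS S M) := by
  apply dsFn_injective
  intro m
  rw [dsFn_DSmap_id]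
  rfl

/-- (a) -/
theorem mono_of_surjective (φ : N →+ M) (hφ : Function.Surjective φ) :
    Mono (Red.DSmap S φ).left := by
  have := Groth.Agent.Lib.Helper27DiagSub.isClosedImmersion_DSmap_left S φ hφ
  infer_instance

/-- (b) -/
theorem isIso_of_bijective (φ : N →+ M) (hφ : Function.Bijective φ) :
    IsIso (Red.DSmap S φ).left := by
  let e : N ≃+ M := AddEquiv.ofBijective φ hφ
  have h1 : Red.DSmap S φ ≫ Red.DSmap S e.symm.toAddMonoidHom = 𝟙 _ := by
    rw [DSmap_comp, ← DSmap_id]
    congr 1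
    ext m
    exact e.apply_symm_apply m
  have h2 : Red.DSmap S e.symm.toAddMonoidHom ≫ Red.DSmap S φ = 𝟙 _ := by
    rw [DSmap_comp, ← DSmap_id]
    congr 1
    ext n
    exact e.symm_apply_apply n
  have : IsIso (Red.DSmap S φ) := ⟨⟨_, h1, h2⟩⟩
  exact inferInstanceAs (IsIso ((Over.forget S).map (Red.DSmap S φ)))

/-- coset representatives for an injective homomorphism of commutative groups. -/
lemma exists_reps {H G : Type*} [CommGroup H] [CommGroup G] (f : H →* G)
    (hf : Function.Injective f) :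
    ∃ σ : (G ⧸ f.range) → G, Function.Bijective (fun p : H × (G ⧸ f.range) => f p.1 * σ p.2) := by
  refine ⟨fun q => Quotient.out q, ?_, ?_⟩
  · rintro ⟨h, q⟩ ⟨h', q'⟩ hpq
    simp only at hpq
    have hq : q = q' := by
      have := congrArg (QuotientGroup.mk (s := f.range)) hpq
      rw [QuotientGroup.mk_mul, QuotientGroup.mk_mul,
        (QuotientGroup.eq_one_iff (f h)).mpr (MonoidHom.mem_range.mpr ⟨h, rfl⟩),
        (QuotientGroup.eq_one_iff (f h')).mpr (MonoidHom.mem_range.mpr ⟨h', rfl⟩),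
        one_mul, one_mul] at this
      simpa using this
    subst hq
    have : f h = f h' := mul_right_cancel hpq
    rw [hf this]
  · intro g
    obtain ⟨r, hr⟩ := QuotientGroup.mk_out_eq_mul f.range g
    obtain ⟨h, hh⟩ := r.2
    refine ⟨⟨h⁻¹, QuotientGroup.mk g⟩, ?_⟩
    simp only
    rw [hr, map_inv, hh]
    simp [mul_comm]

theorem pullback_map_left_of (Q : MorphismProperty Scheme.{u}) [Q.IsStableUnderBaseChange]
    [Q.IsStableUnderComposition]
    {S T : Scheme.{u}} (f : S ⟶ T) {X Y : Over T}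
    (g : X ⟶ Y) (hg : Q g.left) (hid : Q (𝟙 S)) :
    Q ((Over.pullback f).map g).left := by
  have h1 : ((Over.pullback f).map g).left =
      pullback.map X.hom f Y.hom f g.left (𝟙 _) (𝟙 _) (by simp) (by simp) := by
    apply pullback.hom_ext <;> simp [pullback.map]
  rw [h1]
  exact MorphismProperty.pullbackMap (P := Q) hg hid (by simp) (by simp)

lemma ringHom_eq (φ : N →+ M) :
    (MonoidAlgebra.mapDomainAlgHom (ULift.{u} ℤ) (ULift.{u} ℤ)
      (AddMonoidHom.toMultiplicative φ)).toRingHom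
      = MonoidAlgebra.mapDomainRingHom (ULift.{u} ℤ) (AddMonoidHom.toMultiplicative φ) := by
  ext <;> simp

set_option backward.isDefEq.respectTransparency.types false in
/-- (c) -/
theorem flat_surjective_of_injective (φ : N →+ M) (hφ : Function.Injective φ) :
    Flat (Red.DSmap S φ).left ∧ Surjective (Red.DSmap S φ).left := by
  have hinj : Function.Injective (AddMonoidHom.toMultiplicative φ) := fun a b hab => hφ hab
  obtain ⟨σ, hσ⟩ := exists_reps (AddMonoidHom.toMultiplicative φ) hinj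
  have hflat : Flat (Red.diagMap (ULift.{u} ℤ) φ).left := by
    have h : Flat (Spec.map (CommRingCat.ofHom (MonoidAlgebra.mapDomainAlgHom (ULift.{u} ℤ)
        (ULift.{u} ℤ) (AddMonoidHom.toMultiplicative φ)).toRingHom)) := by
      rw [HasRingHomProperty.Spec_iff (P := @Flat), CommRingCat.hom_ofHom, ringHom_eq]
      exact Groth.Agent.R2.H55.GrpAlg.flat _ _ σ hσ
    exact h
  have hsurj : Surjective (Red.diagMap (ULift.{u} ℤ) φ).left := by
    have h : Surjective (Spec.map (CommRingCat.ofHom (MonoidAlgebra.mapDomainAlgHom (ULift.{u} ℤ)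
        (ULift.{u} ℤ) (AddMonoidHom.toMultiplicative φ)).toRingHom)) := by
      constructor
      rw [ringHom_eq]
      exact Groth.Agent.R2.H55.GrpAlg.comap_surjective _ _ σ hσ
    exact h
  exact ⟨pullback_map_left_of @Flat _ _ hflat inferInstance,
    pullback_map_left_of @Surjective _ _ hsurj inferInstance⟩

/-- over a non-empty base the characters of `D_S(C)` attached to distinct elements are distinct. -/
lemma eq_zero_of_dsFn_id_eq_one [Nonempty S] {C : Type} [AddCommGroup C] (c : C)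
    (h : dsFn (𝟙 (Red.DS S C)) c = 1) : c = 0 := by
  obtain ⟨s⟩ := ‹Nonempty S›
  let κ : CommRingCat.{u} := S.residueField s
  let R : CommRingCat.{u} := CommRingCat.of (MonoidAlgebra κ (Multiplicative C))
  let X : Over S := Over.mk (Spec.map (CommRingCat.ofHom
    (algebraMap κ (MonoidAlgebra κ (Multiplicative C)))) ≫ S.fromSpecResidueField s)
  let χ : Multiplicative C →* Γ(X.left, ⊤) :=
    ((Scheme.ΓSpecIso R).inv.hom : R →+* Γ(Spec R, ⊤)).toMonoidHom.comp
      (MonoidAlgebra.of κ (Multiplicative C))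
  have hχ : Function.Injective χ := by
    intro a b hab
    have h1 : Function.Injective ((Scheme.ΓSpecIso R).inv.hom : R →+* Γ(Spec R, ⊤)) :=
      (ConcreteCategory.bijective_of_isIso (Scheme.ΓSpecIso R).inv).1
    exact MonoidAlgebra.of_injective (h1 hab)
  obtain ⟨x, hx⟩ := dsFn_surjective (S := S) (X := X) χ
  have h2 : dsFn x c = 1 := by
    have := dsFn_comp x (𝟙 (Red.DS S C)) c
    rw [Category.comp_id] at this
    rw [this, h, map_one]
  have h3 : χ (Multiplicative.ofAdd c) = χ 1 := by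
    rw [← hx c, h2, map_one]
  have := hχ h3
  simpa using this

/-- (d1) -/
theorem surjective_of_mono [Nonempty S] (φ : N →+ M) (hmono : Mono (Red.DSmap S φ).left) :
    Function.Surjective φ := by
  have hm : Mono (Red.DSmap S φ) := Over.mono_of_mono_left _
  let π : M →+ M ⧸ φ.range := QuotientAddGroup.mk' φ.range
  have h0 : π.comp φ = (0 : M →+ M ⧸ φ.range).comp φ := by
    ext n
    simp only [AddMonoidHom.coe_comp, Function.comp_apply, AddMonoidHom.zero_apply]
    exact (QuotientAddGroup.eq_zero_iff (φ n)).mpr (AddMonoidHom.mem_range.mpr ⟨n, rfl⟩)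
  have h1 : Red.DSmap S π ≫ Red.DSmap S φ
      = Red.DSmap S (0 : M →+ M ⧸ φ.range) ≫ Red.DSmap S φ := by
    rw [DSmap_comp, DSmap_comp, h0]
  have h2 : Red.DSmap S π = Red.DSmap S (0 : M →+ M ⧸ φ.range) := (cancel_mono _).mp h1
  intro m
  have h3 : dsFn (𝟙 (Red.DS S (M ⧸ φ.range))) (π m) = 1 := by
    rw [← dsFn_DSmap_id, h2, dsFn_DSmap_id, AddMonoidHom.zero_apply, dsFn_zero]
  have h4 := eq_zero_of_dsFn_id_eq_one (π m) h3
  exact AddMonoidHom.mem_range.mp ((QuotientAddGroup.eq_zero_iff m).mp h4)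

/-- (d2) -/
theorem injective_of_flat_surjective [Nonempty S] (φ : N →+ M) (hflat : Flat (Red.DSmap S φ).left)
    (hsurj : Surjective (Red.DSmap S φ).left) : Function.Injective φ := by
  have he : Epi (Red.DSmap S φ).left := Flat.epi_of_flat_of_surjective _
  have hepi : Epi (Red.DSmap S φ) := Over.epi_of_epi_left _
  rw [injective_iff_map_eq_zero]
  intro n hn
  let ψ : ℤ →+ N := zmultiplesHom N n
  have h0 : φ.comp ψ = φ.comp (0 : ℤ →+ N) := by
    apply AddMonoidHom.ext_int
    simp [ψ, hn]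
  have h1 : Red.DSmap S φ ≫ Red.DSmap S ψ = Red.DSmap S φ ≫ Red.DSmap S (0 : ℤ →+ N) := by
    rw [DSmap_comp, DSmap_comp, h0]
  have h2 : Red.DSmap S ψ = Red.DSmap S (0 : ℤ →+ N) := (cancel_epi _).mp h1
  have h3 : dsFn (𝟙 (Red.DS S N)) (ψ 1) = 1 := by
    rw [← dsFn_DSmap_id, h2, dsFn_DSmap_id, AddMonoidHom.zero_apply, dsFn_zero]
  have h4 := eq_zero_of_dsFn_id_eq_one (ψ 1) h3
  simpa [ψ] using h4

/-- PKG-P of PROJ:mt-hom. -/
theorem pkgP : PkgP.{u} := by
  intro S M N _ _ φ
  refine ⟨mono_of_surjective φ, isIso_of_bijective φ, flat_surjective_of_injective φ, ?_, ?_⟩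
  · intro hS hmono
    exact surjective_of_mono φ hmono
  · intro hS hflat hsurj
    exact injective_of_flat_surjective φ hflat hsurj

end Groth.Agent.R2.H60.MTP
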