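import Mathlib
import Groth.Prelude.Def_Neron

/-!
Base change of the Néron mapping property along a cartesian square of base schemes.
-/

set_option autoImplicit false
universe u v

namespace Groth.Agent.R2.H60.NeronBC

open CategoryTheory CategoryTheory.Limits

section abstract

variable {C : Type u} [Category.{v} C] [HasPullbacks C]

/-- Base change of a mapping property along a cartesian square
`η' ⟶ η`, `S' ⟶ S`. -/
theorem bijective_baseChange {S S' η η' : C} (f : S' ⟶ S) (ι : η ⟶ S) (ι' : η' ⟶ S')
    (h : η' ⟶ η) (sq : IsPullback ι' h f ι) (N : Over S) (Y' : Over S')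
    (hN : Function.Bijective
      (fun g : (Over.map f).obj Y' ⟶ N => (Over.pullback ι).map g)) :
    Function.Bijective
      (fun g : Y' ⟶ (Over.pullback f).obj N => (Over.pullback ι').map g) := by
  -- the comparison isomorphism on the source
  have hP : IsPullback (pullback.fst Y'.hom ι') (pullback.snd Y'.hom ι') Y'.hom ι' :=
    IsPullback.of_hasPullback _ _
  have hP₀ : IsPullback (pullback.fst Y'.hom ι') (pullback.snd Y'.hom ι' ≫ h)
      ((Over.map f).obj Y').hom ι :=
    (hP.flip.paste_horiz sq.flip).flip
  let θ : pullback Y'.hom ι' ≅ pullback ((Over.map f).obj Y').hom ι := hP₀.isoPullback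
  have hθ1 : θ.hom ≫ pullback.fst ((Over.map f).obj Y').hom ι = pullback.fst Y'.hom ι' :=
    hP₀.isoPullback_hom_fst
  have hθ2 : θ.hom ≫ pullback.snd ((Over.map f).obj Y').hom ι = pullback.snd Y'.hom ι' ≫ h :=
    hP₀.isoPullback_hom_snd
  -- the comparison map on the target
  let κ : pullback (pullback.snd N.hom f) ι' ⟶ pullback N.hom ι :=
    pullback.lift (pullback.fst _ _ ≫ pullback.fst N.hom f) (pullback.snd _ _ ≫ h) (by
      rw [Category.assoc, pullback.condition, ← Category.assoc, pullback.condition,
        Category.assoc, Category.assoc, sq.w])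
  have hκ1 : κ ≫ pullback.fst N.hom ι = pullback.fst _ _ ≫ pullback.fst N.hom f :=
    pullback.lift_fst _ _ _
  have hκ2 : κ ≫ pullback.snd N.hom ι = pullback.snd _ _ ≫ h := pullback.lift_snd _ _ _
  -- adjunct of a morphism
  let adj : (Y' ⟶ (Over.pullback f).obj N) → ((Over.map f).obj Y' ⟶ N) := fun g =>
    Over.homMk (g.left ≫ pullback.fst N.hom f) (by
      have := Over.w g
      simp only [Over.pullback_obj_hom] at this
      simp only [Over.map_obj_hom, Category.assoc, pullback.condition]
      rw [← Category.assoc, this])
  have hrel : ∀ g : Y' ⟶ (Over.pullback f).obj N,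
      θ.hom ≫ ((Over.pullback ι).map (adj g)).left = ((Over.pullback ι').map g).left ≫ κ := by
    intro g
    apply pullback.hom_ext
    · simp only [Category.assoc, Over.pullback_map_left, pullback.lift_fst, hκ1]
      rw [← Category.assoc, hθ1]
      erw [pullback.lift_fst_assoc]
      simp [adj]
    · simp only [Category.assoc, Over.pullback_map_left, pullback.lift_snd, hκ2]
      rw [hθ2]
      erw [pullback.lift_snd_assoc]
  constructor
  · intro g₁ g₂ hg
    have hg' : ((Over.pullback ι').map g₁).left = ((Over.pullback ι').map g₂).left :=
      congrArg (fun u => u.left) hg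
    have h1 : (Over.pullback ι).map (adj g₁) = (Over.pullback ι).map (adj g₂) := by
      apply Over.OverMorphism.ext
      rw [← cancel_epi θ.hom, hrel, hrel, hg']
    have h2 : adj g₁ = adj g₂ := hN.1 h1
    have h3 : g₁.left ≫ pullback.fst N.hom f = g₂.left ≫ pullback.fst N.hom f :=
      congrArg (fun u => u.left) h2
    apply Over.OverMorphism.ext
    apply pullback.hom_ext h3
    have w1 := Over.w g₁
    have w2 := Over.w g₂
    simp only [Over.pullback_obj_hom] at w1 w2
    rw [w1, w2]
  · intro u
    -- transport `u` to the generic fibre over `η`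
    have hu := Over.w u
    simp only [Over.pullback_obj_hom] at hu
    let û : (Over.pullback ι).obj ((Over.map f).obj Y') ⟶ (Over.pullback ι).obj N :=
      Over.homMk (θ.inv ≫ u.left ≫ κ) (by
        simp only [Over.pullback_obj_hom, Category.assoc, hκ2]
        rw [← Category.assoc u.left, hu, Iso.inv_comp_eq, hθ2])
    obtain ⟨ĝ, hĝ⟩ := hN.2 û
    have hĝw := Over.w ĝ
    simp only [Over.map_obj_hom] at hĝw
    let g : Y' ⟶ (Over.pullback f).obj N :=
      Over.homMk (pullback.lift ĝ.left Y'.hom hĝw) (by
        simp only [Over.pullback_obj_hom, pullback.lift_snd])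
    refine ⟨g, ?_⟩
    apply Over.OverMorphism.ext
    have hĝl : ((Over.pullback ι).map ĝ).left = θ.inv ≫ u.left ≫ κ :=
      congrArg (fun w => w.left) hĝ
    simp only [Over.pullback_map_left]
    apply pullback.hom_ext
    · -- component in `N ×_S S'`
      apply pullback.hom_ext
      · -- component in `N`
        have e1 := congrArg (fun w => θ.hom ≫ w ≫ pullback.fst N.hom ι) hĝl
        simp only [Over.pullback_map_left, Category.assoc, pullback.lift_fst, hκ1,
          Iso.hom_inv_id_assoc] at e1
        rw [← Category.assoc θ.hom, hθ1] at e1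
        simp only [Category.assoc, pullback.lift_fst, g, Over.homMk_left]
        exact e1
      · -- component in `S'`
        simp only [Category.assoc, pullback.lift_fst, pullback.lift_snd, g, Over.homMk_left]
        have c1 : pullback.fst ((Over.pullback f).obj N).hom ι' ≫ pullback.snd N.hom f =
            pullback.snd ((Over.pullback f).obj N).hom ι' ≫ ι' := pullback.condition
        have hu' : u.left ≫ pullback.snd ((Over.pullback f).obj N).hom ι' =
            pullback.snd Y'.hom ι' := hu
        rw [c1, ← Category.assoc, hu']
        exact pullback.condition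
    · simp only [pullback.lift_snd]
      exact hu.symm

end abstract

section concrete

open AlgebraicGeometry

/-- the square of generic points for an algebraic injective extension of domains is cartesian -/
theorem exists_isPullback_genPt (R R' : Type u) [CommRing R] [IsDomain R] [CommRing R']
    [IsDomain R'] [Algebra R R'] [FaithfulSMul R R'] [Algebra.IsAlgebraic R R'] :
    ∃ h : Spec (CommRingCat.of (FractionRing R')) ⟶ Spec (CommRingCat.of (FractionRing R)),
      IsPullback (Neron.genPt R') h (Spec.map (CommRingCat.ofHom (algebraMap R R')))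
        (Neron.genPt R) := by
  have hinj : Function.Injective (algebraMap R R') := FaithfulSMul.algebraMap_injective R R'
  have hle : nonZeroDivisors R ≤ (nonZeroDivisors R').comap (algebraMap R R') :=
    nonZeroDivisors_le_comap_nonZeroDivisors_of_injective _ hinj
  let fK : FractionRing R →+* FractionRing R' :=
    IsLocalization.map (FractionRing R') (algebraMap R R') hle
  have H : fK.comp (algebraMap R (FractionRing R)) =
      (algebraMap R' (FractionRing R')).comp (algebraMap R R') := IsLocalization.map_comp hle
  haveI : IsLocalization ((nonZeroDivisors R).map (algebraMap R R')) (FractionRing R') :=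
    inferInstanceAs (IsLocalization (Algebra.algebraMapSubmonoid R' (nonZeroDivisors R))
      (FractionRing R'))
  have po := CommRingCat.isPushout_of_isLocalization (algebraMap R R') fK H (nonZeroDivisors R)
  exact ⟨Spec.map (CommRingCat.ofHom fK), isPullback_SpecMap_of_isPushout _ _ _ _ po⟩

theorem neron_baseChange (R R' : Type u) [CommRing R] [IsDedekindDomain R]
    [CommRing R'] [IsDedekindDomain R'] [Algebra R R'] [Module.Finite R R'] [Algebra.Etale R R']
    (N : Over (Spec (CommRingCat.of R)))
    (hN : Neron.IsNeronModelOf R N ((Neron.genericFibre R).obj N) (Iso.refl _)) :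
    Neron.IsNeronModelOf R'
      ((Over.pullback (Spec.map (CommRingCat.ofHom (algebraMap R R')))).obj N)
      ((Neron.genericFibre R').obj
        ((Over.pullback (Spec.map (CommRingCat.ofHom (algebraMap R R')))).obj N))
      (Iso.refl _) := by
  obtain ⟨h1, h2, h3, h4, h5⟩ := hN
  haveI := h1; haveI := h2; haveI := h3; haveI := h4
  haveI : FaithfulSMul R R' := by
    rw [faithfulSMul_iff_algebraMap_injective]
    intro a b hab
    have h0 : (a - b) • (1 : R') = 0 := by
      rw [Algebra.smul_def, mul_one, map_sub, hab, sub_self]
    rcases smul_eq_zero.mp h0 with h | h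
    · exact sub_eq_zero.mp h
    · exact absurd h one_ne_zero
  haveI : Algebra.IsAlgebraic R R' := Algebra.IsIntegral.isAlgebraic
  obtain ⟨h, sq⟩ := exists_isPullback_genPt R R'
  set f := Spec.map (CommRingCat.ofHom (algebraMap R R')) with hf
  haveI : Smooth f := by
    rw [hf, HasRingHomProperty.Spec_iff (P := @Smooth)]
    exact RingHom.smooth_algebraMap.mpr inferInstance
  refine ⟨?_, ?_, ?_, ?_, ?_⟩
  · show Smooth (pullback.snd N.hom f)
    infer_instance
  · show IsSeparated (pullback.snd N.hom f)
    infer_instance
  · show LocallyOfFiniteType (pullback.snd N.hom f)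
    infer_instance
  · show QuasiCompact (pullback.snd N.hom f)
    infer_instance
  · intro Y' hY'
    haveI := hY'
    have hsm : Smooth ((Over.map f).obj Y').hom := by
      show Smooth (Y'.hom ≫ f)
      infer_instance
    have key := h5 ((Over.map f).obj Y') hsm
    simp only [Iso.refl_hom, Category.comp_id] at key ⊢
    exact bijective_baseChange f (Neron.genPt R) (Neron.genPt R') h sq N Y' key

end concrete

end Groth.Agent.R2.H60.NeronBC
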