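import Mathlib
import Groth.Prelude.Def_ParBun
import Groth.Agent.Lib.Helper20StalkExact
import Groth.Agent.Lib.Helper4ModEpi
import Groth.Agent.R2.H60StabDim
import Groth.Agent.R2.H62SnapDim

/-!
# The support of `E / I·E` (helper60, parabolic rows S18525 ff.)

For a quasi-coherent ideal `I` and any `O_X`-module `E`:
`Supp (E / I·E) ⊆ Supp E ∩ V(I)`, where `I·E = ParSh.twistSub I E` is the image of `E ⊗ I ⟶ E`.
-/

set_option autoImplicit false

universe u

open CategoryTheory CategoryTheory.Limits AlgebraicGeometry Opposite TopologicalSpace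

namespace Groth.Agent.R2.H60.ParSupp

open Groth.Agent.Lib.Helper20.StalkExact Groth.Agent.Lib.Helper4.ModEpi

variable {X : Scheme.{u}}

/-- sections of a kernel (as helper12's `IdealMul.exists_app_kernel_ι_eq`, repeated here to keep imports small) -/
theorem exists_app_kernel_ι_eq {F Q : X.Modules} (g : F ⟶ Q) (V : X.Opens) (t : Γ(F, V))
    (ht : g.app V t = 0) : ∃ r : Γ(kernel g, V), (kernel.ι g).app V r = t := by
  have hS : (ShortComplex.mk (kernel.ι g) (cokernel.π (kernel.ι g)) (cokernel.condition _)).ShortExact :=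
    ShortComplex.ShortExact.mk' (ShortComplex.exact_cokernel _) inferInstance inferInstance
  have hfac : cokernel.π (kernel.ι g) ≫ Abelian.factorThruCoimage g = g := Abelian.coimage.fac g
  have h1 : (Abelian.factorThruCoimage g).app V ((cokernel.π (kernel.ι g)).app V t) = 0 := by
    have h0 : (cokernel.π (kernel.ι g) ≫ Abelian.factorThruCoimage g).app V t = 0 := by rw [hfac]; exact ht
    exact h0
  have h2 : (cokernel.π (kernel.ι g)).app V t = 0 := by
    apply injective_app_of_mono (Abelian.factorThruCoimage g) V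
    rw [h1, map_zero]
  exact exists_app_eq_of_exact _ hS V t h2

/-- over an open `V` disjoint from `V(I)`, the unit section lies in the ideal sheaf -/
theorem exists_idealMod_one (I : X.IdealSheafData) (V : X.Opens) (hV : Disjoint (V : Set X) (I.support : Set X)) :
    ∃ s : Γ(ClSub.idealMod I, V), (ClSub.idealModι I).app V s = (1 : Γ(X, V)) := by
  apply exists_app_kernel_ι_eq (ClSub.toSubscheme I) V
  have hbot : I.subschemeι ⁻¹ᵁ V = ⊥ := by
    rw [eq_bot_iff]
    intro z hz
    exfalso
    have hz1 : I.subschemeι z ∈ (V : Set X) := hz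
    have hz' : I.subschemeι z ∈ (I.support : Set X) := by
      rw [← I.range_subschemeι]
      exact ⟨z, rfl⟩
    exact Set.disjoint_left.1 hV hz1 hz'
  have hsub : Subsingleton Γ(I.subscheme, I.subschemeι ⁻¹ᵁ V) := by
    rw [hbot]
    infer_instance
  exact Subsingleton.elim (α := Γ(I.subscheme, I.subschemeι ⁻¹ᵁ V)) _ _

/-- sections of `E` over an open disjoint from `V(I)` are killed in `E / I·E` -/
theorem cokernel_π_app_eq_zero (I : X.IdealSheafData) (E : X.Modules) (V : X.Opens)
    (hV : Disjoint (V : Set X) (I.support : Set X)) (t : Γ(E, V)) :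
    (cokernel.π (ParSh.twistSub I E).arrow).app V t = 0 := by
  obtain ⟨s, hs⟩ := exists_idealMod_one I V hV
  have h1 : (ParSh.twistMap I E).app V (SecTwist.tmul E (ClSub.idealMod I) V t s) = t := by
    unfold ParSh.twistMap
    have e1 := KoszTw.tensorMap_tmul (𝟙 E) (ClSub.idealModι I) V t s
    have e2 := SecTwist.unitorR_tmul E V t (1 : Γ(X, V))
    rw [hs] at e1
    have e3 : (KoszTw.tensorMap (𝟙 E) (ClSub.idealModι I) ≫ (SecTwist.unitorR E).hom).app V
        (SecTwist.tmul E (ClSub.idealMod I) V t s) =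
        (SecTwist.unitorR E).hom.app V
          ((KoszTw.tensorMap (𝟙 E) (ClSub.idealModι I)).app V (SecTwist.tmul E (ClSub.idealMod I) V t s)) := rfl
    rw [e3, e1]
    have e4 : (𝟙 E : E ⟶ E).app V t = t := rfl
    rw [e4]
    have e5 : ∀ t' : E.val.obj (op V), (1 : X.ringCatSheaf.obj.obj (op V)) • t' = t' :=
      fun t' => one_smul _ t'
    refine Eq.trans ?_ (Eq.trans e2 (e5 t))
    rfl
  have h2 : ParSh.twistMap I E ≫ cokernel.π (ParSh.twistSub I E).arrow = 0 := by
    unfold ParSh.twistSub
    have hfac : factorThruImageSubobject (ParSh.twistMap I E) ≫ (imageSubobject (ParSh.twistMap I E)).arrow =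
        ParSh.twistMap I E := imageSubobject_arrow_comp _
    have h0 : (factorThruImageSubobject (ParSh.twistMap I E) ≫ (imageSubobject (ParSh.twistMap I E)).arrow) ≫
        cokernel.π (imageSubobject (ParSh.twistMap I E)).arrow = 0 := by
      rw [Category.assoc, cokernel.condition, Limits.comp_zero]
    rwa [hfac] at h0
  have h3 : (ParSh.twistMap I E ≫ cokernel.π (ParSh.twistSub I E).arrow).app V
      (SecTwist.tmul E (ClSub.idealMod I) V t s) = 0 := by
    rw [h2]
    rfl
  have h4 : (ParSh.twistMap I E ≫ cokernel.π (ParSh.twistSub I E).arrow).app V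
      (SecTwist.tmul E (ClSub.idealMod I) V t s) =
      (cokernel.π (ParSh.twistSub I E).arrow).app V
        ((ParSh.twistMap I E).app V (SecTwist.tmul E (ClSub.idealMod I) V t s)) := rfl
  rw [h4, h1] at h3
  exact h3

/-- the stalks of `E / I·E` vanish off `V(I)` -/
theorem subsingleton_stalk_cokernel_twistSub (I : X.IdealSheafData) (E : X.Modules) (x : X)
    (hx : x ∉ (I.support : Set X)) :
    Subsingleton ((cokernel (ParSh.twistSub I E).arrow).presheaf.stalk x) := by
  suffices h : ∀ c : (cokernel (ParSh.twistSub I E).arrow).presheaf.stalk x, c = 0 from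
    ⟨fun a b => by rw [h a, h b]⟩
  intro c
  obtain ⟨U, hxU, s, rfl⟩ := (cokernel (ParSh.twistSub I E).arrow).presheaf.exists_germ_eq c
  obtain ⟨V, hVU, hxV, g, hg⟩ := exists_app_eq_of_epi (cokernel.π (ParSh.twistSub I E).arrow) U s x hxU
  -- shrink to the complement of `V(I)`
  let W : X.Opens := V ⊓ ⟨(I.support : Set X)ᶜ, I.support.isClosed.isOpen_compl⟩
  have hxW : x ∈ W := ⟨hxV, hx⟩
  have hWV : W ≤ V := inf_le_left
  have hWd : Disjoint (W : Set X) (I.support : Set X) := by
    rw [Set.disjoint_left]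
    intro z hz hz'
    exact hz.2 hz'
  have h0 := cokernel_π_app_eq_zero I E W hWd (E.presheaf.map (homOfLE hWV).op g)
  have hnat : (cokernel.π (ParSh.twistSub I E).arrow).app W (E.presheaf.map (homOfLE hWV).op g) =
      (cokernel (ParSh.twistSub I E).arrow).presheaf.map (homOfLE hWV).op
        ((cokernel.π (ParSh.twistSub I E).arrow).app V g) :=
    congr($((Scheme.Modules.Hom.mapPresheaf (cokernel.π (ParSh.twistSub I E).arrow)).naturality
      (homOfLE hWV).op) g)
  rw [hnat, hg] at h0
  rw [← (cokernel (ParSh.twistSub I E).arrow).presheaf.germ_res_apply (homOfLE hVU) x hxV s,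
    ← (cokernel (ParSh.twistSub I E).arrow).presheaf.germ_res_apply (homOfLE hWV) x hxW, h0, map_zero]

/-- **`Supp (E / I·E) ⊆ Supp E ∩ V(I)`** -/
theorem support_cokernel_twistSub (I : X.IdealSheafData) (E : X.Modules) :
    CohB1.support (cokernel (ParSh.twistSub I E).arrow) ⊆ CohB1.support E ∩ (I.support : Set X) := by
  intro x hx
  refine ⟨?_, ?_⟩
  · have hses : (ShortComplex.mk (ParSh.twistSub I E).arrow (cokernel.π (ParSh.twistSub I E).arrow)
        (cokernel.condition _)).ShortExact :=
      ShortComplex.ShortExact.mk' (ShortComplex.exact_cokernel _) inferInstance inferInstance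
    have h := Groth.Agent.R2.H60.StabDim.support_shortExact _ hses
    change CohB1.support E = _ ∪ CohB1.support (cokernel (ParSh.twistSub I E).arrow) at h
    rw [h]
    exact Or.inr hx
  · by_contra hne
    exact hx (subsingleton_stalk_cokernel_twistSub I E x hne)

/-! ### supports of subobjects and quotients -/

theorem support_subset_of_epi {E G : X.Modules} (π : E ⟶ G) [Epi π] : CohB1.support G ⊆ CohB1.support E := by
  have hses : (ShortComplex.mk (kernel.ι π) π (kernel.condition _)).ShortExact :=
    ShortComplex.ShortExact.mk' (ShortComplex.exact_kernel _) inferInstance inferInstance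
  have h := Groth.Agent.R2.H60.StabDim.support_shortExact _ hses
  change CohB1.support E = _ ∪ CohB1.support G at h
  rw [h]
  exact Set.subset_union_right

theorem support_subset_of_mono {F E : X.Modules} (ι : F ⟶ E) [Mono ι] : CohB1.support F ⊆ CohB1.support E := by
  have hses : (ShortComplex.mk ι (cokernel.π ι) (cokernel.condition _)).ShortExact :=
    ShortComplex.ShortExact.mk' (ShortComplex.exact_cokernel _) inferInstance inferInstance
  have h := Groth.Agent.R2.H60.StabDim.support_shortExact _ hses
  change CohB1.support E = CohB1.support F ∪ _ at h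
  rw [h]
  exact Set.subset_union_left

/-! ### quotients by larger subobjects and by pulled back subobjects -/

section Abelian

universe v w

variable {C : Type w} [Category.{v} C] [Abelian C]

/-- `E / S ⟶ E / T` for `S ≤ T` -/
theorem exists_epi_cokernel_of_le {E : C} {S T : Subobject E} (h : S ≤ T) :
    ∃ ρ : cokernel S.arrow ⟶ cokernel T.arrow, Epi ρ ∧ cokernel.π S.arrow ≫ ρ = cokernel.π T.arrow := by
  have hw : S.arrow ≫ cokernel.π T.arrow = 0 := by
    rw [← Subobject.ofLE_arrow h, Category.assoc, cokernel.condition, Limits.comp_zero]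
  refine ⟨cokernel.desc S.arrow _ hw, ?_, cokernel.π_desc _ _ _⟩
  have : Epi (cokernel.π S.arrow ≫ cokernel.desc S.arrow _ hw) := by
    rw [cokernel.π_desc]; infer_instance
  exact epi_of_epi (cokernel.π S.arrow) _

theorem pullback_arrow_comp_eq_zero {W E : C} (ι : W ⟶ E) (S : Subobject E) :
    ((Subobject.pullback ι).obj S).arrow ≫ ι ≫ cokernel.π S.arrow = 0 := by
  rw [← Category.assoc, ← (Subobject.isPullback ι S).w, Category.assoc, cokernel.condition,
    Limits.comp_zero]

/-- `W ∩ S` is the kernel of `W ⟶ E ⟶ E / S` -/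
noncomputable def isLimitPullbackKernelFork {W E : C} (ι : W ⟶ E) (S : Subobject E) :
    IsLimit (KernelFork.ofι ((Subobject.pullback ι).obj S).arrow (pullback_arrow_comp_eq_zero ι S)) :=
  KernelFork.IsLimit.ofι' _ _ fun {A} g hg => by
    have hpb := Subobject.isPullback ι S
    have hg' : (g ≫ ι) ≫ cokernel.π S.arrow = 0 := by rw [Category.assoc]; exact hg
    have hcomm : Abelian.monoLift S.arrow (g ≫ ι) hg' ≫ S.arrow = g ≫ ι := Abelian.monoLift_comp _ _ _
    exact ⟨hpb.lift _ _ hcomm, hpb.lift_snd _ _ _⟩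

/-- `W / (W ∩ S) ⟶ E / S` is a monomorphism -/
theorem exists_mono_cokernel_pullback {W E : C} (ι : W ⟶ E) (S : Subobject E) :
    ∃ μ : cokernel ((Subobject.pullback ι).obj S).arrow ⟶ cokernel S.arrow, Mono μ ∧
      cokernel.π ((Subobject.pullback ι).obj S).arrow ≫ μ = ι ≫ cokernel.π S.arrow := by
  have hw := pullback_arrow_comp_eq_zero ι S
  have hex : (ShortComplex.mk _ _ hw).Exact :=
    ShortComplex.exact_of_f_is_kernel _ (isLimitPullbackKernelFork ι S)
  exact ⟨cokernel.desc _ _ hw, hex.mono_cokernelDesc, cokernel.π_desc _ _ _⟩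

end Abelian

/-! ### the supports of the quotients of a parabolic structure along `I` -/

theorem support_cokernel_pieceX (I : X.IdealSheafData) {E : X.Modules} (𝓔 : ParSh.Str E) (h𝓔 : 𝓔.Along I)
    (j : Fin (𝓔.l + 2)) :
    CohB1.support (cokernel (𝓔.pieceX j).arrow) ⊆ CohB1.support E ∩ (I.support : Set X) := by
  obtain ⟨ρ, hρ, -⟩ := exists_epi_cokernel_of_le (𝓔.bot_le_pieceX j)
  refine (support_subset_of_epi ρ).trans ?_
  have hb : 𝓔.bot = ParSh.twistSub I E := h𝓔
  rw [hb]
  exact support_cokernel_twistSub I E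

theorem induced_pieceX {E W : X.Modules} (𝓔 : ParSh.Str E) (ι : W ⟶ E) (j : Fin (𝓔.l + 2)) :
    (𝓔.induced ι).pieceX j = (Subobject.pullback ι).obj (𝓔.pieceX j) := by
  induction j using Fin.lastCases with
  | last => rw [ParSh.Str.pieceX_last]; exact ((𝓔.induced ι).pieceX_last)
  | cast j => rw [ParSh.Str.pieceX_castSucc]; exact ((𝓔.induced ι).pieceX_castSucc j)

theorem support_cokernel_induced_pieceX (I : X.IdealSheafData) {E W : X.Modules} (𝓔 : ParSh.Str E)
    (h𝓔 : 𝓔.Along I) (ι : W ⟶ E) (j : Fin (𝓔.l + 2)) :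
    CohB1.support (cokernel ((𝓔.induced ι).pieceX j).arrow) ⊆ CohB1.support E ∩ (I.support : Set X) := by
  have e := induced_pieceX 𝓔 ι j
  obtain ⟨μ, hμ, -⟩ := exists_mono_cokernel_pullback ι (𝓔.pieceX j)
  have h1 : CohB1.support (cokernel ((𝓔.induced ι).pieceX j).arrow) =
      CohB1.support (cokernel ((Subobject.pullback ι).obj (𝓔.pieceX j)).arrow) := by rw [e]
  rw [h1]
  exact (support_subset_of_mono μ).trans (support_cokernel_pieceX I 𝓔 h𝓔 j)

/-- the dimension bound -/
theorem dim_lt_of_support_subset {A B : Set X} (h : A ⊆ B) {d : ℕ}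
    (hB : topologicalKrullDim ↥B < (d : WithBot ℕ∞)) : topologicalKrullDim ↥A < (d : WithBot ℕ∞) :=
  lt_of_le_of_lt (Groth.Agent.R2.H62.Snapper.topologicalKrullDim_mono h) hB

end Groth.Agent.R2.H60.ParSupp
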