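import Mathlib
import Groth.Agent.R2.H62SnapAlg

/-!
# Algebra for asymptotic Riemann–Roch (helper62)

* `coeff_ones_aeval_sum_X` : the coefficient of `X_1 ⋯ X_d` in `Q(X_1 + ⋯ + X_d)` is `d! · Q.coeff d`;
* `toPoly` : one-variable `MvPolynomial (Fin 1) ℚ` as `ℚ[X]`, with evaluation and degree bound;
* `exists_bound_eventually` : a function agreeing eventually with a polynomial of degree `≤ d` differs from its leading
  term by `O((n+1)^(d-1))`.
-/

set_option autoImplicit false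
open Finset

namespace Groth.Agent.R2.H62.Snapper

theorem multinomial_ones (d : ℕ) :
    (Finsupp.equivFunOnFinite.symm fun _ : Fin d => 1 : Fin d →₀ ℕ).multinomial = d.factorial := by
  classical
  unfold Finsupp.multinomial
  have h1 : ((Finsupp.equivFunOnFinite.symm fun _ : Fin d => 1 : Fin d →₀ ℕ).sum fun _ => id) = d := by
    rw [Finsupp.sum_fintype _ _ (fun _ => rfl)]
    simp
  have h2 : ((Finsupp.equivFunOnFinite.symm fun _ : Fin d => 1 : Fin d →₀ ℕ).prod
      fun _ n => n.factorial) = 1 := by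
    rw [Finsupp.prod_fintype _ _ (fun _ => rfl)]
    simp
  rw [h1, h2, Nat.div_one]

theorem sum_ones (d : ℕ) :
    ((Finsupp.equivFunOnFinite.symm fun _ : Fin d => 1 : Fin d →₀ ℕ).sum fun _ e => e) = d := by
  rw [Finsupp.sum_fintype _ _ (fun _ => rfl)]
  simp

theorem coeff_ones_aeval_sum_X (d : ℕ) (Q : Polynomial ℚ) :
    MvPolynomial.coeff (Finsupp.equivFunOnFinite.symm fun _ : Fin d => 1)
      (Polynomial.aeval (∑ i : Fin d, (MvPolynomial.X i : MvPolynomial (Fin d) ℚ)) Q) =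
      (d.factorial : ℚ) * Q.coeff d := by
  classical
  rw [Polynomial.aeval_eq_sum_range, MvPolynomial.coeff_sum]
  have h : ∀ j ∈ Finset.range (Q.natDegree + 1),
      MvPolynomial.coeff (Finsupp.equivFunOnFinite.symm fun _ : Fin d => 1)
        (Q.coeff j • (∑ i : Fin d, (MvPolynomial.X i : MvPolynomial (Fin d) ℚ)) ^ j) =
        if j = d then (d.factorial : ℚ) * Q.coeff d else 0 := by
    intro j _
    rw [MvPolynomial.coeff_smul, MvPolynomial.coeff_sum_X_pow_of_fintype, sum_ones]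
    by_cases hj : j = d
    · subst hj
      rw [if_pos rfl, if_pos rfl, multinomial_ones, smul_eq_mul, mul_comm]
    · rw [if_neg (Ne.symm hj), if_neg hj, Nat.cast_zero, smul_zero]
  rw [Finset.sum_congr rfl h, Finset.sum_ite_eq']
  split_ifs with hd
  · rfl
  · rw [Finset.mem_range, not_lt] at hd
    rw [Polynomial.coeff_eq_zero_of_natDegree_lt (by omega), mul_zero]

/-- a one-variable multivariate polynomial as a polynomial -/
noncomputable def toPoly (P : MvPolynomial (Fin 1) ℚ) : Polynomial ℚ :=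
  MvPolynomial.aeval (fun _ : Fin 1 => (Polynomial.X : Polynomial ℚ)) P

theorem eval_toPoly (P : MvPolynomial (Fin 1) ℚ) (x : ℚ) :
    (toPoly P).eval x = MvPolynomial.eval (fun _ => x) P := by
  unfold toPoly
  induction P using MvPolynomial.induction_on with
  | C a => simp
  | add p q hp hq => rw [map_add, Polynomial.eval_add, hp, hq, map_add]
  | mul_X p i hp => rw [map_mul, Polynomial.eval_mul, hp, map_mul]; simp

theorem natDegree_toPoly_le (P : MvPolynomial (Fin 1) ℚ) (d : ℕ) (h : DegLT P (d + 1)) :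
    (toPoly P).natDegree ≤ d := by
  classical
  unfold toPoly
  rw [P.as_sum, map_sum]
  refine Polynomial.natDegree_sum_le_of_forall_le _ _ fun m hm => ?_
  rw [MvPolynomial.aeval_monomial]
  have hm' := h m hm
  have hprod : (m.prod fun _ e => (Polynomial.X : Polynomial ℚ) ^ e) =
      Polynomial.X ^ (m.sum fun _ e => e) := by
    rw [Finsupp.prod, Finsupp.sum, Finset.prod_pow_eq_pow_sum]
  rw [hprod]
  refine (Polynomial.natDegree_mul_le).trans ?_
  have h1 : (algebraMap ℚ (Polynomial ℚ) (MvPolynomial.coeff m P)).natDegree = 0 :=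
    Polynomial.natDegree_C _
  rw [h1, zero_add]
  refine (Polynomial.natDegree_X_pow_le _).trans ?_
  omega

theorem exists_bound (Q : Polynomial ℚ) (d : ℕ) (hd : Q.natDegree ≤ d) :
    ∃ C : ℚ, 0 ≤ C ∧ ∀ n : ℕ, |Q.eval (n : ℚ) - Q.coeff d * (n : ℚ) ^ d| ≤ C * ((n : ℚ) + 1) ^ (d - 1) := by
  refine ⟨∑ j ∈ Finset.range d, |Q.coeff j|, Finset.sum_nonneg fun _ _ => abs_nonneg _, fun n => ?_⟩
  have h1 : Q.eval (n : ℚ) = ∑ j ∈ Finset.range (d + 1), Q.coeff j * (n : ℚ) ^ j :=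
    Polynomial.eval_eq_sum_range' (Nat.lt_succ_of_le hd) _
  rw [h1, Finset.sum_range_succ, add_sub_cancel_right, Finset.sum_mul]
  refine (Finset.abs_sum_le_sum_abs _ _).trans (Finset.sum_le_sum fun j hj => ?_)
  rw [Finset.mem_range] at hj
  rw [abs_mul]
  refine mul_le_mul_of_nonneg_left ?_ (abs_nonneg _)
  have hn : (0 : ℚ) ≤ (n : ℚ) := Nat.cast_nonneg n
  rw [abs_of_nonneg (pow_nonneg hn j)]
  calc (n : ℚ) ^ j ≤ ((n : ℚ) + 1) ^ j := pow_le_pow_left₀ hn (by linarith) j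
    _ ≤ ((n : ℚ) + 1) ^ (d - 1) := pow_le_pow_right₀ (by linarith) (by omega)

theorem exists_bound_eventually (f : ℕ → ℚ) (Q : Polynomial ℚ) (d : ℕ) (hd : Q.natDegree ≤ d) (n₀ : ℕ)
    (h : ∀ n, n₀ ≤ n → f n = Q.eval (n : ℚ)) :
    ∃ C : ℚ, ∀ n : ℕ, |f n - Q.coeff d * (n : ℚ) ^ d| ≤ C * ((n : ℚ) + 1) ^ (d - 1) := by
  obtain ⟨C₁, hC₁, hb⟩ := exists_bound Q d hd
  set C₂ : ℚ := ∑ n ∈ Finset.range n₀, |f n - Q.coeff d * (n : ℚ) ^ d| with hC₂
  have hC₂0 : 0 ≤ C₂ := Finset.sum_nonneg fun _ _ => abs_nonneg _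
  refine ⟨C₁ + C₂, fun n => ?_⟩
  have hpow : (1 : ℚ) ≤ ((n : ℚ) + 1) ^ (d - 1) := by
    have hn : (0 : ℚ) ≤ (n : ℚ) := Nat.cast_nonneg n
    exact one_le_pow₀ (by linarith)
  by_cases hn : n₀ ≤ n
  · rw [h n hn]
    refine (hb n).trans ?_
    exact mul_le_mul_of_nonneg_right (by linarith) (by linarith)
  · have hmem : n ∈ Finset.range n₀ := Finset.mem_range.2 (by omega)
    have h1 : |f n - Q.coeff d * (n : ℚ) ^ d| ≤ C₂ :=
      Finset.single_le_sum (f := fun n => |f n - Q.coeff d * (n : ℚ) ^ d|)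
        (fun _ _ => abs_nonneg _) hmem
    calc |f n - Q.coeff d * (n : ℚ) ^ d| ≤ C₂ := h1
      _ ≤ C₁ + C₂ := by linarith
      _ = (C₁ + C₂) * 1 := (mul_one _).symm
      _ ≤ (C₁ + C₂) * ((n : ℚ) + 1) ^ (d - 1) :=
        mul_le_mul_of_nonneg_left hpow (by linarith)

end Groth.Agent.R2.H62.Snapper
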