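import Mathlib
import Groth.Prelude.Def_ShStab
import Groth.Agent.R2.H62AsympAlg
import Groth.Agent.R2.H62SnapMain
import Groth.Agent.R2.H62SnapCoeff
import Groth.Agent.R2.H62IntNum
import Groth.Agent.R2.H55AmpleVan
import Groth.Agent.R2.H20LocFreeRank
import Groth.Agent.Lib.Helper23UnitStalk
import Groth.Agent.S0051

/-!
# Asymptotic Riemann–Roch, modulo positivity of the leading coefficient (helper62)

`asympRR` : for `X` proper of dimension `d` over a field and `L` ample, given the positivity of the normalised leading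
coefficient of the Hilbert polynomial of `O_X` (`AlphaPos`, proved in PROJ:shstab), the `n_1 ⋯ n_d`-coefficient `c·d!` of the
Snapper polynomial of `O_X` is positive and `h^0(L^n) = c n^d + O(n^{d-1})`.
-/

set_option autoImplicit false
universe u
open CategoryTheory CategoryTheory.Limits AlgebraicGeometry TopologicalSpace Opposite

namespace Groth.Agent.R2.H62.Snapper

open Groth.Agent.R2.H79.TwistCalc

section iso

variable {X : Scheme.{u}}

/-- `M ⊗ L^{n_1} ⊗ ⋯ ⊗ L^{n_d} ≅ M ⊗ L^{n_1 + ⋯ + n_d}` -/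
theorem nonempty_tensorPows_const_iso (M L : X.Modules) : ∀ (d : ℕ) (n : Fin d → ℕ),
    Nonempty (Curv2.tensorPows M d (fun _ => L) n ≅ CohB1.tensorMod M (CohB1.tensorPow L (∑ i, n i)))
  | 0, n => by
    have h : ∑ i, n i = 0 := by simp
    rw [h]
    exact ⟨(tensorRightFUnit.app M).symm⟩
  | d + 1, n => by
    obtain ⟨e⟩ := nonempty_tensorPows_const_iso M L d (fun i => n i.castSucc)
    have h : ∑ i, n i = ∑ i : Fin d, n i.castSucc + n (Fin.last d) := Fin.sum_univ_castSucc n
    rw [h]
    let A := Curv2.tensorPows M d (fun _ => L) (fun i => n i.castSucc)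
    have e1 : CohB1.tensorMod A (CohB1.tensorPow L (n (Fin.last d))) ≅
        CohB1.tensorMod (CohB1.tensorMod M (CohB1.tensorPow L (∑ i : Fin d, n i.castSucc)))
          (CohB1.tensorPow L (n (Fin.last d))) := tensorIsoRight e _
    have e2 := tensorAssocIso M (CohB1.tensorPow L (∑ i : Fin d, n i.castSucc))
      (CohB1.tensorPow L (n (Fin.last d)))
    have e3 : CohB1.tensorMod M (CohB1.tensorMod (CohB1.tensorPow L (∑ i : Fin d, n i.castSucc))
        (CohB1.tensorPow L (n (Fin.last d)))) ≅
        CohB1.tensorMod M (CohB1.tensorPow L (∑ i : Fin d, n i.castSucc + n (Fin.last d))) :=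
      tensorIsoLeft M (Groth.Agent.R2.H55.AmpleVan.tensorPowAdd L _ _)
    exact ⟨e1 ≪≫ e2 ≪≫ e3⟩

end iso

section main

variable (k : Type u) [Field k] {X : Scheme.{u}} [X.Over (Spec (CommRingCat.of k))]
  [IsProper (X ↘ (Spec (CommRingCat.of k)))]

/-- positivity of the normalised leading coefficient of Hilbert polynomials (PROJ:shstab `alpha_pos`) -/
def AlphaPos (L : X.Modules) : Prop :=
  ∀ (E : X.Modules), Coh.IsCoh E → ∀ d : ℕ, topologicalKrullDim (CohB1.support E) = (d : WithBot ℕ∞) →
    ∀ P : Polynomial ℚ, ShStab.IsHilbPoly k X L E P → 0 < StabCat.alpha d P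

theorem euler_eq_finrank_zero (M : X.Modules) (h : ∀ p : ℕ, 0 < p → Subsingleton (Coh.HH X M p)) :
    Curv2.euler k X M = (Module.finrank k (Coh.HH X M 0) : ℤ) := by
  unfold Curv2.euler
  rw [finsum_eq_single _ 0 (fun p hp => ?_)]
  · simp
  · have := h p (Nat.pos_of_ne_zero hp)
    rw [Module.finrank_zero_of_subsingleton]
    simp

/-- the Hilbert polynomial of a coherent module exists and has degree `≤ dim` -/
theorem exists_isHilbPoly (L : X.Modules) (hL : PicF.IsInvertible L) (E : X.Modules) (hE : Coh.IsCoh E)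
    (d : ℕ) (hd : topologicalKrullDim (CohB1.support E) ≤ (d : WithBot ℕ∞)) :
    ∃ Q : Polynomial ℚ, Q.natDegree ≤ d ∧ ShStab.IsHilbPoly k X L E Q := by
  obtain ⟨P₁, hP₁, he⟩ := snapper_lt k 1 (fun _ => L) (fun _ => hL) (d + 1) E hE
    (smallSupp_of_support E hE (d + 1) (withBot_lt_succ_of_le hd))
  refine ⟨toPoly P₁, natDegree_toPoly_le P₁ d hP₁, fun m => ?_⟩
  rw [eval_toPoly]
  have h1 := he (fun _ => m)
  rw [← h1]
  unfold chiF
  rw [twF_obj]
  rfl

theorem support_structureModule : CohB1.support (Coh.structureModule X) = Set.univ := by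
  ext x
  simp only [CohB1.support, Set.mem_setOf_eq, Set.mem_univ, iff_true, not_subsingleton_iff_nontrivial]
  exact Groth.Agent.Lib.Helper23.UnitStalk.nontrivial_stalk_structureModule x

theorem dim_support_structureModule :
    topologicalKrullDim ↥(CohB1.support (Coh.structureModule X)) = topologicalKrullDim X := by
  rw [support_structureModule]
  exact IsHomeomorph.topologicalKrullDim_eq _ (Homeomorph.Set.univ X).isHomeomorph

/-- **asymptotic Riemann–Roch**, modulo positivity -/
theorem asympRR (d : ℕ) (hX : topologicalKrullDim X = (d : WithBot ℕ∞)) (L : X.Modules)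
    (hL : CohB1.IsAmple L) (hpos : AlphaPos k L)
    (P : MvPolynomial (Fin d) ℚ)
    (hP : ∀ n : Fin d → ℕ,
      (Curv2.euler k X (Curv2.tensorPows (Coh.structureModule X) d (fun _ => L) n) : ℚ) =
        MvPolynomial.eval (fun i => (n i : ℚ)) P) :
    0 < MvPolynomial.coeff (Finsupp.equivFunOnFinite.symm fun _ : Fin d => 1) P ∧
      ∃ C : ℚ, ∀ n : ℕ,
        |(Module.finrank k (Coh.HH X (CohB1.tensorPow L n) 0) : ℚ) -
            MvPolynomial.coeff (Finsupp.equivFunOnFinite.symm fun _ : Fin d => 1) P / (d.factorial : ℚ) *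
              (n : ℚ) ^ d| ≤ C * ((n : ℚ) + 1) ^ (d - 1) := by
  have hXN : IsNoetherian X := isNoetherian_of_isProper k
  have hLi : PicF.IsInvertible L := hL.1
  have hO : Coh.IsCoh (Coh.structureModule X) := isCoh_structureModule' X
  have hdimO : topologicalKrullDim ↥(CohB1.support (Coh.structureModule X)) = (d : WithBot ℕ∞) := by
    rw [dim_support_structureModule, hX]
  obtain ⟨Q, hQd, hQ⟩ := exists_isHilbPoly k L hLi _ hO d hdimO.le
  -- `P = Q(X_1 + ⋯ + X_d)`
  have hPQ : P = Polynomial.aeval (∑ i : Fin d, (MvPolynomial.X i : MvPolynomial (Fin d) ℚ)) Q :=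
    eq_of_eval_nat_eq fun n => by
      rw [← hP n]
      obtain ⟨e⟩ := nonempty_tensorPows_const_iso (Coh.structureModule X) L d n
      rw [euler_congr k e]
      have h1 := hQ (∑ i, n i)
      unfold ShStab.twist at h1
      rw [h1]
      have h2 : MvPolynomial.eval (fun i => (n i : ℚ))
          (Polynomial.aeval (∑ i : Fin d, (MvPolynomial.X i : MvPolynomial (Fin d) ℚ)) Q) =
          Polynomial.aeval (MvPolynomial.eval (fun i => (n i : ℚ))
            (∑ i : Fin d, (MvPolynomial.X i : MvPolynomial (Fin d) ℚ))) Q := by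
        have h3 := Polynomial.aeval_algHom_apply
          (MvPolynomial.aeval (R := ℚ) (S₁ := ℚ) (fun i : Fin d => (n i : ℚ)))
          (∑ i : Fin d, (MvPolynomial.X i : MvPolynomial (Fin d) ℚ)) Q
        rw [MvPolynomial.aeval_eq_eval] at h3
        exact h3.symm
      rw [h2, map_sum]
      simp only [MvPolynomial.eval_X, Polynomial.coe_aeval_eq_eval]
      push_cast
      rfl
  have hcoef : MvPolynomial.coeff (Finsupp.equivFunOnFinite.symm fun _ : Fin d => 1) P =
      (d.factorial : ℚ) * Q.coeff d := by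
    rw [hPQ]
    exact coeff_ones_aeval_sum_X d Q
  have hfac : (0 : ℚ) < (d.factorial : ℚ) := by exact_mod_cast Nat.factorial_pos d
  have hdiv : MvPolynomial.coeff (Finsupp.equivFunOnFinite.symm fun _ : Fin d => 1) P /
      (d.factorial : ℚ) = Q.coeff d := by
    rw [hcoef]
    field_simp
  refine ⟨?_, ?_⟩
  · rw [hcoef]
    exact hpos _ hO d hdimO Q hQ
  · rw [hdiv]
    obtain ⟨n₀, hn₀⟩ := (Groth.Agent.S0051.result k X (X ↘ (Spec (CommRingCat.of k))) L hLi).1 hL
      (Coh.structureModule X) hO
    refine exists_bound_eventually _ Q d hQd n₀ fun n hn => ?_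
    have h1 := hQ n
    rw [← h1]
    unfold ShStab.twist
    rw [euler_eq_finrank_zero k _ (hn₀ n hn)]
    push_cast
    congr 1
    exact (Groth.Agent.R2.H20.LocFreeRank.HHEquivOfIso (k := k)
      (tensorUnitLeftIso (CohB1.tensorPow L n)) 0).finrank_eq.symm

end main

end Groth.Agent.R2.H62.Snapper
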