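import Mathlib
import Groth.Agent.R2.H70StabSpec
import Groth.Agent.R2.H37StabPosSpec
import Groth.Agent.R2.H62AsympRR
import Groth.Agent.R2.H60StabDim
import Groth.Agent.R2.H5CohThick
import Groth.Agent.S0045
import Groth.Agent.Lib.Helper4VarDim9

/-!
# The geometric Hilbert-polynomial context, modulo positivity (helper60, PROJ:shstab, PKG-CTX assembly)

`pkgCtx_of (hpos : AlphaPosStmt) : PkgCtx` : for `X` proper over a field `k` and `L` ample, coherent modules with their
Hilbert polynomials and the dimension of the support form a `HilbCtx` (helper70's abstract context), given the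
positivity of the top coefficient (`AlphaPosStmt`, helper37's sub-project).  All other fields are assembled from
existing libraries: coherent modules form a thick subcategory (helper5), Snapper (helper62), additivity of the Euler
characteristic (S1524 via `chiF_add`), dimension of supports (`H60StabDim`), ACC (S0045), finite dimensionality of
schemes of finite type over a field (helper4).
-/

set_option autoImplicit false

universe u

open CategoryTheory CategoryTheory.Limits AlgebraicGeometry Polynomial

namespace Groth.Agent.R2.H60.StabGeom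

open Groth.Agent.R2.H70.StabCtx Groth.Agent.R2.H70.StabSpec Groth.Agent.R2.H37.StabPosSpec
  Groth.Agent.R2.H62.Snapper Groth.Agent.R2.H5.CohThick

section

variable (k : Type u) [Field k] {X : Scheme.{u}} [X.Over (Spec (CommRingCat.of k))]

/-- the Euler characteristic of a twist, in helper62's notation -/
theorem euler_twist (L E : X.Modules) (m : ℕ) :
    Curv2.euler k X (ShStab.twist X L E m) = chiF k 1 (fun _ => L) E (fun _ => m) := by
  unfold chiF
  rw [twF_obj]
  rfl

theorem isHilbPoly_iff (L E : X.Modules) (P : ℚ[X]) :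
    ShStab.IsHilbPoly k X L E P ↔ ∀ m : ℕ, (chiF k 1 (fun _ => L) E (fun _ => m) : ℚ) = P.eval (m : ℚ) := by
  unfold ShStab.IsHilbPoly
  simp only [euler_twist]

theorem isHilbPoly_unique {L E : X.Modules} {P Q : ℚ[X]} (hP : ShStab.IsHilbPoly k X L E P)
    (hQ : ShStab.IsHilbPoly k X L E Q) : P = Q :=
  Groth.Agent.R2.H70.StabPoly.eq_of_eval_nat_eq fun m => (hP m).symm.trans (hQ m)

theorem isHilbPoly_iso {L E F : X.Modules} {P : ℚ[X]} (e : E ≅ F) (hP : ShStab.IsHilbPoly k X L E P) :
    ShStab.IsHilbPoly k X L F P := by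
  rw [isHilbPoly_iff] at hP ⊢
  intro m
  rw [← hP m, chiF_iso k 1 (fun _ => L) e]

theorem isHilbPoly_int {L E : X.Modules} {P : ℚ[X]} (hP : ShStab.IsHilbPoly k X L E P) (m : ℕ) :
    ∃ z : ℤ, P.eval (m : ℚ) = z :=
  ⟨_, (hP m).symm⟩

variable [IsProper (X ↘ Spec (CommRingCat.of k))]

theorem isHilbPoly_add {L : X.Modules} (hL : PicF.IsInvertible L) (S : ShortComplex X.Modules)
    (hS : S.ShortExact) (h₁ : Coh.IsCoh S.X₁) (h₂ : Coh.IsCoh S.X₂) (h₃ : Coh.IsCoh S.X₃) {P₁ P₃ : ℚ[X]}
    (hP₁ : ShStab.IsHilbPoly k X L S.X₁ P₁) (hP₃ : ShStab.IsHilbPoly k X L S.X₃ P₃) :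
    ShStab.IsHilbPoly k X L S.X₂ (P₁ + P₃) := by
  rw [isHilbPoly_iff] at hP₁ hP₃ ⊢
  intro m
  rw [chiF_add k 1 (fun _ => L) (fun _ => hL) S hS h₁ h₂ h₃, eval_add, ← hP₁ m, ← hP₃ m]
  push_cast
  rfl

include k in
/-- a scheme proper over a field has finite dimension -/
theorem exists_nat_dim_le : ∃ N : ℕ, topologicalKrullDim X ≤ (N : WithBot ℕ∞) := by
  have : IsNoetherian X := isNoetherian_of_isProper k
  obtain ⟨N, hN⟩ := Groth.Agent.Lib.Helper4.VarDim.exists_trdegNat_le k X
  refine ⟨N, ?_⟩
  rw [Groth.Agent.Lib.Helper4.VarDim.topologicalKrullDim_eq_iSup_trdegNat k X]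
  exact iSup_le fun z => by exact_mod_cast hN z

include k in
theorem exists_nat_dim_support_le (E : X.Modules) :
    ∃ N : ℕ, topologicalKrullDim (CohB1.support E) ≤ (N : WithBot ℕ∞) := by
  obtain ⟨N, hN⟩ := exists_nat_dim_le k (X := X)
  exact ⟨N, (topologicalKrullDim_subspace_le X _).trans hN⟩

/-- the geometric context, given positivity of the top coefficient -/
noncomputable def hilbCtx (L : X.Modules) (hL : CohB1.IsAmple L)
    (hpos : ∀ (E : X.Modules), Coh.IsCoh E → ∀ (d : ℕ),
      topologicalKrullDim (CohB1.support E) = (d : WithBot ℕ∞) →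
      ∀ (P : ℚ[X]), ShStab.IsHilbPoly k X L E P → 0 < StabCat.alpha d P) : HilbCtx X.Modules :=
  haveI : IsNoetherian X := isNoetherian_of_isProper k
  { ok := Coh.IsCoh
    HP := ShStab.IsHilbPoly k X L
    dim := fun E => topologicalKrullDim (CohB1.support E)
    ok_iso := fun e h => (cohP X).prop_of_iso e h
    ok_zero := fun h => isCoh_of_isZero X h
    ok_kernel := fun f hE hF => (cohP X).prop_kernel f hE hF
    ok_cokernel := fun f hE hF => (cohP X).prop_cokernel f hE hF
    ok_biprod := fun {E F} hE hF => by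
      have hS : (ShortComplex.mk (biprod.inl : E ⟶ E ⊞ F) biprod.snd biprod.inl_snd).ShortExact :=
        ShortComplex.ShortExact.mk' (ShortComplex.Splitting.exact
          { r := biprod.fst, s := biprod.inr, f_r := by simp, s_g := by simp, id := by simp })
          inferInstance inferInstance
      exact (cohP X).prop_X₂_of_shortExact hS hE hF
    ok_ext := fun S hS h1 h3 => (cohP X).prop_X₂_of_shortExact hS h1 h3
    HP_exists := fun {E} hE => by
      obtain ⟨N, hN⟩ := exists_nat_dim_support_le k E
      obtain ⟨Q, -, hQ⟩ := exists_isHilbPoly k L hL.1 E hE N hN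
      exact ⟨Q, hQ⟩
    HP_unique := fun hP hQ => isHilbPoly_unique k hP hQ
    HP_iso := fun e hP => isHilbPoly_iso k e hP
    HP_add := fun S hS h1 h2 h3 _ _ hP1 hP3 => isHilbPoly_add k hL.1 S hS h1 h2 h3 hP1 hP3
    HP_int := fun hP m => isHilbPoly_int k hP m
    dim_iso := fun e => Groth.Agent.R2.H60.StabDim.dim_iso e
    dim_ses := fun S hS h1 _ h3 => Groth.Agent.R2.H60.StabDim.dim_shortExact S hS h1.2 h3.2
    dim_eq_bot_iff := fun _ => Groth.Agent.R2.H60.StabDim.dim_eq_bot_iff _
    natDegree_le := fun {E P} d hE hd hP => by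
      obtain ⟨Q, hQd, hQ⟩ := exists_isHilbPoly k L hL.1 E hE d hd
      rw [isHilbPoly_unique k hP hQ]
      exact hQd
    alpha_pos := fun {E P} d hE hd hP => hpos E hE d hd P hP
    acc := fun {E} hE f hf => Groth.Agent.S0045.result X E hE f (fun n => (hf n).1) }

end

/-- **PKG-CTX modulo positivity**: the geometric Hilbert-polynomial context exists as soon as the top coefficient of
the Hilbert polynomial is positive. -/
theorem pkgCtx_of (hpos : AlphaPosStmt.{u}) : PkgCtx.{u} := by
  intro k _ X _ _ L hL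
  exact ⟨{ H := hilbCtx k L hL (hpos k X L hL), ok_eq := rfl, HP_eq := rfl, dim_eq := rfl }⟩

end Groth.Agent.R2.H60.StabGeom
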