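import Mathlib
import Groth.Prelude.Def_ParBun
import Groth.Agent.R2.H60StabGeom
import Groth.Agent.R2.H60ParSupp

/-!
# Additivity of the parabolic Hilbert function in parabolic extensions (helper60, S18524)

For a short exact sequence `0 → F → E → G → 0` in an abelian category and a subobject `S` of `E`, the sequence
`0 → F ∩ S → S → im (S → G) → 0` is short exact; on a proper scheme Euler characteristics of twists are additive,
hence so is `ParSh.Str.parHilb` for the induced / coinduced structures.
-/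

set_option autoImplicit false

universe u

open CategoryTheory CategoryTheory.Limits AlgebraicGeometry

namespace Groth.Agent.R2.H60.ParExt

open Groth.Agent.R2.H60.StabGeom Groth.Agent.R2.H60.ParSupp Groth.Agent.R2.H5.CohThick

section Abelian

universe v w

variable {C : Type w} [Category.{v} C] [Abelian C]

theorem pullbackπ_comp_eq_zero {F E G : C} (i : F ⟶ E) (p : E ⟶ G) (w : i ≫ p = 0) (S : Subobject E) :
    Subobject.pullbackπ i S ≫ S.arrow ≫ p = 0 := by
  rw [← Category.assoc, (Subobject.isPullback i S).w, Category.assoc, w, Limits.comp_zero]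

theorem mono_pullbackπ {F E : C} (i : F ⟶ E) [Mono i] (S : Subobject E) : Mono (Subobject.pullbackπ i S) := by
  have h : Mono (Subobject.pullbackπ i S ≫ S.arrow) := by
    rw [(Subobject.isPullback i S).w]; infer_instance
  exact mono_of_mono (Subobject.pullbackπ i S) S.arrow

/-- `F ∩ S` is the kernel of `S ⟶ E ⟶ G` -/
noncomputable def isLimitPullbackπ {F E G : C} (i : F ⟶ E) (p : E ⟶ G) (w : i ≫ p = 0)
    (hS : (ShortComplex.mk i p w).ShortExact) (S : Subobject E) :
    IsLimit (KernelFork.ofι (Subobject.pullbackπ i S) (pullbackπ_comp_eq_zero i p w S)) := by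
  have : Mono i := hS.mono_f
  have := mono_pullbackπ i S
  refine KernelFork.IsLimit.ofι' _ _ fun {A} x hx => ?_
  have hx' : (x ≫ S.arrow) ≫ (ShortComplex.mk i p w).g = 0 := by rw [Category.assoc]; exact hx
  have hy : hS.exact.lift (x ≫ S.arrow) hx' ≫ i = x ≫ S.arrow := hS.exact.lift_f _ _
  exact ⟨(Subobject.isPullback i S).lift x _ hy.symm, (Subobject.isPullback i S).lift_fst _ _ _⟩

theorem pullbackπ_comp_factorThru {F E G : C} (i : F ⟶ E) (p : E ⟶ G) (w : i ≫ p = 0) (S : Subobject E) :
    Subobject.pullbackπ i S ≫ factorThruImageSubobject (S.arrow ≫ p) = 0 := by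
  rw [← cancel_mono (imageSubobject (S.arrow ≫ p)).arrow, Category.assoc, imageSubobject_arrow_comp,
    Limits.zero_comp]
  exact pullbackπ_comp_eq_zero i p w S

/-- `0 → F ∩ S → S → im (S → G) → 0` is short exact -/
theorem shortExact_pullback_image {F E G : C} (i : F ⟶ E) (p : E ⟶ G) (w : i ≫ p = 0)
    (hS : (ShortComplex.mk i p w).ShortExact) (S : Subobject E) :
    (ShortComplex.mk (Subobject.pullbackπ i S) (factorThruImageSubobject (S.arrow ≫ p))
      (pullbackπ_comp_factorThru i p w S)).ShortExact := by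
  have : Mono i := hS.mono_f
  have := mono_pullbackπ i S
  refine ShortComplex.ShortExact.mk' (ShortComplex.exact_of_f_is_kernel _
    (KernelFork.IsLimit.ofι' _ (pullbackπ_comp_factorThru i p w S) fun {A} x hx => ?_)) inferInstance
    inferInstance
  have hx' : x ≫ S.arrow ≫ p = 0 := by
    rw [← imageSubobject_arrow_comp (S.arrow ≫ p), ← Category.assoc, hx, Limits.zero_comp]
  exact ⟨(isLimitPullbackπ i p w hS S).lift (KernelFork.ofι x hx'),
    (isLimitPullbackπ i p w hS S).fac (KernelFork.ofι x hx') WalkingParallelPair.zero⟩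

end Abelian

section Geom

variable (k : Type u) [Field k] {X : Scheme.{u}} [X.Over (Spec (CommRingCat.of k))]
  [IsProper (X ↘ Spec (CommRingCat.of k))]

/-- additivity of the Euler characteristics of the twists in a short exact sequence of coherent modules -/
theorem euler_twist_add {L : X.Modules} (hL : PicF.IsInvertible L) (T : ShortComplex X.Modules)
    (hT : T.ShortExact) (h1 : Coh.IsCoh T.X₁) (h2 : Coh.IsCoh T.X₂) (h3 : Coh.IsCoh T.X₃) (m : ℕ) :
    Curv2.euler k X (ShStab.twist X L T.X₂ m) =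
      Curv2.euler k X (ShStab.twist X L T.X₁ m) + Curv2.euler k X (ShStab.twist X L T.X₃ m) := by
  have h := Groth.Agent.R2.H62.Snapper.chiF_add k 1 (fun _ => L) (fun _ => hL) T hT h1 h2 h3 (fun _ => m)
  rw [euler_twist, euler_twist, euler_twist]
  exact h

variable {F E G : X.Modules} (i : F ⟶ E) (p : E ⟶ G) (w : i ≫ p = 0)
  (hS : (ShortComplex.mk i p w).ShortExact)

include k hS in
theorem isCoh_pullback (hG : Coh.IsCoh G) (S : Subobject E) (hSc : Coh.IsCoh (S : X.Modules)) :
    Coh.IsCoh (((Subobject.pullback i).obj S : Subobject F) : X.Modules) := by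
  haveI : IsNoetherian X := Groth.Agent.R2.H62.Snapper.isNoetherian_of_isProper k
  exact (cohP X).prop_of_isLimit_kernelFork (isLimitPullbackπ i p w hS S) hSc hG

include k in
theorem isCoh_imageSubobject (hG : Coh.IsCoh G) (S : Subobject E) (hSc : Coh.IsCoh (S : X.Modules)) :
    Coh.IsCoh ((imageSubobject (S.arrow ≫ p) : Subobject G) : X.Modules) := by
  haveI : IsNoetherian X := Groth.Agent.R2.H62.Snapper.isNoetherian_of_isProper k
  have h1 : Coh.IsCoh (Abelian.image (S.arrow ≫ p)) :=
    (cohP X).prop_kernel _ hG ((cohP X).prop_cokernel (S.arrow ≫ p) hSc hG)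
  exact (cohP X).prop_of_iso
    (Abelian.imageIsoImage (S.arrow ≫ p) ≪≫ (imageSubobjectIso (S.arrow ≫ p)).symm) h1

include hS in
/-- the key additivity for one subobject -/
theorem euler_pullback_add_image {L : X.Modules} (hL : PicF.IsInvertible L) (hG : Coh.IsCoh G)
    (S : Subobject E) (hSc : Coh.IsCoh (S : X.Modules)) (m : ℕ) :
    ((Curv2.euler k X (ShStab.twist X L (((Subobject.pullback i).obj S : Subobject F) : X.Modules) m) : ℤ) : ℝ) +
      ((Curv2.euler k X (ShStab.twist X L ((imageSubobject (S.arrow ≫ p) : Subobject G) : X.Modules) m) : ℤ) : ℝ) =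
      ((Curv2.euler k X (ShStab.twist X L (S : X.Modules) m) : ℤ) : ℝ) := by
  have h := euler_twist_add k hL _ (shortExact_pullback_image i p w hS S) (isCoh_pullback k i p w hS hG S hSc)
    hSc (isCoh_imageSubobject k p hG S hSc) m
  change Curv2.euler k X (ShStab.twist X L (S : X.Modules) m) = _ at h
  rw [h]
  push_cast
  rfl

theorem coinduced_pieceX [Epi p] (𝓔 : ParSh.Str E) (j : Fin (𝓔.l + 2)) :
    (𝓔.coinduced p).pieceX j = imageSubobject ((𝓔.pieceX j).arrow ≫ p) := by
  induction j using Fin.lastCases with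
  | last => rw [ParSh.Str.pieceX_last]; exact ((𝓔.coinduced p).pieceX_last)
  | cast j => rw [ParSh.Str.pieceX_castSucc]; exact ((𝓔.coinduced p).pieceX_castSucc j)

include hS in
/-- **additivity of the parabolic Hilbert function** -/
theorem parHilb_add [Epi p] {L : X.Modules} (hL : PicF.IsInvertible L) (hG : Coh.IsCoh G) (𝓔 : ParSh.Str E)
    (hcoh : ∀ j, Coh.IsCoh ((𝓔.piece j : Subobject E) : X.Modules))
    (hbot : Coh.IsCoh ((𝓔.bot : Subobject E) : X.Modules)) (m : ℕ) :
    (𝓔.induced i).parHilb k X L m + (𝓔.coinduced p).parHilb k X L m = 𝓔.parHilb k X L m := by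
  have hcohX : ∀ j, Coh.IsCoh ((𝓔.pieceX j : Subobject E) : X.Modules) := by
    intro j
    induction j using Fin.lastCases with
    | last => rw [ParSh.Str.pieceX_last]; exact hbot
    | cast j => rw [ParSh.Str.pieceX_castSucc]; exact hcoh j
  have key := fun (S : Subobject E) (hSc : Coh.IsCoh (S : X.Modules)) =>
    euler_pullback_add_image k i p w hS hL hG S hSc m
  unfold ParSh.Str.parHilb ParSh.Str.parSum
  have e1 : ∀ j : Fin (𝓔.l + 1), (𝓔.induced i).pieceX j.succ = (Subobject.pullback i).obj (𝓔.pieceX j.succ) :=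
    fun j => induced_pieceX 𝓔 i j.succ
  have e2 : ∀ j : Fin (𝓔.l + 1), (𝓔.coinduced p).pieceX j.succ = imageSubobject ((𝓔.pieceX j.succ).arrow ≫ p) :=
    fun j => coinduced_pieceX p 𝓔 j.succ
  have hb := key 𝓔.bot hbot
  have hp := fun j => key (𝓔.piece j) (hcoh j)
  have hpX := fun j : Fin (𝓔.l + 1) => key (𝓔.pieceX j.succ) (hcohX j.succ)
  change (((Curv2.euler k X (ShStab.twist X L (((Subobject.pullback i).obj 𝓔.bot : Subobject F) : X.Modules) m) : ℤ) : ℝ) +
      ∑ j : Fin (𝓔.l + 1), 𝓔.wt j *
        (((Curv2.euler k X (ShStab.twist X L (((Subobject.pullback i).obj (𝓔.piece j) : Subobject F) : X.Modules) m) : ℤ) : ℝ) -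
          ((Curv2.euler k X (ShStab.twist X L (((𝓔.induced i).pieceX j.succ : Subobject F) : X.Modules) m) : ℤ) : ℝ))) +
    (((Curv2.euler k X (ShStab.twist X L ((imageSubobject (𝓔.bot.arrow ≫ p) : Subobject G) : X.Modules) m) : ℤ) : ℝ) +
      ∑ j : Fin (𝓔.l + 1), 𝓔.wt j *
        (((Curv2.euler k X (ShStab.twist X L ((imageSubobject ((𝓔.piece j).arrow ≫ p) : Subobject G) : X.Modules) m) : ℤ) : ℝ) -
          ((Curv2.euler k X (ShStab.twist X L (((𝓔.coinduced p).pieceX j.succ : Subobject G) : X.Modules) m) : ℤ) : ℝ))) = _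
  simp only [e1, e2]
  rw [← hb]
  rw [add_add_add_comm, ← Finset.sum_add_distrib]
  congr 1
  refine Finset.sum_congr rfl fun j _ => ?_
  rw [← hp j, ← hpX j]
  ring

end Geom

end Groth.Agent.R2.H60.ParExt
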