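import Mathlib
import Groth.Prelude.Def_ParBun
import Groth.Agent.R2.H60StabGeom

/-!
# The parabolic Hilbert function through the Hilbert polynomials of the quotients (helper60, S18526)
-/

set_option autoImplicit false

universe u

open CategoryTheory CategoryTheory.Limits AlgebraicGeometry Polynomial

namespace Groth.Agent.R2.H60.ParHilb

open Groth.Agent.R2.H60.StabGeom Groth.Agent.R2.H5.CohThick

/-- Abel summation for the parabolic weights -/
theorem abel_fin (n : ℕ) (w h : Fin (n + 2) → ℝ) (p : ℝ) (h0 : h 0 = 0) (wl : w (Fin.last (n+1)) = 1) :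
    (p - h (Fin.last (n + 1))) + ∑ j : Fin (n + 1), w j.castSucc * ((p - h j.castSucc) - (p - h j.succ)) =
      p - ∑ j : Fin (n + 1), (w j.succ - w j.castSucc) * h j.succ := by
  have e1 := Fin.sum_univ_succ (fun i : Fin (n + 2) => w i * h i)
  have e2 := Fin.sum_univ_castSucc (fun i : Fin (n + 2) => w i * h i)
  simp only [h0, wl, mul_zero, zero_add, one_mul] at e1 e2
  have e3 : ∑ j : Fin (n+1), w j.succ * h j.succ =
      ∑ j : Fin (n+1), w j.castSucc * h j.castSucc + h (Fin.last (n+1)) := e1.symm.trans e2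
  have e4 : ∑ j : Fin (n + 1), w j.castSucc * ((p - h j.castSucc) - (p - h j.succ)) =
      ∑ j : Fin (n + 1), w j.castSucc * h j.succ - ∑ j : Fin (n + 1), w j.castSucc * h j.castSucc := by
    rw [← Finset.sum_sub_distrib]
    refine Finset.sum_congr rfl fun j _ => ?_
    ring
  have e5 : ∑ j : Fin (n + 1), (w j.succ - w j.castSucc) * h j.succ =
      ∑ j : Fin (n + 1), w j.succ * h j.succ - ∑ j : Fin (n + 1), w j.castSucc * h j.succ := by
    rw [← Finset.sum_sub_distrib]
    refine Finset.sum_congr rfl fun j _ => ?_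
    ring
  rw [e4, e5, e3]
  ring

variable (k : Type u) [Field k] {X : Scheme.{u}} [X.Over (Spec (CommRingCat.of k))]
  [IsProper (X ↘ Spec (CommRingCat.of k))]

/-- the Euler characteristic of a twist of a coherent submodule, through the Hilbert polynomials of the ambient
module and of the quotient -/
theorem euler_twist_sub {L : X.Modules} (hL : PicF.IsInvertible L) {E : X.Modules} (hE : Coh.IsCoh E)
    (S : Subobject E) (hS : Coh.IsCoh (S : X.Modules)) {P Q : ℚ[X]} (hP : ShStab.IsHilbPoly k X L E P)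
    (hQ : ShStab.IsHilbPoly k X L (cokernel S.arrow) Q) (m : ℕ) :
    ((Curv2.euler k X (ShStab.twist X L (S : X.Modules) m) : ℤ) : ℝ) =
      ((P.eval (m : ℚ) : ℚ) : ℝ) - ((Q.eval (m : ℚ) : ℚ) : ℝ) := by
  haveI : IsNoetherian X := Groth.Agent.R2.H62.Snapper.isNoetherian_of_isProper k
  have hC : Coh.IsCoh (cokernel S.arrow) :=
    (cohP X).prop_cokernel S.arrow hS hE
  have hses : (ShortComplex.mk S.arrow (cokernel.π S.arrow) (cokernel.condition _)).ShortExact :=
    ShortComplex.ShortExact.mk' (ShortComplex.exact_cokernel _) inferInstance inferInstance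
  have h := Groth.Agent.R2.H62.Snapper.chiF_add k 1 (fun _ => L) (fun _ => hL) _ hses hS hE hC
    (fun _ => m)
  change Groth.Agent.R2.H62.Snapper.chiF k 1 (fun _ => L) E (fun _ => m) =
    Groth.Agent.R2.H62.Snapper.chiF k 1 (fun _ => L) (S : X.Modules) (fun _ => m) +
      Groth.Agent.R2.H62.Snapper.chiF k 1 (fun _ => L) (cokernel S.arrow) (fun _ => m) at h
  rw [← euler_twist, ← euler_twist, ← euler_twist] at h
  have hP' := hP m
  have hQ' := hQ m
  have h2 : ((Curv2.euler k X (ShStab.twist X L (S : X.Modules) m) : ℤ) : ℚ) =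
      P.eval (m : ℚ) - Q.eval (m : ℚ) := by
    rw [← hP', ← hQ', h]
    push_cast
    ring
  have h3 := congrArg (fun q : ℚ => (q : ℝ)) h2
  simpa using h3

/-- the Hilbert polynomial of the cokernel of `⊤.arrow` vanishes identically -/
theorem eval_eq_zero_of_top {L E : X.Modules} {S : Subobject E} (hS : S = ⊤) {Q : ℚ[X]}
    (hQ : ShStab.IsHilbPoly k X L (cokernel S.arrow) Q) (m : ℕ) : Q.eval (m : ℚ) = 0 := by
  subst hS
  have hz : IsZero (cokernel (⊤ : Subobject E).arrow) := isZero_cokernel_of_epi _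
  have h0 := Groth.Agent.R2.H62.Snapper.chiF_of_isZero k 1 (fun _ => L) hz (fun _ => m)
  rw [← euler_twist] at h0
  rw [← hQ m, h0]
  simp

end Groth.Agent.R2.H60.ParHilb
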