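import Mathlib
import Groth.Prelude.Def_StabCat
import Groth.Prelude.Def_W4swparbununimodPar

/-!
# Limits of ratios of Hilbert polynomials (helper60, towards S18532)

Mathlib-only asymptotics: for `P : ℚ[X]` of degree `≤ d`, `P(n) / (n^d / d!) → alpha d P`; ratios of polynomials of
degree `≤ e` with `alpha e B ≠ 0` tend to the ratio of the multiplicities; and the two-variable comparison used to pass
from the second to the first modified parabolic Hilbert polynomial.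
-/

set_option autoImplicit false

open Polynomial Filter Topology StabCat

namespace Groth.Agent.R2.H60.ParLim

theorem tendsto_eval_div (d : ℕ) (P : ℚ[X]) (hP : P.natDegree ≤ d) :
    Tendsto (fun n : ℕ => ((P.eval (n : ℚ) : ℚ) : ℝ) / ((n : ℝ) ^ d / (d.factorial : ℝ))) atTop
      (𝓝 ((alpha d P : ℚ) : ℝ)) := by
  have h1 : ∀ n : ℕ, ((P.eval (n : ℚ) : ℚ) : ℝ) / ((n : ℝ) ^ d / (d.factorial : ℝ)) =
      ∑ i ∈ Finset.range (d + 1), ((d.factorial : ℝ) * ((P.coeff i : ℚ) : ℝ)) * ((n : ℝ) ^ i / (n : ℝ) ^ d) := by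
    intro n
    rw [Polynomial.eval_eq_sum_range' (Nat.lt_succ_of_le hP)]
    push_cast
    rw [Finset.sum_div]
    refine Finset.sum_congr rfl fun i _ => ?_
    rw [div_div_eq_mul_div]
    ring
  have h2 : ∀ i ∈ Finset.range (d + 1), Tendsto (fun n : ℕ => ((d.factorial : ℝ) * ((P.coeff i : ℚ) : ℝ)) *
      ((n : ℝ) ^ i / (n : ℝ) ^ d)) atTop
      (𝓝 (((d.factorial : ℝ) * ((P.coeff i : ℚ) : ℝ)) * (if i = d then 1 else 0))) := by
    intro i hi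
    refine Tendsto.const_mul _ ?_
    by_cases hid : i = d
    · subst hid
      rw [if_pos rfl]
      refine tendsto_const_nhds.congr' ?_
      filter_upwards [eventually_ge_atTop 1] with n hn
      have : (n : ℝ) ^ i ≠ 0 := by positivity
      rw [div_self this]
    · rw [if_neg hid]
      have hlt : i < d := lt_of_le_of_ne (Nat.lt_succ_iff.1 (Finset.mem_range.1 hi)) hid
      exact (tendsto_pow_div_pow_atTop_zero hlt).comp tendsto_natCast_atTop_atTop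
  have h3 := tendsto_finsetSum (Finset.range (d + 1)) h2
  have h4 : (∑ i ∈ Finset.range (d + 1), ((d.factorial : ℝ) * ((P.coeff i : ℚ) : ℝ)) *
      (if i = d then (1 : ℝ) else 0)) = ((alpha d P : ℚ) : ℝ) := by
    rw [Finset.sum_eq_single d]
    · rw [if_pos rfl, mul_one]
      unfold alpha
      push_cast
      rfl
    · intro i _ hid
      rw [if_neg hid, mul_zero]
    · intro h
      exact absurd (Finset.mem_range.2 (Nat.lt_succ_self d)) h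
  rw [h4] at h3
  exact h3.congr (fun n => (h1 n).symm)

theorem tendsto_ratio (e : ℕ) (A B : ℚ[X]) (hA : A.natDegree ≤ e) (hB : B.natDegree ≤ e)
    (hb : alpha e B ≠ 0) :
    Tendsto (fun n : ℕ => (((A.eval (n : ℚ) / B.eval (n : ℚ) : ℚ)) : ℝ)) atTop
      (𝓝 (((alpha e A / alpha e B : ℚ)) : ℝ)) := by
  have hb' : ((alpha e B : ℚ) : ℝ) ≠ 0 := by exact_mod_cast hb
  have h := (tendsto_eval_div e A hA).div (tendsto_eval_div e B hB) hb'
  have h' : (((alpha e A / alpha e B : ℚ)) : ℝ) = ((alpha e A : ℚ) : ℝ) / ((alpha e B : ℚ) : ℝ) := by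
    push_cast; rfl
  rw [h']
  refine h.congr' ?_
  filter_upwards [eventually_ge_atTop 1] with n hn
  have hc : (n : ℝ) ^ e / (e.factorial : ℝ) ≠ 0 := by positivity
  simp only [Pi.div_apply]
  rw [div_div_div_cancel_right₀ hc]
  push_cast
  rfl

/-- the basic limit: `((q - Σ c_j (QH_j(n)/H_j(n)) h_j) P(n) - A Q(n)) / (n^d/d!)` -/
theorem tendsto_main {ι : Type*} [Fintype ι] (d : ℕ) (P Q : ℚ[X]) (hP : P.natDegree ≤ d)
    (hQ : Q.natDegree ≤ d) (Hn QHn : ι → ℚ[X]) (hH : ∀ j, (Hn j).natDegree ≤ d - 1)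
    (hQH : ∀ j, (QHn j).natDegree ≤ d - 1) (hHa : ∀ j, alpha (d - 1) (Hn j) ≠ 0) (c : ι → ℝ) (h : ι → ℝ)
    (q A : ℝ) :
    Tendsto (fun n : ℕ => ((q - ∑ j, c j * ((((QHn j).eval (n : ℚ) / (Hn j).eval (n : ℚ) : ℚ) : ℝ) * h j)) *
        ((P.eval (n : ℚ) : ℚ) : ℝ) - A * ((Q.eval (n : ℚ) : ℚ) : ℝ)) / ((n : ℝ) ^ d / (d.factorial : ℝ))) atTop
      (𝓝 ((q - ∑ j, c j * (((alpha (d - 1) (QHn j) / alpha (d - 1) (Hn j) : ℚ) : ℝ) * h j)) *
        ((alpha d P : ℚ) : ℝ) - A * ((alpha d Q : ℚ) : ℝ))) := by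
  have h1 : Tendsto (fun n : ℕ => q - ∑ j, c j * ((((QHn j).eval (n : ℚ) / (Hn j).eval (n : ℚ) : ℚ) : ℝ) * h j))
      atTop (𝓝 (q - ∑ j, c j * (((alpha (d - 1) (QHn j) / alpha (d - 1) (Hn j) : ℚ) : ℝ) * h j))) := by
    refine tendsto_const_nhds.sub (tendsto_finsetSum _ fun j _ => ?_)
    exact ((tendsto_ratio (d - 1) (QHn j) (Hn j) (hQH j) (hH j) (hHa j)).mul_const (h j)).const_mul (c j)
  have h2 := (h1.mul (tendsto_eval_div d P hP)).sub ((tendsto_eval_div d Q hQ).const_mul A)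
  refine h2.congr (fun n => ?_)
  ring

/-- (i): non-strict comparison passes to the limit -/
theorem le_of_eventually_le {ι : Type*} [Fintype ι] (d : ℕ) (P Q : ℚ[X]) (hP : P.natDegree ≤ d)
    (hQ : Q.natDegree ≤ d) (Hn QHn : ι → ℚ[X]) (hH : ∀ j, (Hn j).natDegree ≤ d - 1)
    (hQH : ∀ j, (QHn j).natDegree ≤ d - 1) (hHa : ∀ j, alpha (d - 1) (Hn j) ≠ 0) (c : ι → ℝ) (h : ι → ℝ)
    (q A : ℝ)
    (hle : ∃ N : ℕ, ∀ n : ℕ, N ≤ n →
      (q - ∑ j, c j * ((((QHn j).eval (n : ℚ) / (Hn j).eval (n : ℚ) : ℚ) : ℝ) * h j)) *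
        ((P.eval (n : ℚ) : ℚ) : ℝ) ≤ A * ((Q.eval (n : ℚ) : ℚ) : ℝ)) :
    (q - ∑ j, c j * (((alpha (d - 1) (QHn j) / alpha (d - 1) (Hn j) : ℚ) : ℝ) * h j)) *
        ((alpha d P : ℚ) : ℝ) ≤ A * ((alpha d Q : ℚ) : ℝ) := by
  obtain ⟨N, hN⟩ := hle
  have ht := tendsto_main d P Q hP hQ Hn QHn hH hQH hHa c h q A
  have h0 : (q - ∑ j, c j * (((alpha (d - 1) (QHn j) / alpha (d - 1) (Hn j) : ℚ) : ℝ) * h j)) *
        ((alpha d P : ℚ) : ℝ) - A * ((alpha d Q : ℚ) : ℝ) ≤ 0 := by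
    refine le_of_tendsto ht ?_
    filter_upwards [eventually_ge_atTop N] with n hn
    have hpos : (0 : ℝ) ≤ (n : ℝ) ^ d / (d.factorial : ℝ) := by positivity
    exact div_nonpos_of_nonpos_of_nonneg (sub_nonpos.2 (hN n hn)) hpos
  linarith

/-- (ii): strict comparison in the limit holds eventually -/
theorem eventually_lt_of_lt {ι : Type*} [Fintype ι] (d : ℕ) (P Q : ℚ[X]) (hP : P.natDegree ≤ d)
    (hQ : Q.natDegree ≤ d) (Hn QHn : ι → ℚ[X]) (hH : ∀ j, (Hn j).natDegree ≤ d - 1)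
    (hQH : ∀ j, (QHn j).natDegree ≤ d - 1) (hHa : ∀ j, alpha (d - 1) (Hn j) ≠ 0) (c : ι → ℝ) (h : ι → ℝ)
    (q A : ℝ)
    (hlt : (q - ∑ j, c j * (((alpha (d - 1) (QHn j) / alpha (d - 1) (Hn j) : ℚ) : ℝ) * h j)) *
        ((alpha d P : ℚ) : ℝ) < A * ((alpha d Q : ℚ) : ℝ)) :
    ∃ N : ℕ, ∀ n : ℕ, N ≤ n →
      (q - ∑ j, c j * ((((QHn j).eval (n : ℚ) / (Hn j).eval (n : ℚ) : ℚ) : ℝ) * h j)) *
        ((P.eval (n : ℚ) : ℚ) : ℝ) < A * ((Q.eval (n : ℚ) : ℚ) : ℝ) := by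
  have ht := tendsto_main d P Q hP hQ Hn QHn hH hQH hHa c h q A
  have h0 : (q - ∑ j, c j * (((alpha (d - 1) (QHn j) / alpha (d - 1) (Hn j) : ℚ) : ℝ) * h j)) *
        ((alpha d P : ℚ) : ℝ) - A * ((alpha d Q : ℚ) : ℝ) < 0 := by linarith
  have hev := (ht.eventually_lt_const h0).and (eventually_ge_atTop 1)
  obtain ⟨N, hN⟩ := eventually_atTop.1 hev
  refine ⟨N, fun n hn => ?_⟩
  obtain ⟨h1, h2⟩ := hN n hn
  have hpos : (0 : ℝ) < (n : ℝ) ^ d / (d.factorial : ℝ) := by positivity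
  by_contra hcon
  push Not at hcon
  have : 0 ≤ ((q - ∑ j, c j * ((((QHn j).eval (n : ℚ) / (Hn j).eval (n : ℚ) : ℚ) : ℝ) * h j)) *
        ((P.eval (n : ℚ) : ℚ) : ℝ) - A * ((Q.eval (n : ℚ) : ℚ) : ℝ)) / ((n : ℝ) ^ d / (d.factorial : ℝ)) :=
    div_nonneg (sub_nonneg.2 hcon) hpos.le
  linarith

/-! ### evaluation of the real polynomials -/

theorem rpoly_eval_natCast (P : ℚ[X]) (m : ℕ) :
    (W4swparbununimod.rpoly P).eval (m : ℝ) = ((P.eval (m : ℚ) : ℚ) : ℝ) := by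
  have h : (m : ℝ) = Rat.castHom ℝ (m : ℚ) := by simp
  rw [h]
  unfold W4swparbununimod.rpoly
  rw [Polynomial.eval_map_apply]
  rfl

open CategoryTheory in
theorem parPolyOne_eval {𝒞 : Type*} [Category 𝒞] {E : 𝒞} (𝓔 : ParSh.Str E) (d : ℕ) (Q : ℚ[X])
    (QH H : Fin (𝓔.l + 2) → ℚ[X]) (m : ℕ) :
    (W4swparbununimod.parPolyOne 𝓔 d Q QH H).eval (m : ℝ) =
      ((Q.eval (m : ℚ) : ℚ) : ℝ) - ∑ j : Fin (𝓔.l + 1), (𝓔.wtX j.succ - 𝓔.wtX j.castSucc) *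
        (((alpha (d - 1) (QH j.succ) / alpha (d - 1) (H j.succ) : ℚ) : ℝ) *
          (((H j.succ).eval (m : ℚ) : ℚ) : ℝ)) := by
  unfold W4swparbununimod.parPolyOne
  rw [eval_sub, eval_finsetSum, rpoly_eval_natCast]
  congr 1
  refine Finset.sum_congr rfl fun j _ => ?_
  rw [eval_mul, eval_C, rpoly_eval_natCast, mul_assoc]

end Groth.Agent.R2.H60.ParLim
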