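import Mathlib
import Groth.Prelude.Def_W4swparbununimodPar
import Groth.Agent.R2.H60StabGeom
import Groth.Agent.R2.H60ParSupp
import Groth.Agent.R2.H60ParHilb

/-!
# Coefficients of parabolic Hilbert polynomials (helper60; rows S18525, S18528, S18530)

For a parabolic structure `𝓔` along an ideal `I` on a coherent `E` over a proper `k`-scheme with
`dim (Supp E ∩ V(I)) < d`:

* `coeff_pieceX`, `coeff_induced_pieceX`: the Hilbert polynomials of the pieces (of `E`, or of the induced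
  structure on a coherent submodule `W`) have the same coefficients as that of `E` (of `W`) in degrees `≥ d`;
* `parPoly_coeff_eq`, `parPoly_coeff_abel`: coefficients of `W4swparbununimod.parPoly`;
* `eventually_pos_of_coeff_pos`: eventual sign of a real polynomial from its top coefficient.
-/

set_option autoImplicit false

universe u

open CategoryTheory CategoryTheory.Limits AlgebraicGeometry Polynomial

namespace Groth.Agent.R2.H60.ParPoly

open Groth.Agent.R2.H60.StabGeom Groth.Agent.R2.H60.ParSupp Groth.Agent.R2.H60.ParHilb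
  Groth.Agent.R2.H62.Snapper Groth.Agent.R2.H5.CohThick

theorem eq_bot_of_lt_zero {x : WithBot ℕ∞} (h : x < ((0 : ℕ) : WithBot ℕ∞)) : x = ⊥ := by
  induction x using WithBot.recBotCoe with
  | bot => rfl
  | coe a =>
    exfalso
    have h' : (a : WithBot ℕ∞) < ((0 : ℕ∞) : WithBot ℕ∞) := by exact_mod_cast h
    rw [WithBot.coe_lt_coe] at h'
    exact not_lt_zero h'

/-! ### real polynomials -/

theorem eventually_pos_of_coeff_pos {D : ℝ[X]} {e : ℕ} (hdeg : D.natDegree ≤ e) (hpos : 0 < D.coeff e) :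
    ∃ M : ℕ, ∀ m : ℕ, M ≤ m → 0 < D.eval (m : ℝ) := by
  have hne : D.coeff e ≠ 0 := hpos.ne'
  have hnat : D.natDegree = e := le_antisymm hdeg (le_natDegree_of_ne_zero hne)
  have hlc : D.leadingCoeff = D.coeff e := by rw [leadingCoeff, hnat]
  by_cases he : e = 0
  · subst he
    have hC : D = C (D.coeff 0) := eq_C_of_natDegree_eq_zero hnat
    refine ⟨0, fun m _ => ?_⟩
    rw [hC, eval_C]
    exact hpos
  · have hdeg' : 0 < D.degree := by
      rw [← natDegree_pos_iff_degree_pos, hnat]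
      omega
    have ht := D.tendsto_atTop_of_leadingCoeff_nonneg hdeg' (hlc ▸ hpos.le)
    have ht' := ht.comp tendsto_natCast_atTop_atTop
    have hev := ht'.eventually_gt_atTop 0
    obtain ⟨M, hM⟩ := Filter.eventually_atTop.1 hev
    exact ⟨M, fun m hm => hM m hm⟩

/-! ### coefficients of `parPoly` -/

section ParPoly

universe v w

variable {𝒞 : Type w} [Category.{v} 𝒞] {W : 𝒞}

theorem parPoly_coeff (𝓕 : ParSh.Str W) (QX : Fin (𝓕.l + 2) → ℚ[X]) (n : ℕ) :
    (W4swparbununimod.parPoly 𝓕 QX).coeff n =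
      (((QX (Fin.last (𝓕.l + 1))).coeff n : ℚ) : ℝ) +
        ∑ j : Fin (𝓕.l + 1), 𝓕.wt j *
          ((((QX j.castSucc).coeff n : ℚ) : ℝ) - (((QX j.succ).coeff n : ℚ) : ℝ)) := by
  unfold W4swparbununimod.parPoly
  simp only [coeff_add, finsetSum_coeff, coeff_C_mul, coeff_sub, coeff_map, eq_ratCast]

theorem parPoly_coeff_eq (𝓕 : ParSh.Str W) (QX : Fin (𝓕.l + 2) → ℚ[X]) (n : ℕ) (c : ℚ)
    (h : ∀ j, (QX j).coeff n = c) : (W4swparbununimod.parPoly 𝓕 QX).coeff n = (c : ℝ) := by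
  rw [parPoly_coeff]
  simp only [h, sub_self, mul_zero, Finset.sum_const_zero, add_zero]

theorem parPoly_coeff_abel (𝓕 : ParSh.Str W) (QX QH : Fin (𝓕.l + 2) → ℚ[X]) (Q : ℚ[X])
    (hQX : ∀ j, QX j = Q - QH j) (n : ℕ) (h0 : (QH 0).coeff n = 0) :
    (W4swparbununimod.parPoly 𝓕 QX).coeff n =
      ((Q.coeff n : ℚ) : ℝ) - ∑ j : Fin (𝓕.l + 1),
        (𝓕.wtX j.succ - 𝓕.wtX j.castSucc) * (((QH j.succ).coeff n : ℚ) : ℝ) := by
  rw [parPoly_coeff]
  have hab := abel_fin 𝓕.l 𝓕.wtX (fun i => (((QH i).coeff n : ℚ) : ℝ)) ((Q.coeff n : ℚ) : ℝ)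
    (by simp [h0]) 𝓕.wtX_last
  rw [← hab]
  simp only [hQX, coeff_sub, Rat.cast_sub, ParSh.Str.wtX_castSucc]

theorem parPoly_eval (𝓕 : ParSh.Str W) (QX : Fin (𝓕.l + 2) → ℚ[X]) (x : ℝ) :
    (W4swparbununimod.parPoly 𝓕 QX).eval x =
      (W4swparbununimod.rpoly (QX (Fin.last (𝓕.l + 1)))).eval x +
        ∑ j : Fin (𝓕.l + 1), 𝓕.wt j *
          ((W4swparbununimod.rpoly (QX j.castSucc)).eval x - (W4swparbununimod.rpoly (QX j.succ)).eval x) := by
  unfold W4swparbununimod.parPoly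
  simp only [eval_add, eval_finsetSum, eval_mul, eval_C, eval_sub]

end ParPoly

/-! ### Hilbert polynomials of the quotients -/

section Geom

variable (k : Type u) [Field k] {X : Scheme.{u}} [X.Over (Spec (CommRingCat.of k))]
  [IsProper (X ↘ Spec (CommRingCat.of k))]

theorem isHilbPoly_zero {L E : X.Modules} (hE : IsZero E) : ShStab.IsHilbPoly k X L E 0 := by
  rw [isHilbPoly_iff]
  intro m
  rw [chiF_of_isZero k 1 (fun _ => L) hE]
  simp

theorem exists_isHilbPoly' {L : X.Modules} (hL : PicF.IsInvertible L) {E : X.Modules} (hE : Coh.IsCoh E) :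
    ∃ P : ℚ[X], ShStab.IsHilbPoly k X L E P := by
  obtain ⟨N, hN⟩ := exists_nat_dim_support_le k E
  obtain ⟨Q, -, hQ⟩ := exists_isHilbPoly k L hL E hE N hN
  exact ⟨Q, hQ⟩

theorem natDegree_le_of_dim_le {L : X.Modules} (hL : PicF.IsInvertible L) {E : X.Modules}
    (hE : Coh.IsCoh E) (d : ℕ) (hd : topologicalKrullDim (CohB1.support E) ≤ (d : WithBot ℕ∞)) {P : ℚ[X]}
    (hP : ShStab.IsHilbPoly k X L E P) : P.natDegree ≤ d := by
  obtain ⟨Q, hQd, hQ⟩ := exists_isHilbPoly k L hL E hE d hd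
  rw [isHilbPoly_unique k hP hQ]
  exact hQd

theorem coeff_eq_zero_of_dim_lt {L : X.Modules} (hL : PicF.IsInvertible L) {E : X.Modules}
    (hE : Coh.IsCoh E) {d : ℕ} (hd : topologicalKrullDim (CohB1.support E) < (d : WithBot ℕ∞)) {P : ℚ[X]}
    (hP : ShStab.IsHilbPoly k X L E P) {n : ℕ} (hn : d ≤ n) : P.coeff n = 0 := by
  cases d with
  | zero =>
    have hb := eq_bot_of_lt_zero hd
    have hz : IsZero E := (Groth.Agent.R2.H60.StabDim.dim_eq_bot_iff E).1 hb
    rw [isHilbPoly_unique k hP (isHilbPoly_zero k hz)]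
    simp
  | succ d' =>
    have hle := withBot_le_of_lt_succ hd
    have hdeg := natDegree_le_of_dim_le k hL hE d' hle hP
    exact coeff_eq_zero_of_natDegree_lt (by omega)

theorem natDegree_le_of_mono {L : X.Modules} (hL : PicF.IsInvertible L) {F E : X.Modules} (ι : F ⟶ E)
    [Mono ι] (hF : Coh.IsCoh F) {d : ℕ}
    (hd : topologicalKrullDim (CohB1.support E) ≤ (d : WithBot ℕ∞)) {P : ℚ[X]}
    (hP : ShStab.IsHilbPoly k X L F P) : P.natDegree ≤ d :=
  natDegree_le_of_dim_le k hL hF d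
    ((topologicalKrullDim_mono (support_subset_of_mono ι)).trans hd) hP

/-- the Hilbert polynomial of the quotient by a coherent subobject -/
theorem isHilbPoly_cokernel {L : X.Modules} (hL : PicF.IsInvertible L) {E : X.Modules} (hE : Coh.IsCoh E)
    (S : Subobject E) (hS : Coh.IsCoh (S : X.Modules)) {P PS : ℚ[X]} (hP : ShStab.IsHilbPoly k X L E P)
    (hPS : ShStab.IsHilbPoly k X L (S : X.Modules) PS) :
    ShStab.IsHilbPoly k X L (cokernel S.arrow) (P - PS) := by
  haveI : IsNoetherian X := isNoetherian_of_isProper k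
  have hC : Coh.IsCoh (cokernel S.arrow) := (cohP X).prop_cokernel S.arrow hS hE
  obtain ⟨Q, hQ⟩ := exists_isHilbPoly' k hL hC
  have hses : (ShortComplex.mk S.arrow (cokernel.π S.arrow) (cokernel.condition _)).ShortExact :=
    ShortComplex.ShortExact.mk' (ShortComplex.exact_cokernel _) inferInstance inferInstance
  have hadd := isHilbPoly_add k hL _ hses hS hE hC hPS hQ
  have e : P = PS + Q := isHilbPoly_unique k hP hadd
  have e' : P - PS = Q := by rw [e]; ring
  rw [e']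
  exact hQ

include k in
theorem isCoh_cokernel {E : X.Modules} (hE : Coh.IsCoh E) (S : Subobject E)
    (hS : Coh.IsCoh (S : X.Modules)) : Coh.IsCoh (cokernel S.arrow) := by
  haveI : IsNoetherian X := isNoetherian_of_isProper k
  exact (cohP X).prop_cokernel S.arrow hS hE

include k in
/-- the pieces of the induced structure on a coherent submodule are coherent -/
theorem isCoh_induced_pieceX {E W : X.Modules} (hE : Coh.IsCoh E) (hW : Coh.IsCoh W) (𝓔 : ParSh.Str E)
    (hcoh : ∀ j, Coh.IsCoh ((𝓔.pieceX j : Subobject E) : X.Modules)) (ι : W ⟶ E) (j : Fin (𝓔.l + 2)) :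
    Coh.IsCoh (((𝓔.induced ι).pieceX j : Subobject W) : X.Modules) := by
  haveI : IsNoetherian X := isNoetherian_of_isProper k
  rw [induced_pieceX]
  have hC := isCoh_cokernel k hE (𝓔.pieceX j) (hcoh j)
  exact (cohP X).prop_of_isLimit_kernelFork (isLimitPullbackKernelFork ι (𝓔.pieceX j)) hW hC

variable {L : X.Modules} (hL : CohB1.IsAmple L) (I : X.IdealSheafData) {E : X.Modules} (hE : Coh.IsCoh E)
  (𝓔 : ParSh.Str E) (h𝓔 : 𝓔.Along I)
  (hcoh : ∀ j, Coh.IsCoh ((𝓔.pieceX j : Subobject E) : X.Modules)) {d : ℕ}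
  (hsupp : topologicalKrullDim ↥(CohB1.support E ∩ (I.support : Set X)) < (d : WithBot ℕ∞))

include hL hE h𝓔 hcoh hsupp in
/-- the Hilbert polynomial of `E / E_j` has no coefficients in degrees `≥ d` -/
theorem coeff_quot_eq_zero {H : ℚ[X]} (j : Fin (𝓔.l + 2))
    (hH : ShStab.IsHilbPoly k X L (cokernel (𝓔.pieceX j).arrow) H) {n : ℕ} (hn : d ≤ n) : H.coeff n = 0 :=
  coeff_eq_zero_of_dim_lt k hL.1 (isCoh_cokernel k hE (𝓔.pieceX j) (hcoh j))
    (dim_lt_of_support_subset (support_cokernel_pieceX I 𝓔 h𝓔 j) hsupp) hH hn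

include hL hE h𝓔 hcoh hsupp in
theorem coeff_pieceX {P : ℚ[X]} (hP : ShStab.IsHilbPoly k X L E P) {PX : Fin (𝓔.l + 2) → ℚ[X]}
    (hPX : ∀ j, ShStab.IsHilbPoly k X L ((𝓔.pieceX j : Subobject E) : X.Modules) (PX j))
    (j : Fin (𝓔.l + 2)) {n : ℕ} (hn : d ≤ n) : (PX j).coeff n = P.coeff n := by
  have hq := isHilbPoly_cokernel k hL.1 hE (𝓔.pieceX j) (hcoh j) hP (hPX j)
  have h0 := coeff_quot_eq_zero k hL I hE 𝓔 h𝓔 hcoh hsupp j hq hn
  rw [coeff_sub] at h0
  exact (sub_eq_zero.1 h0).symm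

include hL hE h𝓔 hcoh hsupp in
/-- the Hilbert polynomial of `W / W_j` has no coefficients in degrees `≥ d` -/
theorem coeff_induced_quot_eq_zero {W : X.Modules} (hW : Coh.IsCoh W) (ι : W ⟶ E) {H : ℚ[X]}
    (j : Fin (𝓔.l + 2))
    (hH : ShStab.IsHilbPoly k X L (cokernel ((𝓔.induced ι).pieceX j).arrow) H) {n : ℕ} (hn : d ≤ n) :
    H.coeff n = 0 :=
  coeff_eq_zero_of_dim_lt k hL.1
    (isCoh_cokernel k hW ((𝓔.induced ι).pieceX j) (isCoh_induced_pieceX k hE hW 𝓔 hcoh ι j))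
    (dim_lt_of_support_subset (support_cokernel_induced_pieceX I 𝓔 h𝓔 ι j) hsupp) hH hn

include hL hE h𝓔 hcoh hsupp in
theorem coeff_induced_pieceX {W : X.Modules} (hW : Coh.IsCoh W) (ι : W ⟶ E) {Q : ℚ[X]}
    (hQ : ShStab.IsHilbPoly k X L W Q) {QX : Fin (𝓔.l + 2) → ℚ[X]}
    (hQX : ∀ j, ShStab.IsHilbPoly k X L (((𝓔.induced ι).pieceX j : Subobject W) : X.Modules) (QX j))
    (j : Fin (𝓔.l + 2)) {n : ℕ} (hn : d ≤ n) : (QX j).coeff n = Q.coeff n := by
  have hq := isHilbPoly_cokernel k hL.1 hW ((𝓔.induced ι).pieceX j)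
    (isCoh_induced_pieceX k hE hW 𝓔 hcoh ι j) hQ (hQX j)
  have h0 := coeff_induced_quot_eq_zero k hL I hE 𝓔 h𝓔 hcoh hsupp hW ι j hq hn
  rw [coeff_sub] at h0
  exact (sub_eq_zero.1 h0).symm

end Geom

end Groth.Agent.R2.H60.ParPoly
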