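import Mathlib
import Groth.Agent.R2.H60ParPoly
import Groth.Agent.R2.H37StabPosSpec
import Groth.Agent.R2.H70StabPoly

/-!
# The coefficient of degree `d - 1` of the parabolic Hilbert polynomial (helper60; row S18527)

`s18527_of (hpos : PosStmt)`: the frozen statement S18527, given the eventual nonnegativity of Hilbert
polynomials of coherent modules (helper37's / helper74's `PosStmt`).
-/

set_option autoImplicit false

universe u

open CategoryTheory CategoryTheory.Limits AlgebraicGeometry Polynomial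

namespace Groth.Agent.R2.H60.ParPos

open Groth.Agent.R2.H60.StabGeom Groth.Agent.R2.H60.ParSupp Groth.Agent.R2.H60.ParHilb
  Groth.Agent.R2.H60.ParPoly Groth.Agent.R2.H62.Snapper Groth.Agent.R2.H5.CohThick
  Groth.Agent.R2.H70.StabPoly Groth.Agent.R2.H37.StabPosSpec

/-- telescoping over `Fin` -/
theorem sum_castSucc_sub_succ (n : ℕ) (f : Fin (n + 2) → ℝ) :
    ∑ j : Fin (n + 1), (f j.castSucc - f j.succ) = f 0 - f (Fin.last (n + 1)) := by
  rw [Finset.sum_sub_distrib]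
  have e1 := Fin.sum_univ_succ f
  have e2 := Fin.sum_univ_castSucc f
  linarith

section Str

universe v w

variable {𝒞 : Type w} [Category.{v} 𝒞] {E : 𝒞} (𝓔 : ParSh.Str E)

theorem pieceX_succ_le (j : Fin (𝓔.l + 1)) : 𝓔.pieceX j.succ ≤ 𝓔.pieceX j.castSucc := by
  induction j using Fin.lastCases with
  | last =>
    rw [ParSh.Str.pieceX_succ_last]
    exact 𝓔.bot_le_pieceX _
  | cast i =>
    rw [ParSh.Str.pieceX_succ_castSucc, ParSh.Str.pieceX_castSucc]
    exact 𝓔.piece_anti (Fin.castSucc_le_succ i)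

theorem wt_nonneg' (j : Fin (𝓔.l + 1)) : 0 ≤ 𝓔.wt j :=
  𝓔.wt_nonneg.trans (𝓔.wt_strictMono.monotone (Fin.zero_le j))

theorem wt_le_one (j : Fin (𝓔.l + 1)) : 𝓔.wt j ≤ 1 :=
  ((𝓔.wt_strictMono.monotone (Fin.le_last j)).trans_lt 𝓔.wt_lt_one).le

theorem pieceX_zero : 𝓔.pieceX 0 = ⊤ := by
  have h := 𝓔.pieceX_castSucc 0
  rw [Fin.castSucc_zero] at h
  rw [h, 𝓔.piece_zero]

end Str

/-- a rational polynomial of degree `≤ e` that is eventually `≥ 0` has a nonnegative coefficient in degree `e` -/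
theorem coeff_nonneg_of_polyLE_zero {P : ℚ[X]} {e : ℕ} (hdeg : P.natDegree ≤ e) (h : StabCat.PolyLE 0 P) :
    0 ≤ P.coeff e := by
  by_contra hneg
  push Not at hneg
  have hpos : 0 < StabCat.alpha e (-P) := by
    unfold StabCat.alpha
    rw [coeff_neg]
    have : (0 : ℚ) < (e.factorial : ℚ) := by positivity
    nlinarith
  have hlt : StabCat.PolyLT 0 (-P) := polyLT_zero_of_alpha_pos (by rwa [natDegree_neg]) hpos
  obtain ⟨N, hN⟩ := h
  obtain ⟨N', hN'⟩ := hlt
  have h1 := hN (max N N') (le_max_left _ _)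
  have h2 := hN' (max N N') (le_max_right _ _)
  rw [eval_neg] at h2
  rw [eval_zero] at h1 h2
  linarith

theorem s18527_of (hpos : PosStmt.{u}) (k : Type u) [Field k] (X : Scheme.{u})
    [X.Over (Spec (CommRingCat.of k))] [IsProper (X ↘ Spec (CommRingCat.of k))]
    (L : X.Modules) (hL : CohB1.IsAmple L) (I : X.IdealSheafData)
    (E : X.Modules) (hE : Coh.IsCoh E) (𝓔 : ParSh.Str E) (h𝓔 : 𝓔.Along I)
    (hcoh : ∀ j, Coh.IsCoh ((𝓔.pieceX j : Subobject E) : X.Modules)) (d : ℕ) (hd : 1 ≤ d)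
    (hsupp : topologicalKrullDim ↥(CohB1.support E ∩ (I.support : Set X)) < (d : WithBot ℕ∞))
    (P : ℚ[X]) (hP : ShStab.IsHilbPoly k X L E P) (PX : Fin (𝓔.l + 2) → ℚ[X])
    (hPX : ∀ j, ShStab.IsHilbPoly k X L ((𝓔.pieceX j : Subobject E) : X.Modules) (PX j)) :
    (W4swparbununimod.rpoly (PX (Fin.last (𝓔.l + 1)))).coeff (d - 1) ≤
        (W4swparbununimod.parPoly 𝓔 PX).coeff (d - 1) ∧
      (W4swparbununimod.parPoly 𝓔 PX).coeff (d - 1) ≤ (W4swparbununimod.rpoly P).coeff (d - 1) := by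
  have : IsNoetherian X := isNoetherian_of_isProper k
  -- `PX 0 = P`
  have hPX0 : PX 0 = P := by
    have h0 := hPX 0
    rw [pieceX_zero] at h0
    exact isHilbPoly_unique k (isHilbPoly_iso k (asIso (⊤ : Subobject E).arrow) h0) hP
  -- the steps have nonnegative coefficient in degree `d - 1`
  have hδ : ∀ j : Fin (𝓔.l + 1), 0 ≤ (PX j.castSucc - PX j.succ).coeff (d - 1) := by
    intro j
    have hle := pieceX_succ_le 𝓔 j
    have hC : Coh.IsCoh (cokernel (Subobject.ofLE _ _ hle)) :=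
      (cohP X).prop_cokernel _ (hcoh j.succ) (hcoh j.castSucc)
    obtain ⟨Q, hQ⟩ := exists_isHilbPoly' k hL.1 hC
    have hses : (ShortComplex.mk (Subobject.ofLE _ _ hle) (cokernel.π (Subobject.ofLE _ _ hle))
        (cokernel.condition _)).ShortExact :=
      ShortComplex.ShortExact.mk' (ShortComplex.exact_cokernel _) inferInstance inferInstance
    have hadd := isHilbPoly_add k hL.1 _ hses (hcoh j.succ) (hcoh j.castSucc) hC (hPX j.succ) hQ
    have e : PX j.castSucc = PX j.succ + Q := isHilbPoly_unique k (hPX j.castSucc) hadd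
    have e' : PX j.castSucc - PX j.succ = Q := by rw [e]; ring
    rw [e']
    have hQpos := (hpos k X L hL _ hC Q hQ).1
    have hdeg : Q.natDegree ≤ d - 1 := by
      rw [natDegree_le_iff_coeff_eq_zero]
      intro N hN
      have hN' : d ≤ N := by omega
      rw [← e', coeff_sub, coeff_pieceX k hL I hE 𝓔 h𝓔 hcoh hsupp hP hPX j.castSucc hN',
        coeff_pieceX k hL I hE 𝓔 h𝓔 hcoh hsupp hP hPX j.succ hN', sub_self]
    exact coeff_nonneg_of_polyLE_zero hdeg hQpos
  have hδ' : ∀ j : Fin (𝓔.l + 1), (0 : ℝ) ≤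
      (((PX j.castSucc).coeff (d - 1) : ℚ) : ℝ) - (((PX j.succ).coeff (d - 1) : ℚ) : ℝ) := by
    intro j
    have := hδ j
    rw [coeff_sub] at this
    have h2 : ((0 : ℚ) : ℝ) ≤ (((PX j.castSucc).coeff (d - 1) - (PX j.succ).coeff (d - 1) : ℚ) : ℝ) :=
      Rat.cast_le.2 this
    rw [Rat.cast_sub, Rat.cast_zero] at h2
    exact h2
  have hr : ∀ R : ℚ[X], (W4swparbununimod.rpoly R).coeff (d - 1) = ((R.coeff (d - 1) : ℚ) : ℝ) := by
    intro R
    simp [coeff_map]
  rw [parPoly_coeff, hr, hr]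
  have htel := sum_castSucc_sub_succ 𝓔.l (fun i => (((PX i).coeff (d - 1) : ℚ) : ℝ))
  beta_reduce at htel
  rw [hPX0] at htel
  constructor
  · have : 0 ≤ ∑ j : Fin (𝓔.l + 1), 𝓔.wt j *
        ((((PX j.castSucc).coeff (d - 1) : ℚ) : ℝ) - (((PX j.succ).coeff (d - 1) : ℚ) : ℝ)) :=
      Finset.sum_nonneg fun j _ => mul_nonneg (wt_nonneg' 𝓔 j) (hδ' j)
    linarith
  · have : ∑ j : Fin (𝓔.l + 1), 𝓔.wt j *
        ((((PX j.castSucc).coeff (d - 1) : ℚ) : ℝ) - (((PX j.succ).coeff (d - 1) : ℚ) : ℝ)) ≤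
        ∑ j : Fin (𝓔.l + 1),
          ((((PX j.castSucc).coeff (d - 1) : ℚ) : ℝ) - (((PX j.succ).coeff (d - 1) : ℚ) : ℝ)) :=
      Finset.sum_le_sum fun j _ => by
        have := mul_le_mul_of_nonneg_right (wt_le_one 𝓔 j) (hδ' j)
        rwa [one_mul] at this
    linarith

end Groth.Agent.R2.H60.ParPos
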