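import Mathlib
import Groth.Agent.R2.H60ParPos
import Groth.Agent.R2.H60ParLim
import Groth.Agent.R2.H60StabSat
import Groth.Agent.R2.H70StabSpec

/-!
# p₀-semistability and semistable flag quotients give p₁-semistability (helper60, S18531)

`s18531_of (hctx : PkgCtx)`: the frozen statement S18531.  For a coherent submodule `W ⊆ E` with saturation `W'`:
`par-P₁(W ⊆ E) ≤ Par_W ≤ Par_{W'}` for large arguments (semistability of the quotients `E / E_j` for the first,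
`HP(W_j) ≤ HP(W'_j)` and `Σ (w_j - w_{j-1}) ≤ 1` for the second), and `Par_{W'}` is controlled by the hypothesis.
-/

set_option autoImplicit false

universe u

open CategoryTheory CategoryTheory.Limits AlgebraicGeometry Polynomial

namespace Groth.Agent.R2.H60.ParSS

open Groth.Agent.R2.H60.StabGeom Groth.Agent.R2.H60.ParSupp Groth.Agent.R2.H60.ParHilb
  Groth.Agent.R2.H60.ParPoly Groth.Agent.R2.H60.ParPos Groth.Agent.R2.H60.ParLim
  Groth.Agent.R2.H62.Snapper Groth.Agent.R2.H5.CohThick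
  Groth.Agent.R2.H70.StabPoly Groth.Agent.R2.H70.StabCtx Groth.Agent.R2.H70.StabSpec

/-! ### real numbers -/

theorem par_one_le_par {n : ℕ} (c r h kk k' : Fin n → ℝ) (q t : ℝ) (hc : ∀ j, 0 ≤ c j)
    (hcs : ∑ j, c j ≤ 1) (ht : 0 ≤ t) (h1 : ∀ j, kk j ≤ r j * h j) (h2 : ∀ j, k' j ≤ kk j + t) :
    q - ∑ j, c j * (r j * h j) ≤ (q + t) - ∑ j, c j * k' j := by
  have e1 : ∑ j, c j * k' j ≤ ∑ j, (c j * (r j * h j) + c j * t) := by
    refine Finset.sum_le_sum fun j _ => ?_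
    have := mul_le_mul_of_nonneg_left ((h2 j).trans (add_le_add_left (h1 j) t)) (hc j)
    linarith
  have e2 : ∑ j, (c j * (r j * h j) + c j * t) = ∑ j, c j * (r j * h j) + (∑ j, c j) * t := by
    rw [Finset.sum_add_distrib, Finset.sum_mul]
  have e3 : (∑ j, c j) * t ≤ t := by
    have := mul_le_mul_of_nonneg_right hcs ht
    linarith
  linarith

/-! ### weights -/

section Str

universe v w

variable {𝒞 : Type w} [Category.{v} 𝒞] {E : 𝒞} (𝓔 : ParSh.Str E)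

theorem wtX_castSucc_le_succ (j : Fin (𝓔.l + 1)) : 𝓔.wtX j.castSucc ≤ 𝓔.wtX j.succ := by
  rw [ParSh.Str.wtX_castSucc]
  induction j using Fin.lastCases with
  | last =>
    rw [Fin.succ_last, ParSh.Str.wtX_last]
    exact 𝓔.wt_lt_one.le
  | cast i =>
    rw [Fin.succ_castSucc, ParSh.Str.wtX_castSucc]
    exact (𝓔.wt_strictMono (Fin.castSucc_lt_succ)).le

theorem sum_wtX_sub_le_one : ∑ j : Fin (𝓔.l + 1), (𝓔.wtX j.succ - 𝓔.wtX j.castSucc) ≤ 1 := by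
  have h := sum_castSucc_sub_succ 𝓔.l 𝓔.wtX
  have h0 : 𝓔.wtX 0 = 𝓔.wt 0 := by
    have := 𝓔.wtX_castSucc 0
    rwa [Fin.castSucc_zero] at this
  rw [ParSh.Str.wtX_last, h0] at h
  have e : ∑ j : Fin (𝓔.l + 1), (𝓔.wtX j.succ - 𝓔.wtX j.castSucc) =
      -∑ j : Fin (𝓔.l + 1), (𝓔.wtX j.castSucc - 𝓔.wtX j.succ) := by
    rw [← Finset.sum_neg_distrib]
    refine Finset.sum_congr rfl fun j _ => ?_
    ring
  rw [e, h]
  have := 𝓔.wt_nonneg
  linarith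

/-- the parabolic polynomial through the polynomials of the quotients (Abel summation), evaluated -/
theorem parPoly_eval_abel (QX : Fin (𝓔.l + 2) → ℚ[X]) (R : ℚ[X]) (h0 : QX 0 = R) (m : ℕ) :
    (W4swparbununimod.parPoly 𝓔 QX).eval (m : ℝ) =
      ((R.eval (m : ℚ) : ℚ) : ℝ) - ∑ j : Fin (𝓔.l + 1), (𝓔.wtX j.succ - 𝓔.wtX j.castSucc) *
        (((R.eval (m : ℚ) - (QX j.succ).eval (m : ℚ) : ℚ)) : ℝ) := by
  rw [parPoly_eval]
  simp only [rpoly_eval_natCast]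
  have hab := abel_fin 𝓔.l 𝓔.wtX
    (fun i => (((R.eval (m : ℚ) - (QX i).eval (m : ℚ) : ℚ)) : ℝ))
    (((R.eval (m : ℚ) : ℚ)) : ℝ) (by rw [h0, sub_self, Rat.cast_zero]) 𝓔.wtX_last
  rw [← hab]
  congr 1
  · push_cast; ring
  · refine Finset.sum_congr rfl fun j _ => ?_
    rw [ParSh.Str.wtX_castSucc]
    push_cast
    ring

end Str

/-! ### subobjects -/

section Abelian

universe v w

variable {C : Type w} [Category.{v} C] [Abelian C]

/-- `W ∩ S ⟶ W' ∩ S` for `W ⊆ W'` -/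
theorem exists_mono_pullback_comp {W W' E : C} (φ : W ⟶ W') [Mono φ] (ι' : W' ⟶ E) (S : Subobject E) :
    ∃ μ : ((Subobject.pullback (φ ≫ ι')).obj S : C) ⟶ ((Subobject.pullback ι').obj S : C),
      Mono μ ∧ μ ≫ ((Subobject.pullback ι').obj S).arrow =
        ((Subobject.pullback (φ ≫ ι')).obj S).arrow ≫ φ := by
  have hpb := Subobject.isPullback ι' S
  have hpb2 := Subobject.isPullback (φ ≫ ι') S
  have hcomm : Subobject.pullbackπ (φ ≫ ι') S ≫ S.arrow =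
      (((Subobject.pullback (φ ≫ ι')).obj S).arrow ≫ φ) ≫ ι' := by
    rw [Category.assoc]; exact hpb2.w
  refine ⟨hpb.lift _ _ hcomm, ?_, hpb.lift_snd _ _ _⟩
  have : Mono (hpb.lift _ _ hcomm ≫ ((Subobject.pullback ι').obj S).arrow) := by
    rw [hpb.lift_snd]; infer_instance
  exact mono_of_mono _ ((Subobject.pullback ι').obj S).arrow

end Abelian

/-! ### the row -/

section Row

variable (k : Type u) [Field k] {X : Scheme.{u}} [X.Over (Spec (CommRingCat.of k))]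
  [IsProper (X ↘ Spec (CommRingCat.of k))]

/-- monotonicity of Hilbert polynomials along monomorphisms, eventually -/
theorem eventually_eval_le_of_mono {L : X.Modules} (Γ : GeomCtx k X L) {A B : X.Modules} (μ : A ⟶ B) [Mono μ]
    (hA : Coh.IsCoh A) (hB : Coh.IsCoh B) {pA pB : ℚ[X]} (hpA : ShStab.IsHilbPoly k X L A pA)
    (hpB : ShStab.IsHilbPoly k X L B pB) :
    ∃ N : ℕ, ∀ m : ℕ, N ≤ m → pA.eval (m : ℚ) ≤ pB.eval (m : ℚ) := by
  have hA' : Γ.H.ok A := Γ.ok_eq ▸ hA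
  have hB' : Γ.H.ok B := Γ.ok_eq ▸ hB
  have hC := Γ.H.ok_cokernel μ hA' hB'
  have hpC := Γ.H.HP_cokernel μ hA' hB' (Γ.HP_eq ▸ hpA) (Γ.HP_eq ▸ hpB)
  obtain ⟨n, hn⟩ := exists_nat_dim_support_le k (cokernel μ)
  have hdim : Γ.H.dim (cokernel μ) ≤ (n : WithBot ℕ∞) := by
    rw [Γ.dim_eq]; exact hn
  obtain ⟨N, hN⟩ := Γ.H.polyLE_zero hC hdim hpC
  refine ⟨N, fun m hm => ?_⟩
  have := hN m hm
  rw [eval_zero, eval_sub] at this
  linarith

theorem s18531_of (hctx : PkgCtx.{u}) (k : Type u) [Field k] (X : Scheme.{u})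
    [X.Over (Spec (CommRingCat.of k))] [IsProper (X ↘ Spec (CommRingCat.of k))]
    (L : X.Modules) (hL : CohB1.IsAmple L) (I : X.IdealSheafData)
    (E : X.Modules) (hE : Coh.IsCoh E) (𝓔 : ParSh.Str E) (h𝓔 : 𝓔.Along I)
    (hcoh : ∀ j, Coh.IsCoh ((𝓔.pieceX j : Subobject E) : X.Modules)) (d : ℕ) (hd : 1 ≤ d)
    (hsupp : topologicalKrullDim ↥(CohB1.support E ∩ (I.support : Set X)) < (d : WithBot ℕ∞))
    (h0 : ¬ IsZero E) (hpure : ShStab.IsPure X E d)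
    (P : ℚ[X]) (hP : ShStab.IsHilbPoly k X L E P) (PX : Fin (𝓔.l + 2) → ℚ[X])
    (H : Fin (𝓔.l + 2) → ℚ[X]) (hH : ∀ j, ShStab.IsHilbPoly k X L (cokernel (𝓔.pieceX j).arrow) (H j))
    (hHa : ∀ j : Fin (𝓔.l + 1), StabCat.alpha (d - 1) (H j.succ) ≠ 0)
    (hss : (∀ (W : X.Modules) (ι : W ⟶ E), Mono ι → Coh.IsCoh W → ¬ IsZero W → ShStab.IsPure X (cokernel ι) d →
        ∀ (Q : ℚ[X]) (QX : Fin (𝓔.l + 2) → ℚ[X]), ShStab.IsHilbPoly k X L W Q →
          (∀ j, ShStab.IsHilbPoly k X L (((𝓔.induced ι).pieceX j : Subobject W) : X.Modules) (QX j)) →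
          ∃ M : ℕ, ∀ m : ℕ, M ≤ m →
            (W4swparbununimod.parPoly (𝓔.induced ι) QX).eval (m : ℝ) * (StabCat.alpha d P : ℝ) ≤
              (W4swparbununimod.parPoly 𝓔 PX).eval (m : ℝ) * (StabCat.alpha d Q : ℝ)))
    (hq : ∀ j : Fin (𝓔.l + 1), ShStab.IsSemistable k X L (cokernel (𝓔.pieceX j.succ).arrow) (d - 1))
    {W : X.Modules} (ι : W ⟶ E) [Mono ι] (hW : Coh.IsCoh W)
    (Q : ℚ[X]) (hQ : ShStab.IsHilbPoly k X L W Q) (QH : Fin (𝓔.l + 2) → ℚ[X])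
    (hQH : ∀ j, ShStab.IsHilbPoly k X L (cokernel ((𝓔.induced ι).pieceX j).arrow) (QH j)) (hW0 : ¬ IsZero W) :
    ∃ M : ℕ, ∀ m : ℕ, M ≤ m →
      (W4swparbununimod.parPolyOne 𝓔 d Q QH H).eval (m : ℝ) * (StabCat.alpha d P : ℝ) ≤
        (W4swparbununimod.parPoly 𝓔 PX).eval (m : ℝ) * (StabCat.alpha d Q : ℝ) := by
  have : IsNoetherian X := isNoetherian_of_isProper k
  obtain ⟨Γ⟩ := hctx k X L hL
  have hdimE : topologicalKrullDim (CohB1.support E) = (d : WithBot ℕ∞) := hpure E (𝟙 E) inferInstance hE h0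
  have hE' : Γ.H.ok E := Γ.ok_eq ▸ hE
  have hW' : Γ.H.ok W := Γ.ok_eq ▸ hW
  have hdE : Γ.H.dim E ≤ (d : WithBot ℕ∞) := by rw [Γ.dim_eq]; exact hdimE.le
  have hαP : (0 : ℝ) ≤ (StabCat.alpha d P : ℝ) := by
    have h1 : Γ.H.dim E = (d : WithBot ℕ∞) := by rw [Γ.dim_eq]; exact hdimE
    have := Γ.H.alpha_pos d hE' h1 (Γ.HP_eq ▸ hP)
    exact_mod_cast this.le
  -- the saturation
  obtain ⟨W₁, ι₁, φ, hι₁, hφ, hW₁', hpure₁, hHP₁⟩ :=
    Groth.Agent.R2.H60.StabSat.exists_saturation Γ.H ι hW' hE' hdE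
  obtain ⟨pT, hQ₁', hαT, hT0⟩ := hHP₁ (Γ.HP_eq ▸ hQ : Γ.H.HP W Q)
  have hW₁ : Coh.IsCoh W₁ := Γ.ok_eq ▸ hW₁'
  have hQ₁ : ShStab.IsHilbPoly k X L W₁ (Q + pT) := by rw [← Γ.HP_eq]; exact hQ₁'
  have hpure₁' : ShStab.IsPure X (cokernel ι₁) d := (Γ.isPure_iff _ d).1 hpure₁
  subst hφ
  have hφm : Mono φ := mono_of_mono φ ι₁
  have hW₁0 : ¬ IsZero W₁ := fun h => hW0 (IsZero.of_mono φ h)
  -- the pieces of `W₁`
  have hcoh₁ := fun j => isCoh_induced_pieceX k hE hW₁ 𝓔 hcoh ι₁ j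
  have hcohW := fun j => isCoh_induced_pieceX k hE hW 𝓔 hcoh (φ ≫ ι₁) j
  choose QX₁ hQX₁ using fun j => exists_isHilbPoly' k hL.1 (hcoh₁ j)
  choose QX hQX using fun j => exists_isHilbPoly' k hL.1 (hcohW j)
  -- the hypothesis for the saturation
  obtain ⟨M₁, hM₁⟩ := hss W₁ ι₁ hι₁ hW₁ hW₁0 hpure₁' (Q + pT) QX₁ hQ₁ hQX₁
  have hαQ : StabCat.alpha d (Q + pT) = StabCat.alpha d Q := by rw [alpha_add, hαT, add_zero]
  -- `QH j = Q - QX j`
  have hQHeq : ∀ j, QH j = Q - QX j := fun j =>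
    isHilbPoly_unique k (hQH j) (isHilbPoly_cokernel k hL.1 hW _ (hcohW j) hQ (hQX j))
  -- `QX₁ 0 = Q + pT`
  have hQX₁0 : QX₁ 0 = Q + pT := by
    have h0' : ShStab.IsHilbPoly k X L
        (((𝓔.induced ι₁).pieceX (0 : Fin ((𝓔.induced ι₁).l + 2)) : Subobject W₁) : X.Modules) (QX₁ 0) := hQX₁ 0
    rw [pieceX_zero] at h0'
    exact isHilbPoly_unique k (isHilbPoly_iso k (asIso (⊤ : Subobject W₁).arrow) h0') hQ₁
  -- (B2) `HP(W_j) ≤ HP(W₁_j)` eventually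
  have hB2 : ∀ j : Fin (𝓔.l + 2), ∃ N : ℕ, ∀ m : ℕ, N ≤ m → (QX j).eval (m : ℚ) ≤ (QX₁ j).eval (m : ℚ) := by
    intro j
    obtain ⟨μ, hμ, -⟩ := exists_mono_pullback_comp φ ι₁ (𝓔.pieceX j)
    have hA := hQX j
    have hB := hQX₁ j
    rw [induced_pieceX] at hA hB
    have hcA := hcohW j
    have hcB := hcoh₁ j
    rw [induced_pieceX] at hcA hcB
    exact eventually_eval_le_of_mono k Γ μ hcA hcB hA hB
  -- (B1) semistability of the quotients
  have hB1 : ∀ j : Fin (𝓔.l + 1), ∃ N : ℕ, ∀ m : ℕ, N ≤ m →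
      (QH j.succ).eval (m : ℚ) ≤
        (StabCat.alpha (d - 1) (QH j.succ) / StabCat.alpha (d - 1) (H j.succ)) * (H j.succ).eval (m : ℚ) := by
    intro j
    obtain ⟨hcC, hC0, hCp, hCss⟩ := hq j
    have hαH : 0 < StabCat.alpha (d - 1) (H j.succ) := by
      have hdimC := hCp _ (𝟙 _) inferInstance hcC hC0
      exact Γ.H.alpha_pos (d - 1) (Γ.ok_eq ▸ hcC) (by rw [Γ.dim_eq]; exact hdimC) (Γ.HP_eq ▸ hH j.succ)
    obtain ⟨μ, hμ, -⟩ := exists_mono_cokernel_pullback (φ ≫ ι₁) (𝓔.pieceX j.succ)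
    have hK := hQH j.succ
    rw [induced_pieceX] at hK
    have hcK : Coh.IsCoh (cokernel ((Subobject.pullback (φ ≫ ι₁)).obj (𝓔.pieceX j.succ)).arrow) := by
      have h1 := hcohW j.succ
      rw [induced_pieceX] at h1
      exact isCoh_cokernel k hW _ h1
    by_cases hz : IsZero (cokernel ((Subobject.pullback (φ ≫ ι₁)).obj (𝓔.pieceX j.succ)).arrow)
    · have e : QH j.succ = 0 := isHilbPoly_unique k hK (isHilbPoly_zero k hz)
      refine ⟨0, fun m _ => ?_⟩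
      rw [e, alpha_zero, zero_div, zero_mul, eval_zero]
    by_cases hiso : IsIso μ
    · have e : QH j.succ = H j.succ := isHilbPoly_unique k (isHilbPoly_iso k (asIso μ) hK) (hH j.succ)
      refine ⟨0, fun m _ => ?_⟩
      rw [e, div_self hαH.ne', one_mul]
    · obtain ⟨N, hN⟩ := hCss _ μ hμ hcK hz hiso (QH j.succ) (H j.succ) hK (hH j.succ)
      refine ⟨N, fun m hm => ?_⟩
      have h1 := hN m hm
      rw [eval_smul, eval_smul, smul_eq_mul, smul_eq_mul] at h1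
      rw [div_mul_eq_mul_div, le_div_iff₀ hαH]
      linarith
  -- collect the bounds
  obtain ⟨N₀, hN₀⟩ := hT0
  choose N₁ hN₁ using hB1
  choose N₂ hN₂ using hB2
  refine ⟨max M₁ (max N₀ (max (Finset.univ.sup N₁) (Finset.univ.sup N₂))), fun m hm => ?_⟩
  have hm₁ : M₁ ≤ m := (le_max_left _ _).trans hm
  have hm₀ : N₀ ≤ m := ((le_max_left _ _).trans (le_max_right _ _)).trans hm
  have hmN₁ : ∀ j, N₁ j ≤ m := fun j =>
    (((Finset.le_sup (Finset.mem_univ j)).trans (le_max_left _ _)).trans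
      ((le_max_right _ _).trans (le_max_right _ _))).trans hm
  have hmN₂ : ∀ j, N₂ j ≤ m := fun j =>
    (((Finset.le_sup (Finset.mem_univ j)).trans (le_max_right _ _)).trans
      ((le_max_right _ _).trans (le_max_right _ _))).trans hm
  -- the three evaluations
  have hone := parPolyOne_eval 𝓔 d Q QH H m
  have hpar₁ := parPoly_eval_abel (𝓔.induced ι₁) QX₁ (Q + pT) hQX₁0 m
  have e1 : ((((Q + pT).eval (m : ℚ) : ℚ)) : ℝ) =
      (((Q.eval (m : ℚ) : ℚ) : ℝ) + ((pT.eval (m : ℚ) : ℚ) : ℝ)) := by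
    rw [eval_add, Rat.cast_add]
  rw [e1] at hpar₁
  have hmain := par_one_le_par (fun j : Fin (𝓔.l + 1) => 𝓔.wtX j.succ - 𝓔.wtX j.castSucc)
    (fun j => ((StabCat.alpha (d - 1) (QH j.succ) / StabCat.alpha (d - 1) (H j.succ) : ℚ) : ℝ))
    (fun j => (((H j.succ).eval (m : ℚ) : ℚ) : ℝ))
    (fun j => (((QH j.succ).eval (m : ℚ) : ℚ) : ℝ))
    (fun j => ((((Q + pT).eval (m : ℚ) - (QX₁ j.succ).eval (m : ℚ) : ℚ)) : ℝ))
    ((Q.eval (m : ℚ) : ℚ) : ℝ) ((pT.eval (m : ℚ) : ℚ) : ℝ)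
    (fun j => sub_nonneg.2 (wtX_castSucc_le_succ 𝓔 j)) (sum_wtX_sub_le_one 𝓔)
    (by
      have := hN₀ m hm₀
      rw [eval_zero] at this
      exact_mod_cast this)
    (fun j => by
      have := hN₁ j m (hmN₁ j)
      have h2 : (((QH j.succ).eval (m : ℚ) : ℚ) : ℝ) ≤
          (((StabCat.alpha (d - 1) (QH j.succ) / StabCat.alpha (d - 1) (H j.succ)) *
            (H j.succ).eval (m : ℚ) : ℚ) : ℝ) := Rat.cast_le.2 this
      rwa [Rat.cast_mul] at h2)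
    (fun j => by
      have := hN₂ j.succ m (hmN₂ j.succ)
      have e : QH j.succ = Q - QX j.succ := hQHeq j.succ
      have h2 : (Q + pT).eval (m : ℚ) - (QX₁ j.succ).eval (m : ℚ) ≤
          (QH j.succ).eval (m : ℚ) + pT.eval (m : ℚ) := by
        rw [e, eval_sub, eval_add]
        linarith
      have h3 : ((((Q + pT).eval (m : ℚ) - (QX₁ j.succ).eval (m : ℚ) : ℚ)) : ℝ) ≤
          (((QH j.succ).eval (m : ℚ) + pT.eval (m : ℚ) : ℚ) : ℝ) := Rat.cast_le.2 h2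
      rwa [Rat.cast_add] at h3)
  beta_reduce at hmain
  have h1 := hM₁ m hm₁
  rw [hαQ] at h1
  have h2 : (W4swparbununimod.parPolyOne 𝓔 d Q QH H).eval (m : ℝ) ≤
      (W4swparbununimod.parPoly (𝓔.induced ι₁) QX₁).eval (m : ℝ) := by
    rw [hone, hpar₁]
    exact hmain
  exact (mul_le_mul_of_nonneg_right h2 hαP).trans h1

end Row

end Groth.Agent.R2.H60.ParSS
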