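import Mathlib
import Groth.Agent.R2.H60ParSS

/-!
# p₀-stability and stable flag quotients give p₁-stability (helper60, S18533)

`s18533_of (hctx : PkgCtx)`: the frozen statement S18533.  For a saturated proper submodule `W ⊆ E`:
`par-P₁(W ⊆ E) ≤ Par_W` for large arguments by (semi)stability of the quotients `E / E_j`, and `Par_W` is controlled
by the hypothesis.
-/

set_option autoImplicit false

universe u

open CategoryTheory CategoryTheory.Limits AlgebraicGeometry Polynomial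

namespace Groth.Agent.R2.H60.ParSt

open Groth.Agent.R2.H60.StabGeom Groth.Agent.R2.H60.ParSupp Groth.Agent.R2.H60.ParHilb
  Groth.Agent.R2.H60.ParPoly Groth.Agent.R2.H60.ParPos Groth.Agent.R2.H60.ParLim Groth.Agent.R2.H60.ParSS
  Groth.Agent.R2.H62.Snapper Groth.Agent.R2.H5.CohThick
  Groth.Agent.R2.H70.StabPoly Groth.Agent.R2.H70.StabCtx Groth.Agent.R2.H70.StabSpec

theorem s18533_of (hctx : PkgCtx.{u}) (k : Type u) [Field k] (X : Scheme.{u})
    [X.Over (Spec (CommRingCat.of k))] [IsProper (X ↘ Spec (CommRingCat.of k))]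
    (L : X.Modules) (hL : CohB1.IsAmple L) (I : X.IdealSheafData)
    (E : X.Modules) (hE : Coh.IsCoh E) (𝓔 : ParSh.Str E) (h𝓔 : 𝓔.Along I)
    (hcoh : ∀ j, Coh.IsCoh ((𝓔.pieceX j : Subobject E) : X.Modules)) (d : ℕ) (hd : 1 ≤ d)
    (hsupp : topologicalKrullDim ↥(CohB1.support E ∩ (I.support : Set X)) < (d : WithBot ℕ∞))
    (h0 : ¬ IsZero E) (hpure : ShStab.IsPure X E d)
    (P : ℚ[X]) (hP : ShStab.IsHilbPoly k X L E P) (PX : Fin (𝓔.l + 2) → ℚ[X])
    (H : Fin (𝓔.l + 2) → ℚ[X]) (hH : ∀ j, ShStab.IsHilbPoly k X L (cokernel (𝓔.pieceX j).arrow) (H j))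
    (hHa : ∀ j : Fin (𝓔.l + 1), StabCat.alpha (d - 1) (H j.succ) ≠ 0)
    (hst : (∀ (W : X.Modules) (ι : W ⟶ E), Mono ι → Coh.IsCoh W → ¬ IsZero W → ¬ IsIso ι →
        ShStab.IsPure X (cokernel ι) d →
        ∀ (Q : ℚ[X]) (QX : Fin (𝓔.l + 2) → ℚ[X]), ShStab.IsHilbPoly k X L W Q →
          (∀ j, ShStab.IsHilbPoly k X L (((𝓔.induced ι).pieceX j : Subobject W) : X.Modules) (QX j)) →
          ∃ M : ℕ, ∀ m : ℕ, M ≤ m →
            (W4swparbununimod.parPoly (𝓔.induced ι) QX).eval (m : ℝ) * (StabCat.alpha d P : ℝ) <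
              (W4swparbununimod.parPoly 𝓔 PX).eval (m : ℝ) * (StabCat.alpha d Q : ℝ)))
    (hq : ∀ j : Fin (𝓔.l + 1), ShStab.IsStable k X L (cokernel (𝓔.pieceX j.succ).arrow) (d - 1))
    {W : X.Modules} (ι : W ⟶ E) [Mono ι] (hW : Coh.IsCoh W)
    (Q : ℚ[X]) (hQ : ShStab.IsHilbPoly k X L W Q) (QH : Fin (𝓔.l + 2) → ℚ[X])
    (hQH : ∀ j, ShStab.IsHilbPoly k X L (cokernel ((𝓔.induced ι).pieceX j).arrow) (QH j)) (hW0 : ¬ IsZero W)
    (hWp : ¬ IsIso ι) (hWsat : ShStab.IsPure X (cokernel ι) d) :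
    ∃ M : ℕ, ∀ m : ℕ, M ≤ m →
      (W4swparbununimod.parPolyOne 𝓔 d Q QH H).eval (m : ℝ) * (StabCat.alpha d P : ℝ) <
        (W4swparbununimod.parPoly 𝓔 PX).eval (m : ℝ) * (StabCat.alpha d Q : ℝ) := by
  have : IsNoetherian X := isNoetherian_of_isProper k
  obtain ⟨Γ⟩ := hctx k X L hL
  have hdimE : topologicalKrullDim (CohB1.support E) = (d : WithBot ℕ∞) := hpure E (𝟙 E) inferInstance hE h0
  have hE' : Γ.H.ok E := Γ.ok_eq ▸ hE
  have hαP : (0 : ℝ) ≤ (StabCat.alpha d P : ℝ) := by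
    have h1 : Γ.H.dim E = (d : WithBot ℕ∞) := by rw [Γ.dim_eq]; exact hdimE
    have := Γ.H.alpha_pos d hE' h1 (Γ.HP_eq ▸ hP)
    exact_mod_cast this.le
  -- the pieces of `W`
  have hcohW := fun j => isCoh_induced_pieceX k hE hW 𝓔 hcoh ι j
  choose QX hQX using fun j => exists_isHilbPoly' k hL.1 (hcohW j)
  obtain ⟨M₁, hM₁⟩ := hst W ι inferInstance hW hW0 hWp hWsat Q QX hQ hQX
  have hQHeq : ∀ j, QH j = Q - QX j := fun j =>
    isHilbPoly_unique k (hQH j) (isHilbPoly_cokernel k hL.1 hW _ (hcohW j) hQ (hQX j))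
  have hQX0 : QX 0 = Q := by
    have h0' : ShStab.IsHilbPoly k X L
        (((𝓔.induced ι).pieceX (0 : Fin ((𝓔.induced ι).l + 2)) : Subobject W) : X.Modules) (QX 0) := hQX 0
    rw [pieceX_zero] at h0'
    exact isHilbPoly_unique k (isHilbPoly_iso k (asIso (⊤ : Subobject W).arrow) h0') hQ
  -- (semi)stability of the quotients
  have hB1 : ∀ j : Fin (𝓔.l + 1), ∃ N : ℕ, ∀ m : ℕ, N ≤ m →
      (QH j.succ).eval (m : ℚ) ≤
        (StabCat.alpha (d - 1) (QH j.succ) / StabCat.alpha (d - 1) (H j.succ)) * (H j.succ).eval (m : ℚ) := by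
    intro j
    obtain ⟨hcC, hC0, hCp, hCst⟩ := hq j
    have hαH : 0 < StabCat.alpha (d - 1) (H j.succ) := by
      have hdimC := hCp _ (𝟙 _) inferInstance hcC hC0
      exact Γ.H.alpha_pos (d - 1) (Γ.ok_eq ▸ hcC) (by rw [Γ.dim_eq]; exact hdimC) (Γ.HP_eq ▸ hH j.succ)
    obtain ⟨μ, hμ, -⟩ := exists_mono_cokernel_pullback ι (𝓔.pieceX j.succ)
    have hK := hQH j.succ
    rw [induced_pieceX] at hK
    have hcK : Coh.IsCoh (cokernel ((Subobject.pullback ι).obj (𝓔.pieceX j.succ)).arrow) := by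
      have h1 := hcohW j.succ
      rw [induced_pieceX] at h1
      exact isCoh_cokernel k hW _ h1
    by_cases hz : IsZero (cokernel ((Subobject.pullback ι).obj (𝓔.pieceX j.succ)).arrow)
    · have e : QH j.succ = 0 := isHilbPoly_unique k hK (isHilbPoly_zero k hz)
      refine ⟨0, fun m _ => ?_⟩
      rw [e, alpha_zero, zero_div, zero_mul, eval_zero]
    by_cases hiso : IsIso μ
    · have e : QH j.succ = H j.succ := isHilbPoly_unique k (isHilbPoly_iso k (asIso μ) hK) (hH j.succ)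
      refine ⟨0, fun m _ => ?_⟩
      rw [e, div_self hαH.ne', one_mul]
    · obtain ⟨N, hN⟩ := hCst _ μ hμ hcK hz hiso (QH j.succ) (H j.succ) hK (hH j.succ)
      refine ⟨N, fun m hm => ?_⟩
      have h1 := (hN m hm).le
      rw [eval_smul, eval_smul, smul_eq_mul, smul_eq_mul] at h1
      rw [div_mul_eq_mul_div, le_div_iff₀ hαH]
      linarith
  choose N₁ hN₁ using hB1
  refine ⟨max M₁ (Finset.univ.sup N₁), fun m hm => ?_⟩
  have hm₁ : M₁ ≤ m := (le_max_left _ _).trans hm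
  have hmN₁ : ∀ j, N₁ j ≤ m := fun j =>
    ((Finset.le_sup (Finset.mem_univ j)).trans (le_max_right _ _)).trans hm
  have hone := parPolyOne_eval 𝓔 d Q QH H m
  have hpar := parPoly_eval_abel (𝓔.induced ι) QX Q hQX0 m
  have hmain := par_one_le_par (fun j : Fin (𝓔.l + 1) => 𝓔.wtX j.succ - 𝓔.wtX j.castSucc)
    (fun j => ((StabCat.alpha (d - 1) (QH j.succ) / StabCat.alpha (d - 1) (H j.succ) : ℚ) : ℝ))
    (fun j => (((H j.succ).eval (m : ℚ) : ℚ) : ℝ))
    (fun j => (((QH j.succ).eval (m : ℚ) : ℚ) : ℝ))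
    (fun j => (((Q.eval (m : ℚ) - (QX j.succ).eval (m : ℚ) : ℚ)) : ℝ))
    ((Q.eval (m : ℚ) : ℚ) : ℝ) 0
    (fun j => sub_nonneg.2 (wtX_castSucc_le_succ 𝓔 j)) (sum_wtX_sub_le_one 𝓔) le_rfl
    (fun j => by
      have := hN₁ j m (hmN₁ j)
      have h2 : (((QH j.succ).eval (m : ℚ) : ℚ) : ℝ) ≤
          (((StabCat.alpha (d - 1) (QH j.succ) / StabCat.alpha (d - 1) (H j.succ)) *
            (H j.succ).eval (m : ℚ) : ℚ) : ℝ) := Rat.cast_le.2 this
      rwa [Rat.cast_mul] at h2)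
    (fun j => by
      have e : QH j.succ = Q - QX j.succ := hQHeq j.succ
      rw [e, eval_sub, add_zero])
  beta_reduce at hmain
  rw [add_zero] at hmain
  have h1 := hM₁ m hm₁
  have h2 : (W4swparbununimod.parPolyOne 𝓔 d Q QH H).eval (m : ℝ) ≤
      (W4swparbununimod.parPoly (𝓔.induced ι) QX).eval (m : ℝ) := by
    rw [hone, hpar]
    exact hmain
  exact (mul_le_mul_of_nonneg_right h2 hαP).trans_lt h1

end Groth.Agent.R2.H60.ParSt
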