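import Mathlib
import Groth.Prelude.Def_W4c1hilbpnTgt
import Groth.Agent.Lib.Helper24TgtPiece2

/-!
Graded pieces of the tangent space `T(m^r)` for the irrelevant ideal `m` of a polynomial ring in
`n ≥ 2` variables: number of bounded components of the region.
-/

set_option autoImplicit false

namespace Groth.Agent.R2.H60.PowVars

open W4c1hilbpn MvPolynomial
open Groth.Agent.Lib.Helper24TgtPiece

variable {k : Type*} [Field k] {n : ℕ}

/-- the `r`-th power of the irrelevant ideal -/
noncomputable abbrev mI (k : Type*) [Field k] (n r : ℕ) : Ideal (MvPolynomial (Fin n) k) :=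
  (Ideal.span (Set.range (X : Fin n → MvPolynomial (Fin n) k))) ^ r

lemma mem_exps_iff (r : ℕ) (β : Fin n →₀ ℕ) : β ∈ exps (mI k n r) ↔ r ≤ β.degree := by
  show monomial β (1:k) ∈ mI k n r ↔ _
  rw [mI, mem_pow_idealOfVars_iff]
  constructor
  · intro h
    apply h β
    rw [MvPolynomial.mem_support_iff, coeff_monomial, if_pos rfl]
    exact one_ne_zero
  · intro h x hx
    have := support_monomial_subset hx
    rw [Finset.mem_singleton] at this
    rw [this]
    exact h

lemma isMonomial (r : ℕ) : IsMonomial (mI k n r) := by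
  intro p hp β hβ
  rw [mI, mem_pow_idealOfVars_iff] at hp
  exact (mem_exps_iff r β).mpr (hp β hβ)

theorem finite_quot (r : ℕ) :
    Module.Finite k (MvPolynomial (Fin n) k ⧸ mI k n r) := by
  classical
  have hfin := Finsupp.finite_of_degree_le (σ := Fin n) r
  rw [Module.finite_def]
  have hspan : Submodule.span k
      ((fun d : Fin n →₀ ℕ => (Ideal.Quotient.mk (mI k n r)) (monomial d (1 : k))) ''
        {f : Fin n →₀ ℕ | Finsupp.degree f ≤ r}) = ⊤ := by
    rw [eq_top_iff]
    rintro x -
    obtain ⟨p, rfl⟩ := Ideal.Quotient.mk_surjective x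
    induction p using MvPolynomial.induction_on' with
    | monomial d a =>
      have h1 : monomial d a = a • monomial d (1 : k) := by
        rw [smul_monomial, smul_eq_mul, mul_one]
      have h2 : (Ideal.Quotient.mk (mI k n r))
          (a • monomial d (1 : k)) = a • (Ideal.Quotient.mk (mI k n r)) (monomial d (1 : k)) := rfl
      rw [h1, h2]
      by_cases hd : Finsupp.degree d ≤ r
      · exact Submodule.smul_mem _ _ (Submodule.subset_span ⟨d, hd, rfl⟩)
      · have h3 : monomial d (1 : k) ∈ mI k n r :=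
          (mem_exps_iff r d).mpr (le_of_lt (not_le.mp hd))
        rw [Ideal.Quotient.eq_zero_iff_mem.mpr h3, smul_zero]
        exact Submodule.zero_mem _
    | add p q hp hq =>
      rw [map_add]
      exact Submodule.add_mem _ hp hq
  rw [← hspan]
  exact Submodule.fg_span (hfin.image _)

/-- degree of the shifted exponent -/
lemma degree_shift {β : Fin n →₀ ℕ} {α : Fin n → ℤ} (h : ∀ i, 0 ≤ (β i : ℤ) + α i) :
    ((shift β α).degree : ℤ) = (β.degree : ℤ) + ∑ i, α i := by
  rw [Finsupp.degree_eq_sum, Finsupp.degree_eq_sum]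
  push_cast
  rw [← Finset.sum_add_distrib]
  apply Finset.sum_congr rfl
  intro i _
  rw [shift_apply]
  exact Int.toNat_of_nonneg (h i)

/-- region membership for powers of the irrelevant ideal -/
lemma mem_region_iff (r : ℕ) (α : Fin n → ℤ) {β : Fin n →₀ ℕ} (hβ : r ≤ β.degree) :
    pt α β ∈ region (mI k n r) α ↔
      ¬ ((∀ i, 0 ≤ (β i : ℤ) + α i) ∧ (r : ℤ) ≤ (β.degree : ℤ) + ∑ i, α i) := by
  rw [mem_region_pt ((mem_exps_iff r β).mpr hβ)]
  apply not_congr
  constructor
  · rintro ⟨h1, h2⟩
    refine ⟨h1, ?_⟩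
    rw [← degree_shift h1]
    exact_mod_cast (mem_exps_iff r _).mp h2
  · rintro ⟨h1, h2⟩
    refine ⟨h1, (mem_exps_iff r _).mpr ?_⟩
    rw [← degree_shift h1] at h2
    exact_mod_cast h2

lemma exists_of_mem_region (r : ℕ) (α : Fin n → ℤ) {γ : Fin n → ℤ}
    (hγ : γ ∈ region (mI k n r) α) : ∃ β : Fin n →₀ ℕ, r ≤ β.degree ∧ γ = pt α β := by
  obtain ⟨⟨β, hβ, rfl⟩, -⟩ := hγ
  exact ⟨β, (mem_exps_iff r β).mp hβ, rfl⟩

/-- if every component is infinite, there are no bounded components -/
lemma nBddComp_eq_zero {I : Ideal (MvPolynomial (Fin n) k)} {α : Fin n → ℤ}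
    (h : ∀ v : ↥(region I α), ((RG I α).connectedComponentMk v).supp.Infinite) :
    nBddComp I α = 0 := by
  have : IsEmpty {c : ((stepGraph (Fin n)).induce (region I α)).ConnectedComponent //
      c.supp.Finite} := by
    constructor
    rintro ⟨c, hc⟩
    induction c using SimpleGraph.ConnectedComponent.ind with
    | h v => exact h v hc
  exact Nat.card_of_isEmpty

/-- `s ≥ 0`: no bounded components -/
lemma nBddComp_of_nonneg (hn : 2 ≤ n) (r : ℕ) (α : Fin n → ℤ) (hs : 0 ≤ ∑ i, α i) :
    nBddComp (mI k n r) α = 0 := by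
  have : Nontrivial (Fin n) := Fin.nontrivial_iff_two_le.mpr hn
  apply nBddComp_eq_zero
  intro v
  apply infinite_supp_of_neg
  obtain ⟨β, hβ, hv⟩ := exists_of_mem_region r α v.2
  by_contra hcon
  push Not at hcon
  have hreg := v.2
  rw [hv, mem_region_iff r α hβ] at hreg
  apply hreg
  refine ⟨fun i => ?_, ?_⟩
  · have := hcon i
    rw [hv] at this
    exact this
  · have : (r : ℤ) ≤ (β.degree : ℤ) := by exact_mod_cast hβ
    omega

/-- one step down in direction `i` -/
lemma step_down (r : ℕ) (α : Fin n → ℤ) (i : Fin n) {β : Fin n →₀ ℕ}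
    (hβ : r + 1 ≤ β.degree) (hreg : pt α β ∈ region (mI k n r) α)
    (hnn : ∀ l, 0 ≤ (β l : ℤ) + α l) (hi : 1 ≤ β i) :
    ∃ hreg' : pt α (β - Finsupp.single i 1) ∈ region (mI k n r) α,
      (RG (mI k n r) α).Reachable ⟨pt α β, hreg⟩ ⟨pt α (β - Finsupp.single i 1), hreg'⟩ := by
  have hle : Finsupp.single i 1 ≤ β := Finsupp.single_le_iff.mpr hi
  have hadd : β - Finsupp.single i 1 + Finsupp.single i 1 = β := tsub_add_cancel_of_le hle
  have hdeg : (β - Finsupp.single i 1).degree + 1 = β.degree := by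
    conv_rhs => rw [← hadd]
    rw [map_add, Finsupp.degree_single]
  have hβ' : r ≤ (β - Finsupp.single i 1).degree := by omega
  rw [mem_region_iff r α (le_trans (Nat.le_succ r) hβ)] at hreg
  have hreg' : pt α (β - Finsupp.single i 1) ∈ region (mI k n r) α := by
    rw [mem_region_iff r α hβ']
    rintro ⟨-, h2⟩
    apply hreg
    refine ⟨hnn, ?_⟩
    have : ((β - Finsupp.single i 1).degree : ℤ) + 1 = β.degree := by exact_mod_cast hdeg
    omega
  refine ⟨hreg', ?_⟩
  apply SimpleGraph.Adj.reachable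
  rw [SimpleGraph.induce_adj]
  apply SimpleGraph.Adj.symm
  have := adj_step α (β - Finsupp.single i 1) i
  rw [hadd] at this
  exact this

/-- `s ≤ -2`: no bounded components -/
lemma nBddComp_of_le_neg_two (hn : 2 ≤ n) (r : ℕ) (α : Fin n → ℤ) (hs : ∑ i, α i ≤ -2) :
    nBddComp (mI k n r) α = 0 := by
  classical
  have : Nontrivial (Fin n) := Fin.nontrivial_iff_two_le.mpr hn
  obtain ⟨i, hi⟩ : ∃ i, α i < 0 := by
    by_contra hcon
    push Not at hcon
    have := Finset.sum_nonneg (fun i (_ : i ∈ Finset.univ) => hcon i)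
    omega
  obtain ⟨j, hj⟩ := exists_ne i
  -- points of high degree
  have hQ0 : ∀ β : Fin n →₀ ℕ, r + 1 ≤ β.degree →
      ∀ hreg : pt α β ∈ region (mI k n r) α, (∀ l, 0 ≤ (β l : ℤ) + α l) → (β i : ℤ) + α i = 0 →
      ((RG (mI k n r) α).connectedComponentMk ⟨pt α β, hreg⟩).supp.Infinite := by
    intro β hβ hreg hnn hm
    obtain ⟨hreg', hreach⟩ := step_down r α i hβ hreg hnn (by omega)
    rw [SimpleGraph.ConnectedComponent.eq.mpr hreach]
    apply infinite_supp_of_neg
    refine ⟨i, ?_⟩
    show (((β - Finsupp.single i 1 : Fin n →₀ ℕ) i : ℕ) : ℤ) + α i < 0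
    rw [Finsupp.tsub_apply, Finsupp.single_eq_same]
    omega
  have hQP : ∀ m : ℕ, (∀ β : Fin n →₀ ℕ, r + 1 ≤ β.degree →
      ∀ hreg : pt α β ∈ region (mI k n r) α, (∀ l, 0 ≤ (β l : ℤ) + α l) →
      (β i : ℤ) + α i = m →
      ((RG (mI k n r) α).connectedComponentMk ⟨pt α β, hreg⟩).supp.Infinite) →
      (∀ β : Fin n →₀ ℕ, r ≤ β.degree →
      ∀ hreg : pt α β ∈ region (mI k n r) α, (∀ l, 0 ≤ (β l : ℤ) + α l) →
      (β i : ℤ) + α i = m →
      ((RG (mI k n r) α).connectedComponentMk ⟨pt α β, hreg⟩).supp.Infinite) := by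
    intro m hQ β hβ hreg hnn hm
    by_cases hβ1 : r + 1 ≤ β.degree
    · exact hQ β hβ1 hreg hnn hm
    · have hdeg : β.degree = r := by omega
      have hdeg1 : (β + Finsupp.single j 1).degree = r + 1 := by
        rw [map_add, Finsupp.degree_single, hdeg]
      have hnn1 : ∀ l, 0 ≤ (((β + Finsupp.single j 1 : Fin n →₀ ℕ) l : ℕ) : ℤ) + α l := by
        intro l
        have := hnn l
        simp only [Finsupp.add_apply, Nat.cast_add]
        omega
      have hreg1 : pt α (β + Finsupp.single j 1) ∈ region (mI k n r) α := by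
        rw [mem_region_iff r α (by omega)]
        rintro ⟨-, h2⟩
        rw [hdeg1] at h2
        push_cast at h2
        omega
      have hreach : (RG (mI k n r) α).Reachable ⟨pt α β, hreg⟩
          ⟨pt α (β + Finsupp.single j 1), hreg1⟩ := by
        apply SimpleGraph.Adj.reachable
        rw [SimpleGraph.induce_adj]
        exact adj_step α β j
      rw [SimpleGraph.ConnectedComponent.eq.mpr hreach]
      apply hQ _ (by omega) hreg1 hnn1
      simp only [Finsupp.add_apply, Finsupp.single_apply, if_neg hj, add_zero]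
      exact hm
  have hP : ∀ m : ℕ, ∀ β : Fin n →₀ ℕ, r ≤ β.degree →
      ∀ hreg : pt α β ∈ region (mI k n r) α, (∀ l, 0 ≤ (β l : ℤ) + α l) →
      (β i : ℤ) + α i = m →
      ((RG (mI k n r) α).connectedComponentMk ⟨pt α β, hreg⟩).supp.Infinite := by
    intro m
    induction m with
    | zero =>
      apply hQP 0
      intro β hβ hreg hnn hm
      exact hQ0 β hβ hreg hnn (by simpa using hm)
    | succ m ih =>
      apply hQP (m + 1)
      intro β hβ hreg hnn hm
      obtain ⟨hreg', hreach⟩ := step_down r α i hβ hreg hnn (by push_cast at hm; omega)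
      rw [SimpleGraph.ConnectedComponent.eq.mpr hreach]
      have hle : (Finsupp.single i 1 : Fin n →₀ ℕ) ≤ β :=
        Finsupp.single_le_iff.mpr (by push_cast at hm; omega)
      have hadd : β - Finsupp.single i 1 + Finsupp.single i 1 = β := tsub_add_cancel_of_le hle
      have hdeg : (β - Finsupp.single i 1).degree + 1 = β.degree := by
        conv_rhs => rw [← hadd]
        rw [map_add, Finsupp.degree_single]
      apply ih _ (by omega) hreg'
      · intro l
        have := hnn l
        rw [Finsupp.tsub_apply]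
        by_cases hl : l = i
        · subst hl
          rw [Finsupp.single_eq_same]
          push_cast at hm
          omega
        · rw [Finsupp.single_eq_of_ne hl, Nat.sub_zero]
          exact this
      · rw [Finsupp.tsub_apply, Finsupp.single_eq_same]
        push_cast at hm
        omega
  apply nBddComp_eq_zero
  intro v
  obtain ⟨β, hβ, hv⟩ := exists_of_mem_region r α v.2
  by_cases hneg : ∃ l, v.1 l < 0
  · exact infinite_supp_of_neg v hneg
  · push Not at hneg
    have hnn : ∀ l, 0 ≤ (β l : ℤ) + α l := by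
      intro l
      have := hneg l
      rw [hv] at this
      exact this
    have hv' : v = ⟨pt α β, hv ▸ v.2⟩ := Subtype.ext hv
    rw [hv']
    exact hP ((β i : ℤ) + α i).toNat β hβ _ hnn (Int.toNat_of_nonneg (hnn i)).symm

/-- the negative part of `α` as an exponent vector -/
noncomputable def negPart (α : Fin n → ℤ) : Fin n →₀ ℕ :=
  Finsupp.equivFunOnFinite.symm fun i => (-α i).toNat

lemma negPart_apply (α : Fin n → ℤ) (i : Fin n) : negPart α i = (-α i).toNat := rfl

lemma degree_negPart (α : Fin n → ℤ) : (negPart α).degree = ∑ i, (-α i).toNat := by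
  rw [Finsupp.degree_eq_sum]
  rfl

section minusOne

variable (r : ℕ) (α : Fin n → ℤ) (hs : ∑ i, α i = -1)
include hs

/-- nonnegative region points have `β` of degree exactly `r` -/
lemma degree_eq_of_nonneg {β : Fin n →₀ ℕ} (hβ : r ≤ β.degree)
    (hreg : pt α β ∈ region (mI k n r) α) (hnn : ∀ l, 0 ≤ (β l : ℤ) + α l) :
    β.degree = r := by
  rw [mem_region_iff r α hβ] at hreg
  by_contra hne
  apply hreg
  refine ⟨hnn, ?_⟩
  have : (r : ℤ) + 1 ≤ (β.degree : ℤ) := by exact_mod_cast (by omega : r + 1 ≤ β.degree)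
  omega

/-- nonnegative region points are isolated -/
lemma isolated {β : Fin n →₀ ℕ} (hβ : r ≤ β.degree)
    (hreg : pt α β ∈ region (mI k n r) α) (hnn : ∀ l, 0 ≤ (β l : ℤ) + α l)
    (u : ↥(region (mI k n r) α)) : ¬ (RG (mI k n r) α).Adj ⟨pt α β, hreg⟩ u := by
  intro hadj
  rw [SimpleGraph.induce_adj] at hadj
  obtain ⟨β', hβ', hu⟩ := exists_of_mem_region r α u.2
  have hdeg := degree_eq_of_nonneg r α hs hβ hreg hnn
  have hadj' : (stepGraph (Fin n)).Adj (pt α β) (pt α β') := by
    rw [← hu]; exact hadj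
  obtain ⟨l, h | h⟩ := adj_pt_cases α hadj'
  · have hreg' := u.2
    rw [hu, mem_region_iff r α hβ'] at hreg'
    apply hreg'
    have hd' : β'.degree = r + 1 := by
      rw [h, map_add, Finsupp.degree_single, hdeg]
    refine ⟨fun l' => ?_, ?_⟩
    · have := hnn l'
      rw [h]
      simp only [Finsupp.add_apply, Nat.cast_add]
      omega
    · rw [hd']
      push_cast
      omega
  · have : β.degree = β'.degree + 1 := by
      rw [h, map_add, Finsupp.degree_single]
    omega

lemma eq_of_reachable {β : Fin n →₀ ℕ} (hβ : r ≤ β.degree)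
    (hreg : pt α β ∈ region (mI k n r) α) (hnn : ∀ l, 0 ≤ (β l : ℤ) + α l)
    (u : ↥(region (mI k n r) α))
    (h : (RG (mI k n r) α).Reachable ⟨pt α β, hreg⟩ u) : u = ⟨pt α β, hreg⟩ := by
  obtain ⟨p⟩ := h
  cases p with
  | nil => rfl
  | cons hadj _ => exact absurd hadj (isolated r α hs hβ hreg hnn _)

end minusOne

/-- the nonnegative points of the region -/
abbrev NN (r : ℕ) (α : Fin n → ℤ) : Type _ :=
  {v : ↥(region (mI k n r) α) // ∀ i, 0 ≤ v.1 i}

/-- solutions of the counting problem -/
abbrev Sol (r : ℕ) (α : Fin n → ℤ) : Type _ :=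
  {δ : Fin n →₀ ℕ // δ.degree + ∑ i, (-α i).toNat = r}

lemma eq_of_reachable' (r : ℕ) (α : Fin n → ℤ) (hs : ∑ i, α i = -1)
    (v : NN (k := k) r α) (u : ↥(region (mI k n r) α))
    (h : (RG (mI k n r) α).Reachable v.1 u) : u = v.1 := by
  obtain ⟨β, hβ, hv⟩ := exists_of_mem_region r α v.1.2
  have hnn : ∀ l, 0 ≤ (β l : ℤ) + α l := by
    intro l
    have := v.2 l
    rw [hv] at this
    exact this
  have hv' : v.1 = ⟨pt α β, hv ▸ v.1.2⟩ := Subtype.ext hv
  rw [hv'] at h ⊢
  exact eq_of_reachable r α hs hβ _ hnn u h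

/-- bounded components correspond to nonnegative points -/
lemma card_BC_eq (hn : 2 ≤ n) (r : ℕ) (α : Fin n → ℤ) (hs : ∑ i, α i = -1) :
    nBddComp (mI k n r) α = Nat.card (NN (k := k) r α) := by
  have : Nontrivial (Fin n) := Fin.nontrivial_iff_two_le.mpr hn
  symm
  apply Nat.card_congr
  refine Equiv.ofBijective (fun v => ⟨(RG (mI k n r) α).connectedComponentMk v.1, ?_⟩) ⟨?_, ?_⟩
  · apply Set.Finite.subset (Set.finite_singleton v.1)
    intro u hu
    rw [SimpleGraph.ConnectedComponent.mem_supp_iff, SimpleGraph.ConnectedComponent.eq] at hu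
    exact eq_of_reachable' r α hs v u hu.symm
  · intro v v' h
    have h1 : (RG (mI k n r) α).connectedComponentMk v.1 =
        (RG (mI k n r) α).connectedComponentMk v'.1 := congrArg Subtype.val h
    rw [SimpleGraph.ConnectedComponent.eq] at h1
    exact Subtype.ext (eq_of_reachable' r α hs v v'.1 h1).symm
  · rintro ⟨C, hC⟩
    induction C using SimpleGraph.ConnectedComponent.ind with
    | h v =>
      have hnn : ∀ i, 0 ≤ v.1 i := by
        by_contra hcon
        push Not at hcon
        exact infinite_supp_of_neg v hcon hC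
      exact ⟨⟨v, hnn⟩, rfl⟩

/-- nonnegative points correspond to solutions -/
lemma card_NN_eq (r : ℕ) (α : Fin n → ℤ) (hs : ∑ i, α i = -1) :
    Nat.card (NN (k := k) r α) = Nat.card (Sol r α) := by
  symm
  apply Nat.card_congr
  have hpt : ∀ δ : Fin n →₀ ℕ, ∀ l, 0 ≤ (((δ + negPart α : Fin n →₀ ℕ) l : ℕ) : ℤ) + α l := by
    intro δ l
    simp only [Finsupp.add_apply, negPart_apply, Nat.cast_add]
    omega
  have hmem : ∀ δ : Sol r α, pt α (δ.1 + negPart α) ∈ region (mI k n r) α := by
    intro δ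
    have hd : (δ.1 + negPart α).degree = r := by
      rw [map_add, degree_negPart]; exact δ.2
    rw [mem_region_iff r α (le_of_eq hd.symm)]
    rintro ⟨-, h2⟩
    rw [hd, hs] at h2
    omega
  refine Equiv.ofBijective (fun δ => ⟨⟨pt α (δ.1 + negPart α), hmem δ⟩, hpt δ.1⟩) ⟨?_, ?_⟩
  · intro δ δ' h
    have h1 : pt α (δ.1 + negPart α) = pt α (δ'.1 + negPart α) :=
      congrArg (fun v : NN (k := k) r α => v.1.1) h
    have h2 := congrArg (bOf α) h1
    rw [bOf_pt, bOf_pt] at h2
    exact Subtype.ext (add_right_cancel h2)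
  · rintro ⟨v, hv⟩
    obtain ⟨β, hβ, hvβ⟩ := exists_of_mem_region r α v.2
    have hnn : ∀ l, 0 ≤ (β l : ℤ) + α l := by
      intro l
      have := hv l
      rw [hvβ] at this
      exact this
    have hdeg : β.degree = r :=
      degree_eq_of_nonneg r α hs hβ (hvβ ▸ v.2) hnn
    have hle : negPart α ≤ β := by
      intro l
      have := hnn l
      rw [negPart_apply]
      omega
    have hadd : β - negPart α + negPart α = β := tsub_add_cancel_of_le hle
    refine ⟨⟨β - negPart α, ?_⟩, ?_⟩
    · rw [← degree_negPart, ← map_add, hadd, hdeg]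
    · apply Subtype.ext
      apply Subtype.ext
      show pt α (β - negPart α + negPart α) = v.1
      rw [hadd, hvβ]

/-- the number of solutions -/
lemma card_Sol' (hn : 2 ≤ n) (r w : ℕ) :
    Nat.card {δ : Fin n →₀ ℕ // δ.degree + w = r} = if w ≤ r
      then Nat.choose (n + r - w - 1) (n - 1) else 0 := by
  classical
  split_ifs with h
  · have e : {δ : Fin n →₀ ℕ // δ.degree + w = r} ≃
        ↥((Finset.univ : Finset (Fin n)).finsuppAntidiag (r - w)) := by
      refine Equiv.subtypeEquivRight (fun δ => ?_)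
      show δ.degree + w = r ↔ δ ∈ (Finset.univ : Finset (Fin n)).finsuppAntidiag (r - w)
      rw [Finset.mem_finsuppAntidiag, Finsupp.degree_eq_sum]
      show (∑ i, δ i) + w = r ↔ (∑ i, δ i) = r - w ∧ _
      constructor
      · intro h1
        exact ⟨by omega, Finset.subset_univ _⟩
      · rintro ⟨h1, -⟩
        omega
    rw [Nat.card_congr e, Nat.card_eq_fintype_card, Fintype.card_coe,
      Finset.card_finsuppAntidiag_nat_eq_choose, Finset.card_univ, Fintype.card_fin]
    have e1 : n + (r - w) - 1 = n + r - w - 1 := by omega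
    rw [e1]
    apply Nat.choose_symm_of_eq_add
    omega
  · have : IsEmpty {δ : Fin n →₀ ℕ // δ.degree + w = r} := by
      constructor
      rintro ⟨δ, hδ⟩
      omega
    exact Nat.card_of_isEmpty

lemma card_Sol (hn : 2 ≤ n) (r : ℕ) (α : Fin n → ℤ) :
    Nat.card (Sol r α) = if ∑ i, (-α i).toNat ≤ r
      then Nat.choose (n + r - (∑ i, (-α i).toNat) - 1) (n - 1) else 0 :=
  card_Sol' hn r _

/-- **Number of bounded components for `m^r`.** -/
theorem nBddComp_pow_vars (hn : 2 ≤ n) (r : ℕ) (α : Fin n → ℤ) :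
    nBddComp (mI k n r) α =
      if (∑ i, α i = -1 ∧ ∑ i, (-α i).toNat ≤ r)
        then Nat.choose (n + r - (∑ i, (-α i).toNat) - 1) (n - 1) else 0 := by
  by_cases hs : ∑ i, α i = -1
  · rw [card_BC_eq hn r α hs, card_NN_eq r α hs, card_Sol hn r α]
    simp only [hs, true_and]
  · rw [if_neg (fun h => hs h.1)]
    rcases lt_or_ge (∑ i, α i) 0 with h | h
    · exact nBddComp_of_le_neg_two hn r α (by omega)
    · exact nBddComp_of_nonneg hn r α h

end Groth.Agent.R2.H60.PowVars
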