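import Mathlib
import Groth.Agent.Lib.Helper4RatMapExt
import Groth.Agent.Lib.Helper6SmNorm

/-!
# Rational maps from a smooth scheme over a Dedekind domain to a proper scheme (helper60)

A rational map `X ⇢ Y` over a Dedekind domain `R`, with `X` smooth and `Y` proper over `R`, is
defined in codimension one: the local rings of `X` are normal, so those of dimension `≤ 1` are
valuation rings, the valuative criterion gives a lift on `Spec 𝒪_{X,x}`, which spreads out (helper4's
`exists_extension_of_stalk_lift`); the extensions glue by separatedness and density.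
-/

set_option autoImplicit false
universe u

open AlgebraicGeometry CategoryTheory CategoryTheory.Limits Opposite

namespace Groth.Agent.R2.H60.RatMapCodim2

open Groth.Agent.Lib.Helper4.RatExt Groth.Agent.Lib.Helper4.RatMapExt

/-- An integrally closed domain is a normal ring. -/
lemma isNormalRing_of_isIntegrallyClosed (R : Type u) [CommRing R] [IsDomain R]
    [IsIntegrallyClosed R] : EGA4.IsNormalRing R := by
  intro p hp
  exact ⟨inferInstance,
    isIntegrallyClosed_of_isLocalization _ p.primeCompl p.primeCompl_le_nonZeroDivisors⟩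

/-- Stalks of a scheme smooth over a normal domain are normal domains. -/
theorem normal_stalk_of_smooth (R : Type u) [CommRing R] [IsDomain R] [IsIntegrallyClosed R]
    {X : Scheme.{u}} (f : X ⟶ Spec (CommRingCat.of R)) [Smooth f] (x : X) :
    IsDomain (X.presheaf.stalk x) ∧ IsIntegrallyClosed (X.presheaf.stalk x) := by
  obtain ⟨_, ⟨U, hU, rfl⟩, hxU, -⟩ :=
    X.isBasis_affineOpens.exists_subset_of_mem_open (Set.mem_univ x) isOpen_univ
  have hsm : (f.appLE ⊤ U le_top).hom.Smooth :=
    HasRingHomProperty.appLE (P := @Smooth) f inferInstance ⟨⊤, isAffineOpen_top _⟩ ⟨U, hU⟩ le_top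
  algebraize [(f.appLE ⊤ U le_top).hom]
  let e0 : Γ(Spec (CommRingCat.of R), ⊤) ≃+* R :=
    (Scheme.ΓSpecIso (CommRingCat.of R)).commRingCatIsoToRingEquiv
  have : IsDomain Γ(Spec (CommRingCat.of R), ⊤) := e0.toMulEquiv.isDomain _
  have : IsIntegrallyClosed Γ(Spec (CommRingCat.of R), ⊤) := IsIntegrallyClosed.of_equiv e0.symm
  have hN := Groth.Agent.Lib.Helper6.SmNorm.isNormalRing_of_smooth
    Γ(Spec (CommRingCat.of R), ⊤) Γ(X, U) (isNormalRing_of_isIntegrallyClosed _)
  let _ := TopCat.Presheaf.algebra_section_stalk X.presheaf (⟨x, hxU⟩ : U)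
  have hloc := hU.isLocalization_stalk ⟨x, hxU⟩
  obtain ⟨hd, hic⟩ := hN (hU.primeIdealOf ⟨x, hxU⟩).asIdeal
  let e := IsLocalization.algEquiv (hU.primeIdealOf ⟨x, hxU⟩).asIdeal.primeCompl
    (X.presheaf.stalk x) (Localization.AtPrime (hU.primeIdealOf ⟨x, hxU⟩).asIdeal)
  exact ⟨e.toMulEquiv.isDomain _, IsIntegrallyClosed.of_equiv e.symm.toRingEquiv⟩

/-- Glue a family of morphisms on opens `U i`, agreeing on pairwise intersections, to `⨆ i, U i`. -/
lemma exists_glue_iSup {X Y : Scheme.{u}} {J : Type u} (U : J → X.Opens)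
    (f : ∀ i, (U i).toScheme ⟶ Y)
    (h : ∀ i j, X.homOfLE (inf_le_left : U i ⊓ U j ≤ U i) ≫ f i =
      X.homOfLE (inf_le_right : U i ⊓ U j ≤ U j) ≫ f j) :
    ∃ k : (⨆ i, U i : X.Opens).toScheme ⟶ Y, ∀ i, X.homOfLE (le_iSup U i) ≫ k = f i := by
  let 𝒰 := Scheme.Opens.iSupOpenCover U
  have hF : ∀ x y, pullback.fst (𝒰.f x) (𝒰.f y) ≫ f x = pullback.snd _ _ ≫ f y := fun x y =>
    fst_comp_eq_snd_comp (le_iSup U x) (le_iSup U y) (f x) (f y) (h x y)
  exact ⟨𝒰.glueMorphisms f hF, fun i => 𝒰.ι_glueMorphisms f hF i⟩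

lemma le_one_of_not_two_le (d : WithBot ℕ∞) (h : ¬ (2 : WithBot ℕ∞) ≤ d) : d ≤ 1 := by
  have h2 := not_le.mp h
  induction d using WithBot.recBotCoe with
  | bot => exact bot_le
  | coe n =>
    induction n using ENat.recTopCoe with
    | top => exact absurd h2 (by simp)
    | coe m =>
      have h3' : (m : ℕ∞) < 2 := WithBot.coe_lt_coe.mp h2
      have h3 : m < 2 := by exact_mod_cast h3'
      have h4 : m ≤ 1 := by omega
      have h5 : (m : ℕ∞) ≤ 1 := by exact_mod_cast h4
      exact WithBot.coe_le_coe.mpr h5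

set_option backward.isDefEq.respectTransparency false in
/-- Local extension at a point whose local ring has dimension `≤ 1`. -/
theorem exists_local_extension {R : Type u} [CommRing R] [IsDedekindDomain R]
    {X Y : Scheme.{u}} (pX : X ⟶ Spec (CommRingCat.of R)) (pY : Y ⟶ Spec (CommRingCat.of R))
    [Smooth pX] [IsProper pY] (U : X.Opens) (hU : Dense (U : Set X))
    (f : (U : Scheme.{u}) ⟶ Y) (hf : f ≫ pY = U.ι ≫ pX) (x : X)
    (hx : ¬ (2 : WithBot ℕ∞) ≤ ringKrullDim (X.presheaf.stalk x)) :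
    ∃ (U' : X.Opens) (hUU' : U ≤ U') (_ : x ∈ U') (f' : U'.toScheme ⟶ Y),
      f' ≫ pY = U'.ι ≫ pX ∧ X.homOfLE hUU' ≫ f' = f := by
  have : IsLocallyNoetherian X := LocallyOfFiniteType.isLocallyNoetherian pX
  have hE : ValuativeCriterion.Existence pY := by
    have h1 : UniversallyClosed pY := inferInstance
    rw [UniversallyClosed.eq_valuativeCriterion] at h1
    exact h1.1
  obtain ⟨hd, hic⟩ := normal_stalk_of_smooth R pX x
  have := hd
  have := hic
  have hdim : ringKrullDim (X.presheaf.stalk x) ≤ 1 := le_one_of_not_two_le _ hx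
  have : ValuationRing (X.presheaf.stalk x) :=
    Groth.Agent.Lib.Helper4.BirLocalIso.valuationRing_of_normal_dim_le_one _ hdim
  have hξ := genericHom_mem x U (hU.closure_eq ▸ Set.mem_univ x)
  let jU : Spec (CommRingCat.of (FractionRing (X.presheaf.stalk x))) ⟶ U.toScheme :=
    IsOpenImmersion.lift U.ι (genericHom X x) (range_genericHom_subset x U hξ)
  have hjU : jU ≫ U.ι = genericHom X x := IsOpenImmersion.lift_fac _ _ _
  let Sq : ValuativeCommSq pY :=
    { R := X.presheaf.stalk x
      K := FractionRing (X.presheaf.stalk x)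
      i₁ := jU ≫ f
      i₂ := X.fromSpecStalk x ≫ pX
      commSq := ⟨by rw [Category.assoc, hf, ← Category.assoc, hjU, Category.assoc]⟩ }
  obtain ⟨⟨l, hl1, hl2⟩⟩ := (hE Sq).exists_lift
  obtain ⟨U', hUU', hxU', f', hf', hres, -⟩ :=
    exists_extension_of_stalk_lift pX pY x U f hf jU hjU l hl2 hl1
  exact ⟨U', hUU', hxU', f', hf', hres⟩

set_option backward.isDefEq.respectTransparency false in
/-- **Rational maps to proper schemes are defined in codimension one.** -/
theorem main {R : Type u} [CommRing R] [IsDedekindDomain R]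
    {X Y : Scheme.{u}} (pX : X ⟶ Spec (CommRingCat.of R)) (pY : Y ⟶ Spec (CommRingCat.of R))
    [Smooth pX] [IsProper pY] (U : X.Opens) (hU : Dense (U : Set X))
    (f : (U : Scheme.{u}) ⟶ Y) (hf : f ≫ pY = U.ι ≫ pX) :
    ∃ (V : X.Opens) (hUV : U ≤ V) (g : (V : Scheme.{u}) ⟶ Y),
      g ≫ pY = V.ι ≫ pX ∧ X.homOfLE hUV ≫ g = f ∧
      ∀ x : X, x ∉ V → (2 : WithBot ℕ∞) ≤ ringKrullDim (X.presheaf.stalk x) := by
  classical
  have : IsReduced X := by
    have : ∀ x : X, _root_.IsReduced (X.presheaf.stalk x) := fun x => by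
      have := (normal_stalk_of_smooth R pX x).1
      infer_instance
    exact isReduced_of_isReduced_stalk X
  let J := {x : X // ¬ (2 : WithBot ℕ∞) ≤ ringKrullDim (X.presheaf.stalk x)}
  choose U' hUU' hxU' f' hf' hres using
    fun j : J => exists_local_extension pX pY U hU f hf j.1 j.2
  let W : Option J → X.Opens := fun o => o.elim U U'
  have hUW : ∀ o, U ≤ W o := fun o => by
    cases o with
    | none => exact le_rfl
    | some j => exact hUU' j
  let F : ∀ o, (W o).toScheme ⟶ Y := fun o =>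
    match o with
    | none => f
    | some j => f' j
  have hF1 : ∀ o, F o ≫ pY = (W o).ι ≫ pX := fun o => by
    cases o with
    | none => exact hf
    | some j => exact hf' j
  have hF2 : ∀ o, X.homOfLE (hUW o) ≫ F o = f := fun o => by
    cases o with
    | none =>
      show X.homOfLE (le_refl U) ≫ f = f
      rw [X.homOfLE_rfl, Category.id_comp]
    | some j => exact hres j
  have hagree : ∀ i j, X.homOfLE (inf_le_left : W i ⊓ W j ≤ W i) ≫ F i =
      X.homOfLE (inf_le_right : W i ⊓ W j ≤ W j) ≫ F j := by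
    intro i j
    have hle : U ≤ W i ⊓ W j := le_inf (hUW i) (hUW j)
    have : IsDominant (X.homOfLE hle) := by
      constructor
      have h1 : Set.range (X.homOfLE hle) = (W i ⊓ W j).ι ⁻¹' (U : Set X) := by
        have := congrArg (fun O : (W i ⊓ W j).toScheme.Opens => (O : Set (W i ⊓ W j).toScheme))
          (Scheme.opensRange_homOfLE hle)
        exact this
      show Dense (Set.range _)
      rw [h1]
      exact hU.preimage (W i ⊓ W j).ι.isOpenEmbedding.isOpenMap
    apply ext_of_isDominant_of_isSeparated pY ?_ (X.homOfLE hle)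
    · rw [← Category.assoc, X.homOfLE_homOfLE, hF2, ← Category.assoc, X.homOfLE_homOfLE, hF2]
    · rw [Category.assoc, Category.assoc, hF1, hF1, X.homOfLE_ι_assoc, X.homOfLE_ι_assoc]
  obtain ⟨k, hk⟩ := exists_glue_iSup W F hagree
  refine ⟨⨆ o, W o, le_iSup W none, k, ?_, hk none, ?_⟩
  · apply (Scheme.Opens.iSupOpenCover W).hom_ext
    intro o
    change X.homOfLE (le_iSup W o) ≫ k ≫ pY = X.homOfLE (le_iSup W o) ≫ (⨆ o, W o).ι ≫ pX
    rw [← Category.assoc, hk, hF1, X.homOfLE_ι_assoc]
  · intro x hxV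
    by_contra hx
    exact hxV (TopologicalSpace.Opens.mem_iSup.mpr ⟨some ⟨x, hx⟩, hxU' ⟨x, hx⟩⟩)

end Groth.Agent.R2.H60.RatMapCodim2
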