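import Mathlib
import Groth.Agent.Lib.Helper26SmoothLift
import Groth.Agent.Lib.Helper10DVRFibre2

/-!
Sections of a smooth scheme over a strictly henselian local ring are dense in the special fibre.
-/

set_option autoImplicit false
universe u

namespace Groth.Agent.R2.H60.SectionsDense

open CategoryTheory AlgebraicGeometry IsLocalRing
open Groth.Agent.Lib.Helper10.DVRFibre

/-- a smooth algebra over a henselian local ring with algebraically closed residue field, whose
special fibre is nonempty, has a section -/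
theorem exists_section {R B : Type u} [CommRing R] [HenselianLocalRing R]
    [IsAlgClosed (ResidueField R)] [CommRing B] [Algebra R B] [Algebra.Smooth R B]
    (h : (maximalIdeal R).map (algebraMap R B) ≠ ⊤) : Nonempty (B →ₐ[R] R) := by
  obtain ⟨n, hn, hle⟩ := Ideal.exists_le_maximal _ h
  haveI := hn
  letI : Field (B ⧸ n) := Ideal.Quotient.field n
  -- the residue field of `R` maps to `B ⧸ n`
  let f : ResidueField R →+* B ⧸ n :=
    Ideal.Quotient.lift (maximalIdeal R) ((Ideal.Quotient.mk n).comp (algebraMap R B)) (by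
      intro r hr
      rw [RingHom.comp_apply, Ideal.Quotient.eq_zero_iff_mem]
      exact hle (Ideal.mem_map_of_mem _ hr))
  letI : Algebra (ResidueField R) (B ⧸ n) := f.toAlgebra
  haveI : IsScalarTower R (ResidueField R) (B ⧸ n) := IsScalarTower.of_algebraMap_eq (fun r => rfl)
  haveI : Algebra.FinitePresentation R B := Algebra.Smooth.finitePresentation
  haveI : Algebra.FiniteType R B := Algebra.FiniteType.of_finitePresentation
  haveI : Algebra.FiniteType R (B ⧸ n) :=
    Algebra.FiniteType.of_surjective (Ideal.Quotient.mkₐ R n) Ideal.Quotient.mk_surjective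
  haveI : Algebra.FiniteType (ResidueField R) (B ⧸ n) :=
    Algebra.FiniteType.of_restrictScalars_finiteType R (ResidueField R) (B ⧸ n)
  haveI : Module.Finite (ResidueField R) (B ⧸ n) :=
    finite_of_finite_type_of_isJacobsonRing (ResidueField R) (B ⧸ n)
  haveI : Algebra.IsIntegral (ResidueField R) (B ⧸ n) := Algebra.IsIntegral.of_finite _ _
  have hbij : Function.Bijective (algebraMap (ResidueField R) (B ⧸ n)) :=
    IsAlgClosed.algebraMap_bijective_of_isIntegral
  let e : ResidueField R ≃+* B ⧸ n := RingEquiv.ofBijective _ hbij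
  let σ : B →ₐ[R] R ⧸ maximalIdeal R :=
    { toRingHom := (e.symm.toRingHom).comp (Ideal.Quotient.mk n)
      commutes' := by
        intro r
        show e.symm (Ideal.Quotient.mk n (algebraMap R B r)) = _
        apply e.injective
        rw [e.apply_symm_apply]
        rfl }
  obtain ⟨τ, -⟩ := Groth.Agent.Lib.Helper26.SmoothLift.exists_lift_of_smooth (maximalIdeal R) σ
  exact ⟨τ⟩

variable (R : Type u) [CommRing R] [HenselianLocalRing R] [IsAlgClosed (ResidueField R)]

theorem mem_closure_sections {X : Scheme.{u}} (p : X ⟶ Spec (CommRingCat.of R)) [Smooth p]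
    (x : X) (hx : p.base x = IsLocalRing.closedPoint R) :
    x ∈ closure {y : X | ∃ s : Spec (CommRingCat.of R) ⟶ X, s ≫ p = 𝟙 _ ∧
      s.base (IsLocalRing.closedPoint R) = y} := by
  rw [mem_closure_iff]
  intro W hWo hxW
  obtain ⟨V, hV, hxV, hVW⟩ : ∃ V : X.Opens, IsAffineOpen V ∧ x ∈ V ∧ (V : Set X) ⊆ W := by
    obtain ⟨_, ⟨V, hV, rfl⟩, hxV, hVW⟩ :=
      (X.isBasis_affineOpens).exists_subset_of_mem_open hxW hWo
    exact ⟨V, hV, hxV, hVW⟩
  let φ : R →+* Γ(X, V) := phi p V
  have hφs : φ.Smooth := by
    have h1 := Smooth.smooth_appLE p (isAffineOpen_top (Spec (CommRingCat.of R))) hV le_top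
    exact RingHom.Smooth.respectsIso.2 _
      (Scheme.ΓSpecIso (CommRingCat.of R)).symm.commRingCatIsoToRingEquiv h1
  letI : Algebra R Γ(X, V) := φ.toAlgebra
  haveI : Algebra.Smooth R Γ(X, V) := hφs
  let q := hV.primeIdealOf ⟨x, hxV⟩
  have hq : hV.fromSpec.base q = x := hV.fromSpec_primeIdealOf ⟨x, hxV⟩
  have hfs := fromSpec_comp p hV
  have hqm : q.asIdeal.comap φ = maximalIdeal R := by
    have h1 : (hV.fromSpec ≫ p).base q = IsLocalRing.closedPoint R := by
      show p.base (hV.fromSpec.base q) = IsLocalRing.closedPoint R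
      exact (congrArg (fun y => p.base y) hq).trans hx
    rw [hfs] at h1
    exact congrArg PrimeSpectrum.asIdeal h1
  have hne : (maximalIdeal R).map (algebraMap R Γ(X, V)) ≠ ⊤ := by
    intro htop
    have hle : (maximalIdeal R).map φ ≤ q.asIdeal := by
      rw [Ideal.map_le_iff_le_comap, hqm]
    have : (maximalIdeal R).map φ = ⊤ := htop
    rw [this, top_le_iff] at hle
    exact q.2.ne_top hle
  obtain ⟨τ⟩ := exists_section (R := R) (B := Γ(X, V)) hne
  let s : Spec (CommRingCat.of R) ⟶ X := Spec.map (CommRingCat.ofHom τ.toRingHom) ≫ hV.fromSpec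
  refine ⟨s.base (IsLocalRing.closedPoint R), hVW ?_, s, ?_, rfl⟩
  · show s.base (IsLocalRing.closedPoint R) ∈ (V : Set X)
    rw [← hV.range_fromSpec]
    exact ⟨_, rfl⟩
  · show (Spec.map (CommRingCat.ofHom τ.toRingHom) ≫ hV.fromSpec) ≫ p = 𝟙 _
    rw [Category.assoc, hfs, ← Spec.map_comp, ← CommRingCat.ofHom_comp]
    have : (τ.toRingHom).comp (phi p V) = RingHom.id R := by
      ext r
      exact τ.commutes r
    rw [this]
    exact Spec.map_id _

end Groth.Agent.R2.H60.SectionsDense
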