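import Mathlib
import Groth.Agent.Lib.Helper3HenselInt
import Groth.Agent.Lib.Helper3EtNormal
import Groth.Agent.Lib.Helper5IntDim

/-! Base change of a local `k`-algebra with residue field `k` along an algebraic field extension:
locality, residue field; a divisibility criterion for integral closedness; passage to the
directed union over finite subextensions. -/

set_option autoImplicit false

namespace Groth.Agent.R2.H60.SepClosureBC

open TensorProduct IsLocalRing

universe u

section IC

lemma term_eq {K : Type*} [Field K] (x A B C : K) (i n : ℕ) (hin : i ≤ n) (hxb : x * B = A) :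
    C * A ^ i * B ^ (n - i) = C * x ^ i * B ^ n := by
  rw [← hxb, mul_pow, mul_assoc, mul_assoc, mul_assoc, ← pow_add, Nat.add_sub_cancel' hin]

/-- in an integrally closed domain, a homogeneous integrality relation forces divisibility -/
theorem dvd_of_integral_eq {D : Type*} [CommRing D] [IsDomain D] [IsIntegrallyClosed D]
    (a b : D) (hb : b ≠ 0) (n : ℕ) (c : ℕ → D)
    (h : a ^ n + ∑ i ∈ Finset.range n, c i * a ^ i * b ^ (n - i) = 0) : b ∣ a := by
  classical
  set K := FractionRing D
  have hbK : algebraMap D K b ≠ 0 := by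
    intro h0
    exact hb ((injective_iff_map_eq_zero (algebraMap D K)).1 (IsFractionRing.injective D K) b h0)
  set x : K := algebraMap D K a / algebraMap D K b with hx
  have hxb : x * algebraMap D K b = algebraMap D K a := div_mul_cancel₀ _ hbK
  have hint : IsIntegral D x := by
    set q : Polynomial D := ∑ i ∈ Finset.range n, Polynomial.C (c i) * Polynomial.X ^ i with hq
    have hqdeg : q.degree < n := by
      rw [hq, Finset.sum_range]
      exact Polynomial.degree_sum_fin_lt (fun i : Fin n => c i)
    refine ⟨Polynomial.X ^ n + q, Polynomial.monic_X_pow_add hqdeg, ?_⟩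
    have h1 : Polynomial.eval₂ (algebraMap D K) x (Polynomial.X ^ n + q) =
        x ^ n + ∑ i ∈ Finset.range n, algebraMap D K (c i) * x ^ i := by
      rw [Polynomial.eval₂_add, Polynomial.eval₂_pow, Polynomial.eval₂_X, hq,
        Polynomial.eval₂_finsetSum]
      congr 1
      apply Finset.sum_congr rfl
      intro i _
      rw [Polynomial.eval₂_mul, Polynomial.eval₂_C, Polynomial.eval₂_pow, Polynomial.eval₂_X]
    rw [h1]
    have hbn : (algebraMap D K b) ^ n ≠ 0 := pow_ne_zero _ hbK
    apply mul_right_cancel₀ hbn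
    rw [zero_mul, add_mul, Finset.sum_mul, ← mul_pow, hxb]
    have h2 := congrArg (algebraMap D K) h
    rw [map_zero, map_add, map_pow, map_sum] at h2
    rw [← h2]
    congr 1
    apply Finset.sum_congr rfl
    intro i hi
    have hin : i ≤ n := (Finset.mem_range.1 hi).le
    rw [map_mul, map_mul, map_pow, map_pow]
    exact (term_eq x _ _ _ i n hin hxb).symm
  obtain ⟨y, hy⟩ := IsIntegrallyClosed.algebraMap_eq_of_integral hint
  refine ⟨y, ?_⟩
  apply IsFractionRing.injective D K
  rw [map_mul, hy, mul_comm, hxb]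

/-- converse: the divisibility criterion implies integral closedness -/
theorem isIntegrallyClosed_of_dvd {D : Type*} [CommRing D] [IsDomain D]
    (H : ∀ (a b : D), b ≠ 0 → ∀ (n : ℕ) (c : ℕ → D),
      a ^ n + ∑ i ∈ Finset.range n, c i * a ^ i * b ^ (n - i) = 0 → b ∣ a) :
    IsIntegrallyClosed D := by
  classical
  rw [isIntegrallyClosed_iff (FractionRing D)]
  intro x hx
  obtain ⟨a, b, hb0, hxab⟩ := IsFractionRing.div_surjective (A := D) x
  subst hxab
  set K := FractionRing D
  have hb : b ≠ 0 := nonZeroDivisors.ne_zero hb0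
  have hbK : algebraMap D K b ≠ 0 := by
    intro h0
    exact hb ((injective_iff_map_eq_zero (algebraMap D K)).1 (IsFractionRing.injective D K) b h0)
  obtain ⟨p, hp, hpx⟩ := hx
  set n := p.natDegree
  have hxb : (algebraMap D K a / algebraMap D K b) * algebraMap D K b = algebraMap D K a :=
    div_mul_cancel₀ _ hbK
  have heq : a ^ n + ∑ i ∈ Finset.range n, p.coeff i * a ^ i * b ^ (n - i) = 0 := by
    apply IsFractionRing.injective D K
    rw [map_zero, map_add, map_pow, map_sum]
    have h1 : Polynomial.eval₂ (algebraMap D K) (algebraMap D K a / algebraMap D K b) p =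
        (algebraMap D K a / algebraMap D K b) ^ n +
          ∑ i ∈ Finset.range n, algebraMap D K (p.coeff i) *
            (algebraMap D K a / algebraMap D K b) ^ i := by
      conv_lhs => rw [hp.as_sum]
      rw [Polynomial.eval₂_add, Polynomial.eval₂_pow, Polynomial.eval₂_X,
        Polynomial.eval₂_finsetSum]
      congr 1
      apply Finset.sum_congr rfl
      intro i _
      rw [Polynomial.eval₂_mul, Polynomial.eval₂_C, Polynomial.eval₂_pow, Polynomial.eval₂_X]
    rw [h1] at hpx
    have h2 := congrArg (· * (algebraMap D K b) ^ n) hpx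
    simp only [zero_mul, add_mul] at h2
    rw [← mul_pow, hxb] at h2
    rw [← h2]
    congr 1
    rw [Finset.sum_mul]
    apply Finset.sum_congr rfl
    intro i hi
    have hin : i ≤ n := (Finset.mem_range.1 hi).le
    rw [map_mul, map_mul, map_pow, map_pow]
    exact term_eq _ _ _ _ i n hin hxb
  obtain ⟨d, hd⟩ := H a b hb n (fun i => p.coeff i) heq
  refine ⟨d, ?_⟩
  rw [hd, map_mul, mul_div_cancel_left₀ _ hbK]

end IC

section Local

variable (k : Type u) [Field k] (R₀ : Type u) [CommRing R₀] [IsLocalRing R₀] [Algebra k R₀]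
  (L : Type u) [Field L] [Algebra k L]

/-- the extended maximal ideal -/
def mExt : Ideal (R₀ ⊗[k] L) := (maximalIdeal R₀).map (algebraMap R₀ (R₀ ⊗[k] L))

variable {k R₀}

lemma tmul_one_mem_mExt {r : R₀} (hr : r ∈ maximalIdeal R₀) (b : L) :
    r ⊗ₜ[k] b ∈ mExt k R₀ L := by
  have h1 : r ⊗ₜ[k] b = algebraMap R₀ (R₀ ⊗[k] L) r * ((1 : R₀) ⊗ₜ[k] b) := by
    rw [Algebra.TensorProduct.algebraMap_apply, Algebra.TensorProduct.tmul_mul_tmul, one_mul,
      Algebra.algebraMap_self, RingHom.id_apply, mul_one]
  rw [h1]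
  exact Ideal.mul_mem_right _ _ (Ideal.mem_map_of_mem _ hr)

/-- every element is congruent to a constant modulo the extended maximal ideal -/
lemma exists_sub_mem_mExt
    (hres : Function.Surjective (fun a : k => residue R₀ (algebraMap k R₀ a)))
    (x : R₀ ⊗[k] L) : ∃ a : L, x - (1 : R₀) ⊗ₜ[k] a ∈ mExt k R₀ L := by
  induction x using TensorProduct.induction_on with
  | zero => exact ⟨0, by simp⟩
  | tmul r b =>
    obtain ⟨c, hc⟩ := hres (residue R₀ r)
    have hmem : r - algebraMap k R₀ c ∈ maximalIdeal R₀ := by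
      have h1 : residue R₀ (r - algebraMap k R₀ c) = 0 := by
        rw [map_sub]
        simp only at hc
        rw [hc, sub_self]
      exact (residue_eq_zero_iff _).1 h1
    refine ⟨c • b, ?_⟩
    have h2 : (1 : R₀) ⊗ₜ[k] (c • b) = (algebraMap k R₀ c) ⊗ₜ[k] b := by
      rw [TensorProduct.tmul_smul, TensorProduct.smul_tmul', Algebra.algebraMap_eq_smul_one]
    rw [h2, ← TensorProduct.sub_tmul]
    exact tmul_one_mem_mExt L hmem b
  | add x y hx hy =>
    obtain ⟨a, ha⟩ := hx
    obtain ⟨a', ha'⟩ := hy
    refine ⟨a + a', ?_⟩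
    have : x + y - (1 : R₀) ⊗ₜ[k] (a + a') = (x - (1 : R₀) ⊗ₜ[k] a) + (y - (1 : R₀) ⊗ₜ[k] a') := by
      rw [TensorProduct.tmul_add]
      ring
    rw [this]
    exact Ideal.add_mem _ ha ha'

variable [Algebra.IsIntegral k L]

lemma mExt_le_of_isMaximal (M : Ideal (R₀ ⊗[k] L)) [M.IsMaximal] : mExt k R₀ L ≤ M := by
  unfold mExt
  rw [Ideal.map_le_iff_le_comap]
  have hmax : (M.comap (algebraMap R₀ (R₀ ⊗[k] L))).IsMaximal :=
    Ideal.isMaximal_comap_of_isIntegral_of_isMaximal M
  rw [IsLocalRing.eq_maximalIdeal hmax]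

lemma mExt_le_jacobson : mExt k R₀ L ≤ Ideal.jacobson (⊥ : Ideal (R₀ ⊗[k] L)) := by
  unfold Ideal.jacobson
  apply le_sInf
  rintro M ⟨_, hM⟩
  haveI := hM
  exact mExt_le_of_isMaximal L M

lemma nontrivial_tensor : Nontrivial (R₀ ⊗[k] L) :=
  (Algebra.TensorProduct.includeLeft_injective (R := k) (S := k) (A := R₀) (B := L)
    (algebraMap k L).injective).nontrivial

omit [IsLocalRing R₀] [Algebra.IsIntegral k L] in
lemma algebraMap_tensor_injective : Function.Injective (algebraMap R₀ (R₀ ⊗[k] L)) := by
  have h1 := Algebra.TensorProduct.includeLeft_injective (R := k) (S := k) (A := R₀) (B := L)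
    (algebraMap k L).injective
  intro x y hxy
  apply h1
  rw [Algebra.TensorProduct.algebraMap_apply, Algebra.TensorProduct.algebraMap_apply] at hxy
  simpa using hxy

theorem isLocalRing_tensor
    (hres : Function.Surjective (fun a : k => residue R₀ (algebraMap k R₀ a))) :
    IsLocalRing (R₀ ⊗[k] L) := by
  haveI := nontrivial_tensor (k := k) (R₀ := R₀) L
  apply IsLocalRing.of_isUnit_or_isUnit_one_sub_self
  intro x
  obtain ⟨a, ha⟩ := exists_sub_mem_mExt L hres x
  have hjac := mExt_le_jacobson (k := k) (R₀ := R₀) L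
  by_cases h0 : a = 0
  · right
    rw [h0, TensorProduct.tmul_zero, sub_zero] at ha
    apply Ideal.isUnit_of_sub_one_mem_jacobson_bot
    have : 1 - x - 1 = -x := by ring
    rw [this]
    exact Ideal.neg_mem_iff _ |>.2 (hjac ha)
  · left
    have hu : IsUnit ((1 : R₀) ⊗ₜ[k] a) := by
      have := (isUnit_iff_ne_zero.2 h0).map
        (Algebra.TensorProduct.includeRight : L →ₐ[k] R₀ ⊗[k] L)
      rwa [Algebra.TensorProduct.includeRight_apply] at this
    obtain ⟨u, hu'⟩ := hu
    have h1 : IsUnit (x * ↑u⁻¹) := by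
      apply Ideal.isUnit_of_sub_one_mem_jacobson_bot
      have : x * ↑u⁻¹ - 1 = (x - (1 : R₀) ⊗ₜ[k] a) * ↑u⁻¹ := by
        rw [sub_mul, ← hu', Units.mul_inv]
      rw [this]
      exact Ideal.mul_mem_right _ _ (hjac ha)
    have h2 : x = x * ↑u⁻¹ * ↑u := by
      rw [mul_assoc, Units.inv_mul, mul_one]
    rw [h2]
    exact h1.mul u.isUnit

theorem residue_includeRight_surjective
    (hres : Function.Surjective (fun a : k => residue R₀ (algebraMap k R₀ a)))
    [IsLocalRing (R₀ ⊗[k] L)] :
    Function.Surjective (fun a : L => residue (R₀ ⊗[k] L)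
      ((Algebra.TensorProduct.includeRight : L →ₐ[k] R₀ ⊗[k] L) a)) := by
  intro y
  obtain ⟨x, rfl⟩ := IsLocalRing.residue_surjective y
  obtain ⟨a, ha⟩ := exists_sub_mem_mExt L hres x
  refine ⟨a, ?_⟩
  simp only
  rw [Algebra.TensorProduct.includeRight_apply]
  have hle := mExt_le_of_isMaximal (k := k) (R₀ := R₀) L (maximalIdeal (R₀ ⊗[k] L))
  have h1 : residue (R₀ ⊗[k] L) (x - (1 : R₀) ⊗ₜ[k] a) = 0 :=
    (residue_eq_zero_iff _).2 (hle ha)
  rw [map_sub, sub_eq_zero] at h1
  exact h1.symm

end Local

section Stage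

variable (k : Type u) [Field k] (R₀ : Type u) [CommRing R₀] [Algebra k R₀]
  (K : Type u) [Field K] [Algebra k K]

/-- the inclusion of the stage over an intermediate field -/
noncomputable def stage (L : IntermediateField k K) : R₀ ⊗[k] L →ₐ[R₀] R₀ ⊗[k] K :=
  Algebra.TensorProduct.map (AlgHom.id R₀ R₀) L.val

variable {k R₀ K}

@[simp] lemma stage_tmul (L : IntermediateField k K) (r : R₀) (l : L) :
    stage k R₀ K L (r ⊗ₜ[k] l) = r ⊗ₜ[k] (l : K) := by
  simp [stage]

lemma stage_injective (L : IntermediateField k K) : Function.Injective (stage k R₀ K L) := by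
  have h1 : Function.Injective (LinearMap.lTensor R₀ L.val.toLinearMap) :=
    Module.Flat.lTensor_preserves_injective_linearMap (M := R₀) L.val.toLinearMap
      Subtype.val_injective
  have h2 : ⇑(stage k R₀ K L) = ⇑(LinearMap.lTensor R₀ L.val.toLinearMap) := by
    funext x
    induction x using TensorProduct.induction_on with
    | zero => simp
    | tmul r l => simp
    | add x y hx hy => rw [map_add, map_add, hx, hy]
  rw [h2]
  exact h1

lemma range_stage_mono {L L' : IntermediateField k K} (h : L ≤ L') :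
    (stage k R₀ K L).range ≤ (stage k R₀ K L').range := by
  rintro _ ⟨x, rfl⟩
  induction x using TensorProduct.induction_on with
  | zero => simp
  | tmul r l =>
    refine ⟨r ⊗ₜ[k] (⟨l.1, h l.2⟩ : L'), ?_⟩
    simp
  | add x y hx hy =>
    rw [map_add]
    exact Subalgebra.add_mem _ hx hy

variable [Algebra.IsIntegral k K]

lemma exists_stage (x : R₀ ⊗[k] K) :
    ∃ L : IntermediateField k K, FiniteDimensional k L ∧ x ∈ (stage k R₀ K L).range := by
  induction x using TensorProduct.induction_on with
  | zero => exact ⟨⊥, inferInstance, Subalgebra.zero_mem _⟩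
  | tmul r a =>
    refine ⟨IntermediateField.adjoin k {a},
      IntermediateField.adjoin.finiteDimensional (Algebra.IsIntegral.isIntegral a), ?_⟩
    refine ⟨r ⊗ₜ[k] (⟨a, IntermediateField.mem_adjoin_simple_self k a⟩ :
      IntermediateField.adjoin k {a}), ?_⟩
    simp
  | add x y hx hy =>
    obtain ⟨L, hL, hxL⟩ := hx
    obtain ⟨L', hL', hyL⟩ := hy
    refine ⟨L ⊔ L', IntermediateField.finiteDimensional_sup L L', ?_⟩
    exact Subalgebra.add_mem _ (range_stage_mono le_sup_left hxL)
      (range_stage_mono le_sup_right hyL)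

lemma exists_stage_finset (s : Finset (R₀ ⊗[k] K)) :
    ∃ L : IntermediateField k K, FiniteDimensional k L ∧
      ∀ x ∈ s, x ∈ (stage k R₀ K L).range := by
  classical
  induction s using Finset.induction_on with
  | empty => exact ⟨⊥, inferInstance, fun x hx => absurd hx (Finset.notMem_empty x)⟩
  | insert a s _ ih =>
    obtain ⟨L, hL, hs⟩ := ih
    obtain ⟨L', hL', ha⟩ := exists_stage (k := k) (R₀ := R₀) a
    refine ⟨L ⊔ L', IntermediateField.finiteDimensional_sup L L', ?_⟩
    intro x hx
    rw [Finset.mem_insert] at hx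
    rcases hx with rfl | hx
    · exact range_stage_mono le_sup_right ha
    · exact range_stage_mono le_sup_left (hs x hx)

end Stage

section Normal

variable {k : Type u} [Field k] {R₀ : Type u} [CommRing R₀] [IsDomain R₀] [IsLocalRing R₀]
  [IsIntegrallyClosed R₀] [Algebra k R₀]

/-- a finite separable stage which is a domain is integrally closed -/
theorem isIntegrallyClosed_finite_stage
    (hres : Function.Surjective (fun a : k => residue R₀ (algebraMap k R₀ a)))
    (L : Type u) [Field L] [Algebra k L] [FiniteDimensional k L]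
    [Algebra.IsSeparable k L] [IsDomain (R₀ ⊗[k] L)] : IsIntegrallyClosed (R₀ ⊗[k] L) := by
  haveI : Algebra.IsIntegral k L := Algebra.IsIntegral.of_finite k L
  haveI := isLocalRing_tensor L hres
  haveI : Algebra.FormallyEtale k L := Algebra.FormallyEtale.of_isSeparable k L
  haveI : Algebra.FinitePresentation k L := Algebra.FinitePresentation.of_finiteType.mp inferInstance
  haveI : Algebra.Etale k L := {}
  haveI : Algebra.Etale R₀ (R₀ ⊗[k] L) := inferInstance
  have hunits : ∀ x ∈ (maximalIdeal (R₀ ⊗[k] L)).primeCompl, IsUnit x := by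
    intro x hx
    have h1 : x ∉ maximalIdeal (R₀ ⊗[k] L) := hx
    rwa [mem_maximalIdeal, mem_nonunits_iff, not_not] at h1
  let e := IsLocalization.atUnits (R₀ ⊗[k] L) (maximalIdeal (R₀ ⊗[k] L)).primeCompl
    (S := Localization.AtPrime (maximalIdeal (R₀ ⊗[k] L))) hunits
  haveI := (Groth.Agent.Lib.Helper3.EtNormal.isDomain_and_isIntegrallyClosed_localization R₀
    (R₀ ⊗[k] L) (maximalIdeal (R₀ ⊗[k] L))).2
  exact IsIntegrallyClosed.of_equiv e.symm.toRingEquiv

/-- base change along a separable algebraic extension stays integrally closed (if a domain) -/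
theorem isIntegrallyClosed_tensor
    (hres : Function.Surjective (fun a : k => residue R₀ (algebraMap k R₀ a)))
    (K : Type u) [Field K] [Algebra k K] [Algebra.IsSeparable k K]
    [IsDomain (R₀ ⊗[k] K)] : IsIntegrallyClosed (R₀ ⊗[k] K) := by
  classical
  haveI : Algebra.IsIntegral k K := inferInstance
  apply isIntegrallyClosed_of_dvd
  intro a b hb n c heq
  obtain ⟨L, hL, hs⟩ := exists_stage_finset (k := k) (R₀ := R₀) (K := K)
    (insert a (insert b ((Finset.range n).image c)))
  haveI := hL
  set σ : R₀ ⊗[k] L →+* R₀ ⊗[k] K := (stage k R₀ K L).toRingHom with hσ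
  have hσr : ∀ y, y ∈ (stage k R₀ K L).range → ∃ x, σ x = y := fun y hy => hy
  have ha : ∃ a', σ a' = a := hσr a (hs a (Finset.mem_insert_self _ _))
  have hbm : ∃ b', σ b' = b :=
    hσr b (hs b (Finset.mem_insert_of_mem (Finset.mem_insert_self _ _)))
  have hc : ∀ i, i < n → ∃ c', σ c' = c i := fun i hi =>
    hσr (c i) (hs (c i) (Finset.mem_insert_of_mem (Finset.mem_insert_of_mem
      (Finset.mem_image_of_mem c (Finset.mem_range.2 hi)))))
  obtain ⟨a', rfl⟩ := ha
  obtain ⟨b', rfl⟩ := hbm
  choose! c' hc' using hc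
  have hinj : Function.Injective σ := stage_injective (k := k) (R₀ := R₀) (K := K) L
  haveI : IsDomain (R₀ ⊗[k] L) := hinj.isDomain σ
  haveI : Algebra.IsSeparable k L := Algebra.isSeparable_tower_bot_of_isSeparable k L K
  haveI := isIntegrallyClosed_finite_stage hres L
  have hb' : b' ≠ 0 := by
    rintro rfl
    exact hb (map_zero _)
  have heq' : a' ^ n + ∑ i ∈ Finset.range n, c' i * a' ^ i * b' ^ (n - i) = 0 := by
    apply hinj
    rw [map_zero, map_add, map_pow, map_sum, ← heq]
    congr 1
    apply Finset.sum_congr rfl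
    intro i hi
    rw [map_mul, map_mul, map_pow, map_pow, hc' i (Finset.mem_range.1 hi)]
  obtain ⟨d, hd⟩ := dvd_of_integral_eq a' b' hb' n c' heq'
  exact ⟨σ d, by rw [hd, map_mul]⟩

end Normal

end Groth.Agent.R2.H60.SepClosureBC
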