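import Mathlib
import Groth.Prelude.Def_W4c2azumayainvolQEt
import Groth.Agent.Lib.Helper15QuadEtale
import Groth.Agent.R2.H60HermDiag

/-!
Skew-hermitian forms over a ring with involution `lam` (fixed ring local, `lam` trivial modulo the
Jacobson radical, `2` invertible): even size and symplectic block form up to congruence.
-/

set_option autoImplicit false
set_option linter.unusedSectionVars false

namespace Groth.Agent.R2.H60.SkewBlocks

open Matrix
open Groth.Agent.Lib.Helper15.QuadEtale
open Groth.Agent.R2.H60.HermDiag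

universe u v

section Form

variable {A : Type v} [CommRing A]

/-- block form: `2 × 2` blocks on the index pairs `{2k, 2k+1}`, each congruent to
`[[0,1],[-1,0]]` modulo the Jacobson radical. -/
def BlockForm {n : ℕ} (G : Matrix (Fin n) (Fin n) A) : Prop :=
  ∀ i j : Fin n,
    (i.val / 2 ≠ j.val / 2 → G i j = 0) ∧
    (i.val / 2 = j.val / 2 → (Even i.val ↔ Even j.val) → G i j ∈ Ring.jacobson A) ∧
    (i.val / 2 = j.val / 2 → Even i.val → ¬ Even j.val → G i j - 1 ∈ Ring.jacobson A) ∧
    (i.val / 2 = j.val / 2 → ¬ Even i.val → Even j.val → G i j + 1 ∈ Ring.jacobson A)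

/-- the reindexing `Fin 2 ⊕ Fin n ≃ Fin (n + 2)` putting the new block first. -/
def eqv (n : ℕ) : Fin 2 ⊕ Fin n ≃ Fin (n + 2) :=
  finSumFinEquiv.trans (finCongr (add_comm 2 n))

theorem eqv_inl_val {n : ℕ} (x : Fin 2) : ((eqv n (Sum.inl x) : Fin (n + 2)) : ℕ) = x := by
  simp [eqv]

theorem eqv_inr_val {n : ℕ} (y : Fin n) : ((eqv n (Sum.inr y) : Fin (n + 2)) : ℕ) = 2 + y := by
  simp [eqv, add_comm]

theorem blockForm_fromBlocks {n : ℕ} (a : Matrix (Fin 2) (Fin 2) A)
    (GS : Matrix (Fin n) (Fin n) A)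
    (h00 : a 0 0 ∈ Ring.jacobson A) (h11 : a 1 1 ∈ Ring.jacobson A)
    (h01 : a 0 1 - 1 ∈ Ring.jacobson A) (h10 : a 1 0 + 1 ∈ Ring.jacobson A)
    (hGS : BlockForm GS) :
    BlockForm ((fromBlocks a 0 0 GS).submatrix (eqv n).symm (eqv n).symm) := by
  intro i j
  obtain ⟨x, rfl⟩ := (eqv n).surjective i
  obtain ⟨y, rfl⟩ := (eqv n).surjective j
  simp only [submatrix_apply, Equiv.symm_apply_apply]
  rcases x with x | x <;> rcases y with y | y
  · simp only [eqv_inl_val, fromBlocks_apply₁₁]
    fin_cases x <;> fin_cases y <;> simp [h00, h11, h01, h10]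
  · simp only [eqv_inl_val, eqv_inr_val, fromBlocks_apply₁₂]
    have hx : (x : ℕ) < 2 := x.2
    refine ⟨fun _ => rfl, fun h => ?_, fun h => ?_, fun h => ?_⟩ <;> omega
  · simp only [eqv_inl_val, eqv_inr_val, fromBlocks_apply₂₁]
    have hy : (y : ℕ) < 2 := y.2
    refine ⟨fun _ => rfl, fun h => ?_, fun h => ?_, fun h => ?_⟩ <;> omega
  · simp only [eqv_inr_val, fromBlocks_apply₂₂]
    obtain ⟨c1, c2, c3, c4⟩ := hGS x y
    have e1 : ∀ k : ℕ, Even (2 + k) ↔ Even k := by
      intro k
      simp [Nat.even_add]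
    refine ⟨fun h => c1 (by omega), fun h1 h2 => c2 (by omega) ?_, fun h1 h2 h3 => c3 (by omega) ?_ ?_,
      fun h1 h2 h3 => c4 (by omega) ?_ ?_⟩
    · rwa [e1, e1] at h2
    · rwa [e1] at h2
    · rwa [e1] at h3
    · rwa [e1] at h2
    · rwa [e1] at h3

end Form

section Main

variable {B : Type u} {A : Type v} [CommRing B] [CommRing A] [Algebra B A]
  (lam : A ≃+* A) (hlam : Function.Involutive lam) (hB : RInv.IsFixedRing B A lam)

/-- the diagonal of a skew-hermitian matrix lies in the radical. -/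
theorem diag_mem (hid : ∀ a : A, lam a - a ∈ Ring.jacobson A) (h2 : IsUnit (2 : A))
    {ι : Type*} [Fintype ι] [DecidableEq ι] {h : Matrix ι ι A}
    (herm : (-1 : A) • ct (sg lam) h = h) (i : ι) :
    h i i ∈ Ring.jacobson A := by
  have h1 : h i i = -1 * lam (h i i) := herm_entry lam herm i i
  have h3 := hid (h i i)
  have h4 : 2 * h i i ∈ Ring.jacobson A := by
    have h5 : lam (h i i) - h i i = -(2 * h i i) := by linear_combination h1
    rw [h5] at h3
    exact (Ideal.neg_mem_iff _).mp h3
  obtain ⟨t, ht⟩ := h2.exists_left_inv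
  have h6 : h i i = t * (2 * h i i) := by rw [← mul_assoc, ht, one_mul]
  rw [h6]
  exact Ideal.mul_mem_left _ _ h4

theorem congr_diagonal_entry {ι : Type*} [Fintype ι] [DecidableEq ι] (h : Matrix ι ι A)
    (d : ι → A) (i j : ι) :
    (ct (sg lam) (diagonal d) * h * diagonal d) i j = lam (d i) * h i j * d j := by
  rw [ct_diagonal, mul_diagonal, diagonal_mul]
  simp

variable [IsLocalRing B]

include hlam hB in
theorem skew_blocks (hid : ∀ a : A, lam a - a ∈ Ring.jacobson A) (h2 : IsUnit (2 : A)) :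
    ∀ (n : ℕ) (h : Matrix (Fin n) (Fin n) A), IsUnit h → (-1 : A) • ct (sg lam) h = h →
      Even n ∧ ∃ v : Matrix (Fin n) (Fin n) A, IsUnit v ∧
        BlockForm (ct (sg lam) v * h * v) := by
  have hnt : Nontrivial A := nontrivial_of_fixed lam hB
  have hloc : IsLocalRing A := isLocalRing_of_id lam hlam hB hid
  have hJ : Ring.jacobson A = IsLocalRing.maximalIdeal A := by
    rw [← Ideal.jacobson_bot]
    exact IsLocalRing.jacobson_eq_maximalIdeal ⊥ bot_ne_top
  have hε : (-1 : A) = 1 ∨ (-1 : A) = -1 := Or.inr rfl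
  intro n
  induction n using Nat.twoStepInduction with
  | zero =>
    intro h _ _
    exact ⟨by decide, 1, isUnit_one, fun i => i.elim0⟩
  | one =>
    intro h hh herm
    exfalso
    have hd := diag_mem lam hid h2 herm 0
    have hu : IsUnit (h 0 0) := by
      have := (isUnit_iff_isUnit_det h).mp hh
      rwa [det_fin_one] at this
    exact not_isUnit_of_mem_jacobson hd hu
  | more n ih _ =>
    intro h hh herm
    -- a unit entry in row `0`
    obtain ⟨j, hj⟩ : ∃ j, IsUnit (h 0 j) := by
      by_contra hcon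
      push Not at hcon
      obtain ⟨g, hg⟩ := hh.exists_right_inv
      have h1 : ∑ k, h 0 k * g k 0 = 1 := by
        simpa [Matrix.mul_apply] using congrFun (congrFun hg 0) 0
      have hmem : ∑ k, h 0 k * g k 0 ∈ IsLocalRing.maximalIdeal A :=
        Ideal.sum_mem _ (fun k _ => Ideal.mul_mem_right _ _
          ((IsLocalRing.mem_maximalIdeal _).mpr (hcon k)))
      rw [h1] at hmem
      exact (IsLocalRing.mem_maximalIdeal _).mp hmem isUnit_one
    -- make the `(0,1)` entry a unit
    obtain ⟨v1, hv1, hu1⟩ : ∃ v1 : Matrix (Fin (n + 2)) (Fin (n + 2)) A, IsUnit v1 ∧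
        IsUnit ((ct (sg lam) v1 * h * v1) 0 1) := by
      by_cases h01 : IsUnit (h 0 1)
      · exact ⟨1, isUnit_one, by simpa using h01⟩
      · have hj1 : j ≠ 1 := by
          rintro rfl
          exact h01 hj
        refine ⟨transvection j 1 1, isUnit_transvection hj1 1, ?_⟩
        rw [ct_transvection, mul_transvection_apply_same,
          transvection_mul_apply_of_ne _ _ _ _ Fin.zero_ne_one,
          transvection_mul_apply_of_ne _ _ _ _ Fin.zero_ne_one, one_mul, add_comm]
        have hmem : h 0 1 ∈ Ring.jacobson A := by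
          rw [hJ]
          exact (IsLocalRing.mem_maximalIdeal _).mpr h01
        exact isUnit_add_of_mem_jacobson hj hmem
    obtain ⟨ui, hui⟩ := hu1.exists_right_inv
    have huiu : IsUnit ui := IsUnit.of_mul_eq_one _ (by rwa [mul_comm] at hui)
    obtain ⟨d, hd⟩ : ∃ d : Fin (n + 2) → A, d = Function.update (fun _ => (1 : A)) 1 ui :=
      ⟨_, rfl⟩
    have hd0 : d 0 = 1 := by
      rw [hd, Function.update_of_ne Fin.zero_ne_one]
    have hd1 : d 1 = ui := by
      rw [hd, Function.update_self]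
    have hdu : IsUnit (diagonal d) := by
      rw [isUnit_diagonal, Pi.isUnit_iff]
      intro i
      by_cases hi : i = 1
      · rw [hi, hd1]
        exact huiu
      · rw [hd, Function.update_of_ne hi]
        exact isUnit_one
    obtain ⟨v12, hv12⟩ : ∃ v12, v12 = v1 * diagonal d := ⟨_, rfl⟩
    have hv12u : IsUnit v12 := by
      rw [hv12]
      exact hv1.mul hdu
    obtain ⟨hm, hhm⟩ : ∃ hm, hm = ct (sg lam) v12 * h * v12 := ⟨_, rfl⟩
    have hhm' : hm = ct (sg lam) (diagonal d) * (ct (sg lam) v1 * h * v1) * diagonal d := by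
      rw [hhm, hv12, ct_mul]
      simp only [Matrix.mul_assoc]
    have hmu : IsUnit hm := by
      rw [hhm]
      exact ((isUnit_ct _ hv12u).mul hh).mul hv12u
    have hmherm : (-1 : A) • ct (sg lam) hm = hm := by
      rw [hhm]
      exact herm_congr lam hlam herm v12
    have hm01 : hm 0 1 = 1 := by
      rw [hhm', congr_diagonal_entry, hd0, hd1, map_one, one_mul, hui]
    have hm10 : hm 1 0 = -1 := by
      rw [herm_entry lam hmherm 1 0, hm01, map_one, mul_one]
    have hmd : ∀ i, hm i i ∈ Ring.jacobson A := diag_mem lam hid h2 hmherm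
    -- reindex
    obtain ⟨h', hh'⟩ : ∃ h', h' = hm.submatrix (eqv n) (eqv n) := ⟨_, rfl⟩
    have hh'u : IsUnit h' := by
      rw [hh']
      exact (isUnit_submatrix_equiv (eqv n) (eqv n)).mpr hmu
    have hherm' : (-1 : A) • ct (sg lam) h' = h' := by
      rw [hh', ct_submatrix]
      show ((-1 : A) • ct (sg lam) hm).submatrix (eqv n) (eqv n) = _
      rw [hmherm]
    have he0 : eqv n (Sum.inl 0) = 0 := Fin.ext (by rw [eqv_inl_val]; rfl)
    have he1 : eqv n (Sum.inl 1) = 1 := Fin.ext (by rw [eqv_inl_val]; rfl)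
    obtain ⟨a, b, c, D, hblk⟩ : ∃ a b c D, h' = fromBlocks a b c D :=
      ⟨_, _, _, _, (fromBlocks_toBlocks h').symm⟩
    have ha : ∀ x y, a x y = hm (eqv n (Sum.inl x)) (eqv n (Sum.inl y)) := by
      intro x y
      have := congrFun (congrFun hblk (Sum.inl x)) (Sum.inl y)
      rw [fromBlocks_apply₁₁, hh', submatrix_apply] at this
      exact this.symm
    have ha00 : a 0 0 ∈ Ring.jacobson A := by rw [ha, he0]; exact hmd 0
    have ha11 : a 1 1 ∈ Ring.jacobson A := by rw [ha, he1]; exact hmd 1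
    have ha01 : a 0 1 = 1 := by rw [ha, he0, he1]; exact hm01
    have ha10 : a 1 0 = -1 := by rw [ha, he0, he1]; exact hm10
    have hdet : IsUnit a.det := by
      rw [det_fin_two, ha01, ha10]
      have : a 0 0 * a 1 1 - 1 * -1 = 1 + a 0 0 * a 1 1 := by ring
      rw [this]
      exact isUnit_add_of_mem_jacobson isUnit_one (Ideal.mul_mem_right _ _ ha00)
    rw [hblk] at hh'u hherm'
    obtain ⟨v2, hv2, hv2e⟩ := schur_congr lam hlam hε a b c D hherm' a⁻¹
      (mul_nonsing_inv a hdet) (nonsing_inv_mul a hdet)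
    obtain ⟨S, hS⟩ : ∃ S : Matrix (Fin n) (Fin n) A, S = D - c * a⁻¹ * b := ⟨_, rfl⟩
    rw [← hS] at hv2e
    have hh2 : IsUnit (fromBlocks a 0 0 S) := by
      rw [← hv2e]
      exact ((isUnit_ct _ hv2).mul hh'u).mul hv2
    have herm2 : (-1 : A) • ct (sg lam) (fromBlocks a 0 0 S) = fromBlocks a 0 0 S := by
      rw [← hv2e]
      exact herm_congr lam hlam hherm' v2
    have hSu : IsUnit S := (isUnit_fromBlocks_zero₂₁.mp hh2).2
    have hSh : (-1 : A) • ct (sg lam) S = S := (herm_blocks lam herm2).2.2.2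
    obtain ⟨hev, v3, hv3, hbf⟩ := ih S hSu hSh
    refine ⟨hev.add (by decide), ?_⟩
    obtain ⟨w, hw⟩ : ∃ w, w = v2 * fromBlocks (1 : Matrix (Fin 2) (Fin 2) A) 0 0 v3 := ⟨_, rfl⟩
    have hwu : IsUnit w := by
      rw [hw]
      exact hv2.mul (isUnit_fromBlocks_one hv3)
    have hwe : ct (sg lam) w * fromBlocks a b c D * w =
        fromBlocks a 0 0 (ct (sg lam) v3 * S * v3) := by
      rw [hw, ct_mul]
      calc ct (sg lam) (fromBlocks (1 : Matrix (Fin 2) (Fin 2) A) 0 0 v3) * ct (sg lam) v2 *
            fromBlocks a b c D * (v2 * fromBlocks (1 : Matrix (Fin 2) (Fin 2) A) 0 0 v3)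
          = ct (sg lam) (fromBlocks (1 : Matrix (Fin 2) (Fin 2) A) 0 0 v3) *
            (ct (sg lam) v2 * fromBlocks a b c D * v2) *
            fromBlocks (1 : Matrix (Fin 2) (Fin 2) A) 0 0 v3 := by
            simp only [Matrix.mul_assoc]
        _ = _ := by rw [hv2e, congr_fromBlocks_diag]
    refine ⟨v12 * w.submatrix (eqv n).symm (eqv n).symm,
      hv12u.mul ((isUnit_submatrix_equiv (eqv n).symm (eqv n).symm).mpr hwu), ?_⟩
    have hmeq : hm = (fromBlocks a b c D).submatrix (eqv n).symm (eqv n).symm := by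
      rw [← hblk, hh', submatrix_submatrix]
      simp
    have hfin : ct (sg lam) (v12 * w.submatrix (eqv n).symm (eqv n).symm) * h *
        (v12 * w.submatrix (eqv n).symm (eqv n).symm) =
        (fromBlocks a 0 0 (ct (sg lam) v3 * S * v3)).submatrix (eqv n).symm (eqv n).symm := by
      rw [ct_mul]
      calc ct (sg lam) (w.submatrix (eqv n).symm (eqv n).symm) * ct (sg lam) v12 * h *
            (v12 * w.submatrix (eqv n).symm (eqv n).symm)
          = ct (sg lam) (w.submatrix (eqv n).symm (eqv n).symm) * hm *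
            w.submatrix (eqv n).symm (eqv n).symm := by
            rw [hhm]
            simp only [Matrix.mul_assoc]
        _ = (ct (sg lam) w).submatrix (eqv n).symm (eqv n).symm *
            (fromBlocks a b c D).submatrix (eqv n).symm (eqv n).symm *
            w.submatrix (eqv n).symm (eqv n).symm := by
            rw [ct_submatrix, ← hmeq]
        _ = (ct (sg lam) w * fromBlocks a b c D * w).submatrix (eqv n).symm (eqv n).symm := by
            rw [submatrix_mul_equiv, submatrix_mul_equiv]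
        _ = _ := by rw [hwe]
    rw [hfin]
    apply blockForm_fromBlocks a _ ha00 ha11 _ _ hbf
    · rw [ha01, sub_self]
      exact Ideal.zero_mem _
    · rw [ha10, neg_add_cancel]
      exact Ideal.zero_mem _

end Main

end Groth.Agent.R2.H60.SkewBlocks
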