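import Mathlib
import Groth.Prelude.Def_W4c2azumayainvolQEt

/-!
Spreading out hermitian congruence data from the local ring `B_p` to a principal localisation `B_b`.
-/

set_option autoImplicit false

namespace Groth.Agent.R2.H60.SpreadCong

open Matrix
open scoped TensorProduct

universe u v

section Cong

variable {B : Type u} {A : Type v} [CommRing B] [CommRing A] [Algebra B A] (lam : A ≃ₐ[B] A)
variable {n : ℕ} (h h' : Matrix (Fin n) (Fin n) A)

/-- the extension `id ⊗ lam` of the involution to `L ⊗ A`. -/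
noncomputable abbrev sg (L : Type*) [CommRing L] [Algebra B L] : (L ⊗[B] A) ≃ₐ[L] (L ⊗[B] A) :=
  Algebra.TensorProduct.congr (AlgEquiv.refl : L ≃ₐ[L] L) lam

/-- the inclusion `A → L ⊗ A`. -/
noncomputable abbrev inc (L : Type*) [CommRing L] [Algebra B L] : A →ₐ[B] L ⊗[B] A :=
  Algebra.TensorProduct.includeRight

/-- `v` is invertible and congruates `h` to `h'` over `L ⊗ A`. -/
def Cong (L : Type*) [CommRing L] [Algebra B L] (v : Matrix (Fin n) (Fin n) (L ⊗[B] A)) : Prop :=
  IsUnit v ∧ (v.map (sg lam L)).transpose * h.map (inc (A := A) L) * v = h'.map (inc (A := A) L)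

/-- the map `L ⊗ A → L' ⊗ A` induced by `χ : L → L'`. -/
noncomputable abbrev hat {L L' : Type*} [CommRing L] [Algebra B L] [CommRing L'] [Algebra B L']
    (χ : L →ₐ[B] L') : L ⊗[B] A →ₐ[B] L' ⊗[B] A :=
  Algebra.TensorProduct.map χ (AlgHom.id B A)

theorem hat_sg {L L' : Type*} [CommRing L] [Algebra B L] [CommRing L'] [Algebra B L']
    (χ : L →ₐ[B] L') (x : L ⊗[B] A) :
    hat (A := A) χ (sg lam L x) = sg lam L' (hat (A := A) χ x) := by
  induction x using TensorProduct.induction_on with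
  | zero => simp
  | tmul l a => simp
  | add x y hx hy => rw [map_add, map_add, map_add, map_add, hx, hy]

theorem hat_inc {L L' : Type*} [CommRing L] [Algebra B L] [CommRing L'] [Algebra B L']
    (χ : L →ₐ[B] L') (a : A) :
    hat (A := A) χ (inc L a) = inc L' a := by
  simp

theorem sg_algebraMap (L : Type*) [CommRing L] [Algebra B L] (t : B) :
    sg lam L (algebraMap B (L ⊗[B] A) t) = algebraMap B (L ⊗[B] A) t := by
  rw [Algebra.TensorProduct.algebraMap_apply]
  simp

/-- transport of congruence data along an algebra map. -/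
theorem Cong.map {L L' : Type*} [CommRing L] [Algebra B L] [CommRing L'] [Algebra B L']
    (χ : L →ₐ[B] L') {v : Matrix (Fin n) (Fin n) (L ⊗[B] A)} (hv : Cong lam h h' L v) :
    Cong lam h h' L' (v.map (hat (A := A) χ)) := by
  obtain ⟨hu, he⟩ := hv
  refine ⟨?_, ?_⟩
  · have := hu.map (hat (A := A) χ).toRingHom.mapMatrix
    simpa using this
  · have h1 := congrArg (fun M => M.map (hat (A := A) χ)) he
    simp only [Matrix.map_mul, Matrix.transpose_map, Matrix.map_map] at h1
    have e1 : (hat (A := A) χ) ∘ (sg lam L) = (sg lam L') ∘ (hat (A := A) χ) := by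
      funext x
      exact hat_sg lam χ x
    have e2 : (hat (A := A) χ) ∘ (inc (A := A) L) = inc (A := A) L' := by
      funext a
      exact hat_inc χ a
    rw [e1, e2] at h1
    simpa [Matrix.map_map] using h1

theorem sg_smul (L : Type*) [CommRing L] [Algebra B L] (t : B) (x : L ⊗[B] A) :
    sg lam L (t • x) = t • sg lam L x := by
  rw [Algebra.smul_def, map_mul, sg_algebraMap, ← Algebra.smul_def]

theorem map_sg_smul (L : Type*) [CommRing L] [Algebra B L] (t : B)
    (X : Matrix (Fin n) (Fin n) (L ⊗[B] A)) :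
    (t • X).map (sg lam L) = t • X.map (sg lam L) := by
  ext i j
  exact sg_smul lam L t (X i j)

theorem map_hat_smul {L L' : Type*} [CommRing L] [Algebra B L] [CommRing L'] [Algebra B L']
    (χ : L →ₐ[B] L') (t : B) (X : Matrix (Fin n) (Fin n) (L ⊗[B] A)) :
    (t • X).map (hat (A := A) χ) = t • X.map (hat (A := A) χ) := by
  ext i j
  exact map_smul (hat (A := A) χ) t (X i j)

theorem map_hat_sg {L L' : Type*} [CommRing L] [Algebra B L] [CommRing L'] [Algebra B L']
    (χ : L →ₐ[B] L') (X : Matrix (Fin n) (Fin n) (L ⊗[B] A)) :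
    (X.map (sg lam L)).map (hat (A := A) χ) = (X.map (hat (A := A) χ)).map (sg lam L') := by
  ext i j
  exact hat_sg lam χ (X i j)

theorem map_hat_inc {L L' : Type*} [CommRing L] [Algebra B L] [CommRing L'] [Algebra B L']
    (χ : L →ₐ[B] L') (H : Matrix (Fin n) (Fin n) A) :
    (H.map (inc (A := A) L)).map (hat (A := A) χ) = H.map (inc (A := A) L') := by
  ext i j
  exact hat_inc χ (H i j)

theorem map_hat_one {L L' : Type*} [CommRing L] [Algebra B L] [CommRing L'] [Algebra B L']
    (χ : L →ₐ[B] L') :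
    (1 : Matrix (Fin n) (Fin n) (L ⊗[B] A)).map (hat (A := A) χ) = 1 := by
  exact Matrix.map_one _ (map_zero _) (map_one _)

/-- transport of a scaled congruence along `hat χ`. -/
theorem scaled_map {L L' : Type*} [CommRing L] [Algebra B L] [CommRing L'] [Algebra B L']
    (χ : L →ₐ[B] L') (t : B) {X Y : Matrix (Fin n) (Fin n) (L ⊗[B] A)}
    (hXY : X * Y = (t * t) • (1 : Matrix (Fin n) (Fin n) (L ⊗[B] A)))
    (hX : (X.map (sg lam L)).transpose * h.map (inc (A := A) L) * X
      = (t * t) • h'.map (inc (A := A) L)) :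
    X.map (hat (A := A) χ) * Y.map (hat (A := A) χ)
        = (t * t) • (1 : Matrix (Fin n) (Fin n) (L' ⊗[B] A)) ∧
    ((X.map (hat (A := A) χ)).map (sg lam L')).transpose * h.map (inc (A := A) L')
        * X.map (hat (A := A) χ) = (t * t) • h'.map (inc (A := A) L') := by
  constructor
  · rw [← Matrix.map_mul, hXY, map_hat_smul, map_hat_one]
  · rw [← map_hat_sg, ← map_hat_inc χ h, ← map_hat_inc χ h', ← Matrix.transpose_map,
      ← Matrix.map_mul, ← Matrix.map_mul, hX, map_hat_smul]


theorem cong_of_scaled (L : Type*) [CommRing L] [Algebra B L] (t : B)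
    (ht : IsUnit (algebraMap B L t)) {X Y : Matrix (Fin n) (Fin n) (L ⊗[B] A)}
    (hXY : X * Y = (t * t) • (1 : Matrix (Fin n) (Fin n) (L ⊗[B] A)))
    (hX : (X.map (sg lam L)).transpose * h.map (inc (A := A) L) * X
      = (t * t) • h'.map (inc (A := A) L)) :
    ∃ v, Cong lam h h' L v := by
  obtain ⟨u, hu⟩ := ht
  have hui : (↑u⁻¹ : L) * algebraMap B L t = 1 := by rw [← hu]; simp
  have hsm : ∀ M : Matrix (Fin n) (Fin n) (L ⊗[B] A),
      ((↑u⁻¹ : L) * (↑u⁻¹ : L)) • ((t * t) • M) = M := by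
    intro M
    rw [← algebraMap_smul L (t * t) M, smul_smul, map_mul]
    have : (↑u⁻¹ : L) * (↑u⁻¹ : L) * (algebraMap B L t * algebraMap B L t) = 1 := by
      calc _ = ((↑u⁻¹ : L) * algebraMap B L t) * ((↑u⁻¹ : L) * algebraMap B L t) := by ring
        _ = 1 := by rw [hui, one_mul]
    rw [this, one_smul]
  refine ⟨(↑u⁻¹ : L) • X, ?_, ?_⟩
  · apply (Matrix.isUnit_iff_isUnit_det _).mpr
    apply Matrix.isUnit_det_of_right_inverse (B := (↑u⁻¹ : L) • Y)
    rw [Matrix.smul_mul, Matrix.mul_smul, smul_smul, hXY, hsm]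
  · have e1 : (((↑u⁻¹ : L) • X).map (sg lam L)) = (↑u⁻¹ : L) • X.map (sg lam L) := by
      ext i j
      simp
    rw [e1, Matrix.transpose_smul, Matrix.smul_mul, Matrix.smul_mul, Matrix.mul_smul, smul_smul,
      hX, hsm]


end Cong



section Descent

variable {B : Type u} [CommRing B] (S : Submonoid B) (L0 : Type u) [CommRing L0] [Algebra B L0]
    (A : Type v) [CommRing A] [Algebra B A]

/-- the base change map `L0 ⊗ A → (L0 ⊗ B_S) ⊗ A`. -/
noncomputable abbrev jhat : L0 ⊗[B] A →ₐ[B] (L0 ⊗[B] Localization S) ⊗[B] A :=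
  hat (A := A) (Algebra.TensorProduct.includeLeft : L0 →ₐ[B] L0 ⊗[B] Localization S)

theorem jhat_loc :
    IsLocalizedModule S ((TensorProduct.AlgebraTensorModule.rTensor B A)
      (IsScalarTower.toAlgHom B L0 (L0 ⊗[B] Localization S)).toLinearMap) := by
  have h1 : IsLocalization (Algebra.algebraMapSubmonoid L0 S) (L0 ⊗[B] Localization S) :=
    inferInstance
  have h2 : IsLocalizedModule S
      (IsScalarTower.toAlgHom B L0 (L0 ⊗[B] Localization S)).toLinearMap :=
    isLocalizedModule_iff_isLocalization.mpr h1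
  exact IsLocalizedModule.rTensor (R := B) (A := B) (N := A) S
    (IsScalarTower.toAlgHom B L0 (L0 ⊗[B] Localization S)).toLinearMap

theorem jhat_eq (x : L0 ⊗[B] A) :
    jhat S L0 A x = (TensorProduct.AlgebraTensorModule.rTensor B A)
      (IsScalarTower.toAlgHom B L0 (L0 ⊗[B] Localization S)).toLinearMap x := by
  induction x using TensorProduct.induction_on with
  | zero => simp
  | tmul l a => simp
  | add x y hx hy => rw [map_add, map_add, hx, hy]

theorem jhat_exists_of_eq {x y : L0 ⊗[B] A} (h : jhat S L0 A x = jhat S L0 A y) :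
    ∃ c : S, c • x = c • y := by
  rw [jhat_eq, jhat_eq] at h
  exact (jhat_loc S L0 A).exists_of_eq h

theorem jhat_common {ι : Type*} [Finite ι] (g : ι → (L0 ⊗[B] Localization S) ⊗[B] A) :
    ∃ (t : S) (X : ι → L0 ⊗[B] A), ∀ i, jhat S L0 A (X i) = (t : B) • g i := by
  have := jhat_loc S L0 A
  obtain ⟨t, ht⟩ := IsLocalizedModule.exist_integer_multiples_of_finite S
    ((TensorProduct.AlgebraTensorModule.rTensor B A)
      (IsScalarTower.toAlgHom B L0 (L0 ⊗[B] Localization S)).toLinearMap) g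
  choose X hX using ht
  exact ⟨t, X, fun i => by rw [jhat_eq]; exact hX i⟩

variable {n : ℕ}

/-- matrices with equal images under `jhat` become equal after multiplying by some `c ∈ S`. -/
theorem mat_exists_of_eq {P Q : Matrix (Fin n) (Fin n) (L0 ⊗[B] A)}
    (h : P.map (jhat S L0 A) = Q.map (jhat S L0 A)) :
    ∃ c : S, (c : B) • P = (c : B) • Q := by
  have h1 : ∀ ij : Fin n × Fin n, ∃ c : S, c • P ij.1 ij.2 = c • Q ij.1 ij.2 := by
    intro ij
    apply jhat_exists_of_eq S L0 A
    have := congrFun (congrFun h ij.1) ij.2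
    simpa using this
  choose c hc using h1
  refine ⟨∏ ij, c ij, ?_⟩
  ext i j
  have hdvd : c (i, j) ∣ ∏ ij, c ij := Finset.dvd_prod_of_mem c (Finset.mem_univ (i, j))
  obtain ⟨d, hd⟩ := hdvd
  have := hc (i, j)
  simp only [Matrix.smul_apply]
  rw [hd, mul_comm, Submonoid.coe_mul, mul_smul, mul_smul]
  congr 1

end Descent

section Descend
variable {B : Type u} [CommRing B] (S : Submonoid B) (L0 : Type u) [CommRing L0] [Algebra B L0]
    {A : Type v} [CommRing A] [Algebra B A] (lam : A ≃ₐ[B] A)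
variable {n : ℕ} (h h' : Matrix (Fin n) (Fin n) A)

theorem descend {v : Matrix (Fin n) (Fin n) ((L0 ⊗[B] Localization S) ⊗[B] A)}
    (hv : Cong lam h h' (L0 ⊗[B] Localization S) v) :
    ∃ (t : S) (X Y : Matrix (Fin n) (Fin n) (L0 ⊗[B] A)),
      X * Y = ((t : B) * (t : B)) • (1 : Matrix (Fin n) (Fin n) (L0 ⊗[B] A)) ∧
      (X.map (sg lam L0)).transpose * h.map (inc (A := A) L0) * X
        = ((t : B) * (t : B)) • h'.map (inc (A := A) L0) := by
  obtain ⟨hu, he⟩ := hv
  obtain ⟨w, hvw, -⟩ : ∃ w, v * w = 1 ∧ w * v = 1 := by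
    obtain ⟨u, rfl⟩ := hu
    exact ⟨↑u⁻¹, by simp, by simp⟩
  obtain ⟨τ, Z, hZ⟩ := jhat_common S L0 A
    (fun x : (Fin n × Fin n) ⊕ (Fin n × Fin n) =>
      Sum.elim (fun ij => v ij.1 ij.2) (fun ij => w ij.1 ij.2) x)
  obtain ⟨X0, hX0d⟩ : ∃ X0 : Matrix (Fin n) (Fin n) (L0 ⊗[B] A),
      X0 = Matrix.of fun i j => Z (Sum.inl (i, j)) := ⟨_, rfl⟩
  obtain ⟨Y0, hY0d⟩ : ∃ Y0 : Matrix (Fin n) (Fin n) (L0 ⊗[B] A),
      Y0 = Matrix.of fun i j => Z (Sum.inr (i, j)) := ⟨_, rfl⟩
  have hX0 : X0.map (jhat S L0 A) = (τ : B) • v := by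
    ext i j
    rw [hX0d]
    simpa using hZ (Sum.inl (i, j))
  have hY0 : Y0.map (jhat S L0 A) = (τ : B) • w := by
    ext i j
    rw [hY0d]
    simpa using hZ (Sum.inr (i, j))
  have e1 : (X0 * Y0).map (jhat S L0 A)
      = ((((τ : B) * (τ : B)) • (1 : Matrix (Fin n) (Fin n) (L0 ⊗[B] A)))).map (jhat S L0 A) := by
    rw [Matrix.map_mul, hX0, hY0, map_hat_smul, map_hat_one, Matrix.smul_mul, Matrix.mul_smul,
      smul_smul, hvw]
  have e2 : ((X0.map (sg lam L0)).transpose * h.map (inc (A := A) L0) * X0).map (jhat S L0 A)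
      = (((τ : B) * (τ : B)) • h'.map (inc (A := A) L0)).map (jhat S L0 A) := by
    rw [Matrix.map_mul, Matrix.map_mul, Matrix.transpose_map, map_hat_sg, map_hat_inc, hX0,
      map_hat_smul, map_hat_inc, map_sg_smul, Matrix.transpose_smul, Matrix.smul_mul,
      Matrix.smul_mul, Matrix.mul_smul, smul_smul, he]
  obtain ⟨c1, hc1⟩ := mat_exists_of_eq S L0 A e1
  obtain ⟨c2, hc2⟩ := mat_exists_of_eq S L0 A e2
  refine ⟨c1 * c2 * τ, ((c1 : B) * (c2 : B)) • X0, ((c1 : B) * (c2 : B)) • Y0, ?_, ?_⟩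
  · rw [Matrix.smul_mul, Matrix.mul_smul, smul_smul]
    have : (c1 : B) * c2 * (c1 * c2) = (c2 * (c1 * c2)) * c1 := by ring
    rw [this, mul_smul, hc1, smul_smul, smul_smul]
    congr 1
    push_cast
    ring
  · rw [map_sg_smul, Matrix.transpose_smul, Matrix.smul_mul, Matrix.smul_mul, Matrix.mul_smul,
      smul_smul]
    have : (c1 : B) * c2 * (c1 * c2) = (c1 * (c1 * c2)) * c2 := by ring
    rw [this, mul_smul, hc2, smul_smul, smul_smul]
    congr 1
    push_cast
    ring


end Descend

section Quad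

variable {l : ℕ}

/-- the ideal `(X_k² - s_k)`. -/
noncomputable abbrev sqI {R : Type*} [CommRing R] (s : Fin l → R) : Ideal (MvPolynomial (Fin l) R) :=
  Ideal.span (Set.range fun k : Fin l => MvPolynomial.X k ^ 2 - MvPolynomial.C (s k))

/-- `R` with square roots of the `s_k` adjoined. -/
abbrev QA (R : Type*) [CommRing R] (s : Fin l → R) : Type _ := MvPolynomial (Fin l) R ⧸ sqI s

variable {R R' : Type*} [CommRing R] [CommRing R']

theorem sqI_le_comap (κ : R →+* R') {s : Fin l → R} {s' : Fin l → R'}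
    (hs : ∀ k, κ (s k) = s' k) : sqI s ≤ (sqI s').comap (MvPolynomial.map κ) := by
  rw [Ideal.span_le]
  rintro _ ⟨k, rfl⟩
  simp only [SetLike.mem_coe, Ideal.mem_comap, map_sub, map_pow, MvPolynomial.map_X,
    MvPolynomial.map_C, hs]
  exact Ideal.subset_span ⟨k, rfl⟩

/-- the map induced on the square root algebras. -/
noncomputable def qMap (κ : R →+* R') {s : Fin l → R} {s' : Fin l → R'}
    (hs : ∀ k, κ (s k) = s' k) : QA R s →+* QA R' s' :=
  Ideal.quotientMap (sqI s') (MvPolynomial.map κ) (sqI_le_comap κ hs)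

theorem qMap_mk (κ : R →+* R') {s : Fin l → R} {s' : Fin l → R'}
    (hs : ∀ k, κ (s k) = s' k) (P : MvPolynomial (Fin l) R) :
    qMap κ hs (Ideal.Quotient.mk _ P) = Ideal.Quotient.mk _ (MvPolynomial.map κ P) :=
  Ideal.quotientMap_mk

theorem algebraMap_QA {B : Type*} [CommRing B] [Algebra B R] (s : Fin l → R) (b : B) :
    algebraMap B (QA R s) b = Ideal.Quotient.mk _ (MvPolynomial.C (algebraMap B R b)) := rfl

theorem qMap_algebraMap {B : Type*} [CommRing B] [Algebra B R] [Algebra B R']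
    (κ : R →+* R') (hκ : ∀ b : B, κ (algebraMap B R b) = algebraMap B R' b)
    {s : Fin l → R} {s' : Fin l → R'}
    (hs : ∀ k, κ (s k) = s' k) (b : B) :
    qMap κ hs (algebraMap B (QA R s) b) = algebraMap B (QA R' s') b := by
  rw [algebraMap_QA, algebraMap_QA, qMap_mk, MvPolynomial.map_C, hκ]

end Quad

section Units

variable {B : Type u} [CommRing B]

theorem exists_units_lift (p : Ideal B) [p.IsPrime] {l : ℕ}
    (s : Fin l → (Localization.AtPrime p)ˣ) :
    ∃ b0 : B, b0 ∈ p.primeCompl ∧ ∃ s' : Fin l → (Localization.Away b0)ˣ,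
      ∀ ψ : Localization.Away b0 →+* Localization.AtPrime p,
        (∀ b : B, ψ (algebraMap B _ b) = algebraMap B _ b) → ∀ k, ψ (s' k) = s k := by
  have h1 : ∀ k, ∃ (a : B) (c : p.primeCompl),
      IsLocalization.mk' (Localization.AtPrime p) a c = (s k : Localization.AtPrime p) := by
    intro k
    exact IsLocalization.exists_mk'_eq p.primeCompl (s k : Localization.AtPrime p)
  choose a c hac using h1
  have ha : ∀ k, a k ∈ p.primeCompl := by
    intro k
    have := (s k).isUnit
    rw [← hac k, IsLocalization.AtPrime.isUnit_mk'_iff] at this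
    exact this
  refine ⟨∏ k, (a k * (c k : B)), ?_, ?_⟩
  · exact Submonoid.prod_mem _ fun k _ => Submonoid.mul_mem _ (ha k) (c k).2
  · set b0 : B := ∏ k, (a k * (c k : B)) with hb0
    have hu0 : IsUnit (algebraMap B (Localization.Away b0) b0) :=
      IsLocalization.Away.algebraMap_isUnit b0
    have hdvd : ∀ k, a k * (c k : B) ∣ b0 := fun k =>
      Finset.dvd_prod_of_mem _ (Finset.mem_univ k)
    have hua : ∀ k, IsUnit (algebraMap B (Localization.Away b0) (a k)) := fun k =>
      isUnit_of_dvd_unit (map_dvd _ ((dvd_mul_right _ _).trans (hdvd k))) hu0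
    have huc : ∀ k, IsUnit (algebraMap B (Localization.Away b0) (c k : B)) := fun k =>
      isUnit_of_dvd_unit (map_dvd _ ((dvd_mul_left _ _).trans (hdvd k))) hu0
    refine ⟨fun k => (hua k).unit * (huc k).unit⁻¹, ?_⟩
    intro ψ hψ k
    have hcu : IsUnit (algebraMap B (Localization.AtPrime p) (c k : B)) :=
      IsLocalization.map_units _ (c k)
    apply hcu.mul_right_cancel
    have e1 : ψ (↑((huc k).unit⁻¹) : Localization.Away b0) *
        algebraMap B (Localization.AtPrime p) (c k : B) = 1 := by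
      rw [← hψ, ← map_mul]
      have : (↑((huc k).unit⁻¹) : Localization.Away b0) * algebraMap B _ (c k : B) = 1 := by
        simp
      rw [this, map_one]
    rw [Units.val_mul, map_mul, mul_assoc, e1, mul_one, IsUnit.unit_spec, hψ, ← hac k,
      IsLocalization.mk'_spec]

end Units

section MvLoc

variable {R : Type*} [CommRing R] (M : Submonoid R) (S : Type*) [CommRing S] [Algebra R S]
  [IsLocalization M S] {σ : Type*}

attribute [local instance] MvPolynomial.algebraMvPolynomial

theorem mv_common_denom {ι : Type*} [Finite ι] (P : ι → MvPolynomial σ S) :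
    ∃ (m : M) (P0 : ι → MvPolynomial σ R), ∀ i,
      MvPolynomial.map (algebraMap R S) (P0 i) = MvPolynomial.C (algebraMap R S m) * P i := by
  obtain ⟨b, hb⟩ := IsLocalization.exist_integer_multiples_of_finite
    (M.map (MvPolynomial.C (σ := σ))) P
  obtain ⟨b, m, hm, rfl⟩ := b
  choose P0 hP0 using hb
  refine ⟨⟨m, hm⟩, P0, fun i => ?_⟩
  have := hP0 i
  rw [MvPolynomial.algebraMap_def] at this
  rw [this, Algebra.smul_def, MvPolynomial.algebraMap_def]
  simp

theorem mv_exists_of_eq {P Q : MvPolynomial σ R}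
    (h : MvPolynomial.map (algebraMap R S) P = MvPolynomial.map (algebraMap R S) Q) :
    ∃ m : M, MvPolynomial.C (m : R) * P = MvPolynomial.C (m : R) * Q := by
  obtain ⟨c, hc⟩ := IsLocalization.exists_of_eq (M := M.map (MvPolynomial.C (σ := σ)))
    (S := MvPolynomial σ S) h
  obtain ⟨c, m, hm, rfl⟩ := c
  exact ⟨⟨m, hm⟩, hc⟩

end MvLoc

section ExistsG

variable {B : Type*} [CommRing B] (S : Submonoid B) (R0 Rp : Type*) [CommRing R0] [CommRing Rp]
  [Algebra B R0] [Algebra B Rp] [Algebra R0 Rp] [IsScalarTower B R0 Rp]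
  [IsLocalization (S.map (algebraMap B R0)) Rp]
  {l : ℕ} (s0 : Fin l → R0) (sp : Fin l → Rp) (hs : ∀ k, algebraMap R0 Rp (s0 k) = sp k)
  {r : ℕ} (f : Fin r → QA Rp sp)

theorem exists_g (hspan : Ideal.span (Set.range f) = ⊤) :
    ∃ (g : Fin r → QA R0 s0) (τ t : S),
      (∀ i, qMap (algebraMap R0 Rp) hs (g i) = algebraMap B (QA Rp sp) (τ : B) * f i) ∧
      algebraMap B (QA R0 s0) (t : B) ∈ Ideal.span (Set.range g) := by
  -- representatives
  have hP : ∀ i, ∃ P : MvPolynomial (Fin l) Rp, Ideal.Quotient.mk (sqI sp) P = f i :=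
    fun i => Ideal.Quotient.mk_surjective (f i)
  choose P hP using hP
  have h1 : (1 : QA Rp sp) ∈ Ideal.span (Set.range f) := by rw [hspan]; trivial
  obtain ⟨H, hH⟩ := (Ideal.mem_span_range_iff_exists_fun).mp h1
  have hH' : ∀ i, ∃ P : MvPolynomial (Fin l) Rp, Ideal.Quotient.mk (sqI sp) P = H i :=
    fun i => Ideal.Quotient.mk_surjective (H i)
  choose H' hH' using hH'
  have h2 : (∑ i, H' i * P i) - 1 ∈ sqI sp := by
    rw [← Ideal.Quotient.eq_zero_iff_mem, map_sub, map_sum, map_one]
    simp only [map_mul, hP, hH', hH, sub_self]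
  obtain ⟨M', hM'⟩ := (Ideal.mem_span_range_iff_exists_fun).mp h2
  -- common denominators
  obtain ⟨m, Z, hZ⟩ := mv_common_denom (S.map (algebraMap B R0)) Rp
    (fun x : (Fin r ⊕ Fin r) ⊕ Fin l => Sum.elim (Sum.elim P H') M' x)
  obtain ⟨_, τ, hτ, rfl⟩ := m
  have hP0 : ∀ i, MvPolynomial.map (algebraMap R0 Rp) (Z (Sum.inl (Sum.inl i)))
      = MvPolynomial.C (algebraMap B Rp τ) * P i := by
    intro i
    have := hZ (Sum.inl (Sum.inl i))
    simpa [← IsScalarTower.algebraMap_apply] using this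
  have hH0 : ∀ i, MvPolynomial.map (algebraMap R0 Rp) (Z (Sum.inl (Sum.inr i)))
      = MvPolynomial.C (algebraMap B Rp τ) * H' i := by
    intro i
    have := hZ (Sum.inl (Sum.inr i))
    simpa [← IsScalarTower.algebraMap_apply] using this
  have hM0 : ∀ k, MvPolynomial.map (algebraMap R0 Rp) (Z (Sum.inr k))
      = MvPolynomial.C (algebraMap B Rp τ) * M' k := by
    intro k
    have := hZ (Sum.inr k)
    simpa [← IsScalarTower.algebraMap_apply] using this
  -- the relation over `R0`
  have hrel : MvPolynomial.map (algebraMap R0 Rp)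
      ((∑ i, Z (Sum.inl (Sum.inr i)) * Z (Sum.inl (Sum.inl i)))
        - MvPolynomial.C (algebraMap B R0 τ) ^ 2)
      = MvPolynomial.map (algebraMap R0 Rp)
        (∑ k, (MvPolynomial.C (algebraMap B R0 τ) * Z (Sum.inr k))
          * (MvPolynomial.X k ^ 2 - MvPolynomial.C (s0 k))) := by
    simp only [map_sub, map_sum, map_mul, map_pow, hP0, hH0, hM0, MvPolynomial.map_C,
      MvPolynomial.map_X, hs, ← IsScalarTower.algebraMap_apply]
    have e1 : ∑ i, (MvPolynomial.C (algebraMap B Rp τ) * H' i)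
        * (MvPolynomial.C (algebraMap B Rp τ) * P i)
        = MvPolynomial.C (algebraMap B Rp τ) ^ 2 * ∑ i, H' i * P i := by
      rw [Finset.mul_sum]
      refine Finset.sum_congr rfl fun i _ => ?_
      ring
    have e2 : ∑ k, (MvPolynomial.C (algebraMap B Rp τ)
        * (MvPolynomial.C (algebraMap B Rp τ) * M' k))
        * (MvPolynomial.X k ^ 2 - MvPolynomial.C (sp k))
        = MvPolynomial.C (algebraMap B Rp τ) ^ 2
          * ∑ k, M' k * (MvPolynomial.X k ^ 2 - MvPolynomial.C (sp k)) := by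
      rw [Finset.mul_sum]
      refine Finset.sum_congr rfl fun i _ => ?_
      ring
    rw [e1, e2, hM']
    ring
  obtain ⟨c, hc⟩ := mv_exists_of_eq (S.map (algebraMap B R0)) Rp hrel
  obtain ⟨_, c, hcS, rfl⟩ := c
  refine ⟨fun i => Ideal.Quotient.mk _ (Z (Sum.inl (Sum.inl i))), ⟨τ, hτ⟩,
    ⟨c * (τ * τ), S.mul_mem hcS (S.mul_mem hτ hτ)⟩, ?_, ?_⟩
  · intro i
    rw [qMap_mk, hP0, map_mul, hP, algebraMap_QA]
  · have h3 := congrArg (Ideal.Quotient.mk (sqI s0)) hc
    have h4 : Ideal.Quotient.mk (sqI s0)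
        (∑ k, (MvPolynomial.C (algebraMap B R0 τ) * Z (Sum.inr k))
          * (MvPolynomial.X k ^ 2 - MvPolynomial.C (s0 k))) = 0 := by
      rw [Ideal.Quotient.eq_zero_iff_mem]
      refine Ideal.sum_mem _ fun k _ => Ideal.mul_mem_left _ _ (Ideal.subset_span ⟨k, rfl⟩)
    rw [map_mul, map_mul, h4, mul_zero, map_sub, mul_sub, sub_eq_zero, map_sum, Finset.mul_sum]
      at h3
    have h5 : algebraMap B (QA R0 s0) (c * (τ * τ))
        = Ideal.Quotient.mk (sqI s0) (MvPolynomial.C (algebraMap B R0 c))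
          * Ideal.Quotient.mk (sqI s0) (MvPolynomial.C (algebraMap B R0 τ) ^ 2) := by
      rw [algebraMap_QA, ← map_mul, ← map_pow, ← map_mul, ← map_pow, ← map_mul]
      congr 2
      ring_nf
    rw [show ((⟨c * (τ * τ), S.mul_mem hcS (S.mul_mem hτ hτ)⟩ : S) : B) = c * (τ * τ) from rfl,
      h5, ← h3]
    refine Ideal.sum_mem _ fun i _ => ?_
    rw [map_mul, ← mul_assoc]
    exact Ideal.mul_mem_left _ _ (Ideal.subset_span ⟨i, rfl⟩)

end ExistsG

section Fwd

variable {B : Type*} [CommRing B] (M0 : Submonoid B) (R0 Rp : Type*) [CommRing R0] [CommRing Rp]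
  [Algebra B R0] [Algebra B Rp] [Algebra R0 Rp] [IsScalarTower B R0 Rp]
  [IsLocalization M0 R0]
  {l : ℕ} (s0 : Fin l → R0) (sp : Fin l → Rp) (hs : ∀ k, algebraMap R0 Rp (s0 k) = sp k)
  (C0 : Type*) [CommRing C0] [Algebra B C0] [Algebra (QA R0 s0) C0] [IsScalarTower B (QA R0 s0) C0]

include M0 in
/-- Lemma T: scalars from `R0` can be moved across the tensor product `C0 ⊗[B] Rp`. -/
theorem tmul_R0 (y : R0) :
    (algebraMap (QA R0 s0) C0 (algebraMap R0 (QA R0 s0) y)) ⊗ₜ[B] (1 : Rp)
      = (1 : C0) ⊗ₜ[B] (algebraMap R0 Rp y) := by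
  have key : ((Algebra.TensorProduct.includeLeft : C0 →ₐ[B] C0 ⊗[B] Rp).toRingHom.comp
      ((algebraMap (QA R0 s0) C0).comp (algebraMap R0 (QA R0 s0))))
      = ((Algebra.TensorProduct.includeRight : Rp →ₐ[B] C0 ⊗[B] Rp).toRingHom.comp
        (algebraMap R0 Rp)) := by
    apply IsLocalization.ringHom_ext M0
    ext b
    simp only [RingHom.coe_comp, Function.comp_apply, AlgHom.toRingHom_eq_coe, RingHom.coe_coe,
      Algebra.TensorProduct.includeLeft_apply, Algebra.TensorProduct.includeRight_apply]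
    rw [← IsScalarTower.algebraMap_apply B R0 (QA R0 s0), ← IsScalarTower.algebraMap_apply B _ C0,
      ← IsScalarTower.algebraMap_apply B R0 Rp, Algebra.algebraMap_eq_smul_one,
      Algebra.algebraMap_eq_smul_one, TensorProduct.smul_tmul]
  exact RingHom.congr_fun key y

/-- the map `Q_p → C0 ⊗ R_p`. -/
noncomputable def theta : QA Rp sp →+* C0 ⊗[B] Rp :=
  Ideal.Quotient.lift (sqI sp)
    (MvPolynomial.eval₂Hom
      (Algebra.TensorProduct.includeRight : Rp →ₐ[B] C0 ⊗[B] Rp).toRingHom
      (fun k => (algebraMap (QA R0 s0) C0 (Ideal.Quotient.mk _ (MvPolynomial.X k))) ⊗ₜ[B] (1 : Rp)))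
    (by
      intro a ha
      have hle : sqI sp ≤ RingHom.ker (MvPolynomial.eval₂Hom
          (Algebra.TensorProduct.includeRight : Rp →ₐ[B] C0 ⊗[B] Rp).toRingHom
          (fun k => (algebraMap (QA R0 s0) C0 (Ideal.Quotient.mk _ (MvPolynomial.X k)))
            ⊗ₜ[B] (1 : Rp))) := by
        rw [Ideal.span_le]
        rintro _ ⟨k, rfl⟩
        simp only [SetLike.mem_coe, RingHom.mem_ker, map_sub, map_pow, MvPolynomial.eval₂Hom_X',
          MvPolynomial.coe_eval₂Hom, MvPolynomial.eval₂_C,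
          AlgHom.toRingHom_eq_coe, RingHom.coe_coe,
          Algebra.TensorProduct.includeRight_apply, Algebra.TensorProduct.tmul_pow, one_pow]
        rw [← hs k, ← tmul_R0 M0 R0 Rp s0 C0 (s0 k), sub_eq_zero, ← map_pow, ← map_pow]
        congr 2
        rw [algebraMap_QA, Ideal.Quotient.eq]
        exact Ideal.subset_span ⟨k, by simp⟩
      exact hle ha)

theorem theta_mk_C (y : Rp) :
    theta M0 R0 Rp s0 sp hs C0 (Ideal.Quotient.mk _ (MvPolynomial.C y)) = (1 : C0) ⊗ₜ[B] y := by
  simp [theta]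

theorem theta_mk_X (k : Fin l) :
    theta M0 R0 Rp s0 sp hs C0 (Ideal.Quotient.mk _ (MvPolynomial.X k))
      = (algebraMap (QA R0 s0) C0 (Ideal.Quotient.mk _ (MvPolynomial.X k))) ⊗ₜ[B] (1 : Rp) := by
  simp [theta]

theorem theta_qMap (q : QA R0 s0) :
    theta M0 R0 Rp s0 sp hs C0 (qMap (algebraMap R0 Rp) hs q)
      = (algebraMap (QA R0 s0) C0 q) ⊗ₜ[B] (1 : Rp) := by
  have key : (theta M0 R0 Rp s0 sp hs C0).comp (qMap (algebraMap R0 Rp) hs)
      = (Algebra.TensorProduct.includeLeft : C0 →ₐ[B] C0 ⊗[B] Rp).toRingHom.comp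
        (algebraMap (QA R0 s0) C0) := by
    apply Ideal.Quotient.ringHom_ext
    apply MvPolynomial.ringHom_ext
    · intro y
      simp only [RingHom.coe_comp, Function.comp_apply, AlgHom.toRingHom_eq_coe, RingHom.coe_coe,
        Algebra.TensorProduct.includeLeft_apply]
      rw [qMap_mk, MvPolynomial.map_C, theta_mk_C]
      exact (tmul_R0 M0 R0 Rp s0 C0 y).symm
    · intro k
      simp only [RingHom.coe_comp, Function.comp_apply, AlgHom.toRingHom_eq_coe, RingHom.coe_coe,
        Algebra.TensorProduct.includeLeft_apply]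
      rw [qMap_mk, MvPolynomial.map_X, theta_mk_X]
  exact RingHom.congr_fun key q

include M0 in
theorem nonempty_fwd (g0 : QA R0 s0) (hg0 : IsUnit (algebraMap (QA R0 s0) C0 g0))
    (f0 : QA Rp sp) (τ : B)
    (hτ : qMap (algebraMap R0 Rp) hs g0 = algebraMap B (QA Rp sp) τ * f0)
    (Cp : Type*) [CommRing Cp] [Algebra B Cp] [Algebra (QA Rp sp) Cp]
    [IsScalarTower B (QA Rp sp) Cp] [IsLocalization.Away f0 Cp] :
    Nonempty (Cp →ₐ[B] C0 ⊗[B] Rp) := by
  have hu : IsUnit (theta M0 R0 Rp s0 sp hs C0 f0) := by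
    have h1 : IsUnit (theta M0 R0 Rp s0 sp hs C0 (qMap (algebraMap R0 Rp) hs g0)) := by
      rw [theta_qMap]
      exact hg0.map (Algebra.TensorProduct.includeLeft : C0 →ₐ[B] C0 ⊗[B] Rp)
    rw [hτ, map_mul] at h1
    exact isUnit_of_mul_isUnit_right h1
  refine ⟨{ toRingHom := IsLocalization.Away.lift f0 hu, commutes' := ?_ }⟩
  intro b
  rw [IsScalarTower.algebraMap_apply B (QA Rp sp) Cp]
  simp only [RingHom.toMonoidHom_eq_coe, OneHom.toFun_eq_coe, MonoidHom.toOneHom_coe,
    MonoidHom.coe_coe, IsLocalization.Away.lift_eq]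
  rw [algebraMap_QA, theta_mk_C, Algebra.TensorProduct.algebraMap_apply,
    Algebra.algebraMap_eq_smul_one, Algebra.algebraMap_eq_smul_one, TensorProduct.smul_tmul]

end Fwd

section Main

variable {B : Type u} {A : Type v} [CommRing B] [CommRing A] [Algebra B A] (lam : A ≃ₐ[B] A)
variable {n : ℕ} (h h' : Matrix (Fin n) (Fin n) A)

theorem isUnit_algebraMap_QA {R : Type*} [CommRing R] [Algebra B R] {l : ℕ} (s : Fin l → R)
    (x : B) (hx : IsUnit (algebraMap B R x)) : IsUnit (algebraMap B (QA R s) x) := by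
  rw [algebraMap_QA]
  exact hx.map ((Ideal.Quotient.mk (sqI s)).comp MvPolynomial.C)

/-- the per-index descent step. -/
theorem step (p : Ideal B) [p.IsPrime] (M0 : Submonoid B) (R0 : Type u) [CommRing R0]
    [Algebra B R0] [IsLocalization M0 R0]
    [Algebra R0 (Localization.AtPrime p)] [IsScalarTower B R0 (Localization.AtPrime p)]
    {l : ℕ} (s0 : Fin l → R0) (sp : Fin l → Localization.AtPrime p)
    (hs : ∀ k, algebraMap R0 (Localization.AtPrime p) (s0 k) = sp k)
    (g0 : QA R0 s0) (f0 : QA (Localization.AtPrime p) sp) (τ : B)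
    (hτ : qMap (algebraMap R0 (Localization.AtPrime p)) hs g0
      = algebraMap B (QA (Localization.AtPrime p) sp) τ * f0)
    (hC : ∀ (C : Type u) [CommRing C] [Algebra B C] [Algebra (QA (Localization.AtPrime p) sp) C]
      [IsScalarTower B (QA (Localization.AtPrime p) sp) C] [IsLocalization.Away f0 C],
      ∃ v : Matrix (Fin n) (Fin n) (C ⊗[B] A), Cong lam h h' C v) :
    ∃ (t : p.primeCompl) (X Y : Matrix (Fin n) (Fin n) (Localization.Away g0 ⊗[B] A)),
      X * Y = ((t : B) * (t : B)) • (1 : Matrix (Fin n) (Fin n) (Localization.Away g0 ⊗[B] A)) ∧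
      (X.map (sg lam (Localization.Away g0))).transpose * h.map (inc (A := A) (Localization.Away g0))
        * X = ((t : B) * (t : B)) • h'.map (inc (A := A) (Localization.Away g0)) := by
  obtain ⟨v, hv⟩ := hC (Localization.Away f0)
  obtain ⟨χ⟩ := nonempty_fwd M0 R0 (Localization.AtPrime p) s0 sp hs (Localization.Away g0) g0
    (IsLocalization.Away.algebraMap_isUnit g0) f0 τ hτ (Localization.Away f0)
  exact descend p.primeCompl (Localization.Away g0) lam h h' (hv.map lam h h' χ)

theorem main_aux (p : Ideal B) [p.IsPrime] (b0 : B) (hb0 : b0 ∈ p.primeCompl)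
    (R0 : Type u) [CommRing R0] [Algebra B R0] [IsLocalization.Away b0 R0]
    [Algebra R0 (Localization.AtPrime p)] [IsScalarTower B R0 (Localization.AtPrime p)]
    {l : ℕ} (s0 : Fin l → R0ˣ) (sp : Fin l → (Localization.AtPrime p)ˣ)
    (hs : ∀ k, algebraMap R0 (Localization.AtPrime p) (s0 k : R0) = (sp k : Localization.AtPrime p))
    {r : ℕ} (f : Fin r → QA (Localization.AtPrime p) (fun k => (sp k : Localization.AtPrime p)))
    (hspan : Ideal.span (Set.range f) = ⊤)
    (hC : ∀ (i : Fin r) (C : Type u) [CommRing C] [Algebra B C]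
      [Algebra (QA (Localization.AtPrime p) (fun k => (sp k : Localization.AtPrime p))) C]
      [IsScalarTower B (QA (Localization.AtPrime p) (fun k => (sp k : Localization.AtPrime p))) C]
      [IsLocalization.Away (f i) C],
      ∃ v : Matrix (Fin n) (Fin n) (C ⊗[B] A), Cong lam h h' C v) :
    ∃ b : B, b ∉ p ∧
      ∃ (l : ℕ) (s : Fin l → (Localization.Away b)ˣ) (r : ℕ)
        (f : Fin r → QA (Localization.Away b) (fun k => (s k : Localization.Away b))),
        Ideal.span (Set.range f) = ⊤ ∧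
        ∀ (i : Fin r) (C : Type u) [CommRing C] [Algebra B C]
          [Algebra (QA (Localization.Away b) (fun k => (s k : Localization.Away b))) C]
          [IsScalarTower B (QA (Localization.Away b) (fun k => (s k : Localization.Away b))) C]
          [IsLocalization.Away (f i) C],
          ∃ v : Matrix (Fin n) (Fin n) (C ⊗[B] A), Cong lam h h' C v := by
  have hle : Submonoid.powers b0 ≤ p.primeCompl := Submonoid.powers_le.mpr hb0
  have hloc : IsLocalization (p.primeCompl.map (algebraMap B R0)) (Localization.AtPrime p) :=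
    IsLocalization.isLocalization_of_submonoid_le R0 _ (Submonoid.powers b0) p.primeCompl hle
  obtain ⟨g, τ, t, hg, ht⟩ := exists_g p.primeCompl R0 (Localization.AtPrime p)
    (fun k => (s0 k : R0)) (fun k => (sp k : Localization.AtPrime p)) hs f hspan
  have key : ∀ i, ∃ (ti : p.primeCompl)
      (X Y : Matrix (Fin n) (Fin n) (Localization.Away (g i) ⊗[B] A)),
      X * Y = ((ti : B) * (ti : B)) •
        (1 : Matrix (Fin n) (Fin n) (Localization.Away (g i) ⊗[B] A)) ∧
      (X.map (sg lam (Localization.Away (g i)))).transpose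
        * h.map (inc (A := A) (Localization.Away (g i))) * X
        = ((ti : B) * (ti : B)) • h'.map (inc (A := A) (Localization.Away (g i))) := fun i =>
    step lam h h' p (Submonoid.powers b0) R0 (fun k => (s0 k : R0))
      (fun k => (sp k : Localization.AtPrime p)) hs (g i) (f i) τ (hg i) (hC i)
  choose ti X Y hXY hXh using key
  -- the element `b`
  obtain ⟨b, hbdef⟩ : ∃ b : B, b = b0 * ((t : B) * ∏ i, (ti i : B)) := ⟨_, rfl⟩
  have hbS : b ∈ p.primeCompl := by
    rw [hbdef]
    exact Submonoid.mul_mem _ hb0 (Submonoid.mul_mem _ t.2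
      (Submonoid.prod_mem _ fun i _ => (ti i).2))
  have hub : IsUnit (algebraMap B (Localization.Away b) b) :=
    IsLocalization.Away.algebraMap_isUnit b
  have hub0 : IsUnit (algebraMap B (Localization.Away b) b0) :=
    isUnit_of_dvd_unit (map_dvd _ (hbdef ▸ dvd_mul_right _ _)) hub
  have hut : IsUnit (algebraMap B (Localization.Away b) (t : B)) :=
    isUnit_of_dvd_unit (map_dvd _ (hbdef ▸ (dvd_mul_right _ _).trans (dvd_mul_left _ _))) hub
  have huti : ∀ i, IsUnit (algebraMap B (Localization.Away b) (ti i : B)) := fun i =>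
    isUnit_of_dvd_unit (map_dvd _ (hbdef ▸ ((Finset.dvd_prod_of_mem (fun i => (ti i : B)) (Finset.mem_univ i)).trans
      (dvd_mul_left _ _)).trans (dvd_mul_left _ _))) hub
  -- the map `κ`
  obtain ⟨κ, hκ⟩ : ∃ κ : R0 →+* Localization.Away b,
      ∀ x : B, κ (algebraMap B R0 x) = algebraMap B (Localization.Away b) x :=
    ⟨IsLocalization.Away.lift b0 hub0, fun x => IsLocalization.Away.lift_eq b0 hub0 x⟩
  have hs'' : ∀ k, κ ((fun k => (s0 k : R0)) k)
      = (fun k => ((Units.map (κ : R0 →* Localization.Away b) (s0 k) : (Localization.Away b)ˣ) :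
        Localization.Away b)) k := fun k => rfl
  refine ⟨b, fun hb => hbS hb, l, fun k => Units.map (κ : R0 →* Localization.Away b) (s0 k), r,
    fun i => qMap κ hs'' (g i), ?_, ?_⟩
  · apply Ideal.eq_top_of_isUnit_mem _ _ (isUnit_algebraMap_QA _ (t : B) hut)
    have h1 := Ideal.mem_map_of_mem (qMap κ hs'') ht
    rw [Ideal.map_span, ← Set.range_comp, qMap_algebraMap κ hκ hs''] at h1
    exact h1
  · intro i C'' _ _ _ _ _
    have hφ : IsUnit (((algebraMap (QA (Localization.Away b) _) C'').comp (qMap κ hs'')) (g i)) :=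
      IsLocalization.Away.algebraMap_isUnit (qMap κ hs'' (g i))
    let χ : Localization.Away (g i) →ₐ[B] C'' :=
      { toRingHom := IsLocalization.Away.lift (g i) hφ
        commutes' := by
          intro x
          rw [IsScalarTower.algebraMap_apply B (QA R0 (fun k => (s0 k : R0)))
            (Localization.Away (g i))]
          simp only [RingHom.toMonoidHom_eq_coe, OneHom.toFun_eq_coe, MonoidHom.toOneHom_coe,
            MonoidHom.coe_coe, IsLocalization.Away.lift_eq]
          rw [RingHom.comp_apply, qMap_algebraMap κ hκ hs'',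
            ← IsScalarTower.algebraMap_apply] }
    obtain ⟨e1, e2⟩ := scaled_map lam h h' χ (ti i : B) (hXY i) (hXh i)
    have hu : IsUnit (algebraMap B C'' (ti i : B)) := by
      rw [IsScalarTower.algebraMap_apply B (QA (Localization.Away b) (fun k =>
        ((Units.map (κ : R0 →* Localization.Away b) (s0 k) : (Localization.Away b)ˣ) :
          Localization.Away b))) C'']
      exact (isUnit_algebraMap_QA _ (ti i : B) (huti i)).map _
    exact cong_of_scaled lam h h' C'' (ti i : B) hu e1 e2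

theorem main (p : Ideal B) [p.IsPrime]
    (hdata : (∃ (l : ℕ) (s : Fin l → (Localization.AtPrime p)ˣ) (r : ℕ) (f : Fin r → (MvPolynomial (Fin l) (Localization.AtPrime p) ⧸ Ideal.span (Set.range fun k : Fin l => MvPolynomial.X k ^ 2 - MvPolynomial.C (s k : Localization.AtPrime p)))),
        Ideal.span (Set.range f) = ⊤ ∧
        ∀ (i : Fin r) (C : Type u) [CommRing C] [Algebra B C]
          [Algebra (MvPolynomial (Fin l) (Localization.AtPrime p) ⧸ Ideal.span (Set.range fun k : Fin l => MvPolynomial.X k ^ 2 - MvPolynomial.C (s k : Localization.AtPrime p))) C]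
          [IsScalarTower B (MvPolynomial (Fin l) (Localization.AtPrime p) ⧸ Ideal.span (Set.range fun k : Fin l => MvPolynomial.X k ^ 2 - MvPolynomial.C (s k : Localization.AtPrime p))) C]
          [IsLocalization.Away (f i) C],
          ∃ v : Matrix (Fin n) (Fin n) (C ⊗[B] A), IsUnit v ∧
            (v.map (Algebra.TensorProduct.congr (AlgEquiv.refl : C ≃ₐ[C] C) lam)).transpose * h.map (Algebra.TensorProduct.includeRight : A →ₐ[B] C ⊗[B] A) * v = h'.map (Algebra.TensorProduct.includeRight : A →ₐ[B] C ⊗[B] A))) :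
    ∃ b : B, b ∉ p ∧
      (∃ (l : ℕ) (s : Fin l → (Localization.Away b)ˣ) (r : ℕ) (f : Fin r → (MvPolynomial (Fin l) (Localization.Away b) ⧸ Ideal.span (Set.range fun k : Fin l => MvPolynomial.X k ^ 2 - MvPolynomial.C (s k : Localization.Away b)))),
        Ideal.span (Set.range f) = ⊤ ∧
        ∀ (i : Fin r) (C : Type u) [CommRing C] [Algebra B C]
          [Algebra (MvPolynomial (Fin l) (Localization.Away b) ⧸ Ideal.span (Set.range fun k : Fin l => MvPolynomial.X k ^ 2 - MvPolynomial.C (s k : Localization.Away b))) C]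
          [IsScalarTower B (MvPolynomial (Fin l) (Localization.Away b) ⧸ Ideal.span (Set.range fun k : Fin l => MvPolynomial.X k ^ 2 - MvPolynomial.C (s k : Localization.Away b))) C]
          [IsLocalization.Away (f i) C],
          ∃ v : Matrix (Fin n) (Fin n) (C ⊗[B] A), IsUnit v ∧
            (v.map (Algebra.TensorProduct.congr (AlgEquiv.refl : C ≃ₐ[C] C) lam)).transpose * h.map (Algebra.TensorProduct.includeRight : A →ₐ[B] C ⊗[B] A) * v = h'.map (Algebra.TensorProduct.includeRight : A →ₐ[B] C ⊗[B] A)) := by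
  obtain ⟨l, s, r, f, hspan, hC⟩ := hdata
  obtain ⟨b0, hb0, s', hs'⟩ := exists_units_lift p s
  have hle : Submonoid.powers b0 ≤ p.primeCompl := Submonoid.powers_le.mpr hb0
  let _ : Algebra (Localization.Away b0) (Localization.AtPrime p) :=
    IsLocalization.localizationAlgebraOfSubmonoidLe _ _ (Submonoid.powers b0) p.primeCompl hle
  have : IsScalarTower B (Localization.Away b0) (Localization.AtPrime p) :=
    IsLocalization.localization_isScalarTower_of_submonoid_le _ _ _ _ hle
  exact main_aux lam h h' p b0 hb0 (Localization.Away b0) s' s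
    (hs' (algebraMap _ _) (fun b => (IsScalarTower.algebraMap_apply _ _ _ b).symm)) f hspan hC

end Main

end Groth.Agent.R2.H60.SpreadCong
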