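import Mathlib
import Groth.Prelude.Def_W4c2azumayainvolQEt
import Groth.Agent.Lib.Helper15QuadEtale

/-!
Congruence of a `2 × 2` skew-hermitian matrix (congruent to the standard alternating matrix modulo
the radical) to the standard alternating matrix after adjoining one square root and passing to the
two charts `1 + X`, `1 - X`.
-/

set_option autoImplicit false

namespace Groth.Agent.R2.H60.SqrtCover

open Matrix
open scoped TensorProduct
open Groth.Agent.Lib.Helper15.QuadEtale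

universe u v

/-- the purely algebraic core: explicit congruence to the standard alternating matrix. -/
theorem abstract_congr {R : Type*} [CommRing R] (σ : R →+* R) (hσ : ∀ x, σ (σ x) = x)
    (p q u ξ : R) (hp : σ p = -p) (hq : σ q = -q) (hξ : σ ξ = ξ)
    (hrel : ξ ^ 2 * (u * σ u) = u * σ u + p * q)
    (hu : IsUnit u) (hy : IsUnit (1 + ξ)) (hξu : IsUnit ξ) (h2 : IsUnit (2 : R)) :
    ∃ v : Matrix (Fin 2) (Fin 2) R, IsUnit v ∧
      (v.map σ)ᵀ * !![p, u; -σ u, q] * v = !![0, 1; -1, 0] := by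
  obtain ⟨ui, hui⟩ := hu.exists_right_inv
  obtain ⟨y, hy⟩ := hy.exists_right_inv
  obtain ⟨ξi, hξi⟩ := hξu.exists_right_inv
  obtain ⟨hf, hhf⟩ := h2.exists_right_inv
  have hsui : σ u * σ ui = 1 := by rw [← map_mul, hui, map_one]
  have hsy : σ y = y := by
    have h1 : (1 + ξ) * σ y = 1 := by
      have := congrArg σ hy
      rwa [map_mul, map_add, map_one, hξ] at this
    linear_combination y * h1 - σ y * hy
  have hsξi : σ ξi = ξi := by
    have h1 : ξ * σ ξi = 1 := by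
      have := congrArg σ hξi
      rwa [map_mul, map_one, hξ] at this
    linear_combination ξi * h1 - σ ξi * hξi
  have hshf : σ hf = hf := by
    have h1 : 2 * σ hf = 1 := by
      have := congrArg σ hhf
      rwa [map_mul, map_one, map_ofNat] at this
    linear_combination hf * h1 - σ hf * hhf
  obtain ⟨sui, hsui'⟩ : ∃ sui, sui = σ ui := ⟨_, rfl⟩
  obtain ⟨su, hsu'⟩ : ∃ su, su = σ u := ⟨_, rfl⟩
  rw [← hsui', ← hsu'] at hsui
  have hssui : σ sui = ui := by rw [hsui', hσ]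
  rw [← hsu'] at hrel
  refine ⟨!![1, (sui * ξi * q * ui * ξi) * hf; -p * y * ui,
    ui * ξi + (sui * ξi * q * ui * ξi) * hf * (-p * y * ui)], ?_, ?_⟩
  · rw [Matrix.isUnit_iff_isUnit_det, Matrix.det_fin_two_of]
    have : (1 : R) * (ui * ξi + sui * ξi * q * ui * ξi * hf * (-p * y * ui)) -
        sui * ξi * q * ui * ξi * hf * (-p * y * ui) = ui * ξi := by ring
    rw [this]
    exact IsUnit.of_mul_eq_one (u * ξ) (by grind)
  · ext i j
    fin_cases i <;> fin_cases j <;>
      simp [Matrix.mul_apply, Fin.sum_univ_two, hp, hq, hsy, hsξi, hshf, ← hsui', ← hsu',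
        hssui] <;>
      grind

section Chart

variable {B : Type u} {A : Type v} [CommRing B] [CommRing A] [Algebra B A]
  (lam : A ≃ₐ[B] A) (hlam : ∀ a, lam (lam a) = a)

include hlam in
theorem congr_involutive {L : Type*} [CommRing L] [Algebra B L] (x : L ⊗[B] A) :
    (Algebra.TensorProduct.congr (AlgEquiv.refl : L ≃ₐ[L] L) lam)
      ((Algebra.TensorProduct.congr (AlgEquiv.refl : L ≃ₐ[L] L) lam) x) = x := by
  induction x using TensorProduct.induction_on with
  | zero => simp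
  | tmul l a => simp [hlam]
  | add x y hx hy => rw [map_add, map_add, hx, hy]

include hlam in
/-- one chart: over a `B`-algebra `L` containing a square root `ξ0` of `s` with `1 + ξ0`
invertible. -/
theorem chart {L : Type*} [CommRing L] [Algebra B L]
    (h : Matrix (Fin 2) (Fin 2) A) (herm : -(h.map lam).transpose = h)
    (hu : IsUnit (h 0 1)) (h2 : IsUnit (2 : A)) (s : B) (hsu : IsUnit s)
    (hs : algebraMap B A s * (h 0 1 * lam (h 0 1)) = h 0 1 * lam (h 0 1) + h 0 0 * h 1 1)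
    (ξ0 : L) (hξ0 : ξ0 ^ 2 = algebraMap B L s) (h1 : IsUnit (1 + ξ0)) :
    ∃ v : Matrix (Fin 2) (Fin 2) (L ⊗[B] A), IsUnit v ∧
      (v.map (Algebra.TensorProduct.congr (AlgEquiv.refl : L ≃ₐ[L] L) lam)).transpose *
        h.map (Algebra.TensorProduct.includeRight : A →ₐ[B] L ⊗[B] A) * v =
      (Matrix.of ![![(0 : A), 1], ![-1, 0]]).map
        (Algebra.TensorProduct.includeRight : A →ₐ[B] L ⊗[B] A) := by
  set ι : A →ₐ[B] L ⊗[B] A := Algebra.TensorProduct.includeRight with hι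
  let σe : (L ⊗[B] A) ≃ₐ[L] (L ⊗[B] A) :=
    Algebra.TensorProduct.congr (AlgEquiv.refl : L ≃ₐ[L] L) lam
  let σ : (L ⊗[B] A) →+* (L ⊗[B] A) := (σe : (L ⊗[B] A) →+* (L ⊗[B] A))
  have hσι : ∀ a, σ (ι a) = ι (lam a) := by
    intro a
    simp [σ, σe, hι]
  have hσ : ∀ x, σ (σ x) = x := fun x => congr_involutive lam hlam x
  -- entries
  have e00 : h 0 0 = -lam (h 0 0) := by
    have := congrFun (congrFun herm 0) 0
    simpa using this.symm
  have e11 : h 1 1 = -lam (h 1 1) := by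
    have := congrFun (congrFun herm 1) 1
    simpa using this.symm
  have e10 : h 1 0 = -lam (h 0 1) := by
    have := congrFun (congrFun herm 1) 0
    simpa using this.symm
  have hp : σ (ι (h 0 0)) = -ι (h 0 0) := by
    have h3 : lam (h 0 0) = -h 0 0 := by linear_combination e00
    rw [hσι, h3, map_neg]
  have hq : σ (ι (h 1 1)) = -ι (h 1 1) := by
    have h3 : lam (h 1 1) = -h 1 1 := by linear_combination e11
    rw [hσι, h3, map_neg]
  have hξ : σ (algebraMap L (L ⊗[B] A) ξ0) = algebraMap L (L ⊗[B] A) ξ0 := σe.commutes ξ0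
  have hξsq : (algebraMap L (L ⊗[B] A) ξ0) ^ 2 = ι (algebraMap B A s) := by
    rw [← map_pow, hξ0, ← IsScalarTower.algebraMap_apply, AlgHom.commutes]
  have hrel : (algebraMap L (L ⊗[B] A) ξ0) ^ 2 * (ι (h 0 1) * σ (ι (h 0 1))) =
      ι (h 0 1) * σ (ι (h 0 1)) + ι (h 0 0) * ι (h 1 1) := by
    rw [hξsq, hσι]
    simp only [← map_mul, ← map_add]
    rw [hs]
  have hξu : IsUnit (algebraMap L (L ⊗[B] A) ξ0) := by
    have : IsUnit ((algebraMap L (L ⊗[B] A) ξ0) * (algebraMap L (L ⊗[B] A) ξ0)) := by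
      rw [← sq, hξsq]
      exact (hsu.map (algebraMap B A)).map ι
    exact isUnit_of_mul_isUnit_left this
  have h1ξ : IsUnit (1 + algebraMap L (L ⊗[B] A) ξ0) := by
    have := h1.map (algebraMap L (L ⊗[B] A))
    rwa [map_add, map_one] at this
  have h2' : IsUnit (2 : L ⊗[B] A) := by
    have := h2.map ι
    rwa [map_ofNat] at this
  obtain ⟨v, hv, hve⟩ := abstract_congr σ hσ (ι (h 0 0)) (ι (h 1 1)) (ι (h 0 1))
    (algebraMap L (L ⊗[B] A) ξ0) hp hq hξ hrel (hu.map ι) h1ξ hξu h2'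
  refine ⟨v, hv, ?_⟩
  have hh : h.map ι = !![ι (h 0 0), ι (h 0 1); -σ (ι (h 0 1)), ι (h 1 1)] := by
    ext i j
    fin_cases i <;> fin_cases j <;> simp [hσι, e10]
  have hstd : (Matrix.of ![![(0 : A), 1], ![-1, 0]]).map ι = !![0, 1; -1, 0] := by
    ext i j
    fin_cases i <;> fin_cases j <;> simp
  rw [hh, hstd]
  exact hve

end Chart

section MainThm

variable {B : Type u} {A : Type v} [CommRing B] [CommRing A] [Algebra B A]
  (lam : A ≃ₐ[B] A) (hlam : ∀ a, lam (lam a) = a)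
  (hB : RInv.IsFixedRing B A lam.toRingEquiv)

include hlam hB in
theorem main (h2 : IsUnit (2 : A))
    (h : Matrix (Fin 2) (Fin 2) A) (herm : -(h.map lam).transpose = h)
    (hJ : ∀ i j : Fin 2, h i j - Matrix.of ![![(0 : A), 1], ![-1, 0]] i j ∈ Ring.jacobson A) :
    ∃ (s t : Bˣ) (r : ℕ) (f : Fin r → (MvPolynomial (Fin 2) B ⧸ Ideal.span ({MvPolynomial.X 0 ^ 2 - MvPolynomial.C (s : B), MvPolynomial.X 1 ^ 2 - MvPolynomial.C (t : B)} : Set (MvPolynomial (Fin 2) B)))),
      Ideal.span (Set.range f) = ⊤ ∧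
      ∀ i : Fin r, ∃ v : Matrix (Fin 2) (Fin 2) (Localization.Away (f i) ⊗[B] A), IsUnit v ∧
        (v.map (Algebra.TensorProduct.congr (AlgEquiv.refl : Localization.Away (f i) ≃ₐ[Localization.Away (f i)] Localization.Away (f i)) lam)).transpose * h.map (Algebra.TensorProduct.includeRight : A →ₐ[B] Localization.Away (f i) ⊗[B] A) * v
          = (Matrix.of ![![(0 : A), 1], ![-1, 0]]).map (Algebra.TensorProduct.includeRight : A →ₐ[B] Localization.Away (f i) ⊗[B] A) := by
  have hlam' : Function.Involutive lam.toRingEquiv := fun a => hlam a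
  -- entries
  have hu : IsUnit (h 0 1) := by
    have h1 := hJ 0 1
    have h3 : h 0 1 = 1 + (h 0 1 - 1) := by ring
    rw [h3]
    refine isUnit_add_of_mem_jacobson isUnit_one ?_
    simpa using h1
  have hp : h 0 0 ∈ Ring.jacobson A := by
    have h1 := hJ 0 0
    simpa using h1
  have e00 : lam (h 0 0) = -h 0 0 := by
    have := congrFun (congrFun herm 0) 0
    have h3 : h 0 0 = -lam (h 0 0) := by simpa using this.symm
    linear_combination h3
  have e11 : lam (h 1 1) = -h 1 1 := by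
    have := congrFun (congrFun herm 1) 1
    have h3 : h 1 1 = -lam (h 1 1) := by simpa using this.symm
    linear_combination h3
  have hN : IsUnit (h 0 1 * lam (h 0 1)) := hu.mul (hu.map lam)
  obtain ⟨Ni, hNi⟩ := hN.exists_right_inv
  have hlamN : lam (h 0 1 * lam (h 0 1)) = h 0 1 * lam (h 0 1) := by
    rw [map_mul, hlam, mul_comm]
  have hlamNi : lam Ni = Ni := by
    have h1 : h 0 1 * lam (h 0 1) * lam Ni = 1 := by
      have := congrArg lam hNi
      rwa [map_mul, hlamN, map_one] at this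
    linear_combination Ni * h1 - lam Ni * hNi
  obtain ⟨Δ, hΔ⟩ : ∃ Δ, Δ = (h 0 1 * lam (h 0 1) + h 0 0 * h 1 1) * Ni := ⟨_, rfl⟩
  have hlamΔ : lam Δ = Δ := by
    rw [hΔ, map_mul, map_add, hlamN, map_mul, e00, e11, hlamNi]
    ring
  obtain ⟨b, hb⟩ := (hB.2 Δ).mp hlamΔ
  have hΔu : IsUnit Δ := by
    have h3 : Δ = 1 + h 0 0 * (h 1 1 * Ni) := by
      rw [hΔ]
      linear_combination hNi
    rw [h3]
    exact isUnit_add_of_mem_jacobson isUnit_one (Ideal.mul_mem_right _ _ hp)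
  have hbu : IsUnit b :=
    isUnit_of_isUnit_algebraMap lam.toRingEquiv hB b (by rw [hb]; exact hΔu)
  have hs : algebraMap B A b * (h 0 1 * lam (h 0 1)) =
      h 0 1 * lam (h 0 1) + h 0 0 * h 1 1 := by
    rw [hb, hΔ]
    linear_combination (h 0 1 * lam (h 0 1) + h 0 0 * h 1 1) * hNi
  have h2B : IsUnit (2 : B) :=
    isUnit_of_isUnit_algebraMap lam.toRingEquiv hB 2 (by rw [map_ofNat]; exact h2)
  refine ⟨hbu.unit, 1, 2, ?_⟩
  obtain ⟨I, hI⟩ : ∃ I : Ideal (MvPolynomial (Fin 2) B), I = Ideal.span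
      ({MvPolynomial.X 0 ^ 2 - MvPolynomial.C ((hbu.unit : Bˣ) : B),
        MvPolynomial.X 1 ^ 2 - MvPolynomial.C (((1 : Bˣ) : Bˣ) : B)} :
          Set (MvPolynomial (Fin 2) B)) := ⟨_, rfl⟩
  rw [← hI]
  obtain ⟨x0, hx0⟩ : ∃ x0 : MvPolynomial (Fin 2) B ⧸ I,
      x0 = Ideal.Quotient.mk I (MvPolynomial.X 0) := ⟨_, rfl⟩
  have hx0sq : x0 ^ 2 = algebraMap B (MvPolynomial (Fin 2) B ⧸ I) b := by
    rw [hx0, ← map_pow]
    have h3 : algebraMap B (MvPolynomial (Fin 2) B ⧸ I) b =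
        Ideal.Quotient.mk I (MvPolynomial.C b) := rfl
    rw [h3, Ideal.Quotient.eq, hI]
    apply Ideal.subset_span
    left
    simp
  have h2B' : IsUnit (2 : MvPolynomial (Fin 2) B ⧸ I) := by
    have := h2B.map (algebraMap B (MvPolynomial (Fin 2) B ⧸ I))
    rwa [map_ofNat] at this
  refine ⟨![1 + x0, 1 - x0], ?_, ?_⟩
  · refine Ideal.eq_top_of_isUnit_mem _ ?_ h2B'
    have h3 : (2 : MvPolynomial (Fin 2) B ⧸ I) = (1 + x0) + (1 - x0) := by ring
    rw [h3]
    refine Ideal.add_mem _ (Ideal.subset_span ⟨0, rfl⟩) (Ideal.subset_span ⟨1, rfl⟩)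
  · intro i
    obtain ⟨ξ', hsq, hfi⟩ : ∃ ξ' : MvPolynomial (Fin 2) B ⧸ I,
        ξ' ^ 2 = algebraMap B (MvPolynomial (Fin 2) B ⧸ I) b ∧
          (![1 + x0, 1 - x0] : Fin 2 → MvPolynomial (Fin 2) B ⧸ I) i = 1 + ξ' := by
      fin_cases i
      · exact ⟨x0, hx0sq, rfl⟩
      · exact ⟨-x0, by rw [show (-x0) ^ 2 = x0 ^ 2 by ring]; exact hx0sq, by simp [sub_eq_add_neg]⟩
    generalize (![1 + x0, 1 - x0] : Fin 2 → MvPolynomial (Fin 2) B ⧸ I) i = g at hfi ⊢
    subst hfi
    refine chart lam hlam h herm hu h2 b hbu hs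
      (algebraMap (MvPolynomial (Fin 2) B ⧸ I) (Localization.Away (1 + ξ')) ξ') ?_ ?_
    · rw [← map_pow, hsq, ← IsScalarTower.algebraMap_apply]
    · have := IsLocalization.Away.algebraMap_isUnit (S := Localization.Away (1 + ξ')) (1 + ξ')
      rwa [map_add, map_one] at this

end MainThm

end Groth.Agent.R2.H60.SqrtCover
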