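import Mathlib
import Groth.Agent.R2.H70StabCtx
import Groth.Agent.R2.H70StabSpec
import Groth.Agent.R2.H60StabSat

/-!
# Semistable objects of a fixed reduced Hilbert polynomial form an abelian subcategory
(helper60, PROJ:shstab, abstract form of S15272)

For `H : HilbCtx C` (helper70's abstract context), `E`, `F` semistable of dimension `d` with
`RedEq d pE pF` and `f : E ⟶ F`: the kernel and the cokernel of `f` are zero or semistable of dimension `d`
with the same reduced Hilbert polynomial.

* `redEq_trans`, `isSemistable_of_iso`;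
* `kernel_cokernel_isSemistable`: the abstract statement;
* `s15272_of (hctx : PkgCtx.{0})`: the frozen statement S15272.
-/

set_option autoImplicit false

universe v u

open CategoryTheory CategoryTheory.Limits Polynomial StabCat

namespace Groth.Agent.R2.H60.StabAb

open Groth.Agent.R2.H70.StabPoly Groth.Agent.R2.H70.StabCtx Groth.Agent.R2.H60.StabSat

/-! ### polynomial lemmas -/

theorem redEq_refl (d : ℕ) (P : ℚ[X]) : RedEq d P P := rfl

theorem redEq_trans {d : ℕ} {P Q R : ℚ[X]} (hQ : alpha d Q ≠ 0) (h₁ : RedEq d P Q) (h₂ : RedEq d Q R) :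
    RedEq d P R := by
  unfold RedEq at *
  have e : alpha d Q • (alpha d R • P) = alpha d Q • (alpha d P • R) := by
    rw [smul_comm, h₁, smul_comm, h₂, smul_comm]
  exact smul_right_injective _ hQ e

/-- `p(P) = p(Q)` and equal multiplicities force `P = Q` -/
theorem eq_of_redEq_of_alpha_eq {d : ℕ} {P Q : ℚ[X]} (h : RedEq d P Q) (ha : alpha d P = alpha d Q)
    (hQ : alpha d Q ≠ 0) : P = Q := by
  unfold RedEq at h
  rw [ha] at h
  exact smul_right_injective _ hQ h

variable {C : Type u} [Category.{v} C] [Abelian C] (H : HilbCtx C)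

theorem isSemistable_of_iso {d : ℕ} {F F' : C} (e : F ≅ F') (h : H.IsSemistable F d) :
    H.IsSemistable F' d := by
  refine ⟨H.ok_iso e h.1, fun h0 => h.2.1 (h0.of_iso e), h.2.2.1.of_iso H e, ?_⟩
  intro S ι hι hS hS0 hni pS pF' hpS hpF'
  have := hι
  have hm : Mono (ι ≫ e.inv) := mono_comp _ _
  refine h.2.2.2 S (ι ≫ e.inv) hm hS hS0 ?_ pS pF' hpS (H.HP_iso e.symm hpF')
  intro hiso
  apply hni
  have e2 : ι = (ι ≫ e.inv) ≫ e.hom := by simp
  rw [e2]
  infer_instance

/-- the reduced comparison of a subobject (not necessarily proper) of a semistable object -/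
theorem redLE_of_mono_of_isSemistable {d : ℕ} {E S : C} (hE : H.IsSemistable E d) (ι : S ⟶ E) [Mono ι]
    (hS : H.ok S) (hS0 : ¬ IsZero S) {pS pE : ℚ[X]} (hpS : H.HP S pS) (hpE : H.HP E pE) :
    RedLE d pS pE := by
  by_cases hiso : IsIso ι
  · exact redLE_of_eq (H.HP_unique (H.HP_iso (asIso ι) hpS) hpE)
  · exact hE.2.2.2 S ι inferInstance hS hS0 hiso pS pE hpS hpE

/-- the reduced comparison of a quotient (not necessarily proper) of positive multiplicity of a semistable
object -/
theorem redLE_of_epi_of_isSemistable {d : ℕ} {E G : C} (hE : H.IsSemistable E d) (π : E ⟶ G) [Epi π]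
    (hG : H.ok G) {pE pG : ℚ[X]} (hpE : H.HP E pE) (hpG : H.HP G pG) (hpos : 0 < alpha d pG) :
    RedLE d pE pG := by
  by_cases hiso : IsIso π
  · exact redLE_of_eq (H.HP_unique hpE (H.HP_iso (asIso π).symm hpG))
  · have h := (isSemistable_tfae H hE.1 hE.2.1 hE.2.2.1).out 0 2
    exact h.1 hE G π inferInstance hG hiso pE pG hpE hpG hpos

/-- **Kernels and cokernels of maps between semistable objects of the same reduced Hilbert polynomial.** -/
theorem kernel_cokernel_isSemistable {d : ℕ} {E F : C} (hE : H.IsSemistable E d) (hF : H.IsSemistable F d)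
    {pE pF : ℚ[X]} (hpE : H.HP E pE) (hpF : H.HP F pF) (hred : RedEq d pE pF) (f : E ⟶ F) :
    (IsZero (kernel f) ∨ (H.IsSemistable (kernel f) d ∧
        ∀ pK : ℚ[X], H.HP (kernel f) pK → RedEq d pK pE)) ∧
    (IsZero (cokernel f) ∨ (H.IsSemistable (cokernel f) d ∧
        ∀ pQ : ℚ[X], H.HP (cokernel f) pQ → RedEq d pQ pE)) := by
  have okE := hE.1
  have okF := hF.1
  have hdE : H.dim E = (d : WithBot ℕ∞) := hE.2.2.1.dim_eq H okE hE.2.1
  have hdF : H.dim F = (d : WithBot ℕ∞) := hF.2.2.1.dim_eq H okF hF.2.1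
  have aE : 0 < alpha d pE := H.alpha_pos d okE hdE hpE
  have aF : 0 < alpha d pF := H.alpha_pos d okF hdF hpF
  -- the image
  obtain ⟨π, hπ⟩ : ∃ π : E ⟶ Abelian.image f, π = Abelian.factorThruImage f := ⟨_, rfl⟩
  obtain ⟨ι, hι⟩ : ∃ ι : Abelian.image f ⟶ F, ι = Abelian.image.ι f := ⟨_, rfl⟩
  have hfac : π ≫ ι = f := by rw [hπ, hι]; exact Abelian.image.fac f
  have hπe : Epi π := by rw [hπ]; infer_instance
  have hιm : Mono ι := by rw [hι]; infer_instance
  have okI : H.ok (Abelian.image f) := H.ok_image f okE okF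
  obtain ⟨pI, hpI⟩ := H.HP_exists okI
  by_cases hI0 : IsZero (Abelian.image f)
  · -- `f = 0`
    have hf0 : f = 0 := by rw [← hfac, hI0.eq_of_tgt π 0, Limits.zero_comp]
    subst hf0
    refine ⟨Or.inr ⟨isSemistable_of_iso H kernelZeroIsoSource.symm hE, fun pK hpK => ?_⟩,
      Or.inr ⟨isSemistable_of_iso H cokernelZeroIsoTarget.symm hF, fun pQ hpQ => ?_⟩⟩
    · rw [H.HP_unique hpK (H.HP_iso kernelZeroIsoSource.symm hpE)]
      exact redEq_refl d pE
    · rw [H.HP_unique hpQ (H.HP_iso cokernelZeroIsoTarget.symm hpF)]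
      exact redEq_symm hred
  · -- the image is nonzero, pure of dimension `d`, with the same reduced Hilbert polynomial
    have pureI : H.IsPure (Abelian.image f) d := hF.2.2.1.of_mono H ι
    have hdI : H.dim (Abelian.image f) = (d : WithBot ℕ∞) := pureI.dim_eq H okI hI0
    have aI : 0 < alpha d pI := H.alpha_pos d okI hdI hpI
    have h1 : RedLE d pE pI := redLE_of_epi_of_isSemistable H hE π okI hpE hpI aI
    have h2 : RedLE d pI pF := redLE_of_mono_of_isSemistable H hF ι okI hI0 hpI hpF
    have h3 : RedLE d pI pE := redLE_of_redLE_of_redEq aI.le aF aE.le h2 (redEq_symm hred)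
    have hIE : RedEq d pI pE := redEq_of_redLE_of_redLE h3 h1
    have hIF : RedEq d pI pF := redEq_trans aE.ne' hIE hred
    refine ⟨?_, ?_⟩
    · -- the kernel
      have eK : kernel f ≅ kernel π :=
        kernelIsoOfEq hfac.symm ≪≫ kernelCompMono π ι
      have okK : H.ok (kernel π) := H.ok_kernel π okE okI
      have hpK : H.HP (kernel π) (pE - pI) := H.HP_kernel π okE okI hpE hpI
      have hKE : RedEq d (pE - pI) pE := redEq_sub_left_iff.2 (redEq_symm hIE)
      by_cases hK0 : IsZero (kernel π)
      · exact Or.inl (hK0.of_iso eK)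
      · refine Or.inr ⟨isSemistable_of_iso H eK.symm ?_, fun pK hpK' => ?_⟩
        · have pureK : H.IsPure (kernel π) d := hE.2.2.1.of_mono H (kernel.ι π)
          have aK : 0 < alpha d (pE - pI) :=
            H.alpha_pos d okK (pureK.dim_eq H okK hK0) hpK
          refine ⟨okK, hK0, pureK, ?_⟩
          intro S σ hσ hS hS0 _ pS pK' hpS hpK'
          have := hσ
          have hm : Mono (σ ≫ kernel.ι π) := mono_comp _ _
          have e1 : RedLE d pS pE :=
            redLE_of_mono_of_isSemistable H hE (σ ≫ kernel.ι π) hS hS0 hpS hpE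
          have aS : 0 ≤ alpha d pS :=
            H.alpha_nonneg hS ((H.dim_le_of_mono (σ ≫ kernel.ι π) hS okE).trans hdE.le) hpS
          rw [H.HP_unique hpK' hpK]
          exact redLE_of_redLE_of_redEq aS aE aK.le e1 (redEq_symm hKE)
        · rw [H.HP_unique hpK' (H.HP_iso eK.symm hpK)]
          exact hKE
    · -- the cokernel
      have eQ : cokernel f ≅ cokernel ι :=
        cokernelIsoOfEq hfac.symm ≪≫ cokernelEpiComp π ι
      have okQ : H.ok (cokernel ι) := H.ok_cokernel ι okI okF
      have hpQ : H.HP (cokernel ι) (pF - pI) := H.HP_cokernel ι okI okF hpI hpF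
      have hQF : RedEq d (pF - pI) pF := redEq_sub_left_iff.2 (redEq_symm hIF)
      have hQE : RedEq d (pF - pI) pE := redEq_trans aF.ne' hQF (redEq_symm hred)
      by_cases hQ0 : IsZero (cokernel ι)
      · exact Or.inl (hQ0.of_iso eQ)
      · refine Or.inr ⟨isSemistable_of_iso H eQ.symm ?_, fun pQ hpQ' => ?_⟩
        · -- purity of the cokernel: the saturation of the image is the image
          obtain ⟨I', ι', φ, hι', hφ, okI', hpure, hHP⟩ := exists_saturation H ι okI okF hdF.le
          obtain ⟨pT, hpI', hT0, hTpos⟩ := hHP hpI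
          have := hι'
          have hI'0 : ¬ IsZero I' := by
            intro h
            apply hI0
            have hφm : Mono φ := by
              have : Mono (φ ≫ ι') := by rw [hφ]; exact hιm
              exact mono_of_mono φ ι'
            exact IsZero.of_mono φ h
          have e1 : RedLE d (pI + pT) pF := redLE_of_mono_of_isSemistable H hF ι' okI' hI'0 hpI' hpF
          -- `pT ≤ 0` eventually
          have hT : pT = 0 := by
            apply polyLE_antisymm _ hTpos
            unfold RedLE at e1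
            rw [alpha_add, hT0, add_zero] at e1
            have e2 : alpha d pF • pI = alpha d pI • pF := hIF
            rw [smul_add, ← e2] at e1
            -- `aF • pI + aF • pT ≤ aF • pI`
            have e3 : PolyLE (alpha d pF • pT) (alpha d pF • (0 : ℚ[X])) := by
              rw [smul_zero]
              obtain ⟨N, hN⟩ := e1
              refine ⟨N, fun m hm => ?_⟩
              have := hN m hm
              simp only [eval_add, eval_smul, eval_zero, smul_eq_mul] at this ⊢
              linarith
            exact polyLE_of_smul aF e3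
          rw [hT, add_zero] at hpI'
          have hφm : Mono φ := by
            have : Mono (φ ≫ ι') := by rw [hφ]; exact hιm
            exact mono_of_mono φ ι'
          have okC : H.ok (cokernel φ) := H.ok_cokernel φ okI okI'
          have hpC : H.HP (cokernel φ) (pI - pI) := H.HP_cokernel φ okI okI' hpI hpI'
          rw [sub_self] at hpC
          have hdC : H.dim (cokernel φ) ≤ (d : WithBot ℕ∞) :=
            ((H.dim_cokernel_le φ okI okI').trans (H.dim_le_of_mono ι' okI' okF)).trans hdF.le
          have hC0 : IsZero (cokernel φ) := H.isZero_of_HP_zero okC hdC hpC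
          have hφe : Epi φ := Preadditive.epi_of_isZero_cokernel _ hC0
          have hφi : IsIso φ := isIso_of_mono_of_epi φ
          have eQ' : cokernel ι ≅ cokernel ι' :=
            cokernelIsoOfEq hφ.symm ≪≫ cokernelEpiComp φ ι'
          have pureQ : H.IsPure (cokernel ι) d := hpure.of_iso H eQ'.symm
          have aQ : 0 < alpha d (pF - pI) :=
            H.alpha_pos d okQ (pureQ.dim_eq H okQ hQ0) hpQ
          -- semistability through quotients
          have htf := (isSemistable_tfae H okQ hQ0 pureQ).out 0 2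
          refine htf.2 ?_
          intro G ρ hρ hG _ pQ' pG hpQ' hpG hpos
          have := hρ
          have he : Epi (cokernel.π ι ≫ ρ) := epi_comp _ _
          have e4 : RedLE d pF pG :=
            redLE_of_epi_of_isSemistable H hF (cokernel.π ι ≫ ρ) hG hpF hpG hpos
          rw [H.HP_unique hpQ' hpQ]
          exact redLE_trans aQ.le aF hpos.le (redLE_of_redEq hQF) e4
        · rw [H.HP_unique hpQ' (H.HP_iso eQ.symm hpQ)]
          exact hQE

/-! ### the frozen statement -/

open AlgebraicGeometry Groth.Agent.R2.H70.StabSpec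

theorem s15272_of (hctx : PkgCtx.{0})
    (X : Scheme.{0}) [X.Over (Spec (CommRingCat.of ℂ))] [IsProper (X ↘ Spec (CommRingCat.of ℂ))]
    (L : X.Modules) (hL : CohB1.IsAmple L) (d : ℕ)
    (E F : X.Modules) (hE : ShStab.IsSemistable ℂ X L E d) (hF : ShStab.IsSemistable ℂ X L F d)
    (pE pF : Polynomial ℚ) (hpE : ShStab.IsHilbPoly ℂ X L E pE) (hpF : ShStab.IsHilbPoly ℂ X L F pF)
    (hred : StabCat.RedEq d pE pF) (f : E ⟶ F) :
    (IsZero (kernel f) ∨ (ShStab.IsSemistable ℂ X L (kernel f) d ∧
        ∀ pK : Polynomial ℚ, ShStab.IsHilbPoly ℂ X L (kernel f) pK → StabCat.RedEq d pK pE)) ∧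
    (IsZero (cokernel f) ∨ (ShStab.IsSemistable ℂ X L (cokernel f) d ∧
        ∀ pQ : Polynomial ℚ, ShStab.IsHilbPoly ℂ X L (cokernel f) pQ → StabCat.RedEq d pQ pE)) := by
  obtain ⟨Γ⟩ := hctx ℂ X L hL
  have h := kernel_cokernel_isSemistable Γ.H (d := d) ((Γ.isSemistable_iff E d).2 hE)
    ((Γ.isSemistable_iff F d).2 hF) (pE := pE) (pF := pF) (Γ.HP_eq ▸ hpE) (Γ.HP_eq ▸ hpF) hred f
  simp only [Γ.isSemistable_iff, Γ.HP_eq] at h
  exact h

end Groth.Agent.R2.H60.StabAb
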