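import Mathlib
import Groth.Agent.R2.H70StabCtx
import Groth.Agent.R2.H70StabSpec
import Groth.Agent.R2.H37StabMU
import Groth.Agent.R2.H60StabSat

/-!
# The last factor of an `ℓ`-Harder–Narasimhan filtration is the minimal `ℓ`-destabilising quotient
(helper60, PROJ:shstab, abstract form of S18973)

For `H : HilbCtx C` (helper70's abstract context), `E` with an `ℓ`-HN filtration `s` (factors `ℓ`-semistable
of dimension `d`, reduced `ℓ`-truncated polynomials strictly decreasing) and `q : E ⟶ G` an epimorphism onto a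
nonzero `ok` object pure of dimension `d`:

* `main_ineq`: `p_ℓ(F) ≤ p_ℓ(G)` for the last factor `F`, strictly if `q` does not kill `s (m-1)`;
* `exists_iso_last`: if `α_d(G) = α_d(F)` and `p_ℓ(G) = p_ℓ(F)` then `F ≅ G` as quotients of `E`;
* `s18973_of (hctx : PkgCtx)`: the frozen statement S18973.
-/

set_option autoImplicit false

universe v u

open CategoryTheory CategoryTheory.Limits Polynomial StabCat

namespace Groth.Agent.R2.H60.StabEllHN

open Groth.Agent.R2.H70.StabPoly Groth.Agent.R2.H70.StabCtx Groth.Agent.R2.H60.StabSat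
  Groth.Agent.R2.H37.StabMU

variable {C : Type u} [Category.{v} C] [Abelian C] (H : HilbCtx C) (d ℓ : ℕ)

/-- abstract form of `ShStab.IsEllSemistable` -/
def EllSS (E : C) : Prop := H.ok E ∧ ¬ IsZero E ∧ H.IsPure E d ∧ IsEllSS H.ok H.HP d ℓ E

/-- the `ℓ`-truncated Hilbert polynomial relation -/
def HPt (G : C) (P : ℚ[X]) : Prop := ∃ Q : ℚ[X], H.HP G Q ∧ P = topPart ℓ d Q

variable {H d ℓ}

/-- quotient form of `ℓ`-semistability -/
theorem redLE_topPart_of_epi {gr I : C} (hgr : EllSS H d ℓ gr) (ψ : gr ⟶ I) [Epi ψ] (hI : H.ok I)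
    {p pI : ℚ[X]} (hp : H.HP gr p) (hpI : H.HP I pI) (hpos : 0 < alpha d pI) :
    RedLE d (topPart ℓ d p) (topPart ℓ d pI) := by
  have okN := H.ok_kernel ψ hgr.1 hI
  have hpN := H.HP_kernel ψ hgr.1 hI hp hpI
  by_cases hN0 : IsZero (kernel ψ)
  · have : Mono ψ := Preadditive.mono_of_isZero_kernel _ hN0
    have : IsIso ψ := isIso_of_mono_of_epi ψ
    rw [H.HP_unique hpI (H.HP_iso (asIso ψ) hp)]
    exact redLE_refl _ _
  · have aN : 0 < alpha d (p - pI) := hgr.2.2.1.alpha_pos H (kernel.ι ψ) okN hN0 hpN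
    have hlt : alpha d (p - pI) < alpha d p := by rw [alpha_sub]; linarith
    have h := hgr.2.2.2 (kernel ψ) (kernel.ι ψ) inferInstance okN (p - pI) p hpN hp aN hlt
    rw [topPart_sub] at h
    exact redLE_sub_left_iff.1 h

/-- saturation does not decrease the reduced truncated polynomial -/
theorem exists_saturation_topPart {G I : C} (ι : I ⟶ G) [Mono ι] (hI : H.ok I) (hG : H.ok G)
    (hdG : H.dim G ≤ (d : WithBot ℕ∞)) {pI : ℚ[X]} (hpI : H.HP I pI) (hI0 : ¬ IsZero I)
    (aI : 0 ≤ alpha d pI) :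
    ∃ (I' : C) (ι' : I' ⟶ G) (pI' : ℚ[X]), Mono ι' ∧ H.ok I' ∧ ¬ IsZero I' ∧
      H.IsPure (cokernel ι') d ∧ H.HP I' pI' ∧ alpha d pI' = alpha d pI ∧
      RedLE d (topPart ℓ d pI) (topPart ℓ d pI') := by
  obtain ⟨I', ι', φ, hι', hφ, okI', hpure, hHP⟩ := exists_saturation H ι hI hG hdG
  obtain ⟨pT, hpI', hT0, hTpos⟩ := hHP hpI
  have := hι'
  have hφm : Mono φ := by
    have : Mono (φ ≫ ι') := by rw [hφ]; infer_instance
    exact mono_of_mono φ ι'
  have hdI : H.dim I ≤ (d : WithBot ℕ∞) := (H.dim_le_of_mono ι hI hG).trans hdG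
  have hdI' : H.dim I' ≤ (d : WithBot ℕ∞) := (H.dim_le_of_mono ι' okI' hG).trans hdG
  have hdeg : pT.natDegree ≤ d := by
    have e : pT = (pI + pT) - pI := by ring
    rw [e]
    exact (natDegree_sub_le _ _).trans
      (max_le (H.natDegree_le d okI' hdI' hpI') (H.natDegree_le d hI hdI hpI))
  refine ⟨I', ι', pI + pT, hι', okI', fun h => hI0 (IsZero.of_mono φ h), hpure, hpI', ?_, ?_⟩
  · rw [alpha_add, hT0, add_zero]
  · rw [topPart_add, redLE_add_right_iff]
    unfold RedLE
    rw [alpha_topPart, alpha_topPart, hT0, zero_smul]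
    have h := polyLE_smul (polyLE_zero_topPart ℓ d hdeg hTpos) aI
    rwa [smul_zero] at h

/-- a map to `G` that does not vanish on `s k` induces a nonzero map from an earlier factor -/
theorem exists_factor_map {E G : C} (s : LTSeries (Subobject E)) (hhead : s.head = ⊥) (q : E ⟶ G) :
    ∀ (n : ℕ) (k : Fin (s.length + 1)), k.val = n → (s k).arrow ≫ q ≠ 0 →
      ∃ (i : Fin s.length) (ψ : factor s i ⟶ G), ψ ≠ 0 ∧ i.val < k.val := by
  intro n
  induction n with
  | zero =>
    intro k hk0 hk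
    exfalso
    apply hk
    have hk' : k = 0 := Fin.ext hk0
    subst hk'
    have h0 : s 0 = ⊥ := hhead
    rw [h0, Subobject.bot_arrow, Limits.zero_comp]
  | succ n ih =>
    intro k hkn hk
    have hk0 : k ≠ 0 := by
      intro h
      rw [h] at hkn
      simp at hkn
    obtain ⟨i, rfl⟩ := Fin.exists_succ_eq.2 hk0
    by_cases hz : (s i.castSucc).arrow ≫ q = 0
    · have hw : Subobject.ofLE (s i.castSucc) (s i.succ) (le_of_lt (s.step i)) ≫
          ((s i.succ).arrow ≫ q) = 0 := by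
        rw [Subobject.ofLE_arrow_assoc, hz]
      obtain ⟨ψ, hψ⟩ : ∃ ψ : cokernel (Subobject.ofLE (s i.castSucc) (s i.succ) (le_of_lt (s.step i))) ⟶ G,
          cokernel.π _ ≫ ψ = (s i.succ).arrow ≫ q := ⟨cokernel.desc _ _ hw, cokernel.π_desc _ _ hw⟩
      refine ⟨i, ψ, ?_, ?_⟩
      · intro h
        apply hk
        have h' : ψ = (0 : cokernel (Subobject.ofLE (s i.castSucc) (s i.succ) (le_of_lt (s.step i))) ⟶ G) := h
        rw [← hψ, h', Limits.comp_zero]
      · simp
    · have hval : (i.castSucc).val = n := by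
        simp only [Fin.val_succ] at hkn
        simp only [Fin.val_castSucc]
        omega
      obtain ⟨i', ψ, hψ, hlt⟩ := ih i.castSucc hval hz
      refine ⟨i', ψ, hψ, ?_⟩
      simp only [Fin.val_castSucc] at hlt
      simp only [Fin.val_succ]
      omega

section Chain

variable {E : C} {s : LTSeries (Subobject E)} (hss : ∀ i, EllSS H d ℓ (factor s i))
  (hdec : ∀ (i j : Fin s.length), i.val + 1 = j.val → ∀ (p q : ℚ[X]),
    HPt H d ℓ (factor s i) p → HPt H d ℓ (factor s j) q → RedLT d q p)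

include hss in
theorem alpha_pos_factor (i : Fin s.length) {p : ℚ[X]} (hp : H.HP (factor s i) p) : 0 < alpha d p :=
  H.alpha_pos d (hss i).1 ((hss i).2.2.1.dim_eq H (hss i).1 (hss i).2.1) hp

include hss hdec in
theorem redLT_chain :
    ∀ (n : ℕ) (i j : Fin s.length), i.val + n + 1 = j.val → ∀ (p q : ℚ[X]),
      H.HP (factor s i) p → H.HP (factor s j) q → RedLT d (topPart ℓ d q) (topPart ℓ d p) := by
  intro n
  induction n with
  | zero =>
    intro i j hij p q hp hq
    exact hdec i j (by omega) _ _ ⟨p, hp, rfl⟩ ⟨q, hq, rfl⟩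
  | succ n ih =>
    intro i j hij p q hp hq
    have hm : i.val + 1 < s.length := by have := j.isLt; omega
    obtain ⟨pm, hpm⟩ := H.HP_exists (hss ⟨i.val + 1, hm⟩).1
    have h1 := hdec i ⟨i.val + 1, hm⟩ rfl _ _ ⟨p, hp, rfl⟩ ⟨pm, hpm, rfl⟩
    have h2 := ih ⟨i.val + 1, hm⟩ j (by simp only; omega) pm q hpm hq
    have a1 := alpha_pos_factor hss j hq
    have a2 := alpha_pos_factor hss _ hpm
    have a3 := alpha_pos_factor hss i hp
    exact redLT_of_redLT_of_redLE (by rw [alpha_topPart]; exact a1.le) (by rw [alpha_topPart]; exact a2)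
      (by rw [alpha_topPart]; exact a3) h2 (redLT_le h1)

include hss hdec in
theorem redLE_chain (i j : Fin s.length) (hij : i ≤ j) (p q : ℚ[X])
    (hp : H.HP (factor s i) p) (hq : H.HP (factor s j) q) :
    RedLE d (topPart ℓ d q) (topPart ℓ d p) := by
  rcases eq_or_lt_of_le hij with h | h
  · subst h
    exact redLE_of_eq (by rw [H.HP_unique hq hp])
  · have h' : i.val < j.val := h
    exact redLT_le (redLT_chain hss hdec (j.val - i.val - 1) i j (by omega) p q hp hq)

include hss hdec in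
/-- the inductive step -/
theorem step (hhead : s.head = ⊥) (last : Fin s.length) (hlast : last.val + 1 = s.length)
    {pF : ℚ[X]} (hpF : H.HP (factor s last) pF)
    {G : C} (q : E ⟶ G) [Epi q] (hG : H.ok G) (hGp : H.IsPure G d) (hG0 : ¬ IsZero G) {pG : ℚ[X]}
    (hpG : H.HP G pG)
    (IH : ∀ (G₃ : C) (q₃ : E ⟶ G₃), Epi q₃ → H.ok G₃ → ¬ IsZero G₃ → H.IsPure G₃ d → ∀ p₃ : ℚ[X],
      H.HP G₃ p₃ → alpha d p₃ < alpha d pG → RedLE d (topPart ℓ d pF) (topPart ℓ d p₃))
    (k : Fin (s.length + 1)) (hk : (s k).arrow ≫ q ≠ 0) :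
    RedLE d (topPart ℓ d pF) (topPart ℓ d pG) ∧
      (k.val ≤ last.val → RedLT d (topPart ℓ d pF) (topPart ℓ d pG)) := by
  obtain ⟨i, ψ, hψ, hik⟩ := exists_factor_map s hhead q k.val k rfl hk
  have hdG : H.dim G = (d : WithBot ℕ∞) := hGp.dim_eq H hG hG0
  have aF : 0 < alpha d pF := alpha_pos_factor hss last hpF
  -- the image of `ψ`
  have okgr := (hss i).1
  obtain ⟨p, hp⟩ := H.HP_exists okgr
  have ap : 0 < alpha d p := alpha_pos_factor hss i hp
  have okI : H.ok (Abelian.image ψ) := H.ok_image ψ okgr hG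
  have hI0 : ¬ IsZero (Abelian.image ψ) := by
    intro h
    apply hψ
    rw [← Abelian.image.fac ψ, h.eq_of_tgt (Abelian.factorThruImage ψ) 0, Limits.zero_comp]
  obtain ⟨pI, hpI⟩ := H.HP_exists okI
  have aI : 0 < alpha d pI := hGp.alpha_pos H (Abelian.image.ι ψ) okI hI0 hpI
  have e1 : RedLE d (topPart ℓ d p) (topPart ℓ d pI) :=
    redLE_topPart_of_epi (hss i) (Abelian.factorThruImage ψ) okI hp hpI aI
  obtain ⟨I', ι', pI', hι', okI', hI'0, hpure, hpI', haI', e2⟩ :=
    exists_saturation_topPart (ℓ := ℓ) (Abelian.image.ι ψ) okI hG hdG.le hpI hI0 aI.le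
  have := hι'
  have aI' : 0 < alpha d pI' := haI' ▸ aI
  have hile : i ≤ last := by
    have := i.isLt
    exact Fin.le_def.2 (by omega)
  have e0 : RedLE d (topPart ℓ d pF) (topPart ℓ d p) := redLE_chain hss hdec i last hile p pF hp hpF
  have tF : 0 < alpha d (topPart ℓ d pF) := by rw [alpha_topPart]; exact aF
  have tp : 0 < alpha d (topPart ℓ d p) := by rw [alpha_topPart]; exact ap
  have tI : 0 < alpha d (topPart ℓ d pI) := by rw [alpha_topPart]; exact aI
  have tI' : 0 < alpha d (topPart ℓ d pI') := by rw [alpha_topPart]; exact aI'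
  have e12 : RedLE d (topPart ℓ d p) (topPart ℓ d pI') := redLE_trans tp.le tI tI'.le e1 e2
  have r1 : RedLE d (topPart ℓ d pF) (topPart ℓ d pI') := redLE_trans tF.le tp tI'.le e0 e12
  have r1' : k.val ≤ last.val → RedLT d (topPart ℓ d pF) (topPart ℓ d pI') := by
    intro hkl
    have hlt : i.val < last.val := lt_of_lt_of_le hik hkl
    have e0' : RedLT d (topPart ℓ d pF) (topPart ℓ d p) :=
      redLT_chain hss hdec (last.val - i.val - 1) i last (by omega) p pF hp hpF
    exact redLT_of_redLT_of_redLE tF.le tp tI' e0' e12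
  -- the quotient `G / I'`
  have okQ : H.ok (cokernel ι') := H.ok_cokernel ι' okI' hG
  have hpQ : H.HP (cokernel ι') (pG - pI') := H.HP_cokernel ι' okI' hG hpI' hpG
  by_cases hQ0 : IsZero (cokernel ι')
  · have : Epi ι' := Preadditive.epi_of_isZero_cokernel _ hQ0
    have : IsIso ι' := isIso_of_mono_of_epi ι'
    have hpp : pG = pI' := H.HP_unique hpG (H.HP_iso (asIso ι') hpI')
    rw [hpp]
    exact ⟨r1, r1'⟩
  · have hlt : alpha d (pG - pI') < alpha d pG := by rw [alpha_sub]; linarith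
    have he : Epi (q ≫ cokernel.π ι') := epi_comp _ _
    have r2 : RedLE d (topPart ℓ d pF) (topPart ℓ d (pG - pI')) :=
      IH (cokernel ι') (q ≫ cokernel.π ι') he okQ hQ0 hpure (pG - pI') hpQ hlt
    have hsum : topPart ℓ d pG = topPart ℓ d pI' + topPart ℓ d (pG - pI') := by
      rw [← topPart_add]
      congr 1
      ring
    rw [hsum]
    exact ⟨redLE_add' r1 r2, fun hkl => redLT_add'_of_redLT_of_redLE (r1' hkl) r2⟩

include hss hdec in
/-- **the last factor is the minimal `ℓ`-destabilising quotient** -/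
theorem main_ineq (hhead : s.head = ⊥) (hlastTop : s.last = ⊤) (last : Fin s.length)
    (hlast : last.val + 1 = s.length) {pF : ℚ[X]} (hpF : H.HP (factor s last) pF) :
    ∀ (n : ℕ) (G : C) (q : E ⟶ G), Epi q → H.ok G → ¬ IsZero G → H.IsPure G d → ∀ pG : ℚ[X],
      H.HP G pG → alpha d pG < (n : ℚ) →
      RedLE d (topPart ℓ d pF) (topPart ℓ d pG) ∧
        ((s last.castSucc).arrow ≫ q ≠ 0 → RedLT d (topPart ℓ d pF) (topPart ℓ d pG)) := by
  intro n
  induction n with
  | zero =>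
    intro G q _ hG hG0 hGp pG hpG hlt
    exfalso
    have := H.alpha_pos d hG (hGp.dim_eq H hG hG0) hpG
    simp only [Nat.cast_zero] at hlt
    linarith
  | succ n ih =>
    intro G q hq hG hG0 hGp pG hpG hlt
    have := hq
    have hdG : H.dim G = (d : WithBot ℕ∞) := hGp.dim_eq H hG hG0
    have IH : ∀ (G₃ : C) (q₃ : E ⟶ G₃), Epi q₃ → H.ok G₃ → ¬ IsZero G₃ → H.IsPure G₃ d →
        ∀ p₃ : ℚ[X], H.HP G₃ p₃ → alpha d p₃ < alpha d pG →
          RedLE d (topPart ℓ d pF) (topPart ℓ d p₃) := by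
      intro G₃ q₃ hq₃ hG₃ hG₃0 hG₃p p₃ hp₃ hlt₃
      refine (ih G₃ q₃ hq₃ hG₃ hG₃0 hG₃p p₃ hp₃ ?_).1
      obtain ⟨z₃, hz₃⟩ := H.alpha_int hG₃ (hG₃p.dim_eq H hG₃ hG₃0).le hp₃
      obtain ⟨z, hz⟩ := H.alpha_int hG hdG.le hpG
      rw [hz₃] at hlt₃ ⊢
      rw [hz] at hlt₃ hlt
      have h1 : z₃ < z := by exact_mod_cast hlt₃
      have h2 : z < (n : ℤ) + 1 := by exact_mod_cast hlt
      have h3 : z₃ < (n : ℤ) := by omega
      exact_mod_cast h3
    have hkTop : (s (Fin.last s.length)).arrow ≫ q ≠ 0 := by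
      have hT : s (Fin.last s.length) = ⊤ := hlastTop
      rw [hT]
      intro h0
      apply hG0
      have : Epi ((⊤ : Subobject E).arrow ≫ q) := epi_comp _ _
      exact isZero_of_epi_zero _ h0
    refine ⟨(step hss hdec hhead last hlast hpF q hG hGp hG0 hpG IH (Fin.last _) hkTop).1, fun hk => ?_⟩
    exact (step hss hdec hhead last hlast hpF q hG hGp hG0 hpG IH last.castSucc hk).2
      (by simp)

end Chain

/-- the last subquotient of a chain ending at `⊤` is the quotient of `E` by the last proper term -/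
noncomputable def sqTopIso {E : C} (x y x' : Subobject E) (h : x ≤ y) (hy : y = ⊤) (hx : x = x') :
    cokernel (Subobject.ofLE x y h) ≅ cokernel x'.arrow := by
  subst hy hx
  exact (cokernelCompIsIso (Subobject.ofLE x ⊤ h) (⊤ : Subobject E).arrow).symm ≪≫
    cokernelIsoOfEq (Subobject.ofLE_arrow h)

/-- **abstract form of S18973** -/
theorem exists_iso_last {E : C} (h0 : ¬ IsZero E) (s : LTSeries (Subobject E))
    (hs : IsHNWith (EllSS H d ℓ) (HPt H d ℓ) d E s)
    {G : C} (q : E ⟶ G) [Epi q] (hG : H.ok G) (hG0 : ¬ IsZero G) (hGp : H.IsPure G d)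
    {pF pG : ℚ[X]} (hpF : H.HP (cokernel s.eraseLast.last.arrow) pF) (hpG : H.HP G pG)
    (hα : alpha d pF = alpha d pG)
    (hred : RedEq d (topPart ℓ d pF) (topPart ℓ d pG)) :
    ∃ φ : cokernel s.eraseLast.last.arrow ≅ G, cokernel.π s.eraseLast.last.arrow ≫ φ.hom = q := by
  obtain ⟨hhead, hlastTop, hss, hdec⟩ := hs
  have hlen : 0 < s.length := by
    by_contra hl
    have hl0 : s.length = 0 := by omega
    apply h0
    have e1 : s.head = s.last := by
      unfold RelSeries.head RelSeries.last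
      congr 1
      exact Fin.ext (by simp [hl0])
    have e2 : (⊤ : Subobject E) = ⊥ := by rw [← hlastTop, ← hhead, e1]
    have hz : IsZero ((⊤ : Subobject E) : C) := by
      rw [e2]
      exact IsZero.of_iso (isZero_zero C) Subobject.botCoeIsoZero
    exact hz.of_iso (asIso (⊤ : Subobject E).arrow).symm
  obtain ⟨last, hlast⟩ : ∃ last : Fin s.length, last.val + 1 = s.length :=
    ⟨⟨s.length - 1, by omega⟩, by simp only; omega⟩
  have hx : s last.castSucc = s.eraseLast.last := by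
    rw [RelSeries.last_eraseLast]
    congr 1
    exact Fin.ext (by simp only [Fin.val_castSucc, Nat.pred_eq_sub_one]; omega)
  have hy : s last.succ = ⊤ := by
    rw [← hlastTop]
    unfold RelSeries.last
    congr 1
    exact Fin.ext (by simp only [Fin.val_succ, Fin.val_last]; omega)
  have e : factor s last ≅ cokernel s.eraseLast.last.arrow :=
    sqTopIso (s last.castSucc) (s last.succ) s.eraseLast.last (le_of_lt (s.step last)) hy hx
  have hpF' : H.HP (factor s last) pF := H.HP_iso e.symm hpF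
  have okF : H.ok (cokernel s.eraseLast.last.arrow) := H.ok_iso e (hss last).1
  have pureF : H.IsPure (cokernel s.eraseLast.last.arrow) d := (hss last).2.2.1.of_iso H e
  obtain ⟨n, hn⟩ := exists_nat_gt (alpha d pG)
  have key := main_ineq hss hdec hhead hlastTop last hlast hpF' n G q inferInstance hG hG0 hGp pG hpG hn
  have hzero : s.eraseLast.last.arrow ≫ q = 0 := by
    by_contra hne
    rw [← hx] at hne
    exact not_redLT_of_redEq hred (key.2 hne)
  obtain ⟨φ₀, hφ₀⟩ : ∃ φ₀ : cokernel s.eraseLast.last.arrow ⟶ G,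
      cokernel.π s.eraseLast.last.arrow ≫ φ₀ = q := ⟨cokernel.desc _ q hzero, cokernel.π_desc _ _ _⟩
  have hφe : Epi φ₀ := by
    have : Epi (cokernel.π s.eraseLast.last.arrow ≫ φ₀) := by rw [hφ₀]; infer_instance
    exact epi_of_epi (cokernel.π s.eraseLast.last.arrow) φ₀
  have hK0 : IsZero (kernel φ₀) := by
    by_contra hK0
    have okK := H.ok_kernel φ₀ okF hG
    have hpK := H.HP_kernel φ₀ okF hG hpF hpG
    have := pureF.alpha_pos H (kernel.ι φ₀) okK hK0 hpK
    rw [alpha_sub, hα, sub_self] at this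
    exact lt_irrefl _ this
  have hφm : Mono φ₀ := Preadditive.mono_of_isZero_kernel _ hK0
  have hφi : IsIso φ₀ := isIso_of_mono_of_epi φ₀
  exact ⟨asIso φ₀, hφ₀⟩

/-! ### the frozen statement (for any ample `L`) -/

open AlgebraicGeometry Groth.Agent.R2.H70.StabSpec

universe w

theorem s18973_of (hctx : PkgCtx.{w}) (k : Type w) [Field k] (X : Scheme.{w})
    [X.Over (Spec (CommRingCat.of k))] [IsProper (X ↘ Spec (CommRingCat.of k))]
    (L : X.Modules) (hL : CohB1.IsAmple L) (d ℓ : ℕ)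
    (E : X.Modules) (h0 : ¬ IsZero E) (s : LTSeries (Subobject E))
    (hs : StabCat.IsHNWith (fun G => ShStab.IsEllSemistable k X L G d ℓ)
      (fun G P => ∃ Q : Polynomial ℚ, ShStab.IsHilbPoly k X L G Q ∧ P = StabCat.topPart ℓ d Q) d E s)
    (G : X.Modules) (q : E ⟶ G) [Epi q] (hG : Coh.IsCoh G) (hG0 : ¬ IsZero G)
    (hGp : ShStab.IsPure X G d)
    (pF pG : ℚ[X]) (hpF : ShStab.IsHilbPoly k X L (cokernel s.eraseLast.last.arrow) pF)
    (hpG : ShStab.IsHilbPoly k X L G pG)
    (hα : StabCat.alpha d pF = StabCat.alpha d pG)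
    (hred : StabCat.RedEq d (StabCat.topPart ℓ d pF) (StabCat.topPart ℓ d pG)) :
    ∃ φ : (cokernel s.eraseLast.last.arrow) ≅ G, cokernel.π s.eraseLast.last.arrow ≫ φ.hom = q := by
  obtain ⟨Γ⟩ := hctx k X L hL
  have hSS : (fun G => ShStab.IsEllSemistable k X L G d ℓ) = EllSS Γ.H d ℓ := by
    funext G
    unfold ShStab.IsEllSemistable EllSS
    rw [Γ.ok_eq, Γ.HP_eq, Γ.isPure_iff]
  have hHP : (fun (G : X.Modules) (P : ℚ[X]) =>
      ∃ Q : Polynomial ℚ, ShStab.IsHilbPoly k X L G Q ∧ P = StabCat.topPart ℓ d Q) = HPt Γ.H d ℓ := by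
    funext G P
    unfold HPt
    rw [Γ.HP_eq]
  rw [hSS, hHP] at hs
  exact exists_iso_last (H := Γ.H) h0 s hs q (Γ.ok_eq ▸ hG) hG0 ((Γ.isPure_iff G d).2 hGp)
    (Γ.HP_eq ▸ hpF) (Γ.HP_eq ▸ hpG) hα hred

end Groth.Agent.R2.H60.StabEllHN
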