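import Mathlib
import Groth.Agent.R2.H70StabCtx
import Groth.Agent.R2.H70StabSpec
import Groth.Agent.R2.H70StabHom
import Groth.Agent.R2.H60StabSat
import Groth.Agent.R2.H5CohThick

/-!
# Slope semistability in a Hilbert-polynomial context (helper60, PROJ:shstab, PKG-SLOPE)

For `H : HilbCtx C` and `1 ≤ n`, writing `a = alpha n`, `b = alpha (n-1)` (so `hatSlope n = b / a`):

* `slope_le`: for `F` pure of dimension `n` and `IsMuSS`, every `ok` subobject `S` satisfies `b(S) a(F) ≤ b(F) a(S)`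
  (also when `a(S) = a(F)`, where `F/S` has dimension `≤ n-1` and `b(F/S) ≥ 0`);
* `hom_eq_zero_of_hatSlope_lt`: abstract S18965;
* `isPure_of_shortExact`, `isMuSS_of_shortExact`, `hatSlope_of_shortExact`: abstract S18967;
* `s18965_of`, `s18967_of (hctx : PkgCtx)`: the frozen statements.
-/

set_option autoImplicit false

universe v u

open CategoryTheory CategoryTheory.Limits Polynomial StabCat

namespace Groth.Agent.R2.H60.StabSlope

open Groth.Agent.R2.H70.StabPoly Groth.Agent.R2.H70.StabCtx Groth.Agent.R2.H70.StabHom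
  Groth.Agent.R2.H60.StabSat

variable {C : Type u} [Category.{v} C] [Abelian C] (H : HilbCtx C)

/-- in `WithBot ℕ∞`: `x < n` implies `x ≤ n - 1` -/
theorem le_pred_of_lt {x : WithBot ℕ∞} {n : ℕ} (h : x < (n : WithBot ℕ∞)) :
    x ≤ ((n - 1 : ℕ) : WithBot ℕ∞) := by
  by_cases hb : x = ⊥
  · rw [hb]; exact bot_le
  · obtain ⟨e, -, he⟩ := HilbCtx.exists_nat_of_le h.le hb
    rw [he] at h ⊢
    have h' : e < n := by exact_mod_cast h
    have h'' : e ≤ n - 1 := by omega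
    exact_mod_cast h''

/-- an `ok` subobject of a pure object has dimension `⊥` or `n` -/
theorem dim_eq_bot_or {n : ℕ} {E S : C} (hp : H.IsPure E n) (ι : S ⟶ E) [Mono ι] (hS : H.ok S) :
    H.dim S = ⊥ ∨ H.dim S = (n : WithBot ℕ∞) := by
  by_cases h : IsZero S
  · exact Or.inl ((H.dim_eq_bot_iff hS).2 h)
  · exact Or.inr (hp S ι inferInstance hS h)

/-- the key inequality: for `F` pure and slope-semistable, every `ok` subobject `S` has
`b(S) a(F) ≤ b(F) a(S)` -/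
theorem slope_le {n : ℕ} (hn : 1 ≤ n) {F S : C} (hF : H.ok F) (hp : H.IsPure F n)
    (hss : IsMuSS H.ok H.HP n F) (ι : S ⟶ F) [Mono ι] (hS : H.ok S) {pS pF : ℚ[X]}
    (hpS : H.HP S pS) (hpF : H.HP F pF) :
    alpha (n - 1) pS * alpha n pF ≤ alpha (n - 1) pF * alpha n pS := by
  by_cases hS0 : IsZero S
  · rw [H.HP_eq_zero hS0 hpS, alpha_zero, alpha_zero, zero_mul, mul_zero]
  have hF0 : ¬ IsZero F := fun h => hS0 (IsZero.of_mono ι h)
  have hdF : H.dim F = (n : WithBot ℕ∞) := hp.dim_eq H hF hF0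
  have haS : 0 < alpha n pS := hp.alpha_pos H ι hS hS0 hpS
  have haF : 0 < alpha n pF := H.alpha_pos n hF hdF hpF
  rcases lt_or_ge (alpha n pS) (alpha n pF) with hlt | hge
  · have h := hss S ι inferInstance hS pS pF hpS hpF haS hlt
    unfold hatSlope at h
    rwa [div_le_div_iff₀ haS haF] at h
  · have hQ := H.ok_cokernel ι hS hF
    have hpQ := H.HP_cokernel ι hS hF hpS hpF
    have hdQ : H.dim (cokernel ι) ≤ (n : WithBot ℕ∞) := (H.dim_cokernel_le ι hS hF).trans hdF.le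
    have haQ : 0 ≤ alpha n (pF - pS) := H.alpha_nonneg hQ hdQ hpQ
    rw [alpha_sub] at haQ
    have haeq : alpha n pS = alpha n pF := le_antisymm (by linarith) hge
    have haQ0 : alpha n (pF - pS) = 0 := by rw [alpha_sub, haeq, sub_self]
    have hdQ' : H.dim (cokernel ι) ≤ ((n - 1 : ℕ) : WithBot ℕ∞) :=
      le_pred_of_lt (dim_lt_of_alpha_eq_zero H hQ hdQ hpQ haQ0)
    have hbQ : 0 ≤ alpha (n - 1) (pF - pS) := H.alpha_nonneg hQ hdQ' hpQ
    rw [alpha_sub] at hbQ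
    rw [haeq]
    exact mul_le_mul_of_nonneg_right (by linarith) haF.le

/-- **abstract S18965**: no nonzero morphisms from a pure slope-semistable object to one of smaller slope -/
theorem hom_eq_zero_of_hatSlope_lt {n : ℕ} (hn : 1 ≤ n) {F G : C} (hF : H.ok F) (hG : H.ok G)
    (hF0 : ¬ IsZero F) (hG0 : ¬ IsZero G) (hpF : H.IsPure F n) (hpG : H.IsPure G n)
    (hssF : IsMuSS H.ok H.HP n F) (hssG : IsMuSS H.ok H.HP n G) {pF pG : ℚ[X]}
    (hPF : H.HP F pF) (hPG : H.HP G pG) (hlt : hatSlope n pG < hatSlope n pF) (φ : F ⟶ G) :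
    φ = 0 := by
  by_contra hφ
  have hI := H.ok_image φ hF hG
  obtain ⟨pI, hPI⟩ := H.HP_exists hI
  have hI0 := not_isZero_image φ hφ
  have haI : 0 < alpha n pI := hpG.alpha_pos H (Abelian.image.ι φ) hI hI0 hPI
  have haF : 0 < alpha n pF := H.alpha_pos n hF (hpF.dim_eq H hF hF0) hPF
  have haG : 0 < alpha n pG := H.alpha_pos n hG (hpG.dim_eq H hG hG0) hPG
  -- the kernel in `F`
  have hK := H.ok_kernel (Abelian.factorThruImage φ) hF hI
  have hPK := H.HP_kernel (Abelian.factorThruImage φ) hF hI hPF hPI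
  have h1 := slope_le H hn hF hpF hssF (kernel.ι (Abelian.factorThruImage φ)) hK hPK hPF
  rw [alpha_sub, alpha_sub] at h1
  -- the image in `G`
  have h2 := slope_le H hn hG hpG hssG (Abelian.image.ι φ) hI hPI hPG
  unfold hatSlope at hlt
  rw [div_lt_div_iff₀ haG haF] at hlt
  have e1 : alpha (n - 1) pF * alpha n pI ≤ alpha (n - 1) pI * alpha n pF := by nlinarith
  -- bF aI ≤ bI aF, bI aG ≤ bG aI, bG aF < bF aG
  have e2 : alpha (n - 1) pF * alpha n pI * alpha n pG ≤ alpha (n - 1) pI * alpha n pF * alpha n pG :=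
    mul_le_mul_of_nonneg_right e1 haG.le
  have e3 : alpha (n - 1) pI * alpha n pG * alpha n pF ≤ alpha (n - 1) pG * alpha n pI * alpha n pF :=
    mul_le_mul_of_nonneg_right h2 haF.le
  have e4 : alpha (n - 1) pG * alpha n pF * alpha n pI < alpha (n - 1) pF * alpha n pG * alpha n pI :=
    mul_lt_mul_of_pos_right hlt haI
  nlinarith

/-! ### extensions -/

section Ext

variable {n : ℕ} (T : ShortComplex C) (hT : T.ShortExact)

include hT

/-- a subobject `F'` of the middle term of a short exact sequence: its intersection with `X₁` and its image in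
`X₃`, with the Hilbert polynomial bookkeeping -/
theorem exists_sub_quot (h1 : H.ok T.X₁) (h2 : H.ok T.X₂) (h3 : H.ok T.X₃) {F' : C} (ι' : F' ⟶ T.X₂)
    [Mono ι'] (hF' : H.ok F') :
    ∃ (K I : C) (κ : K ⟶ T.X₁) (ι : I ⟶ T.X₃) (S : ShortComplex C), Mono κ ∧ Mono ι ∧ H.ok K ∧ H.ok I ∧
      S.ShortExact ∧ S.X₁ = K ∧ S.X₂ = F' ∧ S.X₃ = I := by
  have := hT.mono_f
  obtain ⟨π, hπ⟩ : ∃ π : F' ⟶ Abelian.image (ι' ≫ T.g), π = Abelian.factorThruImage (ι' ≫ T.g) :=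
    ⟨_, rfl⟩
  have hπe : Epi π := by rw [hπ]; infer_instance
  have hI : H.ok (Abelian.image (ι' ≫ T.g)) := H.ok_image _ hF' h3
  have hK : H.ok (kernel π) := H.ok_kernel π hF' hI
  have hfac : π ≫ Abelian.image.ι (ι' ≫ T.g) = ι' ≫ T.g := by rw [hπ]; exact Abelian.image.fac _
  have hz : (kernel.ι π ≫ ι') ≫ T.g = 0 := by
    rw [Category.assoc]
    have e : kernel.ι π ≫ ι' ≫ T.g = kernel.ι π ≫ π ≫ Abelian.image.ι (ι' ≫ T.g) :=
      congrArg (fun t => kernel.ι π ≫ t) hfac.symm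
    rw [e, kernel.condition_assoc, Limits.zero_comp]
  refine ⟨kernel π, Abelian.image (ι' ≫ T.g), hT.exact.lift (kernel.ι π ≫ ι') hz,
    Abelian.image.ι (ι' ≫ T.g), ShortComplex.mk (kernel.ι π) π (kernel.condition π), ?_, inferInstance, hK, hI,
    HilbCtx.shortExact_of_epi π, rfl, rfl, rfl⟩
  have hm : Mono (hT.exact.lift (kernel.ι π ≫ ι') hz ≫ T.f) := by
    rw [ShortComplex.Exact.lift_f]; infer_instance
  exact mono_of_mono _ T.f

/-- purity is closed under extensions -/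
theorem isPure_of_shortExact (h1 : H.ok T.X₁) (h2 : H.ok T.X₂) (h3 : H.ok T.X₃)
    (hp1 : H.IsPure T.X₁ n) (hp3 : H.IsPure T.X₃ n) : H.IsPure T.X₂ n := by
  intro F' ι' hι' hF' hF'0
  have := hι'
  obtain ⟨K, I, κ, ι, S, hκ, hι, hK, hI, hS, rfl, rfl, rfl⟩ := exists_sub_quot H T hT h1 h2 h3 ι' hF'
  have hd := H.dim_ses S hS hK hF' hI
  rcases dim_eq_bot_or H hp1 κ hK with hKd | hKd <;> rcases dim_eq_bot_or H hp3 ι hI with hId | hId
  · exfalso
    apply hF'0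
    rw [← H.dim_eq_bot_iff hF', hd, hKd, hId, max_self]
  · rw [hd, hKd, hId, max_eq_right bot_le]
  · rw [hd, hKd, hId, max_eq_left bot_le]
  · rw [hd, hKd, hId, max_self]

/-- slope-semistability of the middle term of an extension of pure slope-semistable objects of the same slope -/
theorem isMuSS_of_shortExact (hn : 1 ≤ n) (h1 : H.ok T.X₁) (h2 : H.ok T.X₂) (h3 : H.ok T.X₃)
    (h10 : ¬ IsZero T.X₁) (h30 : ¬ IsZero T.X₃)
    (hp1 : H.IsPure T.X₁ n) (hp3 : H.IsPure T.X₃ n)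
    (hss1 : IsMuSS H.ok H.HP n T.X₁) (hss3 : IsMuSS H.ok H.HP n T.X₃) {p1 p3 : ℚ[X]}
    (hP1 : H.HP T.X₁ p1) (hP3 : H.HP T.X₃ p3) (hμ : hatSlope n p1 = hatSlope n p3) :
    IsMuSS H.ok H.HP n T.X₂ := by
  intro F' ι' hι' hF' pF' pE hPF' hPE hpos hlt
  have := hι'
  have hPE' : pE = p1 + p3 := H.HP_unique hPE (H.HP_add T hT h1 h2 h3 hP1 hP3)
  have ha1 : 0 < alpha n p1 := H.alpha_pos n h1 (hp1.dim_eq H h1 h10) hP1
  have ha3 : 0 < alpha n p3 := H.alpha_pos n h3 (hp3.dim_eq H h3 h30) hP3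
  obtain ⟨K, I, κ, ι, S, hκ, hι, hK, hI, hS, rfl, rfl, rfl⟩ := exists_sub_quot H T hT h1 h2 h3 ι' hF'
  obtain ⟨pK, hPK⟩ := H.HP_exists hK
  obtain ⟨pI, hPI⟩ := H.HP_exists hI
  have hPF'' : pF' = pK + pI := H.HP_unique hPF' (H.HP_add S hS hK hF' hI hPK hPI)
  have e1 := slope_le H hn h1 hp1 hss1 κ hK hPK hP1
  have e3 := slope_le H hn h3 hp3 hss3 ι hI hPI hP3
  unfold hatSlope at hμ ⊢
  rw [div_eq_div_iff ha1.ne' ha3.ne'] at hμ
  have haE : 0 < alpha n pE := hpos.trans hlt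
  rw [div_le_div_iff₀ hpos haE]
  rw [hPE', hPF'', alpha_add, alpha_add, alpha_add, alpha_add]
  generalize alpha n p1 = a1 at *
  generalize alpha n p3 = a3 at *
  generalize alpha (n - 1) p1 = b1 at *
  generalize alpha (n - 1) p3 = b3 at *
  generalize alpha n pK = aK at *
  generalize alpha n pI = aI at *
  generalize alpha (n - 1) pK = bK at *
  generalize alpha (n - 1) pI = bI at *
  have E1 := mul_le_mul_of_nonneg_right e1 (mul_nonneg ha3.le (add_pos ha1 ha3).le)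
  have E3 := mul_le_mul_of_nonneg_right e3 (mul_nonneg ha1.le (add_pos ha1 ha3).le)
  have hpos13 : 0 < a1 * a3 := mul_pos ha1 ha3
  refine le_of_mul_le_mul_right ?_ hpos13
  linear_combination E1 + E3 + (a3 * aK - a1 * aI) * hμ

theorem hatSlope_of_shortExact (h1 : H.ok T.X₁) (h2 : H.ok T.X₂) (h3 : H.ok T.X₃)
    {p1 p3 pE : ℚ[X]} (hP1 : H.HP T.X₁ p1) (hP3 : H.HP T.X₃ p3) (hPE : H.HP T.X₂ pE)
    (ha1 : 0 < alpha n p1) (ha3 : 0 < alpha n p3) (hμ : hatSlope n p1 = hatSlope n p3) :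
    hatSlope n pE = hatSlope n p1 := by
  have hPE' : pE = p1 + p3 := H.HP_unique hPE (H.HP_add T hT h1 h2 h3 hP1 hP3)
  unfold hatSlope at hμ ⊢
  rw [div_eq_div_iff ha1.ne' ha3.ne'] at hμ
  rw [hPE', alpha_add, alpha_add, div_eq_div_iff (add_pos ha1 ha3).ne' ha1.ne']
  linear_combination -hμ

end Ext

/-! ### the rows against `PkgCtx` -/

section Rows

open AlgebraicGeometry Groth.Agent.R2.H70.StabSpec

universe w

theorem withBot_nat_add_one_ne (n : ℕ) : ((n : ℕ) : WithBot ℕ∞) + 1 ≠ (n : WithBot ℕ∞) := by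
  intro h
  have h' : ((n + 1 : ℕ) : WithBot ℕ∞) = ((n : ℕ) : WithBot ℕ∞) := by
    rw [← h]; push_cast; rfl
  have h'' : (n + 1 : ℕ) = n := by exact_mod_cast h'
  omega

theorem s18965_of (hctx : PkgCtx.{w}) (k : Type w) [Field k] [IsAlgClosed k] [CharZero k]
    (X : Scheme.{w}) [X.Over (Spec (CommRingCat.of k))] [IsIntegral X]
    [IsProper (X ↘ Spec (CommRingCat.of k))] [Smooth (X ↘ Spec (CommRingCat.of k))]
    (n : ℕ) (hn : 1 ≤ n) (hX : topologicalKrullDim X = (n : WithBot ℕ∞))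
    (L : X.Modules) (hLi : PicF.IsInvertible L) (hL : CohB1.IsAmple L)
    (F G : X.Modules) (hFt : ShStab.IsPure X F n) (hGt : ShStab.IsPure X G n)
    (hF : ShStab.IsMuSemistable k X L F n) (hG : ShStab.IsMuSemistable k X L G n)
    (pF pG : ℚ[X]) (hpF : ShStab.IsHilbPoly k X L F pF) (hpG : ShStab.IsHilbPoly k X L G pG)
    (hlt : StabCat.hatSlope n pG < StabCat.hatSlope n pF) (φ : F ⟶ G) : φ = 0 := by
  obtain ⟨Γ⟩ := hctx k X L hL
  have hssF : IsMuSS Γ.H.ok Γ.H.HP n F := by rw [Γ.ok_eq, Γ.HP_eq]; exact hF.2.2.2.2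
  have hssG : IsMuSS Γ.H.ok Γ.H.HP n G := by rw [Γ.ok_eq, Γ.HP_eq]; exact hG.2.2.2.2
  exact hom_eq_zero_of_hatSlope_lt Γ.H hn (Γ.ok_eq ▸ hF.1) (Γ.ok_eq ▸ hG.1) hF.2.1 hG.2.1
    ((Γ.isPure_iff F n).2 hFt) ((Γ.isPure_iff G n).2 hGt) hssF hssG (Γ.HP_eq ▸ hpF) (Γ.HP_eq ▸ hpG) hlt φ

theorem s18967_of (hctx : PkgCtx.{w}) (k : Type w) [Field k] [IsAlgClosed k] [CharZero k]
    (X : Scheme.{w}) [X.Over (Spec (CommRingCat.of k))] [IsIntegral X]
    [IsProper (X ↘ Spec (CommRingCat.of k))] [Smooth (X ↘ Spec (CommRingCat.of k))]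
    (n : ℕ) (hn : 1 ≤ n) (hX : topologicalKrullDim X = (n : WithBot ℕ∞))
    (L : X.Modules) (hLi : PicF.IsInvertible L) (hL : CohB1.IsAmple L)
    (T : ShortComplex X.Modules) (hT : T.ShortExact)
    (hFt : ShStab.IsPure X T.X₁ n) (hGt : ShStab.IsPure X T.X₃ n)
    (hF : ShStab.IsMuSemistable k X L T.X₁ n) (hG : ShStab.IsMuSemistable k X L T.X₃ n)
    (pF pG : ℚ[X]) (hpF : ShStab.IsHilbPoly k X L T.X₁ pF) (hpG : ShStab.IsHilbPoly k X L T.X₃ pG)
    (hμ : StabCat.hatSlope n pF = StabCat.hatSlope n pG) :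
    ShStab.IsMuSemistable k X L T.X₂ n ∧
      ∀ pH : ℚ[X], ShStab.IsHilbPoly k X L T.X₂ pH → StabCat.hatSlope n pH = StabCat.hatSlope n pF := by
  obtain ⟨Γ⟩ := hctx k X L hL
  have hdim : ∀ E : X.Modules, Γ.H.dim E = topologicalKrullDim (CohB1.support E) :=
    fun E => congrFun Γ.dim_eq E
  have hc2 : Coh.IsCoh T.X₂ :=
    ⟨Groth.Agent.Lib.Helper23.QCohLocal.isQuasicoherent_of_shortExact T hT hF.1.1 hG.1.1,
      Groth.Agent.R2.H5.CohThick.isFiniteType_of_shortExact T hT hF.1.1 hG.1.1 hF.1.2 hG.1.2⟩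
  have h1 : Γ.H.ok T.X₁ := Γ.ok_eq ▸ hF.1
  have h2 : Γ.H.ok T.X₂ := Γ.ok_eq ▸ hc2
  have h3 : Γ.H.ok T.X₃ := Γ.ok_eq ▸ hG.1
  have hp1 : Γ.H.IsPure T.X₁ n := (Γ.isPure_iff _ n).2 hFt
  have hp3 : Γ.H.IsPure T.X₃ n := (Γ.isPure_iff _ n).2 hGt
  have hp2 : Γ.H.IsPure T.X₂ n := isPure_of_shortExact Γ.H T hT h1 h2 h3 hp1 hp3
  have hss1 : IsMuSS Γ.H.ok Γ.H.HP n T.X₁ := by rw [Γ.ok_eq, Γ.HP_eq]; exact hF.2.2.2.2
  have hss3 : IsMuSS Γ.H.ok Γ.H.HP n T.X₃ := by rw [Γ.ok_eq, Γ.HP_eq]; exact hG.2.2.2.2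
  have hP1 : Γ.H.HP T.X₁ pF := Γ.HP_eq ▸ hpF
  have hP3 : Γ.H.HP T.X₃ pG := Γ.HP_eq ▸ hpG
  have h20 : ¬ IsZero T.X₂ := by
    have := hT.mono_f
    exact fun h => hF.2.1 (IsZero.of_mono T.f h)
  have hss2 : IsMuSS Γ.H.ok Γ.H.HP n T.X₂ :=
    isMuSS_of_shortExact Γ.H T hT hn h1 h2 h3 hF.2.1 hG.2.1 hp1 hp3 hss1 hss3 hP1 hP3 hμ
  refine ⟨⟨hc2, h20, ?_, ?_, ?_⟩, ?_⟩
  · rw [← hdim]; exact hp2.dim_eq Γ.H h2 h20
  · intro F' ι' hι' hF'
    have := hι'
    rw [← hdim]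
    rcases dim_eq_bot_or Γ.H hp2 ι' (Γ.ok_eq ▸ hF') with hd | hd
    · rw [hd, WithBot.bot_add]
      exact (WithBot.bot_lt_coe _).ne
    · rw [hd]
      exact withBot_nat_add_one_ne n
  · rw [Γ.ok_eq, Γ.HP_eq] at hss2; exact hss2
  · intro pH hpH
    exact hatSlope_of_shortExact Γ.H T hT h1 h2 h3 hP1 hP3 (Γ.HP_eq ▸ hpH)
      (Γ.H.alpha_pos n h1 (hp1.dim_eq Γ.H h1 hF.2.1) hP1)
      (Γ.H.alpha_pos n h3 (hp3.dim_eq Γ.H h3 hG.2.1) hP3) hμ

end Rows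

end Groth.Agent.R2.H60.StabSlope
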