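import Mathlib
import Groth.Agent.R2.H70StabMD
import Groth.Agent.R2.H37StabMU
import Groth.Agent.R2.H60StabSlope

/-!
# The maximal slope-destabilising subobject (helper60, PROJ:shstab, towards S18833)

For `H : HilbCtx C`, `1 ≤ n`, and `E` ok, nonzero, pure of dimension `n`: there is a nonzero `ok` subobject `F`
with `hatSlope n (G) ≤ hatSlope n (F)` for all nonzero `ok` subobjects `G`, and `G ≤ F` in case of equality.
The maximal slope is attained at the (Gieseker) maximal destabilising subobject (helper70's `H70StabMD`); the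
subobjects of maximal slope are closed under sums (see-saw), and `H.acc` gives the largest one.
-/

set_option autoImplicit false

universe v u

open CategoryTheory CategoryTheory.Limits Polynomial StabCat

namespace Groth.Agent.R2.H60.StabMuMD

open Groth.Agent.R2.H70.StabPoly Groth.Agent.R2.H70.StabCtx Groth.Agent.R2.H70.StabMD
  Groth.Agent.R2.H37.StabMU

variable {C : Type u} [Category.{v} C] [Abelian C] (H : HilbCtx C)

section

variable {E : C} {n : ℕ}

/-- the second multiplicity of a subobject -/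
noncomputable abbrev bS (n : ℕ) (A : Subobject E) : ℚ := alpha (n - 1) (H.hp (A : C))

/-- the slope of a subobject -/
noncomputable abbrev muS (n : ℕ) (A : Subobject E) : ℚ := hatSlope n (H.hp (A : C))

variable (hn : 1 ≤ n) (hE : H.ok E) (hpure : H.IsPure E n)

include hE hpure

theorem bS_eq {A : Subobject E} (hA : H.ok (A : C)) (hA0 : A ≠ ⊥) :
    bS H n A = muS H n A * aS H n A := by
  have ha := aS_pos H hE hpure hA hA0
  change alpha (n - 1) (H.hp (A : C)) = alpha (n - 1) (H.hp (A : C)) / alpha n (H.hp (A : C)) *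
    alpha n (H.hp (A : C))
  rw [div_mul_cancel₀]
  exact ha.ne'

include hn in
/-- **the maximal slope-destabilising subobject**, subobject form -/
theorem exists_muMaxDestab_sub (h0 : ¬ IsZero E) :
    ∃ F : Subobject E, H.ok (F : C) ∧ F ≠ ⊥ ∧ ∀ G : Subobject E, H.ok (G : C) → G ≠ ⊥ →
      muS H n G ≤ muS H n F ∧ (muS H n G = muS H n F → G ≤ F) := by
  obtain ⟨F₁, hF₁, hF₁0, hmax⟩ := exists_maxDestab_sub H hE hpure h0
  -- the slope of the Gieseker maximal destabilising subobject is maximal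
  have hle : ∀ G : Subobject E, H.ok (G : C) → G ≠ ⊥ → muS H n G ≤ muS H n F₁ := by
    intro G hG hG0
    exact hatSlope_le_of_redLE hn
      (H.natDegree_le n hG (Groth.Agent.R2.H70.StabMD.dim_sub_le H hE hpure hG) (H.HP_hp hG))
      (H.natDegree_le n hF₁ (Groth.Agent.R2.H70.StabMD.dim_sub_le H hE hpure hF₁) (H.HP_hp hF₁))
      (aS_pos H hE hpure hG hG0) (aS_pos H hE hpure hF₁ hF₁0) (hmax G hG hG0).1
  -- a maximal subobject of maximal slope
  have := H.wellFoundedGT_okSub hE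
  let T : Set (H.OkSub E) := {B | B.1 ≠ ⊥ ∧ muS H n B.1 = muS H n F₁}
  have hT : T.Nonempty := ⟨⟨F₁, hF₁⟩, hF₁0, rfl⟩
  obtain ⟨B, hBT, hBmax⟩ := (wellFounded_gt (α := H.OkSub E)).has_min T hT
  obtain ⟨hB0, hBμ⟩ := hBT
  refine ⟨B.1, B.2, hB0, fun G hG hG0 => ⟨by rw [hBμ]; exact hle G hG hG0, fun hGμ => ?_⟩⟩
  rw [hBμ] at hGμ
  -- see-saw: `G ⊔ B` has maximal slope
  have hU : H.ok ((G ⊔ B.1 : Subobject E) : C) := H.ok_sup hE hG B.2
  have hI : H.ok ((G ⊓ B.1 : Subobject E) : C) := H.ok_inf hE hG B.2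
  have hU0 : G ⊔ B.1 ≠ ⊥ := by
    intro h
    exact hB0 (le_bot_iff.1 (h ▸ le_sup_right))
  have hsum := H.hp_sup_add_hp_inf hE hG B.2
  have hasum : aS H n (G ⊔ B.1) + aS H n (G ⊓ B.1) = aS H n G + aS H n B.1 := by
    have := congrArg (alpha n) hsum
    rwa [alpha_add, alpha_add] at this
  have hbsum : bS H n (G ⊔ B.1) + bS H n (G ⊓ B.1) = bS H n G + bS H n B.1 := by
    have := congrArg (alpha (n - 1)) hsum
    rwa [alpha_add, alpha_add] at this
  have hbG := bS_eq H hE hpure hG hG0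
  have hbB := bS_eq H hE hpure B.2 hB0
  have hbU := bS_eq H hE hpure hU hU0
  rw [hGμ] at hbG
  rw [hBμ] at hbB
  have hbI : bS H n (G ⊓ B.1) ≤ muS H n F₁ * aS H n (G ⊓ B.1) := by
    by_cases hI0 : G ⊓ B.1 = ⊥
    · have hz : H.hp ((G ⊓ B.1 : Subobject E) : C) = 0 := by rw [hI0]; exact H.hp_bot
      change alpha (n - 1) (H.hp ((G ⊓ B.1 : Subobject E) : C)) ≤
        muS H n F₁ * alpha n (H.hp ((G ⊓ B.1 : Subobject E) : C))
      rw [hz, alpha_zero, alpha_zero, mul_zero]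
    · rw [bS_eq H hE hpure hI hI0]
      exact mul_le_mul_of_nonneg_right (hle _ hI hI0) (aS_pos H hE hpure hI hI0).le
  have haU := aS_pos H hE hpure hU hU0
  have hμU : muS H n F₁ ≤ muS H n (G ⊔ B.1) := by
    have h1 : muS H n F₁ * aS H n (G ⊔ B.1) ≤ muS H n (G ⊔ B.1) * aS H n (G ⊔ B.1) := by
      rw [← hbU]
      have e : muS H n F₁ * aS H n (G ⊔ B.1) =
          muS H n F₁ * aS H n G + muS H n F₁ * aS H n B.1 - muS H n F₁ * aS H n (G ⊓ B.1) := by
        have : aS H n (G ⊔ B.1) = aS H n G + aS H n B.1 - aS H n (G ⊓ B.1) := by linarith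
        rw [this]
        ring
      rw [e]
      linarith
    exact le_of_mul_le_mul_right h1 haU
  have hUμ : muS H n (G ⊔ B.1) = muS H n F₁ := le_antisymm (hle _ hU hU0) hμU
  have hmem : (⟨G ⊔ B.1, hU⟩ : H.OkSub E) ∈ T := ⟨hU0, hUμ⟩
  have hnot := hBmax _ hmem
  have heq : G ⊔ B.1 = B.1 := by
    by_contra hne
    apply hnot
    exact lt_of_le_of_ne (show B.1 ≤ G ⊔ B.1 from le_sup_right)
      (fun h => hne (congrArg Subtype.val h).symm)
  exact heq ▸ le_sup_left

end

/-- `ι : F ⟶ Q` is a maximal slope-destabilising subobject -/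
def IsMuMaxDestab (n : ℕ) (Q F : C) (ι : F ⟶ Q) : Prop :=
  Mono ι ∧ H.ok F ∧ ¬ IsZero F ∧
    ∀ (G : C) (κ : G ⟶ Q), Mono κ → H.ok G → ¬ IsZero G →
      ∀ (pF pG : ℚ[X]), H.HP F pF → H.HP G pG →
        hatSlope n pG ≤ hatSlope n pF ∧ (hatSlope n pG = hatSlope n pF → ∃ φ : G ⟶ F, φ ≫ ι = κ)

/-- **existence of the maximal slope-destabilising subobject** -/
theorem exists_isMuMaxDestab {n : ℕ} (hn : 1 ≤ n) {E : C} (hE : H.ok E) (hpure : H.IsPure E n)
    (h0 : ¬ IsZero E) : ∃ (F : C) (ι : F ⟶ E), IsMuMaxDestab H n E F ι := by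
  obtain ⟨F, hF, hF0, hmax⟩ := exists_muMaxDestab_sub H hn hE hpure h0
  refine ⟨(F : C), F.arrow, inferInstance, hF, fun h => hF0 ((HilbCtx.eq_bot_iff_isZero F).2 h), ?_⟩
  intro G κ hκ hG hG0 pF pG hpF hpG
  have := hκ
  have hGk : H.ok ((Subobject.mk κ : Subobject E) : C) := H.ok_mk κ hG
  have hGk0 : Subobject.mk κ ≠ ⊥ := by
    intro h
    apply hG0
    have := (HilbCtx.eq_bot_iff_isZero (Subobject.mk κ)).1 h
    exact this.of_iso (Subobject.underlyingIso κ).symm
  have e1 : H.hp ((Subobject.mk κ : Subobject E) : C) = pG := by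
    rw [H.hp_mk κ hG]; exact H.hp_eq hpG
  have e2 : H.hp (F : C) = pF := H.hp_eq hpF
  obtain ⟨h1, h2⟩ := hmax (Subobject.mk κ) hGk hGk0
  change hatSlope n (H.hp _) ≤ hatSlope n (H.hp _) at h1
  change hatSlope n (H.hp _) = hatSlope n (H.hp _) → _ at h2
  rw [e1, e2] at h1 h2
  refine ⟨h1, fun heq => ?_⟩
  have hle := h2 heq
  refine ⟨(Subobject.underlyingIso κ).inv ≫ Subobject.ofLE _ _ hle, ?_⟩
  rw [Category.assoc, Subobject.ofLE_arrow, Subobject.underlyingIso_arrow]

end Groth.Agent.R2.H60.StabMuMD
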