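import Mathlib
import Groth.Prelude.Def_StabCat
import Groth.Agent.Lib.Helper27SubobjAb

/-!
# Subquotients of a fixed object in an abelian category (helper74, PROJ:shstab, PKG-HN toolkit)

For `x ≤ y` in `Subobject E` (abelian category) the subquotient `sq x y h = cokernel (ofLE x y h)`;
`StabCat.factor s i` is definitionally such a subquotient.  We provide the induced maps
`sqMap : y/a ⟶ z/b` (`a ≤ b`, `y ≤ z`), the criterion `sqMap = 0 → y ≤ b`, monomorphy when `b ≤ a`,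
functoriality, and the correspondence theorem: a monomorphism `T ⟶ z/x` is `y/x ⟶ z/x` for a unique
`x ≤ y ≤ z` (existence part, with `y ≅ ker (z ⟶ z/x ⟶ coker)`).  Mathlib + `Def_StabCat` +
`Lib/Helper27SubobjAb` only.
-/

set_option autoImplicit false
set_option linter.style.haveILetI false

universe v u

open CategoryTheory CategoryTheory.Limits

namespace Groth.Agent.R2.H74.StabHNA

open Groth.Agent.Lib.Helper27.SubobjAb

variable {C : Type u} [Category.{v} C] [Abelian C] {E : C}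

/-- the subquotient `y/x` of `E` -/
noncomputable abbrev sq (x y : Subobject E) (h : x ≤ y) : C := cokernel (Subobject.ofLE x y h)

/-- the projection `y ⟶ y/x` -/
noncomputable abbrev sqπ (x y : Subobject E) (h : x ≤ y) : (y : C) ⟶ sq x y h :=
  cokernel.π (Subobject.ofLE x y h)

theorem factor_eq {s : LTSeries (Subobject E)} (i : Fin s.length) :
    StabCat.factor s i = sq (s i.castSucc) (s i.succ) (le_of_lt (s.step i)) := rfl

/-- subquotients only depend on the subobjects -/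
noncomputable def sqIsoOfEq {x y x' y' : Subobject E} (h : x ≤ y) (h' : x' ≤ y') (hx : x = x')
    (hy : y = y') : sq x y h ≅ sq x' y' h' := by
  subst hx; subst hy; exact Iso.refl _

/-- the induced map `y/a ⟶ z/b` for `a ≤ b`, `y ≤ z` -/
noncomputable def sqMap {a y b z : Subobject E} (h₁ : a ≤ y) (h₂ : b ≤ z) (hab : a ≤ b) (hyz : y ≤ z) :
    sq a y h₁ ⟶ sq b z h₂ :=
  cokernel.map _ _ (Subobject.ofLE a b hab) (Subobject.ofLE y z hyz)
    (by rw [Subobject.ofLE_comp_ofLE, Subobject.ofLE_comp_ofLE])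

@[reassoc (attr := simp)]
theorem π_sqMap {a y b z : Subobject E} (h₁ : a ≤ y) (h₂ : b ≤ z) (hab : a ≤ b) (hyz : y ≤ z) :
    sqπ a y h₁ ≫ sqMap h₁ h₂ hab hyz = Subobject.ofLE y z hyz ≫ sqπ b z h₂ := by
  simp [sqMap, sqπ]

theorem sqMap_comp {a y b z c w : Subobject E} (h₁ : a ≤ y) (h₂ : b ≤ z) (h₃ : c ≤ w)
    (hab : a ≤ b) (hyz : y ≤ z) (hbc : b ≤ c) (hzw : z ≤ w) :
    sqMap h₁ h₂ hab hyz ≫ sqMap h₂ h₃ hbc hzw = sqMap h₁ h₃ (hab.trans hbc) (hyz.trans hzw) := by
  rw [← cancel_epi (sqπ a y h₁)]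
  simp

/-- `y/a ⟶ z/b` vanishes as soon as `y ≤ b` -/
theorem sqMap_eq_zero_of_le {a y b z : Subobject E} (h₁ : a ≤ y) (h₂ : b ≤ z) (hab : a ≤ b)
    (hyz : y ≤ z) (hyb : y ≤ b) : sqMap h₁ h₂ hab hyz = 0 := by
  rw [← cancel_epi (sqπ a y h₁), π_sqMap, comp_zero]
  have : Subobject.ofLE y z hyz = Subobject.ofLE y b hyb ≫ Subobject.ofLE b z h₂ := by
    rw [Subobject.ofLE_comp_ofLE]
  rw [this, Category.assoc]
  simp [sqπ]

/-- if `y/a ⟶ z/b` vanishes then `y ≤ b` -/
theorem le_of_sqMap_eq_zero {a y b z : Subobject E} (h₁ : a ≤ y) (h₂ : b ≤ z) (hab : a ≤ b)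
    (hyz : y ≤ z) (h0 : sqMap h₁ h₂ hab hyz = 0) : y ≤ b := by
  have h : Subobject.ofLE y z hyz ≫ sqπ b z h₂ = 0 := by
    rw [← π_sqMap h₁ h₂ hab hyz, h0, comp_zero]
  obtain ⟨r, hr⟩ := exists_lift_ofLE h₂ (Subobject.ofLE y z hyz) h
  apply Subobject.le_of_factors
  have : y.arrow = r ≫ b.arrow := by
    rw [← Subobject.ofLE_arrow h₂, ← Category.assoc, hr, Subobject.ofLE_arrow]
  rw [this]
  exact Subobject.factors_comp_arrow _

/-- `y/a ⟶ z/a` is a monomorphism -/
theorem mono_sqMap {a y b z : Subobject E} (h₁ : a ≤ y) (h₂ : b ≤ z) (hab : a ≤ b) (hyz : y ≤ z)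
    (hba : b ≤ a) : Mono (sqMap h₁ h₂ hab hyz) := by
  apply Preadditive.mono_of_cancel_zero
  intro T f hf
  obtain ⟨T', p, hp, g, hg⟩ := surjective_up_to_refinements_of_epi (sqπ a y h₁) f
  have h1 : (g ≫ Subobject.ofLE y z hyz) ≫ sqπ b z h₂ = 0 := by
    rw [Category.assoc, ← π_sqMap h₁ h₂ hab hyz, ← Category.assoc, ← hg, Category.assoc, hf, comp_zero]
  obtain ⟨r, hr⟩ := exists_lift_ofLE h₂ _ h1
  have h2 : g = (r ≫ Subobject.ofLE b a hba) ≫ Subobject.ofLE a y h₁ := by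
    rw [← cancel_mono (Subobject.ofLE y z hyz), ← hr, Category.assoc, Category.assoc,
      Subobject.ofLE_comp_ofLE, Subobject.ofLE_comp_ofLE]
  have h3 : p ≫ f = 0 := by
    rw [hg, h2, Category.assoc]
    simp [sqπ]
  exact (cancel_epi p).mp (by rw [h3, comp_zero])

/-- the subquotient `x/x` vanishes -/
theorem isZero_sq_self (x : Subobject E) : IsZero (sq x x le_rfl) := by
  have : Subobject.ofLE x x le_rfl = 𝟙 _ := by
    rw [← cancel_mono x.arrow, Subobject.ofLE_arrow, Category.id_comp]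
  have hepi : Epi (Subobject.ofLE x x le_rfl) := by rw [this]; infer_instance
  exact isZero_cokernel_of_epi _

/-- `y/x` is nonzero for `x < y` -/
theorem not_isZero_sq {x y : Subobject E} (h : x < y) : ¬ IsZero (sq x y h.le) := by
  intro h0
  exact h.not_ge (le_of_cokernel_π_eq_zero h.le (h0.eq_of_tgt _ _))

/-- if `y/x` vanishes then `y ≤ x` -/
theorem le_of_isZero_sq {x y : Subobject E} (h : x ≤ y) (h0 : IsZero (sq x y h)) : y ≤ x :=
  le_of_cokernel_π_eq_zero h (h0.eq_of_tgt _ _)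

/-- `E ≅ ⊤/⊥` -/
noncomputable def sqBotTopIso : sq (⊥ : Subobject E) ⊤ bot_le ≅ E := by
  have h0 : Subobject.ofLE (⊥ : Subobject E) ⊤ bot_le = 0 :=
    (Subobject.botCoeIsoZero.isZero_iff.2 (isZero_zero C)).eq_of_src _ _
  exact cokernelIsoOfEq h0 ≪≫ cokernelZeroIsoTarget ≪≫ asIso (⊤ : Subobject E).arrow

/-- **Correspondence theorem** (existence part): a monomorphism `j : T ⟶ z/x` is the inclusion of `y/x`
for some `x ≤ y ≤ z`, and `y` is the kernel of `z ⟶ z/x ⟶ coker j`. -/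
theorem exists_of_mono_sq {x z : Subobject E} (hxz : x ≤ z) {T : C} (j : T ⟶ sq x z hxz) [Mono j] :
    ∃ (y : Subobject E) (hxy : x ≤ y) (hyz : y ≤ z) (e : sq x y hxy ≅ T),
      e.hom ≫ j = sqMap hxy hxz le_rfl hyz ∧
      Nonempty ((y : C) ≅ kernel (sqπ x z hxz ≫ cokernel.π j)) := by
  set π := sqπ x z hxz with hπ
  set c := cokernel.π j with hc
  let k := kernel.ι (π ≫ c)
  let y : Subobject E := Subobject.mk (k ≫ z.arrow)
  let u : (y : C) ≅ kernel (π ≫ c) := Subobject.underlyingIso (k ≫ z.arrow)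
  have hyz : y ≤ z := Subobject.mk_le_of_comm k rfl
  have hu : u.hom ≫ k = Subobject.ofLE y z hyz := by
    rw [← cancel_mono z.arrow, Category.assoc, Subobject.ofLE_arrow]
    exact Subobject.underlyingIso_hom_comp_eq_mk _
  -- `x ≤ y`
  have hxk : Subobject.ofLE x z hxz ≫ (π ≫ c) = 0 := by
    rw [← Category.assoc]; simp [hπ, sqπ]
  let l : (x : C) ⟶ kernel (π ≫ c) := kernel.lift _ (Subobject.ofLE x z hxz) hxk
  have hl : l ≫ k = Subobject.ofLE x z hxz := kernel.lift_ι _ _ _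
  have hxy : x ≤ y := by
    apply Subobject.le_of_factors
    have : x.arrow = l ≫ (k ≫ z.arrow) := by
      rw [← Category.assoc, hl, Subobject.ofLE_arrow]
    rw [this]
    exact Subobject.factors_of_factors_right l (Subobject.mk_factors_self _)
  have hlu : Subobject.ofLE x y hxy ≫ u.hom = l := by
    rw [← cancel_mono k, Category.assoc, hu, hl, Subobject.ofLE_comp_ofLE]
  -- the map `g : ker ⟶ T`
  have hkc : (k ≫ π) ≫ cokernel.π j = 0 := by
    rw [Category.assoc]; exact kernel.condition _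
  let g : kernel (π ≫ c) ⟶ T := Abelian.monoLift j (k ≫ π) hkc
  have hg : g ≫ j = k ≫ π := Abelian.monoLift_comp j _ hkc
  have hgepi : Epi g := by
    rw [epi_iff_surjective_up_to_refinements]
    intro W t
    obtain ⟨W', p, hp, w, hw⟩ := surjective_up_to_refinements_of_epi π (t ≫ j)
    have hw0 : w ≫ (π ≫ c) = 0 := by
      rw [← Category.assoc, ← hw, Category.assoc, Category.assoc]
      simp [hc]
    refine ⟨W', p, hp, kernel.lift _ w hw0, ?_⟩
    have hkl : kernel.lift (π ≫ c) w hw0 ≫ k = w := kernel.lift_ι _ _ _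
    rw [← cancel_mono j, Category.assoc, Category.assoc, hg, reassoc_of% hkl, hw]
  have hlg : l ≫ g = 0 := by
    rw [← cancel_mono j, Category.assoc, hg, ← Category.assoc, hl, zero_comp]
    simp [hπ, sqπ]
  have key : ∀ {W : C} (t : W ⟶ kernel (π ≫ c)), t ≫ g = 0 → ∃ r, r ≫ l = t := by
    intro W t ht
    have h1 : (t ≫ k) ≫ sqπ x z hxz = 0 := by
      rw [Category.assoc, ← hπ, ← hg, ← Category.assoc, ht, zero_comp]
    obtain ⟨r, hr⟩ := exists_lift_ofLE hxz (t ≫ k) h1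
    refine ⟨r, ?_⟩
    rw [← cancel_mono k, Category.assoc, hl, hr]
  have h3 : IsLimit (KernelFork.ofι l hlg) :=
    KernelFork.IsLimit.ofι' l hlg (fun {W} t ht => ⟨(key t ht).choose, (key t ht).choose_spec⟩)
  have h4 : IsColimit (CokernelCofork.ofπ g hlg) :=
    Abelian.epiIsCokernelOfKernel (KernelFork.ofι l hlg) h3
  -- cokernel of `ofLE x y` versus cokernel of `l`
  let e₁ : sq x y hxy ≅ cokernel l :=
    cokernel.mapIso _ _ (Iso.refl _) u (by rw [Iso.refl_hom, Category.id_comp, hlu])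
  let e₂ : cokernel l ≅ T := IsColimit.coconePointUniqueUpToIso (cokernelIsCokernel l) h4
  refine ⟨y, hxy, hyz, e₁ ≪≫ e₂, ?_, ⟨u⟩⟩
  rw [← cancel_epi (sqπ x y hxy), π_sqMap]
  have he₁ : sqπ x y hxy ≫ e₁.hom = u.hom ≫ cokernel.π l := by
    simp [e₁, sqπ]
  have he₂ : cokernel.π l ≫ e₂.hom = g :=
    IsColimit.comp_coconePointUniqueUpToIso_hom (cokernelIsCokernel l) h4 WalkingParallelPair.one
  rw [Iso.trans_hom, Category.assoc, ← Category.assoc (sqπ x y hxy), he₁, Category.assoc,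
    ← Category.assoc (cokernel.π l), he₂, hg, ← Category.assoc, hu]

end Groth.Agent.R2.H74.StabHNA
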