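import Mathlib
import Groth.Agent.R2.H70StabHom
import Groth.Agent.R2.H74StabHNA

/-!
# Harder–Narasimhan filtrations in a Hilbert-polynomial context: uniqueness and `Hom`-vanishing
(helper74, PROJ:shstab, PKG-HN)

`IsHNFrom H d a s`: the chain `s` of subobjects of `E` runs from `a` to `⊤`, its factors are semistable of
dimension `d` and the reduced polynomials of consecutive factors strictly decrease (`a = ⊥`: `StabCat.IsHNWith`).

* `IsHNFrom.redLT_of_lt`, `IsHNFrom.redLE_of_le` : the reduced polynomials decrease along the whole chain;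
* `hom_eq_zero_of_pmin_gt_pmax` : HL 1.3.3 (abstract form of S15199);
* `IsHNFrom.unique` : two HN chains from the same `a` coincide (HL 1.3.4, uniqueness).
-/

set_option autoImplicit false
set_option linter.style.haveILetI false

universe v u

open CategoryTheory CategoryTheory.Limits Polynomial StabCat

namespace Groth.Agent.R2.H74.StabHN

open Groth.Agent.R2.H70.StabPoly Groth.Agent.R2.H70.StabCtx Groth.Agent.R2.H70.StabHom
open Groth.Agent.R2.H74.StabHNA Groth.Agent.Lib.Helper27.SubobjAb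

variable {C : Type u} [Category.{v} C] [Abelian C] (H : HilbCtx C) (d : ℕ)

/-- `s` is a Harder–Narasimhan chain of subobjects of `E` from `a` to `⊤`. -/
structure IsHNFrom {E : C} (a : Subobject E) (s : LTSeries (Subobject E)) : Prop where
  head : s.head = a
  last : s.last = ⊤
  ss : ∀ i : Fin s.length, H.IsSemistable (factor s i) d
  dec : ∀ (i j : Fin s.length), i.val + 1 = j.val →
    ∀ (p q : ℚ[X]), H.HP (factor s i) p → H.HP (factor s j) q → RedLT d q p

theorem isHNWith_iff {E : C} (s : LTSeries (Subobject E)) :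
    IsHNWith (fun G => H.IsSemistable G d) H.HP d E s ↔ IsHNFrom H d ⊥ s :=
  ⟨fun h => ⟨h.1, h.2.1, h.2.2.1, h.2.2.2⟩, fun h => ⟨h.head, h.last, h.ss, h.dec⟩⟩

variable {H d}

theorem IsHNFrom.redLT_of_lt {E : C} {a : Subobject E} {s : LTSeries (Subobject E)}
    (hs : IsHNFrom H d a s) :
    ∀ (n : ℕ) (i j : Fin s.length), i.val + n + 1 = j.val → ∀ (p q : ℚ[X]),
      H.HP (factor s i) p → H.HP (factor s j) q → RedLT d q p := by
  intro n
  induction n with
  | zero =>
    intro i j hij p q hp hq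
    exact hs.dec i j (by omega) p q hp hq
  | succ n ih =>
    intro i j hij p q hp hq
    have hm : i.val + 1 < s.length := by have := j.isLt; omega
    obtain ⟨pm, hpm⟩ := H.HP_exists (hs.ss ⟨i.val + 1, hm⟩).1
    have h1 := hs.dec i ⟨i.val + 1, hm⟩ rfl p pm hp hpm
    have h2 := ih ⟨i.val + 1, hm⟩ j (by simp only; omega) pm q hpm hq
    exact redLT_of_redLT_of_redLE (alpha_pos_of_isSemistable H (hs.ss j) hq).le
      (alpha_pos_of_isSemistable H (hs.ss _) hpm) (alpha_pos_of_isSemistable H (hs.ss i) hp) h2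
      (redLT_le h1)

theorem IsHNFrom.redLE_of_le {E : C} {a : Subobject E} {s : LTSeries (Subobject E)}
    (hs : IsHNFrom H d a s) (i j : Fin s.length) (hij : i ≤ j) (p q : ℚ[X])
    (hp : H.HP (factor s i) p) (hq : H.HP (factor s j) q) : RedLE d q p := by
  rcases eq_or_lt_of_le hij with h | h
  · subst h
    exact redLE_of_eq (H.HP_unique hq hp)
  · have h' : i.val < j.val := h
    exact redLT_le (hs.redLT_of_lt (j.val - i.val - 1) i j (by omega) p q hp hq)

/-- **HL 1.3.3** (abstract form of S15199): `Hom(F, G) = 0` if `p_min(F) > p_max(G)`. -/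
theorem hom_eq_zero_of_pmin_gt_pmax {F G : C} {s : LTSeries (Subobject F)}
    {t : LTSeries (Subobject G)} (hs : IsHNFrom H d ⊥ s) (ht : IsHNFrom H d ⊥ t)
    (i : Fin s.length) (hi : i.val + 1 = s.length) (j : Fin t.length) (hj : j.val = 0)
    {pmin pmax : ℚ[X]} (hpmin : H.HP (factor s i) pmin) (hpmax : H.HP (factor t j) pmax)
    (hlt : RedLT d pmax pmin) (φ : F ⟶ G) : φ = 0 := by
  classical
  by_contra hφ
  -- Step 1: the first step of `s` on which `φ` does not vanish
  have hex : ∃ n, ∃ h : n < s.length + 1, (s ⟨n, h⟩).arrow ≫ φ ≠ 0 := by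
    refine ⟨s.length, Nat.lt_succ_self _, ?_⟩
    have : s ⟨s.length, Nat.lt_succ_self _⟩ = ⊤ := hs.last
    rw [this]
    intro h0
    exact hφ ((cancel_epi (⊤ : Subobject F).arrow).1 (by rw [h0, Limits.comp_zero]))
  obtain ⟨hn₀lt, hn₀ne⟩ := Nat.find_spec hex
  have hn₀min := fun {m : ℕ} (hm : m < Nat.find hex) => Nat.find_min hex hm
  generalize Nat.find hex = n₀ at hn₀lt hn₀ne hn₀min
  have hn₀pos : n₀ ≠ 0 := by
    rintro rfl
    apply hn₀ne
    have : s ⟨0, hn₀lt⟩ = ⊥ := hs.head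
    rw [this, Subobject.bot_arrow, Limits.zero_comp]
  obtain ⟨a', rfl⟩ := Nat.exists_eq_succ_of_ne_zero hn₀pos
  have ha'lt : a' < s.length := by omega
  let ia : Fin s.length := ⟨a', ha'lt⟩
  have hx0 : (s ia.castSucc).arrow ≫ φ = 0 := by
    by_contra h
    exact hn₀min (m := a') (Nat.lt_succ_self _) ⟨by omega, h⟩
  have hy : (s ia.succ).arrow ≫ φ ≠ 0 := hn₀ne
  let ψ : sq (s ia.castSucc) (s ia.succ) (le_of_lt (s.step ia)) ⟶ G :=
    cokernel.desc (Subobject.ofLE (s ia.castSucc) (s ia.succ) (le_of_lt (s.step ia)))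
      ((s ia.succ).arrow ≫ φ) (by rw [← Category.assoc, Subobject.ofLE_arrow]; exact hx0)
  have hπψ : cokernel.π (Subobject.ofLE (s ia.castSucc) (s ia.succ) (le_of_lt (s.step ia))) ≫ ψ =
      (s ia.succ).arrow ≫ φ := cokernel.π_desc _ _ _
  have hψ : ψ ≠ 0 := by
    intro h0
    apply hy
    rw [← hπψ, h0, Limits.comp_zero]
  -- Step 2: the first step of `t` through which `ψ` factors
  have hex' : ∃ n, ∃ h : n < t.length + 1, (t ⟨n, h⟩).Factors ψ := by
    refine ⟨t.length, Nat.lt_succ_self _, ?_⟩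
    have : t ⟨t.length, Nat.lt_succ_self _⟩ = ⊤ := ht.last
    rw [this]
    exact Subobject.top_factors ψ
  obtain ⟨hn₁lt, hn₁f⟩ := Nat.find_spec hex'
  have hn₁min := fun {m : ℕ} (hm : m < Nat.find hex') => Nat.find_min hex' hm
  generalize Nat.find hex' = n₁ at hn₁lt hn₁f hn₁min
  have hn₁pos : n₁ ≠ 0 := by
    rintro rfl
    apply hψ
    have : t ⟨0, hn₁lt⟩ = ⊥ := ht.head
    rw [this] at hn₁f
    exact (Subobject.bot_factors_iff_zero ψ).1 hn₁f
  obtain ⟨b', rfl⟩ := Nat.exists_eq_succ_of_ne_zero hn₁pos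
  have hb'lt : b' < t.length := by omega
  let ib : Fin t.length := ⟨b', hb'lt⟩
  have hnfac : ¬ (t ib.castSucc).Factors ψ := by
    intro h
    exact hn₁min (m := b') (Nat.lt_succ_self _) ⟨by omega, h⟩
  have hfac : (t ib.succ).Factors ψ := hn₁f
  let ψ₁ : sq (s ia.castSucc) (s ia.succ) (le_of_lt (s.step ia)) ⟶ ((t ib.succ : Subobject G) : C) :=
    (t ib.succ).factorThru ψ hfac
  let ψ₂ : sq (s ia.castSucc) (s ia.succ) (le_of_lt (s.step ia)) ⟶
      sq (t ib.castSucc) (t ib.succ) (le_of_lt (t.step ib)) :=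
    ψ₁ ≫ cokernel.π (Subobject.ofLE (t ib.castSucc) (t ib.succ) (le_of_lt (t.step ib)))
  have hψ₂ : ψ₂ ≠ 0 := by
    intro h0
    obtain ⟨r, hr⟩ := exists_lift_ofLE (le_of_lt (t.step ib)) ψ₁ h0
    apply hnfac
    have : ψ = r ≫ (t ib.castSucc).arrow := by
      rw [← Subobject.ofLE_arrow (le_of_lt (t.step ib)), ← Category.assoc, hr]
      exact ((t ib.succ).factorThru_arrow ψ hfac).symm
    rw [this]
    exact Subobject.factors_comp_arrow _
  -- Step 3: compare the reduced polynomials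
  obtain ⟨pa, hpa⟩ := H.HP_exists (hs.ss ia).1
  obtain ⟨qb, hqb⟩ := H.HP_exists (ht.ss ib).1
  have h1 : RedLE d pmin pa := hs.redLE_of_le ia i (by
    change a' ≤ i.val
    omega) pa pmin hpa hpmin
  have h2 : RedLE d qb pmax := ht.redLE_of_le j ib (by
    change j.val ≤ b'
    omega) pmax qb hpmax hqb
  have h4 : RedLT d qb pmin :=
    redLT_of_redLE_of_redLT (alpha_pos_of_isSemistable H (ht.ss ib) hqb)
      (alpha_pos_of_isSemistable H (ht.ss j) hpmax) (alpha_pos_of_isSemistable H (hs.ss i) hpmin).le h2 hlt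
  have h5 : RedLT d qb pa :=
    redLT_of_redLT_of_redLE (alpha_pos_of_isSemistable H (ht.ss ib) hqb).le
      (alpha_pos_of_isSemistable H (hs.ss i) hpmin) (alpha_pos_of_isSemistable H (hs.ss ia) hpa) h4 h1
  exact hψ₂ (hom_eq_zero H (hs.ss ia) (ht.ss ib) hpa hqb h5 ψ₂)

/-- if `p(gr_k s) ≤ p(gr_k t)` and the chains agree at `k`, then `t (k+1) ≤ s (k+1)` -/
theorem le_succ_of_redLE {E : C} {a b : Subobject E} {s t : LTSeries (Subobject E)}
    (hs : IsHNFrom H d a s) (ht : IsHNFrom H d b t) (k : ℕ) (hks : k < s.length) (hkt : k < t.length)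
    (heq : s ⟨k, by omega⟩ = t ⟨k, by omega⟩) {ps pt : ℚ[X]}
    (hps : H.HP (factor s ⟨k, hks⟩) ps) (hpt : H.HP (factor t ⟨k, hkt⟩) pt) (hle : RedLE d ps pt) :
    t ⟨k + 1, by omega⟩ ≤ s ⟨k + 1, by omega⟩ := by
  classical
  have hex : ∃ n, ∃ h : n < s.length + 1, t ⟨k + 1, by omega⟩ ≤ s ⟨n, h⟩ := by
    refine ⟨s.length, Nat.lt_succ_self _, ?_⟩
    have : s ⟨s.length, Nat.lt_succ_self _⟩ = ⊤ := hs.last
    rw [this]
    exact le_top
  obtain ⟨hn₀lt, hn₀le⟩ := Nat.find_spec hex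
  have hn₀min := fun {m : ℕ} (hm : m < Nat.find hex) => Nat.find_min hex hm
  generalize Nat.find hex = n₀ at hn₀lt hn₀le hn₀min
  have hkn : k < n₀ := by
    by_contra hcon
    have h1 : s ⟨n₀, hn₀lt⟩ ≤ s ⟨k, by omega⟩ := s.monotone (Fin.mk_le_mk.2 (by omega))
    have h2 : t ⟨k, by omega⟩ < t ⟨k + 1, by omega⟩ := t.strictMono (Fin.mk_lt_mk.2 (by omega))
    exact lt_irrefl _ (lt_of_lt_of_le h2 (hn₀le.trans (h1.trans heq.le)))
  rcases Nat.eq_or_lt_of_le (Nat.succ_le_of_lt hkn) with h | h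
  · have : (⟨k + 1, by omega⟩ : Fin (s.length + 1)) = ⟨n₀, hn₀lt⟩ := Fin.ext h
    rw [this]
    exact hn₀le
  · exfalso
    obtain ⟨j', rfl⟩ := Nat.exists_eq_succ_of_ne_zero (show n₀ ≠ 0 by omega)
    have hj'lt : j' < s.length := by omega
    let is' : Fin s.length := ⟨j', hj'lt⟩
    let it : Fin t.length := ⟨k, hkt⟩
    have hnle : ¬ t it.succ ≤ s is'.castSucc := by
      intro hle'
      exact hn₀min (m := j') (Nat.lt_succ_self _) ⟨by omega, hle'⟩
    have hab : t it.castSucc ≤ s is'.castSucc := by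
      have h1 : s ⟨k, by omega⟩ ≤ s ⟨j', by omega⟩ := s.monotone (Fin.mk_le_mk.2 (by omega))
      exact heq.ge.trans h1
    have hyz : t it.succ ≤ s is'.succ := hn₀le
    let m : sq (t it.castSucc) (t it.succ) (le_of_lt (t.step it)) ⟶
        sq (s is'.castSucc) (s is'.succ) (le_of_lt (s.step is')) :=
      sqMap (le_of_lt (t.step it)) (le_of_lt (s.step is')) hab hyz
    have hm : m ≠ 0 := fun h0 => hnle (le_of_sqMap_eq_zero _ _ _ _ h0)
    obtain ⟨pj, hpj⟩ := H.HP_exists (hs.ss is').1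
    have h1 : RedLT d pj ps :=
      hs.redLT_of_lt (j' - k - 1) ⟨k, hks⟩ is' (by
        change k + (j' - k - 1) + 1 = j'
        omega) ps pj hps hpj
    have h2 : RedLT d pj pt :=
      redLT_of_redLT_of_redLE (alpha_pos_of_isSemistable H (hs.ss is') hpj).le
        (alpha_pos_of_isSemistable H (hs.ss _) hps) (alpha_pos_of_isSemistable H (ht.ss _) hpt) h1 hle
    exact hm (hom_eq_zero H (ht.ss it) (hs.ss is') hpt hpj h2 m)

/-- if the chains agree at `k` and `t (k+1) ≤ s (k+1)` then `p(gr_k t) ≤ p(gr_k s)` -/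
theorem redLE_of_succ_le {E : C} {a b : Subobject E} {s t : LTSeries (Subobject E)}
    (hs : IsHNFrom H d a s) (ht : IsHNFrom H d b t) (k : ℕ) (hks : k < s.length) (hkt : k < t.length)
    (heq : s ⟨k, by omega⟩ = t ⟨k, by omega⟩) {ps pt : ℚ[X]}
    (hps : H.HP (factor s ⟨k, hks⟩) ps) (hpt : H.HP (factor t ⟨k, hkt⟩) pt)
    (hle : t ⟨k + 1, by omega⟩ ≤ s ⟨k + 1, by omega⟩) : RedLE d pt ps := by
  let is' : Fin s.length := ⟨k, hks⟩
  let it : Fin t.length := ⟨k, hkt⟩
  have hab : t it.castSucc ≤ s is'.castSucc := heq.ge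
  have hba : s is'.castSucc ≤ t it.castSucc := heq.le
  have hyz : t it.succ ≤ s is'.succ := hle
  let m : sq (t it.castSucc) (t it.succ) (le_of_lt (t.step it)) ⟶
      sq (s is'.castSucc) (s is'.succ) (le_of_lt (s.step is')) :=
    sqMap (le_of_lt (t.step it)) (le_of_lt (s.step is')) hab hyz
  have hmono : Mono m := mono_sqMap _ _ _ _ hba
  by_cases hiso : IsIso m
  · have := H.HP_unique (H.HP_iso (asIso m) hpt) hps
    exact redLE_of_eq this
  · exact (hs.ss is').2.2.2 (factor t it) m hmono (ht.ss it).1 (ht.ss it).2.1 hiso pt ps hpt hps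

theorem IsHNFrom.apply_eq {E : C} {a : Subobject E} {s t : LTSeries (Subobject E)}
    (hs : IsHNFrom H d a s) (ht : IsHNFrom H d a t) :
    ∀ (k : ℕ) (hk : k < s.length + 1), ∃ hk' : k < t.length + 1, s ⟨k, hk⟩ = t ⟨k, hk'⟩ := by
  intro k
  induction k with
  | zero =>
    intro hk
    exact ⟨Nat.succ_pos _, hs.head.trans ht.head.symm⟩
  | succ k ih =>
    intro hk
    obtain ⟨hk', heq⟩ := ih (by omega)
    have hkt : k < t.length := by
      by_contra hcon
      have hkk : k = t.length := by omega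
      subst hkk
      have h1 : t ⟨t.length, hk'⟩ = ⊤ := ht.last
      have h2 : s ⟨t.length, by omega⟩ < s ⟨t.length + 1, hk⟩ :=
        s.strictMono (Fin.mk_lt_mk.2 (by omega))
      rw [heq, h1] at h2
      exact not_top_lt h2
    have hks : k < s.length := by omega
    refine ⟨by omega, ?_⟩
    obtain ⟨ps, hps⟩ := H.HP_exists (hs.ss ⟨k, hks⟩).1
    obtain ⟨pt, hpt⟩ := H.HP_exists (ht.ss ⟨k, hkt⟩).1
    rcases redLE_or_redLT d ps pt with h | h
    · have h1 := le_succ_of_redLE hs ht k hks hkt heq hps hpt h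
      have h2 := redLE_of_succ_le hs ht k hks hkt heq hps hpt h1
      have h3 := le_succ_of_redLE ht hs k hkt hks heq.symm hpt hps h2
      exact le_antisymm h3 h1
    · have h1 := le_succ_of_redLE ht hs k hkt hks heq.symm hpt hps (redLT_le h)
      have h2 := redLE_of_succ_le ht hs k hkt hks heq.symm hpt hps h1
      have h3 := le_succ_of_redLE hs ht k hks hkt heq hps hpt h2
      exact le_antisymm h1 h3

/-- **uniqueness of the Harder–Narasimhan chain** -/
theorem IsHNFrom.unique {E : C} {a : Subobject E} {s t : LTSeries (Subobject E)}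
    (hs : IsHNFrom H d a s) (ht : IsHNFrom H d a t) : s = t := by
  have h1 := hs.apply_eq ht
  have h2 := ht.apply_eq hs
  have hlen : s.length = t.length := by
    obtain ⟨h, _⟩ := h1 s.length (Nat.lt_succ_self _)
    obtain ⟨h', _⟩ := h2 t.length (Nat.lt_succ_self _)
    omega
  apply RelSeries.ext hlen
  funext i
  obtain ⟨h, e⟩ := h1 i.val i.isLt
  exact e

end Groth.Agent.R2.H74.StabHN
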