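import Mathlib
import Groth.Agent.R2.H74StabHNB

/-!
# Existence of the Harder–Narasimhan filtration in a Hilbert-polynomial context
(helper74, PROJ:shstab, PKG-HN)

Input: `MDStmt H d`, the existence of maximal destabilising subobjects of nonzero pure `ok` objects (PKG-MD).
By Noetherian induction on the `ok` subobject `a` of `E` (`H.acc`) we build a Harder–Narasimhan chain from `a`
to `⊤` whenever `E/a` is pure: the preimage `x₁` of the maximal destabilising subobject of `E/a` is the next
step, `E/x₁` is again pure, and `p(x₁/a) > p(x₂/x₁)` by maximality.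
-/

set_option autoImplicit false
set_option linter.style.haveILetI false

universe v u

open CategoryTheory CategoryTheory.Limits Polynomial StabCat

namespace Groth.Agent.R2.H74.StabHN

open Groth.Agent.R2.H70.StabPoly Groth.Agent.R2.H70.StabCtx Groth.Agent.R2.H70.StabHom
open Groth.Agent.R2.H74.StabHNA Groth.Agent.Lib.Helper27.SubobjAb

variable {C : Type u} [Category.{v} C] [Abelian C] (H : HilbCtx C) (d : ℕ)

/-- the abstract statement of PKG-MD: maximal destabilising subobjects exist -/
def MDStmt : Prop :=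
  ∀ E : C, H.ok E → ¬ IsZero E → H.IsPure E d →
    ∃ (F : C) (ι : F ⟶ E), IsMaxDestabWith H.ok H.HP d E F ι

variable {H d}

theorem isSemistable_of_iso {F F' : C} (e : F ≅ F') (h : H.IsSemistable F d) :
    H.IsSemistable F' d := by
  refine ⟨H.ok_iso e h.1, fun h0 => h.2.1 (h0.of_iso e), h.2.2.1.of_iso H e, ?_⟩
  intro G κ hκ hG hG0 hni pG pF' hpG hpF'
  haveI := hκ
  refine h.2.2.2 G (κ ≫ e.inv) (mono_comp _ _) hG hG0 ?_ pG pF' hpG (H.HP_iso e.symm hpF')
  intro hiso
  apply hni
  have : κ = (κ ≫ e.inv) ≫ e.hom := by simp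
  rw [this]
  infer_instance

theorem isSemistable_of_isMaxDestab {Q F : C} {ι : F ⟶ Q} (hQ : H.IsPure Q d)
    (h : IsMaxDestabWith H.ok H.HP d Q F ι) : H.IsSemistable F d := by
  obtain ⟨hm, hok, h0, hmax⟩ := h
  haveI := hm
  refine ⟨hok, h0, hQ.of_mono H ι, ?_⟩
  intro G κ hκ hG hG0 _ pG pF hpG hpF
  haveI := hκ
  exact (hmax G (κ ≫ ι) (mono_comp _ _) hG hG0 pF pG hpF hpG).1

theorem sq_congr (P : C → Prop) {E : C} {x y x' y' : Subobject E} (h : x ≤ y) (h' : x' ≤ y')
    (hx : x = x') (hy : y = y') : P (sq x y h) ↔ P (sq x' y' h') := by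
  subst hx; subst hy; rfl

/-- prepend `a` to a chain of subobjects -/
noncomputable def consS {E : C} (a : Subobject E) (s : LTSeries (Subobject E)) (h : a < s.head) :
    LTSeries (Subobject E) where
  length := s.length + 1
  toFun := (Fin.cons a s.toFun : Fin (s.length + 1 + 1) → Subobject E)
  step := by
    intro i
    refine Fin.cases ?_ (fun i => ?_) i
    · change (Fin.cons a s.toFun : Fin (s.length + 1 + 1) → Subobject E) 0 <
        (Fin.cons a s.toFun : Fin (s.length + 1 + 1) → Subobject E) (Fin.succ 0)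
      rw [Fin.cons_zero, Fin.cons_succ]
      exact h
    · change (Fin.cons a s.toFun : Fin (s.length + 1 + 1) → Subobject E) (Fin.succ i.castSucc) <
        (Fin.cons a s.toFun : Fin (s.length + 1 + 1) → Subobject E) (Fin.succ i.succ)
      rw [Fin.cons_succ, Fin.cons_succ]
      exact s.step i

omit [Abelian C] in
theorem consS_zero {E : C} (a : Subobject E) (s : LTSeries (Subobject E)) (h : a < s.head) :
    (consS a s h).toFun (0 : Fin (s.length + 1 + 1)) = a := by
  change (Fin.cons a s.toFun : Fin (s.length + 1 + 1) → Subobject E) 0 = a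
  exact Fin.cons_zero _ _

omit [Abelian C] in
theorem consS_succ {E : C} (a : Subobject E) (s : LTSeries (Subobject E)) (h : a < s.head)
    (i : Fin (s.length + 1)) : (consS a s h).toFun (Fin.succ i : Fin (s.length + 1 + 1)) = s i := by
  change (Fin.cons a s.toFun : Fin (s.length + 1 + 1) → Subobject E) (Fin.succ i) = s i
  exact Fin.cons_succ _ _ _

theorem factor_consS_zero (P : C → Prop) {E : C} (a : Subobject E) (s : LTSeries (Subobject E))
    (h : a < s.head) :
    P (factor (consS a s h) (0 : Fin (s.length + 1))) ↔ P (sq a s.head h.le) :=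
  sq_congr P _ _ (consS_zero a s h) (consS_succ a s h 0)

theorem factor_consS_succ (P : C → Prop) {E : C} (a : Subobject E) (s : LTSeries (Subobject E))
    (h : a < s.head) (i : Fin s.length) :
    P (factor (consS a s h) (Fin.succ i : Fin (s.length + 1))) ↔ P (factor s i) :=
  sq_congr P _ _ (consS_succ a s h i.castSucc) (consS_succ a s h i.succ)

/-- prepending a semistable step of larger reduced polynomial to an HN chain gives an HN chain -/
theorem isHNFrom_consS {E : C} (a : Subobject E) (s : LTSeries (Subobject E)) (h : a < s.head)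
    (hs : IsHNFrom H d s.head s) (hss : H.IsSemistable (sq a s.head h.le) d)
    (hdec : ∀ (h0 : 0 < s.length) (p q : ℚ[X]), H.HP (sq a s.head h.le) p →
      H.HP (factor s ⟨0, h0⟩) q → RedLT d q p) :
    IsHNFrom H d a (consS a s h) := by
  refine ⟨consS_zero a s h, ?_, ?_, ?_⟩
  · have : (consS a s h).last = (consS a s h).toFun (Fin.succ (Fin.last s.length) : Fin (s.length + 1 + 1)) := by
      rw [Fin.succ_last]; rfl
    rw [this, consS_succ a s h (Fin.last s.length)]
    exact hs.last
  · intro i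
    refine Fin.cases ?_ (fun i => ?_) i
    · exact (factor_consS_zero (fun G => H.IsSemistable G d) a s h).2 hss
    · exact (factor_consS_succ (fun G => H.IsSemistable G d) a s h i).2 (hs.ss i)
  · intro i j
    refine Fin.cases ?_ (fun i => ?_) i
    · refine Fin.cases ?_ (fun j => ?_) j
      · intro hij; simp at hij
      · intro hij p q hp hq
        have hj0 : j.val = 0 := by
          have : (0 : ℕ) + 1 = j.val + 1 := by simpa using hij
          omega
        have hpos : 0 < s.length := by have := j.isLt; omega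
        have hj : j = ⟨0, hpos⟩ := Fin.ext hj0
        subst hj
        exact hdec hpos p q ((factor_consS_zero (fun G => H.HP G p) a s h).1 hp)
          ((factor_consS_succ (fun G => H.HP G q) a s h _).1 hq)
    · refine Fin.cases ?_ (fun j => ?_) j
      · intro hij; simp at hij
      · intro hij p q hp hq
        have hij' : i.val + 1 = j.val := by
          have : i.val + 1 + 1 = j.val + 1 := by simpa using hij
          omega
        exact hs.dec i j hij' p q ((factor_consS_succ (fun G => H.HP G p) a s h i).1 hp)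
          ((factor_consS_succ (fun G => H.HP G q) a s h j).1 hq)

theorem wellFoundedGT_ok {E : C} (hE : H.ok E) :
    WellFoundedGT {x : Subobject E // H.ok (x : C)} := by
  rw [wellFoundedGT_iff_monotone_chain_condition]
  intro f
  obtain ⟨n, hn⟩ := H.acc hE ⟨fun n => (f n).1, fun a b hab => f.monotone hab⟩ (fun n => (f n).2)
  exact ⟨n, fun m hm => Subtype.ext (hn m hm).symm⟩

theorem redLT_sub_of_redLT {P Q : ℚ[X]} (h : RedLT d Q P) : RedLT d (Q - P) P := by
  unfold RedLT at *
  refine (polyLT_iff_of_sub_eq ?_).1 h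
  rw [alpha_sub]
  simp only [sub_smul, smul_sub]
  abel

/-- **existence of Harder–Narasimhan chains** from any `ok` subobject `a` with `E/a` pure -/
theorem exists_isHNFrom (hMD : MDStmt H d) {E : C} (hE : H.ok E) (hdim : H.dim E ≤ (d : WithBot ℕ∞)) :
    ∀ a : {x : Subobject E // H.ok (x : C)}, H.IsPure (sq a.1 ⊤ le_top) d →
      ∃ s : LTSeries (Subobject E), IsHNFrom H d a.1 s ∧ ∀ i, H.ok ((s i : Subobject E) : C) := by
  haveI := wellFoundedGT_ok hE
  intro a
  induction a using WellFoundedGT.induction with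
  | ind a IH =>
  obtain ⟨a, ha⟩ := a
  intro hp
  change H.IsPure (sq a ⊤ le_top) d at hp
  change ∃ s : LTSeries (Subobject E), IsHNFrom H d a s ∧ ∀ i, H.ok ((s i : Subobject E) : C)
  by_cases hat : a = ⊤
  · subst hat
    exact ⟨RelSeries.singleton _ ⊤, ⟨rfl, rfl, fun i => i.elim0, fun i => i.elim0⟩, fun _ => ha⟩
  · have hTop : H.ok ((⊤ : Subobject E) : C) := H.ok_iso (asIso (⊤ : Subobject E).arrow).symm hE
    have hQok : H.ok (sq a ⊤ le_top) := H.ok_cokernel _ ha hTop
    have hQ0 : ¬ IsZero (sq a ⊤ le_top) := not_isZero_sq (lt_top_iff_ne_top.2 hat)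
    obtain ⟨F, ι, hmd⟩ := hMD _ hQok hQ0 hp
    have hFss := isSemistable_of_isMaxDestab hp hmd
    obtain ⟨hm, hFok, hF0, hmax⟩ := hmd
    haveI := hm
    obtain ⟨x₁, hax, hx₁top, e, he, ⟨u⟩⟩ := exists_of_mono_sq le_top ι
    have hx₁ok : H.ok (x₁ : C) :=
      H.ok_iso u.symm (H.ok_kernel _ hTop (H.ok_cokernel ι hFok hQok))
    have hlt : a < x₁ := by
      refine lt_of_le_of_ne hax ?_
      rintro rfl
      exact hF0 ((isZero_sq_self a).of_iso e.symm)
    have hι : ι = e.inv ≫ sqMap hax le_top le_rfl le_top := by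
      rw [← he, Iso.inv_hom_id_assoc]
    -- the key consequence of maximality
    have key : ∀ (y : Subobject E) (_ : H.ok (y : C)) (hx₁y : x₁ < y) (pG pF : ℚ[X]),
        H.HP (sq a y (hax.trans hx₁y.le)) pG → H.HP F pF → RedLT d pG pF := by
      intro y hy hx₁y pG pF hpG hpF
      have hay : a ≤ y := hax.trans hx₁y.le
      have hGok : H.ok (sq a y hay) := H.ok_cokernel _ ha hy
      have hG0 : ¬ IsZero (sq a y hay) := not_isZero_sq (lt_of_lt_of_le hlt hx₁y.le)
      have hmono : Mono (sqMap hay (le_top : a ≤ ⊤) le_rfl le_top) := mono_sqMap _ _ _ _ le_rfl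
      obtain ⟨hle, hfac⟩ := hmax _ (sqMap hay (le_top : a ≤ ⊤) le_rfl le_top) hmono hGok hG0 pF pG hpF hpG
      rcases redLE_lt_or_eq hle with h | h
      · exact h
      · exfalso
        obtain ⟨φ, hφ⟩ := hfac h
        have h0 : sqMap hay (le_top : x₁ ≤ ⊤) hax le_top = 0 := by
          rw [← sqMap_comp hay (le_top : a ≤ ⊤) (le_top : x₁ ≤ ⊤) le_rfl le_top hax le_rfl, ← hφ, hι,
            Category.assoc, Category.assoc, sqMap_comp,
            sqMap_eq_zero_of_le hax (le_top : x₁ ≤ ⊤) _ _ le_rfl, Limits.comp_zero, Limits.comp_zero]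
        exact hx₁y.not_ge (le_of_sqMap_eq_zero _ _ _ _ h0)
    obtain ⟨A, hA⟩ := H.HP_exists ha
    obtain ⟨X₁, hX₁⟩ := H.HP_exists hx₁ok
    have hpF : H.HP F (X₁ - A) := H.HP_iso e (H.HP_cokernel _ ha hx₁ok hA hX₁)
    have hαF : 0 < alpha d (X₁ - A) := hp.alpha_pos H ι hFok hF0 hpF
    -- purity of `E/x₁`
    have hpure : H.IsPure (sq x₁ ⊤ le_top) d := by
      intro T j hj hTok hT0
      haveI := hj
      obtain ⟨y, hx₁y, -, e', -, ⟨u'⟩⟩ := exists_of_mono_sq le_top j
      have hyok : H.ok (y : C) :=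
        H.ok_iso u'.symm (H.ok_kernel _ hTop (H.ok_cokernel j hTok (H.ok_cokernel _ hx₁ok hTop)))
      have hx₁lty : x₁ < y := by
        refine lt_of_le_of_ne hx₁y ?_
        rintro rfl
        exact hT0 ((isZero_sq_self _).of_iso e'.symm)
      obtain ⟨Y, hY⟩ := H.HP_exists hyok
      have hpT : H.HP T (Y - X₁) := H.HP_iso e' (H.HP_cokernel _ hx₁ok hyok hX₁ hY)
      have hpG : H.HP (sq a y (hax.trans hx₁lty.le)) (Y - A) := H.HP_cokernel _ ha hyok hA hY
      have hlt' := key y hyok hx₁lty _ _ hpG hpF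
      have hdT : H.dim T ≤ (d : WithBot ℕ∞) := by
        rw [← H.dim_iso e']
        exact ((H.dim_cokernel_le _ hx₁ok hyok).trans (H.dim_le_of_mono y.arrow hyok hE)).trans hdim
      by_contra hne
      have hdlt : H.dim T < (d : WithBot ℕ∞) := lt_of_le_of_ne hdT hne
      have hα0 : alpha d (Y - X₁) = 0 := H.alpha_eq_zero_of_dim_lt hTok hdlt hpT
      have hαeq : alpha d (Y - A) = alpha d (X₁ - A) := by
        rw [alpha_sub] at hα0 ⊢
        rw [alpha_sub]
        linarith
      unfold RedLT at hlt'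
      rw [hαeq] at hlt'
      have h1 : PolyLT (Y - A) (X₁ - A) := polyLT_of_smul hαF hlt'
      have h2 : PolyLT (Y - X₁) 0 := (polyLT_iff_of_sub_eq (by ring)).1 h1
      exact not_polyLT_of_polyLE (H.polyLE_zero hTok hdT hpT) h2
    -- induction hypothesis
    obtain ⟨s, hs, hsok⟩ := IH ⟨x₁, hx₁ok⟩ hlt hpure
    change IsHNFrom H d x₁ s at hs
    obtain rfl := hs.head
    refine ⟨consS a s hlt, isHNFrom_consS a s hlt hs (isSemistable_of_iso e.symm hFss) ?_, ?_⟩
    · intro h0 p q hp' hq
      have hx₂ok : H.ok ((s ⟨1, by omega⟩ : Subobject E) : C) := hsok _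
      have hlt₂ : s.head < s ⟨1, by omega⟩ :=
        s.strictMono (show (⟨0, Nat.succ_pos _⟩ : Fin (s.length + 1)) < ⟨1, by omega⟩ from
          Fin.mk_lt_mk.2 (by omega))
      obtain ⟨X₂, hX₂⟩ := H.HP_exists hx₂ok
      have hq' : H.HP (factor s ⟨0, h0⟩) (X₂ - X₁) := by
        rw [factor_eq]
        exact H.HP_cokernel (Subobject.ofLE _ _ _) hx₁ok hx₂ok hX₁ hX₂
      have hpG : H.HP (sq a (s ⟨1, by omega⟩) (hax.trans hlt₂.le)) (X₂ - A) :=
        H.HP_cokernel _ ha hx₂ok hA hX₂
      have h1 := key _ hx₂ok hlt₂ _ _ hpG hpF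
      have h2 := redLT_sub_of_redLT h1
      have e1 : q = X₂ - X₁ := H.HP_unique hq hq'
      have e2 : p = X₁ - A := H.HP_unique hp' (H.HP_iso e.symm hpF)
      rw [e1, e2]
      have : X₂ - A - (X₁ - A) = X₂ - X₁ := by ring
      rw [this] at h2
      exact h2
    · intro i
      refine Fin.cases ?_ (fun i => ?_) i
      · exact (consS_zero a s hlt).symm ▸ ha
      · exact (consS_succ a s hlt i).symm ▸ hsok i

/-- **Harder–Narasimhan filtrations exist and are unique** (HL 1.3.4) in a Hilbert-polynomial context in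
which maximal destabilising subobjects exist. -/
theorem existsUnique_isHN (hMD : MDStmt H d) {E : C} (hE : H.ok E) (h0 : ¬ IsZero E)
    (hp : H.IsPure E d) :
    ∃! s : LTSeries (Subobject E), IsHNWith (fun G => H.IsSemistable G d) H.HP d E s := by
  have hdim : H.dim E ≤ (d : WithBot ℕ∞) := (hp.dim_eq H hE h0).le
  have hbot : H.ok ((⊥ : Subobject E) : C) :=
    H.ok_zero (Subobject.botCoeIsoZero.isZero_iff.2 (isZero_zero C))
  have hp' : H.IsPure (sq (⊥ : Subobject E) ⊤ le_top) d := hp.of_iso H sqBotTopIso.symm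
  obtain ⟨s, hs, -⟩ := exists_isHNFrom hMD hE hdim ⟨⊥, hbot⟩ hp'
  refine ⟨s, (isHNWith_iff H d s).2 hs, fun t ht => ?_⟩
  exact ((isHNWith_iff H d t).1 ht).unique hs

end Groth.Agent.R2.H74.StabHN
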