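import Mathlib
import Groth.Agent.R2.H74StabHNC
import Groth.Agent.R2.H60StabMuMD

/-!
# The slope Harder–Narasimhan filtration in a Hilbert-polynomial context (helper60, PROJ:shstab, S18833)

For `H : HilbCtx C`, `1 ≤ n` and `E` ok, nonzero, pure of dimension `n` there is exactly one chain of subobjects
from `⊥` to `⊤` whose factors are pure of dimension `n` and slope-semistable, with strictly decreasing
`hatSlope n` along consecutive factors.

* `MuSS H n F`: `F` is ok, nonzero, pure of dimension `n` and `IsMuSS`;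
* `IsMuHNFrom H n a s`: slope Harder–Narasimhan chain from `a` to `⊤`;
* `IsMuHNFrom.unique`, `exists_isMuHNFrom`, `existsUnique_isMuHN`;
* `s18833_of (hctx : PkgCtx)`: the frozen statement S18833.

The proofs follow helper74's `R2/H74StabHNB/HNC` (Gieseker case) with `RedLE` replaced by the comparison of
`hatSlope n`, using `R2/H60StabSlope` (`slope_le`, `hom_eq_zero_of_hatSlope_lt`) and `R2/H60StabMuMD`
(the maximal slope-destabilising subobject).
-/

set_option autoImplicit false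
set_option linter.style.haveILetI false

universe v u

open CategoryTheory CategoryTheory.Limits Polynomial StabCat

namespace Groth.Agent.R2.H60.StabMuHN

open Groth.Agent.R2.H70.StabPoly Groth.Agent.R2.H70.StabCtx Groth.Agent.R2.H70.StabHom
  Groth.Agent.R2.H74.StabHNA Groth.Agent.R2.H74.StabHN Groth.Agent.Lib.Helper27.SubobjAb
  Groth.Agent.R2.H60.StabSlope Groth.Agent.R2.H60.StabMuMD

variable {C : Type u} [Category.{v} C] [Abelian C] (H : HilbCtx C) (n : ℕ)

/-- `F` is ok, nonzero, pure of dimension `n` and slope-semistable -/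
def MuSS (F : C) : Prop := H.ok F ∧ ¬ IsZero F ∧ H.IsPure F n ∧ IsMuSS H.ok H.HP n F

/-- `s` is a slope Harder–Narasimhan chain of subobjects of `E` from `a` to `⊤`. -/
structure IsMuHNFrom {E : C} (a : Subobject E) (s : LTSeries (Subobject E)) : Prop where
  head : s.head = a
  last : s.last = ⊤
  ss : ∀ i : Fin s.length, MuSS H n (factor s i)
  dec : ∀ (i j : Fin s.length), i.val + 1 = j.val →
    ∀ (p q : ℚ[X]), H.HP (factor s i) p → H.HP (factor s j) q → hatSlope n q < hatSlope n p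

variable {H n}

theorem MuSS.alpha_pos {F : C} (h : MuSS H n F) {p : ℚ[X]} (hp : H.HP F p) : 0 < alpha n p :=
  H.alpha_pos n h.1 (h.2.2.1.dim_eq H h.1 h.2.1) hp

theorem IsMuHNFrom.lt_of_lt {E : C} {a : Subobject E} {s : LTSeries (Subobject E)}
    (hs : IsMuHNFrom H n a s) :
    ∀ (m : ℕ) (i j : Fin s.length), i.val + m + 1 = j.val → ∀ (p q : ℚ[X]),
      H.HP (factor s i) p → H.HP (factor s j) q → hatSlope n q < hatSlope n p := by
  intro m
  induction m with
  | zero =>
    intro i j hij p q hp hq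
    exact hs.dec i j (by omega) p q hp hq
  | succ m ih =>
    intro i j hij p q hp hq
    have hm : i.val + 1 < s.length := by have := j.isLt; omega
    obtain ⟨pm, hpm⟩ := H.HP_exists (hs.ss ⟨i.val + 1, hm⟩).1
    have h1 := hs.dec i ⟨i.val + 1, hm⟩ rfl p pm hp hpm
    have h2 := ih ⟨i.val + 1, hm⟩ j (by simp only; omega) pm q hpm hq
    exact h2.trans h1

/-- if `μ(gr_k s) ≤ μ(gr_k t)` and the chains agree at `k`, then `t (k+1) ≤ s (k+1)` -/
theorem le_succ_of_le (hn : 1 ≤ n) {E : C} {a b : Subobject E} {s t : LTSeries (Subobject E)}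
    (hs : IsMuHNFrom H n a s) (ht : IsMuHNFrom H n b t) (k : ℕ) (hks : k < s.length) (hkt : k < t.length)
    (heq : s ⟨k, by omega⟩ = t ⟨k, by omega⟩) {ps pt : ℚ[X]}
    (hps : H.HP (factor s ⟨k, hks⟩) ps) (hpt : H.HP (factor t ⟨k, hkt⟩) pt)
    (hle : hatSlope n ps ≤ hatSlope n pt) :
    t ⟨k + 1, by omega⟩ ≤ s ⟨k + 1, by omega⟩ := by
  classical
  have hex : ∃ n₁, ∃ h : n₁ < s.length + 1, t ⟨k + 1, by omega⟩ ≤ s ⟨n₁, h⟩ := by
    refine ⟨s.length, Nat.lt_succ_self _, ?_⟩
    have : s ⟨s.length, Nat.lt_succ_self _⟩ = ⊤ := hs.last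
    rw [this]
    exact le_top
  obtain ⟨hn₀lt, hn₀le⟩ := Nat.find_spec hex
  have hn₀min := fun {m : ℕ} (hm : m < Nat.find hex) => Nat.find_min hex hm
  generalize Nat.find hex = n₀ at hn₀lt hn₀le hn₀min
  have hkn : k < n₀ := by
    by_contra hcon
    have h1 : s ⟨n₀, hn₀lt⟩ ≤ s ⟨k, by omega⟩ := s.monotone (Fin.mk_le_mk.2 (by omega))
    have h2 : t ⟨k, by omega⟩ < t ⟨k + 1, by omega⟩ := t.strictMono (Fin.mk_lt_mk.2 (by omega))
    exact lt_irrefl _ (lt_of_lt_of_le h2 (hn₀le.trans (h1.trans heq.le)))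
  rcases Nat.eq_or_lt_of_le (Nat.succ_le_of_lt hkn) with h | h
  · have : (⟨k + 1, by omega⟩ : Fin (s.length + 1)) = ⟨n₀, hn₀lt⟩ := Fin.ext h
    rw [this]
    exact hn₀le
  · exfalso
    obtain ⟨j', rfl⟩ := Nat.exists_eq_succ_of_ne_zero (show n₀ ≠ 0 by omega)
    have hj'lt : j' < s.length := by omega
    let is' : Fin s.length := ⟨j', hj'lt⟩
    let it : Fin t.length := ⟨k, hkt⟩
    have hnle : ¬ t it.succ ≤ s is'.castSucc := by
      intro hle'
      exact hn₀min (m := j') (Nat.lt_succ_self _) ⟨by omega, hle'⟩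
    have hab : t it.castSucc ≤ s is'.castSucc := by
      have h1 : s ⟨k, by omega⟩ ≤ s ⟨j', by omega⟩ := s.monotone (Fin.mk_le_mk.2 (by omega))
      exact heq.ge.trans h1
    have hyz : t it.succ ≤ s is'.succ := hn₀le
    let m : sq (t it.castSucc) (t it.succ) (le_of_lt (t.step it)) ⟶
        sq (s is'.castSucc) (s is'.succ) (le_of_lt (s.step is')) :=
      sqMap (le_of_lt (t.step it)) (le_of_lt (s.step is')) hab hyz
    have hm : m ≠ 0 := fun h0 => hnle (le_of_sqMap_eq_zero _ _ _ _ h0)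
    obtain ⟨pj, hpj⟩ := H.HP_exists (hs.ss is').1
    have h1 : hatSlope n pj < hatSlope n ps :=
      hs.lt_of_lt (j' - k - 1) ⟨k, hks⟩ is' (by
        change k + (j' - k - 1) + 1 = j'
        omega) ps pj hps hpj
    have h2 : hatSlope n pj < hatSlope n pt := lt_of_lt_of_le h1 hle
    exact hm (hom_eq_zero_of_hatSlope_lt H hn (ht.ss it).1 (hs.ss is').1 (ht.ss it).2.1 (hs.ss is').2.1
      (ht.ss it).2.2.1 (hs.ss is').2.2.1 (ht.ss it).2.2.2 (hs.ss is').2.2.2 hpt hpj h2 m)

/-- if the chains agree at `k` and `t (k+1) ≤ s (k+1)` then `μ(gr_k t) ≤ μ(gr_k s)` -/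
theorem le_of_succ_le (hn : 1 ≤ n) {E : C} {a b : Subobject E} {s t : LTSeries (Subobject E)}
    (hs : IsMuHNFrom H n a s) (ht : IsMuHNFrom H n b t) (k : ℕ) (hks : k < s.length) (hkt : k < t.length)
    (heq : s ⟨k, by omega⟩ = t ⟨k, by omega⟩) {ps pt : ℚ[X]}
    (hps : H.HP (factor s ⟨k, hks⟩) ps) (hpt : H.HP (factor t ⟨k, hkt⟩) pt)
    (hle : t ⟨k + 1, by omega⟩ ≤ s ⟨k + 1, by omega⟩) : hatSlope n pt ≤ hatSlope n ps := by
  let is' : Fin s.length := ⟨k, hks⟩
  let it : Fin t.length := ⟨k, hkt⟩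
  have hab : t it.castSucc ≤ s is'.castSucc := heq.ge
  have hba : s is'.castSucc ≤ t it.castSucc := heq.le
  have hyz : t it.succ ≤ s is'.succ := hle
  let m : sq (t it.castSucc) (t it.succ) (le_of_lt (t.step it)) ⟶
      sq (s is'.castSucc) (s is'.succ) (le_of_lt (s.step is')) :=
    sqMap (le_of_lt (t.step it)) (le_of_lt (s.step is')) hab hyz
  have hmono : @Mono C _ (factor t it) (factor s is') m := mono_sqMap _ _ _ _ hba
  have h := @slope_le C _ _ H n hn (factor s is') (factor t it) (hs.ss is').1 (hs.ss is').2.2.1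
    (hs.ss is').2.2.2 m hmono (ht.ss it).1 pt ps hpt hps
  unfold hatSlope
  rw [div_le_div_iff₀ ((ht.ss it).alpha_pos hpt) ((hs.ss is').alpha_pos hps)]
  exact h

theorem IsMuHNFrom.apply_eq (hn : 1 ≤ n) {E : C} {a : Subobject E} {s t : LTSeries (Subobject E)}
    (hs : IsMuHNFrom H n a s) (ht : IsMuHNFrom H n a t) :
    ∀ (k : ℕ) (hk : k < s.length + 1), ∃ hk' : k < t.length + 1, s ⟨k, hk⟩ = t ⟨k, hk'⟩ := by
  intro k
  induction k with
  | zero =>
    intro hk
    exact ⟨Nat.succ_pos _, hs.head.trans ht.head.symm⟩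
  | succ k ih =>
    intro hk
    obtain ⟨hk', heq⟩ := ih (by omega)
    have hkt : k < t.length := by
      by_contra hcon
      have hkk : k = t.length := by omega
      subst hkk
      have h1 : t ⟨t.length, hk'⟩ = ⊤ := ht.last
      have h2 : s ⟨t.length, by omega⟩ < s ⟨t.length + 1, hk⟩ :=
        s.strictMono (Fin.mk_lt_mk.2 (by omega))
      rw [heq, h1] at h2
      exact not_top_lt h2
    have hks : k < s.length := by omega
    refine ⟨by omega, ?_⟩
    obtain ⟨ps, hps⟩ := H.HP_exists (hs.ss ⟨k, hks⟩).1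
    obtain ⟨pt, hpt⟩ := H.HP_exists (ht.ss ⟨k, hkt⟩).1
    rcases le_or_gt (hatSlope n ps) (hatSlope n pt) with h | h
    · have h1 := le_succ_of_le hn hs ht k hks hkt heq hps hpt h
      have h2 := le_of_succ_le hn hs ht k hks hkt heq hps hpt h1
      have h3 := le_succ_of_le hn ht hs k hkt hks heq.symm hpt hps h2
      exact le_antisymm h3 h1
    · have h1 := le_succ_of_le hn ht hs k hkt hks heq.symm hpt hps h.le
      have h2 := le_of_succ_le hn ht hs k hkt hks heq.symm hpt hps h1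
      have h3 := le_succ_of_le hn hs ht k hks hkt heq hps hpt h2
      exact le_antisymm h1 h3

/-- **uniqueness of the slope Harder–Narasimhan chain** -/
theorem IsMuHNFrom.unique (hn : 1 ≤ n) {E : C} {a : Subobject E} {s t : LTSeries (Subobject E)}
    (hs : IsMuHNFrom H n a s) (ht : IsMuHNFrom H n a t) : s = t := by
  have h1 := hs.apply_eq hn ht
  have h2 := ht.apply_eq hn hs
  have hlen : s.length = t.length := by
    obtain ⟨h, _⟩ := h1 s.length (Nat.lt_succ_self _)
    obtain ⟨h', _⟩ := h2 t.length (Nat.lt_succ_self _)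
    omega
  apply RelSeries.ext hlen
  funext i
  obtain ⟨h, e⟩ := h1 i.val i.isLt
  exact e

/-! ### existence -/

/-- prepending a slope-semistable step of larger slope to a slope HN chain gives a slope HN chain -/
theorem isMuHNFrom_consS {E : C} (a : Subobject E) (s : LTSeries (Subobject E)) (h : a < s.head)
    (hs : IsMuHNFrom H n s.head s) (hss : MuSS H n (sq a s.head h.le))
    (hdec : ∀ (h0 : 0 < s.length) (p q : ℚ[X]), H.HP (sq a s.head h.le) p →
      H.HP (factor s ⟨0, h0⟩) q → hatSlope n q < hatSlope n p) :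
    IsMuHNFrom H n a (consS a s h) := by
  refine ⟨consS_zero a s h, ?_, ?_, ?_⟩
  · have : (consS a s h).last =
        (consS a s h).toFun (Fin.succ (Fin.last s.length) : Fin (s.length + 1 + 1)) := by
      rw [Fin.succ_last]; rfl
    rw [this, consS_succ a s h (Fin.last s.length)]
    exact hs.last
  · intro i
    refine Fin.cases ?_ (fun i => ?_) i
    · exact (factor_consS_zero (fun G => MuSS H n G) a s h).2 hss
    · exact (factor_consS_succ (fun G => MuSS H n G) a s h i).2 (hs.ss i)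
  · intro i j
    refine Fin.cases ?_ (fun i => ?_) i
    · refine Fin.cases ?_ (fun j => ?_) j
      · intro hij; simp at hij
      · intro hij p q hp hq
        have hj0 : j.val = 0 := by
          have : (0 : ℕ) + 1 = j.val + 1 := by simpa using hij
          omega
        have hpos : 0 < s.length := by have := j.isLt; omega
        have hj : j = ⟨0, hpos⟩ := Fin.ext hj0
        subst hj
        exact hdec hpos p q ((factor_consS_zero (fun G => H.HP G p) a s h).1 hp)
          ((factor_consS_succ (fun G => H.HP G q) a s h _).1 hq)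
    · refine Fin.cases ?_ (fun j => ?_) j
      · intro hij; simp at hij
      · intro hij p q hp hq
        have hij' : i.val + 1 = j.val := by
          have : i.val + 1 + 1 = j.val + 1 := by simpa using hij
          omega
        exact hs.dec i j hij' p q ((factor_consS_succ (fun G => H.HP G p) a s h i).1 hp)
          ((factor_consS_succ (fun G => H.HP G q) a s h j).1 hq)

theorem slope_dec_aux {a1 a2 b1 b2 : ℚ} (ha1 : 0 < a1) (ha2 : 0 < a2)
    (h : (b1 + b2) / (a1 + a2) < b1 / a1) : b2 / a2 < b1 / a1 := by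
  rw [div_lt_div_iff₀ (add_pos ha1 ha2) ha1] at h
  rw [div_lt_div_iff₀ ha2 ha1]
  nlinarith [h]

/-- **existence of slope Harder–Narasimhan chains** from any `ok` subobject `a` with `E/a` pure -/
theorem exists_isMuHNFrom (hn : 1 ≤ n) {E : C} (hE : H.ok E) (hdim : H.dim E ≤ (n : WithBot ℕ∞)) :
    ∀ a : {x : Subobject E // H.ok (x : C)}, H.IsPure (sq a.1 ⊤ le_top) n →
      ∃ s : LTSeries (Subobject E), IsMuHNFrom H n a.1 s ∧ ∀ i, H.ok ((s i : Subobject E) : C) := by
  haveI := wellFoundedGT_ok hE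
  intro a
  induction a using WellFoundedGT.induction with
  | ind a IH =>
  obtain ⟨a, ha⟩ := a
  intro hp
  change H.IsPure (sq a ⊤ le_top) n at hp
  change ∃ s : LTSeries (Subobject E), IsMuHNFrom H n a s ∧ ∀ i, H.ok ((s i : Subobject E) : C)
  by_cases hat : a = ⊤
  · subst hat
    exact ⟨RelSeries.singleton _ ⊤, ⟨rfl, rfl, fun i => i.elim0, fun i => i.elim0⟩, fun _ => ha⟩
  · have hTop : H.ok ((⊤ : Subobject E) : C) := H.ok_iso (asIso (⊤ : Subobject E).arrow).symm hE
    have hQok : H.ok (sq a ⊤ le_top) := H.ok_cokernel _ ha hTop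
    have hQ0 : ¬ IsZero (sq a ⊤ le_top) := not_isZero_sq (lt_top_iff_ne_top.2 hat)
    obtain ⟨F, ι, hmd⟩ := exists_isMuMaxDestab H hn hQok hp hQ0
    obtain ⟨hm, hFok, hF0, hmax⟩ := hmd
    haveI := hm
    have hFpure : H.IsPure F n := hp.of_mono H ι
    have hFss : MuSS H n F := by
      refine ⟨hFok, hF0, hFpure, ?_⟩
      intro G κ hκ hG pG pF hpG hpF hpos hlt
      haveI := hκ
      have hG0 : ¬ IsZero G := by
        intro h0
        rw [H.HP_eq_zero h0 hpG, alpha_zero] at hpos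
        exact lt_irrefl _ hpos
      exact (hmax G (κ ≫ ι) (mono_comp _ _) hG hG0 pF pG hpF hpG).1
    obtain ⟨x₁, hax, hx₁top, e, he, ⟨u⟩⟩ := exists_of_mono_sq le_top ι
    have hx₁ok : H.ok (x₁ : C) :=
      H.ok_iso u.symm (H.ok_kernel _ hTop (H.ok_cokernel ι hFok hQok))
    have hlt : a < x₁ := by
      refine lt_of_le_of_ne hax ?_
      rintro rfl
      exact hF0 ((isZero_sq_self a).of_iso e.symm)
    have hι : ι = e.inv ≫ sqMap hax le_top le_rfl le_top := by
      rw [← he, Iso.inv_hom_id_assoc]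
    -- the key consequence of maximality
    have key : ∀ (y : Subobject E) (_ : H.ok (y : C)) (hx₁y : x₁ < y) (pG pF : ℚ[X]),
        H.HP (sq a y (hax.trans hx₁y.le)) pG → H.HP F pF → hatSlope n pG < hatSlope n pF := by
      intro y hy hx₁y pG pF hpG hpF
      have hay : a ≤ y := hax.trans hx₁y.le
      have hGok : H.ok (sq a y hay) := H.ok_cokernel _ ha hy
      have hG0 : ¬ IsZero (sq a y hay) := not_isZero_sq (lt_of_lt_of_le hlt hx₁y.le)
      have hmono : Mono (sqMap hay (le_top : a ≤ ⊤) le_rfl le_top) := mono_sqMap _ _ _ _ le_rfl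
      obtain ⟨hle, hfac⟩ := hmax _ (sqMap hay (le_top : a ≤ ⊤) le_rfl le_top) hmono hGok hG0 pF pG hpF hpG
      rcases lt_or_eq_of_le hle with h | h
      · exact h
      · exfalso
        obtain ⟨φ, hφ⟩ := hfac h
        have h0 : sqMap hay (le_top : x₁ ≤ ⊤) hax le_top = 0 := by
          rw [← sqMap_comp hay (le_top : a ≤ ⊤) (le_top : x₁ ≤ ⊤) le_rfl le_top hax le_rfl, ← hφ, hι,
            Category.assoc, Category.assoc, sqMap_comp,
            sqMap_eq_zero_of_le hax (le_top : x₁ ≤ ⊤) _ _ le_rfl, Limits.comp_zero, Limits.comp_zero]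
        exact hx₁y.not_ge (le_of_sqMap_eq_zero _ _ _ _ h0)
    obtain ⟨A, hA⟩ := H.HP_exists ha
    obtain ⟨X₁, hX₁⟩ := H.HP_exists hx₁ok
    have hpF : H.HP F (X₁ - A) := H.HP_iso e (H.HP_cokernel _ ha hx₁ok hA hX₁)
    have hαF : 0 < alpha n (X₁ - A) := hFss.alpha_pos hpF
    -- purity of `E/x₁`
    have hpure : H.IsPure (sq x₁ ⊤ le_top) n := by
      intro T j hj hTok hT0
      haveI := hj
      obtain ⟨y, hx₁y, -, e', -, ⟨u'⟩⟩ := exists_of_mono_sq le_top j
      have hyok : H.ok (y : C) :=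
        H.ok_iso u'.symm (H.ok_kernel _ hTop (H.ok_cokernel j hTok (H.ok_cokernel _ hx₁ok hTop)))
      have hx₁lty : x₁ < y := by
        refine lt_of_le_of_ne hx₁y ?_
        rintro rfl
        exact hT0 ((isZero_sq_self _).of_iso e'.symm)
      obtain ⟨Y, hY⟩ := H.HP_exists hyok
      have hpT : H.HP T (Y - X₁) := H.HP_iso e' (H.HP_cokernel _ hx₁ok hyok hX₁ hY)
      have hpG : H.HP (sq a y (hax.trans hx₁lty.le)) (Y - A) := H.HP_cokernel _ ha hyok hA hY
      have hlt' := key y hyok hx₁lty _ _ hpG hpF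
      have hdT : H.dim T ≤ (n : WithBot ℕ∞) := by
        rw [← H.dim_iso e']
        exact ((H.dim_cokernel_le _ hx₁ok hyok).trans (H.dim_le_of_mono y.arrow hyok hE)).trans hdim
      by_contra hne
      have hdlt : H.dim T < (n : WithBot ℕ∞) := lt_of_le_of_ne hdT hne
      have hα0 : alpha n (Y - X₁) = 0 := H.alpha_eq_zero_of_dim_lt hTok hdlt hpT
      have hβ0 : 0 ≤ alpha (n - 1) (Y - X₁) := H.alpha_nonneg hTok (le_pred_of_lt hdlt) hpT
      have hαeq : alpha n (Y - A) = alpha n (X₁ - A) := by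
        rw [alpha_sub] at hα0 ⊢
        rw [alpha_sub]
        linarith
      unfold hatSlope at hlt'
      rw [hαeq, div_lt_div_iff_of_pos_right hαF] at hlt'
      rw [alpha_sub] at hβ0
      rw [alpha_sub, alpha_sub] at hlt'
      linarith
    -- induction hypothesis
    obtain ⟨s, hs, hsok⟩ := IH ⟨x₁, hx₁ok⟩ hlt hpure
    change IsMuHNFrom H n x₁ s at hs
    obtain rfl := hs.head
    refine ⟨consS a s hlt, isMuHNFrom_consS a s hlt hs ?_ ?_, ?_⟩
    · exact ⟨H.ok_iso e.symm hFok, fun h0 => hF0 (h0.of_iso e.symm), hFpure.of_iso H e.symm, by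
        intro G κ hκ hG pG pF' hpG hpF' hpos hlt'
        haveI := hκ
        exact hFss.2.2.2 G (κ ≫ e.hom) (mono_comp _ _) hG pG pF' hpG (H.HP_iso e hpF') hpos hlt'⟩
    · intro h0 p q hp' hq
      have hx₂ok : H.ok ((s ⟨1, by omega⟩ : Subobject E) : C) := hsok _
      have hlt₂ : s.head < s ⟨1, by omega⟩ :=
        s.strictMono (show (⟨0, Nat.succ_pos _⟩ : Fin (s.length + 1)) < ⟨1, by omega⟩ from
          Fin.mk_lt_mk.2 (by omega))
      obtain ⟨X₂, hX₂⟩ := H.HP_exists hx₂ok
      have hq' : H.HP (factor s ⟨0, h0⟩) (X₂ - X₁) := by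
        rw [factor_eq]
        exact H.HP_cokernel (Subobject.ofLE _ _ _) hx₁ok hx₂ok hX₁ hX₂
      have hpG : H.HP (sq a (s ⟨1, by omega⟩) (hax.trans hlt₂.le)) (X₂ - A) :=
        H.HP_cokernel _ ha hx₂ok hA hX₂
      have h1 := key _ hx₂ok hlt₂ _ _ hpG hpF
      have e1 : q = X₂ - X₁ := H.HP_unique hq hq'
      have e2 : p = X₁ - A := H.HP_unique hp' (H.HP_iso e.symm hpF)
      rw [e1, e2]
      have ha2 : 0 < alpha n (X₂ - X₁) := (hs.ss ⟨0, h0⟩).alpha_pos hq'
      have e3 : X₂ - A = (X₁ - A) + (X₂ - X₁) := by ring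
      rw [e3] at h1
      unfold hatSlope at h1 ⊢
      rw [alpha_add, alpha_add] at h1
      exact slope_dec_aux hαF ha2 h1
    · intro i
      refine Fin.cases ?_ (fun i => ?_) i
      · exact (consS_zero a s hlt).symm ▸ ha
      · exact (consS_succ a s hlt i).symm ▸ hsok i

/-- **slope Harder–Narasimhan filtrations exist and are unique** in a Hilbert-polynomial context -/
theorem existsUnique_isMuHN (hn : 1 ≤ n) {E : C} (hE : H.ok E) (h0 : ¬ IsZero E)
    (hp : H.IsPure E n) :
    ∃! s : LTSeries (Subobject E), IsMuHNFrom H n ⊥ s := by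
  have hdim : H.dim E ≤ (n : WithBot ℕ∞) := (hp.dim_eq H hE h0).le
  have hbot : H.ok ((⊥ : Subobject E) : C) :=
    H.ok_zero (Subobject.botCoeIsoZero.isZero_iff.2 (isZero_zero C))
  have hp' : H.IsPure (sq (⊥ : Subobject E) ⊤ le_top) n := hp.of_iso H sqBotTopIso.symm
  obtain ⟨s, hs, -⟩ := exists_isMuHNFrom hn hE hdim ⟨⊥, hbot⟩ hp'
  exact ⟨s, hs, fun t ht => ht.unique hn hs⟩

/-! ### the row against `PkgCtx` -/

section Rows

open AlgebraicGeometry Groth.Agent.R2.H70.StabSpec

universe w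

theorem muSS_iff {k : Type w} [Field k] {X : Scheme.{w}} [X.Over (Spec (CommRingCat.of k))]
    {L : X.Modules} (Γ : GeomCtx k X L) (n : ℕ) (G : X.Modules) :
    MuSS Γ.H n G ↔ (ShStab.IsPure X G n ∧ ShStab.IsMuSemistable k X L G n) := by
  have hdim : ∀ E : X.Modules, Γ.H.dim E = topologicalKrullDim (CohB1.support E) :=
    fun E => congrFun Γ.dim_eq E
  constructor
  · rintro ⟨hok, h0, hpure, hss⟩
    refine ⟨(Γ.isPure_iff G n).1 hpure, Γ.ok_eq ▸ hok, h0, ?_, ?_, ?_⟩
    · rw [← hdim]; exact hpure.dim_eq Γ.H hok h0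
    · intro F' ι' hι' hF'
      have := hι'
      rw [← hdim]
      rcases dim_eq_bot_or Γ.H hpure ι' (Γ.ok_eq ▸ hF') with hd | hd
      · rw [hd, WithBot.bot_add]
        exact (WithBot.bot_lt_coe _).ne
      · rw [hd]
        exact withBot_nat_add_one_ne n
    · rw [Γ.ok_eq, Γ.HP_eq] at hss; exact hss
  · rintro ⟨hpure, hcoh, h0, -, -, hss⟩
    refine ⟨Γ.ok_eq ▸ hcoh, h0, (Γ.isPure_iff G n).2 hpure, ?_⟩
    rw [Γ.ok_eq, Γ.HP_eq]; exact hss

theorem s18833_of (hctx : PkgCtx.{w}) (k : Type w) [Field k] [IsAlgClosed k] [CharZero k]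
    (X : Scheme.{w}) [X.Over (Spec (CommRingCat.of k))] [IsIntegral X]
    [IsProper (X ↘ Spec (CommRingCat.of k))] [Smooth (X ↘ Spec (CommRingCat.of k))]
    (n : ℕ) (hn : 1 ≤ n) (hX : topologicalKrullDim X = (n : WithBot ℕ∞))
    (L : X.Modules) (hLi : PicF.IsInvertible L) (hL : CohB1.IsAmple L)
    (F : X.Modules) (hF : Coh.IsCoh F) (h0 : ¬ IsZero F) (htf : ShStab.IsPure X F n) :
    ∃! s : LTSeries (Subobject F),
      s.head = ⊥ ∧ s.last = ⊤ ∧
      (∀ i : Fin s.length,
        ShStab.IsPure X (StabCat.factor s i) n ∧ ShStab.IsMuSemistable k X L (StabCat.factor s i) n) ∧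
      ∀ (i j : Fin s.length), i.val + 1 = j.val →
        ∀ (p q : ℚ[X]), ShStab.IsHilbPoly k X L (StabCat.factor s i) p →
          ShStab.IsHilbPoly k X L (StabCat.factor s j) q →
          StabCat.hatSlope n q < StabCat.hatSlope n p := by
  obtain ⟨Γ⟩ := hctx k X L hL
  have key : ∀ s : LTSeries (Subobject F), IsMuHNFrom Γ.H n ⊥ s ↔
      (s.head = ⊥ ∧ s.last = ⊤ ∧
      (∀ i : Fin s.length,
        ShStab.IsPure X (StabCat.factor s i) n ∧ ShStab.IsMuSemistable k X L (StabCat.factor s i) n) ∧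
      ∀ (i j : Fin s.length), i.val + 1 = j.val →
        ∀ (p q : ℚ[X]), ShStab.IsHilbPoly k X L (StabCat.factor s i) p →
          ShStab.IsHilbPoly k X L (StabCat.factor s j) q →
          StabCat.hatSlope n q < StabCat.hatSlope n p) := by
    intro s
    constructor
    · intro h
      refine ⟨h.head, h.last, fun i => (muSS_iff Γ n _).1 (h.ss i), ?_⟩
      intro i j hij p q hp hq
      exact h.dec i j hij p q (Γ.HP_eq ▸ hp) (Γ.HP_eq ▸ hq)
    · rintro ⟨h1, h2, h3, h4⟩
      refine ⟨h1, h2, fun i => (muSS_iff Γ n _).2 (h3 i), ?_⟩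
      intro i j hij p q hp hq
      have hp' : ShStab.IsHilbPoly k X L (StabCat.factor s i) p := by rw [← Γ.HP_eq]; exact hp
      have hq' : ShStab.IsHilbPoly k X L (StabCat.factor s j) q := by rw [← Γ.HP_eq]; exact hq
      exact h4 i j hij p q hp' hq'
  obtain ⟨s, hs, huniq⟩ := existsUnique_isMuHN hn (Γ.ok_eq ▸ hF : Γ.H.ok F) h0 ((Γ.isPure_iff F n).2 htf)
  exact ⟨s, (key s).1 hs, fun t ht => huniq t ((key t).2 ht)⟩

end Rows

end Groth.Agent.R2.H60.StabMuHN
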