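import Mathlib

/-! Numeric core for the slice inequality of strongly stable ideals in three variables:
`h a b` plays the role of the staircase number (least `c` with `x^a y^b z^c` in the ideal). -/

set_option autoImplicit false

namespace Groth.Agent.R2.H60.StairCore

open Finset

lemma sum_range_tsub_le (s M : ℕ) : ∑ b ∈ range M, (s - b) ≤ (s + 1).choose 2 := by
  induction s generalizing M with
  | zero => simp
  | succ s ih =>
    cases M with
    | zero => simp
    | succ M =>
      rw [Finset.sum_range_succ']
      have h1 : ∑ b ∈ range M, (s + 1 - (b + 1)) = ∑ b ∈ range M, (s - b) := by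
        apply Finset.sum_congr rfl
        intro b _
        omega
      rw [h1]
      have h2 := ih M
      have h3 : (s + 1 + 1).choose 2 = (s + 1) + (s + 1).choose 2 := by
        have h4 := Nat.choose_succ_succ' (s + 1) 1
        rw [Nat.choose_one_right] at h4
        norm_num at h4
        exact h4
      omega

lemma sum_range_tsub_eq (s M : ℕ) (hM : s ≤ M) : ∑ b ∈ range M, (s - b) = (s + 1).choose 2 := by
  induction s generalizing M with
  | zero => simp
  | succ s ih =>
    cases M with
    | zero => omega
    | succ M =>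
      rw [Finset.sum_range_succ']
      have h1 : ∑ b ∈ range M, (s + 1 - (b + 1)) = ∑ b ∈ range M, (s - b) := by
        apply Finset.sum_congr rfl
        intro b _
        omega
      rw [h1, ih M (by omega)]
      have h3 : (s + 1 + 1).choose 2 = (s + 1) + (s + 1).choose 2 := by
        have h4 := Nat.choose_succ_succ' (s + 1) 1
        rw [Nat.choose_one_right] at h4
        norm_num at h4
        exact h4
      omega

lemma sumE (r : ℕ) : ∑ i ∈ range r, (r - i + 1).choose 2 = (r + 2).choose 3 := by
  induction r with
  | zero => simp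
  | succ r ih =>
    rw [Finset.sum_range_succ']
    have h1 : ∑ i ∈ range r, (r + 1 - (i + 1) + 1).choose 2 = ∑ i ∈ range r, (r - i + 1).choose 2 := by
      apply Finset.sum_congr rfl
      intro b _
      congr 1
      omega
    rw [h1, ih]
    have : (r + 1 + 2).choose 3 = (r + 2).choose 2 + (r + 2).choose 3 := by
      rw [show r + 1 + 2 = (r + 2) + 1 by omega, Nat.choose_succ_succ' (r + 2) 2]
    rw [this]
    have e1 : r + 1 - 0 + 1 = r + 2 := by omega
    rw [e1, add_comm]

lemma E_succ (r i : ℕ) (hi : i < r) :
    (r - i + 1).choose 2 = (r - (i + 1) + 1).choose 2 + (r - i) := by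
  have : r - (i + 1) + 1 = r - i := by omega
  rw [this]
  have h2 := Nat.choose_succ_succ' (r - i) 1
  rw [Nat.choose_one_right] at h2
  norm_num at h2
  omega

section
variable (h : ℕ → ℕ → ℕ) (N : ℕ)
  (hN : ∀ a b, N ≤ a + b → h a b = 0)
  (H1 : ∀ a b, h a (b + 1) ≤ h a b - 1)
  (H2 : ∀ a b, h (a + 1) b ≤ h a b - 1)
  (H3 : ∀ a b, h (a + 1) b ≤ h a (b + 1))

include H1 in
lemma L1 (a b : ℕ) : h a b ≤ h a 0 - b := by
  induction b with
  | zero => simp
  | succ b ih =>
    have := H1 a b
    omega

/-- the slice colength -/
def D (a : ℕ) : ℕ := ∑ b ∈ range N, h a b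

include hN in
lemma D_eq_zero (a : ℕ) (ha : N ≤ a) : D h N a = 0 := by
  unfold D
  apply Finset.sum_eq_zero
  intro b _
  exact hN a b (by omega)

include H1 in
lemma K1 (a : ℕ) : D h N a ≤ (h a 0 + 1).choose 2 := by
  unfold D
  calc ∑ b ∈ range N, h a b ≤ ∑ b ∈ range N, (h a 0 - b) :=
        Finset.sum_le_sum fun b _ => L1 h H1 a b
    _ ≤ _ := sum_range_tsub_le _ _

include hN H2 H3 in
lemma K3 (a : ℕ) (ha : 1 ≤ h a 0) : D h N (a + 1) + h (a + 1) 0 + 1 ≤ D h N a := by
  have hNa : a < N := by
    by_contra hcon
    have := hN a 0 (by omega)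
    omega
  obtain ⟨M, rfl⟩ : ∃ M, N = M + 1 := ⟨N - 1, by omega⟩
  unfold D
  rw [Finset.sum_range_succ' (fun b => h a b), Finset.sum_range_succ (fun b => h (a + 1) b)]
  have h0 : h (a + 1) M = 0 := hN _ _ (by omega)
  have h1 : ∑ b ∈ range M, h (a + 1) b ≤ ∑ b ∈ range M, h a (b + 1) :=
    Finset.sum_le_sum fun b _ => H3 a b
  have h2 := H2 a 0
  omega

include hN H1 H2 H3 in
/-- if some slice exceeds the expected size, so do all the lower ones -/
lemma exceed (r i0 : ℕ) (hi0 : i0 < r) (hex : (r - i0 + 1).choose 2 < D h N i0) (t : ℕ) (ht : t ≤ i0) :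
    (r - (i0 - t) + 1).choose 2 < D h N (i0 - t) ∧ r - (i0 - t) + 1 ≤ h (i0 - t) 0 := by
  induction t with
  | zero =>
    refine ⟨by simpa using hex, ?_⟩
    simp only [Nat.sub_zero]
    by_contra hcon
    have h1 : h i0 0 + 1 ≤ r - i0 + 1 := by omega
    have h2 := Nat.choose_le_choose 2 h1
    have h3 := K1 h N H1 i0
    omega
  | succ t ih =>
    obtain ⟨ih1, ih2⟩ := ih (by omega)
    obtain ⟨i, hi⟩ : ∃ i, i0 - (t + 1) = i := ⟨_, rfl⟩
    have hi' : i0 - t = i + 1 := by omega
    rw [hi'] at ih1 ih2
    rw [hi]
    have hir : i + 1 < r := by omega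
    have h2 := H2 i 0
    have hpos : 1 ≤ h i 0 := by omega
    have h3 := K3 h N hN H2 H3 i hpos
    have h4 := E_succ r i (by omega)
    constructor
    · omega
    · omega

include hN H1 H2 H3 in
theorem part1 (r : ℕ) (htot : ∑ a ∈ range N, D h N a ≤ (r + 2).choose 3) (j : ℕ) (hj : j ≤ r) :
    ∑ i ∈ Ico j r, D h N i ≤ ∑ i ∈ Ico j r, (r - i + 1).choose 2 := by
  by_contra hcon
  rw [not_le] at hcon
  obtain ⟨i0, hi0mem, hi0⟩ := Finset.exists_lt_of_sum_lt hcon
  rw [Finset.mem_Ico] at hi0mem
  have hlow : ∑ i ∈ range j, (r - i + 1).choose 2 ≤ ∑ i ∈ range j, D h N i := by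
    apply Finset.sum_le_sum
    intro i hi
    rw [Finset.mem_range] at hi
    have := (exceed h N hN H1 H2 H3 r i0 hi0mem.2 hi0 (i0 - i) (by omega)).1
    have h2 : i0 - (i0 - i) = i := by omega
    rw [h2] at this
    exact this.le
  have htot2 : ∑ a ∈ range r, D h N a ≤ ∑ a ∈ range N, D h N a := by
    apply Finset.sum_le_sum_of_ne_zero
    intro a _ ha
    rw [Finset.mem_range]
    by_contra hcon2
    exact ha (D_eq_zero h N hN a (by omega))
  have hs1 := Finset.sum_range_add_sum_Ico (fun i => D h N i) hj
  have hs2 := Finset.sum_range_add_sum_Ico (fun i => (r - i + 1).choose 2) hj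
  have hE := sumE r
  omega

include hN H1 H2 H3 in
theorem part2 (r : ℕ) (htot : ∑ a ∈ range N, D h N a ≤ (r + 2).choose 3)
    (heq : ∀ j, j < r → ∑ i ∈ Ico j r, D h N i = ∑ i ∈ Ico j r, (r - i + 1).choose 2) :
    ∀ a b, h a b = r - a - b := by
  -- each slice has the expected size
  have hDE : ∀ i, i < r → D h N i = (r - i + 1).choose 2 := by
    intro i hi
    have h1 := heq i hi
    rw [Finset.sum_eq_sum_Ico_succ_bot hi, Finset.sum_eq_sum_Ico_succ_bot hi] at h1
    by_cases hi' : i + 1 < r
    · have h2 := heq (i + 1) hi'
      omega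
    · have : i + 1 = r := by omega
      rw [this, Finset.Ico_self] at h1
      simpa using h1
  -- slices beyond r vanish
  have hDr : D h N r = 0 := by
    have h1 : ∑ a ∈ range (r + 1), D h N a ≤ ∑ a ∈ range N, D h N a := by
      apply Finset.sum_le_sum_of_ne_zero
      intro a _ ha
      rw [Finset.mem_range]
      by_contra hcon2
      exact ha (D_eq_zero h N hN a (by omega))
    rw [Finset.sum_range_succ] at h1
    have h2 : ∑ a ∈ range r, D h N a = ∑ a ∈ range r, (r - a + 1).choose 2 :=
      Finset.sum_congr rfl fun a ha => hDE a (Finset.mem_range.1 ha)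
    have hE := sumE r
    omega
  have hr0 : ∀ b, h r b = 0 := by
    intro b
    by_cases hb : b < N
    · unfold D at hDr
      rw [Finset.sum_eq_zero_iff] at hDr
      exact hDr b (Finset.mem_range.2 hb)
    · exact hN r b (by omega)
  -- downward induction
  have key : ∀ t, t ≤ r → ∀ b, h (r - t) b = t - b := by
    intro t
    induction t with
    | zero =>
      intro _ b
      simpa using hr0 b
    | succ t ih =>
      intro ht b
      have ih' := ih (by omega)
      obtain ⟨i, hi⟩ : ∃ i, r - (t + 1) = i := ⟨_, rfl⟩
      have hi' : r - t = i + 1 := by omega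
      rw [hi'] at ih'
      rw [hi]
      have hir : i < r := by omega
      have hD := hDE i hir
      have hrt : r - i + 1 = t + 1 + 1 := by omega
      rw [hrt] at hD
      -- positivity of h i 0
      have hpos : 1 ≤ h i 0 := by
        by_contra hcon
        have h0 : h i 0 = 0 := by omega
        have : D h N i = 0 := by
          unfold D
          apply Finset.sum_eq_zero
          intro b _
          have := L1 h H1 i b
          omega
        rw [this] at hD
        have : 0 < (t + 1 + 1).choose 2 := Nat.choose_pos (by omega)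
        omega
      -- lower bounds
      have hlow : ∀ b, t + 1 - b ≤ h i b := by
        intro b
        cases b with
        | zero =>
          have h1 := H2 i 0
          have h2 := ih' 0
          omega
        | succ b =>
          have h1 := H3 i b
          have h2 := ih' b
          omega
      have hNt : t + 1 ≤ N := by
        by_contra hcon
        have h1 := hlow t
        have h2 := hN i t (by omega)
        omega
      have hsum : ∑ b ∈ range N, (t + 1 - b) = ∑ b ∈ range N, h i b := by
        rw [sum_range_tsub_eq _ _ hNt]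
        exact hD.symm
      have hall := (Finset.sum_eq_sum_iff_of_le (fun b _ => hlow b)).1 hsum
      by_cases hb : b < N
      · exact (hall b (Finset.mem_range.2 hb)).symm
      · have := hN i b (by omega)
        omega
  intro a b
  by_cases ha : a ≤ r
  · have := key (r - a) (by omega) b
    have h2 : r - (r - a) = a := by omega
    rw [h2] at this
    exact this
  · have h1 : ∀ s, h (r + s) b = 0 := by
      intro s
      induction s with
      | zero => exact hr0 b
      | succ s ih =>
        have := H2 (r + s) b
        rw [← add_assoc]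
        omega
    have := h1 (a - r)
    have h2 : r + (a - r) = a := by omega
    rw [h2] at this
    omega

end

end Groth.Agent.R2.H60.StairCore
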