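import Groth.Agent.S13453
import Groth.Agent.Lib.Helper20Monomial
import Groth.Agent.R2.H60StairCore

/-! Algebra side of the slice inequality: colengths of monomial ideals as counts of standard
monomials, and the staircase function of a strongly stable ideal in three variables. -/

set_option autoImplicit false
universe u

namespace Groth.Agent.R2.H60.StairAlg

open W4c1hilbpn MvPolynomial Groth.Agent.Lib.Helper20 Finset

section General
variable {σ : Type*} {k : Type*} [Field k]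

lemma exps_add (I : Ideal (MvPolynomial σ k)) {β : σ →₀ ℕ} (hβ : β ∈ exps I) (δ : σ →₀ ℕ) :
    β + δ ∈ exps I := by
  change monomial (β + δ) (1 : k) ∈ I
  have : monomial (β + δ) (1 : k) = monomial β 1 * monomial δ 1 := by
    rw [monomial_mul, mul_one]
  rw [this]
  exact Ideal.mul_mem_right _ _ hβ

theorem finrank_quot_eq_card (I : Ideal (MvPolynomial σ k)) (hI : IsMonomial I) :
    Module.finrank k (MvPolynomial σ k ⧸ I) = Nat.card {β : σ →₀ ℕ // β ∉ exps I} := by
  have hli := linearIndependent_monomial_compl_exps I hI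
  have hsp : ⊤ ≤ Submodule.span k (Set.range fun β : {β : σ →₀ ℕ // β ∉ exps I} =>
      Ideal.Quotient.mk I (monomial β.1 (1 : k))) := by
    intro q _
    obtain ⟨p, rfl⟩ := Ideal.Quotient.mk_surjective q
    rw [p.as_sum, map_sum]
    refine Submodule.sum_mem _ fun β _ => ?_
    have h1 : Ideal.Quotient.mk I (monomial β (coeff β p)) =
        coeff β p • Ideal.Quotient.mk I (monomial β (1 : k)) := by
      rw [← Ideal.Quotient.mkₐ_eq_mk k, ← map_smul, smul_monomial, smul_eq_mul, mul_one]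
    rw [h1]
    apply Submodule.smul_mem
    by_cases hβ : β ∈ exps I
    · have h2 : Ideal.Quotient.mk I (monomial β (1 : k)) = 0 :=
        Ideal.Quotient.eq_zero_iff_mem.2 hβ
      rw [h2]
      exact Submodule.zero_mem _
    · exact Submodule.subset_span ⟨⟨β, hβ⟩, rfl⟩
  exact Module.finrank_eq_nat_card_basis (Module.Basis.mk hli hsp)

end General

section Three
variable {k : Type u} [Field k] (I : Ideal (MvPolynomial (Fin 3) k))

lemma exists_bound (hI : IsMonomial I) [Module.Finite k (MvPolynomial (Fin 3) k ⧸ I)] :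
    ∃ N : ℕ, ∀ a b c : ℕ, N ≤ a + b + c → e3 a b c ∈ exps I := by
  have hfin0 : Finite {β : Fin 3 →₀ ℕ // β ∉ exps I} := finite_compl_exps I hI
  have hfin : {β : Fin 3 →₀ ℕ | β ∉ exps I}.Finite := hfin0
  obtain ⟨N, hN⟩ := (hfin.image (fun β : Fin 3 →₀ ℕ => β 0 + β 1 + β 2)).bddAbove
  refine ⟨N + 1, fun a b c habc => ?_⟩
  by_contra hcon
  have : a + b + c ∈ (fun β : Fin 3 →₀ ℕ => β 0 + β 1 + β 2) '' {β : Fin 3 →₀ ℕ | β ∉ exps I} :=
    ⟨e3 a b c, hcon, by simp [e3_zero, e3_one, e3_two]⟩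
  have := hN this
  omega

/-- the staircase function: the least `c` with `x^a y^b z^c ∈ I` -/
noncomputable def hh (a b : ℕ) : ℕ := sInf {c | e3 a b c ∈ exps I}

variable {I}

lemma hh_mem (hne : ∀ a b, ∃ c, e3 a b c ∈ exps I) (a b : ℕ) : e3 a b (hh I a b) ∈ exps I :=
  Nat.sInf_mem (s := {c | e3 a b c ∈ exps I}) (hne a b)

lemma hh_le {a b c : ℕ} (hc : e3 a b c ∈ exps I) : hh I a b ≤ c :=
  Nat.sInf_le (s := {c | e3 a b c ∈ exps I}) hc

lemma mem_iff (hne : ∀ a b, ∃ c, e3 a b c ∈ exps I) (a b c : ℕ) :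
    e3 a b c ∈ exps I ↔ hh I a b ≤ c := by
  refine ⟨hh_le, fun hle => ?_⟩
  have h1 := exps_add I (hh_mem hne a b) (Finsupp.single 2 (c - hh I a b))
  have h2 : e3 a b (hh I a b) + Finsupp.single 2 (c - hh I a b) = e3 a b c := by
    apply e3_ext <;> simp [e3_zero, e3_one, e3_two]
    omega
  rw [h2] at h1
  exact h1

lemma mem_iff' (hne : ∀ a b, ∃ c, e3 a b c ∈ exps I) (γ : Fin 3 →₀ ℕ) :
    γ ∈ exps I ↔ hh I (γ 0) (γ 1) ≤ γ 2 := by
  rw [← mem_iff hne]
  have : e3 (γ 0) (γ 1) (γ 2) = γ := by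
    apply e3_ext <;> simp [e3_zero, e3_one, e3_two]
  rw [this]

lemma hh_zero_of_le {N : ℕ} (hN : ∀ a b c : ℕ, N ≤ a + b + c → e3 a b c ∈ exps I) (a b : ℕ)
    (hab : N ≤ a + b) : hh I a b = 0 :=
  Nat.le_zero.1 (hh_le (hN a b 0 (by omega)))

variable (hss : IsStronglyStable I)
include hss

lemma H1 (hne : ∀ a b, ∃ c, e3 a b c ∈ exps I) (a b : ℕ) : hh I a (b + 1) ≤ hh I a b - 1 := by
  have hm := hh_mem hne a b
  rcases Nat.eq_zero_or_pos (hh I a b) with h0 | hpos
  · rw [h0] at hm ⊢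
    have h1 := exps_add I hm (Finsupp.single 1 1)
    have h2 : e3 a b 0 + Finsupp.single 1 1 = e3 a (b + 1) 0 := by
      apply e3_ext <;> simp [e3_zero, e3_one, e3_two]
    rw [h2] at h1
    exact hh_le h1
  · have h1 := hss.2 _ hm 1 2 (by decide) (by rw [e3_two]; exact hpos)
    have h2 : e3 a b (hh I a b) - Finsupp.single 2 1 + Finsupp.single 1 1 =
        e3 a (b + 1) (hh I a b - 1) := by
      apply e3_ext <;> simp [e3_zero, e3_one, e3_two]
    rw [h2] at h1
    exact hh_le h1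

lemma H2 (hne : ∀ a b, ∃ c, e3 a b c ∈ exps I) (a b : ℕ) : hh I (a + 1) b ≤ hh I a b - 1 := by
  have hm := hh_mem hne a b
  rcases Nat.eq_zero_or_pos (hh I a b) with h0 | hpos
  · rw [h0] at hm ⊢
    have h1 := exps_add I hm (Finsupp.single 0 1)
    have h2 : e3 a b 0 + Finsupp.single 0 1 = e3 (a + 1) b 0 := by
      apply e3_ext <;> simp [e3_zero, e3_one, e3_two]
    rw [h2] at h1
    exact hh_le h1
  · have h1 := hss.2 _ hm 0 2 (by decide) (by rw [e3_two]; exact hpos)
    have h2 : e3 a b (hh I a b) - Finsupp.single 2 1 + Finsupp.single 0 1 =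
        e3 (a + 1) b (hh I a b - 1) := by
      apply e3_ext <;> simp [e3_zero, e3_one, e3_two]
    rw [h2] at h1
    exact hh_le h1

lemma H3 (hne : ∀ a b, ∃ c, e3 a b c ∈ exps I) (a b : ℕ) : hh I (a + 1) b ≤ hh I a (b + 1) := by
  have hm := hh_mem hne a (b + 1)
  have h1 := hss.2 _ hm 0 1 (by decide) (by rw [e3_one]; omega)
  have h2 : e3 a (b + 1) (hh I a (b + 1)) - Finsupp.single 1 1 + Finsupp.single 0 1 =
      e3 (a + 1) b (hh I a (b + 1)) := by
    apply e3_ext <;> simp [e3_zero, e3_one, e3_two]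
  rw [h2] at h1
  exact hh_le h1

omit hss

/-- exponent vectors in three variables as nested pairs -/
noncomputable def equiv3 : (Fin 3 →₀ ℕ) ≃ (Σ _ : ℕ, Σ _ : ℕ, ℕ) where
  toFun γ := ⟨γ 0, γ 1, γ 2⟩
  invFun q := e3 q.1 q.2.1 q.2.2
  left_inv γ := by
    apply e3_ext <;> simp [e3_zero, e3_one, e3_two]
  right_inv q := by
    obtain ⟨a, b, c⟩ := q
    simp [e3_zero, e3_one, e3_two]

/-- exponent vectors in two variables as pairs -/
noncomputable def equiv2 : (Fin 2 →₀ ℕ) ≃ (Σ _ : ℕ, ℕ) where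
  toFun β := ⟨β 0, β 1⟩
  invFun q := Finsupp.equivFunOnFinite.symm ![q.1, q.2]
  left_inv β := by
    ext i
    fin_cases i <;> simp
  right_inv q := by
    obtain ⟨b, c⟩ := q
    simp

lemma emb_eq (β : Fin 2 →₀ ℕ) (a : ℕ) : Groth.Agent.S13453.emb β a = e3 a (β 0) (β 1) := by
  apply e3_ext
  · rw [e3_zero]
    unfold Groth.Agent.S13453.emb
    rw [Finsupp.add_apply, Finsupp.single_eq_same]
    have : (Finsupp.mapDomain Fin.succ β) (0 : Fin 3) = 0 := by
      rw [Finsupp.mapDomain_of_notMem_range]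
      rintro ⟨j, hj⟩
      exact Fin.succ_ne_zero j hj
    rw [this, zero_add]
  · rw [e3_one]
    exact Groth.Agent.S13453.emb_apply_succ β a 0
  · rw [e3_two]
    exact Groth.Agent.S13453.emb_apply_succ β a 1

theorem card_total (hne : ∀ a b, ∃ c, e3 a b c ∈ exps I) {N : ℕ}
    (hN : ∀ a b c : ℕ, N ≤ a + b + c → e3 a b c ∈ exps I) :
    Nat.card {γ : Fin 3 →₀ ℕ // γ ∉ exps I} = ∑ a ∈ range N, ∑ b ∈ range N, hh I a b := by
  have e : {γ : Fin 3 →₀ ℕ // γ ∉ exps I} ≃
      {q : (Σ _ : ℕ, Σ _ : ℕ, ℕ) // q.2.2 < hh I q.1 q.2.1} :=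
    equiv3.subtypeEquiv fun γ => by
      rw [mem_iff' hne, not_le]
      rfl
  rw [Nat.card_congr e]
  rw [Nat.subtype_card ((range N).sigma fun a => (range N).sigma fun b => range (hh I a b))]
  · rw [Finset.card_sigma]
    apply Finset.sum_congr rfl
    intro a _
    rw [Finset.card_sigma]
    apply Finset.sum_congr rfl
    intro b _
    rw [Finset.card_range]
  · rintro ⟨a, b, c⟩
    simp only [Finset.mem_sigma, Finset.mem_range]
    constructor
    · rintro ⟨_, _, h3⟩
      exact h3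
    · intro h3
      refine ⟨?_, ?_, h3⟩
      · by_contra hcon
        have := hh_zero_of_le hN a b (by omega)
        omega
      · by_contra hcon
        have := hh_zero_of_le hN a b (by omega)
        omega

theorem card_slice (hne : ∀ a b, ∃ c, e3 a b c ∈ exps I) {N : ℕ}
    (hN : ∀ a b c : ℕ, N ≤ a + b + c → e3 a b c ∈ exps I) (a : ℕ) :
    Nat.card {β : Fin 2 →₀ ℕ // β ∉ exps (sliceX I a)} = ∑ b ∈ range N, hh I a b := by
  have e : {β : Fin 2 →₀ ℕ // β ∉ exps (sliceX I a)} ≃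
      {q : (Σ _ : ℕ, ℕ) // q.2 < hh I a q.1} :=
    equiv2.subtypeEquiv fun β => by
      rw [Groth.Agent.S13453.exps_slice, emb_eq, mem_iff hne, not_le]
      rfl
  rw [Nat.card_congr e]
  rw [Nat.subtype_card ((range N).sigma fun b => range (hh I a b))]
  · rw [Finset.card_sigma]
    apply Finset.sum_congr rfl
    intro b _
    rw [Finset.card_range]
  · rintro ⟨b, c⟩
    simp only [Finset.mem_sigma, Finset.mem_range]
    constructor
    · rintro ⟨_, h3⟩
      exact h3
    · intro h3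
      refine ⟨?_, h3⟩
      by_contra hcon
      have := hh_zero_of_le hN a b (by omega)
      omega

theorem eq_pow_of_hh (hmon : IsMonomial I) (hne : ∀ a b, ∃ c, e3 a b c ∈ exps I) (r : ℕ)
    (hh_eq : ∀ a b, hh I a b = r - a - b) :
    I = (Ideal.span (Set.range (MvPolynomial.X : Fin 3 → MvPolynomial (Fin 3) k))) ^ r := by
  have hdeg : ∀ γ : Fin 3 →₀ ℕ, γ.degree = γ 0 + γ 1 + γ 2 := by
    intro γ
    rw [Finsupp.degree_eq_sum, Fin.sum_univ_three]
  have key : ∀ γ : Fin 3 →₀ ℕ, γ ∈ exps I ↔ r ≤ γ.degree := by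
    intro γ
    rw [mem_iff' hne, hh_eq, hdeg]
    omega
  apply le_antisymm
  · intro p hp
    change p ∈ MvPolynomial.idealOfVars (Fin 3) k ^ r
    rw [MvPolynomial.mem_pow_idealOfVars_iff]
    intro x hx
    exact (key x).1 (hmon p hp x hx)
  · intro p hp
    change p ∈ MvPolynomial.idealOfVars (Fin 3) k ^ r at hp
    rw [MvPolynomial.mem_pow_idealOfVars_iff] at hp
    rw [p.as_sum]
    refine Ideal.sum_mem _ fun β hβ => ?_
    have h1 : monomial β (coeff β p) = C (coeff β p) * monomial β (1 : k) := by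
      rw [C_mul_monomial, mul_one]
    rw [h1]
    exact Ideal.mul_mem_left _ _ ((key β).2 (hp β hβ))

end Three

end Groth.Agent.R2.H60.StairAlg
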