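import Groth.Agent.Lib.Helper24TgtPiece2
import Groth.Agent.R2.H60StairAlg

/-! Bounded components of the region for multidegrees `(a1, a2, -c)` in three variables and the
staircase numbers. -/

set_option autoImplicit false
universe u

namespace Groth.Agent.R2.H60.StairTgt

open W4c1hilbpn MvPolynomial Groth.Agent.Lib.Helper24TgtPiece Groth.Agent.Lib.Helper20
open Groth.Agent.R2.H60.StairAlg

section FinrankSup

variable {k : Type*} [Field k] {V : Type*} [AddCommGroup V] [Module k V]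

lemma finrank_finset_sup_le {ι : Type*} (F : Finset ι) (f : ι → Submodule k V)
    (hf : ∀ i, FiniteDimensional k (f i)) :
    Module.finrank k ↥(F.sup f) ≤ ∑ i ∈ F, Module.finrank k ↥(f i) := by
  classical
  induction F using Finset.induction_on with
  | empty => simp
  | insert a s ha ih =>
    rw [Finset.sup_insert, Finset.sum_insert ha]
    haveI := hf a
    haveI : FiniteDimensional k ↥(s.sup f) := Submodule.finiteDimensional_finset_sup s f
    exact (Submodule.finrank_add_le_finrank_add_finrank _ _).trans (Nat.add_le_add_left ih _)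

/-- the dimension of a supremum of finite-dimensional subspaces is bounded by the sum over a
suitable finite subfamily -/
lemma exists_finset_finrank_iSup_le {ι : Type*} (f : ι → Submodule k V)
    (hf : ∀ i, FiniteDimensional k (f i)) :
    ∃ F : Finset ι, Module.finrank k ↥(⨆ i, f i) ≤ ∑ i ∈ F, Module.finrank k ↥(f i) := by
  classical
  by_cases hfin : Module.Finite k ↥(⨆ i, f i)
  · have hfg : (⨆ i, f i).FG := Module.Finite.iff_fg.1 hfin
    have hcomp := (Submodule.fg_iff_compact (⨆ i, f i)).1 hfg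
    obtain ⟨F, hF⟩ := CompleteLattice.IsCompactElement.exists_finset_of_le_iSup _ hcomp f le_rfl
    refine ⟨F, ?_⟩
    have hle : (⨆ i, f i) ≤ F.sup f := by
      rw [Finset.sup_eq_iSup]
      exact hF
    haveI : FiniteDimensional k ↥(F.sup f) := Submodule.finiteDimensional_finset_sup F f
    exact (Submodule.finrank_mono hle).trans (finrank_finset_sup_le F f hf)
  · exact ⟨∅, by rw [Module.finrank_of_not_finite hfin]; exact Nat.zero_le _⟩

end FinrankSup

section Corner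

variable {k : Type u} [Field k] {I : Ideal (MvPolynomial (Fin 3) k)} {α : Fin 3 → ℤ}

lemma stairZ_eq_hh (hne : ∀ a b, ∃ c, e3 a b c ∈ exps I) (a b : ℕ) :
    stairZ I a b = hh I a b := by
  unfold stairZ
  rw [Nat.subtype_card (Finset.range (hh I a b))]
  · exact Finset.card_range _
  · intro c
    rw [Finset.mem_range, mem_iff hne, not_le]

lemma mem_supp_of_adj (C : (RG I α).ConnectedComponent) {v w : ↥(region I α)}
    (hv : v ∈ C.supp) (hadj : (stepGraph (Fin 3)).Adj v.1 w.1) : w ∈ C.supp := by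
  rw [SimpleGraph.ConnectedComponent.mem_supp_iff] at hv ⊢
  rw [← hv]
  exact (SimpleGraph.ConnectedComponent.connectedComponentMk_eq_of_adj
    (SimpleGraph.induce_adj.mpr hadj)).symm

lemma nonneg_of_mem_supp (C : BC I α) {v : ↥(region I α)} (hv : v ∈ C.1.supp) (i : Fin 3) :
    0 ≤ v.1 i := by
  by_contra hcon
  push Not at hcon
  have h1 := infinite_supp_of_neg v ⟨i, hcon⟩
  rw [SimpleGraph.ConnectedComponent.mem_supp_iff] at hv
  rw [hv] at h1
  exact h1 C.2

lemma exists_corner (C : BC I α) : ∃ v : ↥(region I α), v ∈ C.1.supp ∧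
    (∀ w ∈ C.1.supp, w.1 0 + w.1 1 ≤ v.1 0 + v.1 1) ∧
    (∀ w ∈ C.1.supp, w.1 0 = v.1 0 → w.1 1 = v.1 1 → v.1 2 ≤ w.1 2) := by
  classical
  have hne : C.1.supp.Nonempty := C.1.nonempty_supp
  obtain ⟨v1, hv1, hmax⟩ := Set.exists_max_image C.1.supp (fun w => w.1 0 + w.1 1) C.2 hne
  have hcolfin : {w ∈ C.1.supp | w.1 0 = v1.1 0 ∧ w.1 1 = v1.1 1}.Finite :=
    C.2.subset (fun w hw => hw.1)
  have hcolne : {w ∈ C.1.supp | w.1 0 = v1.1 0 ∧ w.1 1 = v1.1 1}.Nonempty := ⟨v1, hv1, rfl, rfl⟩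
  obtain ⟨v, hv, hmin⟩ := Set.exists_min_image _ (fun w => w.1 2) hcolfin hcolne
  refine ⟨v, hv.1, ?_, ?_⟩
  · intro w hw
    rw [hv.2.1, hv.2.2]
    exact hmax w hw
  · intro w hw h0 h1
    exact hmin w ⟨hw, h0.trans hv.2.1, h1.trans hv.2.2⟩

lemma shift_eq_e3 {a1 a2 : ℕ} (hα0 : α 0 = (a1 : ℤ)) (hα1 : α 1 = (a2 : ℤ)) (β : Fin 3 →₀ ℕ) :
    shift β α = e3 (β 0 + a1) (β 1 + a2) (((β 2 : ℤ) + α 2).toNat) := by
  apply e3_ext
  · rw [e3_zero, shift_apply, hα0]
    omega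
  · rw [e3_one, shift_apply, hα1]
    omega
  · rw [e3_two, shift_apply]

theorem corner_props (hne : ∀ a b, ∃ c, e3 a b c ∈ exps I) {a1 a2 : ℕ}
    (hα0 : α 0 = (a1 : ℤ)) (hα1 : α 1 = (a2 : ℤ)) (hα2 : α 2 < 0) (C : BC I α)
    (v : ↥(region I α)) (hv : v ∈ C.1.supp)
    (hmax : ∀ w ∈ C.1.supp, w.1 0 + w.1 1 ≤ v.1 0 + v.1 1)
    (hmin : ∀ w ∈ C.1.supp, w.1 0 = v.1 0 → w.1 1 = v.1 1 → v.1 2 ≤ w.1 2) :
    ∃ β : Fin 3 →₀ ℕ, β ∈ exps I ∧ v.1 = pt α β ∧ 0 ≤ (β 2 : ℤ) + α 2 ∧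
      hh I (β 0 + a1 + 1) (β 1 + a2) ≤ ((β 2 : ℤ) + α 2).toNat ∧
      hh I (β 0 + a1) (β 1 + a2 + 1) ≤ ((β 2 : ℤ) + α 2).toNat ∧
      ((β 2 : ℤ) + α 2).toNat < hh I (β 0 + a1) (β 1 + a2) ∧
      hh I (β 0) (β 1) = β 2 := by
  have hv2 := v.2
  obtain ⟨⟨β, hβ, hvβ⟩, -⟩ := hv2
  have hvβ' : v.1 = pt α β := hvβ
  have hnn : ∀ i, 0 ≤ (β i : ℤ) + α i := by
    intro i
    have := nonneg_of_mem_supp C hv i
    rw [hvβ'] at this
    exact this
  have hr : pt α β ∈ region I α := by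
    rw [← hvβ']
    exact v.2
  have hnot : shift β α ∉ exps I := fun h => (mem_region_pt hβ).1 hr ⟨hnn, h⟩
  -- general neighbour principle
  have hnb : ∀ (β' : Fin 3 →₀ ℕ), (stepGraph (Fin 3)).Adj (pt α β) (pt α β') →
      ∀ hr' : pt α β' ∈ region I α, (⟨pt α β', hr'⟩ : ↥(region I α)) ∈ C.1.supp := by
    intro β' hadj hr'
    apply mem_supp_of_adj C.1 hv
    rw [hvβ']
    exact hadj
  refine ⟨β, hβ, hvβ', hnn 2, ?_, ?_, ?_, ?_⟩
  · -- right neighbour in x
    have hβ' : β + Finsupp.single 0 1 ∈ exps I :=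
      Groth.Agent.Lib.Helper24TgtPiece.exps_add hβ _
    have hadj := adj_step α β 0
    have hnr : pt α (β + Finsupp.single 0 1) ∉ region I α := by
      intro hr'
      have h1 := hmax _ (hnb _ hadj hr')
      rw [hvβ'] at h1
      simp only [pt, Finsupp.add_apply, Finsupp.single_apply] at h1
      norm_num at h1
    rw [mem_region_pt hβ', not_not] at hnr
    have h2 := hnr.2
    rw [shift_eq_e3 hα0 hα1, mem_iff hne] at h2
    simpa [Finsupp.add_apply, Finsupp.single_apply, add_right_comm] using h2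
  · -- right neighbour in y
    have hβ' : β + Finsupp.single 1 1 ∈ exps I :=
      Groth.Agent.Lib.Helper24TgtPiece.exps_add hβ _
    have hadj := adj_step α β 1
    have hnr : pt α (β + Finsupp.single 1 1) ∉ region I α := by
      intro hr'
      have h1 := hmax _ (hnb _ hadj hr')
      rw [hvβ'] at h1
      simp only [pt, Finsupp.add_apply, Finsupp.single_apply] at h1
      norm_num at h1
    rw [mem_region_pt hβ', not_not] at hnr
    have h2 := hnr.2
    rw [shift_eq_e3 hα0 hα1, mem_iff hne] at h2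
    simpa [Finsupp.add_apply, Finsupp.single_apply, add_right_comm] using h2
  · -- not in the ideal
    rw [shift_eq_e3 hα0 hα1, mem_iff hne, not_le] at hnot
    exact hnot
  · -- lower neighbour
    have hβ2 : 1 ≤ β 2 := by
      have := hnn 2
      omega
    have hdecomp : β - Finsupp.single 2 1 + Finsupp.single 2 1 = β := by
      apply tsub_add_cancel_of_le
      rw [Finsupp.single_le_iff]
      exact hβ2
    have hlow : β - Finsupp.single 2 1 ∉ exps I := by
      intro hβ''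
      have hadj := adj_step α (β - Finsupp.single 2 1) 2
      rw [hdecomp] at hadj
      have hr'' : pt α (β - Finsupp.single 2 1) ∈ region I α := by
        rw [mem_region_pt hβ'']
        rintro ⟨hnn'', hin''⟩
        apply hnot
        have := shift_add_of_nonneg α (Finsupp.single 2 1) hnn''
        rw [hdecomp] at this
        rw [this]
        exact Groth.Agent.Lib.Helper24TgtPiece.exps_add hin'' _
      have hmem := hnb _ hadj.symm hr''
      have h1 := hmin _ hmem (by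
        rw [hvβ']
        simp [pt, Finsupp.single_apply]) (by
        rw [hvβ']
        simp [pt, Finsupp.single_apply])
      rw [hvβ'] at h1
      simp only [pt, Finsupp.coe_tsub, Pi.sub_apply, Finsupp.single_eq_same] at h1
      have : ((β 2 - 1 : ℕ) : ℤ) = (β 2 : ℤ) - 1 := by omega
      omega
    have h3 := (mem_iff' hne β).1 hβ
    have h4 := mt (mem_iff' hne (β - Finsupp.single 2 1)).2 hlow
    have e0 : (β - Finsupp.single 2 1 : Fin 3 →₀ ℕ) 0 = β 0 := by simp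
    have e1 : (β - Finsupp.single 2 1 : Fin 3 →₀ ℕ) 1 = β 1 := by simp
    have e2 : (β - Finsupp.single 2 1 : Fin 3 →₀ ℕ) 2 = β 2 - 1 := by simp
    rw [e0, e1, e2] at h4
    omega

end Corner

section Count

variable {k : Type u} [Field k] {I : Ideal (MvPolynomial (Fin 3) k)}

/-- the family of multidegrees `(a1, a2, c)` with `c < 0` -/
abbrev Fam (a1 a2 : ℕ) : Type := {α : Fin 3 → ℤ // α 0 = (a1 : ℤ) ∧ α 1 = (a2 : ℤ) ∧ α 2 < 0}

/-- a chosen corner of a bounded component -/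
noncomputable def cv {α : Fin 3 → ℤ} (C : BC I α) : ↥(region I α) := (exists_corner C).choose

lemma cv_spec {α : Fin 3 → ℤ} (C : BC I α) : cv C ∈ C.1.supp ∧
    (∀ w ∈ C.1.supp, w.1 0 + w.1 1 ≤ (cv C).1 0 + (cv C).1 1) ∧
    (∀ w ∈ C.1.supp, w.1 0 = (cv C).1 0 → w.1 1 = (cv C).1 1 → (cv C).1 2 ≤ w.1 2) :=
  (exists_corner C).choose_spec

/-- the triple attached to a bounded component -/
noncomputable def triple {α : Fin 3 → ℤ} (C : BC I α) : Σ _ : ℕ × ℕ, ℕ :=
  ⟨(((cv C).1 0).toNat, ((cv C).1 1).toNat), ((cv C).1 2).toNat⟩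

lemma triple_props (hne : ∀ a b, ∃ c, e3 a b c ∈ exps I) {a1 a2 : ℕ} (α : Fam a1 a2)
    (C : BC I α.1) :
    ∃ β : Fin 3 →₀ ℕ, (cv C).1 = pt α.1 β ∧ 0 ≤ (β 2 : ℤ) + α.1 2 ∧
      triple C = ⟨(β 0 + a1, β 1 + a2), ((β 2 : ℤ) + α.1 2).toNat⟩ ∧
      hh I (β 0 + a1 + 1) (β 1 + a2) ≤ ((β 2 : ℤ) + α.1 2).toNat ∧
      hh I (β 0 + a1) (β 1 + a2 + 1) ≤ ((β 2 : ℤ) + α.1 2).toNat ∧
      ((β 2 : ℤ) + α.1 2).toNat < hh I (β 0 + a1) (β 1 + a2) ∧
      hh I (β 0) (β 1) = β 2 := by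
  obtain ⟨hv, hmax, hmin⟩ := cv_spec C
  obtain ⟨β, -, hvβ, hnn, h1, h2, h3, h4⟩ :=
    corner_props hne α.2.1 α.2.2.1 α.2.2.2 C (cv C) hv hmax hmin
  refine ⟨β, hvβ, hnn, ?_, h1, h2, h3, h4⟩
  unfold triple
  rw [hvβ]
  simp only [pt, α.2.1, α.2.2.1]
  congr 2

lemma triple_injective (hne : ∀ a b, ∃ c, e3 a b c ∈ exps I) {a1 a2 : ℕ} (α α' : Fam a1 a2)
    (C : BC I α.1) (C' : BC I α'.1) (h : triple C = triple C') :
    (⟨α, C⟩ : Σ α : Fam a1 a2, BC I α.1) = ⟨α', C'⟩ := by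
  obtain ⟨β, hvβ, hnn, ht, -, -, -, h4⟩ := triple_props hne α C
  obtain ⟨β', hvβ', hnn', ht', -, -, -, h4'⟩ := triple_props hne α' C'
  rw [ht, ht'] at h
  simp only [Sigma.mk.injEq, Prod.mk.injEq, heq_eq_eq] at h
  obtain ⟨⟨h0, h1⟩, h2⟩ := h
  have e0 : β 0 = β' 0 := by omega
  have e1 : β 1 = β' 1 := by omega
  have e2 : β 2 = β' 2 := by rw [← h4, ← h4', e0, e1]
  have hα2 : α.1 2 = α'.1 2 := by omega
  have hαeq : α = α' := by
    apply Subtype.ext
    funext i
    fin_cases i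
    · exact α.2.1.trans α'.2.1.symm
    · exact α.2.2.1.trans α'.2.2.1.symm
    · exact hα2
  subst hαeq
  have hββ : β = β' := e3_ext e0 e1 e2
  subst hββ
  have hcv : cv C = cv C' := Subtype.ext (hvβ.trans hvβ'.symm)
  have hC : C = C' := by
    apply Subtype.ext
    have h1 := (cv_spec C).1
    have h2 := (cv_spec C').1
    rw [SimpleGraph.ConnectedComponent.mem_supp_iff] at h1 h2
    rw [← h1, ← h2, hcv]
  rw [hC]

end Count

section Main

variable {k : Type u} [Field k] {I : Ideal (MvPolynomial (Fin 3) k)}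

/-- the summand of the staircase bound, in terms of `hh` -/
noncomputable def gterm (I : Ideal (MvPolynomial (Fin 3) k)) (a1 a2 : ℕ) (p : ℕ × ℕ) : ℕ :=
  if a1 ≤ p.1 ∧ a2 ≤ p.2 then hh I p.1 p.2 - max (hh I (p.1 + 1) p.2) (hh I p.1 (p.2 + 1)) else 0

open Classical in
/-- the finite set of admissible triples -/
noncomputable def Tset (I : Ideal (MvPolynomial (Fin 3) k)) (a1 a2 N : ℕ) :
    Finset (Σ _ : ℕ × ℕ, ℕ) :=
  (Finset.range N ×ˢ Finset.range N).sigma fun p =>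
    if a1 ≤ p.1 ∧ a2 ≤ p.2 then
      Finset.Ico (max (hh I (p.1 + 1) p.2) (hh I p.1 (p.2 + 1))) (hh I p.1 p.2) else ∅

lemma card_Tset (a1 a2 N : ℕ) :
    (Tset I a1 a2 N).card = ∑ p ∈ Finset.range N ×ˢ Finset.range N, gterm I a1 a2 p := by
  classical
  unfold Tset
  rw [Finset.card_sigma]
  apply Finset.sum_congr rfl
  intro p _
  unfold gterm
  split_ifs
  · rw [Nat.card_Ico]
  · rfl

theorem sum_nBddComp_le (hI : IsMonomial I) [Module.Finite k (MvPolynomial (Fin 3) k ⧸ I)]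
    (hne : ∀ a b, ∃ c, e3 a b c ∈ exps I) {N : ℕ}
    (hN : ∀ a b c : ℕ, N ≤ a + b + c → e3 a b c ∈ exps I) (a1 a2 : ℕ)
    (F : Finset (Fam a1 a2)) :
    ∑ α ∈ F, nBddComp I α.1 ≤ ∑ p ∈ Finset.range N ×ˢ Finset.range N, gterm I a1 a2 p := by
  classical
  haveI hfin : ∀ α : Fin 3 → ℤ, Finite (BC I α) := fun α => finite_BC hI
  letI hft : ∀ α : Fin 3 → ℤ, Fintype (BC I α) := fun α => Fintype.ofFinite _
  have h1 : ∑ α ∈ F, nBddComp I α.1 = Fintype.card (Σ α : ↥F, BC I α.1.1) := by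
    rw [Fintype.card_sigma, ← Finset.sum_coe_sort F (fun α => nBddComp I α.1)]
    apply Finset.sum_congr rfl
    intro α _
    unfold nBddComp
    rw [Nat.card_eq_fintype_card]
  rw [h1, ← card_Tset, ← Fintype.card_coe]
  have hmem : ∀ x : (Σ α : ↥F, BC I α.1.1), triple x.2 ∈ Tset I a1 a2 N := by
    rintro ⟨α, C⟩
    obtain ⟨β, -, -, ht, h1, h2, h3, -⟩ := triple_props hne α.1 C
    simp only
    rw [ht]
    unfold Tset
    rw [Finset.mem_sigma]
    have hpos : 0 < hh I (β 0 + a1) (β 1 + a2) := by omega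
    have hlt : β 0 + a1 + (β 1 + a2) < N := by
      by_contra hcon
      have := hh_zero_of_le hN (β 0 + a1) (β 1 + a2) (by omega)
      omega
    refine ⟨?_, ?_⟩
    · simp only [Finset.mem_product, Finset.mem_range]
      omega
    · simp only
      rw [if_pos ⟨Nat.le_add_left _ _, Nat.le_add_left _ _⟩, Finset.mem_Ico]
      exact ⟨max_le h1 h2, h3⟩
  apply Fintype.card_le_of_injective (fun x => (⟨triple x.2, hmem x⟩ : ↥(Tset I a1 a2 N)))
  rintro ⟨α, C⟩ ⟨α', C'⟩ h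
  have h2 : triple C = triple C' := congrArg Subtype.val h
  have h3 := triple_injective hne α.1 α'.1 C C' h2
  have h4 : α.1 = α'.1 := congrArg Sigma.fst h3
  have h5 : α = α' := Subtype.ext h4
  subst h5
  have h6 : C = C' := by
    have := Sigma.mk.inj_iff.1 h3
    exact eq_of_heq this.2
  rw [h6]

end Main

end Groth.Agent.R2.H60.StairTgt
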