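import Mathlib
import Groth.Prelude.Def_W4c1hilbpnTgt
import Groth.Agent.Lib.Helper24TgtPiece2

/-!
Vanishing of the graded pieces of `T(I)` of constant sign, and the decomposition of `T(I)` into
graded pieces, for a monomial ideal `I` of finite colength.
-/

set_option autoImplicit false

namespace Groth.Agent.R2.H60.TgtDecomp

open W4c1hilbpn MvPolynomial
open Groth.Agent.Lib.Helper24TgtPiece

variable {σ : Type*} [Fintype σ] {k : Type*} [Field k]
variable {I : Ideal (MvPolynomial σ k)} {α : σ → ℤ}

/-- no bounded components ⇒ the graded piece vanishes -/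
lemma tPiece_eq_bot_of_isEmpty (hI : IsMonomial I) [Module.Finite k (MvPolynomial σ k ⧸ I)]
    [Nontrivial σ] (h : IsEmpty (BC I α)) : tPiece I α = ⊥ := by
  rw [← range_Psi hI, LinearMap.range_eq_bot]
  apply LinearMap.ext
  intro f
  have : f = 0 := Subsingleton.elim _ _
  rw [this, map_zero]
  rfl

lemma isEmpty_BC_of_infinite
    (h : ∀ v : ↥(region I α), ((RG I α).connectedComponentMk v).supp.Infinite) :
    IsEmpty (BC I α) := by
  constructor
  rintro ⟨c, hc⟩
  induction c using SimpleGraph.ConnectedComponent.ind with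
  | h v => exact h v hc

/-- nonnegative multidegree: the region is empty -/
lemma region_eq_empty_of_nonneg (hα : ∀ i, 0 ≤ α i) : region I α = ∅ := by
  classical
  rw [Set.eq_empty_iff_forall_notMem]
  rintro γ ⟨⟨β, hβ, rfl⟩, h2⟩
  have h3 : pt α β ∈ region I α := ⟨⟨β, hβ, rfl⟩, h2⟩
  rw [mem_region_pt hβ] at h3
  apply h3
  have hnn : ∀ i, 0 ≤ ((0 : σ →₀ ℕ) i : ℤ) + α i := by
    intro i; simpa using hα i
  refine ⟨fun i => by have := hα i; omega, ?_⟩
  have := shift_add_of_nonneg α β hnn
  rw [zero_add] at this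
  rw [this, add_comm]
  exact exps_add hβ _

lemma isEmpty_BC_of_nonneg (hα : ∀ i, 0 ≤ α i) : IsEmpty (BC I α) := by
  apply isEmpty_BC_of_infinite
  intro v
  have h2 : v.1 ∈ (∅ : Set (σ → ℤ)) := by
    rw [← region_eq_empty_of_nonneg (I := I) hα]; exact v.2
  exact absurd h2 (Set.notMem_empty _)

lemma not_mem_of_region_nonneg {β : σ →₀ ℕ} (hβ : β ∈ exps I) (hreg : pt α β ∈ region I α)
    (hnn : ∀ l, 0 ≤ (β l : ℤ) + α l) : shift β α ∉ exps I := by
  rw [mem_region_pt hβ] at hreg
  exact fun h => hreg ⟨hnn, h⟩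

/-- negative multidegree: all components are infinite -/
lemma infinite_of_neg (hI : IsMonomial I) [Module.Finite k (MvPolynomial σ k ⧸ I)]
    [Nontrivial σ] (hα : ∀ i, α i < 0) (v : ↥(region I α)) :
    ((RG I α).connectedComponentMk v).supp.Infinite := by
  classical
  haveI := Groth.Agent.Lib.Helper20.finite_compl_exps I hI
  haveI := Fintype.ofFinite {β : σ →₀ ℕ // β ∉ exps I}
  obtain ⟨j⟩ : Nonempty σ := inferInstance
  obtain ⟨i, hij⟩ := exists_ne j
  obtain ⟨D, hD⟩ : ∃ D : ℕ, ∀ γ : σ →₀ ℕ, γ ∉ exps I → γ i < D := by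
    refine ⟨(Finset.univ.sup fun b : {β : σ →₀ ℕ // β ∉ exps I} => b.1 i) + 1, fun γ hγ => ?_⟩
    have := Finset.le_sup (f := fun b : {β : σ →₀ ℕ // β ∉ exps I} => b.1 i)
      (Finset.mem_univ ⟨γ, hγ⟩)
    exact Nat.lt_succ_of_le this
  have key : ∀ m : ℕ, ∀ β : σ →₀ ℕ, β ∈ exps I → ∀ hreg : pt α β ∈ region I α,
      (∀ l, l ≠ j → 0 ≤ (β l : ℤ) + α l) → (β j : ℤ) + α j = (m : ℤ) - 1 →
      ((RG I α).connectedComponentMk ⟨pt α β, hreg⟩).supp.Infinite := by
    intro m
    induction m with
    | zero =>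
      intro β hβ hreg _ hm
      apply infinite_supp_of_neg
      refine ⟨j, ?_⟩
      show (β j : ℤ) + α j < 0
      rw [hm]; norm_num
    | succ m ihm =>
      have inner : ∀ d : ℕ, ∀ β : σ →₀ ℕ, β ∈ exps I → ∀ hreg : pt α β ∈ region I α,
          (∀ l, l ≠ j → 0 ≤ (β l : ℤ) + α l) → (β j : ℤ) + α j = ((m + 1 : ℕ) : ℤ) - 1 →
          D - shift β α i = d →
          ((RG I α).connectedComponentMk ⟨pt α β, hreg⟩).supp.Infinite := by
        intro d
        induction d with
        | zero =>
          intro β hβ hreg hnnj hm hd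
          exfalso
          have hnn : ∀ l, 0 ≤ (β l : ℤ) + α l := by
            intro l
            by_cases hl : l = j
            · rw [hl, hm]; push_cast; omega
            · exact hnnj l hl
          have := hD _ (not_mem_of_region_nonneg hβ hreg hnn)
          omega
        | succ d ihd =>
          intro β hβ hreg hnnj hm hd
          have hnn : ∀ l, 0 ≤ (β l : ℤ) + α l := by
            intro l
            by_cases hl : l = j
            · rw [hl, hm]; push_cast; omega
            · exact hnnj l hl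
          have hv := not_mem_of_region_nonneg hβ hreg hnn
          have hsh : shift (β + Finsupp.single i 1) α = shift β α + Finsupp.single i 1 :=
            shift_add_of_nonneg α _ hnn
          by_cases hA : shift β α + Finsupp.single i 1 ∈ exps I
          · -- step down in direction j
            have hβj : 1 ≤ β j := by
              have := hα j
              have := hnn j
              omega
            have hle : Finsupp.single j 1 ≤ β := Finsupp.single_le_iff.mpr hβj
            have hadd : β - Finsupp.single j 1 + Finsupp.single j 1 = β :=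
              tsub_add_cancel_of_le hle
            have hle2 : shift β α + Finsupp.single i 1 ≤ β - Finsupp.single j 1 := by
              intro l
              have h1 := hα l
              have h2 := hnn l
              simp only [Finsupp.add_apply, Finsupp.tsub_apply, shift_apply, Finsupp.single_apply]
              by_cases hli : i = l
              · have hlj : ¬ j = l := fun h => hij (hli.trans h.symm)
                rw [if_pos hli, if_neg hlj]
                omega
              · rw [if_neg hli]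
                by_cases hlj : j = l
                · rw [if_pos hlj]; omega
                · rw [if_neg hlj]; omega
            have hβ'' : β - Finsupp.single j 1 ∈ exps I := by
              rw [← add_tsub_cancel_of_le hle2]
              exact exps_add hA _
            have hreg'' : pt α (β - Finsupp.single j 1) ∈ region I α := by
              rw [mem_region_pt hβ'']
              rintro ⟨h1, h2⟩
              apply hv
              have := shift_add_of_nonneg α (Finsupp.single j 1) h1
              rw [hadd] at this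
              rw [this]
              exact exps_add h2 _
            have hreach : (RG I α).Reachable ⟨pt α β, hreg⟩
                ⟨pt α (β - Finsupp.single j 1), hreg''⟩ := by
              apply SimpleGraph.Adj.reachable
              rw [SimpleGraph.induce_adj]
              apply SimpleGraph.Adj.symm
              have := adj_step α (β - Finsupp.single j 1) j
              rw [hadd] at this
              exact this
            rw [SimpleGraph.ConnectedComponent.eq.mpr hreach]
            apply ihm _ hβ'' hreg''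
            · intro l hl
              have := hnn l
              rw [Finsupp.tsub_apply, Finsupp.single_eq_of_ne hl, Nat.sub_zero]
              exact this
            · rw [Finsupp.tsub_apply, Finsupp.single_eq_same]
              push_cast at hm ⊢
              omega
          · -- step up in direction i
            have hβ' : β + Finsupp.single i 1 ∈ exps I := exps_add hβ _
            have hreg' : pt α (β + Finsupp.single i 1) ∈ region I α := by
              rw [mem_region_pt hβ']
              rintro ⟨-, h2⟩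
              rw [hsh] at h2
              exact hA h2
            have hreach : (RG I α).Reachable ⟨pt α β, hreg⟩
                ⟨pt α (β + Finsupp.single i 1), hreg'⟩ := by
              apply SimpleGraph.Adj.reachable
              rw [SimpleGraph.induce_adj]
              exact adj_step α β i
            rw [SimpleGraph.ConnectedComponent.eq.mpr hreach]
            apply ihd _ hβ' hreg'
            · intro l hl
              have := hnn l
              simp only [Finsupp.add_apply, Nat.cast_add]
              omega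
            · simp only [Finsupp.add_apply, Finsupp.single_apply, if_neg hij, add_zero]
              exact hm
            · rw [hsh]
              simp only [Finsupp.add_apply, Finsupp.single_eq_same]
              omega
      intro β hβ hreg hnnj hm
      exact inner _ β hβ hreg hnnj hm rfl
  obtain ⟨⟨β, hβ, hvβ0⟩, hn⟩ := v.2
  have hvβ : v.1 = pt α β := hvβ0
  by_cases hneg : ∃ l, v.1 l < 0
  · exact infinite_supp_of_neg v hneg
  · push Not at hneg
    have hnn : ∀ l, 0 ≤ (β l : ℤ) + α l := by
      intro l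
      have := hneg l
      rw [hvβ] at this
      exact this
    have hv' : v = ⟨pt α β, hvβ ▸ v.2⟩ := Subtype.ext hvβ
    rw [hv']
    apply key (((β j : ℤ) + α j).toNat + 1) β hβ _ (fun l _ => hnn l)
    have := hnn j
    push_cast
    omega

lemma isEmpty_BC_of_neg (hI : IsMonomial I) [Module.Finite k (MvPolynomial σ k ⧸ I)]
    [Nontrivial σ] (hα : ∀ i, α i < 0) : IsEmpty (BC I α) :=
  isEmpty_BC_of_infinite (infinite_of_neg hI hα)

/-- **Vanishing of the graded pieces of constant sign.** -/
theorem tPiece_eq_bot (hI : IsMonomial I) [Module.Finite k (MvPolynomial σ k ⧸ I)]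
    [Nontrivial σ] (h : (∀ i, 0 ≤ α i) ∨ (∀ i, α i < 0)) : tPiece I α = ⊥ := by
  rcases h with h | h
  · exact tPiece_eq_bot_of_isEmpty hI (isEmpty_BC_of_nonneg h)
  · exact tPiece_eq_bot_of_isEmpty hI (isEmpty_BC_of_neg hI h)

section decomp

/-- a representative of a class -/
noncomputable def rep (I : Ideal (MvPolynomial σ k)) (q : MvPolynomial σ k ⧸ I) :
    MvPolynomial σ k :=
  Function.surjInv (Ideal.Quotient.mk_surjective (I := I)) q

lemma mk_rep (q : MvPolynomial σ k ⧸ I) : Ideal.Quotient.mk I (rep I q) = q :=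
  Function.surjInv_eq _ q

/-- coefficient of a class at an exponent (meaningful outside `exps I`) -/
noncomputable def cfun (I : Ideal (MvPolynomial σ k)) (γ : σ →₀ ℕ)
    (q : MvPolynomial σ k ⧸ I) : k := coeff γ (rep I q)

lemma coeff_eq_of_mk_eq (hI : IsMonomial I) {p p' : MvPolynomial σ k}
    (h : Ideal.Quotient.mk I p = Ideal.Quotient.mk I p') {γ : σ →₀ ℕ} (hγ : γ ∉ exps I) :
    coeff γ p = coeff γ p' := by
  rw [Ideal.Quotient.eq] at h
  by_contra hne
  apply hγ
  apply hI _ h γ
  rw [mem_support_iff, coeff_sub]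
  exact sub_ne_zero.mpr hne

lemma cfun_mk (hI : IsMonomial I) {γ : σ →₀ ℕ} (hγ : γ ∉ exps I) (p : MvPolynomial σ k) :
    cfun I γ (Ideal.Quotient.mk I p) = coeff γ p :=
  coeff_eq_of_mk_eq hI (mk_rep _) hγ

lemma cfun_monomial_mul (hI : IsMonomial I) {γ : σ →₀ ℕ} (hγ : γ ∉ exps I) (δ : σ →₀ ℕ)
    (q : MvPolynomial σ k ⧸ I) :
    cfun I γ (Ideal.Quotient.mk I (monomial δ 1) * q) =
      if δ ≤ γ then cfun I (γ - δ) q else 0 := by
  classical
  conv_lhs => rw [← mk_rep q, ← map_mul, cfun_mk hI hγ, coeff_monomial_mul', one_mul]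
  rfl

/-- expansion of a class in the standard monomials -/
lemma expansion (hI : IsMonomial I) (Nf : Finset (σ →₀ ℕ)) (hN : ∀ γ, γ ∈ Nf ↔ γ ∉ exps I)
    (q : MvPolynomial σ k ⧸ I) :
    q = ∑ γ ∈ Nf, cfun I γ q • Ideal.Quotient.mk I (monomial γ (1:k)) := by
  classical
  have h1 : q = ∑ γ ∈ (rep I q).support,
      coeff γ (rep I q) • Ideal.Quotient.mk I (monomial γ (1:k)) := by
    conv_lhs => rw [← mk_rep q, ← support_sum_monomial_coeff (rep I q), map_sum]
    apply Finset.sum_congr rfl
    intro γ _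
    exact mk_monomial_smul γ _
  have h2 : ∑ γ ∈ (rep I q).support,
      coeff γ (rep I q) • Ideal.Quotient.mk I (monomial γ (1:k)) =
      ∑ γ ∈ Nf ∪ (rep I q).support,
        coeff γ (rep I q) • Ideal.Quotient.mk I (monomial γ (1:k)) := by
    apply Finset.sum_subset Finset.subset_union_right
    intro γ _ hγ
    rw [notMem_support_iff.mp hγ, zero_smul]
  have h3 : ∑ γ ∈ Nf, cfun I γ q • Ideal.Quotient.mk I (monomial γ (1:k)) =
      ∑ γ ∈ Nf ∪ (rep I q).support,
        coeff γ (rep I q) • Ideal.Quotient.mk I (monomial γ (1:k)) := by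
    apply Finset.sum_subset Finset.subset_union_left
    intro γ _ hγ
    have : γ ∈ exps I := by
      by_contra hcon
      exact hγ ((hN γ).mpr hcon)
    rw [mk_monomial_eq_zero.mpr this, smul_zero]
  rw [h3, ← h2]
  exact h1

/-- the value of a tangent vector at a monomial (zero outside the ideal) -/
noncomputable def ev (φ : Tgt I) (β : σ →₀ ℕ) : MvPolynomial σ k ⧸ I := by
  classical
  exact if h : monomial β (1:k) ∈ I then φ ⟨monomial β 1, h⟩ else 0

lemma ev_of_mem (φ : Tgt I) {β : σ →₀ ℕ} (h : monomial β (1:k) ∈ I) :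
    ev φ β = φ ⟨monomial β 1, h⟩ := by
  unfold ev
  exact dif_pos h

lemma ev_add (φ : Tgt I) {β : σ →₀ ℕ} (hβ : β ∈ exps I) (δ : σ →₀ ℕ) :
    ev φ (β + δ) = Ideal.Quotient.mk I (monomial δ 1) * ev φ β := by
  rw [ev_of_mem φ (exps_add hβ δ), ev_of_mem φ hβ]
  exact map_monomial_add φ hβ δ _

/-- the function on integer vectors attached to the component of degree `α` -/
noncomputable def Fc (φ : Tgt I) (α : σ → ℤ) (γ : σ → ℤ) : k := by
  classical
  exact if (∀ i, 0 ≤ γ i) then
    cfun I (Finsupp.equivFunOnFinite.symm fun i => (γ i).toNat) (ev φ (bOf α γ)) else 0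

lemma Fc_pt_of_nonneg (φ : Tgt I) {β : σ →₀ ℕ} (hnn : ∀ l, 0 ≤ (β l : ℤ) + α l) :
    Fc φ α (pt α β) = cfun I (shift β α) (ev φ β) := by
  unfold Fc
  rw [if_pos (show ∀ i, 0 ≤ pt α β i from hnn), bOf_pt]
  rfl

lemma Fc_of_neg (φ : Tgt I) {γ : σ → ℤ} (h : ∃ l, γ l < 0) : Fc φ α γ = 0 := by
  unfold Fc
  rw [if_neg]
  push Not
  exact h

lemma Fc_step (hI : IsMonomial I) (φ : Tgt I) {β : σ →₀ ℕ} (hβ : β ∈ exps I) (i : σ)
    (hγ' : pt α (β + Finsupp.single i 1) ∈ region I α) :
    Fc φ α (pt α β) = Fc φ α (pt α (β + Finsupp.single i 1)) := by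
  classical
  by_cases hnn' : ∀ l, 0 ≤ (((β + Finsupp.single i 1 : σ →₀ ℕ) l : ℕ) : ℤ) + α l
  · have hnotin : shift (β + Finsupp.single i 1) α ∉ exps I :=
      not_mem_of_region_nonneg (exps_add hβ _) hγ' hnn'
    rw [Fc_pt_of_nonneg φ hnn', ev_add φ hβ, cfun_monomial_mul hI hnotin]
    by_cases hnn : ∀ l, 0 ≤ (β l : ℤ) + α l
    · rw [Fc_pt_of_nonneg φ hnn]
      have hsh := shift_add_of_nonneg α (Finsupp.single i 1) hnn
      rw [hsh, if_pos le_add_self, add_tsub_cancel_right]
    · push Not at hnn
      obtain ⟨l, hl⟩ := hnn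
      rw [Fc_of_neg φ (show ∃ l, pt α β l < 0 from ⟨l, hl⟩), if_neg]
      rw [Finsupp.single_le_iff]
      have h1 := hnn' l
      have hli : l = i := by
        by_contra hne
        simp only [Finsupp.add_apply, Finsupp.single_apply, if_neg (Ne.symm hne), add_zero] at h1
        omega
      subst hli
      rw [shift_apply]
      simp only [Finsupp.add_apply, Finsupp.single_eq_same, Nat.cast_add, Nat.cast_one] at h1 ⊢
      omega
  · push Not at hnn'
    obtain ⟨l, hl⟩ := hnn'
    rw [Fc_of_neg φ (show ∃ l, pt α (β + Finsupp.single i 1) l < 0 from ⟨l, hl⟩),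
      Fc_of_neg φ (show ∃ l, pt α β l < 0 from ⟨l, ?_⟩)]
    show (β l : ℤ) + α l < 0
    simp only [Finsupp.add_apply, Nat.cast_add] at hl
    omega

lemma good_Fc (hI : IsMonomial I) (φ : Tgt I) (α : σ → ℤ) : Good I α (Fc φ α) where
  adj := by
    intro γ γ' hγ hγ' hadj
    obtain ⟨⟨β, hβ, h1⟩, -⟩ := id hγ
    obtain ⟨⟨β', hβ', h1'⟩, -⟩ := id hγ'
    have e1 : γ = pt α β := h1
    have e2 : γ' = pt α β' := h1'
    subst e1 e2
    obtain ⟨i, h | h⟩ := adj_pt_cases α hadj
    · subst h
      exact Fc_step hI φ hβ i hγ'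
    · subst h
      exact (Fc_step hI φ hβ' i hγ).symm
  neg := fun γ _ h => Fc_of_neg φ h

/-- the component of degree `α` of a tangent vector -/
noncomputable def comp (hI : IsMonomial I) (φ : Tgt I) (α : σ → ℤ) : Tgt I :=
  mkTgt hI (Fc φ α) (good_Fc hI φ α)

lemma comp_mem (hI : IsMonomial I) (φ : Tgt I) (α : σ → ℤ) : comp hI φ α ∈ tPiece I α :=
  mkTgt_mem hI _ _

lemma comp_apply (hI : IsMonomial I) (φ : Tgt I) (α : σ → ℤ) (β : σ →₀ ℕ)
    (hβ : monomial β (1:k) ∈ I) :
    comp hI φ α ⟨monomial β 1, hβ⟩ =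
      Fc φ α (pt α β) • Ideal.Quotient.mk I (monomial (shift β α) (1:k)) :=
  mkTgt_apply hI _ _ β hβ

/-- the multidegree `γ - g` -/
def dg (g γ : σ →₀ ℕ) : σ → ℤ := fun i => (γ i : ℤ) - (g i : ℤ)

lemma dg_injective (g : σ →₀ ℕ) : Function.Injective (dg g) := by
  intro γ γ' h
  ext i
  have := congrFun h i
  simp only [dg] at this
  omega

lemma shift_dg (g γ : σ →₀ ℕ) : shift g (dg g γ) = γ := by
  ext i
  rw [shift_apply]
  simp only [dg]
  omega

/-- the sum of the components reproduces the value at a monomial of the ideal -/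
lemma sum_comp_apply (hI : IsMonomial I) (Nf : Finset (σ →₀ ℕ))
    (hN : ∀ γ, γ ∈ Nf ↔ γ ∉ exps I) (φ : Tgt I) (g : σ →₀ ℕ) (hg : monomial g (1:k) ∈ I)
    (A : Finset (σ → ℤ)) (hA : ∀ γ ∈ Nf, dg g γ ∈ A) :
    φ ⟨monomial g 1, hg⟩ = ∑ α ∈ A, comp hI φ α ⟨monomial g 1, hg⟩ := by
  classical
  have hB : Nf.image (dg g) ⊆ A := by
    intro α hα
    obtain ⟨γ, hγ, rfl⟩ := Finset.mem_image.mp hα
    exact hA γ hγ
  rw [← Finset.sum_subset hB, Finset.sum_image (fun x _ y _ h => dg_injective g h)]
  · conv_lhs => rw [expansion hI Nf hN (φ ⟨monomial g 1, hg⟩)]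
    apply Finset.sum_congr rfl
    intro γ _
    rw [comp_apply, shift_dg]
    congr 1
    have hnn : ∀ l, 0 ≤ (g l : ℤ) + dg g γ l := by
      intro l; simp only [dg]; omega
    rw [Fc_pt_of_nonneg φ hnn, shift_dg, ev_of_mem φ hg]
  · intro α _ hα
    rw [comp_apply]
    by_cases hnn : ∀ l, 0 ≤ (g l : ℤ) + α l
    · by_cases hin : shift g α ∈ exps I
      · rw [mk_monomial_eq_zero.mpr hin, smul_zero]
      · exfalso
        apply hα
        refine Finset.mem_image.mpr ⟨shift g α, (hN _).mpr hin, ?_⟩
        funext l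
        have := hnn l
        simp only [dg, shift_apply]
        omega
    · push Not at hnn
      rw [Fc_of_neg φ (show ∃ l, pt α g l < 0 from hnn), zero_smul]

/-- monomial generators of bounded degree -/
lemma exists_generator (Nf : Finset (σ →₀ ℕ)) (hN : ∀ γ, γ ∈ Nf ↔ γ ∉ exps I) :
    ∀ β : σ →₀ ℕ, β ∈ exps I → ∃ g ∈ exps I, g.degree ≤ Nf.sup Finsupp.degree + 1 ∧ g ≤ β := by
  classical
  intro β
  induction h : β.degree using Nat.strong_induction_on generalizing β with
  | _ d ih =>
    intro hβ
    by_cases hd : β.degree ≤ Nf.sup Finsupp.degree + 1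
    · exact ⟨β, hβ, hd, le_refl _⟩
    · have hne : β ≠ 0 := by
        intro h0
        rw [h0, map_zero] at hd
        omega
      obtain ⟨i, hi⟩ : ∃ i, β i ≠ 0 := by
        by_contra hcon
        push Not at hcon
        exact hne (Finsupp.ext hcon)
      have hle : Finsupp.single i 1 ≤ β := Finsupp.single_le_iff.mpr (Nat.one_le_iff_ne_zero.mpr hi)
      have hadd : β - Finsupp.single i 1 + Finsupp.single i 1 = β := tsub_add_cancel_of_le hle
      have hdeg : (β - Finsupp.single i 1).degree + 1 = β.degree := by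
        conv_rhs => rw [← hadd]
        rw [map_add, Finsupp.degree_single]
      have hβ' : β - Finsupp.single i 1 ∈ exps I := by
        by_contra hcon
        have := Finset.le_sup (f := Finsupp.degree) ((hN _).mpr hcon)
        omega
      obtain ⟨g, hg, hgd, hgle⟩ := ih _ (by omega) (β - Finsupp.single i 1) rfl hβ'
      exact ⟨g, hg, hgd, hgle.trans tsub_le_self⟩

/-- every tangent vector is a finite sum of homogeneous components -/
lemma exists_sum_comp (hI : IsMonomial I) [Module.Finite k (MvPolynomial σ k ⧸ I)] (φ : Tgt I) :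
    ∃ A : Finset (σ → ℤ), φ = ∑ α ∈ A, comp hI φ α := by
  classical
  haveI := Groth.Agent.Lib.Helper20.finite_compl_exps I hI
  have hfin : {γ : σ →₀ ℕ | γ ∉ exps I}.Finite := by
    apply Set.finite_coe_iff.mp
    show Finite {γ : σ →₀ ℕ // γ ∉ exps I}
    infer_instance
  obtain ⟨Nf, hN⟩ : ∃ Nf : Finset (σ →₀ ℕ), ∀ γ, γ ∈ Nf ↔ γ ∉ exps I :=
    ⟨hfin.toFinset, fun γ => by simp⟩
  have hGfin := Finsupp.finite_of_degree_le (σ := σ) (Nf.sup Finsupp.degree + 1)
  let G : Finset (σ →₀ ℕ) := hGfin.toFinset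
  let A : Finset (σ → ℤ) := G.biUnion fun g => Nf.image (dg g)
  refine ⟨A, ?_⟩
  apply ext_monomial hI
  intro β hβ
  obtain ⟨g, hg, hgd, hgle⟩ := exists_generator Nf hN β hβ
  have hgG : g ∈ G := by
    simp only [G, Set.Finite.mem_toFinset]
    exact hgd
  have hadd : g + (β - g) = β := add_tsub_cancel_of_le hgle
  have key := sum_comp_apply hI Nf hN φ g hg A (fun γ hγ =>
    Finset.mem_biUnion.mpr ⟨g, hgG, Finset.mem_image_of_mem _ hγ⟩)
  have hβ2 : monomial (g + (β - g)) (1:k) ∈ I := by rw [hadd]; exact hβ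
  have e : (⟨monomial β 1, hβ⟩ : ↥I) = ⟨monomial (g + (β - g)) 1, hβ2⟩ := by
    apply Subtype.ext
    show monomial β (1:k) = monomial (g + (β - g)) 1
    rw [hadd]
  rw [e, map_monomial_add φ hg (β - g) hβ2, key, LinearMap.sum_apply, Finset.mul_sum]
  apply Finset.sum_congr rfl
  intro α _
  exact (map_monomial_add (comp hI φ α) hg (β - g) hβ2).symm

/-- **`T(I)` is spanned by its pieces of non-constant sign.** -/
theorem iSup_sigPiece_eq_top (hI : IsMonomial I) [Module.Finite k (MvPolynomial σ k ⧸ I)]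
    [Nontrivial σ] :
    (⨆ N : {N : Set σ // N.Nonempty ∧ N ≠ Set.univ}, sigPiece I N.1) = ⊤ := by
  rw [eq_top_iff]
  intro φ _
  obtain ⟨A, hA⟩ := exists_sum_comp hI φ
  rw [hA]
  apply Submodule.sum_mem
  intro α _
  by_cases h : (∀ i, 0 ≤ α i) ∨ (∀ i, α i < 0)
  · have := comp_mem hI φ α
    rw [tPiece_eq_bot hI h, Submodule.mem_bot] at this
    rw [this]
    exact Submodule.zero_mem _
  · push Not at h
    obtain ⟨⟨i, hi⟩, ⟨j, hj⟩⟩ := h
    have hN : ({l | α l < 0} : Set σ).Nonempty ∧ ({l | α l < 0} : Set σ) ≠ Set.univ := by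
      refine ⟨⟨i, hi⟩, fun h => ?_⟩
      have : j ∈ ({l | α l < 0} : Set σ) := by rw [h]; exact Set.mem_univ j
      exact absurd this (not_lt.mpr hj)
    apply Submodule.mem_iSup_of_mem (⟨{l | α l < 0}, hN⟩ :
      {N : Set σ // N.Nonempty ∧ N ≠ Set.univ})
    show comp hI φ α ∈ sigPiece I {l | α l < 0}
    unfold sigPiece
    exact Submodule.mem_iSup_of_mem (⟨α, fun l => Iff.rfl⟩ :
      {α' : σ → ℤ // ∀ i, α' i < 0 ↔ i ∈ ({l | α l < 0} : Set σ)}) (comp_mem hI φ α)

end decomp

end Groth.Agent.R2.H60.TgtDecomp
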