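import Mathlib

/-!
On the spectrum of a Noetherian unique factorization domain every Weil divisor is principal.
-/

set_option autoImplicit false
universe u

namespace Groth.Agent.R2.H60.WeilUFD

open AlgebraicGeometry CategoryTheory IsLocalRing

section algebra

variable {A : Type*} [CommRing A] [IsDomain A]

/-- height one primes of a UFD are principal, generated by a prime element -/
theorem exists_prime_span_eq [UniqueFactorizationMonoid A] (p : Ideal A) [p.IsPrime]
    (hp : p.height = 1) : ∃ π : A, Prime π ∧ p = Ideal.span {π} := by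
  have hne : p ≠ ⊥ := Ideal.ne_bot_of_height_eq_one hp
  obtain ⟨π, hπp, hπ⟩ := Ideal.IsPrime.exists_mem_prime_of_ne_bot inferInstance hne
  refine ⟨π, hπ, ?_⟩
  haveI : (Ideal.span {π}).IsPrime := (Ideal.span_singleton_prime hπ.ne_zero).mpr hπ
  have hle : Ideal.span {π} ≤ p := (Ideal.span_singleton_le_iff_mem p).mpr hπp
  by_contra hne'
  have hlt : Ideal.span {π} < p := lt_of_le_of_ne hle (Ne.symm hne')
  haveI : p.FiniteHeight := by
    rw [Ideal.finiteHeight_iff]
    right
    rw [hp]
    exact ENat.one_ne_top
  have h1 := Ideal.height_strict_mono_of_isPrime_of_isPrime hlt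
  rw [hp, ENat.lt_one_iff_eq_zero, Ideal.height_eq_zero_iff_eq_bot] at h1
  exact hπ.ne_zero ((Ideal.span_singleton_eq_bot).mp h1)

/-- a nonzero prime contained in a height one prime equals it -/
theorem eq_of_le_of_height_one (p q : Ideal A) [p.IsPrime] [q.IsPrime] (hq : q.height = 1)
    (hp : p ≠ ⊥) (hle : p ≤ q) : p = q := by
  by_contra hne'
  have hlt : p < q := lt_of_le_of_ne hle hne'
  haveI : q.FiniteHeight := by
    rw [Ideal.finiteHeight_iff]
    right
    rw [hq]
    exact ENat.one_ne_top
  have h1 := Ideal.height_strict_mono_of_isPrime_of_isPrime hlt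
  rw [hq, ENat.lt_one_iff_eq_zero, Ideal.height_eq_zero_iff_eq_bot] at h1
  exact hp h1

/-- the localization at a principal prime is a discrete valuation ring with uniformizer the
generator -/
theorem dvr_of_atPrime_principal [IsNoetherianRing A] {S : Type*} [CommRing S] [IsDomain S]
    [Algebra A S] (p : Ideal A) [p.IsPrime] [IsLocalization.AtPrime S p] (π : A) (hπ0 : π ≠ 0)
    (hp : p = Ideal.span {π}) :
    IsDiscreteValuationRing S ∧ Irreducible (algebraMap A S π) := by
  haveI : IsLocalRing S := IsLocalization.AtPrime.isLocalRing S p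
  haveI : IsNoetherianRing S := IsLocalization.isNoetherianRing p.primeCompl S inferInstance
  have hinj : Function.Injective (algebraMap A S) :=
    IsLocalization.injective S p.primeCompl_le_nonZeroDivisors
  have hmax : maximalIdeal S = Ideal.span {algebraMap A S π} := by
    rw [← IsLocalization.AtPrime.map_eq_maximalIdeal p S, hp, Ideal.map_span, Set.image_singleton]
  have hne0 : algebraMap A S π ≠ 0 := by
    intro h0
    exact hπ0 (hinj (by rw [h0, map_zero]))
  have hnf : ¬ IsField S := by
    rw [IsLocalRing.isField_iff_maximalIdeal_eq, hmax, Ideal.span_singleton_eq_bot]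
    exact hne0
  have hdvr : IsDiscreteValuationRing S := by
    rw [((IsDiscreteValuationRing.TFAE S hnf).out 0 4 :)]
    exact ⟨⟨_, hmax⟩⟩
  refine ⟨hdvr, ?_⟩
  have hprime : (Ideal.span {algebraMap A S π}).IsPrime := by
    rw [← hmax]; infer_instance
  exact ((Ideal.span_singleton_prime hne0).mp hprime).irreducible

end algebra

section scheme

variable (A : Type u) [CommRing A] [IsDomain A]

/-- the image of an element of `A` in the function field of `Spec A` -/
noncomputable def fel (a : A) : (Spec (CommRingCat.of A)).functionField :=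
  (StructureSheaf.toStalk A (genericPoint (Spec (CommRingCat.of A)))).hom a

theorem fel_eq (x : Spec (CommRingCat.of A)) (a : A) :
    fel A a =
      algebraMap ((Spec (CommRingCat.of A)).presheaf.stalk x)
        (Spec (CommRingCat.of A)).functionField ((StructureSheaf.toStalk A x).hom a) := by
  simp only [RingHom.algebraMap_toAlgebra, fel]
  exact (StructureSheaf.toStalk_stalkSpecializes_apply _ a).symm

theorem isUnit_toStalk (x : PrimeSpectrum A) (a : A) (ha : a ∉ x.asIdeal) :
    IsUnit ((StructureSheaf.toStalk A x).hom a) :=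
  IsLocalization.map_units ((Spec.structureSheaf A).presheaf.stalk x)
    (⟨a, ha⟩ : x.asIdeal.primeCompl)

theorem toStalk_injective (x : PrimeSpectrum A) :
    Function.Injective (StructureSheaf.toStalk A x).hom :=
  IsLocalization.injective ((Spec.structureSheaf A).presheaf.stalk x)
    x.asIdeal.primeCompl_le_nonZeroDivisors

theorem fel_ne_zero {a : A} (ha : a ≠ 0) : fel A a ≠ 0 := by
  intro h
  apply ha
  apply toStalk_injective A (genericPoint (Spec (CommRingCat.of A)))
  rw [map_zero]
  exact h

variable [IsNoetherianRing A]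

theorem ordHom_fel_of_not_mem (x : Spec (CommRingCat.of A)) (hx : Order.coheight x = 1) (a : A)
    (ha : a ∉ (show PrimeSpectrum A from x).asIdeal) :
    (Spec (CommRingCat.of A)).ordHom x hx (fel A a) = 1 := by
  rw [fel_eq A x a]
  haveI : Ring.KrullDimLE 1 ((Spec (CommRingCat.of A)).presheaf.stalk x) :=
    krullDimLE_of_coheight_le hx.le
  exact Ring.ordFrac_of_isUnit (isUnit_toStalk A x a ha)

theorem ordHom_fel_of_span (x : Spec (CommRingCat.of A)) (hx : Order.coheight x = 1) (π : A)
    (hπ : π ≠ 0) (h : (show PrimeSpectrum A from x).asIdeal = Ideal.span {π}) :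
    (Spec (CommRingCat.of A)).ordHom x hx (fel A π) = WithZero.exp 1 := by
  rw [fel_eq A x π]
  haveI : Ring.KrullDimLE 1 ((Spec (CommRingCat.of A)).presheaf.stalk x) :=
    krullDimLE_of_coheight_le hx.le
  letI : Algebra A ((Spec (CommRingCat.of A)).presheaf.stalk x) :=
    StructureSheaf.stalkAlgebra A x
  haveI : IsLocalization.AtPrime ((Spec (CommRingCat.of A)).presheaf.stalk x)
      (show PrimeSpectrum A from x).asIdeal :=
    StructureSheaf.IsLocalization.to_stalk A x
  obtain ⟨hdvr, hirr⟩ := dvr_of_atPrime_principal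
    (S := (Spec (CommRingCat.of A)).presheaf.stalk x) (show PrimeSpectrum A from x).asIdeal π hπ h
  haveI := hdvr
  exact Ring.ordFrac_irreducible hirr

/-- **Every Weil divisor on the spectrum of a Noetherian UFD is principal.** -/
theorem exists_principal [UniqueFactorizationMonoid A]
    (D : ↥(Spec (CommRingCat.of A)) → ℤ) (hD : ∀ x, Order.coheight x ≠ 1 → D x = 0)
    (hfin : {x | D x ≠ 0}.Finite) :
    ∃ f : ↑(Spec (CommRingCat.of A)).functionField, f ≠ 0 ∧
      ∀ x : ↥(Spec (CommRingCat.of A)), Order.coheight x = 1 → Scheme.ord f x = D x := by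
  classical
  have hgen : ∀ x : Spec (CommRingCat.of A), Order.coheight x = 1 →
      ∃ π : A, Prime π ∧ (show PrimeSpectrum A from x).asIdeal = Ideal.span {π} := by
    intro x hx
    apply exists_prime_span_eq
    have := idealHeight_eq_coheight (CommRingCat.of A) x
    rw [hx] at this
    exact this
  choose! π hπ using hgen
  have hcoh : ∀ y ∈ hfin.toFinset, Order.coheight y = 1 := by
    intro y hy
    by_contra hne
    have h1 := hD y hne
    have h2 : D y ≠ 0 := by simpa using hy
    exact h2 h1
  have hne : ∀ y ∈ hfin.toFinset, fel A (π y) ≠ 0 :=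
    fun y hy => fel_ne_zero A (hπ y (hcoh y hy)).1.ne_zero
  have hfne : (∏ y ∈ hfin.toFinset, fel A (π y) ^ D y) ≠ 0 := by
    rw [Finset.prod_ne_zero_iff]
    intro y hy
    exact zpow_ne_zero _ (hne y hy)
  refine ⟨∏ y ∈ hfin.toFinset, fel A (π y) ^ D y, hfne, fun x hx => ?_⟩
  rw [Scheme.ord_eq_iff hx hfne, map_prod]
  simp_rw [map_zpow₀]
  rw [Finset.prod_eq_single x]
  · rw [ordHom_fel_of_span A x hx (π x) (hπ x hx).1.ne_zero (hπ x hx).2, ← WithZero.exp_zsmul,
      smul_eq_mul, mul_one, WithZero.exp_eq_coe_ofAdd]
  · intro y hy hyx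
    have hyc := hcoh y hy
    rw [ordHom_fel_of_not_mem A x hx (π y), one_zpow]
    intro hmem
    apply hyx
    have hle : (show PrimeSpectrum A from y).asIdeal ≤ (show PrimeSpectrum A from x).asIdeal := by
      rw [(hπ y hyc).2, Ideal.span_singleton_le_iff_mem]
      exact hmem
    have hyne : (show PrimeSpectrum A from y).asIdeal ≠ ⊥ := by
      rw [(hπ y hyc).2, Ne, Ideal.span_singleton_eq_bot]
      exact (hπ y hyc).1.ne_zero
    have hxh : (show PrimeSpectrum A from x).asIdeal.height = 1 := by
      have := idealHeight_eq_coheight (CommRingCat.of A) x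
      rw [hx] at this
      exact this
    haveI : (show PrimeSpectrum A from y).asIdeal.IsPrime := (show PrimeSpectrum A from y).2
    haveI : (show PrimeSpectrum A from x).asIdeal.IsPrime := (show PrimeSpectrum A from x).2
    exact PrimeSpectrum.ext (eq_of_le_of_height_one
      (show PrimeSpectrum A from y).asIdeal (show PrimeSpectrum A from x).asIdeal hxh hyne hle)
  · intro hx'
    have : D x = 0 := by
      by_contra h
      exact hx' (by simpa using h)
    rw [this, zpow_zero]

end scheme

end Groth.Agent.R2.H60.WeilUFD
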