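import Groth.Agent.R2.H41CptSpec
import Groth.Agent.Lib.Helper23FreeOn
import Groth.Agent.Lib.Helper4ModEpi

/-!
# helper61: PROJ:compact package (I) PkgWcProj

`j_{U!}O` is projective in `Mod O` for weakly contractible `U`.
-/

set_option autoImplicit false
universe u
open CategoryTheory CategoryTheory.Limits Opposite

namespace Groth.Agent.R2.H61.CptWcProj

open Groth.Agent.R2.H41

variable {C : Type u} [SmallCategory C] {J : GrothendieckTopology C}
    (O : Sheaf J CommRingCat.{u})

/-- An epimorphism of sheaves of modules is surjective on sections over a weakly contractible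
object. -/
theorem surjective_app_of_epi (U : C) (hU : CohSite.IsWeaklyContractible J U)
    {M N : ModSite.Mod O} (π : M ⟶ N) [Epi π] :
    Function.Surjective (π.val.app (op U)) := by
  have h1 := Groth.Agent.Lib.Helper4.ModEpi.isLocallySurjective_of_epi π
  let φ : (SheafOfModules.toSheaf (ModSite.ringSh O)).obj M ⟶
      (SheafOfModules.toSheaf (ModSite.ringSh O)).obj N :=
    (SheafOfModules.toSheaf (ModSite.ringSh O)).map π
  haveI : Sheaf.IsLocallySurjective φ := h1
  have h2 : Epi ((sheafCompose J (forget AddCommGrpCat.{u})).map φ) := inferInstance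
  have h3 := hU _ _ _ h2
  intro n
  obtain ⟨m, hm⟩ := h3 n
  exact ⟨m, hm⟩

theorem pkgWcProj : CptSpec.PkgWcProj.{u} := by
  intro C _ J O U hU
  constructor
  intro M N f π hπ
  obtain ⟨m, hm⟩ := surjective_app_of_epi O U hU π
    (Groth.Agent.Lib.Helper23FreeOn.homEquiv O N U f)
  refine ⟨(Groth.Agent.Lib.Helper23FreeOn.homEquiv O M U).symm m, ?_⟩
  rw [Groth.Agent.Lib.Helper23FreeOn.homEquiv_symm_comp, hm, Equiv.symm_apply_apply]

end Groth.Agent.R2.H61.CptWcProj
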