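import Groth.Agent.R2.H61LocAway2
import Groth.Agent.Lib.Helper17KInjD5

/-!
# Right adjoints of derived localisation are derived limits (helper61)

`exists_rlim_triangle_of_adjunction`: for a Grothendieck abelian `R`-linear category `A` and
`r : R`, any right adjoint of `(F ↦ F[1/r]).mapDerivedCategory` sends `K` to an `R lim` of
`⋯ ⟶ K ⟶ K` with transition maps `r`.
-/

set_option autoImplicit false
universe w w₁ v u
open CategoryTheory CategoryTheory.Limits HomologicalComplex DerivedCategory Pretriangulated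

namespace Groth.Agent.R2.H61.LocAway

open Groth.Agent.Lib.Helper17.QProd Groth.Agent.Lib.Helper17.KInj

section Cx

set_option linter.unusedSectionVars false

variable {R : Type*} [CommRing R] {A : Type u} [Category.{v} A] [Abelian A] [Linear R A]
  [HasColimitsOfShape (Discrete ℕ) A] [HasLimitsOfShape (Discrete ℕ) A]
  (r : R) (I : CochainComplex A ℤ)

lemma prodCx_d (k m : ℤ) :
    (prodCx (fun _ : ℕ => I)).d k m = Limits.Pi.map (fun _ : ℕ => I.d k m) := by
  apply limit.hom_ext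
  rintro ⟨n⟩
  dsimp [prodCx]
  erw [limMap_π]

/-- `1 - r·shift` on the product complex -/
noncomputable def phiCx : prodCx (fun _ : ℕ => I) ⟶ prodCx (fun _ : ℕ => I) where
  f k := coawayMap r (I.X k)
  comm' k m _ := by
    rw [prodCx_d]
    exact (piMap_coawayMap r (I.d k m)).symm

/-- the inclusion of `T(I)` into the product complex -/
noncomputable def jCx :
    ((tF r).mapHomologicalComplex (ComplexShape.up ℤ)).obj I ⟶ prodCx (fun _ : ℕ => I) where
  f k := tι r (I.X k)
  comm' k m _ := by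
    rw [prodCx_d]
    exact (map_tι r (I.d k m)).symm

lemma jCx_phiCx : jCx r I ≫ phiCx r I = 0 := by
  ext k
  exact tι_coawayMap r (I.X k)

lemma phiCx_π (n : ℕ) :
    phiCx r I ≫ prodCxπ (fun _ : ℕ => I) n =
      prodCxπ (fun _ : ℕ => I) n - prodCxπ (fun _ : ℕ => I) (n + 1) ≫ (r • 𝟙 I) := by
  ext k
  exact coawayMap_π r (I.X k) n

/-- the short complex `T(I) ⟶ ∏ I ⟶ ∏ I` of complexes -/
noncomputable def sesCx : ShortComplex (CochainComplex A ℤ) :=
  ShortComplex.mk (jCx r I) (phiCx r I) (jCx_phiCx r I)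

variable [HasColimitsOfShape (Finset (Discrete ℕ)) A]
  [HasExactColimitsOfShape (Finset (Discrete ℕ)) A]

lemma sesCx_shortExact (hI : ∀ k, Injective (I.X k)) : (sesCx r I).ShortExact := by
  rw [HomologicalComplex.shortExact_iff_degreewise_shortExact]
  intro k
  have := hI k
  have hmono : Mono ((sesCx r I).map (eval A (ComplexShape.up ℤ) k)).f :=
    inferInstanceAs (Mono (tι r (I.X k)))
  have hepi : Epi ((sesCx r I).map (eval A (ComplexShape.up ℤ) k)).g :=
    inferInstanceAs (Epi (coawayMap r (I.X k)))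
  refine ShortComplex.ShortExact.mk ?_
  exact ShortComplex.exact_of_f_is_kernel _ (isLimitTι r (I.X k))

end Cx

section Main

variable {R : Type*} [CommRing R] {A : Type u} [Category.{v} A] [Abelian A] [Linear R A]
  [IsGrothendieckAbelian.{w} A] [HasDerivedCategory.{w₁} A]
  [HasColimitsOfShape (Discrete ℕ) A] [HasLimitsOfShape (Discrete ℕ) A]
  [HasColimitsOfShape (Finset (Discrete ℕ)) A] [HasExactColimitsOfShape (Finset (Discrete ℕ)) A]
  [EnoughInjectives A]
  (r : R)

/-- Any right adjoint `RL` of the localisation functor `K ↦ K[1/r]` on the derived category sends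
`K` to a derived limit of the tower `⋯ ⟶ K ⟶ K ⟶ K` with transition maps `r`. -/
theorem exists_rlim_triangle_of_adjunction
    (RL : DerivedCategory A ⥤ DerivedCategory A)
    (adj : (locF (A := A) r).mapDerivedCategory ⊣ RL)
    (K : DerivedCategory A) [HasProduct fun _ : ℕ => K] :
    ∃ (a : RL.obj K ⟶ ∏ᶜ fun _ : ℕ => K) (c : (∏ᶜ fun _ : ℕ => K) ⟶ (RL.obj K)⟦(1 : ℤ)⟧),
      Triangle.mk a (Pi.lift fun n => Pi.π (fun _ : ℕ => K) n -
        Pi.π (fun _ : ℕ => K) (n + 1) ≫ (r • 𝟙 K)) c ∈ distTriang (DerivedCategory A) := by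
  classical
  let T := tF (A := A) r
  let F := locF (A := A) r
  let W := HomologicalComplex.quasiIso A (ComplexShape.up ℤ)
  let G' := T.mapHomologicalComplex (ComplexShape.up ℤ) ⋙ (Q : _ ⥤ DerivedCategory A)
  have hder : (fibLocalizerMorphism A).Derives G' :=
    fibLocalizerMorphism_derives _ (isInvertedBy_mapHomologicalComplex_comp_Q T)
  have := hder.hasPointwiseRightDerivedFunctor
  let RT := G'.totalRightDerived Q W
  let β : G' ⟶ Q ⋙ RT := G'.totalRightDerivedUnit Q W
  let adj' : F.mapDerivedCategory ⊣ RT := derivedAdjunction.{w} F T (locAdj r) RT β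
  let eR : RL ≅ RT := adj.rightAdjointUniq adj'
  obtain ⟨I, f, hI, hf, -, hinj⟩ := exists_kInjective_resolution.{w} A
    ((Q : _ ⥤ DerivedCategory A).objPreimage K)
  have e : (Q : _ ⥤ DerivedCategory A).obj I ≅ K :=
    (asIso (Q.map f)).symm ≪≫ Q.objObjPreimageIso K
  have hβ : IsIso (β.app I) := isIso_app_of_isKInjective.{w} T RT β I
  let eL : RL.obj K ≅ Q.obj ((T.mapHomologicalComplex (ComplexShape.up ℤ)).obj I) :=
    eR.app K ≪≫ RT.mapIso e.symm ≪≫ (asIso (β.app I)).symm
  have hS := sesCx_shortExact r I hinj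
  have hT := triangleOfSES_distinguished hS
  have : ∀ _ : ℕ, I.IsKInjective := fun _ => hI
  obtain ⟨eP, heP⟩ : ∃ eP : (Q : _ ⥤ DerivedCategory A).obj (prodCx fun _ : ℕ => I) ≅
      ∏ᶜ fun _ : ℕ => K,
      ∀ n, eP.hom ≫ Pi.π (fun _ : ℕ => K) n = Q.map (prodCxπ (fun _ : ℕ => I) n) ≫ e.hom :=
    ⟨IsLimit.conePointsIsoOfNatIso (isLimitQProdCxOfIsKInjective (fun _ : ℕ => I))
      (productIsProduct (fun _ : ℕ => K)) (Discrete.natIso (fun _ => e)), fun n =>
      IsLimit.conePointsIsoOfNatIso_hom_comp (isLimitQProdCxOfIsKInjective (fun _ : ℕ => I))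
        (productIsProduct (fun _ : ℕ => K)) (Discrete.natIso (fun _ => e)) ⟨n⟩⟩
  have hsm : (Q : _ ⥤ DerivedCategory A).map (r • 𝟙 I) ≫ e.hom = e.hom ≫ (r • 𝟙 K) := by
    rw [Functor.map_smul, CategoryTheory.Functor.map_id, Linear.smul_comp, Category.id_comp,
      Linear.comp_smul, Category.comp_id]
  have hψ : (Q : _ ⥤ DerivedCategory A).map (phiCx r I) ≫ eP.hom =
      eP.hom ≫ Pi.lift (fun n => Pi.π (fun _ : ℕ => K) n -
        Pi.π (fun _ : ℕ => K) (n + 1) ≫ (r • 𝟙 K)) := by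
    apply Pi.hom_ext
    intro n
    rw [Category.assoc, Category.assoc, Pi.lift_π, heP, ← Functor.map_comp_assoc, phiCx_π,
      Functor.map_sub, Functor.map_comp, Preadditive.sub_comp, Preadditive.comp_sub, heP,
      reassoc_of% (heP (n + 1)), Category.assoc, hsm]
  refine ⟨eL.hom ≫ Q.map (jCx r I) ≫ eP.hom,
    eP.inv ≫ triangleOfSESδ hS ≫ eL.inv⟦(1 : ℤ)⟧', ?_⟩
  refine isomorphic_distinguished _ hT _ (Triangle.isoMk _ _ eL eP.symm eP.symm ?_ ?_ ?_)
  · change (eL.hom ≫ Q.map (jCx r I) ≫ eP.hom) ≫ eP.inv = eL.hom ≫ Q.map (jCx r I)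
    simp only [Category.assoc, Iso.hom_inv_id, Category.comp_id]
  · change (Pi.lift fun n => Pi.π (fun _ : ℕ => K) n -
      Pi.π (fun _ : ℕ => K) (n + 1) ≫ (r • 𝟙 K)) ≫ eP.inv = eP.inv ≫ Q.map (phiCx r I)
    rw [Iso.comp_inv_eq, Category.assoc, Iso.eq_inv_comp]
    exact hψ.symm
  · have h3 : (eL.inv⟦(1 : ℤ)⟧') ≫ (eL.hom⟦(1 : ℤ)⟧') = 𝟙 _ := by
      rw [← Functor.map_comp, Iso.inv_hom_id, CategoryTheory.Functor.map_id]
    exact (Category.assoc _ _ _).trans (congrArg (eP.inv ≫ ·) ((Category.assoc _ _ _).trans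
      ((congrArg (triangleOfSESδ hS ≫ ·) h3).trans (Category.comp_id _))))

end Main

end Groth.Agent.R2.H61.LocAway
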