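import Groth.Agent.R2.H61DC5
import Groth.Agent.R2.H61LocAway3

/-!
# helper61: the sections `f` with `Hom(j_! O_f, K[n]) = 0` form a sheaf of ideals
-/

set_option autoImplicit false

universe u

open CategoryTheory CategoryTheory.Limits Opposite

attribute [local instance] HasDerivedCategory.standard

namespace Groth.Agent.R2.H61.DC6

open Groth.Agent.R2.H61.LocAway Groth.Agent.R2.H61.DC1 Groth.Agent.R2.H61.DC2
  Groth.Agent.R2.H61.DC3 Groth.Agent.R2.H61.DC4 Groth.Agent.R2.H61.DC5
  Groth.Agent.Lib.Helper23FreeOn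
  Groth.Agent.Lib.Helper21.RestrExact Groth.Agent.Lib.Helper21.ExtZeroS

variable {C : Type u} [SmallCategory C] {J : GrothendieckTopology C} (O : Sheaf J CommRingCat.{u})

/-- `f ↦ f` as a ring homomorphism `O(W) → Γ(C/W, O_W)`. -/
noncomputable def ofSectHom (W : C) : O.obj.obj (op W) →+* DerComp.GSec (O.over W) where
  toFun := DerComp.GSec.ofSect O W
  map_one' := Subtype.ext (funext fun V => map_one (O.obj.map V.hom.op).hom)
  map_mul' a b := Subtype.ext (funext fun V => map_mul (O.obj.map V.hom.op).hom a b)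
  map_zero' := Subtype.ext (funext fun V => map_zero (O.obj.map V.hom.op).hom)
  map_add' a b := Subtype.ext (funext fun V => map_add (O.obj.map V.hom.op).hom a b)

instance (W : C) : PreservesFiniteColimits (ModSite.extZero O W) :=
  haveI : PreservesColimitsOfSize.{0, 0} (ModSite.extZero O W) :=
    (ModSite.extZeroAdj O W).leftAdjoint_preservesColimits
  PreservesColimitsOfSize.preservesFiniteColimits.{0, 0} _

variable (I : CochainComplex (ModSite.Mod O) ℤ)

/-- the vanishing condition at `(W, f)` for the complex `I`. -/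
def Pc (W : C) (f : O.obj.obj (op W)) : Prop :=
  ∀ n : ℤ, Acyc ((ModSite.extZero O W).obj (DerComp.awayOver O W f)) I n

theorem exists_ideal_pc (hI : ∀ k, Injective (I.X k)) (W : C) :
    ∃ Jw : Ideal (O.obj.obj (op W)), ∀ f, f ∈ Jw ↔ Pc O I W f := by
  obtain ⟨I', hI'⟩ := exists_ideal_acyc_locF (R := DerComp.GSec (O.over W))
    (ModSite.unit (O.over W)) (((ModSite.restr O W).mapHomologicalComplex (ComplexShape.up ℤ)).obj I)
    (fun k => by
      have := hI k
      exact inferInstanceAs (Injective ((ModSite.restr O W).obj (I.X k))))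
  refine ⟨I'.comap (ofSectHom O W), fun f => ?_⟩
  rw [Ideal.mem_comap]
  refine (hI' _).trans (forall_congr' fun n => ?_)
  rw [acyc_adj_iff (ModSite.extZeroAdj O W), awayOver_eq]
  rfl


theorem pc_glue [hI : I.IsKInjective] (W : C) (f : O.obj.obj (op W)) (S : Sieve W) (hS : S ∈ J W)
    (h : ∀ ⦃V : C⦄ (g : V ⟶ W), S g → Pc O I V ((O.obj.map g.op).hom f)) : Pc O I W f := by
  intro n
  set r : DerComp.GSec (O.over W) := DerComp.GSec.ofSect O W f with hr
  set L := ((ModSite.restr O W).mapHomologicalComplex (ComplexShape.up ℤ)).obj I with hL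
  have hLK : CochainComplex.IsKInjective L := isKInjective_map_of_adj (ModSite.extZeroAdj O W) I
  set T := ((tF (R := DerComp.GSec (O.over W)) (A := ModSite.Mod (O.over W)) r).mapHomologicalComplex
    (ComplexShape.up ℤ)).obj L with hT
  have hTK : CochainComplex.IsKInjective T := isKInjective_map_of_adj (locAdj r) L
  rw [acyc_adj_iff (ModSite.extZeroAdj O W), awayOver_eq, acyc_adj_iff (locAdj r)]
  apply acyc_of_acyclic_of_isKInjective T
  apply acyclic_of_locally (O.over W) T (fun Y => S Y.hom)
  · intro X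
    refine ⟨(Sieve.overEquiv X).symm (S.pullback X.hom), ?_, ?_⟩
    · rw [GrothendieckTopology.mem_over_iff, OrderIso.apply_symm_apply]
      exact J.pullback_stable X.hom hS
    · intro Y g hg
      rw [Sieve.overEquiv_symm_iff] at hg
      change S (g.left ≫ X.hom) at hg
      rwa [Over.w] at hg
  · intro Y hY m
    rw [hT, ← acyc_adj_iff (locAdj r), acyc_locF_freeOn_iff]
    have h1 := (acyc_extZero_awayOver_iff O Y.left ((O.obj.map Y.hom.op).hom f) I m).1 (h Y.hom hY m)
    exact h1

end Groth.Agent.R2.H61.DC6
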