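import Groth.Agent.R2.H61DC9
import Groth.Agent.S13487

/-!
# helper61: derived completion on a ringed site along finitely many global sections
-/

set_option autoImplicit false

universe u

open CategoryTheory CategoryTheory.Limits Opposite

attribute [local instance] HasDerivedCategory.standard

namespace Groth.Agent.R2.H61.DC10

open Groth.Agent.R2.H61.DC7 Groth.Agent.R2.H61.DC8 Groth.Agent.R2.H61.DC9
  Groth.Agent.R2.H31.Tri

variable {C : Type u} [SmallCategory C] {J : GrothendieckTopology C} (O : Sheaf J CommRingCat.{u})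

/-- for a sheaf of ideals generated by global sections, derived completeness is right
orthogonality to the local objects of each generator. -/
theorem isDerComp_iff_isCpl {ι : Type*} (s : ι → DerComp.GSec O) (I : DerComp.IdealSh O)
    (hI : I.IsGenBy s) (K : DerivedCategory (ModSite.Mod O)) :
    DerComp.IsDerComp O I K ↔ ∀ i, IsCpl (s i) K := by
  constructor
  · intro h i
    rw [isCpl_iff_van]
    intro U n
    exact h U ((s i).1 U) (hI.1 i U) n
  · intro h
    obtain ⟨I', hI'⟩ := Groth.Agent.S13487.result O K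
    have hc : I'.Contains s := by
      intro i U
      rw [hI']
      intro V g n
      rw [(s i).2 g]
      exact (isCpl_iff_van O (s i) K).1 (h i) V n
    have hle := hI.2 I' hc
    intro U f hf n
    have h1 := (hI' U f).1 (hle U hf) U (𝟙 U) n
    have h2 : (O.obj.map (𝟙 U).op).hom f = f := by
      rw [op_id, O.obj.map_id]
      rfl
    rw [h2] at h1
    exact h1

/-- every object of `D(O)` has a countable power. -/
lemma exists_isPow (K : DerivedCategory (ModSite.Mod O)) :
    ∃ (P : DerivedCategory (ModSite.Mod O)) (π : ℕ → (P ⟶ K)), IsPow P K π := by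
  obtain ⟨I, hI, e, -⟩ := exists_model O K
  exact ⟨_, _, isPow_Q_prodCx I K e.symm⟩

/-- one step of derived completion. -/
theorem exists_cpl_step (f : DerComp.GSec O) (K : DerivedCategory (ModSite.Mod O)) :
    ∃ (Kf : DerivedCategory (ModSite.Mod O)) (η : K ⟶ Kf), IsCpl f Kf ∧
      (∀ Y : DerivedCategory (ModSite.Mod O), Orth Y K → Orth Y Kf) ∧
      ∀ E : DerivedCategory (ModSite.Mod O), IsCpl f E →
        Function.Bijective (fun ψ : Kf ⟶ E => η ≫ ψ) := by
  obtain ⟨P, π, hP⟩ := exists_isPow O K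
  obtain ⟨d⟩ := nonempty_cplData f hP
  exact ⟨d.Kf, d.η, d.isCpl_Kf, fun Y h => d.orth_Kf h, fun E hE => d.bijective_comp_η hE⟩

lemma isCpl_of_orth_transfer (g : DerComp.GSec O) (K₁ K₂ : DerivedCategory (ModSite.Mod O))
    (o : ∀ Y : DerivedCategory (ModSite.Mod O), Orth Y K₁ → Orth Y K₂) (h : IsCpl g K₁) :
    IsCpl g K₂ := by
  rw [isCpl_iff_van] at h ⊢
  intro U
  rw [van_iff_orth]
  exact o _ ((van_iff_orth O K₁ U _).1 (h U))

/-- derived completion with respect to a finite list of global sections. -/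
theorem exists_cpl_list (l : List (DerComp.GSec O)) (K : DerivedCategory (ModSite.Mod O)) :
    ∃ (K' : DerivedCategory (ModSite.Mod O)) (η : K ⟶ K'), (∀ g ∈ l, IsCpl g K') ∧
      ∀ E : DerivedCategory (ModSite.Mod O), (∀ g ∈ l, IsCpl g E) →
        Function.Bijective (fun ψ : K' ⟶ E => η ≫ ψ) := by
  induction l with
  | nil =>
    refine ⟨K, 𝟙 K, by simp, fun E _ => ?_⟩
    simp only [Category.id_comp]
    exact Function.bijective_id
  | cons g l ih =>
    obtain ⟨K₁, η₁, h₁, u₁⟩ := ih
    obtain ⟨K₂, η₂, h₂, o₂, u₂⟩ := exists_cpl_step O g K₁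
    refine ⟨K₂, η₁ ≫ η₂, ?_, ?_⟩
    · intro g' hg'
      rcases List.mem_cons.1 hg' with rfl | hg'
      · exact h₂
      · exact isCpl_of_orth_transfer O g' K₁ K₂ o₂ (h₁ g' hg')
    · intro E hE
      have b₂ := u₂ E (hE g (List.mem_cons_self))
      have b₁ := u₁ E (fun g' hg' => hE g' (List.mem_cons_of_mem _ hg'))
      have : (fun ψ : K₂ ⟶ E => (η₁ ≫ η₂) ≫ ψ) =
          (fun ψ : K₁ ⟶ E => η₁ ≫ ψ) ∘ (fun ψ : K₂ ⟶ E => η₂ ≫ ψ) := by
        funext ψ
        simp
      rw [this]
      exact b₁.comp b₂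

/-- derived completion with respect to a sheaf of ideals generated by finitely many global sections,
objectwise. -/
theorem exists_completion {r : ℕ} (s : Fin r → DerComp.GSec O) (I : DerComp.IdealSh O)
    (hI : I.IsGenBy s) (K : DerivedCategory (ModSite.Mod O)) :
    ∃ (K' : DerivedCategory (ModSite.Mod O)) (η : K ⟶ K'), DerComp.IsDerComp O I K' ∧
      ∀ E : DerivedCategory (ModSite.Mod O), DerComp.IsDerComp O I E →
        Function.Bijective (fun ψ : K' ⟶ E => η ≫ ψ) := by
  obtain ⟨K', η, h, u⟩ := exists_cpl_list O (List.ofFn s) K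
  refine ⟨K', η, ?_, ?_⟩
  · rw [isDerComp_iff_isCpl O s I hI]
    intro i
    exact h (s i) (List.mem_ofFn.2 ⟨i, rfl⟩)
  · intro E hE
    apply u
    intro g hg
    obtain ⟨i, rfl⟩ := List.mem_ofFn.1 hg
    exact (isDerComp_iff_isCpl O s I hI E).1 hE i

end Groth.Agent.R2.H61.DC10
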