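import Groth.Agent.R2.H61DC9

/-!
# helper61: a derived complete object restricts to an `f`-complete object of `D(O_U)` for `f ∈ I(U)`
-/

set_option autoImplicit false

universe u

open CategoryTheory CategoryTheory.Limits Opposite

attribute [local instance] HasDerivedCategory.standard

namespace Groth.Agent.R2.H61.DC11

open Groth.Agent.R2.H61.LocAway Groth.Agent.R2.H61.DC1 Groth.Agent.R2.H61.DC2
  Groth.Agent.R2.H61.DC3 Groth.Agent.R2.H61.DC4 Groth.Agent.R2.H61.DC5
  Groth.Agent.R2.H61.DC6 Groth.Agent.R2.H61.DC7 Groth.Agent.R2.H61.DC8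
  Groth.Agent.R2.H31.Tri
  Groth.Agent.Lib.Helper21.RestrExact Groth.Agent.Lib.Helper21.ExtZeroS

variable {C : Type u} [SmallCategory C] {J : GrothendieckTopology C} (O : Sheaf J CommRingCat.{u})

/-- if the vanishing condition holds for all restrictions of `f`, the complex `T_f(I|_W)` is acyclic. -/
theorem acyclic_tF_restr (I : CochainComplex (ModSite.Mod O) ℤ) (W : C) (f : O.obj.obj (op W))
    (h : ∀ Y : Over W, Pc O I Y.left ((O.obj.map Y.hom.op).hom f)) :
    (((tF (R := DerComp.GSec (O.over W)) (A := ModSite.Mod (O.over W))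
      (DerComp.GSec.ofSect O W f)).mapHomologicalComplex (ComplexShape.up ℤ)).obj
        (((ModSite.restr O W).mapHomologicalComplex (ComplexShape.up ℤ)).obj I)).Acyclic := by
  apply acyclic_of_locally (O.over W) _ (fun _ => True)
    (fun X => ⟨⊤, (J.over W).top_mem X, fun _ _ _ => trivial⟩)
  intro Y _ m
  rw [← acyc_adj_iff (locAdj (DerComp.GSec.ofSect O W f)), acyc_locF_freeOn_iff]
  have h1 := (acyc_extZero_awayOver_iff O Y.left ((O.obj.map Y.hom.op).hom f) I m).1 (h Y m)
  exact h1

/-- a derived complete object restricts to an `f`-complete object of `D(O_U)`, `f ∈ I(U)`. -/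
theorem isCpl_restr_of_isDerComp (I : DerComp.IdealSh O) (L : DerivedCategory (ModSite.Mod O))
    (hL : DerComp.IsDerComp O I L) (U : C) (f : O.obj.obj (op U)) (hf : f ∈ I.ideal U) :
    IsCpl (DerComp.GSec.ofSect O U f) ((ModSite.restr O U).mapDerivedCategory.obj L) := by
  obtain ⟨IL, hIL, e, hinj⟩ := exists_model O L
  have hK : CochainComplex.IsKInjective
      (((ModSite.restr O U).mapHomologicalComplex (ComplexShape.up ℤ)).obj IL) :=
    isKInjective_map_of_adj (ModSite.extZeroAdj O U) IL
  have e' : (DerivedCategory.Q : _ ⥤ DerivedCategory (ModSite.Mod (O.over U))).obj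
      (((ModSite.restr O U).mapHomologicalComplex (ComplexShape.up ℤ)).obj IL) ≅
      (ModSite.restr O U).mapDerivedCategory.obj L :=
    ((ModSite.restr O U).mapDerivedCategoryFactors.app IL).symm ≪≫
      (ModSite.restr O U).mapDerivedCategory.mapIso e.symm
  refine isCpl_of_acyclic_tF (DerComp.GSec.ofSect O U f) _ (fun k => ?_) _ e' ?_
  · have := hinj k
    exact inferInstanceAs (Injective ((ModSite.restr O U).obj (IL.X k)))
  · apply acyclic_tF_restr
    intro Y
    exact (van_iff_pc O L IL e Y.left _).1 (fun n => hL Y.left _ (I.map_mem Y.hom hf) n)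

end Groth.Agent.R2.H61.DC11
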