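import Groth.Agent.R2.H61LocSite3
import Groth.Agent.R2.H31Tri

/-!
# helper61: `Tot(- ⊗ P)` is linear over global sections; tensoring a local complex gives a local object
-/

set_option autoImplicit false

universe u

open CategoryTheory CategoryTheory.Limits MonoidalCategory Opposite HomologicalComplex

attribute [local instance] HasDerivedCategory.standard

namespace Groth.Agent.R2.H61.DC12

open Groth.Agent.Lib.Helper21.ModTensor Groth.Agent.Lib.Helper21.ModTensor2
  Groth.Agent.Lib.Helper21.ModTensor3 Groth.Agent.Lib.Helper21.ModTensor5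
  Groth.Agent.Lib.Helper21.ModTensor7
open Groth.Agent.R2.H61.LocSite Groth.Agent.Lib.Helper1.BKF Groth.Agent.R2.H31.Tri

variable {C : Type u} [SmallCategory C] {J : GrothendieckTopology C} {O : Sheaf J CommRingCat.{u}}

lemma whiskerRight_psmul (s : DerComp.GSec O) (A B : PM O) :
    psmul s A ▷ B = psmul s (A ⊗ B) := by
  ext1 X
  apply ModuleCat.MonoidalCategory.tensor_ext
  intro m₁ m₂
  change ((show (O.obj.obj X : Type u) from s.1 X.unop) • m₁) ⊗ₜ[(O.obj.obj X : Type u)] m₂ =
    (show (O.obj.obj X : Type u) from s.1 X.unop) • (m₁ ⊗ₜ[(O.obj.obj X : Type u)] m₂)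
  exact (TensorProduct.smul_tmul' _ _ _).symm

/-- `- ⊗_O G` is linear over the ring of global sections -/
lemma tR_map_smulEnd (s : DerComp.GSec O) (F G : ModSite.Mod O) :
    (tR O G).map (DerComp.smulEnd s F) = DerComp.smulEnd s ((tR O G).obj F) := by
  rw [tR_map, fgt_map_smulEnd, whiskerRight_psmul, shf_map_psmul]
  rfl

lemma tensorBi_map_smul_app (s : DerComp.GSec O) {F F' : ModSite.Mod O} (g : F ⟶ F')
    (N : ModSite.Mod O) :
    ((ModSite.tensorBi O).map (s • g)).app N = s • ((ModSite.tensorBi O).map g).app N := by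
  rw [DerComp.smul_def, DerComp.smul_def, Functor.map_comp, NatTrans.comp_app]
  congr 1
  exact tR_map_smulEnd s F N

lemma TR_map_smul (K : CochainComplex (ModSite.Mod O) ℤ) {X Y : CochainComplex (ModSite.Mod O) ℤ}
    (s : DerComp.GSec O) (g : X ⟶ Y) :
    (TR (ModSite.tensorBi O) K).map (s • g) = s • (TR (ModSite.tensorBi O) K).map g := by
  refine HomologicalComplex.hom_ext _ _ (fun n => ?_)
  apply mapBifunctor.hom_ext
  intro p q hpq
  have h2 := ι_TR_map (ModSite.tensorBi O) K g p q n hpq
  have h3 := ι_TR_map (ModSite.tensorBi O) K (s • g) p q n hpq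
  refine h3.trans ?_
  have h4 : (s • g).f p = s • g.f p := rfl
  rw [h4, tensorBi_map_smul_app]
  refine (Linear.smul_comp _ _ _ _ _ _).trans ?_
  refine (congrArg (fun t => s • t) h2.symm).trans ?_
  exact (Linear.comp_smul _ _ _ _ _ _).symm

theorem isLoc_Q_TR (s : DerComp.GSec O) (A P' : CochainComplex (ModSite.Mod O) ℤ)
    (hA : IsIso (s • 𝟙 A)) :
    IsLoc s ((DerivedCategory.Q : _ ⥤ DerivedCategory (ModSite.Mod O)).obj
      ((TR (ModSite.tensorBi O) P').obj A)) := by
  have h2 : s • 𝟙 ((DerivedCategory.Q : _ ⥤ DerivedCategory (ModSite.Mod O)).obj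
      ((TR (ModSite.tensorBi O) P').obj A)) =
      DerivedCategory.Q.map ((TR (ModSite.tensorBi O) P').map (s • 𝟙 A)) := by
    rw [TR_map_smul, Functor.map_smul, CategoryTheory.Functor.map_id,
      CategoryTheory.Functor.map_id]
  unfold IsLoc
  rw [h2]
  infer_instance

end Groth.Agent.R2.H61.DC12
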