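import Groth.Agent.Lib.Helper1BKF18
set_option backward.isDefEq.respectTransparency.types false

/-!
# helper61: the projection formula `j_! Tot(L ⊗ K|_U) ≅ Tot(j_! L ⊗ K)` for complexes
(extracted from the proof of `acyc_mapBifunctor_restr` of the earlier team's `Helper1BKF18`)
-/

set_option autoImplicit false
universe u
open CategoryTheory CategoryTheory.Limits HomologicalComplex ZeroObject

namespace Groth.Agent.R2.H61.DC13

open Groth.Agent.Lib.Helper1.BKF
open Groth.Agent.Lib.Helper21.ModTensor3 Groth.Agent.Lib.Helper21.ModTensor5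
  Groth.Agent.Lib.Helper21.ExtZeroS

variable {C : Type u} [SmallCategory C] {J : GrothendieckTopology C} {O : Sheaf J CommRingCat.{u}}
  {U : C}

theorem nonempty_projCx (L : CochainComplex (ModSite.Mod (O.over U)) ℤ)
    (K : CochainComplex (ModSite.Mod O) ℤ) :
    Nonempty (((jShriek O U).mapHomologicalComplex (ComplexShape.up ℤ)).obj
      (mapBifunctor L (((ModSite.restr O U).mapHomologicalComplex (ComplexShape.up ℤ)).obj K)
        (ModSite.tensorBi (O.over U)) (ComplexShape.up ℤ)) ≅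
      mapBifunctor (((jShriek O U).mapHomologicalComplex (ComplexShape.up ℤ)).obj L) K
        (ModSite.tensorBi O) (ComplexShape.up ℤ)) := by
  haveI h1 : ((TotMap.map₂ (jShriek O U) (ComplexShape.up ℤ) (ComplexShape.up ℤ)).obj
      (B₁ L K)).HasTotal (ComplexShape.up ℤ) :=
    TotMap.hasTotal_map₂ (jShriek O U) (B₁ L K) (ComplexShape.up ℤ)
  let e₂ : (TotMap.map₂ (jShriek O U) (ComplexShape.up ℤ) (ComplexShape.up ℤ)).obj (B₁ L K) ≅
      (((srcBi O U).mapBifunctorHomologicalComplex (ComplexShape.up ℤ)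
        (ComplexShape.up ℤ)).obj L).obj K :=
    (TotMap.map₂ (jShriek O U) (ComplexShape.up ℤ) (ComplexShape.up ℤ)).mapIso
        (precompIso₂ (ModSite.tensorBi (O.over U)) (ModSite.restr O U) L K) ≪≫
      (TotMap.mapBifunctorPostcompIso (midBi O U) (jShriek O U) L K).symm
  haveI h2 : HasMapBifunctor L K (srcBi O U) (ComplexShape.up ℤ) :=
    HomologicalComplex₂.hasTotal_of_iso e₂ (ComplexShape.up ℤ)
  let e₄ : B₄ L K ≅ (((tgtBi O U).mapBifunctorHomologicalComplex (ComplexShape.up ℤ)
        (ComplexShape.up ℤ)).obj L).obj K :=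
    precompIso₁ (ModSite.tensorBi O) (jShriek O U) L K
  haveI h3 : HasMapBifunctor L K (tgtBi O U) (ComplexShape.up ℤ) :=
    HomologicalComplex₂.hasTotal_of_iso e₄ (ComplexShape.up ℤ)
  exact ⟨TotMap.mapTotalIso (jShriek O U) (B₁ L K) (ComplexShape.up ℤ) ≪≫
    HomologicalComplex₂.total.mapIso e₂ (ComplexShape.up ℤ) ≪≫
    TotMap.mapBifunctorNatIso L K (ComplexShape.up ℤ) (projBi O U) ≪≫
    (HomologicalComplex₂.total.mapIso e₄ (ComplexShape.up ℤ)).symm⟩

end Groth.Agent.R2.H61.DC13
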