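import Groth.Agent.R2.H61DC11
import Groth.Agent.R2.H61DC12
import Groth.Agent.R2.H61DC13
import Groth.Agent.Lib.Helper1LDer2
import Groth.Agent.Lib.Helper17ExactAdj

/-!
# helper61: `RHom(P, L)` is derived complete when `L` is
-/

set_option autoImplicit false

universe u

open CategoryTheory CategoryTheory.Limits Opposite HomologicalComplex

attribute [local instance] HasDerivedCategory.standard

namespace Groth.Agent.R2.H61.DC14

open Groth.Agent.R2.H61.LocAway Groth.Agent.R2.H61.DC4 Groth.Agent.R2.H61.DC6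
  Groth.Agent.R2.H61.DC8 Groth.Agent.R2.H61.DC11 Groth.Agent.R2.H61.DC12 Groth.Agent.R2.H61.DC13
  Groth.Agent.R2.H31.Tri Groth.Agent.Lib.Helper1.BKF
  Groth.Agent.Lib.Helper21.ModTensor3 Groth.Agent.Lib.Helper21.ModTensor5
  Groth.Agent.Lib.Helper21.ExtZeroS

variable {C : Type u} [SmallCategory C] {J : GrothendieckTopology C} (O : Sheaf J CommRingCat.{u})

section Single

variable (U : C) (B : ModSite.Mod (O.over U)) (n : ℤ)

/-- the complex with `B` in degree `n`. -/
noncomputable abbrev Acx : CochainComplex (ModSite.Mod (O.over U)) ℤ :=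
  ((CochainComplex.singleFunctor (ModSite.Mod (O.over U)) 0).obj B)⟦-n⟧

lemma isFlat_Acx_X (hB : ModSite.IsFlat B) (k : ℤ) : ModSite.IsFlat ((Acx O U B n).X k) := by
  change ModSite.IsFlat (((CochainComplex.singleFunctor (ModSite.Mod (O.over U)) 0).obj B).X (k + -n))
  by_cases h : k + -n = 0
  · exact isFlat_of_iso (O.over U)
      (HomologicalComplex.singleObjXIsoOfEq (ComplexShape.up ℤ) 0 B (k + -n) h).symm hB
  · exact isFlat_of_isZero (HomologicalComplex.isZero_single_obj_X (ComplexShape.up ℤ) 0 B _ h)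

lemma isZero_Acx_X (k : ℤ) (hk : n < k) : IsZero ((Acx O U B n).X k) := by
  change IsZero (((CochainComplex.singleFunctor (ModSite.Mod (O.over U)) 0).obj B).X (k + -n))
  exact HomologicalComplex.isZero_single_obj_X (ComplexShape.up ℤ) 0 B _ (by omega)

/-- `j_!` of the complex with flat `B` in degree `n` is K-flat. -/
theorem isKFlat_jS_Acx (hB : ModSite.IsFlat B) :
    ModSite.IsKFlat (((jShriek O U).mapHomologicalComplex (ComplexShape.up ℤ)).obj
      (Acx O U B n)) := by
  have hb : CochainComplex.IsStrictlyLE (((jShriek O U).mapHomologicalComplex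
      (ComplexShape.up ℤ)).obj (Acx O U B n)) n := by
    rw [CochainComplex.isStrictlyLE_iff]
    intro k hk
    exact (jShriek O U).map_isZero (isZero_Acx_X O U B n k hk)
  exact isKFlat_of_bounded_above_flat _
    (fun k => isFlat_jShriek O U _ (isFlat_Acx_X O U B n hB k)) n hb

/-- if `r` is invertible on `B`, it is invertible on the complex with `B` in degree `n`. -/
theorem isIso_smul_Acx (r : DerComp.GSec (O.over U)) (hB : IsIso (r • 𝟙 B)) :
    IsIso (r • 𝟙 (Acx O U B n)) := by
  have h0 : ∀ k, IsIso ((r • 𝟙 (Acx O U B n)).f k) := by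
    intro k
    change IsIso (r • 𝟙 (((CochainComplex.singleFunctor (ModSite.Mod (O.over U)) 0).obj B).X
      (k + -n)))
    by_cases h : k + -n = 0
    · exact IsLoc.of_iso r (X := B) hB
        (HomologicalComplex.singleObjXIsoOfEq (ComplexShape.up ℤ) 0 B (k + -n) h).symm
    · have hz := HomologicalComplex.isZero_single_obj_X (ComplexShape.up ℤ) 0 B _ h
      exact ⟨0, hz.eq_of_src _ _, hz.eq_of_src _ _⟩
  exact HomologicalComplex.Hom.isIso_of_components _

end Single

section Main

variable (U : C) (B : ModSite.Mod (O.over U)) (n : ℤ)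

/-- `(j_! B)[0][-n]` is `Q` of `j_!` of the complex with `B` in degree `n`. -/
noncomputable def shiftInDIso :
    (SiteCmp.inD O ((ModSite.extZero O U).obj B))⟦-n⟧ ≅
      (DerivedCategory.Q : _ ⥤ DerivedCategory (ModSite.Mod O)).obj
        (((jShriek O U).mapHomologicalComplex (ComplexShape.up ℤ)).obj (Acx O U B n)) :=
  (shiftFunctor (DerivedCategory (ModSite.Mod O)) (-n)).mapIso
     ((DerivedCategory.singleFunctor (ModSite.Mod O) 0).mapIso ((extZeroIso O U).app B) ≪≫
      (DerivedCategory.singleFunctorIsoCompQ (ModSite.Mod O) 0).app _ ≪≫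
      DerivedCategory.Q.mapIso ((HomologicalComplex.singleMapHomologicalComplex (jShriek O U)
        (ComplexShape.up ℤ) 0).app B).symm) ≪≫
  ((DerivedCategory.Q.commShiftIso (-n)).app _).symm ≪≫
  DerivedCategory.Q.mapIso ((((jShriek O U).mapHomologicalComplex
    (ComplexShape.up ℤ)).commShiftIso (-n)).app _).symm

open Groth.Agent.Lib.Helper17.ExactAdj Groth.Agent.R2.H61.LocSite in
/-- if `L|_U` is `f`-complete, then all maps `j_! O_{U,f} ⟶ RHom(P, L)[n]` vanish. -/
theorem subsingleton_rhom_of_isCpl (P : CochainComplex (ModSite.Mod O) ℤ) [ModSite.HasLTensorCx P]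
    [DerComp.HasRHom P] (L : DerivedCategory (ModSite.Mod O)) (f : O.obj.obj (op U))
    (hcpl : IsCpl (DerComp.GSec.ofSect O U f) ((ModSite.restr O U).mapDerivedCategory.obj L)) :
    Subsingleton (SiteCmp.inD O ((ModSite.extZero O U).obj (DerComp.awayOver O U f)) ⟶
      ((DerComp.RHom P).obj L)⟦n⟧) := by
  set r := DerComp.GSec.ofSect O U f with hr
  have hBflat : ModSite.IsFlat (DerComp.awayOver O U f) := isFlat_N₀ r
  have hBiso : IsIso (r • 𝟙 (DerComp.awayOver O U f)) := by
    rw [awayOver_eq]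
    exact isIso_smul_locF r _
  let A := Acx O U (DerComp.awayOver O U f) n
  let P' := ((ModSite.restr O U).mapHomologicalComplex (ComplexShape.up ℤ)).obj P
  let Y'' := ((jShriek O U).mapHomologicalComplex (ComplexShape.up ℤ)).obj A
  let T := (TR (ModSite.tensorBi (O.over U)) P').obj A
  obtain ⟨i4⟩ := nonempty_projCx (O := O) (U := U) A P
  let i3 := Groth.Agent.Lib.Helper1.BKF.lTensorCxIsoOfIsKFlat P Y''
    (isKFlat_jS_Acx O U _ n hBflat)
  let i5 := (jShriek O U).mapDerivedCategoryFactors.app T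
  let eZ : (ModSite.LTensorCx P).obj
      ((SiteCmp.inD O ((ModSite.extZero O U).obj (DerComp.awayOver O U f)))⟦-n⟧) ≅
      (jShriek O U).mapDerivedCategory.obj (DerivedCategory.Q.obj T) :=
    (ModSite.LTensorCx P).mapIso (shiftInDIso O U _ n) ≪≫ i3 ≪≫
      DerivedCategory.Q.mapIso i4.symm ≪≫ i5.symm
  have hloc : IsLoc r (DerivedCategory.Q.obj T) :=
    isLoc_Q_TR r A P' (isIso_smul_Acx O U _ n r hBiso)
  let adjD := mapDerivedCategoryAdjunction (jShriek O U) (ModSite.restr O U) (jShriekAdj O U)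
  have hzero : ∀ ψ : (ModSite.LTensorCx P).obj
      ((SiteCmp.inD O ((ModSite.extZero O U).obj (DerComp.awayOver O U f)))⟦-n⟧) ⟶ L,
      ψ = 0 := by
    intro ψ
    have h1 : adjD.homEquiv _ _ (eZ.inv ≫ ψ) = 0 := hcpl _ hloc _
    have h2 : eZ.inv ≫ ψ = 0 := by
      have h3 := congrArg (adjD.homEquiv _ _).symm h1
      rw [Equiv.symm_apply_apply] at h3
      rw [h3, Adjunction.homEquiv_counit, Functor.map_zero, zero_comp]
    rw [← cancel_epi eZ.inv, h2, comp_zero]
  let e1 := (shiftEquiv (DerivedCategory (ModSite.Mod O)) n).symm.toAdjunction.homEquiv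
    (SiteCmp.inD O ((ModSite.extZero O U).obj (DerComp.awayOver O U f))) ((DerComp.RHom P).obj L)
  let e2 := (DerComp.RHomAdj P).homEquiv
    ((SiteCmp.inD O ((ModSite.extZero O U).obj (DerComp.awayOver O U f)))⟦-n⟧) L
  exact (e2.trans e1).subsingleton_congr.1 ⟨fun a b => by rw [hzero a, hzero b]⟩

end Main

end Groth.Agent.R2.H61.DC14
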