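import Mathlib
import Groth.Agent.Lib.Helper10DerComplete5

/-!
# helper61: derived `r`-completeness of the homology of a complex of modules, elementwise

For a `ℤ`-indexed complex of `R`-modules `(M, dd)` on whose terms `1 - r·shift` is surjective on
sequences, the complex of `r`-compatible sequences is exact iff every homology module satisfies the
elementwise criterion `Crit r` of the earlier team's `Helper10DerComplete2`.
-/

set_option autoImplicit false

universe u v

open Groth.Agent.Lib.Helper10.DerComplete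

namespace Groth.Agent.R2.H61.DC2

variable {R : Type u} [CommRing R] {M : ℤ → Type v} [∀ k, AddCommGroup (M k)]
  [∀ k, Module R (M k)] (dd : ∀ i j : ℤ, M i →ₗ[R] M j)

/-- exactness of the complex of `r`-compatible sequences at the middle index. -/
def SeqAcyc (r : R) (a b c : ℤ) : Prop :=
  ∀ z : ℕ → M b, (∀ m, z m = r • z (m + 1)) → (∀ m, dd b c (z m) = 0) →
    ∃ y : ℕ → M a, (∀ m, y m = r • y (m + 1)) ∧ ∀ m, dd a b (y m) = z m

/-- `1 - r·shift` is surjective on sequences in `M k`. -/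
def SurjAt (r : R) (k : ℤ) : Prop :=
  ∀ y : ℕ → M k, ∃ x : ℕ → M k, ∀ m, x m - r • x (m + 1) = y m

/-- the homology module at `b`, for the maps `dd a b` and `dd b c`. -/
abbrev Hm (a b c : ℤ) : Type v :=
  LinearMap.ker (dd b c) ⧸ (LinearMap.range (dd a b)).comap (LinearMap.ker (dd b c)).subtype

variable {dd}

lemma mk_eq_zero_iff {a b c : ℤ} (z : LinearMap.ker (dd b c)) :
    (Submodule.Quotient.mk z : Hm dd a b c) = 0 ↔ ∃ u : M a, dd a b u = (z : M b) := by
  rw [Submodule.Quotient.mk_eq_zero, Submodule.mem_comap]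
  rfl

theorem crit_unique {r : R} {a b c : ℤ} (hac : SeqAcyc dd r a b c) (hs : SurjAt (M := M) r a)
    (hd : ∀ x : M a, dd b c (dd a b x) = 0)
    (cl : ℕ → Hm dd a b c) (hcl : ∀ m, cl m = r • cl (m + 1)) : ∀ m, cl m = 0 := by
  choose z hz using fun m => Submodule.Quotient.mk_surjective _ (cl m)
  have hb : ∀ m, ∃ u : M a, dd a b u = ((z m : M b) - r • (z (m + 1) : M b)) := by
    intro m
    have h1 : (Submodule.Quotient.mk (z m - r • z (m + 1)) : Hm dd a b c) = 0 := by
      rw [Submodule.Quotient.mk_sub, Submodule.Quotient.mk_smul, hz, hz, hcl m, sub_self]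
    obtain ⟨u, hu⟩ := (mk_eq_zero_iff _).1 h1
    exact ⟨u, by rw [hu]; rfl⟩
  choose bb hbb using hb
  obtain ⟨aa, haa⟩ := hs bb
  obtain ⟨w, hw1, hw2⟩ := hac (fun m => (z m : M b) - dd a b (aa m)) (fun m => by
      have h2 := hbb m
      have h3 := congrArg (dd a b) (haa m)
      rw [map_sub, map_smul] at h3
      rw [smul_sub]
      rw [← h3] at h2
      rw [sub_eq_sub_iff_add_eq_add] at h2 ⊢
      rw [← h2, add_comm]) (fun m => by
      rw [map_sub, hd, sub_zero]
      exact (z m).2)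
  intro m
  rw [← hz m, mk_eq_zero_iff]
  exact ⟨w m + aa m, by rw [map_add, hw2 m]; abel⟩

theorem crit_exists {r : R} {a b c d : ℤ} (hac : SeqAcyc dd r b c d) (hs : SurjAt (M := M) r b)
    (hd : ∀ x : M b, dd c d (dd b c x) = 0)
    (y : ℕ → Hm dd a b c) : ∃ cl : ℕ → Hm dd a b c, ∀ m, cl m - r • cl (m + 1) = y m := by
  choose yt hyt using fun m => Submodule.Quotient.mk_surjective _ (y m)
  obtain ⟨x, hx⟩ := hs (fun m => (yt m : M b))
  obtain ⟨w, hw1, hw2⟩ := hac (fun m => dd b c (x m)) (fun m => by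
      have h3 := congrArg (dd b c) (hx m)
      rw [map_sub, map_smul, LinearMap.mem_ker.1 (yt m).2] at h3
      exact sub_eq_zero.1 h3) (fun m => hd _)
  have hker : ∀ m, x m - w m ∈ LinearMap.ker (dd b c) := fun m => by
    rw [LinearMap.mem_ker, map_sub, hw2 m, sub_self]
  refine ⟨fun m => Submodule.Quotient.mk ⟨x m - w m, hker m⟩, fun m => ?_⟩
  rw [← hyt m, ← Submodule.Quotient.mk_smul, ← Submodule.Quotient.mk_sub]
  congr 1
  apply Subtype.ext
  change (x m - w m) - r • (x (m + 1) - w (m + 1)) = (yt m : M b)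
  rw [← hx m, smul_sub]
  have := hw1 m
  rw [this]
  abel

theorem seqAcyc_of_crit {r : R} {a' a b c : ℤ}
    (hU : ∀ cl : ℕ → Hm dd a b c, (∀ m, cl m = r • cl (m + 1)) → ∀ m, cl m = 0)
    (hE : ∀ y : ℕ → Hm dd a' a b, ∃ cl : ℕ → Hm dd a' a b, ∀ m, cl m - r • cl (m + 1) = y m)
    (hs : SurjAt (M := M) r a') (hd : ∀ x : M a', dd a b (dd a' a x) = 0) :
    SeqAcyc dd r a b c := by
  intro z hz1 hz2
  have h0 := hU (fun m => Submodule.Quotient.mk ⟨z m, LinearMap.mem_ker.2 (hz2 m)⟩) (fun m => by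
    rw [← Submodule.Quotient.mk_smul]
    congr 1
    exact Subtype.ext (hz1 m))
  have hu : ∀ m, ∃ u : M a, dd a b u = z m := fun m => (mk_eq_zero_iff _).1 (h0 m)
  choose u hu using hu
  have hv : ∀ m, u m - r • u (m + 1) ∈ LinearMap.ker (dd a b) := fun m => by
    rw [LinearMap.mem_ker, map_sub, map_smul, hu, hu, ← hz1 m, sub_self]
  obtain ⟨cl, hcl⟩ := hE (fun m => Submodule.Quotient.mk ⟨u m - r • u (m + 1), hv m⟩)
  choose t ht using fun m => Submodule.Quotient.mk_surjective _ (cl m)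
  have hsm : ∀ m, ∃ s : M a', dd a' a s =
      ((t m : M a) - r • (t (m + 1) : M a)) - (u m - r • u (m + 1)) := by
    intro m
    have h1 : (Submodule.Quotient.mk
        (t m - r • t (m + 1) - ⟨u m - r • u (m + 1), hv m⟩) : Hm dd a' a b) = 0 := by
      rw [Submodule.Quotient.mk_sub, Submodule.Quotient.mk_sub, Submodule.Quotient.mk_smul,
        ht, ht, hcl m, sub_self]
    obtain ⟨s, hs'⟩ := (mk_eq_zero_iff _).1 h1
    exact ⟨s, by rw [hs']; rfl⟩
  choose s hs' using hsm
  obtain ⟨rr, hrr⟩ := hs s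
  refine ⟨fun m => u m - (t m : M a) + dd a' a (rr m), fun m => ?_, fun m => ?_⟩
  · have h3 := congrArg (dd a' a) (hrr m)
    rw [map_sub, map_smul, hs' m] at h3
    rw [← sub_eq_zero]
    have h4 : u m - (t m : M a) + dd a' a (rr m) -
        r • (u (m + 1) - (t (m + 1) : M a) + dd a' a (rr (m + 1))) =
        (dd a' a (rr m) - r • dd a' a (rr (m + 1))) -
          (((t m : M a) - r • (t (m + 1) : M a)) - (u m - r • u (m + 1))) := by
      simp only [smul_add, smul_sub]
      abel
    rw [h4, h3, sub_self]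
  · rw [map_add, map_sub, hu m, LinearMap.mem_ker.1 (t m).2, sub_zero]
    rw [hd, add_zero]

variable (dd)

/-- for a complex of modules with `1 - r·shift` surjective on sequences in every degree, exactness of the
complex of `r`-compatible sequences is the elementwise criterion on all homology modules. -/
theorem seqAcyc_iff_crit (hdd : ∀ (i j k : ℤ) (x : M i), dd j k (dd i j x) = 0) (r : R)
    (hs : ∀ k, SurjAt (M := M) r k) :
    (∀ n : ℤ, SeqAcyc dd r (n - 1) n (n + 1)) ↔ ∀ n : ℤ, Crit r (Hm dd (n - 1) n (n + 1)) := by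
  constructor
  · intro h n
    have h' : SeqAcyc dd r n (n + 1) (n + 1 + 1) := by
      have := h (n + 1)
      rwa [show n + 1 - 1 = n by omega] at this
    exact ⟨crit_unique (h n) (hs (n - 1)) (hdd _ _ _),
      crit_exists h' (hs n) (hdd _ _ _)⟩
  · intro h n
    have hE : ∀ y : ℕ → Hm dd (n - 1 - 1) (n - 1) n,
        ∃ cl : ℕ → Hm dd (n - 1 - 1) (n - 1) n, ∀ m, cl m - r • cl (m + 1) = y m := by
      have := (h (n - 1)).2
      rwa [show n - 1 + 1 = n by omega] at this
    exact seqAcyc_of_crit (h n).1 hE (hs _) (hdd _ _ _)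

/-- the set of `r` for which the complex of `r`-compatible sequences is exact is an ideal. -/
theorem exists_ideal_seqAcyc (hdd : ∀ (i j k : ℤ) (x : M i), dd j k (dd i j x) = 0)
    (hs : ∀ (r : R) (k : ℤ), SurjAt (M := M) r k) :
    ∃ I : Ideal R, ∀ r : R, r ∈ I ↔ ∀ n : ℤ, SeqAcyc dd r (n - 1) n (n + 1) := by
  refine ⟨⨅ n : ℤ, critIdeal R (Hm dd (n - 1) n (n + 1)), fun r => ?_⟩
  rw [Ideal.mem_iInf, seqAcyc_iff_crit dd hdd r (hs r)]
  rfl

end Groth.Agent.R2.H61.DC2
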