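import Groth.Agent.R2.H61LocAway2
import Groth.Agent.R2.H61DC1
import Groth.Agent.R2.H61DC2

/-!
# helper61: maps out of `E[1/r]` as `r`-compatible sequences; the ideal of `r` with `Hom(E[1/r], L[n]) = 0`

In an `R`-linear abelian category with countable (co)products, for the localisation functor
`locF r` of `H61LocAway`:
* `seqOf`/`ofSeq`: morphisms `E[1/r] ⟶ G` are sequences `z : ℕ → (E ⟶ G)` with `z m = r • z (m+1)`;
* `acyc_locF_iff`: `Acyc (E[1/r]) L n` iff the complex of `r`-compatible sequences in the `R`-modules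
  `Hom(E, L^k)` is exact at `n`;
* `surjAt_hom`: for `G` injective (AB5), `1 - r·shift` is surjective on sequences in `Hom(E, G)`;
* `exists_ideal_acyc_locF`: for `L` with injective terms, the `r` with `Acyc (E[1/r]) L n` for all `n`
  form an ideal of `R`.
* `seqAcyc_transfer`: transport of `SeqAcyc` along bijections compatible with the differentials and
  one scalar.
-/

set_option autoImplicit false

universe w v u

open CategoryTheory CategoryTheory.Limits

namespace Groth.Agent.R2.H61.DC3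

open Groth.Agent.R2.H61.LocAway Groth.Agent.R2.H61.DC1 Groth.Agent.R2.H61.DC2

section Transfer

variable {R : Type*} [CommRing R] {M : ℤ → Type*} [∀ k, AddCommGroup (M k)]
  [∀ k, Module R (M k)] {dd : ∀ i j : ℤ, M i →ₗ[R] M j}
  {R' : Type*} [CommRing R'] {M' : ℤ → Type*} [∀ k, AddCommGroup (M' k)]
  [∀ k, Module R' (M' k)] {dd' : ∀ i j : ℤ, M' i →ₗ[R'] M' j}

/-- transport of `SeqAcyc` along bijections compatible with differentials and the scalar. -/
theorem seqAcyc_transfer (e : ∀ k, M k ≃ M' k) (r : R) (r' : R')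
    (he0 : ∀ k, e k 0 = 0)
    (hed : ∀ i j (x : M i), e j (dd i j x) = dd' i j (e i x))
    (her : ∀ k (x : M k), e k (r • x) = r' • e k x) (a b c : ℤ) :
    SeqAcyc dd r a b c ↔ SeqAcyc dd' r' a b c := by
  constructor
  · intro h z hz hd
    obtain ⟨y, hy1, hy2⟩ := h (fun m => (e b).symm (z m)) (fun m => by
        apply (e b).injective
        rw [her, Equiv.apply_symm_apply, Equiv.apply_symm_apply]
        exact hz m) (fun m => by
        apply (e c).injective
        rw [hed, Equiv.apply_symm_apply, hd m, he0])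
    refine ⟨fun m => e a (y m), fun m => ?_, fun m => ?_⟩
    · rw [← her, ← hy1 m]
    · rw [← hed, hy2 m, Equiv.apply_symm_apply]
  · intro h z hz hd
    obtain ⟨y, hy1, hy2⟩ := h (fun m => e b (z m)) (fun m => by
        rw [← her, ← hz m]) (fun m => by
        rw [← hed, hd m, he0])
    refine ⟨fun m => (e a).symm (y m), fun m => ?_, fun m => ?_⟩
    · apply (e a).injective
      rw [her, Equiv.apply_symm_apply, Equiv.apply_symm_apply]
      exact hy1 m
    · apply (e b).injective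
      rw [hed, Equiv.apply_symm_apply, hy2 m]

end Transfer

section Seq

set_option linter.unusedSectionVars false

variable {R : Type w} [CommRing R] {A : Type u} [Category.{v} A] [Abelian A] [Linear R A]
  [HasColimitsOfShape (Discrete ℕ) A] [HasLimitsOfShape (Discrete ℕ) A]
  (r : R)

/-- the `R`-linear maps `Hom(E, L^i) ⟶ Hom(E, L^j)`. -/
def ddHom (E : A) (L : CochainComplex A ℤ) (i j : ℤ) : (E ⟶ L.X i) →ₗ[R] (E ⟶ L.X j) :=
  Linear.rightComp R E (L.d i j)

lemma ddHom_apply (E : A) (L : CochainComplex A ℤ) (i j : ℤ) (x : E ⟶ L.X i) :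
    ddHom (R := R) E L i j x = x ≫ L.d i j := rfl

/-- the sequence of maps `E ⟶ G` attached to `g : E[1/r] ⟶ G`. -/
noncomputable def seqOf {E G : A} (g : (locF r).obj E ⟶ G) (m : ℕ) : E ⟶ G :=
  Sigma.ι (fun _ : ℕ => E) m ≫ locπ r E ≫ g

lemma seqOf_rel {E G : A} (g : (locF r).obj E ⟶ G) (m : ℕ) :
    seqOf r g m = r • seqOf r g (m + 1) := by
  have h := ι_awayMap_assoc r E m (locπ r E ≫ g)
  rw [awayMap_locπ_assoc, zero_comp, comp_zero, Preadditive.sub_comp, Category.assoc,
    Linear.smul_comp, Category.id_comp] at h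
  exact (sub_eq_zero.1 h.symm)

lemma seqOf_comp {E G G' : A} (g : (locF r).obj E ⟶ G) (p : G ⟶ G') (m : ℕ) :
    seqOf r (g ≫ p) m = seqOf r g m ≫ p := by
  simp [seqOf]

/-- the map `E[1/r] ⟶ G` attached to an `r`-compatible sequence. -/
noncomputable def ofSeq {E G : A} (z : ℕ → (E ⟶ G)) (hz : ∀ m, z m = r • z (m + 1)) :
    (locF r).obj E ⟶ G :=
  locDesc r (Sigma.desc z) (by
    apply Sigma.hom_ext
    intro m
    rw [ι_awayMap_assoc, Preadditive.sub_comp, Category.assoc, Sigma.ι_desc, Sigma.ι_desc,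
      Linear.smul_comp, Category.id_comp, comp_zero, sub_eq_zero]
    exact hz m)

lemma seqOf_ofSeq {E G : A} (z : ℕ → (E ⟶ G)) (hz : ∀ m, z m = r • z (m + 1)) (m : ℕ) :
    seqOf r (ofSeq r z hz) m = z m := by
  simp [seqOf, ofSeq]

lemma hom_ext_seqOf {E G : A} {g g' : (locF r).obj E ⟶ G}
    (h : ∀ m, seqOf r g m = seqOf r g' m) : g = g' := by
  rw [← cancel_epi (locπ r E)]
  apply Sigma.hom_ext
  intro m
  exact h m

theorem acyc_locF_iff (E : A) (L : CochainComplex A ℤ) (n : ℤ) :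
    Acyc ((locF r).obj E) L n ↔ SeqAcyc (ddHom (R := R) E L) r (n - 1) n (n + 1) := by
  constructor
  · intro h z hz hd
    obtain ⟨y, hy⟩ := h (ofSeq r z hz) (by
      apply hom_ext_seqOf r
      intro m
      rw [seqOf_comp, seqOf_ofSeq]
      simp only [seqOf, comp_zero]
      exact hd m)
    refine ⟨seqOf r y, seqOf_rel r y, fun m => ?_⟩
    rw [ddHom_apply, ← seqOf_comp, hy, seqOf_ofSeq]
  · intro h g hg
    obtain ⟨y, hy1, hy2⟩ := h (seqOf r g) (seqOf_rel r g) (fun m => by
      rw [ddHom_apply, ← seqOf_comp, hg]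
      simp [seqOf])
    refine ⟨ofSeq r y hy1, ?_⟩
    apply hom_ext_seqOf r
    intro m
    rw [seqOf_comp, seqOf_ofSeq]
    exact hy2 m

/-- `Acyc (E[1/r]) L n` computed in any family of modules in bijection with the `Hom(E, L^k)`. -/
theorem acyc_locF_iff_of_equiv (E : A) (L : CochainComplex A ℤ) (n : ℤ)
    {R' : Type*} [CommRing R'] {M' : ℤ → Type*} [∀ k, AddCommGroup (M' k)]
    [∀ k, Module R' (M' k)] (dd' : ∀ i j : ℤ, M' i →ₗ[R'] M' j) (r' : R')
    (e : ∀ k, (E ⟶ L.X k) ≃ M' k) (he0 : ∀ k, e k 0 = 0)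
    (hed : ∀ i j (x : E ⟶ L.X i), e j (x ≫ L.d i j) = dd' i j (e i x))
    (her : ∀ k (x : E ⟶ L.X k), e k (r • x) = r' • e k x) :
    Acyc ((locF r).obj E) L n ↔ SeqAcyc dd' r' (n - 1) n (n + 1) := by
  rw [acyc_locF_iff]
  exact seqAcyc_transfer e r r' he0 hed her _ _ _

end Seq

section Surj

set_option linter.unusedSectionVars false

variable {R : Type w} [CommRing R] {A : Type u} [Category.{v} A] [Abelian A] [Linear R A]
  [HasColimitsOfShape (Discrete ℕ) A] [HasLimitsOfShape (Discrete ℕ) A]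
  [HasColimitsOfShape (Finset (Discrete ℕ)) A]
  [HasExactColimitsOfShape (Finset (Discrete ℕ)) A]
  (r : R)

theorem surjAt_hom (E G : A) [Injective G] (y : ℕ → (E ⟶ G)) :
    ∃ x : ℕ → (E ⟶ G), ∀ m, x m - r • x (m + 1) = y m := by
  obtain ⟨σ, hσ⟩ := exists_section_coawayMap r G
  refine ⟨fun m => Pi.lift y ≫ σ ≫ Pi.π (fun _ : ℕ => G) m, fun m => ?_⟩
  have h1 : Pi.lift y ≫ σ ≫ coawayMap r G ≫ Pi.π (fun _ : ℕ => G) m = y m := by
    rw [reassoc_of% hσ, Pi.lift_π]
  rw [coawayMap_π, Preadditive.comp_sub, Preadditive.comp_sub, Linear.comp_smul, Category.comp_id,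
    Linear.comp_smul, Linear.comp_smul] at h1
  exact h1

theorem exists_ideal_acyc_locF (E : A) (L : CochainComplex A ℤ) (hL : ∀ k, Injective (L.X k)) :
    ∃ I : Ideal R, ∀ r : R, r ∈ I ↔ ∀ n : ℤ, Acyc ((locF r).obj E) L n := by
  obtain ⟨I, hI⟩ := exists_ideal_seqAcyc (R := R) (M := fun k => (E ⟶ L.X k))
    (ddHom (R := R) E L) (fun i j k x => by
      rw [ddHom_apply, ddHom_apply, Category.assoc, L.d_comp_d, comp_zero])
    (fun r k y => by
      have := hL k
      exact surjAt_hom r E (L.X k) y)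
  refine ⟨I, fun r => ?_⟩
  rw [hI r]
  exact forall_congr' fun n => (acyc_locF_iff r E L n).symm

end Surj

end Groth.Agent.R2.H61.DC3
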