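import Groth.Agent.R2.H61LocAway2

/-!
# Linear colimit-preserving functors commute with localisation at a scalar (helper61)
-/

set_option autoImplicit false
universe w v v' u u'
open CategoryTheory CategoryTheory.Limits

namespace Groth.Agent.R2.H61.LocAway

section Comm

set_option linter.unusedSectionVars false

variable {R : Type*} [CommRing R] {A : Type u} [Category.{v} A] [Abelian A] [Linear R A]
  [HasColimitsOfShape (Discrete ℕ) A] [HasLimitsOfShape (Discrete ℕ) A]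
  {B : Type u'} [Category.{v'} B] [Abelian B] [Linear R B]
  [HasColimitsOfShape (Discrete ℕ) B] [HasLimitsOfShape (Discrete ℕ) B]
  (r : R) (Φ : A ⥤ B) [Φ.Additive] [Φ.Linear R]

/-- the comparison map `∐_ℕ Φ G ⟶ Φ (∐_ℕ G)` -/
noncomputable def kap (G : A) : (∐ fun _ : ℕ => Φ.obj G) ⟶ Φ.obj (∐ fun _ : ℕ => G) :=
  Sigma.desc fun n => Φ.map (Sigma.ι (fun _ : ℕ => G) n)

@[reassoc (attr := simp)]
lemma ι_kap (G : A) (n : ℕ) :
    Sigma.ι (fun _ : ℕ => Φ.obj G) n ≫ kap Φ G = Φ.map (Sigma.ι (fun _ : ℕ => G) n) := by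
  simp [kap]

lemma awayMap_kap (G : A) : awayMap r (Φ.obj G) ≫ kap Φ G = kap Φ G ≫ Φ.map (awayMap r G) := by
  apply Sigma.hom_ext
  intro n
  rw [ι_awayMap_assoc, Preadditive.sub_comp, Category.assoc, ι_kap, ι_kap, ι_kap_assoc,
    ← Functor.map_comp, ι_awayMap, Functor.map_sub, Functor.map_comp, Functor.map_smul,
    CategoryTheory.Functor.map_id]

/-- the comparison map `(Φ G)[1/r] ⟶ Φ (G[1/r])` -/
noncomputable def dcomp (G : A) : (locF r).obj (Φ.obj G) ⟶ Φ.obj ((locF r).obj G) :=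
  locDesc r (kap Φ G ≫ Φ.map (locπ r G)) (by
    rw [reassoc_of% (awayMap_kap r Φ G), ← Functor.map_comp, awayMap_locπ, Functor.map_zero,
      comp_zero])

@[reassoc (attr := simp)]
lemma locπ_dcomp (G : A) :
    locπ r (Φ.obj G) ≫ dcomp r Φ G = kap Φ G ≫ Φ.map (locπ r G) := locπ_desc _ _ _

/-- naturality of `dcomp` in the functor -/
lemma dcomp_naturality {Φ' : A ⥤ B} [Φ'.Additive] [Φ'.Linear R] (τ : Φ ⟶ Φ') (G : A) :
    dcomp r Φ G ≫ τ.app ((locF r).obj G) = (locF r).map (τ.app G) ≫ dcomp r Φ' G := by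
  rw [← cancel_epi (locπ r (Φ.obj G)), locπ_dcomp_assoc, locπ_map_assoc, locπ_dcomp]
  apply Sigma.hom_ext
  intro n
  simp

/-- naturality of `dcomp` in the object -/
lemma dcomp_naturality' {G G' : A} (g : G ⟶ G') :
    dcomp r Φ G ≫ Φ.map ((locF r).map g) = (locF r).map (Φ.map g) ≫ dcomp r Φ G' := by
  rw [← cancel_epi (locπ r (Φ.obj G)), locπ_dcomp_assoc, locπ_map_assoc, locπ_dcomp,
    ← Functor.map_comp, locπ_map, Functor.map_comp]
  apply Sigma.hom_ext
  intro n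
  simp [← Functor.map_comp]

variable [PreservesColimitsOfShape (Discrete ℕ) Φ] [PreservesFiniteColimits Φ]

instance isIso_kap (G : A) : IsIso (kap Φ G) :=
  inferInstanceAs (IsIso (sigmaComparison Φ (fun _ : ℕ => G)))

instance isIso_dcomp (G : A) : IsIso (dcomp r Φ G) := by
  have hc : IsColimit ((CokernelCofork.ofπ (locπ r G) (awayMap_locπ r G)).map Φ) :=
    CokernelCofork.mapIsColimit _ (isColimitLocπ r G) Φ
  have hz : Φ.map (awayMap r G) ≫ inv (kap Φ G) ≫ locπ r (Φ.obj G) = 0 := by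
    rw [← cancel_epi (kap Φ G), ← reassoc_of% (awayMap_kap r Φ G), IsIso.hom_inv_id_assoc,
      awayMap_locπ, comp_zero]
  let c : Φ.obj ((locF r).obj G) ⟶ (locF r).obj (Φ.obj G) :=
    hc.desc (CokernelCofork.ofπ (inv (kap Φ G) ≫ locπ r (Φ.obj G)) hz)
  have hc1 : Φ.map (locπ r G) ≫ c = inv (kap Φ G) ≫ locπ r (Φ.obj G) :=
    hc.fac (CokernelCofork.ofπ (inv (kap Φ G) ≫ locπ r (Φ.obj G)) hz) WalkingParallelPair.one
  have : Epi (Φ.map (locπ r G)) := inferInstance
  refine ⟨c, ?_, ?_⟩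
  · rw [← cancel_epi (locπ r (Φ.obj G)), locπ_dcomp_assoc, hc1, IsIso.hom_inv_id_assoc,
      Category.comp_id]
  · rw [← cancel_epi (Φ.map (locπ r G)), reassoc_of% hc1, locπ_dcomp, IsIso.inv_hom_id_assoc,
      Category.comp_id]

end Comm

end Groth.Agent.R2.H61.LocAway
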