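import Groth.Agent.R2.H61LocSite1
import Groth.Agent.R2.H61LocAway4
import Groth.Agent.R2.H61LocAway3

/-!
# `- ⊗_O O[1/s] ≅ (-)[1/s]` on sheaves of modules (helper61)
-/

set_option autoImplicit false
universe u
open CategoryTheory CategoryTheory.Limits MonoidalCategory Opposite

namespace Groth.Agent.R2.H61.LocSite

open Groth.Agent.Lib.Helper21.ModTensor Groth.Agent.Lib.Helper21.ModTensor2
  Groth.Agent.Lib.Helper21.ModTensor3 Groth.Agent.Lib.Helper21.ModTensor5
  Groth.Agent.Lib.Helper21.ModTensor7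

open Groth.Agent.R2.H61.LocAway

variable {C : Type u} [SmallCategory C] {J : GrothendieckTopology C} {O : Sheaf J CommRingCat.{u}}

instance : IsGrothendieckAbelian.{u} (ModSite.Mod O) :=
  Groth.Agent.Lib.Helper21.ModTensor3.isGrothendieckAbelian O

instance : HasExactColimitsOfShape (Finset (Discrete ℕ)) (ModSite.Mod O) := by
  have : AB5OfSize.{0, 0} (ModSite.Mod O) := AB5OfSize_shrink.{0, 0, u, u} (ModSite.Mod O)
  infer_instance

example : EnoughInjectives (ModSite.Mod O) := inferInstance

variable (s : DerComp.GSec O)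

lemma awayMap_eq (F : ModSite.Mod O) :
    LocAway.awayMap (R := DerComp.GSec O) s F = DerComp.awayMap s F := rfl

instance preservesFiniteLimits_locFSite :
    PreservesFiniteLimits (locF (R := DerComp.GSec O) (A := ModSite.Mod O) s) :=
  preservesFiniteLimits_locF s

instance (F : ModSite.Mod O) : PreservesColimitsOfShape (Discrete ℕ) (tL O F) := by
  have : PreservesColimitsOfSize.{0, 0} (tL O F) :=
    preservesColimitsOfSize_shrink.{0, u, 0, u} (tL O F)
  infer_instance

variable (O) in
/-- the right unitor `F ⊗ O ≅ F` -/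
noncomputable def tRUnitIso : tR O (ModSite.unit O) ≅ 𝟭 (ModSite.Mod O) :=
  ((brd O).app (ModSite.unit O)).symm ≪≫ tLUnitIso O

/-- the model `O[1/s]` of the localised structure sheaf -/
noncomputable abbrev N₀ : ModSite.Mod O :=
  (locF (R := DerComp.GSec O) (A := ModSite.Mod O) s).obj (ModSite.unit O)

/-- `F ⊗ O[1/s] ≅ F[1/s]` -/
noncomputable def etaApp (F : ModSite.Mod O) :
    (tR O (N₀ s)).obj F ≅ (locF (R := DerComp.GSec O) s).obj F :=
  (asIso (dcomp (R := DerComp.GSec O) s (tL O F) (ModSite.unit O))).symm ≪≫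
    (locF (R := DerComp.GSec O) s).mapIso ((tRUnitIso O).app F)

lemma etaApp_naturality {F F' : ModSite.Mod O} (f : F ⟶ F') :
    (tR O (N₀ s)).map f ≫ (etaApp s F').hom =
      (etaApp s F).hom ≫ (locF (R := DerComp.GSec O) s).map f := by
  have h1 := dcomp_naturality (R := DerComp.GSec O) s (tL O F) (Φ' := tL O F')
    ((ModSite.tensorBi O).map f) (ModSite.unit O)
  have h2 : (tR O (ModSite.unit O)).map f ≫ (tRUnitIso O).hom.app F' =
      (tRUnitIso O).hom.app F ≫ f := (tRUnitIso O).hom.naturality f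
  have h3 : ((ModSite.tensorBi O).map f).app (N₀ s) ≫
      inv (dcomp (R := DerComp.GSec O) s (tL O F') (ModSite.unit O)) =
      inv (dcomp (R := DerComp.GSec O) s (tL O F) (ModSite.unit O)) ≫
        (locF (R := DerComp.GSec O) s).map (((ModSite.tensorBi O).map f).app (ModSite.unit O)) := by
    rw [IsIso.eq_inv_comp, ← Category.assoc, IsIso.comp_inv_eq]
    exact h1
  change ((ModSite.tensorBi O).map f).app (N₀ s) ≫
    (inv (dcomp (R := DerComp.GSec O) s (tL O F') (ModSite.unit O)) ≫
      (locF (R := DerComp.GSec O) s).map ((tRUnitIso O).hom.app F')) =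
    (inv (dcomp (R := DerComp.GSec O) s (tL O F) (ModSite.unit O)) ≫
      (locF (R := DerComp.GSec O) s).map ((tRUnitIso O).hom.app F)) ≫ _
  rw [← Category.assoc, h3, Category.assoc, Category.assoc, ← Functor.map_comp,
    ← Functor.map_comp]
  congr 2

/-- `- ⊗ O[1/s] ≅ (-)[1/s]` -/
noncomputable def etaIso : tR O (N₀ s) ≅ locF (R := DerComp.GSec O) (A := ModSite.Mod O) s :=
  NatIso.ofComponents (etaApp s) (fun f => etaApp_naturality s f)

end Groth.Agent.R2.H61.LocSite
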