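import Groth.Prelude.Def_DerComp
import Groth.Agent.Lib.Helper23FreeOn
import Groth.Agent.Lib.Helper21RestrExact
import Groth.Agent.R2.H61LocSite2
import Groth.Agent.R2.H61DC3

/-!
# helper61: `Hom(j_! O_f, L[n]) = 0` on a ringed site through sections
-/

set_option autoImplicit false

universe u

open CategoryTheory CategoryTheory.Limits Opposite

namespace Groth.Agent.R2.H61.DC4

open Groth.Agent.R2.H61.LocAway Groth.Agent.R2.H61.DC1 Groth.Agent.R2.H61.DC2
  Groth.Agent.R2.H61.DC3 Groth.Agent.Lib.Helper23FreeOn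

variable {C : Type u} [SmallCategory C] {J : GrothendieckTopology C} (O : Sheaf J CommRingCat.{u})

/-- sections of a module over `X`, as a module over the commutative ring `O(X)`. -/
instance modSec (F : ModSite.Mod O) (X : C) : Module (O.obj.obj (op X)) (F.val.obj (op X)) :=
  inferInstanceAs (Module ((ModSite.ringSh O).obj.obj (op X)) (F.val.obj (op X)))

/-- the differentials of a complex of modules on sections over `X`. -/
noncomputable def ddsec (L : CochainComplex (ModSite.Mod O) ℤ) (X : C) (i j : ℤ) :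
    (L.X i).val.obj (op X) →ₗ[O.obj.obj (op X)] (L.X j).val.obj (op X) :=
  ((L.d i j).val.app (op X)).hom

lemma ddsec_apply (L : CochainComplex (ModSite.Mod O) ℤ) (X : C) (i j : ℤ)
    (x : (L.X i).val.obj (op X)) : ddsec O L X i j x = (L.d i j).val.app (op X) x := rfl

lemma homEquiv_zero (M : ModSite.Mod O) (X : C) :
    homEquiv O M X (0 : ModSite.freeOn O X ⟶ M) = 0 := by
  have h := homEquiv_comp O (0 : ModSite.freeOn O X ⟶ M) (0 : M ⟶ M)
  rw [comp_zero] at h
  rw [h]
  rfl

lemma homEquiv_smul (s : DerComp.GSec O) (M : ModSite.Mod O) (X : C)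
    (h : ModSite.freeOn O X ⟶ M) :
    homEquiv O M X (s • h) = (s.1 X : O.obj.obj (op X)) • homEquiv O M X h := by
  rw [DerComp.smul_def, DerComp.smulEnd_comm, homEquiv_comp]
  rfl

theorem acyc_locF_freeOn_iff (s : DerComp.GSec O) (X : C)
    (L : CochainComplex (ModSite.Mod O) ℤ) (n : ℤ) :
    Acyc ((locF (R := DerComp.GSec O) s).obj (ModSite.freeOn O X)) L n ↔
      SeqAcyc (ddsec O L X) (s.1 X) (n - 1) n (n + 1) := by
  exact acyc_locF_iff_of_equiv s (ModSite.freeOn O X) L n (ddsec O L X) (s.1 X)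
    (fun k => homEquiv O (L.X k) X)
    (fun k => homEquiv_zero O _ X)
    (fun i j x => homEquiv_comp O x (L.d i j))
    (fun k x => homEquiv_smul O s _ X x)


section UnitOver

open Groth.Agent.Lib.Helper21.RestrExact Groth.Agent.Lib.Helper21.ExtZeroS

variable (V : C)

/-- `Hom(O_V, M|_V) ≃ M(V)`. -/
noncomputable def evEquiv (M : ModSite.Mod O) :
    (ModSite.unit (O.over V) ⟶ (ModSite.restr O V).obj M) ≃ M.val.obj (op V) :=
  ((ModSite.extZeroAdj O V).homEquiv _ _).symm.trans (homEquiv O M V)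

lemma evEquiv_apply (M : ModSite.Mod O) (h : ModSite.unit (O.over V) ⟶ (ModSite.restr O V).obj M) :
    evEquiv O V M h = evalTop O M V (((ModSite.restr O V).obj M).unitHomEquiv h) := by
  simp [evEquiv, homEquiv]

lemma evEquiv_comp {M N : ModSite.Mod O} (h : ModSite.unit (O.over V) ⟶ (ModSite.restr O V).obj M)
    (p : M ⟶ N) : evEquiv O V N (h ≫ (ModSite.restr O V).map p) = p.val.app (op V) (evEquiv O V M h) := by
  unfold evEquiv
  rw [Equiv.trans_apply, Equiv.trans_apply, Adjunction.homEquiv_naturality_right_symm, homEquiv_comp]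

lemma evEquiv_zero (M : ModSite.Mod O) :
    evEquiv O V M (0 : ModSite.unit (O.over V) ⟶ (ModSite.restr O V).obj M) = 0 := by
  have h := evEquiv_comp O V (0 : ModSite.unit (O.over V) ⟶ (ModSite.restr O V).obj M) (0 : M ⟶ M)
  rw [(ModSite.restr O V).map_zero, comp_zero] at h
  rw [h]
  rfl

lemma evEquiv_smul (f : O.obj.obj (op V)) (M : ModSite.Mod O)
    (h : ModSite.unit (O.over V) ⟶ (ModSite.restr O V).obj M) :
    evEquiv O V M (DerComp.GSec.ofSect O V f • h) = f • evEquiv O V M h := by
  rw [evEquiv_apply, evEquiv_apply, DerComp.smul_def, DerComp.smulEnd_comm,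
    SheafOfModules.unitHomEquiv_comp_apply]
  generalize ((ModSite.restr O V).obj M).unitHomEquiv h = σ
  unfold evalTop
  have h3 : ∀ (c : (ModSite.ringSh (O.over V)).obj.obj (op (Over.mk (𝟙 V))))
      (x : ((ModSite.restr O V).obj M).val.obj (op (Over.mk (𝟙 V)))),
      ofRestr O M V (op (Over.mk (𝟙 V))) (c • x) =
        (show O.obj.obj (op V) from c) •
          (show M.val.obj (op V) from ofRestr O M V (op (Over.mk (𝟙 V))) x) := fun c x => rfl
  have h2 : (show O.obj.obj (op V) from
      DerComp.GSec.val' (DerComp.GSec.ofSect O V f) (op (Over.mk (𝟙 V)))) = f := by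
    change (O.obj.map (𝟙 V).op).hom f = f
    rw [op_id, O.obj.map_id]
    rfl
  have h1 : (SheafOfModules.sectionsMap (DerComp.smulEnd (DerComp.GSec.ofSect O V f)
      ((ModSite.restr O V).obj M)) σ).val (op (Over.mk (𝟙 V))) =
      (DerComp.GSec.val' (DerComp.GSec.ofSect O V f) (op (Over.mk (𝟙 V)))) •
        (show ((ModSite.restr O V).obj M).val.obj (op (Over.mk (𝟙 V))) from
          σ.val (op (Over.mk (𝟙 V)))) := rfl
  rw [h1, h3, h2]

lemma awayOver_eq (f : O.obj.obj (op V)) : DerComp.awayOver O V f =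
    (locF (R := DerComp.GSec (O.over V)) (DerComp.GSec.ofSect O V f)).obj
      (ModSite.unit (O.over V)) := rfl

theorem acyc_extZero_awayOver_iff (f : O.obj.obj (op V)) (L : CochainComplex (ModSite.Mod O) ℤ)
    (n : ℤ) :
    Acyc ((ModSite.extZero O V).obj (DerComp.awayOver O V f)) L n ↔
      SeqAcyc (ddsec O L V) f (n - 1) n (n + 1) := by
  rw [acyc_adj_iff (ModSite.extZeroAdj O V), awayOver_eq]
  exact acyc_locF_iff_of_equiv (DerComp.GSec.ofSect O V f) (ModSite.unit (O.over V)) _ n
    (ddsec O L V) f (fun k => evEquiv O V (L.X k))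
    (fun k => evEquiv_zero O V _)
    (fun i j x => evEquiv_comp O V x (L.d i j))
    (fun k x => evEquiv_smul O V f _ x)

end UnitOver

end Groth.Agent.R2.H61.DC4
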