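import Groth.Agent.R2.H61DC4

/-!
# helper61: a complex of sheaves of modules which is exact on sections over a covering family is acyclic
-/

set_option autoImplicit false

universe u

open CategoryTheory CategoryTheory.Limits Opposite

namespace Groth.Agent.R2.H61.DC5

open Groth.Agent.R2.H61.LocAway Groth.Agent.R2.H61.DC1 Groth.Agent.R2.H61.DC2
  Groth.Agent.R2.H61.DC3 Groth.Agent.R2.H61.DC4 Groth.Agent.Lib.Helper23FreeOn

variable {C : Type u} [SmallCategory C] {J : GrothendieckTopology C} (O : Sheaf J CommRingCat.{u})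

theorem mono_app_injective {M N : ModSite.Mod O} (ι : M ⟶ N) [Mono ι] (X : C) :
    Function.Injective (ι.val.app (op X)) := by
  intro a b hab
  have h : (homEquiv O M X).symm a ≫ ι = (homEquiv O M X).symm b ≫ ι := by
    rw [homEquiv_symm_comp, homEquiv_symm_comp, hab]
  exact (homEquiv O M X).symm.injective ((cancel_mono ι).1 h)

lemma comp_val_app_apply {M N P : ModSite.Mod O} (φ : M ⟶ N) (ψ : N ⟶ P) (X : Cᵒᵖ)
    (x : M.val.obj X) : (φ ≫ ψ).val.app X x = ψ.val.app X (φ.val.app X x) := rfl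

lemma zero_val_app_apply {M N : ModSite.Mod O} (X : Cᵒᵖ)
    (x : M.val.obj X) : (0 : M ⟶ N).val.app X x = 0 := rfl

theorem acyclic_of_locally (T : CochainComplex (ModSite.Mod O) ℤ) (P : C → Prop)
    (hP : ∀ X : C, ∃ S ∈ J X, ∀ ⦃Y : C⦄ (g : Y ⟶ X), S g → P Y)
    (hT : ∀ Y, P Y → ∀ n, Acyc (ModSite.freeOn O Y) T n) : T.Acyclic := by
  intro n
  rw [HomologicalComplex.exactAt_iff' T (n - 1) n (n + 1) (by simp) (by simp),
    ShortComplex.exact_iff_epi_kernel_lift]
  apply Groth.Agent.Lib.Helper21.RestrExact.epi_of_isLocallySurjective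
  constructor
  intro U z
  obtain ⟨S, hS, hSP⟩ := hP U
  apply J.superset_covering _ hS
  intro Y g hg
  have hd0 : T.d (n - 1) n ≫ T.d n (n + 1) = 0 := T.d_comp_d _ _ _
  change ∃ t : (T.X (n - 1)).val.obj (op Y),
    (kernel.lift (T.d n (n + 1)) (T.d (n - 1) n) hd0).val.app (op Y) t =
      (kernel (T.d n (n + 1))).val.map g.op z
  set z' : (kernel (T.d n (n + 1))).val.obj (op Y) := (kernel (T.d n (n + 1))).val.map g.op z
  set b : (T.X n).val.obj (op Y) := (kernel.ι (T.d n (n + 1))).val.app (op Y) z' with hb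
  have hb0 : (T.d n (n + 1)).val.app (op Y) b = 0 := by
    rw [hb, ← comp_val_app_apply, kernel.condition, zero_val_app_apply]
  obtain ⟨y, hy⟩ := hT Y (hSP g hg) n ((homEquiv O (T.X n) Y).symm b) (by
    rw [homEquiv_symm_comp, hb0]
    apply (homEquiv O _ Y).injective
    rw [Equiv.apply_symm_apply, homEquiv_zero])
  refine ⟨homEquiv O _ Y y, ?_⟩
  apply mono_app_injective O (kernel.ι (T.d n (n + 1))) Y
  rw [← comp_val_app_apply, kernel.lift_ι, ← homEquiv_comp, hy, Equiv.apply_symm_apply]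

end Groth.Agent.R2.H61.DC5
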