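import Groth.Agent.R2.H61DC6

/-!
# helper61: locality of the vanishing `Hom(j_! O_{W,f}, K[n]) = 0` for `K ∈ D(O)`
-/

set_option autoImplicit false

universe u

open CategoryTheory CategoryTheory.Limits Opposite

attribute [local instance] HasDerivedCategory.standard

namespace Groth.Agent.R2.H61.DC7

open Groth.Agent.R2.H61.DC1 Groth.Agent.R2.H61.DC6

variable {C : Type u} [SmallCategory C] {J : GrothendieckTopology C} (O : Sheaf J CommRingCat.{u})

/-- every object of `D(O)` is represented by a K-injective complex with injective terms. -/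
theorem exists_model (K : DerivedCategory (ModSite.Mod O)) :
    ∃ (I : CochainComplex (ModSite.Mod O) ℤ) (_ : I.IsKInjective)
      (_ : K ≅ (DerivedCategory.Q : _ ⥤ DerivedCategory (ModSite.Mod O)).obj I),
      ∀ k, Injective (I.X k) := by
  obtain ⟨I, φ, hI, hφ, -, hinj⟩ :=
    Groth.Agent.Lib.Helper17.KInj.exists_kInjective_resolution.{u} (ModSite.Mod O)
      ((DerivedCategory.Q : _ ⥤ DerivedCategory (ModSite.Mod O)).objPreimage K)
  exact ⟨I, hI, (DerivedCategory.Q.objObjPreimageIso K).symm ≪≫ asIso (DerivedCategory.Q.map φ), hinj⟩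

/-- the vanishing condition for `K` at `(W, f)`. -/
def Van (K : DerivedCategory (ModSite.Mod O)) (W : C) (f : O.obj.obj (op W)) : Prop :=
  ∀ n : ℤ, Subsingleton (SiteCmp.inD O ((ModSite.extZero O W).obj (DerComp.awayOver O W f)) ⟶ K⟦n⟧)

theorem van_iff_pc (K : DerivedCategory (ModSite.Mod O)) (I : CochainComplex (ModSite.Mod O) ℤ)
    [I.IsKInjective] (e : K ≅ (DerivedCategory.Q : _ ⥤ DerivedCategory (ModSite.Mod O)).obj I)
    (W : C) (f : O.obj.obj (op W)) : Van O K W f ↔ Pc O I W f :=
  forall_congr' fun n => subsingleton_single_hom_iff_acyc _ I K e n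

/-- the vanishing condition is local. -/
theorem van_glue (K : DerivedCategory (ModSite.Mod O)) (W : C) (f : O.obj.obj (op W))
    (S : Sieve W) (hS : S ∈ J W)
    (h : ∀ ⦃V : C⦄ (g : V ⟶ W), S g → Van O K V ((O.obj.map g.op).hom f)) : Van O K W f := by
  obtain ⟨I, hI, e, -⟩ := exists_model O K
  rw [van_iff_pc O K I e]
  exact pc_glue O I W f S hS fun V g hg => (van_iff_pc O K I e V _).1 (h g hg)

/-- the sections `f` over `W` with the vanishing condition form an ideal. -/
theorem exists_ideal_van (K : DerivedCategory (ModSite.Mod O)) (W : C) :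
    ∃ Jw : Ideal (O.obj.obj (op W)), ∀ f, f ∈ Jw ↔ Van O K W f := by
  obtain ⟨I, hI, e, hinj⟩ := exists_model O K
  obtain ⟨Jw, hJw⟩ := exists_ideal_pc O I hinj W
  exact ⟨Jw, fun f => (hJw f).trans (van_iff_pc O K I e W f).symm⟩

end Groth.Agent.R2.H61.DC7
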