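import Groth.Agent.R2.H61LocAway3
import Groth.Agent.R2.H61DC3
import Groth.Agent.R2.H31Tri

/-!
# helper61: `r` is invertible on `F[1/r]`; acyclicity of `T(I)` gives `r`-completeness in `D(A)`
-/

set_option autoImplicit false
universe w w₁ v u
open CategoryTheory CategoryTheory.Limits HomologicalComplex DerivedCategory Pretriangulated

namespace Groth.Agent.R2.H61.DC8

open Groth.Agent.R2.H61.LocAway Groth.Agent.R2.H61.DC3 Groth.Agent.R2.H31.Tri
  Groth.Agent.Lib.Helper17.QProd Groth.Agent.Lib.Helper17.KInj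

section Inv

set_option linter.unusedSectionVars false

variable {R : Type*} [CommRing R] {A : Type u} [Category.{v} A] [Abelian A] [Linear R A]
  [HasColimitsOfShape (Discrete ℕ) A] [HasLimitsOfShape (Discrete ℕ) A]
  (r : R)

/-- the inverse of multiplication by `r` on `F[1/r]` (shift of the summands). -/
noncomputable def invSmul (F : A) : (locF r).obj F ⟶ (locF r).obj F :=
  ofSeq r (fun m => seqOf r (𝟙 ((locF r).obj F)) (m + 1)) (fun m => seqOf_rel r _ (m + 1))

lemma seqOf_invSmul (F : A) (m : ℕ) :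
    seqOf r (invSmul r F) m = seqOf r (𝟙 ((locF r).obj F)) (m + 1) :=
  seqOf_ofSeq r _ _ m

lemma smul_invSmul (F : A) : (r • 𝟙 ((locF r).obj F)) ≫ invSmul r F = 𝟙 _ := by
  apply hom_ext_seqOf r
  intro m
  rw [Linear.smul_comp, Category.id_comp]
  have h1 : seqOf r (r • invSmul r F) m = r • seqOf r (invSmul r F) m := by
    simp only [seqOf, Linear.comp_smul]
  rw [h1, seqOf_invSmul, ← seqOf_rel]

lemma invSmul_smul (F : A) : invSmul r F ≫ (r • 𝟙 ((locF r).obj F)) = 𝟙 _ := by
  rw [Linear.comp_smul, Category.comp_id, ← Category.id_comp (invSmul r F), ← Linear.smul_comp]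
  exact smul_invSmul r F

instance isIso_smul_locF (F : A) : IsIso (r • 𝟙 ((locF r).obj F)) :=
  ⟨invSmul r F, smul_invSmul r F, invSmul_smul r F⟩

end Inv

section Zero

variable {A : Type u} [Category.{v} A] [Abelian A] [HasDerivedCategory.{w₁} A]

lemma isZero_Q_of_acyclic (K : CochainComplex A ℤ) (h : K.Acyclic) :
    IsZero ((Q : _ ⥤ DerivedCategory A).obj K) := by
  have h1 : CochainComplex.IsLE K 0 := by
    rw [CochainComplex.isLE_iff]
    exact fun i _ => h i
  have h2 : CochainComplex.IsGE K 1 := by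
    rw [CochainComplex.isGE_iff]
    exact fun i _ => h i
  have : (Q.obj K).IsLE 0 := (DerivedCategory.isLE_Q_obj_iff _ _).2 h1
  have : (Q.obj K).IsGE 1 := (DerivedCategory.isGE_Q_obj_iff _ _).2 h2
  exact DerivedCategory.TStructure.t.isZero (Q.obj K) 0 1 (by simp)

end Zero


section Cpl

variable {R : Type*} [CommRing R] {A : Type u} [Category.{v} A] [Abelian A] [Linear R A]
  [IsGrothendieckAbelian.{w} A] [HasDerivedCategory.{w₁} A]
  [HasColimitsOfShape (Discrete ℕ) A] [HasLimitsOfShape (Discrete ℕ) A]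
  [HasColimitsOfShape (Finset (Discrete ℕ)) A] [HasExactColimitsOfShape (Finset (Discrete ℕ)) A]
  [EnoughInjectives A]
  (r : R)

omit [CommRing R] [Linear R A] [IsGrothendieckAbelian.{w} A] [HasColimitsOfShape (Discrete ℕ) A]
  [HasLimitsOfShape (Discrete ℕ) A] [HasColimitsOfShape (Finset (Discrete ℕ)) A]
  [HasExactColimitsOfShape (Finset (Discrete ℕ)) A] [EnoughInjectives A] [Abelian A]
  [HasDerivedCategory.{w₁} A] in
lemma IsPow.of_iso' {C : Type*} [Category C] {P K K₂ : C} {π : ℕ → (P ⟶ K)} (h : IsPow P K π)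
    (e : K ≅ K₂) : IsPow P K₂ (fun n => π n ≫ e.hom) where
  lift_exists g := by
    obtain ⟨l, hl⟩ := h.lift_exists (fun n => g n ≫ e.inv)
    exact ⟨l, fun n => by rw [← Category.assoc, hl, Category.assoc, e.inv_hom_id, Category.comp_id]⟩
  hom_ext l l' hh := h.hom_ext l l' (fun n => by
    have := hh n
    rw [← Category.assoc, ← Category.assoc] at this
    exact (cancel_mono e.hom).1 this)

omit [IsGrothendieckAbelian.{w} A] [HasColimitsOfShape (Discrete ℕ) A]
  [HasColimitsOfShape (Finset (Discrete ℕ)) A] [HasExactColimitsOfShape (Finset (Discrete ℕ)) A]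
  [EnoughInjectives A] in
/-- the countable power of `K ≅ Q I` for `I` K-injective. -/
lemma isPow_Q_prodCx (I : CochainComplex A ℤ) [hI : I.IsKInjective] (K : DerivedCategory A)
    (e : (Q : _ ⥤ DerivedCategory A).obj I ≅ K) :
    IsPow ((Q : _ ⥤ DerivedCategory A).obj (prodCx fun _ : ℕ => I)) K
      (fun n => Q.map (prodCxπ (fun _ : ℕ => I) n) ≫ e.hom) := by
  have : ∀ _ : ℕ, I.IsKInjective := fun _ => hI
  have h := IsPow.of_isLimit _ (isLimitQProdCxOfIsKInjective (fun _ : ℕ => I))
  exact IsPow.of_iso' h e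

omit [IsGrothendieckAbelian.{w} A] [EnoughInjectives A] in
/-- if `T(I)` is acyclic then `K ≅ Q I` is right orthogonal to all `r`-local objects. -/
theorem isCpl_of_acyclic_tF (I : CochainComplex A ℤ) [hI : I.IsKInjective]
    (hinj : ∀ k, Injective (I.X k)) (K : DerivedCategory A)
    (e : (Q : _ ⥤ DerivedCategory A).obj I ≅ K)
    (hac : (((tF (A := A) r).mapHomologicalComplex (ComplexShape.up ℤ)).obj I).Acyclic) :
    IsCpl r K := by
  have hS := sesCx_shortExact r I hinj
  have hT := triangleOfSES_distinguished hS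
  have hz : IsZero ((Q : _ ⥤ DerivedCategory A).obj
      (((tF (A := A) r).mapHomologicalComplex (ComplexShape.up ℤ)).obj I)) :=
    isZero_Q_of_acyclic _ hac
  have hiso : IsIso ((Q : _ ⥤ DerivedCategory A).map (phiCx r I)) :=
    (Triangle.isZero₁_iff_isIso₂ _ hT).1 hz
  have hP := isPow_Q_prodCx I K e
  have hsm : (Q : _ ⥤ DerivedCategory A).map (r • 𝟙 I) ≫ e.hom = e.hom ≫ (r • 𝟙 K) := by
    rw [Functor.map_smul, CategoryTheory.Functor.map_id, Linear.smul_comp, Category.id_comp,
      Linear.comp_smul, Category.comp_id]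
  have hD : hP.D r = (Q : _ ⥤ DerivedCategory A).map (phiCx r I) := by
    apply hP.hom_ext
    intro n
    rw [IsPow.D_π, ← Functor.map_comp_assoc, phiCx_π, Functor.map_sub, Functor.map_comp,
      Preadditive.sub_comp, Category.assoc, hsm, Linear.comp_smul, Linear.comp_smul,
      Category.comp_id]
  exact hP.isCpl_of_isIso_D r (by rw [hD]; exact hiso)

end Cpl

end Groth.Agent.R2.H61.DC8
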