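import Groth.Agent.R2.H61DC7
import Groth.Agent.R2.H61DC8

/-!
# helper61: on a ringed site, right orthogonality to `s`-local objects is the vanishing of all
`Hom(j_{U!} O_{U,s}, K[n])`
-/

set_option autoImplicit false

universe u

open CategoryTheory CategoryTheory.Limits Opposite

attribute [local instance] HasDerivedCategory.standard

namespace Groth.Agent.R2.H61.DC9

open Groth.Agent.R2.H61.LocAway Groth.Agent.R2.H61.DC1 Groth.Agent.R2.H61.DC2
  Groth.Agent.R2.H61.DC3 Groth.Agent.R2.H61.DC4 Groth.Agent.R2.H61.DC5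
  Groth.Agent.R2.H61.DC6 Groth.Agent.R2.H61.DC7 Groth.Agent.R2.H61.DC8
  Groth.Agent.R2.H31.Tri
  Groth.Agent.Lib.Helper21.RestrExact Groth.Agent.Lib.Helper21.ExtZeroS

variable {C : Type u} [SmallCategory C] {J : GrothendieckTopology C} (O : Sheaf J CommRingCat.{u})

lemma restr_map_smulEnd (s : DerComp.GSec O) (U : C) (N : ModSite.Mod O) :
    (ModSite.restr O U).map (DerComp.smulEnd s N) =
      DerComp.smulEnd (DerComp.GSec.toOver s U) ((ModSite.restr O U).obj N) := rfl

lemma extZero_map_smulEnd (s : DerComp.GSec O) (U : C) (M : ModSite.Mod (O.over U)) :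
    (ModSite.extZero O U).map (DerComp.smulEnd (DerComp.GSec.toOver s U) M) =
      DerComp.smulEnd s ((ModSite.extZero O U).obj M) := by
  apply ((ModSite.extZeroAdj O U).homEquiv _ _).injective
  have h1 : (ModSite.extZeroAdj O U).homEquiv _ _
      ((ModSite.extZero O U).map (DerComp.smulEnd (DerComp.GSec.toOver s U) M)) =
      DerComp.smulEnd (DerComp.GSec.toOver s U) M ≫ (ModSite.extZeroAdj O U).unit.app M := by
    rw [Adjunction.homEquiv_unit]
    exact ((ModSite.extZeroAdj O U).unit.naturality _).symm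
  have h2 : (ModSite.extZeroAdj O U).homEquiv _ _
      (DerComp.smulEnd s ((ModSite.extZero O U).obj M)) =
      (ModSite.extZeroAdj O U).unit.app M ≫
        DerComp.smulEnd (DerComp.GSec.toOver s U) ((ModSite.restr O U).obj ((ModSite.extZero O U).obj M)) := by
    rw [Adjunction.homEquiv_unit, restr_map_smulEnd]
  rw [h1, h2, DerComp.smulEnd_comm]
  rfl

lemma toOver_eq_ofSect (s : DerComp.GSec O) (U : C) :
    DerComp.GSec.toOver s U = DerComp.GSec.ofSect O U (s.1 U) :=
  Subtype.ext (funext fun V => (s.2 V.hom).symm)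

lemma smul_id_eq (s : DerComp.GSec O) (M : ModSite.Mod O) : s • 𝟙 M = DerComp.smulEnd s M := by
  rw [DerComp.smul_def, Category.comp_id]

instance isIso_smul_extZero_away (s : DerComp.GSec O) (U : C) :
    IsIso (s • 𝟙 ((ModSite.extZero O U).obj (DerComp.awayOver O U (s.1 U)))) := by
  rw [smul_id_eq, ← extZero_map_smulEnd, toOver_eq_ofSect, ← smul_id_eq, awayOver_eq]
  have : IsIso (DerComp.GSec.ofSect O U (s.1 U) •
      𝟙 ((locF (R := DerComp.GSec (O.over U)) (DerComp.GSec.ofSect O U (s.1 U))).obj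
        (ModSite.unit (O.over U)))) := isIso_smul_locF _ _
  infer_instance

theorem isLoc_inD_extZero_away (s : DerComp.GSec O) (U : C) (m : ℤ) :
    IsLoc s ((SiteCmp.inD O ((ModSite.extZero O U).obj (DerComp.awayOver O U (s.1 U))))⟦m⟧) := by
  apply IsLoc.shift
  have h2 : s • 𝟙 (SiteCmp.inD O ((ModSite.extZero O U).obj (DerComp.awayOver O U (s.1 U)))) =
      (DerivedCategory.singleFunctor (ModSite.Mod O) 0).map
        (s • 𝟙 ((ModSite.extZero O U).obj (DerComp.awayOver O U (s.1 U)))) := by
    rw [Functor.map_smul, CategoryTheory.Functor.map_id]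
  unfold IsLoc
  rw [h2]
  infer_instance

/-- right orthogonality to the `s`-local objects of `D(O)` is the vanishing of all maps
`j_{U!} O_{U,s} ⟶ K[n]`. -/
theorem isCpl_iff_van (s : DerComp.GSec O) (K : DerivedCategory (ModSite.Mod O)) :
    IsCpl s K ↔ ∀ U : C, Van O K U (s.1 U) := by
  constructor
  · intro h U n
    have h1 := orth_of_isCpl s (fun m => isLoc_inD_extZero_away O s U m) h
    exact ⟨fun φ ψ => by rw [h1 n φ, h1 n ψ]⟩
  · intro h
    obtain ⟨I, hI, e, hinj⟩ := exists_model O K
    apply isCpl_of_acyclic_tF s I hinj K e.symm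
    apply acyclic_of_locally O _ (fun _ => True) (fun X => ⟨⊤, J.top_mem X, fun _ _ _ => trivial⟩)
    intro Y _ n
    rw [← acyc_adj_iff (locAdj s), acyc_locF_freeOn_iff, ← acyc_extZero_awayOver_iff]
    exact (van_iff_pc O K I e Y (s.1 Y)).1 (h Y) n

/-- `Orth`-form of the vanishing condition. -/
theorem van_iff_orth (K : DerivedCategory (ModSite.Mod O)) (U : C) (f : O.obj.obj (op U)) :
    Van O K U f ↔
      Orth (SiteCmp.inD O ((ModSite.extZero O U).obj (DerComp.awayOver O U f))) K := by
  constructor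
  · intro h n φ
    have := h n
    exact Subsingleton.elim _ _
  · intro h n
    exact ⟨fun φ ψ => by rw [h n φ, h n ψ]⟩

end Groth.Agent.R2.H61.DC9
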