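import Mathlib
import Groth.Prelude.Def_DTen3
import Groth.Agent.Lib.Helper1DT3
import Groth.Agent.R2.H61DT1
import Groth.Agent.R2.H61DT2
import Groth.Agent.S7010
set_option backward.isDefEq.respectTransparency.types false

/-!
# `K ⊗^L RHom(M, L) ⟶ RHom(M, K ⊗^L L)` is an isomorphism for `K` perfect (helper61)

* `associator_naturality`: naturality of the associativity isomorphism of `D(A)`.
* `isEquivalence_of_isInvertible`: `U ⊗^L -` is an equivalence for `U` invertible.
* `isIso_evalTen_of_equiv`: formal proof that `evalTen U L M` is an isomorphism when `U ⊗^L -` is an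
  equivalence (no coherence needed).
* `isInvertible_unit_shift`: the shifts of the unit object are invertible.
* `isIso_evalTen_of_isPerfect`.
-/

set_option autoImplicit false
set_option linter.style.haveILetI false
set_option linter.unusedSectionVars false
universe u
open CategoryTheory CategoryTheory.Limits MonoidalCategory HomologicalComplex
  CategoryTheory.Pretriangulated
attribute [local instance] HasDerivedCategory.standard

namespace Groth.Agent.R2.H61.DT3

open DerivedCategory DTen Groth.Agent.Lib.Helper1.KF Groth.Agent.Lib.Helper1.DT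
  Groth.Agent.R2.H61.DT1 Groth.Agent.R2.H61.DT2

variable {A : Type u} [CommRing A] [HasLTen A] [HasLTen₃ A] [IsSymMonoidal A]

/-! ### Naturality of the associator -/

/-- The associativity isomorphism as an isomorphism of functors of the triple. -/
noncomputable def assocNatIso : LTenL A ≅ LTenR A := asIso (assocL A) ≪≫ (asIso (assocR A)).symm

lemma associator_hom_eq (a b c : Dual.D A) :
    (DTen.associator a b c).hom = (assocNatIso (A := A)).hom.app (a, (b, c)) := by
  rfl

lemma associator_naturality {a a' b b' c c' : Dual.D A} (f : a ⟶ a') (g : b ⟶ b') (h : c ⟶ c') :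
    (LTen₂ A).map (Prod.mkHom ((LTen₂ A).map (Prod.mkHom f g)) h) ≫ (DTen.associator a' b' c').hom =
      (DTen.associator a b c).hom ≫ (LTen₂ A).map (Prod.mkHom f ((LTen₂ A).map (Prod.mkHom g h))) := by
  rw [associator_hom_eq, associator_hom_eq]
  exact (assocNatIso (A := A)).hom.naturality
    (Prod.mkHom f (Prod.mkHom g h) : (a, (b, c)) ⟶ (a', (b', c')))

lemma map_id_id (a b : Dual.D A) : (LTen₂ A).map (Prod.mkHom (𝟙 a) (𝟙 b)) = 𝟙 _ := by
  erw [← prod_id, CategoryTheory.Functor.map_id]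

lemma map_comp_mk {a a' a'' b b' b'' : Dual.D A} (f : a ⟶ a') (f' : a' ⟶ a'') (g : b ⟶ b')
    (g' : b' ⟶ b'') :
    (LTen₂ A).map (Prod.mkHom f g) ≫ (LTen₂ A).map (Prod.mkHom f' g') =
      (LTen₂ A).map (Prod.mkHom (f ≫ f') (g ≫ g')) := by
  rw [← Functor.map_comp]
  rfl

lemma associator_naturality₁ {a a' : Dual.D A} (f : a ⟶ a') (b c : Dual.D A) :
    (LTen₂ A).map (Prod.mkHom ((LTen₂ A).map (Prod.mkHom f (𝟙 b))) (𝟙 c)) ≫
      (DTen.associator a' b c).hom =
      (DTen.associator a b c).hom ≫ (LTen₂ A).map (Prod.mkHom f (𝟙 _)) := by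
  have := associator_naturality f (𝟙 b) (𝟙 c)
  rwa [map_id_id] at this

lemma associator_naturality₂ (a : Dual.D A) {b b' : Dual.D A} (g : b ⟶ b') (c : Dual.D A) :
    (LTen₂ A).map (Prod.mkHom ((LTen₂ A).map (Prod.mkHom (𝟙 a) g)) (𝟙 c)) ≫
      (DTen.associator a b' c).hom =
      (DTen.associator a b c).hom ≫
        (LTen₂ A).map (Prod.mkHom (𝟙 a) ((LTen₂ A).map (Prod.mkHom g (𝟙 c)))) :=
  associator_naturality (𝟙 a) g (𝟙 c)

lemma associator_naturality₃ (a b : Dual.D A) {c c' : Dual.D A} (h : c ⟶ c') :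
    (LTen₂ A).map (Prod.mkHom (𝟙 _) h) ≫ (DTen.associator a b c').hom =
      (DTen.associator a b c).hom ≫
        (LTen₂ A).map (Prod.mkHom (𝟙 a) ((LTen₂ A).map (Prod.mkHom (𝟙 b) h))) := by
  have := associator_naturality (𝟙 a) (𝟙 b) h
  rwa [map_id_id] at this


/-! ### `evalTen` as a natural transformation -/

section Nat

variable [HasRHom A]

lemma tensorRightD_map {K K' : Dual.D A} (N : Dual.D A) (k : K ⟶ K') :
    (tensorRightD A N).map k = (LTen₂ A).map (Prod.mkHom k (𝟙 N)) := rfl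

lemma evalTenAux_naturality {K K' : Dual.D A} (k : K ⟶ K') (L M : Dual.D A) :
    (LTen₂ A).map (Prod.mkHom ((LTen₂ A).map (Prod.mkHom k (𝟙 ((RHomR A M).obj L)))) (𝟙 M)) ≫
      evalTenAux K' L M = evalTenAux K L M ≫ (LTen₂ A).map (Prod.mkHom k (𝟙 L)) := by
  unfold evalTenAux
  rw [reassoc_of% (associator_naturality₁ k ((RHomR A M).obj L) M), Category.assoc,
    map_comp_mk, map_comp_mk]
  simp only [Category.id_comp, Category.comp_id]

/-- `evalTen K L M` as a natural transformation in `K`. -/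
noncomputable def evalTenNat (L M : Dual.D A) :
    tensorRightD A ((RHomR A M).obj L) ⟶ tensorRightD A L ⋙ RHomR A M where
  app K := evalTen K L M
  naturality K K' k := by
    change (tensorRightD A ((RHomR A M).obj L)).map k ≫
      (rhomAdj A M).homEquiv _ _ (evalTenAux K' L M) =
      (rhomAdj A M).homEquiv _ _ (evalTenAux K L M) ≫ (RHomR A M).map ((tensorRightD A L).map k)
    rw [← Adjunction.homEquiv_naturality_left, ← Adjunction.homEquiv_naturality_right]
    congr 1
    exact evalTenAux_naturality k L M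

end Nat


/-! ### The formal case: `U ⊗^L -` an equivalence -/

section Equiv

lemma isIso_of_bijective_on_essImage {C D : Type*} [Category C] [Category D] (Φ : C ⥤ D)
    [Φ.EssSurj] {Y Z : D} (f : Y ⟶ Z)
    (h : ∀ X' : C, Function.Bijective (fun x : Φ.obj X' ⟶ Y => x ≫ f)) : IsIso f := by
  have hb : ∀ W : D, Function.Bijective (fun x : W ⟶ Y => x ≫ f) := by
    intro W
    have e := Φ.objObjPreimageIso W
    constructor
    · intro x y hxy
      have hxy' : x ≫ f = y ≫ f := hxy
      have := (h _).1 (a₁ := e.hom ≫ x) (a₂ := e.hom ≫ y)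
        (by simp only [Category.assoc, hxy'])
      exact (cancel_epi e.hom).1 this
    · intro w
      obtain ⟨x, hx⟩ := (h _).2 (e.hom ≫ w)
      have hx' : x ≫ f = e.hom ≫ w := hx
      exact ⟨e.inv ≫ x, by simp only [Category.assoc, hx', Iso.inv_hom_id_assoc]⟩
  obtain ⟨s, hs⟩ := (hb Z).2 (𝟙 Z)
  have hs' : s ≫ f = 𝟙 Z := hs
  refine ⟨s, (hb Y).1 ?_, hs'⟩
  simp only [Category.assoc, hs', Category.comp_id, Category.id_comp]

variable [HasRHom A]

lemma LTen_obj_map (U : Dual.D A) {X Y : Dual.D A} (h : X ⟶ Y) :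
    ((LTen A).obj U).map h = (LTen₂ A).map (Prod.mkHom (𝟙 U) h) := rfl

lemma rhom_homEquiv_symm (M : Dual.D A) {X Y : Dual.D A} (g : X ⟶ (RHomR A M).obj Y) :
    ((rhomAdj A M).homEquiv X Y).symm g = (LTen₂ A).map (Prod.mkHom g (𝟙 M)) ≫ ev M Y :=
  Adjunction.homEquiv_counit _ _ _ _

lemma key (U L M X' : Dual.D A) (g' : X' ⟶ (RHomR A M).obj L) :
    ((rhomAdj A M).homEquiv _ _).symm (((LTen A).obj U).map g' ≫ evalTen U L M) =
      (DTen.associator U X' M).hom ≫
        ((LTen A).obj U).map (((rhomAdj A M).homEquiv _ _).symm g') := by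
  rw [Adjunction.homEquiv_naturality_left_symm]
  have h1 : ((rhomAdj A M).homEquiv (((LTen A).obj U).obj ((RHomR A M).obj L))
      ((LTen₂ A).obj (U, L))).symm (evalTen U L M) = evalTenAux U L M :=
    Equiv.symm_apply_apply _ _
  rw [h1, rhom_homEquiv_symm, LTen_obj_map, LTen_obj_map, tensorRightD_map]
  unfold evalTenAux
  rw [reassoc_of% (associator_naturality₂ U g' M), map_comp_mk]
  simp only [Category.id_comp]

theorem isIso_evalTen_of_equiv (U L M : Dual.D A) [((LTen A).obj U).IsEquivalence] :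
    IsIso (evalTen U L M) := by
  apply isIso_of_bijective_on_essImage ((LTen A).obj U)
  intro X'
  constructor
  · intro x y hxy
    obtain ⟨gx, rfl⟩ := ((LTen A).obj U).map_surjective x
    obtain ⟨gy, rfl⟩ := ((LTen A).obj U).map_surjective y
    have h1 := congrArg (((rhomAdj A M).homEquiv _ _).symm) hxy
    simp only [key] at h1
    have h2 := (cancel_epi _).1 h1
    have h3 := ((LTen A).obj U).map_injective h2
    rw [((rhomAdj A M).homEquiv _ _).symm.injective h3]
  · intro w
    obtain ⟨v, hv⟩ := ((LTen A).obj U).map_surjective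
      ((DTen.associator U X' M).inv ≫ ((rhomAdj A M).homEquiv _ _).symm w)
    refine ⟨((LTen A).obj U).map ((rhomAdj A M).homEquiv _ _ v), ?_⟩
    apply ((rhomAdj A M).homEquiv _ _).symm.injective
    simp only [key, Equiv.symm_apply_apply, hv, Iso.hom_inv_id_assoc]
    rfl

end Equiv


/-! ### Invertible objects -/

section Inv

/-- The associator as a natural isomorphism in the third variable. -/
noncomputable def assocIso₃ (a b : Dual.D A) :
    (LTen A).obj ((LTen₂ A).obj (a, b)) ≅ (LTen A).obj b ⋙ (LTen A).obj a :=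
  NatIso.ofComponents (fun c => DTen.associator a b c) (fun h =>
    associator_naturality₃ a b h)

theorem isEquivalence_of_iso (U U' : Dual.D A) (u : (LTen₂ A).obj (U', U) ≅ unit A)
    (u' : (LTen₂ A).obj (U, U') ≅ unit A) : ((LTen A).obj U).IsEquivalence := by
  let η : 𝟭 (Dual.D A) ≅ (LTen A).obj U ⋙ (LTen A).obj U' :=
    (asIso (unitL A)).symm ≪≫ (LTen A).mapIso u.symm ≪≫ assocIso₃ U' U
  let ε : (LTen A).obj U' ⋙ (LTen A).obj U ≅ 𝟭 (Dual.D A) :=
    (assocIso₃ U U').symm ≪≫ (LTen A).mapIso u' ≪≫ asIso (unitL A)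
  exact (CategoryTheory.Equivalence.mk _ _ η ε).isEquivalence_functor

theorem isEquivalence_of_isInvertible (U : Dual.D A) (h : IsInvertible A U) :
    ((LTen A).obj U).IsEquivalence := by
  obtain ⟨U', ⟨u'⟩, ⟨u⟩⟩ := h
  exact isEquivalence_of_iso U U' u u'

omit [HasLTen₃ A] [IsSymMonoidal A] in
lemma kflat_unit : KFlat (𝟙_ (Cx A)) := fun L hL => Acyc.of_iso (ρ_ L).symm hL

omit [HasLTen₃ A] [IsSymMonoidal A] in
/-- `A[n] ⊗^L A[m] ≅ A` for `n + m = 0`. -/
noncomputable def unitShiftTensorIso (n m : ℤ) (h : m + n = 0) :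
    (LTen₂ A).obj ((unit A)⟦n⟧, (unit A)⟦m⟧) ≅ unit A :=
  haveI : IsIso ((DTen.ε A).app ((𝟙_ (Cx A))⟦n⟧, (𝟙_ (Cx A))⟦m⟧)) :=
    isIso_ε_of_kflat _ _ (Or.inr (kflat_unit.shift m))
  (LTen₂ A).mapIso (Iso.prod ((Q.commShiftIso n).app (𝟙_ (Cx A))).symm
      ((Q.commShiftIso m).app (𝟙_ (Cx A))).symm) ≪≫
    asIso ((DTen.ε A).app ((𝟙_ (Cx A))⟦n⟧, (𝟙_ (Cx A))⟦m⟧)) ≪≫
    Q.mapIso (tensorShiftLeftIso (𝟙_ (Cx A)) ((𝟙_ (Cx A))⟦m⟧) n ≪≫
      (CategoryTheory.shiftFunctor (Cx A) n).mapIso (λ_ ((𝟙_ (Cx A))⟦m⟧)) ≪≫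
      (shiftFunctorCompIsoId (Cx A) m n h).app (𝟙_ (Cx A)))

theorem isEquivalence_unit_shift (n : ℤ) : ((LTen A).obj ((unit A)⟦n⟧)).IsEquivalence :=
  isEquivalence_of_iso _ ((unit A)⟦-n⟧) (unitShiftTensorIso (-n) n (by omega))
    (unitShiftTensorIso n (-n) (by omega))

end Inv

/-! ### The main theorem -/

section Main

variable [HasRHom A]

theorem isIso_evalTen_of_isPerfect (K L M : Dual.D A) (hK : DRing.IsPerfect A K) :
    IsIso (evalTen K L M) := by
  have hF : YEx (tensorRightD A ((RHomR A M).obj L)) := yex_tensorRightD _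
  have hG : YEx (tensorRightD A L ⋙ RHomR A M) :=
    YEx.comp_weak (tensorRightD A L) (weak_tensorRightD L) (yex_of_adjunction (rhomAdj A M))
  let P : ObjectProperty (Dual.D A) := fun K => ShIso (evalTenNat L M) K
  haveI : P.IsClosedUnderIsomorphisms := ⟨fun e h => ShIso.of_iso _ e h⟩
  have key : P K := by
    refine Groth.Agent.S7010.result A P ?_ ?_ ?_ ?_ K hK
    · intro n
      haveI := isEquivalence_unit_shift (A := A) n
      exact isIso_evalTen_of_equiv ((unit A)⟦n⟧) L M
    · intro K n h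
      exact ShIso.shift _ h n
    · intro T hT h1 h3
      exact ShIso.ext hF hG _ T hT h1 h3
    · intro X Y _ h
      exact ShIso.of_retract _ biprod.inl biprod.fst biprod.inl_fst h
  exact ShIso.zero _ key

end Main

end Groth.Agent.R2.H61.DT3
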