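import Groth.Prelude.Def_EtGm
import Mathlib.RingTheory.Polynomial.Cyclotomic.Roots
import Mathlib.Data.ZMod.Basic
import Mathlib.CategoryTheory.Sites.LocallyBijective
import Mathlib.AlgebraicGeometry.ResidueField

/-!
# Sections of `G_m` and `μ_n` on the small étale site; `μ_n ≅ ℤ/n` when a primitive root exists

(helper61)  Reusable API:
* `secF`, `kernel_ι_app_injective`, `exists_kernel_section`: sections of a kernel of abelian sheaves.
* `gmEquiv`, `powMap_app`: sections of `EtCoh.Gm`, the `n`-th power map on sections.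
* `nonempty_mu_iso_const`: `μ_n ≅ ℤ/n` given a root of the `n`-th cyclotomic polynomial with `n` invertible.
* `mem_smallEtaleTopology_iff`: pointwise criterion for covering sieves of the small étale site.
-/

set_option autoImplicit false
universe w v u
open CategoryTheory CategoryTheory.Limits AlgebraicGeometry Opposite

namespace Groth.Agent.R2.H61.EtGm

section Kernel

variable {C : Type u} [Category.{v} C] {J : GrothendieckTopology C}
  [HasSheafify J AddCommGrpCat.{w}]

/-- the functor of sections over `U` on abelian sheaves -/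
noncomputable abbrev secF (U : C) : Sheaf J AddCommGrpCat.{w} ⥤ AddCommGrpCat.{w} :=
  sheafToPresheaf J AddCommGrpCat.{w} ⋙ (evaluation _ _).obj (op U)

noncomputable instance preservesFiniteLimits_secF (U : C) :
    PreservesFiniteLimits (secF (J := J) U) := by
  unfold secF
  infer_instance

instance preservesZeroMorphisms_secF (U : C) : (secF (J := J) U).PreservesZeroMorphisms where

variable {F G : Sheaf J AddCommGrpCat.{w}} (f : F ⟶ G)

/-- the inclusion of the kernel of a morphism of abelian sheaves is injective on sections -/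
lemma kernel_ι_app_injective (U : C) :
    Function.Injective ((kernel.ι f).hom.app (op U)) := by
  have h : (secF U).map (kernel.ι f) = kernelComparison f (secF U) ≫ kernel.ι ((secF U).map f) :=
    (kernelComparison_comp_ι f (secF U)).symm
  have : Mono ((secF U).map (kernel.ι f)) := by
    rw [h]
    have : IsIso (kernelComparison f (secF U)) := by
      rw [← PreservesKernel.iso_hom]; infer_instance
    infer_instance
  exact (AddCommGrpCat.mono_iff_injective _).1 this

/-- a section killed by `f` comes from a section of the kernel -/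
lemma exists_kernel_section (U : C) (x : F.obj.obj (op U)) (hx : f.hom.app (op U) x = 0) :
    ∃ y : (kernel f).obj.obj (op U), (kernel.ι f).hom.app (op U) y = x := by
  let e := PreservesKernel.iso (secF U) f
  let e' := AddCommGrpCat.kernelIsoKer ((secF U).map f)
  let x' : (AddCommGrpCat.Hom.hom ((secF U).map f)).ker := ⟨x, hx⟩
  refine ⟨e.inv (e'.inv x'), ?_⟩
  have h : (secF U).map (kernel.ι f) = e.hom ≫ e'.hom ≫
      AddCommGrpCat.ofHom (AddCommGrpCat.Hom.hom ((secF U).map f)).ker.subtype := by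
    rw [AddCommGrpCat.kernelIsoKer_hom_comp_subtype, PreservesKernel.iso_hom,
      kernelComparison_comp_ι]
  change ((secF U).map (kernel.ι f)) (e.inv (e'.inv x')) = x
  rw [h]
  simp
  rfl

end Kernel

section Algebra

open Polynomial

lemma pow_eq_one_of_aeval_cyclotomic {R : Type*} [CommRing R] {n : ℕ} (ζ : R)
    (h : aeval ζ (cyclotomic n ℤ) = 0) : ζ ^ n = 1 := by
  obtain ⟨q, hq⟩ := cyclotomic.dvd_X_pow_sub_one n ℤ
  have := congrArg (aeval ζ) hq
  rw [map_mul, h, zero_mul] at this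
  simpa [sub_eq_zero] using this

lemma isPrimitiveRoot_of_aeval_cyclotomic {K : Type*} [Field K] {n : ℕ} (hn : (n : K) ≠ 0)
    (z : K) (hz : aeval z (cyclotomic n ℤ) = 0) : IsPrimitiveRoot z n := by
  have : NeZero (n : K) := ⟨hn⟩
  rw [← isRoot_cyclotomic_iff, IsRoot.def, ← map_cyclotomic_int n K, eval_map]
  rw [aeval_def] at hz
  exact hz

end Algebra

section Gm

variable {X : Scheme.{u}}

/-- sections of `G_m` over `U` are the units of the ring of global functions of `U` -/
def gmEquiv (U : X.Etale) : ((EtCoh.Gm X).obj.obj (op U) : Type (u + 1)) ≃ (Γ(U.left, ⊤))ˣ :=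
  Equiv.ulift.trans Additive.toMul

lemma gmEquiv_add (U : X.Etale) (x y : (EtCoh.Gm X).obj.obj (op U)) :
    gmEquiv U (x + y) = gmEquiv U x * gmEquiv U y := rfl

lemma gmEquiv_zero (U : X.Etale) : gmEquiv U (0 : (EtCoh.Gm X).obj.obj (op U)) = 1 := rfl

lemma gmEquiv_nsmul (U : X.Etale) (n : ℕ) (x : (EtCoh.Gm X).obj.obj (op U)) :
    gmEquiv U (n • x) = gmEquiv U x ^ n := by
  induction n with
  | zero => simp [gmEquiv_zero]
  | succ k ih => rw [succ_nsmul, pow_succ, gmEquiv_add, ih]

lemma gmEquiv_map {U V : X.Etale} (g : V ⟶ U) (x : (EtCoh.Gm X).obj.obj (op U)) :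
    gmEquiv V ((EtCoh.Gm X).obj.map g.op x) =
      Units.map (g.left.appTop).hom.toMonoidHom (gmEquiv U x) := rfl

lemma gmEquiv_symm_map {U V : X.Etale} (g : V ⟶ U) (x : (Γ(U.left, ⊤))ˣ) :
    (EtCoh.Gm X).obj.map g.op ((gmEquiv U).symm x) =
      (gmEquiv V).symm (Units.map (g.left.appTop).hom.toMonoidHom x) := rfl

lemma powMap_app (n : ℕ) (U : X.Etale) (x : (EtCoh.Gm X).obj.obj (op U)) :
    (EtCoh.powMap X n).hom.app (op U) x = n • x := by
  unfold EtCoh.powMap
  induction n with
  | zero => simp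
  | succ k ih =>
    rw [succ_nsmul, succ_nsmul]
    simp [ih]

/-- the image in `Γ(U)` of a global unit of `X` -/
def unitAt (ζ : (Γ(X, ⊤))ˣ) (U : X.Etale) : (Γ(U.left, ⊤))ˣ :=
  Units.map (U.hom.appTop).hom.toMonoidHom ζ

lemma unitAt_map (ζ : (Γ(X, ⊤))ˣ) {U V : X.Etale} (g : V ⟶ U) :
    Units.map (g.left.appTop).hom.toMonoidHom (unitAt ζ U) = unitAt ζ V := by
  have hw : g.left ≫ U.hom = V.hom := Over.w g.hom
  apply Units.ext
  change (g.left.appTop).hom ((U.hom.appTop).hom (ζ : Γ(X, ⊤))) = (V.hom.appTop).hom (ζ : Γ(X, ⊤))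
  rw [← hw, Scheme.Hom.comp_appTop]
  rfl

end Gm

section Mu

set_option linter.unusedSectionVars false

variable (S : Scheme.{u}) (n : ℕ) [NeZero n] (ζ : (Γ(S, ⊤))ˣ) (hζ : ζ ^ n = 1)

/-- the value group of the constant sheaf `ℤ/n` -/
abbrev M : AddCommGrpCat.{u + 1} := AddCommGrpCat.of (ULift.{u + 1} (ZMod n))

/-- `a ↦ ζ_U ^ a` -/
def pw (U : S.Etale) (a : ZMod n) : (Γ(U.left, ⊤))ˣ := unitAt ζ U ^ a.val

include hζ in
lemma unitAt_pow (U : S.Etale) : unitAt ζ U ^ n = 1 := by
  unfold unitAt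
  rw [← map_pow, hζ, map_one]

include hζ in
lemma pw_add (U : S.Etale) (a b : ZMod n) : pw S n ζ U (a + b) = pw S n ζ U a * pw S n ζ U b := by
  unfold pw
  rw [← pow_add, ZMod.val_add, ← pow_eq_pow_mod _ (unitAt_pow S n ζ hζ U)]

lemma pw_zero (U : S.Etale) : pw S n ζ U 0 = 1 := by
  unfold pw
  rw [ZMod.val_zero, pow_zero]

lemma pw_map {U V : S.Etale} (g : V ⟶ U) (a : ZMod n) :
    Units.map (g.left.appTop).hom.toMonoidHom (pw S n ζ U a) = pw S n ζ V a := by
  unfold pw
  rw [map_pow, unitAt_map]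

/-- the map of presheaves from the constant presheaf `ℤ/n` to `G_m`, `a ↦ ζ ^ a` -/
noncomputable def phiPre :
    (Functor.const (S.Etale)ᵒᵖ).obj (M n) ⟶ (EtCoh.Gm S).obj where
  app U := AddCommGrpCat.ofHom
    { toFun := fun a => (gmEquiv U.unop).symm (pw S n ζ U.unop a.down)
      map_zero' := by
        apply (gmEquiv U.unop).injective
        rw [Equiv.apply_symm_apply]
        exact pw_zero S n ζ U.unop
      map_add' := fun a b => by
        apply (gmEquiv U.unop).injective
        rw [Equiv.apply_symm_apply]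
        refine (pw_add S n ζ hζ U.unop a.down b.down).trans ?_
        refine Eq.trans ?_ (gmEquiv_add U.unop _ _).symm
        rw [Equiv.apply_symm_apply, Equiv.apply_symm_apply] }
  naturality U V g := by
    ext a
    change (gmEquiv V.unop).symm (pw S n ζ V.unop a.down) =
      (EtCoh.Gm S).obj.map g ((gmEquiv U.unop).symm (pw S n ζ U.unop a.down))
    rw [← pw_map S n ζ g.unop, ← gmEquiv_symm_map]
    rfl

/-- evaluation at a point of `U`, composed with the structure map, as a ring hom out of `Γ(S)` -/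
lemma aeval_map_eq_zero {R R' : Type*} [CommRing R] [CommRing R'] (f : R →+* R') (z : R)
    (h : Polynomial.aeval z (Polynomial.cyclotomic n ℤ) = 0) :
    Polynomial.aeval (f z) (Polynomial.cyclotomic n ℤ) = 0 := by
  rw [Polynomial.aeval_def] at h ⊢
  have := congrArg f h
  rw [Polynomial.hom_eval₂, map_zero] at this
  convert this
  exact RingHom.ext_int _ _

variable (hcyc : Polynomial.aeval (ζ : Γ(S, ⊤)) (Polynomial.cyclotomic n ℤ) = 0)
  (hunit : IsUnit (n : Γ(S, ⊤)))

include hcyc hunit in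
/-- the image of `ζ` in the residue field of a point of an étale `S`-scheme is a primitive root -/
lemma isPrimitiveRoot_evaluation (U : S.Etale) (p : U.left) :
    IsPrimitiveRoot ((U.left.Γevaluation p).hom ((unitAt ζ U : (Γ(U.left, ⊤))ˣ) : Γ(U.left, ⊤))) n := by
  let ρ : Γ(S, ⊤) →+* U.left.residueField p :=
    (U.left.Γevaluation p).hom.comp (U.hom.appTop).hom
  have h1 : ((U.left.Γevaluation p).hom ((unitAt ζ U : (Γ(U.left, ⊤))ˣ) : Γ(U.left, ⊤))) =
      ρ (ζ : Γ(S, ⊤)) := rfl
  rw [h1]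
  apply isPrimitiveRoot_of_aeval_cyclotomic
  · have := hunit.map ρ
    rw [map_natCast] at this
    exact this.ne_zero
  · exact aeval_map_eq_zero n ρ _ hcyc

include hcyc hunit in
lemma isEmpty_of_pw_eq (U : S.Etale) (a b : ZMod n) (hab : a ≠ b)
    (h : pw S n ζ U a = pw S n ζ U b) : IsEmpty U.left := by
  refine ⟨fun p => hab ?_⟩
  have hp := isPrimitiveRoot_evaluation S n ζ hcyc hunit U p
  have h2 := congrArg (fun x : (Γ(U.left, ⊤))ˣ => (U.left.Γevaluation p).hom (x : Γ(U.left, ⊤))) h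
  simp only [pw, Units.val_pow_eq_pow_val, map_pow] at h2
  have := hp.pow_inj (ZMod.val_lt a) (ZMod.val_lt b) h2
  exact ZMod.val_injective n this

/-- a global function which is nowhere zero on the image of `f` pulls back to a unit -/
lemma isUnit_appTop_of_forall_mem_basicOpen {Y Z : Scheme.{u}} (f : Y ⟶ Z) (h : Γ(Z, ⊤))
    (hf : ∀ y : Y, f y ∈ Z.basicOpen h) : IsUnit (f.appTop.hom h) := by
  have h1 : Y.basicOpen (f.appTop.hom h) = ⊤ := by
    have := Scheme.preimage_basicOpen_top f h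
    rw [← this]
    ext y
    simp only [TopologicalSpace.Opens.coe_top, Set.mem_univ, iff_true]
    exact hf y
  apply RingedSpace.isUnit_of_isUnit_germ (X := Y.toLocallyRingedSpace.toRingedSpace) ⊤
  intro y hy
  have : y ∈ Y.basicOpen (f.appTop.hom h) := by rw [h1]; trivial
  exact (Scheme.mem_basicOpen Y _ y hy).1 this

/-- an open subscheme of an étale `S`-scheme, as an object of the small étale site -/
noncomputable abbrev openObj (U : S.Etale) (W : U.left.Opens) : S.Etale :=
  Scheme.Etale.mk (W.ι ≫ U.hom)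

/-- the inclusion of an open subscheme, as a morphism of the small étale site -/
noncomputable abbrev openHom (U : S.Etale) (W : U.left.Opens) : openObj S U W ⟶ U :=
  MorphismProperty.Over.homMk W.ι rfl

include hcyc hunit in
/-- locally, an `n`-th root of unity is a power of `ζ` -/
lemma exists_local_pw (U : S.Etale) (x : (Γ(U.left, ⊤))ˣ) (hx : x ^ n = 1) (p : U.left) :
    ∃ (V : S.Etale) (g : V ⟶ U) (v : V.left) (a : ZMod n), g.left v = p ∧
      Units.map (g.left.appTop).hom.toMonoidHom x = pw S n ζ V a := by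
  have hζ : ζ ^ n = 1 := by
    apply Units.ext
    rw [Units.val_pow_eq_pow_val, Units.val_one]
    exact pow_eq_one_of_aeval_cyclotomic _ hcyc
  let ρ := (U.left.Γevaluation p).hom
  have hp := isPrimitiveRoot_evaluation S n ζ hcyc hunit U p
  have hx' : ρ (x : Γ(U.left, ⊤)) ^ n = 1 := by
    rw [← map_pow, ← Units.val_pow_eq_pow_val, hx, Units.val_one, map_one]
  obtain ⟨i, hi, hix⟩ := hp.eq_pow_of_pow_eq_one hx'
  -- the unit `u = x * ζ^{-i}`
  let u : (Γ(U.left, ⊤))ˣ := x * (unitAt ζ U ^ i)⁻¹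
  have hun : u ^ n = 1 := by
    rw [mul_pow, hx, one_mul, inv_pow, ← pow_mul, mul_comm, pow_mul, unitAt_pow S n ζ hζ U,
      one_pow, inv_one]
  have hρu : ρ (u : Γ(U.left, ⊤)) = 1 := by
    have h1 : (x : Γ(U.left, ⊤)) = (u : Γ(U.left, ⊤)) * ((unitAt ζ U : (Γ(U.left, ⊤))ˣ) : Γ(U.left, ⊤)) ^ i := by
      rw [← Units.val_pow_eq_pow_val, ← Units.val_mul]
      congr 1
      simp [u]
    have h2 : ρ (x : Γ(U.left, ⊤)) = ρ (u : Γ(U.left, ⊤)) * ρ (x : Γ(U.left, ⊤)) := by
      conv_lhs => rw [h1, map_mul, map_pow, hix]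
    have hne : ρ (x : Γ(U.left, ⊤)) ≠ 0 := by
      intro h0
      rw [h0, zero_pow (NeZero.ne n)] at hx'
      exact zero_ne_one hx'
    have h3 : (1 : U.left.residueField p) * ρ (x : Γ(U.left, ⊤)) =
        ρ (u : Γ(U.left, ⊤)) * ρ (x : Γ(U.left, ⊤)) := (one_mul _).trans h2
    exact (mul_right_cancel₀ hne h3).symm
  let h : Γ(U.left, ⊤) := ∑ j ∈ Finset.range n, (u : Γ(U.left, ⊤)) ^ j
  have hh : h * ((u : Γ(U.left, ⊤)) - 1) = 0 := by
    rw [geom_sum_mul, ← Units.val_pow_eq_pow_val, hun, Units.val_one, sub_self]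
  have hρh : ρ h ≠ 0 := by
    have : ρ h = (n : U.left.residueField p) := by
      simp only [h, map_sum, map_pow, hρu, one_pow, Finset.sum_const, Finset.card_range,
        nsmul_eq_mul, mul_one]
    rw [this]
    have h3 := hunit.map ((U.left.Γevaluation p).hom.comp (U.hom.appTop).hom)
    rw [map_natCast] at h3
    exact h3.ne_zero
  let W : U.left.Opens := U.left.basicOpen h
  have hpW : p ∈ W := (Scheme.evaluation_ne_zero_iff_mem_basicOpen (U := ⊤) U.left p trivial h).1 hρh
  refine ⟨openObj S U W, openHom S U W, ⟨p, hpW⟩, (i : ZMod n), rfl, ?_⟩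
  -- on `W`, `h` is a unit, hence `u = 1`
  have hunitW : IsUnit (W.ι.appTop.hom h) :=
    isUnit_appTop_of_forall_mem_basicOpen W.ι h (fun y => y.2)
  have hu1 : W.ι.appTop.hom (u : Γ(U.left, ⊤)) = 1 := by
    have := congrArg W.ι.appTop.hom hh
    rw [map_mul, map_zero, map_sub, map_one] at this
    have := hunitW.mul_right_eq_zero.1 this
    exact sub_eq_zero.1 this
  have hval : (i : ZMod n).val = i := ZMod.val_natCast_of_lt hi
  unfold pw
  rw [hval, ← unitAt_map ζ (openHom S U W), ← map_pow]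
  apply Units.ext
  change W.ι.appTop.hom (x : Γ(U.left, ⊤)) = W.ι.appTop.hom ((unitAt ζ U ^ i : (Γ(U.left, ⊤))ˣ) : Γ(U.left, ⊤))
  have h1 : (x : Γ(U.left, ⊤)) = (u : Γ(U.left, ⊤)) * ((unitAt ζ U ^ i : (Γ(U.left, ⊤))ˣ) : Γ(U.left, ⊤)) := by
    rw [← Units.val_mul]
    congr 1
    simp [u]
  rw [h1, map_mul, hu1, one_mul]

end Mu

set_option backward.isDefEq.respectTransparency.types false in
lemma mem_smallEtaleTopology_iff {S : Scheme.{u}} (U : S.Etale) (R : Sieve U) :
    R ∈ S.smallEtaleTopology U ↔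
      ∀ x : U.left, ∃ (Y : S.Etale) (f : Y ⟶ U) (y : Y.left), R f ∧ f.left y = x := by
  have h0 : S.smallEtaleTopology = (S.smallPretopology @Etale @Etale).toGrothendieck :=
    Scheme.smallGrothendieckTopology_eq_toGrothendieck_smallPretopology S le_rfl
  rw [h0]
  refine (Scheme.mem_toGrothendieck_smallPretopology (P := @Etale) (Q := @Etale) U R).trans ?_
  constructor
  · intro h x
    obtain ⟨Y, f, y, h1, -, h3⟩ := h x
    exact ⟨Y, f, y, h1, h3⟩
  · intro h x
    obtain ⟨Y, f, y, h1, h3⟩ := h x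
    exact ⟨Y, f, y, h1, inferInstance, h3⟩

section Main

set_option linter.unusedSectionVars false

variable (S : Scheme.{u}) (n : ℕ) [NeZero n] (ζ : (Γ(S, ⊤))ˣ) (hζ : ζ ^ n = 1)

/-- the constant presheaf with value `ℤ/n` -/
abbrev constPre : (S.Etale)ᵒᵖ ⥤ AddCommGrpCat.{u + 1} := (Functor.const _).obj (M n)

/-- `ℤ/n → G_m`, `a ↦ ζ^a`, on underlying presheaves -/
noncomputable def phiHom : sheafify S.smallEtaleTopology (constPre S n) ⟶ (EtCoh.Gm S).obj :=
  sheafifyLift S.smallEtaleTopology (phiPre S n ζ hζ) (EtCoh.Gm S).property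

/-- `ℤ/n → G_m`, `a ↦ ζ^a` -/
noncomputable def phi : EtCoh.const S (ZMod n) ⟶ EtCoh.Gm S :=
  ⟨phiHom S n ζ hζ⟩

lemma toSheafify_phiHom :
    toSheafify S.smallEtaleTopology (constPre S n) ≫ phiHom S n ζ hζ = phiPre S n ζ hζ :=
  toSheafify_sheafifyLift _ _ _

lemma phiPre_powMap : phiPre S n ζ hζ ≫ (EtCoh.powMap S n).hom = 0 := by
  ext U a
  change (EtCoh.powMap S n).hom.app U ((phiPre S n ζ hζ).app U a) = 0
  obtain ⟨U⟩ := U
  rw [powMap_app]
  apply (gmEquiv U).injective
  rw [gmEquiv_nsmul, gmEquiv_zero]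
  change ((gmEquiv U) ((gmEquiv U).symm (pw S n ζ U a.down))) ^ n = 1
  rw [Equiv.apply_symm_apply]
  unfold pw
  rw [← pow_mul, mul_comm, pow_mul, unitAt_pow S n ζ hζ U, one_pow]

lemma phiHom_powMap : phiHom S n ζ hζ ≫ (EtCoh.powMap S n).hom = 0 := by
  apply sheafify_hom_ext _ _ _ (EtCoh.Gm S).property
  rw [← Category.assoc, toSheafify_phiHom, phiPre_powMap, comp_zero]

lemma phi_powMap : phi S n ζ hζ ≫ EtCoh.powMap S n = 0 := by
  apply Sheaf.hom_ext
  exact phiHom_powMap S n ζ hζ

/-- `ℤ/n → μ_n` -/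
noncomputable def psi : EtCoh.const S (ZMod n) ⟶ EtCoh.mu S n :=
  kernel.lift (EtCoh.powMap S n) (phi S n ζ hζ) (phi_powMap S n ζ hζ)

lemma psi_ι : psi S n ζ hζ ≫ EtCoh.muι S n = phi S n ζ hζ :=
  kernel.lift_ι _ _ _

/-- `ℤ/n → μ_n` on underlying presheaves -/
noncomputable def psiHom : sheafify S.smallEtaleTopology (constPre S n) ⟶ (EtCoh.mu S n).obj :=
  (psi S n ζ hζ).hom

lemma psiHom_ι : psiHom S n ζ hζ ≫ (EtCoh.muι S n).hom = phiHom S n ζ hζ :=
  congrArg InducedCategory.Hom.hom (psi_ι S n ζ hζ)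

/-- the presheaf-level map `ℤ/n → μ_n` -/
noncomputable def theta : constPre S n ⟶ (EtCoh.mu S n).obj :=
  toSheafify S.smallEtaleTopology (constPre S n) ≫ psiHom S n ζ hζ

lemma theta_ι : theta S n ζ hζ ≫ (EtCoh.muι S n).hom = phiPre S n ζ hζ := by
  unfold theta
  rw [Category.assoc, psiHom_ι, toSheafify_phiHom]

lemma theta_ι_app (U : S.Etale) (t : (constPre S n).obj (op U)) :
    (EtCoh.muι S n).hom.app (op U) ((theta S n ζ hζ).app (op U) t) =
      (phiPre S n ζ hζ).app (op U) t := by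
  rw [← theta_ι S n ζ hζ]
  rfl

lemma muι_app_injective (U : S.Etale) :
    Function.Injective ((EtCoh.muι S n).hom.app (op U)) :=
  kernel_ι_app_injective (EtCoh.powMap S n) U

lemma phiPre_app (U : S.Etale) (t : (constPre S n).obj (op U)) :
    (phiPre S n ζ hζ).app (op U) t = (gmEquiv U).symm (pw S n ζ U t.down) := rfl

variable (hcyc : Polynomial.aeval (ζ : Γ(S, ⊤)) (Polynomial.cyclotomic n ℤ) = 0)
  (hunit : IsUnit (n : Γ(S, ⊤)))

include hcyc hunit in
lemma isLocallyInjective_theta :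
    Presheaf.IsLocallyInjective S.smallEtaleTopology (theta S n ζ hζ) where
  equalizerSieve_mem {X} x y h := by
    obtain ⟨U⟩ := X
    by_cases hxy : x = y
    · subst hxy
      rw [Presheaf.equalizerSieve_self_eq_top]
      exact S.smallEtaleTopology.top_mem _
    · have h1 := congrArg ((EtCoh.muι S n).hom.app (op U)) h
      rw [theta_ι_app, theta_ι_app, phiPre_app, phiPre_app] at h1
      have h2 := (gmEquiv U).symm.injective h1
      have hne : x.down ≠ y.down := fun h3 => hxy (ULift.ext _ _ h3)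
      have := isEmpty_of_pw_eq S n ζ hcyc hunit U _ _ hne h2
      rw [mem_smallEtaleTopology_iff]
      intro p
      exact (this.false p).elim

lemma muι_powMap_app (U : S.Etale) (s : (EtCoh.mu S n).obj.obj (op U)) :
    (EtCoh.powMap S n).hom.app (op U) ((EtCoh.muι S n).hom.app (op U) s) = 0 := by
  have h : EtCoh.muι S n ≫ EtCoh.powMap S n = 0 := kernel.condition _
  have h2 := congrArg InducedCategory.Hom.hom h
  have h3 : ((EtCoh.muι S n ≫ EtCoh.powMap S n).hom.app (op U)) s =
      ((0 : EtCoh.mu S n ⟶ EtCoh.Gm S).hom.app (op U)) s := by rw [h]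
  exact h3

include hcyc hunit in
lemma isLocallySurjective_theta :
    Presheaf.IsLocallySurjective S.smallEtaleTopology (theta S n ζ hζ) where
  imageSieve_mem {U} s := by
    rw [mem_smallEtaleTopology_iff]
    intro p
    let x : (Γ(U.left, ⊤))ˣ := gmEquiv U ((EtCoh.muι S n).hom.app (op U) s)
    have hx : x ^ n = 1 := by
      have h := muι_powMap_app S n U s
      rw [powMap_app] at h
      have h2 := congrArg (gmEquiv U) h
      rw [gmEquiv_nsmul, gmEquiv_zero] at h2
      exact h2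
    obtain ⟨V, g, v, a, hv, hga⟩ := exists_local_pw S n ζ hcyc hunit U x hx p
    refine ⟨V, g, v, ?_, hv⟩
    refine ⟨(⟨a⟩ : ULift.{u + 1} (ZMod n)), ?_⟩
    apply muι_app_injective S n V
    rw [theta_ι_app, phiPre_app]
    have hnat : (EtCoh.muι S n).hom.app (op V) ((EtCoh.mu S n).obj.map g.op s) =
        (EtCoh.Gm S).obj.map g.op ((EtCoh.muι S n).hom.app (op U) s) :=
      NatTrans.naturality_apply (EtCoh.muι S n).hom g.op s
    rw [hnat]
    apply (gmEquiv V).injective
    rw [Equiv.apply_symm_apply, gmEquiv_map]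
    exact hga.symm

instance : S.smallEtaleTopology.WEqualsLocallyBijective AddCommGrpCat.{u + 1} := inferInstance

include hcyc hunit in
lemma isIso_psi : IsIso (psi S n ζ hζ) := by
  have h1 := isLocallyInjective_theta S n ζ hζ hcyc hunit
  have h2 := isLocallySurjective_theta S n ζ hζ hcyc hunit
  unfold theta at h1 h2
  rw [Presheaf.comp_isLocallyInjective_iff] at h1
  rw [Presheaf.comp_isLocallySurjective_iff] at h2
  exact (Sheaf.isLocallyBijective_iff_isIso (J := S.smallEtaleTopology)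
    (A := AddCommGrpCat.{u + 1}) (psi S n ζ hζ)).1 ⟨h1, h2⟩

include hζ hcyc hunit in
/-- `μ_n ≅ ℤ/n` -/
lemma nonempty_muIsoConst : Nonempty (EtCoh.mu S n ≅ EtCoh.const S (ZMod n)) := by
  have := isIso_psi S n ζ hζ hcyc hunit
  exact ⟨(asIso (psi S n ζ hζ)).symm⟩

end Main

/-- `μ_n ≅ ℤ/n` on the small étale site of a scheme on which `n` is invertible and which has a
root of the `n`-th cyclotomic polynomial -/
theorem nonempty_mu_iso_const (S : Scheme.{u}) (n : ℕ) (hn : 1 ≤ n)
    (hunit : IsUnit (n : Γ(S, ⊤))) (ζ : Γ(S, ⊤))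
    (hζ : Polynomial.aeval ζ (Polynomial.cyclotomic n ℤ) = 0) :
    Nonempty (EtCoh.mu S n ≅ EtCoh.const S (ZMod n)) := by
  have : NeZero n := ⟨by omega⟩
  have h1 : ζ ^ n = 1 := pow_eq_one_of_aeval_cyclotomic ζ hζ
  have hu : IsUnit ζ := by
    refine IsUnit.of_pow_eq_one h1 (NeZero.ne n)
  obtain ⟨z, rfl⟩ := hu
  have hz : z ^ n = 1 := by
    apply Units.ext
    rw [Units.val_pow_eq_pow_val, Units.val_one]
    exact h1
  exact nonempty_muIsoConst S n z hz hζ hunit





end Groth.Agent.R2.H61.EtGm
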