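import Mathlib
import Groth.Prelude.Def_RelProj
import Groth.Prelude.Def_RelProj2
import Groth.Agent.Lib.Helper13SymAlg
import Groth.Agent.Lib.Helper13ProjExist
import Groth.Agent.Lib.Helper2RelTwistExist
import Groth.Agent.R2.H21GrAlg

/-!
# helper61: the GRADED symmetric algebra of a quasi-coherent module, and the projective bundle `P(E)`

* `symPow R M n`, `gradedAlgebra R M` : the grading of `SymmetricAlgebra R M` by the powers of the range of `ι`
  (not in Mathlib at this pin; same proof as for the exterior algebra).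
* `symMap_mem` : semilinear functoriality preserves the grading.
* `grSymAlg E : RelProj.QCGrAlg S` (underlying algebra: helper13's `symAlg E`), `isGrSymAlg E`.
* `exists_isGrSymAlg`, `exists_projBundle` : for a quasi-coherent `E` the graded symmetric algebra, its relative
  `Proj` `P(E)` with charts and the fundamental sheaf `O(1)` exist.
-/

set_option autoImplicit false
universe u

namespace Groth.Agent.R2.H61.GrSym

open scoped DirectSum

section Alg

variable (R : Type*) (M : Type*) [CommRing R] [AddCommGroup M] [Module R M]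

/-- the degree-`n` piece of the symmetric algebra -/
def symPow (n : ℕ) : Submodule R (SymmetricAlgebra R M) :=
  (LinearMap.range (SymmetricAlgebra.ι R M)) ^ n

instance : SetLike.GradedMonoid (symPow R M) :=
  Submodule.nat_power_gradedMonoid (LinearMap.range (SymmetricAlgebra.ι R M))

theorem ι_mem_symPow_one (m : M) : SymmetricAlgebra.ι R M m ∈ symPow R M 1 := by
  unfold symPow
  simpa only [pow_one] using LinearMap.mem_range_self _ m

theorem algebraMap_mem_symPow_zero (r : R) :
    algebraMap R (SymmetricAlgebra R M) r ∈ symPow R M 0 := by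
  unfold symPow
  rw [pow_zero]
  exact Submodule.algebraMap_mem r

/-- `ι` into the graded structure -/
def grι : M →ₗ[R] ⨁ i : ℕ, symPow R M i :=
  DirectSum.lof R ℕ (fun i => symPow R M i) 1 ∘ₗ
    (SymmetricAlgebra.ι R M).codRestrict _ (ι_mem_symPow_one R M)

theorem grι_apply (m : M) :
    grι R M m = DirectSum.of (fun i : ℕ => symPow R M i) 1
      ⟨SymmetricAlgebra.ι R M m, ι_mem_symPow_one R M m⟩ := rfl

/-- the lift of `grι` to the symmetric algebra -/
def liftι : SymmetricAlgebra R M →ₐ[R] ⨁ i : ℕ, symPow R M i :=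
  SymmetricAlgebra.lift (grι R M)

theorem liftι_eq (i : ℕ) (x : symPow R M i) :
    liftι R M x = DirectSum.of (fun i => symPow R M i) i x := by
  obtain ⟨x, hx⟩ := x
  dsimp only [Subtype.coe_mk, DirectSum.lof_eq_of]
  unfold symPow at hx
  induction hx using Submodule.pow_induction_on_left' with
  | algebraMap => simp_rw [AlgHom.commutes, DirectSum.algebraMap_apply]; rfl
  | add _ _ _ _ _ ihx ihy => simp_rw [map_add, ihx, ihy, ← map_add]; rfl
  | mem_mul _ hm _ _ _ ih =>
      obtain ⟨_, rfl⟩ := hm
      simp_rw [map_mul, ih, liftι, SymmetricAlgebra.lift_ι_apply, grι_apply R M,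
        DirectSum.of_mul_of]
      exact DirectSum.of_eq_of_gradedMonoid_eq (Sigma.subtype_ext (add_comm _ _) rfl)

/-- the symmetric algebra is graded by the powers of the range of `ι`. -/
instance gradedAlgebra : GradedAlgebra (symPow R M) :=
  GradedAlgebra.ofAlgHom _ (liftι R M)
    (by
      ext m
      change DirectSum.coeAlgHom (symPow R M) (liftι R M (SymmetricAlgebra.ι R M m)) =
        SymmetricAlgebra.ι R M m
      unfold liftι
      rw [SymmetricAlgebra.lift_ι_apply, grι_apply R M, DirectSum.coeAlgHom_of])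
    (by apply liftι_eq R M)

end Alg

section Map

open Groth.Agent.Helper13SymLoc

variable {R R' : Type u} {M M' : Type u} [CommRing R] [CommRing R'] [AddCommGroup M] [Module R M]
  [AddCommGroup M'] [Module R' M']

/-- semilinear functoriality of the symmetric algebra preserves the grading -/
theorem symMap_mem (φ : R →+* R') (f : M →+ M') (hf : ∀ (a : R) (m : M), f (a • m) = φ a • f m)
    {n : ℕ} {x : SymmetricAlgebra R M} (hx : x ∈ symPow R M n) :
    symMap φ f hf x ∈ symPow R' M' n := by
  unfold symPow at hx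
  induction hx using Submodule.pow_induction_on_left' with
  | algebraMap r =>
    rw [symMap_algebraMap]
    exact algebraMap_mem_symPow_zero R' M' _
  | add x y i hx hy ihx ihy =>
    rw [map_add]
    exact Submodule.add_mem _ ihx ihy
  | mem_mul m hm i x hx ih =>
    obtain ⟨m, rfl⟩ := hm
    rw [map_mul, symMap_ι]
    have h1 := SetLike.mul_mem_graded (A := symPow R' M') (ι_mem_symPow_one R' M' (f m)) ih
    rw [add_comm] at h1
    exact h1

end Map

open CategoryTheory CategoryTheory.Limits AlgebraicGeometry Opposite TopologicalSpace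
open Scheme.AffineZariskiSite Groth.Agent.Helper13SymLoc Groth.Agent.Helper13SymAlg

noncomputable section Sheaf

variable {S : Scheme.{u}} (E : S.Modules)

/-- the presheaf `U ↦ Sym_{O(U)} E(U)` on all opens -/
def symPre : TopCat.Presheaf CommRingCat.{u} S.carrier where
  obj U := CommRingCat.of (SymmetricAlgebra Γ(S, U.unop) Γ(E, U.unop))
  map i := CommRingCat.ofHom (symRes E (leOfHom i.unop))
  map_id U := by
    have := symRes_id E U.unop
    ext1
    exact this
  map_comp i j := by
    have := symRes_comp E (leOfHom i.unop) (leOfHom j.unop)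
    ext1
    exact this.symm

/-- the structure map of `symPre` -/
def symPreStr : S.presheaf ⟶ symPre E where
  app U := symStrApp E U.unop
  naturality _ _ i := symStrApp_naturality E (leOfHom i.unop)

variable [E.IsQuasicoherent]

theorem isQC_symPre : RelSpec.IsQC (symPre E) (symPreStr E) := by
  intro U hU r
  have h := (coequifibered_iff_forall_isLocalizationAway (α := symStr E)).1
    (coequifibered_symStr E) ⟨U, hU⟩ r
  exact h

open Groth.Agent.R2.H21.QCSh Groth.Agent.R2.H21.GrAlg

theorem shAlg_eq : shAlg (symPre E) (symPreStr E) (isQC_symPre E) = symAlg E := rfl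

/-- the degree-`d` part of `symPre` over an affine open -/
def preDeg (U : S.Opens) (_ : IsAffineOpen U) (d : ℕ) : AddSubgroup ((symPre E).obj (op U)) :=
  (symPow Γ(S, U) Γ(E, U) d).toAddSubgroup

/-- the grading of `symPre` over an affine open -/
@[instance_reducible]
def preGraded (U : S.Opens) (hU : IsAffineOpen U) : GradedRing (preDeg E U hU) :=
  gradedRingOfEquiv (RingEquiv.refl (SymmetricAlgebra Γ(S, U) Γ(E, U)))
    (symPow Γ(S, U) Γ(E, U)) (preDeg E U hU) (fun _ _ => Iff.rfl)

/-- the graded symmetric algebra of a quasi-coherent module -/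
def grSymAlg : RelProj.QCGrAlg S :=
  shGrAlg (symPre E) (symPreStr E) (isQC_symPre E) (preDeg E) (preGraded E)
    (fun _ _ _ _ _ hx => symMap_mem _ _ _ hx)
    (fun _ _ r => algebraMap_mem_symPow_zero _ _ r)

theorem grSymAlg_toQCAlg : (grSymAlg E).toQCAlg = symAlg E := rfl

theorem mem_deg_iff (U : S.Opens) (hU : IsAffineOpen U) (d : ℕ)
    (x : (symAlg E).presheaf.obj (op U)) :
    x ∈ (grSymAlg E).deg U hU d ↔
      (Groth.Agent.Helper13SymAlg.γ E U hU).hom x ∈ symPow Γ(S, U) Γ(E, U) d := Iff.rfl

/-- the universal map into the graded symmetric algebra -/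
def grJ : E ⟶ (grSymAlg E).toModule := j E

theorem isGrSymAlg : RelProj.IsGrSymAlg E (grSymAlg E) (grJ E) := by
  refine ⟨isSymAlg E, fun U hU x => ?_⟩
  have h0 : ((grJ E).app U) x = jAff E U hU x := by
    change ((j E).app U) x = _
    rw [j_app E U hU]
  rw [h0]
  have key : (inv (Groth.Agent.Helper13SymAlg.γ E U hU)).hom
      (SymmetricAlgebra.ι Γ(S, U) Γ(E, U) x) ∈ (grSymAlg E).deg U hU 1 := by
    rw [mem_deg_iff, γ_inv_γ]
    exact ι_mem_symPow_one _ _ x
  exact key

end Sheaf

section Exist

variable {S : Scheme.{u}}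

/-- **existence of the graded symmetric algebra** of a quasi-coherent module. -/
theorem exists_isGrSymAlg (E : S.Modules) (hE : Coh.IsQCoh E) :
    ∃ (𝒮 : RelProj.QCGrAlg S) (j : E ⟶ 𝒮.toModule), RelProj.IsGrSymAlg E 𝒮 j := by
  have : E.IsQuasicoherent := hE
  exact ⟨grSymAlg E, grJ E, isGrSymAlg E⟩

/-- **existence of the projective bundle** `P(E)` with its fundamental sheaf `O(1)`. -/
theorem exists_projBundle (E : S.Modules) (hE : Coh.IsQCoh E) :
    ∃ (𝒮 : RelProj.QCGrAlg S) (j : E ⟶ 𝒮.toModule) (_ : RelProj.IsGrSymAlg E 𝒮 j)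
      (P : Scheme.{u}) (p : P ⟶ S)
      (chart : ∀ (U : S.Opens) (hU : IsAffineOpen U),
        (((p ⁻¹ᵁ U : P.Opens) : Scheme.{u}) ≅ Proj (𝒮.deg U hU)))
      (_ : RelProj.IsRelProj 𝒮 p chart) (O1 : P.Modules)
      (lam : ∀ (U : S.Opens) (hU : IsAffineOpen U),
        O1 ⟶ (Scheme.Modules.pushforward (RelProj.emb p chart U hU)).obj
          (GrTwist.twist (𝒮.deg U hU) 1)),
      RelProj.IsRelTwist 𝒮 p chart 1 O1 lam := by
  obtain ⟨𝒮, j, hj⟩ := exists_isGrSymAlg E hE
  have hP := Groth.Agent.Helper13ProjBC.isRelProj_relProj 𝒮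
  obtain ⟨O1, lam, h1⟩ := Groth.Agent.Lib.Helper2.RelTwistExist.exists_isRelTwist
    (Groth.Agent.Helper13ProjBC.relProjπ 𝒮) (Groth.Agent.Helper13ProjBC.relProjChart 𝒮) hP 1
  exact ⟨𝒮, j, hj, _, _, _, hP, O1, lam, h1⟩

end Exist

end Groth.Agent.R2.H61.GrSym
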