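import Mathlib
import Groth.Prelude.Def_DRing4
import Groth.Agent.R2.H61HT1
set_option backward.isDefEq.respectTransparency.types false

/-!
# `Hom•(-, J)` as a contravariant functor on complexes (helper61)

* `homCxPre k J : Hom•(E', J) ⟶ Hom•(E, J)` for `k : E ⟶ E'`;
* `homCxPre_evCx`: dinaturality of the evaluation map `evCx`;
* `shortExact_homCxPre`: `Hom•(-, J)` sends degreewise split short exact sequences to short exact
  sequences.
-/

set_option autoImplicit false
universe u
open CategoryTheory CategoryTheory.Limits MonoidalCategory HomologicalComplex CochainComplex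
  CochainComplex.HomComplex

namespace Groth.Agent.R2.H61.HT2

open Groth.Agent.Lib.Helper1.KF Groth.Agent.R2.H61.HT1

variable {A : Type u} [CommRing A]

/-- precomposition with a family of morphisms, as a linear map on cochains -/
noncomputable def preFam {E E' : Cx A} (t : ∀ q, E.X q ⟶ E'.X q) (J : Cx A) (i : ℤ) :
    Cochain E' J i →ₗ[A] Cochain E J i where
  toFun z := (Cochain.ofHoms t).comp z (zero_add i)
  map_add' z z' := by simp
  map_smul' a z := by simp

lemma preFam_apply_v {E E' : Cx A} (t : ∀ q, E.X q ⟶ E'.X q) (J : Cx A) (i : ℤ)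
    (z : Cochain E' J i) (p q : ℤ) (hpq : p + i = q) :
    (preFam t J i z).v p q hpq = t p ≫ z.v p q hpq := by
  show ((Cochain.ofHoms t).comp z (zero_add i)).v p q hpq = _
  rw [Cochain.zero_cochain_comp_v, Cochain.ofHoms_v]

/-- precomposition with a chain map, as a linear map on cochains -/
noncomputable def precompLin {E E' : Cx A} (k : E ⟶ E') (J : Cx A) (i : ℤ) :
    Cochain E' J i →ₗ[A] Cochain E J i where
  toFun z := (Cochain.ofHom k).comp z (zero_add i)
  map_add' z z' := by simp
  map_smul' a z := by simp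

lemma precompLin_apply_v {E E' : Cx A} (k : E ⟶ E') (J : Cx A) (i : ℤ)
    (z : Cochain E' J i) (p q : ℤ) (hpq : p + i = q) :
    (precompLin k J i z).v p q hpq = k.f p ≫ z.v p q hpq := by
  show ((Cochain.ofHom k).comp z (zero_add i)).v p q hpq = _
  rw [Cochain.zero_cochain_comp_v, Cochain.ofHom_v]

/-- Functoriality of `Hom•(-, J)` in the first variable. -/
noncomputable def homCxPre {E E' : Cx A} (k : E ⟶ E') (J : Cx A) :
    DRing.homCx E' J ⟶ DRing.homCx E J where
  f i := ModuleCat.ofHom (precompLin k J i)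
  comm' i j _ := by
    ext z
    change δ i j ((Cochain.ofHom k).comp z (zero_add i)) =
      (Cochain.ofHom k).comp (δ i j z) (zero_add j)
    exact δ_ofHom_comp k z j

lemma homCxPre_f_apply {E E' : Cx A} (k : E ⟶ E') (J : Cx A) (i : ℤ) (z : Cochain E' J i) :
    ((homCxPre k J).f i).hom z = precompLin k J i z := rfl

lemma homCxPre_comp {E E' E'' : Cx A} (k : E ⟶ E') (k' : E' ⟶ E'') (J : Cx A) :
    homCxPre (k ≫ k') J = homCxPre k' J ≫ homCxPre k J := by
  refine HomologicalComplex.hom_ext _ _ fun i =>
    ModuleCat.hom_ext (LinearMap.ext fun (z : Cochain E'' J i) => ?_)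
  refine Cochain.ext _ _ (fun p q hpq => ?_)
  show (precompLin (k ≫ k') J i z).v p q hpq = (precompLin k J i (precompLin k' J i z)).v p q hpq
  rw [precompLin_apply_v, precompLin_apply_v, precompLin_apply_v, HomologicalComplex.comp_f,
    Category.assoc]

lemma homCxPre_zero {E E' : Cx A} (J : Cx A) : homCxPre (0 : E ⟶ E') J = 0 := by
  refine HomologicalComplex.hom_ext _ _ fun i =>
    ModuleCat.hom_ext (LinearMap.ext fun (z : Cochain E' J i) => ?_)
  refine Cochain.ext _ _ (fun p q hpq => ?_)
  show (precompLin (0 : E ⟶ E') J i z).v p q hpq = (0 : Cochain E J i).v p q hpq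
  rw [precompLin_apply_v, HomologicalComplex.zero_f, zero_comp, Cochain.zero_v]

/-- dinaturality of the evaluation map -/
lemma homCxPre_evCx {E E' : Cx A} (k : E ⟶ E') (J : Cx A) :
    (homCxPre k J ▷ E) ≫ evCx E J = (DRing.homCx E' J ◁ k) ≫ evCx E' J := by
  ext m : 1
  apply tensor_ext_apply
  intro p q hpq z e
  change Cochain E' J p at z
  simp only [HomologicalComplex.comp_f, ModuleCat.hom_comp, LinearMap.comp_apply]
  have h := ι_whiskerRight (homCxPre k J) E p q m hpq
  have h2 := congrArg (fun t => t.hom (z ⊗ₜ[A] e)) h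
  simp only [ModuleCat.hom_comp, LinearMap.comp_apply] at h2
  have h' := ι_whiskerLeft (DRing.homCx E' J) k p q m hpq
  have h2' := congrArg (fun t => t.hom (z ⊗ₜ[A] e)) h'
  simp only [ModuleCat.hom_comp, LinearMap.comp_apply] at h2'
  rw [h2, h2']
  erw [evCx_f_apply p q m hpq _ e, evCx_f_apply p q m hpq z _]
  erw [precompLin_apply_v]
  rfl

/-! ### Degreewise split short exact sequences -/

/-- `Hom•(-, J)` turns degreewise splittings into splittings (unbundled version). -/
noncomputable def homCxPreSplitting {X₁ X₂ X₃ : Cx A} (f : X₁ ⟶ X₂) (g : X₂ ⟶ X₃)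
    (w : f ≫ g = 0) (J : Cx A) (r : ∀ q, X₂.X q ⟶ X₁.X q) (s : ∀ q, X₃.X q ⟶ X₂.X q)
    (f_r : ∀ q, f.f q ≫ r q = 𝟙 _) (s_g : ∀ q, s q ≫ g.f q = 𝟙 _)
    (id : ∀ q, r q ≫ f.f q + g.f q ≫ s q = 𝟙 _) (i : ℤ) :
    ((ShortComplex.mk (homCxPre g J) (homCxPre f J)
      (by rw [← homCxPre_comp, w, homCxPre_zero])).map
        (HomologicalComplex.eval _ _ i)).Splitting where
  r := ModuleCat.ofHom (preFam s J i)
  s := ModuleCat.ofHom (preFam r J i)
  f_r := by
    apply ModuleCat.hom_ext
    apply LinearMap.ext
    intro z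
    change Cochain X₃ J i at z
    show preFam s J i (precompLin g J i z) = z
    refine Cochain.ext _ _ (fun p q hpq => ?_)
    rw [preFam_apply_v, precompLin_apply_v, ← Category.assoc, s_g, Category.id_comp]
  s_g := by
    apply ModuleCat.hom_ext
    apply LinearMap.ext
    intro z
    change Cochain X₁ J i at z
    show precompLin f J i (preFam r J i z) = z
    refine Cochain.ext _ _ (fun p q hpq => ?_)
    rw [precompLin_apply_v, preFam_apply_v, ← Category.assoc, f_r, Category.id_comp]
  id := by
    apply ModuleCat.hom_ext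
    apply LinearMap.ext
    intro z
    change Cochain X₂ J i at z
    show precompLin g J i (preFam s J i z) + preFam r J i (precompLin f J i z) = z
    refine Cochain.ext _ _ (fun p q hpq => ?_)
    rw [Cochain.add_v, precompLin_apply_v, preFam_apply_v, preFam_apply_v,
      precompLin_apply_v, ← Category.assoc, ← Category.assoc, ← Preadditive.add_comp,
      add_comm, id, Category.id_comp]

/-- the short complex `Hom•(X₃, J) ⟶ Hom•(X₂, J) ⟶ Hom•(X₁, J)` -/
noncomputable def homSC (S : ShortComplex (Cx A)) (J : Cx A) : ShortComplex (Cx A) :=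
  ShortComplex.mk (homCxPre S.g J) (homCxPre S.f J)
    (by rw [← homCxPre_comp, S.zero, homCxPre_zero])

lemma shortExact_homSC (S : ShortComplex (Cx A)) (J : Cx A)
    (σ : ∀ n, (S.map (HomologicalComplex.eval _ _ n)).Splitting) :
    (homSC S J).ShortExact :=
  HomologicalComplex.shortExact_of_degreewise_shortExact _
    (fun i => (homCxPreSplitting S.f S.g S.zero J (fun q => (σ q).r) (fun q => (σ q).s)
      (fun q => (σ q).f_r) (fun q => (σ q).s_g) (fun q => (σ q).id) i).shortExact)

end Groth.Agent.R2.H61.HT2
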