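import Mathlib
import Groth.Prelude.Def_DTen3
import Groth.Agent.R2.H61HT2
import Groth.Agent.R2.H61DT2
import Groth.Agent.Lib.Helper17KInjD1
import Groth.Agent.Lib.Helper17DBrown1
set_option backward.isDefEq.respectTransparency.types false

/-!
# `RHom(QE, QJ) ≅ Q(Hom•(E, J))` for `J` K-injective, and first-slot exactness of `RHom` (helper61)

* `ψ E J : Q(Hom•(E, J)) ⟶ RHom(QE, QJ)`, the adjunct of the evaluation map; an isomorphism for
  `J` K-injective (`isIso_ψ`); natural in `E` (`ψ_naturality`).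
* `weak_RHom_first`: for a distinguished triangle `(f, g, h)` of `D(A)` and `L ∈ D(A)` there is `δ`
  such that `(RHom(g, L), RHom(f, L), δ)` is distinguished.
-/

set_option autoImplicit false
set_option linter.style.haveILetI false
universe u
open CategoryTheory CategoryTheory.Limits MonoidalCategory HomologicalComplex
  CategoryTheory.Pretriangulated
attribute [local instance] HasDerivedCategory.standard

namespace Groth.Agent.R2.H61.HT3

open DerivedCategory DTen Groth.Agent.Lib.Helper1.KF Groth.Agent.Lib.Helper1.DT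
  Groth.Agent.R2.H61.DT1 Groth.Agent.R2.H61.DT2 Groth.Agent.R2.H61.HT1 Groth.Agent.R2.H61.HT2
  Groth.Agent.Lib.Helper17.KInj

variable {A : Type u} [CommRing A] [HasLTen A]

/-- the evaluation map `Q(Hom•(E, J)) ⊗^L QE ⟶ QJ` -/
noncomputable def evD (E J : Cx A) :
    (LTen₂ A).obj (Q.obj (DRing.homCx E J), Q.obj E) ⟶ Q.obj J :=
  (ε A).app (DRing.homCx E J, E) ≫ Q.map (evCx E J)

/-- `a ↦ (a ⊗ id) ≫ evD` on maps `QP ⟶ Q(Hom•(E, J))` -/
lemma tensor_map_Q_evD {P E J : Cx A} (α : P ⟶ DRing.homCx E J) :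
    (tensorRightD A (Q.obj E)).map (Q.map α) ≫ evD E J =
      (ε A).app (P, E) ≫ Q.map (uncHom α) := by
  have h := (ε A).naturality (Prod.mkHom α (𝟙 E) : (P, E) ⟶ (DRing.homCx E J, E))
  have h1 : (tensorRightD A (Q.obj E)).map (Q.map α) =
      (QQ A ⋙ LTen₂ A).map (Prod.mkHom α (𝟙 E) : (P, E) ⟶ (DRing.homCx E J, E)) := by
    show (LTen₂ A).map _ = (LTen₂ A).map _
    congr 1
    show Prod.mkHom (Q.map α) (𝟙 (Q.obj E)) = Prod.mkHom (Q.map α) (Q.map (𝟙 E))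
    rw [CategoryTheory.Functor.map_id]
  have h2 : (tensor₂ A).map (Prod.mkHom α (𝟙 E) : (P, E) ⟶ (DRing.homCx E J, E)) =
      Q.map (α ▷ E) := by
    show Q.map _ = Q.map _
    congr 1
    show (α ▷ E) ≫ (_ ◁ 𝟙 E) = α ▷ E
    simp
  rw [evD, ← Category.assoc, h1, h, h2, Category.assoc, ← Functor.map_comp, ← uncHom_eq]

lemma bijective_tensor_evD (P E J : Cx A) [P.IsKProjective] [J.IsKInjective] :
    Function.Bijective (fun a : Q.obj P ⟶ Q.obj (DRing.homCx E J) =>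
      (tensorRightD A (Q.obj E)).map a ≫ evD E J) := by
  haveI : IsIso ((ε A).app (P, E)) := isIso_ε_of_kflat P E (Or.inl (kflat_of_isKProjective P))
  constructor
  · intro a a' h
    obtain ⟨α, rfl⟩ := Q_map_surjective P _ a
    obtain ⟨α', rfl⟩ := Q_map_surjective P _ a'
    simp only [tensor_map_Q_evD] at h
    have h1 : Q.map (uncHom α) = Q.map (uncHom α') := (cancel_epi _).1 h
    obtain ⟨h2⟩ := Groth.Agent.Lib.Helper17.KInj.homotopy_of_Q_map_eq h1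
    obtain ⟨h3⟩ := homotopy_of_uncHom h2
    exact Q_map_eq_of_homotopy h3
  · intro b
    obtain ⟨β, hβ⟩ := exists_Q_map_eq (inv ((ε A).app (P, E)) ≫ b)
    refine ⟨Q.map (curHom β), ?_⟩
    show (tensorRightD A (Q.obj E)).map (Q.map (curHom β)) ≫ evD E J = b
    rw [tensor_map_Q_evD, uncHom_curHom, hβ, IsIso.hom_inv_id_assoc]

variable [HasRHom A]

/-- the comparison map `Q(Hom•(E, J)) ⟶ RHom(QE, QJ)` -/
noncomputable def ψ (E J : Cx A) :
    Q.obj (DRing.homCx E J) ⟶ (RHomR A (Q.obj E)).obj (Q.obj J) :=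
  (rhomAdj A (Q.obj E)).homEquiv _ _ (evD E J)

lemma comp_ψ {W : Dual.D A} (E J : Cx A) (a : W ⟶ Q.obj (DRing.homCx E J)) :
    a ≫ ψ E J = (rhomAdj A (Q.obj E)).homEquiv _ _
      ((tensorRightD A (Q.obj E)).map a ≫ evD E J) := by
  rw [ψ, Adjunction.homEquiv_naturality_left]

theorem isIso_ψ (E J : Cx A) [J.IsKInjective] : IsIso (ψ E J) := by
  apply isIso_of_yoneda_map_bijective
  intro W
  obtain ⟨P, hP, -, ⟨e⟩⟩ := exists_kproj_iso W
  have h1 : Function.Bijective (fun a : Q.obj P ⟶ Q.obj (DRing.homCx E J) => a ≫ ψ E J) := by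
    have : (fun a : Q.obj P ⟶ Q.obj (DRing.homCx E J) => a ≫ ψ E J) =
        (rhomAdj A (Q.obj E)).homEquiv _ _ ∘
          (fun a : Q.obj P ⟶ Q.obj (DRing.homCx E J) =>
            (tensorRightD A (Q.obj E)).map a ≫ evD E J) := by
      funext a
      exact comp_ψ E J a
    rw [this]
    exact (Equiv.bijective _).comp (bijective_tensor_evD P E J)
  have h2 : (fun x : W ⟶ Q.obj (DRing.homCx E J) => x ≫ ψ E J) =
      (fun y : Q.obj P ⟶ (RHomR A (Q.obj E)).obj (Q.obj J) => e.inv ≫ y) ∘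
        (fun a : Q.obj P ⟶ Q.obj (DRing.homCx E J) => a ≫ ψ E J) ∘
          (fun x : W ⟶ Q.obj (DRing.homCx E J) => e.hom ≫ x) := by
    funext x
    simp
  rw [h2]
  refine Function.Bijective.comp ?_ (Function.Bijective.comp h1 ?_)
  · exact ⟨fun y y' h => (cancel_epi e.inv).1 h, fun y => ⟨e.hom ≫ y, by simp⟩⟩
  · exact ⟨fun y y' h => (cancel_epi e.hom).1 h, fun y => ⟨e.inv ≫ y, by simp⟩⟩

omit [HasRHom A] in
lemma map_comp_mk {a a' a'' b b' b'' : Dual.D A} (f : a ⟶ a') (f' : a' ⟶ a'') (g : b ⟶ b')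
    (g' : b' ⟶ b'') :
    (LTen₂ A).map (Prod.mkHom f g) ≫ (LTen₂ A).map (Prod.mkHom f' g') =
      (LTen₂ A).map (Prod.mkHom (f ≫ f') (g ≫ g')) := by
  rw [← Functor.map_comp]
  rfl

omit [HasRHom A] in
lemma tensorRightD_map {K K' : Dual.D A} (N : Dual.D A) (k : K ⟶ K') :
    (tensorRightD A N).map k = (LTen₂ A).map (Prod.mkHom k (𝟙 N)) := rfl

lemma rhom_homEquiv_symm (M : Dual.D A) {X Y : Dual.D A} (g : X ⟶ (RHomR A M).obj Y) :
    ((rhomAdj A M).homEquiv X Y).symm g = (LTen₂ A).map (Prod.mkHom g (𝟙 M)) ≫ ev M Y :=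
  Adjunction.homEquiv_counit _ _ _ _

lemma ψ_ev (E J : Cx A) :
    (LTen₂ A).map (Prod.mkHom (ψ E J) (𝟙 (Q.obj E))) ≫ ev (Q.obj E) (Q.obj J) = evD E J := by
  rw [← rhom_homEquiv_symm]
  exact Equiv.symm_apply_apply _ _

omit [HasRHom A] in
/-- `(id ⊗ Qk) ≫ evD E' J` in terms of complexes -/
lemma map_Q_evD {E E' : Cx A} (k : E ⟶ E') (J : Cx A) :
    (LTen₂ A).map (Prod.mkHom (𝟙 (Q.obj (DRing.homCx E' J))) (Q.map k)) ≫ evD E' J =
      (ε A).app (DRing.homCx E' J, E) ≫ Q.map ((DRing.homCx E' J ◁ k) ≫ evCx E' J) := by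
  have h := (ε A).naturality
    (Prod.mkHom (𝟙 (DRing.homCx E' J)) k : (DRing.homCx E' J, E) ⟶ (DRing.homCx E' J, E'))
  have h1 : (LTen₂ A).map (Prod.mkHom (𝟙 (Q.obj (DRing.homCx E' J))) (Q.map k)) =
      (QQ A ⋙ LTen₂ A).map
        (Prod.mkHom (𝟙 (DRing.homCx E' J)) k : (DRing.homCx E' J, E) ⟶ (DRing.homCx E' J, E')) := by
    show (LTen₂ A).map _ = (LTen₂ A).map _
    congr 1
    show Prod.mkHom (𝟙 (Q.obj _)) (Q.map k) = Prod.mkHom (Q.map (𝟙 _)) (Q.map k)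
    rw [CategoryTheory.Functor.map_id]
  have h2 : (tensor₂ A).map
      (Prod.mkHom (𝟙 (DRing.homCx E' J)) k : (DRing.homCx E' J, E) ⟶ (DRing.homCx E' J, E')) =
      Q.map (DRing.homCx E' J ◁ k) := by
    show Q.map _ = Q.map _
    congr 1
    show (𝟙 _ ▷ E) ≫ (_ ◁ k) = _ ◁ k
    simp
  rw [evD, ← Category.assoc, h1, h, h2, Category.assoc, ← Functor.map_comp]

omit [HasRHom A] in
lemma map_exchange {a a' b b' : Dual.D A} (f : a ⟶ a') (g : b ⟶ b') :
    (LTen₂ A).map (Prod.mkHom f (𝟙 b)) ≫ (LTen₂ A).map (Prod.mkHom (𝟙 a') g) =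
      (LTen₂ A).map (Prod.mkHom (𝟙 a) g) ≫ (LTen₂ A).map (Prod.mkHom f (𝟙 b')) := by
  rw [map_comp_mk, map_comp_mk]
  simp only [Category.id_comp, Category.comp_id]

omit [HasRHom A] in
lemma map_comp_left {a a' a'' : Dual.D A} (f : a ⟶ a') (f' : a' ⟶ a'') (b : Dual.D A) :
    (LTen₂ A).map (Prod.mkHom (f ≫ f') (𝟙 b)) =
      (LTen₂ A).map (Prod.mkHom f (𝟙 b)) ≫ (LTen₂ A).map (Prod.mkHom f' (𝟙 b)) := by
  rw [map_comp_mk, Category.comp_id]

/-- naturality of `ψ` in the first variable -/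
theorem ψ_naturality {E E' : Cx A} (k : E ⟶ E') (J : Cx A) :
    Q.map (homCxPre k J) ≫ ψ E J = ψ E' J ≫ RHomMap (Q.map k) (Q.obj J) := by
  apply ((rhomAdj A (Q.obj E)).homEquiv _ _).symm.injective
  rw [rhom_homEquiv_symm, rhom_homEquiv_symm]
  have hL : (LTen₂ A).map (Prod.mkHom (Q.map (homCxPre k J) ≫ ψ E J) (𝟙 (Q.obj E))) ≫
      ev (Q.obj E) (Q.obj J) =
      (ε A).app (DRing.homCx E' J, E) ≫ Q.map ((homCxPre k J ▷ E) ≫ evCx E J) := by
    rw [map_comp_left, Category.assoc, ψ_ev, ← tensorRightD_map, tensor_map_Q_evD, uncHom_eq]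
  have hR : (LTen₂ A).map (Prod.mkHom (ψ E' J ≫ RHomMap (Q.map k) (Q.obj J)) (𝟙 (Q.obj E))) ≫
      ev (Q.obj E) (Q.obj J) =
      (ε A).app (DRing.homCx E' J, E) ≫ Q.map ((DRing.homCx E' J ◁ k) ≫ evCx E' J) := by
    rw [map_comp_left, Category.assoc, RHom_map_ev, ← Category.assoc, map_exchange,
      Category.assoc, ψ_ev, map_Q_evD]
  rw [hL, hR, homCxPre_evCx]

lemma RHomMap_comp {L L' L'' : Dual.D A} (g : L'' ⟶ L') (g' : L' ⟶ L) (M : Dual.D A) :
    RHomMap (g ≫ g') M = RHomMap g' M ≫ RHomMap g M := by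
  show ((RHom A).map (g ≫ g').op).app M = _
  rw [op_comp, Functor.map_comp, NatTrans.comp_app]
  rfl

lemma RHomMap_naturality {L L' : Dual.D A} (g : L' ⟶ L) {M M' : Dual.D A} (m : M ⟶ M') :
    RHomMap g M ≫ (RHomR A L').map m = (RHomR A L).map m ≫ RHomMap g M' :=
  (((RHom A).map g.op).naturality m).symm

/-- the comparison isomorphism `RHom(M, L) ≅ Q(Hom•(E, J))` for `M ≅ QE`, `L ≅ QJ`, `J` K-injective -/
noncomputable def cmp {M L : Dual.D A} {E J : Cx A} [J.IsKInjective] (e : M ≅ Q.obj E)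
    (eL : L ≅ Q.obj J) : (RHomR A M).obj L ≅ Q.obj (DRing.homCx E J) :=
  haveI := isIso_ψ (A := A) E J
  ((RHom A).mapIso e.symm.op).app L ≪≫ (RHomR A (Q.obj E)).mapIso eL ≪≫ (asIso (ψ E J)).symm

lemma cmp_comm {M M' L : Dual.D A} {E E' J : Cx A} [J.IsKInjective] (e : M ≅ Q.obj E)
    (e' : M' ≅ Q.obj E') (eL : L ≅ Q.obj J) (t : M ⟶ M') (k : E ⟶ E')
    (h : t ≫ e'.hom = e.hom ≫ Q.map k) :
    RHomMap t L ≫ (cmp e eL).hom = (cmp e' eL).hom ≫ Q.map (homCxPre k J) := by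
  haveI := isIso_ψ (A := A) E J
  haveI := isIso_ψ (A := A) E' J
  have h0 : e.inv ≫ t = Q.map k ≫ e'.inv := by
    rw [Iso.inv_comp_eq, ← Category.assoc, ← h, Category.assoc, Iso.hom_inv_id, Category.comp_id]
  have h1 : RHomMap t L ≫ RHomMap e.inv L = RHomMap e'.inv L ≫ RHomMap (Q.map k) L := by
    rw [← RHomMap_comp, ← RHomMap_comp, h0]
  have h3 : RHomMap (Q.map k) (Q.obj J) ≫ inv (ψ E J) = inv (ψ E' J) ≫ Q.map (homCxPre k J) := by
    rw [IsIso.comp_inv_eq, Category.assoc, ψ_naturality, IsIso.inv_hom_id_assoc]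
  show RHomMap t L ≫ RHomMap e.inv L ≫ (RHomR A (Q.obj E)).map eL.hom ≫ inv (ψ E J) =
    (RHomMap e'.inv L ≫ (RHomR A (Q.obj E')).map eL.hom ≫ inv (ψ E' J)) ≫ Q.map (homCxPre k J)
  rw [reassoc_of% h1, reassoc_of% (RHomMap_naturality (Q.map k) eL.hom), h3]
  simp only [Category.assoc]

open CochainComplex in
/-- First-slot exactness of the internal hom: for a distinguished triangle `(f, g, h)` and `L` in
`D(A)`, the maps `RHom(g, L)`, `RHom(f, L)` are the first two maps of a distinguished triangle. -/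
theorem weak_RHom_first (L : Dual.D A) (T : Triangle (Dual.D A)) (hT : T ∈ distTriang _) :
    ∃ δ : (RHomR A T.obj₁).obj L ⟶ ((RHomR A T.obj₃).obj L)⟦(1 : ℤ)⟧,
      Triangle.mk (RHomMap T.mor₂ L) (RHomMap T.mor₁ L) δ ∈ distTriang (Dual.D A) := by
  obtain ⟨J, hJ, ⟨eL⟩⟩ := Groth.Agent.Lib.Helper17.DBrown.exists_kInjective_iso (ModuleCat.{u} A) L
  obtain ⟨X, Y, φ, e₁, e₂, e₃, h₁, h₂⟩ := exists_cone_model T hT
  have hS := shortExact_homSC (mappingCone.triangleRotateShortComplex φ) J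
    (mappingCone.triangleRotateShortComplexSplitting φ)
  exact exists_dist_of_iso _ (triangleOfSES_distinguished hS) _ _
    (cmp e₃ eL) (cmp e₂ eL) (cmp e₁ eL)
    (cmp_comm e₂ e₃ eL T.mor₂ _ h₂) (cmp_comm e₁ e₂ eL T.mor₁ _ h₁)

end Groth.Agent.R2.H61.HT3
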