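import Mathlib
import Groth.Prelude.Def_DTen3
import Groth.Agent.R2.H61HT3
import Groth.Agent.R2.H61DT3
import Groth.Agent.S7010
set_option backward.isDefEq.respectTransparency.types false

/-!
# `K ⊗^L RHom(M, L) ⟶ RHom(M, K ⊗^L L)` is an isomorphism for `M` perfect (helper61)

* `symmIso`, `weak_tensorLeftD`: `K ⊗^L -` is weakly exact.
* `yex_rightOp`: contravariant weakly exact functors are Yoneda-exact into the opposite category.
* `evalTen_naturality_M`, `evalTenNatM`: `evalTen K L M` is natural in `M`.
* `isIso_evalTen_of_equiv_right`: the formal case (`- ⊗^L M` an equivalence).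
* `isIso_evalTen_of_isPerfect_source`.
-/

set_option autoImplicit false
set_option linter.style.haveILetI false
set_option linter.unusedSectionVars false
universe u
open CategoryTheory CategoryTheory.Limits MonoidalCategory HomologicalComplex
  CategoryTheory.Pretriangulated Opposite
attribute [local instance] HasDerivedCategory.standard

namespace Groth.Agent.R2.H61.HT4

open DerivedCategory DTen Groth.Agent.Lib.Helper1.KF Groth.Agent.Lib.Helper1.DT
  Groth.Agent.R2.H61.DT1 Groth.Agent.R2.H61.DT2 Groth.Agent.R2.H61.DT3 Groth.Agent.R2.H61.HT3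

section General

variable {C : Type*} [Category C] [Preadditive C] [HasZeroObject C] [HasShift C ℤ]
  [∀ n : ℤ, (shiftFunctor C n).Additive] [Pretriangulated C]
  {D : Type*} [Category D] [Preadditive D] [HasZeroObject D] [HasShift D ℤ]
  [∀ n : ℤ, (shiftFunctor D n).Additive] [Pretriangulated D]

/-- weak exactness of a contravariant functor -/
def WeakC (H : Cᵒᵖ ⥤ D) : Prop :=
  ∀ T ∈ distTriang C, ∃ δ : H.obj (op T.obj₁) ⟶ (H.obj (op T.obj₃))⟦(1 : ℤ)⟧,
    Triangle.mk (H.map T.mor₂.op) (H.map T.mor₁.op) δ ∈ distTriang D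

/-- A contravariant weakly exact functor is Yoneda-exact as a functor to the opposite category. -/
lemma yex_rightOp (H : Cᵒᵖ ⥤ D) (h : WeakC H) : YEx H.rightOp where
  zero T hT := by
    obtain ⟨δ, hδ⟩ := h T hT
    have h0 : H.map T.mor₂.op ≫ H.map T.mor₁.op = 0 := comp_distTriang_mor_zero₁₂ _ hδ
    show (H.map T.mor₁.op).op ≫ (H.map T.mor₂.op).op = 0
    rw [← op_comp, h0, op_zero]
  exact T hT W x hx := by
    obtain ⟨δ, hδ⟩ := h T hT
    have hx' : H.map T.mor₂.op ≫ x.unop = 0 := by
      have : (H.map T.mor₂.op ≫ x.unop).op = 0 := hx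
      exact Quiver.Hom.op_inj this
    obtain ⟨y, hy⟩ := Triangle.yoneda_exact₂ _ hδ x.unop hx'
    exact ⟨y.op, Quiver.Hom.unop_inj hy⟩

lemma WeakC.comp_weak {E : Type*} [Category E] [Preadditive E] [HasZeroObject E] [HasShift E ℤ]
    [∀ n : ℤ, (shiftFunctor E n).Additive] [Pretriangulated E] {H : Cᵒᵖ ⥤ D} (h : WeakC H)
    {F : D ⥤ E} (hF : Weak F) : WeakC (H ⋙ F) := by
  intro T hT
  obtain ⟨δ, hδ⟩ := h T hT
  exact hF _ hδ

end General

variable {A : Type u} [CommRing A] [HasLTen A] [HasLTen₃ A] [IsSymMonoidal A]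

/-- the symmetry as a natural isomorphism `- ⊗^L K ≅ K ⊗^L -` -/
noncomputable def symmIso (K : Dual.D A) : tensorRightD A K ≅ (LTen A).obj K :=
  NatIso.ofComponents (fun X => (asIso (symm A)).app (K, X)) (fun {X X'} x =>
    (symm A).naturality (Prod.mkHom (𝟙 K) x : (K, X) ⟶ (K, X')))

theorem weak_tensorLeftD (K : Dual.D A) : Weak ((LTen A).obj K) :=
  (weak_tensorRightD K).of_iso (symmIso K)

variable [HasRHom A]

theorem weakC_RHom (L : Dual.D A) : WeakC ((RHom A).flip.obj L) := fun T hT =>
  weak_RHom_first L T hT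

/-- naturality of `evalTen K L M` in `M` -/
lemma evalTen_naturality_M (K L : Dual.D A) {M M' : Dual.D A} (m : M' ⟶ M) :
    ((LTen A).obj K).map (RHomMap m L) ≫ evalTen K L M' =
      evalTen K L M ≫ RHomMap m ((LTen₂ A).obj (K, L)) := by
  apply ((rhomAdj A M').homEquiv _ _).symm.injective
  rw [DT3.rhom_homEquiv_symm, DT3.rhom_homEquiv_symm, HT3.map_comp_left, HT3.map_comp_left,
    Category.assoc, Category.assoc, evalTen_fac, RHom_map_ev, ← Category.assoc,
    HT3.map_exchange, Category.assoc, evalTen_fac]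
  unfold evalTenAux
  rw [LTen_obj_map, reassoc_of% (associator_naturality₂ K (RHomMap m L) M')]
  erw [reassoc_of% (associator_naturality₃ K ((RHomR A M).obj L) m)]
  rw [DT3.map_comp_mk, DT3.map_comp_mk, RHom_map_ev]

/-- `evalTen K L M` as a natural transformation in `M` (with values in the opposite category). -/
noncomputable def evalTenNatM (K L : Dual.D A) :
    ((RHom A).flip.obj ((LTen₂ A).obj (K, L))).rightOp ⟶
      ((RHom A).flip.obj L ⋙ (LTen A).obj K).rightOp where
  app M := (evalTen K L M).op
  naturality M M' m := by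
    show (RHomMap m _).op ≫ (evalTen K L M').op =
      (evalTen K L M).op ≫ (((LTen A).obj K).map (RHomMap m L)).op
    rw [← op_comp, ← op_comp, evalTen_naturality_M]

/-- `- ⊗^L U` is an equivalence as soon as `U ⊗^L -` is. -/
lemma isEquivalence_tensorRightD (U : Dual.D A) [((LTen A).obj U).IsEquivalence] :
    (tensorRightD A U).IsEquivalence :=
  Functor.isEquivalence_of_iso (symmIso U).symm

lemma isIso_ev_of_equiv (U L : Dual.D A) [(tensorRightD A U).IsEquivalence] :
    IsIso (ev U L) := by
  haveI := (rhomAdj A U).isEquivalence_right_of_isEquivalence_left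
  show IsIso ((rhomAdj A U).counit.app L)
  infer_instance

/-- The formal case: `evalTen K L U` is an isomorphism when `- ⊗^L U` is an equivalence. -/
theorem isIso_evalTen_of_equiv_right (K L U : Dual.D A) [(tensorRightD A U).IsEquivalence] :
    IsIso (evalTen K L U) := by
  haveI := isIso_ev_of_equiv U L
  haveI : IsIso (evalTenAux K L U) := by
    unfold evalTenAux
    haveI : IsIso ((LTen₂ A).map (Prod.mkHom (𝟙 K) (ev U L))) :=
      inferInstanceAs (IsIso (((LTen A).obj K).map (ev U L)))
    infer_instance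
  have h : evalTen K L U = (rhomAdj A U).unit.app _ ≫ (RHomR A U).map (evalTenAux K L U) :=
    Adjunction.homEquiv_unit _ _ _ _
  rw [h]
  infer_instance

theorem isIso_evalTen_of_isPerfect_source (K L M : Dual.D A) (hM : DRing.IsPerfect A M) :
    IsIso (evalTen K L M) := by
  have hG : YEx ((RHom A).flip.obj ((LTen₂ A).obj (K, L))).rightOp :=
    yex_rightOp _ (weakC_RHom _)
  have hF : YEx ((RHom A).flip.obj L ⋙ (LTen A).obj K).rightOp :=
    yex_rightOp _ ((weakC_RHom L).comp_weak (weak_tensorLeftD K))
  let P : ObjectProperty (Dual.D A) := fun M => ShIso (evalTenNatM K L) M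
  haveI : P.IsClosedUnderIsomorphisms := ⟨fun e h => ShIso.of_iso _ e h⟩
  have key : P M := by
    refine Groth.Agent.S7010.result A P ?_ ?_ ?_ ?_ M hM
    · intro n
      haveI := isEquivalence_unit_shift (A := A) n
      haveI := isEquivalence_tensorRightD ((unit A)⟦n⟧)
      haveI := isIso_evalTen_of_equiv_right K L ((unit A)⟦n⟧)
      show IsIso (evalTen K L ((unit A)⟦n⟧)).op
      infer_instance
    · intro K n h
      exact ShIso.shift _ h n
    · intro T hT h1 h3
      exact ShIso.ext hG hF _ T hT h1 h3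
    · intro X Y _ h
      exact ShIso.of_retract _ biprod.inl biprod.fst biprod.inl_fst h
  haveI : IsIso (evalTen K L M).op := ShIso.zero _ key
  exact isIso_of_op _

end Groth.Agent.R2.H61.HT4
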