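import Mathlib
import Groth.Prelude.Def_DTen3
import Groth.Agent.R2.H61HT4
set_option backward.isDefEq.respectTransparency.types false

/-!
# `RHom(L, M) ⊗^L K ⟶ RHom(RHom(K, L), M)` is an isomorphism for `K` perfect (helper61)

* `evalHom_naturality_K`, `evalHomNat`: `evalHom K L M` is natural in `K`.
* `isIso_evalHom_of_equiv`: the formal case (`- ⊗^L K` an equivalence).
* `isIso_evalHom_of_isPerfect`.
-/

set_option autoImplicit false
set_option linter.style.haveILetI false
set_option linter.unusedSectionVars false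
universe u
open CategoryTheory CategoryTheory.Limits MonoidalCategory HomologicalComplex
  CategoryTheory.Pretriangulated Opposite
attribute [local instance] HasDerivedCategory.standard

namespace Groth.Agent.R2.H61.HT5

open DerivedCategory DTen Groth.Agent.Lib.Helper1.KF Groth.Agent.Lib.Helper1.DT
  Groth.Agent.R2.H61.DT1 Groth.Agent.R2.H61.DT2 Groth.Agent.R2.H61.DT3 Groth.Agent.R2.H61.HT3
  Groth.Agent.R2.H61.HT4

variable {A : Type u} [CommRing A] [HasLTen A] [HasLTen₃ A] [IsSymMonoidal A] [HasRHom A]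

/-- naturality of the symmetry in the second variable -/
lemma symm_naturality_right (X : Dual.D A) {Y Y' : Dual.D A} (y : Y ⟶ Y') :
    (LTen₂ A).map (Prod.mkHom y (𝟙 X)) ≫ (symm A).app (X, Y') =
      (symm A).app (X, Y) ≫ (LTen₂ A).map (Prod.mkHom (𝟙 X) y) :=
  (symm A).naturality (Prod.mkHom (𝟙 X) y : (X, Y) ⟶ (X, Y'))

/-- naturality of the symmetry in the first variable -/
lemma symm_naturality_left {X X' : Dual.D A} (x : X ⟶ X') (Y : Dual.D A) :
    (LTen₂ A).map (Prod.mkHom (𝟙 Y) x) ≫ (symm A).app (X', Y) =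
      (symm A).app (X, Y) ≫ (LTen₂ A).map (Prod.mkHom x (𝟙 Y)) :=
  (symm A).naturality (Prod.mkHom x (𝟙 Y) : (X, Y) ⟶ (X', Y))

/-- the inner identity in the naturality of `evalHom` -/
lemma inner_eq {K K' : Dual.D A} (k : K ⟶ K') (L : Dual.D A) :
    (LTen₂ A).map (Prod.mkHom k (𝟙 ((RHomR A K').obj L))) ≫
        (symm A).app ((RHomR A K').obj L, K') ≫ ev K' L =
      (LTen₂ A).map (Prod.mkHom (𝟙 K) (RHomMap k L)) ≫
        (symm A).app ((RHomR A K).obj L, K) ≫ ev K L := by
  rw [reassoc_of% (symm_naturality_right ((RHomR A K').obj L) k),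
    reassoc_of% (symm_naturality_left (RHomMap k L) K), RHom_map_ev]

/-- naturality of `evalHom K L M` in `K` -/
lemma evalHom_naturality_K {K K' : Dual.D A} (k : K ⟶ K') (L M : Dual.D A) :
    ((LTen A).obj ((RHomR A L).obj M)).map k ≫ evalHom K' L M =
      evalHom K L M ≫ RHomMap (RHomMap k L) M := by
  apply ((rhomAdj A ((RHomR A K').obj L)).homEquiv _ _).symm.injective
  rw [DT3.rhom_homEquiv_symm, DT3.rhom_homEquiv_symm, HT3.map_comp_left, HT3.map_comp_left,
    Category.assoc, Category.assoc, evalHom_fac, RHom_map_ev, ← Category.assoc,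
    HT3.map_exchange, Category.assoc, evalHom_fac]
  unfold evalHomAux
  rw [LTen_obj_map, reassoc_of% (associator_naturality₂ ((RHomR A L).obj M) k
    ((RHomR A K').obj L))]
  erw [reassoc_of% (associator_naturality₃ ((RHomR A L).obj M) K (RHomMap k L))]
  rw [← Category.assoc ((LTen₂ A).map _) ((LTen₂ A).map _) (ev L M),
    ← Category.assoc ((LTen₂ A).map _) ((LTen₂ A).map _) (ev L M), DT3.map_comp_mk,
    DT3.map_comp_mk, inner_eq]

/-- `K ↦ RHom(RHom(K, L), M)` as a covariant functor -/
noncomputable abbrev GG (L M : Dual.D A) : Dual.D A ⥤ Dual.D A :=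
  ((RHom A).flip.obj L).rightOp ⋙ (RHom A).flip.obj M

theorem weak_GG (L M : Dual.D A) : Weak (GG L M) := by
  intro T hT
  obtain ⟨δ₁, h₁⟩ := weak_RHom_first L T hT
  obtain ⟨δ₂, h₂⟩ := weak_RHom_first M _ h₁
  exact ⟨δ₂, h₂⟩

/-- `evalHom K L M` as a natural transformation in `K`. -/
noncomputable def evalHomNat (L M : Dual.D A) :
    (LTen A).obj ((RHomR A L).obj M) ⟶ GG L M where
  app K := evalHom K L M
  naturality _ _ k := evalHom_naturality_K k L M

/-- the adjunct of `(g' ⊗ U) ≫ evalHom U L M` -/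
lemma keyH (U L M X' : Dual.D A) (g' : X' ⟶ (RHomR A L).obj M) :
    ((rhomAdj A ((RHomR A U).obj L)).homEquiv _ _).symm
        ((tensorRightD A U).map g' ≫ evalHom U L M) =
      (DTen.associator X' U ((RHomR A U).obj L)).hom ≫
        (LTen₂ A).map (Prod.mkHom (𝟙 X') ((symm A).app ((RHomR A U).obj L, U) ≫ ev U L)) ≫
          ((rhomAdj A L).homEquiv _ _).symm g' := by
  rw [Adjunction.homEquiv_naturality_left_symm]
  have h1 : ((rhomAdj A ((RHomR A U).obj L)).homEquiv
      ((tensorRightD A U).obj ((RHomR A L).obj M)) M).symm (evalHom U L M) =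
      evalHomAux U L M := Equiv.symm_apply_apply _ _
  rw [h1, DT3.rhom_homEquiv_symm, DT3.tensorRightD_map, DT3.tensorRightD_map]
  unfold evalHomAux
  rw [reassoc_of% (associator_naturality₁ g' U ((RHomR A U).obj L)),
    ← Category.assoc ((LTen₂ A).map _) ((LTen₂ A).map _) (ev L M),
    ← Category.assoc ((LTen₂ A).map _) ((LTen₂ A).map _) (ev L M), DT3.map_comp_mk,
    DT3.map_comp_mk]
  simp only [Category.id_comp, Category.comp_id]

/-- The formal case: `evalHom U L M` is an isomorphism when `- ⊗^L U` is an equivalence. -/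
theorem isIso_evalHom_of_equiv (U L M : Dual.D A) [(tensorRightD A U).IsEquivalence] :
    IsIso (evalHom U L M) := by
  haveI := isIso_ev_of_equiv U L
  apply isIso_of_bijective_on_essImage (tensorRightD A U)
  intro X'
  haveI : IsIso ((LTen₂ A).map
      (Prod.mkHom (𝟙 X') ((symm A).app ((RHomR A U).obj L, U) ≫ ev U L))) :=
    inferInstanceAs (IsIso (((LTen A).obj X').map
      ((symm A).app ((RHomR A U).obj L, U) ≫ ev U L)))
  constructor
  · intro x y hxy
    obtain ⟨gx, rfl⟩ := (tensorRightD A U).map_surjective x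
    obtain ⟨gy, rfl⟩ := (tensorRightD A U).map_surjective y
    have h1 := congrArg (((rhomAdj A ((RHomR A U).obj L)).homEquiv _ _).symm) hxy
    simp only [keyH] at h1
    have h2 := (cancel_epi _).1 ((cancel_epi _).1 h1)
    rw [((rhomAdj A L).homEquiv _ _).symm.injective h2]
  · intro w
    refine ⟨(tensorRightD A U).map ((rhomAdj A L).homEquiv _ _
      (inv ((LTen₂ A).map
        (Prod.mkHom (𝟙 X') ((symm A).app ((RHomR A U).obj L, U) ≫ ev U L))) ≫
        (DTen.associator X' U ((RHomR A U).obj L)).inv ≫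
          ((rhomAdj A ((RHomR A U).obj L)).homEquiv _ _).symm w)), ?_⟩
    apply ((rhomAdj A ((RHomR A U).obj L)).homEquiv _ _).symm.injective
    show ((rhomAdj A ((RHomR A U).obj L)).homEquiv _ _).symm
      ((tensorRightD A U).map _ ≫ evalHom U L M) = _
    rw [keyH, Equiv.symm_apply_apply, IsIso.hom_inv_id_assoc, Iso.hom_inv_id_assoc]
    rfl

theorem isIso_evalHom_of_isPerfect (K L M : Dual.D A) (hK : DRing.IsPerfect A K) :
    IsIso (evalHom K L M) := by
  have hF : YEx ((LTen A).obj ((RHomR A L).obj M)) := (weak_tensorLeftD _).yex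
  have hG : YEx (GG L M) := (weak_GG L M).yex
  let P : ObjectProperty (Dual.D A) := fun K => ShIso (evalHomNat L M) K
  haveI : P.IsClosedUnderIsomorphisms := ⟨fun e h => ShIso.of_iso _ e h⟩
  have key : P K := by
    refine Groth.Agent.S7010.result A P ?_ ?_ ?_ ?_ K hK
    · intro n
      haveI := isEquivalence_unit_shift (A := A) n
      haveI := isEquivalence_tensorRightD ((unit A)⟦n⟧)
      exact isIso_evalHom_of_equiv ((unit A)⟦n⟧) L M
    · intro K n h
      exact ShIso.shift _ h n
    · intro T hT h1 h3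
      exact ShIso.ext hF hG _ T hT h1 h3
    · intro X Y _ h
      exact ShIso.of_retract _ biprod.inl biprod.fst biprod.inl_fst h
  exact ShIso.zero _ key

end Groth.Agent.R2.H61.HT5
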