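import Mathlib
import Groth.Prelude.Def_DTen3
import Groth.Agent.R2.H61HT5
import Groth.Agent.R2.H31Fac
import Groth.Agent.Lib.Helper1PC
import Groth.Agent.Lib.Helper1TensPerf
set_option backward.isDefEq.respectTransparency.types false

/-!
# Amplitude estimates for `⊗^L` and `RHom` on `D(A)`, and `evalHom` for pseudo-coherent `K` (helper61)

* `isLE_tensor_Q`: `X ⊗^L QC` is `≤ c + m` if `X ≤ c` and `C` is K-flat and vanishes above `m`.
* `isLE_RHom`: `RHom(X, M)` is `≤ b - c` if `X ≥ c` and `M` has injective amplitude in `[a, b]`.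
* `isGE_RHom`: `RHom(QC, L)` is `≥ n - m` if `L ≥ n` and `C` is K-flat and vanishes above `m`.
* `isIso_evalHom_of_isPseudoCoherent`.
-/

set_option autoImplicit false
set_option linter.style.haveILetI false
set_option linter.unusedSectionVars false
universe u
open CategoryTheory CategoryTheory.Limits MonoidalCategory HomologicalComplex
  CategoryTheory.Pretriangulated Opposite
attribute [local instance] HasDerivedCategory.standard

namespace Groth.Agent.R2.H61.HT6

open DerivedCategory DTen Groth.Agent.Lib.Helper1.KF Groth.Agent.Lib.Helper1.DT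
  Groth.Agent.R2.H61.DT1 Groth.Agent.R2.H61.DT2 Groth.Agent.R2.H61.DT3 Groth.Agent.R2.H61.HT3
  Groth.Agent.R2.H61.HT4 Groth.Agent.R2.H61.HT5 CochainComplex.HomComplex

variable {A : Type u} [CommRing A] [HasLTen A]

/-- `X ⊗^L QC` is `≤ c + m` if `X ≤ c` and `C` is K-flat and vanishes above `m`. -/
lemma isLE_tensor_Q (X : Dual.D A) (c : ℤ) [X.IsLE c] (C₀ : Cx A) (hC : KFlat C₀) (m : ℤ)
    (hm : ∀ i : ℤ, m < i → IsZero (C₀.X i)) :
    ((LTen₂ A).obj (X, Q.obj C₀)).IsLE (c + m) := by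
  obtain ⟨X₀, hX₀, ⟨e⟩⟩ := exists_iso_Q_obj_of_isLE X c
  haveI : IsIso ((DTen.ε A).app (X₀, C₀)) := isIso_ε_of_kflat X₀ C₀ (Or.inr hC)
  have h1 : (Q.obj (X₀ ⊗ C₀)).IsLE (c + m) := by
    apply Groth.Agent.R2.H31.Fac.isLE_Q_of_isZero
    intro i hi
    apply Groth.Agent.Lib.Helper1.TensPerf.isZero_tensor_X
    intro p q hpq
    by_cases hp : c < p
    · exact Or.inl (X₀.isZero_of_isStrictlyLE c p hp)
    · exact Or.inr (hm q (by omega))
  have iso : (LTen₂ A).obj (X, Q.obj C₀) ≅ Q.obj (X₀ ⊗ C₀) :=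
    (LTen₂ A).mapIso (Iso.prod e (Iso.refl _)) ≪≫ asIso ((DTen.ε A).app (X₀, C₀))
  exact TStructure.t.isLE_of_iso iso.symm _

variable [HasRHom A]

/-- `RHom(X, M)` is `≤ b - c` if `X ≥ c` and `M` has injective amplitude in `[a, b]`. -/
lemma isLE_RHom (X M : Dual.D A) (c a b : ℤ) [X.IsGE c] (hM : DRing.HasInjAmplitudeIn A a b M) :
    ((RHomR A X).obj M).IsLE (b - c) := by
  obtain ⟨X₀, hX₀, ⟨e⟩⟩ := exists_iso_Q_obj_of_isGE X c
  obtain ⟨I, hI, hinj, ⟨eM⟩⟩ := hM
  haveI : I.IsStrictlyGE a := by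
    rw [CochainComplex.isStrictlyGE_iff]
    exact fun i hi => hI i (Or.inl hi)
  haveI : ∀ n : ℤ, Injective (I.X n) := fun n =>
    haveI := hinj n
    Module.injective_object_of_injective_module (R := A) (M := I.X n)
  haveI : I.IsKInjective := CochainComplex.isKInjective_of_injective I a
  have h1 : (Q.obj (DRing.homCx X₀ I)).IsLE (b - c) := by
    apply Groth.Agent.R2.H31.Fac.isLE_Q_of_isZero
    intro k hk
    haveI : Subsingleton (Cochain X₀ I k) := by
      refine ⟨fun z z' => Cochain.ext _ _ (fun p q hpq => ?_)⟩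
      by_cases hp : p < c
      · exact (X₀.isZero_of_isStrictlyGE c p hp).eq_of_src _ _
      · exact (hI q (Or.inr (by omega))).eq_of_tgt _ _
    exact ModuleCat.isZero_of_subsingleton (ModuleCat.of A (Cochain X₀ I k))
  exact TStructure.t.isLE_of_iso (cmp e eM.symm).symm _

/-- `RHom(QC, L)` is `≥ n - m` if `L ≥ n` and `C` is K-flat and vanishes above `m`. -/
lemma isGE_RHom (C₀ : Cx A) (hC : KFlat C₀) (m : ℤ) (hm : ∀ i : ℤ, m < i → IsZero (C₀.X i))
    (L : Dual.D A) (n : ℤ) [L.IsGE n] : ((RHomR A (Q.obj C₀)).obj L).IsGE (n - m) := by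
  show TStructure.t.IsGE _ _
  rw [TStructure.t.isGE_iff_orthogonal (n - m - 1) (n - m) (by omega)]
  intro Y f hY
  haveI : Y.IsLE (n - m - 1) := hY
  haveI hle : TStructure.t.IsLE ((tensorRightD A (Q.obj C₀)).obj Y) (n - m - 1 + m) :=
    isLE_tensor_Q Y (n - m - 1) C₀ hC m hm
  have h0 : ((rhomAdj A (Q.obj C₀)).homEquiv _ _).symm f = 0 :=
    TStructure.t.zero _ (n - m - 1 + m) n (by omega)
  have : f = (rhomAdj A (Q.obj C₀)).homEquiv _ _ 0 := by
    rw [← h0, Equiv.apply_symm_apply]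
  rw [this, Adjunction.homEquiv_unit, Functor.map_zero, comp_zero]

section Trunc

omit [HasLTen A] [HasRHom A]

open Groth.Agent.Lib.Helper1.PC Groth.Agent.S7017

/-- the cokernel of `σ_{≥ m} E ⟶ E` vanishes in degrees `≥ m` -/
lemma isZero_cokernel_sigmaGEι_X (E : Cx A) (m i : ℤ) (hi : m ≤ i) :
    IsZero ((cokernel (sigmaGEι E m)).X i) := by
  haveI := isIso_sigmaGEι_f E m i hi
  exact IsZero.of_iso (isZero_cokernel_of_epi ((sigmaGEι E m).f i))
    (PreservesCokernel.iso (HomologicalComplex.eval _ _ i) (sigmaGEι E m))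

/-- the terms of the cokernel of `σ_{≥ m} E ⟶ E` are projective if those of `E` are -/
lemma projective_cokernel_sigmaGEι_X (E : Cx A) (hE : ∀ i, Projective (E.X i)) (m i : ℤ) :
    Projective ((cokernel (sigmaGEι E m)).X i) := by
  by_cases hi : m ≤ i
  · exact (isZero_cokernel_sigmaGEι_X E m i hi).projective
  · have h0 : (sigmaGEι E m).f i = 0 := (isZero_sigmaGE_X E m i (by omega)).eq_of_src _ _
    have e : E.X i ≅ (cokernel (sigmaGEι E m)).X i :=
      (cokernelZeroIsoTarget (X := (sigmaGE E m).X i) (Y := E.X i)).symm ≪≫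
        (cokernelIsoOfEq h0).symm ≪≫
        (PreservesCokernel.iso (HomologicalComplex.eval _ _ i) (sigmaGEι E m)).symm
    haveI := hE i
    exact Projective.of_iso e inferInstance

lemma kflat_cokernel_sigmaGEι (E : Cx A) (hE : ∀ i, Projective (E.X i)) (m : ℤ) :
    KFlat (cokernel (sigmaGEι E m)) := by
  haveI : (cokernel (sigmaGEι E m)).IsStrictlyLE (m - 1) := by
    rw [CochainComplex.isStrictlyLE_iff]
    exact fun i hi => isZero_cokernel_sigmaGEι_X E m i (by omega)
  haveI : ∀ n : ℤ, Projective ((cokernel (sigmaGEι E m)).X n) :=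
    fun n => projective_cokernel_sigmaGEι_X E hE m n
  haveI : (cokernel (sigmaGEι E m)).IsKProjective :=
    CochainComplex.isKProjective_of_projective _ (m - 1)
  exact kflat_of_isKProjective _

lemma isPerfect_sigmaGE (E : Cx A) (b : ℤ) (hEb : DRing.VanishesAbove E b)
    (hE : DRing.TermwiseFiniteFree E) (m : ℤ) : DRing.IsPerfect A (Q.obj (sigmaGE E m)) := by
  refine ⟨sigmaGE E m, m, b, ?_, ?_, ⟨Iso.refl _⟩⟩
  · rintro i (hi | hi)
    · exact isZero_sigmaGE_X E m i hi
    · exact isZero_sigmaGE_X' E m i (hEb i hi)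
  · intro i
    obtain ⟨h1, h2⟩ := FF_sigmaGE E m i (hE i)
    exact ⟨h1, inferInstance⟩

end Trunc

variable [HasLTen₃ A] [IsSymMonoidal A]

open Groth.Agent.Lib.Helper1.PC in
theorem isIso_evalHom_of_isPseudoCoherent (K L M : Dual.D A)
    (hK : DRing.IsPseudoCoherent' A K) (n : ℤ) (hL : L.IsGE n) (hM : DRing.HasFiniteInjDim A M) :
    IsIso (evalHom K L M) := by
  obtain ⟨E, b, hEb, hEff, ⟨eK⟩⟩ := hK
  obtain ⟨a', b', hM'⟩ := hM
  suffices h : IsIso (evalHom (Q.obj E) L M) from isIso_app_of_iso (evalHomNat L M) eK h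
  rw [DerivedCategory.isIso_iff]
  intro i
  obtain ⟨m, hm⟩ : ∃ m : ℤ, b' - n + m < i := ⟨i - b' + n - 1, by omega⟩
  have hEproj : ∀ j, Projective (E.X j) := fun j => by
    haveI := (hEff j).2
    haveI : Module.Projective A (E.X j) := inferInstance
    infer_instance
  let S : ShortComplex (Cx A) := ShortComplex.mk (sigmaGEι E m) (cokernel.π (sigmaGEι E m))
    (cokernel.condition (sigmaGEι E m))
  have hS : S.ShortExact :=
    { exact := ShortComplex.exact_cokernel (sigmaGEι E m)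
      mono_f := inferInstanceAs (Mono (sigmaGEι E m))
      epi_g := inferInstanceAs (Epi (cokernel.π (sigmaGEι E m))) }
  have hT := triangleOfSES_distinguished hS
  have hCflat := kflat_cokernel_sigmaGEι E hEproj m
  have hCvan : ∀ j : ℤ, m - 1 < j → IsZero ((cokernel (sigmaGEι E m)).X j) :=
    fun j hj => isZero_cokernel_sigmaGEι_X E m j (by omega)
  -- amplitudes
  haveI : ((RHomR A L).obj M).IsLE (b' - n) := isLE_RHom L M n a' b' hM'
  have hFC : ((LTen₂ A).obj ((RHomR A L).obj M, Q.obj (cokernel (sigmaGEι E m)))).IsLE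
      (b' - n + (m - 1)) := isLE_tensor_Q _ (b' - n) _ hCflat (m - 1) hCvan
  haveI : ((RHomR A (Q.obj (cokernel (sigmaGEι E m)))).obj L).IsGE (n - (m - 1)) :=
    isGE_RHom _ hCflat (m - 1) hCvan L n
  have hGC : ((RHomR A ((RHomR A (Q.obj (cokernel (sigmaGEι E m)))).obj L)).obj M).IsLE
      (b' - (n - (m - 1))) := isLE_RHom _ M (n - (m - 1)) a' b' hM'
  -- the two distinguished triangles
  obtain ⟨δF, hF⟩ := weak_tensorLeftD ((RHomR A L).obj M) _ hT
  obtain ⟨δG, hG⟩ := weak_GG L M _ hT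
  have cF : Conn (b' - n + m) (((LTen A).obj ((RHomR A L).obj M)).map (Q.map (sigmaGEι E m))) := by
    refine (conn_iff_of_distTriang _ hF (b' - n + m)).2 ?_
    show ((LTen₂ A).obj ((RHomR A L).obj M, Q.obj (cokernel (sigmaGEι E m)))).IsLE
      (b' - n + m - 1)
    haveI := hFC
    exact TStructure.t.isLE_of_le _ (b' - n + (m - 1)) _ (by omega)
  have cG : Conn (b' - n + m) ((GG L M).map (Q.map (sigmaGEι E m))) := by
    refine (conn_iff_of_distTriang _ hG (b' - n + m)).2 ?_
    show ((RHomR A ((RHomR A (Q.obj (cokernel (sigmaGEι E m)))).obj L)).obj M).IsLE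
      (b' - n + m - 1)
    haveI := hGC
    exact TStructure.t.isLE_of_le _ (b' - (n - (m - 1))) _ (by omega)
  haveI h1 := cF.1 i hm
  haveI h2 := cG.1 i hm
  haveI h3 : IsIso (evalHom (Q.obj (sigmaGE E m)) L M) :=
    isIso_evalHom_of_isPerfect _ L M (isPerfect_sigmaGE E b hEb hEff m)
  have nat := (evalHomNat L M).naturality (Q.map (sigmaGEι E m))
  have nat' := congrArg (fun f => (homologyFunctor (ModuleCat.{u} A) i).map f) nat
  simp only [Functor.map_comp] at nat'
  have : (homologyFunctor (ModuleCat.{u} A) i).map (evalHom (Q.obj E) L M) =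
      inv ((homologyFunctor (ModuleCat.{u} A) i).map
        (((LTen A).obj ((RHomR A L).obj M)).map (Q.map (sigmaGEι E m)))) ≫
      (homologyFunctor (ModuleCat.{u} A) i).map (evalHom (Q.obj (sigmaGE E m)) L M) ≫
      (homologyFunctor (ModuleCat.{u} A) i).map ((GG L M).map (Q.map (sigmaGEι E m))) := by
    exact (IsIso.eq_inv_comp _).2 nat'
  rw [this]
  haveI h4 : IsIso ((homologyFunctor (ModuleCat.{u} A) i).map
      (evalHom (Q.obj (sigmaGE E m)) L M)) := Functor.map_isIso _ _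
  exact IsIso.comp_isIso' inferInstance (IsIso.comp_isIso' h4 h2)

end Groth.Agent.R2.H61.HT6
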