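import Mathlib

/-!
# Localisation of an object of a linear abelian category at a scalar (helper61)

For an `R`-linear abelian category `A` with countable (co)products and `r : R`:
* `awayMap r F : ∐_ℕ F ⟶ ∐_ℕ F`, `x_n ↦ x_n - r x_{n+1}`, whose cokernel is `F[1/r]`;
* `coawayMap r G : ∏_ℕ G ⟶ ∏_ℕ G`, `(x_n) ↦ (x_n - r x_{n+1})`, whose kernel is `Hom(R[1/r], G)`;
* the canonical map `∐_ℕ F ⟶ ∏_ℕ F` is a monomorphism under AB5, hence so is `awayMap r F`.
-/

set_option autoImplicit false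
universe w v u
open CategoryTheory CategoryTheory.Limits

namespace Groth.Agent.R2.H61.LocAway

section SigmaPi

variable {A : Type u} [Category.{v} A] [Preadditive A]

/-- for a finite index type, the identity of a coproduct is the sum of the projections followed
by the inclusions -/
lemma sum_sigma_π_ι {β : Type w} [DecidableEq β] [Fintype β] (f : β → A) [HasCoproduct f] :
    ∑ b : β, Sigma.π f b ≫ Sigma.ι f b = 𝟙 (∐ f) := by
  apply Sigma.hom_ext
  intro c
  rw [Preadditive.comp_sum, Category.comp_id]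
  rw [Finset.sum_eq_single c]
  · rw [Sigma.ι_π_eq_id_assoc]
  · intro b _ hb
    rw [Sigma.ι_π_of_ne_assoc f (Ne.symm hb), zero_comp]
  · intro h
    exact (h (Finset.mem_univ c)).elim

end SigmaPi

section SigmaToPi

open CoproductsFromFiniteFiltered

attribute [local instance] IsFiltered.isConnected

variable {A : Type u} [Category.{v} A] [Abelian A] {α : Type w} [DecidableEq α]
  (f : α → A) [HasCoproduct f] [HasProduct f]

/-- the canonical map from a coproduct to the product -/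
noncomputable def sigmaToPi : ∐ f ⟶ ∏ᶜ f := Sigma.desc (fun a => Pi.ι f a)

@[reassoc (attr := simp)]
lemma ι_sigmaToPi (a : α) : Sigma.ι f a ≫ sigmaToPi f = Pi.ι f a := by
  simp [sigmaToPi]

lemma sigmaToPi_π (a : α) : sigmaToPi f ≫ Pi.π f a = Sigma.π f a := by
  apply Sigma.hom_ext
  intro b
  rw [ι_sigmaToPi_assoc, Pi.ι_π, Sigma.ι_π]

/-- the map from a finite subcoproduct to the product -/
noncomputable def finToPi (S : Finset (Discrete α)) :
    (∐ fun x : S => f x.1.as) ⟶ ∏ᶜ f :=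
  Sigma.desc (fun x => Pi.ι f x.1.as)

instance mono_finToPi (S : Finset (Discrete α)) : Mono (finToPi f S) := by
  classical
  rw [Preadditive.mono_iff_cancel_zero]
  intro Z k hk
  have h1 : ∀ x : S, k ≫ Sigma.π (fun x : S => f x.1.as) x = 0 := by
    intro x
    have : finToPi f S ≫ Pi.π f x.1.as = Sigma.π (fun x : S => f x.1.as) x := by
      apply Sigma.hom_ext
      intro y
      unfold finToPi
      rw [Sigma.ι_desc_assoc, Pi.ι_π, Sigma.ι_π]
      by_cases h : y = x
      · subst h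
        simp
      · have h' : y.1.as ≠ x.1.as := fun h'' => h (Subtype.ext (Discrete.ext h''))
        rw [dif_neg h', dif_neg h]
    rw [← this, reassoc_of% hk, zero_comp]
  rw [← Category.comp_id k, ← sum_sigma_π_ι, Preadditive.comp_sum]
  apply Finset.sum_eq_zero
  intro x _
  rw [reassoc_of% (h1 x), zero_comp]

variable [HasColimitsOfShape (Finset (Discrete α)) A]
  [HasExactColimitsOfShape (Finset (Discrete α)) A]

/-- under AB5, the canonical map from a coproduct to the product is a monomorphism -/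
instance mono_sigmaToPi : Mono (sigmaToPi f) := by
  classical
  let φ : liftToFinsetObj (Discrete.functor f) ⟶
      (Functor.const (Finset (Discrete α))).obj (∏ᶜ f) :=
    { app := fun S => finToPi f S
      naturality := fun S T h => by
        apply Sigma.hom_ext
        intro x
        simp [finToPi, liftToFinsetObj] }
  have : ∀ S, Mono (φ.app S) := fun S => mono_finToPi f S
  have := NatTrans.mono_of_mono_app φ
  refine colim.map_mono' φ (isColimitFiniteSubproductsCocone f)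
    (isColimitConstCocone (Finset (Discrete α)) (∏ᶜ f)) (sigmaToPi f) (fun S => ?_)
  change (Sigma.desc fun s : S => Sigma.ι f s.1.as) ≫ sigmaToPi f = finToPi f S ≫ 𝟙 (∏ᶜ f)
  apply Sigma.hom_ext
  intro x
  simp [finToPi]

end SigmaToPi

section Away

set_option linter.unusedSectionVars false

variable {R : Type*} [CommRing R] {A : Type u} [Category.{v} A] [Abelian A] [Linear R A]
  [HasColimitsOfShape (Discrete ℕ) A] [HasLimitsOfShape (Discrete ℕ) A]
  (r : R)

/-- `x_n ↦ x_n - r x_{n+1}` on `∐_ℕ F` -/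
noncomputable def awayMap (F : A) : (∐ fun _ : ℕ => F) ⟶ ∐ fun _ : ℕ => F :=
  Sigma.desc fun n => Sigma.ι (fun _ : ℕ => F) n - (r • 𝟙 F) ≫ Sigma.ι (fun _ : ℕ => F) (n + 1)

/-- `(x_n) ↦ (x_n - r x_{n+1})` on `∏_ℕ G` -/
noncomputable def coawayMap (G : A) : (∏ᶜ fun _ : ℕ => G) ⟶ ∏ᶜ fun _ : ℕ => G :=
  Pi.lift fun n => Pi.π (fun _ : ℕ => G) n - Pi.π (fun _ : ℕ => G) (n + 1) ≫ (r • 𝟙 G)

@[reassoc (attr := simp)]
lemma ι_awayMap (F : A) (n : ℕ) :
    Sigma.ι (fun _ : ℕ => F) n ≫ awayMap r F =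
      Sigma.ι (fun _ : ℕ => F) n - (r • 𝟙 F) ≫ Sigma.ι (fun _ : ℕ => F) (n + 1) := by
  simp [awayMap]

@[reassoc (attr := simp)]
lemma coawayMap_π (G : A) (n : ℕ) :
    coawayMap r G ≫ Pi.π (fun _ : ℕ => G) n =
      Pi.π (fun _ : ℕ => G) n - Pi.π (fun _ : ℕ => G) (n + 1) ≫ (r • 𝟙 G) := by
  simp [coawayMap]

/-- the retraction-like map `∐_ℕ F ⟶ F`, `x_n ↦ r^{N-n} x_n` for `n ≤ N`, `0` otherwise -/
noncomputable def rho (F : A) (N : ℕ) : (∐ fun _ : ℕ => F) ⟶ F :=
  Sigma.desc fun n => if n ≤ N then (r ^ (N - n)) • 𝟙 F else 0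

lemma awayMap_rho (F : A) (N : ℕ) : awayMap r F ≫ rho r F N = Sigma.π (fun _ : ℕ => F) N := by
  apply Sigma.hom_ext
  intro n
  rw [ι_awayMap_assoc, Preadditive.sub_comp, Category.assoc, Sigma.ι_π]
  unfold rho
  rw [Sigma.ι_desc, Sigma.ι_desc]
  rcases lt_trichotomy n N with h | h | h
  · rw [if_pos h.le, if_pos (by omega : n + 1 ≤ N), dif_neg h.ne]
    have : N - n = (N - (n + 1)) + 1 := by omega
    rw [this, pow_succ, mul_comm, mul_smul]
    simp [smul_comm r]
  · subst h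
    rw [if_pos le_rfl, if_neg (by omega), dif_pos rfl]
    simp
  · rw [if_neg (by omega), if_neg (by omega), dif_neg (by omega)]
    simp

/-- transposition `Hom(F, ∏_ℕ G) → Hom(∐_ℕ F, G)` -/
noncomputable def tr {F G : A} (h : F ⟶ ∏ᶜ fun _ : ℕ => G) : (∐ fun _ : ℕ => F) ⟶ G :=
  Sigma.desc fun n => h ≫ Pi.π (fun _ : ℕ => G) n

/-- transposition `Hom(∐_ℕ F, G) → Hom(F, ∏_ℕ G)` -/
noncomputable def tr' {F G : A} (g : (∐ fun _ : ℕ => F) ⟶ G) : F ⟶ ∏ᶜ fun _ : ℕ => G :=
  Pi.lift fun n => Sigma.ι (fun _ : ℕ => F) n ≫ g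

@[reassoc (attr := simp)]
lemma ι_tr {F G : A} (h : F ⟶ ∏ᶜ fun _ : ℕ => G) (n : ℕ) :
    Sigma.ι (fun _ : ℕ => F) n ≫ tr h = h ≫ Pi.π (fun _ : ℕ => G) n := by
  simp [tr]

@[reassoc (attr := simp)]
lemma tr'_π {F G : A} (g : (∐ fun _ : ℕ => F) ⟶ G) (n : ℕ) :
    tr' g ≫ Pi.π (fun _ : ℕ => G) n = Sigma.ι (fun _ : ℕ => F) n ≫ g := by
  simp [tr']

@[simp]
lemma tr_tr' {F G : A} (g : (∐ fun _ : ℕ => F) ⟶ G) : tr (tr' g) = g := by
  apply Sigma.hom_ext
  intro n
  simp

@[simp]
lemma tr'_tr {F G : A} (h : F ⟶ ∏ᶜ fun _ : ℕ => G) : tr' (tr h) = h := by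
  apply Pi.hom_ext
  intro n
  simp

lemma tr_injective {F G : A} : Function.Injective (tr : (F ⟶ ∏ᶜ fun _ : ℕ => G) → _) :=
  fun h h' e => by rw [← tr'_tr h, e, tr'_tr]

lemma tr'_injective {F G : A} : Function.Injective (tr' : ((∐ fun _ : ℕ => F) ⟶ G) → _) :=
  fun h h' e => by rw [← tr_tr' h, e, tr_tr']

lemma awayMap_tr {F G : A} (h : F ⟶ ∏ᶜ fun _ : ℕ => G) :
    awayMap r F ≫ tr h = tr (h ≫ coawayMap r G) := by
  apply Sigma.hom_ext
  intro n
  simp [Preadditive.sub_comp, Preadditive.comp_sub]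

lemma tr'_coawayMap {F G : A} (g : (∐ fun _ : ℕ => F) ⟶ G) :
    tr' g ≫ coawayMap r G = tr' (awayMap r F ≫ g) := by
  apply tr_injective
  rw [← awayMap_tr, tr_tr', tr_tr']

lemma tr_comp {F G G' : A} (h : F ⟶ ∏ᶜ fun _ : ℕ => G) (g : G ⟶ G') :
    tr h ≫ g = tr (h ≫ Limits.Pi.map fun _ => g) := by
  apply Sigma.hom_ext
  intro n
  simp

lemma comp_tr {F' F G : A} (f : F' ⟶ F) (h : F ⟶ ∏ᶜ fun _ : ℕ => G) :
    (Limits.Sigma.map fun _ => f) ≫ tr h = tr (f ≫ h) := by
  apply Sigma.hom_ext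
  intro n
  simp

lemma sigmaMap_awayMap {F F' : A} (f : F ⟶ F') :
    (Limits.Sigma.map fun _ : ℕ => f) ≫ awayMap r F' = awayMap r F ≫ Limits.Sigma.map fun _ : ℕ => f := by
  apply Sigma.hom_ext
  intro n
  simp [Preadditive.sub_comp, Preadditive.comp_sub]

lemma piMap_coawayMap {G G' : A} (g : G ⟶ G') :
    (Limits.Pi.map fun _ : ℕ => g) ≫ coawayMap r G' = coawayMap r G ≫ Limits.Pi.map fun _ : ℕ => g := by
  apply Pi.hom_ext
  intro n
  simp [Preadditive.sub_comp, Preadditive.comp_sub]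

/-- the localisation functor `F ↦ F[1/r]`, as the cokernel of `awayMap` -/
@[simps]
noncomputable def locF : A ⥤ A where
  obj F := cokernel (awayMap r F)
  map f := cokernel.map _ _ (Limits.Sigma.map fun _ => f) (Limits.Sigma.map fun _ => f)
    (sigmaMap_awayMap r f).symm
  map_id F := by
    apply coequalizer.hom_ext
    simp
  map_comp f g := by
    apply coequalizer.hom_ext
    simp only [cokernel.π_desc, cokernel.π_desc_assoc, Category.assoc, cokernel.map]
    rw [← Category.assoc, Limits.Sigma.map_comp_map]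

/-- the functor `G ↦ ker (1 - r·shift : ∏_ℕ G ⟶ ∏_ℕ G)` -/
@[simps]
noncomputable def tF : A ⥤ A where
  obj G := kernel (coawayMap r G)
  map g := kernel.map _ _ (Limits.Pi.map fun _ => g) (Limits.Pi.map fun _ => g) (piMap_coawayMap r g).symm
  map_id G := by
    apply equalizer.hom_ext
    simp
  map_comp f g := by
    apply equalizer.hom_ext
    simp only [kernel.lift_ι, kernel.lift_ι_assoc, Category.assoc, kernel.map]
    rw [Limits.Pi.map_comp_map]

variable [HasColimitsOfShape (Finset (Discrete ℕ)) A]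
  [HasExactColimitsOfShape (Finset (Discrete ℕ)) A]

/-- under AB5, `awayMap r F` is a monomorphism -/
instance mono_awayMap (F : A) : Mono (awayMap r F) := by
  rw [Preadditive.mono_iff_cancel_zero]
  intro Z k hk
  rw [← cancel_mono (sigmaToPi (fun _ : ℕ => F)), zero_comp]
  apply Pi.hom_ext
  intro N
  rw [Category.assoc, sigmaToPi_π, zero_comp, ← awayMap_rho r F N, reassoc_of% hk, zero_comp]

end Away


end Groth.Agent.R2.H61.LocAway
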