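import Groth.Agent.R2.H61LocAway1

/-!
# The localisation functor `F ↦ F[1/r]` and its right adjoint (helper61)

`locF r ⊣ tF r`, `locF r` is exact under AB5 + enough injectives, `tF r` preserves injectives and
`coawayMap r G` is a split epimorphism for injective `G`.
-/

set_option autoImplicit false
universe w v u
open CategoryTheory CategoryTheory.Limits

namespace Groth.Agent.R2.H61.LocAway

section Adj

set_option linter.unusedSectionVars false

variable {R : Type*} [CommRing R] {A : Type u} [Category.{v} A] [Abelian A] [Linear R A]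
  [HasColimitsOfShape (Discrete ℕ) A] [HasLimitsOfShape (Discrete ℕ) A]
  (r : R)

/-- the projection `∐_ℕ F ⟶ F[1/r]` -/
noncomputable def locπ (F : A) : (∐ fun _ : ℕ => F) ⟶ (locF r).obj F := cokernel.π (awayMap r F)

instance (F : A) : Epi (locπ r F) := inferInstanceAs (Epi (cokernel.π (awayMap r F)))

@[reassoc (attr := simp)]
lemma awayMap_locπ (F : A) : awayMap r F ≫ locπ r F = 0 := cokernel.condition _

/-- morphisms out of `F[1/r]` -/
noncomputable def locDesc {F G : A} (g : (∐ fun _ : ℕ => F) ⟶ G) (hg : awayMap r F ≫ g = 0) :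
    (locF r).obj F ⟶ G := cokernel.desc _ g hg

@[reassoc (attr := simp)]
lemma locπ_desc {F G : A} (g : (∐ fun _ : ℕ => F) ⟶ G) (hg : awayMap r F ≫ g = 0) :
    locπ r F ≫ locDesc r g hg = g := cokernel.π_desc _ _ _

@[reassoc]
lemma locπ_map {F F' : A} (f : F ⟶ F') :
    locπ r F ≫ (locF r).map f = (Limits.Sigma.map fun _ : ℕ => f) ≫ locπ r F' := by
  simp [locπ, locF]

/-- `locπ` is the cokernel of `awayMap` -/
noncomputable def isColimitLocπ (F : A) :
    IsColimit (CokernelCofork.ofπ (locπ r F) (awayMap_locπ r F)) :=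
  cokernelIsCokernel (awayMap r F)

/-- the inclusion `T G ⟶ ∏_ℕ G` -/
noncomputable def tι (G : A) : (tF r).obj G ⟶ ∏ᶜ fun _ : ℕ => G := kernel.ι (coawayMap r G)

instance (G : A) : Mono (tι r G) := inferInstanceAs (Mono (kernel.ι (coawayMap r G)))

@[reassoc (attr := simp)]
lemma tι_coawayMap (G : A) : tι r G ≫ coawayMap r G = 0 := kernel.condition _

/-- morphisms into `T G` -/
noncomputable def tLift {F G : A} (h : F ⟶ ∏ᶜ fun _ : ℕ => G) (hh : h ≫ coawayMap r G = 0) :
    F ⟶ (tF r).obj G := kernel.lift _ h hh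

@[reassoc (attr := simp)]
lemma tLift_ι {F G : A} (h : F ⟶ ∏ᶜ fun _ : ℕ => G) (hh : h ≫ coawayMap r G = 0) :
    tLift r h hh ≫ tι r G = h := kernel.lift_ι _ _ _

@[reassoc]
lemma map_tι {G G' : A} (g : G ⟶ G') :
    (tF r).map g ≫ tι r G' = tι r G ≫ Limits.Pi.map fun _ : ℕ => g := by
  simp [tι, tF]

/-- `tι` is the kernel of `coawayMap` -/
noncomputable def isLimitTι (G : A) :
    IsLimit (KernelFork.ofι (tι r G) (tι_coawayMap r G)) :=
  kernelIsKernel (coawayMap r G)

lemma tr_zero {F G : A} : tr (0 : F ⟶ ∏ᶜ fun _ : ℕ => G) = 0 := by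
  apply Sigma.hom_ext
  intro n
  simp

lemma tr'_zero {F G : A} : tr' (0 : (∐ fun _ : ℕ => F) ⟶ G) = 0 := by
  apply Pi.hom_ext
  intro n
  simp

/-- the hom-set bijection `Hom(F[1/r], G) ≃ Hom(F, T G)` -/
noncomputable def locHomEquiv (F G : A) : ((locF r).obj F ⟶ G) ≃ (F ⟶ (tF r).obj G) where
  toFun g := tLift r (tr' (locπ r F ≫ g)) (by
    rw [tr'_coawayMap, awayMap_locπ_assoc, zero_comp, tr'_zero])
  invFun h := locDesc r (tr (h ≫ tι r G)) (by
    rw [awayMap_tr, Category.assoc, tι_coawayMap, comp_zero, tr_zero])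
  left_inv g := by
    rw [← cancel_epi (locπ r F), locπ_desc, tLift_ι, tr_tr']
  right_inv h := by
    rw [← cancel_mono (tι r G), tLift_ι, locπ_desc, tr'_tr]

lemma locHomEquiv_apply_ι {F G : A} (g : (locF r).obj F ⟶ G) :
    locHomEquiv r F G g ≫ tι r G = tr' (locπ r F ≫ g) := tLift_ι _ _ _

lemma π_locHomEquiv_symm {F G : A} (h : F ⟶ (tF r).obj G) :
    locπ r F ≫ (locHomEquiv r F G).symm h = tr (h ≫ tι r G) := locπ_desc _ _ _

/-- the adjunction `F ↦ F[1/r] ⊣ T` -/
noncomputable def locAdj : locF (A := A) r ⊣ tF (A := A) r :=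
  Adjunction.mkOfHomEquiv
    { homEquiv := locHomEquiv r
      homEquiv_naturality_left_symm := fun {F' F G} f h => by
        rw [← cancel_epi (locπ r F'), π_locHomEquiv_symm, locπ_map_assoc, π_locHomEquiv_symm,
          comp_tr, Category.assoc]
      homEquiv_naturality_right := fun {F G G'} g k => by
        rw [← cancel_mono (tι r G'), locHomEquiv_apply_ι, Category.assoc, map_tι,
          ← Category.assoc (locHomEquiv r F G g), locHomEquiv_apply_ι]
        apply tr_injective
        rw [tr_tr', ← tr_comp, tr_tr', Category.assoc] }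

section Exact

variable [HasColimitsOfShape (Finset (Discrete ℕ)) A]
  [HasExactColimitsOfShape (Finset (Discrete ℕ)) A]

/-- for `G` injective, `coawayMap r G` has a section -/
lemma exists_section_coawayMap (G : A) [Injective G] :
    ∃ σ : (∏ᶜ fun _ : ℕ => G) ⟶ ∏ᶜ fun _ : ℕ => G, σ ≫ coawayMap r G = 𝟙 _ := by
  let g := Injective.factorThru (tr (𝟙 (∏ᶜ fun _ : ℕ => G))) (awayMap r (∏ᶜ fun _ : ℕ => G))
  have hg : awayMap r (∏ᶜ fun _ : ℕ => G) ≫ g = tr (𝟙 _) := Injective.comp_factorThru _ _
  refine ⟨tr' g, ?_⟩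
  rw [tr'_coawayMap, hg, tr'_tr]

instance epi_coawayMap (G : A) [Injective G] : Epi (coawayMap r G) := by
  obtain ⟨σ, hσ⟩ := exists_section_coawayMap r G
  exact epi_of_epi_fac hσ

/-- `T G` is injective when `G` is -/
instance injective_tF_obj (G : A) [Injective G] : Injective ((tF r).obj G) := by
  obtain ⟨σ, hσ⟩ := exists_section_coawayMap r G
  -- `T G` is a retract of `∏ G`
  let p : (∏ᶜ fun _ : ℕ => G) ⟶ (tF r).obj G :=
    tLift r (𝟙 _ - coawayMap r G ≫ σ) (by
      rw [Preadditive.sub_comp, Category.id_comp, Category.assoc, hσ, Category.comp_id, sub_self])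
  have hp : tι r G ≫ p = 𝟙 _ := by
    rw [← cancel_mono (tι r G), Category.assoc, tLift_ι, Preadditive.comp_sub, Category.comp_id,
      tι_coawayMap_assoc, zero_comp, sub_zero, Category.id_comp]
  have : Injective (∏ᶜ fun _ : ℕ => G) := inferInstance
  exact Retract.injective (Y := ∏ᶜ fun _ : ℕ => G) ⟨tι r G, p, hp⟩

instance preservesColimits_locF : PreservesColimitsOfSize.{w, w} (locF (A := A) r) :=
  (locAdj r).leftAdjoint_preservesColimits

instance preservesFiniteColimits_locF : PreservesFiniteColimits (locF (A := A) r) := by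
  have : PreservesColimitsOfSize.{0, 0} (locF (A := A) r) :=
    (locAdj r).leftAdjoint_preservesColimits
  exact PreservesColimitsOfSize.preservesFiniteColimits _

instance preservesFiniteLimits_tF : PreservesFiniteLimits (tF (A := A) r) := by
  have : PreservesLimitsOfSize.{0, 0} (tF (A := A) r) :=
    (locAdj r).rightAdjoint_preservesLimits
  exact PreservesLimitsOfSize.preservesFiniteLimits _

instance additive_locF : (locF (A := A) r).Additive := by
  have := preservesBinaryBiproducts_of_preservesBinaryCoproducts (locF (A := A) r)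
  exact Functor.additive_of_preservesBinaryBiproducts _

instance additive_tF : (tF (A := A) r).Additive := (locAdj r).right_adjoint_additive

variable [EnoughInjectives A]

instance preservesMonomorphisms_locF : (locF (A := A) r).PreservesMonomorphisms where
  preserves {F F'} f hf := by
    -- embed `F[1/r]` into an injective `G`; the embedding extends along `f[1/r]`
    let e := Injective.ι ((locF r).obj F)
    let h : F ⟶ (tF r).obj (Injective.under ((locF r).obj F)) := (locAdj r).homEquiv _ _ e
    let h' : F' ⟶ (tF r).obj (Injective.under ((locF r).obj F)) := Injective.factorThru h f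
    have hh' : f ≫ h' = h := Injective.comp_factorThru h f
    have : (locF r).map f ≫ ((locAdj r).homEquiv _ _).symm h' = e := by
      rw [← Adjunction.homEquiv_naturality_left_symm, hh']
      exact Equiv.symm_apply_apply _ _
    exact mono_of_mono_fac this

instance preservesFiniteLimits_locF : PreservesFiniteLimits (locF (A := A) r) := by
  rw [Functor.preservesFiniteLimits_iff_forall_exact_map_and_mono]
  intro S hS
  have := hS.mono_f
  refine ⟨?_, inferInstance⟩
  exact ((Functor.preservesFiniteColimits_iff_forall_exact_map_and_epi (locF (A := A) r)).1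
    (preservesFiniteColimits_locF r) S hS).1

end Exact

end Adj

end Groth.Agent.R2.H61.LocAway
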