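import Groth.Prelude.Def_DerComp
import Groth.Agent.Lib.Helper21ModTensor7

/-!
# Tensor products of sheaves of modules are linear over global sections (helper61)
-/

set_option autoImplicit false
universe u
open CategoryTheory CategoryTheory.Limits MonoidalCategory Opposite

namespace Groth.Agent.R2.H61.LocSite

open Groth.Agent.Lib.Helper21.ModTensor Groth.Agent.Lib.Helper21.ModTensor2
  Groth.Agent.Lib.Helper21.ModTensor3 Groth.Agent.Lib.Helper21.ModTensor5
  Groth.Agent.Lib.Helper21.ModTensor7

variable {C : Type u} [SmallCategory C] {J : GrothendieckTopology C} {O : Sheaf J CommRingCat.{u}}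

/-- the component of a global section, typed as a scalar for presheaves of modules in `PM O` -/
abbrev gval (s : DerComp.GSec O) (X : Cᵒᵖ) :
    (O.obj ⋙ forget₂ CommRingCat.{u} RingCat.{u}).obj X := s.1 X.unop

lemma gval_comm (s : DerComp.GSec O) (X : Cᵒᵖ)
    (r : (O.obj ⋙ forget₂ CommRingCat.{u} RingCat.{u}).obj X) : gval s X * r = r * gval s X :=
  mul_comm (s.1 X.unop) (show O.obj.obj X from r)

/-- multiplication by a global section on a presheaf of modules -/
noncomputable def psmul (s : DerComp.GSec O) (M : PM O) : M ⟶ M where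
  app X := ModuleCat.ofHom
    { toFun := fun x => gval s X • x
      map_add' := fun x y => smul_add _ x y
      map_smul' := fun r x => by
        rw [RingHom.id_apply, smul_smul, smul_smul]
        exact congrArg (fun t => t • x) (gval_comm s X r) }
  naturality := fun {X Y} g => by
    ext x
    dsimp
    rw [PresheafOfModules.map_smul]
    congr 1
    exact (s.2 g.unop).symm

lemma psmul_app_apply (s : DerComp.GSec O) (M : PM O) (X : Cᵒᵖ) (x : M.obj X) :
    ((psmul s M).app X).hom x = gval s X • x := rfl

lemma psmul_comm (s : DerComp.GSec O) {M N : PM O} (φ : M ⟶ N) :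
    psmul s M ≫ φ = φ ≫ psmul s N := by
  ext X x
  change (φ.app X).hom (gval s X • x) = gval s X • (φ.app X).hom x
  exact (φ.app X).hom.map_smul _ _

lemma fgt_map_smulEnd (s : DerComp.GSec O) (F : ModSite.Mod O) :
    (fgt O).map (DerComp.smulEnd s F) = psmul s ((fgt O).obj F) := rfl

lemma shf_map_psmul (s : DerComp.GSec O) (M : PM O) :
    (shf O).map (psmul s M) = DerComp.smulEnd s ((shf O).obj M) := by
  apply ((adj O).homEquiv _ _).injective
  rw [Adjunction.homEquiv_unit, Adjunction.homEquiv_unit, fgt_map_smulEnd]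
  exact ((adj O).unit.naturality (psmul s M)).symm.trans (psmul_comm s (eta O M))

lemma whiskerLeft_psmul (s : DerComp.GSec O) (A B : PM O) :
    A ◁ psmul s B = psmul s (A ⊗ B) := by
  ext1 X
  apply ModuleCat.MonoidalCategory.tensor_ext
  intro m₁ m₂
  change m₁ ⊗ₜ[(O.obj.obj X : Type u)] ((show (O.obj.obj X : Type u) from s.1 X.unop) • m₂) =
    (show (O.obj.obj X : Type u) from s.1 X.unop) • (m₁ ⊗ₜ[(O.obj.obj X : Type u)] m₂)
  exact TensorProduct.tmul_smul _ _ _

/-- `F ⊗_O -` is linear over the ring of global sections -/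
lemma tL_map_smulEnd (s : DerComp.GSec O) (F G : ModSite.Mod O) :
    (tL O F).map (DerComp.smulEnd s G) = DerComp.smulEnd s ((tL O F).obj G) := by
  rw [tL_map, fgt_map_smulEnd, whiskerLeft_psmul, shf_map_psmul]
  rfl

instance linear_tL (F : ModSite.Mod O) : (tL O F).Linear (DerComp.GSec O) where
  map_smul {G G'} g s := by
    rw [DerComp.smul_def, DerComp.smul_def, Functor.map_comp, tL_map_smulEnd]

end Groth.Agent.R2.H61.LocSite
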