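import Groth.Agent.R2.H61LocSite2
import Groth.Agent.Lib.Helper1LDer4
import Groth.Agent.Lib.Helper1BKF11

/-!
# Flatness of `O[1/s]` and `Tot(- ⊗ N[0])` (helper61)
-/

set_option autoImplicit false
universe u
open CategoryTheory CategoryTheory.Limits MonoidalCategory Opposite HomologicalComplex

attribute [local instance] HasDerivedCategory.standard

namespace Groth.Agent.R2.H61.LocSite

open Groth.Agent.Lib.Helper21.ModTensor Groth.Agent.Lib.Helper21.ModTensor2
  Groth.Agent.Lib.Helper21.ModTensor3 Groth.Agent.Lib.Helper21.ModTensor5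
  Groth.Agent.Lib.Helper21.ModTensor7

open Groth.Agent.R2.H61.LocAway Groth.Agent.Lib.Helper1.BKF

variable {C : Type u} [SmallCategory C] {J : GrothendieckTopology C} {O : Sheaf J CommRingCat.{u}}

variable (s : DerComp.GSec O)

lemma isFlat_N₀ : ModSite.IsFlat (N₀ s) := by
  constructor
  · exact preservesFiniteLimits_of_natIso (etaIso s).symm
  · infer_instance

section Single

variable (N : ModSite.Mod O)

/-- `L ⊗ N` termwise is `Tot(L ⊗ N[0])` -/
noncomputable def kappaApp (L : CochainComplex (ModSite.Mod O) ℤ) :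
    ((tR O N).mapHomologicalComplex (ComplexShape.up ℤ)).obj L ≅
      (TR (ModSite.tensorBi O) (sg N 0)).obj L :=
  Hom.isoOfComponents (fun n => sgIso (ModSite.tensorBi O) L N 0 n n (add_zero n))
    (fun i j hij => by
      change sgι (ModSite.tensorBi O) L N 0 i i (add_zero i) ≫
          (mapBifunctor L (sg N 0) (ModSite.tensorBi O) (ComplexShape.up ℤ)).d i j =
        ((ModSite.tensorBi O).map (L.d i j)).app N ≫ sgι (ModSite.tensorBi O) L N 0 j j (add_zero j)
      exact sgι_comm (ModSite.tensorBi O) L N 0 i i j j (add_zero i) hij hij)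

lemma kappaApp_naturality {L L' : CochainComplex (ModSite.Mod O) ℤ} (g : L ⟶ L') :
    ((tR O N).mapHomologicalComplex (ComplexShape.up ℤ)).map g ≫ (kappaApp N L').hom =
      (kappaApp N L).hom ≫ (TR (ModSite.tensorBi O) (sg N 0)).map g := by
  refine HomologicalComplex.hom_ext _ _ (fun n => ?_)
  change ((ModSite.tensorBi O).map (g.f n)).app N ≫ sgι (ModSite.tensorBi O) L' N 0 n n _ =
    sgι (ModSite.tensorBi O) L N 0 n n _ ≫ ((TR (ModSite.tensorBi O) (sg N 0)).map g).f n
  unfold sgι
  have h1 := ι_TR_map (ModSite.tensorBi O) (sg N 0) g n 0 n (add_zero n)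
  have h2 := ((ModSite.tensorBi O).map (g.f n)).naturality
    (singleObjXSelf (ComplexShape.up ℤ) 0 N).inv
  exact (Category.assoc _ _ _).symm.trans ((congrArg (· ≫ _) h2.symm).trans
    ((Category.assoc _ _ _).trans ((congrArg (_ ≫ ·) h1.symm).trans (Category.assoc _ _ _).symm)))

/-- `(- ⊗ N)` termwise is `Tot(- ⊗ N[0])` -/
noncomputable def kappaIso :
    (tR O N).mapHomologicalComplex (ComplexShape.up ℤ) ≅ TR (ModSite.tensorBi O) (sg N 0) :=
  NatIso.ofComponents (kappaApp N) (fun g => kappaApp_naturality N g)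

end Single

end Groth.Agent.R2.H61.LocSite
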