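import Groth.Agent.R2.H61LocSite3
import Groth.Agent.R2.H61LocAway3

/-!
# `RHom_O(O_s, K)` is `T(K, s)` on a ringed site (helper61)

* `nonempty_lTensorCx_iso`: `- ⊗^L O_s[0] ≅ (F ↦ F[1/s]).mapDerivedCategory`.
* `isT_rhom_away`: S13484.
-/

set_option autoImplicit false
universe u
open CategoryTheory CategoryTheory.Limits MonoidalCategory Opposite HomologicalComplex

attribute [local instance] HasDerivedCategory.standard

namespace Groth.Agent.R2.H61.LocSite

open Groth.Agent.Lib.Helper21.ModTensor Groth.Agent.Lib.Helper21.ModTensor2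
  Groth.Agent.Lib.Helper21.ModTensor3 Groth.Agent.Lib.Helper21.ModTensor5
  Groth.Agent.Lib.Helper21.ModTensor7

open Groth.Agent.R2.H61.LocAway Groth.Agent.Lib.Helper1.BKF

variable {C : Type u} [SmallCategory C] {J : GrothendieckTopology C} {O : Sheaf J CommRingCat.{u}}

variable (s : DerComp.GSec O)

/-- `- ⊗^L N[0]` is termwise localisation at `s` when `N ≅ O[1/s]` -/
theorem nonempty_lTensorCx_iso (N : ModSite.Mod O) (e : N ≅ N₀ s)
    [ModSite.HasLTensorCx ((CochainComplex.singleFunctor (ModSite.Mod O) 0).obj N)] :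
    Nonempty (ModSite.LTensorCx ((CochainComplex.singleFunctor (ModSite.Mod O) 0).obj N) ≅
      (locF (R := DerComp.GSec O) (A := ModSite.Mod O) s).mapDerivedCategory) := by
  have hNflat : ModSite.IsFlat N := isFlat_of_iso O e.symm (isFlat_N₀ s)
  have hP : ModSite.IsKFlat ((CochainComplex.singleFunctor (ModSite.Mod O) 0).obj N) :=
    (kff_of_concentrated ((CochainComplex.singleFunctor (ModSite.Mod O) 0).obj N) 0
      (fun q hq => isZero_single_obj_X (ComplexShape.up ℤ) 0 N q hq)
      (isFlat_of_iso O (singleObjXSelf (ComplexShape.up ℤ) 0 N).symm hNflat)).1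
  obtain ⟨i1⟩ := nonempty_iso_Q_comp_LTensorCx
    ((CochainComplex.singleFunctor (ModSite.Mod O) 0).obj N)
    ((CochainComplex.singleFunctor (ModSite.Mod O) 0).obj N) (𝟙 _) hP
  let i2 : ModSite.tensorCxQ ((CochainComplex.singleFunctor (ModSite.Mod O) 0).obj N) ≅
      (tR O N).mapHomologicalComplex (ComplexShape.up ℤ) ⋙ DerivedCategory.Q :=
    Functor.isoWhiskerRight (kappaIso N).symm DerivedCategory.Q
  let η' : tR O N ≅ locF (R := DerComp.GSec O) (A := ModSite.Mod O) s :=
    (ModSite.tensorBi O).flip.mapIso e ≪≫ etaIso s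
  let i3 : (tR O N).mapHomologicalComplex (ComplexShape.up ℤ) ⋙ DerivedCategory.Q ≅
      (locF (R := DerComp.GSec O) (A := ModSite.Mod O) s).mapHomologicalComplex
        (ComplexShape.up ℤ) ⋙ DerivedCategory.Q :=
    Functor.isoWhiskerRight (NatIso.mapHomologicalComplex η' (ComplexShape.up ℤ))
      DerivedCategory.Q
  let i4 := (locF (R := DerComp.GSec O) (A := ModSite.Mod O) s).mapDerivedCategoryFactors
  exact ⟨Localization.liftNatIso DerivedCategory.Q
    (HomologicalComplex.quasiIso (ModSite.Mod O) (ComplexShape.up ℤ)) _ _ _ _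
    (i1 ≪≫ i2 ≪≫ i3 ≪≫ i4.symm)⟩

/-- `RHom_O(O_s, K)` is a derived limit of `⋯ ⟶ K ⟶ K` with transition maps `s` -/
theorem isT_rhom_away
    [ModSite.HasLTensorCx ((CochainComplex.singleFunctor (ModSite.Mod O) 0).obj
      (DerComp.locAway s (ModSite.unit O)))]
    [DerComp.HasRHom ((CochainComplex.singleFunctor (ModSite.Mod O) 0).obj
      (DerComp.locAway s (ModSite.unit O)))]
    (K : DerivedCategory (ModSite.Mod O)) [HasProduct fun _ : ℕ => K] :
    DerComp.IsT s K ((DerComp.RHom ((CochainComplex.singleFunctor (ModSite.Mod O) 0).obj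
      (DerComp.locAway s (ModSite.unit O)))).obj K) := by
  obtain ⟨iso⟩ := nonempty_lTensorCx_iso s (DerComp.locAway s (ModSite.unit O)) (Iso.refl _)
  let adj := (DerComp.RHomAdj ((CochainComplex.singleFunctor (ModSite.Mod O) 0).obj
      (DerComp.locAway s (ModSite.unit O)))).ofNatIsoLeft iso
  exact exists_rlim_triangle_of_adjunction.{u} (R := DerComp.GSec O) s
    (DerComp.RHom ((CochainComplex.singleFunctor (ModSite.Mod O) 0).obj
      (DerComp.locAway s (ModSite.unit O)))) adj K

end Groth.Agent.R2.H61.LocSite
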