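import Mathlib
import Groth.Agent.Lib.Helper4ModEpi
import Groth.Agent.R2.H48QCTSpec

/-!
# helper61: PROJ:qcoh-et — the three `SheafOfModules` site packages `PkgEpi`, `PkgExact`, `PkgGen`

Universe-general versions (any site `C : Type u`, `Category.{v} C`, coefficients in universe `w`) of
helper30's `R2/H30GenSite` (which treats the one-universe case).

* `exists_locally_app_eq_of_epi` : an epimorphism of sheaves of modules is locally surjective on sections
  (from helper4's `Lib/Helper4ModEpi.isLocallySurjective_of_epi`).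
* `exists_app_eq_of_exact_of_mono`, `exists_locally_app_eq_of_exact` : (local) exactness on sections.
* `locSpan`, `subSh`, `subι`, `freeHom_fac`, `inLocSpan_of_epi` : sections are locally in the span of a
  generating family of global sections.
* `pkgEpi`, `pkgExact`, `pkgGen`.
-/

set_option autoImplicit false
set_option linter.style.haveILetI false
set_option linter.unusedVariables false
universe w v u
open CategoryTheory CategoryTheory.Limits Opposite

namespace Groth.Agent.R2.H61.QCT

variable {C : Type u} [Category.{v} C] {J : GrothendieckTopology C} {R : Sheaf J RingCat.{w}}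

section epi

variable [HasSheafify J AddCommGrpCat.{w}] [J.WEqualsLocallyBijective AddCommGrpCat.{w}]

/-- an epimorphism of sheaves of modules is locally surjective on sections -/
theorem exists_locally_app_eq_of_epi {M N : SheafOfModules.{w} R} (f : M ⟶ N) [Epi f]
    (X : Cᵒᵖ) (t : N.val.obj X) :
    ∃ S ∈ J X.unop, ∀ ⦃Y : C⦄ (g : Y ⟶ X.unop), S.arrows g →
      ∃ a : M.val.obj (op Y), (f.val.app (op Y)).hom a = N.val.map g.op t := by
  have h1 := Groth.Agent.Lib.Helper4.ModEpi.isLocallySurjective_of_epi f
  exact ⟨_, h1.imageSieve_mem (U := X.unop) t, fun Y g hg => hg⟩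

end epi

section exact

/-- sections over `X` as a functor to `R(X)`-modules -/
noncomputable abbrev ev (X : Cᵒᵖ) : SheafOfModules.{w} R ⥤ ModuleCat.{w} (R.obj.obj X) :=
  SheafOfModules.forget R ⋙ PresheafOfModules.evaluation R.obj X

instance (X : Cᵒᵖ) : PreservesFiniteLimits (ev (R := R) X) :=
  comp_preservesFiniteLimits _ _

instance (X : Cᵒᵖ) : (ev (R := R) X).Additive := by
  unfold ev; infer_instance

theorem injective_app_of_mono {M N : SheafOfModules.{w} R} (f : M ⟶ N) [Mono f] (X : Cᵒᵖ) :
    Function.Injective (f.val.app X).hom := by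
  haveI : Mono ((ev X).map f) := inferInstance
  exact (ModuleCat.mono_iff_injective ((ev X).map f)).1 inferInstance

theorem bijective_app_of_isIso {M N : SheafOfModules.{w} R} (f : M ⟶ N) [IsIso f] (X : Cᵒᵖ) :
    Function.Bijective (f.val.app X).hom := by
  haveI : IsIso ((ev X).map f) := inferInstance
  exact (ConcreteCategory.isIso_iff_bijective ((ev X).map f)).1 inferInstance

variable [HasSheafify J AddCommGrpCat.{w}] [J.WEqualsLocallyBijective AddCommGrpCat.{w}]

/-- left exactness on sections -/
theorem exists_app_eq_of_exact_of_mono (S : ShortComplex (SheafOfModules.{w} R)) (hS : S.Exact)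
    [Mono S.f] (X : Cᵒᵖ) (t : S.X₂.val.obj X) (ht : (S.g.val.app X).hom t = 0) :
    ∃ a : S.X₁.val.obj X, (S.f.val.app X).hom a = t := by
  have h1 : (S.map (ev X)).Exact := hS.map_of_mono_of_preservesKernel _ inferInstance inferInstance
  rw [ShortComplex.moduleCat_exact_iff] at h1
  exact h1 t ht

/-- exactness on sections, locally -/
theorem exists_locally_app_eq_of_exact (S : ShortComplex (SheafOfModules.{w} R)) (hS : S.Exact)
    (X : Cᵒᵖ) (t : S.X₂.val.obj X) (ht : (S.g.val.app X).hom t = 0) :
    ∃ T ∈ J X.unop, ∀ ⦃Y : C⦄ (g : Y ⟶ X.unop), T.arrows g →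
      ∃ a : S.X₁.val.obj (op Y), (S.f.val.app (op Y)).hom a = S.X₂.val.map g.op t := by
  -- `t` comes from the kernel of `g`
  let S' : ShortComplex (SheafOfModules.{w} R) := ShortComplex.mk (kernel.ι S.g) S.g (kernel.condition _)
  have hS' : S'.Exact := ShortComplex.exact_of_f_is_kernel _ (kernelIsKernel S.g)
  haveI : Mono S'.f := inferInstanceAs (Mono (kernel.ι S.g))
  obtain ⟨k, hk⟩ := exists_app_eq_of_exact_of_mono S' hS' X t ht
  haveI : Epi (kernel.lift S.g S.f S.zero) := by
    have := hS.epi_kernelLift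
    exact this
  obtain ⟨T, hT, hTk⟩ := exists_locally_app_eq_of_epi (kernel.lift S.g S.f S.zero) X k
  refine ⟨T, hT, fun Y g hg => ?_⟩
  obtain ⟨a, ha⟩ := hTk g hg
  refine ⟨a, ?_⟩
  have h2 : S.f = kernel.lift S.g S.f S.zero ≫ kernel.ι S.g := (kernel.lift_ι _ _ _).symm
  have h3 : (S.f.val.app (op Y)).hom a =
      ((kernel.ι S.g).val.app (op Y)).hom (((kernel.lift S.g S.f S.zero).val.app (op Y)).hom a) := by
    conv_lhs => rw [h2]
    rfl
  rw [h3, ha, ← hk]
  exact (PresheafOfModules.naturality_apply (kernel.ι S.g).val g.op k)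

end exact

section span

variable (M : SheafOfModules.{w} R) {I : Type w} (s : I → M.sections)

/-- the span of the values of the sections `s i` at `X` -/
def spanAt (X : Cᵒᵖ) : Submodule (R.obj.obj X) (M.val.obj X) :=
  Submodule.span _ (Set.range fun i => (s i).val X)

theorem val_mem_spanAt (X : Cᵒᵖ) (i : I) : (s i).val X ∈ spanAt M s X :=
  Submodule.subset_span ⟨i, rfl⟩

theorem map_mem_spanAt {X Y : Cᵒᵖ} (f : X ⟶ Y) {t : M.val.obj X} (ht : t ∈ spanAt M s X) :
    M.val.map f t ∈ spanAt M s Y := by
  induction ht using Submodule.span_induction with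
  | mem x hx =>
    obtain ⟨i, rfl⟩ := hx
    have := (s i).property f
    exact this ▸ val_mem_spanAt M s Y i
  | zero => rw [map_zero]; exact Submodule.zero_mem _
  | add x y _ _ hx hy => rw [map_add]; exact Submodule.add_mem _ hx hy
  | smul a x _ hx =>
    rw [PresheafOfModules.map_smul]
    exact Submodule.smul_mem _ _ hx

/-- `t` is locally in the span of the `s i` -/
def InLocSpan (X : Cᵒᵖ) (t : M.val.obj X) : Prop :=
  ∃ S ∈ J X.unop, ∀ ⦃Y : C⦄ (f : Y ⟶ X.unop), S.arrows f → M.val.map f.op t ∈ spanAt M s (op Y)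

theorem inLocSpan_of_mem {X : Cᵒᵖ} {t : M.val.obj X} (ht : t ∈ spanAt M s X) : InLocSpan M s X t :=
  ⟨⊤, J.top_mem _, fun _ f _ => map_mem_spanAt M s f.op ht⟩

/-- the family of submodules of sections which are locally in the span of the `s i` -/
def locSpan : M.val.Submodule where
  obj X :=
    { carrier := {t | InLocSpan M s X t}
      add_mem' := by
        rintro a b ⟨S, hS, ha⟩ ⟨T, hT, hb⟩
        refine ⟨S ⊓ T, J.intersection_covering hS hT, fun Y f hf => ?_⟩
        rw [map_add]
        exact Submodule.add_mem _ (ha f hf.1) (hb f hf.2)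
      zero_mem' := ⟨⊤, J.top_mem _, fun Y f _ => by rw [map_zero]; exact Submodule.zero_mem _⟩
      smul_mem' := by
        rintro c a ⟨S, hS, ha⟩
        refine ⟨S, hS, fun Y f hf => ?_⟩
        rw [PresheafOfModules.map_smul]
        exact Submodule.smul_mem _ _ (ha f hf) }
  map {X Y} f := by
    rintro t ⟨S, hS, ht⟩
    refine ⟨S.pullback f.unop, J.pullback_stable f.unop hS, fun Z g hg => ?_⟩
    have h := ht (g ≫ f.unop) hg
    rw [op_comp, Quiver.Hom.op_unop, PresheafOfModules.map_comp] at h
    exact h

theorem mem_locSpan_iff (X : Cᵒᵖ) (t : M.val.obj X) :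
    t ∈ (locSpan M s).obj X ↔ InLocSpan M s X t := Iff.rfl

/-- locality of `locSpan` -/
theorem mem_locSpan_of_locally {X : Cᵒᵖ} (t : M.val.obj X) (S : Sieve X.unop) (hS : S ∈ J X.unop)
    (h : ∀ ⦃Y : C⦄ (f : Y ⟶ X.unop), S.arrows f → M.val.map f.op t ∈ (locSpan M s).obj (op Y)) :
    t ∈ (locSpan M s).obj X := by
  choose T hT hT' using h
  refine ⟨Sieve.bind S.arrows (fun Y f hf => T f hf), J.bind_covering hS (fun Y f hf => hT f hf), ?_⟩
  rintro Z g ⟨Y, a, b, hb, ha, rfl⟩
  have := hT' b hb a ha
  rw [op_comp, PresheafOfModules.map_comp]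
  exact this

/-- `locSpan` as a subfunctor of the underlying presheaf of types -/
noncomputable def subF : Subfunctor (M.val.presheaf ⋙ forget AddCommGrpCat.{w}) where
  obj X := {t | InLocSpan M s X t}
  map {X Y} f := by
    intro t ht
    exact (locSpan M s).map f ht

theorem isSheaf_subF : Presieve.IsSheaf J (subF M s).toFunctor := by
  have hM : Presieve.IsSheaf J (M.val.presheaf ⋙ forget AddCommGrpCat.{w}) :=
    (isSheaf_iff_isSheaf_of_type J _).1
      (Presheaf.isSheaf_comp_of_isSheaf J M.val.presheaf (forget AddCommGrpCat.{w}) M.isSheaf)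
  rw [Subfunctor.isSheaf_iff _ hM]
  intro X t ht
  exact mem_locSpan_of_locally M s t _ ht (fun Y f hf => hf)

/-- comparison of the underlying presheaves of types -/
noncomputable def subFIso : (locSpan M s).toPresheafOfModules.presheaf ⋙ forget AddCommGrpCat.{w} ≅
    (subF M s).toFunctor :=
  NatIso.ofComponents (fun X => Iso.refl _) (fun {X Y} f => by
    ext t
    rfl)

theorem isSheaf_locSpan : Presheaf.IsSheaf J (locSpan M s).toPresheafOfModules.presheaf := by
  apply Presheaf.isSheaf_of_isSheaf_comp J _ (forget AddCommGrpCat.{w})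
  rw [isSheaf_iff_isSheaf_of_type]
  exact Presieve.isSheaf_iso J (subFIso M s).symm (isSheaf_subF M s)

/-- the subsheaf of modules of sections locally in the span of the `s i` -/
noncomputable def subSh : SheafOfModules.{w} R where
  val := (locSpan M s).toPresheafOfModules
  isSheaf := isSheaf_locSpan M s

/-- the inclusion of `subSh` -/
noncomputable def subι : subSh M s ⟶ M := ⟨(locSpan M s).ι⟩

instance mono_subι : Mono (subι M s) :=
  (SheafOfModules.forget R).mono_of_mono_map (inferInstanceAs (Mono (locSpan M s).ι))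

/-- the sections `s i` lifted to `subSh` -/
noncomputable def liftSec (i : I) : (subSh M s).sections :=
  PresheafOfModules.sectionsMk
    (fun X => (⟨(s i).val X, inLocSpan_of_mem M s (val_mem_spanAt M s X i)⟩ : (locSpan M s).obj X))
    (fun X Y f => Subtype.ext ((s i).property f))

theorem sectionsMap_subι_liftSec (i : I) :
    SheafOfModules.sectionsMap (subι M s) (liftSec M s i) = s i := by
  ext X
  rfl

variable [HasSheafify J AddCommGrpCat.{w}] [J.WEqualsLocallyBijective AddCommGrpCat.{w}]

theorem freeHom_fac :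
    (subSh M s).freeHomEquiv.symm (liftSec M s) ≫ subι M s = M.freeHomEquiv.symm s := by
  rw [SheafOfModules.freeHomEquiv_symm_comp]
  have : (fun i => SheafOfModules.sectionsMap (subι M s) (liftSec M s i)) = s :=
    funext (sectionsMap_subι_liftSec M s)
  rw [this]

/-- if the sections `s i` generate `M`, every section of `M` is locally a linear combination of the `s i` -/
theorem inLocSpan_of_epi [Epi (M.freeHomEquiv.symm s)] (X : Cᵒᵖ) (t : M.val.obj X) :
    InLocSpan M s X t := by
  haveI : Epi ((subSh M s).freeHomEquiv.symm (liftSec M s) ≫ subι M s) := by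
    rw [freeHom_fac]; infer_instance
  haveI : Epi (subι M s) := epi_of_epi ((subSh M s).freeHomEquiv.symm (liftSec M s)) _
  haveI : IsIso (subι M s) := isIso_of_mono_of_epi _
  obtain ⟨t', rfl⟩ := (bijective_app_of_isIso (subι M s) X).2 t
  exact t'.2

end span

end Groth.Agent.R2.H61.QCT

namespace Groth.Agent.R2.H61.QCT

open Groth.Agent.R2.H48

/-- **Package Epi** -/
theorem pkgEpi : QCTSpec.PkgEpi.{w, v, u} := by
  intro C _ J R _ _ M N p _ U y
  obtain ⟨S, hS, h⟩ := exists_locally_app_eq_of_epi p (op U) y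
  exact ⟨S, hS, fun V g hg => h g hg⟩

/-- **Package Exact** -/
theorem pkgExact : QCTSpec.PkgExact.{w, v, u} := by
  intro C _ J R _ _ T hT U y hy
  obtain ⟨S, hS, h⟩ := exists_locally_app_eq_of_exact T hT (op U) y hy
  exact ⟨S, hS, fun V g hg => h g hg⟩

/-- **Package Gen** -/
theorem pkgGen : QCTSpec.PkgGen.{w, v, u} := by
  intro C _ J R _ _ M σ U m
  obtain ⟨S, hS, h⟩ := inLocSpan_of_epi M σ.s (op U) m
  exact ⟨S, hS, fun V g hg => h g hg⟩

end Groth.Agent.R2.H61.QCT

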