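import Groth.Agent.R2.H61RG1

/-!
# helper61: vanishing of `RΓ_I` on complexes on which some `f ∈ I` acts bijectively
-/

set_option autoImplicit false
universe w v u
open CategoryTheory CategoryTheory.Limits Opposite

namespace Groth.Agent.R2.H61.RG

section Gen

variable {C : Type u} [Category.{v} C] [Abelian C] [HasDerivedCategory.{w} C]

theorem isZero_of_forall_isZero_homology (X : DerivedCategory C)
    (h : ∀ q : ℤ, IsZero ((DerivedCategory.homologyFunctor C q).obj X)) : IsZero X := by
  rw [IsZero.iff_id_eq_zero]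
  have : IsIso (0 : X ⟶ X) := by
    rw [DerivedCategory.isIso_iff]
    intro n
    exact ⟨⟨0, (h n).eq_of_src _ _, (h n).eq_of_src _ _⟩⟩
  calc 𝟙 X = (0 : X ⟶ X) ≫ inv (0 : X ⟶ X) := (IsIso.hom_inv_id _).symm
    _ = 0 := zero_comp

end Gen

section Lin

variable {R : Type w} [CommRing R] {C : Type u} [Category.{v} C] [Preadditive C] [Linear R C]

/-- if `f^n` kills `E` and `f` acts invertibly on `Y` then `Hom(E, Y) = 0`. -/
theorem hom_eq_zero_of_smul {E Y : C} (f : R) (n : ℕ) (hE : (f ^ n) • 𝟙 E = 0)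
    [IsIso (f • 𝟙 Y)] (φ : E ⟶ Y) : φ = 0 := by
  have hinj : ∀ ψ : E ⟶ Y, f • ψ = 0 → ψ = 0 := by
    intro ψ hψ
    have h1 : ψ ≫ (f • 𝟙 Y) = 0 := by rw [Linear.comp_smul, Category.comp_id, hψ]
    rw [← cancel_mono (f • 𝟙 Y), h1, zero_comp]
  have hn : (f ^ n) • φ = 0 := by
    have : (f ^ n) • φ = ((f ^ n) • 𝟙 E) ≫ φ := by rw [Linear.smul_comp, Category.id_comp]
    rw [this, hE, zero_comp]
  clear hE
  induction n with
  | zero => simpa using hn
  | succ k ih =>
    apply ih
    apply hinj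
    rw [smul_smul, ← pow_succ']
    exact hn

end Lin

section Main

attribute [local instance] HasDerivedCategory.standard

variable {A : Type u} [CommRing A] (I : Ideal A)

/-- multiplication by `f` on a complex on whose terms `f` acts bijectively is an isomorphism -/
theorem isIso_smul_id_of_bijective (K : CochainComplex (ModuleCat.{u} A) ℤ) (f : A)
    (hK : ∀ n : ℤ, Function.Bijective (fun x : K.X n => f • x)) : IsIso (f • 𝟙 K) := by
  have : ∀ n, IsIso ((f • 𝟙 K : K ⟶ K).f n) := by
    intro n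
    let e : K.X n ≃ₗ[A] K.X n :=
      LinearEquiv.ofBijective (f • (LinearMap.id : K.X n →ₗ[A] K.X n)) (hK n)
    have he : (f • 𝟙 K : K ⟶ K).f n = e.toModuleIso.hom := by
      apply ModuleCat.hom_ext
      apply LinearMap.ext
      intro x
      simp [e]
    rw [he]
    infer_instance
  exact HomologicalComplex.Hom.isIso_of_components _

theorem subsingleton_hom_quot_pow (K : CochainComplex (ModuleCat.{u} A) ℤ) (f : A) (hf : f ∈ I)
    (hK : ∀ n : ℤ, Function.Bijective (fun x : K.X n => f • x)) (n : ℕ) (q : ℤ)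
    (φ : (DerivedCategory.singleFunctor (ModuleCat.{u} A) 0).obj (ModuleCat.of A (A ⧸ I ^ n)) ⟶
      ((DerivedCategory.Q : _ ⥤ Dual.D A).obj K)⟦q⟧) : φ = 0 := by
  have := isIso_smul_id_of_bijective K f hK
  have : IsIso (f • 𝟙 (((DerivedCategory.Q : _ ⥤ Dual.D A).obj K)⟦q⟧)) := by
    have : f • 𝟙 (((DerivedCategory.Q : _ ⥤ Dual.D A).obj K)⟦q⟧) =
        (shiftFunctor (Dual.D A) q).map (DerivedCategory.Q.map (f • 𝟙 K)) := by
      rw [Functor.map_smul, Functor.map_smul, CategoryTheory.Functor.map_id,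
        CategoryTheory.Functor.map_id]
    rw [this]
    infer_instance
  refine hom_eq_zero_of_smul f n ?_ φ
  have h0 : (f ^ n) • 𝟙 (ModuleCat.of A (A ⧸ I ^ n)) = 0 := by
    apply ModuleCat.hom_ext
    apply LinearMap.ext
    intro x
    obtain ⟨a, rfl⟩ := Submodule.Quotient.mk_surjective _ x
    simp only [ModuleCat.hom_smul, ModuleCat.hom_id, LinearMap.smul_apply, LinearMap.id_apply,
      ModuleCat.hom_zero, LinearMap.zero_apply]
    rw [← Submodule.Quotient.mk_smul, Submodule.Quotient.mk_eq_zero]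
    exact Ideal.mul_mem_right _ _ (Ideal.pow_mem_pow hf n)
  rw [← CategoryTheory.Functor.map_id, ← Functor.map_smul, h0, Functor.map_zero]

theorem isZero_HDI_of_smul_bijective (K : CochainComplex (ModuleCat.{u} A) ℤ) (f : A) (hf : f ∈ I)
    (hK : ∀ n : ℤ, Function.Bijective (fun x : K.X n => f • x)) (q : ℤ) :
    IsZero (Dual2.HDI A I (DerivedCategory.Q.obj K) q) := by
  rw [IsZero.iff_id_eq_zero]
  apply colimit.hom_ext
  intro j
  apply ModuleCat.hom_ext
  apply LinearMap.ext
  intro φ
  have : φ = 0 := subsingleton_hom_quot_pow I K f hf hK j.unop.unop q φ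
  rw [this, map_zero, map_zero]

theorem isZero_RgammaI_of_smul_bijective [DRing.HasRgammaI I]
    (K : CochainComplex (ModuleCat.{u} A) ℤ) (f : A) (hf : f ∈ I)
    (hK : ∀ n : ℤ, Function.Bijective (fun x : K.X n => f • x)) :
    IsZero ((DRing.RgammaI I).obj (DerivedCategory.Q.obj K)) := by
  apply isZero_of_forall_isZero_homology
  intro q
  obtain ⟨e⟩ := nonempty_HD_RgammaI_equiv_HDI I (DerivedCategory.Q.obj K) q
  have h0 := isZero_HDI_of_smul_bijective I K f hf hK q
  have : Subsingleton (Dual2.HDI A I (DerivedCategory.Q.obj K) q) :=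
    ModuleCat.subsingleton_of_isZero h0
  have : Subsingleton (Dual.HD A ((DRing.RgammaI I).obj (DerivedCategory.Q.obj K)) q) :=
    e.toEquiv.subsingleton
  exact ModuleCat.isZero_of_subsingleton _

end Main

end Groth.Agent.R2.H61.RG
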