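import Groth.Agent.R2.H61RelProjR4d

/-!
# helper61, PROJ:relproj consumers: S9704 from R1
-/

set_option autoImplicit false
universe u

open CategoryTheory CategoryTheory.Limits AlgebraicGeometry Opposite

namespace Groth.Agent.R2.H61.RelProjCons

open RelProj Groth.Agent.R2.Lead.RelProjSpec

/-- **S9704 from R1.** -/
theorem s9704_of (h1 : R1Stmt.{u}) {X S : Scheme.{u}} (f : X ⟶ S) :
    RelProj.IsLocallyProjective f ↔
      ∀ s : S, ∃ U : S.Opens, s ∈ U ∧ RelProj.IsHProjective (f ∣_ U) := by
  constructor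
  · exact Groth.Agent.R2.H61.R4.locally_isHProjective_of_isLocallyProjective f
  · intro h s
    obtain ⟨U, hs, hU⟩ := h s
    exact ⟨U, hs, h1 _ hU⟩

end Groth.Agent.R2.H61.RelProjCons
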