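import Groth.Agent.R2.LeadChowK
import Groth.Agent.R2.LeadRelProjR2

/-!
# PROJ:relproj, package R3 (lead): the EGA II 5.6 forms of Chow's lemma from the packages R1, R2, R4

`s4415_of`, `s4416_of`, `s8563_of` have exactly the conclusions of the frozen statements S4415, S4416, S8563, and take the
packages `R1Stmt` (H-projective ⇒ projective) and `R4Stmt` (projective ⇒ proper) of `R2/LeadRelProjSpec` as hypotheses
(`R2Stmt` is proved in `R2/LeadRelProjR2`).
-/

set_option autoImplicit false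
set_option linter.unusedSectionVars false
universe u
open CategoryTheory CategoryTheory.Limits AlgebraicGeometry TopologicalSpace

namespace Groth.Agent.R2.Lead.RelProjR3

open Groth.Agent.R2.Lead.RelProjSpec Groth.Agent.R2.Lead.RelProjR2 Groth.Agent.R2.Lead.ChowK
  Groth.Agent.R2.Lead.ChowI CohB1

/-- an immersion `j : X' ⟶ P^N_S` with `j ≫ toBase` of finite type makes `j ≫ toBase` quasi-projective. -/
theorem isQuasiProjective_of_immersion {X' S : Scheme.{u}} (N : ℕ) (j : X' ⟶ ProjSpaceOver N S)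
    [IsImmersion j] {g : X' ⟶ S} (hg : j ≫ ProjSpaceOver.toBase N S = g) [LocallyOfFiniteType g]
    [QuasiCompact g] : RelProj.IsQuasiProjective g := by
  have hpt : IsProper (ProjSpaceOver.toBase N S) := Groth.Agent.S9705.isProper_toBase N S
  have hqc : QuasiCompact j := by
    have : QuasiCompact (j ≫ ProjSpaceOver.toBase N S) := by rw [hg]; infer_instance
    exact QuasiCompact.of_comp j (ProjSpaceOver.toBase N S)
  refine ⟨inferInstance, inferInstance, (Scheme.Modules.pullback j).obj (Twist.twistOver N S 1), ?_⟩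
  have := r2 N j inferInstance hqc
  rwa [hg] at this

/-- the hypotheses of S4415 / S4416 give a qcqs base and finitely many irreducible components. -/
theorem base_cases {X S : Scheme.{u}} (r : X ⟶ S) [LocallyOfFiniteType r] [QuasiCompact r]
    (h : IsNoetherian S ∨ (CompactSpace S ∧ S.IsSeparated ∧ (irreducibleComponents X).Finite)) :
    CompactSpace S ∧ QuasiSeparatedSpace S ∧ (irreducibleComponents X).Finite := by
  rcases h with h | ⟨h1, h2, h3⟩
  · have hlN : IsLocallyNoetherian X := LocallyOfFiniteType.isLocallyNoetherian r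
    have hcX : CompactSpace X := QuasiCompact.compactSpace_of_compactSpace r
    have hN : IsNoetherian X := ⟨⟩
    exact ⟨inferInstance, inferInstance, TopologicalSpace.NoetherianSpace.finite_irreducibleComponents⟩
  · exact ⟨h1, inferInstance, h3⟩

/-- **S4415 from R1.** -/
theorem s4415_of (h1 : R1Stmt.{u}) {X S : Scheme.{u}} (r : X ⟶ S) [IsSeparated r]
    [LocallyOfFiniteType r] [QuasiCompact r]
    (h : IsNoetherian S ∨ (CompactSpace S ∧ S.IsSeparated ∧ (irreducibleComponents X).Finite)) :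
    ∃ (X' : Scheme.{u}) (f : X' ⟶ X),
      RelProj.IsQuasiProjective (f ≫ r) ∧ RelProj.IsProjective f ∧ Surjective f ∧
      (∃ U : X.Opens, Dense ((f ⁻¹ᵁ U : X'.Opens) : Set X') ∧ IsIso (f ∣_ U)) ∧
      (IsReduced X → IsReduced X') ∧ (IrreducibleSpace X → IrreducibleSpace X') ∧
      (IsIntegral X → IsIntegral X') := by
  obtain ⟨hc, hqs, hirr⟩ := base_cases r h
  obtain ⟨N, X', π, j, j', hj, hjf, hj', hj'π, hπ, hsurj, U, -, hdU, hiso, hred, hirr'⟩ :=
    chow_dense r hirr
  have hft : LocallyOfFiniteType (π ≫ r) := inferInstance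
  have hqc : QuasiCompact (π ≫ r) := inferInstance
  refine ⟨X', π, isQuasiProjective_of_immersion N j hjf, h1 π ⟨N, j', hj', hj'π⟩, hsurj,
    ⟨U, hdU, hiso⟩, hred, hirr', fun hX => ?_⟩
  have := hred inferInstance
  have := hirr' inferInstance
  exact isIntegral_of_irreducibleSpace_of_isReduced X'

/-- **S4416 from R1 and R4.** -/
theorem s4416_of (h1 : R1Stmt.{u}) (h4 : R4Stmt.{u}) {X S : Scheme.{u}} (r : X ⟶ S) [IsSeparated r]
    [LocallyOfFiniteType r] [QuasiCompact r]
    (h : IsNoetherian S ∨ (CompactSpace S ∧ S.IsSeparated ∧ (irreducibleComponents X).Finite)) :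
    (IsProper r ↔ ∃ (X' : Scheme.{u}) (f : X' ⟶ X), Surjective f ∧ RelProj.IsProjective (f ≫ r)) ∧
    (IsProper r → ∃ (X' : Scheme.{u}) (f : X' ⟶ X), Surjective f ∧ RelProj.IsProjective (f ≫ r) ∧
        (∃ U : X.Opens, Dense (U : Set X) ∧ Dense ((f ⁻¹ᵁ U : X'.Opens) : Set X') ∧ IsIso (f ∣_ U)) ∧
        (IrreducibleSpace X → IrreducibleSpace X') ∧ (IsReduced X → IsReduced X')) := by
  obtain ⟨hc, hqs, hirr⟩ := base_cases r h
  have key : IsProper r → ∃ (X' : Scheme.{u}) (f : X' ⟶ X), Surjective f ∧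
      RelProj.IsProjective (f ≫ r) ∧
      (∃ U : X.Opens, Dense (U : Set X) ∧ Dense ((f ⁻¹ᵁ U : X'.Opens) : Set X') ∧ IsIso (f ∣_ U)) ∧
      (IrreducibleSpace X → IrreducibleSpace X') ∧ (IsReduced X → IsReduced X') := by
    intro hr
    obtain ⟨N, X', π, j, j', hj, hjf, hj', hj'π, hπ, hsurj, U, hU, hdU, hiso, hred, hirr'⟩ :=
      chow_dense r hirr
    have hpt : IsProper (ProjSpaceOver.toBase N S) := Groth.Agent.S9705.isProper_toBase N S
    have hjp : IsProper j := by
      have : IsProper (j ≫ ProjSpaceOver.toBase N S) := by rw [hjf]; infer_instance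
      exact IsProper.of_comp j (ProjSpaceOver.toBase N S)
    have hjc : IsClosedImmersion j := isClosedImmersion_of_isImmersion_of_isProper j
    exact ⟨X', π, hsurj, h1 (π ≫ r) ⟨N, j, hjc, hjf⟩, ⟨U, hU, hdU, hiso⟩, hirr', hred⟩
  refine ⟨⟨fun hr => ?_, ?_⟩, key⟩
  · obtain ⟨X', f, hf, hp, -⟩ := key hr
    exact ⟨X', f, hf, hp⟩
  · rintro ⟨X', f, hf, hp⟩
    have hfr : IsProper (f ≫ r) := h4 (f ≫ r) hp
    have huc : UniversallyClosed r := UniversallyClosed.of_comp_surjective f r
    exact { }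

/-- **S8563 from R1.** -/
theorem s8563_of (h1 : R1Stmt.{u}) {X S : Scheme.{u}} (f : X ⟶ S)
    [CompactSpace S] [QuasiSeparatedSpace S] [IsSeparated f] [LocallyOfFiniteType f] [QuasiCompact f]
    [Nonempty X] :
    ∃ (Xbar : Scheme.{u}) (π : Xbar ⟶ X), RelProj.IsProjective π ∧ RelProj.IsQuasiProjective (π ≫ f) ∧
      ∃ U : X.Opens, (U : Set X).Nonempty ∧ IsIso (π ∣_ U) := by
  obtain ⟨N, X', π, j, j', hj, hjf, hj', hj'π, hπ, U, hU, hiso⟩ := chow_nonempty f
  have hft : LocallyOfFiniteType (π ≫ f) := inferInstance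
  have hqc : QuasiCompact (π ≫ f) := inferInstance
  exact ⟨X', π, h1 π ⟨N, j', hj', hj'π⟩, isQuasiProjective_of_immersion N j hjf, U, hU, hiso⟩

end Groth.Agent.R2.Lead.RelProjR3
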