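import Groth.Agent.R2.H61RelProjR4d
import Groth.Agent.R2.H91AmpleEmb
import Groth.Agent.R2.LeadRelProjR3

/-!
# helper61, PROJ:relproj consumers: locally quasi-projective ⇔ locally H-quasi-projective (S9712)
-/

set_option autoImplicit false
universe u

open CategoryTheory CategoryTheory.Limits AlgebraicGeometry Opposite

namespace Groth.Agent.R2.H61.RelProjCons2

open RelProj
open Groth.Agent.R2.H87
open Groth.Agent.R2.H61.R4

/-- H-quasi-projectivity is invariant under isomorphisms of arrows. -/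
theorem isHQuasiProjective_of_arrow_iso {X Y X' Y' : Scheme.{u}} {g : X ⟶ Y} {g' : X' ⟶ Y'}
    (e : Arrow.mk g ≅ Arrow.mk g') (h : IsHQuasiProjective g) : IsHQuasiProjective g' := by
  obtain ⟨m, i, hi, hqc, hig⟩ := h
  have hb : IsIso (e.hom.right : Y ⟶ Y') := inferInstance
  have hmap : IsIso (ProjSpaceOver.map m (e.hom.right : Y ⟶ Y')) := isIso_projSpaceOver_map m _
  have ha : IsIso (e.inv.left : X' ⟶ X) := inferInstance
  refine ⟨m, (e.inv.left : X' ⟶ X) ≫ i ≫ ProjSpaceOver.map m (e.hom.right : Y ⟶ Y'), ?_, ?_, ?_⟩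
  · infer_instance
  · infer_instance
  · simp only [Category.assoc, ProjSpaceOver.map_toBase]
    rw [reassoc_of% hig]
    have hw : g ≫ (e.hom.right : Y ⟶ Y') = (e.hom.left : X ⟶ X') ≫ g' := (e.hom.w).symm
    rw [hw]
    have h1 : (e.inv.left : X' ⟶ X) ≫ (e.hom.left : X ⟶ X') = 𝟙 X' := by
      simp
    rw [reassoc_of% h1]
    exact Category.id_comp _

/-- a quasi-projective morphism is H-quasi-projective over every affine open of the base. -/
theorem isHQuasiProjective_restrict_of_isQuasiProjective {X S : Scheme.{u}} (g : X ⟶ S)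
    (hg : IsQuasiProjective g) (V : S.Opens) (hV : IsAffineOpen V) :
    IsHQuasiProjective (g ∣_ V) := by
  obtain ⟨hlft, hqc, L, -, hL⟩ := hg
  have hample : CohB1.IsAmple (L.restrict (g ⁻¹ᵁ V).ι) := hL ⟨V, hV⟩
  have h1 : LocallyOfFiniteType (g ∣_ V) :=
    MorphismProperty.of_isPullback (P := @LocallyOfFiniteType) (isPullback_morphismRestrict g V).flip hlft
  have h2 : QuasiCompact (g ∣_ V) :=
    MorphismProperty.of_isPullback (P := @QuasiCompact) (isPullback_morphismRestrict g V).flip hqc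
  have h3 : LocallyOfFiniteType ((g ∣_ V) ≫ hV.isoSpec.hom) := inferInstance
  obtain ⟨d, N, j, -, himm, hjf, -⟩ :=
    Groth.Agent.R2.H91.AmpleEmb.ampleEmbedding Γ(S, V) _ ((g ∣_ V) ≫ hV.isoSpec.hom)
      (L.restrict (g ⁻¹ᵁ V).ι) hample
  obtain ⟨e1, he1⟩ := PnSpec.projSpaceOver_spec_iso N Γ(S, V)
  have hmap : IsIso (ProjSpaceOver.map N hV.isoSpec.inv) := isIso_projSpaceOver_map N _
  have hcomp : (j ≫ e1.inv ≫ ProjSpaceOver.map N hV.isoSpec.inv) ≫
      CohB1.ProjSpaceOver.toBase N V = g ∣_ V := by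
    have h4 : e1.inv ≫ CohB1.ProjSpaceOver.toBase N (Spec (CommRingCat.of Γ(S, V))) =
        CohB1.ProjSpace.toSpec N Γ(S, V) := by
      rw [← he1, Iso.inv_hom_id_assoc]
    simp only [Category.assoc, ProjSpaceOver.map_toBase]
    rw [reassoc_of% h4, reassoc_of% hjf]
    simp
  have hpt : IsProper (CohB1.ProjSpaceOver.toBase N (V : Scheme.{u})) :=
    Groth.Agent.S9705.isProper_toBase N _
  refine ⟨N, j ≫ e1.inv ≫ ProjSpaceOver.map N hV.isoSpec.inv, ?_, ?_, hcomp⟩
  · infer_instance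
  · have : QuasiCompact ((j ≫ e1.inv ≫ ProjSpaceOver.map N hV.isoSpec.inv) ≫
        CohB1.ProjSpaceOver.toBase N V) := by rw [hcomp]; exact h2
    exact QuasiCompact.of_comp _ (CohB1.ProjSpaceOver.toBase N (V : Scheme.{u}))

/-- an H-quasi-projective morphism is quasi-projective. -/
theorem isQuasiProjective_of_isHQuasiProjective {X S : Scheme.{u}} (g : X ⟶ S)
    (hg : IsHQuasiProjective g) : IsQuasiProjective g := by
  obtain ⟨n, i, himm, hqc, hi⟩ := hg
  have hpt : IsProper (CohB1.ProjSpaceOver.toBase n S) := Groth.Agent.S9705.isProper_toBase n S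
  have h1 : LocallyOfFiniteType g := by rw [← hi]; infer_instance
  have h2 : QuasiCompact g := by rw [← hi]; infer_instance
  exact Groth.Agent.R2.Lead.RelProjR3.isQuasiProjective_of_immersion n i hi

/-- **S9712.** -/
theorem s9712 {X S : Scheme.{u}} (f : X ⟶ S) :
    (∀ s : S, ∃ U : S.Opens, s ∈ U ∧ RelProj.IsQuasiProjective (f ∣_ U)) ↔
      (∀ s : S, ∃ U : S.Opens, s ∈ U ∧ RelProj.IsHQuasiProjective (f ∣_ U)) := by
  constructor
  · intro h s
    obtain ⟨U, hsU, hU⟩ := h s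
    obtain ⟨_, ⟨V, hV : IsAffineOpen V, rfl⟩, hsV, -⟩ :=
      (U.toScheme.isBasis_affineOpens).exists_subset_of_mem_open
        (Set.mem_univ (⟨s, hsU⟩ : U.toScheme)) isOpen_univ
    refine ⟨U.ι ''ᵁ V, ⟨⟨s, hsU⟩, hsV, rfl⟩, ?_⟩
    exact isHQuasiProjective_of_arrow_iso (morphismRestrictRestrict f U V)
      (isHQuasiProjective_restrict_of_isQuasiProjective (f ∣_ U) hU V hV)
  · intro h s
    obtain ⟨U, hsU, hU⟩ := h s
    exact ⟨U, hsU, isQuasiProjective_of_isHQuasiProjective _ hU⟩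

end Groth.Agent.R2.H61.RelProjCons2
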