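import Groth.Agent.R2.H61RelProjR4d
import Groth.Agent.S8284
import Groth.Agent.Lib.Helper2RelTwistAmpleB

/-!
# helper61, PROJ:relproj consumers: projective ⇒ quasi-projective and proper (S4418)
-/

set_option autoImplicit false
universe u

open CategoryTheory CategoryTheory.Limits AlgebraicGeometry Opposite
open scoped HomogeneousIdeal

namespace Groth.Agent.R2.H61.RelProjCons3

open RelProj
open Groth.Agent.R2.H61.R4

section Ring

variable {B : Type u} [CommRing B] (𝒜 : ℕ → AddSubgroup B) [GradedRing 𝒜]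

/-- positive degree components lie in the ideal generated by degree one. -/
theorem decompose_mem_span_degOne
    (hgen : Subring.closure ((𝒜 0 : Set B) ∪ (𝒜 1 : Set B)) = ⊤) (b : B) :
    ∀ i : ℕ, 0 < i → (DirectSum.decompose 𝒜 b i : B) ∈ Ideal.span (𝒜 1 : Set B) := by
  classical
  have hb : b ∈ Subring.closure ((𝒜 0 : Set B) ∪ (𝒜 1 : Set B)) := by rw [hgen]; trivial
  induction hb using Subring.closure_induction with
  | mem x hx =>
    intro i hi
    rcases hx with hx | hx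
    · rw [DirectSum.decompose_of_mem_ne 𝒜 hx (Nat.pos_iff_ne_zero.1 hi).symm]
      exact zero_mem _
    · by_cases h1 : i = 1
      · subst h1
        rw [DirectSum.decompose_of_mem_same 𝒜 hx]
        exact Ideal.subset_span hx
      · rw [DirectSum.decompose_of_mem_ne 𝒜 hx (Ne.symm h1)]
        exact zero_mem _
  | zero =>
    intro i _
    rw [DirectSum.decompose_zero]
    exact zero_mem _
  | one =>
    intro i hi
    rw [DirectSum.decompose_of_mem_ne 𝒜 (SetLike.GradedOne.one_mem (A := 𝒜))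
      (Nat.pos_iff_ne_zero.1 hi).symm]
    exact zero_mem _
  | add x y _ _ hx hy =>
    intro i hi
    rw [DirectSum.decompose_add, DirectSum.add_apply, AddSubgroup.coe_add]
    exact add_mem (hx i hi) (hy i hi)
  | neg x _ hx =>
    intro i hi
    have h := neg_mem (hx i hi)
    have e : (DirectSum.decompose 𝒜 (-x) i : B) = -(DirectSum.decompose 𝒜 x i : B) := by
      rw [DirectSum.decompose_neg]
      rfl
    rw [e]
    exact h
  | mul x y _ _ hx hy =>
    intro i hi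
    rw [DirectSum.decompose_mul, DirectSum.coe_mul_apply]
    refine Ideal.sum_mem _ ?_
    intro jk hjk
    rw [Finset.mem_filter] at hjk
    obtain ⟨-, hsum⟩ := hjk
    rcases Nat.eq_zero_or_pos jk.1 with hj | hj
    · have hk' : 0 < jk.2 := by omega
      exact Ideal.mul_mem_left _ _ (hy jk.2 hk')
    · exact Ideal.mul_mem_right _ _ (hx jk.1 hj)

/-- if `𝒜` is generated by degrees `0` and `1`, the `D₊(g)`, `g` of degree one, cover `Proj 𝒜`. -/
theorem exists_degOne_not_mem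
    (hgen : Subring.closure ((𝒜 0 : Set B) ∪ (𝒜 1 : Set B)) = ⊤) (y : ProjectiveSpectrum 𝒜) :
    ∃ g ∈ 𝒜 1, g ∉ y.asHomogeneousIdeal := by
  by_contra hcon
  push Not at hcon
  apply y.not_irrelevant_le
  rw [HomogeneousIdeal.irrelevant_le]
  intro i hi b hb
  change b ∈ y.asHomogeneousIdeal.toIdeal
  have hb' : b ∈ 𝒜 i := hb
  have h1 := decompose_mem_span_degOne 𝒜 hgen b i hi
  rw [DirectSum.decompose_of_mem_same 𝒜 hb'] at h1
  have hle : Ideal.span (𝒜 1 : Set B) ≤ y.asHomogeneousIdeal.toIdeal :=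
    Ideal.span_le.2 (fun g hg => hcon g hg)
  exact hle h1

end Ring

open Groth.Agent.Lib.Helper2.RelTwistAmple Groth.Agent.Lib.Helper2.RelTwistAmpleB

/-- `O_P(1)` is relatively ample on the relative Proj of an algebra generated in degree one with finite type
degree one part. -/
theorem exists_isRelAmple_of_isRelProj {S : Scheme.{u}} {𝒮 : QCGrAlg S} (hgen : 𝒮.IsGenDegOne)
    (hft : 𝒮.IsFTDeg 1) {P : Scheme.{u}} (p : P ⟶ S)
    (chart : ∀ (U : S.Opens) (hU : IsAffineOpen U),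
      (((p ⁻¹ᵁ U : P.Opens) : Scheme.{u}) ≅ Proj (𝒮.deg U hU)))
    (hrel : IsRelProj 𝒮 p chart) : ∃ L : P.Modules, RelAmple.IsRelAmple p L := by
  have hp : IsProper p := isProper_of_isRelProj hgen hft p chart hrel
  obtain ⟨L, lam, hL⟩ := Groth.Agent.S8284.result 𝒮 p chart hrel ((1 : ℕ) : ℤ)
  have hcov : ∀ (V : S.Opens) (hV : IsAffineOpen V) (y : ProjectiveSpectrum (𝒮.deg V hV)),
      ∃ g ∈ 𝒮.deg V hV 1, g ∉ y.asHomogeneousIdeal :=
    fun V hV y => exists_degOne_not_mem _ (hgen V hV) y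
  have hinv : PicF.IsInvertible L := isInvertible_of_cover p chart 1 L lam hL hcov
  refine ⟨L, inferInstance, fun V => ?_⟩
  have hV : IsAffineOpen V.1 := V.2
  obtain ⟨m, j, hj, hjc⟩ := exists_closedImmersion_chartwise 𝒮 hgen hft V.1 hV
  have hpt : IsProper (CohB1.ProjSpace.toSpec m Γ(S, V.1)) :=
    Groth.Agent.S9705.isProper_projSpace_toSpec m Γ(S, V.1)
  have hc1 : CompactSpace (CohB1.ProjSpace m Γ(S, V.1)) :=
    QuasiCompact.compactSpace_of_compactSpace (CohB1.ProjSpace.toSpec m Γ(S, V.1))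
  have hc2 : CompactSpace (Proj (𝒮.deg V.1 hV)) := QuasiCompact.compactSpace_of_compactSpace j
  exact isAmple_restrict_preimage p chart L V.1 hV
    (isAmple_restrict_emb p chart 1 L lam hL one_pos hinv V.1 hV (hcov V.1 hV))

open Groth.Agent.Lib.Helper23.RestrJ in
/-- relative ampleness transfers along an isomorphism of the source. -/
theorem isRelAmple_of_iso {X P S : Scheme.{u}} (e : X ≅ P) (p : P ⟶ S) (L : P.Modules)
    (hL : RelAmple.IsRelAmple p L) : RelAmple.IsRelAmple (e.hom ≫ p) (L.restrict e.hom) := by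
  obtain ⟨hqc, hample⟩ := hL
  refine ⟨inferInstance, fun V => ?_⟩
  have h1 : CohB1.IsAmple (L.restrict (p ⁻¹ᵁ V.1).ι) := hample V
  have hiso : IsIso (e.hom ∣_ p ⁻¹ᵁ V.1) := inferInstance
  have h2 : CohB1.IsAmple ((L.restrict (p ⁻¹ᵁ V.1).ι).restrict (e.hom ∣_ p ⁻¹ᵁ V.1)) :=
    (isAmple_restrict_iff_of_isIso (e.hom ∣_ p ⁻¹ᵁ V.1) _).2 h1
  have h3 : CohB1.IsAmple (L.restrict ((e.hom ∣_ p ⁻¹ᵁ V.1) ≫ (p ⁻¹ᵁ V.1).ι)) :=
    (isAmple_restrict_comp_iff L (p ⁻¹ᵁ V.1).ι (e.hom ∣_ p ⁻¹ᵁ V.1)).1 h2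
  have h4 : (e.hom ∣_ p ⁻¹ᵁ V.1) ≫ (p ⁻¹ᵁ V.1).ι = (e.hom ⁻¹ᵁ (p ⁻¹ᵁ V.1)).ι ≫ e.hom :=
    morphismRestrict_ι _ _
  have h5 : CohB1.IsAmple (L.restrict ((e.hom ⁻¹ᵁ (p ⁻¹ᵁ V.1)).ι ≫ e.hom)) :=
    (isAmple_restrict_iff_of_eq L h4).1 h3
  exact (isAmple_restrict_comp_iff L e.hom (e.hom ⁻¹ᵁ (p ⁻¹ᵁ V.1)).ι).2 h5

/-- **S4418**: projective ⇒ quasi-projective and proper. -/
theorem s4418 {X Y : Scheme.{u}} (f : X ⟶ Y) (hf : RelProj.IsProjective f) :
    RelProj.IsQuasiProjective f ∧ IsProper f := by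
  have hproper : IsProper f := r4 f hf
  refine ⟨⟨inferInstance, inferInstance, ?_⟩, hproper⟩
  obtain ⟨𝒮, P, p, chart, e, hgen, hft, hrel, hfe⟩ := hf
  obtain ⟨L, hL⟩ := exists_isRelAmple_of_isRelProj hgen hft p chart hrel
  subst hfe
  exact ⟨L.restrict e.hom, isRelAmple_of_iso e p L hL⟩

end Groth.Agent.R2.H61.RelProjCons3
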