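import Mathlib
import Groth.Prelude.Def_CohB1
import Groth.Agent.Lib.Helper13RelProjA
import Groth.Agent.S9705

/-!
# helper61, PROJ:relproj [R4], ring level

`B` an `R`-algebra graded by additive subgroups `𝒜`, with `R` landing in degree `0`, `B` generated by
`𝒜 0 ∪ 𝒜 1` and `𝒜 1` spanned over `R` by `t : Fin (m+1) → B`.  Then `R[X_0..X_m] → B` is a graded
homomorphism, surjective in positive degrees, and `Proj 𝒜 → P^m_R` is a closed immersion over `Spec R`.
-/

set_option autoImplicit false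
universe u

open CategoryTheory AlgebraicGeometry
open scoped HomogeneousIdeal

namespace Groth.Agent.R2.H61.R4

section Alg

variable {R B : Type u} [CommRing R] [CommRing B] [Algebra R B]
  (𝒜 : ℕ → AddSubgroup B) [GradedRing 𝒜]
  {m : ℕ} (t : Fin (m + 1) → B)

/-- the `R`-span of the family `t` -/
def spanT : Submodule R B := Submodule.span R (Set.range t)

variable {𝒜 t}

theorem spanT_pow_le (h0 : ∀ r : R, algebraMap R B r ∈ 𝒜 0) (ht : ∀ i, t i ∈ 𝒜 1) (d : ℕ) :
    ∀ x ∈ (spanT (R := R) t) ^ d, x ∈ 𝒜 d := by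
  have hsmul : ∀ (k : ℕ) (r : R) (x : B), x ∈ 𝒜 k → r • x ∈ 𝒜 k := by
    intro k r x hx
    rw [Algebra.smul_def]
    simpa using SetLike.mul_mem_graded (h0 r) hx
  have h1 : ∀ x ∈ spanT (R := R) t, x ∈ 𝒜 1 := by
    intro x hx
    refine Submodule.span_induction ?_ ?_ ?_ ?_ hx
    · rintro _ ⟨i, rfl⟩
      exact ht i
    · exact zero_mem _
    · intro x y _ _ hx hy
      exact add_mem hx hy
    · intro r x _ hx
      exact hsmul 1 r x hx
  induction d with
  | zero =>
    intro x hx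
    rw [pow_zero, Submodule.mem_one] at hx
    obtain ⟨r, rfl⟩ := hx
    exact h0 r
  | succ d ih =>
    intro x hx
    rw [pow_succ] at hx
    refine Submodule.mul_induction_on hx ?_ ?_
    · intro y hy z hz
      exact SetLike.mul_mem_graded (ih y hy) (h1 z hz)
    · intro y z hy hz
      exact add_mem hy hz

theorem map_homogeneousSubmodule (d : ℕ) :
    Submodule.map (MvPolynomial.aeval t : MvPolynomial (Fin (m + 1)) R →ₐ[R] B).toLinearMap
        (MvPolynomial.homogeneousSubmodule (Fin (m + 1)) R d) = (spanT (R := R) t) ^ d := by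
  rw [← MvPolynomial.homogeneousSubmodule_one_pow, Submodule.map_pow,
    MvPolynomial.homogeneousSubmodule_one_eq_span_X, Submodule.map_span, ← Set.range_comp]
  congr 3
  ext i
  simp

variable (𝒜 t) in
/-- the graded homomorphism `R[X_0..X_m] → B` -/
noncomputable def theta (h0 : ∀ r : R, algebraMap R B r ∈ 𝒜 0) (ht : ∀ i, t i ∈ 𝒜 1) :
    CohB1.polyGrading m R →+*ᵍ 𝒜 where
  toRingHom := (MvPolynomial.aeval t : MvPolynomial (Fin (m + 1)) R →ₐ[R] B).toRingHom
  map_mem := by
    intro d a ha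
    apply spanT_pow_le h0 ht d
    rw [← map_homogeneousSubmodule]
    exact ⟨a, ha, rfl⟩

theorem theta_apply (h0 : ∀ r : R, algebraMap R B r ∈ 𝒜 0) (ht : ∀ i, t i ∈ 𝒜 1)
    (a : MvPolynomial (Fin (m + 1)) R) : theta 𝒜 t h0 ht a = MvPolynomial.aeval t a := rfl

/-- multiplication by degree zero elements preserves the powers of `span t` -/
theorem mul_mem_spanT_pow (h0 : ∀ r : R, algebraMap R B r ∈ 𝒜 0) (ht : ∀ i, t i ∈ 𝒜 1)
    (hspan : ∀ x ∈ 𝒜 1, x ∈ spanT (R := R) t) (k : ℕ) (hk : 0 < k) (a : B) (ha : a ∈ 𝒜 0) :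
    ∀ x ∈ (spanT (R := R) t) ^ k, a * x ∈ (spanT (R := R) t) ^ k := by
  induction k with
  | zero => exact absurd hk (lt_irrefl 0)
  | succ k ih =>
    rcases Nat.eq_zero_or_pos k with rfl | hk'
    · intro x hx
      rw [zero_add, pow_one] at hx ⊢
      apply hspan
      have h1 := spanT_pow_le h0 ht 1 x (by rwa [pow_one])
      simpa using SetLike.mul_mem_graded ha h1
    · intro x hx
      rw [pow_succ] at hx ⊢
      refine Submodule.mul_induction_on hx ?_ ?_
      · intro y hy z hz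
        rw [← mul_assoc]
        exact Submodule.mul_mem_mul (ih hk' y hy) hz
      · intro y z hy hz
        rw [mul_add]
        exact add_mem hy hz

/-- positive degree parts lie in the powers of `span t` -/
theorem mem_spanT_pow (h0 : ∀ r : R, algebraMap R B r ∈ 𝒜 0) (ht : ∀ i, t i ∈ 𝒜 1)
    (hspan : ∀ x ∈ 𝒜 1, x ∈ spanT (R := R) t)
    (hgen : Subring.closure ((𝒜 0 : Set B) ∪ (𝒜 1 : Set B)) = ⊤) (d : ℕ) (hd : 0 < d) :
    ∀ x ∈ 𝒜 d, x ∈ (spanT (R := R) t) ^ d := by
  classical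
  have key : ∀ b : B, ∀ i : ℕ, 0 < i →
      (DirectSum.decompose 𝒜 b i : B) ∈ (spanT (R := R) t) ^ i := by
    intro b
    have hb : b ∈ Subring.closure ((𝒜 0 : Set B) ∪ (𝒜 1 : Set B)) := by rw [hgen]; trivial
    induction hb using Subring.closure_induction with
    | mem x hx =>
      intro i hi
      rcases hx with hx | hx
      · rw [DirectSum.decompose_of_mem_ne 𝒜 hx (Nat.pos_iff_ne_zero.1 hi).symm]
        exact zero_mem _
      · by_cases h1 : i = 1
        · subst h1
          rw [DirectSum.decompose_of_mem_same 𝒜 hx, pow_one]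
          exact hspan x hx
        · rw [DirectSum.decompose_of_mem_ne 𝒜 hx (Ne.symm h1)]
          exact zero_mem _
    | zero =>
      intro i _
      rw [DirectSum.decompose_zero]
      exact zero_mem _
    | one =>
      intro i hi
      rw [DirectSum.decompose_of_mem_ne 𝒜 (SetLike.GradedOne.one_mem (A := 𝒜))
        (Nat.pos_iff_ne_zero.1 hi).symm]
      exact zero_mem _
    | add x y _ _ hx hy =>
      intro i hi
      rw [DirectSum.decompose_add, DirectSum.add_apply, AddSubgroup.coe_add]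
      exact add_mem (hx i hi) (hy i hi)
    | neg x _ hx =>
      intro i hi
      have h := neg_mem (hx i hi)
      have e : (DirectSum.decompose 𝒜 (-x) i : B) = -(DirectSum.decompose 𝒜 x i : B) := by
        rw [DirectSum.decompose_neg]
        rfl
      rw [e]
      exact h
    | mul x y _ _ hx hy =>
      intro i hi
      rw [DirectSum.decompose_mul, DirectSum.coe_mul_apply]
      refine Submodule.sum_mem _ ?_
      intro jk hjk
      rw [Finset.mem_filter] at hjk
      obtain ⟨-, hsum⟩ := hjk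
      rcases Nat.eq_zero_or_pos jk.1 with hj | hj
      · have hk : jk.2 = i := by omega
        have hk' : 0 < jk.2 := by omega
        rw [← hk]
        exact mul_mem_spanT_pow h0 ht hspan jk.2 hk' _ (by rw [hj]; exact SetLike.coe_mem _) _
          (hy jk.2 hk')
      · rcases Nat.eq_zero_or_pos jk.2 with hk | hk
        · have hj' : jk.1 = i := by omega
          rw [← hj', mul_comm]
          exact mul_mem_spanT_pow h0 ht hspan jk.1 hj _ (by rw [hk]; exact SetLike.coe_mem _) _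
            (hx jk.1 hj)
        · rw [← hsum, pow_add]
          exact Submodule.mul_mem_mul (hx jk.1 hj) (hy jk.2 hk)
  intro x hx
  have := key x d hd
  rwa [DirectSum.decompose_of_mem_same 𝒜 hx] at this

theorem theta_surjective_pos (h0 : ∀ r : R, algebraMap R B r ∈ 𝒜 0) (ht : ∀ i, t i ∈ 𝒜 1)
    (hspan : ∀ x ∈ 𝒜 1, x ∈ spanT (R := R) t)
    (hgen : Subring.closure ((𝒜 0 : Set B) ∪ (𝒜 1 : Set B)) = ⊤) (d : ℕ) (hd : 0 < d) :
    ∀ b ∈ 𝒜 d, ∃ a ∈ CohB1.polyGrading m R d, theta 𝒜 t h0 ht a = b := by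
  intro b hb
  have := mem_spanT_pow h0 ht hspan hgen d hd b hb
  rw [← map_homogeneousSubmodule] at this
  obtain ⟨a, ha, rfl⟩ := this
  exact ⟨a, ha, rfl⟩

theorem theta_irrelevant_le (h0 : ∀ r : R, algebraMap R B r ∈ 𝒜 0) (ht : ∀ i, t i ∈ 𝒜 1)
    (hspan : ∀ x ∈ 𝒜 1, x ∈ spanT (R := R) t)
    (hgen : Subring.closure ((𝒜 0 : Set B) ∪ (𝒜 1 : Set B)) = ⊤) :
    𝒜₊ ≤ ((CohB1.polyGrading m R)₊).map (theta 𝒜 t h0 ht) := by
  rw [HomogeneousIdeal.irrelevant_le]
  intro i hi b hb
  obtain ⟨a, ha, rfl⟩ := theta_surjective_pos h0 ht hspan hgen i hi b hb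
  exact Ideal.mem_map_of_mem _ (HomogeneousIdeal.mem_irrelevant_of_mem _ hi ha)

/-- the structure map into the degree zero part -/
def psi0 (h0 : ∀ r : R, algebraMap R B r ∈ 𝒜 0) : R →+* 𝒜 0 where
  toFun r := ⟨algebraMap R B r, h0 r⟩
  map_one' := Subtype.ext (map_one _)
  map_mul' a b := Subtype.ext (map_mul _ a b)
  map_zero' := Subtype.ext (map_zero _)
  map_add' a b := Subtype.ext (map_add _ a b)

theorem isClosedImmersion_map_theta (h0 : ∀ r : R, algebraMap R B r ∈ 𝒜 0) (ht : ∀ i, t i ∈ 𝒜 1)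
    (hspan : ∀ x ∈ 𝒜 1, x ∈ spanT (R := R) t)
    (hgen : Subring.closure ((𝒜 0 : Set B) ∪ (𝒜 1 : Set B)) = ⊤) :
    IsClosedImmersion (Proj.map (theta 𝒜 t h0 ht) (theta_irrelevant_le h0 ht hspan hgen)) :=
  Groth.Agent.Helper13RelProj.isClosedImmersion_map_of_surjective_pos _ _
    (theta_surjective_pos h0 ht hspan hgen)

theorem map_theta_toSpec (h0 : ∀ r : R, algebraMap R B r ∈ 𝒜 0) (ht : ∀ i, t i ∈ 𝒜 1)
    (hspan : ∀ x ∈ 𝒜 1, x ∈ spanT (R := R) t)
    (hgen : Subring.closure ((𝒜 0 : Set B) ∪ (𝒜 1 : Set B)) = ⊤) :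
    Proj.map (theta 𝒜 t h0 ht) (theta_irrelevant_le h0 ht hspan hgen) ≫
        CohB1.ProjSpace.toSpec m R =
      Proj.toSpecZero 𝒜 ≫ Spec.map (CommRingCat.ofHom (psi0 h0)) := by
  have key := Groth.Agent.Helper13RelProj.map_toSpecZero (theta 𝒜 t h0 ht)
    (theta_irrelevant_le h0 ht hspan hgen)
  calc Proj.map (theta 𝒜 t h0 ht) (theta_irrelevant_le h0 ht hspan hgen) ≫
        CohB1.ProjSpace.toSpec m R
      = (Proj.map (theta 𝒜 t h0 ht) (theta_irrelevant_le h0 ht hspan hgen) ≫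
          Proj.toSpecZero (CohB1.polyGrading m R)) ≫
          Spec.map (CommRingCat.ofHom (algebraMap R (CohB1.polyGrading m R 0))) :=
        (Category.assoc _ _ _).symm
    _ = (Proj.toSpecZero 𝒜 ≫
          Spec.map (CommRingCat.ofHom (theta 𝒜 t h0 ht).gradedZeroRingHom)) ≫
          Spec.map (CommRingCat.ofHom (algebraMap R (CohB1.polyGrading m R 0))) := by rw [key]
    _ = Proj.toSpecZero 𝒜 ≫ Spec.map (CommRingCat.ofHom (psi0 h0)) := by
        rw [Category.assoc, ← Spec.map_comp]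
        congr 2
        ext r
        simp [psi0, theta_apply]

/-- `Proj 𝒜 → Spec R` is proper. -/
theorem isProper_toSpecZero_comp (h0 : ∀ r : R, algebraMap R B r ∈ 𝒜 0) (ht : ∀ i, t i ∈ 𝒜 1)
    (hspan : ∀ x ∈ 𝒜 1, x ∈ spanT (R := R) t)
    (hgen : Subring.closure ((𝒜 0 : Set B) ∪ (𝒜 1 : Set B)) = ⊤) :
    IsProper (Proj.toSpecZero 𝒜 ≫ Spec.map (CommRingCat.ofHom (psi0 h0))) := by
  rw [← map_theta_toSpec h0 ht hspan hgen]
  have h1 := isClosedImmersion_map_theta h0 ht hspan hgen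
  have h1' : IsProper (Proj.map (theta 𝒜 t h0 ht) (theta_irrelevant_le h0 ht hspan hgen)) :=
    inferInstance
  have h2 : IsProper (CohB1.ProjSpace.toSpec m R) :=
    Groth.Agent.S9705.isProper_projSpace_toSpec m R
  exact MorphismProperty.comp_mem @IsProper _ _ h1' h2

end Alg

end Groth.Agent.R2.H61.R4
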