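import Groth.Agent.R2.H61RelProjR4a
import Groth.Agent.R2.H87PnSpec
import Groth.Agent.R2.H87ProjSpaceOver
import Groth.Agent.R2.LeadRelProjSpec
import Groth.Prelude.Def_RelProj

/-!
# helper61, PROJ:relproj [R4]: projective morphisms are proper; over an affine base H-projective
-/

set_option autoImplicit false
universe u

open CategoryTheory CategoryTheory.Limits AlgebraicGeometry Opposite
open scoped HomogeneousIdeal

namespace Groth.Agent.R2.H61.R4

open RelProj

section Chart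

variable {S : Scheme.{u}} (𝒮 : QCGrAlg S)

/-- over an affine open, `Proj 𝒮(U)` is a closed subscheme of a projective space over `Γ(S, U)`. -/
theorem exists_closedImmersion_chartwise (hgen : 𝒮.IsGenDegOne) (hft : 𝒮.IsFTDeg 1)
    (U : S.Opens) (hU : IsAffineOpen U) :
    ∃ (m : ℕ) (j : Proj (𝒮.deg U hU) ⟶ CohB1.ProjSpace m Γ(S, U)), IsClosedImmersion j ∧
      j ≫ CohB1.ProjSpace.toSpec m Γ(S, U) =
        Proj.toSpecZero (𝒮.deg U hU) ≫ Spec.map (𝒮.strZero U hU) := by
  classical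
  let _ : Algebra Γ(S, U) (𝒮.presheaf.obj (op U)) := (𝒮.str.app (op U)).hom.toAlgebra
  obtain ⟨T, hT1, hT2⟩ := hft U hU
  let t : Fin (T.card + 1) → 𝒮.presheaf.obj (op U) :=
    Fin.cons 0 (fun i => ((T.equivFin.symm i : T) : 𝒮.presheaf.obj (op U)))
  have ht : ∀ i, t i ∈ 𝒮.deg U hU 1 := by
    intro i
    refine Fin.cases ?_ ?_ i
    · simp only [t, Fin.cons_zero]
      exact zero_mem _
    · intro k
      simp only [t, Fin.cons_succ]
      exact hT1 (T.equivFin.symm k).2
  have hspan : ∀ x ∈ 𝒮.deg U hU 1, x ∈ spanT (R := Γ(S, U)) t := by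
    intro x hx
    obtain ⟨c, hc⟩ := hT2 x hx
    rw [hc]
    refine Submodule.sum_mem _ fun s hs => ?_
    have e : (𝒮.str.app (op U)).hom (c s) * s = (c s) • s := (Algebra.smul_def _ _).symm
    rw [e]
    apply Submodule.smul_mem
    apply Submodule.subset_span
    refine ⟨Fin.succ (T.equivFin ⟨s, hs⟩), ?_⟩
    simp only [t, Fin.cons_succ, Equiv.symm_apply_apply]
  have h0 : ∀ r : Γ(S, U), algebraMap Γ(S, U) (𝒮.presheaf.obj (op U)) r ∈ 𝒮.deg U hU 0 :=
    fun r => 𝒮.str_mem U hU r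
  refine ⟨T.card, Proj.map (theta (𝒮.deg U hU) t h0 ht)
    (theta_irrelevant_le h0 ht hspan (hgen U hU)),
    isClosedImmersion_map_theta h0 ht hspan (hgen U hU), ?_⟩
  exact (map_theta_toSpec h0 ht hspan (hgen U hU)).trans rfl

theorem isProper_chartwise (hgen : 𝒮.IsGenDegOne) (hft : 𝒮.IsFTDeg 1)
    (U : S.Opens) (hU : IsAffineOpen U) :
    IsProper (Proj.toSpecZero (𝒮.deg U hU) ≫ Spec.map (𝒮.strZero U hU)) := by
  obtain ⟨m, j, hj, hjc⟩ := exists_closedImmersion_chartwise 𝒮 hgen hft U hU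
  rw [← hjc]
  have h1 : IsProper j := inferInstance
  have h2 : IsProper (CohB1.ProjSpace.toSpec m Γ(S, U)) :=
    Groth.Agent.S9705.isProper_projSpace_toSpec m Γ(S, U)
  exact MorphismProperty.comp_mem @IsProper _ _ h1 h2

variable {𝒮}

theorem isProper_of_isRelProj (hgen : 𝒮.IsGenDegOne) (hft : 𝒮.IsFTDeg 1) {P : Scheme.{u}}
    (p : P ⟶ S)
    (chart : ∀ (U : S.Opens) (hU : IsAffineOpen U),
      (((p ⁻¹ᵁ U : P.Opens) : Scheme.{u}) ≅ Proj (𝒮.deg U hU)))
    (hrel : IsRelProj 𝒮 p chart) : IsProper p := by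
  rw [IsZariskiLocalAtTarget.iff_of_iSup_eq_top (P := @IsProper)
    (fun U : S.affineOpens => U.1) (iSup_affineOpens_eq_top S)]
  rintro ⟨U, hU'⟩
  have hU : IsAffineOpen U := hU'
  have e : p ∣_ U = (chart U hU).hom ≫
      (Proj.toSpecZero (𝒮.deg U hU) ≫ Spec.map (𝒮.strZero U hU)) ≫ hU.isoSpec.inv := by
    rw [← cancel_mono U.ι, morphismRestrict_ι]
    simp only [Category.assoc, IsAffineOpen.isoSpec_inv_ι]
    exact (hrel.chart_over U hU).symm
  change IsProper (p ∣_ U)
  rw [e, MorphismProperty.cancel_left_of_respectsIso (P := @IsProper),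
    MorphismProperty.cancel_right_of_respectsIso (P := @IsProper)]
  exact isProper_chartwise 𝒮 hgen hft U hU

end Chart

/-- [R4] projective morphisms are proper. -/
theorem r4 : Groth.Agent.R2.Lead.RelProjSpec.R4Stmt.{u} := by
  intro X S f hf
  obtain ⟨𝒮, P, p, chart, e, hgen, hft, hrel, hfe⟩ := hf
  have hp : IsProper p := isProper_of_isRelProj hgen hft p chart hrel
  rw [← hfe]
  infer_instance

end Groth.Agent.R2.H61.R4
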