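import Groth.Agent.R2.H61RelProjR4b

/-! # helper61, PROJ:relproj [R4] affine form: over an affine base, projective ⇒ H-projective -/

set_option autoImplicit false
universe u

open CategoryTheory CategoryTheory.Limits AlgebraicGeometry Opposite
open scoped HomogeneousIdeal

namespace Groth.Agent.R2.H61.R4

open RelProj
open Groth.Agent.R2.H87

theorem isIso_projSpaceOver_map (n : ℕ) {S T : Scheme.{u}} (h : T ⟶ S) [IsIso h] :
    IsIso (ProjSpaceOver.map n h) :=
  ⟨⟨ProjSpaceOver.map n (inv h), by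
    rw [← ProjSpaceOver.map_comp, IsIso.hom_inv_id, ProjSpaceOver.map_id], by
    rw [← ProjSpaceOver.map_comp, IsIso.inv_hom_id, ProjSpaceOver.map_id]⟩⟩

/-- [R4, affine form] over an affine base, projective ⇒ H-projective. -/
theorem r4Aff : Groth.Agent.R2.Lead.RelProjSpec.R4AffStmt.{u} := by
  intro X S _ f hf
  obtain ⟨𝒮, P, p, chart, e, hgen, hft, hrel, hfe⟩ := hf
  have hU : IsAffineOpen (⊤ : S.Opens) := isAffineOpen_top S
  obtain ⟨m, j, hj, hjc⟩ := exists_closedImmersion_chartwise 𝒮 hgen hft ⊤ hU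
  obtain ⟨e1, he1⟩ := PnSpec.projSpaceOver_spec_iso m Γ(S, ⊤)
  have htop : ∀ (Y : Scheme.{u}), IsIso (⊤ : Y.Opens).ι := fun Y =>
    (inferInstance : IsIso Y.topIso.hom)
  have hg : IsIso hU.fromSpec := by
    rw [← IsAffineOpen.isoSpec_inv_ι]
    have := htop S
    infer_instance
  have hmap : IsIso (ProjSpaceOver.map m hU.fromSpec) := isIso_projSpaceOver_map m _
  have hι : IsIso (p ⁻¹ᵁ (⊤ : S.Opens)).ι := by
    rw [Scheme.Hom.preimage_top]
    exact htop P
  refine ⟨m, e.hom ≫ inv (p ⁻¹ᵁ (⊤ : S.Opens)).ι ≫ (chart ⊤ hU).hom ≫ j ≫ e1.inv ≫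
    ProjSpaceOver.map m hU.fromSpec, ?_, ?_⟩
  · infer_instance
  · have h1 : e1.inv ≫ CohB1.ProjSpaceOver.toBase m (Spec (CommRingCat.of Γ(S, ⊤))) =
        CohB1.ProjSpace.toSpec m Γ(S, ⊤) := by
      rw [← he1, Iso.inv_hom_id_assoc]
    simp only [Category.assoc, ProjSpaceOver.map_toBase]
    rw [reassoc_of% h1, reassoc_of% hjc]
    have h2 := hrel.chart_over ⊤ hU
    rw [h2, IsIso.inv_hom_id_assoc, hfe]

end Groth.Agent.R2.H61.R4
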