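import Groth.Agent.R2.H61RelProjR4c

/-!
# helper61, PROJ:relproj [R4] consumers: locally projective ⇒ locally H-projective
-/

set_option autoImplicit false
universe u

open CategoryTheory CategoryTheory.Limits AlgebraicGeometry Opposite
open scoped HomogeneousIdeal

namespace Groth.Agent.R2.H61.R4

open RelProj
open Groth.Agent.R2.H87

/-- H-projectivity is invariant under isomorphisms of arrows. -/
theorem isHProjective_of_arrow_iso {X Y X' Y' : Scheme.{u}} {g : X ⟶ Y} {g' : X' ⟶ Y'}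
    (e : Arrow.mk g ≅ Arrow.mk g') (h : IsHProjective g) : IsHProjective g' := by
  obtain ⟨m, i, hi, hig⟩ := h
  have hb : IsIso (e.hom.right : Y ⟶ Y') := inferInstance
  have hmap : IsIso (ProjSpaceOver.map m (e.hom.right : Y ⟶ Y')) := isIso_projSpaceOver_map m _
  have ha : IsIso (e.inv.left : X' ⟶ X) := inferInstance
  refine ⟨m, (e.inv.left : X' ⟶ X) ≫ i ≫ ProjSpaceOver.map m (e.hom.right : Y ⟶ Y'), ?_, ?_⟩
  · infer_instance
  · simp only [Category.assoc, ProjSpaceOver.map_toBase]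
    rw [reassoc_of% hig]
    have hw : g ≫ (e.hom.right : Y ⟶ Y') = (e.hom.left : X ⟶ X') ≫ g' := (e.hom.w).symm
    rw [hw]
    have h1 : (e.inv.left : X' ⟶ X) ≫ (e.hom.left : X ⟶ X') = 𝟙 X' := by
      simp
    rw [reassoc_of% h1]
    exact Category.id_comp _

section Chart

variable {S : Scheme.{u}} {𝒮 : QCGrAlg S}

/-- the relative Proj of an algebra generated in degree one with finite type degree one part is
H-projective over every affine open of the base. -/
theorem isHProjective_restrict_of_isRelProj (hgen : 𝒮.IsGenDegOne) (hft : 𝒮.IsFTDeg 1)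
    {P : Scheme.{u}} (p : P ⟶ S)
    (chart : ∀ (U : S.Opens) (hU : IsAffineOpen U),
      (((p ⁻¹ᵁ U : P.Opens) : Scheme.{u}) ≅ Proj (𝒮.deg U hU)))
    (hrel : IsRelProj 𝒮 p chart) (V : S.Opens) (hV : IsAffineOpen V) :
    IsHProjective (p ∣_ V) := by
  obtain ⟨m, j, hj, hjc⟩ := exists_closedImmersion_chartwise 𝒮 hgen hft V hV
  obtain ⟨e1, he1⟩ := PnSpec.projSpaceOver_spec_iso m Γ(S, V)
  have hmap : IsIso (ProjSpaceOver.map m hV.isoSpec.inv) := isIso_projSpaceOver_map m _
  refine ⟨m, (chart V hV).hom ≫ j ≫ e1.inv ≫ ProjSpaceOver.map m hV.isoSpec.inv, ?_, ?_⟩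
  · infer_instance
  · have h1 : e1.inv ≫ CohB1.ProjSpaceOver.toBase m (Spec (CommRingCat.of Γ(S, V))) =
        CohB1.ProjSpace.toSpec m Γ(S, V) := by
      rw [← he1, Iso.inv_hom_id_assoc]
    simp only [Category.assoc, ProjSpaceOver.map_toBase]
    rw [reassoc_of% h1, reassoc_of% hjc]
    rw [← cancel_mono V.ι, morphismRestrict_ι]
    simp only [Category.assoc, IsAffineOpen.isoSpec_inv_ι]
    exact hrel.chart_over V hV

end Chart

/-- a projective morphism is H-projective over every affine open of the base. -/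
theorem isHProjective_restrict_of_isProjective {X S : Scheme.{u}} (f : X ⟶ S)
    (hf : IsProjective f) (V : S.Opens) (hV : IsAffineOpen V) : IsHProjective (f ∣_ V) := by
  obtain ⟨𝒮, P, p, chart, e, hgen, hft, hrel, hfe⟩ := hf
  subst hfe
  have hp := isHProjective_restrict_of_isRelProj hgen hft p chart hrel V hV
  have hc : (e.hom ≫ p) ∣_ V = (e.hom ∣_ p ⁻¹ᵁ V) ≫ (p ∣_ V) := morphismRestrict_comp _ _ _
  have hiso : IsIso (e.hom ∣_ p ⁻¹ᵁ V) := inferInstance
  refine isHProjective_of_arrow_iso (g := p ∣_ V) (g' := (e.hom ≫ p) ∣_ V)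
    (Arrow.isoMk' _ _ (asIso (e.hom ∣_ p ⁻¹ᵁ V)).symm (Iso.refl _) ?_) hp
  rw [hc]
  simp

/-- locally projective ⇒ locally H-projective. -/
theorem locally_isHProjective_of_isLocallyProjective {X S : Scheme.{u}} (f : X ⟶ S)
    (h : IsLocallyProjective f) : ∀ s : S, ∃ U : S.Opens, s ∈ U ∧ IsHProjective (f ∣_ U) := by
  intro s
  obtain ⟨U, hsU, hU⟩ := h s
  obtain ⟨_, ⟨V, hV : IsAffineOpen V, rfl⟩, hsV, -⟩ :=
    (U.toScheme.isBasis_affineOpens).exists_subset_of_mem_open
      (Set.mem_univ (⟨s, hsU⟩ : U.toScheme)) isOpen_univ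
  refine ⟨U.ι ''ᵁ V, ⟨⟨s, hsU⟩, hsV, rfl⟩, ?_⟩
  exact isHProjective_of_arrow_iso (morphismRestrictRestrict f U V)
    (isHProjective_restrict_of_isProjective (f ∣_ U) hU V hV)

end Groth.Agent.R2.H61.R4
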