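import Mathlib
import Groth.Agent.R2.H41TwoTopSpec

/-!
# helper61: PROJ:twotop — package [SH]

`P` an abelian presheaf whose `K'`-sheafification is a `K`-sheaf (`K' ≤ K`).  A section of `P` which is
`K'`-locally zero on the members of a `K`-covering sieve is `K'`-locally zero.
-/

set_option autoImplicit false
universe u
open CategoryTheory CategoryTheory.Limits Opposite

namespace Groth.Agent.R2.H61.TT

variable {D : Type u} [SmallCategory D]

/-- a section of a presheaf is locally zero iff its image in the sheafification vanishes -/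
theorem toSheafify_eq_zero_iff (K' : GrothendieckTopology D) (P : Dᵒᵖ ⥤ AddCommGrpCat.{u}) (U : D)
    (x : P.obj (op U)) :
    ((toSheafify K' P).app (op U)).hom x = 0 ↔
      ∃ S : Sieve U, S ∈ K' U ∧ ∀ ⦃W : D⦄ (a : W ⟶ U), S a → (P.map a.op).hom x = 0 := by
  have hinj : Presheaf.IsLocallyInjective K' (toSheafify K' P) :=
    (K'.W_toSheafify P).isLocallyInjective
  constructor
  · intro h
    have h0 : Presheaf.equalizerSieve (F := P) (X := op U) x 0 ∈ K' U := by
      apply Presheaf.equalizerSieve_mem K' (toSheafify K' P)
      rw [map_zero]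
      exact h
    refine ⟨_, h0, fun W a ha => ?_⟩
    have h1 : P.map a.op x = P.map a.op 0 := ha
    rw [map_zero] at h1
    exact h1
  · rintro ⟨S, hS, h⟩
    have hsh : Presheaf.IsSheaf K' (sheafify K' P) := ((presheafToSheaf K' _).obj P).property
    have hsep : Presieve.IsSeparated K' (sheafify K' P ⋙ forget AddCommGrpCat.{u}) :=
      ((isSheaf_iff_isSheaf_of_type K' _).1
        (Presheaf.isSheaf_comp_of_isSheaf K' _ (forget AddCommGrpCat.{u}) hsh)).isSeparated
    refine (hsep S hS).ext fun W a ha => ?_
    have h1 := h a ha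
    have nat := ConcreteCategory.congr_hom ((toSheafify K' P).naturality a.op) x
    change (sheafify K' P).map a.op (((toSheafify K' P).app (op U)).hom x) =
      (sheafify K' P).map a.op 0
    rw [map_zero]
    have nat' : (sheafify K' P).map a.op (((toSheafify K' P).app (op U)).hom x) =
        ((toSheafify K' P).app (op W)).hom ((P.map a.op).hom x) := nat.symm
    rw [nat', h1, map_zero]

open Groth.Agent.R2.H41 in
/-- **Package [SH]** -/
theorem pkgSH : TwoTopSpec.PkgSH.{u} := by
  intro D _ K K' hK P hP U R hR x hx
  rw [← toSheafify_eq_zero_iff]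
  have hsep : Presieve.IsSeparated K (sheafify K' P ⋙ forget AddCommGrpCat.{u}) :=
    ((isSheaf_iff_isSheaf_of_type K _).1
      (Presheaf.isSheaf_comp_of_isSheaf K _ (forget AddCommGrpCat.{u}) hP)).isSeparated
  refine (hsep R hR).ext fun V g hg => ?_
  have nat := ConcreteCategory.congr_hom ((toSheafify K' P).naturality g.op) x
  have nat' : (sheafify K' P).map g.op (((toSheafify K' P).app (op U)).hom x) =
      ((toSheafify K' P).app (op V)).hom ((P.map g.op).hom x) := nat.symm
  change (sheafify K' P).map g.op (((toSheafify K' P).app (op U)).hom x) =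
      (sheafify K' P).map g.op 0
  rw [map_zero, nat']
  exact (toSheafify_eq_zero_iff K' P V _).2 (hx g hg)

end Groth.Agent.R2.H61.TT
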