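import Mathlib
import Groth.Agent.Lib.Helper17DS3
import Groth.Agent.Lib.Helper17DS4
import Groth.Agent.R2.H41TwoTopSpec

/-!
# helper61: PROJ:twotop — package [TR] (truncated injective resolutions compute `R^q Ψ` in low degrees)

Pure homological algebra, by dimension shifting along the short exact sequences
`0 ⟶ Z^j ⟶ L^j ⟶ Z^{j+1} ⟶ 0` (helper17's `cyclesSC`) and helper17's long exact sequence of right derived
functors (`Lib/Helper17RDer6`).

* `shift_iso` : `S` short exact with `S.X₂` injective: `R^{p+1}Ψ(X₃) ≅ R^{p+2}Ψ(X₁)`.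
* `exists_isCokernel_rd_one` : for left exact `Ψ`, `R^1Ψ(X₁)` is a cokernel of `Ψ(X₂) ⟶ Ψ(X₃)`.
* `mapCyclesIso` : `Ψ(Z^q L) ≅ Z^q(Ψ L)` for `Ψ` left exact (+ compatibilities).
* `rd_cycles_iso` : `R^{p+1}Ψ(Z^j L) ≅ H^{j+p+1}(Ψ L)` if `L` is a complex of injectives exact in degrees `j+1..j+p+1`.
* `pkgTR`.
-/

set_option autoImplicit false
set_option linter.style.haveILetI false
universe v₁ v₂ u₁ u₂ u
open CategoryTheory CategoryTheory.Limits

namespace Groth.Agent.R2.H61.TT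

open RDer Groth.Agent.Lib.Helper17.RDerLib Groth.Agent.Lib.Helper17.DS

attribute [local instance] Groth.Agent.Lib.Helper17.DS.enoughInjectives_of_hasInjectiveResolutions

variable {𝒜 : Type u₁} [Category.{v₁} 𝒜] [Abelian 𝒜] [HasInjectiveResolutions 𝒜]
  {ℬ : Type u₂} [Category.{v₂} ℬ] [Abelian ℬ] (Ψ : 𝒜 ⥤ ℬ) [Ψ.Additive]

/-- dimension shifting: `R^{p+1}Ψ(X₃) ≅ R^{p+2}Ψ(X₁)` for a short exact sequence with injective middle term -/
theorem shift_iso (S : ShortComplex 𝒜) (hS : S.ShortExact) [Injective S.X₂] (p : ℕ) :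
    Nonempty ((Ψ.rightDerived (p + 1)).obj S.X₃ ≅ (Ψ.rightDerived (p + 2)).obj S.X₁) := by
  obtain ⟨T⟩ := nonempty_sesRes S hS
  have h2 : IsZero ((Ψ.rightDerived (p + 1)).obj S.X₂) :=
    Functor.isZero_rightDerived_obj_injective_succ Ψ p S.X₂
  have h2' : IsZero ((Ψ.rightDerived (p + 2)).obj S.X₂) :=
    Functor.isZero_rightDerived_obj_injective_succ Ψ (p + 1) S.X₂
  haveI : Mono (T.delta Ψ (p + 1) (p + 2) rfl) :=
    (exact₃ Ψ T (p + 1) (p + 2) rfl).mono_g (h2.eq_of_src _ _)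
  haveI : Epi (T.delta Ψ (p + 1) (p + 2) rfl) :=
    (exact₁ Ψ T (p + 1) (p + 2) rfl).epi_f (h2'.eq_of_tgt _ _)
  haveI : IsIso (T.delta Ψ (p + 1) (p + 2) rfl) := isIso_of_mono_of_epi _
  exact ⟨asIso (T.delta Ψ (p + 1) (p + 2) rfl)⟩

variable [PreservesFiniteLimits Ψ]

/-- `R^1Ψ(X₁)` is a cokernel of `Ψ(X₂) ⟶ Ψ(X₃)` for a short exact sequence with injective middle term -/
theorem exists_isCokernel_rd_one (S : ShortComplex 𝒜) (hS : S.ShortExact) [Injective S.X₂] :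
    ∃ (π : Ψ.obj S.X₃ ⟶ (Ψ.rightDerived 1).obj S.X₁) (w : Ψ.map S.g ≫ π = 0),
      Nonempty (IsColimit (CokernelCofork.ofπ π w)) := by
  obtain ⟨T⟩ := nonempty_sesRes S hS
  have h2 : IsZero ((Ψ.rightDerived 1).obj S.X₂) :=
    Functor.isZero_rightDerived_obj_injective_succ Ψ 0 S.X₂
  let δ := T.delta Ψ 0 1 rfl
  haveI : Epi δ := (exact₁ Ψ T 0 1 rfl).epi_f (h2.eq_of_tgt _ _)
  let z := Ψ.rightDerivedZeroIsoSelf
  let π : Ψ.obj S.X₃ ⟶ (Ψ.rightDerived 1).obj S.X₁ := z.inv.app S.X₃ ≫ δ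
  have w : Ψ.map S.g ≫ π = 0 := by
    dsimp only [π]
    rw [← Category.assoc, z.inv.naturality S.g, Category.assoc, comp_δ Ψ T 0 1 rfl, comp_zero]
  have hex : (ShortComplex.mk (Ψ.map S.g) π w).Exact := by
    let e : ShortComplex.mk ((Ψ.rightDerived 0).map S.g) δ (comp_δ Ψ T 0 1 rfl) ≅
        ShortComplex.mk (Ψ.map S.g) π w :=
      ShortComplex.isoMk (z.app S.X₂) (z.app S.X₃) (Iso.refl _)
        (z.hom.naturality S.g).symm (by
          dsimp only [π]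
          rw [Iso.refl_hom, Category.comp_id, ← Category.assoc]
          erw [z.hom_inv_id_app]
          rw [Category.id_comp])
    exact (ShortComplex.exact_iff_of_iso e).1 (exact₃ Ψ T 0 1 rfl)
  haveI : Epi (ShortComplex.mk (Ψ.map S.g) π w).g := by
    dsimp only [π]; infer_instance
  exact ⟨π, w, ⟨hex.gIsCokernel⟩⟩

section cycles

variable (L : CochainComplex 𝒜 ℕ)

/-- `Ψ L` -/
noncomputable abbrev mapCx : CochainComplex ℬ ℕ :=
  (Ψ.mapHomologicalComplex (ComplexShape.up ℕ)).obj L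

omit [HasInjectiveResolutions 𝒜] [PreservesFiniteLimits Ψ] in
lemma map_iCycles_d (q : ℕ) : Ψ.map (L.iCycles q) ≫ (mapCx Ψ L).d q (q + 1) = 0 := by
  change Ψ.map (L.iCycles q) ≫ Ψ.map (L.d q (q + 1)) = 0
  rw [← Ψ.map_comp, L.iCycles_d, Ψ.map_zero]

/-- `Ψ(Z^q L)` is a kernel of the differential of `Ψ L` -/
noncomputable def mapCyclesIsKernel (q : ℕ) :
    IsLimit (KernelFork.ofι (Ψ.map (L.iCycles q)) (map_iCycles_d Ψ L q)) :=
  (KernelFork.mapIsLimit _ (L.cyclesIsKernel q (q + 1) (by simp)) Ψ)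

/-- `Ψ(Z^q L) ≅ Z^q(Ψ L)` -/
noncomputable def mapCyclesIso (q : ℕ) : Ψ.obj (L.cycles q) ≅ (mapCx Ψ L).cycles q :=
  IsLimit.conePointUniqueUpToIso (mapCyclesIsKernel Ψ L q)
    ((mapCx Ψ L).cyclesIsKernel q (q + 1) (by simp))

@[reassoc]
lemma mapCyclesIso_hom_iCycles (q : ℕ) :
    (mapCyclesIso Ψ L q).hom ≫ (mapCx Ψ L).iCycles q = Ψ.map (L.iCycles q) :=
  IsLimit.conePointUniqueUpToIso_hom_comp (mapCyclesIsKernel Ψ L q)
    ((mapCx Ψ L).cyclesIsKernel q (q + 1) (by simp)) WalkingParallelPair.zero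

lemma map_toCycles_mapCyclesIso_hom (j q : ℕ) :
    (show (mapCx Ψ L).X j ⟶ Ψ.obj (L.cycles q) from Ψ.map (L.toCycles j q)) ≫
      (mapCyclesIso Ψ L q).hom = (mapCx Ψ L).toCycles j q := by
  apply (cancel_mono ((mapCx Ψ L).iCycles q)).1
  rw [Category.assoc, mapCyclesIso_hom_iCycles, (mapCx Ψ L).toCycles_i]
  change Ψ.map (L.toCycles j q) ≫ Ψ.map (L.iCycles q) = Ψ.map (L.d j q)
  rw [← Ψ.map_comp, L.toCycles_i]

end cycles

/-- base step: `R^1Ψ(Z^j L) ≅ H^{j+1}(Ψ L)` -/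
theorem rd_one_cycles_iso (L : CochainComplex 𝒜 ℕ) (hL : ∀ j, Injective (L.X j)) (j : ℕ)
    (hex : L.ExactAt (j + 1)) :
    Nonempty ((Ψ.rightDerived 1).obj (L.cycles j) ≅ (mapCx Ψ L).homology (j + 1)) := by
  have hS := cyclesSC_shortExact L j (j + 1) rfl hex
  haveI : Injective (cyclesSC L j (j + 1)).X₂ := hL j
  obtain ⟨π, w, ⟨hπ⟩⟩ := exists_isCokernel_rd_one Ψ (cyclesSC L j (j + 1)) hS
  have hc := (mapCx Ψ L).homologyIsCokernel j (j + 1) (by simp)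
  refine ⟨CokernelCofork.mapIsoOfIsColimit hπ hc
    (Arrow.isoMk (show Ψ.obj (L.X j) ≅ (mapCx Ψ L).X j from Iso.refl _)
      (mapCyclesIso Ψ L (j + 1)) ?_)⟩
  refine Eq.trans ?_ (map_toCycles_mapCyclesIso_hom Ψ L j (j + 1)).symm
  exact Category.id_comp _

/-- dimension shifting along the cycles of a complex of injectives -/
theorem rd_cycles_iso (L : CochainComplex 𝒜 ℕ) (hL : ∀ j, Injective (L.X j)) :
    ∀ (p j m : ℕ), m = j + p + 1 → (∀ i, j + 1 ≤ i → i ≤ m → L.ExactAt i) →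
      Nonempty ((Ψ.rightDerived (p + 1)).obj (L.cycles j) ≅ (mapCx Ψ L).homology m) := by
  intro p
  induction p with
  | zero =>
    intro j m hm hex
    obtain rfl : m = j + 1 := by omega
    exact rd_one_cycles_iso Ψ L hL j (hex _ le_rfl le_rfl)
  | succ p ih =>
    intro j m hm hex
    have hS := cyclesSC_shortExact L j (j + 1) rfl (hex _ le_rfl (by omega))
    haveI : Injective (cyclesSC L j (j + 1)).X₂ := hL j
    obtain ⟨e⟩ := shift_iso Ψ (cyclesSC L j (j + 1)) hS p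
    obtain ⟨e'⟩ := ih (j + 1) m (by omega) (fun i hi hi' => hex i (by omega) hi')
    exact ⟨e.symm ≪≫ e'⟩

omit [HasInjectiveResolutions 𝒜] in
/-- degree zero: `M ≅ Z^0 L` -/
theorem zero_iso (M : 𝒜) (L : CochainComplex 𝒜 ℕ) (ι : M ⟶ L.X 0) (hι : ι ≫ L.d 0 1 = 0) [Mono ι]
    (hex : (ShortComplex.mk ι (L.d 0 1) hι).Exact) :
    Nonempty (M ≅ L.cycles 0) :=
  ⟨IsLimit.conePointUniqueUpToIso hex.fIsKernel (L.cyclesIsKernel 0 1 (by simp))⟩

open Groth.Agent.R2.H41 in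
/-- **Package [TR]** -/
theorem pkgTR : TwoTopSpec.PkgTR.{u} := by
  intro 𝒜 ℬ _ _ _ _ _ Ψ _ _ M L hL ι hι hmono hex n hn q hq
  haveI := hmono
  obtain ⟨e₀⟩ := zero_iso M L ι hι hex
  rcases q with _ | q
  · -- degree zero
    refine ⟨(Ψ.rightDerivedZeroIsoSelf.app M) ≪≫ Ψ.mapIso e₀ ≪≫ mapCyclesIso Ψ L 0 ≪≫
      (mapCx Ψ L).isoHomologyπ₀⟩
  · obtain ⟨e⟩ := rd_cycles_iso Ψ L hL q 0 (q + 1) (by omega)
      (fun i hi hi' => hn i (by omega) (by omega))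
    exact ⟨(Ψ.rightDerived (q + 1)).mapIso e₀ ≪≫ e⟩

end Groth.Agent.R2.H61.TT
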