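import Mathlib
import Groth.Prelude.Def_RelProj
import Groth.Agent.R2.LeadRelProjSpec
import Groth.Agent.Lib.Helper27RelProj5
import Groth.Agent.Lib.Helper13RelProjA
import Groth.Agent.R2.H87PnSpec
import Groth.Agent.S9705

/-!
# PROJ:relproj (lead), package [R4] (helper74)

Projective morphisms (`RelProj.IsProjective`) are proper, and over an affine base they are
H-projective.

Ring level: a graded ring `A`, generated by `A_0 ∪ A_1`, with `A_1` spanned over `R` (through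
`ρ : R → A_0`) by finitely many elements, admits a closed immersion `Proj A ⟶ P^n_R` over `Spec R`.
-/

set_option autoImplicit false
set_option linter.style.haveILetI false

universe u

open CategoryTheory CategoryTheory.Limits AlgebraicGeometry TopologicalSpace Opposite
open scoped HomogeneousIdeal

namespace Groth.Agent.R2.H74.RelProjR4

section Ring

variable {A σ : Type u} [CommRing A] [SetLike σ A] [AddSubgroupClass σ A]
  (𝒜 : ℕ → σ) [GradedRing 𝒜]
variable {R : Type u} [CommRing R] (ρ : R →+* 𝒜 0)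

/-- `ρ` followed by the inclusion of the degree zero part. -/
noncomputable def ρA : R →+* A := (algebraMap (𝒜 0) A).comp ρ

lemma ρA_apply (r : R) : ρA 𝒜 ρ r = (ρ r : A) := rfl

lemma ρA_mem (r : R) : ρA 𝒜 ρ r ∈ 𝒜 0 := (ρ r).2

variable (n : ℕ) (g : Fin (n + 1) → A) (hg : ∀ i, g i ∈ 𝒜 1)

lemma eval_mem {d : ℕ} {x : MvPolynomial (Fin (n + 1)) R}
    (hx : x ∈ CohB1.polyGrading n R d) (hg : ∀ i, g i ∈ 𝒜 1) :
    MvPolynomial.eval₂Hom (ρA 𝒜 ρ) g x ∈ 𝒜 d := by
  classical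
  rw [MvPolynomial.coe_eval₂Hom, MvPolynomial.eval₂_eq']
  refine sum_mem fun m hm => ?_
  have hmd : Finsupp.weight 1 m = d := by
    have := (MvPolynomial.mem_homogeneousSubmodule _ _).mp hx
    exact this (MvPolynomial.mem_support_iff.mp hm)
  have h1 : ∏ i, g i ^ m i ∈ 𝒜 (∑ i, m i • 1) :=
    SetLike.prod_mem_graded 𝒜 (fun i => m i • 1) (fun i => g i ^ m i)
      (fun i _ => SetLike.pow_mem_graded _ (hg i))
  have h2 : (∑ i, m i • 1) = d := by
    rw [← hmd, Finsupp.weight_apply, Finsupp.sum_fintype _ _ (fun _ => by simp)]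
    simp
  rw [h2] at h1
  have := SetLike.mul_mem_graded (ρA_mem 𝒜 ρ (MvPolynomial.coeff m x)) h1
  rwa [zero_add] at this

/-- the graded homomorphism `R[X_0..X_n] → A`, `X_i ↦ g i`. -/
noncomputable def evalHom : CohB1.polyGrading n R →+*ᵍ 𝒜 where
  toRingHom := MvPolynomial.eval₂Hom (ρA 𝒜 ρ) g
  map_mem := fun hx => eval_mem 𝒜 ρ n g hx hg

lemma evalHom_apply (x : MvPolynomial (Fin (n + 1)) R) :
    evalHom 𝒜 ρ n g hg x = MvPolynomial.eval₂Hom (ρA 𝒜 ρ) g x := rfl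

lemma evalHom_C (r : R) : evalHom 𝒜 ρ n g hg (MvPolynomial.C r) = (ρ r : A) := by
  rw [evalHom_apply, MvPolynomial.coe_eval₂Hom, MvPolynomial.eval₂_C]
  rfl

lemma evalHom_X (i : Fin (n + 1)) : evalHom 𝒜 ρ n g hg (MvPolynomial.X i) = g i := by
  rw [evalHom_apply, MvPolynomial.coe_eval₂Hom, MvPolynomial.eval₂_X]

/-- Ring level core of [R4]: a closed immersion `Proj A ⟶ P^n_R` over `Spec R`. -/
theorem exists_closedImmersion (T : Finset A) (hT : ∀ t ∈ T, t ∈ 𝒜 1)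
    (hspan : ∀ x ∈ 𝒜 1, ∃ c : A → R, x = ∑ t ∈ T, (ρ (c t) : A) * t)
    (hgen : Subring.closure ((𝒜 0 : Set A) ∪ (𝒜 1 : Set A)) = ⊤) :
    ∃ (n : ℕ) (i : Proj 𝒜 ⟶ CohB1.ProjSpace n R), IsClosedImmersion i ∧
      i ≫ CohB1.ProjSpace.toSpec n R = Proj.toSpecZero 𝒜 ≫ Spec.map (CommRingCat.ofHom ρ) := by
  classical
  let n := T.card
  let g : Fin (n + 1) → A := Fin.cases 0 (fun i => ((T.equivFin.symm i : T) : A))
  have hg : ∀ i, g i ∈ 𝒜 1 := by
    intro i
    refine Fin.cases ?_ (fun j => ?_) i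
    · exact zero_mem _
    · exact hT _ (T.equivFin.symm j).2
  have hgs : ∀ t : T, g (T.equivFin t).succ = (t : A) := by
    intro t
    change ((T.equivFin.symm (T.equivFin t) : T) : A) = t
    rw [Equiv.symm_apply_apply]
  let ψ := evalHom 𝒜 ρ n g hg
  -- `ψ` hits all of degree one
  have h1 : ∀ b ∈ 𝒜 1, ∃ x, ψ x = b := by
    intro b hb
    obtain ⟨c, rfl⟩ := hspan b hb
    refine ⟨∑ t ∈ T.attach, MvPolynomial.C (c t) * MvPolynomial.X (T.equivFin t).succ, ?_⟩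
    rw [map_sum, ← Finset.sum_attach T]
    refine Finset.sum_congr rfl fun t _ => ?_
    rw [map_mul, evalHom_C, evalHom_X, hgs]
  have hsurj : ∀ d, 0 < d → ∀ y ∈ 𝒜 d, ∃ x ∈ CohB1.polyGrading n R d, ψ x = y :=
    fun d hd y hy => Groth.Agent.Lib.Helper27RelProj5.surjective_pos_of_gen ψ hgen h1 d hd y hy
  have hirr : 𝒜₊ ≤ (CohB1.polyGrading n R)₊.map ψ := by
    rw [HomogeneousIdeal.irrelevant_le]
    intro d hd b hb
    obtain ⟨x, hx, rfl⟩ := hsurj d hd b hb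
    change ψ x ∈ Ideal.map ψ ((CohB1.polyGrading n R)₊.toIdeal)
    exact Ideal.mem_map_of_mem _ (HomogeneousIdeal.mem_irrelevant_of_mem _ hd hx)
  refine ⟨n, Proj.map ψ hirr, ?_, ?_⟩
  · exact Groth.Agent.Helper13RelProj.isClosedImmersion_map_of_surjective_pos ψ hirr hsurj
  · exact Groth.Agent.Lib.Helper27RelProj4.map_toSpecZero ψ hirr
      (algebraMap R (CohB1.polyGrading n R 0)) ρ (fun r => by
        rw [SetLike.GradeZero.coe_algebraMap]
        exact evalHom_C 𝒜 ρ n g hg r)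

end Ring

section Scheme

open Groth.Agent.R2.Lead.RelProjSpec

variable {S : Scheme.{u}}

/-- The chartwise closed immersion into projective space over `Spec Γ(S, U)`. -/
theorem exists_closedImmersion_chart (𝒮 : RelProj.QCGrAlg S) (hgen : 𝒮.IsGenDegOne)
    (hft : 𝒮.IsFTDeg 1) (U : S.Opens) (hU : IsAffineOpen U) :
    ∃ (n : ℕ) (i : Proj (𝒮.deg U hU) ⟶ CohB1.ProjSpace n Γ(S, U)), IsClosedImmersion i ∧
      i ≫ CohB1.ProjSpace.toSpec n Γ(S, U) =
        Proj.toSpecZero (𝒮.deg U hU) ≫ Spec.map (𝒮.strZero U hU) := by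
  obtain ⟨T, hT, hspan⟩ := hft U hU
  exact exists_closedImmersion (𝒮.deg U hU) (𝒮.strZero U hU).hom T (fun t ht => hT ht)
    (fun x hx => hspan x hx) (hgen U hU)

/-- [R4] projective ⇒ proper. -/
theorem r4 : R4Stmt.{u} := by
  intro X S f hf
  obtain ⟨𝒮, P, p, chart, e, hgen, hft, hrel, hef⟩ := hf
  suffices hp : IsProper p by
    rw [← hef]
    infer_instance
  rw [IsZariskiLocalAtTarget.iff_of_iSup_eq_top (P := @IsProper)
    (fun U : S.affineOpens => (U : S.Opens)) (iSup_affineOpens_eq_top S)]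
  rintro ⟨U, hU⟩
  obtain ⟨n, i, hi, hcomm⟩ := exists_closedImmersion_chart 𝒮 hgen hft U hU
  have key : p ∣_ U = (chart U hU).hom ≫ (i ≫ CohB1.ProjSpace.toSpec n Γ(S, U)) ≫
      hU.isoSpec.inv := by
    rw [← cancel_mono U.ι, morphismRestrict_ι, ← hrel.chart_over U hU, hcomm]
    simp only [Category.assoc]
    rfl
  have h1 := Groth.Agent.S9705.isProper_projSpace_toSpec n Γ(S, U)
  change IsProper (p ∣_ U)
  rw [key]
  infer_instance

/-- [R4, affine form] over an affine base, projective ⇒ H-projective. -/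
theorem r4Aff : R4AffStmt.{u} := by
  intro X S _ f hf
  obtain ⟨𝒮, P, p, chart, e, hgen, hft, hrel, hef⟩ := hf
  have hU : IsAffineOpen (⊤ : S.Opens) := isAffineOpen_top S
  obtain ⟨n, i, hi, hcomm⟩ := exists_closedImmersion_chart 𝒮 hgen hft ⊤ hU
  obtain ⟨e', he'⟩ := Groth.Agent.R2.H87.PnSpec.projSpaceOver_spec_iso n Γ(S, ⊤)
  have htop : p ⁻¹ᵁ (⊤ : S.Opens) = ⊤ := rfl
  haveI : IsIso (p ⁻¹ᵁ (⊤ : S.Opens)).ι := by
    rw [htop, ← Scheme.topIso_hom]
    infer_instance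
  haveI : IsIso hU.fromSpec := by
    rw [IsAffineOpen.fromSpec_top]
    infer_instance
  haveI : IsIso (Groth.Agent.R2.H87.ProjSpaceOver.map n hU.fromSpec) := by
    refine ⟨Groth.Agent.R2.H87.ProjSpaceOver.map n (inv hU.fromSpec), ?_, ?_⟩
    · rw [← Groth.Agent.R2.H87.ProjSpaceOver.map_comp, IsIso.hom_inv_id,
        Groth.Agent.R2.H87.ProjSpaceOver.map_id]
    · rw [← Groth.Agent.R2.H87.ProjSpaceOver.map_comp, IsIso.inv_hom_id,
        Groth.Agent.R2.H87.ProjSpaceOver.map_id]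
  refine ⟨n, e.hom ≫ inv (p ⁻¹ᵁ (⊤ : S.Opens)).ι ≫ (chart ⊤ hU).hom ≫ i ≫ e'.inv ≫
    Groth.Agent.R2.H87.ProjSpaceOver.map n hU.fromSpec, inferInstance, ?_⟩
  have h1 : e'.inv ≫ CohB1.ProjSpaceOver.toBase n (Spec (CommRingCat.of ↑Γ(S, ⊤))) =
      CohB1.ProjSpace.toSpec n Γ(S, ⊤) := by
    rw [← he', Iso.inv_hom_id_assoc]
  simp only [Category.assoc]
  rw [Groth.Agent.R2.H87.ProjSpaceOver.map_toBase, reassoc_of% h1, reassoc_of% hcomm,
    hrel.chart_over ⊤ hU, IsIso.inv_hom_id_assoc, hef]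

end Scheme

end Groth.Agent.R2.H74.RelProjR4
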