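import Mathlib
import Groth.Prelude.Def_RelProj3
import Groth.Agent.Lib.Helper2RelTwistAmpleB
import Groth.Agent.Lib.Helper2RelTwistExist
import Groth.Agent.Lib.Helper27RelProj5
import Groth.Agent.R2.H74RelProjR4
import Groth.Agent.S8284
import Groth.Agent.S9705

/-!
# PROJ:relproj (lead): projective ⇒ quasi-projective

For a projective morphism `f` (`RelProj.IsProjective`), the twisting sheaf `O(1)` of the relative
Proj (prior S8284) is invertible and `f`-ample: degree-one generation gives the cover by the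
`D₊(g)`, `g` of degree one, on every chart, and the charts are quasi-compact (closed in a
projective space, helper74 [R4]).  Assembly through helper2's `RelTwistAmple(B)` library.
-/

set_option autoImplicit false
set_option linter.style.haveILetI false

universe u

open CategoryTheory CategoryTheory.Limits AlgebraicGeometry TopologicalSpace Opposite
open scoped HomogeneousIdeal

namespace Groth.Agent.R2.Lead.RelProjQP

section Ring

variable {A σ : Type u} [CommRing A] [SetLike σ A] [AddSubgroupClass σ A]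
  (𝒜 : ℕ → σ) [GradedRing 𝒜]

open Groth.Agent.Lib.Helper27RelProj5 in
/-- in a graded ring generated in degrees `0, 1`, an ideal containing the degree-one part contains
all parts of positive degree. -/
theorem mem_ideal_of_pos (hgen : Subring.closure ((𝒜 0 : Set A) ∪ (𝒜 1 : Set A)) = ⊤)
    (I : Ideal A) (hI : ∀ a ∈ 𝒜 1, a ∈ I) (n : ℕ) (hn : 0 < n) (y : A) (hy : y ∈ 𝒜 n) : y ∈ I := by
  obtain ⟨m, rfl⟩ : ∃ m, n = m + 1 := ⟨n - 1, by omega⟩
  have key : ∀ x ∈ genPow 𝒜 (m + 1), x ∈ I := by
    intro x h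
    rw [genPow_succ] at h
    induction h using AddSubgroup.closure_induction with
    | mem x hx =>
      obtain ⟨a, ha, c, -, rfl⟩ := hx
      exact I.mul_mem_right c (hI a ha)
    | zero => exact zero_mem _
    | add x z _ _ hx hz => exact add_mem hx hz
    | neg x _ hx => exact neg_mem hx
  exact key y (mem_genPow_of_mem 𝒜 hgen (m + 1) y hy)

/-- degree-one generation: every point of `Proj` lies in some `D₊(g)`, `g` of degree one. -/
theorem exists_deg_one_not_mem (hgen : Subring.closure ((𝒜 0 : Set A) ∪ (𝒜 1 : Set A)) = ⊤)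
    (y : ProjectiveSpectrum 𝒜) : ∃ g ∈ 𝒜 1, g ∉ y.asHomogeneousIdeal := by
  by_contra hcon
  push Not at hcon
  apply y.not_irrelevant_le
  rw [HomogeneousIdeal.irrelevant_le]
  intro d hd b hb
  exact mem_ideal_of_pos 𝒜 hgen y.asHomogeneousIdeal.toIdeal (fun a ha => hcon a ha) d hd b hb

end Ring

section Scheme

open Groth.Agent.Lib.Helper2.RelTwistAmpleB Groth.Agent.Lib.Helper2.RelTwistAmple
  Groth.Agent.Lib.Helper23.RestrJ

variable {S P : Scheme.{u}} (𝒮 : RelProj.QCGrAlg S) (p : P ⟶ S)
  (chart : ∀ (U : S.Opens) (hU : IsAffineOpen U),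
    (((p ⁻¹ᵁ U : P.Opens) : Scheme.{u}) ≅ Proj (𝒮.deg U hU)))

/-- the charts of a relative Proj of an algebra generated in degree one with `𝒮_1` of finite type are
quasi-compact. -/
theorem compactSpace_chart (hgen : 𝒮.IsGenDegOne) (hft : 𝒮.IsFTDeg 1) (U : S.Opens)
    (hU : IsAffineOpen U) : CompactSpace (Proj (𝒮.deg U hU)) := by
  obtain ⟨n, i, hi, hcomm⟩ :=
    Groth.Agent.R2.H74.RelProjR4.exists_closedImmersion_chart 𝒮 hgen hft U hU
  have h1 := Groth.Agent.S9705.isProper_projSpace_toSpec n Γ(S, U)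
  have h2 : QuasiCompact (i ≫ CohB1.ProjSpace.toSpec n Γ(S, U)) := inferInstance
  exact QuasiCompact.compactSpace_of_compactSpace (i ≫ CohB1.ProjSpace.toSpec n Γ(S, U))

/-- `O(1)` on the relative Proj of an algebra generated in degree one with `𝒮_1` of finite type is
invertible and relatively ample. -/
theorem exists_relAmple (hgen : 𝒮.IsGenDegOne) (hft : 𝒮.IsFTDeg 1)
    (hP : RelProj.IsRelProj 𝒮 p chart) [QuasiCompact p] :
    ∃ L : P.Modules, PicF.IsInvertible L ∧ RelAmple.IsRelAmple p L := by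
  obtain ⟨L, lam, hL⟩ := Groth.Agent.S8284.result 𝒮 p chart hP ((1 : ℕ) : ℤ)
  have hcov : ∀ (V : S.Opens) (hV : IsAffineOpen V) (y : ProjectiveSpectrum (𝒮.deg V hV)),
      ∃ g ∈ 𝒮.deg V hV 1, g ∉ y.asHomogeneousIdeal :=
    fun V hV y => exists_deg_one_not_mem (𝒮.deg V hV) (hgen V hV) y
  have hinv : PicF.IsInvertible L := isInvertible_of_cover p chart 1 L lam hL hcov
  refine ⟨L, hinv, inferInstance, ?_⟩
  rintro ⟨V, hV⟩
  have hV' : IsAffineOpen V := hV
  haveI : CompactSpace (Proj (𝒮.deg V hV')) := compactSpace_chart 𝒮 hgen hft V hV'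
  exact isAmple_restrict_preimage p chart L V hV'
    (isAmple_restrict_emb p chart 1 L lam hL Nat.one_pos hinv V hV' (hcov V hV'))

end Scheme

section Transfer

open Groth.Agent.Lib.Helper23.RestrJ

/-- ampleness of restrictions transfers along an isomorphism. -/
theorem isAmple_restrict_iso {X P : Scheme.{u}} (e : X ⟶ P) [IsIso e] (L : P.Modules) (W : P.Opens)
    (h : CohB1.IsAmple (L.restrict W.ι)) :
    CohB1.IsAmple ((L.restrict e).restrict (e ⁻¹ᵁ W).ι) := by
  refine (isAmple_restrict_comp_iff L e (e ⁻¹ᵁ W).ι).mpr ?_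
  refine (isAmple_restrict_iff_of_eq L (morphismRestrict_ι e W).symm).mpr ?_
  refine (isAmple_restrict_comp_iff L W.ι (e ∣_ W)).mp ?_
  exact (isAmple_restrict_iff_of_isIso (e ∣_ W) (L.restrict W.ι)).mpr h

/-- **projective ⇒ quasi-projective.** -/
theorem isQuasiProjective_of_isProjective {X Y : Scheme.{u}} (f : X ⟶ Y)
    (hf : RelProj.IsProjective f) : RelProj.IsQuasiProjective f := by
  haveI : IsProper f := Groth.Agent.R2.H74.RelProjR4.r4 f hf
  obtain ⟨𝒮, P, p, chart, e, hgen, hft, hrel, hef⟩ := hf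
  subst hef
  haveI : QuasiCompact p := by
    have : p = e.inv ≫ (e.hom ≫ p) := by simp
    rw [this]
    infer_instance
  obtain ⟨L, -, -, hL⟩ := exists_relAmple 𝒮 p chart hgen hft hrel
  refine ⟨inferInstance, inferInstance, L.restrict e.hom, inferInstance, fun V => ?_⟩
  exact isAmple_restrict_iso e.hom L (p ⁻¹ᵁ V.1) (hL V)

end Transfer

end Groth.Agent.R2.Lead.RelProjQP
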