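import Mathlib
import Groth.Agent.Lib.Helper13SymAlgLocal
import Groth.Agent.Lib.Helper2RelTwistAmpleB
import Groth.Agent.Lib.Helper23PB3
import Groth.Agent.Lib.Helper23RestrJ
import Groth.Agent.R2.LeadRelProjQP

/-!
# `O(1)` on a projective bundle `P(E)` pulls back to a relatively ample module along embeddings (helper91)

* `isGenDegOne_of_isGrSymAlg` : a graded symmetric algebra is generated in degree one.
* `exists_section_genLocus` : the section `g/1` of `O_P(d)` over a chart, with generating locus `D₊(g)`.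
* `isRelAmple_pullback_of_isEmbedding` : **S5722**.
-/

set_option autoImplicit false
set_option linter.style.haveILetI false
set_option linter.unusedSectionVars false
universe u

open CategoryTheory CategoryTheory.Limits AlgebraicGeometry TopologicalSpace Opposite
open scoped HomogeneousIdeal

namespace Groth.Agent.R2.H91.PEAmple

section GenDegOne

open Groth.Agent.Helper13SymAlg Groth.Agent.Helper13SymLoc

variable {S : Scheme.{u}} (E : S.Modules) [E.IsQuasicoherent] (𝒮 : RelProj.QCGrAlg S)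
  (j : E ⟶ 𝒮.toModule)

/-- a graded symmetric algebra is generated in degree one -/
theorem isGenDegOne_of_isGrSymAlg (hj : RelProj.IsGrSymAlg E 𝒮 j) : 𝒮.IsGenDegOne := by
  intro U hU
  rw [eq_top_iff]
  intro x _
  obtain ⟨y, rfl⟩ := (bijective_σ E U hU hj.1).2 x
  induction y using SymmetricAlgebra.induction with
  | algebraMap a =>
    refine Subring.subset_closure (Or.inl ?_)
    unfold σ
    rw [symLift_algebraMap]
    exact 𝒮.str_mem U hU a
  | ι m =>
    refine Subring.subset_closure (Or.inr ?_)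
    unfold σ
    rw [symLift_ι]
    exact hj.2 U hU m
  | mul a b ha hb => rw [map_mul]; exact mul_mem (ha trivial) (hb trivial)
  | add a b ha hb => rw [map_add]; exact add_mem (ha trivial) (hb trivial)

end GenDegOne

section Sections

open Groth.Agent.Lib.Helper2.RelTildeQCoh Groth.Agent.Lib.Helper23.SecTw Groth.Agent.Lib.Helper6
  Groth.Agent.Lib.Helper2.Push Groth.Agent.Lib.Helper2.RelTwistGen Groth.Agent.Lib.Helper2.IsGenCover
  Groth.Agent.Lib.Helper2.RelTwistTriv Groth.Agent.Lib.Helper2.RelTwistTensor RelProj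
  Groth.Agent.Lib.Helper23.GenLocus Groth.Agent.Lib.Helper2.RelTwistInv Groth.Agent.Lib.Helper23.RestrJ
  Groth.Agent.Lib.Helper2GrModSect Groth.Agent.Lib.Helper2.RelTwistAmple

variable {P S : Scheme.{u}} {𝒮 : RelProj.QCGrAlg S} (p : P ⟶ S)
  (chart : ∀ (U : S.Opens) (hU : IsAffineOpen U), (((p ⁻¹ᵁ U : P.Opens) : Scheme.{u}) ≅ Proj (𝒮.deg U hU)))
variable (d : ℕ) (L : P.Modules)
  (lam : ∀ (U : S.Opens) (hU : IsAffineOpen U),
    L ⟶ (Scheme.Modules.pushforward (RelProj.emb p chart U hU)).obj (GrTwist.twist (𝒮.deg U hU) (d : ℤ)))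
  (hL : RelProj.IsRelTwist 𝒮 p chart (d : ℤ) L lam)

include hL in
/-- the section `g/1` of `O_P(d)` over the chart `Proj 𝒮(V)`, with generating locus `D₊(g)` (extracted from the proof
of helper2's `isAmple_restrict_emb`; no quasi-compactness needed). -/
theorem exists_section_genLocus (hLinv : PicF.IsInvertible L) (V : S.Opens) (hV : IsAffineOpen V)
    (hcov : ∀ y : ProjectiveSpectrum (𝒮.deg V hV), ∃ g ∈ 𝒮.deg V hV d, g ∉ y.asHomogeneousIdeal)
    (g : 𝒮.presheaf.obj (op V)) (hg : g ∈ 𝒮.deg V hV d) :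
    ∃ σ : Γ(L.restrict (RelProj.emb p chart V hV), ⊤),
      CohB1.genLocus (L.restrict (RelProj.emb p chart V hV))
        (secHom (L.restrict (RelProj.emb p chart V hV)) σ) = Proj.basicOpen (𝒮.deg V hV) g := by
  have hN : PicF.IsInvertible (L.restrict (RelProj.emb p chart V hV)) :=
    isInvertible_restrict (RelProj.emb p chart V hV) L hLinv
  have h1mem : (1 : 𝒮.presheaf.obj (op V)) ∈ 𝒮.deg V hV 0 := SetLike.GradedOne.one_mem
  have hij : ((d : ℕ) : ℤ) = ((0 : ℕ) : ℤ) + (d : ℤ) := by simp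
  -- frames
  have hfr : ∀ (g' : 𝒮.presheaf.obj (op V)) (hg' : g' ∈ 𝒮.deg V hV d),
      ∃ e : Γ(L, (RelProj.emb p chart V hV) ''ᵁ (Proj.basicOpen (𝒮.deg V hV) g')),
        IsGen L ((RelProj.emb p chart V hV) ''ᵁ (Proj.basicOpen (𝒮.deg V hV) g')) e ∧
        ∀ y : ((RelProj.emb p chart V hV) ⁻¹ᵁ ((RelProj.emb p chart V hV) ''ᵁ
            (Proj.basicOpen (𝒮.deg V hV) g')) : (Proj (𝒮.deg V hV)).Opens),
          GrTwist.val (V := RelProj.emb p chart V hV ⁻¹ᵁ ((RelProj.emb p chart V hV) ''ᵁ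
            (Proj.basicOpen (𝒮.deg V hV) g')))
            ((lam V hV).app _ e) y = Localization.mk g' ⟨1, GrMod.one_nin y.1⟩ := by
    intro g' hg'
    refine exists_frame p chart (d : ℤ) L lam hL V hV _ (image_emb_le p chart V hV _) hg' h1mem hij ?_
      (fun y => GrMod.one_nin y.1)
    rintro ⟨y, h1⟩
    rw [(RelProj.emb p chart V hV).preimage_image_eq] at h1
    exact (ProjectiveSpectrum.mem_basicOpen _ _ y).mp h1
  obtain ⟨ℓ, hℓ⟩ := exists_sec p chart d L lam hL V hV hg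
  have hle : (RelProj.emb p chart V hV) ''ᵁ ⊤ ≤ p ⁻¹ᵁ V := image_emb_le p chart V hV ⊤
  refine ⟨(show Γ(L.restrict (RelProj.emb p chart V hV), ⊤) from res L hle ℓ), ?_⟩
  refine opens_eq_of_cover _ _ (fun y' => ?_)
  obtain ⟨g', hg', hg'y⟩ := hcov y'
  obtain ⟨E, hE, vE⟩ := hfr g' hg'
  have hA : IsGen (L.restrict (RelProj.emb p chart V hV)) (Proj.basicOpen (𝒮.deg V hV) g')
      (show Γ(L.restrict (RelProj.emb p chart V hV), Proj.basicOpen (𝒮.deg V hV) g') from E) :=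
    isGen_restrict_of_isGen (RelProj.emb p chart V hV) L _ E hE
  refine ⟨Proj.basicOpen (𝒮.deg V hV) g', (ProjectiveSpectrum.mem_basicOpen _ g' y').mpr hg'y, ?_⟩
  rw [genLocus_inf_eq_coef _ hA]
  have hc := (sv_eq_coef_smul (secHom (L.restrict (RelProj.emb p chart V hV))
    (show Γ(L.restrict (RelProj.emb p chart V hV), ⊤) from res L hle ℓ)) hA).symm
  generalize coef hA le_rfl (sv (secHom (L.restrict (RelProj.emb p chart V hV))
    (show Γ(L.restrict (RelProj.emb p chart V hV), ⊤) from res L hle ℓ))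
    (Proj.basicOpen (𝒮.deg V hV) g')) = c at hc ⊢
  rw [sv_secHom] at hc
  have hcL : (upf (RelProj.emb p chart V hV) (Proj.basicOpen (𝒮.deg V hV) g') c • E :
      Γ(L, (RelProj.emb p chart V hV) ''ᵁ (Proj.basicOpen (𝒮.deg V hV) g'))) =
      res L (image_emb_le p chart V hV _) ℓ := by
    have h2 : res L ((RelProj.emb p chart V hV).image_mono
        (le_top : Proj.basicOpen (𝒮.deg V hV) g' ≤ ⊤)) (res L hle ℓ) =
        res L (image_emb_le p chart V hV _) ℓ := res_res _ _ _ _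
    rw [← h2]
    exact hc
  have hval : ∀ (y : ProjectiveSpectrum (𝒮.deg V hV)) (hy : y ∈ Proj.basicOpen (𝒮.deg V hV) g'),
      (funVal (𝒮.deg V hV) (Proj.basicOpen (𝒮.deg V hV) g') c y hy).val =
        Localization.mk g ⟨g', (ProjectiveSpectrum.mem_basicOpen _ g' y).mp hy⟩ := by
    intro y hy
    have hy2 : y ∈ (RelProj.emb p chart V hV) ⁻¹ᵁ ((RelProj.emb p chart V hV) ''ᵁ
        (Proj.basicOpen (𝒮.deg V hV) g')) := by
      rw [(RelProj.emb p chart V hV).preimage_image_eq]; exact hy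
    have H := congrArg (fun τ => GrTwist.val
      (V := RelProj.emb p chart V hV ⁻¹ᵁ ((RelProj.emb p chart V hV) ''ᵁ
        (Proj.basicOpen (𝒮.deg V hV) g')))
      ((lam V hV).app _ τ) ⟨y, hy2⟩) hcL
    simp only at H
    have hsm : GrTwist.val
        (V := RelProj.emb p chart V hV ⁻¹ᵁ ((RelProj.emb p chart V hV) ''ᵁ
          (Proj.basicOpen (𝒮.deg V hV) g')))
        ((lam V hV).app _ (upf (RelProj.emb p chart V hV) (Proj.basicOpen (𝒮.deg V hV) g') c • E))
          ⟨y, hy2⟩ =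
        (funVal (𝒮.deg V hV) _ ((RelProj.emb p chart V hV).app _
          (upf (RelProj.emb p chart V hV) (Proj.basicOpen (𝒮.deg V hV) g') c)) y hy2).val *
        GrTwist.val
          (V := RelProj.emb p chart V hV ⁻¹ᵁ ((RelProj.emb p chart V hV) ''ᵁ
            (Proj.basicOpen (𝒮.deg V hV) g')))
          ((lam V hV).app _ E) ⟨y, hy2⟩ := by
      rw [Scheme.Modules.Hom.app_smul, Groth.Agent.Lib.Helper2.Push.pushforward_smul]
      rfl
    have hnat : GrTwist.val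
        (V := RelProj.emb p chart V hV ⁻¹ᵁ ((RelProj.emb p chart V hV) ''ᵁ
          (Proj.basicOpen (𝒮.deg V hV) g')))
        ((lam V hV).app _ (res L (image_emb_le p chart V hV _) ℓ)) ⟨y, hy2⟩ =
        Localization.mk g ⟨1, GrMod.one_nin y⟩ := by
      have hn := app_map' (lam V hV) (homOfLE (image_emb_le p chart V hV
        (Proj.basicOpen (𝒮.deg V hV) g'))) ℓ
      rw [← hℓ ⟨y, image_emb_le p chart V hV _ hy2⟩]
      change GrTwist.val (V := RelProj.emb p chart V hV ⁻¹ᵁ ((RelProj.emb p chart V hV) ''ᵁ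
          (Proj.basicOpen (𝒮.deg V hV) g')))
        ((lam V hV).app _ (L.presheaf.map (homOfLE (image_emb_le p chart V hV
          (Proj.basicOpen (𝒮.deg V hV) g'))).op ℓ)) ⟨y, hy2⟩ = _
      rw [hn]
      rfl
    rw [hsm, hnat, vE ⟨y, hy2⟩, funVal_app_upf (RelProj.emb p chart V hV) _ c y hy2 hy] at H
    have hu := mk_mul_mk_swap y.asHomogeneousIdeal.toIdeal.primeCompl g' 1
      ((ProjectiveSpectrum.mem_basicOpen _ g' y).mp hy) (GrMod.one_nin y)
    calc (funVal (𝒮.deg V hV) (Proj.basicOpen (𝒮.deg V hV) g') c y hy).val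
        = (funVal (𝒮.deg V hV) (Proj.basicOpen (𝒮.deg V hV) g') c y hy).val *
            (Localization.mk g' ⟨1, GrMod.one_nin y⟩ *
              Localization.mk 1 ⟨g', (ProjectiveSpectrum.mem_basicOpen _ g' y).mp hy⟩) := by
          rw [hu, mul_one]
      _ = Localization.mk g ⟨1, GrMod.one_nin y⟩ *
            Localization.mk 1 ⟨g', (ProjectiveSpectrum.mem_basicOpen _ g' y).mp hy⟩ := by
          rw [← mul_assoc, H]
      _ = Localization.mk g ⟨g', (ProjectiveSpectrum.mem_basicOpen _ g' y).mp hy⟩ := by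
          rw [Localization.mk_mul, Localization.mk_eq_mk_iff, Localization.r_iff_exists]
          refine ⟨1, ?_⟩
          simp
  have hunit : ∀ (y : ProjectiveSpectrum (𝒮.deg V hV)) (hy : y ∈ Proj.basicOpen (𝒮.deg V hV) g'),
      IsUnit (funVal (𝒮.deg V hV) (Proj.basicOpen (𝒮.deg V hV) g') c y hy) ↔
        g ∉ y.asHomogeneousIdeal := fun y hy =>
    isUnit_of_val_eq_mk _ ((ProjectiveSpectrum.mem_basicOpen _ g' y).mp hy) (hval y hy)
  ext y
  constructor
  · intro hy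
    have hyW : y ∈ Proj.basicOpen (𝒮.deg V hV) g' := (Proj (𝒮.deg V hV)).basicOpen_le c hy
    exact ⟨(ProjectiveSpectrum.mem_basicOpen _ g y).mpr ((hunit y hyW).mp
      ((mem_basicOpen_iff_isUnit_funVal (𝒮.deg V hV) _ c y hyW).mp hy)), hyW⟩
  · rintro ⟨hyg, hyW⟩
    exact (mem_basicOpen_iff_isUnit_funVal (𝒮.deg V hV) _ c y hyW).mpr
      ((hunit y hyW).mpr ((ProjectiveSpectrum.mem_basicOpen _ g y).mp hyg))

end Sections

section Main

open Groth.Agent.Lib.Helper23.SecTw Groth.Agent.Lib.Helper6 Groth.Agent.Lib.Helper23.GenLocus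
  Groth.Agent.Lib.Helper23.RestrJ Groth.Agent.Lib.Helper23.AmpleIso Groth.Agent.Lib.Helper23.PB
  Groth.Agent.Lib.Helper2.RelTwistAmpleB Groth.Agent.Lib.Helper2.RelTwistAmple

/-- an invertible module restricted to a quasi-compact open which is covered by affine generating loci of global
sections is ample -/
theorem isAmple_restrict_of_sections {Z Z' : Scheme.{u}} (k : Z' ⟶ Z) [IsOpenImmersion k] [CompactSpace Z']
    (N : Z.Modules) (hN : PicF.IsInvertible N)
    (h : ∀ x : Z', ∃ σ : Coh.structureModule Z ⟶ N, k x ∈ CohB1.genLocus N σ ∧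
      IsAffineOpen (CohB1.genLocus N σ) ∧ CohB1.genLocus N σ ≤ k.opensRange) :
    CohB1.IsAmple (N.restrict k) := by
  have hN' := Groth.Agent.Lib.Helper23.RestrJ.isInvertible_restrict k N hN
  refine ⟨hN', inferInstance, fun x => ?_⟩
  obtain ⟨σ, hx, haff, hle⟩ := h x
  refine ⟨0, SecTwist.powHom (Groth.Agent.Lib.Helper23.RestrJ.restrSec k σ) 1, ?_, ?_⟩
  · rw [genLocus_powHom hN' _ 1 one_pos, Groth.Agent.Lib.Helper23.RestrJ.genLocus_restrSec]
    exact hx
  · rw [genLocus_powHom hN' _ 1 one_pos, Groth.Agent.Lib.Helper23.RestrJ.genLocus_restrSec]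
    exact haff.preimage_of_isOpenImmersion k hle

/-- **S5722**: a morphism into a projective bundle `P(E)` over `Y` which is a topological embedding pulls `O(1)` back
to a module ample relative to the (quasi-compact) structure morphism. -/
theorem isRelAmple_pullback_of_isEmbedding {X Y : Scheme.{u}} (f : X ⟶ Y) [QuasiCompact f]
    (E : Y.Modules) (hE : Coh.IsQCoh E) (𝒮 : RelProj.QCGrAlg Y) (j : E ⟶ 𝒮.toModule)
    (hj : RelProj.IsGrSymAlg E 𝒮 j) (P : Scheme.{u}) (p : P ⟶ Y)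
    (chart : ∀ (U : Y.Opens) (hU : IsAffineOpen U), ((p ⁻¹ᵁ U : P.Opens) : Scheme.{u}) ≅ Proj (𝒮.deg U hU))
    (hP : RelProj.IsRelProj 𝒮 p chart) (O1 : P.Modules)
    (lam : ∀ (U : Y.Opens) (hU : IsAffineOpen U),
      O1 ⟶ (Scheme.Modules.pushforward (RelProj.emb p chart U hU)).obj (GrTwist.twist (𝒮.deg U hU) 1))
    (hO1 : RelProj.IsRelTwist 𝒮 p chart 1 O1 lam)
    (g : X ⟶ P) (hg : g ≫ p = f) (hemb : Topology.IsEmbedding g.base) :
    RelAmple.IsRelAmple f ((Scheme.Modules.pullback g).obj O1) := by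
  classical
  subst hg
  haveI : E.IsQuasicoherent := hE
  have hgen := isGenDegOne_of_isGrSymAlg E 𝒮 j hj
  have hcov : ∀ (V : Y.Opens) (hV : IsAffineOpen V) (y : ProjectiveSpectrum (𝒮.deg V hV)),
      ∃ a ∈ 𝒮.deg V hV 1, a ∉ y.asHomogeneousIdeal :=
    fun V hV y => Groth.Agent.R2.Lead.RelProjQP.exists_deg_one_not_mem (𝒮.deg V hV) (hgen V hV) y
  have hO1' : RelProj.IsRelTwist 𝒮 p chart ((1 : ℕ) : ℤ) O1 lam := hO1
  have hinv : PicF.IsInvertible O1 := isInvertible_of_cover p chart 1 O1 lam hO1' hcov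
  refine ⟨inferInstance, fun V => ?_⟩
  obtain ⟨V, hV⟩ := V
  have hV' : IsAffineOpen V := hV
  let ε : Proj (𝒮.deg V hV') ⟶ P := RelProj.emb p chart V hV'
  let XV : X.Opens := (g ≫ p) ⁻¹ᵁ V
  haveI hXVc : CompactSpace (XV : Scheme.{u}) :=
    isCompact_iff_compactSpace.1
      (QuasiCompact.isCompact_preimage (f := g ≫ p) _ V.isOpen hV'.isCompact)
  let h₀ : (XV : Scheme.{u}) ⟶ Proj (𝒮.deg V hV') := (g ∣_ (p ⁻¹ᵁ V)) ≫ (chart V hV').hom
  have h₀ε : h₀ ≫ ε = XV.ι ≫ g := by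
    change ((g ∣_ (p ⁻¹ᵁ V)) ≫ (chart V hV').hom) ≫ (chart V hV').inv ≫ (p ⁻¹ᵁ V).ι = _
    rw [Category.assoc, Iso.hom_inv_id_assoc]
    exact morphismRestrict_ι g _
  -- a finite cover of the image of `X_V` by standard opens of degree one
  have hpt : ∀ x : (XV : Scheme.{u}), ∃ a : 𝒮.deg V hV' 1,
      x ∈ h₀ ⁻¹ᵁ Proj.basicOpen (𝒮.deg V hV') (a : 𝒮.presheaf.obj (op V)) := by
    intro x
    obtain ⟨a, ha, hax⟩ := hcov V hV' (h₀ x)
    exact ⟨⟨a, ha⟩, (ProjectiveSpectrum.mem_basicOpen _ a (h₀ x)).mpr hax⟩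
  obtain ⟨t, ht⟩ := isCompact_univ.elim_finite_subcover
    (fun a : 𝒮.deg V hV' 1 => ((h₀ ⁻¹ᵁ Proj.basicOpen (𝒮.deg V hV')
      (a : 𝒮.presheaf.obj (op V)) : (XV : Scheme.{u}).Opens) : Set (XV : Scheme.{u})))
    (fun a => (h₀ ⁻¹ᵁ Proj.basicOpen (𝒮.deg V hV') (a : 𝒮.presheaf.obj (op V))).2)
    (fun x _ => by
      obtain ⟨a, ha⟩ := hpt x
      exact Set.mem_iUnion.mpr ⟨a, ha⟩)
  let W' : (Proj (𝒮.deg V hV')).Opens :=
    ⨆ a : {a : 𝒮.deg V hV' 1 // a ∈ t}, Proj.basicOpen (𝒮.deg V hV') ((a.1 : 𝒮.deg V hV' 1) : 𝒮.presheaf.obj (op V))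
  have hmemW' : ∀ x : (XV : Scheme.{u}), h₀ x ∈ W' := by
    intro x
    have := ht (Set.mem_univ x)
    simp only [Set.mem_iUnion] at this
    obtain ⟨a, ha, hx⟩ := this
    exact Opens.mem_iSup.mpr ⟨⟨a, ha⟩, hx⟩
  haveI hW'c : CompactSpace (W' : Scheme.{u}) := by
    refine isCompact_iff_compactSpace.1 ?_
    have h1 : ((W' : (Proj (𝒮.deg V hV')).Opens) : Set (Proj (𝒮.deg V hV'))) =
        ⋃ a : {a : 𝒮.deg V hV' 1 // a ∈ t}, ((Proj.basicOpen (𝒮.deg V hV')
          ((a.1 : 𝒮.deg V hV' 1) : 𝒮.presheaf.obj (op V)) : (Proj (𝒮.deg V hV')).Opens) : Set _) := by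
      simp [W']
    rw [h1]
    exact isCompact_iUnion (fun a => (Proj.isAffineOpen_basicOpen (𝒮.deg V hV') _ a.1.2 one_pos).isCompact)
  have hrange : Set.range h₀ ⊆ Set.range W'.ι := by
    rintro _ ⟨x, rfl⟩
    rw [Scheme.Opens.range_ι]
    exact hmemW' x
  let h' : (XV : Scheme.{u}) ⟶ (W' : Scheme.{u}) := IsOpenImmersion.lift W'.ι h₀ hrange
  have h'fac : h' ≫ W'.ι = h₀ := IsOpenImmersion.lift_fac _ _ _
  let k : (W' : Scheme.{u}) ⟶ P := W'.ι ≫ ε
  have w : h' ≫ k = XV.ι ≫ g := by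
    change h' ≫ W'.ι ≫ ε = _
    rw [← Category.assoc, h'fac, h₀ε]
  refine isAmple_of_iso (pullbackRestrictIso' g O1 XV.ι k h' w).symm ?_
  have hembh' : Topology.IsEmbedding h' := by
    have h1 : Topology.IsEmbedding (XV.ι ≫ g) := by
      rw [Scheme.Hom.comp_base, TopCat.coe_comp]
      exact hemb.comp XV.ι.isOpenEmbedding.isEmbedding
    rw [← w, Scheme.Hom.comp_base, TopCat.coe_comp] at h1
    exact Topology.IsEmbedding.of_comp h'.continuous k.continuous h1
  refine isAmple_pullback_of_isEmbedding h' hembh' _ ?_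
  refine (isAmple_restrict_comp_iff O1 ε W'.ι).mp ?_
  refine isAmple_restrict_of_sections W'.ι (O1.restrict ε) (Groth.Agent.Lib.Helper23.RestrJ.isInvertible_restrict ε O1 hinv) (fun x => ?_)
  obtain ⟨a, hxa⟩ := Opens.mem_iSup.mp x.2
  obtain ⟨σ, hσ⟩ := exists_section_genLocus p chart 1 O1 lam hO1' hinv V hV' (hcov V hV')
    ((a.1 : 𝒮.deg V hV' 1) : 𝒮.presheaf.obj (op V)) a.1.2
  refine ⟨secHom _ σ, ?_, ?_, ?_⟩
  · rw [hσ]; exact hxa
  · rw [hσ]; exact Proj.isAffineOpen_basicOpen (𝒮.deg V hV') _ a.1.2 one_pos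
  · rw [hσ, Scheme.Opens.opensRange_ι]
    exact le_iSup (fun a : {a : 𝒮.deg V hV' 1 // a ∈ t} => Proj.basicOpen (𝒮.deg V hV')
      ((a.1 : 𝒮.deg V hV' 1) : 𝒮.presheaf.obj (op V))) a

end Main

end Groth.Agent.R2.H91.PEAmple
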