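import Mathlib
import Groth.Prelude.Def_RelProj
import Groth.Prelude.Def_RelProj2
import Groth.Agent.R2.H61GrSym
import Groth.Agent.Lib.Helper13SymAlgLocal
import Groth.Agent.Lib.Helper13AwayBC
import Groth.Agent.Lib.Helper13RelProjE
import Groth.Agent.Lib.Helper2RelTwistPullback
import Groth.Agent.Lib.Helper18QCAlg1
import Groth.Agent.R2.H91PEAmple
import Groth.Agent.R2.H61RelProjCons3
import Groth.Agent.S8292

/-!
# helper61: graded symmetric algebras are graded by symmetric powers; induced maps are graded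
-/

set_option autoImplicit false
universe u

open CategoryTheory CategoryTheory.Limits AlgebraicGeometry Opposite TopologicalSpace
open scoped HomogeneousIdeal

namespace Groth.Agent.R2.H61.VAmp

open Groth.Agent.R2.H61.GrSym Groth.Agent.Helper13SymAlg Groth.Agent.Helper13SymLoc

noncomputable section

section Graded

variable {S : Scheme.{u}} (E : S.Modules) [E.IsQuasicoherent] (ℬ : RelProj.QCGrAlg S)
  (φ : E ⟶ ℬ.toModule) (U : S.Opens) (hU : IsAffineOpen U)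

/-- the lift `Sym(E(U)) → ℬ(U)` of a module map landing in degree one maps `Sym^d` into `ℬ(U)_d`. -/
theorem σ_mem_deg (hφ1 : ∀ x : Γ(E, U), (φ.app U) x ∈ ℬ.deg U hU 1) {d : ℕ}
    {y : SymmetricAlgebra Γ(S, U) Γ(E, U)} (hy : y ∈ symPow Γ(S, U) Γ(E, U) d) :
    σ E ℬ.toQCAlg φ U y ∈ ℬ.deg U hU d := by
  unfold symPow at hy
  induction hy using Submodule.pow_induction_on_left' with
  | algebraMap r =>
    unfold σ
    rw [symLift_algebraMap]
    exact ℬ.str_mem U hU r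
  | add x y i hx hy ihx ihy =>
    rw [map_add]
    exact AddSubgroup.add_mem _ ihx ihy
  | mem_mul m hm i x hx ih =>
    obtain ⟨m, rfl⟩ := hm
    rw [map_mul]
    have h1 : σ E ℬ.toQCAlg φ U (SymmetricAlgebra.ι Γ(S, U) Γ(E, U) m) ∈ ℬ.deg U hU 1 := by
      unfold σ
      rw [symLift_ι]
      exact hφ1 m
    have h2 := SetLike.mul_mem_graded (A := ℬ.deg U hU) h1 ih
    rw [add_comm] at h2
    exact h2

/-- `σ` as a homomorphism of graded rings -/
def σGr (hφ1 : ∀ x : Γ(E, U), (φ.app U) x ∈ ℬ.deg U hU 1) :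
    symPow Γ(S, U) Γ(E, U) →+*ᵍ ℬ.deg U hU :=
  { σ E ℬ.toQCAlg φ U with map_mem := fun hx => σ_mem_deg E ℬ φ U hU hφ1 hx }

theorem σGr_apply (hφ1 : ∀ x : Γ(E, U), (φ.app U) x ∈ ℬ.deg U hU 1)
    (y : SymmetricAlgebra Γ(S, U) Γ(E, U)) :
    σGr E ℬ φ U hU hφ1 y = σ E ℬ.toQCAlg φ U y := rfl

variable {E ℬ φ U hU}

/-- for a graded symmetric algebra, `σ` identifies the gradings. -/
theorem mem_symPow_of_σ_mem {𝒯 : RelProj.QCGrAlg S} {j : E ⟶ 𝒯.toModule}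
    (hj : RelProj.IsGrSymAlg E 𝒯 j) {d : ℕ} {y : SymmetricAlgebra Γ(S, U) Γ(E, U)}
    (hy : σ E 𝒯.toQCAlg j U y ∈ 𝒯.deg U hU d) : y ∈ symPow Γ(S, U) Γ(E, U) d := by
  classical
  have hinj := (bijective_σ E U hU hj.1).1
  have hpr : ∀ e : ℕ, σ E 𝒯.toQCAlg j U (GradedRing.proj (symPow Γ(S, U) Γ(E, U)) e y) =
      GradedRing.proj (𝒯.deg U hU) e (σ E 𝒯.toQCAlg j U y) := fun e =>
    Groth.Agent.Helper13AwayBC.map_proj (σGr E 𝒯 j U hU (hj.2 U hU)) e y
  have hzero : ∀ e : ℕ, e ≠ d → GradedRing.proj (symPow Γ(S, U) Γ(E, U)) e y = 0 := by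
    intro e he
    apply hinj
    rw [hpr e, map_zero, GradedRing.proj_apply, DirectSum.decompose_of_mem_ne (𝒯.deg U hU) hy he.symm]
  have hsum := DirectSum.sum_support_decompose (symPow Γ(S, U) Γ(E, U)) y
  have hd : y = GradedRing.proj (symPow Γ(S, U) Γ(E, U)) d y := by
    conv_lhs => rw [← hsum]
    rw [GradedRing.proj_apply]
    refine Finset.sum_eq_single d (fun e _ he => ?_) (fun hnot => ?_)
    · have := hzero e he
      rwa [GradedRing.proj_apply] at this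
    · rw [DFinsupp.notMem_support_iff] at hnot
      rw [hnot]
      rfl
  rw [hd, GradedRing.proj_apply]
  exact SetLike.coe_mem _

/-- the algebra map out of a graded symmetric algebra induced by a module map landing in degree one is
a homomorphism of graded algebras. -/
theorem isGradedHom_of_isGrSymAlg {𝒯 : RelProj.QCGrAlg S} {j : E ⟶ 𝒯.toModule}
    (hj : RelProj.IsGrSymAlg E 𝒯 j) (ℬ : RelProj.QCGrAlg S) (u : E ⟶ ℬ.toModule)
    (hu1 : ∀ (U : S.Opens) (hU : IsAffineOpen U) (x : Γ(E, U)), (u.app U) x ∈ ℬ.deg U hU 1)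
    (ψ : 𝒯.toQCAlg ⟶ ℬ.toQCAlg) (hψ : j ≫ RelSpec.QCAlg.Hom.toModuleMap ψ = u) :
    RelProj.IsGradedHom ψ := by
  intro U hU d x hx
  obtain ⟨y, rfl⟩ := (bijective_σ E U hU hj.1).2 x
  have hy := mem_symPow_of_σ_mem (hU := hU) hj hx
  have h1 := σ_comp E j ψ U
  rw [hψ] at h1
  have h2 : (ψ.hom.app (op U)).hom (σ E 𝒯.toQCAlg j U y) = σ E ℬ.toQCAlg u U y := by
    rw [h1]
    rfl
  rw [h2]
  exact σ_mem_deg E ℬ u U hU (hu1 U hU) hy

end Graded

section Proj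

open Groth.Agent.Helper13ModAffine Scheme.AffineZariskiSite

variable {S : Scheme.{u}} (𝒮 : RelProj.QCGrAlg S)

/-- the degree-`d` projection over an affine open -/
def projAdd (d : ℕ) (U : S.Opens) (hU : IsAffineOpen U) :
    𝒮.presheaf.obj (op U) →+ 𝒮.presheaf.obj (op U) :=
  GradedRing.proj (𝒮.deg U hU) d

/-- the degree-`d` projection over an affine open, as a map of sections of the module `𝒮` -/
def projAff (d : ℕ) (U : S.Opens) (hU : IsAffineOpen U) :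
    Γ(𝒮.toModule, U) ⟶ Γ(𝒮.toModule, U) :=
  AddCommGrpCat.ofHom (projAdd 𝒮 d U hU)

theorem projAff_apply (d : ℕ) (U : S.Opens) (hU : IsAffineOpen U) (x : 𝒮.presheaf.obj (op U)) :
    (projAff 𝒮 d U hU x : 𝒮.presheaf.obj (op U)) = GradedRing.proj (𝒮.deg U hU) d x := rfl

theorem projAff_nat (d : ℕ) {U V : S.AffineZariskiSite} (i : V ⟶ U) :
    𝒮.toModule.presheaf.map (homOfLE (toOpens_mono i.le)).op ≫ projAff 𝒮 d V.1 V.2 =
      projAff 𝒮 d U.1 U.2 ≫ 𝒮.toModule.presheaf.map (homOfLE (toOpens_mono i.le)).op := by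
  ext x
  change GradedRing.proj (𝒮.deg V.1 V.2) d (𝒮.res U.2 V.2 (toOpens_mono i.le) x) =
    𝒮.res U.2 V.2 (toOpens_mono i.le) (GradedRing.proj (𝒮.deg U.1 U.2) d x)
  exact (Groth.Agent.Helper13AwayBC.map_proj (𝒮.res U.2 V.2 (toOpens_mono i.le)) d x).symm

theorem projAff_lin (d : ℕ) (U : S.Opens) (hU : IsAffineOpen U) (a : Γ(S, U))
    (m : Γ(𝒮.toModule, U)) : projAff 𝒮 d U hU (a • m) = a • projAff 𝒮 d U hU m := by
  let m' : 𝒮.presheaf.obj (op U) := m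
  change GradedRing.proj (𝒮.deg U hU) d ((𝒮.str.app (op U)).hom a * m') =
    (𝒮.str.app (op U)).hom a * GradedRing.proj (𝒮.deg U hU) d m'
  rw [GradedRing.proj_apply, GradedRing.proj_apply]
  have h := DirectSum.coe_decompose_mul_add_of_left_mem (𝒮.deg U hU) (i := 0) (j := d)
    (a := (𝒮.str.app (op U)).hom a) (b := m') (𝒮.str_mem U hU a)
  rw [zero_add] at h
  exact h

/-- the degree-`d` projection, as an endomorphism of the module `𝒮` -/
def projDeg (d : ℕ) : 𝒮.toModule ⟶ 𝒮.toModule :=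
  homOfAffine (fun U hU => projAff 𝒮 d U hU) (fun i => projAff_nat 𝒮 d i)
    (fun U hU a m => projAff_lin 𝒮 d U hU a m)

theorem projDeg_app (d : ℕ) (U : S.Opens) (hU : IsAffineOpen U) :
    (projDeg 𝒮 d).app U = projAff 𝒮 d U hU := homOfAffine_app _ _ _ U hU

theorem projDeg_mem (d : ℕ) (U : S.Opens) (hU : IsAffineOpen U) (x : Γ(𝒮.toModule, U)) :
    ((projDeg 𝒮 d).app U) x ∈ 𝒮.deg U hU d := by
  rw [projDeg_app 𝒮 d U hU]
  let x' : 𝒮.presheaf.obj (op U) := x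
  change GradedRing.proj (𝒮.deg U hU) d x' ∈ 𝒮.deg U hU d
  rw [GradedRing.proj_apply]
  exact SetLike.coe_mem _

theorem projDeg_of_mem (d : ℕ) (U : S.Opens) (hU : IsAffineOpen U) (s : 𝒮.presheaf.obj (op U))
    (hs : s ∈ 𝒮.deg U hU d) : ∃ x : Γ(𝒮.toModule, U), ((projDeg 𝒮 d).app U) x = s := by
  refine ⟨s, ?_⟩
  rw [projDeg_app 𝒮 d U hU]
  change GradedRing.proj (𝒮.deg U hU) d s = s
  rw [GradedRing.proj_apply, DirectSum.decompose_of_mem_same _ hs]

end Proj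


section Irr

variable {S : Scheme.{u}} {E : S.Modules} {𝒮 𝒯 : RelProj.QCGrAlg S}

/-- the `Proj.map` hypothesis for the map `Sym(E) → 𝒮` induced by `u : E → 𝒮_1` surjective, `𝒮` generated
in degree one. -/
theorem hirr_of_gen (h𝒮 : 𝒮.IsGenDegOne) {j : E ⟶ 𝒯.toModule}
    (hj1 : ∀ (U : S.Opens) (hU : IsAffineOpen U) (x : Γ(E, U)), (j.app U) x ∈ 𝒯.deg U hU 1)
    (u : E ⟶ 𝒮.toModule)
    (husurj : ∀ (U : S.Opens) (hU : IsAffineOpen U) (s : 𝒮.presheaf.obj (op U)), s ∈ 𝒮.deg U hU 1 →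
      ∃ x : Γ(E, U), (u.app U) x = s)
    (ψ : 𝒯.toQCAlg ⟶ 𝒮.toQCAlg) (hψg : RelProj.IsGradedHom ψ)
    (hψ : j ≫ RelSpec.QCAlg.Hom.toModuleMap ψ = u) (U : S.Opens) (hU : IsAffineOpen U) :
    (𝒮.deg U hU)₊ ≤ ((𝒯.deg U hU)₊).map (RelProj.gradedHomAt ψ hψg U hU) := by
  classical
  rw [HomogeneousIdeal.irrelevant_le]
  intro i hi b hb
  change b ∈ Ideal.map (RelProj.gradedHomAt ψ hψg U hU) ((𝒯.deg U hU)₊.toIdeal)
  have hb' : b ∈ 𝒮.deg U hU i := hb
  have h1 := Groth.Agent.R2.H61.RelProjCons3.decompose_mem_span_degOne (𝒮.deg U hU) (h𝒮 U hU) b i hi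
  rw [DirectSum.decompose_of_mem_same _ hb'] at h1
  refine (Ideal.span_le.2 ?_) h1
  intro g hg
  obtain ⟨x, hx⟩ := husurj U hU g hg
  have h2 : (RelProj.gradedHomAt ψ hψg U hU) ((j.app U) x) = g := by
    rw [← hx, ← hψ]
    rfl
  rw [← h2]
  exact Ideal.mem_map_of_mem _ (HomogeneousIdeal.mem_irrelevant_of_mem _ one_pos (hj1 U hU x))

end Irr

section Main

open Groth.Agent.Helper13ProjBC

/-- **Criterion** (EGA II 4.4.?): an immersion into the relative `Proj` of a quasi-coherent graded algebra generated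
in degree one, pulling `O(1)` back to `L`, makes `L` relatively very ample (projective-bundle form). -/
theorem isRelVeryAmple_of_immersion_relProj {X Y P : Scheme.{u}} (q : X ⟶ Y) (L : X.Modules)
    (𝒮 : RelProj.QCGrAlg Y) (h𝒮 : 𝒮.IsGenDegOne) (p : P ⟶ Y)
    (chart : ∀ (U : Y.Opens) (hU : IsAffineOpen U),
      ((p ⁻¹ᵁ U : P.Opens) : Scheme.{u}) ≅ Proj (𝒮.deg U hU))
    (hP : RelProj.IsRelProj 𝒮 p chart) (O1 : P.Modules)
    (lam : ∀ (U : Y.Opens) (hU : IsAffineOpen U),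
      O1 ⟶ (Scheme.Modules.pushforward (RelProj.emb p chart U hU)).obj (GrTwist.twist (𝒮.deg U hU) 1))
    (hO1 : RelProj.IsRelTwist 𝒮 p chart 1 O1 lam) (i : X ⟶ P) [IsImmersion i] (hi : i ≫ p = q)
    (e : L ≅ (Scheme.Modules.pullback i).obj O1) : RelProj.IsRelVeryAmple q L := by
  -- the module `E = 𝒮` and the projection `u : E → 𝒮_1`
  let E : Y.Modules := 𝒮.toModule
  haveI hEq : E.IsQuasicoherent := Groth.Agent.Helper18QCAlg.isQuasicoherent_toModule 𝒮.toQCAlg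
  have hE : Coh.IsQCoh E := hEq
  let u : E ⟶ 𝒮.toModule := projDeg 𝒮 1
  have hu1 : ∀ (U : Y.Opens) (hU : IsAffineOpen U) (x : Γ(E, U)), (u.app U) x ∈ 𝒮.deg U hU 1 :=
    fun U hU x => projDeg_mem 𝒮 1 U hU x
  have husurj : ∀ (U : Y.Opens) (hU : IsAffineOpen U) (s : 𝒮.presheaf.obj (op U)),
      s ∈ 𝒮.deg U hU 1 → ∃ x : Γ(E, U), (u.app U) x = s :=
    fun U hU s hs => projDeg_of_mem 𝒮 1 U hU s hs
  -- the graded symmetric algebra and the induced map
  let 𝒯 : RelProj.QCGrAlg Y := grSymAlg E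
  let j : E ⟶ 𝒯.toModule := grJ E
  have hT : RelProj.IsGrSymAlg E 𝒯 j := isGrSymAlg E
  obtain ⟨ubar, hju, -⟩ := hT.1 𝒮.toQCAlg u
  have hubar : RelProj.IsGradedHom ubar := isGradedHom_of_isGrSymAlg hT 𝒮 u hu1 ubar hju
  have hirr := hirr_of_gen h𝒮 hT.2 u husurj ubar hubar hju
  -- the projective bundle
  have hPT := isRelProj_relProj 𝒯
  obtain ⟨h, hh⟩ := Groth.Agent.Helper13RelProj.exists_relProjMap ubar hubar hirr hPT hP
  have hcl : IsClosedImmersion h :=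
    Groth.Agent.S8292.result 𝒮 𝒯 h𝒮 E hE u hu1 husurj j hT ubar hubar hju hirr (relProjπ 𝒯) p
      (relProjChart 𝒯) chart hPT hP h hh
  have hcomp : h ≫ relProjπ 𝒯 = p :=
    Groth.Agent.Helper13RelProj.relProjMap_comp ubar hubar hirr hPT hP hh
  obtain ⟨O1T, lamT, hO1T⟩ := Groth.Agent.Lib.Helper2.RelTwistExist.exists_isRelTwist
    (relProjπ 𝒯) (relProjChart 𝒯) hPT 1
  have hgenT : 𝒯.IsGenDegOne := Groth.Agent.R2.H91.PEAmple.isGenDegOne_of_isGrSymAlg E 𝒯 j hT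
  obtain ⟨e2⟩ := Groth.Agent.Lib.Helper2.RelTwistPullback.nonempty_pullback_iso ubar hubar hirr
    (relProjπ 𝒯) p (relProjChart 𝒯) chart h 1 O1T lamT hO1T O1 lam hO1 hPT hP hh hgenT
  refine ⟨E, hE, 𝒯, j, hT, relProj 𝒯, relProjπ 𝒯, relProjChart 𝒯, hPT, O1T, lamT, hO1T, i ≫ h,
    inferInstance, by rw [Category.assoc, hcomp, hi], ⟨?_⟩⟩
  exact e ≪≫ (Scheme.Modules.pullback i).mapIso e2.symm ≪≫
    ((Scheme.Modules.pullbackComp i h).app O1T)

end Main

end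

end Groth.Agent.R2.H61.VAmp
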