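import Mathlib
import Groth.Agent.R2.H62SnapComp

/-!
# Additive dévissage over the generic points of the top-dimensional components (helper62)

For a Noetherian scheme `X` and a function `lam` on `O_X`-modules with values in an abelian group which is invariant under
isomorphisms, additive on short exact sequences of coherent modules and vanishes on coherent modules whose support has
dimension `< d`: for every coherent `M` with `dim Supp M ≤ d`,
`lam M = ∑_ξ length(M_ξ) • lam (O_X / I(closure ξ))`, the sum over the points `ξ` whose closure has dimension `d`.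
-/

set_option autoImplicit false
universe u
open CategoryTheory CategoryTheory.Limits AlgebraicGeometry TopologicalSpace Opposite

namespace Groth.Agent.R2.H62.Snapper

open Groth.Agent.R2.H12.Dev Groth.Agent.Lib.Helper23.Extend

variable {X : Scheme.{u}} {A : Type*} [AddCommGroup A]

/-- additive functions on coherent modules -/
structure IsAdditive (lam : X.Modules → A) : Prop where
  iso : ∀ {M N : X.Modules}, (M ≅ N) → lam M = lam N
  zero : ∀ {M : X.Modules}, IsZero M → lam M = 0
  add : ∀ (S : ShortComplex X.Modules), S.ShortExact → Coh.IsCoh S.X₁ → Coh.IsCoh S.X₂ → Coh.IsCoh S.X₃ →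
    lam S.X₂ = lam S.X₁ + lam S.X₃

open Classical in
/-- the contribution of the point `ξ` -/
noncomputable def addTerm (lam : X.Modules → A) (d : ℕ) (M : X.Modules) (ξ : X) : A :=
  if IsDPt d ξ then (len M ξ).toNat • lam (Zmod ξ) else 0

/-- the statement of the dévissage -/
def AGood (lam : X.Modules → A) (d : ℕ) (M : X.Modules) : Prop :=
  (∀ ξ, IsDPt d ξ → len M ξ ≠ ⊤) ∧ (topPts d M).Finite ∧ lam M = ∑ᶠ ξ : X, addTerm lam d M ξ

theorem support_addTerm_subset (lam : X.Modules → A) (d : ℕ) (M : X.Modules) :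
    Function.support (addTerm lam d M) ⊆ topPts d M := by
  intro ξ hξ
  rw [Function.mem_support] at hξ
  unfold addTerm at hξ
  by_cases h : IsDPt d ξ
  · refine ⟨h, fun h0 => hξ ?_⟩
    rw [if_pos h, h0]
    simp
  · exact absurd (if_neg h) hξ

theorem addTerm_congr (lam : X.Modules → A) (d : ℕ) {M N : X.Modules}
    (h : ∀ ξ, IsDPt d ξ → len M ξ = len N ξ) (ξ : X) : addTerm lam d M ξ = addTerm lam d N ξ := by
  unfold addTerm
  by_cases hξ : IsDPt d ξ
  · rw [if_pos hξ, if_pos hξ, h ξ hξ]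
  · rw [if_neg hξ, if_neg hξ]

theorem finsum_addTerm_eq_zero (lam : X.Modules → A) (d : ℕ) {M : X.Modules}
    (h : ∀ ξ, IsDPt d ξ → len M ξ = 0) : ∑ᶠ ξ : X, addTerm lam d M ξ = 0 := by
  have : ∀ ξ, addTerm lam d M ξ = 0 := by
    intro ξ
    unfold addTerm
    by_cases hξ : IsDPt d ξ
    · rw [if_pos hξ, h ξ hξ]; simp
    · rw [if_neg hξ]
  simp only [this, finsum_zero]

theorem agood_of_len_zero (lam : X.Modules → A) (d : ℕ) {M : X.Modules}
    (h0 : ∀ ξ, IsDPt d ξ → len M ξ = 0) (hl : lam M = 0) : AGood lam d M := by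
  refine ⟨fun ξ hξ => by rw [h0 ξ hξ]; simp, ?_, ?_⟩
  · have : topPts d M = ∅ := by
      ext ξ
      simp only [topPts, Set.mem_setOf_eq, Set.mem_empty_iff_false, iff_false, not_and, not_not]
      exact h0 ξ
    rw [this]
    exact Set.finite_empty
  · rw [finsum_addTerm_eq_zero lam d h0, hl]

theorem agood_iso (lam : X.Modules → A) (hlam : IsAdditive lam) (d : ℕ) {M N : X.Modules} (e : M ≅ N)
    (h : AGood lam d M) : AGood lam d N := by
  obtain ⟨h1, h2, h3⟩ := h
  have hl : ∀ ξ, len M ξ = len N ξ := fun ξ => len_iso e ξ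
  refine ⟨fun ξ hξ => by rw [← hl]; exact h1 ξ hξ, ?_, ?_⟩
  · have : topPts d N = topPts d M := by
      ext ξ
      simp only [topPts, Set.mem_setOf_eq, hl]
    rw [this]; exact h2
  · rw [← hlam.iso e, h3]
    exact finsum_congr fun ξ => addTerm_congr lam d (fun ξ _ => hl ξ) ξ

theorem agood_ses (lam : X.Modules → A) (hlam : IsAdditive lam) (d : ℕ)
    (S : ShortComplex X.Modules) (hS : S.ShortExact)
    (hc1 : Coh.IsCoh S.X₁) (hc2 : Coh.IsCoh S.X₂) (hc3 : Coh.IsCoh S.X₃)
    (hg1 : AGood lam d S.X₁) (hg3 : AGood lam d S.X₃) : AGood lam d S.X₂ := by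
  obtain ⟨a1, a2, a3⟩ := hg1
  obtain ⟨b1, b2, b3⟩ := hg3
  have hl : ∀ ξ, len S.X₂ ξ = len S.X₁ ξ + len S.X₃ ξ := fun ξ => len_add S hS ξ
  refine ⟨fun ξ hξ => ?_, ?_, ?_⟩
  · rw [hl]
    exact WithTop.add_ne_top.2 ⟨a1 ξ hξ, b1 ξ hξ⟩
  · refine (a2.union b2).subset ?_
    rintro ξ ⟨hξ, hne⟩
    by_cases h1 : len S.X₁ ξ = 0
    · right
      refine ⟨hξ, fun h3 => hne ?_⟩
      rw [hl, h1, h3, add_zero]
    · left
      exact ⟨hξ, h1⟩
  · have hterm : ∀ ξ, addTerm lam d S.X₂ ξ = addTerm lam d S.X₁ ξ + addTerm lam d S.X₃ ξ := by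
      intro ξ
      unfold addTerm
      by_cases hξ : IsDPt d ξ
      · rw [if_pos hξ, if_pos hξ, if_pos hξ, hl, ENat.toNat_add (a1 ξ hξ) (b1 ξ hξ), add_smul]
      · rw [if_neg hξ, if_neg hξ, if_neg hξ, add_zero]
    rw [hlam.add S hS hc1 hc2 hc3, a3, b3,
      ← finsum_add_distrib (a2.subset (support_addTerm_subset lam d S.X₁))
        (b2.subset (support_addTerm_subset lam d S.X₃))]
    exact finsum_congr fun ξ => (hterm ξ).symm

variable [IsNoetherian X]

theorem agood_push_ideal (lam : X.Modules → A) (hlam : IsAdditive lam) (d : ℕ)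
    (hvan : ∀ M : X.Modules, Coh.IsCoh M → SmallSupp M d → lam M = 0)
    {Z : Scheme.{u}} (i : Z ⟶ X) [IsClosedImmersion i] [IsIntegral Z] (I : Z.Modules)
    (ι : I ⟶ Coh.structureModule Z) [Mono ι] (hIq : Coh.IsQCoh I) (hI0 : ¬ IsZero I)
    (hs : SmallSupp ((Scheme.Modules.pushforward i).obj I) (d + 1)) :
    AGood lam d ((Scheme.Modules.pushforward i).obj I) := by
  obtain ⟨W, hvI, hdimW⟩ := hs
  have hiW : i ⁻¹ᵁ W = ⊥ := preimage_eq_bot_of_vanOn i ι hI0 hvI
  have hsub : Set.range i ⊆ (W : Set X)ᶜ := by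
    rintro _ ⟨z, rfl⟩ hz
    have hz' : z ∈ i ⁻¹ᵁ W := hz
    rw [hiW] at hz'
    exact hz'
  have hdim : topologicalKrullDim ↥(Set.range i) < ((d + 1 : ℕ) : WithBot ℕ∞) :=
    lt_of_le_of_lt (topologicalKrullDim_mono hsub) hdimW
  have hZN : IsNoetherian Z := isNoetherian_of_isClosedImmersion i
  have hOZ : Coh.IsCoh (Coh.structureModule Z) := isCoh_structureModule' Z
  have hIc : Coh.IsCoh I := Groth.Agent.S0046.result Z _ I ι hOZ hIq
  have hcI : Coh.IsCoh ((Scheme.Modules.pushforward i).obj I) := Groth.Agent.S0019.result i _ hIc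
  have hcO : Coh.IsCoh ((Scheme.Modules.pushforward i).obj (Coh.structureModule Z)) :=
    Groth.Agent.S0019.result i _ hOZ
  set ξ₀ : X := i (genericPoint Z) with hξ₀
  have key : ∀ ξ, IsDPt d ξ → ξ ≠ ξ₀ → len ((Scheme.Modules.pushforward i).obj I) ξ = 0 := by
    intro ξ hξ hne
    by_cases hr : ξ ∈ Set.range i
    · exact absurd (eq_generic_of_dim i d hdim ξ hξ hr) hne
    · exact len_push_eq_zero i I ξ hr
  by_cases h0 : IsDPt d ξ₀
  · have hlen : len ((Scheme.Modules.pushforward i).obj I) ξ₀ = 1 := len_push_ideal_generic i I ι hI0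
    refine ⟨fun ξ hξ => ?_, ?_, ?_⟩
    · by_cases hne : ξ = ξ₀
      · rw [hne, hlen]; simp
      · rw [key ξ hξ hne]; simp
    · refine (Set.finite_singleton ξ₀).subset ?_
      rintro ξ ⟨hξ, hne⟩
      by_contra hne'
      exact hne (key ξ hξ hne')
    · obtain ⟨D', hD', hι⟩ := exists_isoOn_of_ideal ι hI0
      have hsQ := smallSupp_cokernel_push i d hdim ι D' hD' hι
      have hcQ := isCoh_cokernel hcI hcO ((Scheme.Modules.pushforward i).map ι)
      have hQ0 := hvan _ hcQ hsQ
      have hadd := hlam.add _ (shortExact_cokernel ((Scheme.Modules.pushforward i).map ι)) hcI hcO hcQ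
      change lam ((Scheme.Modules.pushforward i).obj (Coh.structureModule Z)) =
        lam ((Scheme.Modules.pushforward i).obj I) +
          lam (cokernel ((Scheme.Modules.pushforward i).map ι)) at hadd
      rw [hQ0, add_zero] at hadd
      obtain ⟨e⟩ := nonempty_push_structure_iso_quotMod i
      rw [finsum_eq_single _ ξ₀ (fun ξ hne => ?_)]
      · unfold addTerm
        rw [if_pos h0, hlen, ENat.toNat_one, one_smul, ← hadd]
        exact hlam.iso e
      · unfold addTerm
        by_cases hξ : IsDPt d ξ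
        · rw [if_pos hξ, key ξ hξ hne]; simp
        · rw [if_neg hξ]
  · have hdim' : topologicalKrullDim ↥(Set.range i) < (d : WithBot ℕ∞) := by
      refine lt_of_le_of_ne (withBot_le_of_lt_succ hdim) fun heq => h0 ?_
      unfold IsDPt
      rw [hξ₀, closure_singleton_generic i]
      exact heq
    have hss := smallSupp_push i I d hdim'
    exact agood_of_len_zero lam d (fun ξ hξ => len_eq_zero_of_smallSupp hss ξ hξ) (hvan _ hcI hss)

/-- **additive dévissage** -/
theorem additive_devissage (lam : X.Modules → A) (hlam : IsAdditive lam) (d : ℕ)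
    (hvan : ∀ M : X.Modules, Coh.IsCoh M → SmallSupp M d → lam M = 0)
    (M : X.Modules) (hM : Coh.IsCoh M) (hs : SmallSupp M (d + 1)) : AGood lam d M := by
  refine devissage_ideal (fun M => SmallSupp M (d + 1) → AGood lam d M) ?_ ?_ ?_ ?_ M hM hs
  · rintro M N ⟨e⟩ hP hs
    exact agood_iso lam hlam d e (hP (hs.of_iso e.symm))
  · intro M hM0 _
    exact agood_of_len_zero lam d
      (fun ξ _ => len_eq_zero_of_subsingleton M ξ (subsingleton_stalk_of_isZero hM0 ξ)) (hlam.zero hM0)
  · intro S hS h1 h2 h3 hP1 hP3 hs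
    have := hS.mono_f
    have := hS.epi_g
    exact agood_ses lam hlam d S hS h1 h2 h3 (hP1 (hs.of_mono S.f)) (hP3 (hs.of_epi S.g))
  · intro Z i _ _ I ι _ hIq hI0 hs
    exact agood_push_ideal lam hlam d hvan i I ι hIq hI0 hs

/-- the sum as a finite sum -/
theorem finsum_addTerm_eq_sum (lam : X.Modules → A) (d : ℕ) (M : X.Modules) (T : Finset X)
    (hT : topPts d M ⊆ ↑T) : ∑ᶠ ξ : X, addTerm lam d M ξ = ∑ ξ ∈ T, addTerm lam d M ξ :=
  finsum_eq_sum_of_support_subset _ ((support_addTerm_subset lam d M).trans hT)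

end Groth.Agent.R2.H62.Snapper
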