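import Mathlib

/-!
# Change of binomial basis (helper62)

Comparison of the expansions `Σ_j c_j C(m + j, j)` and `Σ_i b_i C(m + i - 1, i)` of an integer valued function of `m`.
-/

set_option autoImplicit false

namespace Groth.Agent.R2.H62.Binom

open Finset

/-- hockey stick: `Σ_{i ≤ j} C(m + i - 1, i) = C(m + j, j)` -/
theorem sum_choose_pred (m : ℕ) : ∀ j : ℕ,
    ∑ i ∈ range (j + 1), ((m + i - 1).choose i : ℤ) = ((m + j).choose j : ℤ)
  | 0 => by simp
  | j + 1 => by
    rw [sum_range_succ, sum_choose_pred m j]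
    have h1 : m + (j + 1) - 1 = m + j := by omega
    rw [h1]
    have h2 : (m + (j + 1)).choose (j + 1) = (m + j).choose j + (m + j).choose (j + 1) := by
      rw [show m + (j + 1) = (m + j) + 1 by ring, Nat.choose_succ_succ]
    rw [h2]
    push_cast
    ring

/-- the functions `m ↦ C(m + i - 1, i)` are linearly independent on every final segment of `ℕ` -/
theorem indep : ∀ (r : ℕ) (d : ℕ → ℤ) (m₀ : ℕ),
    (∀ m, m₀ ≤ m → ∑ i ∈ range (r + 1), ((m + i - 1).choose i : ℤ) * d i = 0) →
      ∀ i, i ≤ r → d i = 0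
  | 0, d, m₀, h => by
    intro i hi
    have h0 := h m₀ le_rfl
    have : i = 0 := by omega
    subst this
    simpa using h0
  | r + 1, d, m₀, h => by
    have hstep : ∀ m, m₀ + 1 ≤ m →
        ∑ i ∈ range (r + 1), ((m + i - 1).choose i : ℤ) * d (i + 1) = 0 := by
      intro m hm
      obtain ⟨m', rfl⟩ : ∃ m', m = m' + 1 := ⟨m - 1, by omega⟩
      have h1 := h (m' + 1) (by omega)
      have h2 := h m' (by omega)
      rw [sum_range_succ'] at h1 h2
      have h3 : ∑ i ∈ range (r + 1), ((m' + 1 + (i + 1) - 1).choose (i + 1) : ℤ) * d (i + 1) -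
          ∑ i ∈ range (r + 1), ((m' + (i + 1) - 1).choose (i + 1) : ℤ) * d (i + 1) = 0 := by
        simp only [add_zero, Nat.choose_zero_right, Nat.cast_one, one_mul] at h1 h2
        linarith
      rw [← sum_sub_distrib] at h3
      rw [← h3]
      refine sum_congr rfl fun i _ => ?_
      have e1 : m' + 1 + (i + 1) - 1 = (m' + i) + 1 := by omega
      have e2 : m' + (i + 1) - 1 = m' + i := by omega
      have e3 : m' + 1 + i - 1 = m' + i := by omega
      rw [e1, e2, e3, Nat.choose_succ_succ]
      push_cast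
      ring
    have hd := indep r (fun i => d (i + 1)) (m₀ + 1) hstep
    have h0 := h m₀ le_rfl
    rw [sum_range_succ'] at h0
    have hz : ∑ i ∈ range (r + 1), ((m₀ + (i + 1) - 1).choose (i + 1) : ℤ) * d (i + 1) = 0 := by
      refine sum_eq_zero fun i hi => ?_
      rw [hd i (by simpa using Nat.lt_succ_iff.mp (mem_range.mp hi))]
      ring
    rw [hz] at h0
    intro i hi
    rcases i with _ | i
    · simpa using h0
    · exact hd i (by omega)

/-- comparison of the two binomial expansions -/
theorem coeff_compare (r : ℕ) (c b : ℕ → ℤ)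
    (h : ∀ m : ℕ, ∑ j ∈ range (r + 1), c j * ((m + j).choose j : ℤ) =
      ∑ i ∈ range (r + 1), ((m + i - 1).choose i : ℤ) * b i) :
    ∀ i, i ≤ r → b i = ∑ j ∈ Icc i r, c j := by
  have key : ∀ m : ℕ, ∑ i ∈ range (r + 1),
      ((m + i - 1).choose i : ℤ) * ((∑ j ∈ Icc i r, c j) - b i) = 0 := by
    intro m
    have h1 : ∑ j ∈ range (r + 1), c j * ((m + j).choose j : ℤ) =
        ∑ i ∈ range (r + 1), ((m + i - 1).choose i : ℤ) * ∑ j ∈ Icc i r, c j := by
      calc ∑ j ∈ range (r + 1), c j * ((m + j).choose j : ℤ)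
          = ∑ j ∈ range (r + 1), ∑ i ∈ range (j + 1), ((m + i - 1).choose i : ℤ) * c j := by
            refine sum_congr rfl fun j _ => ?_
            rw [← sum_choose_pred m j, mul_comm, sum_mul]
        _ = ∑ i ∈ range (r + 1), ∑ j ∈ Icc i r, ((m + i - 1).choose i : ℤ) * c j := by
            refine sum_comm' fun j i => ?_
            simp only [mem_range, mem_Icc]
            omega
        _ = _ := by
            refine sum_congr rfl fun i _ => ?_
            rw [mul_sum]
    simp only [mul_sub, sum_sub_distrib]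
    rw [← h1, h m, sub_self]
  intro i hi
  have := indep r (fun i => (∑ j ∈ Icc i r, c j) - b i) 0 (fun m _ => key m) i hi
  have h' : (∑ j ∈ Icc i r, c j) - b i = 0 := this
  linarith

/-- the form used for Hilbert polynomials: the two top coefficients -/
theorem top_coeffs (s : ℕ) (a : Fin (s + 2) → ℤ) (b : ℕ → ℤ)
    (h : ∀ m : ℕ, ∑ j : Fin (s + 2), a j * (((m + j).choose j : ℕ) : ℤ) =
      ∑ i ∈ range (s + 1 + 1), ((m + i - 1).choose i : ℤ) * b i) :
    b (s + 1) = a (Fin.last (s + 1)) ∧ b s = a (Fin.castSucc (Fin.last s)) + a (Fin.last (s + 1)) := by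
  let c : ℕ → ℤ := fun j => if hj : j < s + 2 then a ⟨j, hj⟩ else 0
  have hc : ∀ m : ℕ, ∑ j ∈ range (s + 1 + 1), c j * ((m + j).choose j : ℤ) =
      ∑ i ∈ range (s + 1 + 1), ((m + i - 1).choose i : ℤ) * b i := by
    intro m
    rw [← h m, sum_range]
    refine sum_congr rfl fun j _ => ?_
    simp only [c]
    rw [dif_pos j.2]
  have h1 := coeff_compare (s + 1) c b hc
  constructor
  · rw [h1 (s + 1) le_rfl, Icc_self, sum_singleton]
    simp only [c]
    rw [dif_pos (by omega)]
    rfl
  · rw [h1 s (by omega)]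
    have : Icc s (s + 1) = {s, s + 1} := by
      ext x
      simp only [mem_Icc, mem_insert, mem_singleton]
      omega
    rw [this, sum_pair (by omega)]
    simp only [c]
    rw [dif_pos (by omega), dif_pos (by omega)]
    rfl

end Groth.Agent.R2.H62.Binom
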