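import Mathlib
import Groth.Prelude.Def_CGrpSh
import Groth.Prelude.Def_W4c1extbt15Mult

/-!
# Local lifting of points along epimorphisms / exact sequences of commutative group schemes
regarded as abelian sheaves on the big site (helper62)
-/

set_option autoImplicit false
set_option linter.style.haveILetI false
universe v u w

open CategoryTheory CategoryTheory.Limits Opposite MonObj MonoidalCategory CartesianMonoidalCategory
  AlgebraicGeometry

namespace Groth.Agent.R2.H62.CGrpSh

section general

variable {C : Type u} [Category.{v} C] (J : GrothendieckTopology C)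

/-- Exactness of a short complex of abelian sheaves gives local preimages of sections killed by `g`. -/
theorem exists_local_preimage_of_exact [HasSheafify J AddCommGrpCat.{w}]
    [J.WEqualsLocallyBijective AddCommGrpCat.{w}]
    [J.HasSheafCompose (forget AddCommGrpCat.{w})]
    (S : ShortComplex (Sheaf J AddCommGrpCat.{w})) (hS : S.Exact) {U : C}
    (y : S.X₂.obj.obj (op U)) (hy : S.g.hom.app (op U) y = 0) :
    ∃ R ∈ J U, ∀ ⦃V : C⦄ (g : V ⟶ U), R g →
      ∃ x : S.X₁.obj.obj (op V), S.f.hom.app (op V) x = S.X₂.obj.map g.op y := by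
  have hepi : Epi (kernel.lift S.g S.f S.zero) := (S.exact_iff_epi_kernel_lift).mp hS
  have hls : Sheaf.IsLocallySurjective (kernel.lift S.g S.f S.zero) :=
    (Sheaf.isLocallySurjective_iff_epi' _ _).2 hepi
  let S' : ShortComplex (Sheaf J AddCommGrpCat.{w}) :=
    ShortComplex.mk (kernel.ι S.g) S.g (kernel.condition S.g)
  have hS' : S'.Exact := ShortComplex.exact_kernel S.g
  let F : Sheaf J AddCommGrpCat.{w} ⥤ AddCommGrpCat.{w} :=
    sheafToPresheaf J AddCommGrpCat.{w} ⋙ (evaluation Cᵒᵖ AddCommGrpCat.{w}).obj (op U)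
  haveI : F.PreservesZeroMorphisms := by
    constructor
    intro X Y
    rfl
  have hFS' : (S'.map F).Exact :=
    hS'.map_of_mono_of_preservesKernel F (inferInstanceAs (Mono (kernel.ι S.g))) inferInstance
  obtain ⟨k, hk⟩ := (ShortComplex.ab_exact_iff _).mp hFS' y hy
  let k' : (kernel S.g).obj.obj (op U) := k
  have hk' : (kernel.ι S.g).hom.app (op U) k' = y := hk
  refine ⟨Presheaf.imageSieve (kernel.lift S.g S.f S.zero).hom k',
    Presheaf.imageSieve_mem J _ k', fun V g hg => ?_⟩
  obtain ⟨x, hx⟩ := hg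
  refine ⟨x, ?_⟩
  have h1 : kernel.lift S.g S.f S.zero ≫ kernel.ι S.g = S.f := kernel.lift_ι _ _ _
  have h2 : S.f.hom.app (op V) x =
      (kernel.ι S.g).hom.app (op V) ((kernel.lift S.g S.f S.zero).hom.app (op V) x) := by
    have := congrArg (fun φ => φ.hom.app (op V) x) h1
    exact this.symm
  rw [h2, hx, ← hk']
  exact ConcreteCategory.congr_hom ((kernel.ι S.g).hom.naturality g.op) k'

lemma finset_inf_mem {X : C} {α : Type*} (s : Finset α) (R : α → Sieve X)
    (h : ∀ l ∈ s, R l ∈ J X) : s.inf R ∈ J X := by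
  classical
  induction s using Finset.induction_on with
  | empty =>
    rw [Finset.inf_empty]
    exact J.top_mem X
  | insert a s ha ih =>
    rw [Finset.inf_insert]
    exact J.intersection_covering (h a (Finset.mem_insert_self a s))
      (ih fun l hl => h l (Finset.mem_insert_of_mem hl))

lemma finset_inf_apply {X Y : C} {α : Type*} (s : Finset α) (R : α → Sieve X) (g : Y ⟶ X) :
    (s.inf R) g ↔ ∀ l ∈ s, R l g := by
  classical
  induction s using Finset.induction_on with
  | empty =>
    rw [Finset.inf_empty]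
    simp
  | insert a s ha ih =>
    rw [Finset.inf_insert, Sieve.inter_apply, ih]
    simp

end general

section points

variable {S : Scheme.{u}} (K : Precoverage Scheme.{u}) [(QuotSh.J K S).Subcanonical]
variable {G H L : Over S} [GrpObj G] [IsCommMonObj G] [GrpObj H] [IsCommMonObj H]
  [GrpObj L] [IsCommMonObj L]

/-- The sieve of morphisms `g : T' ⟶ T` along which the point `y : T ⟶ H` lifts through `φ : G ⟶ H`. -/
def liftSieve (φ : G ⟶ H) {T : Over S} (y : T ⟶ H) : Sieve T where
  arrows T' g := ∃ x : T' ⟶ G, x ≫ φ = g ≫ y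
  downward_closed := by
    rintro T' T'' g ⟨x, hx⟩ h
    exact ⟨h ≫ x, by rw [Category.assoc, hx, Category.assoc]⟩

/-- If `π` is an epimorphism of sheaves, every point lifts locally. -/
theorem liftSieve_mem_of_epi (π : G ⟶ H) [IsMonHom π] (hπ : Epi (CGrpSh.ptsMap K π))
    {T : Over S} (y : T ⟶ H) : liftSieve π y ∈ QuotSh.J K S T := by
  have hLS : Sheaf.IsLocallySurjective (CGrpSh.ptsMap K π) :=
    (Sheaf.isLocallySurjective_iff_epi' _ _).2 hπ
  have hcov : Presheaf.imageSieve (CGrpSh.ptsMap K π).hom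
      (U := T) (ULift.up (Additive.ofMul y) : (CGrpSh.pts K H).obj.obj (op T)) ∈
        QuotSh.J K S T :=
    Presheaf.imageSieve_mem (QuotSh.J K S) _ _
  refine (QuotSh.J K S).superset_covering ?_ hcov
  intro T' g hg
  obtain ⟨x, hx⟩ := hg
  refine ⟨x.down.toMul, ?_⟩
  have := congrArg (fun z => z.down.toMul) hx
  exact this

/-- If `G → H → L` is exact as a sequence of sheaves, every point of `H` killed by `π` lifts locally
to `G`. -/
theorem liftSieve_mem_of_exact (j : G ⟶ H) (π : H ⟶ L) [IsMonHom j] [IsMonHom π] (w : j ≫ π = 1)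
    (hex : (CGrpSh.seq K j π w).Exact) {T : Over S} (y : T ⟶ H) (hy : y ≫ π = 1) :
    liftSieve j y ∈ QuotSh.J K S T := by
  obtain ⟨R, hR, h⟩ := exists_local_preimage_of_exact (QuotSh.J K S) (CGrpSh.seq K j π w) hex
    (U := T) (ULift.up (Additive.ofMul y) : (CGrpSh.pts K H).obj.obj (op T)) (by
      apply ULift.ext
      change Additive.ofMul (y ≫ π) = 0
      rw [hy]
      rfl)
  refine (QuotSh.J K S).superset_covering ?_ hR
  intro T' g hg
  obtain ⟨x, hx⟩ := h g hg
  refine ⟨x.down.toMul, ?_⟩
  have := congrArg (fun z => z.down.toMul) hx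
  exact this

/-- Morphisms into a scheme over `S` are determined locally. -/
theorem hom_ext_of_mem {N T : Over S} {R : Sieve T} (hR : R ∈ QuotSh.J K S T) (a b : T ⟶ N)
    (h : ∀ ⦃T' : Over S⦄ (g : T' ⟶ T), R g → g ≫ a = g ≫ b) : a = b := by
  have hsep := (GrothendieckTopology.Subcanonical.isSheaf_of_isRepresentable
    (J := QuotSh.J K S) (yoneda.obj N)).isSeparated
  exact (hsep _ hR).ext fun T' g hg => h g hg

/-- Gluing morphisms into a scheme over `S` along a covering sieve. -/
theorem exists_glue {N T : Over S} {R : Sieve T} (hR : R ∈ QuotSh.J K S T)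
    (n : ∀ ⦃T' : Over S⦄ (g : T' ⟶ T), R g → (T' ⟶ N))
    (hn : ∀ ⦃T' T'' : Over S⦄ (g : T' ⟶ T) (hg : R g) (h : T'' ⟶ T'),
      n (h ≫ g) (R.downward_closed hg h) = h ≫ n g hg) :
    ∃ a : T ⟶ N, ∀ ⦃T' : Over S⦄ (g : T' ⟶ T) (hg : R g), g ≫ a = n g hg := by
  have hsh := (GrothendieckTopology.Subcanonical.isSheaf_of_isRepresentable
    (J := QuotSh.J K S) (yoneda.obj N))
  have hsf : Presieve.IsSheafFor (yoneda.obj N) R.arrows := hsh _ hR
  let x : Presieve.FamilyOfElements (yoneda.obj N) R.arrows := fun T' g hg => n g hg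
  have hx : x.Compatible := by
    rw [Presieve.compatible_iff_sieveCompatible]
    intro T' T'' g h hg
    exact hn g hg h
  exact ⟨hsf.amalgamate x hx, fun T' g hg => hsf.valid_glue hx g hg⟩

end points

end Groth.Agent.R2.H62.CGrpSh
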