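import Mathlib
import Groth.Agent.R2.H62SnapComp2
import Groth.Agent.R2.H62IntNum
import Groth.Agent.Lib.Helper10RedInd

/-!
# Degrees on one-dimensional proper schemes via components (helper62)

* `isIntegral_subscheme_vanishingIdeal` : the reduced induced structure on an irreducible closed subset is integral;
* `euler_tensor_sub_eq_sum` : for `M` coherent with `dim Supp M ≤ 1` and `L` invertible,
  `χ(M ⊗ L) - χ(M) = ∑_ξ length(M_ξ) (χ(O_{Z_ξ} ⊗ L) - χ(O_{Z_ξ}))`, the sum over the generic points of the one-dimensional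
  components of the support.
-/

set_option autoImplicit false
universe u
open CategoryTheory CategoryTheory.Limits AlgebraicGeometry TopologicalSpace Opposite

namespace Groth.Agent.R2.H62.Snapper

open Groth.Agent.R2.H79.TwistCalc

section integral

variable {X : Scheme.{u}}

theorem irreducibleSpace_subscheme (D : X.IdealSheafData) (h : IsIrreducible (D.support : Set X)) :
    IrreducibleSpace D.subscheme := by
  have hr : Set.range D.subschemeι = D.support := D.range_subschemeι
  have : IrreducibleSpace ↥(Set.range D.subschemeι) := Subtype.irreducibleSpace (hr ▸ h)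
  exact (D.subschemeι.isEmbedding.toHomeomorph.irreducibleSpace_iff).2 this

theorem isIntegral_subscheme_vanishingIdeal (Z : Closeds X) (hZ : IsIrreducible (Z : Set X)) :
    IsIntegral (Scheme.IdealSheafData.vanishingIdeal Z).subscheme := by
  have h1 : IsReduced (Scheme.IdealSheafData.vanishingIdeal Z).subscheme :=
    Groth.Agent.Lib.Helper10.RedInd.isReduced_subscheme_vanishingIdeal Z
  have h2 : IrreducibleSpace (Scheme.IdealSheafData.vanishingIdeal Z).subscheme :=
    irreducibleSpace_subscheme _ (by rw [Scheme.IdealSheafData.coe_support_vanishingIdeal]; exact hZ)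
  exact isIntegral_of_irreducibleSpace_of_isReduced _

theorem isIntegral_subscheme_closure (ξ : X) :
    IsIntegral (Scheme.IdealSheafData.vanishingIdeal
      (⟨closure ({ξ} : Set X), isClosed_closure⟩ : Closeds X)).subscheme :=
  isIntegral_subscheme_vanishingIdeal _ isIrreducible_singleton.closure

end integral

section alg

theorem eval_eq_of_degLT_one {σ : Type*} (R : MvPolynomial σ ℚ) (h : DegLT R 1) (x y : σ → ℚ) :
    MvPolynomial.eval x R = MvPolynomial.eval y R := by
  have h0 : R.totalDegree = 0 := Nat.le_zero.1 (DegLT.totalDegree_le (d := 0) h)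
  rw [MvPolynomial.totalDegree_eq_zero_iff_eq_C.1 h0]
  simp

end alg

section main

variable (k : Type u) [Field k] {X : Scheme.{u}} [X.Over (Spec (CommRingCat.of k))]
  [IsProper (X ↘ (Spec (CommRingCat.of k)))]

theorem chiF_one_zero (L M : X.Modules) :
    chiF k 1 (fun _ => L) M (fun _ => 0) = Curv2.euler k X M := by
  unfold chiF
  rw [twF_obj]
  exact euler_congr k (tensorRightFUnit.app M)

theorem chiF_one_one (L M : X.Modules) :
    chiF k 1 (fun _ => L) M (fun _ => 1) = Curv2.euler k X (CohB1.tensorMod M L) := by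
  unfold chiF
  rw [twF_obj]
  exact euler_congr k (tensorIsoLeft M (tensorUnitLeftIso L))

/-- `χ(M ⊗ L) - χ(M)` as a sum over the one-dimensional components of the support -/
theorem euler_tensor_sub_eq_sum (L : X.Modules) (hL : PicF.IsInvertible L) (M : X.Modules)
    (hM : Coh.IsCoh M) (hs : SmallSupp M 2) :
    ∃ T : Finset X, (∀ ξ ∈ T, IsDPt 1 ξ) ∧
      Curv2.euler k X (CohB1.tensorMod M L) - Curv2.euler k X M =
        ∑ ξ ∈ T, ((len M ξ).toNat : ℤ) *
          (Curv2.euler k X (CohB1.tensorMod (Zmod ξ) L) - Curv2.euler k X (Zmod ξ)) := by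
  obtain ⟨h1, h2, R, hR, heR⟩ := snapper_comp k 1 (fun _ => L) (fun _ => hL) 1 M hM hs
  have heR' : ∀ n : Fin 1 → ℕ, ((chiF k 1 (fun _ => L) M n - compSum k 1 (fun _ => L) 1 M n : ℤ) : ℚ) =
      MvPolynomial.eval (fun i => (n i : ℚ)) R := heR
  refine ⟨h2.toFinset, fun ξ hξ => ((Set.Finite.mem_toFinset h2).1 hξ).1, ?_⟩
  have hTsub : topPts 1 M ⊆ ↑h2.toFinset := by
    intro ξ hξ
    rw [Set.Finite.coe_toFinset]
    exact hξ
  have e1 := heR' (fun _ => 1)
  have e0 := heR' (fun _ => 0)
  rw [eval_eq_of_degLT_one R hR _ (fun i => (((fun _ => 0 : Fin 1 → ℕ) i : ℕ) : ℚ))] at e1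
  rw [← e0] at e1
  have e2 : chiF k 1 (fun _ => L) M (fun _ => 1) - compSum k 1 (fun _ => L) 1 M (fun _ => 1) =
      chiF k 1 (fun _ => L) M (fun _ => 0) - compSum k 1 (fun _ => L) 1 M (fun _ => 0) := by
    exact_mod_cast e1
  rw [compSum_eq_sum k 1 _ 1 M _ _ hTsub, compSum_eq_sum k 1 _ 1 M _ _ hTsub, chiF_one_one,
    chiF_one_zero] at e2
  have e3 : Curv2.euler k X (CohB1.tensorMod M L) - Curv2.euler k X M =
      ∑ ξ ∈ h2.toFinset, compTerm k 1 (fun _ => L) 1 M (fun _ => 1) ξ -
        ∑ ξ ∈ h2.toFinset, compTerm k 1 (fun _ => L) 1 M (fun _ => 0) ξ := by linarith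
  rw [e3, ← Finset.sum_sub_distrib]
  refine Finset.sum_congr rfl fun ξ hξ => ?_
  have hdp : IsDPt 1 ξ := ((Set.Finite.mem_toFinset h2).1 hξ).1
  unfold compTerm
  rw [if_pos hdp, if_pos hdp, chiF_one_one, chiF_one_zero]
  ring

end main

end Groth.Agent.R2.H62.Snapper
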