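import Mathlib
import Groth.Agent.R2.H62AddDev
import Groth.Agent.R2.H62IntNum3
import Groth.Agent.R2.H62DegComp
import Groth.Agent.R2.H20CurveTens
import Groth.Agent.S1558
import Groth.Agent.Lib.Helper2PullbackSec
import Groth.Agent.Lib.Helper23UnitStalk

/-!
# The degree of a locally free module via the components (helper62)

`lamE k n E F = χ(E ⊗ F) - n χ(F)` is additive in `F` and vanishes when `dim Supp F ≤ 0`; hence on a proper scheme of
dimension `≤ 1`, `deg E = ∑_ξ length(O_{X,ξ}) deg(E|_{Z_ξ})`.
-/

set_option autoImplicit false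
universe u
open CategoryTheory CategoryTheory.Limits AlgebraicGeometry TopologicalSpace Opposite

namespace Groth.Agent.R2.H62.Snapper

open Groth.Agent.R2.H79.TwistCalc Groth.Agent.R2.H12.Dev

section general

variable {X : Scheme.{u}}

theorem support_subset_of_vanOn {M : X.Modules} {W : X.Opens} (h : VanOn M W) :
    CohB1.support M ⊆ (W : Set X)ᶜ := by
  intro x hx hxW
  exact hx (subsingleton_stalk_of_vanOn h x hxW)

theorem dim_support_le_zero_of_smallSupp {M : X.Modules} (hs : SmallSupp M 1) :
    topologicalKrullDim ↥(CohB1.support M) ≤ 0 := by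
  obtain ⟨W, hv, hdim⟩ := hs
  have h1 := lt_of_le_of_lt (topologicalKrullDim_mono (support_subset_of_vanOn hv)) hdim
  exact_mod_cast withBot_le_of_lt_succ (d := 0) h1

theorem dim_support_structureModule' :
    topologicalKrullDim ↥(CohB1.support (Coh.structureModule X)) = topologicalKrullDim X := by
  have h : CohB1.support (Coh.structureModule X) = Set.univ := by
    ext x
    simp only [CohB1.support, Set.mem_setOf_eq, Set.mem_univ, iff_true, not_subsingleton_iff_nontrivial]
    exact Groth.Agent.Lib.Helper23.UnitStalk.nontrivial_stalk_structureModule x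
  rw [h]
  exact IsHomeomorph.topologicalKrullDim_eq _ (Homeomorph.Set.univ X).isHomeomorph

end general

section main

variable (k : Type u) [Field k] {X : Scheme.{u}} [X.Over (Spec (CommRingCat.of k))]
  [IsProper (X ↘ (Spec (CommRingCat.of k)))]

/-- `χ(E ⊗ F) - n χ(F)` -/
noncomputable def lamE (n : ℕ) (E F : X.Modules) : ℤ :=
  Curv2.euler k X (CohB1.tensorMod E F) - n * Curv2.euler k X F

theorem isAdditive_lamE (n : ℕ) (E : X.Modules) (hE : FlatMod.IsFinLocFreeOfRank n E) :
    IsAdditive (lamE k n E) where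
  iso := fun {M N} e => by
    unfold lamE
    rw [euler_congr k e, euler_congr k (tensorIsoLeft E e)]
  zero := fun {M} hM => by
    unfold lamE
    have h1 : IsZero (CohB1.tensorMod E M) := by
      have : IsZero ((tensorLeftF E).obj M) := Functor.map_isZero (tensorLeftF E) hM
      exact this
    rw [euler_of_isZero k hM, euler_of_isZero k h1]
    simp
  add := fun S hS h1 h2 h3 => by
    unfold lamE
    have hEc := Groth.Agent.R2.H20.LocFreeRank.isCoh_of_isFinLocFreeOfRank hE
    have e1 := Groth.Agent.S1524.result k X S hS h1 h2 h3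
    have e2 := Groth.Agent.S1524.result k X (S.map (tensorLeftF E))
      (Groth.Agent.R2.H20.CurveTens.shortExact_map_tensorLeftF E hE S hS)
      (Groth.Agent.R2.H20.LocFreeRank.isCoh_tensorMod' hEc h1)
      (Groth.Agent.R2.H20.LocFreeRank.isCoh_tensorMod' hEc h2)
      (Groth.Agent.R2.H20.LocFreeRank.isCoh_tensorMod' hEc h3)
    have e2' : Curv2.euler k X (CohB1.tensorMod E S.X₂) =
        Curv2.euler k X (CohB1.tensorMod E S.X₁) + Curv2.euler k X (CohB1.tensorMod E S.X₃) := e2
    rw [e1, e2']
    ring

theorem lamE_van (n : ℕ) (E : X.Modules) (hE : FlatMod.IsFinLocFreeOfRank n E) (M : X.Modules)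
    (hM : Coh.IsCoh M) (hs : SmallSupp M 1) : lamE k n E M = 0 := by
  unfold lamE
  have h := Groth.Agent.S1558.result k X M hM (dim_support_le_zero_of_smallSupp hs) n E hE
  rw [euler_congr k (Groth.Agent.R2.H20.CurveTens.tensorComm E M), h]
  ring

theorem lamE_structure (n : ℕ) (E : X.Modules) :
    lamE k n E (Coh.structureModule X) = Curv2.deg k X E n := by
  unfold lamE Curv2.deg
  have h : Curv2.euler k X (CohB1.tensorMod E (Coh.structureModule X)) = Curv2.euler k X E :=
    euler_congr k (tensorRightFUnit.app E)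
  rw [h]

theorem lamE_push (n : ℕ) (E : X.Modules) [E.IsQuasicoherent] {Z : Scheme.{u}} (j : Z ⟶ X)
    [IsClosedImmersion j] :
    lamE k n E ((Scheme.Modules.pushforward j).obj (Coh.structureModule Z)) =
      @Curv2.deg k _ Z ⟨j ≫ (X ↘ (Spec (CommRingCat.of k)))⟩ ((Scheme.Modules.pullback j).obj E) n := by
  unfold lamE Curv2.deg
  have hq : Coh.IsQCoh ((Scheme.Modules.pullback j).obj E) :=
    Groth.Agent.Lib.Helper2.PullbackSec.isQuasicoherent_pullback j E
  have hO : Coh.IsQCoh (Coh.structureModule Z) := (isCoh_structureModule' Z).1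
  rw [← euler_push k j _ hq, ← euler_push k j _ hO,
    euler_congr k (Groth.Agent.R2.H20.CurveTens.tensorComm E _),
    euler_congr k (Groth.Agent.R2.H54.RelSerreA.pushPullIso j E)]

/-- **the degree as a sum over the one-dimensional components** -/
theorem deg_eq_sum_components (hdim : topologicalKrullDim X ≤ 1) (n : ℕ) (E : X.Modules)
    (hE : FlatMod.IsFinLocFreeOfRank n E) :
    ∃ T : Finset X, (∀ ξ, ξ ∈ T ↔ IsDPt 1 ξ) ∧
      Curv2.deg k X E n = ∑ ξ ∈ T, ((len (Coh.structureModule X) ξ).toNat : ℤ) *
        @Curv2.deg k _ (Scheme.IdealSheafData.vanishingIdeal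
            (⟨closure ({ξ} : Set X), isClosed_closure⟩ : Closeds X)).subscheme
          ⟨(Scheme.IdealSheafData.vanishingIdeal
            (⟨closure ({ξ} : Set X), isClosed_closure⟩ : Closeds X)).subschemeι ≫
              (X ↘ (Spec (CommRingCat.of k)))⟩
          ((Scheme.Modules.pullback (Scheme.IdealSheafData.vanishingIdeal
            (⟨closure ({ξ} : Set X), isClosed_closure⟩ : Closeds X)).subschemeι).obj E) n := by
  have hXN : IsNoetherian X := isNoetherian_of_isProper k
  have hO : Coh.IsCoh (Coh.structureModule X) := isCoh_structureModule' X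
  have hEq : E.IsQuasicoherent := (Groth.Agent.R2.H20.LocFreeRank.isCoh_of_isFinLocFreeOfRank hE).1
  have hs : SmallSupp (Coh.structureModule X) 2 := by
    refine smallSupp_of_support _ hO 2 ?_
    rw [dim_support_structureModule']
    exact lt_of_le_of_lt hdim (by exact_mod_cast Nat.lt_succ_self 1)
  obtain ⟨h1, h2, h3⟩ := additive_devissage (lamE k n E) (isAdditive_lamE k n E hE) 1
    (lamE_van k n E hE) _ hO hs
  refine ⟨h2.toFinset, fun ξ => ?_, ?_⟩
  · rw [Set.Finite.mem_toFinset]
    refine ⟨fun h => h.1, fun h => ⟨h, fun h0 => ?_⟩⟩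
    have := Groth.Agent.Lib.Helper23.UnitStalk.nontrivial_stalk_structureModule ξ
    exact not_subsingleton _ (Module.length_eq_zero_iff.1 h0)
  · rw [← lamE_structure, h3, finsum_addTerm_eq_sum _ 1 _ h2.toFinset
      (by intro ξ hξ; rw [Set.Finite.coe_toFinset]; exact hξ)]
    refine Finset.sum_congr rfl fun ξ hξ => ?_
    have hdp : IsDPt 1 ξ := ((Set.Finite.mem_toFinset h2).1 hξ).1
    unfold addTerm
    rw [if_pos hdp, nsmul_eq_mul]
    congr 1
    exact lamE_push k n E _

end main

end Groth.Agent.R2.H62.Snapper
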