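import Mathlib
import Groth.Agent.R2.H62DegLam
import Groth.Agent.R2.H62IntNum2
import Groth.Agent.R2.H54AmpleA1
import Groth.Agent.Lib.Helper26ModRank
import Groth.Agent.S1557

/-!
# The degree of a tensor product of locally free modules on a proper scheme of dimension `≤ 1` (helper62)
-/

set_option autoImplicit false
universe u
open CategoryTheory CategoryTheory.Limits AlgebraicGeometry TopologicalSpace Opposite

namespace Groth.Agent.R2.H62.Snapper

open Groth.Agent.R2.H79.TwistCalc Groth.Agent.R2.H12.Dev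

section dim

variable {X : Scheme.{u}}

theorem dim_subscheme_eq (D : X.IdealSheafData) :
    topologicalKrullDim D.subscheme = topologicalKrullDim ↥(D.support : Set X) := by
  have hr : Set.range D.subschemeι = D.support := D.range_subschemeι
  rw [← hr]
  exact IsHomeomorph.topologicalKrullDim_eq _ D.subschemeι.isEmbedding.toHomeomorph.isHomeomorph

end dim

section main

variable (k : Type u) [Field k] {X : Scheme.{u}} [X.Over (Spec (CommRingCat.of k))]
  [IsProper (X ↘ (Spec (CommRingCat.of k)))]

/-- `λ_E(V ⊗ F) - m λ_E(F)` -/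
noncomputable def lam1 (n m : ℕ) (E V F : X.Modules) : ℤ :=
  lamE k n E (CohB1.tensorMod V F) - m * lamE k n E F

theorem isAdditive_lam1 (n m : ℕ) (E V : X.Modules) (hE : FlatMod.IsFinLocFreeOfRank n E)
    (hV : FlatMod.IsFinLocFreeOfRank m V) : IsAdditive (lam1 k n m E V) where
  iso := fun {M N} e => by
    unfold lam1
    rw [(isAdditive_lamE k n E hE).iso e, (isAdditive_lamE k n E hE).iso (tensorIsoLeft V e)]
  zero := fun {M} hM => by
    unfold lam1
    have h1 : IsZero (CohB1.tensorMod V M) := by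
      have : IsZero ((tensorLeftF V).obj M) := Functor.map_isZero (tensorLeftF V) hM
      exact this
    rw [(isAdditive_lamE k n E hE).zero hM, (isAdditive_lamE k n E hE).zero h1]
    simp
  add := fun S hS h1 h2 h3 => by
    unfold lam1
    have hVc := Groth.Agent.R2.H20.LocFreeRank.isCoh_of_isFinLocFreeOfRank hV
    have e1 := (isAdditive_lamE k n E hE).add S hS h1 h2 h3
    have e2 := (isAdditive_lamE k n E hE).add (S.map (tensorLeftF V))
      (Groth.Agent.R2.H20.CurveTens.shortExact_map_tensorLeftF V hV S hS)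
      (Groth.Agent.R2.H20.LocFreeRank.isCoh_tensorMod' hVc h1)
      (Groth.Agent.R2.H20.LocFreeRank.isCoh_tensorMod' hVc h2)
      (Groth.Agent.R2.H20.LocFreeRank.isCoh_tensorMod' hVc h3)
    have e2' : lamE k n E (CohB1.tensorMod V S.X₂) =
        lamE k n E (CohB1.tensorMod V S.X₁) + lamE k n E (CohB1.tensorMod V S.X₃) := e2
    rw [e1, e2']
    ring

theorem lam1_van (n m : ℕ) (E V : X.Modules) (hE : FlatMod.IsFinLocFreeOfRank n E)
    (hV : FlatMod.IsFinLocFreeOfRank m V) (M : X.Modules) (hM : Coh.IsCoh M) (hs : SmallSupp M 1) :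
    lam1 k n m E V M = 0 := by
  unfold lam1
  have hVc := Groth.Agent.R2.H20.LocFreeRank.isCoh_of_isFinLocFreeOfRank hV
  have hc : Coh.IsCoh (CohB1.tensorMod V M) := Groth.Agent.R2.H20.LocFreeRank.isCoh_tensorMod' hVc hM
  have hs' : SmallSupp (CohB1.tensorMod V M) 1 := by
    refine smallSupp_of_support _ hc 1 ?_
    refine lt_of_le_of_lt ((topologicalKrullDim_mono (support_tensorMod_subset V M)).trans
      (dim_support_le_zero_of_smallSupp hs)) ?_
    exact_mod_cast Nat.zero_lt_one
  rw [lamE_van k n E hE M hM hs, lamE_van k n E hE _ hc hs']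
  simp

/-- on an integral closed curve `j : C ⟶ X`: `λ_E(V ⊗ j_* O_C) = m deg(E|_C)` -/
theorem lamE_tensor_push (n m : ℕ) (E V : X.Modules) (hE : FlatMod.IsFinLocFreeOfRank n E)
    (hV : FlatMod.IsFinLocFreeOfRank m V) {C : Scheme.{u}} (j : C ⟶ X) [IsClosedImmersion j]
    [IsIntegral C] (hC : topologicalKrullDim C = 1) :
    lamE k n E (CohB1.tensorMod V ((Scheme.Modules.pushforward j).obj (Coh.structureModule C))) =
      m * @Curv2.deg k _ C ⟨j ≫ (X ↘ (Spec (CommRingCat.of k)))⟩
        ((Scheme.Modules.pullback j).obj E) n := by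
  letI : C.Over (Spec (CommRingCat.of k)) := ⟨j ≫ (X ↘ (Spec (CommRingCat.of k)))⟩
  haveI : IsProper (C ↘ (Spec (CommRingCat.of k))) := by
    change IsProper (j ≫ (X ↘ (Spec (CommRingCat.of k))))
    infer_instance
  have hEq : E.IsQuasicoherent := (Groth.Agent.R2.H20.LocFreeRank.isCoh_of_isFinLocFreeOfRank hE).1
  have hVq : V.IsQuasicoherent := (Groth.Agent.R2.H20.LocFreeRank.isCoh_of_isFinLocFreeOfRank hV).1
  set EC := (Scheme.Modules.pullback j).obj E with hEC
  set VC := (Scheme.Modules.pullback j).obj V with hVC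
  have hEC' : FlatMod.IsFinLocFreeOfRank n EC :=
    Groth.Agent.Lib.Helper26.ModRank.isFinLocFreeOfRank_pullback j E hE
  have hVC' : FlatMod.IsFinLocFreeOfRank m VC :=
    Groth.Agent.Lib.Helper26.ModRank.isFinLocFreeOfRank_pullback j V hV
  have hVCc : Coh.IsCoh VC := Groth.Agent.R2.H20.LocFreeRank.isCoh_of_isFinLocFreeOfRank hVC'
  have hECc : Coh.IsCoh EC := Groth.Agent.R2.H20.LocFreeRank.isCoh_of_isFinLocFreeOfRank hEC'
  have hTc : Coh.IsCoh (CohB1.tensorMod VC EC) :=
    Groth.Agent.R2.H20.LocFreeRank.isCoh_tensorMod' hVCc hECc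
  -- `V ⊗ j_* O ≅ j_* V_C`
  have i1 : CohB1.tensorMod V ((Scheme.Modules.pushforward j).obj (Coh.structureModule C)) ≅
      (Scheme.Modules.pushforward j).obj VC :=
    Groth.Agent.R2.H20.CurveTens.tensorComm _ _ ≪≫ (Groth.Agent.R2.H54.RelSerreA.pushPullIso j V).symm
  -- `E ⊗ j_* V_C ≅ j_* (V_C ⊗ E_C)`
  have i2 : CohB1.tensorMod E ((Scheme.Modules.pushforward j).obj VC) ≅
      (Scheme.Modules.pushforward j).obj (CohB1.tensorMod VC EC) :=
    Groth.Agent.R2.H20.CurveTens.tensorComm _ _ ≪≫
      (Groth.Agent.R2.H54.AmpleA1.pushTensorPullIso j VC E).symm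
  have s1557 := Groth.Agent.S1557.result k C hC n EC hEC' VC hVCc
  rw [Groth.Agent.R2.H20.LocFreeRank.finrank_stalk hVC' (genericPoint C)] at s1557
  unfold lamE
  rw [euler_congr k i1, euler_congr k (tensorIsoLeft E i1), euler_congr k i2,
    euler_push k j _ hTc.1, euler_push k j _ hVCc.1,
    euler_congr (X := C) k (Groth.Agent.R2.H20.CurveTens.tensorComm VC EC), s1557]
  ring

/-- **the degree of a tensor product** -/
theorem deg_tensorMod_locFree (hdim : topologicalKrullDim X ≤ 1) (n m : ℕ) (E V : X.Modules)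
    (hE : FlatMod.IsFinLocFreeOfRank n E) (hV : FlatMod.IsFinLocFreeOfRank m V) :
    Curv2.deg k X (CohB1.tensorMod E V) (n * m) = n * Curv2.deg k X V m + m * Curv2.deg k X E n := by
  have hXN : IsNoetherian X := isNoetherian_of_isProper k
  have hO : Coh.IsCoh (Coh.structureModule X) := isCoh_structureModule' X
  have hEq : E.IsQuasicoherent := (Groth.Agent.R2.H20.LocFreeRank.isCoh_of_isFinLocFreeOfRank hE).1
  have hs : SmallSupp (Coh.structureModule X) 2 := by
    refine smallSupp_of_support _ hO 2 ?_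
    rw [dim_support_structureModule']
    exact lt_of_le_of_lt hdim (by exact_mod_cast Nat.lt_succ_self 1)
  obtain ⟨h1, h2, h3⟩ := additive_devissage (lam1 k n m E V) (isAdditive_lam1 k n m E V hE hV) 1
    (lam1_van k n m E V hE hV) _ hO hs
  have hzero : ∑ᶠ ξ : X, addTerm (lam1 k n m E V) 1 (Coh.structureModule X) ξ = 0 := by
    have : ∀ ξ, addTerm (lam1 k n m E V) 1 (Coh.structureModule X) ξ = 0 := by
      intro ξ
      unfold addTerm
      by_cases hξ : IsDPt 1 ξ
      · rw [if_pos hξ]
        have hC := isIntegral_subscheme_closure ξ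
        have hdC : topologicalKrullDim (Scheme.IdealSheafData.vanishingIdeal
            (⟨closure ({ξ} : Set X), isClosed_closure⟩ : Closeds X)).subscheme = 1 := by
          rw [dim_subscheme_eq, Scheme.IdealSheafData.coe_support_vanishingIdeal]
          have : topologicalKrullDim ↥(closure ({ξ} : Set X)) = ((1 : ℕ) : WithBot ℕ∞) := hξ
          change topologicalKrullDim ↥(closure ({ξ} : Set X)) = 1
          rw [this, Nat.cast_one]
        have e1 := lamE_tensor_push k n m E V hE hV
          (Scheme.IdealSheafData.vanishingIdeal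
            (⟨closure ({ξ} : Set X), isClosed_closure⟩ : Closeds X)).subschemeι hdC
        have e2 := lamE_push k n E
          (Scheme.IdealSheafData.vanishingIdeal
            (⟨closure ({ξ} : Set X), isClosed_closure⟩ : Closeds X)).subschemeι
        have : lam1 k n m E V (Zmod ξ) = 0 := by
          unfold lam1
          rw [e1, e2]
          ring
        rw [this, smul_zero]
      · rw [if_neg hξ]
    simp only [this, finsum_zero]
  rw [hzero] at h3
  unfold lam1 lamE at h3
  have i1 : CohB1.tensorMod E (CohB1.tensorMod V (Coh.structureModule X)) ≅ CohB1.tensorMod E V :=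
    tensorIsoLeft E (tensorRightFUnit.app V)
  have i2 : CohB1.tensorMod V (Coh.structureModule X) ≅ V := tensorRightFUnit.app V
  have i3 : CohB1.tensorMod E (Coh.structureModule X) ≅ E := tensorRightFUnit.app E
  rw [euler_congr k i1, euler_congr k i2, euler_congr k i3] at h3
  unfold Curv2.deg
  push_cast
  linarith

end main

end Groth.Agent.R2.H62.Snapper
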