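import Mathlib
import Groth.Agent.R2.H62DegTensor
import Groth.Agent.R2.H62CartierInt
import Groth.Agent.R2.H62CurveDeg
import Groth.Agent.R2.H65CurveAff
import Groth.Agent.Lib.Helper7TopDim
import Groth.Agent.Lib.Helper23QAffSec
import Groth.Agent.S1524

/-!
# Degree of `E ⊗ O(D)` for an effective Cartier divisor `D` on a proper scheme of dimension `≤ 1` (helper62)

* `isFinite_subscheme_of_dim_le_zero`: a closed subscheme of dimension `≤ 0` of a proper `k`-scheme is finite over `k`;
* `deg_inverse_idealMod`: `deg L = h^0(O_D)` for `L ⊗ I_D ≅ O_X`;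
* `deg_tensor_effCartier`: `deg (E ⊗ L) = n h^0(O_D) + deg E`.
-/

set_option autoImplicit false
universe u
open CategoryTheory CategoryTheory.Limits AlgebraicGeometry TopologicalSpace Opposite

namespace Groth.Agent.R2.H62.Snapper

open Groth.Agent.R2.H79.TwistCalc Groth.Agent.R2.H12.Dev

section main

variable (k : Type u) [Field k] {X : Scheme.{u}} [X.Over (Spec (CommRingCat.of k))]
  [IsProper (X ↘ (Spec (CommRingCat.of k)))]

theorem isFinite_subscheme_of_dim_le_zero (D : X.IdealSheafData)
    (hdim : topologicalKrullDim D.subscheme ≤ 0) :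
    IsFinite (D.subschemeι ≫ (X ↘ (Spec (CommRingCat.of k)))) := by
  letI : D.subscheme.Over (Spec (CommRingCat.of k)) := ⟨D.subschemeι ≫ (X ↘ (Spec (CommRingCat.of k)))⟩
  haveI : IsProper (D.subscheme ↘ (Spec (CommRingCat.of k))) := by
    change IsProper (D.subschemeι ≫ (X ↘ (Spec (CommRingCat.of k))))
    infer_instance
  have hN : IsNoetherian D.subscheme := isNoetherian_of_isProper k
  have hfin : Finite D.subscheme := by
    rcases isEmpty_or_nonempty D.subscheme with h | h
    · infer_instance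
    · have h0 : topologicalKrullDim D.subscheme = 0 :=
        le_antisymm hdim Groth.Agent.Lib.Helper7.TopDim.topologicalKrullDim_nonneg
      exact (Groth.Agent.Lib.Helper7.TopDim.dim_eq_zero_iff_finite_discrete.mp h0).1
  exact Groth.Agent.R2.H65.CurveAff.isFinite_of_finite_fibres _ (fun y => Set.toFinite _)

/-- `deg L = h^0(O_D)` when `L ⊗ I_D ≅ O_X` for an effective Cartier divisor `D`, `dim X ≤ 1` -/
theorem deg_inverse_idealMod (hdim : topologicalKrullDim X ≤ 1)
    (D : X.IdealSheafData) (hD : FGA.IsEffCartier D)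
    (L : X.Modules) (hL : PicF.IsInvertible L)
    (hLD : Nonempty (CohB1.tensorMod L (ClSub.idealMod D) ≅ Coh.structureModule X)) :
    Curv2.deg k X L 1 = Module.finrank k (Coh.HH X (ClSub.quotMod D) 0) := by
  have hXN : IsNoetherian X := isNoetherian_of_isProper k
  obtain ⟨eLD⟩ := hLD
  have hO : Coh.IsCoh (Coh.structureModule X) := isCoh_structureModule' X
  have hcD : Coh.IsCoh (ClSub.quotMod D) := isCoh_quotMod D
  have hcI : Coh.IsCoh (ClSub.idealMod D) := isCoh_idealMod D
  have hL1 : FlatMod.IsFinLocFreeOfRank 1 L :=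
    Groth.Agent.Lib.Helper23.SecTw.isFinLocFreeOfRank_one_of_isInvertible L hL
  have hX' : topologicalKrullDim X ≤ ((0 + 1 : ℕ) : WithBot ℕ∞) := by simpa using hdim
  have hssD : SmallSupp (ClSub.quotMod D) (0 + 1) :=
    smallSupp_push D.subschemeι _ (0 + 1) (dim_range_subschemeι_lt D hD 0 hX')
  have hS := shortExact_map_tensorRightF L hL _ (shortExact_idealMod D)
  have h1 := Groth.Agent.S1524.result k X _ hS (isCoh_tensorMod _ L hcI hL) (isCoh_tensorMod _ L hO hL)
    (isCoh_tensorMod _ L hcD hL)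
  change Curv2.euler k X (CohB1.tensorMod (Coh.structureModule X) L) =
    Curv2.euler k X (CohB1.tensorMod (ClSub.idealMod D) L) +
      Curv2.euler k X (CohB1.tensorMod (ClSub.quotMod D) L) at h1
  rw [euler_congr k (tensorUnitLeftIso L), euler_congr k (brdIso (ClSub.idealMod D) L ≪≫ eLD),
    euler_congr k (brdIso (ClSub.quotMod D) L)] at h1
  have h2 := lamE_van k 1 L hL1 _ hcD hssD
  unfold lamE at h2
  have h3 := Groth.Agent.R2.H62.CurveCore.euler_eq_finrank_of_dim_zero (k := k) _ hcD
    (dim_support_le_zero_of_smallSupp hssD)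
  unfold Curv2.deg
  rw [← h3]
  push_cast at h2 ⊢
  linarith

/-- **`deg (E ⊗ O(D)) = n h^0(O_D) + deg E`** -/
theorem deg_tensor_effCartier (hdim : topologicalKrullDim X ≤ 1)
    (D : X.IdealSheafData) (hD : BlowUp.IsEffCartierIdeal D)
    (L : X.Modules) (hL : PicF.IsInvertible L) (hLD : ClSub.IsInverseOf L (ClSub.idealMod D))
    (n : ℕ) (E : X.Modules) (hE : FlatMod.IsFinLocFreeOfRank n E) :
    IsFinite (D.subschemeι ≫ (X ↘ (Spec (CommRingCat.of k)))) ∧
      Curv2.deg k X (CohB1.tensorMod E L) n =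
        n * Module.finrank k (Coh.HH X (ClSub.quotMod D) 0) + Curv2.deg k X E n := by
  have hD' : FGA.IsEffCartier D := hD
  have hX' : topologicalKrullDim X ≤ ((0 + 1 : ℕ) : WithBot ℕ∞) := by simpa using hdim
  refine ⟨?_, ?_⟩
  · refine isFinite_subscheme_of_dim_le_zero k D ?_
    rw [dim_subscheme_eq, ← D.range_subschemeι]
    have h := dim_range_subschemeι_lt D hD' 0 hX'
    exact_mod_cast withBot_le_of_lt_succ (d := 0) h
  · have hL1 : FlatMod.IsFinLocFreeOfRank 1 L :=
      Groth.Agent.Lib.Helper23.SecTw.isFinLocFreeOfRank_one_of_isInvertible L hL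
    have h1 := deg_tensorMod_locFree k hdim n 1 E L hE hL1
    rw [mul_one] at h1
    rw [h1, deg_inverse_idealMod k hdim D hD' L hL hLD]
    push_cast
    ring

end main

end Groth.Agent.R2.H62.Snapper
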