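import Mathlib
import Groth.Agent.R2.H62DegLam

/-!
# Irreducible components of dimension `d` and points whose closure has dimension `d` (helper62)
-/

set_option autoImplicit false
universe u
open CategoryTheory CategoryTheory.Limits AlgebraicGeometry TopologicalSpace Opposite

namespace Groth.Agent.R2.H62.Snapper

section top

variable {X : Scheme.{u}}

theorem closure_mem_irreducibleComponents (d : ℕ) (hdim : topologicalKrullDim X ≤ (d : WithBot ℕ∞)) (ξ : X)
    (hξ : IsDPt d ξ) : closure ({ξ} : Set X) ∈ irreducibleComponents X := by
  refine ⟨isIrreducible_singleton.closure, fun S hS hle => ?_⟩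
  have hSc : IsIrreducible (closure S) := hS.closure
  have hdimS : topologicalKrullDim ↥(closure S) < ((d + 1 : ℕ) : WithBot ℕ∞) :=
    withBot_lt_succ_of_le ((topologicalKrullDim_subspace_le X (closure S)).trans hdim)
  have heq : closure ({ξ} : Set X) = closure S := by
    by_contra hne
    have hlt := topologicalKrullDim_lt_of_isClosed_ssubset d hSc hdimS isClosed_closure
      (hle.trans subset_closure) hne
    rw [hξ] at hlt
    exact lt_irrefl _ hlt
  rw [heq]
  exact subset_closure

/-- the generic point of an irreducible component -/
noncomputable def compPt (Z : irreducibleComponents (X : Type u)) : X := Z.2.1.genericPoint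

theorem closure_compPt (Z : irreducibleComponents (X : Type u)) :
    closure ({compPt Z} : Set X) = Z.1 :=
  Z.2.1.closure_genericPoint (isClosed_of_mem_irreducibleComponents Z.1 Z.2)

theorem bijOn_compPt (d : ℕ) (hdim : topologicalKrullDim X ≤ (d : WithBot ℕ∞)) :
    Set.BijOn (compPt (X := X))
      {Z : irreducibleComponents (X : Type u) | topologicalKrullDim ↥(Z.1 : Set X) = (d : WithBot ℕ∞)}
      {ξ : X | IsDPt d ξ} := by
  refine ⟨fun Z hZ => ?_, fun Z _ Z' _ h => ?_, fun ξ hξ => ?_⟩
  · change IsDPt d (compPt Z)
    unfold IsDPt
    rw [closure_compPt]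
    exact hZ
  · apply Subtype.ext
    rw [← closure_compPt Z, ← closure_compPt Z', h]
  · have hmem := closure_mem_irreducibleComponents d hdim ξ hξ
    refine ⟨⟨closure {ξ}, hmem⟩, ?_, ?_⟩
    · exact hξ
    · have h1 : closure ({compPt (⟨closure {ξ}, hmem⟩ : irreducibleComponents (X : Type u))} : Set X) =
          closure {ξ} := closure_compPt _
      exact ((inseparable_iff_closure_eq).2 h1).eq

theorem radical_irreducibleComponentIdeal [IsNoetherian X] (Z : irreducibleComponents (X : Type u)) :
    (X.irreducibleComponentIdeal Z.1 Z.2).radical =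
      Scheme.IdealSheafData.vanishingIdeal
        (⟨closure ({compPt Z} : Set X), isClosed_closure⟩ : Closeds X) := by
  rw [← Scheme.IdealSheafData.vanishingIdeal_support]
  congr 1
  apply Closeds.ext
  exact (closure_compPt Z).symm

end top

end Groth.Agent.R2.H62.Snapper
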