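import Mathlib
import Groth.Agent.R2.H62DegLam
import Groth.Agent.R2.H62IrrComp
import Groth.Agent.R2.H62CartierInt
import Groth.Agent.Lib.Helper4IsolFib

/-!
# `χ(E ⊗ F) - n χ(F)` as a sum over the one-dimensional components (helper62)
-/

set_option autoImplicit false
universe u
open CategoryTheory CategoryTheory.Limits AlgebraicGeometry TopologicalSpace Opposite

namespace Groth.Agent.R2.H62.Snapper

open Groth.Agent.R2.H79.TwistCalc Groth.Agent.R2.H12.Dev

section main

variable (k : Type u) [Field k] {X : Scheme.{u}} [X.Over (Spec (CommRingCat.of k))]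
  [IsProper (X ↘ (Spec (CommRingCat.of k)))]

/-- **`χ(E ⊗ F) - n χ(F)` as a sum over the one-dimensional generic points** -/
theorem lamE_eq_sum_components (hdim : topologicalKrullDim X ≤ 1) (n : ℕ) (E : X.Modules)
    (hE : FlatMod.IsFinLocFreeOfRank n E) (F : X.Modules) (hF : Coh.IsCoh F) :
    ∃ T : Finset X, (∀ ξ, ξ ∈ T ↔ IsDPt 1 ξ) ∧
      lamE k n E F = ∑ ξ ∈ T, ((len F ξ).toNat : ℤ) *
        @Curv2.deg k _ (Scheme.IdealSheafData.vanishingIdeal
            (⟨closure ({ξ} : Set X), isClosed_closure⟩ : Closeds X)).subscheme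
          ⟨(Scheme.IdealSheafData.vanishingIdeal
            (⟨closure ({ξ} : Set X), isClosed_closure⟩ : Closeds X)).subschemeι ≫
              (X ↘ (Spec (CommRingCat.of k)))⟩
          ((Scheme.Modules.pullback (Scheme.IdealSheafData.vanishingIdeal
            (⟨closure ({ξ} : Set X), isClosed_closure⟩ : Closeds X)).subschemeι).obj E) n := by
  have hXN : IsNoetherian X := isNoetherian_of_isProper k
  have hEq : E.IsQuasicoherent := (Groth.Agent.R2.H20.LocFreeRank.isCoh_of_isFinLocFreeOfRank hE).1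
  obtain ⟨T, hT, -⟩ := deg_eq_sum_components k hdim n E hE
  have hs : SmallSupp F 2 :=
    smallSupp_of_dim_le F hF 2 (lt_of_le_of_lt hdim (by exact_mod_cast Nat.lt_succ_self 1))
  obtain ⟨h1, h2, h3⟩ := additive_devissage (lamE k n E) (isAdditive_lamE k n E hE) 1
    (lamE_van k n E hE) _ hF hs
  refine ⟨T, hT, ?_⟩
  rw [h3, finsum_addTerm_eq_sum _ 1 _ T
    (by intro ξ hξ; rw [Finset.mem_coe, hT]; exact hξ.1)]
  refine Finset.sum_congr rfl fun ξ hξ => ?_
  have hdp : IsDPt 1 ξ := (hT ξ).1 hξ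
  unfold addTerm
  rw [if_pos hdp, nsmul_eq_mul]
  congr 1
  exact lamE_push k n E _

end main

end Groth.Agent.R2.H62.Snapper
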