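import Mathlib

/-!
# Right derived functors of "linear" functors are "linear" (helper62; for coh-core D1 / S0030 / S0036)

If `τ : 𝟭 C ⟶ 𝟭 C` and `τ' : 𝟭 D ⟶ 𝟭 D` are endomorphisms of the identity functors (for instance
multiplication by a ring element acting on all objects) and an additive functor `F : C ⥤ D` intertwines them,
`F.map (τ.app M) = τ'.app (F.obj M)`, then so do all right derived functors of `F`:
`(F.rightDerived n).map (τ.app M) = τ'.app ((F.rightDerived n).obj M)`.
-/

set_option autoImplicit false
universe v v' u u'

open CategoryTheory CategoryTheory.Limits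

namespace Groth.Agent.R2.H62.DerivedLinear

section homology

variable {D : Type u'} [Category.{v'} D] [Abelian D] {ι : Type*} {c : ComplexShape ι}

/-- An endomorphism of the identity functor, applied termwise to a complex. -/
@[simps]
def termwise (τ : 𝟭 D ⟶ 𝟭 D) (K : HomologicalComplex D c) : K ⟶ K where
  f k := τ.app (K.X k)
  comm' i j _ := (τ.naturality (K.d i j)).symm

/-- The termwise action of an endomorphism of the identity functor induces the same endomorphism on
homology. -/
theorem homologyMap_termwise (τ : 𝟭 D ⟶ 𝟭 D) (K : HomologicalComplex D c) (n : ι) :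
    HomologicalComplex.homologyMap (termwise τ K) n = τ.app (K.homology n) := by
  have hc : HomologicalComplex.cyclesMap (termwise τ K) n = τ.app (K.cycles n) := by
    rw [← cancel_mono (K.iCycles n), HomologicalComplex.cyclesMap_i]
    exact τ.naturality (K.iCycles n)
  rw [← cancel_epi (K.homologyπ n), HomologicalComplex.homologyπ_naturality, hc]
  exact (τ.naturality (K.homologyπ n)).symm

end homology

variable {C : Type u} [Category.{v} C] [Abelian C] [HasInjectiveResolutions C]
  {D : Type u'} [Category.{v'} D] [Abelian D]

/-- **Derived functors of linear functors are linear.** -/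
theorem rightDerived_map_app (F : C ⥤ D) [F.Additive] (τ : 𝟭 C ⟶ 𝟭 C) (τ' : 𝟭 D ⟶ 𝟭 D)
    (h : ∀ M : C, F.map (τ.app M) = τ'.app (F.obj M)) (n : ℕ) (M : C) :
    (F.rightDerived n).map (τ.app M) = τ'.app ((F.rightDerived n).obj M) := by
  let I : InjectiveResolution M := injectiveResolution M
  have comm : I.ι.f 0 ≫ (termwise τ I.cocomplex).f 0 = τ.app M ≫ I.ι.f 0 :=
    τ.naturality (I.ι.f 0)
  have h1 := InjectiveResolution.isoRightDerivedObj_hom_naturality (τ.app M) I I
    (termwise τ I.cocomplex) comm F n
  have h2 : (F.mapHomologicalComplex (ComplexShape.up ℕ)).map (termwise τ I.cocomplex) =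
      termwise τ' ((F.mapHomologicalComplex (ComplexShape.up ℕ)).obj I.cocomplex) := by
    ext k
    exact h (I.cocomplex.X k)
  rw [← cancel_mono (I.isoRightDerivedObj F n).hom, h1]
  change _ ≫ HomologicalComplex.homologyMap
    ((F.mapHomologicalComplex (ComplexShape.up ℕ)).map (termwise τ I.cocomplex)) n = _
  rw [h2, homologyMap_termwise]
  exact τ'.naturality (I.isoRightDerivedObj F n).hom

end Groth.Agent.R2.H62.DerivedLinear
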