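import Mathlib
import Groth.Prelude.Def_SGA1
import Groth.Agent.Lib.Helper4DVRSch

/-!
# Universally submersive morphisms and specializations (helper62)
-/

set_option autoImplicit false
set_option linter.style.haveILetI false
universe u

open CategoryTheory CategoryTheory.Limits AlgebraicGeometry

namespace Groth.Agent.R2.H62.HTop

set_option backward.isDefEq.respectTransparency.types false in
lemma locallyOfFiniteType_sigmaDesc {X : Scheme.{u}} {ι : Type u} {Y : ι → Scheme.{u}}
    {f : ∀ i, Y i ⟶ X} [∀ i, LocallyOfFiniteType (f i)] : LocallyOfFiniteType (Sigma.desc f) :=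
  IsZariskiLocalAtSource.sigmaDesc (fun _ ↦ inferInstance)

lemma essFiniteType_id (R : CommRingCat.{u}) : (𝟙 R : R ⟶ R).hom.EssFiniteType := by
  change (RingHom.id R).EssFiniteType
  unfold RingHom.EssFiniteType
  exact Algebra.EssFiniteType.of_id _

/-- A universally submersive morphism is surjective. -/
lemma surjective_of_univSubmersive {S X : Scheme.{u}} (g : S ⟶ X) (hg : SGA1.UnivSubmersive g) :
    Function.Surjective g :=
  (hg _ _ _ (IsPullback.id_vert g) : Topology.IsQuotientMap g).surjective

/-- A specialization in a coproduct of schemes takes place in one of the summands. -/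
lemma exists_specializes_sigma {ι : Type u} (Y : ι → Scheme.{u}) {a b : ↥(∐ Y)} (h : a ⤳ b) :
    ∃ (i : ι) (ξ v : Y i), ξ ⤳ v ∧ Sigma.ι Y i ξ = a ∧ Sigma.ι Y i v = b := by
  obtain ⟨i, v, hv'⟩ : ∃ (i : ι) (v : Y i), Sigma.ι Y i v = b := (sigmaOpenCover Y).exists_eq b
  have ha : a ∈ (Sigma.ι Y i).opensRange :=
    h.mem_open (Sigma.ι Y i).opensRange.2 ⟨v, hv'⟩
  obtain ⟨ξ, hξ⟩ := ha
  refine ⟨i, ξ, v, ?_, hξ, hv'⟩
  rw [← (Sigma.ι Y i).isOpenEmbedding.isInducing.specializes_iff, hξ, hv']
  exact h

/-- Over a discrete valuation ring, a universally submersive morphism locally of finite type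
lifts the specialization of the generic point to the closed point. -/
lemma exists_specializes_of_dvr (R : Type u) [CommRing R] [IsDomain R] [IsDiscreteValuationRing R]
    {S X : Scheme.{u}} (g : S ⟶ X) [LocallyOfFiniteType g] (hg : SGA1.UnivSubmersive g)
    (t : Spec (CommRingCat.of R) ⟶ X) :
    ∃ a b : S, a ⤳ b ∧ g a = t ⟨⊥, Ideal.isPrime_bot⟩ ∧ g b = t (IsLocalRing.closedPoint R) := by
  have hq : Topology.IsQuotientMap (pullback.snd g t) :=
    hg _ _ _ (IsPullback.of_hasPullback g t).flip
  let c : Spec (CommRingCat.of R) := IsLocalRing.closedPoint R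
  let η : Spec (CommRingCat.of R) := ⟨⊥, Ideal.isPrime_bot⟩
  have hηc : η ≠ c := by
    intro h
    have h1 : (⊥ : Ideal R) = IsLocalRing.maximalIdeal R := congrArg PrimeSpectrum.asIdeal h
    exact IsDiscreteValuationRing.not_a_field R h1.symm
  have hpts : ∀ q : Spec (CommRingCat.of R), q = η ∨ q = c := by
    intro q
    by_cases hq0 : q.asIdeal = ⊥
    · left
      exact PrimeSpectrum.ext hq0
    · right
      apply PrimeSpectrum.ext
      have hmax : q.asIdeal.IsMaximal := q.2.isMaximal hq0
      exact IsLocalRing.eq_maximalIdeal hmax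
  have hcl : IsClosed ({c} : Set (Spec (CommRingCat.of R))) :=
    IsLocalRing.isClosed_singleton_closedPoint R
  have hnopen : ¬ IsOpen ({c} : Set (Spec (CommRingCat.of R))) := by
    intro ho
    have : η ∈ ({c} : Set (Spec (CommRingCat.of R))) :=
      (IsLocalRing.specializes_closedPoint η).mem_open ho rfl
    exact hηc this
  let D : (Spec (CommRingCat.of R)).Opens := ⟨{c}ᶜ, hcl.isOpen_compl⟩
  let U : (pullback g t).Opens := (pullback.snd g t) ⁻¹ᵁ D
  have hU : Set.range U.ι = (pullback.snd g t) ⁻¹' {c}ᶜ := by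
    rw [Scheme.Opens.range_ι]
    rfl
  have hncl : ¬ IsClosed (Set.range U.ι) := by
    rw [hU, Set.preimage_compl, isClosed_compl_iff, hq.isOpen_preimage]
    exact hnopen
  obtain ⟨p, hp, hp'⟩ : ∃ p, p ∈ closure (Set.range U.ι) ∧ p ∉ Set.range U.ι := by
    by_contra hcon
    push Not at hcon
    exact hncl (closure_subset_iff_isClosed.1 hcon)
  obtain ⟨u, hu⟩ := Groth.Agent.Lib.Helper4.DVRSch.exists_specializes_of_mem_closure_range U.ι hp
  refine ⟨pullback.fst g t (U.ι u), pullback.fst g t p, hu.map (pullback.fst g t).continuous, ?_, ?_⟩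
  · rw [← Scheme.Hom.comp_apply, pullback.condition, Scheme.Hom.comp_apply]
    congr 1
    have hmem : U.ι u ∈ Set.range U.ι := ⟨u, rfl⟩
    rw [hU] at hmem
    exact (hpts _).resolve_right hmem
  · rw [← Scheme.Hom.comp_apply, pullback.condition, Scheme.Hom.comp_apply]
    congr 1
    rw [hU] at hp'
    by_contra hne
    exact hp' hne

end Groth.Agent.R2.H62.HTop
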