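import Mathlib
import Groth.Agent.R2.H62IntNum2
import Groth.Agent.R2.H62BinomBasis
import Groth.Agent.Lib.Helper23PB
import Groth.Agent.Lib.Helper23RestrTensor
import Groth.Agent.S3232
import Groth.Agent.S9705
import Groth.Prelude.Def_Pic13

/-!
# Top coefficients of Hilbert polynomials as intersection numbers (helper62)
-/

set_option autoImplicit false
universe u
open CategoryTheory CategoryTheory.Limits AlgebraicGeometry TopologicalSpace Opposite

namespace Groth.Agent.R2.H62.Snapper

open Groth.Agent.R2.H79.TwistCalc Groth.Agent.R2.H12.Dev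

section twist

variable (n : ℕ) (R : Type u) [CommRing R]

/-- `O(1)^{⊗ m} ≅ O(m)` on projective space -/
theorem nonempty_tensorPow_twistProjSpace_iso : ∀ m : ℕ,
    Nonempty (CohB1.tensorPow (Twist.twistProjSpace n R 1) m ≅ Twist.twistProjSpace n R (m : ℤ))
  | 0 => nonempty_twistProjSpace_zero_iso n R
  | m + 1 => by
    obtain ⟨e⟩ := nonempty_tensorPow_twistProjSpace_iso m
    obtain ⟨e'⟩ := nonempty_twistProjSpace_tensor_iso n R (m : ℤ) 1
    have h : ((m : ℤ) + 1) = ((m + 1 : ℕ) : ℤ) := by push_cast; rfl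
    exact ⟨tensorIsoRight e _ ≪≫ e' ≪≫ eqToIso (by rw [h])⟩

end twist

section main

variable (k : Type u) [Field k] {X : Scheme.{u}} [X.Over (Spec (CommRingCat.of k))]
  [IsProper (X ↘ (Spec (CommRingCat.of k)))]

/-- `intNum` only depends on the isomorphism class of the first entry -/
theorem intNum_cons_congr (d : ℕ) (hd : topologicalKrullDim X ≤ d) {r : ℕ} {N N' : X.Modules}
    (e : N ≅ N') (M : Fin r → X.Modules) (F : X.Modules) :
    FGA.intNum k X d (Fin.cons N M : Fin (r + 1) → X.Modules) F =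
      FGA.intNum k X d (Fin.cons N' M : Fin (r + 1) → X.Modules) F := by
  rw [intNum_cons k d hd, intNum_cons k d hd, intNum_congr k d hd M (tensorIsoRight e F)]

/-- `intNum (O_X, M) F = 0` -/
theorem intNum_cons_structure (d : ℕ) (hd : topologicalKrullDim X ≤ d) {r : ℕ}
    (M : Fin r → X.Modules) (F : X.Modules) :
    FGA.intNum k X d (Fin.cons (Coh.structureModule X) M : Fin (r + 1) → X.Modules) F = 0 := by
  rw [intNum_cons k d hd, intNum_congr k d hd M (tensorUnitLeftIso F), sub_self]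

/-- `(L'·M) = -(L·M)` for `L ⊗ L' ≅ O_X` in top degree -/
theorem intNum_cons_inverse (d : ℕ) (hd : topologicalKrullDim X ≤ d) {r : ℕ}
    (M : Fin r → X.Modules) (hM : ∀ i, PicF.IsInvertible (M i)) (L L' : X.Modules)
    (hL : PicF.IsInvertible L) (hL' : PicF.IsInvertible L')
    (e : CohB1.tensorMod L L' ≅ Coh.structureModule X)
    (F : X.Modules) (hF : Coh.IsCoh F) (hr : topologicalKrullDim (CohB1.support F) ≤ (r + 1 : ℕ)) :
    FGA.intNum k X d (Fin.cons L' M : Fin (r + 1) → X.Modules) F =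
      - FGA.intNum k X d (Fin.cons L M : Fin (r + 1) → X.Modules) F := by
  have h := Groth.Agent.S3232.result k X d hd M hM L L' hL hL' F hF hr
  rw [intNum_cons_congr k d hd e, intNum_cons_structure k d hd] at h
  linarith

end main

section hilb

variable (k : Type u) [Field k] {X : Scheme.{u}} [X.Over (Spec (CommRingCat.of k))]
  [IsProper (X ↘ (Spec (CommRingCat.of k)))]

open Groth.Agent.Lib.Helper23.PB Groth.Agent.Lib.Helper23.RestrTensor in
/-- `F(m) = F ⊗ i^* O(m) ≅ (i^* O(1))^{⊗ m} ⊗ F` -/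
theorem nonempty_twistOn_iso (n : ℕ) (i : X ⟶ CohB1.ProjSpace n k) (F : X.Modules) (m : ℕ) :
    Nonempty (Pic13.twistOn k i F (m : ℤ) ≅
      CohB1.tensorMod (CohB1.tensorPow ((Scheme.Modules.pullback i).obj (Twist.twistProjSpace n k 1)) m) F) := by
  obtain ⟨e1⟩ := nonempty_tensorPow_twistProjSpace_iso n k m
  obtain ⟨e2⟩ := nonempty_pullback_tensorPow_iso i (Twist.twistProjSpace n k 1)
    (isInvertible_twistProjSpace n k 1) m
  unfold Pic13.twistOn
  exact ⟨tensorIsoLeft F ((Scheme.Modules.pullback i).mapIso e1.symm ≪≫ e2) ≪≫ brdIso _ _⟩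

open Groth.Agent.Lib.Helper23.PB Groth.Agent.Lib.Helper23.RestrTensor in
/-- **top coefficients of Hilbert polynomials in the binomial basis** -/
theorem hilbertCoeff_top (n : ℕ) (i : X ⟶ CohB1.ProjSpace n k) (s : ℕ)
    (hdim : topologicalKrullDim X ≤ ((s + 1 : ℕ) : WithBot ℕ∞))
    (L L' : X.Modules) (hL : PicF.IsInvertible L)
    (hLL' : Nonempty (CohB1.tensorMod L L' ≅ Coh.structureModule X))
    (a e : Fin (s + 2) → ℤ)
    (ha : ∀ m : ℕ, FGA.eulerCharLE k X (Pic13.twistOn k i L m) (s + 1) =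
      ∑ j : Fin (s + 2), a j * ((m + j).choose j : ℤ))
    (he : ∀ m : ℕ, FGA.eulerCharLE k X (Pic13.twistOn k i (Coh.structureModule X) m) (s + 1) =
      ∑ j : Fin (s + 2), e j * ((m + j).choose j : ℤ)) :
    a (Fin.last (s + 1)) = e (Fin.last (s + 1)) ∧
      a (Fin.last (s + 1)) = FGA.intNum k X (s + 1)
        (fun _ : Fin (s + 1) => (Scheme.Modules.pullback i).obj (Twist.twistProjSpace n k (-1)))
        (Coh.structureModule X) ∧
      a (Fin.castSucc (Fin.last s)) - e (Fin.castSucc (Fin.last s)) = FGA.intNum k X (s + 1)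
        (Matrix.vecCons L' (fun _ : Fin s => (Scheme.Modules.pullback i).obj (Twist.twistProjSpace n k (-1))))
        (Coh.structureModule X) := by
  have hXN : IsNoetherian X := isNoetherian_of_isProper k
  obtain ⟨eLL'⟩ := hLL'
  have hL' : PicF.IsInvertible L' :=
    Groth.Agent.Lib.Helper2.TensorInv.isInvertible_of_tensor_iso L' L (brdIso L' L ≪≫ eLL')
  set N := (Scheme.Modules.pullback i).obj (Twist.twistProjSpace n k 1) with hNdef
  set N' := (Scheme.Modules.pullback i).obj (Twist.twistProjSpace n k (-1)) with hN'def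
  have hN : PicF.IsInvertible N := isInvertible_pullback i _ (isInvertible_twistProjSpace n k 1)
  have hN' : PicF.IsInvertible N' := isInvertible_pullback i _ (isInvertible_twistProjSpace n k (-1))
  have eNN'' : Nonempty (CohB1.tensorMod N N' ≅ Coh.structureModule X) := by
    obtain ⟨e1⟩ := nonempty_twistProjSpace_tensor_iso n k 1 (-1)
    obtain ⟨e0⟩ := nonempty_twistProjSpace_zero_iso n k
    exact ⟨(pullbackTensorIso _ _ i).symm ≪≫
      (Scheme.Modules.pullback i).mapIso (e1 ≪≫ eqToIso (by norm_num) ≪≫ e0.symm) ≪≫ pullbackUnitIso i⟩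
  obtain ⟨eNN'⟩ := eNN''
  have hO : Coh.IsCoh (Coh.structureModule X) := isCoh_structureModule' X
  have hLc : Coh.IsCoh L := by
    refine Groth.Agent.R2.H54.RelSerreA.isCoh_of_iso (tensorUnitLeftIso L) ?_
    exact isCoh_tensorMod _ L hO hL
  have hsO : topologicalKrullDim (CohB1.support (Coh.structureModule X)) ≤ ((s + 1 : ℕ) : WithBot ℕ∞) :=
    (topologicalKrullDim_subspace_le X _).trans hdim
  have hsL : topologicalKrullDim (CohB1.support L) ≤ ((s + 1 : ℕ) : WithBot ℕ∞) :=
    (topologicalKrullDim_subspace_le X _).trans hdim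
  -- the two expansions
  have hEO : ∀ m : ℕ, ∑ j : Fin (s + 2), e j * ((m + j).choose j : ℤ) =
      ∑ t ∈ Finset.range (s + 1 + 1), ((m + t - 1).choose t : ℤ) *
        FGA.intNum k X (s + 1) (fun _ : Fin t => N') (Coh.structureModule X) := by
    intro m
    rw [← he m, ← eulerCharLE_tensorPow_eq k (s + 1) hdim N N' hN ⟨eNN'⟩ _ hO (s + 1) hsO m]
    obtain ⟨e1⟩ := nonempty_twistOn_iso k n i (Coh.structureModule X) m
    rw [eulerCharLE_eq_euler k (s + 1) hdim, eulerCharLE_eq_euler k (s + 1) hdim, euler_congr k e1]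
  have hEL : ∀ m : ℕ, ∑ j : Fin (s + 2), a j * ((m + j).choose j : ℤ) =
      ∑ t ∈ Finset.range (s + 1 + 1), ((m + t - 1).choose t : ℤ) *
        FGA.intNum k X (s + 1) (fun _ : Fin t => N') L := by
    intro m
    rw [← ha m, ← eulerCharLE_tensorPow_eq k (s + 1) hdim N N' hN ⟨eNN'⟩ _ hLc (s + 1) hsL m]
    obtain ⟨e1⟩ := nonempty_twistOn_iso k n i L m
    rw [eulerCharLE_eq_euler k (s + 1) hdim, eulerCharLE_eq_euler k (s + 1) hdim, euler_congr k e1]
  obtain ⟨hO1, hO2⟩ := Groth.Agent.R2.H62.Binom.top_coeffs s e _ hEO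
  obtain ⟨hL1, hL2⟩ := Groth.Agent.R2.H62.Binom.top_coeffs s a _ hEL
  -- `intNum (N'^t) L` versus `intNum (N'^t) O`
  have hcons : ∀ t : ℕ, FGA.intNum k X (s + 1) (fun _ : Fin t => N') L =
      FGA.intNum k X (s + 1) (fun _ : Fin t => N') (Coh.structureModule X) -
        FGA.intNum k X (s + 1) (Fin.cons L (fun _ : Fin t => N') : Fin (t + 1) → X.Modules)
          (Coh.structureModule X) := by
    intro t
    have eLO : CohB1.tensorMod L (Coh.structureModule X) ≅ L := tensorRightFUnit.app L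
    rw [intNum_cons k (s + 1) hdim, intNum_congr k (s + 1) hdim _ eLO]
    ring
  have hvan : FGA.intNum k X (s + 1) (Fin.cons L (fun _ : Fin (s + 1) => N') : Fin (s + 1 + 1) → X.Modules)
      (Coh.structureModule X) = 0 := by
    refine intNum_eq_zero k (s + 1) hdim _ (fun j => ?_) _ hO ?_
    · refine Fin.cases ?_ (fun _ => ?_) j
      · exact hL
      · exact hN'
    · exact lt_of_le_of_lt hsO (by exact_mod_cast Nat.lt_succ_self (s + 1))
  have hinv := intNum_cons_inverse k (s + 1) hdim (fun _ : Fin s => N') (fun _ => hN') L L' hL hL' eLL'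
    _ hO hsO
  have hA := hcons (s + 1)
  rw [hvan, sub_zero] at hA
  have hB := hcons s
  refine ⟨?_, ?_, ?_⟩
  · rw [← hL1, ← hO1, hA]
  · rw [← hL1, hA]
  · have h3 : a (Fin.castSucc (Fin.last s)) - e (Fin.castSucc (Fin.last s)) =
        FGA.intNum k X (s + 1) (fun _ : Fin s => N') L -
          FGA.intNum k X (s + 1) (fun _ : Fin s => N') (Coh.structureModule X) := by
      have : a (Fin.last (s + 1)) = e (Fin.last (s + 1)) := by rw [← hL1, ← hO1, hA]
      rw [hL2, hO2]
      linarith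
    rw [h3, hB]
    change _ = FGA.intNum k X (s + 1) (Fin.cons L' (fun _ : Fin s => N') : Fin (s + 1) → X.Modules) _
    rw [hinv]
    ring

end hilb

end Groth.Agent.R2.H62.Snapper
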