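import Mathlib
import Groth.Prelude.Def_SpSeq
import Groth.Agent.R2.H15EulerSS

/-!
# Euler characteristic of the abutment of a spectral sequence of modules (helper62)

For an `E₂` cohomological spectral sequence of `A`-modules whose second page has finite length terms,
zero outside a finite set `s` of bidegrees, and abutment data `a : SpSeq.Abutment E H` with all
filtrations finite:
`∑ᶠ n, (-1)^n ℓ(H n) = ∑_{(p,q) ∈ s} (-1)^{p+q} ℓ(E₂^{pq})` (`euler_abutment`).
-/

set_option autoImplicit false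
universe u

open CategoryTheory CategoryTheory.Limits

namespace Groth.Agent.R2.H62.Leray

variable {A : Type u} [Ring A]

/-- the integer length of a module -/
noncomputable def ell (M : ModuleCat.{u} A) : ℤ := ((Module.length A M).toNat : ℤ)

lemma ell_eq_zero_of_isZero {M : ModuleCat.{u} A} (h : IsZero M) : ell M = 0 := by
  haveI : Subsingleton M := ModuleCat.subsingleton_of_isZero h
  unfold ell
  rw [Module.length_eq_zero]
  rfl

lemma ell_congr {M N : ModuleCat.{u} A} (e : M ≅ N) : ell M = ell N := by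
  unfold ell
  rw [e.toLinearEquiv.length_eq]

lemma isFiniteLength_congr {M N : ModuleCat.{u} A} (e : M ≅ N) (h : IsFiniteLength A M) :
    IsFiniteLength A N := by
  rw [← Module.length_ne_top_iff] at h ⊢
  rwa [← e.toLinearEquiv.length_eq]

lemma isFiniteLength_of_isZero {M : ModuleCat.{u} A} (h : IsZero M) : IsFiniteLength A M := by
  haveI : Subsingleton M := ModuleCat.subsingleton_of_isZero h
  rw [← Module.length_ne_top_iff, Module.length_eq_zero]
  exact ENat.zero_ne_top

/-- length is additive on short exact sequences -/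
lemma length_shortExact (S : ShortComplex (ModuleCat.{u} A)) (hS : S.ShortExact) :
    Module.length A S.X₂ = Module.length A S.X₁ + Module.length A S.X₃ :=
  Module.length_eq_add_of_exact S.f.hom S.g.hom
    ((ModuleCat.mono_iff_injective _).1 hS.mono_f) ((ModuleCat.epi_iff_surjective _).1 hS.epi_g)
    ((ShortComplex.ShortExact.moduleCat_exact_iff_function_exact _).1 hS.exact)

lemma ell_shortExact (S : ShortComplex (ModuleCat.{u} A)) (hS : S.ShortExact)
    (h1 : IsFiniteLength A S.X₁) (h3 : IsFiniteLength A S.X₃) :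
    IsFiniteLength A S.X₂ ∧ ell S.X₂ = ell S.X₁ + ell S.X₃ := by
  have h := length_shortExact S hS
  rw [← Module.length_ne_top_iff] at h1 h3 ⊢
  refine ⟨?_, ?_⟩
  · rw [h]
    exact WithTop.add_ne_top.2 ⟨h1, h3⟩
  · unfold ell
    rw [h, ENat.toNat_add h1 h3]
    push_cast
    rfl

section filtration

variable {X : ModuleCat.{u} A} (F : ℤ → Subobject X) (hF : Antitone F)

include hF in
/-- the step short exact sequence `0 → F (p+1) → F p → gr p → 0` -/
lemma step_shortExact (p : ℤ) :
    (ShortComplex.mk ((F (p + 1)).ofLE (F p) (hF (Int.le_add_one le_rfl)))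
      (cokernel.π _) (cokernel.condition _)).ShortExact :=
  { exact := ShortComplex.exact_cokernel _
    mono_f := inferInstanceAs (Mono (Subobject.ofLE _ _ _))
    epi_g := inferInstanceAs (Epi (cokernel.π _)) }

lemma isZero_grPiece_of_eq_bot (p : ℤ) (h : F p = ⊥) : IsZero (SpSeq.grPiece F hF p) := by
  have hz : IsZero ((F p : Subobject X) : ModuleCat.{u} A) := by
    rw [h]
    exact IsZero.of_iso (isZero_zero _) Subobject.botCoeIsoZero
  have : Epi (cokernel.π ((F (p + 1)).ofLE (F p) (hF (Int.le_add_one le_rfl)))) := inferInstance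
  refine (IsZero.iff_id_eq_zero _).2 ?_
  change 𝟙 (cokernel ((F (p + 1)).ofLE (F p) (hF (Int.le_add_one le_rfl)))) = 0
  rw [← cancel_epi (cokernel.π ((F (p + 1)).ofLE (F p) (hF (Int.le_add_one le_rfl))))]
  exact hz.eq_of_src _ _

lemma isZero_grPiece_of_eq_top (p : ℤ) (h : F (p + 1) = ⊤) : IsZero (SpSeq.grPiece F hF p) := by
  have hp : F p = ⊤ := top_le_iff.1 (h ▸ hF (Int.le_add_one le_rfl))
  have hiso : IsIso ((F (p + 1)).ofLE (F p) (hF (Int.le_add_one le_rfl))) := by
    have h1 : IsIso (F (p + 1)).arrow := by rw [h]; infer_instance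
    have h2 : IsIso (F p).arrow := by rw [hp]; infer_instance
    have h3 : (F (p + 1)).ofLE (F p) (hF (Int.le_add_one le_rfl)) ≫ (F p).arrow =
        (F (p + 1)).arrow := Subobject.ofLE_arrow _
    exact IsIso.of_isIso_fac_right h3
  have : Epi ((F (p + 1)).ofLE (F p) (hF (Int.le_add_one le_rfl))) := inferInstance
  exact isZero_cokernel_of_epi _

/-- A finitely filtered module with finite length graded pieces has finite length, equal to the sum
of the lengths of the graded pieces. -/
theorem ell_of_finite_filtration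
    (hfin : (∃ a : ℤ, F a = ⊤) ∧ ∃ b : ℤ, F b = ⊥)
    (hgr : ∀ p : ℤ, IsFiniteLength A (SpSeq.grPiece F hF p : ModuleCat.{u} A)) :
    IsFiniteLength A X ∧ ell X = ∑ᶠ p : ℤ, ell (SpSeq.grPiece F hF p) := by
  obtain ⟨⟨a₀, ha₀⟩, ⟨b, hb⟩⟩ := hfin
  -- wlog a ≤ b
  obtain ⟨a, ha, hab⟩ : ∃ a : ℤ, F a = ⊤ ∧ a ≤ b :=
    ⟨min a₀ b, top_le_iff.1 (ha₀ ▸ hF (min_le_left _ _)), min_le_right _ _⟩
  have step : ∀ k : ℕ, IsFiniteLength A ((F (b - k) : Subobject X) : ModuleCat.{u} A) ∧
      ell ((F (b - k) : Subobject X) : ModuleCat.{u} A) =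
        ∑ p ∈ Finset.Ico (b - k) b, ell (SpSeq.grPiece F hF p) := by
    intro k
    induction k with
    | zero =>
      have hz : IsZero ((F (b - (0 : ℕ)) : Subobject X) : ModuleCat.{u} A) := by
        have : F (b - (0 : ℕ)) = ⊥ := by simpa using hb
        rw [this]
        exact IsZero.of_iso (isZero_zero _) Subobject.botCoeIsoZero
      refine ⟨isFiniteLength_of_isZero hz, ?_⟩
      rw [ell_eq_zero_of_isZero hz]
      simp
    | succ k ih =>
      have heq : b - ((k + 1 : ℕ) : ℤ) + 1 = b - (k : ℤ) := by push_cast; ring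
      have hS := step_shortExact F hF (b - ((k + 1 : ℕ) : ℤ))
      have h1 : IsFiniteLength A ((F (b - ((k + 1 : ℕ) : ℤ) + 1) : Subobject X) : ModuleCat.{u} A) ∧
          ell ((F (b - ((k + 1 : ℕ) : ℤ) + 1) : Subobject X) : ModuleCat.{u} A) =
            ∑ p ∈ Finset.Ico (b - (k : ℤ)) b, ell (SpSeq.grPiece F hF p) := by
        rw [heq]
        exact ih
      obtain ⟨h2, h3⟩ := ell_shortExact _ hS h1.1 (hgr _)
      refine ⟨h2, ?_⟩
      rw [h3]
      change ell ((F (b - ((k + 1 : ℕ) : ℤ) + 1) : Subobject X) : ModuleCat.{u} A) +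
        ell (SpSeq.grPiece F hF (b - ((k + 1 : ℕ) : ℤ))) = _
      rw [h1.2]
      have hIco : Finset.Ico (b - ((k + 1 : ℕ) : ℤ)) b =
          insert (b - ((k + 1 : ℕ) : ℤ)) (Finset.Ico (b - (k : ℤ)) b) := by
        ext x
        simp only [Finset.mem_Ico, Finset.mem_insert]
        push_cast
        omega
      rw [hIco, Finset.sum_insert (by simp only [Finset.mem_Ico]; push_cast; omega)]
      ring
  obtain ⟨k, hk⟩ : ∃ k : ℕ, b - k = a :=
    ⟨(b - a).toNat, by rw [Int.toNat_of_nonneg (by omega)]; ring⟩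
  obtain ⟨h1, h2⟩ := step k
  rw [hk] at h1 h2
  have e : ((F a : Subobject X) : ModuleCat.{u} A) ≅ X := by
    haveI : IsIso (F a).arrow := by rw [ha]; infer_instance
    exact asIso (F a).arrow
  refine ⟨isFiniteLength_congr e h1, ?_⟩
  rw [← ell_congr e, h2]
  symm
  apply finsum_eq_finsetSum_of_support_subset
  intro p hp
  by_contra hn
  apply hp
  simp only [Finset.coe_Ico, Set.mem_Ico, not_and, not_lt] at hn
  apply ell_eq_zero_of_isZero
  by_cases h : a ≤ p
  · exact isZero_grPiece_of_eq_bot F hF p (le_bot_iff.1 (hb ▸ hF (hn h)))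
  · exact isZero_grPiece_of_eq_top F hF p (top_le_iff.1 (ha ▸ hF (by omega)))

end filtration

section pages

variable {C : Type*} [Category C] [Abelian C] {r₀ : ℤ}

/-- on the stationary range, the pages at `pq` are all isomorphic -/
theorem nonempty_page_iso_of_stationaryAt (E : CohomologicalSpectralSequence C r₀) (pq : ℤ × ℤ)
    (r : ℤ) (h : SpSeq.StationaryAt E pq r) (r' : ℤ) (hr' : r ≤ r') :
    Nonempty ((E.page r' (h.1.trans hr')).X pq ≅ (E.page r h.1).X pq) := by
  induction r', hr' using Int.leInduction with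
  | base => exact ⟨Iso.refl _⟩
  | succ r' hr' ih =>
    obtain ⟨e⟩ := ih
    obtain ⟨h1, h2⟩ := h.2 r' (h.1.trans hr') hr'
    let K := E.page r' (h.1.trans hr')
    have hprev : (ComplexShape.up' (r', 1 - r')).prev pq = pq - (r', 1 - r') :=
      Groth.Agent.R2.H15.EulerSS.prev_eq _ _
    have hnext : (ComplexShape.up' (r', 1 - r')).next pq = pq + (r', 1 - r') :=
      Groth.Agent.R2.H15.EulerSS.next_eq _ _
    let e1 : K.cycles pq ≅ K.homology pq := K.isoHomologyπ _ pq hprev h1
    let e2 : K.cycles pq ≅ K.X pq := K.iCyclesIso pq _ hnext h2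
    exact ⟨(E.iso r' (r' + 1) pq rfl (h.1.trans hr')).symm ≪≫ e1.symm ≪≫ e2 ≪≫ e⟩

end pages

open Groth.Agent.R2.H15.EulerSS in
/-- **Euler characteristic of the abutment.** -/
theorem euler_abutment (E : E₂CohomologicalSpectralSequence (ModuleCat.{u} A))
    (H : ℤ → ModuleCat.{u} A) (a : SpSeq.Abutment E H) (hfin : ∀ n, a.IsFinite n)
    (s : Finset (ℤ × ℤ))
    (hs : ∀ pq : ℤ × ℤ, pq ∉ s → IsZero ((E.page 2).X pq))
    (hfl : ∀ pq : ℤ × ℤ, IsFiniteLength A ((E.page 2).X pq)) :
    (∀ n, IsFiniteLength A (H n)) ∧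
    (∑ᶠ n : ℤ, ((n.negOnePow : ℤˣ) : ℤ) * ell (H n)) =
      s.sum fun pq => eps pq * ell ((E.page 2).X pq) := by
  -- a common page
  obtain ⟨R, hR⟩ := (insert (2 : ℤ) (s.image a.rk)).exists_le
  have hR2 : 2 ≤ R := hR 2 (Finset.mem_insert_self _ _)
  have hRs : ∀ pq ∈ s, a.rk pq ≤ R := fun pq hpq =>
    hR _ (Finset.mem_insert_of_mem (Finset.mem_image_of_mem _ hpq))
  obtain ⟨hz, hf, hsum⟩ := euler_pages E s hs hfl R hR2
  -- the limit terms
  set lam : ℤ × ℤ → ℤ := fun pq => ell ((E.page R hR2).X pq) with hlam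
  have hlam0 : ∀ pq, pq ∉ s → lam pq = 0 := fun pq hpq => ell_eq_zero_of_isZero (hz pq hpq)
  -- graded pieces
  have hgr : ∀ pq : ℤ × ℤ,
      IsFiniteLength A (SpSeq.grPiece (a.fil (pq.1 + pq.2)) (a.anti (pq.1 + pq.2)) pq.1 : ModuleCat.{u} A) ∧
      ell (SpSeq.grPiece (a.fil (pq.1 + pq.2)) (a.anti (pq.1 + pq.2)) pq.1) = lam pq := by
    intro pq
    by_cases hpq : pq ∈ s
    · obtain ⟨e⟩ := nonempty_page_iso_of_stationaryAt E pq (a.rk pq) (a.stat pq) R (hRs pq hpq)
      exact ⟨isFiniteLength_congr (e ≪≫ a.β pq) (hf pq), (ell_congr (e ≪≫ a.β pq)).symm⟩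
    · have h2 : IsZero ((E.page (a.rk pq) (a.stat pq).1).X pq) :=
        (euler_pages E s hs hfl (a.rk pq) (a.stat pq).1).1 pq hpq
      have h3 := IsZero.of_iso h2 (a.β pq).symm
      exact ⟨isFiniteLength_of_isZero h3, by rw [ell_eq_zero_of_isZero h3, hlam0 pq hpq]⟩
  have hgr' : ∀ (n p : ℤ),
      IsFiniteLength A (SpSeq.grPiece (a.fil n) (a.anti n) p : ModuleCat.{u} A) ∧
      ell (SpSeq.grPiece (a.fil n) (a.anti n) p) = lam (p, n - p) := by
    intro n p
    have key : ∀ (m : ℤ) (_ : m = n),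
        (IsFiniteLength A (SpSeq.grPiece (a.fil m) (a.anti m) p : ModuleCat.{u} A) ∧
          ell (SpSeq.grPiece (a.fil m) (a.anti m) p) = lam (p, n - p)) →
        (IsFiniteLength A (SpSeq.grPiece (a.fil n) (a.anti n) p : ModuleCat.{u} A) ∧
          ell (SpSeq.grPiece (a.fil n) (a.anti n) p) = lam (p, n - p)) := by
      intro m hm h
      subst hm
      exact h
    exact key _ (by ring) (hgr (p, n - p))
  have hH : ∀ n, IsFiniteLength A (H n) ∧ ell (H n) = ∑ᶠ p : ℤ, lam (p, n - p) := by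
    intro n
    obtain ⟨h1, h2⟩ := ell_of_finite_filtration (a.fil n) (a.anti n) (hfin n)
      (fun p => (hgr' n p).1)
    refine ⟨h1, ?_⟩
    rw [h2]
    exact finsum_congr fun p => (hgr' n p).2
  refine ⟨fun n => (hH n).1, ?_⟩
  have hsum' : (s.sum fun pq => eps pq * ell ((E.page R hR2).X pq)) =
      s.sum fun pq => eps pq * ell ((E.page 2).X pq) := hsum
  rw [← hsum']
  -- reindexing
  let φ : ℤ × ℤ ≃ ℤ × ℤ :=
    { toFun := fun np => (np.2, np.1 - np.2)
      invFun := fun pq => (pq.1 + pq.2, pq.1)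
      left_inv := fun np => by ext <;> simp
      right_inv := fun pq => by ext <;> simp }
  set g : ℤ × ℤ → ℤ := fun pq => eps pq * lam pq with hg
  have hgs : Function.support g ⊆ (s : Set (ℤ × ℤ)) := by
    intro pq hpq
    by_contra hn
    apply hpq
    simp only [hg]
    rw [hlam0 pq hn, mul_zero]
  have hgfin : (Function.support g).Finite := s.finite_toSet.subset hgs
  have h1 : (s.sum fun pq => eps pq * ell ((E.page R hR2).X pq)) = ∑ᶠ pq, g pq :=
    (finsum_eq_finsetSum_of_support_subset _ hgs).symm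
  rw [h1, ← finsum_comp_equiv φ]
  have hfin2 : (Function.support fun np : ℤ × ℤ => g (φ np)).Finite := by
    have : (Function.support fun np : ℤ × ℤ => g (φ np)) = φ ⁻¹' (Function.support g) := rfl
    rw [this]
    exact hgfin.preimage (φ.injective.injOn)
  rw [finsum_curry _ hfin2]
  refine finsum_congr fun n => ?_
  rw [(hH n).2]
  rw [mul_finsum]
  refine finsum_congr fun p => ?_
  change _ = eps (p, n - p) * lam (p, n - p)
  congr 1
  unfold eps
  simp

end Groth.Agent.R2.H62.Leray
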