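import Mathlib
import Groth.Agent.Lib.Helper21GSS
import Groth.Agent.Lib.Helper21DerPost
import Groth.Agent.Lib.Helper21RelExtSS
import Groth.Agent.Lib.Helper21ModCoh
import Groth.Agent.Lib.Helper23SectCmpLib
import Groth.Agent.R2.H62RpushCoh
import Groth.Agent.R2.H28RpushRestrict

/-!
# The functors of the Leray spectral sequence over a field (helper62)

* `ΓSpec k : (Spec k).Modules ⥤ ModuleCat k`, global sections over the one-point scheme `Spec k`; it is
  exact (`preservesHomology_ΓSpec`).
* `isFlasque_of_injective`: injective `O`-modules are flasque.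
* `secLinearEquiv`: `ΓSpec (R^p g_* M) ≃ₗ[k] H^p(X, M)` for `g : X ⟶ Spec k` qcqs and `M` quasi-coherent.
-/

set_option autoImplicit false
universe u

open CategoryTheory CategoryTheory.Limits AlgebraicGeometry Opposite TopologicalSpace

namespace Groth.Agent.R2.H62.Leray

variable (k : Type u) [Field k]

/-- the ring map `k → Γ(Spec k, O)` -/
noncomputable def ρk : k →+* Coh.Γtop (Spec (CommRingCat.of k)) :=
  (Scheme.ΓSpecIso (CommRingCat.of k)).inv.hom

/-- global sections on `Spec k`, as `k`-vector spaces (sheaf-of-modules version) -/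
noncomputable def ΓSpec' :
    SheafOfModules.{u} (Spec (CommRingCat.of k)).ringCatSheaf ⥤ ModuleCat.{u} k :=
  SheafOfModules.evaluation.{u} (Spec (CommRingCat.of k)).ringCatSheaf (op ⊤) ⋙
    ModuleCat.restrictScalars.{u} (ρk k)

/-- global sections on `Spec k`, as `k`-vector spaces -/
noncomputable def ΓSpec : (Spec (CommRingCat.of k)).Modules ⥤ ModuleCat.{u} k := ΓSpec' k

instance : (SheafOfModules.evaluation.{u} (Spec (CommRingCat.of k)).ringCatSheaf (op ⊤)).Additive := by
  unfold SheafOfModules.evaluation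
  infer_instance

instance : (ΓSpec' k).Additive := by
  unfold ΓSpec'
  infer_instance

instance : (ΓSpec k).Additive := inferInstanceAs (ΓSpec' k).Additive

omit k in
lemma restrictScalars_map_exact' {R R' : Type u} [Ring R] [Ring R'] (f : R →+* R')
    (S : ShortComplex (ModuleCat.{u} R')) (h : S.Exact) :
    (S.map (ModuleCat.restrictScalars.{u} f)).Exact := by
  rw [ShortComplex.ShortExact.moduleCat_exact_iff_function_exact] at h ⊢
  exact h

omit k in
lemma preservesFiniteLimits_restrictScalars' {R R' : Type u} [Ring R] [Ring R'] (f : R →+* R') :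
    PreservesFiniteLimits (ModuleCat.restrictScalars.{u} f) := by
  have := ((Functor.exact_tfae (ModuleCat.restrictScalars.{u} f)).out 1 3).mp
    (restrictScalars_map_exact' f)
  exact this.1

instance : PreservesFiniteLimits (ΓSpec' k) := by
  unfold ΓSpec'
  haveI := preservesFiniteLimits_restrictScalars' (ρk k)
  exact comp_preservesFiniteLimits _ _

instance : PreservesFiniteLimits (ΓSpec k) := inferInstanceAs (PreservesFiniteLimits (ΓSpec' k))

/-- the only open of `Spec k` containing a point is `⊤` -/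
theorem opens_eq_top (W : (Spec (CommRingCat.of k)).Opens) (y : Spec (CommRingCat.of k))
    (hy : y ∈ W) : W = ⊤ := by
  haveI : Subsingleton (Spec (CommRingCat.of k)) :=
    inferInstanceAs (Subsingleton (PrimeSpectrum k))
  ext z
  simp only [Opens.coe_top, Set.mem_univ, iff_true]
  rw [Subsingleton.elim z y]
  exact hy

/-- epimorphisms of modules on `Spec k` are surjective on global sections -/
theorem surjective_app_top {M N : (Spec (CommRingCat.of k)).Modules} (φ : M ⟶ N) [Epi φ] :
    Function.Surjective (φ.app ⊤) := by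
  intro t
  haveI : Nonempty (Spec (CommRingCat.of k)) :=
    inferInstanceAs (Nonempty (PrimeSpectrum k))
  obtain ⟨y⟩ := ‹Nonempty (Spec (CommRingCat.of k))›
  obtain ⟨W, hWV, hyW, s, hs⟩ :=
    Groth.Agent.Lib.Helper23.SectCmpLib.exists_local_lift φ ⊤ t y trivial
  obtain rfl := opens_eq_top k W y hyW
  refine ⟨s, ?_⟩
  rw [hs]
  have : (homOfLE hWV).op = 𝟙 (op (⊤ : (Spec (CommRingCat.of k)).Opens)) := rfl
  rw [this, N.presheaf.map_id]
  rfl

instance : (ΓSpec k).PreservesEpimorphisms where
  preserves {M N} φ hφ := by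
    rw [ModuleCat.epi_iff_surjective]
    exact surjective_app_top k φ

/-- `ΓSpec` is exact -/
instance preservesHomology_ΓSpec : (ΓSpec k).PreservesHomology := by
  have h : ∀ S : ShortComplex (Spec (CommRingCat.of k)).Modules, S.ShortExact →
      (S.map (ΓSpec k)).ShortExact := by
    intro S hS
    have h0 : PreservesFiniteLimits (ΓSpec k) := inferInstance
    have h1 := (Functor.preservesFiniteLimits_iff_forall_exact_map_and_mono (ΓSpec k)).1 h0 S hS
    haveI := hS.epi_g
    exact
      { exact := h1.1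
        mono_f := h1.2
        epi_g := inferInstanceAs (Epi ((ΓSpec k).map S.g)) }
  exact ((Functor.exact_tfae (ΓSpec k)).out 0 2).1 h

/-- injective modules are flasque -/
theorem isFlasque_of_injective {Y : Scheme.{u}} (Q : Y.Modules) [Injective Q] :
    TopCat.Sheaf.IsFlasque (Coh.toAb Q) := by
  apply Groth.Agent.Lib.Helper21.RelExtSS.isFlasque_of_isTotallyAcyclic
  intro K p
  exact ⟨fun x y =>
    (@Groth.Agent.Lib.Helper21.FreeAb.ext_toSheaf_eq_zero _ _ _ Y.ringCatSheaf Q ‹_› p _
      (Groth.Agent.Lib.Helper21.TorsFree.TF_freeAb K) x).trans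
    (@Groth.Agent.Lib.Helper21.FreeAb.ext_toSheaf_eq_zero _ _ _ Y.ringCatSheaf Q ‹_› p _
      (Groth.Agent.Lib.Helper21.TorsFree.TF_freeAb K) y).symm⟩

section sec

variable {k}
variable {X : Scheme.{u}} [X.Over (Spec (CommRingCat.of k))]
  [QuasiCompact (X ↘ Spec (CommRingCat.of k))] [QuasiSeparated (X ↘ Spec (CommRingCat.of k))]
  (M : X.Modules) [M.IsQuasicoherent] (p : ℕ)

/-- `Γ(Spec k, R^p g_* M) ≃ₗ[k] H^p(X, M)` -/
noncomputable def secLinearEquiv :
    (ΓSpec k).obj ((Coh.Rpush (X ↘ Spec (CommRingCat.of k)) p).obj M) ≃ₗ[k] Coh.HH X M p := by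
  let g := X ↘ Spec (CommRingCat.of k)
  let e : ((ΓSpec k).obj ((Coh.Rpush g p).obj M)) ≃+ Coh.HH X M p :=
    Groth.Agent.R2.H62.RpushCoh.secEquiv g M p
  refine e.toLinearEquiv ?_
  intro c y
  have h1 := Groth.Agent.R2.H62.RpushCoh.secEquiv_smul g M p (ρk k c) y
  rw [Coh.smulAb_app] at h1
  have h2 : Coh.resTop (Spec (CommRingCat.of k)) (op ⊤) (ρk k c) = ρk k c := by
    change ((Spec (CommRingCat.of k)).ringCatSheaf.obj.map (𝟙 (op ⊤))).hom (ρk k c) = ρk k c
    rw [CategoryTheory.Functor.map_id]
    rfl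
  rw [h2] at h1
  exact h1

end sec

end Groth.Agent.R2.H62.Leray
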