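import Mathlib
import Groth.Agent.R2.H62LerayEuler
import Groth.Agent.R2.H62LerayFun
import Groth.Agent.R2.H62RpushCoh2
import Groth.Agent.R2.H62CohEuler
import Groth.Agent.R2.H62CurveCore
import Groth.Agent.S0002
import Groth.Agent.S0031
import Groth.Agent.Lib.Helper23ModAbBridge

/-!
# `χ(Y, G) = Σ (-1)^i χ(X, R^i f_* G)` (helper62)

For `f : Y ⟶ X` a morphism of proper schemes over a field `k` and `G` coherent on `Y`
(`euler_leray`, = frozen `S1525`), from the Grothendieck spectral sequence of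
`Γ(Spec k, (X ↘ Spec k)_* -) ∘ f_*` and the Euler characteristic of its abutment.
-/

set_option autoImplicit false
set_option linter.style.haveILetI false
universe u

open CategoryTheory CategoryTheory.Limits AlgebraicGeometry Opposite TopologicalSpace
open scoped ZeroObject

namespace Groth.Agent.R2.H62.Leray

variable (k : Type u) [Field k]

lemma ell_of (V : Type u) [AddCommGroup V] [Module k V] :
    ell (ModuleCat.of k V) = (Module.finrank k V : ℤ) := by
  unfold ell
  rw [Module.length_eq_rank]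
  congr 1

lemma isFiniteLength_of (V : Type u) [AddCommGroup V] [Module k V] [Module.Finite k V] :
    IsFiniteLength k (ModuleCat.of k V) := by
  rw [← Module.length_ne_top_iff]
  change Module.length k V ≠ ⊤
  rw [Module.length_eq_finrank]
  exact ENat.natCast_ne_top _

/-- higher direct images of quasi-coherent modules along a qcqs morphism to a quasi-compact scheme
vanish in large degrees -/
theorem exists_bound_Rpush {Y X : Scheme.{u}} (f : Y ⟶ X) [QuasiCompact f] [QuasiSeparated f]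
    [CompactSpace X] [HasInjectiveResolutions Y.Modules] :
    ∃ n : ℕ, ∀ (M : Y.Modules), M.IsQuasicoherent → ∀ p : ℕ, n ≤ p →
      IsZero ((Coh.Rpush f p).obj M) := by
  obtain ⟨n, hn⟩ := Groth.Agent.S0031.result f
  refine ⟨n, fun M hM p hp => ?_⟩
  apply Groth.Agent.Lib.Helper21.RelExtSS.isZero_of_isZero_toAb
  obtain ⟨e⟩ := Groth.Agent.Lib.Helper23.ModAbBridge.nonempty_toAb_Rpush_iso f M p
  exact IsZero.of_iso (hn M hM p hp) e

section main

variable {k}
variable {X Y : Scheme.{u}} [X.Over (Spec (CommRingCat.of k))] [Y.Over (Spec (CommRingCat.of k))]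
  [IsProper (X ↘ Spec (CommRingCat.of k))] [IsProper (Y ↘ Spec (CommRingCat.of k))]
  (f : Y ⟶ X) (hf : f ≫ (X ↘ Spec (CommRingCat.of k)) = Y ↘ Spec (CommRingCat.of k))
  [HasInjectiveResolutions Y.Modules]

/-- the first functor -/
noncomputable abbrev Tf : Y.Modules ⥤ X.Modules := Scheme.Modules.pushforward f

variable (k X) in
/-- the second functor: global sections over `Spec k` of the direct image -/
noncomputable abbrev Sf : X.Modules ⥤ ModuleCat.{u} k :=
  Scheme.Modules.pushforward (X ↘ Spec (CommRingCat.of k)) ⋙ ΓSpec k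

omit [IsProper (X ↘ Spec (CommRingCat.of k))] in
/-- `R^p S` on quasi-coherent modules is `H^p` -/
theorem nonempty_Sf_rightDerived_iso [QuasiCompact (X ↘ Spec (CommRingCat.of k))]
    [QuasiSeparated (X ↘ Spec (CommRingCat.of k))] (M : X.Modules) [M.IsQuasicoherent] (p : ℕ) :
    Nonempty (((Sf k X).rightDerived p).obj M ≅ ModuleCat.of k (Coh.HH X M p)) := by
  let e := (Groth.Agent.Lib.Helper21.DerPost.postIso
    (Scheme.Modules.pushforward (X ↘ Spec (CommRingCat.of k))) (ΓSpec k) p).app M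
  exact ⟨e ≪≫ (secLinearEquiv M p).toModuleIso⟩

include hf in
/-- the composite `S ∘ T` is `Γ(Spec k, (Y ↘ Spec k)_* -)` -/
theorem nonempty_comp_iso : Nonempty (Tf f ⋙ Sf k X ≅ Sf k Y) := by
  refine ⟨(Functor.associator _ _ _).symm ≪≫
    Functor.isoWhiskerRight (Scheme.Modules.pushforwardComp f (X ↘ Spec (CommRingCat.of k))) (ΓSpec k)
      ≪≫ eqToIso ?_⟩
  rw [hf]

omit [IsProper (X ↘ Spec (CommRingCat.of k))] in
/-- the Euler characteristic as a finite sum -/
lemma euler_eq_sum_range (M : X.Modules) (N : ℕ)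
    (hvan : ∀ i, N ≤ i → Subsingleton (Coh.HH X M i)) :
    Curv2.euler k X M = ∑ i ∈ Finset.range N, (-1 : ℤ) ^ i * (Module.finrank k (Coh.HH X M i) : ℤ) := by
  unfold Curv2.euler
  apply finsum_eq_sum_of_support_subset
  intro i hi
  rw [Function.mem_support] at hi
  rw [Finset.coe_range, Set.mem_Iio]
  by_contra hcon
  apply hi
  haveI := hvan i (by omega)
  rw [Module.finrank_zero_of_subsingleton]
  simp

omit [IsProper (X ↘ Spec (CommRingCat.of k))] in
lemma subsingleton_HH_of_isZero {M : X.Modules} (hM : IsZero M) (p : ℕ) :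
    Subsingleton (Coh.HH X M p) :=
  Sheaf.subsingleton_H_of_isZero
    (Functor.map_isZero (SheafOfModules.toSheaf X.ringCatSheaf) hM) p

omit [IsProper (X ↘ Spec (CommRingCat.of k))] in
lemma euler_eq_zero_of_isZero {M : X.Modules} (hM : IsZero M) : Curv2.euler k X M = 0 := by
  rw [euler_eq_sum_range M 0 (fun i _ => subsingleton_HH_of_isZero hM i)]
  simp

include hf in
/-- **`χ(Y, G) = Σ (-1)^i χ(X, R^i f_* G)`.** -/
theorem euler_leray (G : Y.Modules) (hG : Coh.IsCoh G) :
    Curv2.euler k Y G = ∑ᶠ i : ℕ, (-1 : ℤ) ^ i * Curv2.euler k X ((Coh.Rpush f i).obj G) := by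
  let gX := X ↘ Spec (CommRingCat.of k)
  let gY := Y ↘ Spec (CommRingCat.of k)
  haveI : IsProper f := by
    haveI : IsProper (f ≫ gX) := by rw [hf]; infer_instance
    exact IsProper.of_comp f gX
  haveI : IsLocallyNoetherian X := LocallyOfFiniteType.isLocallyNoetherian gX
  haveI : CompactSpace X := QuasiCompact.compactSpace_of_compactSpace gX
  haveI : CompactSpace Y := QuasiCompact.compactSpace_of_compactSpace gY
  haveI : QuasiSeparatedSpace X := quasiSeparatedSpace_of_quasiSeparated gX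
  haveI : QuasiSeparatedSpace Y := quasiSeparatedSpace_of_quasiSeparated gY
  haveI : G.IsQuasicoherent := hG.1
  -- coherence of the higher direct images
  have hcoh : ∀ q : ℕ, Coh.IsCoh ((Coh.Rpush f q).obj G) := fun q =>
    Groth.Agent.R2.H62.RpushCoh.isCoh_Rpush f G hG q
  haveI hq : ∀ q : ℕ, ((Coh.Rpush f q).obj G).IsQuasicoherent := fun q => (hcoh q).1
  -- bounds
  obtain ⟨N2, hN2⟩ := exists_bound_Rpush f
  obtain ⟨N1, hN1⟩ := Groth.Agent.Lib.Helper23.AffVanish.exists_bound_HH (X := X)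
  obtain ⟨N0, hN0⟩ := Groth.Agent.Lib.Helper23.AffVanish.exists_bound_HH (X := Y)
  -- the targets
  let H : ℤ → ModuleCat.{u} k := fun n =>
    if 0 ≤ n then ModuleCat.of k (Coh.HH Y G n.toNat) else 0
  let E2 : ℤ → ℤ → ModuleCat.{u} k := fun p q =>
    if 0 ≤ p ∧ 0 ≤ q then ModuleCat.of k (Coh.HH X ((Coh.Rpush f q.toNat).obj G) p.toNat) else 0
  have hT : ∀ Q : Y.Modules, Injective Q → ∀ q : ℕ, 0 < q →
      IsZero (((Sf k X).rightDerived q).obj ((Tf f).obj Q)) := by
    intro Q hQ q hq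
    obtain ⟨q, rfl⟩ : ∃ q', q = q' + 1 := ⟨q - 1, by omega⟩
    have e := (Groth.Agent.Lib.Helper21.DerPost.postIso
      (Scheme.Modules.pushforward gX) (ΓSpec k) (q + 1)).app ((Tf f).obj Q)
    refine IsZero.of_iso ?_ e
    have hfl : TopCat.Sheaf.IsFlasque (Coh.toAb ((Tf f).obj Q)) := by
      haveI := isFlasque_of_injective Q
      exact TopCat.Sheaf.IsFlasque.pushforward_isFlasque (Coh.toAb Q) f.base
    exact Functor.map_isZero (ΓSpec k)
      (Groth.Agent.Lib.Helper21.RelExtSS.isZero_Rpush_of_isFlasque gX ((Tf f).obj Q) hfl q)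
  have hH : ∀ n : ℕ, Nonempty (((Tf f ⋙ Sf k X).rightDerived n).obj G ≅ H n) := by
    intro n
    obtain ⟨e⟩ := nonempty_comp_iso f hf
    obtain ⟨e2⟩ := nonempty_Sf_rightDerived_iso (k := k) (X := Y) G n
    refine ⟨(Groth.Agent.Lib.Helper21.DerPost.natIsoRightDerived e n).app G ≪≫ e2 ≪≫ eqToIso ?_⟩
    simp [H]
  have hH' : ∀ n : ℤ, n < 0 → IsZero (H n) := by
    intro n hn
    simp only [H, if_neg (not_le.2 hn)]
    exact isZero_zero _
  have hE2 : ∀ p q : ℕ,
      Nonempty (((Sf k X).rightDerived p).obj (((Tf f).rightDerived q).obj G) ≅ E2 p q) := by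
    intro p q
    obtain ⟨e⟩ := nonempty_Sf_rightDerived_iso (k := k) (X := X) ((Coh.Rpush f q).obj G) p
    refine ⟨e ≪≫ eqToIso ?_⟩
    simp [E2]
  have hE2' : ∀ p q : ℤ, ¬ (0 ≤ p ∧ 0 ≤ q) → IsZero (E2 p q) := by
    intro p q h
    simp only [E2, if_neg h]
    exact isZero_zero _
  obtain ⟨E, a, ha, -, hpq⟩ :=
    Groth.Agent.Lib.Helper21.GSS.gss_general (Tf f) (Sf k X) hT G H hH hH' E2 hE2 hE2'
  let s : Finset (ℤ × ℤ) :=
    ((Finset.range N1) ×ˢ (Finset.range N2)).image (fun ab => ((ab.1 : ℤ), (ab.2 : ℤ)))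
  have hE2pos : ∀ p q : ℤ, 0 ≤ p ∧ 0 ≤ q →
      E2 p q = ModuleCat.of k (Coh.HH X ((Coh.Rpush f q.toNat).obj G) p.toNat) :=
    fun p q h => if_pos h
  have hE2zero : ∀ p q : ℤ, (p, q) ∉ s → IsZero (E2 p q) := by
    intro p q hpq'
    by_cases h : 0 ≤ p ∧ 0 ≤ q
    · rw [hE2pos p q h]
      by_cases hq2 : N2 ≤ q.toNat
      · haveI := subsingleton_HH_of_isZero (X := X) (hN2 G hG.1 q.toNat hq2) p.toNat
        exact ModuleCat.isZero_of_subsingleton _
      · have hp1 : N1 ≤ p.toNat := by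
          by_contra hcon
          apply hpq'
          rw [Finset.mem_image]
          refine ⟨(p.toNat, q.toNat), ?_, ?_⟩
          · simp only [Finset.mem_product, Finset.mem_range]; omega
          · ext <;> simp [Int.toNat_of_nonneg h.1, Int.toNat_of_nonneg h.2]
        haveI := hN1 _ (hq q.toNat) p.toNat hp1
        exact ModuleCat.isZero_of_subsingleton _
    · exact hE2' p q h
  have hs : ∀ pq : ℤ × ℤ, pq ∉ s → IsZero ((E.page 2).X pq) := by
    rintro ⟨p, q⟩ h
    exact IsZero.of_iso (hE2zero p q h) (hpq p q).some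
  have hfinE2 : ∀ p q : ℤ, IsFiniteLength k (E2 p q) := by
    intro p q
    by_cases h : 0 ≤ p ∧ 0 ≤ q
    · rw [hE2pos p q h]
      haveI := Groth.Agent.S0002.result k X _ (hcoh q.toNat) p.toNat
      exact isFiniteLength_of k _
    · exact isFiniteLength_of_isZero (hE2' p q h)
  have hfl : ∀ pq : ℤ × ℤ, IsFiniteLength k ((E.page 2).X pq) := by
    rintro ⟨p, q⟩
    exact isFiniteLength_congr (hpq p q).some.symm (hfinE2 p q)
  obtain ⟨-, hsum⟩ := euler_abutment E H a ha s hs hfl
  have hL : (∑ᶠ n : ℤ, ((n.negOnePow : ℤˣ) : ℤ) * ell (H n)) = Curv2.euler k Y G := by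
    rw [euler_eq_sum_range G N0 (fun i hi => hN0 G hG.1 i hi)]
    have hsub : (Function.support fun n : ℤ => ((n.negOnePow : ℤˣ) : ℤ) * ell (H n)) ⊆
        ↑((Finset.range N0).map (Nat.castEmbedding (R := ℤ)) : Finset ℤ) := by
      intro n hn
      by_contra hcon
      apply hn
      have : ell (H n) = 0 := by
        by_cases h0 : 0 ≤ n
        · simp only [H, if_pos h0]
          rw [ell_of]
          have : N0 ≤ n.toNat := by
            by_contra h2
            apply hcon
            simp only [Finset.coe_map, Set.mem_image, Finset.coe_range, Set.mem_Iio]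
            exact ⟨n.toNat, by omega, by simp [Int.toNat_of_nonneg h0]⟩
          haveI := hN0 G hG.1 n.toNat this
          rw [Module.finrank_zero_of_subsingleton]
          rfl
        · exact ell_eq_zero_of_isZero (hH' n (by omega))
      simp [this]
    rw [finsum_eq_sum_of_support_subset _ hsub, Finset.sum_map]
    refine Finset.sum_congr rfl fun i _ => ?_
    have : H ((Nat.castEmbedding i : ℤ)) = ModuleCat.of k (Coh.HH Y G i) := by simp [H]
    rw [this, ell_of]
    have h3 : (((Nat.castEmbedding i : ℤ).negOnePow : ℤˣ) : ℤ) = (-1 : ℤ) ^ i :=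
      Int.coe_negOnePow_natCast i
    rw [h3]
  have hR : (s.sum fun pq => Groth.Agent.R2.H15.EulerSS.eps pq * ell ((E.page 2).X pq)) =
      ∑ᶠ i : ℕ, (-1 : ℤ) ^ i * Curv2.euler k X ((Coh.Rpush f i).obj G) := by
    have hinj : Function.Injective (fun ab : ℕ × ℕ => (((ab.1 : ℤ)), (ab.2 : ℤ))) := by
      rintro ⟨a, b⟩ ⟨a', b'⟩ h
      simp only [Prod.mk.injEq, Nat.cast_inj] at h
      ext <;> simp [h.1, h.2]
    rw [Finset.sum_image (fun x _ y _ h => hinj h), Finset.sum_product, Finset.sum_comm]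
    have hfs : (∑ᶠ i : ℕ, (-1 : ℤ) ^ i * Curv2.euler k X ((Coh.Rpush f i).obj G)) =
        ∑ i ∈ Finset.range N2, (-1 : ℤ) ^ i * Curv2.euler k X ((Coh.Rpush f i).obj G) := by
      apply finsum_eq_sum_of_support_subset
      intro i hi
      rw [Finset.coe_range, Set.mem_Iio]
      by_contra hcon
      apply hi
      simp only
      rw [euler_eq_zero_of_isZero (hN2 G hG.1 i (by omega)), mul_zero]
    rw [hfs]
    refine Finset.sum_congr rfl fun b _ => ?_
    rw [euler_eq_sum_range _ N1 (fun i hi => hN1 _ (hq b) i hi), Finset.mul_sum]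
    refine Finset.sum_congr rfl fun a _ => ?_
    have h1 : ell ((E.page 2).X ((a : ℤ), (b : ℤ))) =
        (Module.finrank k (Coh.HH X ((Coh.Rpush f b).obj G) a) : ℤ) := by
      rw [ell_congr (hpq a b).some]
      have : E2 (a : ℤ) (b : ℤ) = ModuleCat.of k (Coh.HH X ((Coh.Rpush f b).obj G) a) := by
        simp [E2]
      rw [this, ell_of]
    rw [h1]
    unfold Groth.Agent.R2.H15.EulerSS.eps
    simp only
    rw [Int.negOnePow_add, Units.val_mul, Int.coe_negOnePow_natCast, Int.coe_negOnePow_natCast]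
    ring
  rw [← hL, hsum, hR]

end main

end Groth.Agent.R2.H62.Leray
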