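import Mathlib
import Groth.Agent.S13791

/-!
# Locally nonzero sections of the constant sheaf `ℤ` act without torsion on `H¹` of a
torsion-free constant sheaf (helper62)
-/

set_option autoImplicit false
set_option linter.style.haveILetI false
universe u

open CategoryTheory CategoryTheory.Limits Opposite Abelian

namespace Groth.Agent.R2.H62.LocNonzero

variable {C : Type u} [SmallCategory C] (J : GrothendieckTopology C)

/-- The constant presheaf `ℤ`. -/
abbrev cP : Cᵒᵖ ⥤ AddCommGrpCat.{u} :=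
  (Functor.const Cᵒᵖ).obj (AddCommGrpCat.of (ULift.{u} ℤ))

/-- The constant sheaf `ℤ`. -/
noncomputable abbrev cZ : Sheaf J AddCommGrpCat.{u} :=
  (presheafToSheaf J AddCommGrpCat.{u}).obj cP

variable {J}

/-- The section over `V` attached to a map out of the constant sheaf `ℤ`. -/
noncomputable def sec {G : Sheaf J AddCommGrpCat.{u}} (ψ : cZ J ⟶ G) (V : C) : G.obj.obj (op V) :=
  (((sheafificationAdjunction J AddCommGrpCat.{u}).homEquiv cP G ψ).app (op V)).hom ⟨1⟩

lemma sec_comp {G H : Sheaf J AddCommGrpCat.{u}} (ψ : cZ J ⟶ G) (h : G ⟶ H) (V : C) :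
    sec (ψ ≫ h) V = (h.hom.app (op V)).hom (sec ψ V) := by
  unfold sec
  rw [Adjunction.homEquiv_naturality_right]
  rfl

lemma sec_map {G : Sheaf J AddCommGrpCat.{u}} (ψ : cZ J ⟶ G) {V W : C} (f : W ⟶ V) :
    (G.obj.map f.op).hom (sec ψ V) = sec ψ W := by
  unfold sec
  exact (ConcreteCategory.congr_hom
    (((sheafificationAdjunction J AddCommGrpCat.{u}).homEquiv cP G ψ).naturality f.op)
    (⟨1⟩ : ULift ℤ)).symm

lemma sec_injective {G : Sheaf J AddCommGrpCat.{u}} {ψ ψ' : cZ J ⟶ G}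
    (h : ∀ V, sec ψ V = sec ψ' V) : ψ = ψ' := by
  apply ((sheafificationAdjunction J AddCommGrpCat.{u}).homEquiv cP G).injective
  ext U n
  obtain ⟨V⟩ := U
  have hn : n = n.down • (⟨1⟩ : ULift ℤ) := by
    apply ULift.ext
    simp
  rw [hn, map_zsmul, map_zsmul]
  exact congrArg _ (h V)

lemma exists_of_compatible {G : Sheaf J AddCommGrpCat.{u}} (t : ∀ V : C, G.obj.obj (op V))
    (ht : ∀ {V W : C} (f : W ⟶ V), (G.obj.map f.op).hom (t V) = t W) :
    ∃ ψ : cZ J ⟶ G, ∀ V, sec ψ V = t V := by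
  let adj := sheafificationAdjunction J AddCommGrpCat.{u}
  let z' : cP ⟶ G.obj :=
    { app := fun U => AddCommGrpCat.ofHom (uliftZMultiplesHom _ (t U.unop))
      naturality := by
        intro U V h
        ext n
        change (uliftZMultiplesHom _ (t V.unop)) n =
          (G.obj.map h).hom ((uliftZMultiplesHom _ (t U.unop)) n)
        rw [uliftZMultiplesHom_apply_apply, uliftZMultiplesHom_apply_apply, map_zsmul]
        congr 1
        exact (ht h.unop).symm }
  refine ⟨(adj.homEquiv cP G).symm z', fun V => ?_⟩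
  unfold sec
  rw [Equiv.apply_symm_apply]
  change (uliftZMultiplesHom _ (t V)) ⟨1⟩ = t V
  rw [uliftZMultiplesHom_apply_apply]
  exact one_zsmul _

lemma sec_smul_comp {G : Sheaf J AddCommGrpCat.{u}} (φ : cZ J ⟶ cZ J) (ψ : cZ J ⟶ G) (V : C) (n : ℤ)
    (hφ : φ.hom.app (op V) = n • 𝟙 _) : sec (φ ≫ ψ) V = n • sec ψ V := by
  unfold sec
  rw [Adjunction.homEquiv_unit, Adjunction.homEquiv_unit]
  change ((((sheafificationAdjunction J AddCommGrpCat.{u}).unit.app cP).app (op V)) ≫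
    (φ.hom.app (op V) ≫ ψ.hom.app (op V))).hom ⟨1⟩ = _
  rw [hφ, Preadditive.zsmul_comp, Preadditive.comp_zsmul]
  erw [Category.id_comp]
  rfl

section exact

variable {S : ShortComplex (Sheaf J AddCommGrpCat.{u})} (hS : S.ShortExact)

/-- Evaluation of abelian sheaves at an object. -/
abbrev evalAt (J : GrothendieckTopology C) (V : C) : Sheaf J AddCommGrpCat.{u} ⥤ AddCommGrpCat.{u} :=
  sheafToPresheaf J AddCommGrpCat.{u} ⋙ (evaluation Cᵒᵖ AddCommGrpCat.{u}).obj (op V)

instance (V : C) : (evalAt J V).PreservesZeroMorphisms := by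
  constructor
  intro X Y
  rfl

include hS in
lemma f_app_injective (V : C) : Function.Injective (S.f.hom.app (op V)).hom := by
  haveI := hS.mono_f
  have h : Mono ((evalAt J V).map S.f) := inferInstance
  exact (AddCommGrpCat.mono_iff_injective _).1 h

include hS in
lemma exists_of_g_app_eq_zero (V : C) (t : S.X₂.obj.obj (op V))
    (ht : (S.g.hom.app (op V)).hom t = 0) :
    ∃ f : S.X₁.obj.obj (op V), (S.f.hom.app (op V)).hom f = t := by
  have hFS : (S.map (evalAt J V)).Exact :=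
    hS.exact.map_of_mono_of_preservesKernel (evalAt J V) hS.mono_f inferInstance
  exact (ShortComplex.ab_exact_iff _).mp hFS t ht

include hS in
lemma imageSieve_g_mem (V : C) (q : S.X₃.obj.obj (op V)) :
    Presheaf.imageSieve S.g.hom q ∈ J V := by
  haveI := hS.epi_g
  have hls : Sheaf.IsLocallySurjective S.g := (Sheaf.isLocallySurjective_iff_epi' _ _).2 inferInstance
  exact Presheaf.imageSieve_mem J _ q

end exact

section bot

/-- If a nonzero integer kills the unit section of the constant sheaf `ℤ` over `V`, then `V` is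
covered by the empty sieve. -/
lemma bot_mem_of_zsmul_sec_id_eq_zero (V : C) (m : ℤ) (hm : m ≠ 0)
    (h : m • sec (𝟙 (cZ J)) V = 0) : (⊥ : Sieve V) ∈ J V := by
  unfold sec at h
  rw [Adjunction.homEquiv_id, sheafificationAdjunction_unit_app] at h
  have h1 : ((toSheafify J (cP (C := C))).app (op V)).hom (⟨m⟩ : ULift ℤ) =
      ((toSheafify J (cP (C := C))).app (op V)).hom (0 : ULift ℤ) := by
    have hm' : (⟨m⟩ : ULift ℤ) = m • (⟨1⟩ : ULift ℤ) := by
      apply ULift.ext
      simp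
    rw [hm', map_zsmul, map_zero]
    exact h
  have h2 := Presheaf.equalizerSieve_mem J (toSheafify J (cP (C := C))) (X := op V)
    (⟨m⟩ : ULift ℤ) (0 : ULift ℤ) h1
  refine J.superset_covering ?_ h2
  intro W f hf
  exfalso
  apply hm
  have : (⟨m⟩ : ULift ℤ) = 0 := hf
  exact congrArg ULift.down this

lemma isSheaf_forget (G : Sheaf J AddCommGrpCat.{u}) :
    Presieve.IsSheaf J (G.obj ⋙ forget AddCommGrpCat.{u}) :=
  (isSheaf_iff_isSheaf_of_type J _).1
    ((Presheaf.isSheaf_iff_isSheaf_forget J G.obj (forget AddCommGrpCat.{u})).1 G.property)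

/-- Sections of a sheaf are determined on a covering sieve. -/
lemma eq_of_mem (G : Sheaf J AddCommGrpCat.{u}) {V : C} {R : Sieve V} (hR : R ∈ J V)
    (a b : G.obj.obj (op V))
    (h : ∀ ⦃W : C⦄ (g : W ⟶ V), R g → (G.obj.map g.op).hom a = (G.obj.map g.op).hom b) : a = b :=
  ((isSheaf_forget G).isSeparated _ hR).ext fun _ g hg => h g hg

/-- Over an object covered by the empty sieve, all sections of a sheaf are equal. -/
lemma eq_of_bot_mem {V : C} (hV : (⊥ : Sieve V) ∈ J V) (G : Sheaf J AddCommGrpCat.{u})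
    (a b : G.obj.obj (op V)) : a = b :=
  eq_of_mem G hV a b fun _ _ hg => hg.elim

/-- Gluing sections of a sheaf along a covering sieve. -/
lemma exists_amalgamation (G : Sheaf J AddCommGrpCat.{u}) {V : C} {R : Sieve V} (hR : R ∈ J V)
    (t : ∀ ⦃W : C⦄ (g : W ⟶ V), R g → G.obj.obj (op W))
    (ht : ∀ ⦃W W' : C⦄ (g : W ⟶ V) (hg : R g) (h : W' ⟶ W),
      (G.obj.map h.op).hom (t g hg) = t (h ≫ g) (R.downward_closed hg h)) :
    ∃ T : G.obj.obj (op V), ∀ ⦃W : C⦄ (g : W ⟶ V) (hg : R g), (G.obj.map g.op).hom T = t g hg := by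
  let x : Presieve.FamilyOfElements (G.obj ⋙ forget AddCommGrpCat.{u}) R.arrows :=
    fun W g hg => t g hg
  have hx : x.Compatible := by
    rw [Presieve.compatible_iff_sieveCompatible]
    intro W W' g h hg
    exact (ht g hg h).symm
  exact ⟨(isSheaf_forget G _ hR).amalgamate x hx,
    fun W g hg => (isSheaf_forget G _ hR).valid_glue hx g hg⟩

end bot

section glue

lemma res_res (G : Sheaf J AddCommGrpCat.{u}) {V W W' : C} (f : W ⟶ V) (g : W' ⟶ W)
    (t : G.obj.obj (op V)) :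
    (G.obj.map g.op).hom ((G.obj.map f.op).hom t) = (G.obj.map (g ≫ f).op).hom t := by
  rw [op_comp, Functor.map_comp]
  rfl

lemma res_hom {G H : Sheaf J AddCommGrpCat.{u}} (p : G ⟶ H) {V W : C} (f : W ⟶ V)
    (t : G.obj.obj (op V)) :
    (H.obj.map f.op).hom ((p.hom.app (op V)).hom t) =
      (p.hom.app (op W)).hom ((G.obj.map f.op).hom t) :=
  (ConcreteCategory.congr_hom (p.hom.naturality f.op) t).symm

variable {S : ShortComplex (Sheaf J AddCommGrpCat.{u})} (hS : S.ShortExact)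
  (hF : ∀ (m : ℤ), m ≠ 0 → ∀ V : C, Function.Bijective (fun f : S.X₁.obj.obj (op V) => m • f))
  (φ : cZ J ⟶ cZ J) {ι : Type u} (U : ι → C) (n : ι → ℤ) (hn : ∀ i, n i ≠ 0)
  (hφ : ∀ (i : ι) (V : C) (_ : V ⟶ U i), φ.hom.app (op V) = n i • 𝟙 _)
  (hcov : ∀ V : C, ∃ R ∈ J V, ∀ ⦃W : C⦄ (g : W ⟶ V), R g → ∃ i, Nonempty (W ⟶ U i))
  (y : cZ J ⟶ S.X₃) (s : cZ J ⟶ S.X₂) (hs : s ≫ S.g = φ ≫ y)

/-- A section of the middle term over `V` which lifts `y` and divides `s` by some `n i`. -/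
def Good (V : C) (t : S.X₂.obj.obj (op V)) : Prop :=
  (S.g.hom.app (op V)).hom t = sec y V ∧ ∃ i, Nonempty (V ⟶ U i) ∧ n i • t = sec s V

include hφ hs in
lemma g_sec_s (V : C) (i : ι) (k : V ⟶ U i) :
    (S.g.hom.app (op V)).hom (sec s V) = n i • sec y V := by
  rw [← sec_comp, hs, sec_smul_comp φ y V (n i) (hφ i V k)]

include hS hF hφ hn in
lemma good_unique {V : C} {t t' : S.X₂.obj.obj (op V)} (h : Good U n y s V t)
    (h' : Good U n y s V t') : t = t' := by
  obtain ⟨h1, i, ⟨k⟩, h2⟩ := h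
  obtain ⟨h1', j, ⟨k'⟩, h2'⟩ := h'
  by_cases hij : n i = n j
  · obtain ⟨f, hf⟩ := exists_of_g_app_eq_zero hS V (t - t') (by rw [map_sub, h1, h1', sub_self])
    have h3 : (S.f.hom.app (op V)).hom (n i • f) = 0 := by
      rw [map_zsmul, hf, smul_sub, h2, hij, h2', sub_self]
    have h4 : n i • f = 0 := f_app_injective hS V (by rw [h3, map_zero])
    have h5 : f = 0 := (hF (n i) (hn i) V).1 (by simpa using h4)
    rw [h5, map_zero] at hf
    exact (sub_eq_zero.1 hf.symm)
  · have e1 := sec_smul_comp φ (𝟙 (cZ J)) V (n i) (hφ i V k)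
    have e2 := sec_smul_comp φ (𝟙 (cZ J)) V (n j) (hφ j V k')
    have e3 : (n i - n j) • sec (𝟙 (cZ J)) V = 0 := by
      rw [sub_smul, ← e1, ← e2, sub_self]
    exact eq_of_bot_mem (bot_mem_of_zsmul_sec_id_eq_zero V _ (sub_ne_zero.2 hij) e3) _ _ _

lemma good_map {V W : C} (f : W ⟶ V) {t : S.X₂.obj.obj (op V)} (h : Good U n y s V t) :
    Good U n y s W ((S.X₂.obj.map f.op).hom t) := by
  obtain ⟨h1, i, ⟨k⟩, h2⟩ := h
  refine ⟨?_, i, ⟨f ≫ k⟩, ?_⟩
  · rw [← res_hom, h1, sec_map]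
  · rw [← map_zsmul, h2, sec_map]

/-- The sieve of arrows over which a good section exists. -/
def goodSieve (V : C) : Sieve V where
  arrows W _ := ∃ t, Good U n y s W t
  downward_closed := by
    rintro W W' g ⟨t, ht⟩ h
    exact ⟨_, good_map U n y s h ht⟩

include hS hF hφ hs hn in
lemma goodSieve_mem_of_hom {W : C} {i : ι} (k : W ⟶ U i) : goodSieve U n y s W ∈ J W := by
  refine J.superset_covering ?_ (imageSieve_g_mem hS W (sec y W))
  intro W' g hg
  obtain ⟨e, he⟩ := hg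
  have he' : (S.g.hom.app (op W')).hom e = sec y W' := by
    rw [← sec_map y g]
    exact he
  have h1 : (S.g.hom.app (op W')).hom (sec s W' - n i • e) = 0 := by
    rw [map_sub, g_sec_s φ U n hφ y s hs W' i (g ≫ k), map_zsmul, he', sub_self]
  obtain ⟨f, hf⟩ := exists_of_g_app_eq_zero hS W' _ h1
  obtain ⟨f', hf'⟩ := (hF (n i) (hn i) W').2 f
  refine ⟨e + (S.f.hom.app (op W')).hom f', ?_, i, ⟨g ≫ k⟩, ?_⟩
  · have h0 : (S.g.hom.app (op W')).hom ((S.f.hom.app (op W')).hom f') = 0 := by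
      have := congrArg (fun ψ => (ψ.hom.app (op W')).hom f') S.zero
      exact this
    rw [map_add, h0, add_zero, he']
  · have hf'' : n i • f' = f := hf'
    rw [smul_add, ← map_zsmul, hf'', hf]
    abel

include hS hF hφ hs hn hcov in
lemma goodSieve_mem (V : C) : goodSieve U n y s V ∈ J V := by
  obtain ⟨R, hR, h⟩ := hcov V
  refine J.transitive hR _ fun W g hg => ?_
  obtain ⟨i, ⟨k⟩⟩ := h g hg
  exact goodSieve_mem_of_hom hS hF φ U n hn hφ y s hs k

/-- A section over `V` all of whose restrictions to objects carrying a good section are good. -/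
def LGood (V : C) (T : S.X₂.obj.obj (op V)) : Prop :=
  ∀ ⦃W : C⦄ (g : W ⟶ V), (∃ t, Good U n y s W t) → Good U n y s W ((S.X₂.obj.map g.op).hom T)

lemma lgood_map {V W : C} (f : W ⟶ V) {T : S.X₂.obj.obj (op V)} (h : LGood U n y s V T) :
    LGood U n y s W ((S.X₂.obj.map f.op).hom T) := by
  intro W' g hg
  rw [res_res]
  exact h (g ≫ f) hg

include hS hF hφ hs hn hcov in
lemma lgood_unique {V : C} {T T' : S.X₂.obj.obj (op V)} (h : LGood U n y s V T)
    (h' : LGood U n y s V T') : T = T' :=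
  eq_of_mem S.X₂ (goodSieve_mem hS hF φ U n hn hφ hcov y s hs V) T T' fun _ g hg =>
    good_unique hS hF φ U n hn hφ y s (h g hg) (h' g hg)

include hS hF hφ hs hn hcov in
lemma lgood_g {V : C} {T : S.X₂.obj.obj (op V)} (h : LGood U n y s V T) :
    (S.g.hom.app (op V)).hom T = sec y V :=
  eq_of_mem S.X₃ (goodSieve_mem hS hF φ U n hn hφ hcov y s hs V) _ _ fun W g hg => by
    rw [res_hom, (h g hg).1, sec_map]

include hS hF hφ hs hn hcov in
lemma lgood_exists (V : C) : ∃ T, LGood U n y s V T := by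
  have hch : ∀ ⦃W : C⦄ (g : W ⟶ V), goodSieve U n y s V g → ∃ t, Good U n y s W t :=
    fun _ g hg => hg
  choose t ht using hch
  obtain ⟨T, hT⟩ := exists_amalgamation S.X₂ (goodSieve_mem hS hF φ U n hn hφ hcov y s hs V) t
    (fun W W' g hg h => good_unique hS hF φ U n hn hφ y s (good_map U n y s h (ht g hg)) (ht _ _))
  refine ⟨T, fun W g hg => ?_⟩
  rw [hT g hg]
  exact ht g hg

include hS hF hφ hs hn hcov in
/-- The key lifting statement: if `φ ≫ y` lifts through the epimorphism `S.g`, so does `y`. -/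
theorem exists_lift_of_comp_lift : ∃ s' : cZ J ⟶ S.X₂, s' ≫ S.g = y := by
  choose T hT using lgood_exists hS hF φ U n hn hφ hcov y s hs
  obtain ⟨s', hs'⟩ := exists_of_compatible (G := S.X₂) T (fun {V W} f =>
    lgood_unique hS hF φ U n hn hφ hcov y s hs (lgood_map U n y s f (hT V)) (hT W))
  refine ⟨s', sec_injective fun V => ?_⟩
  rw [sec_comp, hs' V]
  exact lgood_g hS hF φ U n hn hφ hcov y s hs (hT V)

end glue

section ext

variable [HasExt.{u} (Sheaf J AddCommGrpCat.{u})]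

/-- For an abelian sheaf `F` all of whose groups of sections are uniquely divisible, the group
`Ext¹(ℤ, F)` has no torsion for a locally nonzero endomorphism of the constant sheaf `ℤ`. -/
theorem ext_one_eq_zero (F : Sheaf J AddCommGrpCat.{u})
    (hF : ∀ (m : ℤ), m ≠ 0 → ∀ V : C, Function.Bijective (fun f : F.obj.obj (op V) => m • f))
    (φ : cZ J ⟶ cZ J) {ι : Type u} (U : ι → C) (n : ι → ℤ) (hn : ∀ i, n i ≠ 0)
    (hφ : ∀ (i : ι) (V : C) (_ : V ⟶ U i), φ.hom.app (op V) = n i • 𝟙 _)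
    (hcov : ∀ V : C, ∃ R ∈ J V, ∀ ⦃W : C⦄ (g : W ⟶ V), R g → ∃ i, Nonempty (W ⟶ U i))
    (x : Ext (cZ J) F 1) (hx : (Ext.mk₀ φ).comp x (zero_add 1) = 0) : x = 0 := by
  let S : ShortComplex (Sheaf J AddCommGrpCat.{u}) :=
    ShortComplex.mk _ _ (cokernel.condition (Injective.ι F))
  have hS : S.ShortExact :=
    { exact := ShortComplex.exact_of_g_is_cokernel _ (cokernelIsCokernel S.f) }
  obtain ⟨y₀, hy₀⟩ := Ext.covariant_sequence_exact₁ (cZ J) hS x (Ext.eq_zero_of_injective _)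
    (zero_add 1)
  obtain ⟨y, rfl⟩ := (Ext.mk₀_bijective _ _).2 y₀
  have h1 : (Ext.mk₀ (φ ≫ y)).comp hS.extClass (zero_add 1) = 0 := by
    rw [← Ext.mk₀_comp_mk₀, Ext.comp_assoc _ _ _ (zero_add 0) (zero_add 1) (by omega), hy₀, hx]
  obtain ⟨s₀, hs₀⟩ := Ext.covariant_sequence_exact₃ (cZ J) hS (Ext.mk₀ (φ ≫ y)) (zero_add 1) h1
  obtain ⟨s, rfl⟩ := (Ext.mk₀_bijective _ _).2 s₀
  have hs : s ≫ S.g = φ ≫ y := by
    apply (Ext.mk₀_bijective _ _).1
    rw [← Ext.mk₀_comp_mk₀]
    exact hs₀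
  obtain ⟨s', hs'⟩ := exists_lift_of_comp_lift hS hF φ U n hn hφ hcov y s hs
  rw [← hy₀, ← hs', ← Ext.mk₀_comp_mk₀, Ext.comp_assoc _ _ _ (zero_add 0) (zero_add 1) (by omega),
    hS.comp_extClass, Ext.comp_zero]

end ext

section final

lemma bijective_zsmul_constantSheaf {B : Type u} [AddCommGroup B]
    (hB : ∀ m : ℤ, m ≠ 0 → Function.Bijective (fun b : B => m • b)) (m : ℤ) (hm : m ≠ 0) (V : C) :
    Function.Bijective (fun f :
      ((constantSheaf J AddCommGrpCat.{u}).obj (AddCommGrpCat.of B)).obj.obj (op V) => m • f) := by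
  let G : AddCommGrpCat.{u} ⥤ AddCommGrpCat.{u} := constantSheaf J AddCommGrpCat.{u} ⋙ evalAt J V
  haveI : G.Additive := inferInstance
  let e : AddCommGrpCat.of B ≅ AddCommGrpCat.of B :=
    (AddEquiv.ofBijective (zsmulAddGroupHom m : B →+ B) (hB m hm)).toAddCommGrpIso
  have he : e.hom = m • 𝟙 _ := by
    ext b
    rfl
  have h : IsIso (G.map (m • 𝟙 (AddCommGrpCat.of B))) := by
    rw [← he]
    infer_instance
  rw [Functor.map_zsmul, G.map_id] at h
  exact ConcreteCategory.bijective_of_isIso (m • 𝟙 (G.obj (AddCommGrpCat.of B)))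

end final

end Groth.Agent.R2.H62.LocNonzero
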