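import Mathlib
import Groth.Prelude.Def_W4c1extbt15Mult

/-!
# Tuples of points of powers of an object (helper62)
-/

set_option autoImplicit false
set_option linter.unusedSectionVars false
universe w v u

open CategoryTheory MonoidalCategory CartesianMonoidalCategory MonObj

namespace Groth.Agent.R2.H62.MultSch

open _root_.MultSch

variable {C : Type u} [Category.{v} C] [CartesianMonoidalCategory C]

lemma comp_tuple' {M T T' : C} (g : T' ⟶ T) :
    ∀ {n : ℕ} (x : Fin n → (T ⟶ M)), g ≫ tuple x = tuple (fun l => g ≫ x l)
  | 0, _ => toUnit_unique _ _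
  | n + 1, x => by
    change g ≫ lift (x 0) (tuple fun i => x i.succ) =
      lift (g ≫ x 0) (tuple fun i => g ≫ x i.succ)
    rw [comp_lift, comp_tuple' g]

/-- the coordinate projections of a power. -/
def proj (M : C) : (n : ℕ) → Fin n → (pow M n ⟶ M)
  | 0, i => i.elim0
  | n + 1, i => Fin.cases (fst M (pow M n)) (fun k => snd M (pow M n) ≫ proj M n k) i

lemma tuple_comp_proj {M T : C} :
    ∀ {n : ℕ} (x : Fin n → (T ⟶ M)) (i : Fin n), tuple x ≫ proj M n i = x i
  | 0, _, i => i.elim0
  | n + 1, x, i => by
    refine Fin.cases ?_ (fun k => ?_) i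
    · change lift (x 0) (tuple fun i => x i.succ) ≫ fst M (pow M n) = x 0
      rw [lift_fst]
    · change lift (x 0) (tuple fun i => x i.succ) ≫ snd M (pow M n) ≫ proj M n k = x k.succ
      rw [lift_snd_assoc, tuple_comp_proj]

lemma tuple_proj (M : C) : ∀ n : ℕ, tuple (proj M n) = 𝟙 (pow M n)
  | 0 => toUnit_unique _ _
  | n + 1 => by
    change lift (fst M (pow M n)) (tuple fun i => snd M (pow M n) ≫ proj M n i) = 𝟙 _
    rw [← comp_tuple', tuple_proj M n, Category.comp_id, lift_fst_snd]

lemma eq_tuple {M T : C} {n : ℕ} (g : T ⟶ pow M n) : g = tuple (fun l => g ≫ proj M n l) := by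
  rw [← comp_tuple', tuple_proj, Category.comp_id]

lemma comp_update {M T T' : C} {n : ℕ} (g : T' ⟶ T) (x : Fin n → (T ⟶ M)) (i : Fin n)
    (v : T ⟶ M) :
    (fun l => g ≫ Function.update x i v l) = Function.update (fun l => g ≫ x l) i (g ≫ v) := by
  funext l
  by_cases h : l = i
  · subst h; simp
  · simp [h]

lemma update_comp {M M' T : C} {n : ℕ} (π : M ⟶ M') (x : Fin n → (T ⟶ M)) (i : Fin n)
    (v : T ⟶ M) :
    (fun l => Function.update x i v l ≫ π) = Function.update (fun l => x l ≫ π) i (v ≫ π) := by
  funext l
  by_cases h : l = i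
  · subst h; simp
  · simp [h]

section swap

variable {M N : C} [GrpObj M] [GrpObj N] {n : ℕ}

/-- For a multilinear alternating map, swapping two coordinates inverts the value. -/
lemma swap_mul_eq_one (φ : pow M n ⟶ N) (hmult : IsMultilinear φ) (halt : IsAlternating φ)
    {T : C} (z : Fin n → (T ⟶ M)) (i j : Fin n) (hij : i ≠ j) (a b : T ⟶ M) :
    (tuple (Function.update (Function.update z i a) j b) ≫ φ) *
      (tuple (Function.update (Function.update z i b) j a) ≫ φ) = 1 := by
  have hji : j ≠ i := fun h => hij h.symm
  let F : (T ⟶ M) → (T ⟶ M) → (T ⟶ N) := fun u v =>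
    tuple (Function.update (Function.update z i u) j v) ≫ φ
  have hF2 : ∀ u v v', F u (v * v') = F u v * F u v' := by
    intro u v v'
    have := hmult T (Function.update z i u) j v v'
    simpa [Function.update_idem] using this
  have hF1 : ∀ u u' v, F (u * u') v = F u v * F u' v := by
    intro u u' v
    have := hmult T (Function.update z j v) i u u'
    simp only [F]
    rw [Function.update_comm hij (u * u') v z, Function.update_comm hij u v z,
      Function.update_comm hij u' v z]
    simpa [Function.update_idem] using this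
  have hFd : ∀ u, F u u = 1 := by
    intro u
    refine halt T _ i j hij ?_
    simp [Function.update_of_ne hij]
  have h1 : F (a * b) (a * b) = 1 := hFd _
  rw [hF1, hF2, hF2, hFd, hFd, _root_.one_mul, _root_.mul_one] at h1
  exact h1

end swap

end Groth.Agent.R2.H62.MultSch
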