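import Mathlib
import Groth.Prelude.Def_SGA1
import Groth.Agent.R2.H62FinSigma

/-!
# Sections of a qfh-sheaf over a finite quotient are the invariants (helper62)
-/

set_option autoImplicit false
set_option linter.style.haveILetI false
universe w u

open CategoryTheory CategoryTheory.Limits AlgebraicGeometry

namespace Groth.Agent.R2.H62.QfhInv

/-- Finite surjective morphisms are universally submersive. -/
lemma univSubmersive_of_isFinite_of_surjective {X Y : Scheme.{u}} (f : X ⟶ Y) [IsFinite f]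
    [Surjective f] : SGA1.UnivSubmersive f := by
  intro X' Y' i₁ i₂ f' h
  haveI : IsFinite f' := MorphismProperty.of_isPullback h.flip ‹IsFinite f›
  haveI : Surjective f' := MorphismProperty.of_isPullback h.flip ‹Surjective f›
  exact IsClosedMap.isQuotientMap f'.isClosedMap f'.continuous f'.surjective

/-- The translates of the graph of `r` cover `Y ×_S X` by a finite surjective morphism. -/
theorem graph_translates {X S Y : Scheme.{u}} (q : X ⟶ S) [IsFinite q] {G : Type u} [Group G]
    [Finite G] (ρ : G →* Aut X)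
    (htrans : ∀ (Ω : Type u) [Field Ω] [IsAlgClosed Ω] (τ₁ τ₂ : Spec (CommRingCat.of Ω) ⟶ X),
      τ₁ ≫ q = τ₂ ≫ q → ∃ g : G, τ₁ ≫ (ρ g).hom = τ₂)
    (r : Y ⟶ X) (p : Y ⟶ S) (hp : r ≫ q = p) (c : G → (Y ⟶ pullback p q))
    (hc1 : ∀ σ : G, c σ ≫ pullback.fst p q = 𝟙 Y)
    (hc2 : ∀ σ : G, c σ ≫ pullback.snd p q = r ≫ (ρ σ).hom) :
    IsFinite (Sigma.desc c) ∧ Surjective (Sigma.desc c) := by
  classical
  subst hp
  have hc : ∀ σ, IsClosedImmersion (c σ) := by
    intro σ
    haveI : IsClosedImmersion (c σ ≫ pullback.fst (r ≫ q) q) := by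
      rw [hc1 σ]
      infer_instance
    exact IsClosedImmersion.of_comp (c σ) (pullback.fst (r ≫ q) q)
  constructor
  · haveI : ∀ σ, IsFinite (c σ) := fun σ => by
      haveI := hc σ
      infer_instance
    exact Groth.Agent.R2.H62.FinSigma.isFinite_sigmaDesc _ c
  · constructor
    intro z
    let κ := (pullback (r ≫ q) q).residueField z
    let Ω := AlgebraicClosure κ
    obtain ⟨zΩ, hzΩ⟩ : ∃ zΩ : Spec (CommRingCat.of Ω) ⟶ pullback (r ≫ q) q, ∀ pt, zΩ pt = z := by
      refine ⟨Spec.map (CommRingCat.ofHom (algebraMap κ Ω)) ≫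
        (pullback (r ≫ q) q).fromSpecResidueField z, fun pt => ?_⟩
      rw [Scheme.Hom.comp_apply, Scheme.fromSpecResidueField_apply]
    obtain ⟨g, hg⟩ := htrans Ω (zΩ ≫ pullback.fst (r ≫ q) q ≫ r) (zΩ ≫ pullback.snd (r ≫ q) q) (by
      simp only [Category.assoc]
      rw [pullback.condition])
    have hz : zΩ = (zΩ ≫ pullback.fst (r ≫ q) q) ≫ c g := by
      apply pullback.hom_ext
      · rw [Category.assoc, hc1, Category.comp_id]
      · rw [Category.assoc, hc2, ← hg]
        simp only [Category.assoc]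
    let pt : Spec (CommRingCat.of Ω) := ⟨⊥, Ideal.isPrime_bot⟩
    refine ⟨Sigma.ι (fun _ : G => Y) g ((zΩ ≫ pullback.fst (r ≫ q) q) pt), ?_⟩
    have h1 : (Sigma.desc c) (Sigma.ι (fun _ : G => Y) g ((zΩ ≫ pullback.fst (r ≫ q) q) pt)) =
        ((zΩ ≫ pullback.fst (r ≫ q) q) ≫ c g) pt := by
      rw [← Scheme.Hom.comp_apply, Sigma.ι_desc]
      exact (Scheme.Hom.comp_apply _ _ _).symm
    rw [h1, ← hz]
    exact hzΩ pt

/-- Sections of a qfh-sheaf over the target of a finite surjective morphism with a finite group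
acting transitively on geometric fibres are the invariant sections of the source. -/
theorem sections_eq_invariants {X S : Scheme.{u}} (q : X ⟶ S) [IsFinite q] [Surjective q]
    {G : Type u} [Group G] [Finite G] (ρ : G →* Aut X) (hρ : ∀ g : G, (ρ g).hom ≫ q = q)
    (htrans : ∀ (Ω : Type u) [Field Ω] [IsAlgClosed Ω] (τ₁ τ₂ : Spec (CommRingCat.of Ω) ⟶ X),
      τ₁ ≫ q = τ₂ ≫ q → ∃ g : G, τ₁ ≫ (ρ g).hom = τ₂)
    (F : Scheme.{u}ᵒᵖ ⥤ Type w)
    (hF : ∀ ⦃T : Scheme.{u}⦄ (E : PreZeroHypercover.{u} T), Finite E.I₀ →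
      (∀ i, LocallyOfFiniteType (E.f i)) → (∀ i, QuasiCompact (E.f i)) →
      (∀ i, LocallyQuasiFinite (E.f i)) → SGA1.UnivSubmersive (Sigma.desc E.f) →
      Presieve.IsSheafFor F E.presieve₀) :
    Function.Injective (F.map q.op) ∧
      Set.range (F.map q.op) = {f : F.obj (Opposite.op X) | ∀ g : G, F.map (ρ g).hom.op f = f} := by
  classical
  let E₁ : PreZeroHypercover.{u} S := ⟨PUnit.{u+1}, fun _ => X, fun _ => q⟩
  have hE₁ : Presieve.IsSheafFor F E₁.presieve₀ := by
    refine hF E₁ (inferInstanceAs (Finite PUnit.{u+1})) (fun _ => inferInstanceAs (LocallyOfFiniteType q))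
      (fun _ => inferInstanceAs (QuasiCompact q)) (fun _ => inferInstanceAs (LocallyQuasiFinite q)) ?_
    haveI : ∀ i, IsFinite (E₁.f i) := fun _ => inferInstanceAs (IsFinite q)
    haveI : Finite E₁.I₀ := inferInstanceAs (Finite PUnit.{u+1})
    haveI : IsFinite (Sigma.desc E₁.f) := Groth.Agent.R2.H62.FinSigma.isFinite_sigmaDesc _ _
    haveI : Surjective (Sigma.desc E₁.f) := by
      have h1 : Sigma.ι E₁.X PUnit.unit ≫ Sigma.desc E₁.f = q := Sigma.ι_desc _ _
      haveI : Surjective (Sigma.ι E₁.X PUnit.unit ≫ Sigma.desc E₁.f) := by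
        rw [h1]
        infer_instance
      exact Surjective.of_comp (Sigma.ι E₁.X PUnit.unit) _
    exact univSubmersive_of_isFinite_of_surjective _
  have hE₁' := (Presieve.isSheafFor_arrows_iff (P := F) (X := E₁.X) (π := E₁.f)).1 hE₁
  let c : G → (X ⟶ pullback q q) := fun σ =>
    pullback.lift (𝟙 X) (ρ σ).hom (by rw [Category.id_comp, hρ])
  obtain ⟨hfin, hsurj⟩ := graph_translates q ρ htrans (𝟙 X) q (Category.id_comp q) c
    (fun σ => pullback.lift_fst _ _ _) (fun σ => by rw [pullback.lift_snd, Category.id_comp])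
  have hcc : ∀ σ, IsClosedImmersion (c σ) := by
    intro σ
    haveI : IsClosedImmersion (c σ ≫ pullback.fst q q) := by
      rw [pullback.lift_fst]
      infer_instance
    exact IsClosedImmersion.of_comp (c σ) (pullback.fst q q)
  let E₂ : PreZeroHypercover.{u} (pullback q q) := ⟨G, fun _ => X, c⟩
  have hE₂ : Presieve.IsSheafFor F E₂.presieve₀ := by
    refine hF E₂ (inferInstanceAs (Finite G)) (fun σ => ?_) (fun σ => ?_) (fun σ => ?_) ?_
    · haveI := hcc σ
      exact inferInstanceAs (LocallyOfFiniteType (c σ))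
    · haveI := hcc σ
      exact inferInstanceAs (QuasiCompact (c σ))
    · haveI := hcc σ
      exact inferInstanceAs (LocallyQuasiFinite (c σ))
    · exact univSubmersive_of_isFinite_of_surjective _
  have hsep := hE₂.isSeparatedFor
  have key : ∀ f : F.obj (Opposite.op X), (∀ g : G, F.map (ρ g).hom.op f = f) →
      F.map (pullback.fst q q).op f = F.map (pullback.snd q q).op f := by
    intro f hf
    apply hsep.ext
    rintro _ _ ⟨σ⟩
    change F.map (c σ).op (F.map (pullback.fst q q).op f) =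
      F.map (c σ).op (F.map (pullback.snd q q).op f)
    rw [← Functor.map_comp_apply, ← Functor.map_comp_apply, ← op_comp, ← op_comp,
      pullback.lift_fst, pullback.lift_snd, hf σ]
    simp
  constructor
  · intro a b hab
    obtain ⟨t, -, htu⟩ := hE₁' (fun _ => F.map q.op a) (by
      intro i j Z gi gj hgg
      change F.map gi.op (F.map q.op a) = F.map gj.op (F.map q.op a)
      rw [← Functor.map_comp_apply, ← Functor.map_comp_apply, ← op_comp, ← op_comp]
      have : gi ≫ q = gj ≫ q := hgg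
      rw [this])
    exact (htu a (fun _ => rfl)).trans (htu b (fun _ => hab.symm)).symm
  · ext f
    constructor
    · rintro ⟨a, rfl⟩ g
      rw [← Functor.map_comp_apply, ← op_comp, hρ]
    · intro hf
      obtain ⟨t, ht, -⟩ := hE₁' (fun _ => f)
        ((Presieve.Arrows.pullbackCompatible_iff (P := F) (π := E₁.f) _).2 (fun _ _ => key f hf))
      exact ⟨t, ht PUnit.unit⟩

end Groth.Agent.R2.H62.QfhInv
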