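import Mathlib

/-!
# Residue field degrees of finite ring maps and finite morphisms (helper62)
-/

set_option autoImplicit false
set_option linter.style.haveILetI false

namespace Groth.Agent.R2.H62.ResDeg

open Module

/-- `L` is spanned over `K` (through the ring map `f`) by at most `n` elements. -/
def SpanLE {K L : Type*} [CommRing K] [CommRing L] (f : K →+* L) (n : ℕ) : Prop :=
  ∃ s : Finset L, s.card ≤ n ∧ ∀ l : L, ∃ c : L → K, l = ∑ i ∈ s, f (c i) * i

theorem SpanLE.comp_bijective {K K' L L' : Type*} [CommRing K] [CommRing K'] [CommRing L]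
    [CommRing L'] {f : K →+* L} {n : ℕ} (h : SpanLE f n) (a : K' →+* K) (ha : Function.Surjective a)
    (b : L →+* L') (hb : Function.Bijective b) : SpanLE ((b.comp f).comp a) n := by
  classical
  obtain ⟨s, hs, hspan⟩ := h
  refine ⟨s.image b, (Finset.card_image_le).trans hs, fun l' => ?_⟩
  obtain ⟨l, rfl⟩ := hb.2 l'
  obtain ⟨c, hc⟩ := hspan l
  choose a' ha' using ha
  let e := Equiv.ofBijective b hb
  refine ⟨fun j => a' (c (e.symm j)), ?_⟩
  rw [Finset.sum_image (fun x _ y _ hxy => hb.1 hxy)]
  conv_lhs => rw [hc]
  rw [map_sum]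
  refine Finset.sum_congr rfl fun i _ => ?_
  have : e.symm (b i) = i := e.symm_apply_apply i
  simp only [RingHom.comp_apply, map_mul, this, ha']

theorem SpanLE.finrank_le {K L : Type*} [Field K] [Field L] {f : K →+* L} {n : ℕ} (h : SpanLE f n) :
    @Module.finrank K L _ _ f.toAlgebra.toModule ≤ n ∧
      @Module.Finite K L _ _ f.toAlgebra.toModule := by
  classical
  letI := f.toAlgebra
  obtain ⟨s, hs, hspan⟩ := h
  have htop : Submodule.span K (s : Set L) = ⊤ := by
    rw [eq_top_iff]
    rintro l -
    obtain ⟨c, rfl⟩ := hspan l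
    refine Submodule.sum_mem _ fun i hi => ?_
    have : f (c i) * i = c i • i := by rw [Algebra.smul_def]; rfl
    rw [this]
    exact Submodule.smul_mem _ _ (Submodule.subset_span hi)
  have hfin : Module.Finite K L := ⟨⟨s, htop⟩⟩
  refine ⟨?_, hfin⟩
  have := finrank_span_finset_le_card (R := K) s
  unfold Set.finrank at this
  rw [htop, finrank_top] at this
  exact this.trans hs


theorem spanLE_residueField_map {A B : Type*} [CommRing A] [CommRing B] (φ : A →+* B)
    (s : Finset B) (hs : ∀ b : B, ∃ c : B → A, b = ∑ i ∈ s, φ (c i) * i)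
    (p : Ideal A) [p.IsPrime] (q : Ideal B) [q.IsPrime] (hp : p = q.comap φ) :
    SpanLE (Ideal.ResidueField.map p q φ hp) s.card := by
  classical
  set g := Ideal.ResidueField.map p q φ hp with hg
  letI : Algebra p.ResidueField q.ResidueField := g.toAlgebra
  let K := p.ResidueField
  let L := q.ResidueField
  let ι : B →+* L := algebraMap B L
  have hgι : ∀ a : A, g (algebraMap A K a) = ι (φ a) := fun a =>
    Ideal.ResidueField.map_algebraMap p q φ hp a
  -- the K-span of the image of `s`
  let W : Submodule K L := Submodule.span K ((s.image ι : Finset L) : Set L)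
  have hB : ∀ b : B, ι b ∈ W := by
    intro b
    obtain ⟨c, rfl⟩ := hs b
    rw [map_sum]
    refine Submodule.sum_mem _ fun i hi => ?_
    rw [map_mul, ← hgι]
    have : g (algebraMap A K (c i)) * ι i = (algebraMap A K (c i)) • ι i := by
      rw [Algebra.smul_def]; rfl
    rw [this]
    exact Submodule.smul_mem _ _ (Submodule.subset_span (Finset.mem_image_of_mem ι hi))
  -- W is closed under multiplication
  have hmul : ∀ x ∈ W, ∀ y ∈ W, x * y ∈ W := by
    have h1 : ∀ b : B, ∀ y ∈ W, ι b * y ∈ W := by
      intro b y hy
      induction hy using Submodule.span_induction with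
      | mem y hy =>
        obtain ⟨i, -, rfl⟩ := Finset.mem_image.mp hy
        rw [← map_mul]; exact hB _
      | zero => rw [mul_zero]; exact zero_mem _
      | add x y _ _ hx hy => rw [mul_add]; exact add_mem hx hy
      | smul a x _ hx => rw [mul_smul_comm]; exact Submodule.smul_mem _ _ hx
    intro x hx y hy
    induction hx using Submodule.span_induction with
    | mem x hx =>
      obtain ⟨i, -, rfl⟩ := Finset.mem_image.mp hx
      exact h1 i y hy
    | zero => rw [zero_mul]; exact zero_mem _
    | add x x' _ _ hx hx' => rw [add_mul]; exact add_mem hx hx'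
    | smul a x _ hx => rw [smul_mul_assoc]; exact Submodule.smul_mem _ _ hx
  let S : Subalgebra K L :=
    { carrier := W
      mul_mem' := fun {x y} hx hy => hmul x hx y hy
      add_mem' := fun {x y} hx hy => add_mem hx hy
      algebraMap_mem' := fun r => by
        have h1 : (1 : L) ∈ W := by simpa using hB 1
        have : algebraMap K L r = r • (1 : L) := by rw [Algebra.smul_def, mul_one]
        show algebraMap K L r ∈ W
        rw [this]
        exact Submodule.smul_mem _ _ h1 }
  have hSW : Subalgebra.toSubmodule S = W := rfl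
  haveI : Module.Finite K S := by
    have : Module.Finite K W := Module.Finite.span_finset K _
    exact this
  have hfield : IsField S := by
    haveI : Algebra.IsIntegral K S := Algebra.IsIntegral.of_finite K S
    exact isField_of_isIntegral_of_isField' (R := K) (S := S) (Field.toIsField K)
  have htop : S = ⊤ := by
    rw [eq_top_iff]
    rintro z -
    obtain ⟨x, y, hy, rfl⟩ := IsFractionRing.div_surjective (A := B ⧸ q) z
    obtain ⟨x, rfl⟩ := Ideal.Quotient.mk_surjective x
    obtain ⟨y, rfl⟩ := Ideal.Quotient.mk_surjective y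
    have hx : algebraMap (B ⧸ q) L (Ideal.Quotient.mk q x) ∈ S := hB x
    have hy' : algebraMap (B ⧸ q) L (Ideal.Quotient.mk q y) ∈ S := hB y
    letI := hfield.toField
    have hne : (⟨_, hy'⟩ : S) ≠ 0 := by
      intro h
      have h0 : algebraMap (B ⧸ q) L (Ideal.Quotient.mk q y) = 0 := congrArg Subtype.val h
      have := (IsFractionRing.injective (B ⧸ q) L) (h0.trans (map_zero _).symm)
      exact (nonZeroDivisors.ne_zero hy) this
    have hinv : ((⟨_, hy'⟩ : S)⁻¹ : S).1 = (algebraMap (B ⧸ q) L (Ideal.Quotient.mk q y))⁻¹ := by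
      apply eq_inv_of_mul_eq_one_left
      have := inv_mul_cancel₀ hne
      exact congrArg Subtype.val this
    rw [div_eq_mul_inv, ← hinv]
    exact S.mul_mem hx (Subtype.property _)
  refine ⟨s.image ι, Finset.card_image_le, fun l => ?_⟩
  have hl : l ∈ W := by
    have : l ∈ S := by rw [htop]; trivial
    exact this
  obtain ⟨c, hc⟩ := (Submodule.mem_span_finset (R := K)).mp hl
  refine ⟨c, ?_⟩
  rw [← hc.2]
  refine Finset.sum_congr rfl fun i _ => ?_
  rw [Algebra.smul_def]; rfl


end Groth.Agent.R2.H62.ResDeg
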