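import Mathlib
import Groth.Agent.R2.H62ResDeg
import Groth.Agent.Lib.Helper20ResFld

/-!
# Uniform bound for residue field degrees of a finite morphism (helper62)
-/

set_option autoImplicit false
set_option linter.style.haveILetI false
universe u

open CategoryTheory AlgebraicGeometry

namespace Groth.Agent.R2.H62.ResDegSch

open Groth.Agent.R2.H62.ResDeg

theorem SpanLE.mono {K L : Type*} [CommRing K] [CommRing L] {f : K →+* L} {n m : ℕ}
    (h : SpanLE f n) (hnm : n ≤ m) : SpanLE f m := by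
  obtain ⟨s, hs, hspan⟩ := h
  exact ⟨s, hs.trans hnm, hspan⟩

/-- transport along a commutative square with open immersions as vertical maps. -/
theorem spanLE_of_square {S' S T' T : Scheme.{u}} (a : S' ⟶ S) (j : S ⟶ T) (i : S' ⟶ T')
    (p : T' ⟶ T) [IsOpenImmersion i] [IsOpenImmersion j] (h : a ≫ j = i ≫ p) (x' : S') (n : ℕ)
    (hx : SpanLE (a.residueFieldMap x').hom n) : SpanLE (p.residueFieldMap (i x')).hom n := by
  have hpt : j (a x') = p (i x') := by
    rw [← Scheme.Hom.comp_apply, ← Scheme.Hom.comp_apply, h]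
  have e1 := Scheme.Hom.residueFieldMap_congr h x'
  rw [Scheme.residueFieldMap_comp, Scheme.residueFieldMap_comp] at e1
  have e2 : p.residueFieldMap (i x') =
      ((T.residueFieldCongr hpt).inv ≫ j.residueFieldMap (a x')) ≫
        a.residueFieldMap x' ≫ inv (i.residueFieldMap x') := by
    rw [← Category.assoc, IsIso.eq_comp_inv, Category.assoc, e1]
    exact (Iso.inv_hom_id_assoc _ _).symm
  rw [e2]
  have hb : Function.Bijective (inv (i.residueFieldMap x')).hom :=
    ConcreteCategory.bijective_of_isIso (inv (i.residueFieldMap x'))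
  have ha : Function.Surjective
      ((T.residueFieldCongr hpt).inv ≫ j.residueFieldMap (a x')).hom :=
    (ConcreteCategory.bijective_of_isIso
      ((T.residueFieldCongr hpt).inv ≫ j.residueFieldMap (a x'))).2
  exact hx.comp_bijective _ ha _ hb

/-- the `Spec` case. -/
theorem spanLE_SpecMap {R R' : CommRingCat.{u}} (φ : R ⟶ R') (s : Finset R')
    (hs : ∀ b : R', ∃ c : R' → R, b = ∑ i ∈ s, φ.hom (c i) * i) (x' : PrimeSpectrum R') :
    SpanLE ((Spec.map φ).residueFieldMap x').hom s.card := by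
  have h1 := Groth.Agent.Lib.Helper20.ResFld.residueFieldMap_SpecMap φ x'
  have h2 : (Spec.map φ).residueFieldMap x' =
      ((Scheme.Spec.residueFieldIso R (x'.comap φ.hom)).hom ≫
        CommRingCat.ofHom (Ideal.ResidueField.map (x'.comap φ.hom).asIdeal x'.asIdeal φ.hom rfl)) ≫
        (Scheme.Spec.residueFieldIso R' x').inv :=
    (Iso.eq_comp_inv _).mpr h1
  rw [h2]
  have key := spanLE_residueField_map φ.hom s hs (x'.comap φ.hom).asIdeal x'.asIdeal rfl
  exact key.comp_bijective _
    (ConcreteCategory.bijective_of_isIso (Scheme.Spec.residueFieldIso R (x'.comap φ.hom)).hom).2 _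
    (ConcreteCategory.bijective_of_isIso (Scheme.Spec.residueFieldIso R' x').inv)

/-- Residue field degrees of a finite morphism to a quasi-compact scheme are uniformly bounded. -/
theorem exists_spanLE_of_isFinite {T' T : Scheme.{u}} (p : T' ⟶ T) [IsFinite p] [CompactSpace T] :
    ∃ N : ℕ, ∀ t' : T', SpanLE (p.residueFieldMap t').hom N := by
  classical
  have key : ∀ t : T, ∃ V : T.Opens, IsAffineOpen V ∧ t ∈ V := by
    intro t
    obtain ⟨_, ⟨V, hV, rfl⟩, htV, -⟩ := T.isBasis_affineOpens.exists_subset_of_mem_open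
      (Set.mem_univ t) isOpen_univ
    exact ⟨V, hV, htV⟩
  choose V hV htV using key
  obtain ⟨F, hF⟩ := isCompact_univ.elim_finite_subcover (fun t => (V t : Set T))
    (fun t => (V t).isOpen) (fun t _ => Set.mem_iUnion.mpr ⟨t, htV t⟩)
  have hfin : ∀ t : T, ∃ s : Finset Γ(T', p ⁻¹ᵁ V t),
      ∀ b : Γ(T', p ⁻¹ᵁ V t), ∃ c : Γ(T', p ⁻¹ᵁ V t) → Γ(T, V t),
        b = ∑ i ∈ s, (p.app (V t)).hom (c i) * i := by
    intro t
    have hf : (p.app (V t)).hom.Finite := IsFinite.finite_app p (V t) (hV t)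
    letI := (p.app (V t)).hom.toAlgebra
    obtain ⟨s, hs⟩ := (hf : Module.Finite Γ(T, V t) Γ(T', p ⁻¹ᵁ V t)).fg_top
    refine ⟨s, fun b => ?_⟩
    have hb : b ∈ Submodule.span Γ(T, V t) (s : Set Γ(T', p ⁻¹ᵁ V t)) := by rw [hs]; trivial
    obtain ⟨c, -, hc⟩ := (Submodule.mem_span_finset (R := Γ(T, V t))).mp hb
    refine ⟨c, ?_⟩
    rw [← hc]
    refine Finset.sum_congr rfl fun i _ => ?_
    rw [Algebra.smul_def]; rfl
  choose s hs using hfin
  refine ⟨F.sup fun t => (s t).card, fun t' => ?_⟩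
  obtain ⟨t, htF, ht⟩ : ∃ t ∈ F, p t' ∈ V t := by simpa using hF (Set.mem_univ (p t'))
  have hU : IsAffineOpen (p ⁻¹ᵁ V t) := (hV t).preimage p
  have hsq := (hV t).SpecMap_appLE_fromSpec p hU le_rfl
  have ht' : t' ∈ Set.range hU.fromSpec := by
    rw [hU.range_fromSpec]; exact ht
  obtain ⟨x', rfl⟩ := ht'
  have h1 : SpanLE ((Spec.map (p.appLE (V t) (p ⁻¹ᵁ V t) le_rfl)).residueFieldMap x').hom
      (s t).card := by
    refine spanLE_SpecMap _ (s t) ?_ x'
    rw [← Scheme.Hom.app_eq_appLE]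
    exact hs t
  have h2 := spanLE_of_square _ _ _ _ hsq x' _ h1
  exact SpanLE.mono h2 (Finset.le_sup (f := fun t => (s t).card) htF)

end Groth.Agent.R2.H62.ResDegSch
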