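import Mathlib
import Groth.Agent.Lib.Helper11ASCover
import Groth.Agent.Lib.Helper11ASCoverB

/-!
# helper63: H¹ of the cyclic group of order `p` acting on `k[[t]]` by `t ↦ t u` with a twist

Operators `τ e h = u^e · h(t u)`, `D e = τ e - 1`; leading-term analysis; the solvability lemma
`exists_preimage_of_lead` (successive approximation); the computation of `ker D^(p-1) / im D`.
-/

set_option autoImplicit false

namespace Groth.Agent.R2.H63.ASCoverH1

open PowerSeries Groth.Agent.Lib.Helper11ASCover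

universe u

variable {k : Type u} [Field k]

section Ops

variable (u : PowerSeries k) (hu : IsUnit u)

/-- the substitution `t ↦ t u` as an algebra endomorphism -/
noncomputable def σ : PowerSeries k →ₐ[k] PowerSeries k := substAlgHom (hasSubst_Xu u)

theorem σ_apply (h : PowerSeries k) : σ u h = subst (X * u) h := by
  rw [σ, coe_substAlgHom]

theorem σ_X : σ u X = X * u := by
  rw [σ, substAlgHom_X]

/-- the unit power `u^e` as a power series -/
noncomputable def U (e : ℤ) : PowerSeries k := ((hu.unit ^ e : (PowerSeries k)ˣ) : PowerSeries k)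

theorem U_zero : U u hu 0 = 1 := by simp [U]

theorem U_add (e e' : ℤ) : U u hu (e + e') = U u hu e * U u hu e' := by
  simp only [U]
  rw [zpow_add, Units.val_mul]

theorem U_natCast (j : ℕ) : U u hu (j : ℤ) = u ^ j := by
  simp only [U]
  rw [zpow_natCast, Units.val_pow_eq_pow_val, IsUnit.unit_spec]

theorem U_sub_mul_pow (e : ℤ) (j : ℕ) : U u hu (e - j) * u ^ j = U u hu e := by
  rw [← U_natCast u hu, ← U_add]
  congr 1
  ring

/-- the twisted action `h ↦ u^e · h(t u)` -/
noncomputable def τ (e : ℤ) : PowerSeries k →ₗ[k] PowerSeries k :=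
  (LinearMap.mulLeft k (U u hu e)) ∘ₗ (σ u).toLinearMap

theorem τ_apply (e : ℤ) (h : PowerSeries k) : τ u hu e h = U u hu e * σ u h := rfl

/-- `D e = τ e - 1` -/
noncomputable def D (e : ℤ) : PowerSeries k →ₗ[k] PowerSeries k := τ u hu e - LinearMap.id

theorem D_apply (e : ℤ) (h : PowerSeries k) : D u hu e h = U u hu e * σ u h - h := rfl

theorem X_pow_mul_τ (e : ℤ) (j : ℕ) (h : PowerSeries k) :
    X ^ j * τ u hu e h = τ u hu (e - j) (X ^ j * h) := by
  rw [τ_apply, τ_apply, map_mul, map_pow, σ_X, mul_pow, ← U_sub_mul_pow u hu e j]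
  ring

theorem X_pow_mul_D (e : ℤ) (j : ℕ) (h : PowerSeries k) :
    X ^ j * D u hu e h = D u hu (e - j) (X ^ j * h) := by
  have := X_pow_mul_τ u hu e j h
  simp only [D, LinearMap.sub_apply, LinearMap.id_apply, mul_sub, this]

theorem D_X_pow_mul (e : ℤ) (j : ℕ) (q : PowerSeries k) :
    D u hu e (X ^ j * q) = X ^ j * D u hu (e + j) q := by
  rw [X_pow_mul_D]
  congr 2
  ring

theorem X_pow_mul_D_pow (e : ℤ) (j : ℕ) (i : ℕ) (h : PowerSeries k) :
    X ^ j * ((D u hu e) ^ i) h = ((D u hu (e - j)) ^ i) (X ^ j * h) := by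
  induction i generalizing h with
  | zero => simp
  | succ i ih =>
    rw [pow_succ, pow_succ, Module.End.mul_apply, Module.End.mul_apply, ih, X_pow_mul_D]

end Ops

section Lead

/-- `b = X^v q` with `q(0) = β` -/
def IsLead (v : ℕ) (β : k) (b : PowerSeries k) : Prop :=
  ∃ q : PowerSeries k, b = X ^ v * q ∧ constantCoeff q = β

theorem IsLead.coeff {v : ℕ} {β : k} {b : PowerSeries k} (h : IsLead v β b) : coeff v b = β := by
  obtain ⟨q, rfl, hq⟩ := h
  rw [coeff_X_pow_mul', if_pos le_rfl, Nat.sub_self, coeff_zero_eq_constantCoeff_apply, hq]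

theorem IsLead.coeff_lt {v : ℕ} {β : k} {b : PowerSeries k} (h : IsLead v β b) {i : ℕ}
    (hi : i < v) : PowerSeries.coeff i b = 0 := by
  obtain ⟨q, rfl, -⟩ := h
  rw [coeff_X_pow_mul', if_neg (by omega)]

theorem IsLead.eq_zero {v : ℕ} {β : k} (h : IsLead v β (0 : PowerSeries k)) : β = 0 := by
  have := h.coeff
  simpa using this.symm

theorem isLead_of_coeff_lt {v : ℕ} {b : PowerSeries k} (h : ∀ i < v, PowerSeries.coeff i b = 0) :
    IsLead v (PowerSeries.coeff v b) b := by
  obtain ⟨q, hq⟩ := (X_pow_dvd_iff.mpr h)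
  refine ⟨q, hq, ?_⟩
  rw [hq, coeff_X_pow_mul', if_pos le_rfl, Nat.sub_self, coeff_zero_eq_constantCoeff_apply]

variable {n : ℕ} {u : PowerSeries k} (hn : 0 < n) (hnk : (n : k) ≠ 0)
  (hu1 : constantCoeff u = 1) (hun : u ^ n * (1 + X ^ n) = 1) (hu : IsUnit u)

include hn hnk hu1 hun in
theorem D_lead_zero (e : ℤ) (q : PowerSeries k) :
    IsLead n (-(e : k) / (n : k) * constantCoeff q) (D u hu e q) := by
  obtain ⟨s, hs, hs0⟩ := isOne_zpow hn hnk hu1 hun hu e
  obtain ⟨q', hq'⟩ := subst_congr (isOne_u hnk hu1 hun) q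
  refine ⟨s * q + X * q' + X ^ (n + 1) * s * q', ?_, ?_⟩
  · rw [D_apply, σ_apply, hq']
    change ((hu.unit ^ e : (PowerSeries k)ˣ) : PowerSeries k) * _ - _ = _
    rw [hs]
    ring
  · simp only [map_add, map_mul, map_pow, constantCoeff_X, zero_mul, add_zero,
      zero_pow (Nat.succ_ne_zero n), hs0]

include hn hnk hu1 hun in
theorem D_lead (e : ℤ) {v : ℕ} {β : k} {b : PowerSeries k} (hb : IsLead v β b) :
    IsLead (v + n) (-((e + v : ℤ) : k) / (n : k) * β) (D u hu e b) := by
  obtain ⟨q, rfl, hq⟩ := hb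
  obtain ⟨r, hr, hr0⟩ := D_lead_zero hn hnk hu1 hun hu (e + v) q
  refine ⟨r, ?_, ?_⟩
  · rw [D_X_pow_mul, hr, pow_add, mul_assoc]
  · rw [hr0, hq]

include hn hnk hu1 hun in
theorem D_pow_lead (e : ℤ) {v : ℕ} {β : k} {b : PowerSeries k} (hb : IsLead v β b) (j : ℕ) :
    IsLead (v + j * n)
      ((∏ i ∈ Finset.range j, (-((e + v + i * n : ℤ) : k) / (n : k))) * β)
      (((D u hu e) ^ j) b) := by
  induction j with
  | zero => simpa using hb
  | succ j ih =>
    have h1 := D_lead hn hnk hu1 hun hu e ih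
    rw [pow_succ', Module.End.mul_apply, Finset.prod_range_succ]
    have hv : v + j * n + n = v + (j + 1) * n := by ring
    rw [hv] at h1
    convert h1 using 1
    push_cast
    ring

include hn hnk hu1 hun in
/-- elements of `ker D^(p-1)` have no leading term in degrees `v` with `p ∣ e + v - n` -/
theorem lead_eq_zero_of_dvd (p : ℕ) [hp : Fact p.Prime] [CharP k p] (hpn : ¬ p ∣ n) (e : ℤ)
    {v : ℕ} {β : k} {b : PowerSeries k} (hb : IsLead v β b)
    (hker : ((D u hu e) ^ (p - 1)) b = 0) (hdvd : (p : ℤ) ∣ e + v - n) : β = 0 := by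
  have h1 := D_pow_lead hn hnk hu1 hun hu e hb (p - 1)
  rw [hker] at h1
  have h2 := h1.eq_zero
  rcases mul_eq_zero.mp h2 with h | h
  · exfalso
    rw [Finset.prod_eq_zero_iff] at h
    obtain ⟨i, hi, hi0⟩ := h
    rw [Finset.mem_range] at hi
    rw [div_eq_zero_iff] at hi0
    rcases hi0 with hi0 | hi0
    · rw [neg_eq_zero, CharP.intCast_eq_zero_iff k p] at hi0
      have h3 : (p : ℤ) ∣ ((i : ℤ) + 1) * n := by
        have : ((i : ℤ) + 1) * n = (e + v + i * n) - (e + v - n) := by ring
        rw [this]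
        exact dvd_sub hi0 hdvd
      have hpp : Prime (p : ℤ) := Nat.prime_iff_prime_int.mp hp.out
      rcases hpp.dvd_or_dvd h3 with h4 | h4
      · have h5 : (p : ℤ) ≤ (i : ℤ) + 1 := Int.le_of_dvd (by positivity) h4
        have := hp.out.one_lt
        omega
      · exact hpn (Int.natCast_dvd_natCast.mp h4)
    · exact hnk hi0
  · exact h

end Lead

section Norm

variable (u : PowerSeries k) (hu : IsUnit u)

/-- `PU j = ∏_{i<j} σ^i(u)` as a unit -/
noncomputable def PU : ℕ → (PowerSeries k)ˣ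
  | 0 => 1
  | j + 1 => hu.unit * Units.map ((σ u : PowerSeries k →ₐ[k] PowerSeries k) :
      PowerSeries k →* PowerSeries k) (PU j)

theorem τ_pow_apply (e : ℤ) (j : ℕ) (h : PowerSeries k) :
    ((τ u hu e) ^ j) h = ((PU u hu j ^ e : (PowerSeries k)ˣ) : PowerSeries k) * (σ u)^[j] h := by
  induction j generalizing h with
  | zero => simp [PU]
  | succ j ih =>
    rw [pow_succ', Module.End.mul_apply, ih, τ_apply, map_mul, Function.iterate_succ_apply',
      ← mul_assoc]
    congr 1
    change _ = (((hu.unit * Units.map ((σ u : PowerSeries k →ₐ[k] PowerSeries k) :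
      PowerSeries k →* PowerSeries k) (PU u hu j)) ^ e : (PowerSeries k)ˣ) : PowerSeries k)
    rw [mul_zpow, Units.val_mul, ← map_zpow]
    rfl

theorem σ_iterate_X (j : ℕ) : (σ u)^[j] X = X * (PU u hu j : PowerSeries k) := by
  induction j with
  | zero => simp [PU]
  | succ j ih =>
    rw [Function.iterate_succ_apply', ih, map_mul, σ_X]
    change _ = X * ((hu.unit * Units.map ((σ u : PowerSeries k →ₐ[k] PowerSeries k) :
      PowerSeries k →* PowerSeries k) (PU u hu j) : (PowerSeries k)ˣ) : PowerSeries k)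
    rw [Units.val_mul, IsUnit.unit_spec, mul_assoc]
    rfl

theorem σ_iterate_one (j : ℕ) : (σ u)^[j] 1 = 1 := by
  induction j with
  | zero => simp
  | succ j ih => rw [Function.iterate_succ_apply', ih, map_one]

/-- if one twisted action has order dividing `N`, all of them do -/
theorem τ_pow_eq_one (a : ℤ) (N : ℕ) (ha : (τ u hu a) ^ N = 1) (e : ℤ) : (τ u hu e) ^ N = 1 := by
  have h1 : ∀ h : PowerSeries k,
      ((PU u hu N ^ a : (PowerSeries k)ˣ) : PowerSeries k) * (σ u)^[N] h = h := by
    intro h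
    rw [← τ_pow_apply, ha, Module.End.one_apply]
  have h2 : ((PU u hu N ^ a : (PowerSeries k)ˣ) : PowerSeries k) = 1 := by
    have := h1 1
    rwa [σ_iterate_one, mul_one] at this
  have h3 : ∀ h : PowerSeries k, (σ u)^[N] h = h := by
    intro h
    have := h1 h
    rwa [h2, one_mul] at this
  have h4 : PU u hu N = 1 := by
    apply Units.ext
    have := h3 X
    rw [σ_iterate_X u hu] at this
    have hX : (X : PowerSeries k) ≠ 0 := X_ne_zero
    have h5 : (X : PowerSeries k) * (PU u hu N : PowerSeries k) = X * 1 := by rw [this, mul_one]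
    exact mul_left_cancel₀ hX h5
  ext1 h
  rw [τ_pow_apply, h4, one_zpow, Units.val_one, one_mul, h3, Module.End.one_apply]

end Norm

section CharP

theorem sub_one_pow_char (k : Type u) [Field k] (p : ℕ) [hp : Fact p.Prime] [CharP k p]
    {A : Type*} [Ring A] [Algebra k A] (t : A) : (t - 1) ^ p = t ^ p - 1 := by
  have h : (Polynomial.X - 1 : Polynomial k) ^ p = Polynomial.X ^ p - 1 := by
    rw [sub_pow_char, one_pow]
  simpa using congrArg (Polynomial.aeval t) h

theorem geom_sum_eq_sub_one_pow (k : Type u) [Field k] (p : ℕ) [hp : Fact p.Prime] [CharP k p]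
    {A : Type*} [Ring A] [Algebra k A] (t : A) :
    ∑ j ∈ Finset.range p, t ^ j = (t - 1) ^ (p - 1) := by
  have h : (∑ j ∈ Finset.range p, (Polynomial.X : Polynomial k) ^ j) =
      (Polynomial.X - 1) ^ (p - 1) := by
    have h1 : (Polynomial.X - 1 : Polynomial k) ≠ 0 := Polynomial.X_sub_C_ne_zero (1 : k)
    apply mul_left_cancel₀ h1
    rw [mul_comm, geom_sum_mul, ← pow_succ', Nat.sub_add_cancel hp.out.one_le, sub_pow_char,
      one_pow]
  simpa using congrArg (Polynomial.aeval t) h

end CharP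

section Approx

/-- the partial solutions in the successive approximation -/
noncomputable def approx (T : PowerSeries k →ₗ[k] PowerSeries k) (n : ℕ) (γ : ℕ → k)
    (b : PowerSeries k) : ℕ → PowerSeries k
  | 0 => 0
  | j + 1 => approx T n γ b j +
      C ((γ j)⁻¹ * PowerSeries.coeff (j + n) (b - T (approx T n γ b j))) * X ^ j

/-- Successive approximation: a "triangular" operator raising degrees by `n` hits every `b`
divisible by `X^n` whose translates by the image have no leading terms in the degenerate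
degrees. -/
theorem exists_preimage_of_lead (T : PowerSeries k →ₗ[k] PowerSeries k) (n : ℕ) (γ : ℕ → k)
    (hT : ∀ (j : ℕ) (q : PowerSeries k), IsLead (j + n) (γ j * constantCoeff q) (T (X ^ j * q)))
    (b : PowerSeries k) (hb0 : ∃ q, b = X ^ n * q)
    (hb : ∀ (h : PowerSeries k) (j : ℕ) (β : k), γ j = 0 → IsLead (j + n) β (b - T h) → β = 0) :
    ∃ h, T h = b := by
  set H := approx T n γ b with hH
  set η : ℕ → k := fun j => (γ j)⁻¹ * PowerSeries.coeff (j + n) (b - T (H j)) with hη
  have hHsucc : ∀ j, H (j + 1) = H j + C (η j) * X ^ j := fun j => rfl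
  -- Claim 1
  have claim1 : ∀ j, ∀ i < j + n, PowerSeries.coeff i (b - T (H j)) = 0 := by
    intro j
    induction j with
    | zero =>
      intro i hi
      obtain ⟨q, hq⟩ := hb0
      have : H 0 = 0 := rfl
      rw [this, map_zero, sub_zero, hq, coeff_X_pow_mul', if_neg (by omega)]
    | succ j ih =>
      intro i hi
      have hlead := isLead_of_coeff_lt ih
      have hTX : T (C (η j) * X ^ j) = η j • T (X ^ j * 1) := by
        rw [← map_smul, mul_one, ← smul_eq_C_mul]
      have hTlead := hT j 1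
      rw [hHsucc, map_add, hTX]
      have hsplit : b - (T (H j) + η j • T (X ^ j * 1)) =
          (b - T (H j)) - η j • T (X ^ j * 1) := by ring
      rw [hsplit, map_sub, coeff_smul, smul_eq_mul]
      rcases Nat.lt_or_ge i (j + n) with hlt | hge
      · rw [ih i hlt, hTlead.coeff_lt hlt, mul_zero, sub_zero]
      · have hi' : i = j + n := by omega
        subst hi'
        rw [hTlead.coeff, map_one, mul_one]
        by_cases hγ : γ j = 0
        · have h0 := hb (H j) j _ hγ hlead
          rw [h0, hγ, mul_zero, sub_zero]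
        · simp only [hη]
          field_simp
          ring
  -- Claim 2
  have claim2 : ∀ j i, PowerSeries.coeff i (H j) = if i < j then η i else 0 := by
    intro j
    induction j with
    | zero =>
      intro i
      have : H 0 = 0 := rfl
      simp [this]
    | succ j ih =>
      intro i
      rw [hHsucc, map_add, ih, coeff_C_mul, coeff_X_pow]
      by_cases h1 : i < j
      · have h2 : i < j + 1 := by omega
        have h3 : i ≠ j := by omega
        simp [h1, h2, h3]
      · by_cases h2 : i = j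
        · subst h2
          simp
        · have h3 : ¬ i < j + 1 := by omega
          simp [h1, h2, h3]
  refine ⟨PowerSeries.mk η, ?_⟩
  ext i
  -- compare with the `(i+1)`-st approximation
  have hdiv : X ^ (i + 1) ∣ PowerSeries.mk η - H (i + 1) := by
    rw [X_pow_dvd_iff]
    intro m hm
    rw [map_sub, coeff_mk, claim2, if_pos hm, sub_self]
  obtain ⟨t, ht⟩ := hdiv
  have hmk : PowerSeries.mk η = H (i + 1) + X ^ (i + 1) * t := by rw [← ht]; ring
  have h1 := claim1 (i + 1) i (by omega)
  have h2 := (hT (i + 1) t).coeff_lt (i := i) (by omega)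
  rw [hmk, map_add, map_add, h2, add_zero]
  rw [map_sub, sub_eq_zero] at h1
  exact h1.symm

end Approx

section Main

variable {n : ℕ} {u : PowerSeries k} (hn : 0 < n)
  (hu1 : constantCoeff u = 1) (hun : u ^ n * (1 + X ^ n) = 1) (hu : IsUnit u)
  (p : ℕ) [hp : Fact p.Prime] [CharP k p] (hpn : ¬ p ∣ n) (a : ℤ)

/-- the index set of the basis: `1 ≤ m ≤ n` with `p ∤ a - m` -/
def Mset (n p : ℕ) (a : ℤ) : Finset ℕ :=
  (Finset.Icc 1 n).filter (fun m : ℕ => ¬ (p : ℤ) ∣ a - (m : ℤ))

include hpn in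
theorem natCast_ne_zero_of_not_dvd : (n : k) ≠ 0 :=
  fun h0 => hpn ((CharP.cast_eq_zero_iff k p n).mp h0)

theorem D_pow_char (e : ℤ) (hτ : (τ u hu e) ^ p = 1) : (D u hu e) ^ p = 0 := by
  have := sub_one_pow_char k p (τ u hu e)
  rw [hτ, sub_self] at this
  exact this

include hn hu1 hun hpn in
/-- elements of `ker D^(p-1)` whose coefficients at `n - m`, `m ∈ Mset`, vanish are in the
image of `D`. -/
theorem mem_range_D (b : PowerSeries k) (hbV : ((D u hu a) ^ (p - 1)) b = 0)
    (hrange : ∀ h, ((D u hu a) ^ (p - 1)) (D u hu a h) = 0)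
    (hb : ∀ m ∈ Mset n p a, PowerSeries.coeff (n - m) b = 0) :
    ∃ h, D u hu a h = b := by
  have hnk : (n : k) ≠ 0 := natCast_ne_zero_of_not_dvd p hpn
  -- K1: coefficients below `n` vanish
  have K1 : ∀ i < n, PowerSeries.coeff i b = 0 := by
    intro i
    induction i using Nat.strong_induction_on with
    | _ i ih =>
      intro hi
      have hlead := isLead_of_coeff_lt (b := b) (v := i) (fun j hj => ih j hj (by omega))
      by_cases hm : (n - i) ∈ Mset n p a
      · have := hb _ hm
        rwa [Nat.sub_sub_self hi.le] at this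
      · have hdvd : (p : ℤ) ∣ a + (i : ℕ) - n := by
          by_contra hnd
          apply hm
          rw [Mset, Finset.mem_filter, Finset.mem_Icc]
          refine ⟨⟨by omega, by omega⟩, ?_⟩
          rw [Nat.cast_sub hi.le]
          intro h
          apply hnd
          have : a + (i : ℤ) - n = a - ((n : ℤ) - i) := by ring
          rw [this]
          exact h
        exact lead_eq_zero_of_dvd hn hnk hu1 hun hu p hpn a hlead hbV hdvd
  -- K2: successive approximation
  refine exists_preimage_of_lead (D u hu a) n (fun j => -((a + j : ℤ) : k) / (n : k)) ?_ b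
    (X_pow_dvd_iff.mpr K1) ?_
  · intro j q
    exact D_lead hn hnk hu1 hun hu a ⟨q, rfl, rfl⟩
  · intro h j β hγ hlead
    have hker : ((D u hu a) ^ (p - 1)) (b - D u hu a h) = 0 := by
      rw [map_sub, hbV, hrange, sub_zero]
    have hdvd : (p : ℤ) ∣ a + ((j + n : ℕ) : ℤ) - n := by
      have h0 : ((a + j : ℤ) : k) = 0 := by
        have := hγ
        rw [div_eq_zero_iff] at this
        rcases this with h | h
        · exact neg_eq_zero.mp h
        · exact absurd h hnk
      have := (CharP.intCast_eq_zero_iff k p _).mp h0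
      have e : a + ((j + n : ℕ) : ℤ) - n = a + j := by push_cast; ring
      rw [e]
      exact this
    exact lead_eq_zero_of_dvd hn hnk hu1 hun hu p hpn a hlead hker hdvd

include hn hu1 hun hpn in
/-- the cocycles `c_m` -/
theorem exists_cocycle (hτ : (τ u hu a) ^ p = 1) (m : ℕ) (hmn : m ≤ n) :
    ∃ c : PowerSeries k, ((D u hu a) ^ (p - 1)) c = 0 ∧
      IsLead (n - m) (-((a - m : ℤ) : k) / (n : k)) c := by
  have hnk : (n : k) ≠ 0 := natCast_ne_zero_of_not_dvd p hpn
  obtain ⟨s, hs, hs0⟩ := isOne_zpow hn hnk hu1 hun hu (a - m)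
  refine ⟨X ^ (n - m) * s, ?_, ⟨s, rfl, hs0⟩⟩
  have hXm : (X : PowerSeries k) ^ m ≠ 0 := pow_ne_zero _ X_ne_zero
  apply mul_left_cancel₀ hXm
  rw [X_pow_mul_D_pow, mul_zero]
  have h1 : X ^ m * (X ^ (n - m) * s) = D u hu (a - m) 1 := by
    rw [D_apply, map_one, mul_one, ← mul_assoc, ← pow_add, Nat.add_sub_cancel' hmn]
    change _ = ((hu.unit ^ (a - (m : ℤ)) : (PowerSeries k)ˣ) : PowerSeries k) - 1
    rw [hs]
    ring
  rw [h1, ← Module.End.mul_apply, ← pow_succ, Nat.sub_add_cancel hp.out.one_le,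
    D_pow_char hu p (a - m) (τ_pow_eq_one u hu a p hτ (a - m))]
  rfl

include hn hu1 hun hpn in
/-- `ker D^(p-1) / im D` has a basis indexed by `Mset n p a`. -/
theorem nonempty_quot_equiv (hτ : (τ u hu a) ^ p = 1)
    (g : PowerSeries k →ₗ[k] PowerSeries k) (hg : g = (D u hu a) ^ (p - 1))
    (c : PowerSeries k →ₗ[k] LinearMap.ker g) (hc : ∀ x, (c x : PowerSeries k) = D u hu a x) :
    Nonempty ((LinearMap.ker g ⧸ LinearMap.range c) ≃ₗ[k] (Mset n p a → k)) := by
  classical
  subst hg
  have hnk : (n : k) ≠ 0 := natCast_ne_zero_of_not_dvd p hpn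
  have hrange : ∀ h, ((D u hu a) ^ (p - 1)) (D u hu a h) = 0 := by
    intro h
    rw [← Module.End.mul_apply, ← pow_succ, Nat.sub_add_cancel hp.out.one_le,
      D_pow_char hu p a hτ]
    rfl
  have hMmem : ∀ m : Mset n p a, 1 ≤ m.1 ∧ m.1 ≤ n ∧ ¬ (p : ℤ) ∣ a - (m.1 : ℤ) := by
    intro m
    have := m.2
    simp only [Mset, Finset.mem_filter, Finset.mem_Icc] at this
    exact ⟨this.1.1, this.1.2, this.2⟩
  let π : LinearMap.ker ((D u hu a) ^ (p - 1)) →ₗ[k] (Mset n p a → k) :=
    LinearMap.pi (fun m => (PowerSeries.coeff (n - m.1)).comp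
      (LinearMap.ker ((D u hu a) ^ (p - 1))).subtype)
  have hπ : ∀ (b : LinearMap.ker ((D u hu a) ^ (p - 1))) (m : Mset n p a),
      π b m = PowerSeries.coeff (n - m.1) (b : PowerSeries k) :=
    fun b m => rfl
  have hker : LinearMap.ker π = LinearMap.range c := by
    ext ⟨b, hbV⟩
    rw [LinearMap.mem_ker, LinearMap.mem_range]
    constructor
    · intro h0
      have hb : ∀ m ∈ Mset n p a, PowerSeries.coeff (n - m) b = 0 := by
        intro m hm
        have := congrFun h0 ⟨m, hm⟩
        exact this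
      obtain ⟨h, hh⟩ := mem_range_D hn hu1 hun hu p hpn a b (LinearMap.mem_ker.mp hbV) hrange hb
      exact ⟨h, Subtype.ext (by rw [hc, hh])⟩
    · rintro ⟨h, hh⟩
      have hb : b = D u hu a h := by
        have := congrArg Subtype.val hh
        rw [hc] at this
        exact this.symm
      funext m
      rw [hπ]
      change PowerSeries.coeff (n - m.1) b = 0
      rw [hb]
      have := (hMmem m).1
      exact (D_lead_zero hn hnk hu1 hun hu a h).coeff_lt (by omega)
  -- the cocycles
  choose cfun hcV hclead using fun m : Mset n p a =>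
    exists_cocycle hn hu1 hun hu p hpn a hτ m.1 (hMmem m).2.1
  let cV : Mset n p a → LinearMap.ker ((D u hu a) ^ (p - 1)) :=
    fun m => ⟨cfun m, LinearMap.mem_ker.mpr (hcV m)⟩
  let Λ : (Mset n p a → k) →ₗ[k] (Mset n p a → k) := π ∘ₗ Fintype.linearCombination k cV
  have hΛ : ∀ (l : Mset n p a → k) (m₀ : Mset n p a),
      Λ l m₀ = ∑ m, l m * PowerSeries.coeff (n - m₀.1) (cfun m) := by
    intro l m₀
    change π (Fintype.linearCombination k cV l) m₀ = _
    rw [hπ, Fintype.linearCombination_apply]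
    rw [Submodule.coe_sum, map_sum]
    apply Finset.sum_congr rfl
    intro m _
    rw [Submodule.coe_smul, coeff_smul, smul_eq_mul]
  have hΛinj : Function.Injective Λ := by
    rw [← LinearMap.ker_eq_bot, LinearMap.ker_eq_bot']
    intro l hl
    by_contra hne
    have hS : (Finset.univ.filter (fun m : Mset n p a => l m ≠ 0)).Nonempty := by
      by_contra hemp
      rw [Finset.not_nonempty_iff_eq_empty] at hemp
      apply hne
      funext m
      by_contra hm
      have : m ∈ Finset.univ.filter (fun m : Mset n p a => l m ≠ 0) :=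
        Finset.mem_filter.mpr ⟨Finset.mem_univ _, hm⟩
      rw [hemp] at this
      exact absurd this (Finset.notMem_empty _)
    obtain ⟨m₀, hm₀, hmax⟩ := Finset.exists_max_image _ (fun m : Mset n p a => m.1) hS
    have hlm₀ : l m₀ ≠ 0 := (Finset.mem_filter.mp hm₀).2
    have h1 := congrFun hl m₀
    rw [hΛ, Pi.zero_apply, Finset.sum_eq_single m₀] at h1
    · rcases mul_eq_zero.mp h1 with h | h
      · exact hlm₀ h
      · rw [(hclead m₀).coeff, div_eq_zero_iff] at h
        rcases h with h | h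
        · rw [neg_eq_zero, CharP.intCast_eq_zero_iff k p] at h
          exact (hMmem m₀).2.2 h
        · exact hnk h
    · intro m _ hmne
      by_cases hlm : l m = 0
      · rw [hlm, zero_mul]
      · have hle : m.1 ≤ m₀.1 := hmax m (Finset.mem_filter.mpr ⟨Finset.mem_univ _, hlm⟩)
        have hlt : m.1 < m₀.1 := lt_of_le_of_ne hle (fun h => hmne (Subtype.ext h))
        have := (hMmem m₀).2.1
        rw [(hclead m).coeff_lt (by omega), mul_zero]
    · intro h
      exact absurd (Finset.mem_univ _) h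
  have hΛsurj : Function.Surjective Λ := LinearMap.injective_iff_surjective.mp hΛinj
  have hsurj : Function.Surjective π := by
    intro y
    obtain ⟨l, hl⟩ := hΛsurj y
    exact ⟨Fintype.linearCombination k cV l, hl⟩
  exact ⟨(Submodule.quotEquivOfEq _ _ hker.symm).trans (π.quotKerEquivOfSurjective hsurj)⟩

end Main

section Bridge

open CategoryTheory

variable {n : ℕ} {u : PowerSeries k}

theorem sum_eq_sum_range_pow {G : Type u} [Group G] [Fintype G] (g : G)
    (hg : ∀ x : G, x ∈ Subgroup.zpowers g) {A : Type*} [AddCommMonoid A] (f : G → A) :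
    ∑ x : G, f x = ∑ j ∈ Finset.range (Nat.card G), f (g ^ j) := by
  classical
  rw [← IsCyclic.image_range_card hg, Finset.sum_image]
  intro i hi j hj hij
  rw [← orderOf_eq_card_of_forall_mem_zpowers hg] at hi hj
  exact pow_injOn_Iio_orderOf (by simpa using hi) (by simpa using hj) hij

theorem nonempty_H1_equiv (p : ℕ) [hp : Fact p.Prime] [CharP k p] (hn : 0 < n) (hpn : ¬ p ∣ n)
    (hu1 : constantCoeff u = 1) (hun : u ^ n * (1 + X ^ n) = 1) (hu : IsUnit u) (a : ℤ)
    {G : Type u} [Group G] [Finite G] (g : G) (hG : Nat.card G = p)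
    (hg : ∀ x : G, x ∈ Subgroup.zpowers g)
    (ρ : Representation k G (PowerSeries k))
    (hρ : ∀ h : PowerSeries k, ρ g h =
      ((hu.unit ^ a : (PowerSeries k)ˣ) : PowerSeries k) * PowerSeries.subst (X * u) h) :
    Nonempty (groupCohomology.H1 (Rep.of ρ) ≃ₗ[k] (Mset n p a → k)) := by
  classical
  let _ : Fintype G := Fintype.ofFinite G
  have : IsCyclic G := ⟨g, hg⟩
  let _ : CommGroup G := IsCyclic.commGroup
  -- `ρ g = τ a`
  have hτρ : τ u hu a = ρ g := by
    ext1 h
    rw [τ_apply, σ_apply, hρ]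
    rfl
  have hτ : (τ u hu a) ^ p = 1 := by
    rw [hτρ, ← map_pow, ← hG, pow_card_eq_one', map_one]
  -- the norm
  have hnorm : Representation.norm ρ = (D u hu a) ^ (p - 1) := by
    rw [Representation.norm, sum_eq_sum_range_pow g hg, hG]
    simp_rw [map_pow]
    rw [geom_sum_eq_sub_one_pow k p (ρ g), ← hτρ]
    rfl
  let S := Rep.FiniteCyclicGroup.subCompNormHom (Rep.of ρ) g
  have e1 := Rep.FiniteCyclicGroup.groupCohomologyIsoOdd (Rep.of ρ) g hg 1 (by decide)
  have e2 := S.moduleCatHomologyIso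
  have e3 : groupCohomology.H1 (Rep.of ρ) ≃ₗ[k]
      (LinearMap.ker S.g.hom ⧸ LinearMap.range S.moduleCatToCycles) := (e1 ≪≫ e2).toLinearEquiv
  obtain ⟨e4⟩ := nonempty_quot_equiv hn hu1 hun hu p hpn a hτ S.g.hom hnorm S.moduleCatToCycles
    (fun x => by
      change ρ g x - x = _
      rw [← hτρ]
      rfl)
  exact ⟨e3.trans e4⟩

end Bridge

section Arith

theorem card_filter_dvd (n p : ℕ) (hp : 0 < p) (a : ℤ) :
    (((Finset.Icc 1 n).filter (fun m : ℕ => (p : ℤ) ∣ a - (m : ℤ))).card : ℤ) =
      (a - 1) / (p : ℤ) - (a - 1 - n) / (p : ℤ) := by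
  have h1 : ((Finset.Icc 1 n).filter (fun m : ℕ => (p : ℤ) ∣ a - (m : ℤ))).card =
      ((Finset.Ioc (a - 1 - n) (a - 1)).filter (fun x : ℤ => (p : ℤ) ∣ x)).card := by
    apply Finset.card_bij (fun (m : ℕ) _ => (a - (m : ℤ) : ℤ))
    · intro m hm
      simp only [Finset.mem_filter, Finset.mem_Icc, Finset.mem_Ioc] at hm ⊢
      refine ⟨⟨by omega, by omega⟩, hm.2⟩
    · intro m₁ _ m₂ _ h
      have : (m₁ : ℤ) = m₂ := by linarith
      exact_mod_cast this
    · intro x hx
      simp only [Finset.mem_filter, Finset.mem_Ioc] at hx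
      refine ⟨(a - x).toNat, ?_, ?_⟩
      · simp only [Finset.mem_filter, Finset.mem_Icc]
        have : ((a - x).toNat : ℤ) = a - x := Int.toNat_of_nonneg (by omega)
        refine ⟨⟨by omega, by omega⟩, ?_⟩
        rw [this]
        simpa using hx.2
      · have : ((a - x).toNat : ℤ) = a - x := Int.toNat_of_nonneg (by omega)
        rw [this]; ring
  rw [h1, Int.Ioc_filter_dvd_card _ _ (by exact_mod_cast hp : (0 : ℤ) < (p : ℤ))]
  have e1 : ⌊((a - 1 : ℤ) : ℚ) / ((p : ℤ) : ℚ)⌋ = (a - 1) / (p : ℤ) := by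
    rw [Int.cast_natCast]
    exact Rat.floor_intCast_div_natCast _ _
  have e2 : ⌊((a - 1 - n : ℤ) : ℚ) / ((p : ℤ) : ℚ)⌋ = (a - 1 - n) / (p : ℤ) := by
    rw [Int.cast_natCast]
    exact Rat.floor_intCast_div_natCast _ _
  rw [e1, e2]
  have hmono : (a - 1 - n) / (p : ℤ) ≤ (a - 1) / (p : ℤ) :=
    Int.ediv_le_ediv (by exact_mod_cast hp) (by omega)
  omega

theorem card_Mset (n p : ℕ) (hp : 0 < p) (a : ℤ) :
    ((Mset n p a).card : ℤ) = n - (a - 1) / (p : ℤ) + (a - 1 - n) / (p : ℤ) := by
  have h1 := Finset.card_filter_add_card_filter_not (s := Finset.Icc 1 n)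
    (fun m : ℕ => (p : ℤ) ∣ a - (m : ℤ))
  have h2 := card_filter_dvd n p hp a
  have h3 : (Finset.Icc 1 n).card = n := by simp
  rw [h3] at h1
  unfold Mset
  omega

end Arith

end Groth.Agent.R2.H63.ASCoverH1
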