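import Mathlib

/-!
# helper63: 1-cocycles of a finite cyclic group

For `G` generated by `g` of order `p` and `A : Rep k G` with `T = ρ(g)`:
* `cocycle_pow` : `x (g^j) = ∑_{i<j} T^i (x g)`;
* `norm_eval_eq_zero` : `∑_{i<p} T^i (x g) = 0`;
* `mem_coboundaries_of_eval` : if `x g = T y - y` then `x` is a coboundary;
* `exists_cocycle_of_norm_eq_zero` : every `b` with `∑_{i<p} T^i b = 0` is `x g` for a cocycle.
-/

set_option autoImplicit false

namespace Groth.Agent.R2.H63.CyclicH1

open groupCohomology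

universe u

variable {k G : Type u} [CommRing k] [Group G] (A : Rep k G) (g : G)

theorem cocycle_pow (x : cocycles₁ A) (j : ℕ) :
    x (g ^ j) = ∑ i ∈ Finset.range j, ((A.ρ g) ^ i) (x g) := by
  induction j with
  | zero => simp
  | succ j ih =>
    rw [pow_succ, (mem_cocycles₁_iff x).1 x.2 (g ^ j) g, ih, Finset.sum_range_succ, map_pow,
      add_comm]

theorem norm_eval_eq_zero {p : ℕ} (hgp : g ^ p = 1) (x : cocycles₁ A) :
    ∑ i ∈ Finset.range p, ((A.ρ g) ^ i) (x g) = 0 := by
  rw [← cocycle_pow, hgp, cocycles₁_map_one]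

theorem exists_pow_eq [Finite G] (hg : ∀ s : G, s ∈ Subgroup.zpowers g) (s : G) :
    ∃ j : ℕ, g ^ j = s := by
  have := (mem_powers_iff_mem_zpowers (x := g) (y := s)).mpr (hg s)
  exact (Submonoid.mem_powers_iff s g).mp this

theorem sum_pow_sub (y : A.V) (j : ℕ) :
    ∑ i ∈ Finset.range j, ((A.ρ g) ^ i) (A.ρ g y - y) = ((A.ρ g) ^ j) y - y := by
  induction j with
  | zero => simp
  | succ j ih =>
    rw [Finset.sum_range_succ, ih, map_sub, pow_succ, Module.End.mul_apply]
    abel

theorem mem_coboundaries_of_eval [Finite G] (hg : ∀ s : G, s ∈ Subgroup.zpowers g)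
    (x : cocycles₁ A) (y : A.V) (h : x g = A.ρ g y - y) : ⇑x ∈ coboundaries₁ A := by
  refine ⟨y, ?_⟩
  funext s
  obtain ⟨j, rfl⟩ := exists_pow_eq g hg s
  rw [cocycle_pow, h, sum_pow_sub, d₀₁_hom_apply, map_pow]

theorem eval_of_mem_coboundaries (x : cocycles₁ A) (hx : ⇑x ∈ coboundaries₁ A) :
    ∃ y : A.V, x g = A.ρ g y - y := by
  obtain ⟨y, hy⟩ := hx
  refine ⟨y, ?_⟩
  have := congrFun hy g
  rw [d₀₁_hom_apply] at this
  exact this.symm

section Exists

variable {A g}
variable {p : ℕ} (hp : 0 < p) (hord : orderOf g = p) (b : A.V)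
  (hb : ∑ i ∈ Finset.range p, ((A.ρ g) ^ i) b = 0)

/-- partial sums -/
noncomputable def S (A : Rep k G) (g : G) (b : A.V) (j : ℕ) : A.V :=
  ∑ i ∈ Finset.range j, ((A.ρ g) ^ i) b

theorem S_add (j l : ℕ) : S A g b (j + l) = S A g b j + ((A.ρ g) ^ j) (S A g b l) := by
  simp only [S]
  rw [Finset.sum_range_add, map_sum]
  congr 1
  apply Finset.sum_congr rfl
  intro i _
  rw [pow_add, Module.End.mul_apply]

include hb in
theorem S_add_mul (j q : ℕ) : S A g b (j + p * q) = S A g b j := by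
  induction q with
  | zero => simp
  | succ q ih =>
    have hSp : S A g b p = 0 := hb
    rw [Nat.mul_succ, ← add_assoc, S_add, ih, hSp, map_zero, add_zero]

include hb in
theorem S_mod (j : ℕ) : S A g b j = S A g b (j % p) := by
  conv_lhs => rw [← Nat.mod_add_div j p]
  exact S_add_mul b hb _ _

include hb hord in
theorem S_congr {j l : ℕ} (h : g ^ j = g ^ l) : S A g b j = S A g b l := by
  rw [pow_eq_pow_iff_modEq, hord] at h
  rw [S_mod b hb j, S_mod b hb l, h]

include hb hord in
theorem exists_cocycle_of_norm_eq_zero [Finite G] (hg : ∀ s : G, s ∈ Subgroup.zpowers g) :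
    ∃ x : cocycles₁ A, x g = b := by
  classical
  let e : G → ℕ := fun s => Classical.choose (exists_pow_eq g hg s)
  have he : ∀ s, g ^ e s = s := fun s => Classical.choose_spec (exists_pow_eq g hg s)
  let f : G → A.V := fun s => S A g b (e s)
  have hf : ∀ j : ℕ, f (g ^ j) = S A g b j := fun j => S_congr hord b hb (he (g ^ j))
  have hmem : f ∈ cocycles₁ A := by
    rw [mem_cocycles₁_iff]
    intro s t
    obtain ⟨j, rfl⟩ := exists_pow_eq g hg s
    obtain ⟨l, rfl⟩ := exists_pow_eq g hg t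
    rw [← pow_add, hf, hf, hf, S_add, map_pow, add_comm]
  refine ⟨⟨f, hmem⟩, ?_⟩
  change f g = b
  have := hf 1
  rw [pow_one] at this
  rw [this]
  simp [S]

end Exists

end Groth.Agent.R2.H63.CyclicH1
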