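import Mathlib
import Groth.Agent.R2.H63ASCoverH1
import Groth.Agent.R2.H63CyclicH1
import Groth.Agent.S13863

/-!
# helper63: the map on H¹ induced by `d/dt` for the Artin–Schreier action on `k[[t]]`
-/

set_option autoImplicit false

namespace Groth.Agent.R2.H63.ASCoverH1

open PowerSeries Groth.Agent.Lib.Helper11ASCover

universe u

variable {k : Type u} [Field k]

section Decomp

variable {n : ℕ} {u : PowerSeries k} (hn : 0 < n)
  (hu1 : constantCoeff u = 1) (hun : u ^ n * (1 + X ^ n) = 1) (hu : IsUnit u)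
  (p : ℕ) [hp : Fact p.Prime] [CharP k p] (hpn : ¬ p ∣ n) (a : ℤ)

include hn hu1 hun hpn in
/-- properties of the cocycle `c` determined by `X^m c = u^(a-m) - 1` -/
theorem cocycle_props (hτ : (τ u hu a) ^ p = 1) (m : ℕ) (hmn : m ≤ n) (c : PowerSeries k)
    (hc : X ^ m * c = U u hu (a - m) - 1) :
    ((D u hu a) ^ (p - 1)) c = 0 ∧ IsLead (n - m) (-((a - m : ℤ) : k) / (n : k)) c := by
  have hnk : (n : k) ≠ 0 := natCast_ne_zero_of_not_dvd p hpn
  have hXm : (X : PowerSeries k) ^ m ≠ 0 := pow_ne_zero _ X_ne_zero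
  obtain ⟨s, hs, hs0⟩ := isOne_zpow hn hnk hu1 hun hu (a - m)
  have hcs : c = X ^ (n - m) * s := by
    apply mul_left_cancel₀ hXm
    rw [hc, ← mul_assoc, ← pow_add, Nat.add_sub_cancel' hmn]
    change ((hu.unit ^ (a - (m : ℤ)) : (PowerSeries k)ˣ) : PowerSeries k) - 1 = _
    rw [hs]
    ring
  refine ⟨?_, ⟨s, hcs, hs0⟩⟩
  apply mul_left_cancel₀ hXm
  rw [X_pow_mul_D_pow, mul_zero, hc]
  have h1 : U u hu (a - m) - 1 = D u hu (a - m) 1 := by
    rw [D_apply, map_one, mul_one]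
  rw [h1, ← Module.End.mul_apply, ← pow_succ, Nat.sub_add_cancel hp.out.one_le,
    D_pow_char hu p (a - m) (τ_pow_eq_one u hu a p hτ (a - m))]
  rfl

/-- the coordinate map: coefficients at `n - m`, `m ∈ Mset n p a` -/
noncomputable def πM (n p : ℕ) (a : ℤ) : PowerSeries k →ₗ[k] (Mset n p a → k) :=
  LinearMap.pi (fun m => PowerSeries.coeff (n - m.1))

theorem πM_apply (b : PowerSeries k) (m : Mset n p a) :
    πM n p a b m = PowerSeries.coeff (n - m.1) b := rfl

theorem Mset_mem (m : Mset n p a) : 1 ≤ m.1 ∧ m.1 ≤ n ∧ ¬ (p : ℤ) ∣ a - (m.1 : ℤ) := by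
  have := m.2
  simp only [Mset, Finset.mem_filter, Finset.mem_Icc] at this
  exact ⟨this.1.1, this.1.2, this.2⟩

include hn hu1 hun hpn in
theorem πM_D (h : PowerSeries k) : πM n p a (D u hu a h) = 0 := by
  have hnk : (n : k) ≠ 0 := natCast_ne_zero_of_not_dvd p hpn
  funext m
  rw [πM_apply]
  have := (Mset_mem p a m).1
  exact (D_lead_zero hn hnk hu1 hun hu a h).coeff_lt (by omega)

include hn hu1 hun hpn in
theorem mem_range_of_πM_eq_zero (hτ : (τ u hu a) ^ p = 1) (b : PowerSeries k)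
    (hbV : ((D u hu a) ^ (p - 1)) b = 0) (hb : πM n p a b = 0) : ∃ h, D u hu a h = b := by
  have hrange : ∀ h, ((D u hu a) ^ (p - 1)) (D u hu a h) = 0 := by
    intro h
    rw [← Module.End.mul_apply, ← pow_succ, Nat.sub_add_cancel hp.out.one_le,
      D_pow_char hu p a hτ]
    rfl
  refine mem_range_D hn hu1 hun hu p hpn a b hbV hrange ?_
  intro m hm
  exact congrFun hb ⟨m, hm⟩

/-- triangularity: a family with leading terms in degrees `n - m` has independent coordinates -/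
theorem linearIndependent_πM (c : Mset n p a → PowerSeries k) (β : Mset n p a → k)
    (hβ : ∀ m, β m ≠ 0) (hc : ∀ m, IsLead (n - m.1) (β m) (c m)) :
    LinearIndependent k (fun m => πM n p a (c m)) := by
  classical
  rw [Fintype.linearIndependent_iff]
  intro l hl
  by_contra hne
  push Not at hne
  have hS : (Finset.univ.filter (fun m : Mset n p a => l m ≠ 0)).Nonempty := by
    obtain ⟨m, hm⟩ := hne
    exact ⟨m, Finset.mem_filter.mpr ⟨Finset.mem_univ _, hm⟩⟩
  obtain ⟨m₀, hm₀, hmax⟩ := Finset.exists_max_image _ (fun m : Mset n p a => m.1) hS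
  have hlm₀ : l m₀ ≠ 0 := (Finset.mem_filter.mp hm₀).2
  have h1 := congrFun hl m₀
  rw [Finset.sum_apply, Pi.zero_apply, Finset.sum_eq_single m₀] at h1
  · rw [Pi.smul_apply, πM_apply, (hc m₀).coeff, smul_eq_mul] at h1
    rcases mul_eq_zero.mp h1 with h | h
    · exact hlm₀ h
    · exact hβ m₀ h
  · intro m _ hmne
    rw [Pi.smul_apply, πM_apply]
    by_cases hlm : l m = 0
    · rw [hlm, zero_smul]
    · have hle : m.1 ≤ m₀.1 := hmax m (Finset.mem_filter.mpr ⟨Finset.mem_univ _, hlm⟩)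
      have hlt : m.1 < m₀.1 := lt_of_le_of_ne hle (fun h => hmne (Subtype.ext h))
      have := (Mset_mem p a m₀).2.1
      rw [(hc m).coeff_lt (by omega), smul_zero]
  · intro h
    exact absurd (Finset.mem_univ _) h

include hn hu1 hun hpn in
/-- every element of `ker D^(p-1)` is a combination of the cocycles modulo the image of `D` -/
theorem exists_decomp (hτ : (τ u hu a) ^ p = 1) (c : Mset n p a → PowerSeries k)
    (hc : ∀ m : Mset n p a, X ^ m.1 * c m = U u hu (a - m.1) - 1)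
    (b : PowerSeries k) (hbV : ((D u hu a) ^ (p - 1)) b = 0) :
    ∃ (l : Mset n p a → k) (h : PowerSeries k), b = ∑ m, l m • c m + D u hu a h := by
  classical
  have hnk : (n : k) ≠ 0 := natCast_ne_zero_of_not_dvd p hpn
  have hprops := fun m : Mset n p a =>
    cocycle_props hn hu1 hun hu p hpn a hτ m.1 (Mset_mem p a m).2.1 (c m) (hc m)
  have hβ : ∀ m : Mset n p a, (-((a - m.1 : ℤ) : k) / (n : k)) ≠ 0 := by
    intro m h
    rw [div_eq_zero_iff] at h
    rcases h with h | h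
    · rw [neg_eq_zero, CharP.intCast_eq_zero_iff k p] at h
      exact (Mset_mem p a m).2.2 h
    · exact hnk h
  have hli := linearIndependent_πM p a c _ hβ (fun m => (hprops m).2)
  -- the coordinates of the cocycles span
  have hspan : Submodule.span k (Set.range (fun m => πM n p a (c m))) = ⊤ := by
    apply hli.span_eq_top_of_card_eq_finrank'
    rw [Module.finrank_fintype_fun_eq_card]
  have hmem : πM n p a b ∈ Submodule.span k (Set.range (fun m => πM n p a (c m))) := by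
    rw [hspan]; exact Submodule.mem_top
  obtain ⟨l, hl⟩ := (Submodule.mem_span_range_iff_exists_fun k).mp hmem
  have hb' : ((D u hu a) ^ (p - 1)) (b - ∑ m, l m • c m) = 0 := by
    rw [map_sub, hbV, map_sum, sub_eq_zero]
    symm
    apply Finset.sum_eq_zero
    intro m _
    rw [map_smul, (hprops m).1, smul_zero]
  have hπ : πM n p a (b - ∑ m, l m • c m) = 0 := by
    rw [map_sub, map_sum, sub_eq_zero, ← hl]
    apply Finset.sum_congr rfl
    intro m _
    rw [map_smul]
  obtain ⟨h, hh⟩ := mem_range_of_πM_eq_zero hn hu1 hun hu p hpn a hτ _ hb' hπ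
  exact ⟨l, h, by rw [hh]; ring⟩

end Decomp

section Deriv

variable {n : ℕ} {u : PowerSeries k} (hu : IsUnit u)

theorem X_mul_derivative_U (hXu : X * d⁄dX k u = u ^ (n + 1) - u) (e : ℤ) :
    X * d⁄dX k (U u hu e) = (e : PowerSeries k) * (U u hu e * (u ^ n - 1)) := by
  have hU1 : U u hu 1 = u := by
    have := U_natCast u hu 1
    simpa using this
  have hUm1 : U u hu (-1) * u = 1 := by
    have := U_add u hu (-1) 1
    rw [hU1] at this
    rw [← this]
    simp [U_zero]
  have hXm1 : X * d⁄dX k (U u hu (-1)) = -(U u hu (-1) * (u ^ n - 1)) := by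
    have h1 := congrArg (d⁄dX k) hUm1
    rw [Derivation.leibniz, Derivation.map_one_eq_zero, smul_eq_mul, smul_eq_mul] at h1
    have h2 : X * d⁄dX k (U u hu (-1)) * u = -(U u hu (-1) * (u ^ n - 1)) * u := by
      have : X * d⁄dX k (U u hu (-1)) * u = X * (U u hu (-1) * d⁄dX k u + u * d⁄dX k (U u hu (-1)))
          - U u hu (-1) * (X * d⁄dX k u) := by ring
      rw [this, h1, hXu]
      ring
    have hune : u ≠ 0 := hu.ne_zero
    exact mul_right_cancel₀ hune h2
  induction e using Int.induction_on with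
  | zero => simp [U_zero]
  | succ i ih =>
    rw [U_add, hU1, Derivation.leibniz, smul_eq_mul, smul_eq_mul, mul_add]
    have e1 : X * (U u hu i * d⁄dX k u) = U u hu i * (X * d⁄dX k u) := by ring
    have e2 : X * (u * d⁄dX k (U u hu i)) = u * (X * d⁄dX k (U u hu i)) := by ring
    rw [e1, e2, hXu, ih]
    push_cast
    ring
  | pred i ih =>
    have hsub : (-(i : ℤ) - 1) = -(i : ℤ) + (-1) := by ring
    rw [hsub, U_add, Derivation.leibniz, smul_eq_mul, smul_eq_mul, mul_add]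
    have e1 : X * (U u hu (-(i : ℤ)) * d⁄dX k (U u hu (-1))) =
        U u hu (-(i : ℤ)) * (X * d⁄dX k (U u hu (-1))) := by ring
    have e2 : X * (U u hu (-1) * d⁄dX k (U u hu (-(i : ℤ)))) =
        U u hu (-1) * (X * d⁄dX k (U u hu (-(i : ℤ)))) := by ring
    rw [e1, e2, hXm1, ih]
    push_cast
    ring

theorem X_mul_derivative_X_pow_mul (m : ℕ) (c : PowerSeries k) :
    X * d⁄dX k (X ^ m * c) = (m : PowerSeries k) * (X ^ m * c) + X ^ (m + 1) * d⁄dX k c := by
  induction m with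
  | zero => simp
  | succ m ih =>
    have h1 : (X : PowerSeries k) ^ (m + 1) * c = X * (X ^ m * c) := by ring
    rw [h1, Derivation.leibniz, derivative_X, smul_eq_mul, smul_eq_mul, mul_add, ih]
    push_cast
    ring

/-- the derivative of the cocycle for twist `0` is `-m` times the cocycle for twist `n+1` -/
theorem derivative_cocycle (hXu : X * d⁄dX k u = u ^ (n + 1) - u) (m : ℕ)
    (c₀ c₁ : PowerSeries k) (hc₀ : X ^ m * c₀ = U u hu (0 - m) - 1)
    (hc₁ : X ^ (m + 1) * c₁ = U u hu ((n + 1 : ℕ) - (m + 1 : ℕ)) - 1) :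
    d⁄dX k c₀ = -((m : ℕ) : PowerSeries k) * c₁ := by
  have hX : (X : PowerSeries k) ^ (m + 1) ≠ 0 := pow_ne_zero _ X_ne_zero
  apply mul_left_cancel₀ hX
  have h1 := X_mul_derivative_X_pow_mul m c₀
  rw [hc₀, map_sub, Derivation.map_one_eq_zero, sub_zero, X_mul_derivative_U hu hXu] at h1
  have hUU : U u hu (0 - m) * u ^ n = U u hu ((n + 1 : ℕ) - (m + 1 : ℕ)) := by
    rw [← U_natCast u hu n, ← U_add]
    congr 1
    push_cast
    ring
  have h3 : X ^ (m + 1) * (-((m : ℕ) : PowerSeries k) * c₁) =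
      -((m : ℕ) : PowerSeries k) * (X ^ (m + 1) * c₁) := by ring
  rw [h3, hc₁, ← hUU]
  have h4 : X ^ (m + 1) * d⁄dX k c₀ =
      ((0 - (m : ℤ) : ℤ) : PowerSeries k) * (U u hu (0 - m) * (u ^ n - 1)) -
        (m : PowerSeries k) * (U u hu (0 - m) - 1) := by
    rw [h1]; ring
  rw [h4]
  push_cast
  ring

end Deriv

section Image

variable {n : ℕ} {u : PowerSeries k} (hn : 0 < n)
  (hu1 : constantCoeff u = 1) (hun : u ^ n * (1 + X ^ n) = 1) (hu : IsUnit u)
  (p : ℕ) [hp : Fact p.Prime] [CharP k p] (hpn : ¬ p ∣ n)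

include hn hu1 hun hpn in
theorem exists_cm (a : ℤ) (m : ℕ) (hmn : m ≤ n) :
    ∃ c : PowerSeries k, X ^ m * c = U u hu (a - m) - 1 := by
  have hnk : (n : k) ≠ 0 := natCast_ne_zero_of_not_dvd p hpn
  obtain ⟨s, hs, -⟩ := isOne_zpow hn hnk hu1 hun hu (a - m)
  refine ⟨X ^ (n - m) * s, ?_⟩
  rw [← mul_assoc, ← pow_add, Nat.add_sub_cancel' hmn]
  change _ = ((hu.unit ^ (a - (m : ℤ)) : (PowerSeries k)ˣ) : PowerSeries k) - 1
  rw [hs]
  ring

/-- the index set of the image: `1 ≤ m ≤ n - 1` with `p ∤ m` and `p ∤ n - m` -/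
def Jset (n p : ℕ) : Finset ℕ :=
  (Finset.Icc 1 (n - 1)).filter (fun m : ℕ => ¬ p ∣ m ∧ ¬ p ∣ (n - m))

theorem Jset_mem (m : Jset n p) : 1 ≤ m.1 ∧ m.1 + 1 ≤ n ∧ ¬ p ∣ m.1 ∧ ¬ p ∣ (n - m.1) := by
  have := m.2
  simp only [Jset, Finset.mem_filter, Finset.mem_Icc] at this
  exact ⟨this.1.1, by omega, this.2.1, this.2.2⟩

theorem succ_mem_Mset (m : Jset n p) : m.1 + 1 ∈ Mset n p ((n + 1 : ℕ) : ℤ) := by
  obtain ⟨h1, h2, -, h4⟩ := Jset_mem p m
  simp only [Mset, Finset.mem_filter, Finset.mem_Icc]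
  refine ⟨⟨by omega, h2⟩, ?_⟩
  intro h
  apply h4
  have e : ((n + 1 : ℕ) : ℤ) - ((m.1 + 1 : ℕ) : ℤ) = ((n - m.1 : ℕ) : ℤ) := by
    rw [Nat.cast_sub (by omega)]
    push_cast
    ring
  rw [e] at h
  exact Int.natCast_dvd_natCast.mp h

include hun in
theorem U_neg_n : U u hu (0 - (n : ℕ)) = 1 + X ^ n := by
  have h1 : U u hu (0 - (n : ℕ)) * u ^ n = 1 := by
    rw [U_sub_mul_pow, U_zero]
  have hune : u ^ n ≠ 0 := pow_ne_zero _ hu.ne_zero
  apply mul_right_cancel₀ hune
  rw [h1, mul_comm, hun]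

include hn hu1 hun hpn in
/-- the image of `ker D₀^(p-1)` under `πM ∘ d/dt` is spanned by the coordinates of the cocycles
`c₁ (m+1)`, `m ∈ Jset` -/
theorem map_eq_span [IsAlgClosed k] (hτ₀ : (τ u hu 0) ^ p = 1)
    (hcomm : ∀ h, d⁄dX k (σ u h) = u ^ (n + 1) * σ u (d⁄dX k h))
    (c₁ : ℕ → PowerSeries k)
    (hc₁ : ∀ m, m ≤ n → X ^ m * c₁ m = U u hu (((n + 1 : ℕ) : ℤ) - m) - 1) :
    Submodule.map ((πM n p ((n + 1 : ℕ) : ℤ)) ∘ₗ (d⁄dX k).toLinearMap)
        (LinearMap.ker ((D u hu 0) ^ (p - 1))) =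
      Submodule.span k
        (Set.range (fun m : Jset n p => πM n p ((n + 1 : ℕ) : ℤ) (c₁ (m.1 + 1)))) := by
  classical
  have hXu : X * d⁄dX k u = u ^ (n + 1) - u := by
    have := hcomm X
    rw [σ_X, Derivation.leibniz, derivative_X, map_one, smul_eq_mul, smul_eq_mul, mul_one,
      mul_one] at this
    rw [← this]; ring
  have hτ₁ := τ_pow_eq_one u hu 0 p hτ₀ ((n + 1 : ℕ) : ℤ)
  have hdD : ∀ h, d⁄dX k (D u hu 0 h) = D u hu ((n + 1 : ℕ) : ℤ) (d⁄dX k h) := by
    intro h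
    rw [D_apply, D_apply, U_zero, one_mul, map_sub, hcomm, U_natCast]
  have hex : ∀ m : ℕ, ∃ c : PowerSeries k, m ≤ n → X ^ m * c = U u hu (0 - m) - 1 := by
    intro m
    by_cases hm : m ≤ n
    · obtain ⟨c, hc⟩ := exists_cm hn hu1 hun hu p hpn 0 m hm
      exact ⟨c, fun _ => hc⟩
    · exact ⟨0, fun h => absurd h hm⟩
  choose c₀ hc₀ using hex
  have hpk : ∀ m : ℕ, ¬ p ∣ m → ((m : ℕ) : k) ≠ 0 := fun m hm h0 =>
    hm ((CharP.cast_eq_zero_iff k p m).mp h0)
  have hder : ∀ m : ℕ, m + 1 ≤ n → d⁄dX k (c₀ m) = (-(m : k)) • c₁ (m + 1) := by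
    intro m hm
    have := derivative_cocycle hu hXu m (c₀ m) (c₁ (m + 1)) (hc₀ m (by omega))
      (by have := hc₁ (m + 1) hm; exact_mod_cast this)
    rw [this, smul_eq_C_mul, map_neg, map_natCast]
  apply le_antisymm
  · rintro _ ⟨b, hb, rfl⟩
    obtain ⟨l, h, hbl⟩ := exists_decomp hn hu1 hun hu p hpn 0 hτ₀
      (fun m : Mset n p 0 => c₀ m.1)
      (fun m => hc₀ m.1 (Mset_mem p 0 m).2.1) b (LinearMap.mem_ker.mp hb)
    rw [hbl, LinearMap.comp_apply, Derivation.coeFn_coe, map_add, hdD, map_add,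
      πM_D hn hu1 hun hu p hpn, add_zero, map_sum, map_sum]
    apply Submodule.sum_mem
    intro m _
    rw [Derivation.map_smul, map_smul]
    apply Submodule.smul_mem
    obtain ⟨hm1, hmn, hmp⟩ := Mset_mem p 0 m
    rcases Nat.lt_or_ge m.1 n with hlt | hge
    · rw [hder m.1 hlt, map_smul]
      apply Submodule.smul_mem
      by_cases hdvd : p ∣ (n - m.1)
      · -- the class vanishes
        have hdvd' : (p : ℤ) ∣ ((n + 1 : ℕ) : ℤ) - ((m.1 + 1 : ℕ) : ℤ) := by
          have e : ((n + 1 : ℕ) : ℤ) - ((m.1 + 1 : ℕ) : ℤ) = ((n - m.1 : ℕ) : ℤ) := by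
            rw [Nat.cast_sub (by omega)]
            push_cast
            ring
          rw [e]
          exact Int.natCast_dvd_natCast.mpr hdvd
        obtain ⟨h', hh'⟩ := Groth.Agent.S13863.result p n hn hpn u hu1 hun hu
          ((n + 1 : ℕ) : ℤ) (m.1 + 1) (by omega) hlt hdvd' (c₁ (m.1 + 1))
          (hc₁ (m.1 + 1) hlt)
        have : c₁ (m.1 + 1) = D u hu ((n + 1 : ℕ) : ℤ) h' := by
          rw [D_apply, σ_apply]
          exact hh'.symm
        rw [this, πM_D hn hu1 hun hu p hpn]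
        exact Submodule.zero_mem _
      · have hpm : ¬ p ∣ m.1 := by
          intro h
          apply hmp
          have : (0 : ℤ) - (m.1 : ℤ) = -((m.1 : ℕ) : ℤ) := by ring
          rw [this, dvd_neg]
          exact Int.natCast_dvd_natCast.mpr h
        have hJ : m.1 ∈ Jset n p := by
          simp only [Jset, Finset.mem_filter, Finset.mem_Icc]
          exact ⟨⟨hm1, by omega⟩, hpm, hdvd⟩
        exact Submodule.subset_span ⟨⟨m.1, hJ⟩, rfl⟩
    · have hmn' : m.1 = n := le_antisymm hmn hge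
      have hc1 : c₀ m.1 = 1 := by
        have h1 := hc₀ m.1 hmn
        rw [hmn'] at h1 ⊢
        rw [U_neg_n hun hu] at h1
        have hX : (X : PowerSeries k) ^ n ≠ 0 := pow_ne_zero _ X_ne_zero
        apply mul_left_cancel₀ hX
        rw [h1]; ring
      rw [hc1, Derivation.map_one_eq_zero, map_zero]
      exact Submodule.zero_mem _
  · rw [Submodule.span_le]
    rintro _ ⟨m, rfl⟩
    obtain ⟨hm1, hmn, hpm, hpnm⟩ := Jset_mem p m
    have hmk : (-(m.1 : k)) ≠ 0 := neg_ne_zero.mpr (hpk m.1 hpm)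
    refine ⟨(-(m.1 : k))⁻¹ • c₀ m.1, ?_, ?_⟩
    · rw [SetLike.mem_coe, LinearMap.mem_ker, map_smul,
        (cocycle_props hn hu1 hun hu p hpn 0 hτ₀ m.1 (by omega) (c₀ m.1)
          (hc₀ m.1 (by omega))).1, smul_zero]
    · rw [LinearMap.comp_apply, Derivation.coeFn_coe, Derivation.map_smul, hder m.1 hmn, map_smul,
        map_smul, smul_smul, inv_mul_cancel₀ hmk, one_smul]

include hn hu1 hun hpn in
theorem finrank_span_Jset (hτ₀ : (τ u hu 0) ^ p = 1) (c₁ : ℕ → PowerSeries k)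
    (hc₁ : ∀ m, m ≤ n → X ^ m * c₁ m = U u hu (((n + 1 : ℕ) : ℤ) - m) - 1) :
    Module.finrank k (Submodule.span k
        (Set.range (fun m : Jset n p => πM n p ((n + 1 : ℕ) : ℤ) (c₁ (m.1 + 1))))) =
      (Jset n p).card := by
  classical
  have hnk : (n : k) ≠ 0 := natCast_ne_zero_of_not_dvd p hpn
  have hτ₁ := τ_pow_eq_one u hu 0 p hτ₀ ((n + 1 : ℕ) : ℤ)
  have hprops := fun m : Mset n p ((n + 1 : ℕ) : ℤ) =>
    cocycle_props hn hu1 hun hu p hpn ((n + 1 : ℕ) : ℤ) hτ₁ m.1 (Mset_mem p _ m).2.1 (c₁ m.1)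
      (hc₁ m.1 (Mset_mem p _ m).2.1)
  have hβ : ∀ m : Mset n p ((n + 1 : ℕ) : ℤ),
      (-((((n + 1 : ℕ) : ℤ) - m.1 : ℤ) : k) / (n : k)) ≠ 0 := by
    intro m h
    rw [div_eq_zero_iff] at h
    rcases h with h | h
    · rw [neg_eq_zero, CharP.intCast_eq_zero_iff k p] at h
      exact (Mset_mem p _ m).2.2 h
    · exact hnk h
  have hli := linearIndependent_πM p ((n + 1 : ℕ) : ℤ) (fun m => c₁ m.1) _ hβ
    (fun m => (hprops m).2)
  let ι : Jset n p → Mset n p ((n + 1 : ℕ) : ℤ) := fun m => ⟨m.1 + 1, succ_mem_Mset p m⟩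
  have hι : Function.Injective ι := by
    intro m m' h
    have := congrArg Subtype.val h
    simp only [ι] at this
    exact Subtype.ext (by omega)
  have hli' : LinearIndependent k
      (fun m : Jset n p => πM n p ((n + 1 : ℕ) : ℤ) (c₁ (m.1 + 1))) := hli.comp ι hι
  rw [finrank_span_eq_card hli', Fintype.card_coe]

end Image

section Arith2

theorem card_Icc_filter_dvd (N p : ℕ) :
    ((Finset.Icc 1 N).filter (fun m => p ∣ m)).card = N / p := by
  have := Nat.card_multiples N p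
  rw [← this]
  apply Finset.card_bij (fun (m : ℕ) _ => m - 1)
  · intro m hm
    simp only [Finset.mem_filter, Finset.mem_Icc, Finset.mem_range] at hm ⊢
    refine ⟨by omega, ?_⟩
    rw [Nat.sub_add_cancel hm.1.1]
    exact hm.2
  · intro a ha b hb h
    simp only [Finset.mem_filter, Finset.mem_Icc] at ha hb
    omega
  · intro b hb
    simp only [Finset.mem_filter, Finset.mem_range] at hb
    refine ⟨b + 1, ?_, by simp⟩
    simp only [Finset.mem_filter, Finset.mem_Icc]
    exact ⟨⟨by omega, by omega⟩, hb.2⟩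

theorem card_Jset (n p : ℕ) (hp : p.Prime) (hn : 0 < n) (hpn : ¬ p ∣ n) :
    ((Jset n p).card : ℤ) = ((n + 1) * (p - 1) : ℤ) / p - 1 - (n - 1 : ℤ) / p := by
  classical
  set I := Finset.Icc 1 (n - 1) with hI
  set C1 := I.filter (fun m => p ∣ m) with hC1
  set C2 := I.filter (fun m => p ∣ (n - m)) with hC2
  have hc1 : C1.card = (n - 1) / p := card_Icc_filter_dvd (n - 1) p
  have hc2 : C2.card = (n - 1) / p := by
    rw [← hc1]
    apply Finset.card_bij (fun (m : ℕ) _ => n - m)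
    · intro m hm
      simp only [hC1, hC2, hI, Finset.mem_filter, Finset.mem_Icc] at hm ⊢
      exact ⟨by omega, hm.2⟩
    · intro a ha b hb h
      simp only [hC2, hI, Finset.mem_filter, Finset.mem_Icc] at ha hb
      omega
    · intro b hb
      simp only [hC1, hI, Finset.mem_filter, Finset.mem_Icc] at hb
      refine ⟨n - b, ?_, by omega⟩
      simp only [hC2, hI, Finset.mem_filter, Finset.mem_Icc]
      refine ⟨by omega, ?_⟩
      have : n - (n - b) = b := by omega
      rw [this]; exact hb.2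
  have hdisj : Disjoint C1 C2 := by
    rw [Finset.disjoint_left]
    intro m h1 h2
    simp only [hC1, hC2, hI, Finset.mem_filter, Finset.mem_Icc] at h1 h2
    apply hpn
    have : n = m + (n - m) := by omega
    rw [this]
    exact dvd_add h1.2 h2.2
  have hJ : Jset n p = I \ (C1 ∪ C2) := by
    ext m
    simp only [Jset, hC1, hC2, hI, Finset.mem_filter, Finset.mem_sdiff, Finset.mem_union]
    tauto
  have hsub : C1 ∪ C2 ⊆ I := by
    intro m hm
    rcases Finset.mem_union.mp hm with h | h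
    · exact (Finset.mem_filter.mp h).1
    · exact (Finset.mem_filter.mp h).1
  have hcard : (Jset n p).card = (n - 1) - 2 * ((n - 1) / p) := by
    rw [hJ, Finset.card_sdiff_of_subset hsub, Finset.card_union_of_disjoint hdisj, hc1, hc2]
    simp [hI]
    omega
  -- arithmetic
  have hp2 := hp.two_le
  set q := (n - 1) / p with hq
  set r := (n - 1) % p with hr
  have hdm : n - 1 = p * q + r := (Nat.div_add_mod (n - 1) p).symm
  have hrlt : r < p := Nat.mod_lt _ hp.pos
  have hr1 : r + 1 ≠ p := by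
    intro h
    apply hpn
    have : n = p * (q + 1) := by
      have : n = p * q + (r + 1) := by omega
      rw [this, h]; ring
    rw [this]
    exact dvd_mul_right _ _
  have h2q : 2 * q ≤ n - 1 := by
    have : 2 * q ≤ p * q := Nat.mul_le_mul_right q hp2
    omega
  have e1 : (n - 1 : ℤ) / p = q := by
    have : ((n - 1 : ℕ) : ℤ) = (n : ℤ) - 1 := by
      rw [Nat.cast_sub hn]; simp
    rw [← this, hq]
    norm_cast
  have e2 : ((n + 1) * (p - 1) : ℤ) / p = q * (p - 1) + r + 1 := by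
    have hnz : (n : ℤ) = p * q + r + 1 := by
      have : (n : ℤ) - 1 = ((n - 1 : ℕ) : ℤ) := by rw [Nat.cast_sub hn]; simp
      have h2 : ((n - 1 : ℕ) : ℤ) = p * q + r := by rw [hdm]; push_cast; ring
      linarith
    have hpz : (0 : ℤ) < p := by exact_mod_cast hp.pos
    have key : ((n : ℤ) + 1) * ((p : ℤ) - 1) = (p : ℤ) * (q * (p - 1) + r + 1) + (p - r - 2) := by
      rw [hnz]; ring
    rw [key]
    have hrem : (0 : ℤ) ≤ p - r - 2 ∧ ((p : ℤ) - r - 2) < p := by
      constructor <;> omega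
    rw [add_comm, Int.add_mul_ediv_left _ _ hpz.ne', Int.ediv_eq_zero_of_lt hrem.1 hrem.2]
    ring
  rw [hcard, e1, e2]
  have hnz : (n : ℤ) = p * q + r + 1 := by
    have : (n : ℤ) - 1 = ((n - 1 : ℕ) : ℤ) := by rw [Nat.cast_sub hn]; simp
    have h2 : ((n - 1 : ℕ) : ℤ) = p * q + r := by rw [hdm]; push_cast; ring
    linarith
  rw [Nat.cast_sub h2q, Nat.cast_sub hn]
  push_cast
  rw [hnz]
  ring

end Arith2

end Groth.Agent.R2.H63.ASCoverH1
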