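import Mathlib
import Groth.Agent.R2.H63ASCoverH1b

/-!
# helper63: bridge from the power-series computation to `groupCohomology` for S13862
-/

set_option autoImplicit false

namespace Groth.Agent.R2.H63.ASCoverH1

open PowerSeries Groth.Agent.Lib.Helper11ASCover groupCohomology CategoryTheory

universe u

variable {k : Type u} [Field k]

/-- two linear maps out of the same space with equal kernels have isomorphic ranges -/
noncomputable def rangeEquivOfKerEq {Z P Q : Type*} [AddCommGroup Z] [Module k Z]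
    [AddCommGroup P] [Module k P] [AddCommGroup Q] [Module k Q]
    (F : Z →ₗ[k] P) (F' : Z →ₗ[k] Q) (h : LinearMap.ker F = LinearMap.ker F') :
    LinearMap.range F ≃ₗ[k] LinearMap.range F' :=
  (F.quotKerEquivRange.symm.trans (Submodule.quotEquivOfEq _ _ h)).trans F'.quotKerEquivRange

theorem finrank_range_map [IsAlgClosed k] (p : ℕ) [hp : Fact p.Prime] [CharP k p]
    {n : ℕ} (hn : 0 < n) (hpn : ¬ p ∣ n) {u : PowerSeries k}
    (hu1 : constantCoeff u = 1) (hun : u ^ n * (1 + X ^ n) = 1)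
    {G : Type u} [Group G] [Finite G] (g : G) (hG : Nat.card G = p)
    (hg : ∀ x : G, x ∈ Subgroup.zpowers g)
    (ρ₀ ρ₁ : Representation k G (PowerSeries k))
    (hρ₀ : ∀ h : PowerSeries k, ρ₀ g h = PowerSeries.subst (X * u) h)
    (hρ₁ : ∀ h : PowerSeries k, ρ₁ g h = u ^ (n + 1) * PowerSeries.subst (X * u) h)
    (φ : Rep.of ρ₀ ⟶ Rep.of ρ₁) (hφ : ∀ h : PowerSeries k, φ.hom h = d⁄dX k h) :
    Module.Finite k (LinearMap.range (groupCohomology.map (A := Rep.of ρ₀) (B := Rep.of ρ₁) (MonoidHom.id G) φ 1).hom) ∧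
      Module.finrank k (LinearMap.range (groupCohomology.map (A := Rep.of ρ₀) (B := Rep.of ρ₁) (MonoidHom.id G) φ 1).hom) =
        (Jset n p).card := by
  classical
  have hu : IsUnit u := by
    rw [PowerSeries.isUnit_iff_constantCoeff, hu1]; exact isUnit_one
  set a₁ : ℤ := ((n + 1 : ℕ) : ℤ) with ha₁
  -- identify the actions
  have hτ0 : τ u hu 0 = ρ₀ g := by
    ext1 h
    rw [τ_apply, σ_apply, U_zero, one_mul, hρ₀]
  have hτ1 : τ u hu a₁ = ρ₁ g := by
    ext1 h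
    rw [τ_apply, σ_apply, ha₁, U_natCast, hρ₁]
  have hgp : g ^ p = 1 := by rw [← hG]; exact pow_card_eq_one'
  have hτ₀ : (τ u hu 0) ^ p = 1 := by
    rw [hτ0, ← map_pow, hgp, map_one]
  have hτ₁ := τ_pow_eq_one u hu 0 p hτ₀ a₁
  have hord : orderOf g = p := by
    rw [orderOf_eq_card_of_forall_mem_zpowers hg, hG]
  have hcomm : ∀ h, d⁄dX k (σ u h) = u ^ (n + 1) * σ u (d⁄dX k h) := by
    intro h
    have := Rep.hom_comm_apply φ g h
    rw [hφ, hφ] at this
    change d⁄dX k (ρ₀ g h) = ρ₁ g (d⁄dX k h) at this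
    rw [hρ₀, hρ₁] at this
    rw [σ_apply, σ_apply]
    exact this
  -- the norm on both sides
  have hgeom : ∀ e : ℤ, ∑ i ∈ Finset.range p, (τ u hu e) ^ i = (D u hu e) ^ (p - 1) := by
    intro e
    rw [geom_sum_eq_sub_one_pow k p (τ u hu e)]
    rfl
  have hV₀ : ∀ x : cocycles₁ (Rep.of ρ₀), ((D u hu 0) ^ (p - 1)) (x g) = 0 := by
    intro x
    have := Groth.Agent.R2.H63.CyclicH1.norm_eval_eq_zero (Rep.of ρ₀) g hgp x
    rw [← hgeom, LinearMap.sum_apply, hτ0]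
    exact this
  have hV₁ : ∀ x : cocycles₁ (Rep.of ρ₁), ((D u hu a₁) ^ (p - 1)) (x g) = 0 := by
    intro x
    have := Groth.Agent.R2.H63.CyclicH1.norm_eval_eq_zero (Rep.of ρ₁) g hgp x
    rw [← hgeom, LinearMap.sum_apply, hτ1]
    exact this
  let mc : cocycles₁ (Rep.of ρ₀) →ₗ[k] cocycles₁ (Rep.of ρ₁) :=
    (mapCocycles₁ (MonoidHom.id G) φ).hom
  have hmc : ∀ x : cocycles₁ (Rep.of ρ₀), (mc x) g = d⁄dX k (x g) := by
    intro x
    rw [← hφ]
    rfl
  let evg : cocycles₁ (Rep.of ρ₁) →ₗ[k] PowerSeries k :=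
    (LinearMap.proj g) ∘ₗ (cocycles₁ (Rep.of ρ₁)).subtype
  have hevg : ∀ x : cocycles₁ (Rep.of ρ₁), evg x = x g := fun x => rfl
  let F : cocycles₁ (Rep.of ρ₀) →ₗ[k] H1 (Rep.of ρ₁) := (H1π (Rep.of ρ₁)).hom ∘ₗ mc
  let F' : cocycles₁ (Rep.of ρ₀) →ₗ[k] (Mset n p a₁ → k) := πM n p a₁ ∘ₗ evg ∘ₗ mc
  -- (c) equal kernels
  have hker : LinearMap.ker F = LinearMap.ker F' := by
    ext x
    rw [LinearMap.mem_ker, LinearMap.mem_ker]
    change H1π (Rep.of ρ₁) (mc x) = 0 ↔ πM n p a₁ ((mc x) g) = 0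
    rw [H1π_eq_zero_iff]
    constructor
    · intro hx
      obtain ⟨y, hy⟩ := Groth.Agent.R2.H63.CyclicH1.eval_of_mem_coboundaries (Rep.of ρ₁) g _ hx
      have : (mc x) g = D u hu a₁ y := by
        rw [hy, D_apply, ← τ_apply, hτ1]
      rw [this, πM_D hn hu1 hun hu p hpn]
    · intro hx
      obtain ⟨y, hy⟩ := mem_range_of_πM_eq_zero hn hu1 hun hu p hpn a₁ hτ₁ _ (hV₁ (mc x)) hx
      refine Groth.Agent.R2.H63.CyclicH1.mem_coboundaries_of_eval (Rep.of ρ₁) g hg _ y ?_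
      rw [← hy, D_apply, ← τ_apply, hτ1]
  -- (d) range F = range f
  have hrange : LinearMap.range F =
      LinearMap.range (groupCohomology.map (A := Rep.of ρ₀) (B := Rep.of ρ₁) (MonoidHom.id G) φ 1).hom := by
    have hFf : F = (groupCohomology.map (A := Rep.of ρ₀) (B := Rep.of ρ₁) (MonoidHom.id G) φ 1).hom ∘ₗ (H1π (Rep.of ρ₀)).hom := by
      have := H1π_comp_map (A := Rep.of ρ₀) (B := Rep.of ρ₁) (MonoidHom.id G) φ
      have h2 := congrArg ModuleCat.Hom.hom this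
      rw [ModuleCat.hom_comp, ModuleCat.hom_comp] at h2
      exact h2.symm
    rw [hFf, LinearMap.range_comp_of_range_eq_top]
    rw [LinearMap.range_eq_top]
    exact (ModuleCat.epi_iff_surjective _).mp inferInstance
  -- (e) range F' = W
  obtain ⟨c₁, hc₁⟩ : ∃ c₁ : ℕ → PowerSeries k,
      ∀ m, m ≤ n → X ^ m * c₁ m = U u hu (a₁ - m) - 1 := by
    have hex : ∀ m : ℕ, ∃ c : PowerSeries k, m ≤ n → X ^ m * c = U u hu (a₁ - m) - 1 := by
      intro m
      by_cases hm : m ≤ n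
      · obtain ⟨c, hc⟩ := exists_cm hn hu1 hun hu p hpn a₁ m hm
        exact ⟨c, fun _ => hc⟩
      · exact ⟨0, fun h => absurd h hm⟩
    choose c₁ hc₁ using hex
    exact ⟨c₁, hc₁⟩
  have hW : LinearMap.range F' =
      Submodule.map ((πM n p a₁) ∘ₗ (d⁄dX k).toLinearMap)
        (LinearMap.ker ((D u hu 0) ^ (p - 1))) := by
    ext y
    constructor
    · rintro ⟨x, rfl⟩
      refine ⟨x g, LinearMap.mem_ker.mpr (hV₀ x), ?_⟩
      change πM n p a₁ (d⁄dX k (x g)) = πM n p a₁ ((mc x) g)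
      rw [hmc]
    · rintro ⟨b, hb, rfl⟩
      have hb' : ∑ i ∈ Finset.range p, (((Rep.of ρ₀).ρ g) ^ i) b = 0 := by
        have := LinearMap.mem_ker.mp hb
        rw [← hgeom, LinearMap.sum_apply, hτ0] at this
        exact this
      obtain ⟨x, hx⟩ := Groth.Agent.R2.H63.CyclicH1.exists_cocycle_of_norm_eq_zero
        (A := Rep.of ρ₀) (g := g) hord b hb' hg
      refine ⟨x, ?_⟩
      change πM n p a₁ ((mc x) g) = πM n p a₁ (d⁄dX k b)
      rw [hmc, hx]
  have e : LinearMap.range (groupCohomology.map (A := Rep.of ρ₀) (B := Rep.of ρ₁) (MonoidHom.id G) φ 1).hom ≃ₗ[k]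
      Submodule.span k (Set.range (fun m : Jset n p => πM n p a₁ (c₁ (m.1 + 1)))) := by
    rw [← hrange, ← map_eq_span hn hu1 hun hu p hpn hτ₀ hcomm c₁ hc₁, ← hW]
    exact rangeEquivOfKerEq F F' hker
  refine ⟨Module.Finite.equiv e.symm, ?_⟩
  rw [LinearEquiv.finrank_eq e]
  exact finrank_span_Jset hn hu1 hun hu p hpn hτ₀ c₁ hc₁

end Groth.Agent.R2.H63.ASCoverH1
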