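import Mathlib
import Groth.Agent.R2.H63WeilAlg

set_option autoImplicit false
set_option linter.style.haveILetI false

open TensorProduct CategoryTheory Limits

namespace Groth.Agent.R2.H63.WeilCat

universe u

open Groth.Agent.R2.H63.WeilAlg

/-- The universal property of a Weil restriction algebra, in pushout form. -/
def IsWeil {A B C : CommRingCat.{u}} (φ : A ⟶ B) (γ : A ⟶ C) {W P₀ : CommRingCat.{u}} (ω : A ⟶ W)
    (i₀ : W ⟶ P₀) (j₀ : B ⟶ P₀) (θ : C ⟶ P₀) : Prop :=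
  ∀ (R P : CommRingCat.{u}) (ρ : A ⟶ R) (i : R ⟶ P) (j : B ⟶ P), IsPushout ρ φ i j →
    ∀ β : C ⟶ P, γ ≫ β = φ ≫ j →
      ∃! ψ : W ⟶ R, ω ≫ ψ = ρ ∧ ∀ m : P₀ ⟶ P, i₀ ≫ m = ψ ≫ i → j₀ ≫ m = j → θ ≫ m = β

section

theorem one_tmul_algebraMap {A R B : Type u} [CommRing A] [CommRing R] [CommRing B] [Algebra A R]
    [Algebra A B] (a : A) : (1 : R) ⊗ₜ[A] (algebraMap A B a) = algebraMap A (R ⊗[A] B) a := by
  rw [Algebra.TensorProduct.algebraMap_apply, Algebra.algebraMap_eq_smul_one,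
      Algebra.algebraMap_eq_smul_one, TensorProduct.smul_tmul]

/-- an algebra hom from a `CommRingCat` morphism. -/
def mkAlg {A W R : Type u} [CommRing A] [CommRing W] [CommRing R] [Algebra A W] [Algebra A R]
    (f : CommRingCat.of W ⟶ CommRingCat.of R)
    (h : CommRingCat.ofHom (algebraMap A W) ≫ f = CommRingCat.ofHom (algebraMap A R)) :
    W →ₐ[A] R :=
  { toRingHom := f.hom
    commutes' := fun a => congrArg (fun F : CommRingCat.of A ⟶ CommRingCat.of R => F.hom a) h }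

theorem inl_map {A W R B : Type u} [CommRing A] [CommRing W] [CommRing R] [CommRing B]
    [Algebra A W] [Algebra A R] [Algebra A B] (ψ : W →ₐ[A] R) :
    CommRingCat.ofHom (Algebra.TensorProduct.includeLeftRingHom (R := A) (A := W) (B := B)) ≫
      CommRingCat.ofHom (Algebra.TensorProduct.map ψ (AlgHom.id A B)).toRingHom =
    CommRingCat.ofHom ψ.toRingHom ≫
      CommRingCat.ofHom (Algebra.TensorProduct.includeLeftRingHom (R := A) (A := R) (B := B)) := by
  ext w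
  change Algebra.TensorProduct.map ψ (AlgHom.id A B) (w ⊗ₜ 1) = ψ w ⊗ₜ 1
  simp

theorem inr_map {A W R B : Type u} [CommRing A] [CommRing W] [CommRing R] [CommRing B]
    [Algebra A W] [Algebra A R] [Algebra A B] (ψ : W →ₐ[A] R) :
    CommRingCat.ofHom (Algebra.TensorProduct.includeRight (R := A) (A := W) (B := B)).toRingHom ≫
      CommRingCat.ofHom (Algebra.TensorProduct.map ψ (AlgHom.id A B)).toRingHom =
      CommRingCat.ofHom (Algebra.TensorProduct.includeRight (R := A) (A := R) (B := B)).toRingHom := by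
  ext x
  change Algebra.TensorProduct.map ψ (AlgHom.id A B) (1 ⊗ₜ x) = 1 ⊗ₜ x
  simp

variable {A B C : CommRingCat.{u}} (φ : A ⟶ B) (γ : A ⟶ C)

theorem exists_isWeil_ft
    (hfree : letI := φ.hom.toAlgebra; Module.Finite A B ∧ Module.Projective A B) :
    ∃ (W : CommRingCat.{u}) (ω : A ⟶ W), (γ.hom.FiniteType → ω.hom.FiniteType) ∧
      ∀ (P₀ : CommRingCat.{u}) (i₀ : W ⟶ P₀) (j₀ : B ⟶ P₀),
      IsPushout ω φ i₀ j₀ → ∃ θ : C ⟶ P₀, γ ≫ θ = φ ≫ j₀ ∧ IsWeil φ γ ω i₀ j₀ θ := by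
  letI algB : Algebra A B := φ.hom.toAlgebra
  letI algC : Algebra A C := γ.hom.toAlgebra
  haveI := hfree.1
  haveI := hfree.2
  obtain ⟨W, _, _, θ, hθ, hft⟩ := exists_weilRestriction_ft A B C
  refine ⟨CommRingCat.of W, CommRingCat.ofHom (algebraMap A W), ?_, ?_⟩
  · intro h
    exact RingHom.finiteType_algebraMap.2 (hft h)
  intro P₀ i₀ j₀ hP₀
  -- the tensor pushout for W
  have hT₀ := CommRingCat.isPushout_tensorProduct A W B
  let ε₀ : CommRingCat.of (W ⊗[A] B) ≅ P₀ := hT₀.isoIsPushout _ _ hP₀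
  have hε₀l : CommRingCat.ofHom (Algebra.TensorProduct.includeLeftRingHom (R := A) (A := W) (B := B))
      ≫ ε₀.hom = i₀ := hT₀.inl_isoIsPushout_hom _ _ hP₀
  have hε₀r : CommRingCat.ofHom (Algebra.TensorProduct.includeRight (R := A) (A := W) (B := B)).toRingHom
      ≫ ε₀.hom = j₀ := hT₀.inr_isoIsPushout_hom _ _ hP₀
  refine ⟨CommRingCat.ofHom θ.toRingHom ≫ ε₀.hom, ?_, ?_⟩
  · rw [← hε₀r, ← Category.assoc, ← Category.assoc]
    congr 1
    ext a
    change θ (algebraMap A C a) = (1 : W) ⊗ₜ[A] (algebraMap A B a)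
    rw [AlgHom.commutes, one_tmul_algebraMap]
  · intro R P ρ i j hP β hβ
    letI algR : Algebra A R := ρ.hom.toAlgebra
    have hT := CommRingCat.isPushout_tensorProduct A R B
    let ε : CommRingCat.of (R ⊗[A] B) ≅ P := hT.isoIsPushout _ _ hP
    have hεl : CommRingCat.ofHom (Algebra.TensorProduct.includeLeftRingHom (R := A) (A := R) (B := B))
        ≫ ε.hom = i := hT.inl_isoIsPushout_hom _ _ hP
    have hεr : CommRingCat.ofHom (Algebra.TensorProduct.includeRight (R := A) (A := R) (B := B)).toRingHom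
        ≫ ε.hom = j := hT.inr_isoIsPushout_hom _ _ hP
    have hβ' : γ ≫ β ≫ ε.inv = φ ≫
        CommRingCat.ofHom (Algebra.TensorProduct.includeRight (R := A) (A := R) (B := B)).toRingHom := by
      rw [← Category.assoc, hβ, ← hεr, Category.assoc, Category.assoc, Iso.hom_inv_id,
        Category.comp_id]
    let β' : C →ₐ[A] R ⊗[A] B :=
      { toRingHom := (β ≫ ε.inv).hom
        commutes' := fun a => by
          have := congrArg (fun F : A ⟶ CommRingCat.of (R ⊗[A] B) => F.hom a) hβ'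
          refine this.trans ?_
          exact one_tmul_algebraMap a }
    obtain ⟨ψ', hψ', huniq⟩ := hθ R β'
    have hβ'' : CommRingCat.ofHom β'.toRingHom = β ≫ ε.inv := rfl
    have hcomp : ∀ ψ₂ : W →ₐ[A] R, CommRingCat.ofHom θ.toRingHom ≫
        CommRingCat.ofHom (Algebra.TensorProduct.map ψ₂ (AlgHom.id A B)).toRingHom =
        CommRingCat.ofHom ((Algebra.TensorProduct.map ψ₂ (AlgHom.id A B)).comp θ).toRingHom :=
      fun ψ₂ => rfl
    refine ⟨CommRingCat.ofHom ψ'.toRingHom, ⟨?_, ?_⟩, ?_⟩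
    · ext a
      exact ψ'.commutes a
    · intro m hm1 hm2
      have key : ε₀.hom ≫ m =
          CommRingCat.ofHom (Algebra.TensorProduct.map ψ' (AlgHom.id A B)).toRingHom ≫ ε.hom := by
        apply hT₀.hom_ext
        · rw [← Category.assoc, hε₀l, hm1, ← Category.assoc, inl_map, Category.assoc, hεl]
        · rw [← Category.assoc, hε₀r, hm2, ← Category.assoc, inr_map, hεr]
      rw [Category.assoc, key, ← Category.assoc, hcomp, hψ', hβ'', Category.assoc, Iso.inv_hom_id,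
        Category.comp_id]
    · rintro ψ₂ ⟨h21, h22⟩
      let ψ₂' : W →ₐ[A] R := mkAlg ψ₂ h21
      have hψ₂ : CommRingCat.ofHom ψ₂'.toRingHom = ψ₂ := rfl
      have hm := h22 (ε₀.inv ≫
        CommRingCat.ofHom (Algebra.TensorProduct.map ψ₂' (AlgHom.id A B)).toRingHom ≫ ε.hom) ?_ ?_
      · have h3 : CommRingCat.ofHom ((Algebra.TensorProduct.map ψ₂' (AlgHom.id A B)).comp θ).toRingHom
            = CommRingCat.ofHom β'.toRingHom := by
          rw [hβ'', ← hm, ← hcomp]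
          simp only [Category.assoc, Iso.hom_inv_id_assoc, Iso.hom_inv_id, Category.comp_id]
        have h4 : (Algebra.TensorProduct.map ψ₂' (AlgHom.id A B)).comp θ = β' := by
          ext c
          exact congrArg (fun F : C ⟶ CommRingCat.of (R ⊗[A] B) => F.hom c) h3
        have := huniq ψ₂' h4
        rw [← hψ₂, this]
      · rw [← hε₀l, Category.assoc, Iso.hom_inv_id_assoc, ← Category.assoc, inl_map, Category.assoc,
          hεl, hψ₂]
      · rw [← hε₀r, Category.assoc, Iso.hom_inv_id_assoc, ← Category.assoc, inr_map, hεr]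

theorem exists_isWeil
    (hfree : letI := φ.hom.toAlgebra; Module.Finite A B ∧ Module.Projective A B) :
    ∃ (W : CommRingCat.{u}) (ω : A ⟶ W), ∀ (P₀ : CommRingCat.{u}) (i₀ : W ⟶ P₀) (j₀ : B ⟶ P₀),
      IsPushout ω φ i₀ j₀ → ∃ θ : C ⟶ P₀, γ ≫ θ = φ ≫ j₀ ∧ IsWeil φ γ ω i₀ j₀ θ := by
  obtain ⟨W, ω, -, h⟩ := exists_isWeil_ft φ γ hfree
  exact ⟨W, ω, h⟩

end

end Groth.Agent.R2.H63.WeilCat

namespace Groth.Agent.R2.H63.WeilCat

universe u

open CategoryTheory Limits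

theorem IsWeil.of_iso {A B C : CommRingCat.{u}} {φ : A ⟶ B} {γ : A ⟶ C} {W W' P₀ : CommRingCat.{u}}
    {ω : A ⟶ W} (e : W ≅ W') {i₀' : W' ⟶ P₀} {j₀ : B ⟶ P₀} {θ : C ⟶ P₀}
    (h : IsWeil φ γ ω (e.hom ≫ i₀') j₀ θ) : IsWeil φ γ (ω ≫ e.hom) i₀' j₀ θ := by
  intro R P ρ i j hP β hβ
  obtain ⟨ψ, ⟨h1, h2⟩, h3⟩ := h R P ρ i j hP β hβ
  refine ⟨e.inv ≫ ψ, ⟨by simp [h1], fun m hm1 hm2 => h2 m ?_ hm2⟩, ?_⟩
  · rw [Category.assoc, hm1, Category.assoc, Iso.hom_inv_id_assoc]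
  · rintro ψ₂ ⟨h21, h22⟩
    have := h3 (e.hom ≫ ψ₂) ⟨by rw [← Category.assoc, h21], fun m hm1 hm2 => h22 m ?_ hm2⟩
    · rw [← this, Iso.inv_hom_id_assoc]
    · rw [Category.assoc, Category.assoc] at hm1
      exact (cancel_epi e.hom).1 hm1

theorem isPushout_of_iso {A B W W' P₀ : CommRingCat.{u}} {φ : A ⟶ B} {ω : A ⟶ W} (e : W ≅ W')
    {i₀' : W' ⟶ P₀} {j₀ : B ⟶ P₀} (h : IsPushout (ω ≫ e.hom) φ i₀' j₀) :
    IsPushout ω φ (e.hom ≫ i₀') j₀ :=
  h.of_iso (Iso.refl _) e.symm (Iso.refl _) (Iso.refl _) (by simp) (by simp) (by simp) (by simp)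

end Groth.Agent.R2.H63.WeilCat
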