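import Mathlib
import Groth.Agent.R2.H63WeilCat
import Groth.Prelude.Def_Flatn

set_option autoImplicit false

open CategoryTheory Limits AlgebraicGeometry Opposite

namespace Groth.Agent.R2.H63.WeilGeom

universe u

open Groth.Agent.R2.H63.WeilCat

/-- morphism to an affine scheme from a ring map on global sections -/
noncomputable def affLift {Y X : Scheme.{u}} [IsAffine X] (ψ : Γ(X, ⊤) ⟶ Γ(Y, ⊤)) : Y ⟶ X :=
  Y.toSpecΓ ≫ Spec.map ψ ≫ X.isoSpec.inv

theorem isoSpec_inv_appTop (X : Scheme.{u}) [IsAffine X] :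
    X.isoSpec.inv.appTop = (Scheme.ΓSpecIso Γ(X, ⊤)).inv := by
  have h : X.isoSpec.inv.appTop ≫ X.isoSpec.hom.appTop = 𝟙 _ := by
    rw [← Scheme.Hom.comp_appTop, Iso.hom_inv_id]
    rfl
  rw [Scheme.isoSpec_hom, Scheme.toSpecΓ_appTop] at h
  rw [← cancel_mono (Scheme.ΓSpecIso Γ(X, ⊤)).hom, h, Iso.inv_hom_id]

@[simp]
theorem affLift_appTop {Y X : Scheme.{u}} [IsAffine X] (ψ : Γ(X, ⊤) ⟶ Γ(Y, ⊤)) :
    (affLift ψ).appTop = ψ := by
  simp only [affLift, Scheme.Hom.comp_appTop, isoSpec_inv_appTop, Scheme.toSpecΓ_appTop,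
    Category.assoc]
  rw [Scheme.ΓSpecIso_naturality, Iso.inv_hom_id_assoc]

section

variable {Z X S : Scheme.{u}} (g : Z ⟶ S) (f : X ⟶ S)

/-- underlying morphism `T ×_S Z ⟶ X` of a section of `morS`. -/
noncomputable def sec {T : Over S} (b : (Flatn.morS g f).obj (op T)) : pullback T.hom g ⟶ X := b.left

theorem sec_w {T : Over S} (b : (Flatn.morS g f).obj (op T)) :
    sec g f b ≫ f = pullback.snd T.hom g ≫ g := Over.w b

theorem sec_ext {T : Over S} (b b' : (Flatn.morS g f).obj (op T)) (h : sec g f b = sec g f b') :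
    b = b' := Over.OverMorphism.ext h

/-- constructor for sections of `morS` -/
noncomputable def mkSec {T : Over S} (k : pullback T.hom g ⟶ X) (hk : k ≫ f = pullback.snd T.hom g ≫ g) :
    (Flatn.morS g f).obj (op T) := Over.homMk k hk

@[simp]
theorem sec_mkSec {T : Over S} (k : pullback T.hom g ⟶ X) (hk : k ≫ f = pullback.snd T.hom g ≫ g) :
    sec g f (mkSec g f k hk) = k := rfl

/-- base change of a morphism over `S` -/
noncomputable def pbMap {T' T : Over S} (t : T' ⟶ T) : pullback T'.hom g ⟶ pullback T.hom g :=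
  pullback.lift (pullback.fst _ _ ≫ t.left) (pullback.snd _ _) (by
    rw [Category.assoc, Over.w t, pullback.condition])

@[reassoc (attr := simp)]
theorem pbMap_fst {T' T : Over S} (t : T' ⟶ T) :
    pbMap g t ≫ pullback.fst T.hom g = pullback.fst T'.hom g ≫ t.left := pullback.lift_fst _ _ _

@[reassoc (attr := simp)]
theorem pbMap_snd {T' T : Over S} (t : T' ⟶ T) :
    pbMap g t ≫ pullback.snd T.hom g = pullback.snd T'.hom g := pullback.lift_snd _ _ _

theorem sec_map {T' T : Over S} (t : T' ⟶ T) (b : (Flatn.morS g f).obj (op T)) :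
    sec g f ((Flatn.morS g f).map t.op b) = pbMap g t ≫ sec g f b := rfl

end

section glue

variable {Z X S : Scheme.{u}} (g : Z ⟶ S) (f : X ⟶ S)

/-- the natural map `Hom_S(T, W) → Mor_S(Z, X)(T)` induced by a section `u` over `W`. -/
noncomputable def η (W : Over S) (u : (Flatn.morS g f).obj (op W)) (T : Over S) (t : T ⟶ W) :
    (Flatn.morS g f).obj (op T) := (Flatn.morS g f).map t.op u

theorem sec_η (W : Over S) (u : (Flatn.morS g f).obj (op W)) (T : Over S) (t : T ⟶ W) :
    sec g f (η g f W u T t) = pbMap g t ≫ sec g f u := rfl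

theorem η_comp (W : Over S) (u : (Flatn.morS g f).obj (op W)) {T' T : Over S} (s : T' ⟶ T)
    (t : T ⟶ W) : η g f W u T' (s ≫ t) = (Flatn.morS g f).map s.op (η g f W u T t) := by
  simp only [η, op_comp, Functor.map_comp]
  rfl

variable (W : Over S) (u : (Flatn.morS g f).obj (op W))

/-- a member of an open cover as an object over `S`. -/
abbrev coverObj (T : Over S) (𝒰 : T.left.OpenCover) (i : 𝒰.I₀) : Over S := Over.mk (𝒰.f i ≫ T.hom)

/-- inclusion of a member of an open cover, over `S`. -/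
abbrev coverι (T : Over S) (𝒰 : T.left.OpenCover) (i : 𝒰.I₀) : coverObj T 𝒰 i ⟶ T :=
  Over.homMk (𝒰.f i) rfl

theorem η_injective
    (h : ∀ (T : Over S), IsAffine T.left → Function.Injective (η g f W u T)) (T : Over S) :
    Function.Injective (η g f W u T) := by
  intro t t' htt'
  apply Over.OverMorphism.ext
  refine Scheme.Cover.hom_ext T.left.affineCover _ _ fun i => ?_
  have hi : IsAffine (coverObj T T.left.affineCover i).left :=
    inferInstanceAs (IsAffine (T.left.affineCover.X i))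
  have := h (coverObj T T.left.affineCover i) hi
    (a₁ := coverι T T.left.affineCover i ≫ t) (a₂ := coverι T T.left.affineCover i ≫ t')
    (by rw [η_comp, η_comp, htt'])
  exact congrArg (fun k => k.left) this

theorem pbMap_coverι_eq (T : Over S) (𝒰 : T.left.OpenCover) (i : 𝒰.I₀) :
    pbMap g (coverι T 𝒰 i) = (Scheme.Pullback.openCoverOfLeft 𝒰 T.hom g).f i := by
  apply pullback.hom_ext
  · rw [pbMap_fst]
    exact (pullback.lift_fst _ _ _).symm
  · rw [pbMap_snd]
    exact ((pullback.lift_snd _ _ _).trans (Category.comp_id _)).symm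

theorem η_surjective
    (hinj : ∀ (T : Over S), Function.Injective (η g f W u T))
    (h : ∀ (T : Over S), IsAffine T.left → Function.Surjective (η g f W u T)) (T : Over S) :
    Function.Surjective (η g f W u T) := by
  intro b
  let 𝒰 := T.left.affineCover
  have hi : ∀ i, IsAffine (coverObj T 𝒰 i).left :=
    fun i => inferInstanceAs (IsAffine (𝒰.X i))
  choose ti hti using fun i => h (coverObj T 𝒰 i) (hi i) ((Flatn.morS g f).map (coverι T 𝒰 i).op b)
  -- compatibility
  have hcompat : ∀ i j, pullback.fst (𝒰.f i) (𝒰.f j) ≫ (ti i).left =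
      pullback.snd (𝒰.f i) (𝒰.f j) ≫ (ti j).left := by
    intro i j
    let Tij : Over S := Over.mk (pullback.fst (𝒰.f i) (𝒰.f j) ≫ 𝒰.f i ≫ T.hom)
    let pi : Tij ⟶ coverObj T 𝒰 i := Over.homMk (pullback.fst (𝒰.f i) (𝒰.f j)) rfl
    let pj : Tij ⟶ coverObj T 𝒰 j := Over.homMk (pullback.snd (𝒰.f i) (𝒰.f j)) (by
      change pullback.snd (𝒰.f i) (𝒰.f j) ≫ 𝒰.f j ≫ T.hom = pullback.fst (𝒰.f i) (𝒰.f j) ≫ 𝒰.f i ≫ T.hom
      rw [← Category.assoc, ← pullback.condition, Category.assoc])
    have hpp : pi ≫ coverι T 𝒰 i = pj ≫ coverι T 𝒰 j := by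
      apply Over.OverMorphism.ext
      exact pullback.condition
    have : pi ≫ ti i = pj ≫ ti j := by
      apply hinj Tij
      rw [η_comp, η_comp, hti, hti, ← Functor.map_comp_apply, ← Functor.map_comp_apply,
        ← op_comp, ← op_comp, hpp]
    exact congrArg (fun k => k.left) this
  let tl : T.left ⟶ W.left := 𝒰.glueMorphisms (fun i => (ti i).left) hcompat
  have htl : ∀ i, 𝒰.f i ≫ tl = (ti i).left := fun i => 𝒰.ι_glueMorphisms _ hcompat i
  have hw : tl ≫ W.hom = T.hom := by
    refine Scheme.Cover.hom_ext 𝒰 _ _ fun i => ?_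
    rw [← Category.assoc, htl]
    exact Over.w (ti i)
  let t : T ⟶ W := Over.homMk tl hw
  have hιt : ∀ i, coverι T 𝒰 i ≫ t = ti i := by
    intro i
    apply Over.OverMorphism.ext
    exact htl i
  refine ⟨t, ?_⟩
  apply sec_ext
  refine Scheme.Cover.hom_ext (Scheme.Pullback.openCoverOfLeft 𝒰 T.hom g) _ _ fun (i : 𝒰.I₀) => ?_
  have key : pbMap g (coverι T 𝒰 i) ≫ sec g f (η g f W u T t) =
      pbMap g (coverι T 𝒰 i) ≫ sec g f b := by
    rw [← sec_map, ← sec_map, ← η_comp, hιt, hti]
  rw [← pbMap_coverι_eq g T 𝒰 i]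
  exact key

end glue

section affine

variable {Z X S : Scheme.{u}} [IsAffine Z] [IsAffine X] [IsAffine S] (g : Z ⟶ S) (f : X ⟶ S)

variable (W : Over S) [IsAffine W.left] (u : (Flatn.morS g f).obj (op W))
  (hW : IsWeil g.appTop f.appTop W.hom.appTop (pullback.fst W.hom g).appTop
    (pullback.snd W.hom g).appTop (sec g f u).appTop)

include hW in
theorem η_bijective_of_isAffine (T : Over S) [IsAffine T.left] :
    Function.Bijective (η g f W u T) := by
  have hP : IsPushout T.hom.appTop g.appTop (pullback.fst T.hom g).appTop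
      (pullback.snd T.hom g).appTop :=
    isPushout_appTop_of_isPullback (IsPullback.of_hasPullback T.hom g)
  have hP₀ : IsPushout W.hom.appTop g.appTop (pullback.fst W.hom g).appTop
      (pullback.snd W.hom g).appTop :=
    isPushout_appTop_of_isPullback (IsPullback.of_hasPullback W.hom g)
  -- properties of `pbMap` on global sections
  have hm1 : ∀ t : T ⟶ W, (pullback.fst W.hom g).appTop ≫ (pbMap g t).appTop =
      t.left.appTop ≫ (pullback.fst T.hom g).appTop := by
    intro t
    rw [← Scheme.Hom.comp_appTop, ← Scheme.Hom.comp_appTop, pbMap_fst]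
  have hm2 : ∀ t : T ⟶ W, (pullback.snd W.hom g).appTop ≫ (pbMap g t).appTop =
      (pullback.snd T.hom g).appTop := by
    intro t
    rw [← Scheme.Hom.comp_appTop, pbMap_snd]
  have hρ : ∀ t : T ⟶ W, W.hom.appTop ≫ t.left.appTop = T.hom.appTop := by
    intro t
    rw [← Scheme.Hom.comp_appTop, Over.w t]
  have hη : ∀ t : T ⟶ W, (sec g f (η g f W u T t)).appTop =
      (sec g f u).appTop ≫ (pbMap g t).appTop := by
    intro t
    rw [sec_η, Scheme.Hom.comp_appTop]
  have hβ : ∀ b : (Flatn.morS g f).obj (op T),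
      f.appTop ≫ (sec g f b).appTop = g.appTop ≫ (pullback.snd T.hom g).appTop := by
    intro b
    rw [← Scheme.Hom.comp_appTop, ← Scheme.Hom.comp_appTop, sec_w]
  constructor
  · intro t t' htt'
    obtain ⟨ψ, -, huniq⟩ := hW _ _ _ _ _ hP (sec g f (η g f W u T t)).appTop (hβ _)
    have h1 : t.left.appTop = ψ := by
      refine huniq _ ⟨hρ t, fun m hma hmb => ?_⟩
      have : m = (pbMap g t).appTop := by
        apply hP₀.hom_ext
        · rw [hma, hm1]
        · rw [hmb, hm2]
      rw [this, hη]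
    have h2 : t'.left.appTop = ψ := by
      refine huniq _ ⟨hρ t', fun m hma hmb => ?_⟩
      have : m = (pbMap g t').appTop := by
        apply hP₀.hom_ext
        · rw [hma, hm1]
        · rw [hmb, hm2]
      rw [this, htt', hη]
    apply Over.OverMorphism.ext
    apply ext_of_isAffine
    rw [h1, h2]
  · intro b
    obtain ⟨ψ, ⟨hψ1, hψ2⟩, -⟩ := hW _ _ _ _ _ hP (sec g f b).appTop (hβ b)
    have hw : affLift ψ ≫ W.hom = T.hom := by
      apply ext_of_isAffine
      rw [Scheme.Hom.comp_appTop, affLift_appTop, hψ1]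
    let t : T ⟶ W := Over.homMk (affLift ψ) hw
    refine ⟨t, ?_⟩
    apply sec_ext
    apply ext_of_isAffine
    rw [hη]
    refine hψ2 _ ?_ (hm2 t)
    rw [hm1 t]
    congr 1
    exact affLift_appTop ψ

theorem representable_of_projective_lft (hfree : letI := (g.appTop).hom.toAlgebra
      Module.Finite Γ(S, ⊤) Γ(Z, ⊤) ∧ Module.Projective Γ(S, ⊤) Γ(Z, ⊤)) :
    ∃ W : Over S, IsAffine W.left ∧ (LocallyOfFiniteType f → LocallyOfFiniteType W.hom) ∧
      Nonempty ((Flatn.morS g f).RepresentableBy W) := by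
  obtain ⟨Wc, ω, hft, hWc⟩ := exists_isWeil_ft g.appTop f.appTop hfree
  let W : Over S := Over.mk (Spec.map ω ≫ S.isoSpec.inv)
  have hWaff : IsAffine W.left := inferInstanceAs (IsAffine (Spec Wc))
  have hWlft : LocallyOfFiniteType f → LocallyOfFiniteType W.hom := by
    intro hf
    have h1 : f.appTop.hom.FiniteType :=
      (HasRingHomProperty.iff_of_isAffine (P := @LocallyOfFiniteType)).1 hf
    have h2 : LocallyOfFiniteType (Spec.map ω) :=
      (HasRingHomProperty.Spec_iff (P := @LocallyOfFiniteType)).2 (hft h1)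
    change LocallyOfFiniteType (Spec.map ω ≫ S.isoSpec.inv)
    infer_instance
  let e : Wc ≅ Γ(W.left, ⊤) := (Scheme.ΓSpecIso Wc).symm
  have hω : W.hom.appTop = ω ≫ e.hom := by
    change (Spec.map ω ≫ S.isoSpec.inv).appTop = ω ≫ (Scheme.ΓSpecIso Wc).inv
    rw [Scheme.Hom.comp_appTop, isoSpec_inv_appTop, ← cancel_mono (Scheme.ΓSpecIso Wc).hom,
      Category.assoc, Category.assoc, Iso.inv_hom_id, Category.comp_id, Scheme.ΓSpecIso_naturality,
      Iso.inv_hom_id_assoc]
  have hP₀ : IsPushout W.hom.appTop g.appTop (pullback.fst W.hom g).appTop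
      (pullback.snd W.hom g).appTop :=
    isPushout_appTop_of_isPullback (IsPullback.of_hasPullback W.hom g)
  rw [hω] at hP₀
  obtain ⟨θ, hθ1, hθ2⟩ := hWc _ _ _ (isPushout_of_iso e hP₀)
  have hu : affLift θ ≫ f = pullback.snd W.hom g ≫ g := by
    apply ext_of_isAffine
    rw [Scheme.Hom.comp_appTop, Scheme.Hom.comp_appTop, affLift_appTop, hθ1]
  let u : (Flatn.morS g f).obj (op W) := mkSec g f (affLift θ) hu
  have hW : IsWeil g.appTop f.appTop W.hom.appTop (pullback.fst W.hom g).appTop
      (pullback.snd W.hom g).appTop (sec g f u).appTop := by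
    rw [hω, sec_mkSec, affLift_appTop]
    exact IsWeil.of_iso e hθ2
  have hbij : ∀ (T : Over S), IsAffine T.left → Function.Bijective (η g f W u T) :=
    fun T hT => η_bijective_of_isAffine g f W u hW T
  have hinj : ∀ T : Over S, Function.Injective (η g f W u T) :=
    η_injective g f W u (fun T hT => (hbij T hT).1)
  have hsurj : ∀ T : Over S, Function.Surjective (η g f W u T) :=
    η_surjective g f W u hinj (fun T hT => (hbij T hT).2)
  exact ⟨W, hWaff, hWlft, ⟨
    { homEquiv := fun {T} => Equiv.ofBijective (η g f W u T) ⟨hinj T, hsurj T⟩,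
      homEquiv_comp := fun s t => η_comp g f W u s t }⟩⟩

theorem representable_of_projective (hfree : letI := (g.appTop).hom.toAlgebra
      Module.Finite Γ(S, ⊤) Γ(Z, ⊤) ∧ Module.Projective Γ(S, ⊤) Γ(Z, ⊤)) :
    ∃ W : Over S, IsAffine W.left ∧ Nonempty ((Flatn.morS g f).RepresentableBy W) := by
  obtain ⟨W, h1, -, h2⟩ := representable_of_projective_lft g f hfree
  exact ⟨W, h1, h2⟩

theorem representable (hfree : letI := (g.appTop).hom.toAlgebra
      Module.Finite Γ(S, ⊤) Γ(Z, ⊤) ∧ Module.Free Γ(S, ⊤) Γ(Z, ⊤)) :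
    ∃ W : Over S, IsAffine W.left ∧ Nonempty ((Flatn.morS g f).RepresentableBy W) := by
  letI := (g.appTop).hom.toAlgebra
  haveI := hfree.2
  exact representable_of_projective g f ⟨hfree.1, inferInstance⟩

end affine

end Groth.Agent.R2.H63.WeilGeom
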