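import Mathlib
import Groth.Agent.R2.H63WeilGeom


set_option autoImplicit false

open CategoryTheory Limits AlgebraicGeometry Opposite

namespace Groth.Agent.R2.H63.WeilGlue

universe u

open Groth.Agent.R2.H63.WeilGeom

section cmp

variable {Z X S V : Scheme.{u}} (g : Z ⟶ S) (f : X ⟶ S) (v : V ⟶ S)

/-- base change of `g` to `V` -/
noncomputable abbrev gV : pullback v g ⟶ V := pullback.fst v g

/-- base change of `f` to `V` -/
noncomputable abbrev fV : pullback v f ⟶ V := pullback.fst v f

/-- `T ×_V Z_V ≅ T ×_S Z` -/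
noncomputable abbrev α (T : Over V) :
    pullback T.hom (gV g v) ≅ pullback ((Over.map v).obj T).hom g :=
  pullbackRightPullbackFstIso v g T.hom

@[reassoc]
theorem α_hom_fst (T : Over V) :
    (α g v T).hom ≫ pullback.fst ((Over.map v).obj T).hom g = pullback.fst T.hom (gV g v) :=
  pullbackRightPullbackFstIso_hom_fst v g T.hom

@[reassoc]
theorem α_hom_snd (T : Over V) :
    (α g v T).hom ≫ pullback.snd ((Over.map v).obj T).hom g =
      pullback.snd T.hom (gV g v) ≫ pullback.snd v g :=
  pullbackRightPullbackFstIso_hom_snd v g T.hom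

@[reassoc]
theorem α_inv_fst (T : Over V) :
    (α g v T).inv ≫ pullback.fst T.hom (gV g v) = pullback.fst ((Over.map v).obj T).hom g :=
  pullbackRightPullbackFstIso_inv_fst v g T.hom

@[reassoc]
theorem α_inv_snd_snd (T : Over V) :
    (α g v T).inv ≫ pullback.snd T.hom (gV g v) ≫ pullback.snd v g =
      pullback.snd ((Over.map v).obj T).hom g :=
  pullbackRightPullbackFstIso_inv_snd_snd v g T.hom

theorem α_inv_pbMap {T' T : Over V} (φ : T' ⟶ T) :
    (α g v T').inv ≫ pbMap (gV g v) φ = pbMap g ((Over.map v).map φ) ≫ (α g v T).inv := by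
  rw [← cancel_mono (α g v T).hom, Category.assoc, Category.assoc, Iso.inv_hom_id, Category.comp_id]
  apply pullback.hom_ext
  · rw [Category.assoc, Category.assoc, α_hom_fst, pbMap_fst, α_inv_fst_assoc]
    exact (pbMap_fst g ((Over.map v).map φ)).symm
  · rw [Category.assoc, Category.assoc, α_hom_snd, pbMap_snd_assoc, α_inv_snd_snd]
    exact (pbMap_snd g ((Over.map v).map φ)).symm

/-- forward comparison map -/
noncomputable def cmpFun (T : Over V) (b' : (Flatn.morS (gV g v) (fV f v)).obj (op T)) :
    (Flatn.morS g f).obj (op ((Over.map v).obj T)) :=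
  mkSec g f ((α g v T).inv ≫ sec (gV g v) (fV f v) b' ≫ pullback.snd v f) (by
    have h1 := sec_w (gV g v) (fV f v) b'
    rw [Category.assoc, Category.assoc, ← pullback.condition, ← Category.assoc (sec _ _ b'), h1,
      Category.assoc, pullback.condition]
    exact α_inv_snd_snd_assoc g v T g)

theorem sec_cmpFun (T : Over V) (b' : (Flatn.morS (gV g v) (fV f v)).obj (op T)) :
    sec g f (cmpFun g f v T b') = (α g v T).inv ≫ sec (gV g v) (fV f v) b' ≫ pullback.snd v f :=
  rfl

/-- backward comparison map -/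
noncomputable def cmpInv (T : Over V) (b : (Flatn.morS g f).obj (op ((Over.map v).obj T))) :
    (Flatn.morS (gV g v) (fV f v)).obj (op T) :=
  mkSec (gV g v) (fV f v)
    (pullback.lift (pullback.snd T.hom (gV g v) ≫ gV g v) ((α g v T).hom ≫ sec g f b) (by
      have h1 := sec_w g f b
      rw [Category.assoc, Category.assoc, h1, α_hom_snd_assoc, pullback.condition]))
    (pullback.lift_fst _ _ _)

theorem sec_cmpInv_snd (T : Over V) (b : (Flatn.morS g f).obj (op ((Over.map v).obj T))) :
    sec (gV g v) (fV f v) (cmpInv g f v T b) ≫ pullback.snd v f = (α g v T).hom ≫ sec g f b :=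
  pullback.lift_snd _ _ _

theorem cmpFun_cmpInv (T : Over V) (b : (Flatn.morS g f).obj (op ((Over.map v).obj T))) :
    cmpFun g f v T (cmpInv g f v T b) = b := by
  apply sec_ext
  rw [sec_cmpFun, sec_cmpInv_snd, Iso.inv_hom_id_assoc]

theorem cmpInv_cmpFun (T : Over V) (b' : (Flatn.morS (gV g v) (fV f v)).obj (op T)) :
    cmpInv g f v T (cmpFun g f v T b') = b' := by
  apply sec_ext
  apply pullback.hom_ext
  · have h1 := sec_w (gV g v) (fV f v) b'
    have h2 := sec_w (gV g v) (fV f v) (cmpInv g f v T (cmpFun g f v T b'))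
    exact h2.trans h1.symm
  · rw [sec_cmpInv_snd, sec_cmpFun, Iso.hom_inv_id_assoc]

theorem cmpFun_injective (T : Over V) : Function.Injective (cmpFun g f v T) :=
  Function.LeftInverse.injective (cmpInv_cmpFun g f v T)

theorem cmpFun_map {T' T : Over V} (φ : T' ⟶ T) (b' : (Flatn.morS (gV g v) (fV f v)).obj (op T)) :
    cmpFun g f v T' ((Flatn.morS (gV g v) (fV f v)).map φ.op b') =
      (Flatn.morS g f).map ((Over.map v).map φ).op (cmpFun g f v T b') := by
  apply sec_ext
  rw [sec_cmpFun, sec_map, sec_map, sec_cmpFun, ← Category.assoc, ← Category.assoc,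
    α_inv_pbMap]
  simp only [Category.assoc]

/-- the total space over `S` of an object over `V`. -/
noncomputable abbrev totW (WV : Over V) : Over S := (Over.map v).obj WV

/-- the projection to `V`, over `S`. -/
noncomputable abbrev totι (WV : Over V) : totW v WV ⟶ Over.mk v := Over.homMk WV.hom rfl

variable {g f v} in
/-- the universal section over the total space -/
noncomputable def totU {WV : Over V} (R : (Flatn.morS (gV g v) (fV f v)).RepresentableBy WV) :
    (Flatn.morS g f).obj (op (totW v WV)) :=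
  cmpFun g f v WV (R.homEquiv (𝟙 WV))

/-- an object over `S` with a map to `V`, as an object over `V`. -/
noncomputable abbrev overV {T : Over S} (t : T ⟶ Over.mk v) : Over V := Over.mk t.left

/-- `(T over V) over S` is `T`. -/
noncomputable def overVIso {T : Over S} (t : T ⟶ Over.mk v) : (Over.map v).obj (overV v t) ≅ T :=
  Over.isoMk (Iso.refl _) (by
    have := Over.w t
    simpa using this.symm)

@[simp]
theorem overVIso_hom_left {T : Over S} (t : T ⟶ Over.mk v) : (overVIso v t).hom.left = 𝟙 _ := rfl

@[simp]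
theorem overVIso_inv_left {T : Over S} (t : T ⟶ Over.mk v) : (overVIso v t).inv.left = 𝟙 _ := rfl

variable {g f v} in
theorem η_totU {WV : Over V} (R : (Flatn.morS (gV g v) (fV f v)).RepresentableBy WV)
    {T : Over S} (t : T ⟶ Over.mk v) (τ : overV v t ⟶ WV) :
    η g f (totW v WV) (totU R) T ((overVIso v t).inv ≫ (Over.map v).map τ) =
      (Flatn.morS g f).map (overVIso v t).inv.op (cmpFun g f v (overV v t) (R.homEquiv τ)) := by
  have h1 : R.homEquiv τ = (Flatn.morS (gV g v) (fV f v)).map τ.op (R.homEquiv (𝟙 WV)) := by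
    rw [← R.homEquiv_comp, Category.comp_id]
  rw [h1, cmpFun_map, η_comp]
  rfl

variable {g f v} in
theorem existsUnique_lift {WV : Over V} (R : (Flatn.morS (gV g v) (fV f v)).RepresentableBy WV)
    (T : Over S) (b : (Flatn.morS g f).obj (op T)) (t : T ⟶ Over.mk v) :
    ∃! t' : T ⟶ totW v WV, η g f (totW v WV) (totU R) T t' = b ∧ t' ≫ totι v WV = t := by
  -- every `t'` over `t` comes from a `τ`
  have hτ : ∀ t' : T ⟶ totW v WV, t' ≫ totι v WV = t →
      ∃ τ : overV v t ⟶ WV, t' = (overVIso v t).inv ≫ (Over.map v).map τ := by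
    intro t' ht'
    have h1 : t'.left ≫ WV.hom = t.left := congrArg (fun k => k.left) ht'
    refine ⟨Over.homMk t'.left h1, ?_⟩
    apply Over.OverMorphism.ext
    simp
  have hmapinj : Function.Injective ((Flatn.morS g f).map (overVIso v t).inv.op) := by
    intro x y hxy
    have := congrArg ((Flatn.morS g f).map (overVIso v t).hom.op) hxy
    simpa [← Functor.map_comp_apply, ← op_comp] using this
  let b₀ := (Flatn.morS g f).map (overVIso v t).hom.op b
  let τ₀ : overV v t ⟶ WV := R.homEquiv.symm (cmpInv g f v (overV v t) b₀)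
  refine ⟨(overVIso v t).inv ≫ (Over.map v).map τ₀, ⟨?_, ?_⟩, ?_⟩
  · rw [η_totU, Equiv.apply_symm_apply, cmpFun_cmpInv]
    simp [b₀, ← Functor.map_comp_apply, ← op_comp]
  · apply Over.OverMorphism.ext
    have := Over.w τ₀
    simpa using this
  · rintro t' ⟨h1, h2⟩
    obtain ⟨τ, rfl⟩ := hτ t' h2
    rw [η_totU] at h1
    have h3 : cmpFun g f v (overV v t) (R.homEquiv τ) = b₀ := by
      apply hmapinj
      rw [h1]
      simp [b₀, ← Functor.map_comp_apply, ← op_comp]
    have h4 : R.homEquiv τ = cmpInv g f v (overV v t) b₀ := by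
      rw [← h3, cmpInv_cmpFun]
    have h5 : τ = τ₀ := by
      rw [← R.homEquiv.symm_apply_apply τ, h4]
    rw [h5]

end cmp

end Groth.Agent.R2.H63.WeilGlue
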