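import Mathlib
import Groth.Agent.R2.H63WeilBC
import Groth.Agent.Lib.Helper12ZarGlue
import Groth.Prelude.Def_Mor2

set_option autoImplicit false

open CategoryTheory Limits AlgebraicGeometry Opposite

namespace Groth.Agent.R2.H63.WeilGlue

universe u

open Groth.Agent.R2.H63.WeilGeom Groth.Agent.S13210

theorem finite_projective_of_isFinLocFree {Z V : Scheme.{u}} [IsAffine V] (g : Z ⟶ V)
    (hg : Mor2.IsFinLocFree g) :
    IsAffine Z ∧ (letI := (g.appTop).hom.toAlgebra
      Module.Finite Γ(V, ⊤) Γ(Z, ⊤) ∧ Module.Projective Γ(V, ⊤) Γ(Z, ⊤)) := by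
  obtain ⟨hfin, hflat, hfp⟩ := hg
  have : IsAffine Z := isAffine_of_isAffineHom g
  refine ⟨inferInstance, ?_⟩
  have h1 : (g.appTop).hom.Finite := by
    have := IsFinite.finite_app g ⊤ (isAffineOpen_top V)
    exact this
  have h2 : (g.appTop).hom.Flat := Scheme.Hom.flat_appTop g
  have h3 : (g.appTop).hom.FinitePresentation :=
    HasRingHomProperty.appTop (P := @LocallyOfFinitePresentation) g hfp
  algebraize [(g.appTop).hom]
  have := Module.FinitePresentation.of_finite_of_finitePresentation Γ(V, ⊤) Γ(Z, ⊤)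
  exact ⟨inferInstance, Module.Flat.projective_of_finitePresentation⟩

section sheaf

variable {Z X S : Scheme.{u}} (g : Z ⟶ S) (f : X ⟶ S)

/-- `T ↦ T ×_S Z` viewed over `S`. -/
noncomputable abbrev Φ : Over S ⥤ Over S := Over.pullback g ⋙ Over.map g

instance : (Φ g).IsContinuous (AlgSp.J S) (AlgSp.J S) :=
  Functor.isContinuous_comp (Over.pullback g) (Over.map g) (AlgSp.J S) (AlgSp.J Z) (AlgSp.J S)

theorem isSheaf_morS : Presheaf.IsSheaf (AlgSp.J S) (Flatn.morS g f ⋙ uliftFunctor.{u + 1}) :=
  (Φ g).op_comp_isSheaf (AlgSp.J S) (AlgSp.J S) ((AlgSp.yon S).obj (Over.mk f))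

/-- `Mor_S(Z, X)` as an fppf sheaf. -/
noncomputable def morSh : AlgSp.Sp S := ⟨Flatn.morS g f ⋙ uliftFunctor.{u + 1}, isSheaf_morS g f⟩

variable (S) in
/-- the terminal object of `Over S` -/
abbrev SS : Over S := Over.mk (𝟙 S)

/-- the structure map as a morphism to the terminal object -/
abbrev toSS (T : Over S) : T ⟶ SS S := Over.homMk T.hom

instance (T : Over S) : Subsingleton (T ⟶ SS S) :=
  ⟨fun a b => by
    apply Over.OverMorphism.ext
    have ha := Over.w a
    have hb := Over.w b
    have ha' : a.left ≫ 𝟙 S = T.hom := ha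
    have hb' : b.left ≫ 𝟙 S = T.hom := hb
    exact ((Category.comp_id _).symm.trans ha').trans ((Category.comp_id _).symm.trans hb').symm⟩

instance (T : Over S) : Subsingleton ((AlgSp.yon S).obj T ⟶ (AlgSp.yon S).obj (SS S)) :=
  ⟨fun a b => by
    obtain ⟨a', rfl⟩ := (AlgSp.yon S).map_surjective a
    obtain ⟨b', rfl⟩ := (AlgSp.yon S).map_surjective b
    rw [Subsingleton.elim a' b']⟩

/-- the structure map of the sheaf `Mor_S(Z, X)` -/
noncomputable def πS : morSh g f ⟶ (AlgSp.yon S).obj (SS S) :=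
  ⟨{ app := fun T => TypeCat.ofHom (fun _ => (ULift.up (toSS T.unop) : ULift.{u + 1} (T.unop ⟶ SS S)))
     naturality := by
       intro T T' φ
       ext x
       apply ULift.ext
       exact Subsingleton.elim (α := (T'.unop ⟶ SS S)) _ _ }⟩

/-- sections of the sheaf from sections of the functor -/
def upS {T : Over S} (x : (Flatn.morS g f).obj (op T)) : (morSh g f).obj.obj (op T) := ULift.up x

/-- sections of the functor from sections of the sheaf -/
def downS {T : Over S} (y : (morSh g f).obj.obj (op T)) : (Flatn.morS g f).obj (op T) := y.down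

@[simp] theorem downS_upS {T : Over S} (x : (Flatn.morS g f).obj (op T)) :
    downS g f (upS g f x) = x := rfl

theorem downS_injective {T : Over S} : Function.Injective (downS g f (T := T)) :=
  fun _ _ h => ULift.ext _ _ h

theorem downS_surjective {T : Over S} : Function.Surjective (downS g f (T := T)) :=
  fun x => ⟨upS g f x, rfl⟩

theorem yEquiv_morSh_map {T' T : Over S} (t : T' ⟶ T)
    (a : (AlgSp.yon S).obj T ⟶ morSh g f) :
    downS g f (yEquiv T' (morSh g f) ((AlgSp.yon S).map t ≫ a)) =
      (Flatn.morS g f).map t.op (downS g f (yEquiv T (morSh g f) a)) := by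
  rw [← Groth.Agent.Lib.Helper12.ZarGlue.map_yEquiv]
  rfl

theorem local_rep_lft (hg : Mor2.IsFinLocFree g) [IsAffineHom f] (V' : Over S)
    (hV : IsAffine V'.left) (gV' : (AlgSp.yon S).obj V' ⟶ (AlgSp.yon S).obj (SS S)) :
    ∃ (W : Over S) (i : W ⟶ V') (fst : (AlgSp.yon S).obj W ⟶ morSh g f),
      IsPullback fst ((AlgSp.yon S).map i) (πS g f) gV' ∧ IsAffineHom i.left ∧
        (LocallyOfFiniteType f → LocallyOfFiniteType i.left) := by
  obtain ⟨hfin, hflat, hfp⟩ := hg
  have hgV : Mor2.IsFinLocFree (gV g V'.hom) := ⟨inferInstance, inferInstance, inferInstance⟩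
  obtain ⟨hZaff, hproj⟩ := finite_projective_of_isFinLocFree (gV g V'.hom) hgV
  have hXaff : IsAffine (pullback V'.hom f) := inferInstance
  obtain ⟨WV, hWV, hlft, ⟨R⟩⟩ := representable_of_projective_lft (gV g V'.hom) (fV f V'.hom) hproj
  let fst : (AlgSp.yon S).obj (totW V'.hom WV) ⟶ morSh g f :=
    (yEquiv (totW V'.hom WV) (morSh g f)).symm (upS g f (totU R))
  have hfst : downS g f (yEquiv (totW V'.hom WV) (morSh g f) fst) = totU R := by
    change downS g f ((yEquiv (totW V'.hom WV) (morSh g f))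
      ((yEquiv (totW V'.hom WV) (morSh g f)).symm (upS g f (totU R)))) = totU R
    rw [Equiv.apply_symm_apply, downS_upS]
  refine ⟨totW V'.hom WV, totι V'.hom WV, fst, ?_, ?_, ?_⟩
  · refine isPullback_of_yon (Subsingleton.elim _ _) ?_
    intro T b c _
    obtain ⟨t, rfl⟩ := (AlgSp.yon S).map_surjective c
    obtain ⟨t', ⟨ht1, ht2⟩, huniq⟩ := existsUnique_lift R T (downS g f (yEquiv T (morSh g f) b)) t
    refine ⟨(AlgSp.yon S).map t', ⟨?_, ?_⟩, ?_⟩
    · apply (yEquiv T (morSh g f)).injective
      apply downS_injective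
      rw [yEquiv_morSh_map, hfst]
      exact ht1
    · rw [← Functor.map_comp]
      exact congrArg _ ht2
    · rintro a ⟨ha1, ha2⟩
      obtain ⟨t'', rfl⟩ := (AlgSp.yon S).map_surjective a
      congr 1
      apply huniq
      refine ⟨?_, ?_⟩
      · have := congrArg (fun m => downS g f (yEquiv T (morSh g f) m)) ha1
        simp only [yEquiv_morSh_map, hfst] at this
        exact this
      · apply (AlgSp.yon S).map_injective
        rw [Functor.map_comp]
        exact ha2
  · change IsAffineHom WV.hom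
    infer_instance
  · intro hf
    change LocallyOfFiniteType WV.hom
    exact hlft inferInstance

theorem local_rep (hg : Mor2.IsFinLocFree g) [IsAffineHom f] (V' : Over S) (hV : IsAffine V'.left)
    (gV' : (AlgSp.yon S).obj V' ⟶ (AlgSp.yon S).obj (SS S)) :
    ∃ (W : Over S) (i : W ⟶ V') (fst : (AlgSp.yon S).obj W ⟶ morSh g f),
      IsPullback fst ((AlgSp.yon S).map i) (πS g f) gV' ∧ IsAffineHom i.left := by
  obtain ⟨W, i, fst, h1, h2, -⟩ := local_rep_lft g f hg V' hV gV'
  exact ⟨W, i, fst, h1, h2⟩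

set_option backward.isDefEq.respectTransparency.types false in
theorem isZariskiLocalAtTarget_isAffineHom : IsZariskiLocalAtTarget (@IsAffineHom.{u}) :=
  inferInstance

set_option backward.isDefEq.respectTransparency.types false in
theorem isZariskiLocalAtTarget_isAffineHom_inf_lft :
    IsZariskiLocalAtTarget
      (@IsAffineHom.{u} ⊓ @LocallyOfFiniteType.{u} : MorphismProperty Scheme.{u}) :=
  inferInstance

/-- `Mor_S(Z, X)` is representable by a scheme `W` over `S` with `P W.hom`, given that the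
affine-local models satisfy the Zariski-local property `P`. -/
theorem representable_of_local_rep (P : MorphismProperty Scheme.{u}) [IsZariskiLocalAtTarget P]
    (hloc : ∀ (V' : Over S), IsAffine V'.left →
      ∀ (gV' : (AlgSp.yon S).obj V' ⟶ (AlgSp.yon S).obj (SS S)),
      ∃ (W : Over S) (i : W ⟶ V') (fst : (AlgSp.yon S).obj W ⟶ morSh g f),
        IsPullback fst ((AlgSp.yon S).map i) (πS g f) gV' ∧ P i.left) :
    ∃ W : Over S, P W.hom ∧ Nonempty ((Flatn.morS g f).RepresentableBy W) := by
  have hRep : AlgSp.RepWith P (πS g f) :=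
    Groth.Agent.Lib.Helper12.ZarGlue.repWith_of_affine P (πS g f) hloc
  let g₀ : (AlgSp.yon S).obj (SS S) ⟶ (AlgSp.yon S).obj (SS S) := 𝟙 _
  let W : Over S := hRep.rep.pullback g₀
  let snd : W ⟶ SS S := hRep.rep.snd g₀
  let fst : (AlgSp.yon S).obj W ⟶ morSh g f := hRep.rep.fst g₀
  have hpb : IsPullback fst ((AlgSp.yon S).map snd) (πS g f) g₀ := hRep.rep.isPullback g₀
  have hiso : IsIso fst := hpb.isIso_fst_of_isIso
  have haff : P snd.left := hRep.property_snd g₀
  have hsnd : snd.left = W.hom := by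
    have h := Over.w snd
    have h' : snd.left ≫ 𝟙 S = W.hom := h
    exact (Category.comp_id _).symm.trans h'
  have hinj : ∀ T : Over S, Function.Injective
      (fun t : T ⟶ W => downS g f (yEquiv T (morSh g f) ((AlgSp.yon S).map t ≫ fst))) := by
    intro T t t' h
    have h1 := (yEquiv T (morSh g f)).injective (downS_injective g f h)
    exact (AlgSp.yon S).map_injective ((cancel_mono fst).1 h1)
  have hsurj : ∀ T : Over S, Function.Surjective
      (fun t : T ⟶ W => downS g f (yEquiv T (morSh g f) ((AlgSp.yon S).map t ≫ fst))) := by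
    intro T x
    obtain ⟨t, ht⟩ := (AlgSp.yon S).map_surjective
      ((yEquiv T (morSh g f)).symm (upS g f x) ≫ inv fst)
    refine ⟨t, ?_⟩
    change downS g f (yEquiv T (morSh g f) ((AlgSp.yon S).map t ≫ fst)) = x
    rw [ht, Category.assoc, IsIso.inv_hom_id, Category.comp_id, Equiv.apply_symm_apply, downS_upS]
  refine ⟨W, by rw [← hsnd]; exact haff, ⟨
    { homEquiv := fun {T} => Equiv.ofBijective _ ⟨hinj T, hsurj T⟩,
      homEquiv_comp := fun {T' T} s t => ?_ }⟩⟩
  change downS g f (yEquiv T' (morSh g f) ((AlgSp.yon S).map (s ≫ t) ≫ fst)) =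
    (Flatn.morS g f).map s.op (downS g f (yEquiv T (morSh g f) ((AlgSp.yon S).map t ≫ fst)))
  rw [Functor.map_comp, Category.assoc, yEquiv_morSh_map]

/-- **S7194**: `Mor_S(Z, X)` is representable by a scheme affine over `S` for `Z` finite locally
free and `X` affine over `S`. -/
theorem representable_affineHom (hg : Mor2.IsFinLocFree g) [IsAffineHom f] :
    ∃ W : Over S, IsAffineHom W.hom ∧ Nonempty ((Flatn.morS g f).RepresentableBy W) := by
  have := isZariskiLocalAtTarget_isAffineHom.{u}
  exact representable_of_local_rep g f @IsAffineHom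
    (fun V' hV gV' => local_rep g f hg V' hV gV')

/-- If moreover `X → S` is locally of finite type, so is `Mor_S(Z, X) → S`. -/
theorem representable_affineHom_lft (hg : Mor2.IsFinLocFree g) [IsAffineHom f]
    [LocallyOfFiniteType f] :
    ∃ W : Over S, IsAffineHom W.hom ∧ LocallyOfFiniteType W.hom ∧
      Nonempty ((Flatn.morS g f).RepresentableBy W) := by
  have := isZariskiLocalAtTarget_isAffineHom_inf_lft.{u}
  obtain ⟨W, ⟨h1, h2⟩, h3⟩ := representable_of_local_rep g f
    (@IsAffineHom ⊓ @LocallyOfFiniteType : MorphismProperty Scheme.{u})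
    (fun V' hV gV' => by
      obtain ⟨W, i, fst, h1, h2, h3⟩ := local_rep_lft g f hg V' hV gV'
      exact ⟨W, i, fst, h1, h2, h3 inferInstance⟩)
  exact ⟨W, h1, h2, h3⟩

end sheaf

end Groth.Agent.R2.H63.WeilGlue
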