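import Mathlib
import Groth.Agent.R2.H63WeilGlue
import Groth.Agent.Lib.Helper6LfpComp

set_option autoImplicit false

open CategoryTheory Limits AlgebraicGeometry Opposite MonoidalCategory CartesianMonoidalCategory

namespace Groth.Agent.R2.H63.Stab

universe u

/-- the equalizer of two morphisms into a separated, locally finite type `K`-scheme is a closed
subscheme of finite presentation -/
theorem exists_equalizer_closedImmersion_lfp {K W P : Scheme.{u}} (w : W ⟶ K) [IsSeparated w]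
    [LocallyOfFiniteType w]
    (a b : P ⟶ W) (hab : a ≫ w = b ≫ w) :
    ∃ (E : Scheme.{u}) (e₀ : E ⟶ P), IsClosedImmersion e₀ ∧ LocallyOfFinitePresentation e₀ ∧
      e₀ ≫ a = e₀ ≫ b ∧
      ∀ {M : Scheme.{u}} (m : M ⟶ P), m ≫ a = m ≫ b → ∃ l : M ⟶ E, l ≫ e₀ = m := by
  let d : P ⟶ pullback w w := pullback.lift a b hab
  have : LocallyOfFinitePresentation (pullback.diagonal w) :=
    Groth.Agent.Lib.Helper6.locallyOfFinitePresentation_diagonal w
  refine ⟨pullback d (pullback.diagonal w), pullback.fst d (pullback.diagonal w),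
    inferInstance, inferInstance, ?_, ?_⟩
  · have h1 := pullback.condition (f := d) (g := pullback.diagonal w)
    have ha : pullback.fst d (pullback.diagonal w) ≫ a =
        pullback.snd d (pullback.diagonal w) := by
      have := congr($h1 ≫ pullback.fst w w)
      simpa [d, pullback.lift_fst] using this
    have hb : pullback.fst d (pullback.diagonal w) ≫ b =
        pullback.snd d (pullback.diagonal w) := by
      have := congr($h1 ≫ pullback.snd w w)
      simpa [d, pullback.lift_snd] using this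
    rw [ha, hb]
  · intro M m hm
    refine ⟨pullback.lift m (m ≫ a) ?_, pullback.lift_fst _ _ _⟩
    apply pullback.hom_ext
    · simp [d, pullback.lift_fst]
    · simp [d, pullback.lift_snd, hm]

section

variable {S : Scheme.{u}} (Y : Over S)

/-- `T ×_S Y` as an object over `S` (through `Y`), as in `Flatn.morS`. -/
noncomputable abbrev PT (T : Over S) : Over S :=
  (Over.map Y.hom).obj ((Over.pullback Y.hom).obj T)

/-- first projection -/
noncomputable def p1 (T : Over S) : PT Y T ⟶ T :=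
  Over.homMk (pullback.fst T.hom Y.hom) (by
    change pullback.fst T.hom Y.hom ≫ T.hom = pullback.snd T.hom Y.hom ≫ Y.hom
    exact pullback.condition)

/-- second projection -/
noncomputable def p2 (T : Over S) : PT Y T ⟶ Y :=
  Over.homMk (pullback.snd T.hom Y.hom) rfl

/-- pairing -/
noncomputable def pair {T' T : Over S} (t : T' ⟶ T) (y : T' ⟶ Y) : T' ⟶ PT Y T :=
  Over.homMk (pullback.lift t.left y.left (by rw [Over.w t, Over.w y])) (by
    change pullback.lift t.left y.left _ ≫ pullback.snd T.hom Y.hom ≫ Y.hom = T'.hom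
    rw [pullback.lift_snd_assoc, Over.w y])

@[reassoc (attr := simp)]
theorem pair_p1 {T' T : Over S} (t : T' ⟶ T) (y : T' ⟶ Y) : pair Y t y ≫ p1 Y T = t := by
  ext1
  exact pullback.lift_fst _ _ _

@[reassoc (attr := simp)]
theorem pair_p2 {T' T : Over S} (t : T' ⟶ T) (y : T' ⟶ Y) : pair Y t y ≫ p2 Y T = y := by
  ext1
  exact pullback.lift_snd _ _ _

/-- functoriality of `PT` -/
noncomputable abbrev PTmap {T G : Over S} (g : T ⟶ G) : PT Y T ⟶ PT Y G :=
  (Over.map Y.hom).map ((Over.pullback Y.hom).map g)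

@[reassoc]
theorem PTmap_p1 {T G : Over S} (g : T ⟶ G) : PTmap Y g ≫ p1 Y G = p1 Y T ≫ g := by
  ext1
  exact pullback.lift_fst _ _ _

@[reassoc]
theorem PTmap_p2 {T G : Over S} (g : T ⟶ G) : PTmap Y g ≫ p2 Y G = p2 Y T := by
  ext1
  exact pullback.lift_snd _ _ _

variable {Y}

theorem exists_stabilizer {G X : Over S} (act : G ⊗ X ⟶ X) (i : Y ⟶ X)
    (M : Over S) [IsSeparated M.hom] [LocallyOfFiniteType M.hom]
    (ρ : (Flatn.morS Y.hom X.hom).RepresentableBy M) :
    ∃ (Z : Over S) (j : Z ⟶ G), IsClosedImmersion j.left ∧ LocallyOfFinitePresentation j.left ∧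
      ∀ (T : Over S) (g : T ⟶ G), (∃ z : T ⟶ Z, z ≫ j = g) ↔
        ∀ (T' : Over S) (t : T' ⟶ T) (y : T' ⟶ Y), lift (t ≫ g) (y ≫ i) ≫ act = y ≫ i := by
  -- the two sections
  let σ : ∀ (T : Over S) (g : T ⟶ G), (Flatn.morS Y.hom X.hom).obj (op T) := fun T g =>
    (lift (p1 Y T ≫ g) (p2 Y T ≫ i) ≫ act : PT Y T ⟶ X)
  let τ : ∀ (T : Over S), (Flatn.morS Y.hom X.hom).obj (op T) := fun T =>
    (p2 Y T ≫ i : PT Y T ⟶ X)
  have hσ : ∀ {T : Over S} (g : T ⟶ G),
      (Flatn.morS Y.hom X.hom).map g.op (σ G (𝟙 G)) = σ T g := by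
    intro T g
    change PTmap Y g ≫ (lift (p1 Y G ≫ 𝟙 G) (p2 Y G ≫ i) ≫ act : PT Y G ⟶ X) =
      (lift (p1 Y T ≫ g) (p2 Y T ≫ i) ≫ act : PT Y T ⟶ X)
    rw [comp_lift_assoc, Category.comp_id, PTmap_p1, PTmap_p2_assoc]
  have hτ : ∀ {T : Over S} (g : T ⟶ G),
      (Flatn.morS Y.hom X.hom).map g.op (τ G) = τ T := by
    intro T g
    change PTmap Y g ≫ (p2 Y G ≫ i : PT Y G ⟶ X) = (p2 Y T ≫ i : PT Y T ⟶ X)
    rw [PTmap_p2_assoc]
  let α : G ⟶ M := ρ.homEquiv.symm (σ G (𝟙 G))
  let β : G ⟶ M := ρ.homEquiv.symm (τ G)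
  have hα : ∀ {T : Over S} (g : T ⟶ G), ρ.homEquiv (g ≫ α) = σ T g := by
    intro T g
    rw [ρ.homEquiv_comp, Equiv.apply_symm_apply, hσ]
  have hβ : ∀ {T : Over S} (g : T ⟶ G), ρ.homEquiv (g ≫ β) = τ T := by
    intro T g
    rw [ρ.homEquiv_comp, Equiv.apply_symm_apply, hτ]
  have key : ∀ {T : Over S} (g : T ⟶ G), (g.left ≫ α.left = g.left ≫ β.left) ↔
      ∀ (T' : Over S) (t : T' ⟶ T) (y : T' ⟶ Y), lift (t ≫ g) (y ≫ i) ≫ act = y ≫ i := by
    intro T g
    have h1 : (g.left ≫ α.left = g.left ≫ β.left) ↔ g ≫ α = g ≫ β := by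
      constructor
      · intro h
        ext1
        exact h
      · intro h
        exact congrArg (fun f => f.left) h
    have h2 : g ≫ α = g ≫ β ↔ σ T g = τ T := by
      rw [← hα, ← hβ]
      exact ρ.homEquiv.injective.eq_iff.symm
    rw [h1, h2]
    constructor
    · intro h T' t y
      have h' : (lift (p1 Y T ≫ g) (p2 Y T ≫ i) ≫ act : PT Y T ⟶ X) = p2 Y T ≫ i := h
      have := congrArg (fun m => pair Y t y ≫ m) h'
      simp only [comp_lift_assoc, pair_p1_assoc, pair_p2_assoc] at this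
      exact this
    · intro h
      exact h (PT Y T) (p1 Y T) (p2 Y T)
  obtain ⟨E, e₀, hcl, hfp, heq, huniv⟩ :=
    exists_equalizer_closedImmersion_lfp M.hom α.left β.left (by rw [Over.w α, Over.w β])
  refine ⟨Over.mk (e₀ ≫ G.hom), Over.homMk e₀ rfl, hcl, hfp, fun T x => ?_⟩
  rw [← key]
  constructor
  · rintro ⟨z, rfl⟩
    change (z.left ≫ e₀) ≫ α.left = (z.left ≫ e₀) ≫ β.left
    rw [Category.assoc, Category.assoc, heq]
  · intro h
    obtain ⟨l, hl⟩ := huniv x.left h
    refine ⟨Over.homMk l ?_, ?_⟩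
    · change l ≫ e₀ ≫ G.hom = T.hom
      rw [← Category.assoc, hl, Over.w x]
    · ext1
      exact hl

end

end Groth.Agent.R2.H63.Stab
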