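import Mathlib
import Groth.Agent.R2.H63Stab

set_option autoImplicit false

open CategoryTheory Limits AlgebraicGeometry Opposite

namespace Groth.Agent.R2.H63.EqLocus

universe u

open Groth.Agent.R2.H63.WeilGlue Groth.Agent.R2.H63.Stab Groth.Agent.S13210

section glue

variable {S : Scheme.{u}} {E X Xt : Over S} (a₁ a₂ : PT E X ⟶ Xt)

/-- the two sections agree after pulling back along `x`. -/
def Agree {T : Over S} (x : T ⟶ X) : Prop := PTmap E x ≫ a₁ = PTmap E x ≫ a₂

theorem agree_comp {T' T : Over S} (t : T' ⟶ T) (x : T ⟶ X) (h : Agree a₁ a₂ x) :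
    Agree a₁ a₂ (t ≫ x) := by
  unfold Agree at h ⊢
  have e : PTmap E (t ≫ x) = PTmap E t ≫ PTmap E x := by
    simp only [PTmap, Functor.map_comp]
  rw [e, Category.assoc, Category.assoc, h]

/-- a section of `Mor_S(E, Xt)` over `X` as a map of sheaves. -/
noncomputable def secMap (a : PT E X ⟶ Xt) : (AlgSp.yon S).obj X ⟶ morSh E.hom Xt.hom :=
  (yEquiv X (morSh E.hom Xt.hom)).symm (upS E.hom Xt.hom a)

theorem downS_secMap {T : Over S} (x : T ⟶ X) (a : PT E X ⟶ Xt) :
    downS E.hom Xt.hom (yEquiv T (morSh E.hom Xt.hom) ((AlgSp.yon S).map x ≫ secMap a)) =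
      (PTmap E x ≫ a : PT E T ⟶ Xt) := by
  rw [yEquiv_morSh_map]
  change (Flatn.morS E.hom Xt.hom).map x.op (downS E.hom Xt.hom
    ((yEquiv X (morSh E.hom Xt.hom)) ((yEquiv X (morSh E.hom Xt.hom)).symm
      (upS E.hom Xt.hom a)))) = _
  rw [Equiv.apply_symm_apply]
  rfl

theorem agree_iff {T : Over S} (x : T ⟶ X) :
    Agree a₁ a₂ x ↔ (AlgSp.yon S).map x ≫ secMap a₁ = (AlgSp.yon S).map x ≫ secMap a₂ := by
  constructor
  · intro h
    apply (yEquiv T (morSh E.hom Xt.hom)).injective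
    apply downS_injective
    rw [downS_secMap, downS_secMap]
    exact h
  · intro h
    have := congrArg (fun m => downS E.hom Xt.hom (yEquiv T (morSh E.hom Xt.hom) m)) h
    simp only [downS_secMap] at this
    exact this

/-- **Gluing of equalizer loci**: if the locus where two sections of `Mor_S(E, Xt)` over `X` agree is
represented by closed subschemes on the members of an open cover of `X`, it is represented by a
closed subscheme of `X`. -/
theorem exists_closed_of_openCover {ι : Type u} (U : ι → Over S) (j : ∀ i, U i ⟶ X)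
    [∀ i, IsOpenImmersion (j i).left] (hj : ∀ x : X.left, ∃ i, x ∈ Set.range (j i).left)
    (W : ι → Over S) (w : ∀ i, W i ⟶ U i) (hw : ∀ i, IsClosedImmersion (w i).left)
    (hW : ∀ i (T : Over S) (t : T ⟶ U i), (∃ z : T ⟶ W i, z ≫ w i = t) ↔ Agree a₁ a₂ (t ≫ j i)) :
    ∃ (W₀ : Over S) (w₀ : W₀ ⟶ X), IsClosedImmersion w₀.left ∧
      ∀ (T : Over S) (x : T ⟶ X), (∃ z : T ⟶ W₀, z ≫ w₀ = x) ↔ Agree a₁ a₂ x := by
  let α₁ := secMap a₁
  let α₂ := secMap a₂
  let F : AlgSp.Sp S := equalizer α₁ α₂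
  let ιF : F ⟶ (AlgSp.yon S).obj X := equalizer.ι α₁ α₂
  have hmono : ∀ i, Mono (w i) := fun i => by
    have := hw i
    have : Mono ((Over.forget S).map (w i)) := inferInstanceAs (Mono (w i).left)
    exact (Over.forget S).mono_of_mono_map inferInstance
  have hWi : ∀ i, Agree a₁ a₂ ((w i) ≫ j i) := fun i => (hW i (W i) (w i)).1 ⟨𝟙 _, Category.id_comp _⟩
  let a : ∀ i, (AlgSp.yon S).obj (W i) ⟶ F := fun i =>
    equalizer.lift ((AlgSp.yon S).map (w i ≫ j i)) ((agree_iff a₁ a₂ _).1 (hWi i))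
  have ha : ∀ i, a i ≫ ιF = (AlgSp.yon S).map (w i ≫ j i) := fun i => equalizer.lift_ι _ _
  have sq : ∀ i, IsPullback (a i) ((AlgSp.yon S).map (w i)) ιF
      ((AlgSp.yon S).map (j i) ≫ 𝟙 _) := by
    intro i
    refine isPullback_of_yon (by rw [ha, Category.comp_id, Functor.map_comp]) ?_
    intro T b c hbc
    obtain ⟨t, rfl⟩ := (AlgSp.yon S).map_surjective c
    rw [Category.comp_id, ← Functor.map_comp] at hbc
    have hag : Agree a₁ a₂ (t ≫ j i) := by
      rw [agree_iff, ← hbc, Category.assoc, Category.assoc]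
      congr 1
      exact equalizer.condition α₁ α₂
    obtain ⟨z, hz⟩ := (hW i T t).2 hag
    refine ⟨(AlgSp.yon S).map z, ⟨?_, ?_⟩, ?_⟩
    · rw [← cancel_mono ιF, Category.assoc, ha, ← Functor.map_comp, hbc, ← Category.assoc, hz]
    · rw [← Functor.map_comp, hz]
    · rintro a' ⟨-, ha'2⟩
      obtain ⟨z', rfl⟩ := (AlgSp.yon S).map_surjective a'
      rw [← Functor.map_comp] at ha'2
      have hzz := (AlgSp.yon S).map_injective ha'2
      congr 1
      have := hmono i
      rw [← cancel_mono (w i), hzz, hz]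
  obtain ⟨W₀, w₀, a₀, sq₀, hk⟩ :=
    Groth.Agent.Lib.Helper12.ZarGlue.exists_rep_of_openCover ιF (𝟙 _) U j W w a sq hj
  choose k hk1 _ using hk
  have hcl : IsClosedImmersion w₀.left :=
    Groth.Agent.Lib.Helper12.ZarGlue.property_of_openCover @IsClosedImmersion w₀ U j hj W w k hk1 hw
  refine ⟨W₀, w₀, hcl, fun T x => ?_⟩
  have hw₀ : a₀ ≫ ιF = (AlgSp.yon S).map w₀ := by rw [sq₀.w, Category.comp_id]
  constructor
  · rintro ⟨z, rfl⟩
    rw [agree_iff, Functor.map_comp, ← hw₀, Category.assoc, Category.assoc, Category.assoc,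
      Category.assoc]
    congr 2
    exact equalizer.condition α₁ α₂
  · intro h
    let b : (AlgSp.yon S).obj T ⟶ F :=
      equalizer.lift ((AlgSp.yon S).map x) ((agree_iff a₁ a₂ x).1 h)
    have hb : b ≫ ιF = (AlgSp.yon S).map x := equalizer.lift_ι _ _
    obtain ⟨z, hz⟩ := (AlgSp.yon S).map_surjective
      (sq₀.lift b ((AlgSp.yon S).map x) (by rw [hb, Category.comp_id]))
    refine ⟨z, ?_⟩
    apply (AlgSp.yon S).map_injective
    rw [Functor.map_comp, hz]
    exact sq₀.lift_snd _ _ _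

end glue

end Groth.Agent.R2.H63.EqLocus
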