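import Mathlib

set_option autoImplicit false
set_option linter.style.haveILetI false

open CategoryTheory Limits TensorProduct

namespace Groth.Agent.R2.H63.EqLocus

universe u

/-- the ideal generated by the values of all linear functionals on the elements of `I`. -/
def coeffIdeal (R : Type u) {B : Type u} [CommRing R] [CommRing B] [Algebra R B] (I : Ideal B) :
    Ideal R :=
  Ideal.span {r | ∃ f ∈ I, ∃ c : B →ₗ[R] R, r = c f}

theorem coeffIdeal_iff_of_isPushout {R R' B P : CommRingCat.{u}} (ρ : R ⟶ R') (β : R ⟶ B)
    (i : R' ⟶ P) (j : B ⟶ P) (hP : IsPushout ρ β i j)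
    (hproj : letI := β.hom.toAlgebra; Module.Projective R B) (I : Ideal B) :
    (∀ f ∈ I, j.hom f = 0) ↔
      (∀ r ∈ (letI := β.hom.toAlgebra; coeffIdeal R I), ρ.hom r = 0) := by
  letI algB : Algebra R B := β.hom.toAlgebra
  letI algR' : Algebra R R' := ρ.hom.toAlgebra
  constructor
  · intro h r hr
    have hT := CommRingCat.isPushout_tensorProduct R R' B
    let ε : CommRingCat.of (R' ⊗[R] B) ≅ P := hT.isoIsPushout _ _ hP
    have hεr : CommRingCat.ofHom
        (Algebra.TensorProduct.includeRight (R := R) (A := R') (B := B)).toRingHom ≫ ε.hom = j :=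
      hT.inr_isoIsPushout_hom _ _ hP
    have hinj : Function.Injective ε.hom.hom :=
      ((ConcreteCategory.isIso_iff_bijective ε.hom).1 inferInstance).1
    have hzero : ∀ f ∈ I, (1 : R') ⊗ₜ[R] f = 0 := by
      intro f hf
      apply hinj
      rw [map_zero]
      have := congrArg (fun F : B ⟶ P => F.hom f) hεr
      exact this.trans (h f hf)
    have hle : coeffIdeal R I ≤ RingHom.ker ρ.hom := by
      unfold coeffIdeal
      rw [Ideal.span_le]
      rintro r ⟨f, hf, c, rfl⟩
      have h1 := congrArg ((TensorProduct.rid R R').toLinearMap ∘ₗ LinearMap.lTensor R' c)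
        (hzero f hf)
      simp only [LinearMap.coe_comp, LinearEquiv.coe_coe, Function.comp_apply,
        LinearMap.lTensor_tmul, TensorProduct.rid_tmul, map_zero] at h1
      change ρ.hom (c f) = 0
      have h2 : c f • (1 : R') = ρ.hom (c f) := by
        rw [Algebra.smul_def, mul_one]
        rfl
      rw [← h2]
      exact h1
    exact hle hr
  · intro h f hf
    obtain ⟨s, hs⟩ := Module.projective_def'.1 hproj
    have hf' : f = Finsupp.linearCombination R id (s f) := by
      have := LinearMap.congr_fun hs f
      exact this.symm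
    rw [hf', Finsupp.linearCombination_apply, Finsupp.sum, map_sum]
    refine Finset.sum_eq_zero fun k _ => ?_
    have hk : s f k ∈ coeffIdeal R I := by
      apply Ideal.subset_span
      exact ⟨f, hf, (Finsupp.lapply k) ∘ₗ s, rfl⟩
    have h0 := h _ hk
    have hw := congrArg (fun F : R ⟶ P => F.hom (s f k)) hP.w
    have hw' : i.hom (ρ.hom (s f k)) = j.hom (β.hom (s f k)) := hw
    rw [id, Algebra.smul_def, map_mul]
    have : j.hom (algebraMap R B (s f k)) = 0 := by
      change j.hom (β.hom (s f k)) = 0
      rw [← hw', h0, map_zero]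
    rw [this, zero_mul]

/-- base change of a projective algebra (as a module) along a pushout square of rings. -/
theorem projective_of_isPushout {R R' B P : CommRingCat.{u}} (ρ : R ⟶ R') (β : R ⟶ B)
    (i : R' ⟶ P) (j : B ⟶ P) (hP : IsPushout ρ β i j)
    (hproj : letI := β.hom.toAlgebra; Module.Projective R B) :
    letI := i.hom.toAlgebra; Module.Projective R' P := by
  letI algB : Algebra R B := β.hom.toAlgebra
  letI algR' : Algebra R R' := ρ.hom.toAlgebra
  letI algP : Algebra R' P := i.hom.toAlgebra
  have hT := CommRingCat.isPushout_tensorProduct R R' B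
  let ε : CommRingCat.of (R' ⊗[R] B) ≅ P := hT.isoIsPushout _ _ hP
  have hεl : CommRingCat.ofHom
      (Algebra.TensorProduct.includeLeftRingHom (R := R) (A := R') (B := B)) ≫ ε.hom = i :=
    hT.inl_isoIsPushout_hom _ _ hP
  have h1 : Module.Projective R' (R' ⊗[R] B) := inferInstance
  let e : (R' ⊗[R] B) ≃ₗ[R'] P :=
    { toFun := ε.hom.hom
      map_add' := map_add _
      map_smul' := fun r x => by
        have h2 : ε.hom.hom (r ⊗ₜ[R] (1 : B)) = i.hom r :=
          congrArg (fun F : R' ⟶ P => F.hom r) hεl
        rw [Algebra.smul_def, map_mul, RingHom.id_apply, Algebra.smul_def]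
        congr 1
      invFun := ε.inv.hom
      left_inv := fun x => by
        change (ε.hom ≫ ε.inv).hom x = x
        rw [Iso.hom_inv_id]
        rfl
      right_inv := fun x => by
        change (ε.inv ≫ ε.hom).hom x = x
        rw [Iso.inv_hom_id]
        rfl }
  exact Module.Projective.of_equiv' e

end Groth.Agent.R2.H63.EqLocus
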