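import Mathlib
import Groth.Agent.R2.H63WeilGeom
import Groth.Agent.R2.H63EqLocusAlg

set_option autoImplicit false

open CategoryTheory Limits AlgebraicGeometry Opposite

namespace Groth.Agent.R2.H63.EqLocus

universe u

open Groth.Agent.R2.H63.WeilGeom

section closedSub

variable {T₀ : Scheme.{u}} [IsAffine T₀] (J : Ideal Γ(T₀, ⊤))

/-- the closed subscheme of an affine scheme defined by an ideal of global sections. -/
noncomputable abbrev vScheme : Scheme.{u} := Spec (CommRingCat.of (Γ(T₀, ⊤) ⧸ J))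

/-- the inclusion. -/
noncomputable abbrev vι : vScheme J ⟶ T₀ :=
  Spec.map (CommRingCat.ofHom (Ideal.Quotient.mk J)) ≫ T₀.isoSpec.inv

instance : IsClosedImmersion (vι J) := by
  have : IsClosedImmersion (Spec.map (CommRingCat.ofHom (Ideal.Quotient.mk J))) :=
    IsClosedImmersion.spec_of_surjective _ Ideal.Quotient.mk_surjective
  infer_instance

theorem vι_appTop :
    (vι J).appTop ≫ (Scheme.ΓSpecIso (CommRingCat.of (Γ(T₀, ⊤) ⧸ J))).hom =
      CommRingCat.ofHom (Ideal.Quotient.mk J) := by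
  rw [Scheme.Hom.comp_appTop, isoSpec_inv_appTop, Category.assoc, Scheme.ΓSpecIso_naturality]
  exact Iso.inv_hom_id_assoc (Scheme.ΓSpecIso Γ(T₀, ⊤)) _

theorem factors_vι_iff {T : Scheme.{u}} (t : T ⟶ T₀) :
    (∃ z : T ⟶ vScheme J, z ≫ vι J = t) ↔ ∀ r ∈ J, t.appTop.hom r = 0 := by
  constructor
  · rintro ⟨z, rfl⟩ r hr
    rw [Scheme.Hom.comp_appTop]
    change z.appTop.hom ((vι J).appTop.hom r) = 0
    have h1 : (vι J).appTop.hom r = 0 := by
      have h2 := congrArg (fun F : Γ(T₀, ⊤) ⟶ CommRingCat.of (Γ(T₀, ⊤) ⧸ J) => F.hom r) (vι_appTop J)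
      have h3 : (Scheme.ΓSpecIso (CommRingCat.of (Γ(T₀, ⊤) ⧸ J))).hom.hom ((vι J).appTop.hom r) =
          Ideal.Quotient.mk J r := h2
      have h4 : Ideal.Quotient.mk J r = 0 := Ideal.Quotient.eq_zero_iff_mem.2 hr
      have hinj : Function.Injective (Scheme.ΓSpecIso (CommRingCat.of (Γ(T₀, ⊤) ⧸ J))).hom.hom :=
        ((ConcreteCategory.isIso_iff_bijective _).1 inferInstance).1
      apply hinj
      rw [h3, h4, map_zero]
    rw [h1, map_zero]
  · intro h
    let ψ : Γ(T₀, ⊤) ⧸ J →+* Γ(T, ⊤) := Ideal.Quotient.lift J t.appTop.hom h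
    let ψ' : Γ(vScheme J, ⊤) ⟶ Γ(T, ⊤) :=
      (Scheme.ΓSpecIso (CommRingCat.of (Γ(T₀, ⊤) ⧸ J))).hom ≫ CommRingCat.ofHom ψ
    refine ⟨affLift ψ', ?_⟩
    apply ext_of_isAffine
    rw [Scheme.Hom.comp_appTop, affLift_appTop]
    change (vι J).appTop ≫ (Scheme.ΓSpecIso (CommRingCat.of (Γ(T₀, ⊤) ⧸ J))).hom ≫
      CommRingCat.ofHom ψ = t.appTop
    rw [← Category.assoc, vι_appTop]
    ext r
    exact Ideal.Quotient.lift_mk J t.appTop.hom h

end closedSub

section factorClosed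

variable {P Eq : Scheme.{u}} [IsAffine P] (ε : Eq ⟶ P) [IsClosedImmersion ε]

theorem factors_closedImmersion_iff {M : Scheme.{u}} (m : M ⟶ P) :
    (∃ l : M ⟶ Eq, l ≫ ε = m) ↔ ∀ f ∈ RingHom.ker ε.appTop.hom, m.appTop.hom f = 0 := by
  obtain ⟨hEq, hsurj⟩ := IsClosedImmersion.isAffine_surjective_of_isAffine ε
  constructor
  · rintro ⟨l, rfl⟩ f hf
    rw [Scheme.Hom.comp_appTop]
    change l.appTop.hom (ε.appTop.hom f) = 0
    rw [(RingHom.mem_ker).1 hf, map_zero]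
  · intro h
    let e := RingHom.quotientKerEquivOfSurjective hsurj
    let ψ : Γ(Eq, ⊤) →+* Γ(M, ⊤) :=
      (Ideal.Quotient.lift (RingHom.ker ε.appTop.hom) m.appTop.hom h).comp e.symm.toRingHom
    have hψ : ∀ f, ψ (ε.appTop.hom f) = m.appTop.hom f := by
      intro f
      change Ideal.Quotient.lift (RingHom.ker ε.appTop.hom) m.appTop.hom h (e.symm (ε.appTop.hom f)) = _
      have : e.symm (ε.appTop.hom f) = Ideal.Quotient.mk _ f := by
        rw [RingEquiv.symm_apply_eq]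
        rfl
      rw [this, Ideal.Quotient.lift_mk]
    refine ⟨affLift (CommRingCat.ofHom ψ), ?_⟩
    apply ext_of_isAffine
    rw [Scheme.Hom.comp_appTop, affLift_appTop]
    ext f
    exact hψ f

end factorClosed

section localLemma

variable {T₀ P Xt Eq : Scheme.{u}} [IsAffine T₀] [IsAffine P] (π : P ⟶ T₀)
  (hproj : letI := π.appTop.hom.toAlgebra; Module.Projective Γ(T₀, ⊤) Γ(P, ⊤))
  (b₁ b₂ : P ⟶ Xt) (ε : Eq ⟶ P) [IsClosedImmersion ε] (hε : ε ≫ b₁ = ε ≫ b₂)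
  (huniv : ∀ {M : Scheme.{u}} (m : M ⟶ P), m ≫ b₁ = m ≫ b₂ → ∃ l : M ⟶ Eq, l ≫ ε = m)

/-- the coefficient ideal of the equalizer. -/
noncomputable def locJ : Ideal Γ(T₀, ⊤) :=
  letI := π.appTop.hom.toAlgebra
  coeffIdeal Γ(T₀, ⊤) (RingHom.ker ε.appTop.hom)

include hε huniv in
theorem agree_iff_ker {M : Scheme.{u}} (m : M ⟶ P) :
    m ≫ b₁ = m ≫ b₂ ↔ ∀ f ∈ RingHom.ker ε.appTop.hom, m.appTop.hom f = 0 := by
  rw [← factors_closedImmersion_iff ε m]
  constructor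
  · exact huniv m
  · rintro ⟨l, rfl⟩
    rw [Category.assoc, Category.assoc, hε]

include hproj hε huniv in
theorem local_affine {T PT : Scheme.{u}} [IsAffine T] (t : T ⟶ T₀) (p : PT ⟶ P) (q : PT ⟶ T)
    (hpb : IsPullback p q π t) :
    (∃ z : T ⟶ vScheme (locJ π ε), z ≫ vι (locJ π ε) = t) ↔ p ≫ b₁ = p ≫ b₂ := by
  rw [factors_vι_iff, agree_iff_ker b₁ b₂ ε hε huniv]
  have hpo : IsPushout t.appTop π.appTop q.appTop p.appTop :=
    (isPushout_appTop_of_isPullback hpb).flip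
  exact (coeffIdeal_iff_of_isPushout t.appTop π.appTop q.appTop p.appTop hpo hproj
    (RingHom.ker ε.appTop.hom)).symm

include hproj hε huniv in
theorem local_scheme {T PT : Scheme.{u}} (t : T ⟶ T₀) (p : PT ⟶ P) (q : PT ⟶ T)
    (hpb : IsPullback p q π t) :
    (∃ z : T ⟶ vScheme (locJ π ε), z ≫ vι (locJ π ε) = t) ↔ p ≫ b₁ = p ≫ b₂ := by
  constructor
  · rintro ⟨z, rfl⟩
    have hW := (local_affine π hproj b₁ b₂ ε hε huniv (vι (locJ π ε))
      (pullback.fst π (vι (locJ π ε))) (pullback.snd π (vι (locJ π ε)))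
      (IsPullback.of_hasPullback _ _)).1 ⟨𝟙 _, Category.id_comp _⟩
    let u : PT ⟶ pullback π (vι (locJ π ε)) :=
      pullback.lift p (q ≫ z) (by rw [hpb.w, Category.assoc])
    have hu : u ≫ pullback.fst π (vι (locJ π ε)) = p := pullback.lift_fst _ _ _
    rw [← hu, Category.assoc, Category.assoc, hW]
  · intro h
    let 𝒰 := T.affineCover
    have key : ∀ i, ∃ z : 𝒰.X i ⟶ vScheme (locJ π ε), z ≫ vι (locJ π ε) = 𝒰.f i ≫ t := by
      intro i
      have hpb' : IsPullback (pullback.fst q (𝒰.f i) ≫ p) (pullback.snd q (𝒰.f i)) π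
          (𝒰.f i ≫ t) :=
        ((IsPullback.of_hasPullback q (𝒰.f i)).flip.paste_vert hpb.flip).flip
      refine (local_affine π hproj b₁ b₂ ε hε huniv (𝒰.f i ≫ t) _ _ hpb').2 ?_
      rw [Category.assoc, Category.assoc, h]
    choose zi hzi using key
    have hcompat : ∀ i j, pullback.fst (𝒰.f i) (𝒰.f j) ≫ zi i =
        pullback.snd (𝒰.f i) (𝒰.f j) ≫ zi j := by
      intro i j
      rw [← cancel_mono (vι (locJ π ε)), Category.assoc, Category.assoc, hzi, hzi,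
        ← Category.assoc, ← Category.assoc, pullback.condition]
    refine ⟨𝒰.glueMorphisms zi hcompat, ?_⟩
    refine Scheme.Cover.hom_ext 𝒰 _ _ fun i => ?_
    rw [← Category.assoc, 𝒰.ι_glueMorphisms, hzi]

end localLemma

end Groth.Agent.R2.H63.EqLocus
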