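import Mathlib
import Groth.Agent.R2.H63EqLocusLoc
import Groth.Agent.R2.H63EqLocusGlue

set_option autoImplicit false

open CategoryTheory Limits AlgebraicGeometry Opposite

namespace Groth.Agent.R2.H63.EqLocus

universe u

open Groth.Agent.R2.H63.Stab

/-- the equalizer of two morphisms into a separated `K`-scheme is a closed subscheme. -/
theorem exists_equalizer_closedImmersion {K W P : Scheme.{u}} (w : W ⟶ K) [IsSeparated w]
    (a b : P ⟶ W) (hab : a ≫ w = b ≫ w) :
    ∃ (E : Scheme.{u}) (e₀ : E ⟶ P), IsClosedImmersion e₀ ∧ e₀ ≫ a = e₀ ≫ b ∧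
      ∀ {M : Scheme.{u}} (m : M ⟶ P), m ≫ a = m ≫ b → ∃ l : M ⟶ E, l ≫ e₀ = m := by
  let d : P ⟶ pullback w w := pullback.lift a b hab
  refine ⟨pullback d (pullback.diagonal w), pullback.fst d (pullback.diagonal w),
    inferInstance, ?_, ?_⟩
  · have h1 := pullback.condition (f := d) (g := pullback.diagonal w)
    have ha : pullback.fst d (pullback.diagonal w) ≫ a =
        pullback.snd d (pullback.diagonal w) := by
      have := congr($h1 ≫ pullback.fst w w)
      simpa [d, pullback.lift_fst] using this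
    have hb : pullback.fst d (pullback.diagonal w) ≫ b =
        pullback.snd d (pullback.diagonal w) := by
      have := congr($h1 ≫ pullback.snd w w)
      simpa [d, pullback.lift_snd] using this
    rw [ha, hb]
  · intro M m hm
    refine ⟨pullback.lift m (m ≫ a) ?_, pullback.lift_fst _ _ _⟩
    apply pullback.hom_ext
    · simp [d, pullback.lift_fst]
    · simp [d, pullback.lift_snd, hm]

section overS

variable {S : Scheme.{u}} {E U₀ Xt : Over S}

theorem isPullback_PTmap {T : Over S} (t : T ⟶ U₀) :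
    IsPullback (PTmap E t).left (pullback.fst T.hom E.hom) (pullback.fst U₀.hom E.hom) t.left := by
  refine IsPullback.of_right (h₁₂ := pullback.snd U₀.hom E.hom) (h₂₂ := U₀.hom) (v₁₃ := E.hom)
    ?_ ?_ (IsPullback.of_hasPullback U₀.hom E.hom).flip
  · have h1 : (PTmap E t).left ≫ pullback.snd U₀.hom E.hom = pullback.snd T.hom E.hom :=
      pullback.lift_snd _ _ _
    have h2 : t.left ≫ U₀.hom = T.hom := Over.w t
    rw [h1, h2]
    exact (IsPullback.of_hasPullback T.hom E.hom).flip
  · exact pullback.lift_fst _ _ _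

/-- **local closedness of the agreement locus** over an affine `U₀`, for `E` affine over `S` with
projective coordinate ring over `U₀`, and sections whose equalizer is a closed subscheme. -/
theorem local_over [IsAffine U₀.left] [IsAffine (pullback U₀.hom E.hom)]
    (hproj : letI := (pullback.fst U₀.hom E.hom).appTop.hom.toAlgebra
      Module.Projective Γ(U₀.left, ⊤) Γ(pullback U₀.hom E.hom, ⊤))
    (b₁ b₂ : PT E U₀ ⟶ Xt) {Eq : Scheme.{u}} (ε : Eq ⟶ pullback U₀.hom E.hom)
    [IsClosedImmersion ε] (hε : ε ≫ b₁.left = ε ≫ b₂.left)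
    (huniv : ∀ {M : Scheme.{u}} (m : M ⟶ pullback U₀.hom E.hom),
      m ≫ b₁.left = m ≫ b₂.left → ∃ l : M ⟶ Eq, l ≫ ε = m) :
    ∃ (W : Over S) (w : W ⟶ U₀), IsClosedImmersion w.left ∧
      ∀ (T : Over S) (t : T ⟶ U₀), (∃ z : T ⟶ W, z ≫ w = t) ↔
        PTmap E t ≫ b₁ = PTmap E t ≫ b₂ := by
  let J := locJ (pullback.fst U₀.hom E.hom) ε
  refine ⟨Over.mk (vι J ≫ U₀.hom), Over.homMk (vι J) rfl, inferInstanceAs (IsClosedImmersion (vι J)),
    fun T t => ?_⟩
  have key := local_scheme (pullback.fst U₀.hom E.hom) hproj b₁.left b₂.left ε hε huniv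
    t.left (PTmap E t).left (pullback.fst T.hom E.hom) (isPullback_PTmap t)
  constructor
  · rintro ⟨z, rfl⟩
    apply Over.OverMorphism.ext
    exact key.1 ⟨z.left, rfl⟩
  · intro h
    obtain ⟨z, hz⟩ := key.2 (congrArg (fun k => k.left) h)
    refine ⟨Over.homMk z ?_, ?_⟩
    · change z ≫ vι J ≫ U₀.hom = T.hom
      rw [← Category.assoc, hz, Over.w t]
    · apply Over.OverMorphism.ext
      exact hz

end overS

end Groth.Agent.R2.H63.EqLocus
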