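import Mathlib
import Groth.Agent.R2.H63EqLocusOver

set_option autoImplicit false
set_option linter.style.haveILetI false

open CategoryTheory Limits AlgebraicGeometry Opposite MonoidalCategory CartesianMonoidalCategory

namespace Groth.Agent.R2.H63.FixPt

universe u

open Groth.Agent.R2.H63.Stab Groth.Agent.R2.H63.EqLocus

section sections

variable {S : Scheme.{u}} {G Y : Over S} (act : G ⊗ Y ⟶ Y)

/-- `(y, g) ↦ g · y` on `Y ×_S G`. -/
noncomputable def actSec : PT G Y ⟶ Y := lift (p2 G Y) (p1 G Y) ≫ act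

/-- `(y, g) ↦ y` on `Y ×_S G`. -/
noncomputable def prSec : PT G Y ⟶ Y := p1 G Y

theorem agree_iff_fixed {T : Over S} (y : T ⟶ Y) :
    Agree (actSec act) (prSec (G := G) (Y := Y)) y ↔
      ∀ (T' : Over S) (t : T' ⟶ T) (g : T' ⟶ G), lift g (t ≫ y) ≫ act = t ≫ y := by
  have e1 : PTmap G y ≫ actSec act = lift (p2 G T) (p1 G T ≫ y) ≫ act := by
    unfold actSec
    rw [comp_lift_assoc, PTmap_p1, PTmap_p2]
  have e2 : PTmap G y ≫ prSec (G := G) (Y := Y) = p1 G T ≫ y := by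
    unfold prSec
    rw [PTmap_p1]
  unfold Agree
  rw [e1, e2]
  constructor
  · intro h T' t g
    have := congrArg (fun m => pair G t g ≫ m) h
    simp only [comp_lift_assoc, pair_p1_assoc, pair_p2] at this
    exact this
  · intro h
    exact h (PT G T) (p1 G T) (p2 G T)

end sections

section proj

variable {S : Scheme.{u}} {G : Over S} [IsAffineHom G.hom]

/-- projectivity of the coordinate ring of `V ×_S G` over `V`, for `V` affine mapping into an affine
open `U` of `S` over which `G` has a free coordinate ring. -/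
theorem projective_pullback (U₀ : Over S) [IsAffine U₀.left] (U : S.Opens) (hU : IsAffineOpen U)
    (hle : (⊤ : U₀.left.Opens) ≤ U₀.hom ⁻¹ᵁ U)
    (hfree : @Module.Projective Γ(S, U) _ Γ(G.left, G.hom ⁻¹ᵁ U) _
      (G.hom.app U).hom.toAlgebra.toModule) :
    letI := (pullback.fst U₀.hom G.hom).appTop.hom.toAlgebra
    Module.Projective Γ(U₀.left, ⊤) Γ(pullback U₀.hom G.hom, ⊤) := by
  have H : IsPullback (pullback.snd U₀.hom G.hom) (pullback.fst U₀.hom G.hom) G.hom U₀.hom :=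
    (IsPullback.of_hasPullback U₀.hom G.hom).flip
  have hUX : IsAffineOpen (G.hom ⁻¹ᵁ U) := hU.preimage G.hom
  have hUY : (⊤ : (pullback U₀.hom G.hom).Opens) =
      pullback.snd U₀.hom G.hom ⁻¹ᵁ (G.hom ⁻¹ᵁ U) ⊓ pullback.fst U₀.hom G.hom ⁻¹ᵁ ⊤ := by
    rw [← Scheme.Hom.comp_preimage, ← pullback.condition, Scheme.Hom.comp_preimage]
    refine le_antisymm (le_inf ?_ le_top) le_top
    intro x _
    exact hle (Set.mem_univ _)
  have hiso := isIso_pushoutSection_of_isAffineOpen H hle (le_refl _) hUY hU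
    (isAffineOpen_top U₀.left) hUX
  have hpo := ((isIso_pushoutSection_iff H hle (le_refl _) hUY).1 hiso).flip
  have hβ : G.hom.appLE U (G.hom ⁻¹ᵁ U) (le_refl _) = G.hom.app U := Scheme.Hom.appLE_eq_app _
  rw [hβ] at hpo
  have key := projective_of_isPushout _ _ _ _ hpo hfree
  have hi : (pullback.fst U₀.hom G.hom).appLE ⊤ ⊤ (by simp) =
      (pullback.fst U₀.hom G.hom).appTop := by
    simp [Scheme.Hom.appLE]
    try erw [Category.comp_id]
  rw [hi] at key
  exact key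

end proj

section main

variable {S : Scheme.{u}} (G Y : Over S) (act : G ⊗ Y ⟶ Y)

/-- **S14840**: fixed points of an affine group scheme with locally free coordinate ring acting on a
separated scheme form a closed subscheme. -/
theorem fixedPoints_closed [IsAffineHom G.hom] [IsSeparated Y.hom]
    (hfree : ∀ s : S, ∃ U : S.affineOpens, s ∈ (U : S.Opens) ∧
      @Module.Free Γ(S, U) Γ(G.left, G.hom ⁻¹ᵁ U) _ _ (G.hom.app U).hom.toAlgebra.toModule) :
    ∃ (Z : Over S) (i : Z ⟶ Y), IsClosedImmersion i.left ∧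
      ∀ (T : Over S) (y : T ⟶ Y),
        (∀ (T' : Over S) (t : T' ⟶ T) (g : T' ⟶ G), lift g (t ≫ y) ≫ act = t ≫ y) ↔
          ∃ z : T ⟶ Z, z ≫ i = y := by
  have hcov : ∀ y₀ : Y.left, ∃ (U : S.affineOpens) (V : Y.left.Opens), IsAffineOpen V ∧ y₀ ∈ V ∧
      V ≤ Y.hom ⁻¹ᵁ (U : S.Opens) ∧
      @Module.Free Γ(S, U) Γ(G.left, G.hom ⁻¹ᵁ U) _ _ (G.hom.app U).hom.toAlgebra.toModule := by
    intro y₀
    obtain ⟨U, hsU, hF⟩ := hfree (Y.hom y₀)
    obtain ⟨V, hV, hyV, hVU⟩ :=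
      exists_isAffineOpen_mem_and_subset (x := y₀) (U := Y.hom ⁻¹ᵁ (U : S.Opens)) hsU
    exact ⟨U, V, hV, hyV, hVU, hF⟩
  choose U V hV hyV hVU hF using hcov
  let Ui : Y.left → Over S := fun y₀ => Over.mk ((V y₀).ι ≫ Y.hom)
  let j : ∀ y₀, Ui y₀ ⟶ Y := fun y₀ => Over.homMk (V y₀).ι rfl
  have hjo : ∀ y₀, IsOpenImmersion (j y₀).left := fun y₀ =>
    inferInstanceAs (IsOpenImmersion (V y₀).ι)
  have hj : ∀ x : Y.left, ∃ i, x ∈ Set.range (j i).left := fun x => ⟨x, by
    change x ∈ Set.range (V x).ι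
    rw [Scheme.Opens.range_ι]
    exact hyV x⟩
  have hloc : ∀ y₀, ∃ (W : Over S) (w : W ⟶ Ui y₀), IsClosedImmersion w.left ∧
      ∀ (T : Over S) (t : T ⟶ Ui y₀), (∃ z : T ⟶ W, z ≫ w = t) ↔
        Agree (actSec act) (prSec (G := G) (Y := Y)) (t ≫ j y₀) := by
    intro y₀
    haveI : IsAffine (Ui y₀).left := hV y₀
    haveI : IsAffine (pullback (Ui y₀).hom G.hom) :=
      isAffine_of_isAffineHom (pullback.fst (Ui y₀).hom G.hom)
    have hle : (⊤ : (Ui y₀).left.Opens) ≤ (Ui y₀).hom ⁻¹ᵁ (U y₀ : S.Opens) := by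
      intro x _
      exact hVU y₀ x.2
    have hP : @Module.Projective Γ(S, (U y₀ : S.Opens)) _
        Γ(G.left, G.hom ⁻¹ᵁ (U y₀ : S.Opens)) _
        (G.hom.app (U y₀ : S.Opens)).hom.toAlgebra.toModule := by
      letI := (G.hom.app (U y₀ : S.Opens)).hom.toAlgebra
      haveI : Module.Free Γ(S, (U y₀ : S.Opens)) Γ(G.left, G.hom ⁻¹ᵁ (U y₀ : S.Opens)) := hF y₀
      infer_instance
    have hproj := projective_pullback (G := G) (Ui y₀) (U y₀ : S.Opens) (U y₀).2 hle hP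
    let b₁ : PT G (Ui y₀) ⟶ Y := PTmap G (j y₀) ≫ actSec act
    let b₂ : PT G (Ui y₀) ⟶ Y := PTmap G (j y₀) ≫ prSec (G := G) (Y := Y)
    obtain ⟨Eq, ε, hcl, hε, huniv⟩ := exists_equalizer_closedImmersion Y.hom b₁.left b₂.left
      (by rw [Over.w b₁, Over.w b₂])
    obtain ⟨W, w, hw, hW⟩ := local_over hproj b₁ b₂ ε hε huniv
    refine ⟨W, w, hw, fun T t => ?_⟩
    rw [hW T t]
    unfold Agree
    have e : PTmap G (t ≫ j y₀) = PTmap G t ≫ PTmap G (j y₀) := by
      simp only [PTmap, Functor.map_comp]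
    rw [e, Category.assoc, Category.assoc]
  choose W w hw hW using hloc
  obtain ⟨W₀, w₀, hcl, hW₀⟩ := exists_closed_of_openCover (actSec act) (prSec (G := G) (Y := Y))
    Ui j hj W w hw hW
  refine ⟨W₀, w₀, hcl, fun T y => ?_⟩
  rw [← agree_iff_fixed, ← hW₀]

end main

end Groth.Agent.R2.H63.FixPt
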