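import Mathlib
import Groth.Prelude.Def_SGA3x
import Groth.Agent.R2.H47FSmLP
import Groth.Agent.R2.H63EqLocusAlg

/-!
# helper63: the coordinate ring of a group of multiplicative type is projective

`projective_of_isMultTypeFT`: for `H` affine over `S` with `SGA3x.IsMultTypeFT H` and `V` an affine
open of `S`, `Γ(H, H⁻¹V)` is a projective `Γ(S, V)`-module.  Route: a finite family of affine opens of
the fpqc cover over which `H` becomes diagonalizable (`ℤ[M]` is free), flat base change of sections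
(`isIso_pushoutSection_of_isAffineOpen`), projectivity over a finite product ring (helper47
`projective_pi_tensor`) and Raynaud–Gruson descent of projectivity (`S0585`, Lib `Helper14Descent2`).
-/

set_option autoImplicit false
set_option linter.style.haveILetI false
universe u
open TensorProduct CategoryTheory Limits AlgebraicGeometry MonoidalCategory CartesianMonoidalCategory

namespace Groth.Agent.R2.H63.MultProj

open Groth.Agent.R2.H63.EqLocus

/-- projectivity descends along a finite jointly "surjective" family of flat algebras. -/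
theorem projective_of_finite_flat_cover {R : Type u} [CommRing R] {ι : Type u} [Fintype ι]
    [DecidableEq ι] (B : ι → Type u) [∀ i, CommRing (B i)] [∀ i, Algebra R (B i)]
    [∀ i, Module.Flat R (B i)]
    (hcov : ∀ m : Ideal R, m.IsMaximal → ∃ i, Ideal.map (algebraMap R (B i)) m ≠ ⊤)
    (M : Type u) [AddCommGroup M] [Module R M]
    (h : ∀ i, Module.Projective (B i) (B i ⊗[R] M)) : Module.Projective R M := by
  have : Module.Flat R (Π i, B i) :=
    Module.Flat.of_linearEquiv (DirectSum.linearEquivFunOnFintype R ι B).symm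
  have : Module.FaithfullyFlat R (Π i, B i) := by
    rw [Module.faithfullyFlat_iff]
    refine ⟨inferInstance, fun m hm htop => ?_⟩
    obtain ⟨g, hg⟩ := hcov m hm
    have h1 : (1 : Π i, B i) ∈ (m • ⊤ : Submodule R (Π i, B i)) := by rw [htop]; trivial
    have h2 : ∀ z ∈ (m • ⊤ : Submodule R (Π i, B i)),
        z g ∈ Ideal.map (algebraMap R (B g)) m := by
      intro z hz
      refine Submodule.smul_induction_on hz ?_ ?_
      · intro a ha b _
        show (a • b) g ∈ _
        rw [Pi.smul_apply, Algebra.smul_def]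
        exact Ideal.mul_mem_right _ _ (Ideal.mem_map_of_mem _ ha)
      · intro x y hx hy
        rw [Pi.add_apply]; exact Ideal.add_mem _ hx hy
    exact hg ((Ideal.eq_top_iff_one _).mpr (h2 1 h1))
  have : Module.Projective (Π i, B i) ((Π i, B i) ⊗[R] M) :=
    Groth.Agent.R2.H47.FSmLP.projective_pi_tensor B M h
  exact Groth.Agent.Lib.Helper14.Descent.projective_of_faithfullyFlat_baseChange (R := R)
    (S := Π i, B i)

/-- the tensor product is projective when the pushout is. -/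
theorem tensor_projective_of_isPushout {R R' B P : CommRingCat.{u}} (ρ : R ⟶ R') (β : R ⟶ B)
    (i : R' ⟶ P) (j : B ⟶ P) (hP : IsPushout ρ β i j)
    (hproj : letI := i.hom.toAlgebra; Module.Projective R' P) :
    letI := β.hom.toAlgebra; letI := ρ.hom.toAlgebra; Module.Projective R' (R' ⊗[R] B) := by
  letI algB : Algebra R B := β.hom.toAlgebra
  letI algR' : Algebra R R' := ρ.hom.toAlgebra
  letI algP : Algebra R' P := i.hom.toAlgebra
  have hT := CommRingCat.isPushout_tensorProduct R R' B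
  let ε : CommRingCat.of (R' ⊗[R] B) ≅ P := hT.isoIsPushout _ _ hP
  have hεl : CommRingCat.ofHom
      (Algebra.TensorProduct.includeLeftRingHom (R := R) (A := R') (B := B)) ≫ ε.hom = i :=
    hT.inl_isoIsPushout_hom _ _ hP
  let e : (R' ⊗[R] B) ≃ₗ[R'] P :=
    { toFun := ε.hom.hom
      map_add' := map_add _
      map_smul' := fun r x => by
        have h2 : ε.hom.hom (r ⊗ₜ[R] (1 : B)) = i.hom r :=
          congrArg (fun F : R' ⟶ P => F.hom r) hεl
        rw [Algebra.smul_def, map_mul, RingHom.id_apply, Algebra.smul_def]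
        congr 1
      invFun := ε.inv.hom
      left_inv := fun x => by
        change (ε.hom ≫ ε.inv).hom x = x
        rw [Iso.hom_inv_id]
        rfl
      right_inv := fun x => by
        change (ε.inv ≫ ε.hom).hom x = x
        rw [Iso.inv_hom_id]
        rfl }
  exact Module.Projective.of_equiv' e.symm

/-- a point of the source gives a proper ideal containing the image of the ideal of its image. -/
theorem map_ne_top_of_point {S T : Scheme.{u}} (g : T ⟶ S) (V : S.Opens) (hV : IsAffineOpen V)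
    (hle : (⊤ : T.Opens) ≤ g ⁻¹ᵁ V) (m : Ideal Γ(S, V)) [hm : m.IsPrime] (x : T)
    (hx : g x = hV.fromSpec ⟨m, hm⟩) :
    Ideal.map (g.appLE V ⊤ hle).hom m ≠ ⊤ := by
  let q : Ideal Γ(T, ⊤) :=
    Ideal.comap (T.presheaf.germ ⊤ x trivial).hom (IsLocalRing.maximalIdeal (T.presheaf.stalk x))
  have hq : ∀ b : Γ(T, ⊤), b ∈ q ↔ x ∉ T.basicOpen b := by
    intro b
    rw [Scheme.mem_basicOpen_top]
    exact (IsLocalRing.mem_maximalIdeal _)
  have hle' : Ideal.map (g.appLE V ⊤ hle).hom m ≤ q := by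
    rw [Ideal.map_le_iff_le_comap]
    intro a ha
    rw [Ideal.mem_comap, hq, Scheme.basicOpen_appLE]
    rintro ⟨-, h2⟩
    have h3 : g x ∈ S.basicOpen a := h2
    rw [hx] at h3
    have h4 : (⟨m, hm⟩ : Spec Γ(S, V)) ∈ hV.fromSpec ⁻¹ᵁ S.basicOpen a := h3
    rw [hV.fromSpec_preimage_basicOpen] at h4
    exact h4 ha
  intro htop
  rw [htop, top_le_iff] at hle'
  have h1 : (1 : Γ(T, ⊤)) ∈ q := by rw [hle']; trivial
  rw [hq] at h1
  apply h1
  rw [Scheme.mem_basicOpen_top]
  rw [map_one]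
  exact isUnit_one

/-- fpqc descent of projectivity of the coordinate ring of an affine morphism. -/
theorem projective_of_flat_cover {X S : Scheme.{u}} (h : X ⟶ S) [IsAffineHom h] (V : S.Opens)
    (hV : IsAffineOpen V) {ι : Type u} [Fintype ι] [DecidableEq ι] (T : ι → Scheme.{u})
    [∀ k, IsAffine (T k)] (g : ∀ k, T k ⟶ S) [∀ k, Flat (g k)]
    (hle : ∀ k, (⊤ : (T k).Opens) ≤ g k ⁻¹ᵁ V)
    (hcov : ∀ v ∈ V, ∃ (k : ι) (x : T k), g k x = v)
    (P : ι → Scheme.{u}) (fst : ∀ k, P k ⟶ X) (snd : ∀ k, P k ⟶ T k)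
    (hpb : ∀ k, IsPullback (fst k) (snd k) h (g k))
    (hproj : ∀ k, letI := (snd k).appTop.hom.toAlgebra; Module.Projective Γ(T k, ⊤) Γ(P k, ⊤)) :
    @Module.Projective Γ(S, V) _ Γ(X, h ⁻¹ᵁ V) _ (h.app V).hom.toAlgebra.toModule := by
  letI algM : Algebra Γ(S, V) Γ(X, h ⁻¹ᵁ V) := (h.app V).hom.toAlgebra
  letI algB : ∀ k, Algebra Γ(S, V) Γ(T k, ⊤) := fun k => ((g k).appLE V ⊤ (hle k)).hom.toAlgebra
  haveI hflat : ∀ k, Module.Flat Γ(S, V) Γ(T k, ⊤) := fun k =>
    Flat.flat_appLE (g k) hV (isAffineOpen_top _) (hle k)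
  have hcov' : ∀ m : Ideal Γ(S, V), m.IsMaximal →
      ∃ k, Ideal.map (algebraMap Γ(S, V) Γ(T k, ⊤)) m ≠ ⊤ := by
    intro m hm
    haveI := hm.isPrime
    have hv : hV.fromSpec ⟨m, hm.isPrime⟩ ∈ V := by
      have : hV.fromSpec ⟨m, hm.isPrime⟩ ∈ Set.range hV.fromSpec := ⟨_, rfl⟩
      rw [hV.range_fromSpec] at this
      exact this
    obtain ⟨k, x, hx⟩ := hcov _ hv
    exact ⟨k, map_ne_top_of_point (g k) V hV (hle k) m x hx⟩
  refine projective_of_finite_flat_cover (fun k => Γ(T k, ⊤)) hcov' Γ(X, h ⁻¹ᵁ V) fun k => ?_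
  have hUX : IsAffineOpen (h ⁻¹ᵁ V) := hV.preimage h
  have hUY : (⊤ : (P k).Opens) = fst k ⁻¹ᵁ (h ⁻¹ᵁ V) ⊓ snd k ⁻¹ᵁ ⊤ := by
    rw [← Scheme.Hom.comp_preimage, (hpb k).w, Scheme.Hom.comp_preimage]
    refine le_antisymm (le_inf ?_ le_top) le_top
    intro x _
    exact hle k (Set.mem_univ _)
  have hiso := isIso_pushoutSection_of_isAffineOpen (hpb k) (hle k) (le_refl _) hUY hV
    (isAffineOpen_top (T k)) hUX
  have hpo := ((isIso_pushoutSection_iff (hpb k) (hle k) (le_refl _) hUY).1 hiso).flip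
  have hβ : h.appLE V (h ⁻¹ᵁ V) (le_refl _) = h.app V := Scheme.Hom.appLE_eq_app _
  rw [hβ] at hpo
  have hi : (snd k).appLE ⊤ ⊤ (by simp) = (snd k).appTop := by
    simp [Scheme.Hom.appLE]
    try erw [Category.comp_id]
  rw [hi] at hpo
  exact tensor_projective_of_isPushout _ _ _ _ hpo (hproj k)

/-- base change of projectivity of coordinate rings along a pullback square of affine schemes. -/
theorem projective_baseChange {X T X' T' : Scheme.{u}} {fst : X' ⟶ X} {snd : X' ⟶ T'} {h : X ⟶ T}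
    {g : T' ⟶ T} (H : IsPullback fst snd h g) [IsAffine T] [IsAffine T'] [IsAffine X]
    (hproj : letI := h.appTop.hom.toAlgebra; Module.Projective Γ(T, ⊤) Γ(X, ⊤)) :
    letI := snd.appTop.hom.toAlgebra; Module.Projective Γ(T', ⊤) Γ(X', ⊤) :=
  projective_of_isPushout _ _ _ _ (isPushout_appTop_of_isPullback H).flip hproj

theorem projective_SpecMap {R B : CommRingCat.{u}} (φ : R ⟶ B)
    (hproj : letI := φ.hom.toAlgebra; Module.Projective R B) :
    letI := (Spec.map φ).appTop.hom.toAlgebra; Module.Projective Γ(Spec R, ⊤) Γ(Spec B, ⊤) := by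
  have sq : CommSq (Scheme.ΓSpecIso R).inv φ (Spec.map φ).appTop (Scheme.ΓSpecIso B).inv :=
    ⟨(Scheme.ΓSpecIso_inv_naturality φ).symm⟩
  exact projective_of_isPushout _ _ _ _ (IsPushout.of_horiz_isIso sq) hproj

theorem projective_diag (R : Type u) [CommRing R] (M : Type) [AddCommGroup M] :
    letI := (Red.diag R M).hom.appTop.hom.toAlgebra
    Module.Projective Γ(Spec (CommRingCat.of R), ⊤) Γ((Red.diag R M).left, ⊤) := by
  refine projective_SpecMap
    (CommRingCat.ofHom (algebraMap R (MonoidAlgebra R (Multiplicative M)))) ?_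
  have : (CommRingCat.ofHom (algebraMap R (MonoidAlgebra R (Multiplicative M)))).hom.toAlgebra =
      (inferInstance : Algebra R (MonoidAlgebra R (Multiplicative M))) := by
    apply Algebra.algebra_ext
    intro r
    rfl
  rw [this]
  infer_instance

theorem projective_pullback_of_iso {S S' : Scheme.{u}} (H : Over S) [GrpObj H] (f : S' ⟶ S)
    (U A : S'.Opens) (hAU : A ≤ U) (hA : IsAffineOpen A) (M : Type) [AddCommGroup M]
    (e : Grp.mk (Red.bc (U.ι ≫ f) H) ≅ Grp.mk (Red.DS (U : Scheme.{u}) M)) :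
    letI := (pullback.snd H.hom (A.ι ≫ f)).appTop.hom.toAlgebra
    Module.Projective Γ((A : Scheme.{u}), ⊤) Γ(pullback H.hom (A.ι ≫ f), ⊤) := by
  haveI : IsAffine (A : Scheme.{u}) := hA
  let e₀ : Red.bc (U.ι ≫ f) H ≅ Red.DS (U : Scheme.{u}) M := (Grp.forget _).mapIso e
  let e₁ : pullback H.hom (U.ι ≫ f) ≅ (Red.DS (U : Scheme.{u}) M).left := (Over.forget _).mapIso e₀
  have he₁ : e₁.hom ≫ (Red.DS (U : Scheme.{u}) M).hom = pullback.snd H.hom (U.ι ≫ f) :=
    Over.w e₀.hom
  let τ : (U : Scheme.{u}) ⟶ Spec (CommRingCat.of (ULift.{u} ℤ)) :=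
    Limits.IsTerminal.from specULiftZIsTerminal (U : Scheme.{u})
  -- square 1
  have hc : pullback.fst H.hom (A.ι ≫ f) ≫ H.hom =
      (pullback.snd H.hom (A.ι ≫ f) ≫ S'.homOfLE hAU) ≫ U.ι ≫ f := by
    rw [pullback.condition, Category.assoc, Scheme.homOfLE_ι_assoc]
  let a : pullback H.hom (A.ι ≫ f) ⟶ pullback H.hom (U.ι ≫ f) :=
    pullback.lift (pullback.fst _ _) (pullback.snd _ _ ≫ S'.homOfLE hAU) hc
  have ha1 : a ≫ pullback.fst H.hom (U.ι ≫ f) = pullback.fst H.hom (A.ι ≫ f) :=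
    pullback.lift_fst _ _ _
  have ha2 : a ≫ pullback.snd H.hom (U.ι ≫ f) = pullback.snd H.hom (A.ι ≫ f) ≫ S'.homOfLE hAU :=
    pullback.lift_snd _ _ _
  have hbig : IsPullback (a ≫ pullback.fst H.hom (U.ι ≫ f)) (pullback.snd H.hom (A.ι ≫ f)) H.hom
      (S'.homOfLE hAU ≫ U.ι ≫ f) := by
    rw [ha1, Scheme.homOfLE_ι_assoc]
    exact IsPullback.of_hasPullback _ _
  have sq1 : IsPullback a (pullback.snd H.hom (A.ι ≫ f)) (pullback.snd H.hom (U.ι ≫ f))
      (S'.homOfLE hAU) :=
    IsPullback.of_right hbig ha2 (IsPullback.of_hasPullback H.hom (U.ι ≫ f))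
  have sq2 : IsPullback e₁.hom (pullback.snd H.hom (U.ι ≫ f)) (Red.DS (U : Scheme.{u}) M).hom
      (𝟙 _) :=
    IsPullback.of_horiz_isIso ⟨by rw [he₁, Category.comp_id]⟩
  have sq3 : IsPullback (pullback.fst (Red.diag (ULift.{u} ℤ) M).hom τ)
      (Red.DS (U : Scheme.{u}) M).hom (Red.diag (ULift.{u} ℤ) M).hom τ :=
    IsPullback.of_hasPullback _ _
  have sq := (sq1.paste_horiz sq2).paste_horiz sq3
  haveI : IsAffine (Red.diag (ULift.{u} ℤ) M).left :=
    inferInstanceAs (IsAffine (Spec _))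
  exact projective_baseChange sq (projective_diag (ULift.{u} ℤ) M)

/-- the coordinate ring of a group of multiplicative type (affine over the base) is projective over
every affine open of the base. -/
theorem projective_of_isMultTypeFT {S : Scheme.{u}} (H : Over S) [GrpObj H] [IsAffineHom H.hom]
    (hH : SGA3x.IsMultTypeFT H) (V : S.Opens) (hV : IsAffineOpen V) :
    @Module.Projective Γ(S, V) _ Γ(H.left, H.hom ⁻¹ᵁ V) _ (H.hom.app V).hom.toAlgebra.toModule := by
  classical
  obtain ⟨S', f, hflat, hsurj, hqc, hloc⟩ := hH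
  obtain ⟨W, hWc, hWV⟩ := hqc V hV
  have hdata : ∀ q : {s' : S' // f s' ∈ V}, ∃ (U A : S'.Opens), A ≤ U ∧ IsAffineOpen A ∧
      q.1 ∈ A ∧ A ≤ f ⁻¹ᵁ V ∧ ∃ (M : Type) (_ : AddCommGroup M),
        Nonempty (Grp.mk (Red.bc (U.ι ≫ f) H) ≅ Grp.mk (Red.DS (U : Scheme.{u}) M)) := by
    intro q
    obtain ⟨U, hsU, M, iM, -, hiso⟩ := hloc q.1
    have hq : q.1 ∈ U ⊓ f ⁻¹ᵁ V := ⟨hsU, q.2⟩
    obtain ⟨A, hA, hqA, hAle⟩ := exists_isAffineOpen_mem_and_subset (x := q.1) (U := U ⊓ f ⁻¹ᵁ V) hq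
    exact ⟨U, A, fun x hx => (hAle hx).1, hA, hqA, fun x hx => (hAle hx).2, M, iM, hiso⟩
  choose U A hAU hA hqA hAV M iM hiso using hdata
  have hcoverW : (W : Set S') ⊆ ⋃ q : {s' : S' // f s' ∈ V}, (A q : Set S') := by
    intro s' hs'
    have hfs : f s' ∈ V := by
      have : f s' ∈ f.base '' (W : Set S') := ⟨s', hs', rfl⟩
      rw [hWV] at this
      exact this
    exact Set.mem_iUnion.2 ⟨⟨s', hfs⟩, hqA ⟨s', hfs⟩⟩
  obtain ⟨t, ht⟩ := hWc.elim_finite_subcover (fun q => (A q : Set S')) (fun q => (A q).isOpen)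
    hcoverW
  let ι : Type u := {q // q ∈ t}
  haveI : ∀ k : ι, IsAffine ((A k.1 : S'.Opens) : Scheme.{u}) := fun k => hA k.1
  haveI : ∀ k : ι, Flat ((A k.1).ι ≫ f) := fun k => inferInstance
  refine projective_of_flat_cover H.hom V hV (ι := ι) (fun k => ((A k.1 : S'.Opens) : Scheme.{u}))
    (fun k => (A k.1).ι ≫ f) ?_ ?_ (fun k => pullback H.hom ((A k.1).ι ≫ f))
    (fun k => pullback.fst _ _) (fun k => pullback.snd _ _)
    (fun k => IsPullback.of_hasPullback _ _) ?_
  · intro k x _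
    exact hAV k.1 x.2
  · intro v hv
    have hv' : v ∈ f.base '' (W : Set S') := by rw [hWV]; exact hv
    obtain ⟨s', hs', rfl⟩ := hv'
    obtain ⟨q, hq⟩ := Set.mem_iUnion.1 (ht hs')
    obtain ⟨hqt, hs'A⟩ := Set.mem_iUnion.1 hq
    exact ⟨⟨q, hqt⟩, ⟨s', hs'A⟩, rfl⟩
  · intro k
    obtain ⟨e⟩ := hiso k.1
    exact projective_pullback_of_iso H f (U k.1) (A k.1) (hAU k.1) (hA k.1) (M k.1) e

end Groth.Agent.R2.H63.MultProj
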