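import Mathlib
import Groth.Agent.R2.H48ClosedDescSch

/-!
# helper63: fpqc descent of quasi-coherent ideal sheaves (closed subschemes)

Builds on helper48's `Pred`/`CutOut` framework (`R2/H48ClosedDescSch`), replacing "fppf" by "flat".

* `IsFlatLocal K`: the predicate `K` on morphisms into `T` is stable under precomposition and local for flat jointly
  surjective families.
* `exists_cutOut_of_qc`: over an affine base, a flat-local predicate which is cut out by an ideal sheaf after a flat
  quasi-compact surjective base change is cut out by an ideal sheaf.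
* `ker_comp_of_flat_surjective`, `map_comap_of_flat_surjective`, `le_of_flat_family`, `map_comap_openImmersion`.
* `comap_map_eq_of_descent`: for `m : B' ⟶ B` flat, quasi-compact and surjective and an ideal sheaf `J'` on `B'` whose two
  pullbacks to `B' ×_B B'` agree, `(J'.map m).comap m = J'`.
-/

set_option autoImplicit false
set_option linter.style.haveILetI false
set_option linter.unusedSectionVars false

universe u
open CategoryTheory CategoryTheory.Limits AlgebraicGeometry Opposite TensorProduct

namespace Groth.Agent.R2.H63.ClosedDescFpqc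

open Groth.Agent.R2.H48.ClosedDescSch Groth.Agent.R2.H48
open Scheme.IdealSheafData

/-- stability under precomposition and locality for flat jointly surjective families on the source. -/
structure IsFlatLocal {T : Scheme.{u}} (K : Pred T) : Prop where
  comp : ∀ ⦃T' T'' : Scheme.{u}⦄ (f : T'' ⟶ T') (g : T' ⟶ T), K g → K (f ≫ g)
  loc : ∀ ⦃T' : Scheme.{u}⦄ (g : T' ⟶ T) {κ : Type u} (Y : κ → Scheme.{u}) (f : ∀ k, Y k ⟶ T'),
    (∀ k, Flat (f k)) → (∀ w : T', ∃ k, w ∈ Set.range (f k)) →
    (∀ k, K (f k ≫ g)) → K g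

lemma IsFlatLocal.pull {T T₁ : Scheme.{u}} {K : Pred T} (hK : IsFlatLocal K) (j : T₁ ⟶ T) :
    IsFlatLocal (K.pull j) where
  comp T' T'' f g hg := by
    rw [Pred.pull_apply, Category.assoc]
    exact hK.comp f _ hg
  loc T' g κ Y f hf hs h := by
    rw [Pred.pull_apply]
    refine hK.loc _ Y f hf hs (fun k => ?_)
    rw [← Category.assoc]
    exact h k

/-- factoring through a closed subscheme is flat local on the source. -/
lemma isFlatLocal_le_ker {T : Scheme.{u}} (I : T.IdealSheafData) :
    IsFlatLocal (fun T' (g : T' ⟶ T) => I ≤ g.ker) where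
  comp T' T'' f g hg := hg.trans (Scheme.Hom.le_ker_comp f g)
  loc T' g κ Y f hf hs h := by
    change I ≤ Scheme.IdealSheafData.ofIdeals _
    rw [Scheme.IdealSheafData.le_ofIdeals_iff]
    intro U s hs'
    rw [RingHom.mem_ker]
    refine eq_zero_of_flat_cover_app (g ⁻¹ᵁ U.1) _ Y f hf hs (fun k => ?_)
    have h1 := Scheme.Hom.ideal_ker_le (f k ≫ g) U (h k U hs')
    rw [RingHom.mem_ker, Scheme.Hom.comp_app] at h1
    exact h1

/-- the affine core: descent of ideals along a finite flat affine cover of an affine scheme. -/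
theorem exists_cutOut_of_affine_cover {T : Scheme.{u}} [IsAffine T] (K : Pred T) (hK : IsFlatLocal K)
    {κ : Type u} [Finite κ] (Y : κ → Scheme.{u}) [∀ k, IsAffine (Y k)] (t : ∀ k, Y k ⟶ T)
    (ht : ∀ k, Flat (t k))
    (hs : ∀ x : T, ∃ k, x ∈ Set.range (t k))
    (I : ∀ k, (Y k).IdealSheafData) (hI : ∀ k, CutOut (K.pull (t k)) (I k)) :
    ∃ I₀ : T.IdealSheafData, CutOut K I₀ := by
  let A : Type u := Γ(T, ⊤)
  let B : κ → Type u := fun k => Γ(Y k, ⊤)
  letI : ∀ k, Algebra A (B k) := fun k => (t k).appTop.hom.toAlgebra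
  have halg : ∀ k (a : A), algebraMap A (B k) a = (t k).appTop.hom a := fun k a => rfl
  haveI : ∀ k, Module.Flat A (B k) := fun k => by
    haveI := ht k
    exact Scheme.Hom.flat_appTop (t k)
  let Ik : ∀ k, Ideal (B k) := fun k => (I k).ideal ⟨⊤, isAffineOpen_top _⟩
  -- the descent condition
  have hdesc : ∀ k l, (Ik k).map (Algebra.TensorProduct.includeLeft : B k →ₐ[A] B k ⊗[A] B l) ≤
      (Ik l).map (Algebra.TensorProduct.includeRight : B l →ₐ[A] B k ⊗[A] B l) := by
    intro k l
    let Q : Ideal (B k ⊗[A] B l) :=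
      (Ik l).map (Algebra.TensorProduct.includeRight : B l →ₐ[A] B k ⊗[A] B l)
    let ψ : B k ⊗[A] B l →+* (B k ⊗[A] B l) ⧸ Q := Ideal.Quotient.mk Q
    let ψk : Γ(Y k, ⊤) ⟶ CommRingCat.of ((B k ⊗[A] B l) ⧸ Q) := CommRingCat.ofHom
      (ψ.comp (Algebra.TensorProduct.includeLeft : B k →ₐ[A] B k ⊗[A] B l).toRingHom)
    let ψl : Γ(Y l, ⊤) ⟶ CommRingCat.of ((B k ⊗[A] B l) ⧸ Q) := CommRingCat.ofHom
      (ψ.comp (Algebra.TensorProduct.includeRight : B l →ₐ[A] B k ⊗[A] B l).toRingHom)
    have hcomm : specTo (Y k) ψk ≫ t k = specTo (Y l) ψl ≫ t l := by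
      rw [specTo_comp, specTo_comp]
      congr 1
      ext a
      change ψ ((Algebra.TensorProduct.includeLeft : B k →ₐ[A] B k ⊗[A] B l)
        (algebraMap A (B k) a)) = ψ ((Algebra.TensorProduct.includeRight : B l →ₐ[A] B k ⊗[A] B l)
        (algebraMap A (B l) a))
      rw [AlgHom.commutes, AlgHom.commutes]
    have hl : K.pull (t l) (specTo (Y l) ψl) := by
      rw [hI l, le_ker_iff_of_isAffine, ker_specTo_appTop]
      intro y hy
      rw [RingHom.mem_ker]
      change ψ ((Algebra.TensorProduct.includeRight : B l →ₐ[A] B k ⊗[A] B l) y) = 0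
      exact Ideal.Quotient.eq_zero_iff_mem.2 (Ideal.mem_map_of_mem _ hy)
    have hk : K.pull (t k) (specTo (Y k) ψk) := by
      rw [Pred.pull_apply, hcomm]
      exact hl
    rw [hI k, le_ker_iff_of_isAffine, ker_specTo_appTop] at hk
    rw [Ideal.map_le_iff_le_comap]
    intro x hx
    have h0 := hk hx
    rw [RingHom.mem_ker] at h0
    have h1 : ψ ((Algebra.TensorProduct.includeLeft : B k →ₐ[A] B k ⊗[A] B l) x) = 0 := h0
    rw [Ideal.mem_comap]
    exact Ideal.Quotient.eq_zero_iff_mem.1 h1
  have hmap := ClosedDescRing.map_contraction_eq A B Ik hdesc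
  refine ⟨Scheme.IdealSheafData.ofIdealTop (ClosedDescRing.contraction A B Ik), ?_⟩
  intro T' g
  have htop : (Scheme.IdealSheafData.ofIdealTop (ClosedDescRing.contraction A B Ik)).ideal
      ⟨⊤, isAffineOpen_top T⟩ = ClosedDescRing.contraction A B Ik := by simp
  rw [le_ker_iff_of_isAffine, htop]
  -- the cover of `T'`
  have hcov1 : ∀ k, Flat (pullback.fst g (t k)) := by
    intro k
    haveI := ht k
    infer_instance
  have hcov2 : ∀ w : T', ∃ k, w ∈ Set.range (pullback.fst g (t k)) := by
    intro w
    obtain ⟨k, y, hy⟩ := hs (g w)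
    obtain ⟨z, hz, -⟩ := Scheme.Pullback.exists_preimage_pullback (f := g) (g := t k) w y hy.symm
    exact ⟨k, z, hz⟩
  have hcomp : ∀ k (a : A), (pullback.snd g (t k)).appTop.hom (algebraMap A (B k) a) =
      (pullback.fst g (t k)).appTop.hom (g.appTop.hom a) := by
    intro k a
    rw [halg]
    have h1 : (pullback.snd g (t k) ≫ t k).appTop = (pullback.fst g (t k) ≫ g).appTop := by
      rw [pullback.condition]
    rw [Scheme.Hom.comp_appTop, Scheme.Hom.comp_appTop] at h1
    have := congrArg (fun φ => φ.hom a) h1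
    simpa using this
  constructor
  · intro hKg a ha
    rw [RingHom.mem_ker]
    refine eq_zero_of_flat_cover _ (fun k => pullback g (t k)) (fun k => pullback.fst g (t k))
      hcov1 hcov2 (fun k => ?_)
    change (pullback.fst g (t k)).appTop.hom (g.appTop.hom a) = 0
    rw [← hcomp]
    have h1 : K.pull (t k) (pullback.snd g (t k)) := by
      rw [Pred.pull_apply, ← pullback.condition]
      exact hK.comp _ _ hKg
    rw [hI k, le_ker_iff_of_isAffine] at h1
    have h2 : algebraMap A (B k) a ∈ Ik k := (ClosedDescRing.mem_contraction A B Ik).1 ha k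
    exact RingHom.mem_ker.1 (h1 h2)
  · intro hJ
    refine hK.loc g (fun k => pullback g (t k)) (fun k => pullback.fst g (t k)) hcov1 hcov2 (fun k => ?_)
    rw [pullback.condition]
    change K.pull (t k) (pullback.snd g (t k))
    rw [hI k, le_ker_iff_of_isAffine]
    change Ik k ≤ _
    rw [← hmap k, Ideal.map_le_iff_le_comap]
    intro a ha
    rw [Ideal.mem_comap, RingHom.mem_ker, hcomp, RingHom.mem_ker.1 (hJ ha), map_zero]

/-- descent of ideals along a single flat quasi-compact surjective morphism onto an affine scheme. -/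
theorem exists_cutOut_of_qc {T : Scheme.{u}} [IsAffine T] (K : Pred T) (hK : IsFlatLocal K)
    {B' : Scheme.{u}} (m : B' ⟶ T) [Flat m] [QuasiCompact m] [Surjective m]
    (J' : B'.IdealSheafData) (hJ' : CutOut (K.pull m) J') : ∃ I₀ : T.IdealSheafData, CutOut K I₀ := by
  haveI : CompactSpace B' := QuasiCompact.compactSpace_of_compactSpace m
  let 𝒰 := B'.affineCover.finiteSubcover
  haveI : ∀ k, IsAffine (𝒰.X k) := fun k => by dsimp [𝒰]; infer_instance
  refine exists_cutOut_of_affine_cover K hK 𝒰.X (fun k => 𝒰.f k ≫ m) (fun k => inferInstance) ?_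
    (fun k => J'.comap (𝒰.f k)) ?_
  · intro x
    obtain ⟨y, rfl⟩ := m.surjective x
    obtain ⟨k, z, rfl⟩ := 𝒰.exists_eq y
    exact ⟨k, z, rfl⟩
  · intro k
    rw [← Pred.pull_pull]
    exact hJ'.pull _

section IdealLemmas

/-- precomposing with a flat surjective morphism does not change the kernel. -/
theorem ker_comp_of_flat_surjective {W' W B : Scheme.{u}} (p : W' ⟶ W) [Flat p] [Surjective p]
    (h : W ⟶ B) : (p ≫ h).ker = h.ker := by
  apply le_antisymm
  · exact (isFlatLocal_le_ker (p ≫ h).ker).loc h (fun _ : PUnit.{u+1} => W') (fun _ => p)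
      (fun _ => inferInstance) (fun w => ⟨PUnit.unit, p.surjective w⟩) (fun _ => le_rfl)
  · exact Scheme.Hom.le_ker_comp p h

/-- an ideal sheaf is recovered from its pullback along a flat surjective morphism. -/
theorem map_comap_of_flat_surjective {B' B : Scheme.{u}} (p : B' ⟶ B) [Flat p] [Surjective p]
    (I : B.IdealSheafData) : (I.comap p).map p = I := by
  change (pullback.fst p I.subschemeι).ker.map p = I
  rw [map_ker, pullback.condition, ker_comp_of_flat_surjective, ker_subschemeι]

/-- pullback of ideal sheaves along a flat surjective morphism is injective -/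
theorem comap_injective_of_flat_surjective {B' B : Scheme.{u}} (p : B' ⟶ B) [Flat p] [Surjective p]
    {I₁ I₂ : B.IdealSheafData} (h : I₁.comap p = I₂.comap p) : I₁ = I₂ := by
  rw [← map_comap_of_flat_surjective p I₁, h, map_comap_of_flat_surjective]

/-- `≤` of ideal sheaves can be checked on a flat jointly surjective family. -/
theorem le_of_flat_family {B' : Scheme.{u}} (I I₂ : B'.IdealSheafData) {κ : Type u}
    (Y : κ → Scheme.{u}) (f : ∀ k, Y k ⟶ B') (hf : ∀ k, Flat (f k))
    (hs : ∀ w : B', ∃ k, w ∈ Set.range (f k))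
    (h : ∀ k, I.comap (f k) ≤ I₂.comap (f k)) : I ≤ I₂ := by
  have key : I ≤ I₂.subschemeι.ker := by
    refine (isFlatLocal_le_ker I).loc I₂.subschemeι (fun k => pullback (f k) I₂.subschemeι)
      (fun k => pullback.snd (f k) I₂.subschemeι) (fun k => ?_) (fun w => ?_) (fun k => ?_)
    · haveI := hf k
      infer_instance
    · obtain ⟨k, y, hy⟩ := hs (I₂.subschemeι w)
      obtain ⟨z, -, hz⟩ := Scheme.Pullback.exists_preimage_pullback (f := f k) (g := I₂.subschemeι)
        y w hy
      exact ⟨k, z, hz⟩
    · rw [← pullback.condition, ← map_ker, le_map_iff_comap_le]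
      exact h k
  rwa [ker_subschemeι] at key

/-- the scheme theoretic image along a quasi-compact morphism commutes with restriction to an open subscheme. -/
theorem map_comap_openImmersion {X Y U U' : Scheme.{u}} (f : X ⟶ Y) [QuasiCompact f] (f' : U' ⟶ U)
    (ι' : U' ⟶ X) (ι : U ⟶ Y) [IsOpenImmersion ι] (H : IsPullback f' ι' ι f) (I : X.IdealSheafData) :
    (I.map f).comap ι = (I.comap ι').map f' := by
  let c : I.subscheme ⟶ Y := I.subschemeι ≫ f
  have H1 : IsPullback (pullback.fst ι' I.subschemeι) (pullback.snd ι' I.subschemeι) ι' I.subschemeι :=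
    IsPullback.of_hasPullback _ _
  have H2 : IsPullback (pullback.fst ι' I.subschemeι ≫ f') (pullback.snd ι' I.subschemeι) ι c :=
    (H1.flip.paste_vert H.flip).flip
  have e1 : (I.comap ι').map f' = (pullback.fst ι' I.subschemeι ≫ f').ker := map_ker _ _
  rw [e1]
  ext W : 2
  rw [ideal_comap_of_isOpenImmersion,
    Scheme.ker_ideal_of_isPullback_of_isOpenImmersion c (pullback.fst ι' I.subschemeι ≫ f')
      (pullback.snd ι' I.subschemeι) ι H2 W]
  rfl

end IdealLemmas

section Descent

variable {B' B : Scheme.{u}} (m : B' ⟶ B) (J' : B'.IdealSheafData)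

/-- the predicate "the base change of `h` to `B'` factors through `V(J')`". -/
def descPred : Pred B := fun _ h => J' ≤ (pullback.snd h m).ker

lemma descPred_isFlatLocal : IsFlatLocal (descPred m J') where
  comp T' T'' f g hg := by
    change J' ≤ (pullback.snd (f ≫ g) m).ker
    have : pullback.snd (f ≫ g) m =
        pullback.map (f ≫ g) m g m f (𝟙 _) (𝟙 _) (by simp) (by simp) ≫ pullback.snd g m :=
      ((pullback.lift_snd _ _ _).trans (Category.comp_id _)).symm
    rw [this]
    exact hg.trans (Scheme.Hom.le_ker_comp _ _)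
  loc T' g κ Y f hf hs h := by
    change J' ≤ (pullback.snd g m).ker
    refine (isFlatLocal_le_ker J').loc (pullback.snd g m)
      (fun k => pullback (pullback.fst g m) (f k))
      (fun k => pullback.fst (pullback.fst g m) (f k)) (fun k => ?_) (fun w => ?_) (fun k => ?_)
    · haveI := hf k
      infer_instance
    · obtain ⟨k, y, hy⟩ := hs ((pullback.fst g m) w)
      obtain ⟨z, hz, -⟩ := Scheme.Pullback.exists_preimage_pullback (f := pullback.fst g m)
        (g := f k) w y hy.symm
      exact ⟨k, z, hz⟩
    · have e1 : pullback.fst (pullback.fst g m) (f k) ≫ pullback.fst g m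
          = pullback.snd (pullback.fst g m) (f k) ≫ f k := pullback.condition
      have e2 : pullback.fst g m ≫ g = pullback.snd g m ≫ m := pullback.condition
      have hc : pullback.snd (pullback.fst g m) (f k) ≫ f k ≫ g
          = (pullback.fst (pullback.fst g m) (f k) ≫ pullback.snd g m) ≫ m := by
        calc pullback.snd (pullback.fst g m) (f k) ≫ f k ≫ g
            = (pullback.snd (pullback.fst g m) (f k) ≫ f k) ≫ g := (Category.assoc _ _ _).symm
          _ = (pullback.fst (pullback.fst g m) (f k) ≫ pullback.fst g m) ≫ g := by rw [e1]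
          _ = pullback.fst (pullback.fst g m) (f k) ≫ (pullback.snd g m ≫ m) := by
              rw [Category.assoc, e2]
          _ = (pullback.fst (pullback.fst g m) (f k) ≫ pullback.snd g m) ≫ m :=
              (Category.assoc _ _ _).symm
      let φ : pullback (pullback.fst g m) (f k) ⟶ pullback (f k ≫ g) m :=
        pullback.lift (pullback.snd _ _) (pullback.fst _ _ ≫ pullback.snd g m) hc
      have hφ : φ ≫ pullback.snd (f k ≫ g) m
          = pullback.fst (pullback.fst g m) (f k) ≫ pullback.snd g m := pullback.lift_snd _ _ _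
      change J' ≤ (pullback.fst (pullback.fst g m) (f k) ≫ pullback.snd g m).ker
      rw [← hφ]
      exact (h k).trans (Scheme.Hom.le_ker_comp _ _)

lemma descPred_pull_cutOut (hJ' : J'.comap (pullback.fst m m) = J'.comap (pullback.snd m m)) :
    CutOut ((descPred m J').pull m) J' := by
  intro W h'
  rw [Pred.pull_apply]
  change J' ≤ (pullback.snd (h' ≫ m) m).ker ↔ J' ≤ h'.ker
  constructor
  · intro h
    let σ : W ⟶ pullback (h' ≫ m) m := pullback.lift (𝟙 W) h' (by simp)
    have hσ : σ ≫ pullback.snd (h' ≫ m) m = h' := pullback.lift_snd _ _ _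
    rw [← hσ]
    exact h.trans (Scheme.Hom.le_ker_comp _ _)
  · intro h
    let θ : pullback (h' ≫ m) m ⟶ pullback m m :=
      pullback.map (h' ≫ m) m m m h' (𝟙 _) (𝟙 _) (by simp) (by simp)
    have hθ1 : θ ≫ pullback.fst m m = pullback.fst (h' ≫ m) m ≫ h' := pullback.lift_fst _ _ _
    have hθ2 : θ ≫ pullback.snd m m = pullback.snd (h' ≫ m) m :=
      (pullback.lift_snd _ _ _).trans (Category.comp_id _)
    have h1 : J' ≤ (θ ≫ pullback.fst m m).ker := by
      rw [hθ1]
      exact h.trans (Scheme.Hom.le_ker_comp _ _)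
    rw [← map_ker, le_map_iff_comap_le, hJ', ← le_map_iff_comap_le, map_ker, hθ2] at h1
    exact h1

/-- fpqc descent of ideal sheaves, affine base. -/
theorem comap_map_eq_of_descent_affine [IsAffine B] [Flat m] [QuasiCompact m] [Surjective m]
    (hJ' : J'.comap (pullback.fst m m) = J'.comap (pullback.snd m m)) :
    (J'.map m).comap m = J' := by
  obtain ⟨I₀, hI₀⟩ := exists_cutOut_of_qc (descPred m J') (descPred_isFlatLocal m J') m J'
    (descPred_pull_cutOut m J' hJ')
  have h1 : I₀.comap m = J' := (hI₀.pull m).unique (descPred_pull_cutOut m J' hJ')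
  rw [← h1, map_comap_of_flat_surjective]

/-- **fpqc descent of quasi-coherent ideal sheaves**: for `m : B' ⟶ B` flat, quasi-compact and surjective, an ideal sheaf
`J'` on `B'` whose two pullbacks to `B' ×_B B'` agree is the pullback of its scheme theoretic image `J'.map m`. -/
theorem comap_map_eq_of_descent [Flat m] [QuasiCompact m] [Surjective m]
    (hJ' : J'.comap (pullback.fst m m) = J'.comap (pullback.snd m m)) :
    (J'.map m).comap m = J' := by
  apply le_antisymm (comap_map_le _ _)
  let 𝒰 := B.affineCover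
  refine le_of_flat_family J' ((J'.map m).comap m) (fun k : 𝒰.I₀ => pullback m (𝒰.f k))
    (fun k => pullback.fst m (𝒰.f k)) (fun k => inferInstance) (fun w => ?_) (fun k => ?_)
  · obtain ⟨k, y, hy⟩ := 𝒰.exists_eq (m w)
    obtain ⟨z, hz, -⟩ := Scheme.Pullback.exists_preimage_pullback (f := m) (g := 𝒰.f k) w y hy.symm
    exact ⟨k, z, hz⟩
  · let ι := 𝒰.f k
    let ι' := pullback.fst m ι
    let mU := pullback.snd m ι
    have hsq : IsPullback mU ι' ι m := (IsPullback.of_hasPullback m ι).flip
    let w : pullback mU mU ⟶ pullback m m :=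
      pullback.map mU mU m m ι' ι' ι pullback.condition.symm pullback.condition.symm
    have hw1 : w ≫ pullback.fst m m = pullback.fst mU mU ≫ ι' := pullback.lift_fst _ _ _
    have hw2 : w ≫ pullback.snd m m = pullback.snd mU mU ≫ ι' := pullback.lift_snd _ _ _
    have hdesc : (J'.comap ι').comap (pullback.fst mU mU) = (J'.comap ι').comap (pullback.snd mU mU) := by
      rw [← comap_comp, ← comap_comp, ← hw1, ← hw2, comap_comp, comap_comp, hJ']
    haveI : IsAffine (𝒰.X k) := by dsimp [𝒰]; infer_instance
    have haff := comap_map_eq_of_descent_affine mU (J'.comap ι') hdesc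
    have e1 : ((J'.map m).comap m).comap ι' = ((J'.comap ι').map mU).comap mU := by
      rw [← comap_comp, pullback.condition, comap_comp, map_comap_openImmersion m mU ι' ι hsq J']
    change J'.comap ι' ≤ ((J'.map m).comap m).comap ι'
    rw [e1, haff]

end Descent

end Groth.Agent.R2.H63.ClosedDescFpqc
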