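import Mathlib
import Groth.Prelude.Def_Coh
import Groth.Prelude.Def_CohB1
import Groth.Agent.R2.H12Dev3C
import Groth.Agent.R2.H12Dev4B
import Groth.Agent.R2.H55AmpleNil
import Groth.Agent.R2.H54ClosedImm
import Groth.Agent.R2.H14PushSupp
import Groth.Agent.R2.H54DevExt
import Groth.Agent.R2.H5CohThick
import Groth.Agent.Lib.Helper23FTsub
import Groth.Agent.Lib.Helper23QCohAbelian
import Groth.Agent.Lib.Helper13PullbackUnit
import Groth.Agent.Lib.Helper20StalkExact
import Groth.Agent.Lib.Helper23Serre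
import Groth.Agent.S0019
import Groth.Agent.S0020
import Groth.Agent.S4357

/-!
# Serre classes of coherent modules on a Noetherian scheme (helper63)

* `IsSerre P`: `P` is a Serre class on coherent modules.
* `support_eq_union`: support of a short exact sequence.
* `isSerre_support Z`: `support ⊆ Z` is a Serre class.
* `epi_unit`: `F ⟶ i_* i^* F` is an epimorphism for a closed immersion `i` and `F` quasi-coherent.
* `core`: a Serre class containing the coherent `F` contains every coherent `E` with `Supp E ⊆ Supp F`.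
* `exists_coh_support_eq`: every closed subset is the support of a coherent module.
-/

set_option autoImplicit false
set_option linter.style.haveILetI false
set_option linter.unusedSectionVars false
universe u
open CategoryTheory Limits AlgebraicGeometry TopologicalSpace Opposite

namespace Groth.Agent.R2.H63.SerreCoh

section Algebra

/-- the universal semilinear map along a surjective ring map is surjective -/
theorem surjective_of_lift_of_surjective {R R' : Type u} [CommRing R] [CommRing R'] (ψ : R →+* R')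
    (hψ : Function.Surjective ψ) {M Q : Type u} [AddCommGroup M] [Module R M] [AddCommGroup Q]
    [Module R' Q] (φ : M →+ Q) (hφ : ∀ (r : R) (m : M), φ (r • m) = ψ r • φ m)
    (huniv : ∀ (N : Type u) [AddCommGroup N] [Module R' N] (l : M →+ N),
      (∀ (r : R) (m : M), l (r • m) = ψ r • l m) → ∃! l' : Q →ₗ[R'] N, ∀ m, l' (φ m) = l m) :
    Function.Surjective φ := by
  let I : Submodule R' Q :=
    { carrier := Set.range φ
      add_mem' := by
        rintro _ _ ⟨a, rfl⟩ ⟨b, rfl⟩
        exact ⟨a + b, map_add φ a b⟩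
      zero_mem' := ⟨0, map_zero φ⟩
      smul_mem' := by
        rintro c _ ⟨m, rfl⟩
        obtain ⟨r, rfl⟩ := hψ c
        exact ⟨r • m, hφ r m⟩ }
  obtain ⟨l', -, h2⟩ := huniv (Q ⧸ I) 0 (fun r m => by simp)
  have e1 : I.mkQ = l' := h2 _ (fun m => (Submodule.Quotient.mk_eq_zero I).2 ⟨m, rfl⟩)
  have e2 : (0 : Q →ₗ[R'] Q ⧸ I) = l' := h2 _ (fun m => rfl)
  intro q
  have h : I.mkQ q = 0 := by rw [e1, ← e2]; rfl
  exact (Submodule.Quotient.mk_eq_zero I).1 h

end Algebra

variable {X : Scheme.{u}}

/-- a Serre class on coherent modules -/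
def IsSerre (P : ObjectProperty X.Modules) : Prop :=
  ∀ S : ShortComplex X.Modules, S.ShortExact → Coh.IsCoh S.X₁ → Coh.IsCoh S.X₂ →
    Coh.IsCoh S.X₃ → (P S.X₂ ↔ P S.X₁ ∧ P S.X₃)

theorem support_eq_union (S : ShortComplex X.Modules) (hS : S.ShortExact) :
    CohB1.support S.X₂ = CohB1.support S.X₁ ∪ CohB1.support S.X₃ := by
  ext x
  show ¬ Subsingleton (S.X₂.presheaf.stalk x) ↔
    (¬ Subsingleton (S.X₁.presheaf.stalk x) ∨ ¬ Subsingleton (S.X₃.presheaf.stalk x))
  rw [Groth.Agent.Lib.Helper20.StalkExact.subsingleton_stalk_iff S hS x, not_and_or]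

theorem isSerre_support (Z : Set X) : IsSerre (fun M : X.Modules => CohB1.support M ⊆ Z) := by
  intro S hS _ _ _
  show CohB1.support S.X₂ ⊆ Z ↔ _
  rw [support_eq_union S hS, Set.union_subset_iff]

/-- the unit `F ⟶ i_* i^* F` is an epimorphism for a closed immersion `i` -/
theorem epi_unit {Z : Scheme.{u}} (i : Z ⟶ X) [IsClosedImmersion i] (F : X.Modules) [F.IsQuasicoherent] :
    Epi ((Scheme.Modules.pullbackPushforwardAdjunction i).unit.app F) := by
  apply Groth.Agent.Lib.Helper23.Serre.epi_of_locally_surjective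
  intro V t x hx
  obtain ⟨_, ⟨V', hV', rfl⟩, hxV', hle⟩ :=
    X.isBasis_affineOpens.exists_subset_of_mem_open hx V.isOpen
  refine ⟨V', hle, hxV', ?_⟩
  have hU' : IsAffineOpen (i ⁻¹ᵁ V') := hV'.preimage i
  have hle' : i ⁻¹ᵁ V' ≤ i ⁻¹ᵁ V' := le_rfl
  have hsurj : Function.Surjective (i.appLE V' (i ⁻¹ᵁ V') hle').hom := by
    rw [Scheme.Hom.appLE_eq_app]
    exact i.app_surjective V' hV'
  have key := surjective_of_lift_of_surjective (i.appLE V' (i ⁻¹ᵁ V') hle').hom hsurj
    (Groth.Agent.Helper13PullbackUnit.unitSec i F hle')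
    (Groth.Agent.Helper13PullbackUnit.unitSec_smul i F hle')
    (fun N _ _ l hl => Groth.Agent.Helper13PullbackUnit.existsUnique_lift i F hV' hU' hle' N l hl)
  obtain ⟨s, hs⟩ := key (((Scheme.Modules.pushforward i).obj ((Scheme.Modules.pullback i).obj F)).presheaf.map
    (homOfLE hle).op t)
  refine ⟨s, ?_⟩
  refine Eq.trans ?_ hs
  rw [Groth.Agent.Helper13PullbackUnit.unitSec_apply]
  have h1 : ∀ z : Γ((Scheme.Modules.pullback i).obj F, i ⁻¹ᵁ V'),
      z = ((Scheme.Modules.pullback i).obj F).presheaf.map (homOfLE hle').op z := by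
    intro z
    have h0 : (homOfLE hle').op = 𝟙 (op (i ⁻¹ᵁ V')) := rfl
    rw [h0, CategoryTheory.Functor.map_id]
    rfl
  exact h1 _

namespace IsSerre

open Groth.Agent.R2.H12.Dev

variable [IsLocallyNoetherian X] {P : ObjectProperty X.Modules} (hP : IsSerre P)

include hP in
theorem of_mono {A B : X.Modules} (f : A ⟶ B) [Mono f] (hA : Coh.IsCoh A) (hB : Coh.IsCoh B)
    (h : P B) : P A := by
  have hS : (ShortComplex.mk f (cokernel.π f) (cokernel.condition f)).ShortExact :=
    ShortComplex.ShortExact.mk' (ShortComplex.exact_cokernel f) inferInstance inferInstance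
  exact ((hP _ hS hA hB (isCoh_cokernel hA hB f)).1 h).1

include hP in
theorem of_epi {B C : X.Modules} (g : B ⟶ C) [Epi g] (hB : Coh.IsCoh B) (hC : Coh.IsCoh C)
    (h : P B) : P C := by
  have hS : (ShortComplex.mk (kernel.ι g) g (kernel.condition g)).ShortExact :=
    ShortComplex.ShortExact.mk' (ShortComplex.exact_kernel g) inferInstance inferInstance
  exact ((hP _ hS (isCoh_kernel hB hC g) hB hC).1 h).2

include hP in
theorem of_iso {A B : X.Modules} (e : A ≅ B) (hA : Coh.IsCoh A) (h : P A) : P B :=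
  hP.of_epi e.hom hA (isCoh_of_iso e hA) h

include hP in
theorem of_isZero {F : X.Modules} (hF : Coh.IsCoh F) (hPF : P F) {M : X.Modules} (hM : IsZero M) :
    P M := by
  haveI : Mono (0 : M ⟶ F) := ⟨fun g h _ => hM.eq_of_tgt g h⟩
  exact hP.of_mono (0 : M ⟶ F) (Groth.Agent.R2.H5.CohThick.isCoh_of_isZero X hM) hF hPF

end IsSerre

/-- **Core**: on a Noetherian scheme, a Serre class containing the coherent module `F` contains every coherent
module whose support is contained in the support of `F`. -/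
theorem core [IsNoetherian X] (P : ObjectProperty X.Modules) (hP : IsSerre P) (F E : X.Modules)
    (hF : Coh.IsCoh F) (hE : Coh.IsCoh E) (hPF : P F)
    (hsupp : CohB1.support E ⊆ CohB1.support F) : P E := by
  haveI hFq : F.IsQuasicoherent := hF.1
  let W₀ : X.Opens := ⟨(CohB1.support F)ᶜ, (Groth.Agent.S0020.result X F hF.2).isOpen_compl⟩
  have hEW : Groth.Agent.R2.H12.Dev.VanOn E W₀ :=
    Groth.Agent.R2.H12.Dev.vanOn_of_support_disjoint E W₀ (fun x hx hxs => hx (hsupp hxs))
  have key := Groth.Agent.R2.H12.Dev.strong_devissage_core (X := X)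
    (fun M : X.Modules => Coh.IsCoh M ∧ P M)
    (fun M N ⟨e⟩ h => ⟨Groth.Agent.R2.H12.Dev.isCoh_of_iso e h.1, hP.of_iso e h.1 h.2⟩)
    (fun S hS h1 h2 h3 => ⟨fun a c => ⟨h2, (hP S hS h1 h2 h3).2 ⟨a.2, c.2⟩⟩,
      fun _ b => ⟨h3, ((hP S hS h1 h2 h3).1 b.2).2⟩, fun b _ => ⟨h1, ((hP S hS h1 h2 h3).1 b.2).1⟩⟩)
    (fun M hM => ⟨Groth.Agent.R2.H5.CohThick.isCoh_of_isZero X hM, hP.of_isZero hF hPF hM⟩)
    (fun M N s r hsr hM hN h => by
      haveI : Mono s := mono_of_mono_fac hsr
      exact ⟨hN, hP.of_mono s hN hM h.2⟩)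
    W₀ ?_ E hE hEW
  · exact key.2
  · intro Z i _ _ hiW
    haveI : IsNoetherian Z := Groth.Agent.R2.H12.Dev.isNoetherian_of_isClosedImmersion i
    have hG : Coh.IsCoh ((Scheme.Modules.pullback i).obj F) :=
      Groth.Agent.R2.H55.AmpleNil.isCoh_pullback i F hF
    refine ⟨(Scheme.Modules.pullback i).obj F, hG, ?_, ?_⟩
    · haveI : Coh.IsQCoh F := hF.1
      rw [Groth.Agent.S4357.result i F hF.2]
      show i (genericPoint Z) ∈ CohB1.support F
      by_contra hcon
      have h1 : genericPoint Z ∈ i ⁻¹ᵁ W₀ := hcon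
      rw [hiW] at h1
      exact absurd h1 (by simp)
    · have hpush : Coh.IsCoh ((Coh.push i).obj ((Scheme.Modules.pullback i).obj F)) :=
        Groth.Agent.S0019.result i _ hG
      haveI := epi_unit i F
      exact ⟨hpush, hP.of_epi ((Scheme.Modules.pullbackPushforwardAdjunction i).unit.app F) hF hpush hPF⟩

/-- the support of a pushforward along a closed immersion is contained in the range -/
theorem support_push_subset {Z : Scheme.{u}} (i : Z ⟶ X) [IsClosedImmersion i] (A : Z.Modules) :
    CohB1.support ((Coh.push i).obj A) ⊆ Set.range i := by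
  intro x hx
  by_contra hcon
  let W : X.Opens := ⟨(Set.range i)ᶜ, i.isClosedEmbedding.isClosed_range.isOpen_compl⟩
  have hbot : i ⁻¹ᵁ W = ⊥ := by
    ext z
    simp only [Opens.coe_bot, Set.mem_empty_iff_false, iff_false]
    intro hz
    exact hz ⟨z, rfl⟩
  exact Groth.Agent.R2.H54.DevExt.not_mem_support_of_vanOn
    (Groth.Agent.R2.H12.Dev.vanOn_push_of_preimage_eq_bot i A W hbot) (show x ∈ W from hcon) hx

/-- every closed subset of a locally Noetherian scheme is the support of a coherent module -/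
theorem exists_coh_support_eq [IsLocallyNoetherian X] (Z : Closeds X) :
    ∃ F : X.Modules, Coh.IsCoh F ∧ CohB1.support F = (Z : Set X) := by
  let I : X.IdealSheafData := Scheme.IdealSheafData.vanishingIdeal Z
  refine ⟨(Coh.push I.subschemeι).obj (Coh.structureModule I.subscheme),
    Groth.Agent.S0019.result I.subschemeι _ (Groth.Agent.R2.H5.CohThick.isCoh_structureModule _), ?_⟩
  have hr : Set.range I.subschemeι = (Z : Set X) := by
    rw [Scheme.IdealSheafData.range_subschemeι]
    simp [I]
  apply Set.Subset.antisymm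
  · rw [← hr]
    exact support_push_subset I.subschemeι _
  · rw [← hr]
    intro x hx
    exact Groth.Agent.R2.H14.PushSupp.mem_support_push_of_mem_closure I.subschemeι x (subset_closure hx)

/-- the split short exact sequence of a binary biproduct -/
theorem shortExact_biprod (A B : X.Modules) :
    (ShortComplex.mk (biprod.inl : A ⟶ A ⊞ B) (biprod.snd : A ⊞ B ⟶ B) (by simp)).ShortExact :=
  (ShortComplex.Splitting.ofHasBinaryBiproduct A B).shortExact

theorem isCoh_biprod {A B : X.Modules} (hA : Coh.IsCoh A) (hB : Coh.IsCoh B) :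
    Coh.IsCoh (A ⊞ B : X.Modules) := by
  haveI : A.IsQuasicoherent := hA.1
  haveI : B.IsQuasicoherent := hB.1
  haveI : SheafOfModules.IsFiniteType (R := X.ringCatSheaf) A := hA.2
  haveI : SheafOfModules.IsFiniteType (R := X.ringCatSheaf) B := hB.2
  exact ⟨Groth.Agent.Lib.Helper23.QCohLocal.isQuasicoherent_biprod A B,
    Groth.Agent.Lib.Helper23.FTsub.isFiniteType_biprod A B⟩

theorem support_biprod (A B : X.Modules) :
    CohB1.support (A ⊞ B : X.Modules) = CohB1.support A ∪ CohB1.support B :=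
  support_eq_union _ (shortExact_biprod A B)

theorem IsSerre.biprod {P : ObjectProperty X.Modules} (hP : IsSerre P) {A B : X.Modules}
    (hA : Coh.IsCoh A) (hB : Coh.IsCoh B) (h1 : P A) (h2 : P B) : P (A ⊞ B : X.Modules) :=
  (hP _ (shortExact_biprod A B) hA (isCoh_biprod hA hB) hB).2 ⟨h1, h2⟩

end Groth.Agent.R2.H63.SerreCoh
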