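import Mathlib
import Groth.Prelude.Def_Coh
import Groth.Agent.R2.H63SerreCoh
import Groth.Agent.R2.H12DevD
import Groth.Agent.R2.H12IdealMulA
import Groth.Agent.Lib.Helper23SecTw3
import Groth.Agent.Lib.Helper23GenLocus
import Groth.Agent.Lib.Helper23GenNear
import Groth.Agent.Lib.Helper6QCohQcqs
import Groth.Agent.S0046

/-!
# The centre of the category of coherent modules on a Noetherian scheme (helper63)

Graph trick: for a coherent `M`, an open `U` and `s ∈ Γ(M, U)`, the module
`N = ker (M ⊕ O_X ⟶ j_* j^* M, (m, a) ↦ m|_U - a s)` is coherent, contains `t = (s, 1)` over `U`, and its second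
projection is injective on sections over `U`.  Hence any natural endomorphism of the identity of `Coh(X)` acts on
`s` as multiplication by its value on `1 ∈ Γ(X, O_X)`.
-/

set_option autoImplicit false
set_option linter.style.haveILetI false
set_option linter.unusedSectionVars false
universe u
open CategoryTheory Limits AlgebraicGeometry TopologicalSpace Opposite

namespace Groth.Agent.R2.H63.CohCentre

open Groth.Agent.Lib.Helper23.GenLocus Groth.Agent.Lib.Helper23.SecTw Groth.Agent.Lib.Helper23.Extend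
  Groth.Agent.Lib.Helper23.QCohLocal Groth.Agent.R2.H12.Dev Groth.Agent.Lib.Helper6

variable {X : Scheme.{u}}

section Biprod
variable (A B : X.Modules) (U : X.Opens)

theorem fst_app_inl (a : Γ(A, U)) :
    (biprod.fst : A ⊞ B ⟶ A).app U ((biprod.inl : A ⟶ A ⊞ B).app U a) = a := by
  have h : ((biprod.inl : A ⟶ A ⊞ B) ≫ biprod.fst).app U a = (𝟙 A : A ⟶ A).app U a := by
    rw [biprod.inl_fst]
  exact h

theorem fst_app_inr (b : Γ(B, U)) :
    (biprod.fst : A ⊞ B ⟶ A).app U ((biprod.inr : B ⟶ A ⊞ B).app U b) = 0 := by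
  have h : ((biprod.inr : B ⟶ A ⊞ B) ≫ biprod.fst).app U b = (0 : B ⟶ A).app U b := by
    rw [biprod.inr_fst]
  exact h

theorem snd_app_inl (a : Γ(A, U)) :
    (biprod.snd : A ⊞ B ⟶ B).app U ((biprod.inl : A ⟶ A ⊞ B).app U a) = 0 := by
  have h : ((biprod.inl : A ⟶ A ⊞ B) ≫ biprod.snd).app U a = (0 : A ⟶ B).app U a := by
    rw [biprod.inl_snd]
  exact h

theorem snd_app_inr (b : Γ(B, U)) :
    (biprod.snd : A ⊞ B ⟶ B).app U ((biprod.inr : B ⟶ A ⊞ B).app U b) = b := by
  have h : ((biprod.inr : B ⟶ A ⊞ B) ≫ biprod.snd).app U b = (𝟙 B : B ⟶ B).app U b := by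
    rw [biprod.inr_snd]
  exact h

theorem total_app (x : Γ((A ⊞ B : X.Modules), U)) :
    (biprod.inl : A ⟶ A ⊞ B).app U ((biprod.fst : A ⊞ B ⟶ A).app U x) +
      (biprod.inr : B ⟶ A ⊞ B).app U ((biprod.snd : A ⊞ B ⟶ B).app U x) = x := by
  have h1 : (biprod.fst ≫ biprod.inl + biprod.snd ≫ biprod.inr : A ⊞ B ⟶ A ⊞ B) = 𝟙 _ := biprod.total
  have h2 := congrArg (fun φ : (A ⊞ B : X.Modules) ⟶ (A ⊞ B : X.Modules) => φ.app U x) h1
  simp only [Scheme.Modules.Hom.add_app, Scheme.Modules.Hom.comp_app, Scheme.Modules.Hom.id_app] at h2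
  exact h2

end Biprod

section Graph
variable (M : X.Modules) (U : X.Opens) (s : Γ(M, U))

/-- `j_* j^* M` for the open `U` -/
noncomputable abbrev KK : X.Modules :=
  (Scheme.Modules.pushforward U.ι).obj ((Scheme.Modules.restrictFunctor U.ι).obj M)

/-- the global section of `j_* j^* M` given by `s` -/
noncomputable def gsec : Γ(KK M U, ⊤) :=
  (show Γ(KK M U, ⊤) from res M (image_le_self U (U.ι ⁻¹ᵁ ⊤)) s)

/-- the morphism `O_X ⟶ j_* j^* M`, `a ↦ a s` -/
noncomputable def sig : Coh.structureModule X ⟶ KK M U := secHom (KK M U) (gsec M U s)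

theorem res_KK {V V' : X.Opens} (h : V' ≤ V) (m : Γ(KK M U, V)) :
    res (KK M U) h m = (show Γ(KK M U, V') from
      res M (U.ι.image_mono (U.ι.preimage_mono h)) (show Γ(M, U.ι ''ᵁ (U.ι ⁻¹ᵁ V)) from m)) := rfl

theorem sv_sig (V : X.Opens) :
    sv (sig M U s) V = (show Γ(KK M U, V) from res M (image_le_self U (U.ι ⁻¹ᵁ V)) s) := by
  unfold sig
  rw [sv_secHom, res_KK]
  unfold gsec
  exact res_res M _ _ s

/-- `(m, a) ↦ m|_U - a s` -/
noncomputable def alpha : (M ⊞ Coh.structureModule X : X.Modules) ⟶ KK M U :=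
  biprod.fst ≫ unitJ U.ι M - biprod.snd ≫ sig M U s

theorem alpha_app (V : X.Opens) (x : Γ((M ⊞ Coh.structureModule X : X.Modules), V)) :
    (alpha M U s).app V x =
      (unitJ U.ι M).app V ((biprod.fst : M ⊞ Coh.structureModule X ⟶ M).app V x) -
        (sig M U s).app V ((biprod.snd : M ⊞ Coh.structureModule X ⟶ Coh.structureModule X).app V x) := by
  unfold alpha
  simp only [Scheme.Modules.Hom.sub_app, Scheme.Modules.Hom.comp_app]
  rfl

theorem image_preimage_self : U.ι ''ᵁ U.ι ⁻¹ᵁ U = U := by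
  rw [Scheme.Hom.image_preimage_eq_opensRange_inf, Scheme.Opens.opensRange_ι]
  exact inf_idem _

theorem unitJ_app_injective : Function.Injective ((unitJ U.ι M).app U) := by
  intro a b hab
  have h2 : M.presheaf.map (homOfLE (U.ι.image_preimage_le U)).op a =
      M.presheaf.map (homOfLE (U.ι.image_preimage_le U)).op b := hab
  have heq : U.ι ''ᵁ U.ι ⁻¹ᵁ U = U := image_preimage_self U
  have h3 := congrArg (M.presheaf.map (eqToHom heq.symm).op) h2
  rw [← ConcreteCategory.comp_apply, ← ConcreteCategory.comp_apply, ← Functor.map_comp] at h3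
  have h4 : (homOfLE (U.ι.image_preimage_le U)).op ≫ (eqToHom heq.symm).op = 𝟙 (op U) := rfl
  rw [h4, CategoryTheory.Functor.map_id] at h3
  exact h3

/-- the graph element `(s, 1)` over `U` -/
noncomputable def gr : Γ((M ⊞ Coh.structureModule X : X.Modules), U) :=
  (biprod.inl : M ⟶ M ⊞ Coh.structureModule X).app U s +
    (biprod.inr : Coh.structureModule X ⟶ M ⊞ Coh.structureModule X).app U (toS U 1)

theorem fst_gr : (biprod.fst : M ⊞ Coh.structureModule X ⟶ M).app U (gr M U s) = s := by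
  unfold gr
  rw [map_add, fst_app_inl, fst_app_inr, add_zero]

theorem snd_gr : (biprod.snd : M ⊞ Coh.structureModule X ⟶ Coh.structureModule X).app U (gr M U s) =
    toS U 1 := by
  unfold gr
  rw [map_add, snd_app_inl, snd_app_inr, zero_add]

theorem alpha_gr : (alpha M U s).app U (gr M U s) = 0 := by
  rw [alpha_app, fst_gr, snd_gr, app_toS, one_smul, sv_sig]
  exact sub_self _

/-- the element of the kernel over `U` lying over `(s, 1)` -/
theorem exists_t : ∃ t : Γ(kernel (alpha M U s), U), (kernel.ι (alpha M U s)).app U t = gr M U s :=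
  Groth.Agent.R2.H12.IdealMul.exists_app_kernel_ι_eq (alpha M U s) U (gr M U s) (alpha_gr M U s)

theorem snd_injective (n : Γ(kernel (alpha M U s), U))
    (hn : (biprod.snd : M ⊞ Coh.structureModule X ⟶ Coh.structureModule X).app U
      ((kernel.ι (alpha M U s)).app U n) = 0) : n = 0 := by
  apply injective_app_of_mono (kernel.ι (alpha M U s)) U
  rw [map_zero]
  set x := (kernel.ι (alpha M U s)).app U n with hx
  have h0 : (alpha M U s).app U x = 0 := by
    have h1 : (kernel.ι (alpha M U s) ≫ alpha M U s).app U n = 0 := by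
      rw [kernel.condition]; rfl
    exact h1
  rw [alpha_app, hn, map_zero, sub_zero] at h0
  have h2 : (biprod.fst : M ⊞ Coh.structureModule X ⟶ M).app U x = 0 := by
    apply unitJ_app_injective M U
    rw [h0, map_zero]
  rw [← total_app M (Coh.structureModule X) U x, h2, hn, map_zero, map_zero, add_zero]

end Graph

section Main
variable [IsNoetherian X]

theorem isCoh_kernel_alpha (M : X.Modules) (hM : Coh.IsCoh M) (U : X.Opens) (s : Γ(M, U)) :
    Coh.IsCoh (kernel (alpha M U s)) := by
  haveI : M.IsQuasicoherent := hM.1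
  have hO := Groth.Agent.R2.H5.CohThick.isCoh_structureModule X
  haveI : (Coh.structureModule X).IsQuasicoherent := hO.1
  haveI : ((Scheme.Modules.restrictFunctor U.ι).obj M).IsQuasicoherent :=
    Scheme.Modules.isQuasicoherent_restrictFunctor U.ι M
  haveI : (KK M U).IsQuasicoherent := isQuasicoherent_pushforward U.ι _
  haveI : (M ⊞ Coh.structureModule X : X.Modules).IsQuasicoherent := isQuasicoherent_biprod _ _
  have hq : (kernel (alpha M U s)).IsQuasicoherent := isQuasicoherent_kernel _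
  exact Groth.Agent.S0046.result X _ _ (kernel.ι (alpha M U s))
    (Groth.Agent.R2.H63.SerreCoh.isCoh_biprod hM hO) hq

/-- the category of coherent modules -/
abbrev CohCat (X : Scheme.{u}) := ObjectProperty.FullSubcategory (fun M : X.Modules => Coh.IsCoh M)

/-- the structure sheaf as an object of `Coh(X)` -/
noncomputable def OO (X : Scheme.{u}) : CohCat X :=
  ⟨Coh.structureModule X, Groth.Agent.R2.H5.CohThick.isCoh_structureModule X⟩

theorem main (φ : 𝟭 (CohCat X) ⟶ 𝟭 (CohCat X)) (M : CohCat X) (U : X.Opens) (s : Γ(M.obj, U)) :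
    (φ.app M).hom.app U s = resf (le_top : U ≤ ⊤) (endFun (φ.app (OO X)).hom ⊤) • s := by
  set φO : Coh.structureModule X ⟶ Coh.structureModule X := (φ.app (OO X)).hom with hφO
  set rU : Γ(X, U) := resf (le_top : U ≤ ⊤) (endFun φO ⊤) with hrU
  have hrU' : endFun φO U = rU := (endFun_map φO (homOfLE (le_top : U ≤ ⊤))).symm
  let N : CohCat X := ⟨kernel (alpha M.obj U s), isCoh_kernel_alpha M.obj M.property U s⟩
  let p₁ : N ⟶ M := ObjectProperty.homMk (kernel.ι (alpha M.obj U s) ≫ biprod.fst)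
  let p₂ : N ⟶ OO X := ObjectProperty.homMk (kernel.ι (alpha M.obj U s) ≫ biprod.snd)
  let ψN : kernel (alpha M.obj U s) ⟶ kernel (alpha M.obj U s) := (φ.app N).hom
  let ψM : M.obj ⟶ M.obj := (φ.app M).hom
  let q₁ : kernel (alpha M.obj U s) ⟶ M.obj := kernel.ι (alpha M.obj U s) ≫ biprod.fst
  let q₂ : kernel (alpha M.obj U s) ⟶ Coh.structureModule X := kernel.ι (alpha M.obj U s) ≫ biprod.snd
  have n1 : q₁ ≫ ψM = ψN ≫ q₁ :=
    congrArg (fun f => f.hom) (φ.naturality p₁)
  have n2 : q₂ ≫ φO = ψN ≫ q₂ :=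
    congrArg (fun f => f.hom) (φ.naturality p₂)
  obtain ⟨t, ht⟩ := exists_t M.obj U s
  have hp1 : q₁.app U t = s := by
    show (biprod.fst : M.obj ⊞ Coh.structureModule X ⟶ M.obj).app U
      ((kernel.ι (alpha M.obj U s)).app U t) = s
    rw [ht, fst_gr]
  have hp2 : q₂.app U t = toS U 1 := by
    show (biprod.snd : M.obj ⊞ Coh.structureModule X ⟶ Coh.structureModule X).app U
      ((kernel.ι (alpha M.obj U s)).app U t) = toS U 1
    rw [ht, snd_gr]
  have ht' : ψN.app U t = rU • t := by
    rw [← sub_eq_zero]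
    apply snd_injective M.obj U s
    show q₂.app U (ψN.app U t - rU • t) = 0
    rw [map_sub, Scheme.Modules.Hom.app_smul, hp2]
    have h3 : q₂.app U (ψN.app U t) = φO.app U (q₂.app U t) :=
      (congrArg (fun f : kernel (alpha M.obj U s) ⟶ Coh.structureModule X => f.app U t) n2).symm
    rw [h3, hp2, end_app_eq, hrU', smul_toS, one_mul, mul_one, sub_self]
  have h4 : ψM.app U (q₁.app U t) = q₁.app U (ψN.app U t) :=
    congrArg (fun f : kernel (alpha M.obj U s) ⟶ M.obj => f.app U t) n1
  rw [hp1, ht', Scheme.Modules.Hom.app_smul, hp1] at h4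
  exact h4

end Main

end Groth.Agent.R2.H63.CohCentre
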