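import Mathlib
import Groth.Prelude.Def_CGrpSh
import Groth.Agent.Lib.Helper10WEtaleSch

/-!
# helper63: a finite group scheme with connected fibres has only trivial points in reduced schemes
-/

set_option autoImplicit false

namespace Groth.Agent.R2.H63.ConnGrp

open CategoryTheory AlgebraicGeometry CategoryTheory.Limits MonObj

universe u

/-- a preconnected discrete subset is a subsingleton -/
theorem subsingleton_of_isPreconnected_of_isDiscrete {X : Type*} [TopologicalSpace X] {A : Set X}
    (h1 : _root_.IsPreconnected A) (h2 : IsDiscrete A) : A.Subsingleton := by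
  have : DiscreteTopology A := h2.to_subtype
  have : PreconnectedSpace A := isPreconnected_iff_preconnectedSpace.mp h1
  have : Subsingleton A := PreconnectedSpace.trivial_of_discrete
  intro a ha b hb
  exact congrArg Subtype.val (Subsingleton.elim (⟨a, ha⟩ : A) ⟨b, hb⟩)

variable {S : Scheme.{u}}

/-- fibres of a finite morphism with connected scheme-theoretic fibres are single points -/
theorem subsingleton_preimage {Y : Scheme.{u}} (f : Y ⟶ S) [IsFinite f] (s : S)
    [ConnectedSpace ↥(f.fiber s)] : (f ⁻¹' {s}).Subsingleton := by
  apply subsingleton_of_isPreconnected_of_isDiscrete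
  · rw [← f.range_fiberι s]
    exact isPreconnected_range (f.fiberι s).continuous
  · exact f.isDiscrete_preimage_singleton s

/-- A morphism `x : T ⟶ Y` from a reduced scheme into a scheme `Y` over `S` with a section `e`
which is a surjective closed immersion factors through `e`. -/
theorem eq_comp_section {T Y : Scheme.{u}} [IsReduced T] (f : Y ⟶ S) (e : S ⟶ Y)
    (he : e ≫ f = 𝟙 S) [IsClosedImmersion e] [Surjective e] (x : T ⟶ Y) :
    x = (x ≫ f) ≫ e := by
  have : IsIso (pullback.fst x e) := isIso_of_isClosedImmersion_of_surjective _
  have h1 : x = inv (pullback.fst x e) ≫ pullback.snd x e ≫ e := by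
    rw [← pullback.condition, IsIso.inv_hom_id_assoc]
  have h2 : x ≫ f = inv (pullback.fst x e) ≫ pullback.snd x e := by
    conv_lhs => rw [h1]
    rw [Category.assoc, Category.assoc, he, Category.comp_id]
  rw [h2, Category.assoc]
  exact h1

theorem hom_eq_one (I : Over S) [GrpObj I] [IsFinite I.hom]
    (hconn : ∀ s : S, ConnectedSpace ↥(I.hom.fiber s)) (T : Over S) [IsReduced T.left]
    (x : T ⟶ I) : x = 1 := by
  have he : η[I].left ≫ I.hom = 𝟙 S := by
    exact Over.w η[I]
  have : IsIso (η[I].left ≫ I.hom) := by rw [he]; exact IsIso.id S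
  have : IsClosedImmersion η[I].left := IsClosedImmersion.of_comp η[I].left I.hom
  have : Surjective η[I].left := by
    constructor
    intro y
    refine ⟨I.hom y, ?_⟩
    have := hconn (I.hom y)
    apply subsingleton_preimage I.hom (I.hom y)
    · change I.hom (η[I].left (I.hom y)) = I.hom y
      rw [← Scheme.Hom.comp_apply, he]
      rfl
    · rfl
  have h1 := eq_comp_section I.hom η[I].left he x.left
  rw [Over.w x] at h1
  ext1
  rw [h1, Hom.one_def, Over.comp_left]
  congr 1

end Groth.Agent.R2.H63.ConnGrp
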