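import Mathlib

/-!
# helper63: primitive elements of finite reduced separable algebras over a field

* `finrank_le_card_algHom` : a finite reduced separable `K`-algebra `L` has at least `dim L`
  homomorphisms to an algebraically closed extension of `K`.
* `adjoin_eq_top_of_injOn` : if the homs to `Ω` take pairwise distinct values at `w`, then `w`
  generates `L`.
* `exists_mem_adjoin_smul_add_eq_top` : if `L = K[z,t]` then all but `< d(d-1)+1` values of `c`
  make `c • z + t` a generator.
-/

set_option autoImplicit false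

namespace Groth.Agent.R2.H63.EtAlgPrim

universe u

open Module

section

variable (K L : Type u) [Field K] [CommRing L] [Algebra K L] [Module.Finite K L] [IsReduced L]
  [Algebra.IsSeparable K L] (Ω : Type u) [Field Ω] [Algebra K Ω] [IsAlgClosed Ω]

attribute [local instance] IsArtinianRing.fieldOfSubtypeIsMaximal

theorem isSeparable_quotient (m : MaximalSpectrum L) :
    Algebra.IsSeparable K (L ⧸ m.asIdeal) := by
  constructor
  intro y
  obtain ⟨x, rfl⟩ := Ideal.Quotient.mk_surjective y
  have hx : IsSeparable K x := Algebra.IsSeparable.isSeparable K x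
  unfold IsSeparable at hx ⊢
  refine hx.of_dvd (minpoly.dvd K _ ?_)
  have h1 : (Polynomial.aeval (Ideal.Quotient.mk m.asIdeal x)) (minpoly K x) =
      Ideal.Quotient.mkₐ K m.asIdeal (Polynomial.aeval x (minpoly K x)) := by
    rw [← Polynomial.aeval_algHom_apply]
    rfl
  rw [h1, minpoly.aeval, map_zero]

theorem finrank_le_card_algHom : finrank K L ≤ Nat.card (L →ₐ[K] Ω) := by
  classical
  have : IsArtinianRing L := IsArtinianRing.of_finite K L
  have : Fintype (MaximalSpectrum L) := Fintype.ofFinite _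
  -- the dimension of `L` is the sum of dimensions of residue fields
  have h1 : finrank K L = ∑ m : MaximalSpectrum L, finrank K (L ⧸ m.asIdeal) := by
    rw [← Module.finrank_pi_fintype K]
    exact LinearEquiv.finrank_eq ((IsArtinianRing.equivPi L).toLinearEquiv.restrictScalars K)
  -- each residue field has `finrank` many embeddings
  have h2 : ∀ m : MaximalSpectrum L,
      Nat.card ((L ⧸ m.asIdeal) →ₐ[K] Ω) = finrank K (L ⧸ m.asIdeal) := by
    intro m
    have := isSeparable_quotient K L m
    rw [← Field.finSepDegree_eq_of_isAlgClosed K (L ⧸ m.asIdeal) Ω,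
      Field.finSepDegree_eq_finrank_of_isSeparable]
  -- the sigma type injects into the homs from `L`
  let φ : (Σ m : MaximalSpectrum L, ((L ⧸ m.asIdeal) →ₐ[K] Ω)) → (L →ₐ[K] Ω) :=
    fun p => p.2.comp (Ideal.Quotient.mkₐ K p.1.asIdeal)
  have hker : ∀ p : (Σ m : MaximalSpectrum L, ((L ⧸ m.asIdeal) →ₐ[K] Ω)),
      RingHom.ker (φ p).toRingHom = p.1.asIdeal := by
    intro p
    ext x
    rw [RingHom.mem_ker]
    change p.2 (Ideal.Quotient.mk p.1.asIdeal x) = 0 ↔ _
    rw [map_eq_zero_iff p.2 p.2.toRingHom.injective, Ideal.Quotient.eq_zero_iff_mem]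
  have hφ : Function.Injective φ := by
    rintro ⟨m, σ⟩ ⟨m', τ⟩ h
    have hm : m = m' := by
      apply MaximalSpectrum.ext
      rw [← hker ⟨m, σ⟩, ← hker ⟨m', τ⟩, h]
    subst hm
    congr 1
    apply AlgHom.ext
    intro y
    obtain ⟨x, rfl⟩ := Ideal.Quotient.mk_surjective y
    exact AlgHom.congr_fun h x
  have : Finite (L →ₐ[K] Ω) := Finite.algHom K L Ω
  calc finrank K L = ∑ m : MaximalSpectrum L, finrank K (L ⧸ m.asIdeal) := h1
    _ = ∑ m : MaximalSpectrum L, Nat.card ((L ⧸ m.asIdeal) →ₐ[K] Ω) := by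
        simp_rw [h2]
    _ = Nat.card (Σ m : MaximalSpectrum L, ((L ⧸ m.asIdeal) →ₐ[K] Ω)) := by
        have : ∀ m : MaximalSpectrum L, Finite ((L ⧸ m.asIdeal) →ₐ[K] Ω) :=
          fun m => Finite.algHom K _ Ω
        rw [Nat.card_sigma]
    _ ≤ Nat.card (L →ₐ[K] Ω) := Nat.card_le_card_of_injective φ hφ

theorem card_algHom_eq_finrank : Nat.card (L →ₐ[K] Ω) = finrank K L :=
  le_antisymm (card_algHom_le_finrank K L Ω) (finrank_le_card_algHom K L Ω)

variable {K L}

theorem adjoin_eq_top_of_injective (w : L)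
    (hw : Function.Injective (fun σ : L →ₐ[K] Ω => σ w)) :
    Algebra.adjoin K ({w} : Set L) = ⊤ := by
  set A := Algebra.adjoin K ({w} : Set L) with hA
  have hwA : w ∈ A := Algebra.subset_adjoin (Set.mem_singleton w)
  let ρ : (L →ₐ[K] Ω) → (A →ₐ[K] Ω) := fun σ => σ.comp A.val
  have hρ : Function.Injective ρ := by
    intro σ τ h
    apply hw
    exact AlgHom.congr_fun h ⟨w, hwA⟩
  have : Finite (A →ₐ[K] Ω) := Finite.algHom K A Ω
  have h1 : finrank K L ≤ finrank K A :=
    calc finrank K L ≤ Nat.card (L →ₐ[K] Ω) := finrank_le_card_algHom K L Ω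
      _ ≤ Nat.card (A →ₐ[K] Ω) := Nat.card_le_card_of_injective ρ hρ
      _ ≤ finrank K A := card_algHom_le_finrank K A Ω
  have h2 : finrank K (Subalgebra.toSubmodule A) = finrank K L :=
    le_antisymm (Submodule.finrank_le _) h1
  exact Algebra.toSubmodule_eq_top.mp (Submodule.eq_top_of_finrank_eq h2)

end

section count

variable {K L : Type u} [Field K] [CommRing L] [Algebra K L] [Module.Finite K L] [IsReduced L]
  [Algebra.IsSeparable K L]

theorem exists_mem_adjoin_smul_add_eq_top (z t : L)
    (hgen : Algebra.adjoin K ({z, t} : Set L) = ⊤) (S : Finset K)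
    (hS : finrank K L * finrank K L - finrank K L < S.card) :
    ∃ c ∈ S, Algebra.adjoin K ({c • z + t} : Set L) = ⊤ := by
  classical
  let Ω := AlgebraicClosure K
  have : Finite (L →ₐ[K] Ω) := Finite.algHom K L Ω
  letI : Fintype (L →ₐ[K] Ω) := Fintype.ofFinite _
  have hcard : Fintype.card (L →ₐ[K] Ω) = finrank K L := by
    rw [← Nat.card_eq_fintype_card]
    exact card_algHom_eq_finrank K L Ω
  let P : Finset ((L →ₐ[K] Ω) × (L →ₐ[K] Ω)) := (Finset.univ : Finset (L →ₐ[K] Ω)).offDiag
  have hP : P.card = finrank K L * finrank K L - finrank K L := by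
    rw [Finset.offDiag_card, Finset.card_univ, hcard]
  let ψ : (L →ₐ[K] Ω) × (L →ₐ[K] Ω) → Ω := fun p => (p.2 t - p.1 t) / (p.1 z - p.2 z)
  let Bad : Finset K := S.filter fun c => ¬ Function.Injective (fun σ : L →ₐ[K] Ω => σ (c • z + t))
  have hBad : (Bad.image (algebraMap K Ω)) ⊆ P.image ψ := by
    intro y hy
    obtain ⟨c, hc, rfl⟩ := Finset.mem_image.mp hy
    have hc2 := (Finset.mem_filter.mp hc).2
    rw [Function.Injective] at hc2
    push Not at hc2
    obtain ⟨σ, τ, hst, hne⟩ := hc2
    simp only [map_add, map_smul] at hst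
    rw [Algebra.smul_def, Algebra.smul_def] at hst
    have hz : σ z - τ z ≠ 0 := by
      intro h0
      have hz' : σ z = τ z := sub_eq_zero.mp h0
      rw [hz'] at hst
      have ht' : σ t = τ t := add_left_cancel hst
      apply hne
      refine AlgHom.ext_of_adjoin_eq_top hgen ?_
      intro x hx
      rcases hx with rfl | rfl
      · exact hz'
      · exact ht'
    refine Finset.mem_image.mpr ⟨(σ, τ), ?_, ?_⟩
    · exact Finset.mem_offDiag.mpr ⟨Finset.mem_univ _, Finset.mem_univ _, hne⟩
    · change (τ t - σ t) / (σ z - τ z) = algebraMap K Ω c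
      rw [div_eq_iff hz]
      linear_combination -hst
  have hBadcard : Bad.card ≤ P.card := by
    calc Bad.card = (Bad.image (algebraMap K Ω)).card :=
          (Finset.card_image_of_injective _ (algebraMap K Ω).injective).symm
      _ ≤ (P.image ψ).card := Finset.card_le_card hBad
      _ ≤ P.card := Finset.card_image_le
  have hlt : Bad.card < S.card := lt_of_le_of_lt (hBadcard.trans hP.le) hS
  obtain ⟨c, hcS, hcB⟩ : ∃ c ∈ S, c ∉ Bad := by
    by_contra hcon
    push Not at hcon
    exact absurd (Finset.card_le_card (fun c hc => hcon c hc)) (not_le.mpr hlt)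
  refine ⟨c, hcS, adjoin_eq_top_of_injective Ω _ ?_⟩
  by_contra hinj
  exact hcB (Finset.mem_filter.mpr ⟨hcS, hinj⟩)

end count

end Groth.Agent.R2.H63.EtAlgPrim
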