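import Mathlib
import Groth.Agent.R2.H50ExtShSpec

/-!
# helper63: package (B3) of PROJ:ext-sheaf

`Ext^i_A(M, N)` is a finite `A`-module for finite modules over a Noetherian ring: this is Mathlib's
`ModuleCat.finite_ext`.
-/

set_option autoImplicit false
open CategoryTheory

namespace Groth.Agent.R2.H63.ExtSh

universe u

theorem pkgExtFinite : Groth.Agent.R2.H50.ExtShSpec.PkgExtFinite.{u} := by
  intro A _ _ M N _ _ i
  infer_instance

end Groth.Agent.R2.H63.ExtSh
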