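import Mathlib
import Groth.Agent.R2.H63EqLocusOver

/-!
# helper63: closedness (and finite presentation) of factoring loci

General closed-subscheme version of the `EqLocus` machinery: for `E → S` affine with locally projective
coordinate ring, a section `a : X ×_S E ⟶ Xt` and a closed immersion `y' : Y' ⟶ Xt`, the locus of points
`g : T ⟶ X` over which `a` factors through `y'` is a closed subscheme of `X`, of finite presentation
over `X` if `y'` is of finite presentation (`factor_closed` in `H63FactorClosed`).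
-/

set_option autoImplicit false
set_option linter.style.haveILetI false

open CategoryTheory Limits AlgebraicGeometry Opposite TensorProduct

namespace Groth.Agent.R2.H63.EqLocus

universe u

open Groth.Agent.R2.H63.Stab Groth.Agent.R2.H63.WeilGeom Groth.Agent.R2.H63.WeilGlue
  Groth.Agent.S13210

/-- the coefficient ideal of a finitely generated ideal of a projective algebra is finitely
generated. -/
theorem coeffIdeal_fg {R B : Type u} [CommRing R] [CommRing B] [Algebra R B]
    [Module.Projective R B] (I : Ideal B) (hI : I.FG) : (coeffIdeal R I).FG := by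
  classical
  obtain ⟨s, hs⟩ := Module.projective_def'.1 (inferInstance : Module.Projective R B)
  obtain ⟨F, hF⟩ := hI
  let G : Finset R := F.biUnion (fun f => (s f).support.image (fun b => s f b))
  refine ⟨G, ?_⟩
  have hexp : ∀ f : B, f = Finsupp.linearCombination R id (s f) := fun f =>
    (LinearMap.congr_fun hs f).symm
  apply le_antisymm
  · rw [Ideal.span_le]
    intro r hr
    obtain ⟨f, hfF, hr⟩ := Finset.mem_biUnion.1 hr
    obtain ⟨b, -, rfl⟩ := Finset.mem_image.1 hr
    apply Ideal.subset_span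
    refine ⟨f, ?_, (Finsupp.lapply b) ∘ₗ s, rfl⟩
    rw [← hF]
    exact Ideal.subset_span hfF
  · unfold coeffIdeal
    rw [Ideal.span_le]
    rintro r ⟨g, hg, c, rfl⟩
    rw [← hF] at hg
    revert c
    refine Submodule.span_induction (p := fun g _ => ∀ c : B →ₗ[R] R, c g ∈ Ideal.span (G : Set R))
      ?_ ?_ ?_ ?_ hg
    · intro f hfF c
      rw [hexp f, Finsupp.linearCombination_apply, Finsupp.sum, map_sum]
      refine Ideal.sum_mem _ fun b hb => ?_
      rw [id, map_smul, smul_eq_mul]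
      apply Ideal.mul_mem_right
      apply Ideal.subset_span
      exact Finset.mem_biUnion.2 ⟨f, hfF, Finset.mem_image.2 ⟨b, hb, rfl⟩⟩
    · intro c
      rw [map_zero]
      exact Ideal.zero_mem _
    · intro x y _ _ hx hy c
      rw [map_add]
      exact Ideal.add_mem _ (hx c) (hy c)
    · intro a x _ hx c
      have := hx (c ∘ₗ LinearMap.mulLeft R a)
      simpa using this

section factorLocal

variable {T₀ P Eq : Scheme.{u}} [IsAffine T₀] [IsAffine P] (π : P ⟶ T₀)
  (hproj : letI := π.appTop.hom.toAlgebra; Module.Projective Γ(T₀, ⊤) Γ(P, ⊤))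
  (ε : Eq ⟶ P) [IsClosedImmersion ε]

include hproj in
theorem factor_local_affine {T PT : Scheme.{u}} [IsAffine T] (t : T ⟶ T₀) (p : PT ⟶ P)
    (q : PT ⟶ T) (hpb : IsPullback p q π t) :
    (∃ z : T ⟶ vScheme (locJ π ε), z ≫ vι (locJ π ε) = t) ↔ ∃ l : PT ⟶ Eq, l ≫ ε = p := by
  rw [factors_vι_iff, factors_closedImmersion_iff ε p]
  have hpo : IsPushout t.appTop π.appTop q.appTop p.appTop :=
    (isPushout_appTop_of_isPullback hpb).flip
  exact (coeffIdeal_iff_of_isPushout t.appTop π.appTop q.appTop p.appTop hpo hproj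
    (RingHom.ker ε.appTop.hom)).symm

include hproj in
theorem factor_local_scheme {T PT : Scheme.{u}} (t : T ⟶ T₀) (p : PT ⟶ P) (q : PT ⟶ T)
    (hpb : IsPullback p q π t) :
    (∃ z : T ⟶ vScheme (locJ π ε), z ≫ vι (locJ π ε) = t) ↔ ∃ l : PT ⟶ Eq, l ≫ ε = p := by
  constructor
  · rintro ⟨z, rfl⟩
    obtain ⟨l₀, hl₀⟩ := (factor_local_affine π hproj ε (vι (locJ π ε))
      (pullback.fst π (vι (locJ π ε))) (pullback.snd π (vι (locJ π ε)))
      (IsPullback.of_hasPullback _ _)).1 ⟨𝟙 _, Category.id_comp _⟩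
    let u : PT ⟶ pullback π (vι (locJ π ε)) :=
      pullback.lift p (q ≫ z) (by rw [hpb.w, Category.assoc])
    have hu : u ≫ pullback.fst π (vι (locJ π ε)) = p := pullback.lift_fst _ _ _
    exact ⟨u ≫ l₀, by rw [Category.assoc, hl₀, hu]⟩
  · rintro ⟨l, hl⟩
    let 𝒰 := T.affineCover
    have key : ∀ i, ∃ z : 𝒰.X i ⟶ vScheme (locJ π ε), z ≫ vι (locJ π ε) = 𝒰.f i ≫ t := by
      intro i
      have hpb' : IsPullback (pullback.fst q (𝒰.f i) ≫ p) (pullback.snd q (𝒰.f i)) π
          (𝒰.f i ≫ t) :=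
        ((IsPullback.of_hasPullback q (𝒰.f i)).flip.paste_vert hpb.flip).flip
      refine (factor_local_affine π hproj ε (𝒰.f i ≫ t) _ _ hpb').2 ?_
      exact ⟨pullback.fst q (𝒰.f i) ≫ l, by rw [Category.assoc, hl]⟩
    choose zi hzi using key
    have hcompat : ∀ i j, pullback.fst (𝒰.f i) (𝒰.f j) ≫ zi i =
        pullback.snd (𝒰.f i) (𝒰.f j) ≫ zi j := by
      intro i j
      rw [← cancel_mono (vι (locJ π ε)), Category.assoc, Category.assoc, hzi, hzi,
        ← Category.assoc, ← Category.assoc, pullback.condition]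
    refine ⟨𝒰.glueMorphisms zi hcompat, ?_⟩
    refine Scheme.Cover.hom_ext 𝒰 _ _ fun i => ?_
    rw [← Category.assoc, 𝒰.ι_glueMorphisms, hzi]

include hproj in
theorem lfp_vι_locJ [LocallyOfFinitePresentation ε] :
    LocallyOfFinitePresentation (vι (locJ π ε)) := by
  obtain ⟨h1, h2⟩ := IsClosedImmersion.isAffine_surjective_of_isAffine ε
  haveI := h1
  have h3 := (HasRingHomProperty.iff_of_isAffine (P := @LocallyOfFinitePresentation) (f := ε)).1
    inferInstance
  have hker : (RingHom.ker ε.appTop.hom).FG := by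
    algebraize [ε.appTop.hom]
    exact Algebra.FinitePresentation.ker_fG_of_surjective (Algebra.ofId Γ(P, ⊤) Γ(Eq, ⊤)) h2
  letI := π.appTop.hom.toAlgebra
  haveI : Module.Projective Γ(T₀, ⊤) Γ(P, ⊤) := hproj
  have hJ : (locJ π ε).FG := coeffIdeal_fg (RingHom.ker ε.appTop.hom) hker
  have h4 : LocallyOfFinitePresentation
      (Spec.map (CommRingCat.ofHom (Ideal.Quotient.mk (locJ π ε)))) := by
    rw [HasRingHomProperty.Spec_iff (P := @LocallyOfFinitePresentation)]
    refine RingHom.FinitePresentation.of_surjective _ Ideal.Quotient.mk_surjective ?_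
    change (RingHom.ker (Ideal.Quotient.mk (locJ π ε))).FG
    rw [Ideal.mk_ker]
    exact hJ
  infer_instance

end factorLocal

section overS

variable {S : Scheme.{u}} {E U₀ : Over S}

/-- **local closedness of the factoring locus** over an affine `U₀`. -/
theorem factor_local_over [IsAffine U₀.left] [IsAffine (pullback U₀.hom E.hom)]
    (hproj : letI := (pullback.fst U₀.hom E.hom).appTop.hom.toAlgebra
      Module.Projective Γ(U₀.left, ⊤) Γ(pullback U₀.hom E.hom, ⊤))
    {Eq : Scheme.{u}} (ε : Eq ⟶ pullback U₀.hom E.hom) [IsClosedImmersion ε] :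
    ∃ (W : Over S) (w : W ⟶ U₀), IsClosedImmersion w.left ∧
      (LocallyOfFinitePresentation ε → LocallyOfFinitePresentation w.left) ∧
      ∀ (T : Over S) (t : T ⟶ U₀), (∃ z : T ⟶ W, z ≫ w = t) ↔
        ∃ l : (PT E T).left ⟶ Eq, l ≫ ε = (PTmap E t).left := by
  let J := locJ (pullback.fst U₀.hom E.hom) ε
  refine ⟨Over.mk (vι J ≫ U₀.hom), Over.homMk (vι J) rfl, inferInstanceAs (IsClosedImmersion (vι J)),
    fun h => ?_, fun T t => ?_⟩
  · haveI := h
    exact lfp_vι_locJ (pullback.fst U₀.hom E.hom) hproj ε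
  have key := factor_local_scheme (pullback.fst U₀.hom E.hom) hproj ε
    t.left (PTmap E t).left (pullback.fst T.hom E.hom) (isPullback_PTmap t)
  constructor
  · rintro ⟨z, rfl⟩
    exact key.1 ⟨z.left, rfl⟩
  · intro h
    obtain ⟨z, hz⟩ := key.2 h
    refine ⟨Over.homMk z ?_, ?_⟩
    · change z ≫ vι J ≫ U₀.hom = T.hom
      rw [← Category.assoc, hz, Over.w t]
    · apply Over.OverMorphism.ext
      exact hz

end overS

section sheafF

variable {S : Scheme.{u}} {E X Xt Y' : Over S}

/-- functoriality of the sheaf `Mor_S(E, -)` in the target. -/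
noncomputable def morShMap (y' : Y' ⟶ Xt) : morSh E.hom Y'.hom ⟶ morSh E.hom Xt.hom :=
  ⟨{ app := fun T => TypeCat.ofHom (fun c => upS E.hom Xt.hom
        ((downS E.hom Y'.hom c : PT E T.unop ⟶ Y') ≫ y' : PT E T.unop ⟶ Xt))
     naturality := by
       intro T T' φ
       ext c
       apply downS_injective
       change ((Flatn.morS E.hom Y'.hom).map φ (downS E.hom Y'.hom c) : PT E T'.unop ⟶ Y') ≫ y' =
         (Flatn.morS E.hom Xt.hom).map φ ((downS E.hom Y'.hom c : PT E T.unop ⟶ Y') ≫ y')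
       rfl }⟩

theorem downS_morShMap (y' : Y' ⟶ Xt) {T : Over S} (c : (morSh E.hom Y'.hom).obj.obj (op T)) :
    (downS E.hom Xt.hom ((morShMap y').hom.app (op T) c) : PT E T ⟶ Xt) =
      (downS E.hom Y'.hom c : PT E T ⟶ Y') ≫ y' := rfl

instance mono_morShMap (y' : Y' ⟶ Xt) [Mono y'] : Mono (morShMap (E := E) y') := by
  haveI : ∀ T, Mono ((morShMap (E := E) y').hom.app T) := by
    intro T
    rw [mono_iff_injective]
    intro c c' h
    apply downS_injective
    have h' := congrArg (fun z => (downS E.hom Xt.hom z : PT E T.unop ⟶ Xt)) h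
    exact (cancel_mono y').1 h'
  haveI : Mono (morShMap (E := E) y').hom := NatTrans.mono_of_mono_app _
  exact Sheaf.Hom.mono_of_presheaf_mono _ _ _

variable (a : PT E X ⟶ Xt) (y' : Y' ⟶ Xt)

/-- the predicate: the pulled back section factors through `y'`. -/
def Factors {T : Over S} (x : T ⟶ X) : Prop := ∃ c : PT E T ⟶ Y', c ≫ y' = PTmap E x ≫ a

/-- the sheaf of points of `X` over which the section `a` factors through `y'`. -/
noncomputable abbrev facSh : AlgSp.Sp S := pullback (secMap a) (morShMap (E := E) y')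

noncomputable abbrev facι : facSh a y' ⟶ (AlgSp.yon S).obj X := pullback.fst (secMap a) (morShMap (E := E) y')

theorem factors_iff [Mono y'] {T : Over S} (x : T ⟶ X) :
    Factors a y' x ↔ ∃ b : (AlgSp.yon S).obj T ⟶ facSh a y', b ≫ facι a y' = (AlgSp.yon S).map x := by
  constructor
  · rintro ⟨c, hc⟩
    let σ : (AlgSp.yon S).obj T ⟶ morSh E.hom Y'.hom :=
      (yEquiv T (morSh E.hom Y'.hom)).symm (upS E.hom Y'.hom c)
    have hσ : (AlgSp.yon S).map x ≫ secMap a = σ ≫ morShMap y' := by
      apply (yEquiv T (morSh E.hom Xt.hom)).injective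
      apply downS_injective
      rw [downS_secMap, yEquiv_comp, downS_morShMap, Equiv.apply_symm_apply]
      exact hc.symm
    exact ⟨pullback.lift _ _ hσ, pullback.lift_fst _ _ _⟩
  · rintro ⟨b, hb⟩
    let σ : (AlgSp.yon S).obj T ⟶ morSh E.hom Y'.hom := b ≫ pullback.snd _ _
    refine ⟨downS E.hom Y'.hom (yEquiv T _ σ), ?_⟩
    rw [← downS_morShMap, ← yEquiv_comp, ← downS_secMap]
    congr 2
    rw [Category.assoc, ← pullback.condition, ← Category.assoc, hb]

end sheafF

section glueGen

variable {S : Scheme.{u}} {X : Over S}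

/-- **Gluing of closed loci**: a subsheaf `F` of `h_X` (with `Q x` iff `x` lifts to `F`) which is
represented by closed subschemes on the members of an open cover of `X` is represented by a closed
subscheme of `X`; finite presentation of the immersions is inherited. -/
theorem exists_closed_of_openCover_gen {F : AlgSp.Sp S} (ιF : F ⟶ (AlgSp.yon S).obj X) [Mono ιF]
    (Q : ∀ ⦃T : Over S⦄, (T ⟶ X) → Prop)
    (hQ : ∀ ⦃T : Over S⦄ (x : T ⟶ X), Q x ↔
      ∃ b : (AlgSp.yon S).obj T ⟶ F, b ≫ ιF = (AlgSp.yon S).map x)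
    {ι : Type u} (U : ι → Over S) (j : ∀ i, U i ⟶ X)
    [∀ i, IsOpenImmersion (j i).left] (hj : ∀ x : X.left, ∃ i, x ∈ Set.range (j i).left)
    (W : ι → Over S) (w : ∀ i, W i ⟶ U i) (hw : ∀ i, IsClosedImmersion (w i).left)
    (hW : ∀ i (T : Over S) (t : T ⟶ U i), (∃ z : T ⟶ W i, z ≫ w i = t) ↔ Q (t ≫ j i)) :
    ∃ (W₀ : Over S) (w₀ : W₀ ⟶ X), IsClosedImmersion w₀.left ∧
      ((∀ i, LocallyOfFinitePresentation (w i).left) → LocallyOfFinitePresentation w₀.left) ∧
      ∀ (T : Over S) (x : T ⟶ X), (∃ z : T ⟶ W₀, z ≫ w₀ = x) ↔ Q x := by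
  have hmono : ∀ i, Mono (w i) := fun i => by
    have := hw i
    have : Mono ((Over.forget S).map (w i)) := inferInstanceAs (Mono (w i).left)
    exact (Over.forget S).mono_of_mono_map inferInstance
  have hWi : ∀ i, Q ((w i) ≫ j i) := fun i => (hW i (W i) (w i)).1 ⟨𝟙 _, Category.id_comp _⟩
  choose a ha using fun i => (hQ _).1 (hWi i)
  have sq : ∀ i, IsPullback (a i) ((AlgSp.yon S).map (w i)) ιF
      ((AlgSp.yon S).map (j i) ≫ 𝟙 _) := by
    intro i
    refine isPullback_of_yon (by rw [ha, Category.comp_id, Functor.map_comp]) ?_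
    intro T b c hbc
    obtain ⟨t, rfl⟩ := (AlgSp.yon S).map_surjective c
    rw [Category.comp_id, ← Functor.map_comp] at hbc
    have hag : Q (t ≫ j i) := (hQ _).2 ⟨b, hbc⟩
    obtain ⟨z, hz⟩ := (hW i T t).2 hag
    refine ⟨(AlgSp.yon S).map z, ⟨?_, ?_⟩, ?_⟩
    · rw [← cancel_mono ιF, Category.assoc, ha, ← Functor.map_comp, hbc, ← Category.assoc, hz]
    · rw [← Functor.map_comp, hz]
    · rintro a' ⟨-, ha'2⟩
      obtain ⟨z', rfl⟩ := (AlgSp.yon S).map_surjective a'
      rw [← Functor.map_comp] at ha'2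
      have hzz := (AlgSp.yon S).map_injective ha'2
      congr 1
      have := hmono i
      rw [← cancel_mono (w i), hzz, hz]
  obtain ⟨W₀, w₀, a₀, sq₀, hk⟩ :=
    Groth.Agent.Lib.Helper12.ZarGlue.exists_rep_of_openCover ιF (𝟙 _) U j W w a sq hj
  choose k hk1 _ using hk
  have hcl : IsClosedImmersion w₀.left :=
    Groth.Agent.Lib.Helper12.ZarGlue.property_of_openCover @IsClosedImmersion w₀ U j hj W w k hk1 hw
  refine ⟨W₀, w₀, hcl, fun hfp =>
    Groth.Agent.Lib.Helper12.ZarGlue.property_of_openCover @LocallyOfFinitePresentation w₀ U j hj W w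
      k hk1 hfp, fun T x => ?_⟩
  have hw₀ : a₀ ≫ ιF = (AlgSp.yon S).map w₀ := by rw [sq₀.w, Category.comp_id]
  constructor
  · rintro ⟨z, rfl⟩
    exact (hQ _).2 ⟨(AlgSp.yon S).map z ≫ a₀, by rw [Category.assoc, hw₀, Functor.map_comp]⟩
  · intro h
    obtain ⟨b, hb⟩ := (hQ _).1 h
    obtain ⟨z, hz⟩ := (AlgSp.yon S).map_surjective
      (sq₀.lift b ((AlgSp.yon S).map x) (by rw [hb, Category.comp_id]))
    refine ⟨z, ?_⟩
    apply (AlgSp.yon S).map_injective
    rw [Functor.map_comp, hz]
    exact sq₀.lift_snd _ _ _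

end glueGen

end Groth.Agent.R2.H63.EqLocus
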