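import Mathlib
import Groth.Agent.R2.H63FactorLocus
import Groth.Agent.R2.H63FixPt
import Groth.Agent.R2.H63MultProj

/-!
# helper63: factoring loci are closed (transporters)

`factor_closed`: `E → S` affine with locally projective coordinate ring, `a : X ×_S E ⟶ Xt`,
`y' : Y' ⟶ Xt` a closed immersion.  Then `{g : T ⟶ X | a ∘ (g × E) factors through y'}` is a closed
subscheme of `X`, of finite presentation over `X` when `y'` is of finite presentation.
`transporter_closed`: transporter of a subscheme `E ⟶ G` into a closed subscheme of a group scheme.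
-/

set_option autoImplicit false
set_option linter.style.haveILetI false

open CategoryTheory Limits AlgebraicGeometry Opposite MonoidalCategory CartesianMonoidalCategory
  MonObj

namespace Groth.Agent.R2.H63.EqLocus

universe u

open Groth.Agent.R2.H63.Stab Groth.Agent.R2.H63.FixPt

theorem factor_closed {S : Scheme.{u}} (E X Xt Y' : Over S) [IsAffineHom E.hom]
    (a : PT E X ⟶ Xt) (y' : Y' ⟶ Xt) [IsClosedImmersion y'.left]
    (hproj : ∀ s : S, ∃ U : S.affineOpens, s ∈ (U : S.Opens) ∧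
      @Module.Projective Γ(S, U) _ Γ(E.left, E.hom ⁻¹ᵁ U) _
        (E.hom.app U).hom.toAlgebra.toModule) :
    ∃ (Z : Over S) (i : Z ⟶ X), IsClosedImmersion i.left ∧
      (LocallyOfFinitePresentation y'.left → LocallyOfFinitePresentation i.left) ∧
      ∀ (T : Over S) (g : T ⟶ X), (∃ z : T ⟶ Z, z ≫ i = g) ↔ Factors a y' g := by
  haveI hmono : Mono y' := by
    have : Mono ((Over.forget S).map y') := inferInstanceAs (Mono y'.left)
    exact (Over.forget S).mono_of_mono_map inferInstance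
  have hcov : ∀ y₀ : X.left, ∃ (U : S.affineOpens) (V : X.left.Opens), IsAffineOpen V ∧ y₀ ∈ V ∧
      V ≤ X.hom ⁻¹ᵁ (U : S.Opens) ∧
      @Module.Projective Γ(S, U) _ Γ(E.left, E.hom ⁻¹ᵁ U) _
        (E.hom.app U).hom.toAlgebra.toModule := by
    intro y₀
    obtain ⟨U, hsU, hF⟩ := hproj (X.hom y₀)
    obtain ⟨V, hV, hyV, hVU⟩ :=
      exists_isAffineOpen_mem_and_subset (x := y₀) (U := X.hom ⁻¹ᵁ (U : S.Opens)) hsU
    exact ⟨U, V, hV, hyV, hVU, hF⟩
  choose U V hV hyV hVU hF using hcov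
  let Ui : X.left → Over S := fun y₀ => Over.mk ((V y₀).ι ≫ X.hom)
  let j : ∀ y₀, Ui y₀ ⟶ X := fun y₀ => Over.homMk (V y₀).ι rfl
  have hjo : ∀ y₀, IsOpenImmersion (j y₀).left := fun y₀ =>
    inferInstanceAs (IsOpenImmersion (V y₀).ι)
  have hj : ∀ x : X.left, ∃ i, x ∈ Set.range (j i).left := fun x => ⟨x, by
    change x ∈ Set.range (V x).ι
    rw [Scheme.Opens.range_ι]
    exact hyV x⟩
  have hloc : ∀ y₀, ∃ (W : Over S) (w : W ⟶ Ui y₀), IsClosedImmersion w.left ∧
      (LocallyOfFinitePresentation y'.left → LocallyOfFinitePresentation w.left) ∧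
      ∀ (T : Over S) (t : T ⟶ Ui y₀), (∃ z : T ⟶ W, z ≫ w = t) ↔
        Factors a y' (t ≫ j y₀) := by
    intro y₀
    haveI : IsAffine (Ui y₀).left := hV y₀
    haveI : IsAffine (pullback (Ui y₀).hom E.hom) :=
      isAffine_of_isAffineHom (pullback.fst (Ui y₀).hom E.hom)
    have hle : (⊤ : (Ui y₀).left.Opens) ≤ (Ui y₀).hom ⁻¹ᵁ (U y₀ : S.Opens) := by
      intro x _
      exact hVU y₀ x.2
    have hproj' := projective_pullback (G := E) (Ui y₀) (U y₀ : S.Opens) (U y₀).2 hle (hF y₀)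
    let b : PT E (Ui y₀) ⟶ Xt := PTmap E (j y₀) ≫ a
    obtain ⟨W, w, hw, hfp, hW⟩ := factor_local_over (E := E) (U₀ := Ui y₀) hproj'
      (pullback.fst b.left y'.left)
    refine ⟨W, w, hw, fun h => hfp (by haveI := h; infer_instance), fun T t => ?_⟩
    rw [hW T t]
    have e : PTmap E (t ≫ j y₀) = PTmap E t ≫ PTmap E (j y₀) := by
      simp only [PTmap, Functor.map_comp]
    constructor
    · rintro ⟨l, hl⟩
      have hc : (l ≫ pullback.snd b.left y'.left) ≫ y'.left = (PTmap E t ≫ b).left := by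
        rw [Category.assoc, ← pullback.condition, ← Category.assoc, hl]
        rfl
      have hover : (l ≫ pullback.snd b.left y'.left) ≫ Y'.hom = (PT E T).hom := by
        have h1 : y'.left ≫ Xt.hom = Y'.hom := Over.w y'
        rw [← h1, ← Category.assoc, hc]
        exact Over.w (PTmap E t ≫ b)
      refine ⟨Over.homMk (l ≫ pullback.snd b.left y'.left) hover, ?_⟩
      apply Over.OverMorphism.ext
      rw [e, Category.assoc]
      exact hc
    · rintro ⟨c, hc⟩
      refine ⟨pullback.lift (PTmap E t).left c.left ?_, pullback.lift_fst _ _ _⟩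
      have := congrArg (fun m => m.left) hc
      rw [e, Category.assoc] at this
      exact this.symm
  choose W w hw hfp hW using hloc
  obtain ⟨W₀, w₀, hcl, hfp₀, hW₀⟩ := exists_closed_of_openCover_gen (facι a y')
    (fun T x => Factors a y' x) (fun T x => factors_iff a y' x) Ui j hj W w hw hW
  exact ⟨W₀, w₀, hcl, fun h => hfp₀ (fun i => hfp i h), hW₀⟩

section transporter

variable {S : Scheme.{u}} (G E Y' : Over S) [GrpObj G] (i : E ⟶ G) (y' : Y' ⟶ G)

/-- `(g, h) ↦ g * h * g⁻¹` on `G ×_S E`. -/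
noncomputable def conjSec : PT E G ⟶ G := p1 E G * (p2 E G ≫ i) * (p1 E G)⁻¹

theorem factors_iff_transport {T : Over S} (g : T ⟶ G) :
    Factors (conjSec G E i) y' g ↔
      ∀ (X' : Over S) (x : X' ⟶ T) (h : X' ⟶ E),
        ∃ a' : X' ⟶ Y', (x ≫ g) * (h ≫ i) * (x ≫ g)⁻¹ = a' ≫ y' := by
  have e1 : PTmap E g ≫ conjSec G E i = (p1 E T ≫ g) * (p2 E T ≫ i) * (p1 E T ≫ g)⁻¹ := by
    unfold conjSec
    rw [MonObj.comp_mul, MonObj.comp_mul, GrpObj.comp_inv, PTmap_p1, PTmap_p2_assoc]
  unfold Factors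
  rw [e1]
  constructor
  · rintro ⟨c, hc⟩ X' x h
    refine ⟨pair E x h ≫ c, ?_⟩
    rw [Category.assoc, hc, MonObj.comp_mul, MonObj.comp_mul, GrpObj.comp_inv, pair_p1_assoc,
      pair_p2_assoc]
  · intro h
    obtain ⟨a', ha'⟩ := h (PT E T) (p1 E T) (p2 E T)
    exact ⟨a', ha'.symm⟩

/-- the transporter of `E ⟶ G` into a closed subscheme of `G` is a closed subscheme of `G`, for `E`
affine over `S` with locally projective coordinate ring. -/
theorem transporter_closed [IsAffineHom E.hom] [IsClosedImmersion y'.left]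
    (hproj : ∀ s : S, ∃ U : S.affineOpens, s ∈ (U : S.Opens) ∧
      @Module.Projective Γ(S, U) _ Γ(E.left, E.hom ⁻¹ᵁ U) _
        (E.hom.app U).hom.toAlgebra.toModule) :
    ∃ (C : Over S) (c : C ⟶ G), IsClosedImmersion c.left ∧
      (LocallyOfFinitePresentation y'.left → LocallyOfFinitePresentation c.left) ∧
      ∀ (X : Over S) (g : X ⟶ G), (∃ z : X ⟶ C, z ≫ c = g) ↔
        ∀ (X' : Over S) (x : X' ⟶ X) (h : X' ⟶ E),
          ∃ a' : X' ⟶ Y', (x ≫ g) * (h ≫ i) * (x ≫ g)⁻¹ = a' ≫ y' := by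
  obtain ⟨C, c, hc, hfp, hC⟩ := factor_closed E G G Y' (conjSec G E i) y' hproj
  refine ⟨C, c, hc, hfp, fun X g => ?_⟩
  rw [hC, factors_iff_transport]

end transporter

/-- the coordinate ring of a finite locally free morphism is projective over every affine open. -/
theorem projective_of_isFinLocFree {S : Scheme.{u}} (Y : Over S) (hY : Mor2.IsFinLocFree Y.hom)
    (U : S.Opens) (hU : IsAffineOpen U) :
    @Module.Projective Γ(S, U) _ Γ(Y.left, Y.hom ⁻¹ᵁ U) _
      (Y.hom.app U).hom.toAlgebra.toModule := by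
  obtain ⟨hfin, hflat, hfp⟩ := hY
  haveI : IsAffineHom Y.hom := inferInstance
  have hUY : IsAffineOpen (Y.hom ⁻¹ᵁ U) := hU.preimage Y.hom
  have h1 : (Y.hom.app U).hom.Finite := IsFinite.finite_app Y.hom U hU
  have h2 : (Y.hom.app U).hom.Flat := by
    have := Flat.flat_appLE Y.hom hU hUY (le_refl _)
    rwa [Scheme.Hom.appLE_eq_app] at this
  have h3 : (Y.hom.app U).hom.FinitePresentation := by
    have := HasRingHomProperty.appLE (P := @LocallyOfFinitePresentation) Y.hom hfp ⟨U, hU⟩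
      ⟨Y.hom ⁻¹ᵁ U, hUY⟩ (le_refl _)
    rwa [Scheme.Hom.appLE_eq_app] at this
  algebraize [(Y.hom.app U).hom]
  have := Module.FinitePresentation.of_finite_of_finitePresentation Γ(S, U) Γ(Y.left, Y.hom ⁻¹ᵁ U)
  exact Module.Flat.projective_of_finitePresentation

end Groth.Agent.R2.H63.EqLocus
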