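import Mathlib
import Groth.Agent.R2.H63FixPt

set_option autoImplicit false
set_option linter.style.haveILetI false

open CategoryTheory Limits AlgebraicGeometry Opposite MonoidalCategory CartesianMonoidalCategory

namespace Groth.Agent.R2.H63.FixPt

universe u

open Groth.Agent.R2.H63.Stab Groth.Agent.R2.H63.EqLocus Groth.Agent.R2.H63.WeilGlue

section infinitesimal

variable {S : Scheme.{u}} {F X : Over S} (e : 𝟙_ (Over S) ⟶ F) (act : F ⊗ X ⟶ X)
  (he : (e ▷ X) ≫ act = (λ_ X).hom)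

/-- the section `u ↦ (u, e)` of `U₀ ×_S F → U₀`. -/
noncomputable def eSec (U₀ : Over S) : U₀ ⟶ PT F U₀ := pair F (𝟙 U₀) (toUnit U₀ ≫ e)

include he in
theorem eSec_actSec {U₀ : Over S} (j : U₀ ⟶ X) :
    eSec e U₀ ≫ PTmap F j ≫ actSec act = j := by
  unfold actSec eSec
  rw [comp_lift_assoc, comp_lift_assoc, PTmap_p1, PTmap_p2, pair_p2, pair_p1_assoc,
    Category.id_comp]
  have h1 : lift (toUnit U₀ ≫ e) j = lift (toUnit U₀) j ≫ (e ▷ X) := by
    rw [lift_whiskerRight]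
  rw [h1, Category.assoc, he, leftUnitor_hom, lift_snd]

theorem isPullback_eSec (U₀ : Over S) :
    IsPullback (eSec e U₀).left U₀.hom (pullback.snd U₀.hom F.hom) e.left := by
  refine IsPullback.of_right (h₁₂ := pullback.fst U₀.hom F.hom) (h₂₂ := F.hom) (v₁₃ := U₀.hom)
    ?_ ?_ (IsPullback.of_hasPullback U₀.hom F.hom)
  · have h1 : (eSec e U₀).left ≫ pullback.fst U₀.hom F.hom = 𝟙 _ :=
      congrArg (fun k => k.left) (pair_p1 F (𝟙 U₀) (toUnit U₀ ≫ e))
    have h2 : e.left ≫ F.hom = 𝟙 S := Over.w e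
    rw [h1, h2]
    exact IsPullback.of_horiz_isIso ⟨by simp⟩
  · have := congrArg (fun k => k.left) (pair_p2 F (𝟙 U₀) (toUnit U₀ ≫ e))
    exact this

theorem surjective_eSec [Surjective e.left] (U₀ : Over S) : Surjective (eSec e U₀).left :=
  MorphismProperty.of_isPullback (P := @Surjective) (isPullback_eSec e U₀).flip inferInstance

end infinitesimal

section mainInf

variable (S : Scheme.{u}) (F X : Over S) (e : 𝟙_ (Over S) ⟶ F) (act : F ⊗ X ⟶ X)

/-- **S17685**: fixed points of an infinitesimal pointed finite locally free `F` acting on any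
`S`-scheme form a closed subscheme. -/
theorem fixedPoints_closed_of_pointed (he : (e ▷ X) ≫ act = (λ_ X).hom)
    [IsFinite F.hom] [Flat F.hom] [LocallyOfFinitePresentation F.hom] [Surjective e.left] :
    ∃ (Z : Scheme.{u}) (i : Z ⟶ X.left), IsClosedImmersion i ∧
      ∀ (T : Over S) (x : T ⟶ X), (∃ y : T.left ⟶ Z, y ≫ i = x.left) ↔
        ∀ (T' : Over S) (t : T' ⟶ T) (g : T' ⟶ F), lift g (t ≫ x) ≫ act = t ≫ x := by
  have hcov : ∀ x₀ : X.left, ∃ V : X.left.Opens, IsAffineOpen V ∧ x₀ ∈ V := by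
    intro x₀
    obtain ⟨V, hV, hxV, -⟩ :=
      exists_isAffineOpen_mem_and_subset (x := x₀) (U := (⊤ : X.left.Opens)) trivial
    exact ⟨V, hV, hxV⟩
  choose V hV hxV using hcov
  let Ui : X.left → Over S := fun x₀ => Over.mk ((V x₀).ι ≫ X.hom)
  let j : ∀ x₀, Ui x₀ ⟶ X := fun x₀ => Over.homMk (V x₀).ι rfl
  have hjo : ∀ x₀, IsOpenImmersion (j x₀).left := fun x₀ =>
    inferInstanceAs (IsOpenImmersion (V x₀).ι)
  have hj : ∀ x : X.left, ∃ i, x ∈ Set.range (j i).left := fun x => ⟨x, by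
    change x ∈ Set.range (V x).ι
    rw [Scheme.Opens.range_ι]
    exact hxV x⟩
  have hloc : ∀ x₀, ∃ (W : Over S) (w : W ⟶ Ui x₀), IsClosedImmersion w.left ∧
      ∀ (T : Over S) (t : T ⟶ Ui x₀), (∃ z : T ⟶ W, z ≫ w = t) ↔
        Agree (actSec act) (prSec (G := F) (Y := X)) (t ≫ j x₀) := by
    intro x₀
    haveI : IsAffine (Ui x₀).left := hV x₀
    have hg : Mor2.IsFinLocFree (pullback.fst (Ui x₀).hom F.hom) :=
      ⟨inferInstance, inferInstance, inferInstance⟩
    obtain ⟨hPaff, -, hproj⟩ := finite_projective_of_isFinLocFree _ hg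
    let b₁ : PT F (Ui x₀) ⟶ X := PTmap F (j x₀) ≫ actSec act
    let b₂ : PT F (Ui x₀) ⟶ X := PTmap F (j x₀) ≫ prSec (G := F) (Y := X)
    have hb₂ : b₂ = p1 F (Ui x₀) ≫ j x₀ := PTmap_p1 F (j x₀)
    have hsec : eSec e (Ui x₀) ≫ b₁ = j x₀ := eSec_actSec e act he (j x₀)
    have hrange : Set.range b₁.left ⊆ Set.range (j x₀).left := by
      rintro _ ⟨p, rfl⟩
      obtain ⟨u, rfl⟩ := (surjective_eSec e (Ui x₀)).surj p
      refine ⟨u, ?_⟩
      have := congrArg (fun k => k.left) hsec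
      rw [← Scheme.Hom.comp_apply]
      exact congrArg (fun k : (Ui x₀).left ⟶ X.left => k u) this.symm
    let b₁' : pullback (Ui x₀).hom F.hom ⟶ (Ui x₀).left :=
      IsOpenImmersion.lift (j x₀).left b₁.left hrange
    have hb₁' : b₁' ≫ (j x₀).left = b₁.left := IsOpenImmersion.lift_fac _ _ _
    let b₂' : pullback (Ui x₀).hom F.hom ⟶ (Ui x₀).left := pullback.fst (Ui x₀).hom F.hom
    have hb₂' : b₂' ≫ (j x₀).left = b₂.left := by
      rw [hb₂]
      rfl
    have hε : equalizer.ι b₁' b₂' ≫ b₁.left = equalizer.ι b₁' b₂' ≫ b₂.left := by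
      rw [← hb₁', ← hb₂', ← Category.assoc, ← Category.assoc, equalizer.condition]
    have huniv : ∀ {M : Scheme.{u}} (m : M ⟶ pullback (Ui x₀).hom F.hom),
        m ≫ b₁.left = m ≫ b₂.left → ∃ l : M ⟶ equalizer b₁' b₂', l ≫ equalizer.ι b₁' b₂' = m := by
      intro M m hm
      rw [← hb₁', ← hb₂', ← Category.assoc, ← Category.assoc, cancel_mono] at hm
      exact ⟨equalizer.lift m hm, equalizer.lift_ι _ _⟩
    obtain ⟨W, w, hw, hW⟩ := local_over hproj b₁ b₂ (equalizer.ι b₁' b₂') hε huniv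
    refine ⟨W, w, hw, fun T t => ?_⟩
    rw [hW T t]
    unfold Agree
    have e' : PTmap F (t ≫ j x₀) = PTmap F t ≫ PTmap F (j x₀) := by
      simp only [PTmap, Functor.map_comp]
    rw [e', Category.assoc, Category.assoc]
  choose W w hw hW using hloc
  obtain ⟨W₀, w₀, hcl, hW₀⟩ := exists_closed_of_openCover (actSec act) (prSec (G := F) (Y := X))
    Ui j hj W w hw hW
  refine ⟨W₀.left, w₀.left, hcl, fun T x => ?_⟩
  rw [← agree_iff_fixed, ← hW₀]
  constructor
  · rintro ⟨y, hy⟩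
    refine ⟨Over.homMk y ?_, ?_⟩
    · rw [← Over.w w₀, ← Category.assoc, hy, Over.w x]
    · apply Over.OverMorphism.ext
      exact hy
  · rintro ⟨z, rfl⟩
    exact ⟨z.left, rfl⟩

end mainInf

end Groth.Agent.R2.H63.FixPt
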