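import Mathlib


set_option autoImplicit false
universe w u

open AlgebraicGeometry CategoryTheory Limits

namespace Groth.Agent.R2.H63.FpqcColim

/-- Morphisms to a fixed scheme `T` satisfy the sheaf condition for fpqc covering families. -/
theorem isSheafFor_yoneda {W : Scheme.{u}} (F : PreZeroHypercover.{w} W)
    (hF : F.presieve₀ ∈ Scheme.fpqcPrecoverage W) (T : Scheme.{u}) :
    Presieve.IsSheafFor (yoneda.obj T) F.presieve₀ := by
  have h1 : Sieve.generate F.presieve₀ ∈ Scheme.fpqcTopology.{u} W :=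
    Precoverage.generate_mem_toGrothendieck hF
  have := (GrothendieckTopology.Subcanonical.isSheaf_of_isRepresentable
    (J := Scheme.fpqcTopology.{u}) (yoneda.obj T))
  exact this.isSheafFor F.presieve₀ h1

/-- fpqc covering families are jointly epimorphic. -/
theorem hom_ext_of_mem {W : Scheme.{u}} (F : PreZeroHypercover.{w} W)
    (hF : F.presieve₀ ∈ Scheme.fpqcPrecoverage W) {T : Scheme.{u}} (p q : W ⟶ T)
    (h : ∀ a, F.f a ≫ p = F.f a ≫ q) : p = q := by
  have hs := (isSheafFor_yoneda F hF T).isSeparatedFor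
  refine hs.ext ?_
  rintro Y f ⟨a⟩
  exact h a

/-- Morphisms glue uniquely along fpqc covering families. -/
theorem exists_unique_glue {W : Scheme.{u}} (F : PreZeroHypercover.{w} W)
    (hF : F.presieve₀ ∈ Scheme.fpqcPrecoverage W) {T : Scheme.{u}} (φ : ∀ a, F.X a ⟶ T)
    (h : ∀ a b, pullback.fst (F.f a) (F.f b) ≫ φ a = pullback.snd (F.f a) (F.f b) ≫ φ b) :
    ∃! t : W ⟶ T, ∀ a, F.f a ≫ t = φ a := by
  have hs := isSheafFor_yoneda F hF T
  rw [Presieve.isSheafFor_arrows_iff_pullbacks] at hs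
  exact hs φ h

/-- The base change of an fpqc covering family is jointly epimorphic. -/
theorem hom_ext_pullback {W : Scheme.{u}} (F : PreZeroHypercover.{w} W)
    (hF : F.presieve₀ ∈ Scheme.fpqcPrecoverage W) {Y T : Scheme.{u}} (g : Y ⟶ W) (p q : Y ⟶ T)
    (h : ∀ a, pullback.fst g (F.f a) ≫ p = pullback.fst g (F.f a) ≫ q) : p = q := by
  have hmem : (F.pullback₁ g).presieve₀ ∈ Scheme.fpqcPrecoverage Y :=
    Precoverage.mem_coverings_of_isPullback F.f hF g _ (fun a => pullback.snd g (F.f a))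
      (fun a => IsPullback.of_hasPullback g (F.f a))
  exact hom_ext_of_mem (F.pullback₁ g) hmem p q h

section main

variable {J : Type u} [SmallCategory J] (D : J ⥤ Scheme.{u}) (c : Cocone D)

/-- the diagram `j ↦ X_j ×_W Y` for `g : Y ⟶ W`. -/
noncomputable def bc {Y : Scheme.{u}} (g : Y ⟶ c.pt) : J ⥤ Scheme.{u} :=
  (D.toOver c.pt (fun j => c.ι.app j) (fun g => c.w g) ⋙ Over.pullback g) ⋙ Over.forget Y

/-- the cocone `X_j ×_W Y → Y` -/
noncomputable def bcCocone {Y : Scheme.{u}} (g : Y ⟶ c.pt) : Cocone (bc D c g) :=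
  (Over.forgetCocone Y).whisker
      (D.toOver c.pt (fun j => c.ι.app j) (fun g => c.w g) ⋙ Over.pullback g)

variable {Y : Scheme.{u}} (g : Y ⟶ c.pt)

/-- first projection `X_j ×_W Y → X_j` -/
noncomputable def fstBc (j : J) : (bc D c g).obj j ⟶ D.obj j := pullback.fst (c.ι.app j) g

/-- second projection `X_j ×_W Y → Y` -/
noncomputable def sndBc (j : J) : (bc D c g).obj j ⟶ Y := pullback.snd (c.ι.app j) g

theorem bcCocone_ι_app (j : J) : (bcCocone D c g).ι.app j = sndBc D c g j := rfl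

theorem condBc (j : J) : fstBc D c g j ≫ c.ι.app j = sndBc D c g j ≫ g := pullback.condition

@[reassoc]
theorem bc_map_fst {j j' : J} (a : j ⟶ j') :
    (bc D c g).map a ≫ fstBc D c g j' = fstBc D c g j ≫ D.map a := pullback.lift_fst _ _ _

/-- lift into `X_j ×_W Y` -/
noncomputable def liftBc {Z : Scheme.{u}} (j : J) (k1 : Z ⟶ D.obj j) (k2 : Z ⟶ Y)
    (h : k1 ≫ c.ι.app j = k2 ≫ g) : Z ⟶ (bc D c g).obj j := pullback.lift k1 k2 h

@[reassoc]
theorem liftBc_fst {Z : Scheme.{u}} (j : J) (k1 : Z ⟶ D.obj j) (k2 : Z ⟶ Y)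
    (h : k1 ≫ c.ι.app j = k2 ≫ g) : liftBc D c g j k1 k2 h ≫ fstBc D c g j = k1 :=
  pullback.lift_fst _ _ _

@[reassoc]
theorem liftBc_snd {Z : Scheme.{u}} (j : J) (k1 : Z ⟶ D.obj j) (k2 : Z ⟶ Y)
    (h : k1 ≫ c.ι.app j = k2 ≫ g) : liftBc D c g j k1 k2 h ≫ sndBc D c g j = k2 :=
  pullback.lift_snd _ _ _

/-- a cocone on `D` induces a cocone on the base changed diagram (with the same point). -/
noncomputable def pullCocone (s : Cocone D) : Cocone (bc D c g) where
  pt := s.pt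
  ι :=
    { app := fun j => fstBc D c g j ≫ s.ι.app j
      naturality := by
        intro j j' a
        simp only [Functor.const_obj_obj, Functor.const_obj_map, Category.comp_id]
        rw [bc_map_fst_assoc, s.w] }

theorem key {Y' : Scheme.{u}} (g' : Y' ⟶ c.pt) (p : Y' ⟶ Y) (hp : p ≫ g = g') (s : Cocone D)
    (φ : Y ⟶ s.pt) (hφ : ∀ j, sndBc D c g j ≫ φ = fstBc D c g j ≫ s.ι.app j) (j : J) :
    sndBc D c g' j ≫ p ≫ φ = fstBc D c g' j ≫ s.ι.app j := by
  subst hp
  have hc : fstBc D c (p ≫ g) j ≫ c.ι.app j = (sndBc D c (p ≫ g) j ≫ p) ≫ g :=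
    (condBc D c (p ≫ g) j).trans (Category.assoc _ _ _).symm
  calc sndBc D c (p ≫ g) j ≫ p ≫ φ
      = (sndBc D c (p ≫ g) j ≫ p) ≫ φ := (Category.assoc _ _ _).symm
    _ = liftBc D c g j (fstBc D c (p ≫ g) j) (sndBc D c (p ≫ g) j ≫ p) hc ≫
          sndBc D c g j ≫ φ := (liftBc_snd_assoc D c g j _ _ hc φ).symm
    _ = liftBc D c g j (fstBc D c (p ≫ g) j) (sndBc D c (p ≫ g) j ≫ p) hc ≫
          fstBc D c g j ≫ s.ι.app j := by rw [hφ]
    _ = fstBc D c (p ≫ g) j ≫ s.ι.app j := liftBc_fst_assoc D c g j _ _ hc _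

theorem hom_ext_bc (F : PreZeroHypercover.{w} c.pt) (hF : F.presieve₀ ∈ Scheme.fpqcPrecoverage c.pt)
    (j : J) {T : Scheme.{u}} (p q : D.obj j ⟶ T)
    (h : ∀ a, fstBc D c (F.f a) j ≫ p = fstBc D c (F.f a) j ≫ q) : p = q :=
  hom_ext_pullback F hF (c.ι.app j) p q h

theorem main (F : PreZeroHypercover.{w} c.pt) (hF : F.presieve₀ ∈ Scheme.fpqcPrecoverage c.pt)
    (h1 : ∀ a : F.I₀, Nonempty (IsColimit (bcCocone D c (F.f a))))
    (h2 : ∀ a b : F.I₀, Nonempty (IsColimit
      (bcCocone D c (pullback.fst (F.f a) (F.f b) ≫ F.f a)))) :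
    Nonempty (IsColimit c) := by
  classical
  -- local descents
  let φ : ∀ (s : Cocone D) (a : F.I₀), F.X a ⟶ s.pt := fun s a =>
    (h1 a).some.desc (pullCocone D c (F.f a) s)
  have hφ : ∀ (s : Cocone D) (a : F.I₀) (j : J),
      sndBc D c (F.f a) j ≫ φ s a = fstBc D c (F.f a) j ≫ s.ι.app j :=
    fun s a j => (h1 a).some.fac (pullCocone D c (F.f a) s) j
  have hφuniq : ∀ (s : Cocone D) (a : F.I₀) (m : F.X a ⟶ s.pt),
      (∀ j, sndBc D c (F.f a) j ≫ m = fstBc D c (F.f a) j ≫ s.ι.app j) →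
      m = φ s a :=
    fun s a m hm => (h1 a).some.uniq (pullCocone D c (F.f a) s) m hm
  -- compatibility on overlaps
  have hcompat : ∀ (s : Cocone D) (a b : F.I₀),
      pullback.fst (F.f a) (F.f b) ≫ φ s a = pullback.snd (F.f a) (F.f b) ≫ φ s b := by
    intro s a b
    refine (h2 a b).some.hom_ext ?_
    intro j
    set g := pullback.fst (F.f a) (F.f b) ≫ F.f a with hg
    change sndBc D c g j ≫ (pullback.fst (F.f a) (F.f b) ≫ φ s a) =
      sndBc D c g j ≫ (pullback.snd (F.f a) (F.f b) ≫ φ s b)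
    have hg' : g = pullback.snd (F.f a) (F.f b) ≫ F.f b := pullback.condition
    have e1 : sndBc D c g j ≫ pullback.fst (F.f a) (F.f b) ≫ φ s a =
        fstBc D c g j ≫ s.ι.app j :=
      key D c (F.f a) g (pullback.fst (F.f a) (F.f b)) rfl s (φ s a) (hφ s a) j
    have e2 : sndBc D c g j ≫ pullback.snd (F.f a) (F.f b) ≫ φ s b =
        fstBc D c g j ≫ s.ι.app j :=
      key D c (F.f b) g (pullback.snd (F.f a) (F.f b)) hg'.symm s (φ s b) (hφ s b) j
    rw [e1, e2]
  -- glue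
  have hglue : ∀ s : Cocone D, ∃! t : c.pt ⟶ s.pt, ∀ a, F.f a ≫ t = φ s a :=
    fun s => exists_unique_glue F hF (φ s) (hcompat s)
  refine ⟨{ desc := fun s => (hglue s).exists.choose, fac := ?_, uniq := ?_ }⟩
  · intro s j
    have ht := (hglue s).exists.choose_spec
    refine hom_ext_bc D c F hF j _ _ ?_
    intro a
    rw [← Category.assoc, condBc, Category.assoc, ht a, hφ]
  · intro s m hm
    have ht := (hglue s).exists.choose_spec
    refine (hglue s).unique ?_ ht
    intro a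
    refine hφuniq s a _ ?_
    intro j
    rw [← Category.assoc, ← condBc, Category.assoc, hm]

end main

end Groth.Agent.R2.H63.FpqcColim
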