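import Mathlib
import Groth.Prelude.Def_HilbD
import Groth.Agent.R2.H63FactorClosed

/-!
# helper63: API for the Hilbert functor of points `HilbD`

* `pull_eq_comap`: `HilbD.pull f g I = I.comap (XTmap f g)`, hence `pull_comp`, `pull_id`.
* `factors_iff_le_ker`: a morphism factors through a closed subscheme iff the ideal sheaf is contained in its kernel.
* `exists_locus_le`: for ideal sheaves `I`, `J` on `X_T` with `V(I)` finite locally free over `T`, the locus of `T`
  where `V(I) ⊆ V(J)` is a closed subscheme of `T`.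
-/

set_option autoImplicit false
set_option linter.style.haveILetI false
set_option linter.unusedSectionVars false

open CategoryTheory Limits AlgebraicGeometry Opposite

namespace Groth.Agent.R2.H63.HilbApi

universe u

open Scheme.IdealSheafData

variable {X S : Scheme.{u}} (f : X ⟶ S)

theorem XTmap_fst {T T' : Over S} (g : T' ⟶ T) :
    PicF.XTmap f g ≫ pullback.fst f T.hom = pullback.fst f T'.hom :=
  (pullback.lift_fst _ _ _).trans (Category.comp_id _)

theorem XTmap_snd {T T' : Over S} (g : T' ⟶ T) :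
    PicF.XTmap f g ≫ pullback.snd f T.hom = pullback.snd f T'.hom ≫ g.left :=
  pullback.lift_snd _ _ _

theorem XTmap_comp {T T' T'' : Over S} (g : T' ⟶ T) (g' : T'' ⟶ T') :
    PicF.XTmap f (g' ≫ g) = PicF.XTmap f g' ≫ PicF.XTmap f g := by
  apply pullback.hom_ext
  · rw [Category.assoc, XTmap_fst, XTmap_fst, XTmap_fst]
  · rw [Category.assoc, XTmap_snd, XTmap_snd, ← Category.assoc, XTmap_snd, Category.assoc]
    rfl

theorem XTmap_id (T : Over S) : PicF.XTmap f (𝟙 T) = 𝟙 _ := by
  apply pullback.hom_ext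
  · rw [XTmap_fst, Category.id_comp]
  · rw [XTmap_snd, Category.id_comp]
    exact Category.comp_id _

/-- the base change square of `X_{T'} ⟶ X_T` over `T' ⟶ T` -/
theorem isPullback_XTmap {T T' : Over S} (g : T' ⟶ T) :
    IsPullback (PicF.XTmap f g) (PicF.XTproj f T') (PicF.XTproj f T) g.left := by
  have hbig : IsPullback (pullback.fst f T'.hom) (pullback.snd f T'.hom) f T'.hom :=
    IsPullback.of_hasPullback f T'.hom
  have hr : IsPullback (pullback.fst f T.hom) (pullback.snd f T.hom) f T.hom :=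
    IsPullback.of_hasPullback f T.hom
  have e2 : g.left ≫ T.hom = T'.hom := Over.w g
  exact IsPullback.of_right (by rw [XTmap_fst, e2]; exact hbig) (XTmap_snd f g) hr

theorem pull_eq_comap {T T' : Over S} (g : T' ⟶ T) (I : (PicF.XT f T).IdealSheafData) :
    HilbD.pull f g I = I.comap (PicF.XTmap f g) := by
  unfold HilbD.pull Scheme.IdealSheafData.comap
  rw [← pullbackSymmetry_hom_comp_fst, Scheme.Hom.ker_comp_of_isIso]

theorem pull_comp {T T' T'' : Over S} (g : T' ⟶ T) (g' : T'' ⟶ T')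
    (I : (PicF.XT f T).IdealSheafData) :
    HilbD.pull f (g' ≫ g) I = HilbD.pull f g' (HilbD.pull f g I) := by
  rw [pull_eq_comap, pull_eq_comap, pull_eq_comap, XTmap_comp, comap_comp]

theorem pull_id (T : Over S) (I : (PicF.XT f T).IdealSheafData) : HilbD.pull f (𝟙 T) I = I := by
  rw [pull_eq_comap, XTmap_id, comap_id]

/-- finite locally free of degree `d` is stable under base change -/
theorem isFinLocFreeOfDeg_of_isPullback {d : ℕ} {P A B C : Scheme.{u}} (fst : P ⟶ A) (snd : P ⟶ B)
    (a : A ⟶ C) (b : B ⟶ C) (h : IsPullback fst snd a b) (ha : Mor2.IsFinLocFreeOfDeg d a) :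
    Mor2.IsFinLocFreeOfDeg d snd := by
  obtain ⟨⟨h1, h2, h3⟩, h4⟩ := ha
  haveI : IsFinite snd := MorphismProperty.of_isPullback h h1
  haveI : Flat snd := MorphismProperty.of_isPullback h h2
  haveI : LocallyOfFinitePresentation snd := MorphismProperty.of_isPullback h h3
  refine ⟨⟨inferInstance, inferInstance, inferInstance⟩, fun y => ?_⟩
  rw [Scheme.Hom.finrank_of_isPullback fst snd a b h y, h4]

theorem isFinLocFreeOfDeg_iso_comp {d : ℕ} {A B C : Scheme.{u}} (e : A ⟶ B) [IsIso e] (b : B ⟶ C)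
    (hb : Mor2.IsFinLocFreeOfDeg d b) : Mor2.IsFinLocFreeOfDeg d (e ≫ b) := by
  obtain ⟨⟨h1, h2, h3⟩, h4⟩ := hb
  refine ⟨⟨inferInstance, inferInstance, inferInstance⟩, fun y => ?_⟩
  rw [Scheme.Hom.finrank_comp_left_of_isIso, h4]

/-- the closed subscheme of `X_{T'}` cut out by `I.comap m` over `T'` is the base change of `V(I)` -/
theorem isPullback_comap {T T' : Over S} (g : T' ⟶ T) (I : (PicF.XT f T).IdealSheafData) :
    IsPullback (pullback.snd (PicF.XTmap f g) I.subschemeι)
      (pullback.fst (PicF.XTmap f g) I.subschemeι ≫ PicF.XTproj f T')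
      (I.subschemeι ≫ PicF.XTproj f T) g.left :=
  (IsPullback.of_hasPullback (PicF.XTmap f g) I.subschemeι).flip.paste_vert (isPullback_XTmap f g)

theorem obj_comap {d : ℕ} {T T' : Over S} (g : T' ⟶ T) (I : (PicF.XT f T).IdealSheafData)
    (hI : Mor2.IsFinLocFreeOfDeg d (I.subschemeι ≫ PicF.XTproj f T)) :
    Mor2.IsFinLocFreeOfDeg d ((I.comap (PicF.XTmap f g)).subschemeι ≫ PicF.XTproj f T') := by
  have h1 := isFinLocFreeOfDeg_of_isPullback _ _ _ _ (isPullback_comap f g I) hI
  have h2 := isFinLocFreeOfDeg_iso_comp (I.comapIso (PicF.XTmap f g)).hom _ h1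
  rwa [← Category.assoc, comapIso_hom_fst] at h2

theorem obj_pull {d : ℕ} {T T' : Over S} (g : T' ⟶ T) (I : (PicF.XT f T).IdealSheafData)
    (hI : Mor2.IsFinLocFreeOfDeg d (I.subschemeι ≫ PicF.XTproj f T)) :
    Mor2.IsFinLocFreeOfDeg d ((HilbD.pull f g I).subschemeι ≫ PicF.XTproj f T') := by
  rw [pull_eq_comap]
  exact obj_comap f g I hI

/-- pull back an object of the Hilbert functor -/
noncomputable def pullObj {d : ℕ} {T T' : Over S} (g : T' ⟶ T) (Z : HilbD.Obj f d T) : HilbD.Obj f d T' :=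
  ⟨HilbD.pull f g Z.1, obj_pull f g Z.1 Z.2⟩

/-- a morphism factors through a closed subscheme iff its kernel contains the ideal sheaf -/
theorem factors_iff_le_ker {A B : Scheme.{u}} (J : B.IdealSheafData) (w : A ⟶ B) :
    (∃ c : A ⟶ J.subscheme, c ≫ J.subschemeι = w) ↔ J ≤ w.ker := by
  constructor
  · rintro ⟨c, rfl⟩
    have := c.le_ker_comp J.subschemeι
    rwa [ker_subschemeι] at this
  · intro h
    exact ⟨IsClosedImmersion.lift J.subschemeι w (by rwa [ker_subschemeι]),
      IsClosedImmersion.lift_fac _ _ _⟩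

open Groth.Agent.R2.H63.Stab Groth.Agent.R2.H63.EqLocus in
/-- **the containment locus**: for ideal sheaves `I`, `J` on `X_T` with `V(I)` finite locally free over `T`, the locus of
`T` over which `V(I) ⊆ V(J)` is a closed subscheme of `T`. -/
theorem exists_locus_le {T : Over S} (I J : (PicF.XT f T).IdealSheafData)
    (hI : Mor2.IsFinLocFree (I.subschemeι ≫ PicF.XTproj f T)) :
    ∃ (E : Scheme.{u}) (e : E ⟶ T.left), IsClosedImmersion e ∧
      ∀ (T' : Over S) (t : T' ⟶ T), (∃ l : T'.left ⟶ E, l ≫ e = t.left) ↔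
        J.comap (PicF.XTmap f t) ≤ I.comap (PicF.XTmap f t) := by
  let B : Scheme.{u} := T.left
  let E₀ : Over B := Over.mk (I.subschemeι ≫ PicF.XTproj f T)
  let X₀ : Over B := Over.mk (𝟙 B)
  let Xt₀ : Over B := Over.mk (PicF.XTproj f T)
  let Y₀ : Over B := Over.mk (J.subschemeι ≫ PicF.XTproj f T)
  let ιI : E₀ ⟶ Xt₀ := Over.homMk I.subschemeι rfl
  let y' : Y₀ ⟶ Xt₀ := Over.homMk J.subschemeι rfl
  let a : PT E₀ X₀ ⟶ Xt₀ := p2 E₀ X₀ ≫ ιI
  haveI : IsFinite E₀.hom := hI.1
  haveI : IsAffineHom E₀.hom := inferInstance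
  haveI : IsClosedImmersion y'.left := inferInstanceAs (IsClosedImmersion J.subschemeι)
  have hproj : ∀ s : B, ∃ U : B.affineOpens, s ∈ (U : B.Opens) ∧
      @Module.Projective Γ(B, U) _ Γ(E₀.left, E₀.hom ⁻¹ᵁ U) _
        (E₀.hom.app U).hom.toAlgebra.toModule := by
    intro s
    obtain ⟨U, hU, hsU, -⟩ := exists_isAffineOpen_mem_and_subset (X := B) (x := s) (U := ⊤) trivial
    exact ⟨⟨U, hU⟩, hsU, projective_of_isFinLocFree E₀ hI U hU⟩
  obtain ⟨Z, i, hi, -, hZ⟩ := factor_closed E₀ X₀ Xt₀ Y₀ a y' hproj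
  refine ⟨Z.left, i.left, hi, fun T' t => ?_⟩
  let T₁ : Over B := Over.mk t.left
  let g : T₁ ⟶ X₀ := Over.homMk t.left (Category.comp_id _)
  have hZ' := hZ T₁ g
  have step1 : (∃ l : T'.left ⟶ Z.left, l ≫ i.left = t.left) ↔ ∃ z : T₁ ⟶ Z, z ≫ i = g := by
    constructor
    · rintro ⟨l, hl⟩
      have hw : l ≫ Z.hom = T₁.hom := by
        have h1 : i.left ≫ X₀.hom = Z.hom := Over.w i
        rw [← h1, ← Category.assoc, hl]
        exact Category.comp_id _
      exact ⟨Over.homMk l hw, Over.OverMorphism.ext hl⟩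
    · rintro ⟨z, hz⟩
      exact ⟨z.left, congrArg (fun m => m.left) hz⟩
  rw [step1, hZ']
  -- unfold `Factors`
  let m := PicF.XTmap f t
  let W : Scheme.{u} := pullback t.left (I.subschemeι ≫ PicF.XTproj f T)
  let fstW : W ⟶ T'.left := pullback.fst t.left (I.subschemeι ≫ PicF.XTproj f T)
  let sndW : W ⟶ I.subscheme := pullback.snd t.left (I.subschemeι ≫ PicF.XTproj f T)
  have condW : fstW ≫ t.left = sndW ≫ I.subschemeι ≫ PicF.XTproj f T := pullback.condition
  let w : W ⟶ PicF.XT f T := sndW ≫ I.subschemeι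
  have step2 : Factors a y' g ↔ J ≤ w.ker := by
    rw [← factors_iff_le_ker]
    have hcomp : (PTmap E₀ g ≫ a).left = w := by
      have : PTmap E₀ g ≫ a = p2 E₀ T₁ ≫ ιI := by
        change PTmap E₀ g ≫ p2 E₀ X₀ ≫ ιI = _
        rw [PTmap_p2_assoc]
      rw [this]
      rfl
    constructor
    · rintro ⟨c, hc⟩
      refine ⟨c.left, ?_⟩
      have := congrArg (fun m => m.left) hc
      exact this.trans hcomp
    · rintro ⟨c₀, hc₀⟩
      have hover : c₀ ≫ Y₀.hom = (PT E₀ T₁).hom := by
        change c₀ ≫ J.subschemeι ≫ PicF.XTproj f T = sndW ≫ I.subschemeι ≫ PicF.XTproj f T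
        rw [← Category.assoc, hc₀, Category.assoc]
      refine ⟨Over.homMk c₀ hover, ?_⟩
      apply Over.OverMorphism.ext
      exact hc₀.trans hcomp.symm
  rw [step2]
  -- compare with the pullback `Q`
  let fstQ := pullback.fst m I.subschemeι
  let sndQ := pullback.snd m I.subschemeι
  have condQ : fstQ ≫ m = sndQ ≫ I.subschemeι := pullback.condition
  have hker : (fstQ ≫ m).ker = (I.comap m).map m := by
    rw [Scheme.Hom.ker_comp]
    rfl
  -- `α : W ⟶ Q`
  have hin : (w ≫ pullback.fst f T.hom) ≫ f = fstW ≫ T'.hom := by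
    have e1 : pullback.fst f T.hom ≫ f = PicF.XTproj f T ≫ T.hom := pullback.condition
    have e2 : t.left ≫ T.hom = T'.hom := Over.w t
    rw [Category.assoc, e1, ← e2, ← Category.assoc fstW, condW]
    simp only [w, Category.assoc]
  let inner : W ⟶ PicF.XT f T' := pullback.lift (w ≫ pullback.fst f T.hom) fstW hin
  have hinner : inner ≫ m = w := by
    apply pullback.hom_ext
    · rw [Category.assoc, XTmap_fst]
      exact pullback.lift_fst _ _ _
    · rw [Category.assoc, XTmap_snd, ← Category.assoc]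
      have : inner ≫ pullback.snd f T'.hom = fstW := pullback.lift_snd _ _ _
      rw [this, condW]
      simp only [w, Category.assoc]
  let α : W ⟶ pullback m I.subschemeι := pullback.lift inner sndW hinner
  have hα : α ≫ (fstQ ≫ m) = w := by
    rw [← Category.assoc]
    have : α ≫ fstQ = inner := pullback.lift_fst _ _ _
    rw [this, hinner]
  -- `β : Q ⟶ W`
  have hβc : (fstQ ≫ PicF.XTproj f T') ≫ t.left = sndQ ≫ I.subschemeι ≫ PicF.XTproj f T := by
    rw [Category.assoc, ← XTmap_snd, ← Category.assoc, condQ, Category.assoc]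
  let β : pullback m I.subschemeι ⟶ W := pullback.lift (fstQ ≫ PicF.XTproj f T') sndQ hβc
  have hβ : β ≫ w = fstQ ≫ m := by
    have : β ≫ sndW = sndQ := pullback.lift_snd _ _ _
    rw [condQ, ← this, Category.assoc]
  constructor
  · intro h
    rw [← le_map_iff_comap_le, ← hker, ← hβ]
    exact h.trans (β.le_ker_comp w)
  · intro h
    rw [← le_map_iff_comap_le, ← hker] at h
    rw [← hα]
    exact h.trans (α.le_ker_comp _)

end Groth.Agent.R2.H63.HilbApi
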