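import Mathlib
import Groth.Prelude.Def_HilbD
import Groth.Agent.R2.H63HilbApi

/-!
# helper63: the Hilbert functor of points of a closed subscheme

For a closed immersion `i : X ⟶ Y` over `S`, if `Hilb^d_{Y/S}` is representable by `(H, Z)`, then `Hilb^d_{X/S}` is
representable by a closed subscheme of `H`.
-/

set_option autoImplicit false
set_option linter.style.haveILetI false
set_option linter.unusedSectionVars false

open CategoryTheory Limits AlgebraicGeometry Opposite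

namespace Groth.Agent.R2.H63.HilbApi

universe u

open Scheme.IdealSheafData

section general

variable {A B : Scheme.{u}}

/-- the kernel of any base change of a closed immersion `c` along `m` is `c.ker.comap m` -/
theorem ker_of_isPullback {P C B' : Scheme.{u}} (p : P ⟶ B') (q : P ⟶ C) (m : B' ⟶ B) (c : C ⟶ B)
    [IsClosedImmersion c] (hp : IsPullback p q m c) : p.ker = c.ker.comap m := by
  rw [← ker_fst_of_isClosedImmersion c m, ← hp.isoPullback_hom_fst, Scheme.Hom.ker_comp_of_isIso]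

/-- for a monomorphism `j`, the pullback of `c ≫ j` along `j` is `c` -/
theorem isPullback_of_mono {C : Scheme.{u}} (j : A ⟶ B) [Mono j] (c : C ⟶ A) :
    IsPullback c (𝟙 C) j (c ≫ j) := by
  have h1 : IsPullback c (𝟙 C) (𝟙 A) c := IsPullback.of_vert_isIso ⟨by simp⟩
  have h2 : IsPullback (𝟙 A) (𝟙 A) j j := IsKernelPair.id_of_mono j
  simpa using h1.paste_horiz h2

theorem comap_map_of_isClosedImmersion (j : A ⟶ B) [IsClosedImmersion j] (W : A.IdealSheafData) :
    (W.map j).comap j = W := by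
  have h := ker_of_isPullback _ _ _ _ (isPullback_of_mono j W.subschemeι)
  rw [ker_subschemeι] at h
  exact h.symm

theorem map_comap_of_isClosedImmersion (j : A ⟶ B) [IsClosedImmersion j] (K : B.IdealSheafData)
    (hK : j.ker ≤ K) : (K.comap j).map j = K := by
  let c : K.subscheme ⟶ A := IsClosedImmersion.lift j K.subschemeι (by rwa [ker_subschemeι])
  have hc : c ≫ j = K.subschemeι := IsClosedImmersion.lift_fac _ _ _
  haveI : IsClosedImmersion (c ≫ j) := by rw [hc]; infer_instance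
  haveI : IsClosedImmersion c := IsClosedImmersion.of_comp c j
  have h := ker_of_isPullback _ _ _ _ (isPullback_of_mono j c)
  rw [hc, ker_subschemeι] at h
  rw [← h, map_ker, hc, ker_subschemeι]

/-- the closed subscheme cut out by `W.map j` is the closed subscheme cut out by `W` -/
theorem exists_iso_map (j : A ⟶ B) [IsClosedImmersion j] (W : A.IdealSheafData) :
    ∃ e : W.subscheme ⟶ (W.map j).subscheme, IsIso e ∧ e ≫ (W.map j).subschemeι = W.subschemeι ≫ j := by
  have h : IsIso (W.subschemeι ≫ j).toImage := inferInstance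
  exact ⟨(W.subschemeι ≫ j).toImage, h, (W.subschemeι ≫ j).toImage_imageι⟩

end general

variable {X Y S : Scheme.{u}} (i : X ⟶ Y) (g : Y ⟶ S)

/-- the morphism `X_T ⟶ Y_T` -/
noncomputable def jT (T : Over S) : PicF.XT (i ≫ g) T ⟶ PicF.XT g T :=
  pullback.map (i ≫ g) T.hom g T.hom i (𝟙 _) (𝟙 S) (Category.comp_id _) (by simp)

theorem push_eq_map (T : Over S) (I : (PicF.XT (i ≫ g) T).IdealSheafData) :
    HilbD.push i g T I = I.map (jT i g T) := rfl

theorem jT_fst (T : Over S) :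
    jT i g T ≫ pullback.fst g T.hom = pullback.fst (i ≫ g) T.hom ≫ i :=
  pullback.lift_fst _ _ _

theorem jT_snd (T : Over S) :
    jT i g T ≫ pullback.snd g T.hom = pullback.snd (i ≫ g) T.hom :=
  (pullback.lift_snd _ _ _).trans (Category.comp_id _)

theorem jT_proj (T : Over S) : jT i g T ≫ PicF.XTproj g T = PicF.XTproj (i ≫ g) T := jT_snd i g T

theorem isPullback_jT (T : Over S) :
    IsPullback (jT i g T) (pullback.fst (i ≫ g) T.hom) (pullback.fst g T.hom) i := by
  have s : IsPullback (jT i g T ≫ pullback.snd g T.hom) (pullback.fst (i ≫ g) T.hom) T.hom (i ≫ g) := by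
    rw [jT_snd]
    exact (IsPullback.of_hasPullback (i ≫ g) T.hom).flip
  exact IsPullback.of_right s (jT_fst i g T) (IsPullback.of_hasPullback g T.hom).flip

instance (T : Over S) [IsClosedImmersion i] : IsClosedImmersion (jT i g T) :=
  MorphismProperty.of_isPullback (isPullback_jT i g T).flip inferInstance

theorem jT_XTmap {T T' : Over S} (t : T' ⟶ T) :
    PicF.XTmap (i ≫ g) t ≫ jT i g T = jT i g T' ≫ PicF.XTmap g t := by
  apply pullback.hom_ext
  · rw [Category.assoc, jT_fst, ← Category.assoc, XTmap_fst, Category.assoc, XTmap_fst, jT_fst]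
  · rw [Category.assoc, jT_snd, XTmap_snd, Category.assoc, XTmap_snd, ← Category.assoc, jT_snd]

theorem isPullback_jT_XTmap {T T' : Over S} (t : T' ⟶ T) :
    IsPullback (jT i g T') (PicF.XTmap (i ≫ g) t) (PicF.XTmap g t) (jT i g T) := by
  have s : IsPullback (PicF.XTmap (i ≫ g) t ≫ pullback.fst (i ≫ g) T.hom) (jT i g T') i
      (PicF.XTmap g t ≫ pullback.fst g T.hom) := by
    rw [XTmap_fst, XTmap_fst]
    exact (isPullback_jT i g T').flip
  exact (IsPullback.of_right s (jT_XTmap i g t) (isPullback_jT i g T).flip).flip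

theorem ker_jT_comap [IsClosedImmersion i] {T T' : Over S} (t : T' ⟶ T) :
    (jT i g T).ker.comap (PicF.XTmap g t) = (jT i g T').ker :=
  (ker_of_isPullback _ _ _ _ (isPullback_jT_XTmap i g t)).symm

theorem ker_jT_le_map [IsClosedImmersion i] (T : Over S) (W : (PicF.XT (i ≫ g) T).IdealSheafData) :
    (jT i g T).ker ≤ W.map (jT i g T) :=
  W.subschemeι.le_ker_comp (jT i g T)

/-- `V(W) ⟶ T` is finite locally free of degree `d` iff `V(W.map j) ⟶ T` is -/
theorem isFinLocFreeOfDeg_map_iff [IsClosedImmersion i] (d : ℕ) (T : Over S)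
    (W : (PicF.XT (i ≫ g) T).IdealSheafData) :
    Mor2.IsFinLocFreeOfDeg d ((W.map (jT i g T)).subschemeι ≫ PicF.XTproj g T) ↔
      Mor2.IsFinLocFreeOfDeg d (W.subschemeι ≫ PicF.XTproj (i ≫ g) T) := by
  obtain ⟨e, he, hfac⟩ := exists_iso_map (jT i g T) W
  have h1 : W.subschemeι ≫ PicF.XTproj (i ≫ g) T
      = e ≫ (W.map (jT i g T)).subschemeι ≫ PicF.XTproj g T := by
    rw [← Category.assoc, hfac, Category.assoc, jT_proj]
  have h2 : (W.map (jT i g T)).subschemeι ≫ PicF.XTproj g T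
      = inv e ≫ W.subschemeι ≫ PicF.XTproj (i ≫ g) T := by
    rw [h1, IsIso.inv_hom_id_assoc]
  constructor
  · intro h
    rw [h1]
    exact isFinLocFreeOfDeg_iso_comp e _ h
  · intro h
    rw [h2]
    exact isFinLocFreeOfDeg_iso_comp (inv e) _ h

/-- the push-forward of an object -/
noncomputable def pushObj [IsClosedImmersion i] {d : ℕ} {T : Over S} (W : HilbD.Obj (i ≫ g) d T) :
    HilbD.Obj g d T :=
  ⟨W.1.map (jT i g T), (isFinLocFreeOfDeg_map_iff i g d T W.1).2 W.2⟩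

/-- **the Hilbert functor of a closed subscheme**: representability by a closed subscheme, in a form that also identifies
the classifying morphism. -/
theorem exists_universal_closed [IsClosedImmersion i] (d : ℕ) (H : Over S) (Z : HilbD.Obj g d H)
    (hZ : HilbD.IsUniversal g d H Z) :
    ∃ (H₁ : Over S) (ε : H₁ ⟶ H) (Z₁ : HilbD.Obj (i ≫ g) d H₁),
      IsClosedImmersion ε.left ∧ HilbD.IsUniversal (i ≫ g) d H₁ Z₁ ∧
      ∀ (T : Over S) (t₁ : T ⟶ H₁),
        HilbD.pull g (t₁ ≫ ε) Z.1 = (HilbD.pull (i ≫ g) t₁ Z₁.1).map (jT i g T) := by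
  obtain ⟨E, e, he, hE⟩ := exists_locus_le g Z.1 (jT i g H).ker Z.2.1
  let H₁ : Over S := Over.mk (e ≫ H.hom)
  let ε : H₁ ⟶ H := Over.homMk e rfl
  haveI : Mono ε := by
    constructor
    intro T a b hab
    apply Over.OverMorphism.ext
    have : a.left ≫ e = b.left ≫ e := congrArg (fun m => m.left) hab
    exact (cancel_mono e).1 this
  -- every morphism through `ε` has `ker j ≤ pull`
  have hle : ∀ (T : Over S) (t₁ : T ⟶ H₁),
      (jT i g T).ker ≤ Z.1.comap (PicF.XTmap g (t₁ ≫ ε)) := by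
    intro T t₁
    have := (hE T (t₁ ≫ ε)).1 ⟨t₁.left, rfl⟩
    rwa [ker_jT_comap] at this
  let K₁ : (PicF.XT g H₁).IdealSheafData := Z.1.comap (PicF.XTmap g ε)
  have hK₁ : Mor2.IsFinLocFreeOfDeg d (K₁.subschemeι ≫ PicF.XTproj g H₁) := obj_comap g ε Z.1 Z.2
  have hK₁le : (jT i g H₁).ker ≤ K₁ := by
    have := hle H₁ (𝟙 H₁)
    rwa [Category.id_comp] at this
  let W₁ : (PicF.XT (i ≫ g) H₁).IdealSheafData := K₁.comap (jT i g H₁)
  have hW₁map : W₁.map (jT i g H₁) = K₁ := map_comap_of_isClosedImmersion _ K₁ hK₁le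
  have hW₁ : Mor2.IsFinLocFreeOfDeg d (W₁.subschemeι ≫ PicF.XTproj (i ≫ g) H₁) := by
    rw [← isFinLocFreeOfDeg_map_iff, hW₁map]
    exact hK₁
  let Z₁ : HilbD.Obj (i ≫ g) d H₁ := ⟨W₁, hW₁⟩
  -- the key compatibility
  have hC : ∀ (T : Over S) (t₁ : T ⟶ H₁),
      HilbD.pull g (t₁ ≫ ε) Z.1 = (HilbD.pull (i ≫ g) t₁ Z₁.1).map (jT i g T) := by
    intro T t₁
    have h1 : HilbD.pull (i ≫ g) t₁ Z₁.1 = (Z.1.comap (PicF.XTmap g (t₁ ≫ ε))).comap (jT i g T) := by
      rw [pull_eq_comap]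
      change ((Z.1.comap (PicF.XTmap g ε)).comap (jT i g H₁)).comap (PicF.XTmap (i ≫ g) t₁) = _
      rw [← comap_comp, ← comap_comp, ← comap_comp, jT_XTmap, Category.assoc, ← XTmap_comp]
    rw [h1, map_comap_of_isClosedImmersion _ _ (hle T t₁), pull_eq_comap]
  refine ⟨H₁, ε, Z₁, he, ?_, hC⟩
  intro T W
  obtain ⟨t, ht, htu⟩ := hZ T (pushObj i g W)
  have ht' : Z.1.comap (PicF.XTmap g t) = W.1.map (jT i g T) := by
    rw [← pull_eq_comap]
    exact ht
  have hfac : ∃ l : T.left ⟶ E, l ≫ e = t.left := by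
    rw [hE T t, ker_jT_comap, ht']
    exact ker_jT_le_map i g T W.1
  obtain ⟨l, hl⟩ := hfac
  have hlw : l ≫ H₁.hom = T.hom := by
    change l ≫ e ≫ H.hom = T.hom
    rw [← Category.assoc, hl]
    exact Over.w t
  let t₁ : T ⟶ H₁ := Over.homMk l hlw
  have ht₁ : t₁ ≫ ε = t := Over.OverMorphism.ext hl
  have hinj : ∀ W' W'' : (PicF.XT (i ≫ g) T).IdealSheafData,
      W'.map (jT i g T) = W''.map (jT i g T) → W' = W'' := by
    intro W' W'' h
    rw [← comap_map_of_isClosedImmersion (jT i g T) W', h, comap_map_of_isClosedImmersion]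
  refine ⟨t₁, ?_, ?_⟩
  · apply hinj
    rw [← hC T t₁, ht₁]
    exact ht
  · intro t₁' ht₁'
    have h2 : HilbD.pull g (t₁' ≫ ε) Z.1 = (pushObj i g W).1 := by
      rw [hC T t₁', ht₁']
      rfl
    have h3 : t₁' ≫ ε = t₁ ≫ ε := (htu _ h2).trans ht₁.symm
    exact (cancel_mono ε).1 h3

/-- **S1168**: `Hilb^d` of a closed subscheme is representable, and the classifying morphism to `Hilb^d` of the
ambient scheme is a closed immersion. -/
theorem representable_comp_closedImmersion [IsClosedImmersion i] (d : ℕ) (H : Over S)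
    (Z : HilbD.Obj g d H) (hZ : HilbD.IsUniversal g d H Z) :
    HilbD.Representable (i ≫ g) d ∧
    ∀ (H' : Over S) (Z' : HilbD.Obj (i ≫ g) d H') (_ : HilbD.IsUniversal (i ≫ g) d H' Z') (m : H' ⟶ H),
      HilbD.pull g m Z.1 = HilbD.push i g H' Z'.1 → IsClosedImmersion m.left := by
  obtain ⟨H₁, ε, Z₁, hε, hU, hC⟩ := exists_universal_closed i g d H Z hZ
  refine ⟨⟨H₁, Z₁, hU⟩, ?_⟩
  intro H' Z' hZ' m hm
  obtain ⟨φ, hφ, -⟩ := hU H' Z'
  obtain ⟨ψ, hψ, -⟩ := hZ' H₁ Z₁
  have hφ' : HilbD.pull (i ≫ g) φ Z₁.1 = Z'.1 := hφ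
  have hψ' : HilbD.pull (i ≫ g) ψ Z'.1 = Z₁.1 := hψ
  have h1 : φ ≫ ψ = 𝟙 H' := by
    obtain ⟨u, -, hu⟩ := hZ' H' Z'
    have e1 : HilbD.pull (i ≫ g) (φ ≫ ψ) Z'.1 = Z'.1 := by rw [pull_comp, hψ', hφ']
    have e2 : HilbD.pull (i ≫ g) (𝟙 H') Z'.1 = Z'.1 := pull_id _ _ _
    exact (hu _ e1).trans (hu _ e2).symm
  have h2 : ψ ≫ φ = 𝟙 H₁ := by
    obtain ⟨u, -, hu⟩ := hU H₁ Z₁
    have e1 : HilbD.pull (i ≫ g) (ψ ≫ φ) Z₁.1 = Z₁.1 := by rw [pull_comp, hφ', hψ']
    have e2 : HilbD.pull (i ≫ g) (𝟙 H₁) Z₁.1 = Z₁.1 := pull_id _ _ _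
    exact (hu _ e1).trans (hu _ e2).symm
  haveI : IsIso φ := ⟨ψ, h1, h2⟩
  have hm' : m = φ ≫ ε := by
    obtain ⟨u, -, hu⟩ := hZ H' (pushObj i g Z')
    have e1 : HilbD.pull g (φ ≫ ε) Z.1 = (pushObj i g Z').1 := by
      rw [hC, hφ']
      rfl
    exact (hu m hm).trans (hu _ e1).symm
  rw [hm']
  haveI : IsIso φ.left := inferInstanceAs (IsIso ((Over.forget S).map φ))
  change IsClosedImmersion (φ.left ≫ ε.left)
  infer_instance

end Groth.Agent.R2.H63.HilbApi
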