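import Mathlib
import Groth.Prelude.Def_HilbD
import Groth.Agent.R2.H63HilbApi
import Groth.Agent.R2.H63ClosedDescFpqc
import Groth.Agent.Lib.Helper12Flat
import Groth.Agent.Lib.Helper12Descent

/-!
# helper63: the Hilbert functor of points satisfies fpqc descent for a single covering morphism
-/

set_option autoImplicit false
set_option linter.style.haveILetI false
set_option linter.unusedSectionVars false

open CategoryTheory Limits AlgebraicGeometry Opposite

namespace Groth.Agent.R2.H63.HilbApi

universe u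

open Scheme.IdealSheafData Groth.Agent.R2.H63.ClosedDescFpqc

variable {X S : Scheme.{u}} (f : X ⟶ S)

/-- finite locally free of degree `d` descends along flat quasi-compact surjective morphisms -/
theorem isFinLocFreeOfDeg_of_isPullback_of_fpqc {d : ℕ} {P A B C : Scheme.{u}} (fst : P ⟶ A)
    (snd : P ⟶ B) (a : A ⟶ C) (b : B ⟶ C) (h : IsPullback fst snd a b)
    [Flat b] [Surjective b] [QuasiCompact b]
    (hs : Mor2.IsFinLocFreeOfDeg d snd) : Mor2.IsFinLocFreeOfDeg d a := by
  obtain ⟨⟨h1, h2, h3⟩, h4⟩ := hs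
  have hQ : (@Surjective ⊓ @Flat ⊓ @QuasiCompact : MorphismProperty Scheme.{u}) b :=
    ⟨⟨inferInstance, inferInstance⟩, inferInstance⟩
  haveI := Groth.Agent.Lib.Helper12.descendsAlong_isFinite.{u}
  haveI hfin : IsFinite a :=
    MorphismProperty.of_isPullback_of_descendsAlong (P := @IsFinite)
      (Q := (@Surjective ⊓ @Flat ⊓ @QuasiCompact : MorphismProperty Scheme.{u})) h.flip hQ h1
  haveI hlfp : LocallyOfFinitePresentation a :=
    MorphismProperty.of_isPullback_of_descendsAlong (P := @LocallyOfFinitePresentation)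
      (Q := (@Surjective ⊓ @Flat ⊓ @QuasiCompact : MorphismProperty Scheme.{u})) h.flip hQ h3
  haveI hflat : Flat a := by
    haveI : Flat snd := h2
    haveI : Flat fst := MorphismProperty.of_isPullback (P := @Flat) h.flip inferInstance
    haveI : Surjective fst := MorphismProperty.of_isPullback (P := @Surjective) h.flip inferInstance
    haveI : Flat (fst ≫ a) := by rw [h.w]; infer_instance
    exact Groth.Agent.Lib.Helper12.flat_of_comp_of_flat_of_surjective fst a
  refine ⟨⟨hfin, hflat, hlfp⟩, fun y => ?_⟩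
  obtain ⟨y', rfl⟩ := b.surjective y
  rw [← Scheme.Hom.finrank_of_isPullback fst snd a b h y', h4]

/-- **fpqc descent for the Hilbert functor of points along a single covering morphism** -/
theorem exists_unique_descent (d : ℕ) (T : Over S) {T' : Scheme.{u}} (g : T' ⟶ T.left)
    [QuasiCompact g] [Flat g] [Surjective g] (Z' : HilbD.Obj f d (HilbD.coverOver T g))
    (hZ' : HilbD.pull f (HilbD.overlapFst T g) Z'.1 = HilbD.pull f (HilbD.overlapSnd T g) Z'.1) :
    ∃! I : (PicF.XT f T).IdealSheafData, Mor2.IsFinLocFreeOfDeg d (I.subschemeι ≫ PicF.XTproj f T) ∧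
      HilbD.pull f (HilbD.coverHom T g) I = Z'.1 := by
  let TO' : Over S := HilbD.coverOver T g
  let c : TO' ⟶ T := HilbD.coverHom T g
  let O : Over S := HilbD.overlapOver T g
  let p₁ : O ⟶ TO' := HilbD.overlapFst T g
  let p₂ : O ⟶ TO' := HilbD.overlapSnd T g
  let m : PicF.XT f TO' ⟶ PicF.XT f T := PicF.XTmap f c
  have hsq : IsPullback m (PicF.XTproj f TO') (PicF.XTproj f T) g := isPullback_XTmap f c
  haveI : Flat m := MorphismProperty.of_isPullback (P := @Flat) hsq.flip inferInstance
  haveI : Surjective m := MorphismProperty.of_isPullback (P := @Surjective) hsq.flip inferInstance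
  haveI : QuasiCompact m := MorphismProperty.of_isPullback (P := @QuasiCompact) hsq.flip inferInstance
  -- the comparison morphism `X_{T'} ×_{X_T} X_{T'} ⟶ X_{T' ×_T T'}`
  have hm_snd : m ≫ PicF.XTproj f T = PicF.XTproj f TO' ≫ g := XTmap_snd f c
  have hm_fst : m ≫ pullback.fst f T.hom = pullback.fst f TO'.hom := XTmap_fst f c
  have cond₁ : (pullback.fst m m ≫ PicF.XTproj f TO') ≫ g = (pullback.snd m m ≫ PicF.XTproj f TO') ≫ g := by
    rw [Category.assoc, Category.assoc, ← hm_snd, ← Category.assoc, ← Category.assoc, pullback.condition]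
  let r : pullback m m ⟶ pullback g g :=
    pullback.lift (pullback.fst m m ≫ PicF.XTproj f TO') (pullback.snd m m ≫ PicF.XTproj f TO') cond₁
  have hr1 : r ≫ pullback.fst g g = pullback.fst m m ≫ PicF.XTproj f TO' := pullback.lift_fst _ _ _
  have hr2 : r ≫ pullback.snd g g = pullback.snd m m ≫ PicF.XTproj f TO' := pullback.lift_snd _ _ _
  have cond₂ : (pullback.fst m m ≫ pullback.fst f TO'.hom) ≫ f = r ≫ O.hom := by
    have e1 : pullback.fst f TO'.hom ≫ f = PicF.XTproj f TO' ≫ TO'.hom := pullback.condition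
    change _ = r ≫ (pullback.fst g g ≫ g) ≫ T.hom
    rw [Category.assoc, e1, ← Category.assoc r, ← Category.assoc r, hr1]
    simp only [Category.assoc]
    rfl
  let c₂ : pullback m m ⟶ PicF.XT f O :=
    pullback.lift (pullback.fst m m ≫ pullback.fst f TO'.hom) r cond₂
  have hc₂1 : c₂ ≫ pullback.fst f O.hom = pullback.fst m m ≫ pullback.fst f TO'.hom :=
    pullback.lift_fst _ _ _
  have hc₂2 : c₂ ≫ pullback.snd f O.hom = r := pullback.lift_snd _ _ _
  have hp1 : c₂ ≫ PicF.XTmap f p₁ = pullback.fst m m := by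
    apply pullback.hom_ext
    · rw [Category.assoc, XTmap_fst, hc₂1]
    · rw [Category.assoc, XTmap_snd, ← Category.assoc, hc₂2]
      exact hr1
  have hp2 : c₂ ≫ PicF.XTmap f p₂ = pullback.snd m m := by
    apply pullback.hom_ext
    · rw [Category.assoc, XTmap_fst, hc₂1, ← hm_fst, ← Category.assoc, pullback.condition, Category.assoc]
    · rw [Category.assoc, XTmap_snd, ← Category.assoc, hc₂2]
      exact hr2
  have hdesc : Z'.1.comap (pullback.fst m m) = Z'.1.comap (pullback.snd m m) := by
    rw [pull_eq_comap, pull_eq_comap] at hZ'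
    rw [← hp1, ← hp2, comap_comp, comap_comp]
    exact congrArg (fun J => J.comap c₂) hZ'
  have hmain : (Z'.1.map m).comap m = Z'.1 := comap_map_eq_of_descent m Z'.1 hdesc
  -- finite local freeness
  have hflf : ∀ I : (PicF.XT f T).IdealSheafData, I.comap m = Z'.1 →
      Mor2.IsFinLocFreeOfDeg d (I.subschemeι ≫ PicF.XTproj f T) := by
    intro I hI
    have h1 : Mor2.IsFinLocFreeOfDeg d ((I.comap m).subschemeι ≫ PicF.XTproj f TO') := by
      rw [hI]
      exact Z'.2
    have h2 : Mor2.IsFinLocFreeOfDeg d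
        (pullback.fst m I.subschemeι ≫ PicF.XTproj f TO') := by
      have := isFinLocFreeOfDeg_iso_comp (I.comapIso m).inv _ h1
      rwa [← Category.assoc, comapIso_inv_subschemeι] at this
    haveI : Flat c.left := inferInstanceAs (Flat g)
    haveI : Surjective c.left := inferInstanceAs (Surjective g)
    haveI : QuasiCompact c.left := inferInstanceAs (QuasiCompact g)
    exact isFinLocFreeOfDeg_of_isPullback_of_fpqc _ _ _ _ (isPullback_comap f c I) h2
  refine ⟨Z'.1.map m, ⟨hflf _ hmain, ?_⟩, ?_⟩
  · rw [pull_eq_comap]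
    exact hmain
  · rintro I ⟨-, hI⟩
    rw [pull_eq_comap] at hI
    apply comap_injective_of_flat_surjective m
    rw [hI, hmain]

end Groth.Agent.R2.H63.HilbApi
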