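import Mathlib
import Groth.Prelude.Def_HilbD
import Groth.Agent.R2.H63HilbApi

/-!
# helper63: a scheme representing the Hilbert functor of points is separated
-/

set_option autoImplicit false
set_option linter.style.haveILetI false
set_option linter.unusedSectionVars false

open CategoryTheory Limits AlgebraicGeometry Opposite

namespace Groth.Agent.R2.H63.HilbApi

universe u

open Scheme.IdealSheafData

variable {X S : Scheme.{u}} (f : X ⟶ S)

/-- the equaliser locus: for two `S`-morphisms `a b : T ⟶ H` into a representing object of the Hilbert functor, the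
locus where they agree is a closed subscheme of `T`. -/
theorem exists_eqLocus (d : ℕ) (H : Over S) (Z : HilbD.Obj f d H) (hZ : HilbD.IsUniversal f d H Z)
    {T : Over S} (a b : T ⟶ H) :
    ∃ (E : Scheme.{u}) (e : E ⟶ T.left), IsClosedImmersion e ∧
      ∀ (T' : Over S) (t : T' ⟶ T), (∃ l : T'.left ⟶ E, l ≫ e = t.left) ↔ t ≫ a = t ≫ b := by
  let Ia := Z.1.comap (PicF.XTmap f a)
  let Ib := Z.1.comap (PicF.XTmap f b)
  have hIa : Mor2.IsFinLocFreeOfDeg d (Ia.subschemeι ≫ PicF.XTproj f T) := obj_comap f a Z.1 Z.2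
  have hIb : Mor2.IsFinLocFreeOfDeg d (Ib.subschemeι ≫ PicF.XTproj f T) := obj_comap f b Z.1 Z.2
  obtain ⟨E₁, e₁, he₁, h₁⟩ := exists_locus_le f Ia Ib hIa.1
  obtain ⟨E₂, e₂, he₂, h₂⟩ := exists_locus_le f Ib Ia hIb.1
  refine ⟨pullback e₁ e₂, pullback.fst e₁ e₂ ≫ e₁, inferInstance, fun T' t => ?_⟩
  have key : (∃ l : T'.left ⟶ pullback e₁ e₂, l ≫ pullback.fst e₁ e₂ ≫ e₁ = t.left) ↔
      ((∃ l : T'.left ⟶ E₁, l ≫ e₁ = t.left) ∧ (∃ l : T'.left ⟶ E₂, l ≫ e₂ = t.left)) := by
    constructor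
    · rintro ⟨l, hl⟩
      refine ⟨⟨l ≫ pullback.fst e₁ e₂, by rw [Category.assoc, hl]⟩,
        ⟨l ≫ pullback.snd e₁ e₂, ?_⟩⟩
      rw [Category.assoc, ← pullback.condition, hl]
    · rintro ⟨⟨l₁, hl₁⟩, ⟨l₂, hl₂⟩⟩
      refine ⟨pullback.lift l₁ l₂ (hl₁.trans hl₂.symm), ?_⟩
      rw [← Category.assoc, pullback.lift_fst, hl₁]
  rw [key, h₁ T' t, h₂ T' t]
  have e1 : Ia.comap (PicF.XTmap f t) = HilbD.pull f (t ≫ a) Z.1 := by
    rw [pull_eq_comap, XTmap_comp, comap_comp]
  have e2 : Ib.comap (PicF.XTmap f t) = HilbD.pull f (t ≫ b) Z.1 := by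
    rw [pull_eq_comap, XTmap_comp, comap_comp]
  rw [e1, e2]
  constructor
  · rintro ⟨h1, h2⟩
    have heq : HilbD.pull f (t ≫ a) Z.1 = HilbD.pull f (t ≫ b) Z.1 := le_antisymm h2 h1
    obtain ⟨g₀, -, hg₀⟩ := hZ T' (pullObj f (t ≫ b) Z)
    exact (hg₀ (t ≫ a) heq).trans (hg₀ (t ≫ b) rfl).symm
  · intro h
    rw [h]
    exact ⟨le_rfl, le_rfl⟩

/-- **a scheme representing the Hilbert functor of points is separated over the base** -/
theorem isSeparated_of_isUniversal (d : ℕ) (H : Over S) (Z : HilbD.Obj f d H)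
    (hZ : HilbD.IsUniversal f d H Z) : IsSeparated H.hom := by
  let PO : Over S := Over.mk (pullback.fst H.hom H.hom ≫ H.hom)
  let a : PO ⟶ H := Over.homMk (pullback.fst H.hom H.hom) rfl
  let b : PO ⟶ H := Over.homMk (pullback.snd H.hom H.hom) pullback.condition.symm
  obtain ⟨E, e, he, hE⟩ := exists_eqLocus f d H Z hZ a b
  let Δ : H.left ⟶ pullback H.hom H.hom := pullback.diagonal H.hom
  -- `e` equalises the projections
  let EO : Over S := Over.mk (e ≫ PO.hom)
  let eO : EO ⟶ PO := Over.homMk e rfl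
  have h1 : eO ≫ a = eO ≫ b := (hE EO eO).1 ⟨𝟙 _, Category.id_comp _⟩
  have h1' : e ≫ pullback.fst H.hom H.hom = e ≫ pullback.snd H.hom H.hom :=
    congrArg (fun m => m.left) h1
  -- the diagonal factors through `e`
  let ΔO : H ⟶ PO := Over.homMk Δ (by
    change pullback.diagonal H.hom ≫ pullback.fst H.hom H.hom ≫ H.hom = H.hom
    rw [pullback.diagonal_fst_assoc])
  have h2 : ΔO ≫ a = ΔO ≫ b := by
    apply Over.OverMorphism.ext
    change pullback.diagonal H.hom ≫ pullback.fst H.hom H.hom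
      = pullback.diagonal H.hom ≫ pullback.snd H.hom H.hom
    rw [pullback.diagonal_fst, pullback.diagonal_snd]
  obtain ⟨l, hl⟩ := (hE H ΔO).2 h2
  have hl' : l ≫ e = Δ := hl
  let r : E ⟶ H.left := e ≫ pullback.fst H.hom H.hom
  have hrΔ : r ≫ Δ = e := by
    apply pullback.hom_ext
    · rw [Category.assoc, pullback.diagonal_fst, Category.comp_id]
    · rw [Category.assoc, pullback.diagonal_snd, Category.comp_id]
      exact h1'
  have hlr : l ≫ r = 𝟙 _ := by
    change l ≫ e ≫ pullback.fst H.hom H.hom = 𝟙 _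
    rw [← Category.assoc, hl', pullback.diagonal_fst]
  have hrl : r ≫ l = 𝟙 _ := by
    haveI : Mono e := inferInstance
    rw [← cancel_mono e, Category.assoc, hl', hrΔ, Category.id_comp]
  haveI : IsIso l := ⟨r, hlr, hrl⟩
  have : IsClosedImmersion Δ := by
    rw [← hl']
    infer_instance
  exact ⟨this⟩

end Groth.Agent.R2.H63.HilbApi
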