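import Mathlib
import Groth.Prelude.Def_AutFam
import Groth.Agent.R2.H63FactorClosed

/-!
# helper63: Hom schemes out of diagonalizable groups and closed subgroups

* `MultProj.projective_DS`: the coordinate ring of `D_S(M)` (any `M`) is projective over affine opens.
* `EqLocus.repHom_closedImmersion`: if `A_H`, `A_G` represent `Hom_gr(E, H)`, `Hom_gr(E, G)` for `E` affine
  with locally projective coordinate ring and `H ⟶ G` is a closed subgroup, then `A_H ⟶ A_G` is a closed
  immersion (of finite presentation if `H ⟶ G` is).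
-/

set_option autoImplicit false
set_option linter.style.haveILetI false

section partA

open CategoryTheory Limits AlgebraicGeometry Opposite

namespace Groth.Agent.R2.H63.MultProj

universe u

instance isAffineHom_DS {S : Scheme.{u}} (M : Type) [AddCommGroup M] :
    IsAffineHom (Red.DS S M).hom := by
  change IsAffineHom (pullback.snd _ _)
  have h0 : IsAffineHom (Red.diag (ULift.{u} ℤ) M).hom :=
    inferInstanceAs (IsAffineHom (Spec.map _))
  exact MorphismProperty.pullback_snd (P := @IsAffineHom) _ _ h0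

/-- the coordinate ring of a diagonalizable group `D_S(M)` (`M` arbitrary) is projective over every
affine open of `S`. -/
theorem projective_DS {S : Scheme.{u}} (M : Type) [AddCommGroup M] (V : S.Opens)
    (hV : IsAffineOpen V) :
    @Module.Projective Γ(S, V) _ Γ((Red.DS S M).left, (Red.DS S M).hom ⁻¹ᵁ V) _
      ((Red.DS S M).hom.app V).hom.toAlgebra.toModule := by
  haveI : IsAffine (V : Scheme.{u}) := hV
  let τ : S ⟶ Spec (CommRingCat.of (ULift.{u} ℤ)) := Limits.IsTerminal.from specULiftZIsTerminal S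
  have sq3 : IsPullback (pullback.fst (Red.diag (ULift.{u} ℤ) M).hom τ)
      (Red.DS S M).hom (Red.diag (ULift.{u} ℤ) M).hom τ :=
    IsPullback.of_hasPullback _ _
  have sq := (IsPullback.of_hasPullback (Red.DS S M).hom V.ι).paste_horiz sq3
  haveI : IsAffine (Red.diag (ULift.{u} ℤ) M).left :=
    inferInstanceAs (IsAffine (Spec _))
  have hP := projective_baseChange sq (projective_diag (ULift.{u} ℤ) M)
  refine projective_of_flat_cover (Red.DS S M).hom V hV (ι := PUnit.{u + 1})
    (fun _ => (V : Scheme.{u})) (fun _ => V.ι) ?_ ?_ (fun _ => pullback (Red.DS S M).hom V.ι)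
    (fun _ => pullback.fst _ _) (fun _ => pullback.snd _ _)
    (fun _ => IsPullback.of_hasPullback _ _) (fun _ => hP)
  · intro _ x _
    exact x.2
  · intro v hv
    exact ⟨PUnit.unit, ⟨v, hv⟩, rfl⟩

end Groth.Agent.R2.H63.MultProj

end partA

section partB

open CategoryTheory Limits AlgebraicGeometry Opposite MonoidalCategory CartesianMonoidalCategory
  MonObj

namespace Groth.Agent.R2.H63.EqLocus

universe u

open Groth.Agent.R2.H63.Stab

section homRep

variable {S : Scheme.{u}} (E H G : Over S) [GrpObj E] [GrpObj H] [GrpObj G]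

/-- the scheme of homomorphisms `E ⟶ H` is a closed subscheme of the scheme of homomorphisms `E ⟶ G`,
for `H ⟶ G` a closed subgroup and `E` affine with locally projective coordinate ring. -/
theorem repHom_closedImmersion [IsAffineHom E.hom]
    (hproj : ∀ s : S, ∃ U : S.affineOpens, s ∈ (U : S.Opens) ∧
      @Module.Projective Γ(S, U) _ Γ(E.left, E.hom ⁻¹ᵁ U) _
        (E.hom.app U).hom.toAlgebra.toModule)
    (k : H ⟶ G) [IsMonHom k] [IsClosedImmersion k.left]
    (AH : Over S) (υH : E ⊗ AH ⟶ H) (hAH : AutFam.RepresentsHom E H AH υH)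
    (AG : Over S) (υG : E ⊗ AG ⟶ G) (hAG : AutFam.RepresentsHom E G AG υG)
    (φ : AH ⟶ AG) (hφ : (E ◁ φ) ≫ υG = υH ≫ k) :
    IsClosedImmersion φ.left ∧
      (LocallyOfFinitePresentation k.left → LocallyOfFinitePresentation φ.left) := by
  haveI hmono : Mono k := by
    have : Mono ((Over.forget S).map k) := inferInstanceAs (Mono k.left)
    exact (Over.forget S).mono_of_mono_map inferInstance
  let a : PT E AG ⟶ G := lift (p2 E AG) (p1 E AG) ≫ υG
  obtain ⟨Z, ζ, hζ, hfp, hZ⟩ := factor_closed E AG G H a k hproj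
  haveI hζmono : Mono ζ := by
    have : Mono ((Over.forget S).map ζ) := inferInstanceAs (Mono ζ.left)
    exact (Over.forget S).mono_of_mono_map inferInstance
  have hPa : ∀ {T : Over S} (g : T ⟶ AG),
      PTmap E g ≫ a = lift (p2 E T) (p1 E T ≫ g) ≫ υG := by
    intro T g
    change PTmap E g ≫ lift (p2 E AG) (p1 E AG) ≫ υG = _
    rw [← Category.assoc, comp_lift, PTmap_p2, PTmap_p1]
  -- φ factors through Z
  have hφfac : Factors a k φ := by
    refine ⟨lift (p2 E AH) (p1 E AH) ≫ υH, ?_⟩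
    rw [hPa, Category.assoc, ← hφ, ← Category.assoc, lift_whiskerLeft]
  obtain ⟨z₀, hz₀⟩ := (hZ AH φ).2 hφfac
  -- the universal family over Z
  obtain ⟨c, hc⟩ := (hZ Z ζ).1 ⟨𝟙 _, Category.id_comp _⟩
  obtain ⟨ψ, hψ⟩ : ∃ ψ : E ⊗ Z ⟶ H, ψ ≫ k = (E ◁ ζ) ≫ υG := by
    refine ⟨pair E (snd E Z) (fst E Z) ≫ c, ?_⟩
    rw [Category.assoc, hc, hPa, ← Category.assoc, comp_lift, pair_p2, pair_p1_assoc]
    congr 1
  have hυG := hAG.1
  have hψhom : AutFam.IsHomFamily E H ψ := by
    intro X g₁ g₂ t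
    rw [← cancel_mono k, Category.assoc, hψ, ← Category.assoc, lift_whiskerLeft,
      hυG X g₁ g₂ (t ≫ ζ), MonObj.mul_comp, Category.assoc, Category.assoc, hψ,
      ← Category.assoc, ← Category.assoc, lift_whiskerLeft, lift_whiskerLeft]
  obtain ⟨w, hw, -⟩ := hAH.2 Z ψ hψhom
  have hw' : (E ◁ w) ≫ υH = ψ := hw
  -- w ≫ φ = ζ
  have hζfam : AutFam.IsHomFamily E G ((E ◁ ζ) ≫ υG) := by
    intro X g₁ g₂ t
    rw [← Category.assoc, ← Category.assoc, ← Category.assoc, lift_whiskerLeft, lift_whiskerLeft,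
      lift_whiskerLeft]
    exact hυG X g₁ g₂ (t ≫ ζ)
  have h1 : w ≫ φ = ζ := by
    obtain ⟨v, -, hv⟩ := hAG.2 Z ((E ◁ ζ) ≫ υG) hζfam
    have e1 : w ≫ φ = v := hv _ (by
      change (E ◁ (w ≫ φ)) ≫ υG = _
      rw [MonoidalCategory.whiskerLeft_comp, Category.assoc, hφ, ← Category.assoc, hw', hψ])
    have e2 : ζ = v := hv _ rfl
    rw [e1, e2]
  have h2 : w ≫ z₀ = 𝟙 Z := by
    rw [← cancel_mono ζ, Category.assoc, hz₀, h1, Category.id_comp]
  have h3 : z₀ ≫ w = 𝟙 AH := by
    have hυH := hAH.1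
    obtain ⟨v, -, hv⟩ := hAH.2 AH υH hυH
    have e1 : z₀ ≫ w = v := hv _ (by
      change (E ◁ (z₀ ≫ w)) ≫ υH = υH
      rw [MonoidalCategory.whiskerLeft_comp, Category.assoc, hw', ← cancel_mono k, Category.assoc,
        hψ, ← Category.assoc, ← MonoidalCategory.whiskerLeft_comp, hz₀, hφ])
    have e2 : 𝟙 AH = v := hv _ (by
      change (E ◁ 𝟙 AH) ≫ υH = υH
      rw [MonoidalCategory.whiskerLeft_id, Category.id_comp])
    rw [e1, e2]
  haveI : IsIso z₀ := ⟨w, h3, h2⟩
  haveI : IsIso z₀.left := inferInstanceAs (IsIso ((Over.forget S).map z₀))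
  have hφl : φ.left = z₀.left ≫ ζ.left := by
    rw [← hz₀]
    rfl
  rw [hφl]
  exact ⟨inferInstance, fun h => by haveI := hfp h; infer_instance⟩

end homRep

end Groth.Agent.R2.H63.EqLocus

end partB
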