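import Groth.Agent.R2.H97MTSpec
import Groth.Agent.R2.H55DSPts
import Groth.Agent.R2.H37Grouplike

/-!
# PROJ:mt-hom PKG-H (helper97): homomorphisms `D_S(M) ⟶ D_S(N)` are Zariski-locally `D_S(φ)`
-/

set_option autoImplicit false

universe u

open CategoryTheory MonoidalCategory CartesianMonoidalCategory MonObj GrpObj AlgebraicGeometry
  CategoryTheory.Limits

namespace Groth.Agent.R2.H97.MTHom

open Groth.Agent.Lib.Helper27.GaGm Groth.Agent.R2.H55.DSPts Groth.Agent.R2.H37.GL MonoidAlgebra

variable {S : Scheme.{u}} {M N : Type} [AddCommGroup M] [AddCommGroup N]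

section Alg

variable {C : Type u} [CommRing C] {G : Type} [CommGroup G]

omit [CommGroup G] in
lemma eq_single_of_coeff {z : MonoidAlgebra C G} (g : G) (h1 : z.coeff g = 1)
    (h0 : ∀ g', g' ≠ g → z.coeff g' = 0) : z = single g 1 := by
  classical
  ext g'
  rw [coeff_single, Finsupp.single_apply]
  by_cases h : g = g'
  · subst h
    rw [if_pos rfl, h1]
  · rw [if_neg h, h0 g' (Ne.symm h)]

lemma exists_eq_single_of_isGL [IsDomain C] {z : MonoidAlgebra C G} (hz : IsGL z) :
    ∃ g, z = single g 1 := by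
  classical
  have hsum : z.coeff.sum (fun _ c => c) = 1 := by rw [← aug_eq_sum]; exact hz.2
  obtain ⟨g, hg⟩ : ∃ g, z.coeff g ≠ 0 := by
    by_contra hcon
    push Not at hcon
    have : z.coeff.sum (fun _ c => c) = 0 := by
      apply Finset.sum_eq_zero
      intro g _
      exact hcon g
    rw [this] at hsum
    exact zero_ne_one hsum
  have hg1 : z.coeff g = 1 := by
    rcases (IsIdempotentElem.iff_eq_zero_or_one).1 (hz.isIdempotentElem g) with h | h
    · exact absurd h hg
    · exact h
  refine ⟨g, eq_single_of_coeff g hg1 fun g' hne => ?_⟩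
  have := hz.coeff_mul g g'
  rw [if_neg (Ne.symm hne), hg1, _root_.one_mul] at this
  exact this

/-- The local form of a multiplicative family of group-like elements. -/
theorem exists_local_form {B : Type u} [CommRing B] {N : Type} [AddCommGroup N] (hN : AddGroup.FG N)
    (ζ : N → MonoidAlgebra B G) (hGL : ∀ n, IsGL (ζ n)) (hadd : ∀ n n', ζ (n + n') = ζ n * ζ n')
    (h0 : ζ 0 = 1) (𝔭 : Ideal B) [𝔭.IsPrime] :
    ∃ (ψ : Multiplicative N →* G) (b : B), b ∉ 𝔭 ∧
      ∀ {C : Type u} [CommRing C] (θ : B →+* C), IsUnit (θ b) →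
        ∀ n, mapRingHom G θ (ζ n) = single (ψ (Multiplicative.ofAdd n)) 1 := by
  classical
  let K := B ⧸ 𝔭
  let θ₀ : B →+* K := Ideal.Quotient.mk 𝔭
  have hex : ∀ n, ∃ g, mapRingHom G θ₀ (ζ n) = single g 1 := fun n =>
    exists_eq_single_of_isGL ((hGL n).map θ₀)
  choose ψ₀ hψ₀ using hex
  have h1K : (1 : K) ≠ 0 := one_ne_zero
  have hψadd : ∀ n n', ψ₀ (n + n') = ψ₀ n * ψ₀ n' := by
    intro n n'
    apply (single_left_inj h1K).1
    rw [← hψ₀, hadd, map_mul, hψ₀, hψ₀, single_mul_single, _root_.one_mul]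
  have hψ0 : ψ₀ 0 = 1 := by
    apply (single_left_inj h1K).1
    rw [← hψ₀, h0, map_one]
    rfl
  let ψ : Multiplicative N →* G :=
    { toFun := fun n => ψ₀ (Multiplicative.toAdd n)
      map_one' := hψ0
      map_mul' := fun a b => hψadd _ _ }
  -- the idempotents
  let e : N → B := fun n => (ζ n).coeff (ψ₀ n)
  have he : ∀ n, e n ∉ 𝔭 := by
    intro n hmem
    have h1 : θ₀ (e n) = 1 := by
      have := congrArg (fun z => z.coeff (ψ₀ n)) (hψ₀ n)
      simp only [coeff_mapRingHom, coeff_single, Finsupp.single_eq_same] at this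
      exact this
    have h2 : θ₀ (e n) = 0 := Ideal.Quotient.eq_zero_iff_mem.2 hmem
    rw [h2] at h1
    exact h1K h1.symm
  obtain ⟨gens, hgens⟩ := AddGroup.fg_def.1 hN
  refine ⟨ψ, ∏ n ∈ gens, e n, ?_, ?_⟩
  · intro hmem
    obtain ⟨n, -, hn⟩ := (Ideal.IsPrime.prod_mem_iff).1 hmem
    exact he n hn
  · intro C _ θ hunit n
    -- on generators
    have hgen : ∀ n ∈ gens, mapRingHom G θ (ζ n) = single (ψ₀ n) 1 := by
      intro n hn
      have hu : IsUnit (θ (e n)) := by
        rw [map_prod] at hunit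
        exact (IsUnit.prod_iff.1 hunit) n hn
      have hid : IsIdempotentElem (θ (e n)) := ((hGL n).isIdempotentElem _).map θ
      have h1 : θ (e n) = 1 := by
        have := hid.eq
        exact hu.mul_left_cancel (by rw [this, _root_.mul_one])
      apply eq_single_of_coeff (ψ₀ n)
      · rw [coeff_mapRingHom]; exact h1
      · intro g' hne
        rw [coeff_mapRingHom]
        have hz := (hGL n).coeff_mul g' (ψ₀ n)
        rw [if_neg hne] at hz
        have := congrArg θ hz
        rw [map_mul, map_zero, h1, _root_.mul_one] at this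
        exact this
    -- the subgroup where the formula holds
    let H : AddSubgroup N :=
      { carrier := {n | mapRingHom G θ (ζ n) = single (ψ₀ n) 1}
        zero_mem' := by
          change mapRingHom G θ (ζ 0) = single (ψ₀ 0) 1
          rw [h0, map_one, hψ0]; rfl
        add_mem' := by
          intro a b ha hb
          change mapRingHom G θ (ζ (a + b)) = single (ψ₀ (a + b)) 1
          rw [hadd, map_mul, ha, hb, hψadd, single_mul_single, _root_.one_mul]
        neg_mem' := by
          intro a ha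
          change mapRingHom G θ (ζ (-a)) = single (ψ₀ (-a)) 1
          have h1 : mapRingHom G θ (ζ (-a)) * mapRingHom G θ (ζ a) = 1 := by
            rw [← map_mul, ← hadd, neg_add_cancel, h0, map_one]
          have h2 : (single (ψ₀ (-a)) 1 : MonoidAlgebra C G) * single (ψ₀ a) 1 = 1 := by
            rw [single_mul_single, ← hψadd, neg_add_cancel, hψ0, _root_.one_mul]; rfl
          have ha' : mapRingHom G θ (ζ a) = single (ψ₀ a) 1 := ha
          rw [ha'] at h1
          have hunit : IsUnit (single (ψ₀ a) (1 : C)) := IsUnit.of_mul_eq_one _ (by rw [_root_.mul_comm]; exact h2)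
          exact hunit.mul_right_cancel (h1.trans h2.symm) }
    have hH : H = ⊤ := by
      rw [eq_top_iff, ← hgens, AddSubgroup.closure_le]
      intro n hn
      exact hgen n hn
    have : n ∈ H := by rw [hH]; trivial
    exact this

end Alg

section Affine

variable {B : Type u} [CommRing B] (f : Spec (CommRingCat.of B) ⟶ S)

/-- `Spec C` as an `S`-scheme, for a `B`-algebra `θ : B → C`. -/
noncomputable abbrev ov {C : Type u} [CommRing C] (θ : B →+* C) : Over S :=
  Over.mk (Spec.map (CommRingCat.ofHom θ) ≫ f)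

/-- global sections of `Spec C`. -/
noncomputable def gam (C : Type u) [CommRing C] : Γ(Spec (CommRingCat.of C), ⊤) →+* C :=
  (Scheme.ΓSpecIso (CommRingCat.of C)).hom.hom

lemma gam_injective (C : Type u) [CommRing C] : Function.Injective (gam C) :=
  (ConcreteCategory.bijective_of_isIso (Scheme.ΓSpecIso (CommRingCat.of C)).hom).1

lemma gam_inv (C : Type u) [CommRing C] (c : C) :
    gam C ((Scheme.ΓSpecIso (CommRingCat.of C)).inv c) = c :=
  congrArg (fun k => k.hom c) (Scheme.ΓSpecIso (CommRingCat.of C)).inv_hom_id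

lemma gam_appTop {C C' : Type u} [CommRing C] [CommRing C'] (ψ : C →+* C')
    (a : Γ(Spec (CommRingCat.of C), ⊤)) :
    gam C' ((Spec.map (CommRingCat.ofHom ψ)).appTop a) = ψ (gam C a) := by
  have nat := Scheme.ΓSpecIso_naturality (CommRingCat.ofHom ψ)
  exact congrArg (fun k => k.hom a) nat

/-- the morphism `Spec C' ⟶ Spec C` over `S` attached to a `B`-algebra map. -/
noncomputable def ovMap {C C' : Type u} [CommRing C] [CommRing C'] (θ : B →+* C) (θ' : B →+* C')
    (ψ : C →+* C') (e : ψ.comp θ = θ') : ov f θ' ⟶ ov f θ :=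
  Over.homMk (Spec.map (CommRingCat.ofHom ψ)) (by
    change Spec.map _ ≫ Spec.map _ ≫ f = Spec.map _ ≫ f
    rw [← Category.assoc, ← Spec.map_comp, ← CommRingCat.ofHom_comp, e])

lemma ovMap_left {C C' : Type u} [CommRing C] [CommRing C'] (θ : B →+* C) (θ' : B →+* C')
    (ψ : C →+* C') (e : ψ.comp θ = θ') :
    (ovMap f θ θ' ψ e).left = Spec.map (CommRingCat.ofHom ψ) := rfl

/-- the character of a point of `D_S(M)` over `Spec C`. -/
noncomputable def chr {C : Type u} [CommRing C] {θ : B →+* C} (x : ov f θ ⟶ Red.DS S M) :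
    Multiplicative M →* C :=
  ((gam C).toMonoidHom).comp (dsHom x)

lemma chr_apply {C : Type u} [CommRing C] {θ : B →+* C} (x : ov f θ ⟶ Red.DS S M) (m : M) :
    chr f x (Multiplicative.ofAdd m) = gam C (dsFn x m) := rfl

lemma chr_ovMap {C C' : Type u} [CommRing C] [CommRing C'] (θ : B →+* C) (θ' : B →+* C')
    (ψ : C →+* C') (e : ψ.comp θ = θ') (x : ov f θ ⟶ Red.DS S M) (m : M) :
    gam C' (dsFn (ovMap f θ θ' ψ e ≫ x) m) = ψ (gam C (dsFn x m)) := by
  rw [dsFn_comp, ovMap_left, gam_appTop]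

/-- the ring map `B[M] → C` attached to a point over `Spec C`. -/
noncomputable def rho {C : Type u} [CommRing C] {θ : B →+* C} (x : ov f θ ⟶ Red.DS S M) :
    MonoidAlgebra B (Multiplicative M) →+* C :=
  (MonoidAlgebra.lift C C (Multiplicative M) (chr f x)).toRingHom.comp
    (MonoidAlgebra.mapRingHom (Multiplicative M) θ)

lemma rho_single {C : Type u} [CommRing C] {θ : B →+* C} (x : ov f θ ⟶ Red.DS S M)
    (m : Multiplicative M) (b : B) :
    rho f x (MonoidAlgebra.single m b) = θ b * chr f x m := by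
  simp [rho, MonoidAlgebra.mapRingHom_single]

lemma rho_comp_algebraMap {C : Type u} [CommRing C] {θ : B →+* C} (x : ov f θ ⟶ Red.DS S M) :
    (rho f x).comp (algebraMap B (MonoidAlgebra B (Multiplicative M))) = θ := by
  ext b
  rw [RingHom.comp_apply, MonoidAlgebra.coe_algebraMap]
  simp [rho_single]

/-- points over `Spec C` are determined by their characters. -/
lemma pt_ext {C : Type u} [CommRing C] {θ : B →+* C} (x y : ov f θ ⟶ Red.DS S M)
    (h : ∀ m, gam C (dsFn x m) = gam C (dsFn y m)) : x = y :=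
  dsFn_injective x y (fun m => gam_injective C (h m))

/-- points over `Spec C` with prescribed character. -/
lemma pt_exists {C : Type u} [CommRing C] (θ : B →+* C) (χ : Multiplicative M →* C) :
    ∃ x : ov f θ ⟶ Red.DS S M, ∀ m, gam C (dsFn x m) = χ (Multiplicative.ofAdd m) := by
  obtain ⟨x, hx⟩ := dsFn_surjective (S := S) (X := ov f θ) (M := M)
    ((((Scheme.ΓSpecIso (CommRingCat.of C)).inv.hom : C →+* Γ(Spec (CommRingCat.of C), ⊤)) :
      C →* Γ(Spec (CommRingCat.of C), ⊤)).comp χ)
  refine ⟨x, fun m => ?_⟩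
  rw [hx m]
  exact gam_inv C _

variable (M) in
/-- the structure map of `B[M]`. -/
noncomputable abbrev thetaU : B →+* MonoidAlgebra B (Multiplicative M) :=
  algebraMap B (MonoidAlgebra B (Multiplicative M))

variable (M) in
/-- the universal point of `D_S(M)` over `B`-algebras. -/
noncomputable def xu : ov f (thetaU (B := B) M) ⟶ Red.DS S M :=
  (pt_exists f (thetaU (B := B) M) (MonoidAlgebra.of B (Multiplicative M))).choose

lemma xu_spec (m : M) :
    gam _ (dsFn (xu M f) m) = MonoidAlgebra.single (Multiplicative.ofAdd m) (1 : B) :=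
  (pt_exists f (thetaU (B := B) M) (MonoidAlgebra.of B (Multiplicative M))).choose_spec m

/-- every point is a pull-back of the universal point. -/
lemma factor {C : Type u} [CommRing C] {θ : B →+* C} (x : ov f θ ⟶ Red.DS S M) :
    ovMap f (thetaU (B := B) M) θ (rho f x) (rho_comp_algebraMap f x) ≫ xu M f = x := by
  apply pt_ext
  intro m
  rw [chr_ovMap, xu_spec, rho_single, map_one, _root_.one_mul, chr_apply]

variable (v : Red.DS S M ⟶ Red.DS S N)

/-- the characters of `v` on the universal point. -/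
noncomputable def zeta (n : N) : MonoidAlgebra B (Multiplicative M) :=
  gam _ (dsFn (xu M f ≫ v) n)

/-- **Key formula**: the characters of `x ≫ v`. -/
lemma key {C : Type u} [CommRing C] {θ : B →+* C} (x : ov f θ ⟶ Red.DS S M) (n : N) :
    gam C (dsFn (x ≫ v) n) = rho f x (zeta f v n) := by
  conv_lhs => rw [← factor f x, Category.assoc]
  rw [chr_ovMap]
  rfl

lemma zeta_add (n n' : N) : zeta f v (n + n') = zeta f v n * zeta f v n' := by
  unfold zeta
  rw [dsFn_add, map_mul]

lemma zeta_zero : zeta f v 0 = 1 := by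
  unfold zeta
  rw [dsFn_zero, map_one]

/-- `rho` is determined by the structure map and the character. -/
lemma rho_eq {C : Type u} [CommRing C] {θ : B →+* C} (x : ov f θ ⟶ Red.DS S M)
    (ψ : MonoidAlgebra B (Multiplicative M) →+* C)
    (h1 : ∀ b, ψ (MonoidAlgebra.single 1 b) = θ b)
    (h2 : ∀ m : M, ψ (MonoidAlgebra.single (Multiplicative.ofAdd m) 1) = gam C (dsFn x m)) :
    rho f x = ψ := by
  apply MonoidAlgebra.ringHom_ext
  · intro b
    rw [rho_single, h1, map_one, _root_.mul_one]
  · intro m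
    rw [rho_single, map_one, _root_.one_mul]
    exact (h2 (Multiplicative.toAdd m)).symm

lemma mdrh_single {G H : Type} [Monoid G] [Monoid H] (g : G →* H) (a : G) (b : B) :
    MonoidAlgebra.mapDomainRingHom B g (MonoidAlgebra.single a b) = MonoidAlgebra.single (g a) b := by
  change MonoidAlgebra.mapDomain _ _ = _
  rw [MonoidAlgebra.mapDomain_single]

variable [IsMonHom v]

lemma zeta_dl (n : N) : dl (zeta f v n) = i1 (zeta f v n) * i2 (zeta f v n) := by
  let C₂ := MonoidAlgebra B (Multiplicative M × Multiplicative M)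
  let θ₂ : B →+* C₂ := algebraMap B C₂
  obtain ⟨x₁, hx₁⟩ := pt_exists (M := M) f θ₂
    ((MonoidAlgebra.of B (Multiplicative M × Multiplicative M)).comp (MonoidHom.inl _ _))
  obtain ⟨x₂, hx₂⟩ := pt_exists (M := M) f θ₂
    ((MonoidAlgebra.of B (Multiplicative M × Multiplicative M)).comp (MonoidHom.inr _ _))
  have hθ : ∀ b : B, θ₂ b = MonoidAlgebra.single 1 b := fun b => by
    change algebraMap B C₂ b = _
    rw [MonoidAlgebra.coe_algebraMap]
    rfl
  have e1 : rho f x₁ = i1 := by
    apply rho_eq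
    · intro b
      rw [hθ, mdrh_single, map_one]
    · intro m
      rw [hx₁, mdrh_single]
      rfl
  have e2 : rho f x₂ = i2 := by
    apply rho_eq
    · intro b
      rw [hθ, mdrh_single, map_one]
    · intro m
      rw [hx₂, mdrh_single]
      rfl
  have e3 : rho f (x₁ * x₂) = dl := by
    apply rho_eq
    · intro b
      rw [hθ, mdrh_single, map_one]
    · intro m
      rw [dsFn_mul, map_mul, hx₁, hx₂, mdrh_single]
      change _ = MonoidAlgebra.single _ 1 * MonoidAlgebra.single _ 1
      rw [MonoidAlgebra.single_mul_single, _root_.one_mul]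
      congr 1
      simp
  have h := key f v (x₁ * x₂) n
  have hm : (x₁ * x₂) ≫ v = (x₁ ≫ v) * (x₂ ≫ v) := MonObj.mul_comp x₁ x₂ v
  rw [hm, dsFn_mul, map_mul, key, key, e1, e2, e3] at h
  exact h.symm

lemma zeta_aug (n : N) : aug (zeta f v n) = 1 := by
  have e : rho f (1 : ov f (RingHom.id B) ⟶ Red.DS S M) = aug := by
    apply rho_eq
    · intro b
      rw [aug_single]
      rfl
    · intro m
      rw [aug_single, dsFn_one, map_one]
  have h := key f v (1 : ov f (RingHom.id B) ⟶ Red.DS S M) n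
  have hm : (1 : ov f (RingHom.id B) ⟶ Red.DS S M) ≫ v = 1 := MonObj.one_comp v
  rw [hm, dsFn_one, map_one, e] at h
  exact h.symm

lemma zeta_isGL (n : N) : IsGL (zeta f v n) := ⟨zeta_dl f v n, zeta_aug f v n⟩

omit [IsMonHom v] in
/-- On points over `Spec C` on which `ζ n` becomes the basis element `ψ n`, `v` acts by `ψ`. -/
lemma comp_eq_of_form (φ : N →+ M) {C : Type u} [CommRing C] {θ : B →+* C}
    (hform : ∀ n, mapRingHom (Multiplicative M) θ (zeta f v n) =
      single (Multiplicative.ofAdd (φ n)) 1)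
    (x : ov f θ ⟶ Red.DS S M) : x ≫ v = x ≫ Red.DSmap S φ := by
  apply pt_ext
  intro n
  rw [key, dsFn_DSmap]
  change (MonoidAlgebra.lift C C (Multiplicative M) (chr f x))
    (mapRingHom (Multiplicative M) θ (zeta f v n)) = _
  rw [hform, MonoidAlgebra.lift_single, one_smul, chr_apply]

end Affine

section Global

lemma isUnit_of_range_subset {B C : Type u} [CommRing B] [CommRing C] (θ : B →+* C) (b : B)
    (h : ∀ q : PrimeSpectrum C, b ∉ (PrimeSpectrum.comap θ q).asIdeal) : IsUnit (θ b) := by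
  by_contra hu
  obtain ⟨I, hI, hmem⟩ := exists_max_ideal_of_mem_nonunits (mem_nonunits_iff.2 hu)
  exact h ⟨I, hI.isPrime⟩ hmem

variable (v : Red.DS S M ⟶ Red.DS S N) [IsMonHom v]

omit [IsMonHom v] in
/-- The affine pieces of a point. -/
lemma affine_piece {V : S.Opens} (hV : IsAffineOpen V) (b : Γ(S, V)) (φ : N →+ M)
    (hform : ∀ {C : Type u} [CommRing C] (θ : Γ(S, V) →+* C), IsUnit (θ b) →
      ∀ n, mapRingHom (Multiplicative M) θ (zeta hV.fromSpec v n) =
        single (Multiplicative.ofAdd (φ n)) 1)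
    (X : Over S) (x : X ⟶ Red.DS S M) (hX : Set.range X.hom.base ⊆ (S.basicOpen b : Set S))
    (C : Type u) [CommRing C] (j : Spec (CommRingCat.of C) ⟶ X.left) :
    j ≫ (x ≫ v).left = j ≫ (x ≫ Red.DSmap S φ).left := by
  let f : Spec (CommRingCat.of Γ(S, V)) ⟶ S := hV.fromSpec
  have hpre : f ⁻¹ᵁ S.basicOpen b = PrimeSpectrum.basicOpen b := hV.fromSpec_preimage_basicOpen b
  let g : Spec (CommRingCat.of C) ⟶ S := j ≫ X.hom
  have hgU : Set.range g.base ⊆ (S.basicOpen b : Set S) := by
    rintro _ ⟨y, rfl⟩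
    apply hX
    exact ⟨j y, by rw [← Scheme.Hom.comp_apply]⟩
  have hgV : Set.range g.base ⊆ Set.range f.base := by
    rw [hV.range_fromSpec]
    exact hgU.trans (S.basicOpen_le b)
  let l : Spec (CommRingCat.of C) ⟶ Spec (CommRingCat.of Γ(S, V)) :=
    IsOpenImmersion.lift f g hgV
  have hl : l ≫ f = g := IsOpenImmersion.lift_fac f g hgV
  let θ' := Spec.preimage l
  have hθ' : Spec.map θ' = l := Spec.map_preimage l
  let θ : Γ(S, V) →+* C := θ'.hom
  have hθ : Spec.map (CommRingCat.ofHom θ) = l := hθ'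
  have h1 : ∀ y : Spec (CommRingCat.of C), l y ∈ f ⁻¹ᵁ S.basicOpen b := by
    intro y
    change f (l y) ∈ S.basicOpen b
    rw [← Scheme.Hom.comp_apply, hl]
    exact hgU ⟨y, rfl⟩
  have hunit : IsUnit (θ b) := by
    apply isUnit_of_range_subset
    intro q
    have h2 := h1 q
    rw [hpre] at h2
    have h3 : l q = PrimeSpectrum.comap θ q := by
      rw [← hθ]
      rfl
    rw [h3] at h2
    exact h2
  let x' : ov f θ ⟶ Red.DS S M := Over.homMk (j ≫ x.left) (by
    change (j ≫ x.left) ≫ (Red.DS S M).hom = Spec.map _ ≫ f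
    rw [hθ, hl, Category.assoc, Over.w x])
  have hx' := comp_eq_of_form f v φ (fun n => hform θ hunit n) x'
  have := congrArg (fun k => k.left) hx'
  simpa [x', Category.assoc] using this

/-- **Local structure of homomorphisms of diagonalisable groups** (points form). -/
theorem exists_local (hN : AddGroup.FG N) (s : S) :
    ∃ (U : S.Opens) (φ : N →+ M), s ∈ U ∧ ∀ (X : Over S) (x : X ⟶ Red.DS S M),
      Set.range X.hom.base ⊆ (U : Set S) → x ≫ v = x ≫ Red.DSmap S φ := by
  obtain ⟨V, hsV⟩ : ∃ V : S.affineOpens, s ∈ V.1 := by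
    obtain ⟨_, ⟨V, hV, rfl⟩, hsV, -⟩ := S.isBasis_affineOpens.exists_subset_of_mem_open
      (Set.mem_univ s) isOpen_univ
    exact ⟨⟨V, hV⟩, hsV⟩
  have hV : IsAffineOpen V.1 := V.2
  let f : Spec (CommRingCat.of Γ(S, V.1)) ⟶ S := hV.fromSpec
  let p : PrimeSpectrum Γ(S, V.1) := hV.primeIdealOf ⟨s, hsV⟩
  have hp : f p = s := hV.fromSpec_primeIdealOf ⟨s, hsV⟩
  obtain ⟨ψ, b, hb, hform⟩ := exists_local_form hN (zeta f v) (zeta_isGL f v) (zeta_add f v)
    (zeta_zero f v) p.asIdeal
  let φ : N →+ M :=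
    { toFun := fun n => Multiplicative.toAdd (ψ (Multiplicative.ofAdd n))
      map_zero' := by
        change Multiplicative.toAdd (ψ 1) = 0
        rw [map_one]; rfl
      map_add' := fun a a' => by
        change Multiplicative.toAdd (ψ (Multiplicative.ofAdd a * Multiplicative.ofAdd a')) = _
        rw [map_mul]; rfl }
  have hpre : f ⁻¹ᵁ S.basicOpen b = PrimeSpectrum.basicOpen b := hV.fromSpec_preimage_basicOpen b
  refine ⟨S.basicOpen b, φ, ?_, ?_⟩
  · rw [← hp]
    change p ∈ f ⁻¹ᵁ S.basicOpen b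
    rw [hpre]
    exact hb
  · intro X x hX
    apply Over.OverMorphism.ext
    apply X.left.affineCover.hom_ext
    intro i
    exact affine_piece v hV b φ (fun θ hunit n => hform θ hunit n) X x hX _
      (X.left.affineCover.f i)

omit [IsMonHom v] in
lemma adjEquiv_pullback_map {S₀ : Scheme.{u}} (i₀ : S₀ ⟶ S) {G H : Over S} [GrpObj G] [GrpObj H]
    (w : G ⟶ H) (Y₀ : Over S₀) (y : Y₀ ⟶ Red.bc i₀ G) :
    adjEquiv i₀ H Y₀ (y ≫ (Over.pullback i₀).map w) = adjEquiv i₀ G Y₀ y ≫ w := by
  unfold adjEquiv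
  rw [Adjunction.homEquiv_naturality_right_symm]

/-- Two homomorphisms which agree on all points over `T` have the same base change to `T`. -/
lemma pullback_map_eq_of_points {T : Scheme.{u}} (g : T ⟶ S) {G H : Over S} [GrpObj G] [GrpObj H]
    (w w' : G ⟶ H)
    (h : ∀ (X : Over S) (x : X ⟶ G), Set.range X.hom.base ⊆ Set.range g.base → x ≫ w = x ≫ w') :
    (Over.pullback g).map w = (Over.pullback g).map w' := by
  apply (adjEquiv g H (Red.bc g G)).injective
  have e1 := adjEquiv_pullback_map g w (Red.bc g G) (𝟙 _)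
  have e2 := adjEquiv_pullback_map g w' (Red.bc g G) (𝟙 _)
  rw [Category.id_comp] at e1 e2
  rw [e1, e2]
  apply h
  rintro _ ⟨y, rfl⟩
  exact ⟨(Red.bc g G).hom y, by
    change g ((Red.bc g G).hom y) = ((Red.bc g G).hom ≫ g) y
    rw [Scheme.Hom.comp_apply]⟩

/-- PKG-H. -/
theorem pkgH : Groth.Agent.R2.H97.MTSpec.PkgH.{u} := by
  intro S M N _ _ hN v _ s
  obtain ⟨U, φ, hs, h⟩ := exists_local v hN s
  refine ⟨U, φ, hs, ?_⟩
  apply pullback_map_eq_of_points
  intro X x hX
  apply h X x
  rwa [Scheme.Opens.range_ι] at hX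

end Global

end Groth.Agent.R2.H97.MTHom
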