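import Groth.Agent.R2.H97MTQ2Spec

/-! PROJ:mt-quot phase 2 (helper97): PKG-C, coherence of `dsBC` under composition. -/

set_option linter.unusedSimpArgs false

set_option autoImplicit false

universe u

open CategoryTheory MonoidalCategory CartesianMonoidalCategory MonObj GrpObj AlgebraicGeometry Limits

namespace Groth.Agent.R2.H97.MTQ2C

open Groth.Agent.R2.H97.MTSpec Groth.Agent.R2.H97.MTBase Groth.Agent.R2.H97.MTQ2Spec

variable {S T T' T'' : Scheme.{u}}

@[reassoc] lemma pbc_hom_fst (f : T'' ⟶ T') (g : T' ⟶ T) (A : Over T) :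
    ((Over.pullbackComp f g).hom.app A).left ≫ pullback.fst _ _ ≫ pullback.fst _ _ =
      pullback.fst _ _ := by
  simp [Over.pullbackComp, conjugateIsoEquiv, conjugateEquiv_apply_app, Adjunction.comp]
  simp only [← Category.assoc]
  simp only [pullback.lift_fst, pullback.lift_snd, Category.assoc,
   pullback.lift_fst_assoc, pullback.lift_snd_assoc, Category.id_comp]

@[reassoc] lemma pbc_hom_snd (f : T'' ⟶ T') (g : T' ⟶ T) (A : Over T) :
    ((Over.pullbackComp f g).hom.app A).left ≫ pullback.snd _ _ =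
      pullback.snd _ _ := by
  simp [Over.pullbackComp, conjugateIsoEquiv, conjugateEquiv_apply_app, Adjunction.comp]
  simp only [← Category.assoc]
  simp only [pullback.lift_fst, pullback.lift_snd, Category.assoc,
   pullback.lift_fst_assoc, pullback.lift_snd_assoc, Category.id_comp]

@[reassoc] lemma pbc_inv_fst (f : T'' ⟶ T') (g : T' ⟶ T) (A : Over T) :
    ((Over.pullbackComp f g).inv.app A).left ≫ pullback.fst _ _ =
      pullback.fst _ _ ≫ pullback.fst _ _ := by
  have h := pbc_hom_fst f g A
  have h2 : ((Over.pullbackComp f g).inv.app A).left ≫ ((Over.pullbackComp f g).hom.app A).left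
      = 𝟙 _ := by
    rw [← Over.comp_left]; simp
  rw [← h, ← Category.assoc, h2, Category.id_comp]

@[reassoc] lemma pbc_inv_snd (f : T'' ⟶ T') (g : T' ⟶ T) (A : Over T) :
    ((Over.pullbackComp f g).inv.app A).left ≫ pullback.snd _ _ =
      pullback.snd _ _ := by
  have h := pbc_hom_snd f g A
  have h2 : ((Over.pullbackComp f g).inv.app A).left ≫ ((Over.pullbackComp f g).hom.app A).left
      = 𝟙 _ := by
    rw [← Over.comp_left]; simp
  rw [← h, ← Category.assoc, h2, Category.id_comp]

@[reassoc] lemma bcCongr_fst {a b : T ⟶ S} (e : a = b) (X : Over S) :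
    (bcCongr e X).hom.left ≫ pullback.fst _ _ = pullback.fst _ _ := by
  subst e
  simp [bcCongr]

@[reassoc] lemma bcCongr_snd {a b : T ⟶ S} (e : a = b) (X : Over S) :
    (bcCongr e X).hom.left ≫ pullback.snd _ _ = pullback.snd _ _ := by
  subst e
  simp [bcCongr]

@[reassoc] lemma map_fst (g : T ⟶ S) {X Y : Over S} (v : X ⟶ Y) :
    ((Over.pullback g).map v).left ≫ pullback.fst _ _ = pullback.fst _ _ ≫ v.left := by
  simp only [Over.pullback_map_left]
  exact pullback.lift_fst _ _ _

@[reassoc] lemma map_snd (g : T ⟶ S) {X Y : Over S} (v : X ⟶ Y) :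
    ((Over.pullback g).map v).left ≫ pullback.snd _ _ = pullback.snd _ _ := by
  simp only [Over.pullback_map_left]
  exact pullback.lift_snd _ _ _



open Groth.Agent.R2.H97.MTSpec Groth.Agent.R2.H97.MTBase Groth.Agent.R2.H97.MTQ2Spec

variable {T T' T'' : Scheme.{u}}

theorem pkgC : PkgC.{u} := by
  intro T'' T' T g g₀ M _
  rw [dsBC_hom, dsBC_hom, dsBC_hom]
  apply Over.OverMorphism.ext
  simp only [Over.comp_left]
  apply pullback.hom_ext
  · simp only [Category.assoc]
    rw [bcCongr_fst, pbc_inv_fst, bcCongr_fst, pbc_inv_fst, map_fst_assoc]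
    rw [Over.comp_left, Category.assoc, bcCongr_fst, pbc_inv_fst, pbc_hom_fst_assoc]
  · simp only [Category.assoc]
    rw [bcCongr_snd, pbc_inv_snd, bcCongr_snd, pbc_inv_snd, map_snd, pbc_hom_snd]

end Groth.Agent.R2.H97.MTQ2C
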