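import Mathlib
import Groth.Prelude.Def_AutFam
import Groth.Agent.R2.H35ConjAut
import Groth.Agent.R2.H97MTQ2C
import Groth.Agent.R2.H97MTHom
import Groth.Agent.Lib.Helper27DiagSub

/-!
# helper63: families of homomorphisms `G ⊗ T ⟶ H` over `S` versus homomorphisms of the base changes
`bc T.hom G ⟶ bc T.hom H` over `T`
-/

set_option autoImplicit false
set_option linter.style.haveILetI false

universe u

open CategoryTheory MonoidalCategory CartesianMonoidalCategory MonObj GrpObj AlgebraicGeometry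
  CategoryTheory.Limits

namespace Groth.Agent.R2.H63.HomFam

open Groth.Agent.Lib.Helper27.GaGm Groth.Agent.R2.H35.ConjAut

section Basic

variable {S : Scheme.{u}} {G H : Over S}

/-- a family `G ⊗ T ⟶ H` as a morphism of the base changes over `T`. -/
noncomputable def toBC {T : Over S} (φ : G ⊗ T ⟶ H) : Red.bc T.hom G ⟶ Red.bc T.hom H :=
  Over.homMk (pullback.lift φ.left (pullback.snd G.hom T.hom) (by
    have h1 : φ.left ≫ H.hom = pullback.fst G.hom T.hom ≫ G.hom := Over.w φ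
    rw [h1]
    exact pullback.condition)) (pullback.lift_snd _ _ _)

@[reassoc (attr := simp)]
lemma toBC_left_fst {T : Over S} (φ : G ⊗ T ⟶ H) :
    (toBC φ).left ≫ pullback.fst H.hom T.hom = φ.left := pullback.lift_fst _ _ _

@[reassoc (attr := simp)]
lemma toBC_left_snd {T : Over S} (φ : G ⊗ T ⟶ H) :
    (toBC φ).left ≫ pullback.snd H.hom T.hom = pullback.snd G.hom T.hom := pullback.lift_snd _ _ _

/-- a morphism of the base changes over `T` as a family `G ⊗ T ⟶ H`. -/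
noncomputable def ofBC {T : Over S} (w : Red.bc T.hom G ⟶ Red.bc T.hom H) : G ⊗ T ⟶ H :=
  Over.homMk (w.left ≫ pullback.fst H.hom T.hom) (by
    have h1 : w.left ≫ pullback.snd H.hom T.hom = pullback.snd G.hom T.hom := Over.w w
    change (w.left ≫ pullback.fst H.hom T.hom) ≫ H.hom = pullback.fst G.hom T.hom ≫ G.hom
    rw [Category.assoc, pullback.condition, ← Category.assoc, h1, pullback.condition])

@[simp]
lemma ofBC_left {T : Over S} (w : Red.bc T.hom G ⟶ Red.bc T.hom H) :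
    (ofBC w).left = w.left ≫ pullback.fst H.hom T.hom := rfl

@[simp]
lemma ofBC_toBC {T : Over S} (φ : G ⊗ T ⟶ H) : ofBC (toBC φ) = φ := by
  ext1
  simp

@[simp]
lemma toBC_ofBC {T : Over S} (w : Red.bc T.hom G ⟶ Red.bc T.hom H) : toBC (ofBC w) = w := by
  ext1
  apply pullback.hom_ext
  · simp
  · rw [toBC_left_snd]
    exact (Over.w w).symm

end Basic

section Points

variable {S : Scheme.{u}} {G H : Over S} [GrpObj G] [GrpObj H]

/-- the structure morphism of a `T`-scheme, as an `S`-morphism to `T`. -/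
noncomputable def strT (T : Over S) (Y : Over T.left) : (Over.map T.hom).obj Y ⟶ T :=
  Over.homMk Y.hom rfl

lemma map_comp_strT (T : Over S) {Y Y' : Over T.left} (y : Y ⟶ Y') :
    (Over.map T.hom).map y ≫ strT T Y' = strT T Y := by
  ext1
  exact Over.w y

/-- the action of `toBC φ` on points. -/
lemma adjEquiv_comp_toBC {T : Over S} (φ : G ⊗ T ⟶ H) (Y : Over T.left)
    (y : Y ⟶ Red.bc T.hom G) :
    adjEquiv T.hom H Y (y ≫ toBC φ) = lift (adjEquiv T.hom G Y y) (strT T Y) ≫ φ := by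
  ext1
  rw [adjEquiv_left, Over.comp_left, Over.comp_left, Category.assoc, toBC_left_fst]
  congr 1
  apply pullback.hom_ext
  · rw [Over.lift_left, pullback.lift_fst, adjEquiv_left]
  · rw [Over.lift_left, pullback.lift_snd]
    exact Over.w y

/-- a family of homomorphisms gives a homomorphism of the base changes. -/
theorem isMonHom_toBC {T : Over S} (φ : G ⊗ T ⟶ H) (hφ : AutFam.IsHomFamily G H φ) :
    IsMonHom (toBC φ) := by
  apply isMonHom_of_forall_mul
  intro Y x y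
  apply (adjEquiv T.hom H Y).injective
  rw [adjEquiv_comp_toBC, adjEquiv_mul, adjEquiv_mul, adjEquiv_comp_toBC, adjEquiv_comp_toBC]
  exact hφ _ _ _ _

/-- a homomorphism of the base changes gives a family of homomorphisms. -/
theorem isHomFamily_ofBC {T : Over S} (w : Red.bc T.hom G ⟶ Red.bc T.hom H) [IsMonHom w] :
    AutFam.IsHomFamily G H (ofBC w) := by
  have key : ∀ (Y : Over T.left) (g₁ g₂ : (Over.map T.hom).obj Y ⟶ G),
      lift (g₁ * g₂) (strT T Y) ≫ ofBC w =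
        (lift g₁ (strT T Y) ≫ ofBC w) * (lift g₂ (strT T Y) ≫ ofBC w) := by
    intro Y g₁ g₂
    have h : ∀ g : (Over.map T.hom).obj Y ⟶ G, lift g (strT T Y) ≫ ofBC w =
        adjEquiv T.hom H Y ((adjEquiv T.hom G Y).symm g ≫ w) := by
      intro g
      have := adjEquiv_comp_toBC (ofBC w) Y ((adjEquiv T.hom G Y).symm g)
      rw [Equiv.apply_symm_apply, toBC_ofBC] at this
      exact this.symm
    rw [h, h, h, adjEquiv_symm_mul, MonObj.mul_comp, adjEquiv_mul]
  intro X g₁ g₂ t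
  let Y : Over T.left := Over.mk t.left
  let ε : X ≅ (Over.map T.hom).obj Y := Over.isoMk (Iso.refl X.left) (by
    change 𝟙 _ ≫ t.left ≫ T.hom = X.hom
    rw [Category.id_comp, Over.w t])
  have ht : t = ε.hom ≫ strT T Y := by
    ext1
    change t.left = 𝟙 _ ≫ t.left
    rw [Category.id_comp]
  have hg : ∀ g : X ⟶ G, g = ε.hom ≫ (ε.inv ≫ g) := fun g => by
    rw [Iso.hom_inv_id_assoc]
  rw [hg g₁, hg g₂, ← MonObj.comp_mul]
  conv_lhs => rw [ht]
  conv_rhs => rw [ht]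
  rw [← comp_lift, ← comp_lift, ← comp_lift, Category.assoc, Category.assoc, Category.assoc, key,
    MonObj.comp_mul]

end Points

section Nat

open Groth.Agent.R2.H97.MTQ2C

variable {S B T' : Scheme.{u}} {G H : Over S}

/-- the base change `T' ⟶ B` as a morphism over `S`. -/
abbrev overHom (b : T' ⟶ B) (g₀ : B ⟶ S) : Over.mk (b ≫ g₀) ⟶ Over.mk g₀ := Over.homMk b rfl

lemma pbc_left_fst_eq (b : T' ⟶ B) (g₀ : B ⟶ S) :
    ((Over.pullbackComp b g₀).hom.app G).left ≫ pullback.fst (pullback.snd G.hom g₀) b =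
      (G ◁ overHom b g₀).left := by
  apply pullback.hom_ext
  · rw [Category.assoc]
    have := congrArg (fun k => k.left) (whiskerLeft_fst G (overHom b g₀))
    simp only [Over.comp_left, Over.fst_left] at this
    exact (pbc_hom_fst b g₀ G).trans this.symm
  · rw [Category.assoc]
    have h1 : pullback.fst (pullback.snd G.hom g₀) b ≫ pullback.snd G.hom g₀ =
        pullback.snd (pullback.snd G.hom g₀) b ≫ b := pullback.condition
    rw [h1]
    have := congrArg (fun k => k.left) (whiskerLeft_snd G (overHom b g₀))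
    simp only [Over.comp_left, Over.snd_left] at this
    have h2 := pbc_hom_snd_assoc b g₀ G b
    exact h2.trans this.symm

/-- base change of a morphism `w₀` over `B` along `b : T' ⟶ B`, in family form. -/
lemma ofBC_conj_pullbackComp (b : T' ⟶ B) (g₀ : B ⟶ S) (w₀ : Red.bc g₀ G ⟶ Red.bc g₀ H) :
    ofBC (T := Over.mk (b ≫ g₀)) ((Over.pullbackComp b g₀).hom.app G ≫ (Over.pullback b).map w₀ ≫
      (Over.pullbackComp b g₀).inv.app H) =
      (G ◁ overHom b g₀) ≫ ofBC (T := Over.mk g₀) w₀ := by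
  ext1
  rw [ofBC_left, Over.comp_left, Over.comp_left, Over.comp_left, ofBC_left, Category.assoc,
    Category.assoc]
  have h1 : ((Over.pullbackComp b g₀).inv.app H).left ≫ pullback.fst H.hom (b ≫ g₀) =
      pullback.fst (pullback.snd H.hom g₀) b ≫ pullback.fst H.hom g₀ := pbc_inv_fst b g₀ H
  have h2 : ((Over.pullback b).map w₀).left ≫ pullback.fst (pullback.snd H.hom g₀) b =
      pullback.fst (pullback.snd G.hom g₀) b ≫ w₀.left := map_fst b w₀
  change _ ≫ _ ≫ ((Over.pullbackComp b g₀).inv.app H).left ≫ pullback.fst H.hom (b ≫ g₀) = _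
  rw [h1, ← Category.assoc ((Over.pullback b).map w₀).left, h2, Category.assoc,
    ← Category.assoc, pbc_left_fst_eq]
  rfl

end Nat

section Triv

open Groth.Agent.R2.H97.MTBase Groth.Agent.R2.H97.MTHom

variable {S B : Scheme.{u}} {G H : Over S} [GrpObj G] [GrpObj H] (g₀ : B ⟶ S)
  {M N : Type} [AddCommGroup M] [AddCommGroup N]

/-- transport of a trivialisation over `B` along `b : T' ⟶ B`. -/
noncomputable def trivAt {T' : Scheme.{u}} (b : T' ⟶ B) {K : Over S} [GrpObj K] {L : Type}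
    [AddCommGroup L] (ψ : Grp.mk (Red.bc g₀ K) ≅ Grp.mk (Red.DS B L)) :
    Grp.mk (Red.bc (b ≫ g₀) K) ≅ Grp.mk (Red.DS T' L) :=
  bcCompGrp b g₀ K ≪≫ mapGrpIso b ψ ≪≫ dsBC b L

lemma trivAt_hom {T' : Scheme.{u}} (b : T' ⟶ B) {K : Over S} [GrpObj K] {L : Type}
    [AddCommGroup L] (ψ : Grp.mk (Red.bc g₀ K) ≅ Grp.mk (Red.DS B L)) :
    (trivAt g₀ b ψ).hom.hom.hom = (Over.pullbackComp b g₀).hom.app K ≫
      (Over.pullback b).map ψ.hom.hom.hom ≫ (dsBC b L).hom.hom.hom := by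
  change (bcCompGrp b g₀ K).hom.hom.hom ≫ (mapGrpIso b ψ).hom.hom.hom ≫ _ = _
  rw [bcCompGrp_hom, mapGrpIso_hom]

lemma trivAt_inv {T' : Scheme.{u}} (b : T' ⟶ B) {K : Over S} [GrpObj K] {L : Type}
    [AddCommGroup L] (ψ : Grp.mk (Red.bc g₀ K) ≅ Grp.mk (Red.DS B L)) :
    (trivAt g₀ b ψ).inv.hom.hom = (dsBC b L).inv.hom.hom ≫
      (Over.pullback b).map ψ.inv.hom.hom ≫ (Over.pullbackComp b g₀).inv.app K := by
  change ((dsBC b L).inv.hom.hom ≫ (mapGrpIso b ψ).inv.hom.hom) ≫ (bcCompGrp b g₀ K).inv.hom.hom = _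
  rw [bcCompGrp_inv, Category.assoc]
  rfl

@[reassoc]
lemma grpIso_hom_inv {C : Type*} [Category C] [CartesianMonoidalCategory C] {X Y : Grp C}
    (e : X ≅ Y) : e.hom.hom.hom ≫ e.inv.hom.hom = 𝟙 _ :=
  congrArg (fun k => k.hom.hom) e.hom_inv_id

@[reassoc]
lemma grpIso_inv_hom {C : Type*} [Category C] [CartesianMonoidalCategory C] {X Y : Grp C}
    (e : X ≅ Y) : e.inv.hom.hom ≫ e.hom.hom.hom = 𝟙 _ :=
  congrArg (fun k => k.hom.hom) e.inv_hom_id

variable (ψG : Grp.mk (Red.bc g₀ G) ≅ Grp.mk (Red.DS B M))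
  (ψH : Grp.mk (Red.bc g₀ H) ≅ Grp.mk (Red.DS B N))

/-- the homomorphism `D(φ₀)` over `B`, through the trivialisations. -/
noncomputable def constHom (φ₀ : N →+ M) : Red.bc g₀ G ⟶ Red.bc g₀ H :=
  ψG.hom.hom.hom ≫ Red.DSmap B φ₀ ≫ ψH.inv.hom.hom

instance (φ₀ : N →+ M) : IsMonHom (constHom g₀ ψG ψH φ₀) := by
  unfold constHom
  haveI : IsMonHom (Red.DSmap B φ₀) := Groth.Agent.Lib.Helper27DiagSub.isMonHom_DSmap B φ₀
  infer_instance

/-- the homomorphism `D(φ₀)` over `T'`, through the transported trivialisations. -/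
noncomputable def constHomAt {T' : Scheme.{u}} (b : T' ⟶ B) (φ₀ : N →+ M) :
    Red.bc (b ≫ g₀) G ⟶ Red.bc (b ≫ g₀) H :=
  (trivAt g₀ b ψG).hom.hom.hom ≫ Red.DSmap T' φ₀ ≫ (trivAt g₀ b ψH).inv.hom.hom

lemma constHomAt_eq {T' : Scheme.{u}} (b : T' ⟶ B) (φ₀ : N →+ M) :
    constHomAt g₀ ψG ψH b φ₀ = (Over.pullbackComp b g₀).hom.app G ≫
      (Over.pullback b).map (constHom g₀ ψG ψH φ₀) ≫ (Over.pullbackComp b g₀).inv.app H := by
  have e := dsBC_DSmap b φ₀
  have e' : (dsBC b M).hom.hom.hom ≫ Red.DSmap T' φ₀ ≫ (dsBC b N).inv.hom.hom =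
      (Over.pullback b).map (Red.DSmap B φ₀) := by
    rw [← Category.assoc, ← e, Category.assoc, grpIso_hom_inv, Category.comp_id]
  unfold constHomAt constHom
  rw [trivAt_hom, trivAt_inv, Functor.map_comp, Functor.map_comp, ← e']
  simp only [Category.assoc]

/-- the constant family `D(φ₀)` over `B`. -/
noncomputable def constFam (φ₀ : N →+ M) : G ⊗ Over.mk g₀ ⟶ H :=
  ofBC (T := Over.mk g₀) (constHom g₀ ψG ψH φ₀)

theorem isHomFamily_constFam (φ₀ : N →+ M) :
    AutFam.IsHomFamily G H (constFam g₀ ψG ψH φ₀) :=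
  isHomFamily_ofBC (T := Over.mk g₀) (constHom g₀ ψG ψH φ₀)

lemma ofBC_constHomAt {T' : Scheme.{u}} (b : T' ⟶ B) (φ₀ : N →+ M) :
    ofBC (T := Over.mk (b ≫ g₀)) (constHomAt g₀ ψG ψH b φ₀) =
      (G ◁ overHom b g₀) ≫ constFam g₀ ψG ψH φ₀ := by
  rw [constHomAt_eq, ofBC_conj_pullbackComp]
  rfl

/-- **local constancy of families of homomorphisms between trivialised groups**. -/
theorem exists_local_family (hN : AddGroup.FG N) {T' : Scheme.{u}} (b : T' ⟶ B)
    (φ : G ⊗ Over.mk (b ≫ g₀) ⟶ H) (hφ : AutFam.IsHomFamily G H φ) (x : T') :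
    ∃ (U : T'.Opens) (φ₀ : N →+ M), x ∈ U ∧
      (G ◁ overHom U.ι (b ≫ g₀)) ≫ φ =
        (G ◁ overHom U.ι (b ≫ g₀)) ≫ (G ◁ overHom b g₀) ≫ constFam g₀ ψG ψH φ₀ := by
  haveI : IsMonHom (toBC φ) := isMonHom_toBC φ hφ
  let v : Red.DS T' M ⟶ Red.DS T' N :=
    (trivAt g₀ b ψG).inv.hom.hom ≫ toBC φ ≫ (trivAt g₀ b ψH).hom.hom.hom
  haveI : IsMonHom v := inferInstance
  obtain ⟨U, φ₀, hx, hU⟩ := exists_local v hN x
  refine ⟨U, φ₀, hx, ?_⟩
  rw [← ofBC_constHomAt]
  -- the universal point supported in `U`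
  have hsnd : (G ◁ overHom U.ι (b ≫ g₀)).left ≫ pullback.snd G.hom (b ≫ g₀) =
      pullback.snd G.hom (U.ι ≫ b ≫ g₀) ≫ U.ι := by
    have := congrArg (fun k => k.left) (whiskerLeft_snd G (overHom U.ι (b ≫ g₀)))
    simp only [Over.comp_left, Over.snd_left] at this
    exact this
  let Y : Over T' := Over.mk (pullback.snd G.hom (U.ι ≫ b ≫ g₀) ≫ U.ι)
  let y : Y ⟶ Red.bc (b ≫ g₀) G := Over.homMk (G ◁ overHom U.ι (b ≫ g₀)).left hsnd
  have hY : Set.range Y.hom.base ⊆ (U : Set T') := by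
    rintro _ ⟨z, rfl⟩
    change (pullback.snd G.hom (U.ι ≫ b ≫ g₀) ≫ U.ι) z ∈ U
    rw [Scheme.Hom.comp_apply]
    exact (pullback.snd G.hom (U.ι ≫ b ≫ g₀) z).2
  have h1 := hU Y (y ≫ (trivAt g₀ b ψG).hom.hom.hom) hY
  have h2 : y ≫ toBC φ = y ≫ constHomAt g₀ ψG ψH b φ₀ := by
    have h3 := congrArg (fun k => k ≫ (trivAt g₀ b ψH).inv.hom.hom) h1
    simp only [v, Category.assoc] at h3
    rw [grpIso_hom_inv_assoc, grpIso_hom_inv] at h3
    erw [Category.comp_id] at h3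
    exact h3
  ext1
  have h4 := congrArg (fun k => k.left ≫ pullback.fst H.hom (b ≫ g₀)) h2
  have h5 : (toBC φ).left ≫ pullback.fst H.hom (b ≫ g₀) = φ.left := toBC_left_fst φ
  simp only [Over.comp_left, Category.assoc] at h4
  rw [h5] at h4
  rw [Over.comp_left, Over.comp_left, ofBC_left]
  exact h4

end Triv

end Groth.Agent.R2.H63.HomFam
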