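import Mathlib
import Groth.Agent.R2.H63HomFam

/-!
# helper63: local structure of the scheme of homomorphisms between trivialised groups of
multiplicative type: it is étale and satisfies the existence part of the valuative criterion
-/

set_option autoImplicit false
set_option linter.style.haveILetI false

universe u

open CategoryTheory MonoidalCategory CartesianMonoidalCategory MonObj GrpObj AlgebraicGeometry
  CategoryTheory.Limits

namespace Groth.Agent.R2.H63.HomFam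

section Key

variable {S B : Scheme.{u}} {G H : Over S} [GrpObj G] [GrpObj H] (g₀ : B ⟶ S)
  {M N : Type} [AddCommGroup M] [AddCommGroup N]
  (ψG : Grp.mk (Red.bc g₀ G) ≅ Grp.mk (Red.DS B M))
  (ψH : Grp.mk (Red.bc g₀ H) ≅ Grp.mk (Red.DS B N))
  {A : Over S} {υ : G ⊗ A ⟶ H}

omit [GrpObj G] [GrpObj H] in
theorem isHomFamily_whisker [GrpObj G] [GrpObj H] (hυ : AutFam.IsHomFamily G H υ) {T : Over S}
    (a : T ⟶ A) : AutFam.IsHomFamily G H ((G ◁ a) ≫ υ) := by
  intro X g₁ g₂ t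
  rw [← Category.assoc, ← Category.assoc, ← Category.assoc, lift_whiskerLeft, lift_whiskerLeft,
    lift_whiskerLeft]
  exact hυ X g₁ g₂ (t ≫ a)

include ψG ψH in
/-- **Key lemma**: locally on `X = A ×_S B`, the projection to `B` is inverse to a section. -/
theorem exists_section_of_local (hA : AutFam.RepresentsHom G H A υ) (hN : AddGroup.FG N)
    (x : ↑(pullback A.hom g₀)) :
    ∃ (U : (pullback A.hom g₀).Opens) (σ : B ⟶ pullback A.hom g₀), x ∈ U ∧
      σ ≫ pullback.snd A.hom g₀ = 𝟙 B ∧ U.ι ≫ pullback.snd A.hom g₀ ≫ σ = U.ι := by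
  -- the universal family over `X`
  let aX : Over.mk (pullback.snd A.hom g₀ ≫ g₀) ⟶ A :=
    Over.homMk (pullback.fst A.hom g₀) pullback.condition
  have hΦ : AutFam.IsHomFamily G H ((G ◁ aX) ≫ υ) := isHomFamily_whisker hA.1 aX
  obtain ⟨U, φ₀, hxU, hloc⟩ :=
    exists_local_family g₀ ψG ψH hN (pullback.snd A.hom g₀) ((G ◁ aX) ≫ υ) hΦ x
  -- the section attached to `φ₀`
  obtain ⟨a₀, ha₀, -⟩ := hA.2 (Over.mk g₀) (constFam g₀ ψG ψH φ₀) (isHomFamily_constFam g₀ ψG ψH φ₀)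
  have ha₀' : (G ◁ a₀) ≫ υ = constFam g₀ ψG ψH φ₀ := ha₀
  have hw : a₀.left ≫ A.hom = 𝟙 B ≫ g₀ := by
    rw [Category.id_comp]
    exact Over.w a₀
  let σ : B ⟶ pullback A.hom g₀ := pullback.lift a₀.left (𝟙 B) hw
  have hσp : σ ≫ pullback.snd A.hom g₀ = 𝟙 B := pullback.lift_snd _ _ _
  have hσq : σ ≫ pullback.fst A.hom g₀ = a₀.left := pullback.lift_fst _ _ _
  refine ⟨U, σ, hxU, hσp, ?_⟩
  -- uniqueness of the classifying morphism over `U`
  let ι' := overHom U.ι (pullback.snd A.hom g₀ ≫ g₀)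
  let a₁ : Over.mk (U.ι ≫ pullback.snd A.hom g₀ ≫ g₀) ⟶ A := ι' ≫ aX
  let a₂ : Over.mk (U.ι ≫ pullback.snd A.hom g₀ ≫ g₀) ⟶ A :=
    ι' ≫ overHom (pullback.snd A.hom g₀) g₀ ≫ a₀
  have hΨ : AutFam.IsHomFamily G H ((G ◁ a₁) ≫ υ) := isHomFamily_whisker hA.1 a₁
  obtain ⟨c, -, hc⟩ := hA.2 _ ((G ◁ a₁) ≫ υ) hΨ
  have h1 : a₁ = c := hc a₁ rfl
  have h2 : a₂ = c := by
    apply hc
    change (G ◁ (ι' ≫ overHom (pullback.snd A.hom g₀) g₀ ≫ a₀)) ≫ υ = (G ◁ (ι' ≫ aX)) ≫ υ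
    rw [MonoidalCategory.whiskerLeft_comp, MonoidalCategory.whiskerLeft_comp,
      MonoidalCategory.whiskerLeft_comp, Category.assoc, Category.assoc, Category.assoc, ha₀',
      ← hloc]
  have h12 : a₁.left = a₂.left := by rw [h1, h2]
  apply pullback.hom_ext
  · have e1 : a₁.left = U.ι ≫ pullback.fst A.hom g₀ := rfl
    have e2 : a₂.left = U.ι ≫ pullback.snd A.hom g₀ ≫ a₀.left := rfl
    rw [Category.assoc, Category.assoc, hσq, ← e2, ← h12, e1]
  · rw [Category.assoc, Category.assoc, hσp, Category.comp_id]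

end Key

section LocalSections

variable {X B : Scheme.{u}} (p : X ⟶ B)

/-- a morphism which is locally on the source inverse to a section is a local isomorphism onto an
open: the restriction to the open is an open immersion. -/
theorem isOpenImmersion_of_section (U : X.Opens) (σ : B ⟶ X) (hσ : σ ≫ p = 𝟙 B)
    (hU : U.ι ≫ p ≫ σ = U.ι) : IsOpenImmersion (U.ι ≫ p) := by
  let V : B.Opens := σ ⁻¹ᵁ U
  have hr1 : Set.range (U.ι ≫ p).base ⊆ Set.range V.ι.base := by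
    rintro _ ⟨u, rfl⟩
    rw [Scheme.Opens.range_ι]
    change σ ((U.ι ≫ p) u) ∈ U
    have h1 : σ ((U.ι ≫ p) u) = (U.ι ≫ p ≫ σ) u := by
      rw [← Scheme.Hom.comp_apply, Category.assoc]
    rw [h1, hU]
    exact u.2
  have hr2 : Set.range (V.ι ≫ σ).base ⊆ Set.range U.ι.base := by
    rintro _ ⟨v, rfl⟩
    rw [Scheme.Opens.range_ι]
    change (V.ι ≫ σ) v ∈ U
    rw [Scheme.Hom.comp_apply]
    exact v.2
  let a : (U : Scheme.{u}) ⟶ V := IsOpenImmersion.lift V.ι (U.ι ≫ p) hr1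
  let b : (V : Scheme.{u}) ⟶ U := IsOpenImmersion.lift U.ι (V.ι ≫ σ) hr2
  have ha : a ≫ V.ι = U.ι ≫ p := IsOpenImmersion.lift_fac _ _ _
  have hb : b ≫ U.ι = V.ι ≫ σ := IsOpenImmersion.lift_fac _ _ _
  have hab : a ≫ b = 𝟙 _ := by
    rw [← cancel_mono U.ι, Category.assoc, hb, ← Category.assoc, ha, Category.assoc, hU,
      Category.id_comp]
  have hba : b ≫ a = 𝟙 _ := by
    rw [← cancel_mono V.ι, Category.assoc, ha, ← Category.assoc, hb, Category.assoc, hσ,
      Category.comp_id, Category.id_comp]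
  haveI : IsIso a := ⟨b, hab, hba⟩
  rw [← ha]
  infer_instance

variable (h : ∀ x : X, ∃ (U : X.Opens) (σ : B ⟶ X), x ∈ U ∧ σ ≫ p = 𝟙 B ∧ U.ι ≫ p ≫ σ = U.ι)

include h in
theorem etale_of_local_sections : Etale p := by
  choose U σ hxU hσ hU using h
  have hcov : iSup U = ⊤ := by
    rw [eq_top_iff]
    intro x _
    exact TopologicalSpace.Opens.mem_iSup.2 ⟨x, hxU x⟩
  refine IsZariskiLocalAtSource.of_iSup_eq_top (P := @Etale) U hcov fun x => ?_
  haveI := isOpenImmersion_of_section p (U x) (σ x) (hσ x) (hU x)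
  infer_instance

include h in
theorem existence_of_local_sections : ValuativeCriterion.Existence p := by
  intro Sq
  let x₀ : ↑(Spec (CommRingCat.of Sq.K)) := Classical.arbitrary _
  obtain ⟨U, σ, hxU, hσ, hU⟩ := h (Sq.i₁ x₀)
  have hr : Set.range Sq.i₁.base ⊆ Set.range U.ι.base := by
    rintro _ ⟨z, rfl⟩
    rw [Scheme.Opens.range_ι]
    have : z = x₀ := Subsingleton.elim _ _
    rw [this]
    exact hxU
  let j : Spec (CommRingCat.of Sq.K) ⟶ U := IsOpenImmersion.lift U.ι Sq.i₁ hr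
  have hj : j ≫ U.ι = Sq.i₁ := IsOpenImmersion.lift_fac _ _ _
  have hi : Sq.i₁ = Sq.i₁ ≫ p ≫ σ := by
    rw [← hj, Category.assoc, hU]
  refine ⟨⟨⟨Sq.i₂ ≫ σ, ?_, ?_⟩⟩⟩
  · rw [← Category.assoc, ← Sq.commSq.w, Category.assoc]
    exact hi.symm
  · rw [Category.assoc, hσ, Category.comp_id]

end LocalSections

end Groth.Agent.R2.H63.HomFam
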