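import Mathlib
import Groth.Agent.R2.H63WeilFPAlg
import Groth.Agent.R2.H63WeilGlue

/-!
# helper63: `Mor_S(Z, X)` for `Z` finite locally free and `X` affine, with finite presentation

Same layers as `H63WeilCat` / `H63WeilGeom` / `H63WeilGlue`, now carrying the clause
"`X → S` locally of finite presentation ⇒ `Mor_S(Z, X) → S` locally of finite presentation".
-/

set_option autoImplicit false
set_option linter.style.haveILetI false

open TensorProduct CategoryTheory Limits AlgebraicGeometry Opposite

namespace Groth.Agent.R2.H63.WeilFP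

universe u

open Groth.Agent.R2.H63.WeilAlg Groth.Agent.R2.H63.WeilCat

section cat

variable {A B C : CommRingCat.{u}} (φ : A ⟶ B) (γ : A ⟶ C)

theorem exists_isWeil_fp
    (hfree : letI := φ.hom.toAlgebra; Module.Finite A B ∧ Module.Projective A B) :
    ∃ (W : CommRingCat.{u}) (ω : A ⟶ W), (γ.hom.FiniteType → ω.hom.FiniteType) ∧
      (γ.hom.FinitePresentation → ω.hom.FinitePresentation) ∧
      ∀ (P₀ : CommRingCat.{u}) (i₀ : W ⟶ P₀) (j₀ : B ⟶ P₀),
      IsPushout ω φ i₀ j₀ → ∃ θ : C ⟶ P₀, γ ≫ θ = φ ≫ j₀ ∧ IsWeil φ γ ω i₀ j₀ θ := by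
  letI algB : Algebra A B := φ.hom.toAlgebra
  letI algC : Algebra A C := γ.hom.toAlgebra
  haveI := hfree.1
  haveI := hfree.2
  obtain ⟨W, _, _, θ, hθ, hft, hfp⟩ := exists_weilRestriction_fp A B C
  refine ⟨CommRingCat.of W, CommRingCat.ofHom (algebraMap A W), ?_, ?_, ?_⟩
  · intro h
    exact RingHom.finiteType_algebraMap.2 (hft h)
  · intro h
    exact RingHom.finitePresentation_algebraMap.2 (hfp h)
  intro P₀ i₀ j₀ hP₀
  -- the tensor pushout for W
  have hT₀ := CommRingCat.isPushout_tensorProduct A W B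
  let ε₀ : CommRingCat.of (W ⊗[A] B) ≅ P₀ := hT₀.isoIsPushout _ _ hP₀
  have hε₀l : CommRingCat.ofHom (Algebra.TensorProduct.includeLeftRingHom (R := A) (A := W) (B := B))
      ≫ ε₀.hom = i₀ := hT₀.inl_isoIsPushout_hom _ _ hP₀
  have hε₀r : CommRingCat.ofHom (Algebra.TensorProduct.includeRight (R := A) (A := W) (B := B)).toRingHom
      ≫ ε₀.hom = j₀ := hT₀.inr_isoIsPushout_hom _ _ hP₀
  refine ⟨CommRingCat.ofHom θ.toRingHom ≫ ε₀.hom, ?_, ?_⟩
  · rw [← hε₀r, ← Category.assoc, ← Category.assoc]
    congr 1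
    ext a
    change θ (algebraMap A C a) = (1 : W) ⊗ₜ[A] (algebraMap A B a)
    rw [AlgHom.commutes, one_tmul_algebraMap]
  · intro R P ρ i j hP β hβ
    letI algR : Algebra A R := ρ.hom.toAlgebra
    have hT := CommRingCat.isPushout_tensorProduct A R B
    let ε : CommRingCat.of (R ⊗[A] B) ≅ P := hT.isoIsPushout _ _ hP
    have hεl : CommRingCat.ofHom (Algebra.TensorProduct.includeLeftRingHom (R := A) (A := R) (B := B))
        ≫ ε.hom = i := hT.inl_isoIsPushout_hom _ _ hP
    have hεr : CommRingCat.ofHom (Algebra.TensorProduct.includeRight (R := A) (A := R) (B := B)).toRingHom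
        ≫ ε.hom = j := hT.inr_isoIsPushout_hom _ _ hP
    have hβ' : γ ≫ β ≫ ε.inv = φ ≫
        CommRingCat.ofHom (Algebra.TensorProduct.includeRight (R := A) (A := R) (B := B)).toRingHom := by
      rw [← Category.assoc, hβ, ← hεr, Category.assoc, Category.assoc, Iso.hom_inv_id,
        Category.comp_id]
    let β' : C →ₐ[A] R ⊗[A] B :=
      { toRingHom := (β ≫ ε.inv).hom
        commutes' := fun a => by
          have := congrArg (fun F : A ⟶ CommRingCat.of (R ⊗[A] B) => F.hom a) hβ'
          refine this.trans ?_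
          exact one_tmul_algebraMap a }
    obtain ⟨ψ', hψ', huniq⟩ := hθ R β'
    have hβ'' : CommRingCat.ofHom β'.toRingHom = β ≫ ε.inv := rfl
    have hcomp : ∀ ψ₂ : W →ₐ[A] R, CommRingCat.ofHom θ.toRingHom ≫
        CommRingCat.ofHom (Algebra.TensorProduct.map ψ₂ (AlgHom.id A B)).toRingHom =
        CommRingCat.ofHom ((Algebra.TensorProduct.map ψ₂ (AlgHom.id A B)).comp θ).toRingHom :=
      fun ψ₂ => rfl
    refine ⟨CommRingCat.ofHom ψ'.toRingHom, ⟨?_, ?_⟩, ?_⟩
    · ext a
      exact ψ'.commutes a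
    · intro m hm1 hm2
      have key : ε₀.hom ≫ m =
          CommRingCat.ofHom (Algebra.TensorProduct.map ψ' (AlgHom.id A B)).toRingHom ≫ ε.hom := by
        apply hT₀.hom_ext
        · rw [← Category.assoc, hε₀l, hm1, ← Category.assoc, inl_map, Category.assoc, hεl]
        · rw [← Category.assoc, hε₀r, hm2, ← Category.assoc, inr_map, hεr]
      rw [Category.assoc, key, ← Category.assoc, hcomp, hψ', hβ'', Category.assoc, Iso.inv_hom_id,
        Category.comp_id]
    · rintro ψ₂ ⟨h21, h22⟩
      let ψ₂' : W →ₐ[A] R := mkAlg ψ₂ h21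
      have hψ₂ : CommRingCat.ofHom ψ₂'.toRingHom = ψ₂ := rfl
      have hm := h22 (ε₀.inv ≫
        CommRingCat.ofHom (Algebra.TensorProduct.map ψ₂' (AlgHom.id A B)).toRingHom ≫ ε.hom) ?_ ?_
      · have h3 : CommRingCat.ofHom ((Algebra.TensorProduct.map ψ₂' (AlgHom.id A B)).comp θ).toRingHom
            = CommRingCat.ofHom β'.toRingHom := by
          rw [hβ'', ← hm, ← hcomp]
          simp only [Category.assoc, Iso.hom_inv_id_assoc, Iso.hom_inv_id, Category.comp_id]
        have h4 : (Algebra.TensorProduct.map ψ₂' (AlgHom.id A B)).comp θ = β' := by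
          ext c
          exact congrArg (fun F : C ⟶ CommRingCat.of (R ⊗[A] B) => F.hom c) h3
        have := huniq ψ₂' h4
        rw [← hψ₂, this]
      · rw [← hε₀l, Category.assoc, Iso.hom_inv_id_assoc, ← Category.assoc, inl_map, Category.assoc,
          hεl, hψ₂]
      · rw [← hε₀r, Category.assoc, Iso.hom_inv_id_assoc, ← Category.assoc, inr_map, hεr]


end cat

section affine

open Groth.Agent.R2.H63.WeilGeom

variable {Z X S : Scheme.{u}} [IsAffine Z] [IsAffine X] [IsAffine S] (g : Z ⟶ S) (f : X ⟶ S)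

theorem representable_of_projective_lfp (hfree : letI := (g.appTop).hom.toAlgebra
      Module.Finite Γ(S, ⊤) Γ(Z, ⊤) ∧ Module.Projective Γ(S, ⊤) Γ(Z, ⊤)) :
    ∃ W : Over S, IsAffine W.left ∧ (LocallyOfFiniteType f → LocallyOfFiniteType W.hom) ∧
      (LocallyOfFinitePresentation f → LocallyOfFinitePresentation W.hom) ∧
      Nonempty ((Flatn.morS g f).RepresentableBy W) := by
  obtain ⟨Wc, ω, hft, hfp, hWc⟩ := exists_isWeil_fp g.appTop f.appTop hfree
  let W : Over S := Over.mk (Spec.map ω ≫ S.isoSpec.inv)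
  have hWaff : IsAffine W.left := inferInstanceAs (IsAffine (Spec Wc))
  have hWlft : LocallyOfFiniteType f → LocallyOfFiniteType W.hom := by
    intro hf
    have h1 : f.appTop.hom.FiniteType :=
      (HasRingHomProperty.iff_of_isAffine (P := @LocallyOfFiniteType)).1 hf
    have h2 : LocallyOfFiniteType (Spec.map ω) :=
      (HasRingHomProperty.Spec_iff (P := @LocallyOfFiniteType)).2 (hft h1)
    change LocallyOfFiniteType (Spec.map ω ≫ S.isoSpec.inv)
    infer_instance
  have hWlfp : LocallyOfFinitePresentation f → LocallyOfFinitePresentation W.hom := by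
    intro hf
    have h1 : f.appTop.hom.FinitePresentation :=
      (HasRingHomProperty.iff_of_isAffine (P := @LocallyOfFinitePresentation)).1 hf
    have h2 : LocallyOfFinitePresentation (Spec.map ω) :=
      (HasRingHomProperty.Spec_iff (P := @LocallyOfFinitePresentation)).2 (hfp h1)
    change LocallyOfFinitePresentation (Spec.map ω ≫ S.isoSpec.inv)
    infer_instance
  let e : Wc ≅ Γ(W.left, ⊤) := (Scheme.ΓSpecIso Wc).symm
  have hω : W.hom.appTop = ω ≫ e.hom := by
    change (Spec.map ω ≫ S.isoSpec.inv).appTop = ω ≫ (Scheme.ΓSpecIso Wc).inv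
    rw [Scheme.Hom.comp_appTop, isoSpec_inv_appTop, ← cancel_mono (Scheme.ΓSpecIso Wc).hom,
      Category.assoc, Category.assoc, Iso.inv_hom_id, Category.comp_id, Scheme.ΓSpecIso_naturality,
      Iso.inv_hom_id_assoc]
  have hP₀ : IsPushout W.hom.appTop g.appTop (pullback.fst W.hom g).appTop
      (pullback.snd W.hom g).appTop :=
    isPushout_appTop_of_isPullback (IsPullback.of_hasPullback W.hom g)
  rw [hω] at hP₀
  obtain ⟨θ, hθ1, hθ2⟩ := hWc _ _ _ (isPushout_of_iso e hP₀)
  have hu : affLift θ ≫ f = pullback.snd W.hom g ≫ g := by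
    apply ext_of_isAffine
    rw [Scheme.Hom.comp_appTop, Scheme.Hom.comp_appTop, affLift_appTop, hθ1]
  let u : (Flatn.morS g f).obj (op W) := mkSec g f (affLift θ) hu
  have hW : IsWeil g.appTop f.appTop W.hom.appTop (pullback.fst W.hom g).appTop
      (pullback.snd W.hom g).appTop (sec g f u).appTop := by
    rw [hω, sec_mkSec, affLift_appTop]
    exact IsWeil.of_iso e hθ2
  have hbij : ∀ (T : Over S), IsAffine T.left → Function.Bijective (η g f W u T) :=
    fun T hT => η_bijective_of_isAffine g f W u hW T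
  have hinj : ∀ T : Over S, Function.Injective (η g f W u T) :=
    η_injective g f W u (fun T hT => (hbij T hT).1)
  have hsurj : ∀ T : Over S, Function.Surjective (η g f W u T) :=
    η_surjective g f W u hinj (fun T hT => (hbij T hT).2)
  exact ⟨W, hWaff, hWlft, hWlfp, ⟨
    { homEquiv := fun {T} => Equiv.ofBijective (η g f W u T) ⟨hinj T, hsurj T⟩,
      homEquiv_comp := fun s t => η_comp g f W u s t }⟩⟩

end affine

section sheaf

open Groth.Agent.R2.H63.WeilGeom Groth.Agent.R2.H63.WeilGlue Groth.Agent.S13210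

variable {Z X S : Scheme.{u}} (g : Z ⟶ S) (f : X ⟶ S)

theorem local_rep_lfp (hg : Mor2.IsFinLocFree g) [IsAffineHom f] (V' : Over S)
    (hV : IsAffine V'.left) (gV' : (AlgSp.yon S).obj V' ⟶ (AlgSp.yon S).obj (SS S)) :
    ∃ (W : Over S) (i : W ⟶ V') (fst : (AlgSp.yon S).obj W ⟶ morSh g f),
      IsPullback fst ((AlgSp.yon S).map i) (πS g f) gV' ∧ IsAffineHom i.left ∧
        (LocallyOfFiniteType f → LocallyOfFiniteType i.left) ∧
        (LocallyOfFinitePresentation f → LocallyOfFinitePresentation i.left) := by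
  obtain ⟨hfin, hflat, hfp⟩ := hg
  have hgV : Mor2.IsFinLocFree (gV g V'.hom) := ⟨inferInstance, inferInstance, inferInstance⟩
  obtain ⟨hZaff, hproj⟩ := finite_projective_of_isFinLocFree (gV g V'.hom) hgV
  have hXaff : IsAffine (pullback V'.hom f) := inferInstance
  obtain ⟨WV, hWV, hlft, hlfp, ⟨R⟩⟩ :=
    representable_of_projective_lfp (gV g V'.hom) (fV f V'.hom) hproj
  let fst : (AlgSp.yon S).obj (totW V'.hom WV) ⟶ morSh g f :=
    (yEquiv (totW V'.hom WV) (morSh g f)).symm (upS g f (totU R))
  have hfst : downS g f (yEquiv (totW V'.hom WV) (morSh g f) fst) = totU R := by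
    change downS g f ((yEquiv (totW V'.hom WV) (morSh g f))
      ((yEquiv (totW V'.hom WV) (morSh g f)).symm (upS g f (totU R)))) = totU R
    rw [Equiv.apply_symm_apply, downS_upS]
  refine ⟨totW V'.hom WV, totι V'.hom WV, fst, ?_, ?_, ?_, ?_⟩
  · refine isPullback_of_yon (Subsingleton.elim _ _) ?_
    intro T b c _
    obtain ⟨t, rfl⟩ := (AlgSp.yon S).map_surjective c
    obtain ⟨t', ⟨ht1, ht2⟩, huniq⟩ := existsUnique_lift R T (downS g f (yEquiv T (morSh g f) b)) t
    refine ⟨(AlgSp.yon S).map t', ⟨?_, ?_⟩, ?_⟩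
    · apply (yEquiv T (morSh g f)).injective
      apply downS_injective
      rw [yEquiv_morSh_map, hfst]
      exact ht1
    · rw [← Functor.map_comp]
      exact congrArg _ ht2
    · rintro a ⟨ha1, ha2⟩
      obtain ⟨t'', rfl⟩ := (AlgSp.yon S).map_surjective a
      congr 1
      apply huniq
      refine ⟨?_, ?_⟩
      · have := congrArg (fun m => downS g f (yEquiv T (morSh g f) m)) ha1
        simp only [yEquiv_morSh_map, hfst] at this
        exact this
      · apply (AlgSp.yon S).map_injective
        rw [Functor.map_comp]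
        exact ha2
  · change IsAffineHom WV.hom
    infer_instance
  · intro hf
    change LocallyOfFiniteType WV.hom
    exact hlft inferInstance
  · intro hf
    change LocallyOfFinitePresentation WV.hom
    exact hlfp inferInstance

set_option backward.isDefEq.respectTransparency.types false in
theorem isZariskiLocalAtTarget_isAffineHom_inf_lfp :
    IsZariskiLocalAtTarget
      (@IsAffineHom.{u} ⊓ @LocallyOfFinitePresentation.{u} : MorphismProperty Scheme.{u}) :=
  inferInstance

/-- If `X → S` is affine and locally of finite presentation, so is `Mor_S(Z, X) → S`. -/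
theorem representable_affineHom_lfp (hg : Mor2.IsFinLocFree g) [IsAffineHom f]
    [LocallyOfFinitePresentation f] :
    ∃ W : Over S, IsAffineHom W.hom ∧ LocallyOfFinitePresentation W.hom ∧
      Nonempty ((Flatn.morS g f).RepresentableBy W) := by
  have := isZariskiLocalAtTarget_isAffineHom_inf_lfp.{u}
  obtain ⟨W, ⟨h1, h2⟩, h3⟩ := representable_of_local_rep g f
    (@IsAffineHom ⊓ @LocallyOfFinitePresentation : MorphismProperty Scheme.{u})
    (fun V' hV gV' => by
      obtain ⟨W, i, fst, h1, h2, -, h3⟩ := local_rep_lfp g f hg V' hV gV'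
      exact ⟨W, i, fst, h1, h2, h3 inferInstance⟩)
  exact ⟨W, h1, h2, h3⟩

/-- **`Mor_S(Z, X)` for `Z` finite locally free and `X` affine over `S`**: representable by a
scheme affine over `S`, of finite type resp. finite presentation if `X` is. -/
theorem representable_affineHom_all (hg : Mor2.IsFinLocFree g) [IsAffineHom f] :
    ∃ W : Over S, IsAffineHom W.hom ∧
      (LocallyOfFiniteType f → LocallyOfFiniteType W.hom) ∧
      (LocallyOfFinitePresentation f → LocallyOfFinitePresentation W.hom) ∧
      Nonempty ((Flatn.morS g f).RepresentableBy W) := by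
  by_cases hfp : LocallyOfFinitePresentation f
  · obtain ⟨W, h1, h2, h3⟩ := representable_affineHom_lfp g f hg
    exact ⟨W, h1, fun _ => inferInstance, fun _ => h2, h3⟩
  · by_cases hft : LocallyOfFiniteType f
    · obtain ⟨W, h1, h2, h3⟩ := representable_affineHom_lft g f hg
      exact ⟨W, h1, fun _ => h2, fun h => absurd h hfp, h3⟩
    · obtain ⟨W, h1, h3⟩ := representable_affineHom g f hg
      exact ⟨W, h1, fun h => absurd h hft, fun h => absurd h hfp, h3⟩

end sheaf

end Groth.Agent.R2.H63.WeilFP
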