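import Mathlib
import Groth.Agent.R2.H63WeilFP
import Groth.Agent.R2.H63Centralizer
import Groth.Prelude.Def_AutFam

/-!
# helper63: the schemes `Mor_S(Y, X)` and `Hom_{S-gr}(E, G)` for finite locally free sources and
affine targets, in the `⊗` form (`Y ⊗ T ⟶ X`), with finite type / finite presentation clauses.
-/

set_option autoImplicit false
set_option linter.style.haveILetI false

open CategoryTheory Limits AlgebraicGeometry Opposite MonoidalCategory CartesianMonoidalCategory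
  MonObj

namespace Groth.Agent.R2.H63.HomFin

universe u

open Groth.Agent.R2.H63.Stab Groth.Agent.R2.H63.WeilGlue Groth.Agent.R2.H63.EqLocus

section swap

variable {S : Scheme.{u}} (Y : Over S)

theorem PT_ext {T' T : Over S} (a b : T' ⟶ PT Y T) (h1 : a ≫ p1 Y T = b ≫ p1 Y T)
    (h2 : a ≫ p2 Y T = b ≫ p2 Y T) : a = b := by
  ext1
  apply pullback.hom_ext
  · exact congrArg (fun m => m.left) h1
  · exact congrArg (fun m => m.left) h2

theorem comp_pair {T'' T' T : Over S} (h : T'' ⟶ T') (t : T' ⟶ T) (y : T' ⟶ Y) :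
    h ≫ pair Y t y = pair Y (h ≫ t) (h ≫ y) := by
  apply PT_ext
  · rw [Category.assoc, pair_p1, pair_p1]
  · rw [Category.assoc, pair_p2, pair_p2]

theorem pair_PTmap {T' T G : Over S} (t : T' ⟶ T) (y : T' ⟶ Y) (g : T ⟶ G) :
    pair Y t y ≫ PTmap Y g = pair Y (t ≫ g) y := by
  apply PT_ext
  · rw [Category.assoc, PTmap_p1, pair_p1_assoc, pair_p1]
  · rw [Category.assoc, PTmap_p2, pair_p2, pair_p2]

theorem pair_p1_p2 (T : Over S) : pair Y (p1 Y T) (p2 Y T) = 𝟙 _ := by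
  apply PT_ext
  · rw [pair_p1, Category.id_comp]
  · rw [pair_p2, Category.id_comp]

/-- the swap `Y ⊗ T ⟶ T ×_S Y`. -/
noncomputable def sw (T : Over S) : Y ⊗ T ⟶ PT Y T := pair Y (snd Y T) (fst Y T)

/-- the swap `T ×_S Y ⟶ Y ⊗ T`. -/
noncomputable def swInv (T : Over S) : PT Y T ⟶ Y ⊗ T := lift (p2 Y T) (p1 Y T)

@[reassoc (attr := simp)]
theorem sw_swInv (T : Over S) : sw Y T ≫ swInv Y T = 𝟙 _ := by
  unfold sw swInv
  rw [comp_lift, pair_p1, pair_p2]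
  exact lift_fst_snd

@[reassoc (attr := simp)]
theorem swInv_sw (T : Over S) : swInv Y T ≫ sw Y T = 𝟙 _ := by
  unfold sw swInv
  rw [comp_pair, lift_fst, lift_snd, pair_p1_p2]

@[reassoc]
theorem lift_sw {X T : Over S} (y : X ⟶ Y) (t : X ⟶ T) : lift y t ≫ sw Y T = pair Y t y := by
  unfold sw
  rw [comp_pair, lift_fst, lift_snd]

@[reassoc]
theorem whiskerLeft_sw {T M : Over S} (v : T ⟶ M) : (Y ◁ v) ≫ sw Y M = sw Y T ≫ PTmap Y v := by
  unfold sw
  rw [comp_pair, pair_PTmap, whiskerLeft_fst, whiskerLeft_snd]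

end swap

section mor

variable {S : Scheme.{u}} {Y X : Over S} {M : Over S}
  (ρ : (Flatn.morS Y.hom X.hom).RepresentableBy M)

/-- the universal section, on `T ×_S Y`. -/
noncomputable def univ : PT Y M ⟶ X := ρ.homEquiv (𝟙 M)

theorem homEquiv_eq {T : Over S} (v : T ⟶ M) :
    (ρ.homEquiv v : PT Y T ⟶ X) = PTmap Y v ≫ univ ρ := by
  have := ρ.homEquiv_comp v (𝟙 M)
  rw [Category.comp_id] at this
  exact this

/-- the evaluation morphism `Y ⊗ M ⟶ X`. -/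
noncomputable def ev : Y ⊗ M ⟶ X := sw Y M ≫ univ ρ

theorem whiskerLeft_ev {T : Over S} (v : T ⟶ M) :
    (Y ◁ v) ≫ ev ρ = sw Y T ≫ (ρ.homEquiv v : PT Y T ⟶ X) := by
  unfold ev
  rw [whiskerLeft_sw_assoc, homEquiv_eq]

theorem existsUnique_ev {T : Over S} (φ : Y ⊗ T ⟶ X) : ∃! v : T ⟶ M, (Y ◁ v) ≫ ev ρ = φ := by
  refine ⟨ρ.homEquiv.symm (swInv Y T ≫ φ : PT Y T ⟶ X), ?_, ?_⟩
  · change (Y ◁ _) ≫ ev ρ = φ
    rw [whiskerLeft_ev, Equiv.apply_symm_apply, sw_swInv_assoc]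
  · intro v hv
    have hv' : (Y ◁ v) ≫ ev ρ = φ := hv
    rw [whiskerLeft_ev] at hv'
    rw [Equiv.eq_symm_apply, ← hv', swInv_sw_assoc]

end mor

/-- **`Mor_S(Y, X)` in tensor form**: for `Y` finite locally free and `X` affine over `S`. -/
theorem exists_morScheme {S : Scheme.{u}} (Y X : Over S) (hY : Mor2.IsFinLocFree Y.hom)
    [IsAffineHom X.hom] :
    ∃ (M : Over S) (e : Y ⊗ M ⟶ X), IsAffineHom M.hom ∧
      (LocallyOfFiniteType X.hom → LocallyOfFiniteType M.hom) ∧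
      (LocallyOfFinitePresentation X.hom → LocallyOfFinitePresentation M.hom) ∧
      ∀ (T : Over S) (φ : Y ⊗ T ⟶ X), ∃! v : T ⟶ M, (Y ◁ v) ≫ e = φ := by
  obtain ⟨M, h1, h2, h3, ⟨ρ⟩⟩ := Groth.Agent.R2.H63.WeilFP.representable_affineHom_all Y.hom X.hom hY
  exact ⟨M, ev ρ, h1, h2, h3, fun T φ => existsUnique_ev ρ φ⟩

end Groth.Agent.R2.H63.HomFin
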