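import Mathlib
import Groth.Agent.R2.H63HomFin

/-!
# helper63: the scheme `Hom_{S-gr}(E, G)` for `E` a finite locally free group and `G` a group affine
over `S`: a closed subscheme of `Mor_S(E, G)`, hence affine over `S`; of finite type / finite
presentation if `G` is.
-/

set_option autoImplicit false
set_option linter.style.haveILetI false

open CategoryTheory Limits AlgebraicGeometry Opposite MonoidalCategory CartesianMonoidalCategory
  MonObj

namespace Groth.Agent.R2.H63.HomFin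

universe u

open Groth.Agent.R2.H63.Stab Groth.Agent.R2.H63.WeilGlue Groth.Agent.R2.H63.EqLocus

section rep

variable {S : Scheme.{u}} {E X Xt : Over S} (a₁ a₂ : PT E X ⟶ Xt)

/-- the agreement locus of two sections of `Mor_S(E, Xt)` over `X` is closed when `Mor_S(E, Xt)` is
representable by a scheme separated over `S`; of finite presentation if the latter is locally of
finite type. -/
theorem exists_closed_of_rep_lfp (M : Over S) [IsSeparated M.hom]
    (ρ : (Flatn.morS E.hom Xt.hom).RepresentableBy M) :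
    ∃ (Z : Over S) (j : Z ⟶ X), IsClosedImmersion j.left ∧
      (LocallyOfFiniteType M.hom → LocallyOfFinitePresentation j.left) ∧
      ∀ (T : Over S) (g : T ⟶ X), (∃ z : T ⟶ Z, z ≫ j = g) ↔ Agree a₁ a₂ g := by
  by_cases hM : LocallyOfFiniteType M.hom
  · let α : X ⟶ M := ρ.homEquiv.symm a₁
    let β : X ⟶ M := ρ.homEquiv.symm a₂
    have hα : ∀ {T : Over S} (g : T ⟶ X),
        ρ.homEquiv (g ≫ α) = (PTmap E g ≫ a₁ : PT E T ⟶ Xt) := by
      intro T g
      rw [ρ.homEquiv_comp, Equiv.apply_symm_apply]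
      rfl
    have hβ : ∀ {T : Over S} (g : T ⟶ X),
        ρ.homEquiv (g ≫ β) = (PTmap E g ≫ a₂ : PT E T ⟶ Xt) := by
      intro T g
      rw [ρ.homEquiv_comp, Equiv.apply_symm_apply]
      rfl
    have key : ∀ {T : Over S} (g : T ⟶ X),
        (g.left ≫ α.left = g.left ≫ β.left) ↔ Agree a₁ a₂ g := by
      intro T g
      have h1 : (g.left ≫ α.left = g.left ≫ β.left) ↔ g ≫ α = g ≫ β := by
        constructor
        · intro h
          ext1
          exact h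
        · intro h
          exact congrArg (fun f => f.left) h
      rw [h1]
      unfold Agree
      rw [← hα, ← hβ]
      exact ρ.homEquiv.injective.eq_iff.symm
    obtain ⟨E', e₀, hcl, hfp, heq, huniv⟩ :=
      exists_equalizer_closedImmersion_lfp M.hom α.left β.left (by rw [Over.w α, Over.w β])
    refine ⟨Over.mk (e₀ ≫ X.hom), Over.homMk e₀ rfl, hcl, fun _ => hfp, fun T x => ?_⟩
    rw [← key]
    constructor
    · rintro ⟨z, rfl⟩
      change (z.left ≫ e₀) ≫ α.left = (z.left ≫ e₀) ≫ β.left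
      rw [Category.assoc, Category.assoc, heq]
    · intro h
      obtain ⟨l, hl⟩ := huniv x.left h
      refine ⟨Over.homMk l ?_, ?_⟩
      · change l ≫ e₀ ≫ X.hom = T.hom
        rw [← Category.assoc, hl, Over.w x]
      · ext1
        exact hl
  · obtain ⟨Z, j, h1, h2⟩ := exists_closed_of_rep a₁ a₂ M ρ
    exact ⟨Z, j, h1, fun h => absurd h hM, h2⟩

end rep

section hom

variable {S : Scheme.{u}} (E G : Over S) [GrpObj E] [GrpObj G]

/-- multiplicativity of a section `φ` of `Mor_S(E, G)` over `T`, on `T ×_S E`. -/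
def IsMult {T : Over S} (φ : PT E T ⟶ G) : Prop :=
  ∀ (X : Over S) (g₁ g₂ : X ⟶ E) (t : X ⟶ T),
    pair E t (g₁ * g₂) ≫ φ = (pair E t g₁ ≫ φ) * (pair E t g₂ ≫ φ)

theorem isHomFamily_iff {T : Over S} (φ : E ⊗ T ⟶ G) :
    AutFam.IsHomFamily E G φ ↔ IsMult E G (swInv E T ≫ φ) := by
  have h : ∀ (X : Over S) (g : X ⟶ E) (t : X ⟶ T), pair E t g ≫ swInv E T ≫ φ = lift g t ≫ φ := by
    intro X g t
    rw [← lift_sw, Category.assoc, sw_swInv_assoc]
  unfold AutFam.IsHomFamily IsMult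
  simp only [h]

theorem isHomFamily_sw_iff {T : Over S} (φ : PT E T ⟶ G) :
    AutFam.IsHomFamily E G (sw E T ≫ φ) ↔ IsMult E G φ := by
  rw [isHomFamily_iff, swInv_sw_assoc]

variable {M₀ : Over S} (u₀ : PT E M₀ ⟶ G)

/-- `(m, (e₁, e₂)) ↦ u₀(m, e₁ e₂)`. -/
noncomputable def mulSecA : PT (E ⊗ E) M₀ ⟶ G :=
  pair E (p1 (E ⊗ E) M₀) (p2 (E ⊗ E) M₀ ≫ μ) ≫ u₀

/-- `(m, (e₁, e₂)) ↦ u₀(m, e₁) u₀(m, e₂)`. -/
noncomputable def mulSecB : PT (E ⊗ E) M₀ ⟶ G :=
  (pair E (p1 (E ⊗ E) M₀) (p2 (E ⊗ E) M₀ ≫ fst E E) ≫ u₀) *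
    (pair E (p1 (E ⊗ E) M₀) (p2 (E ⊗ E) M₀ ≫ snd E E) ≫ u₀)

theorem agree_iff_isMult {T : Over S} (g : T ⟶ M₀) :
    Agree (mulSecA E G u₀) (mulSecB E G u₀) g ↔ IsMult E G (PTmap E g ≫ u₀) := by
  have eA : PTmap (E ⊗ E) g ≫ mulSecA E G u₀ =
      pair E (p1 (E ⊗ E) T) (p2 (E ⊗ E) T ≫ μ) ≫ PTmap E g ≫ u₀ := by
    unfold mulSecA
    rw [← Category.assoc, comp_pair, PTmap_p1, PTmap_p2_assoc, ← Category.assoc, pair_PTmap]
  have eB : PTmap (E ⊗ E) g ≫ mulSecB E G u₀ =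
      (pair E (p1 (E ⊗ E) T) (p2 (E ⊗ E) T ≫ fst E E) ≫ PTmap E g ≫ u₀) *
        (pair E (p1 (E ⊗ E) T) (p2 (E ⊗ E) T ≫ snd E E) ≫ PTmap E g ≫ u₀) := by
    unfold mulSecB
    rw [MonObj.comp_mul, ← Category.assoc, ← Category.assoc, comp_pair, comp_pair, PTmap_p1,
      PTmap_p2_assoc, PTmap_p2_assoc, ← Category.assoc, ← Category.assoc, pair_PTmap, pair_PTmap]
  unfold Agree
  rw [eA, eB]
  constructor
  · intro h X g₁ g₂ t
    have k : ∀ (y : PT (E ⊗ E) T ⟶ E) (ψ : PT E T ⟶ G),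
        pair (E ⊗ E) t (lift g₁ g₂) ≫ pair E (p1 (E ⊗ E) T) y ≫ ψ =
          pair E t (pair (E ⊗ E) t (lift g₁ g₂) ≫ y) ≫ ψ := by
      intro y ψ
      rw [← Category.assoc, comp_pair, pair_p1]
    have := congrArg (fun m => pair (E ⊗ E) t (lift g₁ g₂) ≫ m) h
    simp only [MonObj.comp_mul] at this
    rw [k, k, k, pair_p2_assoc, pair_p2_assoc, pair_p2_assoc, lift_fst, lift_snd,
      ← Hom.mul_def] at this
    exact this
  · intro h
    have := h (PT (E ⊗ E) T) (p2 (E ⊗ E) T ≫ fst E E) (p2 (E ⊗ E) T ≫ snd E E) (p1 (E ⊗ E) T)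
    have e : (p2 (E ⊗ E) T ≫ fst E E) * (p2 (E ⊗ E) T ≫ snd E E) = p2 (E ⊗ E) T ≫ μ := by
      rw [Hom.mul_def, ← comp_lift, lift_fst_snd, Category.comp_id]
    rw [e] at this
    exact this

theorem isFinLocFree_tensor (hE : Mor2.IsFinLocFree E.hom) : Mor2.IsFinLocFree (E ⊗ E).hom := by
  obtain ⟨h1, h2, h3⟩ := hE
  change Mor2.IsFinLocFree (pullback.fst E.hom E.hom ≫ E.hom)
  exact ⟨inferInstance, inferInstance, inferInstance⟩

/-- **`Hom_{S-gr}(E, G)`** for `E` a finite locally free `S`-group and `G` an `S`-group affine over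
`S`: representable by a scheme affine over `S`, of finite type (resp. finite presentation) if `G`
is. -/
theorem exists_repHom (hE : Mor2.IsFinLocFree E.hom) [IsAffineHom G.hom] :
    ∃ (A : Over S) (υ : E ⊗ A ⟶ G), AutFam.RepresentsHom E G A υ ∧ IsAffineHom A.hom ∧
      (LocallyOfFiniteType G.hom → LocallyOfFiniteType A.hom) ∧
      (LocallyOfFinitePresentation G.hom → LocallyOfFinitePresentation A.hom) := by
  have hE2 : Mor2.IsFinLocFree (E ⊗ E).hom := isFinLocFree_tensor E hE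
  obtain ⟨M₀, hM₀a, hM₀ft, hM₀fp, ⟨ρ₀⟩⟩ :=
    Groth.Agent.R2.H63.WeilFP.representable_affineHom_all E.hom G.hom hE
  obtain ⟨N, hNa, hNft, -, ⟨ρN⟩⟩ :=
    Groth.Agent.R2.H63.WeilFP.representable_affineHom_all (E ⊗ E).hom G.hom hE2
  haveI : IsSeparated N.hom := inferInstance
  obtain ⟨Z, j, hj, hjfp, hZ⟩ :=
    exists_closed_of_rep_lfp (mulSecA E G (univ ρ₀)) (mulSecB E G (univ ρ₀)) N ρN
  haveI hjmono : Mono j := by
    have : Mono ((Over.forget S).map j) := inferInstanceAs (Mono j.left)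
    exact (Over.forget S).mono_of_mono_map inferInstance
  have hυ : ∀ {T : Over S} (v : T ⟶ M₀), (E ◁ v) ≫ ev ρ₀ = sw E T ≫ PTmap E v ≫ univ ρ₀ := by
    intro T v
    rw [whiskerLeft_ev, homEquiv_eq]
  have hZhom : j.left ≫ M₀.hom = Z.hom := Over.w j
  refine ⟨Z, (E ◁ j) ≫ ev ρ₀, ⟨?_, ?_⟩, ?_, ?_, ?_⟩
  · rw [hυ, isHomFamily_sw_iff, ← agree_iff_isMult]
    exact (hZ Z j).1 ⟨𝟙 _, Category.id_comp _⟩
  · intro T φ hφ
    obtain ⟨v₀, hv₀, hv₀u⟩ := existsUnique_ev ρ₀ φ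
    have hv₀' : (E ◁ v₀) ≫ ev ρ₀ = φ := hv₀
    have hag : Agree (mulSecA E G (univ ρ₀)) (mulSecB E G (univ ρ₀)) v₀ := by
      rw [agree_iff_isMult, ← isHomFamily_sw_iff, ← hυ, hv₀']
      exact hφ
    obtain ⟨z, hz⟩ := (hZ T v₀).2 hag
    refine ⟨z, ?_, ?_⟩
    · change (E ◁ z) ≫ (E ◁ j) ≫ ev ρ₀ = φ
      rw [← Category.assoc, ← MonoidalCategory.whiskerLeft_comp, hz, hv₀']
    · intro z' hz'
      have hz'' : (E ◁ z') ≫ (E ◁ j) ≫ ev ρ₀ = φ := hz'
      rw [← Category.assoc, ← MonoidalCategory.whiskerLeft_comp] at hz''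
      have := hv₀u _ hz''
      rw [← cancel_mono j, this, hz]
  · rw [← hZhom]
    infer_instance
  · intro hG
    have := hM₀ft hG
    rw [← hZhom]
    infer_instance
  · intro hG
    have h1 := hM₀fp hG
    have h2 : LocallyOfFiniteType G.hom := inferInstance
    have h3 := hjfp (hNft h2)
    rw [← hZhom]
    infer_instance

end hom

end Groth.Agent.R2.H63.HomFin
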