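import Groth.Agent.R2.H97MTAsm

/-!
# PROJ:mt-hom (helper97): the clopen-locus theorem when the source is of multiplicative type of
arbitrary type (no finiteness on the character groups of the source); S19140.
-/

set_option autoImplicit false

universe u

open CategoryTheory MonoidalCategory CartesianMonoidalCategory MonObj GrpObj AlgebraicGeometry
  CategoryTheory.Limits

namespace Groth.Agent.R2.H97.MTAsm2

open Groth.Agent.R2.H97.MTSpec Groth.Agent.R2.H97.MTBase Groth.Agent.R2.H97.MTHom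
  Groth.Agent.R2.H97.MTAsm

variable (𝒟 : PropData.{u})

section Cov

variable {S S₁ S₂ : Scheme.{u}} (f₁ : S₁ ⟶ S) (f₂ : S₂ ⟶ S) {G H : Over S} [GrpObj G] [GrpObj H]
  (u : G ⟶ H) [IsMonHom u]

/-- Local analysis on the common refinement of the two trivialising coverings. -/
theorem localCov'
    (hG : ∀ s₁ : S₁, ∃ U : S₁.Opens, s₁ ∈ U ∧ ∃ (M : Type) (_ : AddCommGroup M),
      Nonempty (Grp.mk (Red.bc (U.ι ≫ f₁) G) ≅ Grp.mk (Red.DS (U : Scheme.{u}) M)))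
    (hH : ∀ s₂ : S₂, ∃ U : S₂.Opens, s₂ ∈ U ∧ ∃ (N : Type) (_ : AddCommGroup N), AddGroup.FG N ∧
      Nonempty (Grp.mk (Red.bc (U.ι ≫ f₂) H) ≅ Grp.mk (Red.DS (U : Scheme.{u}) N)))
    (t : ↑(pullback f₂ f₁)) :
    ∃ (W : (pullback f₂ f₁).Opens) (q : Prop), t ∈ W ∧
      ∀ (T : Scheme.{u}) (g : T ⟶ pullback f₂ f₁), Set.range g.base ⊆ (W : Set ↑(pullback f₂ f₁)) →
        (q → 𝒟.P ((Over.pullback (g ≫ pullback.snd f₂ f₁ ≫ f₁)).map u).left) ∧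
        (Nonempty T → 𝒟.P ((Over.pullback (g ≫ pullback.snd f₂ f₁ ≫ f₁)).map u).left → q) := by
  obtain ⟨U₁, h1, M, _, ⟨ψ₁⟩⟩ := hG ((pullback.snd f₂ f₁) t)
  obtain ⟨U₂, h2, N, _, hN, ⟨ψ₂⟩⟩ := hH ((pullback.fst f₂ f₁) t)
  let T₀ : (pullback f₂ f₁).Opens := (pullback.snd f₂ f₁) ⁻¹ᵁ U₁ ⊓ (pullback.fst f₂ f₁) ⁻¹ᵁ U₂
  have htT₀ : t ∈ T₀ := ⟨h1, h2⟩
  let g₀ : (T₀ : Scheme.{u}) ⟶ S := T₀.ι ≫ pullback.snd f₂ f₁ ≫ f₁
  let a₁ : (T₀ : Scheme.{u}) ⟶ U₁ := (pullback.snd f₂ f₁).resLE U₁ T₀ inf_le_left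
  let a₂ : (T₀ : Scheme.{u}) ⟶ U₂ := (pullback.fst f₂ f₁).resLE U₂ T₀ inf_le_right
  have e₁ : a₁ ≫ (U₁.ι ≫ f₁) = g₀ := by
    rw [← Category.assoc, Scheme.Hom.resLE_comp_ι, Category.assoc]
  have e₂ : a₂ ≫ (U₂.ι ≫ f₂) = g₀ := by
    rw [← Category.assoc, Scheme.Hom.resLE_comp_ι, Category.assoc, pullback.condition]
  let ψG := trivBC (U₁.ι ≫ f₁) ψ₁ a₁ g₀ e₁
  let ψH := trivBC (U₂.ι ≫ f₂) ψ₂ a₂ g₀ e₂
  obtain ⟨W₀, φ, hW₀, hkey⟩ := localKey 𝒟 u g₀ hN ψG ψH ⟨t, htT₀⟩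
  refine ⟨T₀.ι ''ᵁ W₀, 𝒟.p φ, ⟨⟨t, htT₀⟩, hW₀, rfl⟩, fun T g hg => ?_⟩
  have hgT₀ : Set.range g.base ⊆ Set.range T₀.ι.base := by
    rintro _ ⟨y, rfl⟩
    obtain ⟨w, -, hw⟩ := hg ⟨y, rfl⟩
    exact ⟨w, hw⟩
  let g' : T ⟶ (T₀ : Scheme.{u}) := IsOpenImmersion.lift T₀.ι g hgT₀
  have hg' : g' ≫ T₀.ι = g := IsOpenImmersion.lift_fac T₀.ι g hgT₀
  have hg'W : Set.range g'.base ⊆ (W₀ : Set ↑(T₀ : Scheme.{u})) := by
    rintro _ ⟨y, rfl⟩
    obtain ⟨w, hwW, hw⟩ := hg ⟨y, rfl⟩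
    have : w = g' y := by
      apply T₀.ι.isOpenEmbedding.injective
      refine Eq.trans hw ?_
      rw [← Scheme.Hom.comp_apply, hg']
    rw [← this]
    exact hwW
  have heq : g ≫ pullback.snd f₂ f₁ ≫ f₁ = g' ≫ g₀ := by
    rw [← hg', Category.assoc]
  have hiff := hkey T g' hg'W
  rw [prop_bcCongr 𝒟.P heq u]
  exact ⟨fun hq => hiff.2 (𝒟.ofHom T φ hq), fun hne hP => 𝒟.toHom T φ hne (hiff.1 hP)⟩

end Cov

section Main

variable (hD1 : ∀ {S' S : Scheme.{u}} (f : S' ⟶ S), IsFpqcCov f → ∀ A : Set S,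
    IsOpen (f.base ⁻¹' A) → IsOpen A)
  (hD2 : ∀ {S' S T : Scheme.{u}} (f : S' ⟶ S) (g : T ⟶ S), IsFpqcCov f →
    IsFpqcCov (Limits.pullback.snd f g))
  (hD3 : ∀ {S'' S' S : Scheme.{u}} (f' : S'' ⟶ S') (f : S' ⟶ S), IsFpqcCov f' → IsFpqcCov f →
    IsFpqcCov (f' ≫ f))

include hD1 hD2 hD3 in
/-- **Main theorem**: the locus where a homomorphism of groups of multiplicative type of finite
type has fibrewise the property `P` is open and closed, and the homomorphism has `P` over it. -/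
theorem main' {S : Scheme.{u}} (G H : Over S) [GrpObj G] [GrpObj H]
    (hG : ∃ (S' : Scheme.{u}) (f : S' ⟶ S), Flat f ∧ Surjective f ∧
      (∀ V : S.Opens, IsAffineOpen V → ∃ W : S'.Opens, IsCompact (W : Set S') ∧
        f.base '' (W : Set S') = (V : Set S)) ∧
      ∀ s' : S', ∃ U : S'.Opens, s' ∈ U ∧ ∃ (M : Type) (_ : AddCommGroup M),
        Nonempty (Grp.mk (Red.bc (U.ι ≫ f) G) ≅ Grp.mk (Red.DS (U : Scheme.{u}) M))) (hH : SGA3x.IsMultTypeFT H) (u : G ⟶ H) [IsMonHom u] :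
    ∃ U : S.Opens, IsClosed (U : Set S) ∧
      (∀ s : S, s ∈ U ↔ 𝒟.P ((Over.pullback (S.fromSpecResidueField s)).map u).left) ∧
      𝒟.P ((Over.pullback U.ι).map u).left := by
  obtain ⟨S₁, f₁, hfl₁, hsj₁, hc₁, hG'⟩ := hG
  obtain ⟨S₂, f₂, hfl₂, hsj₂, hc₂, hH'⟩ := hH
  have cov₁ : IsFpqcCov f₁ := ⟨hfl₁, hsj₁, hc₁⟩
  have cov₂ : IsFpqcCov f₂ := ⟨hfl₂, hsj₂, hc₂⟩
  let S' : Scheme.{u} := pullback f₂ f₁
  let f : S' ⟶ S := pullback.snd f₂ f₁ ≫ f₁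
  have covf : IsFpqcCov f := hD3 _ _ (hD2 f₂ f₁ cov₂) cov₁
  choose W q htW hWq using localCov' 𝒟 f₁ f₂ u hG' hH'
  have := 𝒟.respectsIso
  let Q : S → Prop := fun s => 𝒟.P ((Over.pullback (S.fromSpecResidueField s)).map u).left
  have step3 : ∀ t : S',
      𝒟.P ((Over.pullback (S'.fromSpecResidueField t ≫ f)).map u).left ↔ Q (f t) := by
    intro t
    have e : S'.fromSpecResidueField t ≫ f =
        Spec.map (f.residueFieldMap t) ≫ S.fromSpecResidueField (f t) :=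
      (Scheme.Hom.SpecMap_residueFieldMap_fromSpecResidueField f t).symm
    rw [prop_bcCongr 𝒟.P e u, prop_bcComp 𝒟.P _ _ u]
    exact ⟨𝒟.descends _ (isFpqcCov_residueFieldMap f t) _, 𝒟.baseChange _ _⟩
  have step4 : ∀ t t' : S', t' ∈ W t → (Q (f t') ↔ q t) := by
    intro t t' ht'
    rw [← step3 t']
    have hr : Set.range (S'.fromSpecResidueField t').base ⊆ (W t : Set S') := by
      rw [Scheme.range_fromSpecResidueField]
      exact Set.singleton_subset_iff.2 ht'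
    obtain ⟨h1, h2⟩ := hWq t _ (S'.fromSpecResidueField t') hr
    exact ⟨h2 inferInstance, h1⟩
  have hopen : IsOpen {s | Q s} := by
    apply hD1 f covf
    rw [isOpen_iff_forall_mem_open]
    intro t ht
    refine ⟨W t, ?_, (W t).2, htW t⟩
    intro t' ht'
    exact (step4 t t' ht').2 ((step4 t t (htW t)).1 ht)
  have hclosed : IsClosed {s | Q s} := by
    constructor
    apply hD1 f covf
    rw [isOpen_iff_forall_mem_open]
    intro t ht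
    refine ⟨W t, ?_, (W t).2, htW t⟩
    intro t' ht' hQ
    exact ht ((step4 t t (htW t)).2 ((step4 t t' ht').1 hQ))
  let U : S.Opens := ⟨{s | Q s}, hopen⟩
  refine ⟨U, hclosed, fun s => Iff.rfl, ?_⟩
  let fU := pullback.snd f U.ι
  let r := pullback.fst f U.ι
  have covU : IsFpqcCov fU := hD2 f U.ι covf
  apply 𝒟.descends fU covU
  rw [← prop_bcComp 𝒟.P fU U.ι u]
  have e : fU ≫ U.ι = r ≫ f := pullback.condition.symm
  rw [prop_bcCongr 𝒟.P e u]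
  apply 𝒟.zariski ((Over.pullback (r ≫ f)).map u) (fun y : ↑(pullback f U.ι) => r ⁻¹ᵁ W (r y))
    (fun y => ⟨y, htW (r y)⟩)
  intro y
  rw [← prop_bcComp 𝒟.P _ (r ≫ f) u]
  have hq : q (r y) := by
    rw [← step4 (r y) (r y) (htW (r y))]
    have h1 : f (r y) = U.ι (fU y) := by
      rw [← Scheme.Hom.comp_apply, ← Scheme.Hom.comp_apply, e]
    change f (r y) ∈ U
    rw [h1]
    exact (fU y).2
  have hrange : Set.range ((r ⁻¹ᵁ W (r y)).ι ≫ r).base ⊆ (W (r y) : Set S') := by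
    rintro _ ⟨z, rfl⟩
    exact z.2
  have h2 := (hWq (r y) _ ((r ⁻¹ᵁ W (r y)).ι ≫ r) hrange).1 hq
  rwa [← Category.assoc] at h2

end Main

section Inst

variable (hD : PkgD.{u}) (hP : PkgP.{u})

include hD hP in
/-- S19140 from the packages (source of arbitrary multiplicative type, target of finite type). -/
theorem s19140_of {S : Scheme.{u}} (H Q : Over S) [GrpObj H] [GrpObj Q]
    (hH : ∃ (S' : Scheme.{u}) (f : S' ⟶ S), Flat f ∧ Surjective f ∧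
      (∀ V : S.Opens, IsAffineOpen V → ∃ W : S'.Opens, IsCompact (W : Set S') ∧
        f.base '' (W : Set S') = (V : Set S)) ∧
      ∀ s' : S', ∃ U : S'.Opens, s' ∈ U ∧ ∃ (M : Type) (_ : AddCommGroup M),
        Nonempty (Grp.mk (Red.bc (U.ι ≫ f) H) ≅ Grp.mk (Red.DS (U : Scheme.{u}) M)))
    (hQ : SGA3x.IsMultTypeFT Q) (f : H ⟶ Q) [IsMonHom f] :
    ∃ U : S.Opens, IsClosed (U : Set S) ∧
      (∀ s : S, s ∈ U ↔ (Flat ((Over.pullback (S.fromSpecResidueField s)).map f).left ∧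
        Surjective ((Over.pullback (S.fromSpecResidueField s)).map f).left)) ∧
      (Flat ((Over.pullback U.ι).map f).left ∧ Surjective ((Over.pullback U.ι).map f).left) :=
  main' (ffData hD hP) hD.1 hD.2.1 hD.2.2.1 H Q hH hQ f

end Inst

end Groth.Agent.R2.H97.MTAsm2
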