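import Mathlib
import Groth.Agent.R2.H63HomEt
import Groth.Agent.R2.H60MTD
import Groth.Agent.R2.H97MTAsm2

/-!
# helper63: the scheme of homomorphisms between groups of multiplicative type is étale and
universally closed over the base (when quasi-compact), by fpqc descent from the trivialised case
-/

set_option autoImplicit false
set_option linter.style.haveILetI false

universe u

open CategoryTheory MonoidalCategory CartesianMonoidalCategory MonObj GrpObj AlgebraicGeometry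
  CategoryTheory.Limits

namespace Groth.Agent.R2.H63.HomFam

open Groth.Agent.R2.H97.MTSpec Groth.Agent.R2.H97.MTBase Groth.Agent.R2.H60.MTD

/-- a Zariski-local property of `pullback.snd a f` can be checked on an open cover of the source
of `f`. -/
lemma prop_snd_of_local (P : MorphismProperty Scheme.{u}) [IsZariskiLocalAtTarget P]
    {X S S' : Scheme.{u}} (a : X ⟶ S) (f : S' ⟶ S)
    (h : ∀ t : S', ∃ T₀ : S'.Opens, t ∈ T₀ ∧ P (pullback.snd a (T₀.ι ≫ f))) :
    P (pullback.snd a f) := by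
  choose T₀ htT₀ hP using h
  have hO : TopologicalSpace.IsOpenCover T₀ := by
    rw [TopologicalSpace.IsOpenCover, eq_top_iff]
    intro x _
    rw [TopologicalSpace.Opens.mem_iSup]
    exact ⟨x, htT₀ x⟩
  let 𝒰 := S'.openCoverOfIsOpenCover T₀ hO
  rw [IsZariskiLocalAtTarget.iff_of_openCover (P := P) 𝒰]
  intro t
  change P (pullback.snd (pullback.snd a f) (T₀ t).ι)
  have outer : IsPullback
      (pullback.fst (pullback.snd a f) (T₀ t).ι ≫ pullback.fst a f)
      (pullback.snd (pullback.snd a f) (T₀ t).ι) a ((T₀ t).ι ≫ f) :=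
    ((IsPullback.of_hasPullback (pullback.snd a f) (T₀ t).ι).flip.paste_vert
      (IsPullback.of_hasPullback a f).flip).flip
  rw [← outer.isoPullback_hom_snd, P.cancel_left_of_respectsIso]
  exact hP t

section Main

variable {S : Scheme.{u}} (G H : Over S) [GrpObj G] [GrpObj H]

/-- **the scheme of homomorphisms between groups of multiplicative type** (the target of finite
type) is étale over the base, and universally closed if it is quasi-compact. -/
theorem etale_and_universallyClosed_of_representsHom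
    (hG : ∃ (S' : Scheme.{u}) (f : S' ⟶ S), Flat f ∧ Surjective f ∧
      (∀ V : S.Opens, IsAffineOpen V → ∃ W : S'.Opens, IsCompact (W : Set S') ∧
        f.base '' (W : Set S') = (V : Set S)) ∧
      ∀ s' : S', ∃ U : S'.Opens, s' ∈ U ∧ ∃ (M : Type) (_ : AddCommGroup M),
        Nonempty (Grp.mk (Red.bc (U.ι ≫ f) G) ≅ Grp.mk (Red.DS (U : Scheme.{u}) M)))
    (hH : SGA3x.IsMultTypeFT H) (A : Over S) (υ : G ⊗ A ⟶ H)
    (hA : AutFam.RepresentsHom G H A υ) :
    Etale A.hom ∧ (QuasiCompact A.hom → UniversallyClosed A.hom) := by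
  obtain ⟨S₁, f₁, hfl₁, hsj₁, hc₁, hG'⟩ := hG
  obtain ⟨S₂, f₂, hfl₂, hsj₂, hc₂, hH'⟩ := hH
  have cov₁ : IsFpqcCov f₁ := ⟨hfl₁, hsj₁, hc₁⟩
  have cov₂ : IsFpqcCov f₂ := ⟨hfl₂, hsj₂, hc₂⟩
  let S' : Scheme.{u} := pullback f₂ f₁
  let f : S' ⟶ S := pullback.snd f₂ f₁ ≫ f₁
  have covf : IsFpqcCov f := isFpqcCov_comp _ _ (isFpqcCov_pullback_snd f₂ f₁ cov₂) cov₁
  -- local sections on a trivialising open cover of `S'`
  have hloc : ∀ t : S', ∃ T₀ : S'.Opens, t ∈ T₀ ∧
      ∀ x : ↑(pullback A.hom (T₀.ι ≫ f)), ∃ (U : (pullback A.hom (T₀.ι ≫ f)).Opens)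
        (σ : (T₀ : Scheme.{u}) ⟶ pullback A.hom (T₀.ι ≫ f)), x ∈ U ∧
        σ ≫ pullback.snd A.hom (T₀.ι ≫ f) = 𝟙 _ ∧
        U.ι ≫ pullback.snd A.hom (T₀.ι ≫ f) ≫ σ = U.ι := by
    intro t
    obtain ⟨U₁, h1, M, _, ⟨ψ₁⟩⟩ := hG' ((pullback.snd f₂ f₁) t)
    obtain ⟨U₂, h2, N, _, hN, ⟨ψ₂⟩⟩ := hH' ((pullback.fst f₂ f₁) t)
    let T₀ : S'.Opens := (pullback.snd f₂ f₁) ⁻¹ᵁ U₁ ⊓ (pullback.fst f₂ f₁) ⁻¹ᵁ U₂
    have htT₀ : t ∈ T₀ := ⟨h1, h2⟩
    let g₀ : (T₀ : Scheme.{u}) ⟶ S := T₀.ι ≫ f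
    let a₁ : (T₀ : Scheme.{u}) ⟶ U₁ := (pullback.snd f₂ f₁).resLE U₁ T₀ inf_le_left
    let a₂ : (T₀ : Scheme.{u}) ⟶ U₂ := (pullback.fst f₂ f₁).resLE U₂ T₀ inf_le_right
    have e₁ : a₁ ≫ (U₁.ι ≫ f₁) = g₀ := by
      rw [← Category.assoc, Scheme.Hom.resLE_comp_ι, Category.assoc]
    have e₂ : a₂ ≫ (U₂.ι ≫ f₂) = g₀ := by
      rw [← Category.assoc, Scheme.Hom.resLE_comp_ι, Category.assoc, pullback.condition]
    let ψG := trivBC (U₁.ι ≫ f₁) ψ₁ a₁ g₀ e₁
    let ψH := trivBC (U₂.ι ≫ f₂) ψ₂ a₂ g₀ e₂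
    exact ⟨T₀, htT₀, fun x => exists_section_of_local g₀ ψG ψH hA hN x⟩
  constructor
  · have hP : MorphismProperty.DescendsAlong (@Etale : MorphismProperty Scheme.{u})
        (@Surjective ⊓ @Flat ⊓ @QuasiCompact : MorphismProperty Scheme.{u}) := inferInstance
    refine descend_of_fpqcCov hP A.hom f covf ?_
    refine prop_snd_of_local @Etale A.hom f fun t => ?_
    obtain ⟨T₀, htT₀, hsec⟩ := hloc t
    exact ⟨T₀, htT₀, etale_of_local_sections _ hsec⟩
  · intro hqc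
    have hP : MorphismProperty.DescendsAlong (@UniversallyClosed : MorphismProperty Scheme.{u})
        (@Surjective ⊓ @Flat ⊓ @QuasiCompact : MorphismProperty Scheme.{u}) := inferInstance
    refine descend_of_fpqcCov hP A.hom f covf ?_
    refine prop_snd_of_local @UniversallyClosed A.hom f fun t => ?_
    obtain ⟨T₀, htT₀, hsec⟩ := hloc t
    refine ⟨T₀, htT₀, ?_⟩
    haveI : QuasiCompact (pullback.snd A.hom (T₀.ι ≫ f)) := inferInstance
    exact UniversallyClosed.of_valuativeCriterion _ (existence_of_local_sections _ hsec)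

end Main

end Groth.Agent.R2.H63.HomFam
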