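import Mathlib
import Groth.Agent.R2.H63FactorLocus
import Groth.Agent.R2.H63WeilFP
import Groth.Agent.Lib.Helper12ZarGlue
import Groth.Agent.Lib.Helper12PullbackPts

/-!
# Open subfunctors of `Mor_S(Z, X)` and representability under the AF condition (helper63)

For `E → S` finite and `U ⊆ X` open, `Mor_S(E, U) ⟶ Mor_S(E, X)` is representable by open immersions:
over a `T`-point `a : E_T ⟶ X` the locus is `T ∖ p(a⁻¹(X ∖ U))`.
-/

set_option autoImplicit false
set_option linter.style.haveILetI false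
set_option linter.unusedSectionVars false

open CategoryTheory Limits AlgebraicGeometry Opposite TopologicalSpace

namespace Groth.Agent.R2.H63.MorOpen

universe u

open Groth.Agent.R2.H63.Stab Groth.Agent.R2.H63.WeilGeom Groth.Agent.R2.H63.WeilGlue
  Groth.Agent.R2.H63.EqLocus Groth.Agent.S13210

variable {S : Scheme.{u}} (E Xt : Over S)

section Locus

variable {E Xt}

/-- the set of points of `T` over which `a : E_T ⟶ X` maps the fibre of `E_T` into `U` -/
def locus {T : Over S} (a : PT E T ⟶ Xt) (U : Xt.left.Opens) : Set T.left :=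
  ((p1 E T).left '' (a.left ⁻¹' ((U : Set Xt.left)ᶜ)))ᶜ

theorem isOpen_locus [IsFinite E.hom] {T : Over S} (a : PT E T ⟶ Xt) (U : Xt.left.Opens) :
    IsOpen (locus a U) := by
  rw [locus, isOpen_compl_iff]
  have hfin : IsFinite (p1 E T).left := by
    change IsFinite (pullback.fst T.hom E.hom)
    infer_instance
  apply (p1 E T).left.isClosedMap
  exact (U.isOpen.isClosed_compl).preimage a.left.continuous

/-- the open subscheme of `T` -/
noncomputable def locusOpen [IsFinite E.hom] {T : Over S} (a : PT E T ⟶ Xt) (U : Xt.left.Opens) :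
    T.left.Opens := ⟨locus a U, isOpen_locus a U⟩

theorem isPullback_PTmap {T' T : Over S} (t : T' ⟶ T) :
    IsPullback (PTmap E t).left (p1 E T').left (p1 E T).left t.left := by
  have hr : IsPullback (pullback.snd T.hom E.hom) (pullback.fst T.hom E.hom) E.hom T.hom :=
    (IsPullback.of_hasPullback T.hom E.hom).flip
  have hbig : IsPullback (pullback.snd T'.hom E.hom) (pullback.fst T'.hom E.hom) E.hom T'.hom :=
    (IsPullback.of_hasPullback T'.hom E.hom).flip
  have e1 : (PTmap E t).left ≫ pullback.snd T.hom E.hom = pullback.snd T'.hom E.hom :=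
    congrArg (fun m => m.left) (PTmap_p2 E t)
  have e2 : t.left ≫ T.hom = T'.hom := Over.w t
  have e3 : (PTmap E t).left ≫ (p1 E T).left = (p1 E T').left ≫ t.left :=
    congrArg (fun m => m.left) (PTmap_p1 E t)
  refine IsPullback.of_right ?_ e3 hr
  rw [e1, e2]
  exact hbig

end Locus

section Sub

variable {E Xt}

/-- the open `U` of `X` as an object over `S` -/
noncomputable abbrev XU (U : Xt.left.Opens) : Over S := Over.mk (U.ι ≫ Xt.hom)

/-- the inclusion of `U` -/
noncomputable abbrev yU (U : Xt.left.Opens) : XU U ⟶ Xt := Over.homMk U.ι rfl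

instance mono_yU (U : Xt.left.Opens) : Mono (yU U) := by
  have : Mono ((Over.forget S).map (yU U)) := inferInstanceAs (Mono U.ι)
  exact (Over.forget S).mono_of_mono_map inferInstance

theorem mem_locus_of_factors {T' T : Over S} (a : PT E T ⟶ Xt) (U : Xt.left.Opens) (t : T' ⟶ T)
    (c : PT E T' ⟶ XU U) (hc : c ≫ yU U = PTmap E t ≫ a) (x : T'.left) : t.left x ∈ locus a U := by
  rintro ⟨z, hz, hzx⟩
  obtain ⟨z', hz'1, hz'2⟩ :=
    Groth.Agent.Lib.Helper12.exists_preimage_of_isPullback (isPullback_PTmap (E := E) t) z x hzx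
  apply hz
  have h1 : a.left z = U.ι (c.left z') := by
    have h2 := congrArg (fun m => m.left z') hc
    simp only [Over.comp_left, Scheme.Hom.comp_apply] at h2
    rw [← hz'1]
    exact h2.symm
  rw [h1]
  exact (c.left z').2

theorem exists_factors_of_mem_locus {T' T : Over S} (a : PT E T ⟶ Xt) (U : Xt.left.Opens)
    (t : T' ⟶ T) (h : ∀ x : T'.left, t.left x ∈ locus a U) :
    ∃ c : PT E T' ⟶ XU U, c ≫ yU U = PTmap E t ≫ a := by
  have hrange : Set.range (PTmap E t ≫ a).left ⊆ Set.range U.ι := by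
    rintro _ ⟨z', rfl⟩
    rw [Scheme.Opens.range_ι]
    by_contra hcon
    apply h ((p1 E T').left z')
    refine ⟨(PTmap E t).left z', hcon, ?_⟩
    have e3 : (PTmap E t).left ≫ (p1 E T).left = (p1 E T').left ≫ t.left :=
      congrArg (fun m => m.left) (PTmap_p1 E t)
    have := congrArg (fun m : (PT E T').left ⟶ T.left => m z') e3
    simpa only [Scheme.Hom.comp_apply] using this
  refine ⟨Over.homMk (IsOpenImmersion.lift U.ι (PTmap E t ≫ a).left hrange) ?_, ?_⟩
  · change IsOpenImmersion.lift U.ι (PTmap E t ≫ a).left hrange ≫ U.ι ≫ Xt.hom = (PT E T').hom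
    rw [IsOpenImmersion.lift_fac_assoc]
    exact Over.w (PTmap E t ≫ a)
  · ext1
    exact IsOpenImmersion.lift_fac _ _ _

end Sub

section Rep

variable {E Xt} [IsFinite E.hom]

theorem PTmap_comp {T'' T' T : Over S} (s : T'' ⟶ T') (t : T' ⟶ T) :
    PTmap E (s ≫ t) = PTmap E s ≫ PTmap E t := by
  show (Over.map E.hom).map ((Over.pullback E.hom).map (s ≫ t)) = _
  rw [Functor.map_comp, Functor.map_comp]

/-- the open subscheme `T_U` of `T` as an object over `S` -/
noncomputable abbrev TU {T : Over S} (a : PT E T ⟶ Xt) (U : Xt.left.Opens) : Over S :=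
  Over.mk ((locusOpen a U).ι ≫ T.hom)

/-- the inclusion `T_U ⟶ T` -/
noncomputable abbrev jU {T : Over S} (a : PT E T ⟶ Xt) (U : Xt.left.Opens) : TU a U ⟶ T :=
  Over.homMk (locusOpen a U).ι rfl

instance mono_jU {T : Over S} (a : PT E T ⟶ Xt) (U : Xt.left.Opens) : Mono (jU a U) := by
  have : Mono ((Over.forget S).map (jU a U)) := inferInstanceAs (Mono (locusOpen a U).ι)
  exact (Over.forget S).mono_of_mono_map inferInstance

theorem jU_mem {T : Over S} (a : PT E T ⟶ Xt) (U : Xt.left.Opens) (x : (TU a U).left) :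
    (jU a U).left x ∈ locus a U := x.2

variable {W : Over S} {U : Xt.left.Opens} (R : (Flatn.morS E.hom (XU U).hom).RepresentableBy W)

/-- the universal morphism `E_W ⟶ U` -/
noncomputable def univ : PT E W ⟶ XU U := R.homEquiv (𝟙 W)

theorem homEquiv_eq {T : Over S} (β : T ⟶ W) :
    (R.homEquiv β : PT E T ⟶ XU U) = PTmap E β ≫ univ R := by
  have h := R.homEquiv_comp β (𝟙 W)
  rw [Category.comp_id] at h
  exact h

/-- the morphism `h_W ⟶ Mor_S(E, X)` -/
noncomputable def toMor : (AlgSp.yon S).obj W ⟶ morSh E.hom Xt.hom :=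
  (yEquiv W (morSh E.hom Xt.hom)).symm (upS E.hom Xt.hom (univ R ≫ yU U))

theorem downS_toMor {T : Over S} (β : T ⟶ W) :
    downS E.hom Xt.hom (yEquiv T (morSh E.hom Xt.hom) ((AlgSp.yon S).map β ≫ toMor R)) =
      (PTmap E β ≫ univ R ≫ yU U : PT E T ⟶ Xt) := by
  rw [yEquiv_morSh_map]
  unfold toMor
  rw [Equiv.apply_symm_apply, downS_upS]
  rfl

/-- a point of `Mor_S(E, X)` as a morphism of sheaves -/
noncomputable def ptMor {T : Over S} (a : PT E T ⟶ Xt) : (AlgSp.yon S).obj T ⟶ morSh E.hom Xt.hom :=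
  (yEquiv T (morSh E.hom Xt.hom)).symm (upS E.hom Xt.hom a)

theorem downS_ptMor {T' T : Over S} (t : T' ⟶ T) (a : PT E T ⟶ Xt) :
    downS E.hom Xt.hom (yEquiv T' (morSh E.hom Xt.hom) ((AlgSp.yon S).map t ≫ ptMor a)) =
      (PTmap E t ≫ a : PT E T' ⟶ Xt) := by
  rw [yEquiv_morSh_map]
  unfold ptMor
  rw [Equiv.apply_symm_apply, downS_upS]
  rfl

theorem ptMor_surjective {T : Over S} (α : (AlgSp.yon S).obj T ⟶ morSh E.hom Xt.hom) :
    ∃ a : PT E T ⟶ Xt, ptMor a = α := by
  refine ⟨downS E.hom Xt.hom (yEquiv T _ α), ?_⟩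
  unfold ptMor
  apply (yEquiv T (morSh E.hom Xt.hom)).injective
  rw [Equiv.apply_symm_apply]
  rfl

/-- the lift `T_U ⟶ W` -/
noncomputable def liftU {T : Over S} (a : PT E T ⟶ Xt) : TU a U ⟶ W :=
  R.homEquiv.symm (exists_factors_of_mem_locus a U (jU a U) (jU_mem a U)).choose

theorem liftU_spec {T : Over S} (a : PT E T ⟶ Xt) :
    PTmap E (liftU R a) ≫ univ R ≫ yU U = PTmap E (jU a U) ≫ a := by
  rw [← Category.assoc, ← homEquiv_eq]
  unfold liftU
  rw [Equiv.apply_symm_apply]
  exact (exists_factors_of_mem_locus a U (jU a U) (jU_mem a U)).choose_spec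

theorem isPullback_toMor {T : Over S} (a : PT E T ⟶ Xt) :
    IsPullback ((AlgSp.yon S).map (liftU R a)) ((AlgSp.yon S).map (jU a U)) (toMor R) (ptMor a) := by
  refine isPullback_of_yon ?_ ?_
  · apply (yEquiv (TU a U) (morSh E.hom Xt.hom)).injective
    apply downS_injective
    rw [downS_toMor, downS_ptMor]
    exact liftU_spec R a
  · intro T' b c hbc
    obtain ⟨β, rfl⟩ := (AlgSp.yon S).map_surjective b
    obtain ⟨t, rfl⟩ := (AlgSp.yon S).map_surjective c
    have h1 : (PTmap E β ≫ univ R) ≫ yU U = PTmap E t ≫ a := by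
      have := congrArg (fun m => downS E.hom Xt.hom (yEquiv T' (morSh E.hom Xt.hom) m)) hbc
      simp only [downS_toMor, downS_ptMor] at this
      rw [Category.assoc]
      exact this
    have hmem := mem_locus_of_factors a U t (PTmap E β ≫ univ R) h1
    have hrange : Set.range t.left ⊆ Set.range (locusOpen a U).ι := by
      rintro _ ⟨x, rfl⟩
      rw [Scheme.Opens.range_ι]
      exact hmem x
    let t' : T' ⟶ TU a U := Over.homMk (IsOpenImmersion.lift (locusOpen a U).ι t.left hrange) (by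
      change IsOpenImmersion.lift (locusOpen a U).ι t.left hrange ≫ (locusOpen a U).ι ≫ T.hom = T'.hom
      rw [IsOpenImmersion.lift_fac_assoc]
      exact Over.w t)
    have ht' : t' ≫ jU a U = t := by
      ext1
      exact IsOpenImmersion.lift_fac _ _ _
    have hβ : t' ≫ liftU R a = β := by
      apply R.homEquiv.injective
      rw [homEquiv_eq, homEquiv_eq]
      show (PTmap E (t' ≫ liftU R a) ≫ univ R : PT E T' ⟶ XU U) = PTmap E β ≫ univ R
      rw [← cancel_mono (yU U), Category.assoc, Category.assoc]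
      have e1 : PTmap E (t' ≫ liftU R a) = PTmap E t' ≫ PTmap E (liftU R a) := PTmap_comp t' _
      rw [e1, Category.assoc, liftU_spec, ← Category.assoc]
      have e2 : PTmap E t' ≫ PTmap E (jU a U) = PTmap E t := by
        rw [← ht']
        exact (PTmap_comp t' _).symm
      rw [e2, ← h1, Category.assoc]
    refine ⟨(AlgSp.yon S).map t', ⟨?_, ?_⟩, ?_⟩
    · rw [← Functor.map_comp, hβ]
    · rw [← Functor.map_comp, ht']
    · rintro m ⟨-, hm2⟩
      obtain ⟨t'', rfl⟩ := (AlgSp.yon S).map_surjective m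
      congr 1
      rw [← cancel_mono (jU a U), ht']
      apply (AlgSp.yon S).map_injective
      rw [Functor.map_comp]
      exact hm2

theorem repWith_toMor : AlgSp.RepWith @IsOpenImmersion (toMor (Xt := Xt) R) := by
  apply MorphismProperty.relative.of_exists
  intro T α
  obtain ⟨a, rfl⟩ := ptMor_surjective α
  exact ⟨TU a U, (AlgSp.yon S).map (liftU R a), jU a U, isPullback_toMor R a,
    inferInstanceAs (IsOpenImmersion (locusOpen a U).ι)⟩

end Rep

section Glue

variable {E Xt} [IsFinite E.hom]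

/-- an isomorphism `h_W ≅ Mor_S(E, X)` gives a representation of `morS` -/
theorem representableBy_of_iso {W : Over S} (e : (AlgSp.yon S).obj W ≅ morSh E.hom Xt.hom) :
    Nonempty ((Flatn.morS E.hom Xt.hom).RepresentableBy W) := by
  have hinj : ∀ T : Over S, Function.Injective
      (fun t : T ⟶ W => downS E.hom Xt.hom (yEquiv T (morSh E.hom Xt.hom) ((AlgSp.yon S).map t ≫ e.hom))) := by
    intro T t t' h
    have h1 := (yEquiv T (morSh E.hom Xt.hom)).injective (downS_injective E.hom Xt.hom h)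
    exact (AlgSp.yon S).map_injective ((cancel_mono e.hom).1 h1)
  have hsurj : ∀ T : Over S, Function.Surjective
      (fun t : T ⟶ W => downS E.hom Xt.hom (yEquiv T (morSh E.hom Xt.hom) ((AlgSp.yon S).map t ≫ e.hom))) := by
    intro T x
    obtain ⟨t, ht⟩ := (AlgSp.yon S).map_surjective
      ((yEquiv T (morSh E.hom Xt.hom)).symm (upS E.hom Xt.hom x) ≫ e.inv)
    refine ⟨t, ?_⟩
    change downS E.hom Xt.hom (yEquiv T (morSh E.hom Xt.hom) ((AlgSp.yon S).map t ≫ e.hom)) = x
    rw [ht, Category.assoc, Iso.inv_hom_id, Category.comp_id, Equiv.apply_symm_apply, downS_upS]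
  refine ⟨{ homEquiv := fun {T} => Equiv.ofBijective _ ⟨hinj T, hsurj T⟩,
            homEquiv_comp := fun {T' T} s t => ?_ }⟩
  change downS E.hom Xt.hom (yEquiv T' (morSh E.hom Xt.hom) ((AlgSp.yon S).map (s ≫ t) ≫ e.hom)) =
    (Flatn.morS E.hom Xt.hom).map s.op
      (downS E.hom Xt.hom (yEquiv T (morSh E.hom Xt.hom) ((AlgSp.yon S).map t ≫ e.hom)))
  rw [Functor.map_comp, Category.assoc, yEquiv_morSh_map]

/-- **Gluing**: `Mor_S(E, X)` is representable as soon as every point `(T, a, t)` lies in the locus of some open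
`U` of the family `𝒰`, all of whose members are affine over `S`. -/
theorem representable_of_cover (hg : Mor2.IsFinLocFree E.hom) (𝒰 : Set Xt.left.Opens)
    (haff : ∀ U ∈ 𝒰, IsAffineHom (U.ι ≫ Xt.hom))
    (hcov : ∀ (T : Over S) (a : PT E T ⟶ Xt) (t : T.left), ∃ U ∈ 𝒰, t ∈ locus a U) :
    ∃ W : Over S, Nonempty ((Flatn.morS E.hom Xt.hom).RepresentableBy W) := by
  classical
  have hrep : ∀ i : {U : Xt.left.Opens // U ∈ 𝒰},
      ∃ W : Over S, Nonempty ((Flatn.morS E.hom (XU i.1).hom).RepresentableBy W) := fun i => by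
    haveI : IsAffineHom (XU i.1).hom := haff i.1 i.2
    obtain ⟨W, -, -, -, hW⟩ :=
      Groth.Agent.R2.H63.WeilFP.representable_affineHom_all E.hom (XU i.1).hom hg
    exact ⟨W, hW⟩
  choose Wi hWi using hrep
  have hf : ∀ i : {U : Xt.left.Opens // U ∈ 𝒰},
      AlgSp.RepWith @IsOpenImmersion (toMor (Xt := Xt) (hWi i).some) :=
    fun i => repWith_toMor (hWi i).some
  have hs : Groth.Agent.Lib.Helper12.ZarGlue.JointlySurjective hf := by
    intro T α t
    obtain ⟨a, rfl⟩ := ptMor_surjective α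
    obtain ⟨U, hU, htU⟩ := hcov T a t
    refine ⟨⟨U, hU⟩, ?_⟩
    have sq' := (hf ⟨U, hU⟩).rep.isPullback (ptMor a)
    have sq := isPullback_toMor (hWi ⟨U, hU⟩).some a
    obtain ⟨μ, hμ⟩ := (AlgSp.yon S).map_surjective (sq'.lift _ _ sq.w)
    have hμ2 : μ ≫ (hf ⟨U, hU⟩).rep.snd (ptMor a) = jU a U := by
      apply (AlgSp.yon S).map_injective
      rw [Functor.map_comp, hμ]
      exact sq'.lift_snd _ _ _
    refine ⟨μ.left ⟨t, htU⟩, ?_⟩
    have h3 := congrArg (fun m : TU a U ⟶ T => m.left ⟨t, htU⟩) hμ2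
    exact h3
  obtain ⟨W, e, -, -, -⟩ := Groth.Agent.Lib.Helper12.ZarGlue.exists_iso hf hs
  exact ⟨W, representableBy_of_iso e⟩

end Glue

section AF

variable {E Xt} [IsFinite E.hom]

/-- the AF condition: finitely many points of `X` over a common point of `S` lie in an affine open -/
def AF (Xt : Over S) : Prop :=
  ∀ (s : S) (d : ℕ) (x : Fin d → Xt.left), (∀ k, Xt.hom (x k) = s) →
    ∃ U : Xt.left.Opens, IsAffineOpen U ∧ ∀ k, x k ∈ U

theorem exists_mem_locus_of_AF (hAF : AF Xt) {T : Over S} (a : PT E T ⟶ Xt) (t : T.left) :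
    ∃ U : Xt.left.Opens, IsAffineOpen U ∧ t ∈ locus a U := by
  have hfin : IsFinite (p1 E T).left := by
    change IsFinite (pullback.fst T.hom E.hom)
    infer_instance
  have hF : ((p1 E T).left ⁻¹' {t}).Finite := (p1 E T).left.finite_preimage_singleton t
  haveI : Finite ↥((p1 E T).left ⁻¹' {t}) := hF
  obtain ⟨d, ⟨e⟩⟩ := Finite.exists_equiv_fin ↥((p1 E T).left ⁻¹' {t})
  have hx : ∀ k : Fin d, Xt.hom (a.left (e.symm k).1) = T.hom t := by
    intro k
    have h1 : a.left ≫ Xt.hom = (p1 E T).left ≫ T.hom := (Over.w a).trans (Over.w (p1 E T)).symm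
    have h2 := congrArg (fun m : (PT E T).left ⟶ S => m (e.symm k).1) h1
    simp only [Scheme.Hom.comp_apply] at h2
    rw [h2]
    exact congrArg T.hom (e.symm k).2
  obtain ⟨U, hU, hxU⟩ := hAF (T.hom t) d (fun k => a.left (e.symm k).1) hx
  refine ⟨U, hU, ?_⟩
  rintro ⟨z, hz, hzt⟩
  apply hz
  have h3 := hxU (e ⟨z, hzt⟩)
  rwa [Equiv.symm_apply_apply] at h3

/-- **affine base**: `Mor_S(E, X)` is representable for `E` finite locally free and `X` with AF -/
theorem representable_of_AF_affine [IsAffine S] (hg : Mor2.IsFinLocFree E.hom) (hAF : AF Xt) :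
    ∃ W : Over S, Nonempty ((Flatn.morS E.hom Xt.hom).RepresentableBy W) := by
  refine representable_of_cover hg {U | IsAffineOpen U} ?_ ?_
  · intro U hU
    haveI : IsAffine (U : Scheme.{u}) := hU
    infer_instance
  · intro T a t
    obtain ⟨U, hU, htU⟩ := exists_mem_locus_of_AF hAF a t
    exact ⟨U, hU, htU⟩

end AF

section PrimeAvoidance

/-- finitely many points of an affine open `U` lying in an open `O` are contained in a basic open of `U` inside
`O` (prime avoidance) -/
theorem exists_basicOpen_of_finite {X : Scheme.{u}} {U : X.Opens} (hU : IsAffineOpen U) (O : X.Opens)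
    {d : ℕ} (y : Fin d → X) (hyU : ∀ k, y k ∈ U) (hyO : ∀ k, y k ∈ O) :
    ∃ h : Γ(X, U), (∀ k, y k ∈ X.basicOpen h) ∧ X.basicOpen h ≤ O := by
  classical
  rcases Nat.eq_zero_or_pos d with hd | hd
  · subst hd
    refine ⟨0, fun k => k.elim0, ?_⟩
    rw [Scheme.basicOpen_zero]
    exact bot_le
  let O' : Set (PrimeSpectrum Γ(X, U)) := hU.fromSpec ⁻¹' (O : Set X)
  have hO' : IsOpen O' := O.isOpen.preimage hU.fromSpec.continuous
  let I : Ideal Γ(X, U) := PrimeSpectrum.vanishingIdeal O'ᶜ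
  have hI : PrimeSpectrum.zeroLocus (I : Set Γ(X, U)) = O'ᶜ := by
    rw [PrimeSpectrum.zeroLocus_vanishingIdeal_eq_closure, hO'.isClosed_compl.closure_eq]
  let p : Fin d → PrimeSpectrum Γ(X, U) := fun k => hU.primeIdealOf ⟨y k, hyU k⟩
  have hp : ∀ k, hU.fromSpec (p k) = y k := fun k => hU.fromSpec_primeIdealOf ⟨y k, hyU k⟩
  have hpO : ∀ k, ¬ I ≤ (p k).asIdeal := by
    intro k hle
    have h1 : p k ∈ PrimeSpectrum.zeroLocus (I : Set Γ(X, U)) := hle
    rw [hI] at h1
    apply h1
    show hU.fromSpec (p k) ∈ O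
    rw [hp k]
    exact hyO k
  have hav : ¬ ((I : Set Γ(X, U)) ⊆
      ⋃ k ∈ (↑(Finset.univ : Finset (Fin d)) : Set (Fin d)), ((p k).asIdeal : Set Γ(X, U))) := by
    intro hsub
    obtain ⟨k, -, hk⟩ := (Ideal.subset_union_prime (s := Finset.univ) (f := fun k => (p k).asIdeal)
      (⟨0, hd⟩ : Fin d) ⟨0, hd⟩ (fun i _ _ _ => (p i).isPrime)).1 hsub
    exact hpO k hk
  obtain ⟨h, hhI, hh⟩ := Set.not_subset.1 hav
  have hhp : ∀ k, h ∉ (p k).asIdeal := by
    intro k hk
    apply hh
    simp only [Finset.coe_univ, Set.mem_univ, Set.iUnion_true, Set.mem_iUnion]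
    exact ⟨k, hk⟩
  refine ⟨h, fun k => ?_, ?_⟩
  · rw [← hU.fromSpec_image_basicOpen]
    exact ⟨p k, hhp k, hp k⟩
  · rw [← hU.fromSpec_image_basicOpen]
    rintro _ ⟨q, hq, rfl⟩
    by_contra hcon
    have h1 : q ∈ O'ᶜ := hcon
    rw [← hI] at h1
    exact hq (h1 hhI)

end PrimeAvoidance

section BaseChange

/-- the AF condition passes to a base change along a morphism from an affine scheme -/
theorem AF_baseChange {S V X : Scheme.{u}} [IsAffine V] (v : V ⟶ S) (f : X ⟶ S)
    (hAF : AF (Over.mk f)) : AF (Over.mk (pullback.fst v f)) := by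
  intro w d x hx
  have hx' : ∀ k, pullback.fst v f (x k) = w := hx
  have hy : ∀ k, f (pullback.snd v f (x k)) = v w := by
    intro k
    rw [← Scheme.Hom.comp_apply, ← pullback.condition, Scheme.Hom.comp_apply, hx' k]
  obtain ⟨U₀, hU₀, hyU₀⟩ := hAF (v w) d (fun k => pullback.snd v f (x k)) hy
  obtain ⟨S₀, hS₀, hsS₀⟩ : ∃ S₀ : S.Opens, IsAffineOpen S₀ ∧ v w ∈ S₀ := by
    obtain ⟨_, ⟨S₀, hS₀, rfl⟩, hsS₀, -⟩ :=
      S.isBasis_affineOpens.exists_subset_of_mem_open (Set.mem_univ (v w)) isOpen_univ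
    exact ⟨S₀, hS₀, hsS₀⟩
  obtain ⟨h, hyh, hle⟩ := exists_basicOpen_of_finite hU₀ (f ⁻¹ᵁ S₀)
    (fun k => pullback.snd v f (x k)) hyU₀ (fun k => by
      show f (pullback.snd v f (x k)) ∈ S₀
      rw [hy k]
      exact hsS₀)
  have hU' : IsAffineOpen (X.basicOpen h) := hU₀.basicOpen h
  obtain ⟨r, hr1, hr2⟩ := (isAffineOpen_top V).exists_basicOpen_le
    (V := v ⁻¹ᵁ S₀) ⟨w, hsS₀⟩ trivial
  have hV'' : IsAffineOpen (V.basicOpen r) := (isAffineOpen_top V).basicOpen r
  haveI : IsAffine ((X.basicOpen h : X.Opens) : Scheme.{u}) := hU'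
  haveI : IsAffine ((V.basicOpen r : V.Opens) : Scheme.{u}) := hV''
  haveI : IsAffine ((S₀ : S.Opens) : Scheme.{u}) := hS₀
  have hra : Set.range ((V.basicOpen r).ι ≫ v) ⊆ Set.range S₀.ι := by
    rintro _ ⟨z, rfl⟩
    rw [Scheme.Opens.range_ι]
    exact hr1 z.2
  have hrb : Set.range ((X.basicOpen h).ι ≫ f) ⊆ Set.range S₀.ι := by
    rintro _ ⟨z, rfl⟩
    rw [Scheme.Opens.range_ι]
    exact hle z.2
  let a := IsOpenImmersion.lift S₀.ι ((V.basicOpen r).ι ≫ v) hra
  let b := IsOpenImmersion.lift S₀.ι ((X.basicOpen h).ι ≫ f) hrb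
  let m := pullback.map a b v f (V.basicOpen r).ι (X.basicOpen h).ι S₀.ι
    (IsOpenImmersion.lift_fac _ _ _) (IsOpenImmersion.lift_fac _ _ _)
  refine ⟨m.opensRange, isAffineOpen_opensRange m, fun k => ?_⟩
  show x k ∈ Set.range m
  rw [Scheme.Pullback.range_map]
  refine ⟨?_, ?_⟩
  · show pullback.fst v f (x k) ∈ Set.range (V.basicOpen r).ι
    rw [Scheme.Opens.range_ι, hx' k]
    exact hr2
  · show pullback.snd v f (x k) ∈ Set.range (X.basicOpen h).ι
    rw [Scheme.Opens.range_ι]
    exact hyh k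

end BaseChange

section Final

variable {Z X S : Scheme.{u}} (g : Z ⟶ S) (f : X ⟶ S)

/-- a representation of the base change to `V'` gives the local model over `V'` -/
theorem local_rep_of_rep (V' : Over S) (WV : Over V'.left)
    (R : (Flatn.morS (gV g V'.hom) (fV f V'.hom)).RepresentableBy WV)
    (gV' : (AlgSp.yon S).obj V' ⟶ (AlgSp.yon S).obj (SS S)) :
    ∃ (W : Over S) (i : W ⟶ V') (fst : (AlgSp.yon S).obj W ⟶ morSh g f),
      IsPullback fst ((AlgSp.yon S).map i) (πS g f) gV' := by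
  let fst : (AlgSp.yon S).obj (totW V'.hom WV) ⟶ morSh g f :=
    (yEquiv (totW V'.hom WV) (morSh g f)).symm (upS g f (totU R))
  have hfst : downS g f (yEquiv (totW V'.hom WV) (morSh g f) fst) = totU R := by
    change downS g f ((yEquiv (totW V'.hom WV) (morSh g f))
      ((yEquiv (totW V'.hom WV) (morSh g f)).symm (upS g f (totU R)))) = totU R
    rw [Equiv.apply_symm_apply, downS_upS]
  refine ⟨totW V'.hom WV, totι V'.hom WV, fst, ?_⟩
  refine isPullback_of_yon (Subsingleton.elim _ _) ?_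
  intro T b c _
  obtain ⟨t, rfl⟩ := (AlgSp.yon S).map_surjective c
  obtain ⟨t', ⟨ht1, ht2⟩, huniq⟩ := existsUnique_lift R T (downS g f (yEquiv T (morSh g f) b)) t
  refine ⟨(AlgSp.yon S).map t', ⟨?_, ?_⟩, ?_⟩
  · apply (yEquiv T (morSh g f)).injective
    apply downS_injective
    rw [yEquiv_morSh_map, hfst]
    exact ht1
  · rw [← Functor.map_comp]
    exact congrArg _ ht2
  · rintro a ⟨ha1, ha2⟩
    obtain ⟨t'', rfl⟩ := (AlgSp.yon S).map_surjective a
    congr 1
    apply huniq
    refine ⟨?_, ?_⟩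
    · have := congrArg (fun m => downS g f (yEquiv T (morSh g f) m)) ha1
      simp only [yEquiv_morSh_map, hfst] at this
      exact this
    · apply (AlgSp.yon S).map_injective
      rw [Functor.map_comp]
      exact ha2

/-- **S7195**: `Mor_S(Z, X)` is representable for `Z` finite locally free over `S` and `X` over `S` such that
finitely many points in a fibre lie in a common affine open. -/
theorem representable_of_AF (hg : Mor2.IsFinLocFree g) (hAF : AF (Over.mk f)) :
    ∃ W : Over S, Nonempty ((Flatn.morS g f).RepresentableBy W) := by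
  obtain ⟨W, -, hW⟩ := representable_of_local_rep g f (⊤ : MorphismProperty Scheme.{u})
    (fun V' hV gV' => by
      haveI : IsAffine V'.left := hV
      obtain ⟨hfin, hflat, hfp⟩ := hg
      have hgV : Mor2.IsFinLocFree (gV g V'.hom) := ⟨inferInstance, inferInstance, inferInstance⟩
      haveI : IsFinite (Over.mk (gV g V'.hom)).hom := hgV.1
      obtain ⟨WV, ⟨R⟩⟩ := representable_of_AF_affine (E := Over.mk (gV g V'.hom))
        (Xt := Over.mk (fV f V'.hom)) hgV (AF_baseChange V'.hom f hAF)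
      obtain ⟨W, i, fst, h⟩ := local_rep_of_rep g f V' WV R gV'
      exact ⟨W, i, fst, h, trivial⟩)
  exact ⟨W, hW⟩

end Final

end Groth.Agent.R2.H63.MorOpen
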