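import Mathlib
import Groth.Agent.R2.H63MorOpen

/-!
# `Mor_S(Z, X)` for `X` separated and locally quasi-finite over `S` (helper63)

A separated, locally quasi-finite morphism locally of finite type satisfies the AF condition: finitely many points
of a fibre lie in a quasi-compact open `X₀` over an affine open `S₀`, and by Zariski's main theorem `X₀` is an open
subscheme of an affine scheme (its relative normalization over `S₀`); conclude by prime avoidance.
-/

set_option autoImplicit false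
set_option linter.style.haveILetI false
set_option linter.unusedSectionVars false

open CategoryTheory Limits AlgebraicGeometry Opposite TopologicalSpace

namespace Groth.Agent.R2.H63.MorQF

universe u

open Groth.Agent.R2.H63.MorOpen

/-- finitely many points of an open subscheme of an affine scheme lie in an affine open -/
theorem exists_affine_of_openImmersion {X₀ N : Scheme.{u}} [IsAffine N] (j : X₀ ⟶ N) [IsOpenImmersion j]
    {d : ℕ} (x : Fin d → X₀) :
    ∃ U : X₀.Opens, IsAffineOpen U ∧ ∀ k, x k ∈ U := by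
  obtain ⟨h, hxh, hle⟩ := exists_basicOpen_of_finite (isAffineOpen_top N) j.opensRange
    (fun k => j (x k)) (fun _ => trivial) (fun k => ⟨x k, rfl⟩)
  refine ⟨j ⁻¹ᵁ N.basicOpen h, ?_, fun k => hxh k⟩
  rw [← j.isAffineOpen_iff_of_isOpenImmersion, Scheme.Hom.image_preimage_eq_opensRange_inf,
    inf_eq_right.2 hle]
  exact (isAffineOpen_top N).basicOpen h

theorem AF_of_quasiFinite {X S : Scheme.{u}} (f : X ⟶ S) [IsSeparated f] [LocallyQuasiFinite f]
    [LocallyOfFiniteType f] : AF (Over.mk f) := by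
  intro s d x hx
  have hx' : ∀ k, f (x k) = s := hx
  obtain ⟨S₀, hS₀, hsS₀⟩ : ∃ S₀ : S.Opens, IsAffineOpen S₀ ∧ s ∈ S₀ := by
    obtain ⟨_, ⟨S₀, hS₀, rfl⟩, hsS₀, -⟩ :=
      S.isBasis_affineOpens.exists_subset_of_mem_open (Set.mem_univ s) isOpen_univ
    exact ⟨S₀, hS₀, hsS₀⟩
  have hV : ∀ k, ∃ V : X.Opens, IsAffineOpen V ∧ x k ∈ V ∧ V ≤ f ⁻¹ᵁ S₀ := by
    intro k
    obtain ⟨_, ⟨V, hV, rfl⟩, hxV, hle⟩ := X.isBasis_affineOpens.exists_subset_of_mem_open
      (show x k ∈ f ⁻¹ᵁ S₀ from by show f (x k) ∈ S₀; rw [hx' k]; exact hsS₀) (f ⁻¹ᵁ S₀).isOpen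
    exact ⟨V, hV, hxV, hle⟩
  choose V hVaff hxV hVle using hV
  let X₀ : X.Opens := ⨆ k, V k
  have hX₀le : X₀ ≤ f ⁻¹ᵁ S₀ := iSup_le hVle
  have hxX₀ : ∀ k, x k ∈ X₀ := fun k => (le_iSup V k) (hxV k)
  have hX₀c : IsCompact (X₀ : Set X) := by
    have : (X₀ : Set X) = ⋃ k, (V k : Set X) := by simp [X₀]
    rw [this]
    exact isCompact_iUnion fun k => (hVaff k).isCompact
  haveI : CompactSpace ((X₀ : X.Opens) : Scheme.{u}) := isCompact_iff_compactSpace.mp hX₀c
  haveI : IsAffine ((S₀ : S.Opens) : Scheme.{u}) := hS₀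
  let f₀ : (X₀ : Scheme.{u}) ⟶ (S₀ : Scheme.{u}) := f.resLE S₀ X₀ hX₀le
  have hf₀ : f₀ ≫ S₀.ι = X₀.ι ≫ f := Scheme.Hom.resLE_comp_ι f hX₀le
  haveI h1 : IsSeparated (f₀ ≫ S₀.ι) := by rw [hf₀]; infer_instance
  haveI h2 : LocallyQuasiFinite (f₀ ≫ S₀.ι) := by rw [hf₀]; infer_instance
  haveI h3 : LocallyOfFiniteType (f₀ ≫ S₀.ι) := by rw [hf₀]; infer_instance
  haveI : IsSeparated f₀ := IsSeparated.of_comp f₀ S₀.ι
  haveI : LocallyQuasiFinite f₀ := LocallyQuasiFinite.of_comp f₀ S₀.ι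
  haveI : LocallyOfFiniteType f₀ := locallyOfFiniteType_of_comp f₀ S₀.ι
  haveI : QuasiCompact f₀ := inferInstance
  haveI : IsAffine f₀.normalization := isAffine_of_isAffineHom f₀.fromNormalization
  obtain ⟨U, hU, hxU⟩ := exists_affine_of_openImmersion f₀.toNormalization
    (fun k => (⟨x k, hxX₀ k⟩ : (X₀ : Scheme.{u})))
  refine ⟨X₀.ι ''ᵁ U, hU.image_of_isOpenImmersion X₀.ι, fun k => ?_⟩
  exact ⟨⟨x k, hxX₀ k⟩, hxU k, rfl⟩

end Groth.Agent.R2.H63.MorQF
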