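import Mathlib
import Groth.Prelude.Def_SGA3x
import Groth.Agent.Lib.Helper12AffineDescent

/-!
# helper63: groups of multiplicative type are affine over the base

`isAffineHom_of_isMultTypeFT`: `SGA3x.IsMultTypeFT H → IsAffineHom H.hom`, by fpqc descent of affine
morphisms (helper12 `descendsAlong_isAffineHom`) along the quasi-compact opens of the fpqc cover.
-/

set_option autoImplicit false
set_option linter.style.haveILetI false
universe u
open CategoryTheory Limits AlgebraicGeometry MonoidalCategory CartesianMonoidalCategory MorphismProperty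

namespace Groth.Agent.R2.H63.MultProj

/-- Claim A: base change of `H` to a scheme over an open of `S'` where `H` is diagonalizable is
affine. -/
theorem isAffineHom_snd_of_iso {S S' : Scheme.{u}} (H : Over S) [GrpObj H] (f : S' ⟶ S)
    (U : S'.Opens) (M : Type) [AddCommGroup M]
    (e : Grp.mk (Red.bc (U.ι ≫ f) H) ≅ Grp.mk (Red.DS (U : Scheme.{u}) M))
    {T : Scheme.{u}} (t : T ⟶ (U : Scheme.{u})) :
    IsAffineHom (pullback.snd H.hom (t ≫ U.ι ≫ f)) := by
  let e₀ : Red.bc (U.ι ≫ f) H ≅ Red.DS (U : Scheme.{u}) M := (Grp.forget _).mapIso e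
  let e₁ : pullback H.hom (U.ι ≫ f) ≅ (Red.DS (U : Scheme.{u}) M).left := (CategoryTheory.Over.forget _).mapIso e₀
  have he₁ : e₁.hom ≫ (Red.DS (U : Scheme.{u}) M).hom = pullback.snd H.hom (U.ι ≫ f) :=
    CategoryTheory.Over.w e₀.hom
  have hDS : IsAffineHom (Red.DS (U : Scheme.{u}) M).hom := by
    change IsAffineHom (pullback.snd _ _)
    have h0 : IsAffineHom (Red.diag (ULift.{u} ℤ) M).hom :=
      inferInstanceAs (IsAffineHom (Spec.map _))
    exact MorphismProperty.pullback_snd (P := @IsAffineHom) _ _ h0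
  have hU : IsAffineHom (pullback.snd H.hom (U.ι ≫ f)) := by
    rw [← he₁]
    infer_instance
  let a : pullback H.hom (t ≫ U.ι ≫ f) ⟶ pullback H.hom (U.ι ≫ f) :=
    pullback.lift (pullback.fst _ _) (pullback.snd _ _ ≫ t)
      (by rw [pullback.condition, Category.assoc])
  have ha1 : a ≫ pullback.fst H.hom (U.ι ≫ f) = pullback.fst H.hom (t ≫ U.ι ≫ f) :=
    pullback.lift_fst _ _ _
  have ha2 : a ≫ pullback.snd H.hom (U.ι ≫ f) = pullback.snd H.hom (t ≫ U.ι ≫ f) ≫ t :=
    pullback.lift_snd _ _ _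
  have hbig : IsPullback (a ≫ pullback.fst H.hom (U.ι ≫ f)) (pullback.snd H.hom (t ≫ U.ι ≫ f))
      H.hom (t ≫ U.ι ≫ f) := by
    rw [ha1]
    exact IsPullback.of_hasPullback _ _
  have sq1 : IsPullback a (pullback.snd H.hom (t ≫ U.ι ≫ f)) (pullback.snd H.hom (U.ι ≫ f)) t :=
    IsPullback.of_right hbig ha2 (IsPullback.of_hasPullback H.hom (U.ι ≫ f))
  exact MorphismProperty.of_isPullback (P := @IsAffineHom) sq1 hU

/-- Claim B: base change of `H` to any scheme over `S'` is affine when `H` is Zariski-locally on `S'`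
diagonalizable. -/
theorem isAffineHom_snd_of_local {S S' : Scheme.{u}} (H : Over S) [GrpObj H] (f : S' ⟶ S)
    (hloc : ∀ s' : S', ∃ U : S'.Opens, s' ∈ U ∧ ∃ (M : Type) (_ : AddCommGroup M),
      Nonempty (Grp.mk (Red.bc (U.ι ≫ f) H) ≅ Grp.mk (Red.DS (U : Scheme.{u}) M)))
    {T : Scheme.{u}} (t : T ⟶ S') : IsAffineHom (pullback.snd H.hom (t ≫ f)) := by
  choose U hU M iM hiso using hloc
  let O : T → T.Opens := fun x => t ⁻¹ᵁ U (t x)
  have hO : TopologicalSpace.IsOpenCover O := by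
    rw [TopologicalSpace.IsOpenCover, eq_top_iff]
    intro x _
    rw [TopologicalSpace.Opens.mem_iSup]
    exact ⟨x, hU (t x)⟩
  let 𝒰 := T.openCoverOfIsOpenCover O hO
  rw [IsZariskiLocalAtTarget.iff_of_openCover (P := @IsAffineHom) 𝒰]
  intro x
  change IsAffineHom (pullback.snd (pullback.snd H.hom (t ≫ f)) (O x).ι)
  let tO : ((O x : T.Opens) : Scheme.{u}) ⟶ ((U (t x) : S'.Opens) : Scheme.{u}) :=
    t.resLE (U (t x)) (O x) (le_refl _)
  have htO : tO ≫ (U (t x)).ι = (O x).ι ≫ t := Scheme.Hom.resLE_comp_ι _ _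
  have heq : (O x).ι ≫ t ≫ f = tO ≫ (U (t x)).ι ≫ f := by
    rw [← Category.assoc, ← htO, Category.assoc]
  have outer : IsPullback
      (pullback.fst (pullback.snd H.hom (t ≫ f)) (O x).ι ≫ pullback.fst H.hom (t ≫ f))
      (pullback.snd (pullback.snd H.hom (t ≫ f)) (O x).ι) H.hom ((O x).ι ≫ t ≫ f) :=
    ((IsPullback.of_hasPullback (pullback.snd H.hom (t ≫ f)) (O x).ι).flip.paste_vert
      (IsPullback.of_hasPullback H.hom (t ≫ f)).flip).flip
  rw [heq] at outer
  obtain ⟨e⟩ := hiso (t x)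
  have hA := isAffineHom_snd_of_iso H f (U (t x)) (M (t x)) e tO
  rw [← outer.isoPullback_hom_snd]
  infer_instance

/-- a group of multiplicative type is affine over the base (fpqc descent of affineness). -/
theorem isAffineHom_of_isMultTypeFT {S : Scheme.{u}} (H : Over S) [GrpObj H]
    (hH : SGA3x.IsMultTypeFT H) : IsAffineHom H.hom := by
  obtain ⟨S', f, hflat, hsurj, hqc, hloc⟩ := hH
  have hloc' : ∀ s' : S', ∃ U : S'.Opens, s' ∈ U ∧ ∃ (M : Type) (_ : AddCommGroup M),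
      Nonempty (Grp.mk (Red.bc (U.ι ≫ f) H) ≅ Grp.mk (Red.DS (U : Scheme.{u}) M)) := by
    intro s'
    obtain ⟨U, hsU, M, iM, -, hiso⟩ := hloc s'
    exact ⟨U, hsU, M, iM, hiso⟩
  refine ⟨fun V hV => ?_⟩
  obtain ⟨W, hWc, hWV⟩ := hqc V hV
  have hle : W ≤ f ⁻¹ᵁ V := by
    intro s' hs'
    have : f s' ∈ f.base '' (W : Set S') := ⟨s', hs', rfl⟩
    rw [hWV] at this
    exact this
  haveI : IsAffine (V : Scheme.{u}) := hV
  haveI : CompactSpace ((W : S'.Opens) : Scheme.{u}) := isCompact_iff_compactSpace.1 hWc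
  let g : ((W : S'.Opens) : Scheme.{u}) ⟶ (V : Scheme.{u}) := f.resLE V W hle
  have hg : g ≫ V.ι = W.ι ≫ f := Scheme.Hom.resLE_comp_ι _ _
  haveI : Flat g := inferInstance
  haveI : QuasiCompact g := inferInstance
  haveI : Surjective g := by
    constructor
    intro v
    have hv : (v.1 : S) ∈ f.base '' (W : Set S') := by rw [hWV]; exact v.2
    obtain ⟨s', hs', hfs⟩ := hv
    refine ⟨⟨s', hs'⟩, ?_⟩
    apply V.ι.injective
    have := congrArg (fun m => m.base (⟨s', hs'⟩ : ((W : S'.Opens) : Scheme.{u}))) hg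
    exact this.trans hfs
  -- the pullback square over `g`
  have hR := isPullback_morphismRestrict H.hom V
  have hc : pullback.fst H.hom (W.ι ≫ f) ≫ H.hom =
      (pullback.snd H.hom (W.ι ≫ f) ≫ g) ≫ V.ι := by
    rw [pullback.condition, Category.assoc, hg]
  let b : pullback H.hom (W.ι ≫ f) ⟶ ((H.hom ⁻¹ᵁ V : H.left.Opens) : Scheme.{u}) :=
    hR.lift (pullback.snd H.hom (W.ι ≫ f) ≫ g) (pullback.fst H.hom (W.ι ≫ f)) hc.symm
  have hb1 : b ≫ (H.hom ∣_ V) = pullback.snd H.hom (W.ι ≫ f) ≫ g := hR.lift_fst _ _ _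
  have hb2 : b ≫ (H.hom ⁻¹ᵁ V).ι = pullback.fst H.hom (W.ι ≫ f) := hR.lift_snd _ _ _
  have hbig : IsPullback (b ≫ (H.hom ⁻¹ᵁ V).ι) (pullback.snd H.hom (W.ι ≫ f)) H.hom
      (g ≫ V.ι) := by
    rw [hb2, hg]
    exact IsPullback.of_hasPullback _ _
  have sq : IsPullback b (pullback.snd H.hom (W.ι ≫ f)) (H.hom ∣_ V) g :=
    IsPullback.of_right hbig hb1 hR.flip
  have hA : IsAffineHom (pullback.snd H.hom (W.ι ≫ f)) :=
    isAffineHom_snd_of_local H f hloc' W.ι
  haveI := Groth.Agent.Lib.Helper12.descendsAlong_isAffineHom.{u}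
  have hV' : IsAffineHom (H.hom ∣_ V) :=
    MorphismProperty.DescendsAlong.of_isPullback (P := @IsAffineHom)
      (Q := (@Surjective ⊓ @Flat ⊓ @QuasiCompact : MorphismProperty Scheme.{u})) sq.flip
      ⟨⟨inferInstance, inferInstance⟩, inferInstance⟩ hA
  exact isAffine_of_isAffineHom (H.hom ∣_ V)

end Groth.Agent.R2.H63.MultProj
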