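import Mathlib
import Groth.Agent.R2.H63MultProj
import Groth.Prelude.Def_Mor2

/-!
# helper63: a finite group of multiplicative type is finite locally free
-/

set_option autoImplicit false
set_option linter.style.haveILetI false

open CategoryTheory Limits AlgebraicGeometry Opposite

namespace Groth.Agent.R2.H63.MultProj

universe u

/-- a ring-hom-property of an affine morphism may be checked on the sections over the affine
opens of the target. -/
theorem of_app_of_isAffineHom (P : MorphismProperty Scheme.{u})
    {Q : ∀ {R S : Type u} [CommRing R] [CommRing S], (R →+* S) → Prop}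
    [HasRingHomProperty P Q] {X S : Scheme.{u}} (f : X ⟶ S) [IsAffineHom f]
    (H : ∀ U : S.Opens, IsAffineOpen U → Q (f.app U).hom) : P f := by
  apply IsZariskiLocalAtTarget.of_iSup_eq_top (P := P) (fun U : S.affineOpens => U.1)
    (iSup_affineOpens_eq_top S)
  intro U
  haveI : IsAffine (U.1 : Scheme.{u}) := U.2
  haveI : IsAffine ((f ⁻¹ᵁ U.1 : X.Opens) : Scheme.{u}) := U.2.preimage f
  rw [HasRingHomProperty.iff_of_isAffine (P := P)]
  have e := morphismRestrict_appTop f U.1
  have hQ := H _ ((isAffineOpen_top _).image_of_isOpenImmersion U.1.ι)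
  have := ((HasRingHomProperty.isLocal_ringHomProperty P).respectsIso.cancel_right_isIso
    (f.app (U.1.ι ''ᵁ ⊤))
    (X.presheaf.map (eqToHom (image_morphismRestrict_preimage f U.1 ⊤)).op)).2 hQ
  rw [e]
  exact this

/-- a finite group of multiplicative type is finite locally free. -/
theorem isFinLocFree_of_isMultTypeFT {S : Scheme.{u}} (H : Over S) [GrpObj H] [IsFinite H.hom]
    (hH : SGA3x.IsMultTypeFT H) : Mor2.IsFinLocFree H.hom := by
  haveI : IsAffineHom H.hom := inferInstance
  have hproj := projective_of_isMultTypeFT H hH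
  refine ⟨inferInstance, ?_, ?_⟩
  · refine of_app_of_isAffineHom @Flat H.hom fun U hU => ?_
    have := hproj U hU
    letI := (H.hom.app U).hom.toAlgebra
    change Module.Flat Γ(S, U) Γ(H.left, H.hom ⁻¹ᵁ U)
    infer_instance
  · refine of_app_of_isAffineHom @LocallyOfFinitePresentation H.hom fun U hU => ?_
    have := hproj U hU
    have hfin : (H.hom.app U).hom.Finite := IsFinite.finite_app H.hom U hU
    letI := (H.hom.app U).hom.toAlgebra
    change Algebra.FinitePresentation Γ(S, U) Γ(H.left, H.hom ⁻¹ᵁ U)
    haveI : Module.Finite Γ(S, U) Γ(H.left, H.hom ⁻¹ᵁ U) := hfin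
    haveI : Module.FinitePresentation Γ(S, U) Γ(H.left, H.hom ⁻¹ᵁ U) :=
      Module.finitePresentation_of_projective _ _
    infer_instance

end Groth.Agent.R2.H63.MultProj
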