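import Mathlib
import Groth.Prelude.Def_P1
import Groth.Agent.S3554
import Groth.Agent.Lib.Helper13RelProjC
import Groth.Agent.Lib.Helper13ProjBC2
import Groth.Agent.Lib.Helper10WeilPt

/-!
# helper63: projective space over any base has geometrically irreducible fibres

* `geometricallyIrreducible_toSpec n` : `P^n_ℤ ⟶ Spec ℤ` is geometrically irreducible.
* `geometricallyIrreducible_toBase n S` : `P^n_S ⟶ S` is geometrically irreducible.
* `isPreconnected_fiber_toBase` : the fibres of `P^n_S ⟶ S` are preconnected subsets.
-/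

set_option autoImplicit false

namespace Groth.Agent.R2.H63.P1Conn

open CategoryTheory CategoryTheory.Limits AlgebraicGeometry
open scoped HomogeneousIdeal

universe u

section ring

variable (n : ℕ) (R' R : Type u) [CommRing R'] [CommRing R] [Algebra R' R]

attribute [local instance] MvPolynomial.algebraMvPolynomial

/-- The graded ring hom `R'[T₀..Tₙ] → R[T₀..Tₙ]`. -/
noncomputable def mapGr : CohB1.polyGrading n R' →+*ᵍ CohB1.polyGrading n R where
  toRingHom := MvPolynomial.map (algebraMap R' R)
  map_mem := by
    intro i x hx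
    rw [MvPolynomial.mem_homogeneousSubmodule] at hx ⊢
    exact hx.map _

theorem mapGr_apply (b : MvPolynomial (Fin (n + 1)) R') :
    mapGr n R' R b = algebraMap (MvPolynomial (Fin (n + 1)) R') (MvPolynomial (Fin (n + 1)) R) b :=
  rfl

theorem irrelevant_le :
    (CohB1.polyGrading n R)₊ ≤ ((CohB1.polyGrading n R')₊).map (mapGr n R' R) :=
  Groth.Agent.Helper13ProjBC.irrelevant_le_map_alg R' R (mapGr n R' R) (mapGr_apply n R' R)
    (fun r => SetLike.algebraMap_mem_graded (CohB1.polyGrading n R) r)

theorem isPullback_projSpace :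
    IsPullback (Proj.map (mapGr n R' R) (irrelevant_le n R' R))
      (CohB1.ProjSpace.toSpec n R) (CohB1.ProjSpace.toSpec n R')
      (Spec.map (CommRingCat.ofHom (algebraMap R' R))) :=
  Groth.Agent.S3554.result (CohB1.polyGrading n R') (CohB1.polyGrading n R) (mapGr n R' R)
    (mapGr_apply n R' R) (irrelevant_le n R' R)

end ring

theorem irreducibleSpace_projSpace (n : ℕ) (K : Type u) [Field K] :
    IrreducibleSpace (CohB1.ProjSpace n K) := by
  refine Groth.Agent.Helper13RelProj.irreducibleSpace_proj (CohB1.polyGrading n K) ?_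
  intro h
  have hX : (MvPolynomial.X 0 : MvPolynomial (Fin (n + 1)) K) ∈
      ((CohB1.polyGrading n K)₊).toIdeal :=
    HomogeneousIdeal.mem_irrelevant_of_mem _ one_pos
      ((MvPolynomial.mem_homogeneousSubmodule 1 _).mpr (MvPolynomial.isHomogeneous_X K 0))
  rw [h] at hX
  exact MvPolynomial.X_ne_zero (R := K) (0 : Fin (n + 1)) (by simp at hX)

theorem geometricallyIrreducible_toSpec (n : ℕ) :
    GeometricallyIrreducible (CohB1.ProjSpace.toSpec n (ULift.{u} ℤ)) := by
  rw [geometricallyIrreducible_iff, geometrically_iff_of_commRing_of_isClosedUnderIsomorphisms]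
  intro K _ _
  have h := isPullback_projSpace n (ULift.{u} ℤ) K
  have : IrreducibleSpace (CohB1.ProjSpace n K) := irreducibleSpace_projSpace n K
  exact (h.isoPullback.symm.hom.homeomorph.irreducibleSpace_iff).mpr this

instance geometricallyIrreducible_toBase (n : ℕ) (S : Scheme.{u}) :
    GeometricallyIrreducible (CohB1.ProjSpaceOver.toBase n S) := by
  have h := geometricallyIrreducible_toSpec.{u} n
  exact MorphismProperty.of_isPullback (P := @GeometricallyIrreducible)
    (IsPullback.of_hasPullback (CohB1.ProjSpace.toSpec n (ULift.{u} ℤ))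
      (specULiftZIsTerminal.from S)) h

theorem isPreconnected_fiber_toBase (n : ℕ) (S : Scheme.{u}) (s : S) :
    _root_.IsPreconnected ((CohB1.ProjSpaceOver.toBase n S) ⁻¹' {s}) := by
  rw [← (CohB1.ProjSpaceOver.toBase n S).range_fiberι, ← Set.image_univ]
  exact (isPreconnected_univ (α := ((CohB1.ProjSpaceOver.toBase n S).fiber s))).image _
    ((CohB1.ProjSpaceOver.toBase n S).fiberι s).continuous.continuousOn

end Groth.Agent.R2.H63.P1Conn
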