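import Mathlib
import Groth.Prelude.Def_P1
import Groth.Agent.R2.H63P1Conn

/-!
# helper63: finite locally free covers of `P^1_S`

* `preconnectedSpace_projSpaceOver` : `P^1_S` is preconnected when `S` is.
* `image_eq_univ_of_isClopen` : a nonempty clopen subset of the source of a finite flat lfp
  morphism to a preconnected scheme surjects onto the target.
* `exists_isClopen_isPreconnected` : topological lemma, if every nonempty clopen meets a fixed
  finite set, every point has a preconnected clopen neighbourhood.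
* `exists_mem_connectedComponent` : every connected component of the source of a finite flat lfp
  morphism to a preconnected scheme surjects onto the target.
-/

set_option autoImplicit false

namespace Groth.Agent.R2.H63.P1Fin

open CategoryTheory CategoryTheory.Limits AlgebraicGeometry

universe u

theorem preconnectedSpace_projSpaceOver (S : Scheme.{u}) [PreconnectedSpace S] :
    PreconnectedSpace (CohB1.ProjSpaceOver 1 S) := by
  rw [preconnectedSpace_iff_clopen]
  intro A hA
  by_cases hne : A = ∅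
  · exact Or.inl hne
  right
  obtain ⟨a, ha⟩ := Set.nonempty_iff_ne_empty.mpr hne
  -- fibres meeting `A` are contained in `A`
  have hfib : ∀ b ∈ A, (CohB1.ProjSpaceOver.toBase 1 S) ⁻¹'
      {CohB1.ProjSpaceOver.toBase 1 S b} ⊆ A := fun b hb =>
    (Groth.Agent.R2.H63.P1Conn.isPreconnected_fiber_toBase 1 S _).subset_isClopen hA ⟨b, rfl, hb⟩
  have hsect : ∀ s : S, CohB1.ProjSpaceOver.toBase 1 S (P1.sect S 0 s) = s := by
    intro s
    rw [← Scheme.Hom.comp_apply, Groth.Agent.Lib.Helper10.WeilPt.sect_toBase]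
    rfl
  have hB : IsClopen ((P1.sect S 0) ⁻¹' A) := hA.preimage (P1.sect S 0).continuous
  have hBne : ((P1.sect S 0) ⁻¹' A).Nonempty :=
    ⟨CohB1.ProjSpaceOver.toBase 1 S a, hfib a ha (hsect _)⟩
  have hBuniv : (P1.sect S 0) ⁻¹' A = Set.univ := by
    rcases (preconnectedSpace_iff_clopen.mp ‹_›) _ hB with h | h
    · exact absurd h hBne.ne_empty
    · exact h
  rw [Set.eq_univ_iff_forall]
  intro b
  have h1 : P1.sect S 0 (CohB1.ProjSpaceOver.toBase 1 S b) ∈ A := by
    have : CohB1.ProjSpaceOver.toBase 1 S b ∈ (P1.sect S 0) ⁻¹' A := hBuniv ▸ Set.mem_univ _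
    exact this
  exact hfib _ h1 (by rw [Set.mem_preimage, Set.mem_singleton_iff, hsect])

theorem image_eq_univ_of_isClopen {X Y : Scheme.{u}} [PreconnectedSpace Y] (f : X ⟶ Y)
    [IsFinite f] [Flat f] [LocallyOfFinitePresentation f] (U : Set X) (hU : IsClopen U)
    (hne : U.Nonempty) : f '' U = Set.univ := by
  let V : X.Opens := ⟨U, hU.2⟩
  have : IsClosedImmersion V.ι :=
    .of_isPreimmersion _ (by rw [Scheme.Opens.range_ι]; exact hU.1)
  have : IsFinite (V.ι ≫ f) := inferInstance
  have : Flat (V.ι ≫ f) := inferInstance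
  have : LocallyOfFinitePresentation (V.ι ≫ f) := inferInstance
  obtain ⟨x, hx⟩ := hne
  have h1 : 1 ≤ (V.ι ≫ f).finrank ((V.ι ≫ f) ⟨x, hx⟩) := Scheme.Hom.one_le_finrank_map _ _
  have hconst := (Scheme.Hom.isLocallyConstant_finrank (V.ι ≫ f)).apply_eq_of_preconnectedSpace
  have hsurj : Surjective (V.ι ≫ f) := by
    rw [← Scheme.Hom.one_le_finrank_iff_surjective]
    intro y
    rw [hconst y ((V.ι ≫ f) ⟨x, hx⟩)]
    exact h1
  rw [Set.eq_univ_iff_forall]
  intro y
  obtain ⟨z, hz⟩ := hsurj.surj y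
  exact ⟨V.ι z, z.2, by rw [← hz]; rfl⟩

theorem exists_isClopen_isPreconnected {X : Type*} [TopologicalSpace X] (Φ : Set X)
    (hΦ : Φ.Finite) (hmeet : ∀ U : Set X, IsClopen U → U.Nonempty → (U ∩ Φ).Nonempty) (x : X) :
    ∃ Q : Set X, IsClopen Q ∧ x ∈ Q ∧ _root_.IsPreconnected Q := by
  classical
  -- choose a clopen containing x minimising the number of points of Φ in it
  have hex : ∃ n : ℕ, ∃ Q : Set X, IsClopen Q ∧ x ∈ Q ∧ (Q ∩ Φ).ncard = n :=
    ⟨_, Set.univ, isClopen_univ, Set.mem_univ x, rfl⟩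
  obtain ⟨Q, hQ, hxQ, hn⟩ := Nat.find_spec hex
  have hmin : ∀ Q' : Set X, IsClopen Q' → x ∈ Q' → Nat.find hex ≤ (Q' ∩ Φ).ncard :=
    fun Q' h1 h2 => Nat.find_min' hex ⟨Q', h1, h2, rfl⟩
  refine ⟨Q, hQ, hxQ, ?_⟩
  rw [isPreconnected_iff_subset_of_fully_disjoint_closed hQ.1]
  -- key: a clopen subset of Q containing x contains all of Q
  have key : ∀ A B : Set X, IsClopen A → IsClopen B → A ∪ B = Q → Disjoint A B → x ∈ A →
      B = ∅ := by
    intro A B hA hB hAB hdis hxA
    by_contra hBne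
    obtain ⟨b, hbB, hbΦ⟩ := hmeet B hB (Set.nonempty_iff_ne_empty.mpr hBne)
    have hfin : (Q ∩ Φ).Finite := hΦ.subset Set.inter_subset_right
    have hlt : (A ∩ Φ).ncard < (Q ∩ Φ).ncard := by
      apply Set.ncard_lt_ncard _ hfin
      refine ⟨?_, ?_⟩
      · rw [← hAB]
        exact Set.inter_subset_inter_left _ Set.subset_union_left
      · intro hsub
        have : b ∈ A ∩ Φ := hsub ⟨hAB ▸ Or.inr hbB, hbΦ⟩
        exact (Set.disjoint_left.mp hdis) this.1 hbB
    have := hmin A hA hxA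
    omega
  intro u v hu hv hQuv huv
  have hA : IsClopen (Q ∩ u) := by
    refine ⟨hQ.1.inter hu, ?_⟩
    have : Q ∩ u = Q ∩ vᶜ := by
      ext z
      constructor
      · rintro ⟨hz, hzu⟩
        exact ⟨hz, fun hzv => (Set.disjoint_left.mp huv) hzu hzv⟩
      · rintro ⟨hz, hzv⟩
        rcases hQuv hz with h | h
        · exact ⟨hz, h⟩
        · exact absurd h hzv
    rw [this]
    exact hQ.2.inter hv.isOpen_compl
  have hB : IsClopen (Q ∩ v) := by
    refine ⟨hQ.1.inter hv, ?_⟩
    have : Q ∩ v = Q ∩ uᶜ := by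
      ext z
      constructor
      · rintro ⟨hz, hzv⟩
        exact ⟨hz, fun hzu => (Set.disjoint_left.mp huv) hzu hzv⟩
      · rintro ⟨hz, hzu⟩
        rcases hQuv hz with h | h
        · exact absurd h hzu
        · exact ⟨hz, h⟩
    rw [this]
    exact hQ.2.inter hu.isOpen_compl
  have hun : Q ∩ u ∪ Q ∩ v = Q := by
    rw [← Set.inter_union_distrib_left]
    exact Set.inter_eq_left.mpr hQuv
  have hdis : Disjoint (Q ∩ u) (Q ∩ v) :=
    huv.mono Set.inter_subset_right Set.inter_subset_right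
  rcases hQuv hxQ with hxu | hxv
  · left
    have := key _ _ hA hB hun hdis ⟨hxQ, hxu⟩
    intro z hz
    rcases hQuv hz with h | h
    · exact h
    · exact absurd (show z ∈ Q ∩ v from ⟨hz, h⟩) (by rw [this]; exact Set.notMem_empty z)
  · right
    have := key _ _ hB hA (by rw [Set.union_comm]; exact hun) hdis.symm ⟨hxQ, hxv⟩
    intro z hz
    rcases hQuv hz with h | h
    · exact absurd (show z ∈ Q ∩ u from ⟨hz, h⟩) (by rw [this]; exact Set.notMem_empty z)
    · exact h

theorem exists_mem_connectedComponent {X Y : Scheme.{u}} [PreconnectedSpace Y] (f : X ⟶ Y)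
    [IsFinite f] [Flat f] [LocallyOfFinitePresentation f] (x : X) (p : Y) :
    ∃ y ∈ connectedComponent x, f y = p := by
  obtain ⟨Q, hQ, hxQ, hQpre⟩ := exists_isClopen_isPreconnected (f ⁻¹' {f x})
    (f.finite_preimage_singleton (f x))
    (fun U hU hne => by
      have h := image_eq_univ_of_isClopen f U hU hne
      obtain ⟨z, hzU, hz⟩ : f x ∈ f '' U := h ▸ Set.mem_univ _
      exact ⟨z, hzU, hz⟩) x
  have h := image_eq_univ_of_isClopen f Q hQ ⟨x, hxQ⟩
  obtain ⟨y, hyQ, hy⟩ : p ∈ f '' Q := h ▸ Set.mem_univ _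
  exact ⟨y, hQpre.subset_connectedComponent hxQ hyQ, hy⟩

end Groth.Agent.R2.H63.P1Fin
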