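import Mathlib
import Groth.Prelude.Def_W4c1limliniiiiRamP1

/-!
# Pencils of polynomials with three prescribed ramification points (helper63)

Elementary lemmas on two-dimensional spaces of polynomials of degree `≤ d` containing, for each
of three distinct points `P i`, a non-zero member vanishing to order `≥ e i` at `P i`, where
`e 0 + e 1 + e 2 = 2 d + 1` and `e i ≤ d`.
-/

set_option autoImplicit false

namespace Groth.Agent.R2.H63.RamP1

open Polynomial W4c1limliniiii

variable {k : Type*} [Field k]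

/-! ### powers of linear factors -/

lemma natDegree_lin (a : k) (m : ℕ) : ((X - C a) ^ m).natDegree = m := by
  rw [natDegree_pow, natDegree_X_sub_C, mul_one]

lemma lin_ne_zero (a : k) (m : ℕ) : (X - C a) ^ m ≠ 0 := pow_ne_zero _ (X_sub_C_ne_zero a)

lemma isCoprime_lin {a b : k} (h : a ≠ b) (m n : ℕ) :
    IsCoprime ((X - C a) ^ m) ((X - C b) ^ n) :=
  (isCoprime_X_sub_C_of_isUnit_sub (sub_ne_zero.2 h).isUnit).pow

lemma mem_degreeLE_iff {d : ℕ} {f : k[X]} : f ∈ degreeLE k (d : WithBot ℕ) ↔ f.natDegree ≤ d := by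
  rw [mem_degreeLE, natDegree_le_iff_degree_le]

/-- a polynomial of degree `≤ d` divisible by two coprime polynomials whose degrees add up to
more than `d` vanishes. -/
lemma eq_zero_of_coprime_dvd {d : ℕ} {q₁ q₂ s : k[X]} (hc : IsCoprime q₁ q₂) (h₁ : q₁ ∣ s)
    (h₂ : q₂ ∣ s) (hs : s.natDegree ≤ d) (hq₁ : q₁ ≠ 0) (hq₂ : q₂ ≠ 0)
    (hd : d < q₁.natDegree + q₂.natDegree) : s = 0 := by
  have h := hc.mul_dvd h₁ h₂
  apply eq_zero_of_dvd_of_natDegree_lt h
  rw [natDegree_mul hq₁ hq₂]
  omega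

/-! ### Wronskian lemmas -/

lemma wronskian_smul_left (c : k) (a b : k[X]) : wronskian (c • a) b = c • wronskian a b := by
  simp only [wronskian, derivative_smul, smul_mul_assoc, smul_sub]

lemma wronskian_smul_right (c : k) (a b : k[X]) : wronskian a (c • b) = c • wronskian a b := by
  simp only [wronskian, derivative_smul, mul_smul_comm, smul_sub]

/-- the Wronskian of two combinations -/
lemma wronskian_comb (a b c d' : k) (F G : k[X]) :
    wronskian (a • F + b • G) (c • F + d' • G) = (a * d' - b * c) • wronskian F G := by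
  have hGF : wronskian G F = - wronskian F G := (wronskian_neg_eq F G).symm
  simp only [wronskian_add_left, wronskian_add_right, wronskian_smul_left, wronskian_smul_right,
    wronskian_self_eq_zero, hGF, smul_zero, zero_add, add_zero, smul_neg, smul_smul, sub_smul]
  rw [mul_comm c b, mul_comm d' a]
  abel

/-- degree bound for the Wronskian -/
lemma natDegree_wronskian_le {d : ℕ} (hd : 1 ≤ d) {F G : k[X]} (hF : F.natDegree ≤ d)
    (hG : G.natDegree ≤ d) : (wronskian F G).natDegree ≤ 2 * d - 2 := by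
  have hDF : (derivative F).natDegree ≤ d - 1 := (natDegree_derivative_le F).trans (by omega)
  have hDG : (derivative G).natDegree ≤ d - 1 := (natDegree_derivative_le G).trans (by omega)
  have h1 : (F * derivative G).natDegree ≤ d + (d - 1) := natDegree_mul_le_of_le hF hDG
  have h2 : (derivative F * G).natDegree ≤ (d - 1) + d := natDegree_mul_le_of_le hDF hG
  rw [natDegree_le_iff_coeff_eq_zero]
  intro N hN
  rw [wronskian, coeff_sub]
  by_cases hN' : N = d + (d - 1)
  · subst hN'
    rw [coeff_mul_add_eq_of_natDegree_le hF hDG]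
    have : d + (d - 1) = (d - 1) + d := by omega
    rw [this, coeff_mul_add_eq_of_natDegree_le hDF hG, coeff_derivative, coeff_derivative]
    have hd' : d - 1 + 1 = d := by omega
    rw [hd']
    ring
  · rw [coeff_eq_zero_of_natDegree_lt (lt_of_le_of_lt h1 (by omega)),
      coeff_eq_zero_of_natDegree_lt (lt_of_le_of_lt h2 (by omega)), sub_zero]

/-- if `(X - a)^m ∣ s` then `(X - a)^(m-1)` divides the Wronskian of `s` and anything. -/
lemma pow_pred_dvd_wronskian {a : k} {m : ℕ} {s : k[X]} (t : k[X]) (hs : (X - C a) ^ m ∣ s) :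
    (X - C a) ^ (m - 1) ∣ wronskian s t := by
  rw [wronskian]
  apply dvd_sub
  · exact ((pow_dvd_pow _ (Nat.sub_le m 1)).trans hs).mul_right _
  · exact (pow_sub_one_dvd_derivative_of_pow_dvd hs).mul_right _

/-- if `(X - a)^m ∣ s`, `m ≥ 1` and `(X - a) ∣ t` then `(X - a)^m` divides their Wronskian. -/
lemma pow_dvd_wronskian {a : k} {m : ℕ} (hm : 1 ≤ m) {s t : k[X]} (hs : (X - C a) ^ m ∣ s)
    (ht : (X - C a) ∣ t) : (X - C a) ^ m ∣ wronskian s t := by
  rw [wronskian]
  apply dvd_sub
  · exact hs.mul_right _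
  · have h1 := pow_sub_one_dvd_derivative_of_pow_dvd hs
    have : (X - C a) ^ m = (X - C a) ^ (m - 1) * (X - C a) := by
      rw [← pow_succ]; congr 1; omega
    rw [this]
    exact mul_dvd_mul h1 ht

/-- (G) divisibility by powers of distinct linear factors bounds the degree from below. -/
lemma sum_le_natDegree_of_dvd {n : ℕ} {P : Fin n → k} (hP : Function.Injective P) (m : Fin n → ℕ)
    {W : k[X]} (hW : W ≠ 0) (h : ∀ j, (X - C (P j)) ^ m j ∣ W) : ∑ j, m j ≤ W.natDegree := by
  have hdvd : ∏ j, (X - C (P j)) ^ m j ∣ W := by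
    apply Finset.prod_dvd_of_coprime
    · intro i _ j _ hij
      exact isCoprime_lin (fun hp => hij (hP hp)) _ _
    · intro j _
      exact h j
  have := natDegree_le_of_dvd hdvd hW
  rw [natDegree_prod _ _ (fun j _ => lin_ne_zero _ _)] at this
  simpa [natDegree_lin] using this

/-- (G') the same with one more root. -/
lemma sum_add_one_le_natDegree_of_dvd {n : ℕ} {P : Fin n → k} (hP : Function.Injective P)
    (m : Fin n → ℕ) {W : k[X]} (hW : W ≠ 0) (h : ∀ j, (X - C (P j)) ^ m j ∣ W) {a : k}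
    (ha : ∀ j, a ≠ P j) (haW : (X - C a) ∣ W) : ∑ j, m j + 1 ≤ W.natDegree := by
  have hdvd : ∏ j, (X - C (P j)) ^ m j ∣ W := by
    apply Finset.prod_dvd_of_coprime
    · intro i _ j _ hij
      exact isCoprime_lin (fun hp => hij (hP hp)) _ _
    · intro j _
      exact h j
  have hc : IsCoprime (X - C a) (∏ j, (X - C (P j)) ^ m j) := by
    apply IsCoprime.prod_right
    intro j _
    have := isCoprime_lin (ha j) 1 (m j)
    simpa using this
  have hd2 := hc.mul_dvd haW hdvd
  have := natDegree_le_of_dvd hd2 hW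
  rw [natDegree_mul (X_sub_C_ne_zero a) (Finset.prod_ne_zero_iff.2 (fun j _ => lin_ne_zero _ _)),
    natDegree_prod _ _ (fun j _ => lin_ne_zero _ _), natDegree_X_sub_C] at this
  simp only [natDegree_lin] at this
  omega

lemma exists_coprime_factor {α : Type*} [EuclideanDomain α] [GCDMonoid α] (a b : α) (hb : b ≠ 0) :
    ∃ g a' b', g ≠ 0 ∧ a = g * a' ∧ b = g * b' ∧ IsCoprime a' b' := by
  have hg0 : GCDMonoid.gcd a b ≠ 0 := gcd_ne_zero_of_right hb
  exact ⟨GCDMonoid.gcd a b, a / GCDMonoid.gcd a b, b / GCDMonoid.gcd a b, hg0,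
    (EuclideanDomain.mul_div_cancel' hg0 (GCDMonoid.gcd_dvd_left a b)).symm,
    (EuclideanDomain.mul_div_cancel' hg0 (GCDMonoid.gcd_dvd_right a b)).symm,
    isCoprime_div_gcd_div_gcd hb⟩

lemma wronskian_mul_mul (g a b : k[X]) : wronskian (g * a) (g * b) = g ^ 2 * wronskian a b := by
  simp only [wronskian, derivative_mul]
  ring

/-- a polynomial of small degree with zero derivative is constant -/
lemma natDegree_eq_zero_of_derivative_eq_zero' (p : ℕ) [CharP k p] {d : ℕ} (hp : p = 0 ∨ d < p)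
    {f : k[X]} (hf : f.natDegree ≤ d) (hD : derivative f = 0) : f.natDegree = 0 := by
  by_contra hne
  obtain ⟨n, hn⟩ : ∃ n, f.natDegree = n + 1 := Nat.exists_eq_succ_of_ne_zero hne
  have hc : (derivative f).coeff n = 0 := by rw [hD, coeff_zero]
  rw [coeff_derivative, ← hn] at hc
  have hlead : f.coeff f.natDegree ≠ 0 := by
    have : f ≠ 0 := by rintro rfl; simp at hne
    exact leadingCoeff_ne_zero.2 this
  rcases mul_eq_zero.1 hc with h1 | h1
  · exact hlead h1
  · have h2 : ((n + 1 : ℕ) : k) = 0 := by push_cast; exact h1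
    rw [CharP.cast_eq_zero_iff k p] at h2
    rcases hp with rfl | hp
    · simp at h2
    · have := Nat.le_of_dvd (Nat.succ_pos n) h2
      omega

lemma exists_li_pair {V : Submodule k k[X]} (hV2 : Module.finrank k V = 2) :
    ∃ F ∈ V, ∃ G ∈ V, ∀ s t : k, s • F + t • G = 0 → s = 0 ∧ t = 0 := by
  have hfin : Module.Finite k V := Module.finite_of_finrank_pos (by rw [hV2]; norm_num)
  obtain ⟨x, hx⟩ := (Module.finrank_pos_iff_exists_ne_zero (R := k) (M := V)).1 (by rw [hV2]; norm_num)
  obtain ⟨y, hy⟩ := exists_linearIndependent_pair_of_one_lt_finrank (R := k) (M := V)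
    (by rw [hV2]; norm_num) hx
  rw [LinearIndependent.pair_iff] at hy
  refine ⟨x.1, x.2, y.1, y.2, ?_⟩
  intro s t hst
  apply hy
  apply Subtype.ext
  simpa using hst

/-- in characteristic `0` or `> d`, every two-dimensional space of polynomials of degree `≤ d`
is separable. -/
theorem isSeparable_of_char (p : ℕ) [CharP k p] {d : ℕ} (hp : p = 0 ∨ d < p)
    {V : Submodule k k[X]} (hVd : V ≤ degreeLE k (d : WithBot ℕ)) (hV2 : Module.finrank k V = 2) :
    IsSeparable V := by
  classical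
  obtain ⟨F, hFV, G, hGV, hli⟩ := exists_li_pair hV2
  refine ⟨F, hFV, G, hGV, ?_⟩
  intro hW
  have hF0 : F ≠ 0 := by
    intro h0
    have := hli 1 0 (by simp [h0])
    exact one_ne_zero this.1
  have hG0 : G ≠ 0 := by
    intro h0
    have := hli 0 1 (by simp [h0])
    exact one_ne_zero this.2
  let _ := EuclideanDomain.gcdMonoid k[X]
  obtain ⟨g, F₁, G₁, hg0, hF1, hG1, hcop⟩ := exists_coprime_factor F G hG0
  rw [hF1, hG1, wronskian_mul_mul] at hW
  have hW' : wronskian F₁ G₁ = 0 := (mul_eq_zero.1 hW).resolve_left (pow_ne_zero _ hg0)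
  obtain ⟨hD1, hD2⟩ := hcop.wronskian_eq_zero_iff.1 hW'
  have hdF : F₁.natDegree ≤ d :=
    (natDegree_le_of_dvd ⟨g, by rw [mul_comm]; exact hF1⟩ hF0).trans (mem_degreeLE_iff.1 (hVd hFV))
  have hdG : G₁.natDegree ≤ d :=
    (natDegree_le_of_dvd ⟨g, by rw [mul_comm]; exact hG1⟩ hG0).trans (mem_degreeLE_iff.1 (hVd hGV))
  obtain ⟨c₁, hc₁⟩ := natDegree_eq_zero.1 (natDegree_eq_zero_of_derivative_eq_zero' p hp hdF hD1)
  obtain ⟨c₂, hc₂⟩ := natDegree_eq_zero.1 (natDegree_eq_zero_of_derivative_eq_zero' p hp hdG hD2)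
  have hc₁0 : c₁ ≠ 0 := by
    rintro rfl
    apply hF0
    rw [hF1, ← hc₁]; simp
  have := hli c₂ (-c₁) (by
    rw [hF1, hG1, ← hc₁, ← hc₂]
    simp only [smul_eq_C_mul, map_neg]
    ring)
  exact hc₁0 (neg_eq_zero.1 this.2)


/-! ### the three-point data -/

section ThreePoints

variable (d : ℕ) (P : Fin 3 → k) (e : Fin 3 → ℕ)

/-- the hypotheses on the three-point data -/
structure Good : Prop where
  inj : Function.Injective P
  le : ∀ i, e i ≤ d
  sum : e 0 + e 1 + e 2 = 2 * d + 1

variable {d P e}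

omit [Field k] in
lemma Good.pair_gt (h : Good d P e) {i j : Fin 3} (hij : i ≠ j) : d < e i + e j := by
  have h0 := h.le 0
  have h1 := h.le 1
  have h2 := h.le 2
  have hs := h.sum
  fin_cases i <;> fin_cases j <;> simp at hij <;> simp <;> omega

omit [Field k] in
lemma Good.ne (h : Good d P e) {i j : Fin 3} (hij : i ≠ j) : P i ≠ P j :=
  fun hp => hij (h.inj hp)

/-- (K1) a polynomial of degree `≤ d` vanishing to order `e i` at `P i` and `e j` at `P j`,
`i ≠ j`, is zero. -/
lemma Good.eq_zero_of_two_dvd (h : Good d P e) {i j : Fin 3} (hij : i ≠ j) {s : k[X]}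
    (hs : s.natDegree ≤ d) (hi : (X - C (P i)) ^ e i ∣ s) (hj : (X - C (P j)) ^ e j ∣ s) :
    s = 0 := by
  refine eq_zero_of_coprime_dvd (isCoprime_lin (h.ne hij) _ _) hi hj hs (lin_ne_zero _ _)
    (lin_ne_zero _ _) ?_
  rw [natDegree_lin, natDegree_lin]
  exact h.pair_gt hij

variable (d P e) in
/-- The linear space of pairs `(F₁, F₂)` of polynomials of degree `≤ d` with `F₁` vanishing to
order `e 0` at `P 0`, `F₂` to order `e 1` at `P 1` and `F₁ + F₂` to order `e 2` at `P 2`. -/
def Lsub : Submodule k (k[X] × k[X]) where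
  carrier := {v | v.1.natDegree ≤ d ∧ v.2.natDegree ≤ d ∧ (X - C (P 0)) ^ e 0 ∣ v.1 ∧
    (X - C (P 1)) ^ e 1 ∣ v.2 ∧ (X - C (P 2)) ^ e 2 ∣ v.1 + v.2}
  add_mem' := by
    rintro v w ⟨hv1, hv2, hv3, hv4, hv5⟩ ⟨hw1, hw2, hw3, hw4, hw5⟩
    refine ⟨(natDegree_add_le _ _).trans (max_le hv1 hw1),
      (natDegree_add_le _ _).trans (max_le hv2 hw2), dvd_add hv3 hw3, dvd_add hv4 hw4, ?_⟩
    have : (v + w).1 + (v + w).2 = (v.1 + v.2) + (w.1 + w.2) := by
      simp only [Prod.fst_add, Prod.snd_add]; ring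
    rw [this]
    exact dvd_add hv5 hw5
  zero_mem' := by
    refine ⟨by simp, by simp, by simp, by simp, by simp⟩
  smul_mem' := by
    rintro c v ⟨hv1, hv2, hv3, hv4, hv5⟩
    refine ⟨(natDegree_smul_le c v.1).trans hv1, (natDegree_smul_le c v.2).trans hv2,
      ?_, ?_, ?_⟩
    · simpa [smul_eq_C_mul] using hv3.mul_left (C c)
    · simpa [smul_eq_C_mul] using hv4.mul_left (C c)
    · have : (c • v).1 + (c • v).2 = C c * (v.1 + v.2) := by
        simp only [Prod.smul_fst, Prod.smul_snd, smul_eq_C_mul]; ring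
      rw [this]
      exact hv5.mul_left (C c)

lemma mem_Lsub {v : k[X] × k[X]} : v ∈ Lsub d P e ↔ v.1.natDegree ≤ d ∧ v.2.natDegree ≤ d ∧
    (X - C (P 0)) ^ e 0 ∣ v.1 ∧ (X - C (P 1)) ^ e 1 ∣ v.2 ∧ (X - C (P 2)) ^ e 2 ∣ v.1 + v.2 :=
  Iff.rfl

/-- (K2) any two members of `Lsub` define the same rational function. -/
lemma Good.cross (h : Good d P e) {v w : k[X] × k[X]} (hv : v ∈ Lsub d P e)
    (hw : w ∈ Lsub d P e) : v.1 * w.2 = w.1 * v.2 := by
  obtain ⟨hv1, hv2, hv3, hv4, hv5⟩ := hv
  obtain ⟨hw1, hw2, hw3, hw4, hw5⟩ := hw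
  set N := w.1 * v.2 - v.1 * w.2 with hN
  have hNdeg : N.natDegree ≤ 2 * d := by
    refine (natDegree_sub_le _ _).trans (max_le ?_ ?_)
    · exact natDegree_mul_le.trans (by omega)
    · exact natDegree_mul_le.trans (by omega)
  have d0 : (X - C (P 0)) ^ e 0 ∣ N := dvd_sub (hw3.mul_right _) (hv3.mul_right _)
  have d1 : (X - C (P 1)) ^ e 1 ∣ N := dvd_sub (hv4.mul_left _) (hw4.mul_left _)
  have d2 : (X - C (P 2)) ^ e 2 ∣ N := by
    have : N = w.1 * (v.1 + v.2) - v.1 * (w.1 + w.2) := by rw [hN]; ring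
    rw [this]
    exact dvd_sub (hv5.mul_left _) (hw5.mul_left _)
  have c01 : IsCoprime ((X - C (P 0)) ^ e 0) ((X - C (P 1)) ^ e 1) :=
    isCoprime_lin (h.ne (by decide)) _ _
  have c02 : IsCoprime ((X - C (P 0)) ^ e 0) ((X - C (P 2)) ^ e 2) :=
    isCoprime_lin (h.ne (by decide)) _ _
  have c12 : IsCoprime ((X - C (P 1)) ^ e 1) ((X - C (P 2)) ^ e 2) :=
    isCoprime_lin (h.ne (by decide)) _ _
  have d01 := c01.mul_dvd d0 d1
  have c012 : IsCoprime ((X - C (P 0)) ^ e 0 * (X - C (P 1)) ^ e 1) ((X - C (P 2)) ^ e 2) :=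
    IsCoprime.mul_left c02 c12
  have dall := c012.mul_dvd d01 d2
  have hN0 : N = 0 := by
    apply eq_zero_of_dvd_of_natDegree_lt dall
    rw [natDegree_mul (mul_ne_zero (lin_ne_zero _ _) (lin_ne_zero _ _)) (lin_ne_zero _ _),
      natDegree_mul (lin_ne_zero _ _) (lin_ne_zero _ _), natDegree_lin, natDegree_lin,
      natDegree_lin]
    have := h.sum
    omega
  have : w.1 * v.2 = v.1 * w.2 := sub_eq_zero.1 hN0
  rw [this]

/-- (K5a) the components of a non-zero member of `Lsub` are non-zero. -/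
lemma Good.fst_ne_zero (h : Good d P e) {v : k[X] × k[X]} (hv : v ∈ Lsub d P e) (hv0 : v ≠ 0) :
    v.1 ≠ 0 := by
  obtain ⟨hv1, hv2, hv3, hv4, hv5⟩ := hv
  intro h1
  apply hv0
  rw [h1, zero_add] at hv5
  have := h.eq_zero_of_two_dvd (i := 1) (j := 2) (by decide) hv2 hv4 hv5
  exact Prod.ext h1 this

lemma Good.snd_ne_zero (h : Good d P e) {v : k[X] × k[X]} (hv : v ∈ Lsub d P e) (hv0 : v ≠ 0) :
    v.2 ≠ 0 := by
  obtain ⟨hv1, hv2, hv3, hv4, hv5⟩ := hv
  intro h2
  apply hv0
  rw [h2, add_zero] at hv5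
  have := h.eq_zero_of_two_dvd (i := 0) (j := 2) (by decide) hv1 hv3 hv5
  exact Prod.ext this h2

/-- (K5b) the components of a non-zero member of `Lsub` are linearly independent. -/
lemma Good.linearIndependent (h : Good d P e) {v : k[X] × k[X]} (hv : v ∈ Lsub d P e)
    (hv0 : v ≠ 0) : LinearIndependent k ![v.1, v.2] := by
  have h1 := h.fst_ne_zero hv hv0
  have h2 := h.snd_ne_zero hv hv0
  obtain ⟨hv1, hv2, hv3, hv4, hv5⟩ := hv
  rw [LinearIndependent.pair_iff]
  intro a b hab
  have hb : b = 0 := by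
    by_contra hb
    apply h2
    have e2 : v.2 = (-(b⁻¹ * a)) • v.1 := by
      have : b • v.2 = -(a • v.1) := by
        rw [eq_neg_iff_add_eq_zero, add_comm]; exact hab
      calc v.2 = b⁻¹ • (b • v.2) := by rw [smul_smul, inv_mul_cancel₀ hb, one_smul]
        _ = (-(b⁻¹ * a)) • v.1 := by rw [this, smul_neg, smul_smul, neg_smul]
    refine h.eq_zero_of_two_dvd (i := 0) (j := 1) (by decide) hv2 ?_ hv4
    rw [e2, smul_eq_C_mul]
    exact hv3.mul_left _
  subst hb
  rw [zero_smul, add_zero] at hab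
  refine ⟨?_, rfl⟩
  by_contra ha
  exact h1 ((smul_eq_zero.1 hab).resolve_left ha)

lemma range_pair (x y : k[X]) : Set.range ![x, y] = {x, y} := by
  ext z
  simp only [Set.mem_range, Set.mem_insert_iff, Set.mem_singleton_iff]
  constructor
  · rintro ⟨i, rfl⟩
    fin_cases i <;> simp
  · rintro (rfl | rfl)
    · exact ⟨0, rfl⟩
    · exact ⟨1, rfl⟩

lemma finrank_span_pair_of_li {x y : k[X]} (hli : LinearIndependent k ![x, y]) :
    Module.finrank k (Submodule.span k ({x, y} : Set k[X])) = 2 := by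
  have := finrank_span_eq_card hli
  rw [range_pair] at this
  simpa using this

lemma span_pair_le_degreeLE {x y : k[X]} (hx : x.natDegree ≤ d) (hy : y.natDegree ≤ d) :
    Submodule.span k ({x, y} : Set k[X]) ≤ degreeLE k (d : WithBot ℕ) := by
  rw [Submodule.span_le]
  rintro z (rfl | rfl)
  · exact mem_degreeLE_iff.2 hx
  · exact mem_degreeLE_iff.2 hy

/-- the vanishing conditions for a subspace -/
def Cond (d : ℕ) (P : Fin 3 → k) (e : Fin 3 → ℕ) (V : Submodule k k[X]) : Prop :=
  V ≤ degreeLE k (d : WithBot ℕ) ∧ Module.finrank k V = 2 ∧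
    ∀ i, ∃ s ∈ V, s ≠ 0 ∧ e i ≤ rootMultiplicity (P i) s

/-- (K5) the span of a non-zero member of `Lsub` satisfies the conditions. -/
lemma Good.cond_span (h : Good d P e) {v : k[X] × k[X]} (hv : v ∈ Lsub d P e) (hv0 : v ≠ 0) :
    Cond d P e (Submodule.span k {v.1, v.2}) := by
  have h1 := h.fst_ne_zero hv hv0
  have h2 := h.snd_ne_zero hv hv0
  have hli := h.linearIndependent hv hv0
  obtain ⟨hv1, hv2, hv3, hv4, hv5⟩ := hv
  refine ⟨span_pair_le_degreeLE hv1 hv2, finrank_span_pair_of_li hli, ?_⟩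
  have m1 : v.1 ∈ Submodule.span k ({v.1, v.2} : Set k[X]) :=
    Submodule.subset_span (Set.mem_insert _ _)
  have m2 : v.2 ∈ Submodule.span k ({v.1, v.2} : Set k[X]) :=
    Submodule.subset_span (Set.mem_insert_of_mem _ rfl)
  have h12 : v.1 + v.2 ≠ 0 := by
    intro h0
    have := (LinearIndependent.pair_iff.1 hli) 1 1 (by simpa using h0)
    exact one_ne_zero this.1
  intro i
  fin_cases i
  · exact ⟨v.1, m1, h1, (le_rootMultiplicity_iff h1).2 hv3⟩
  · exact ⟨v.2, m2, h2, (le_rootMultiplicity_iff h2).2 hv4⟩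
  · exact ⟨v.1 + v.2, add_mem m1 m2, h12, (le_rootMultiplicity_iff h12).2 hv5⟩

/-- (K4) every subspace satisfying the conditions is the span of a non-zero member of `Lsub`. -/
lemma Good.exists_of_cond (h : Good d P e) {V : Submodule k k[X]} (hV : Cond d P e V) :
    ∃ v ∈ Lsub d P e, v ≠ 0 ∧ Submodule.span k {v.1, v.2} = V := by
  obtain ⟨hVd, hV2, hVs⟩ := hV
  obtain ⟨s0, hs0V, hs0, hm0⟩ := hVs 0
  obtain ⟨s1, hs1V, hs1, hm1⟩ := hVs 1
  obtain ⟨s2, hs2V, hs2, hm2⟩ := hVs 2
  rw [le_rootMultiplicity_iff hs0] at hm0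
  rw [le_rootMultiplicity_iff hs1] at hm1
  rw [le_rootMultiplicity_iff hs2] at hm2
  have hdeg : ∀ s ∈ V, s.natDegree ≤ d := fun s hs => mem_degreeLE_iff.1 (hVd hs)
  -- s0, s1 independent
  have hli : LinearIndependent k ![s0, s1] := by
    rw [LinearIndependent.pair_iff]
    intro a b hab
    have hb : b = 0 := by
      by_contra hb
      apply hs1
      have e2 : s1 = (-(b⁻¹ * a)) • s0 := by
        have : b • s1 = -(a • s0) := by
          rw [eq_neg_iff_add_eq_zero, add_comm]; exact hab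
        calc s1 = b⁻¹ • (b • s1) := by rw [smul_smul, inv_mul_cancel₀ hb, one_smul]
          _ = (-(b⁻¹ * a)) • s0 := by rw [this, smul_neg, smul_smul, neg_smul]
      refine h.eq_zero_of_two_dvd (i := 0) (j := 1) (by decide) (hdeg _ hs1V) ?_ hm1
      rw [e2, smul_eq_C_mul]
      exact hm0.mul_left _
    subst hb
    rw [zero_smul, add_zero] at hab
    refine ⟨?_, rfl⟩
    by_contra ha
    exact hs0 ((smul_eq_zero.1 hab).resolve_left ha)
  have hfin : Module.Finite k V := Module.finite_of_finrank_pos (by rw [hV2]; norm_num)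
  have hspan : Submodule.span k ({s0, s1} : Set k[X]) = V := by
    apply Submodule.eq_of_le_of_finrank_eq
    · rw [Submodule.span_le]
      rintro z (rfl | rfl)
      · exact hs0V
      · exact hs1V
    · rw [finrank_span_pair_of_li hli, hV2]
  have hs2mem : s2 ∈ Submodule.span k ({s0, s1} : Set k[X]) := by rw [hspan]; exact hs2V
  obtain ⟨a, b, hab⟩ := Submodule.mem_span_pair.1 hs2mem
  have ha : a ≠ 0 := by
    rintro rfl
    rw [zero_smul, zero_add] at hab
    apply hs2
    refine h.eq_zero_of_two_dvd (i := 1) (j := 2) (by decide) (hdeg _ hs2V) ?_ hm2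
    rw [← hab, smul_eq_C_mul]
    exact hm1.mul_left _
  have hb : b ≠ 0 := by
    rintro rfl
    rw [zero_smul, add_zero] at hab
    apply hs2
    refine h.eq_zero_of_two_dvd (i := 0) (j := 2) (by decide) (hdeg _ hs2V) ?_ hm2
    rw [← hab, smul_eq_C_mul]
    exact hm0.mul_left _
  refine ⟨(a • s0, b • s1), ⟨?_, ?_, ?_, ?_, ?_⟩, ?_, ?_⟩
  · exact (natDegree_smul_le a s0).trans (hdeg _ hs0V)
  · exact (natDegree_smul_le b s1).trans (hdeg _ hs1V)
  · simpa [smul_eq_C_mul] using hm0.mul_left (C a)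
  · simpa [smul_eq_C_mul] using hm1.mul_left (C b)
  · change _ ∣ a • s0 + b • s1
    rw [hab]; exact hm2
  · intro h0
    have : a • s0 = 0 := congrArg Prod.fst h0
    exact hs0 ((smul_eq_zero.1 this).resolve_left ha)
  · rw [← hspan]
    apply le_antisymm
    · rw [Submodule.span_le]
      rintro z (rfl | rfl)
      · exact Submodule.smul_mem _ _ (Submodule.subset_span (Set.mem_insert _ _))
      · exact Submodule.smul_mem _ _ (Submodule.subset_span (Set.mem_insert_of_mem _ rfl))
    · rw [Submodule.span_le]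
      rintro z (rfl | rfl)
      · have hmem : a • z ∈ Submodule.span k ({a • z, b • s1} : Set k[X]) :=
          Submodule.subset_span (Set.mem_insert _ _)
        have := Submodule.smul_mem _ a⁻¹ hmem
        rwa [smul_smul, inv_mul_cancel₀ ha, one_smul] at this
      · have hmem : b • z ∈ Submodule.span k ({a • s0, b • z} : Set k[X]) :=
          Submodule.subset_span (Set.mem_insert_of_mem _ rfl)
        have := Submodule.smul_mem _ b⁻¹ hmem
        rwa [smul_smul, inv_mul_cancel₀ hb, one_smul] at this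

/-- (K6) two non-zero members of `Lsub` with the same span are proportional. -/
lemma Good.proportional (h : Good d P e) {v w : k[X] × k[X]} (hv : v ∈ Lsub d P e)
    (hw : w ∈ Lsub d P e) (hv0 : v ≠ 0)
    (hsp : Submodule.span k ({v.1, v.2} : Set k[X]) = Submodule.span k {w.1, w.2}) :
    ∃ c : k, w = c • v := by
  have hv1 := h.fst_ne_zero hv hv0
  have hv2 := h.snd_ne_zero hv hv0
  obtain ⟨hvd1, hvd2, hv3, hv4, hv5⟩ := hv
  obtain ⟨hwd1, hwd2, hw3, hw4, hw5⟩ := hw
  have m1 : w.1 ∈ Submodule.span k ({v.1, v.2} : Set k[X]) := by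
    rw [hsp]; exact Submodule.subset_span (Set.mem_insert _ _)
  have m2 : w.2 ∈ Submodule.span k ({v.1, v.2} : Set k[X]) := by
    rw [hsp]; exact Submodule.subset_span (Set.mem_insert_of_mem _ rfl)
  obtain ⟨a, b, hab⟩ := Submodule.mem_span_pair.1 m1
  obtain ⟨a', b', hab'⟩ := Submodule.mem_span_pair.1 m2
  have hb : b = 0 := by
    by_contra hb
    apply hv2
    refine h.eq_zero_of_two_dvd (i := 0) (j := 1) (by decide) hvd2 ?_ hv4
    have : v.2 = b⁻¹ • (w.1 - a • v.1) := by
      rw [← hab, add_sub_cancel_left, smul_smul, inv_mul_cancel₀ hb, one_smul]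
    rw [this, smul_eq_C_mul, smul_eq_C_mul]
    exact (dvd_sub hw3 (hv3.mul_left _)).mul_left _
  have ha' : a' = 0 := by
    by_contra ha'
    apply hv1
    refine h.eq_zero_of_two_dvd (i := 0) (j := 1) (by decide) hvd1 hv3 ?_
    have : v.1 = a'⁻¹ • (w.2 - b' • v.2) := by
      rw [← hab', add_sub_cancel_right, smul_smul, inv_mul_cancel₀ ha', one_smul]
    rw [this, smul_eq_C_mul, smul_eq_C_mul]
    exact (dvd_sub hw4 (hv4.mul_left _)).mul_left _
  subst hb ha'
  rw [zero_smul, add_zero] at hab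
  rw [zero_smul, zero_add] at hab'
  have hac : a = b' := by
    by_contra hne
    apply hv1
    refine h.eq_zero_of_two_dvd (i := 0) (j := 2) (by decide) hvd1 hv3 ?_
    have : v.1 = (a - b')⁻¹ • ((w.1 + w.2) - b' • (v.1 + v.2)) := by
      rw [← hab, ← hab', smul_add]
      have : a • v.1 + b' • v.2 - (b' • v.1 + b' • v.2) = (a - b') • v.1 := by
        rw [sub_smul]; abel
      rw [this, smul_smul, inv_mul_cancel₀ (sub_ne_zero.2 hne), one_smul]
    rw [this, smul_eq_C_mul, smul_eq_C_mul]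
    exact (dvd_sub hw5 (hv5.mul_left _)).mul_left _
  subst hac
  exact ⟨a, Prod.ext hab.symm hab'.symm⟩

lemma finrank_degreeLT (n : ℕ) : Module.finrank k (degreeLT k n) = n := by
  rw [(degreeLTEquiv k n).finrank_eq, Module.finrank_fin_fun]

instance finite_degreeLT (n : ℕ) : Module.Finite k (degreeLT k n) :=
  Module.Finite.equiv (degreeLTEquiv k n).symm

/-- (K3) `Lsub` is non-zero. -/
lemma Good.Lsub_ne_bot (h : Good d P e) : Lsub d P e ≠ ⊥ := by
  set q₀ : k[X] := (X - C (P 0)) ^ e 0 with hq₀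
  set q₁ : k[X] := (X - C (P 1)) ^ e 1 with hq₁
  set q₂ : k[X] := (X - C (P 2)) ^ e 2 with hq₂
  set a := d + 1 - e 0 with ha
  set b := d + 1 - e 1 with hb
  have hmonic : q₂.Monic := (monic_X_sub_C _).pow _
  let ψ : (degreeLT k a × degreeLT k b) →ₗ[k] k[X] :=
    ((LinearMap.mulLeft k q₀).comp (degreeLT k a).subtype).coprod
      ((LinearMap.mulLeft k q₁).comp (degreeLT k b).subtype)
  let φ : (degreeLT k a × degreeLT k b) →ₗ[k] AdjoinRoot q₂ :=
    (AdjoinRoot.mkₐ q₂).toLinearMap.comp ψ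
  have hfin : Module.Finite k (AdjoinRoot q₂) := (AdjoinRoot.powerBasis' hmonic).finite
  have hlt : Module.finrank k (AdjoinRoot q₂) < Module.finrank k (degreeLT k a × degreeLT k b) := by
    rw [Module.finrank_prod, finrank_degreeLT, finrank_degreeLT,
      (AdjoinRoot.powerBasis' hmonic).finrank, AdjoinRoot.powerBasis'_dim, hq₂, natDegree_lin]
    have := h.sum
    have := h.le 0
    have := h.le 1
    omega
  have hker := LinearMap.ker_ne_bot_of_finrank_lt hlt (f := φ)
  obtain ⟨⟨G₁, G₂⟩, hG, hG0⟩ := (Submodule.ne_bot_iff _).1 hker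
  rw [Submodule.ne_bot_iff]
  have hG' : q₂ ∣ q₀ * G₁.1 + q₁ * G₂.1 := by
    have : φ (G₁, G₂) = 0 := hG
    rw [← AdjoinRoot.mk_eq_zero]
    exact this
  have hd1 : (q₀ * G₁.1).natDegree ≤ d := by
    by_cases hz : G₁.1 = 0
    · rw [hz, mul_zero]; simp
    · rw [natDegree_mul (lin_ne_zero _ _) hz, natDegree_lin]
      have := (mem_degreeLT.1 G₁.2)
      have h2 : G₁.1.natDegree < a := (natDegree_lt_iff_degree_lt hz).2 this
      have := h.le 0
      omega
  have hd2 : (q₁ * G₂.1).natDegree ≤ d := by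
    by_cases hz : G₂.1 = 0
    · rw [hz, mul_zero]; simp
    · rw [natDegree_mul (lin_ne_zero _ _) hz, natDegree_lin]
      have := (mem_degreeLT.1 G₂.2)
      have h2 : G₂.1.natDegree < b := (natDegree_lt_iff_degree_lt hz).2 this
      have := h.le 1
      omega
  refine ⟨(q₀ * G₁.1, q₁ * G₂.1), ⟨hd1, hd2, dvd_mul_right _ _, dvd_mul_right _ _, hG'⟩, ?_⟩
  intro h0
  apply hG0
  have e1 : q₀ * G₁.1 = 0 := congrArg Prod.fst h0
  have e2 : q₁ * G₂.1 = 0 := congrArg Prod.snd h0
  have g1 : G₁.1 = 0 := (mul_eq_zero.1 e1).resolve_left (lin_ne_zero _ _)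
  have g2 : G₂.1 = 0 := (mul_eq_zero.1 e2).resolve_left (lin_ne_zero _ _)
  exact Prod.ext (Subtype.ext g1) (Subtype.ext g2)

lemma mem_span_pair_iff {x y z : k[X]} :
    z ∈ Submodule.span k ({x, y} : Set k[X]) ↔ ∃ a b : k, a • x + b • y = z :=
  Submodule.mem_span_pair

/-- separability of the span in terms of the Wronskian of the generators -/
lemma isSeparable_span_pair_iff {x y : k[X]} :
    IsSeparable (Submodule.span k ({x, y} : Set k[X])) ↔ wronskian x y ≠ 0 := by
  constructor
  · rintro ⟨F, hF, G, hG, hW⟩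
    obtain ⟨a, b, rfl⟩ := mem_span_pair_iff.1 hF
    obtain ⟨c, d', rfl⟩ := mem_span_pair_iff.1 hG
    rw [wronskian_comb] at hW
    intro h0
    rw [h0, smul_zero] at hW
    exact hW rfl
  · intro hW
    exact ⟨x, Submodule.subset_span (Set.mem_insert _ _), y,
      Submodule.subset_span (Set.mem_insert_of_mem _ rfl), hW⟩

lemma dvd_of_dvd_smul {c : k} (hc : c ≠ 0) {q W : k[X]} (h : q ∣ c • W) : q ∣ W := by
  have : W = c⁻¹ • (c • W) := by rw [smul_smul, inv_mul_cancel₀ hc, one_smul]
  rw [this, smul_eq_C_mul (a := c⁻¹)]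
  exact h.mul_left _

/-- the main count: a separable span of a non-zero member of `Lsub` is a pencil with exactly the
prescribed ramification. -/
theorem Good.mem_ramMaps_of_separable (h : Good d P e) (he1 : ∀ i, 1 ≤ e i) {v : k[X] × k[X]}
    (hv : v ∈ Lsub d P e) (hv0 : v ≠ 0)
    (hsep : IsSeparable (Submodule.span k ({v.1, v.2} : Set k[X]))) :
    Submodule.span k ({v.1, v.2} : Set k[X]) ∈ ramMaps d P e := by
  have hcond := h.cond_span hv hv0
  obtain ⟨hvd1, hvd2, hv3, hv4, hv5⟩ := hv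
  have hsum := h.sum
  have h0 := he1 0
  have h1 := he1 1
  have h2 := he1 2
  have hd : 1 ≤ d := (he1 0).trans (h.le 0)
  set W := wronskian v.1 v.2 with hWdef
  have hW : W ≠ 0 := isSeparable_span_pair_iff.1 hsep
  have hdeg : W.natDegree ≤ 2 * d - 2 := natDegree_wronskian_le hd hvd1 hvd2
  have hW21 : wronskian v.2 v.1 = -W := (wronskian_neg_eq v.1 v.2).symm
  have hW32 : wronskian (v.1 + v.2) v.2 = W := by
    rw [wronskian_add_left, wronskian_self_eq_zero, add_zero]
  -- base divisibility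
  have hbase : ∀ j, (X - C (P j)) ^ (e j - 1) ∣ W := by
    intro j
    fin_cases j
    · exact pow_pred_dvd_wronskian v.2 hv3
    · have := pow_pred_dvd_wronskian v.1 hv4
      rw [hW21] at this
      exact (dvd_neg.1 this)
    · have := pow_pred_dvd_wronskian v.2 hv5
      rwa [hW32] at this
  -- no extra vanishing at the points
  have key : ∀ j, ¬ (X - C (P j)) ^ e j ∣ W := by
    intro j hj
    have := sum_le_natDegree_of_dvd h.inj (Function.update (fun i => e i - 1) j (e j)) hW (by
      intro i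
      by_cases hij : i = j
      · subst hij; simpa using hj
      · simpa [Function.update_of_ne hij] using hbase i)
    rw [Fin.sum_univ_three] at this
    fin_cases j <;> simp [Function.update] at this <;> omega
  -- no vanishing elsewhere
  have key' : ∀ a : k, (∀ j, a ≠ P j) → ¬ (X - C a) ∣ W := by
    intro a ha haW
    have := sum_add_one_le_natDegree_of_dvd h.inj (fun i => e i - 1) hW hbase ha haW
    rw [Fin.sum_univ_three] at this
    omega
  have m1 : v.1 ∈ Submodule.span k ({v.1, v.2} : Set k[X]) :=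
    Submodule.subset_span (Set.mem_insert _ _)
  have m2 : v.2 ∈ Submodule.span k ({v.1, v.2} : Set k[X]) :=
    Submodule.subset_span (Set.mem_insert_of_mem _ rfl)
  refine ⟨⟨hcond.1, hcond.2.1, ?_, ?_⟩, hsep, ?_⟩
  · -- an element of degree exactly d
    have hlow := sum_le_natDegree_of_dvd h.inj (fun i => e i - 1) hW hbase
    rw [Fin.sum_univ_three] at hlow
    have hlt : W.natDegree < v.1.natDegree + v.2.natDegree := natDegree_wronskian_lt_add hW
    by_cases hd1 : v.1.natDegree = d
    · exact ⟨v.1, m1, hd1⟩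
    · refine ⟨v.2, m2, ?_⟩
      omega
  · -- base point free
    intro a
    by_contra hall
    push Not at hall
    have r1 : (X - C a) ∣ v.1 := dvd_iff_isRoot.2 (hall v.1 m1)
    have r2 : (X - C a) ∣ v.2 := dvd_iff_isRoot.2 (hall v.2 m2)
    by_cases hex : ∃ j, a = P j
    · obtain ⟨j, rfl⟩ := hex
      apply key j
      fin_cases j
      · exact pow_dvd_wronskian h0 hv3 r2
      · have := pow_dvd_wronskian h1 hv4 r1
        rw [hW21] at this
        exact dvd_neg.1 this
      · have := pow_dvd_wronskian h2 hv5 r2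
        rwa [hW32] at this
    · push Not at hex
      apply key' a hex
      have := pow_dvd_wronskian (m := 1) le_rfl (by simpa using r1) r2
      simpa using this
  · -- exact ramification
    intro j
    refine ⟨hcond.2.2 j, ?_⟩
    intro s hs hs0
    by_contra hlt
    push Not at hlt
    have hdv : (X - C (P j)) ^ (e j + 1) ∣ s := (le_rootMultiplicity_iff hs0).1 hlt
    obtain ⟨α, β, rfl⟩ := mem_span_pair_iff.1 hs
    apply key j
    by_cases hα : α = 0
    · subst hα
      have hβ : β ≠ 0 := by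
        rintro rfl
        apply hs0
        simp
      have := pow_pred_dvd_wronskian v.1 hdv
      have e1 : wronskian ((0 : k) • v.1 + β • v.2) v.1 = (-β) • W := by
        have := wronskian_comb 0 β 1 0 v.1 v.2
        simpa using this
      rw [e1, Nat.add_sub_cancel] at this
      exact dvd_of_dvd_smul (neg_ne_zero.2 hβ) this
    · have := pow_pred_dvd_wronskian v.2 hdv
      have e1 : wronskian (α • v.1 + β • v.2) v.2 = α • W := by
        have := wronskian_comb α β 0 1 v.1 v.2
        simpa using this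
      rw [e1, Nat.add_sub_cancel] at this
      exact dvd_of_dvd_smul hα this

/-- uniqueness: a base-point-free pencil of degree `d` satisfying the conditions is the only
subspace satisfying them. -/
theorem Good.eq_of_isPencil [IsAlgClosed k] (h : Good d P e) {V V' : Submodule k k[X]}
    (hV : IsPencil d V) (hc : Cond d P e V) (hc' : Cond d P e V') : V' = V := by
  obtain ⟨v, hv, hv0, rfl⟩ := h.exists_of_cond hc
  obtain ⟨v', hv', hv'0, rfl⟩ := h.exists_of_cond hc'
  have hcross := h.cross hv hv'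
  have hv1 := h.fst_ne_zero hv hv0
  obtain ⟨-, -, ⟨s, hsV, hsd⟩, hbpf⟩ := hV
  have hcop : IsCoprime v.1 v.2 := by
    rw [isCoprime_iff_aeval_ne_zero_of_isAlgClosed k k]
    intro a
    by_contra hboth
    push Not at hboth
    obtain ⟨t, htV, hta⟩ := hbpf a
    obtain ⟨α, β, rfl⟩ := mem_span_pair_iff.1 htV
    apply hta
    have e1 : eval a v.1 = 0 := by simpa using hboth.1
    have e2 : eval a v.2 = 0 := by simpa using hboth.2
    simp [e1, e2]
  have hd1 : v.1 ∣ v'.1 := by
    apply hcop.dvd_of_dvd_mul_right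
    rw [← hcross]
    exact dvd_mul_right _ _
  obtain ⟨q, hq⟩ := hd1
  have hq2 : v'.2 = q * v.2 := by
    apply mul_left_cancel₀ hv1
    rw [hcross, hq]; ring
  have hq0 : q ≠ 0 := by
    rintro rfl
    apply hv'0
    apply Prod.ext
    · simpa using hq
    · simpa using hq2
  obtain ⟨α, β, hs⟩ := mem_span_pair_iff.1 hsV
  have hqs : q * s ∈ Submodule.span k ({v'.1, v'.2} : Set k[X]) := by
    rw [mem_span_pair_iff]
    refine ⟨α, β, ?_⟩
    rw [hq, hq2, ← hs]
    simp only [smul_eq_C_mul]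
    ring
  have hs0 : s ≠ 0 := by
    rintro rfl
    have hd0 : d = 0 := by simpa using hsd.symm
    have := h.pair_gt (i := 0) (j := 1) (by decide)
    have := h.le 0
    have := h.le 1
    omega
  have hdeg : (q * s).natDegree ≤ d := mem_degreeLE_iff.1 (hc'.1 hqs)
  rw [natDegree_mul hq0 hs0, hsd] at hdeg
  have hq' : q.natDegree = 0 := by omega
  obtain ⟨c, rfl⟩ := natDegree_eq_zero.1 hq'
  have hfin : Module.Finite k (Submodule.span k ({v.1, v.2} : Set k[X])) :=
    Module.finite_of_finrank_pos (by rw [hc.2.1]; norm_num)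
  apply Submodule.eq_of_le_of_finrank_eq
  · rw [Submodule.span_le]
    rintro z (rfl | rfl)
    · rw [hq, mul_comm, ← smul_eq_C_mul]
      exact Submodule.smul_mem _ _ (Submodule.subset_span (Set.mem_insert _ _))
    · rw [hq2, ← smul_eq_C_mul]
      exact Submodule.smul_mem _ _ (Submodule.subset_span (Set.mem_insert_of_mem _ rfl))
  · rw [hc.2.1, hc'.2.1]

lemma X_sub_C_pow_char (p : ℕ) [CharP k p] [Fact p.Prime] (a : k) :
    (X - C a) ^ p = X ^ p - C (a ^ p) := by
  rw [sub_pow_char, ← C_pow]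

/-- in characteristic `p` with `e 0, e 1 < p ≤ d` there is an inseparable subspace satisfying
the conditions. -/
theorem Good.exists_inseparable (h : Good d P e) (p : ℕ) [CharP k p] (hp0 : p ≠ 0)
    (h0 : e 0 < p) (h1 : e 1 < p) (hpd : p ≤ d) :
    ∃ V : Submodule k k[X], Cond d P e V ∧ ¬ IsSeparable V := by
  have hprime : p.Prime := (CharP.char_is_prime_or_zero k p).resolve_right hp0
  have : Fact p.Prime := ⟨hprime⟩
  set q : k[X] := (X - C (P 2)) ^ (d - p) with hq
  have hq0 : q ≠ 0 := lin_ne_zero _ _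
  have hXp : (X : k[X]) ^ p ≠ 0 := pow_ne_zero _ X_ne_zero
  have hli : LinearIndependent k ![q, q * X ^ p] := by
    rw [LinearIndependent.pair_iff]
    intro a b hab
    have h1 : q * (C a + C b * X ^ p) = 0 := by
      rw [← hab]; simp only [smul_eq_C_mul]; ring
    have h2 : C a + C b * X ^ p = 0 := (mul_eq_zero.1 h1).resolve_left hq0
    have ha : a = 0 := by
      have := congrArg (fun f => coeff f 0) h2
      simpa [coeff_X_pow, hp0.symm] using this
    have hb : b = 0 := by
      have := congrArg (fun f => coeff f p) h2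
      simpa [coeff_X_pow, coeff_C, hp0] using this
    exact ⟨ha, hb⟩
  have hd1 : q.natDegree ≤ d := by rw [hq, natDegree_lin]; omega
  have hd2 : (q * X ^ p).natDegree ≤ d := by
    rw [natDegree_mul hq0 hXp, hq, natDegree_lin, natDegree_X_pow]; omega
  refine ⟨Submodule.span k {q, q * X ^ p}, ⟨span_pair_le_degreeLE hd1 hd2,
    finrank_span_pair_of_li hli, ?_⟩, ?_⟩
  · -- the three members
    have key : ∀ a : k, q * (X - C a) ^ p ∈ Submodule.span k ({q, q * X ^ p} : Set k[X]) := by
      intro a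
      rw [mem_span_pair_iff]
      refine ⟨-(a ^ p), 1, ?_⟩
      rw [X_sub_C_pow_char p a]
      simp only [smul_eq_C_mul, map_neg, one_smul]
      ring
    have hne : ∀ a : k, q * (X - C a) ^ p ≠ 0 := fun a => mul_ne_zero hq0 (lin_ne_zero _ _)
    intro i
    fin_cases i
    · refine ⟨_, key (P 0), hne _, (le_rootMultiplicity_iff (hne _)).2 ?_⟩
      exact ((pow_dvd_pow _ h0.le).trans (dvd_mul_left _ _))
    · refine ⟨_, key (P 1), hne _, (le_rootMultiplicity_iff (hne _)).2 ?_⟩
      exact ((pow_dvd_pow _ h1.le).trans (dvd_mul_left _ _))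
    · refine ⟨_, key (P 2), hne _, (le_rootMultiplicity_iff (hne _)).2 ?_⟩
      have : q * (X - C (P 2)) ^ p = (X - C (P 2)) ^ d := by
        rw [hq, ← pow_add]; congr 1; omega
      rw [this]
      exact pow_dvd_pow _ (h.le 2)
  · rw [isSeparable_span_pair_iff, not_not]
    have hpz : (C (p : k) : k[X]) = 0 := by
      rw [CharP.cast_eq_zero k p, C_0]
    simp only [wronskian, derivative_mul, derivative_X_pow]
    have : q * (derivative q * X ^ p + q * (C (p : k) * X ^ (p - 1))) -
        derivative q * (q * X ^ p) = q ^ 2 * X ^ (p - 1) * C (p : k) := by ring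
    rw [this, hpz, mul_zero]

end ThreePoints

end Groth.Agent.R2.H63.RamP1
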