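import Mathlib
import Groth.Agent.R2.H63RamP1

/-!
# A one-parameter family of pencils with wild ramification at infinity (helper63)

If `V = ⟨F, G⟩` is a separable base-point-free pencil of degree `d` in characteristic `p` with
ramification indices `e i < p` at points `P i` and index `E > p` at infinity, then
`V_c = ⟨F + c X^p G, G⟩` has the same properties for every `c`.
-/

set_option autoImplicit false

namespace Groth.Agent.R2.H63.RamP1

open Polynomial W4c1limliniiii

variable {k : Type*} [Field k]

section Family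

variable {d n : ℕ} {P : Fin n → k} {e : Fin n → ℕ} {E p : ℕ}

/-- the data of the family -/
structure FamData (d E p : ℕ) (F G : k[X]) : Prop where
  hF : F.natDegree = d
  hG : G.natDegree + E = d
  hG0 : G ≠ 0
  hpE : p < E
  hp0 : p ≠ 0

variable {F G : k[X]}

/-- the deformed generator -/
noncomputable def Fc (p : ℕ) (F G : k[X]) (c : k) : k[X] := F + C c * (X ^ p * G)

lemma FamData.d_pos (h : FamData d E p F G) : 0 < d := by
  have := h.hG; have := h.hpE; omega

lemma FamData.natDegree_H_lt (h : FamData d E p F G) (c : k) :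
    (C c * (X ^ p * G)).natDegree < d := by
  refine lt_of_le_of_lt (natDegree_C_mul_le _ _) ?_
  rw [natDegree_mul (pow_ne_zero _ X_ne_zero) h.hG0, natDegree_X_pow]
  have := h.hG; have := h.hpE; omega

lemma FamData.natDegree_Fc (h : FamData d E p F G) (c : k) : (Fc p F G c).natDegree = d := by
  rw [Fc, natDegree_add_eq_left_of_natDegree_lt, h.hF]
  rw [h.hF]; exact h.natDegree_H_lt c

lemma FamData.F_ne_zero (h : FamData d E p F G) : F ≠ 0 := by
  rintro rfl
  have := h.hF
  have := h.d_pos
  simp at *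
  omega

lemma FamData.Fc_ne_zero (h : FamData d E p F G) (c : k) : Fc p F G c ≠ 0 := by
  intro h0
  have := h.natDegree_Fc c
  rw [h0] at this
  have := h.d_pos
  simp at *
  omega

/-- degree of a combination with non-zero first coefficient -/
lemma FamData.natDegree_comb (h : FamData d E p F G) (c α β : k) (hα : α ≠ 0) :
    (α • Fc p F G c + β • G).natDegree = d := by
  have h1 : (α • Fc p F G c).natDegree = d := by
    rw [natDegree_smul _ hα, h.natDegree_Fc]
  rw [natDegree_add_eq_left_of_natDegree_lt, h1]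
  rw [h1]
  refine lt_of_le_of_lt (natDegree_smul_le _ _) ?_
  have := h.hG; have := h.hpE; omega

lemma FamData.comb_eq_zero (h : FamData d E p F G) (c α β : k)
    (h0 : α • Fc p F G c + β • G = 0) : α = 0 ∧ β = 0 := by
  have hα : α = 0 := by
    by_contra hα
    have := h.natDegree_comb c α β hα
    rw [h0] at this
    have := h.d_pos
    simp at *
    omega
  subst hα
  rw [zero_smul, zero_add] at h0
  exact ⟨rfl, (smul_eq_zero.1 h0).resolve_right h.hG0⟩

lemma FamData.li (h : FamData d E p F G) (c : k) : LinearIndependent k ![Fc p F G c, G] := by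
  rw [LinearIndependent.pair_iff]
  exact fun α β h0 => h.comb_eq_zero c α β h0

lemma Fc_zero (F G : k[X]) : Fc p F G 0 = F := by simp [Fc]

/-- the Wronskian does not change -/
lemma wronskian_Fc [CharP k p] (F G : k[X]) (c : k) : wronskian (Fc p F G c) G = wronskian F G := by
  have hpz : (C (p : k) : k[X]) = 0 := by rw [CharP.cast_eq_zero k p, C_0]
  simp only [Fc, wronskian, derivative_add, derivative_mul, derivative_C, derivative_X_pow]
  have : (F + C c * (X ^ p * G)) * derivative G -
      (derivative F + (0 * (X ^ p * G) + C c * (C (p : k) * X ^ (p - 1) * G + X ^ p * derivative G))) * G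
      = F * derivative G - derivative F * G - C c * C (p : k) * X ^ (p - 1) * G * G := by ring
  rw [this, hpz]
  ring

/-- rewriting a combination around a point `a` -/
lemma comb_Fc_eq [CharP k p] [Fact p.Prime] (F G : k[X]) (c a α β : k) :
    α • Fc p F G c + β • G =
      (α • F + (β + α * c * a ^ p) • G) + C (α * c) * ((X - C a) ^ p * G) := by
  rw [X_sub_C_pow_char p a]
  simp only [Fc, smul_eq_C_mul, map_add, map_mul, map_pow]
  ring

/-- the family member -/
noncomputable def Vc (p : ℕ) (F G : k[X]) (c : k) : Submodule k k[X] :=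
  Submodule.span k {Fc p F G c, G}

lemma mem_Vc {c : k} {s : k[X]} : s ∈ Vc p F G c ↔ ∃ α β : k, α • Fc p F G c + β • G = s :=
  mem_span_pair_iff

lemma Vc_zero : Vc p F G 0 = Submodule.span k {F, G} := by rw [Vc, Fc_zero]

theorem FamData.hasRamIdx_Vc [CharP k p] [Fact p.Prime] (h : FamData d E p F G) {a : k} {m : ℕ}
    (hm : m < p) (hV : HasRamIdx (Submodule.span k {F, G}) a m) (c : k) :
    HasRamIdx (Vc p F G c) a m := by
  obtain ⟨⟨s, hs, hs0, hsm⟩, hall⟩ := hV
  have h0 : FamData d E p F G := h
  constructor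
  · obtain ⟨α, β', rfl⟩ := mem_span_pair_iff.1 hs
    refine ⟨α • Fc p F G c + (β' - α * c * a ^ p) • G, mem_Vc.2 ⟨_, _, rfl⟩, ?_, ?_⟩
    · intro hz
      obtain ⟨hα, hβ⟩ := h.comb_eq_zero c _ _ hz
      subst hα
      apply hs0
      simp only [zero_mul, sub_zero] at hβ
      rw [hβ]; simp
    · have hne : α • Fc p F G c + (β' - α * c * a ^ p) • G ≠ 0 := by
        intro hz
        obtain ⟨hα, hβ⟩ := h.comb_eq_zero c _ _ hz
        subst hα
        apply hs0
        simp only [zero_mul, sub_zero] at hβ
        rw [hβ]; simp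
      rw [le_rootMultiplicity_iff hne, comb_Fc_eq F G c a]
      rw [le_rootMultiplicity_iff hs0] at hsm
      apply dvd_add
      · have : β' - α * c * a ^ p + α * c * a ^ p = β' := by ring
        rw [this]; exact hsm
      · exact ((pow_dvd_pow _ hm.le).trans (dvd_mul_right _ _)).mul_left _
  · intro s hs hs0
    obtain ⟨α, β, rfl⟩ := mem_Vc.1 hs
    by_contra hlt
    push Not at hlt
    have hdv : (X - C a) ^ (m + 1) ∣ α • Fc p F G c + β • G := (le_rootMultiplicity_iff hs0).1 hlt
    rw [comb_Fc_eq F G c a] at hdv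
    have hdv2 : (X - C a) ^ (m + 1) ∣ C (α * c) * ((X - C a) ^ p * G) :=
      ((pow_dvd_pow _ (by omega : m + 1 ≤ p)).trans (dvd_mul_right _ _)).mul_left _
    have hdv3 : (X - C a) ^ (m + 1) ∣ α • F + (β + α * c * a ^ p) • G :=
      (dvd_add_left hdv2).1 hdv
    have hne : α • F + (β + α * c * a ^ p) • G ≠ 0 := by
      intro hz
      have hF0 : Fc p F G 0 = F := Fc_zero F G
      rw [← hF0] at hz
      obtain ⟨hα, hβ⟩ := h.comb_eq_zero 0 _ _ hz
      subst hα
      apply hs0
      simp only [zero_mul, add_zero] at hβ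
      rw [hβ]; simp
    have := hall _ (mem_span_pair_iff.2 ⟨_, _, rfl⟩) hne
    have := (le_rootMultiplicity_iff hne).2 hdv3
    omega

theorem FamData.Vc_mem [CharP k p] [Fact p.Prime] (h : FamData d E p F G) (hW : wronskian F G ≠ 0)
    (hbpf : ∀ a : k, ∃ s ∈ Submodule.span k ({F, G} : Set k[X]), s.eval a ≠ 0)
    (hram : ∀ i, HasRamIdx (Submodule.span k {F, G}) (P i) (e i)) (hlt : ∀ i, e i < p) (c : k) :
    Vc p F G c ∈ ramMaps d P e ∧ HasRamIdxInf d (Vc p F G c) E := by
  have m1 : Fc p F G c ∈ Vc p F G c := Submodule.subset_span (Set.mem_insert _ _)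
  have m2 : G ∈ Vc p F G c := Submodule.subset_span (Set.mem_insert_of_mem _ rfl)
  have hGd : G.natDegree ≤ d := by have := h.hG; omega
  refine ⟨⟨⟨?_, ?_, ?_, ?_⟩, ?_, ?_⟩, ?_, ?_⟩
  · exact span_pair_le_degreeLE (h.natDegree_Fc c).le hGd
  · exact finrank_span_pair_of_li (h.li c)
  · exact ⟨_, m1, h.natDegree_Fc c⟩
  · intro a
    obtain ⟨s, hs, hsa⟩ := hbpf a
    obtain ⟨α, β, rfl⟩ := mem_span_pair_iff.1 hs
    by_cases hGa : G.eval a = 0
    · refine ⟨_, m1, ?_⟩
      have hFa : F.eval a ≠ 0 := by
        intro hFa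
        apply hsa
        simp [hFa, hGa]
      simpa [Fc, hGa] using hFa
    · exact ⟨G, m2, hGa⟩
  · rw [Vc, isSeparable_span_pair_iff, wronskian_Fc]
    exact hW
  · intro i
    exact h.hasRamIdx_Vc (hlt i) (hram i) c
  · exact ⟨G, m2, h.hG0, h.hG.le⟩
  · intro s hs hs0
    obtain ⟨α, β, rfl⟩ := mem_Vc.1 hs
    by_cases hα : α = 0
    · subst hα
      rw [zero_smul, zero_add] at hs0 ⊢
      have hβ : β ≠ 0 := by rintro rfl; simp at hs0
      rw [natDegree_smul _ hβ, h.hG]
    · rw [h.natDegree_comb c α β hα]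
      omega

theorem FamData.Vc_injective (h : FamData d E p F G) : Function.Injective (Vc p F G) := by
  intro c c' hcc
  by_contra hne
  have m1 : Fc p F G c ∈ Vc p F G c' := by
    rw [← hcc]; exact Submodule.subset_span (Set.mem_insert _ _)
  have m1' : Fc p F G c' ∈ Vc p F G c' := Submodule.subset_span (Set.mem_insert _ _)
  have hsub : C (c - c') * (X ^ p * G) ∈ Vc p F G c' := by
    have : C (c - c') * (X ^ p * G) = Fc p F G c - Fc p F G c' := by
      simp only [Fc, map_sub]; ring
    rw [this]
    exact sub_mem m1 m1'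
  obtain ⟨α, β, hαβ⟩ := mem_Vc.1 hsub
  have hα : α = 0 := by
    by_contra hα
    have h1 := h.natDegree_comb c' α β hα
    rw [hαβ] at h1
    have := h.natDegree_H_lt (c - c')
    omega
  subst hα
  rw [zero_smul, zero_add] at hαβ
  have : (C β - C (c - c') * X ^ p) * G = 0 := by
    rw [sub_mul, ← smul_eq_C_mul, hαβ]; ring
  have h2 : C β - C (c - c') * X ^ p = 0 := (mul_eq_zero.1 this).resolve_right h.hG0
  have h3 := congrArg (fun f => coeff f p) h2
  simp only [coeff_sub, coeff_C, h.hp0, if_false, coeff_C_mul, coeff_X_pow, if_true, mul_one,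
    zero_sub, neg_eq_zero, coeff_zero] at h3
  exact hne (sub_eq_zero.1 h3)

end Family

end Groth.Agent.R2.H63.RamP1
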