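import Mathlib
import Groth.Agent.S14008
import Groth.Agent.Lib.Helper2Thick

/-!
# Smoothness lifts along cartesian thickenings of locally Noetherian schemes, given flatness
(helper63)
-/

set_option autoImplicit false
universe u

namespace Groth.Agent.R2.H63.ThickSmooth

open AlgebraicGeometry CategoryTheory Limits

/-- the kernel of a surjective closed immersion into a locally Noetherian scheme is nilpotent on
affine opens -/
theorem isNilpotent_ker_ideal {X X' : Scheme.{u}} (j : X ⟶ X') [IsClosedImmersion j] [Surjective j]
    [IsLocallyNoetherian X'] (U : X'.affineOpens) : IsNilpotent (j.ker.ideal U) := by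
  have : IsNoetherianRing Γ(X', U.1) := IsLocallyNoetherian.component_noetherian U
  have hfg : (j.ker.ideal U).FG := (isNoetherianRing_iff_ideal_fg _).1 inferInstance _
  rw [hfg.isNilpotent_iff_le_nilradical]
  intro x hx
  rw [mem_nilradical]
  have hk : j.ker.ideal U = RingHom.ker (j.app U.1).hom := Scheme.Hom.ker_apply j U
  rw [hk, RingHom.mem_ker] at hx
  exact Groth.Agent.Lib.Helper2.Thick.nil_ker j U.1 U.2 x hx

theorem fg_ker_ideal {X X' : Scheme.{u}} (j : X ⟶ X')
    [IsLocallyNoetherian X'] (U : X'.affineOpens) : (j.ker.ideal U).FG := by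
  have : IsNoetherianRing Γ(X', U.1) := IsLocallyNoetherian.component_noetherian U
  exact (isNoetherianRing_iff_ideal_fg _).1 inferInstance _

/-- the residue field point of `Y'` factors through a surjective closed immersion `i : Y ⟶ Y'` -/
theorem exists_lift_fromSpecResidueField {Y Y' : Scheme.{u}} (i : Y ⟶ Y') [IsClosedImmersion i]
    [Surjective i] (y : Y') :
    ∃ τ : Spec (Y'.residueField y) ⟶ Y, τ ≫ i = Y'.fromSpecResidueField y := by
  let σ := Y'.fromSpecResidueField y
  have : IsClosedImmersion (pullback.snd i σ) := inferInstance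
  have : Surjective (pullback.snd i σ) := inferInstance
  have : IsIso (pullback.snd i σ) := isIso_of_isClosedImmersion_of_surjective _
  refine ⟨inv (pullback.snd i σ) ≫ pullback.fst i σ, ?_⟩
  rw [Category.assoc, pullback.condition, IsIso.inv_hom_id_assoc]

/-- Main lemma: in a cartesian square over a thickening of locally Noetherian schemes, a flat
morphism whose restriction is smooth is smooth. -/
theorem smooth_of_isPullback {X X' Y Y' : Scheme.{u}} (j : X ⟶ X') (g₀ : X ⟶ Y) (g : X' ⟶ Y')
    (i : Y ⟶ Y') (sq : IsPullback j g₀ g i) [IsClosedImmersion i] [Surjective i]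
    [IsClosedImmersion j] [Surjective j] [IsLocallyNoetherian X'] [IsLocallyNoetherian Y']
    [Flat g] [Smooth g₀] : Smooth g := by
  have : LocallyOfFinitePresentation g := by
    refine (Groth.Agent.S14008.result g g₀ j i ⟨inferInstance, inferInstance⟩
      ⟨inferInstance, inferInstance⟩ (isNilpotent_ker_ideal j) (isNilpotent_ker_ideal i)
      (fg_ker_ideal j) sq.w.symm).2 inferInstance
  refine Smooth.of_smooth_fiberToSpecResidueField g (fun y => ?_)
  obtain ⟨τ, hτ⟩ := exists_lift_fromSpecResidueField i y
  -- the fibre square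
  have big : IsPullback (g.fiberι y) (g.fiberToSpecResidueField y) g (τ ≫ i) := by
    rw [hτ]
    exact IsPullback.of_hasPullback g (Y'.fromSpecResidueField y)
  -- lift to `X`
  let l : g.fiber y ⟶ X := sq.lift (g.fiberι y) (g.fiberToSpecResidueField y ≫ τ) (by
    rw [Category.assoc]; exact big.w)
  have hl1 : l ≫ j = g.fiberι y := sq.lift_fst _ _ _
  have hl2 : l ≫ g₀ = g.fiberToSpecResidueField y ≫ τ := sq.lift_snd _ _ _
  have left : IsPullback l (g.fiberToSpecResidueField y) g₀ τ := by
    refine IsPullback.of_right ?_ hl2 sq
    rw [hl1]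
    exact big
  exact MorphismProperty.of_isPullback left inferInstance

end Groth.Agent.R2.H63.ThickSmooth
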