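import Mathlib
import Groth.Prelude.Def_EtModW
import Groth.Prelude.Def_ARSys

/-!
# helper63: sections over weakly contractible objects commute with `F ↦ F / I F`
-/

set_option autoImplicit false

namespace Groth.Agent.R2.H63.WCQuot

open CategoryTheory CategoryTheory.Limits AlgebraicGeometry Opposite

universe u

variable (Λ : Type (u + 1)) [CommRing Λ] {X : Scheme.{u}}

instance : HasSheafify (Scheme.ProEt.topology X) (Type (u + 1)) :=
  inferInstanceAs (HasSheafify (Scheme.ProEt.topology X) (Type (max (u + 1) u)))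

/-- epimorphisms of sheaves of modules are surjective on sections over weakly contractible
objects -/
theorem surjective_of_epi_of_isWC {F G : EtModW.ModP Λ X} (φ : F ⟶ G) [Epi φ]
    (U : X.ProEt) (hU : ProEtS.IsWC U) : Function.Surjective (φ.hom.app (op U)).hom := by
  have h1 : Sheaf.IsLocallySurjective φ := (Sheaf.isLocallySurjective_iff_epi' (φ := φ)).mpr ‹_›
  have h2 : Sheaf.IsLocallySurjective
      ((sheafCompose (Scheme.ProEt.topology X) (forget (ModuleCat.{u + 1} Λ))).map φ) :=
    inferInstance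
  have h3 : Epi ((sheafCompose (Scheme.ProEt.topology X) (forget (ModuleCat.{u + 1} Λ))).map φ) :=
    inferInstance
  exact hU _ _ _ h3

variable {Λ}

/-- the sections functor at `U` -/
noncomputable abbrev Γ (U : X.ProEt) : EtModW.ModP Λ X ⥤ ModuleCat.{u + 1} Λ :=
  sheafToPresheaf (Scheme.ProEt.topology X) (ModuleCat.{u + 1} Λ) ⋙ (evaluation _ _).obj (op U)

theorem smul_hom_app_apply {F G : EtModW.ModP Λ X} (a : Λ) (φ : F ⟶ G) (U : X.ProEt)
    (x : F.obj.obj (op U)) :
    ((a • φ).hom.app (op U)).hom x = a • (φ.hom.app (op U)).hom x := rfl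

theorem sum_hom_app_apply {F G : EtModW.ModP Λ X} {ι : Type*} (s : Finset ι) (φ : ι → (F ⟶ G))
    (U : X.ProEt) (x : F.obj.obj (op U)) :
    ((∑ i ∈ s, φ i).hom.app (op U)).hom x = ∑ i ∈ s, ((φ i).hom.app (op U)).hom x := by
  classical
  induction s using Finset.induction_on with
  | empty => simp
  | insert i s hi ih =>
    rw [Finset.sum_insert hi, Finset.sum_insert hi, ← ih]
    rfl

theorem main (I : Ideal Λ) (hI : I.FG) (F Q : EtModW.ModP Λ X) (p : F ⟶ Q)
    (hp : ARSys.IsQuot I p) (U : X.ProEt) (hU : ProEtS.IsWC U) :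
    Function.Surjective (p.hom.app (op U)).hom ∧
      LinearMap.ker (p.hom.app (op U)).hom = I • (⊤ : Submodule Λ (F.obj.obj (op U))) := by
  classical
  have : HasFiniteBiproducts (EtModW.ModP Λ X) := HasFiniteBiproducts.of_hasFiniteProducts
  obtain ⟨hQ, huniv⟩ := hp
  -- `p` is an epimorphism
  have hepi : Epi p := by
    apply Abelian.epi_of_cokernel_π_eq_zero
    have h0 : ARSys.HomKilledBy I (0 : F ⟶ cokernel p) := fun a _ => smul_zero a
    obtain ⟨ψ, -, hψ⟩ := huniv _ 0 h0
    rw [hψ (cokernel.π p) (cokernel.condition p), hψ 0 comp_zero]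
  refine ⟨surjective_of_epi_of_isWC Λ p U hU, ?_⟩
  apply le_antisymm
  · -- `ker p_U ≤ I • F(U)`
    obtain ⟨n, v, hv⟩ := Submodule.fg_iff_exists_fin_generating_family.mp hI
    let α : (⨁ fun _ : Fin n => F) ⟶ F := biproduct.desc (fun i => v i • 𝟙 F)
    have hα : ∀ i, biproduct.ι (fun _ : Fin n => F) i ≫ α = v i • 𝟙 F := fun i =>
      biproduct.ι_desc _ i
    -- `cokernel.π α` is killed by `I`
    have hkill : ARSys.HomKilledBy I (cokernel.π α) := by
      intro b hb
      rw [← hv] at hb
      obtain ⟨c, rfl⟩ := (Submodule.mem_span_range_iff_exists_fun Λ).mp hb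
      rw [Finset.sum_smul]
      apply Finset.sum_eq_zero
      intro i _
      have h1 : v i • cokernel.π α = (v i • 𝟙 F) ≫ cokernel.π α := by
        rw [Linear.smul_comp, Category.id_comp]
      rw [smul_eq_mul, mul_smul, h1, ← hα, Category.assoc, cokernel.condition, comp_zero,
        smul_zero]
    obtain ⟨ψ, hψ, -⟩ := huniv _ (cokernel.π α) hkill
    intro x hx
    have hx0 : (p.hom.app (op U)).hom x = 0 := hx
    -- `x` is killed by `cokernel.π α`
    have hx1 : ((cokernel.π α).hom.app (op U)).hom x = 0 := by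
      rw [← hψ]
      change (ψ.hom.app (op U)).hom ((p.hom.app (op U)).hom x) = 0
      rw [hx0, map_zero]
    -- exactness on sections
    have hex := (ShortComplex.kernelSequence_exact (cokernel.π α)).map_of_mono_of_preservesKernel
      (Γ U) inferInstance inferInstance
    rw [ShortComplex.moduleCat_exact_iff] at hex
    obtain ⟨y, hy⟩ := hex x hx1
    -- lift along the epimorphism onto the image
    have hfac : Abelian.factorThruImage α ≫ kernel.ι (cokernel.π α) = α :=
      Abelian.image.fac α
    obtain ⟨z, hz⟩ := surjective_of_epi_of_isWC Λ (Abelian.factorThruImage α) U hU y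
    have hxz : x = (α.hom.app (op U)).hom z := by
      rw [← hfac, ← hy, ← hz]
      rfl
    have hαsum : α = ∑ i, biproduct.π (fun _ : Fin n => F) i ≫ (v i • 𝟙 F) :=
      biproduct.desc_eq
    rw [hxz, hαsum, sum_hom_app_apply]
    apply Submodule.sum_mem
    intro i _
    have : ((biproduct.π (fun _ : Fin n => F) i ≫ (v i • 𝟙 F)).hom.app (op U)).hom z =
        v i • ((biproduct.π (fun _ : Fin n => F) i).hom.app (op U)).hom z := by
      rw [Linear.comp_smul, Category.comp_id]
      rfl
    rw [this]
    refine Submodule.smul_mem_smul ?_ Submodule.mem_top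
    rw [← hv]
    exact Submodule.subset_span ⟨i, rfl⟩
  · -- `I • F(U) ≤ ker p_U`
    rw [Submodule.smul_le]
    intro a ha x _
    rw [LinearMap.mem_ker, map_smul]
    have h1 := hQ a ha
    have h2 : ((a • 𝟙 Q : Q ⟶ Q).hom.app (op U)).hom ((p.hom.app (op U)).hom x) = 0 := by
      rw [h1]; rfl
    exact h2

end Groth.Agent.R2.H63.WCQuot
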