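import Mathlib
import Groth.Agent.R2.H63MorOpen
import Groth.Prelude.Def_WeilRes
import Groth.Prelude.Def_Flat

/-!
# Weil restriction along a finite locally free universal homeomorphism (helper63)

* `representable_of_univHomeo`: `Mor_S(Z, X)` is representable for `Z → S` finite locally free and a universal
  homeomorphism, `X → S` arbitrary (fibres of `Z_T → T` are single points, so `Mor_S(Z, U)`, `U ⊆ X` affine open,
  cover).
* `exists_representableBy_of_morS`: the Weil restriction functor of `X'` along `f` is the fibre of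
  `Mor_S(S', X') → Mor_S(S', S')` over the canonical section, hence representable as soon as both are.
-/

set_option autoImplicit false
set_option linter.style.haveILetI false
set_option linter.unusedSectionVars false

open CategoryTheory Limits AlgebraicGeometry Opposite TopologicalSpace

namespace Groth.Agent.R2.H63.WeilUH

universe u

open Groth.Agent.R2.H63.Stab Groth.Agent.R2.H63.WeilGeom Groth.Agent.R2.H63.WeilGlue
  Groth.Agent.R2.H63.MorOpen

section PartA

variable {S : Scheme.{u}} {E Xt : Over S} [IsFinite E.hom]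

theorem exists_mem_locus_of_univHomeo (hu : FlatMor.IsUnivHomeo E.hom) {T : Over S}
    (a : PT E T ⟶ Xt) (t : T.left) :
    ∃ U : Xt.left.Opens, IsAffineOpen U ∧ t ∈ locus a U := by
  have hh : IsHomeomorph ⇑(pullback.fst T.hom E.hom) :=
    hu (pullback.snd T.hom E.hom) T.hom (pullback.fst T.hom E.hom)
      (IsPullback.of_hasPullback T.hom E.hom)
  obtain ⟨z, hz⟩ := hh.bijective.surjective t
  obtain ⟨U, hU, hxU, -⟩ := exists_isAffineOpen_mem_and_subset
    (X := Xt.left) (x := a.left z) (U := ⊤) trivial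
  refine ⟨U, hU, ?_⟩
  rintro ⟨z', hz', hz't⟩
  have hz'' : pullback.fst T.hom E.hom z' = t := hz't
  have : z' = z := hh.bijective.injective (hz''.trans hz.symm)
  subst this
  exact hz' hxU

theorem representable_of_univHomeo_affine [IsAffine S] (hg : Mor2.IsFinLocFree E.hom)
    (hu : FlatMor.IsUnivHomeo E.hom) :
    ∃ W : Over S, Nonempty ((Flatn.morS E.hom Xt.hom).RepresentableBy W) := by
  refine representable_of_cover hg {U | IsAffineOpen U} ?_ ?_
  · intro U hU
    haveI : IsAffine (U : Scheme.{u}) := hU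
    infer_instance
  · intro T a t
    obtain ⟨U, hU, htU⟩ := exists_mem_locus_of_univHomeo hu a t
    exact ⟨U, hU, htU⟩

end PartA

section Final

variable {Z X S : Scheme.{u}} (g : Z ⟶ S) (f : X ⟶ S)

theorem representable_of_univHomeo (hg : Mor2.IsFinLocFree g) (hu : FlatMor.IsUnivHomeo g) :
    ∃ W : Over S, Nonempty ((Flatn.morS g f).RepresentableBy W) := by
  obtain ⟨W, -, hW⟩ := representable_of_local_rep g f (⊤ : MorphismProperty Scheme.{u})
    (fun V' hV gV' => by
      haveI : IsAffine V'.left := hV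
      obtain ⟨hfin, hflat, hfp⟩ := hg
      have hgV : Mor2.IsFinLocFree (gV g V'.hom) := ⟨inferInstance, inferInstance, inferInstance⟩
      haveI : IsFinite (Over.mk (gV g V'.hom)).hom := hgV.1
      have huV : FlatMor.IsUnivHomeo (Over.mk (gV g V'.hom)).hom :=
        (MorphismProperty.universally_isStableUnderBaseChange _).of_isPullback
          (IsPullback.of_hasPullback V'.hom g).flip hu
      obtain ⟨WV, ⟨R⟩⟩ := representable_of_univHomeo_affine (E := Over.mk (gV g V'.hom))
        (Xt := Over.mk (fV f V'.hom)) hgV huV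
      obtain ⟨W, i, fst, h⟩ := local_rep_of_rep g f V' WV R gV'
      exact ⟨W, i, fst, h, trivial⟩)
  exact ⟨W, hW⟩

end Final

section PartB

variable {S S' : Scheme.{u}} (f : S' ⟶ S) (X' : Over S')

/-- `S'` as an `S`-scheme -/
noncomputable abbrev ES : Over S := Over.mk f

/-- `X'` as an `S`-scheme -/
noncomputable abbrev XS : Over S := Over.mk (X'.hom ≫ f)

/-- the structure morphism of `X'` as an `S`-morphism -/
noncomputable abbrev pX : XS f X' ⟶ ES f := Over.homMk X'.hom rfl

variable {f X'}

/-- an `S'`-morphism `T ×_S S' ⟶ X'` as an `S`-morphism -/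
noncomputable def phi {T : Over S} (β : Red.bc f T ⟶ X') : PT (ES f) T ⟶ XS f X' :=
  Over.homMk β.left (by
    change β.left ≫ X'.hom ≫ f = pullback.snd T.hom f ≫ f
    rw [← Category.assoc]
    congr 1
    exact Over.w β)

theorem phi_left {T : Over S} (β : Red.bc f T ⟶ X') : (phi β).left = β.left := rfl

theorem phi_injective {T : Over S} : Function.Injective (phi (f := f) (X' := X') (T := T)) := by
  intro β β' h
  apply Over.OverMorphism.ext
  exact congrArg (fun m => m.left) h

theorem phi_comp_pX {T : Over S} (β : Red.bc f T ⟶ X') : phi β ≫ pX f X' = p2 (ES f) T := by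
  apply Over.OverMorphism.ext
  change β.left ≫ X'.hom = pullback.snd T.hom f
  exact Over.w β

theorem exists_phi_eq {T : Over S} (b : PT (ES f) T ⟶ XS f X') (hb : b ≫ pX f X' = p2 (ES f) T) :
    ∃ β : Red.bc f T ⟶ X', phi β = b := by
  have h1 : b.left ≫ X'.hom = pullback.snd T.hom f := congrArg (fun m => m.left) hb
  exact ⟨Over.homMk b.left h1, Over.OverMorphism.ext rfl⟩

theorem phi_map {T' T : Over S} (t : T' ⟶ T) (β : Red.bc f T ⟶ X') :
    phi ((Over.pullback f).map t ≫ β) = PTmap (ES f) t ≫ phi β := by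
  apply Over.OverMorphism.ext
  rfl

variable (f X')

/-- **fibre product**: the Weil restriction functor is representable as soon as `Mor_S(S', X')` and
`Mor_S(S', S')` are. -/
theorem exists_representableBy_of_morS {M N : Over S}
    (RM : (Flatn.morS f (X'.hom ≫ f)).RepresentableBy M) (RN : (Flatn.morS f f).RepresentableBy N) :
    ∃ (R : Over S) (q : Red.bc f R ⟶ X'), WeilRes.IsWeilRes f X' R q := by
  -- the two maps into `N`
  let uM : PT (ES f) M ⟶ XS f X' := RM.homEquiv (𝟙 M)
  let π : M ⟶ N := RN.homEquiv.symm (uM ≫ pX f X' : PT (ES f) M ⟶ ES f)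
  let σ : SS S ⟶ N := RN.homEquiv.symm (p2 (ES f) (SS S))
  have hM : ∀ {T : Over S} (m : T ⟶ M), (RM.homEquiv m : PT (ES f) T ⟶ XS f X') =
      PTmap (ES f) m ≫ uM := by
    intro T m
    have := RM.homEquiv_comp m (𝟙 M)
    rw [Category.comp_id] at this
    exact this
  have hπ : ∀ {T : Over S} (m : T ⟶ M), (RN.homEquiv (m ≫ π) : PT (ES f) T ⟶ ES f) =
      (RM.homEquiv m : PT (ES f) T ⟶ XS f X') ≫ pX f X' := by
    intro T m
    have h1 := RN.homEquiv_comp m π
    have h2 : (RN.homEquiv π : PT (ES f) M ⟶ ES f) = uM ≫ pX f X' :=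
      RN.homEquiv.apply_symm_apply _
    rw [h1, h2, hM m, Category.assoc]
    rfl
  have hσ : ∀ (T : Over S), (RN.homEquiv (toSS T ≫ σ) : PT (ES f) T ⟶ ES f) = p2 (ES f) T := by
    intro T
    have h1 := RN.homEquiv_comp (toSS T) σ
    have h2 : (RN.homEquiv σ : PT (ES f) (SS S) ⟶ ES f) = p2 (ES f) (SS S) :=
      RN.homEquiv.apply_symm_apply _
    rw [h1, h2]
    exact PTmap_p2 (ES f) (toSS T)
  have hterm : ∀ {T : Over S} (s : T ⟶ SS S), s = toSS T := by
    intro T s
    apply Over.OverMorphism.ext
    have := Over.w s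
    simpa using this
  let R : Over S := pullback π σ
  have hfst : (RM.homEquiv (pullback.fst π σ) : PT (ES f) R ⟶ XS f X') ≫ pX f X' = p2 (ES f) R := by
    rw [← hπ, pullback.condition, hterm (pullback.snd π σ)]
    exact hσ R
  obtain ⟨q, hq⟩ := exists_phi_eq _ hfst
  refine ⟨R, q, fun T => ⟨?_, ?_⟩⟩
  · intro g₁ g₂ h
    have h' : phi (WeilRes.restr f q T g₁) = phi (WeilRes.restr f q T g₂) := congrArg phi h
    rw [WeilRes.restr, WeilRes.restr, phi_map, phi_map, hq] at h'
    have e1 : (RM.homEquiv (g₁ ≫ pullback.fst π σ) : PT (ES f) T ⟶ XS f X') =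
        RM.homEquiv (g₂ ≫ pullback.fst π σ) := by
      rw [RM.homEquiv_comp g₁, RM.homEquiv_comp g₂]
      exact h'
    apply pullback.hom_ext
    · exact RM.homEquiv.injective e1
    · rw [hterm (g₁ ≫ pullback.snd π σ), hterm (g₂ ≫ pullback.snd π σ)]
  · intro β
    let m : T ⟶ M := RM.homEquiv.symm (phi β)
    have hm : (RM.homEquiv m : PT (ES f) T ⟶ XS f X') = phi β := RM.homEquiv.apply_symm_apply _
    have hc : m ≫ π = toSS T ≫ σ := by
      apply RN.homEquiv.injective
      rw [hπ, hσ, hm, phi_comp_pX]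
    refine ⟨pullback.lift m (toSS T) hc, ?_⟩
    apply phi_injective
    rw [WeilRes.restr, phi_map, hq, ← hm]
    have := RM.homEquiv_comp (pullback.lift m (toSS T) hc) (pullback.fst π σ)
    rw [pullback.lift_fst] at this
    exact this.symm

end PartB

end Groth.Agent.R2.H63.WeilUH
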