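import Mathlib
import Groth.Agent.Lib.Helper14LocNoeth

/-!
# Connected components of the closed fibre over a complete base (helper64, PROJ:stein ST-7)

Topological assembly for `S13506`: `A` Noetherian, `I` in the Jacobson radical (e.g. `A` `I`-adically complete),
`f : X ⟶ Spec A` proper.  If every clopen decomposition of `f⁻¹ V(I)` is induced by a clopen subset of `X`
(the content of `Groth.Agent.R2.H64.SteinST0.exists_isClopen_of_complete`), then
`π₀(X ×_A Spec A/I) → π₀(X)` is bijective.
-/

set_option autoImplicit false
set_option linter.style.haveILetI false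
universe u

open CategoryTheory CategoryTheory.Limits AlgebraicGeometry Opposite TopologicalSpace

namespace Groth.Agent.R2.H64.SteinComplete

/-- A closed embedding `p : X₀ → X` induces a bijection on connected components as soon as every connected
component of `X` meets the image, connected components of `X₀` are open, and clopen decompositions of the image
are induced by clopen subsets of `X`. -/
theorem bijective_connectedComponentsMap {X₀ X : Type*} [TopologicalSpace X₀] [TopologicalSpace X]
    {p : X₀ → X} (hp : Topology.IsClosedEmbedding p)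
    (hmeet : ∀ x : X, ∃ x₀ : X₀, p x₀ ∈ connectedComponent x)
    (hopen : ∀ a : X₀, IsOpen (connectedComponent a))
    (H : ∀ U U' : Set X, IsClosed U → IsClosed U' → Disjoint U U' → U ∪ U' = Set.range p →
      ∃ C : Set X, IsClopen C ∧ U ⊆ C ∧ Disjoint U' C) :
    Function.Bijective (Continuous.connectedComponentsMap hp.continuous) := by
  constructor
  · intro a b hab
    obtain ⟨a, rfl⟩ := ConnectedComponents.surjective_coe a
    obtain ⟨b, rfl⟩ := ConnectedComponents.surjective_coe b
    have hab' : connectedComponent (p a) = connectedComponent (p b) :=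
      ConnectedComponents.coe_eq_coe.1 hab
    rw [ConnectedComponents.coe_eq_coe]
    by_contra hne
    let V : Set X₀ := connectedComponent a
    have hVclopen : IsClopen V := ⟨isClosed_connectedComponent, hopen a⟩
    have hb : b ∉ V := fun hb => hne (connectedComponent_eq hb)
    obtain ⟨C, hC, hUC, hU'C⟩ := H (p '' V) (p '' Vᶜ)
      (hp.isClosedMap _ hVclopen.1) (hp.isClosedMap _ hVclopen.compl.1)
      (by
        rw [Set.disjoint_image_iff hp.injective]
        exact disjoint_compl_right)
      (by rw [← Set.image_union, Set.union_compl_self, Set.image_univ])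
    have ha : p a ∈ C := hUC ⟨a, mem_connectedComponent, rfl⟩
    have hbC : p b ∉ C := fun h => Set.disjoint_left.1 hU'C ⟨b, hb, rfl⟩ h
    apply hbC
    have : connectedComponent (p a) ⊆ C := hC.connectedComponent_subset ha
    apply this
    rw [hab']
    exact mem_connectedComponent
  · intro c
    obtain ⟨x, rfl⟩ := ConnectedComponents.surjective_coe c
    obtain ⟨x₀, hx₀⟩ := hmeet x
    refine ⟨(x₀ : ConnectedComponents X₀), ?_⟩
    change ((p x₀ : X) : ConnectedComponents X) = x
    rw [ConnectedComponents.coe_eq_coe]
    exact (connectedComponent_eq hx₀).symm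

section

variable (A : Type u) [CommRing A] (I : Ideal A) {X : Scheme.{u}}
  (f : X ⟶ Spec (CommRingCat.of A))

theorem range_specMap_mk :
    Set.range (Spec.map (CommRingCat.ofHom (Ideal.Quotient.mk I))).base =
      PrimeSpectrum.zeroLocus (I : Set A) := by
  have h := _root_.range_comap_of_surjective (A ⧸ I) (Ideal.Quotient.mk I)
    Ideal.Quotient.mk_surjective
  rw [Ideal.mk_ker] at h
  exact h

theorem range_fst :
    Set.range (pullback.fst f (Spec.map (CommRingCat.ofHom (Ideal.Quotient.mk I)))).base =
      f.base ⁻¹' (PrimeSpectrum.zeroLocus (I : Set A)) := by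
  rw [Scheme.Pullback.range_fst, range_specMap_mk]

/-- every nonempty closed subset of `X`, for `f` closed and `I` in the Jacobson radical, meets `f⁻¹ V(I)` -/
theorem exists_mem_preimage_zeroLocus (hI : I ≤ (⊥ : Ideal A).jacobson)
    (hf : IsClosedMap f.base) (K : Set X) (hK : IsClosed K) (hne : K.Nonempty) :
    ∃ x ∈ K, f.base x ∈ PrimeSpectrum.zeroLocus (I : Set A) := by
  have hcl : IsClosed (f.base '' K) := hf K hK
  obtain ⟨J, hJ⟩ := (PrimeSpectrum.isClosed_iff_zeroLocus_ideal _).1 hcl
  have hJne : J ≠ ⊤ := by
    rintro rfl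
    rw [Submodule.top_coe, PrimeSpectrum.zeroLocus_univ] at hJ
    obtain ⟨x, hx⟩ := hne
    have : f.base x ∈ f.base '' K := ⟨x, hx, rfl⟩
    rw [hJ] at this
    exact this
  obtain ⟨m, hm, hJm⟩ := Ideal.exists_le_maximal J hJne
  have hmem : (⟨m, hm.isPrime⟩ : PrimeSpectrum A) ∈ f.base '' K := by
    rw [hJ]
    exact hJm
  obtain ⟨x, hxK, hx⟩ := hmem
  refine ⟨x, hxK, ?_⟩
  rw [hx]
  intro a ha
  have h1 : (⊥ : Ideal A).jacobson ≤ m := sInf_le ⟨bot_le, hm⟩
  exact h1 (hI ha)

/-- **Connected components of a proper scheme over a complete base** (assembly of S13506): if every decomposition of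
`f⁻¹ V(I)` into two disjoint closed subsets is induced by a clopen subset of `X`, then
`π₀(X ×_A A/I) → π₀(X)` is bijective. -/
theorem bijective_of_complete [IsNoetherianRing A] [IsProper f] (hI : I ≤ (⊥ : Ideal A).jacobson)
    (H : ∀ U U' : Set X, IsClosed U → IsClosed U' → Disjoint U U' →
      U ∪ U' = f.base ⁻¹' (PrimeSpectrum.zeroLocus (I : Set A)) →
      ∃ C : Set X, IsClopen C ∧ U ⊆ C ∧ Disjoint U' C) :
    Function.Bijective (Continuous.connectedComponentsMap
      (pullback.fst f (Spec.map (CommRingCat.ofHom (Ideal.Quotient.mk I)))).continuous) := by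
  haveI : IsClosedImmersion (Spec.map (CommRingCat.ofHom (Ideal.Quotient.mk I))) :=
    IsClosedImmersion.spec_of_surjective _ Ideal.Quotient.mk_surjective
  have hp : Topology.IsClosedEmbedding
      (pullback.fst f (Spec.map (CommRingCat.ofHom (Ideal.Quotient.mk I)))).base :=
    (pullback.fst f (Spec.map (CommRingCat.ofHom (Ideal.Quotient.mk I)))).isClosedEmbedding
  haveI : IsLocallyNoetherian X := LocallyOfFiniteType.isLocallyNoetherian f
  haveI : CompactSpace X := QuasiCompact.compactSpace_of_compactSpace f
  haveI : IsNoetherian X := {}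
  haveI : NoetherianSpace X := inferInstance
  haveI : NoetherianSpace
      (pullback f (Spec.map (CommRingCat.ofHom (Ideal.Quotient.mk I))) : Scheme.{u}) :=
    hp.isInducing.noetherianSpace
  refine bijective_connectedComponentsMap hp ?_
    (fun a => Groth.Agent.Lib.Helper14.isOpen_connectedComponent_of_noetherianSpace a) ?_
  · intro x
    obtain ⟨y, hyK, hy⟩ := exists_mem_preimage_zeroLocus A I f hI f.isClosedMap
      (connectedComponent x) isClosed_connectedComponent ⟨x, mem_connectedComponent⟩
    have hy' : y ∈ Set.range
        (pullback.fst f (Spec.map (CommRingCat.ofHom (Ideal.Quotient.mk I)))).base := by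
      rw [range_fst]
      exact hy
    obtain ⟨x₀, rfl⟩ := hy'
    exact ⟨x₀, hyK⟩
  · intro U U' hU hU' hd hUU'
    rw [range_fst] at hUU'
    exact H U U' hU hU' hd hUU'

end

end Groth.Agent.R2.H64.SteinComplete
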