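import Mathlib
import Groth.Agent.R2.H1AlgzSpec
import Groth.Agent.Lib.Helper23PB
import Groth.Agent.Lib.Helper23Serre
import Groth.Agent.Lib.Helper23FinTypeLocal
import Groth.Agent.R2.H28ProjPkg1
import Groth.Agent.R2.H5CohThick
import Groth.Agent.R2.H88ExistSec
import Groth.Agent.Lib.Helper18Ann2
import Groth.Agent.Lib.Helper18Epi1
import Groth.Agent.R2.H64SteinComplete
import Groth.Agent.R2.H60StabDim
import Groth.Agent.S9705
import Groth.Agent.Lib.Helper22IdealComap
import Groth.Agent.Lib.Helper23QCohAbelian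
import Groth.Agent.Lib.Helper23FinType

/-!
# PROJ:algz — package [CLSUB]: a formal closed subscheme of `P^N_A` is algebraizable (helper64)

`A` Noetherian and `I`-adically complete, `T : Sys I` an adic tower, `c n : T.Xs n ⟶ X` compatible closed
immersions into a scheme `X` proper over `A`.

* `unitSys T : T.Mod` — the structure-sheaf system `(O_{X_n})_n`; `unitSys_tr`.
* `unitPush_pushTrans` — `O_X ⟶ (c (n+1))_* O ⟶ (c n)_* O` is `O_X ⟶ (c n)_* O`.
* `compHom c hk : O_X^ ⟶ pushTower c (unitSys T)` — the comparison morphism of systems.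
* `isZero_of_isZero_modPow` — Nakayama: a coherent `D` on `X` (closed over `A`, `I ≤ rad A`) with `D = I D` is zero.
* `exists_closedSubscheme` — from a coherent `M` with `M^ ≅ (c n)_* O` and `φ : O_X ⟶ M` inducing the comparison
  morphism: the closed subscheme `W = V(Ann M)` algebraizes the tower.
* `pkgClSub_of` — `PkgClSub` from `PkgPF`, full faithfulness (S0060) and existence in the projective case (S0061).
-/

set_option autoImplicit false
set_option linter.style.haveILetI false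
set_option linter.unusedSectionVars false
universe u
open CategoryTheory CategoryTheory.Limits AlgebraicGeometry TopologicalSpace Opposite

namespace Groth.Agent.R2.H64.AlgzClSub

open Groth.Agent.R2.H1.TowerMod Groth.Agent.R2.H1.AlgzSpec Groth.Agent.Lib.Helper23.PB
  Groth.Agent.Lib.Helper23.Serre Groth.Agent.R2.H1.FibreKer Groth.Agent.Lib.Helper23.GenLocus

section UnitSys

variable {A : Type u} [CommRing A] {I : Ideal A}

/-- the structure-sheaf system on an adic tower -/
@[reducible] noncomputable def unitSys (T : Sys I) : T.Mod where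
  F k := Coh.structureModule (T.Xs k)
  ψ k := pullbackUnitIso (T.i k)
  hq k := isQuasicoherent_structureModule' (T.Xs k)

theorem unitSys_tr (T : Sys I) (k : ℕ) : (unitSys T).tr k = unitPush (T.i k) :=
  Groth.Agent.R2.H28.ProjPkg1.un_pullbackUnitHom (T.i k)

theorem unitPush_comp_congr {X Y Z : Scheme.{u}} (f : X ⟶ Y) (g : Y ⟶ Z) (h : X ⟶ Z) (e : f ≫ g = h) :
    unitPush g ≫ (Scheme.Modules.pushforward g).map (unitPush f) ≫
      (show (Scheme.Modules.pushforward g).obj ((Scheme.Modules.pushforward f).obj (Coh.structureModule X)) ⟶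
        (Scheme.Modules.pushforward (f ≫ g)).obj (Coh.structureModule X) from 𝟙 _) ≫
      (Scheme.Modules.pushforwardCongr e).hom.app (Coh.structureModule X) = unitPush h := by
  subst e
  apply Scheme.Modules.hom_ext
  intro V
  ext r
  change ((Coh.structureModule X).presheaf.map (eqToHom (rfl : (f ≫ g) ⁻¹ᵁ V = (f ≫ g) ⁻¹ᵁ V)).op)
    (toS _ ((f ≫ g).app V (ofS V r))) = toS _ ((f ≫ g).app V (ofS V r))
  rw [eqToHom_refl, op_id, CategoryTheory.Functor.map_id]
  rfl

theorem unitPush_pushTrans (T : Sys I) {X : Scheme.{u}} {f : X ⟶ Spec (CommRingCat.of A)}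
    (c : TowerMap T f) (n : ℕ) :
    unitPush (c.c (n + 1)) ≫ pushTrans c (unitSys T) n = unitPush (c.c n) := by
  unfold pushTrans
  rw [unitSys_tr]
  exact unitPush_comp_congr (T.i n) (c.c (n + 1)) (c.c n) (c.hc n)

end UnitSys

section Comparison

variable {A : Type u} [CommRing A] {I : Ideal A} {T : Sys I} {X : Scheme.{u}}
  [X.Over (Spec (CommRingCat.of A))] (c : TowerMap T (X ↘ Spec (CommRingCat.of A)))

/-- the components of the comparison morphism `O_X^ ⟶ ((c n)_* O)_n` -/
noncomputable def compApp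
    (hk : ∀ n, Formal.KilledBy (I ^ (n + 1))
      ((Scheme.Modules.pushforward (c.c n)).obj (Coh.structureModule (T.Xs n)))) (n : ℕ) :
    Formal.modPow I (n + 1) (Coh.structureModule X) ⟶
      (Scheme.Modules.pushforward (c.c n)).obj (Coh.structureModule (T.Xs n)) :=
  cokernel.desc _ (unitPush (c.c n)) (by
    rw [Groth.Agent.S9530.smulFamily_comp_eq_zero_iff]
    intro a ha
    rw [Groth.Agent.S9530.smulMod_comp, hk n a ha, comp_zero])

theorem π_compApp
    (hk : ∀ n, Formal.KilledBy (I ^ (n + 1))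
      ((Scheme.Modules.pushforward (c.c n)).obj (Coh.structureModule (T.Xs n)))) (n : ℕ) :
    Formal.modPowπ I (n + 1) (Coh.structureModule X) ≫ compApp c hk n = unitPush (c.c n) :=
  cokernel.π_desc _ _ _

instance epi_modPowπ (n : ℕ) (M : X.Modules) : Epi (Formal.modPowπ I n M) :=
  inferInstanceAs (Epi (cokernel.π _))

/-- the comparison morphism `O_X^ ⟶ ((c n)_* O)_n` -/
noncomputable def compHom
    (hk : ∀ n, Formal.KilledBy (I ^ (n + 1))
      ((Scheme.Modules.pushforward (c.c n)).obj (Coh.structureModule (T.Xs n)))) :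
    Formal.completion I (Coh.structureModule X) ⟶ pushTower c (unitSys T) :=
  NatTrans.ofOpSequence (F := Formal.completion I (Coh.structureModule X))
    (G := pushTower c (unitSys T)) (fun n => compApp c hk n) (by
    intro n
    have h1 : (Formal.completion I (Coh.structureModule X)).map (homOfLE (n.le_add_right 1)).op =
        Formal.modPowTrans I (n + 1) (Coh.structureModule X) :=
      Functor.ofOpSequence_map_homOfLE_succ _ n
    have h2 : (pushTower c (unitSys T)).map (homOfLE (n.le_add_right 1)).op =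
        pushTrans c (unitSys T) n := Functor.ofOpSequence_map_homOfLE_succ _ n
    rw [h1, h2]
    change Formal.modPowTrans I (n + 1) (Coh.structureModule X) ≫ compApp c hk n =
      compApp c hk (n + 1) ≫ pushTrans c (unitSys T) n
    rw [← cancel_epi (Formal.modPowπ I (n + 1 + 1) (Coh.structureModule X)), ← Category.assoc,
      Formal.modPowπ_trans, π_compApp, ← Category.assoc, π_compApp, unitPush_pushTrans])

/-- `O_X ⟶ (c n)_* O`, typed as a morphism to the `n`-th term of the pushed-forward tower -/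
noncomputable def uPush (n : ℕ) : Coh.structureModule X ⟶ (pushTower c (unitSys T)).obj (op n) :=
  unitPush (c.c n)

theorem epi_uPush (n : ℕ) [IsClosedImmersion (c.c n)] : Epi (uPush c n) := epi_unitPush (c.c n)

theorem π_compHom
    (hk : ∀ n, Formal.KilledBy (I ^ (n + 1))
      ((Scheme.Modules.pushforward (c.c n)).obj (Coh.structureModule (T.Xs n)))) (n : ℕ) :
    Formal.modPowπ I (n + 1) (Coh.structureModule X) ≫ (compHom c hk).app (op n) = uPush c n :=
  π_compApp c hk n

end Comparison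

section Nakayama

variable {A : Type u} [CommRing A] {X : Scheme.{u}} [X.Over (Spec (CommRingCat.of A))]

open Groth.Agent.R2.H88.ExistSec

/-- the two descriptions of the structure map `A → Γ(X, V)` agree -/
theorem toSec_eq_ρ (V : X.Opens) : toSec A V = (ρ (X ↘ Spec (CommRingCat.of A)) V).hom :=
  RingHom.ext fun _ => rfl

/-- a point over `V(I)` is not in the basic open of a function coming from `I` -/
theorem notMem_basicOpen_toSec (I : Ideal A) (x : X)
    (hx : (X ↘ Spec (CommRingCat.of A)).base x ∈ PrimeSpectrum.zeroLocus (I : Set A))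
    (V : X.Opens) (a : A) (ha : a ∈ I) : x ∉ X.basicOpen (toSec A V a) := by
  intro h
  have h1 : X.basicOpen (toSec A V a) = V ⊓ X.basicOpen
      ((X ↘ Spec (CommRingCat.of A)).appTop ((Scheme.ΓSpecIso (CommRingCat.of A)).inv a)) :=
    Scheme.basicOpen_res X _ (homOfLE (le_top : V ≤ ⊤)).op
  rw [h1] at h
  have h2 := h.2
  rw [← Scheme.preimage_basicOpen_top, basicOpen_eq_of_affine] at h2
  exact h2 (hx ha)

/-- **Nakayama**: a coherent module `D` with `D = I D` on a scheme closed over `Spec A`, `I ≤ rad A`, is zero. -/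
theorem isZero_of_isZero_modPow [IsNoetherianRing A] (I : Ideal A) (hI : I ≤ Ideal.jacobson ⊥)
    (hf : IsClosedMap (X ↘ Spec (CommRingCat.of A)).base) (D : X.Modules) (hD : Coh.IsCoh D)
    (h : IsZero (Formal.modPow I 1 D)) : IsZero D := by
  haveI := hD.1
  obtain ⟨J, hJ, -, -, hsupp⟩ := Groth.Agent.Helper18Ann.main_S9377 D hD.2
  rw [← Groth.Agent.R2.H60.StabDim.support_eq_empty_iff]
  by_contra hne
  have hne' : (J.support : Set X).Nonempty := by
    rw [hsupp]
    exact Set.nonempty_iff_ne_empty.2 hne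
  obtain ⟨x, hxJ, hx⟩ := Groth.Agent.R2.H64.SteinComplete.exists_mem_preimage_zeroLocus A I
    (X ↘ Spec (CommRingCat.of A)) hI hf _ J.support.isClosed hne'
  obtain ⟨V, hV, hxV, -⟩ := exists_isAffineOpen_mem_and_subset (x := x) (U := ⊤) trivial
  haveI : Module.Finite Γ(X, V) Γ(D, V) :=
    Groth.Agent.Helper18FittSh.finite_sections D hD.2 ⟨V, hV⟩
  have hle : (⊤ : Submodule Γ(X, V) Γ(D, V)) ≤ (I.map (toSec A V)) • ⊤ := by
    intro m _
    have h0 : (Formal.modPowπ I 1 D).app V m = 0 := by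
      have h00 : Formal.modPowπ I 1 D = 0 := h.eq_of_tgt _ _
      rw [h00]
      rfl
    have h01 := (modPowπ_app_eq_zero_iff I 1 D hV m).1 h0
    rwa [pow_one] at h01
  obtain ⟨r, hr1, hr0⟩ := Submodule.exists_sub_one_mem_and_smul_eq_zero_of_fg_of_le_smul
    (I.map (toSec A V)) ⊤ (Module.finite_def.1 inferInstance) hle
  have hrJ : r ∈ J.ideal ⟨V, hV⟩ := by
    rw [hJ]
    exact Module.mem_annihilator.2 (fun m => hr0 m trivial)
  have hx0 : x ∈ X.zeroLocus (U := V) (J.ideal ⟨V, hV⟩) :=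
    (Scheme.IdealSheafData.mem_support_iff_of_mem (U := ⟨V, hV⟩) hxV).1 hxJ
  rw [Scheme.mem_zeroLocus_iff] at hx0
  apply hx0 r hrJ
  rw [Groth.Agent.Lib.Helper2.mem_basicOpen_iff_notMem_primeIdealOf hV x hxV r]
  intro hrp
  have hIp : I.map (toSec A V) ≤ (hV.primeIdealOf ⟨x, hxV⟩).asIdeal := by
    rw [Ideal.map_le_iff_le_comap]
    intro a ha
    rw [Ideal.mem_comap]
    by_contra hn
    exact notMem_basicOpen_toSec I x hx V a ha
      ((Groth.Agent.Lib.Helper2.mem_basicOpen_iff_notMem_primeIdealOf hV x hxV _).2 hn)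
  have h1 : (1 : Γ(X, V)) ∈ (hV.primeIdealOf ⟨x, hxV⟩).asIdeal := by
    have h2 := (hV.primeIdealOf ⟨x, hxV⟩).asIdeal.sub_mem hrp (hIp hr1)
    rwa [sub_sub_cancel] at h2
  exact (hV.primeIdealOf ⟨x, hxV⟩).isPrime.ne_top
    ((Ideal.eq_top_iff_one _).2 h1)

/-- if `φ ≫ (M ⟶ M/IM)` is an epimorphism, then so is `φ` (`M` coherent, `X` closed over `A`, `I ≤ rad A`). -/
theorem epi_of_epi_comp_modPowπ [IsNoetherianRing A] (I : Ideal A) (hI : I ≤ Ideal.jacobson ⊥)
    (hf : IsClosedMap (X ↘ Spec (CommRingCat.of A)).base) {F M : X.Modules} (φ : F ⟶ M)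
    (hD : Coh.IsCoh (cokernel φ)) (h : Epi (φ ≫ Formal.modPowπ I 1 M)) : Epi φ := by
  -- the induced map `M/IM ⟶ D/ID`, `D = coker φ`
  have h0 : Formal.smulFamily (I ^ 1) M ≫ cokernel.π φ ≫ Formal.modPowπ I 1 (cokernel φ) = 0 := by
    rw [Groth.Agent.S9530.smulFamily_comp_eq_zero_iff]
    intro a ha
    rw [← Category.assoc, Groth.Agent.S9530.smulMod_comp, Category.assoc]
    have h1 : Formal.smulMod A (cokernel φ) a ≫ Formal.modPowπ I 1 (cokernel φ) = 0 :=
      (Groth.Agent.S9530.smulFamily_comp_eq_zero_iff (Formal.modPowπ I 1 (cokernel φ))).1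
        (cokernel.condition _) a ha
    rw [h1, comp_zero]
  let ψ : Formal.modPow I 1 M ⟶ Formal.modPow I 1 (cokernel φ) := cokernel.desc _ _ h0
  have hψ : Formal.modPowπ I 1 M ≫ ψ = cokernel.π φ ≫ Formal.modPowπ I 1 (cokernel φ) :=
    cokernel.π_desc _ _ _
  have hψ0 : ψ = 0 := by
    rw [← cancel_epi (φ ≫ Formal.modPowπ I 1 M), Category.assoc, hψ, cokernel.condition_assoc,
      zero_comp, comp_zero]
  have hz : IsZero (Formal.modPow I 1 (cokernel φ)) := by
    rw [IsZero.iff_id_eq_zero, ← cancel_epi (Formal.modPowπ I 1 (cokernel φ)),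
      ← cancel_epi (cokernel.π φ), ← Category.assoc, ← hψ, hψ0]
    simp
  have hD0 : IsZero (cokernel φ) := isZero_of_isZero_modPow I hI hf _ hD hz
  exact Preadditive.epi_of_isZero_cokernel φ hD0

end Nakayama

section Algebra

/-- for a cyclic module `N = R m₀`: `r m₀ ∈ 𝔞 N ↔ r ∈ Ann N + 𝔞` -/
theorem smul_mem_smul_top_iff {R N : Type*} [CommRing R] [AddCommGroup N] [Module R N] (m₀ : N)
    (hgen : ∀ m : N, ∃ r : R, r • m₀ = m) (𝔞 : Ideal R) (r : R) :
    r • m₀ ∈ 𝔞 • (⊤ : Submodule R N) ↔ r ∈ Module.annihilator R N ⊔ 𝔞 := by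
  constructor
  · intro h
    have key : ∀ x ∈ 𝔞 • (⊤ : Submodule R N), ∃ a ∈ 𝔞, a • m₀ = x := by
      intro x hx
      refine Submodule.smul_induction_on hx (fun a ha m _ => ?_) (fun x y hx hy => ?_)
      · obtain ⟨s, rfl⟩ := hgen m
        exact ⟨a * s, 𝔞.mul_mem_right s ha, by rw [mul_smul]⟩
      · obtain ⟨a, ha, rfl⟩ := hx
        obtain ⟨b, hb, rfl⟩ := hy
        exact ⟨a + b, 𝔞.add_mem ha hb, add_smul a b m₀⟩
    obtain ⟨a, ha, hra⟩ := key _ h
    have hann : r - a ∈ Module.annihilator R N := by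
      rw [Module.mem_annihilator]
      intro m
      obtain ⟨s, rfl⟩ := hgen m
      rw [smul_comm, sub_smul, hra, sub_self, smul_zero]
    rw [Submodule.mem_sup]
    exact ⟨r - a, hann, a, ha, sub_add_cancel r a⟩
  · intro h
    rw [Submodule.mem_sup] at h
    obtain ⟨b, hb, a, ha, rfl⟩ := h
    rw [add_smul, Module.mem_annihilator.1 hb m₀, zero_add]
    exact Submodule.smul_mem_smul ha Submodule.mem_top

end Algebra

section Ideals

variable {A : Type u} [CommRing A]

/-- the ideal of `Spec (A/J) ⊆ Spec A` on global sections -/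
theorem ker_specMap_mk_ideal_top (J : Ideal A) :
    (Spec.map (CommRingCat.ofHom (Ideal.Quotient.mk J))).ker.ideal
        ⟨⊤, isAffineOpen_top (Spec (CommRingCat.of A))⟩ =
      Ideal.map (Scheme.ΓSpecIso (CommRingCat.of A)).inv.hom J := by
  rw [Scheme.Hom.ker_apply]
  have h := Scheme.ΓSpecIso_naturality (CommRingCat.ofHom (Ideal.Quotient.mk J))
  have hinj : Function.Injective (Scheme.ΓSpecIso (CommRingCat.of (A ⧸ J))).hom.hom :=
    (ConcreteCategory.bijective_of_isIso (Scheme.ΓSpecIso (CommRingCat.of (A ⧸ J))).hom).1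
  have key : ∀ r, (Scheme.ΓSpecIso (CommRingCat.of (A ⧸ J))).hom.hom
      (((Spec.map (CommRingCat.ofHom (Ideal.Quotient.mk J))).app ⊤).hom r) =
      Ideal.Quotient.mk J ((Scheme.ΓSpecIso (CommRingCat.of A)).hom.hom r) := fun r =>
    congrArg (fun g => g.hom r) h
  apply le_antisymm
  · intro r hr
    rw [RingHom.mem_ker] at hr
    have h1 : Ideal.Quotient.mk J ((Scheme.ΓSpecIso (CommRingCat.of A)).hom.hom r) = 0 := by
      rw [← key r, hr]
      exact map_zero _
    have h2 : (Scheme.ΓSpecIso (CommRingCat.of A)).hom.hom r ∈ J :=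
      Ideal.Quotient.eq_zero_iff_mem.1 h1
    have h3 := Ideal.mem_map_of_mem (Scheme.ΓSpecIso (CommRingCat.of A)).inv.hom h2
    have h4 : (Scheme.ΓSpecIso (CommRingCat.of A)).inv.hom
        ((Scheme.ΓSpecIso (CommRingCat.of A)).hom.hom r) = r :=
      congrArg (fun g => g.hom r) (Scheme.ΓSpecIso (CommRingCat.of A)).hom_inv_id
    rwa [h4] at h3
  · rw [Ideal.map_le_iff_le_comap]
    intro a ha
    rw [Ideal.mem_comap, RingHom.mem_ker]
    apply hinj
    have h4 : (Scheme.ΓSpecIso (CommRingCat.of A)).hom.hom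
        ((Scheme.ΓSpecIso (CommRingCat.of A)).inv.hom a) = a :=
      congrArg (fun g => g.hom a) (Scheme.ΓSpecIso (CommRingCat.of A)).inv_hom_id
    rw [key, h4, Ideal.Quotient.eq_zero_iff_mem.2 ha]
    exact (map_zero _).symm

/-- the pullback of the ideal of `Spec (A/J)` is `J O_W` -/
theorem comap_ker_specMap_mk_ideal {W : Scheme.{u}} (g : W ⟶ Spec (CommRingCat.of A)) (J : Ideal A)
    (U : W.affineOpens) :
    ((Spec.map (CommRingCat.ofHom (Ideal.Quotient.mk J))).ker.comap g).ideal U =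
      Ideal.map (ρ g U.1).hom J := by
  rw [Groth.Agent.Lib.Helper22.IdealComap.ideal_comap_eq_map g _ U
    ⟨⊤, isAffineOpen_top (Spec (CommRingCat.of A))⟩ le_top, ker_specMap_mk_ideal_top, Ideal.map_map]
  rfl

/-- the kernel of `w^♯` over `ι⁻¹ V` is the image of the kernel of `(w ≫ ι)^♯` over `V` -/
theorem ker_app_of_comp {Y W X : Scheme.{u}} (w : Y ⟶ W) (ι : W ⟶ X) [IsClosedImmersion ι]
    {V : X.Opens} (hV : IsAffineOpen V) :
    RingHom.ker (w.app (ι ⁻¹ᵁ V)).hom =
      Ideal.map (ι.app V).hom (RingHom.ker ((w ≫ ι).app V).hom) := by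
  have h1 : (w ≫ ι).app V = ι.app V ≫ w.app (ι ⁻¹ᵁ V) := Scheme.Hom.comp_app w ι V
  have h2 : ∀ r : Γ(X, V), ((w ≫ ι).app V).hom r = (w.app (ι ⁻¹ᵁ V)).hom ((ι.app V).hom r) :=
    fun r => congrArg (fun g => g.hom r) h1
  apply le_antisymm
  · intro s hs
    obtain ⟨r, rfl⟩ := ι.app_surjective V hV s
    refine Ideal.mem_map_of_mem _ ?_
    rw [RingHom.mem_ker, h2]
    exact hs
  · rw [Ideal.map_le_iff_le_comap]
    intro r hr
    rw [RingHom.mem_ker, h2] at hr
    exact hr

/-- criterion for a closed subscheme `Y ⊆ W ⊆ X` to be the base change of `Spec (A/J)` -/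
theorem comap_ker_eq_ker {Y W X : Scheme.{u}} (w : Y ⟶ W) (ι : W ⟶ X) [IsClosedImmersion ι]
    [IsClosedImmersion w] (f : X ⟶ Spec (CommRingCat.of A)) (J : Ideal A)
    (h : ∀ V : X.affineOpens, (w ≫ ι).ker.ideal V = ι.ker.ideal V ⊔ Ideal.map (ρ f V.1).hom J) :
    (Spec.map (CommRingCat.ofHom (Ideal.Quotient.mk J))).ker.comap (ι ≫ f) = w.ker := by
  refine Scheme.IdealSheafData.ext_of_iSup_eq_top
    (fun V : X.affineOpens => (⟨ι ⁻¹ᵁ V.1, V.2.preimage ι⟩ : W.affineOpens)) ?_ (fun V => ?_)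
  · have h0 := iSup_affineOpens_eq_top X
    have h1 : ι ⁻¹ᵁ (⨆ V : X.affineOpens, (V : X.Opens)) = ⨆ V : X.affineOpens, ι ⁻¹ᵁ (V : X.Opens) :=
      Scheme.Hom.preimage_iSup ι _
    rw [h0] at h1
    exact h1.symm
  · rw [comap_ker_specMap_mk_ideal, Scheme.Hom.ker_apply]
    change _ = RingHom.ker (w.app (ι ⁻¹ᵁ V.1)).hom
    rw [ker_app_of_comp w ι V.2, ← Scheme.Hom.ker_apply (w ≫ ι) V, h V, Ideal.map_sup,
      Scheme.Hom.ker_apply ι V, (Ideal.map_eq_bot_iff_le_ker _).2 le_rfl, bot_sup_eq, Ideal.map_map]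
    congr 1
    ext a
    exact (Groth.Agent.R2.H1.Tower.ρ_comp ι f V.1 a).symm

end Ideals

section Main

open Groth.Agent.R2.H88.ExistSec Groth.Agent.Lib.Helper23.GenLocus

variable {A : Type u} [CommRing A] [IsNoetherianRing A] {I : Ideal A} {T : Sys I} {X : Scheme.{u}}
  [X.Over (Spec (CommRingCat.of A))] (c : TowerMap T (X ↘ Spec (CommRingCat.of A)))
  (M : X.Modules) [M.IsQuasicoherent] (eM : Formal.completion I M ≅ pushTower c (unitSys T))
  (φ : Coh.structureModule X ⟶ M) [Epi φ]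
  (hφ : ∀ n, uPush c n = φ ≫ Formal.modPowπ I (n + 1) M ≫ eM.hom.app (op n))

include hφ in
/-- the ideal of `X_n` in `X` over an affine open: `Ann M + I^(n+1) O_X` -/
theorem app_eq_zero_iff (n : ℕ) {V : X.Opens} (hV : IsAffineOpen V) (r : Γ(X, V)) :
    (c.c n).app V r = 0 ↔
      r ∈ Module.annihilator Γ(X, V) Γ(M, V) ⊔
        Ideal.map (ρ (X ↘ Spec (CommRingCat.of A)) V).hom (I ^ (n + 1)) := by
  have hiso : Function.Injective ((eM.hom.app (op n)).app V) := by
    intro a b hab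
    have h1 := congrArg ((eM.inv.app (op n)).app V) hab
    have h2 : ∀ x, (eM.inv.app (op n)).app V ((eM.hom.app (op n)).app V x) = x := by
      intro x
      have h3 : eM.hom.app (op n) ≫ eM.inv.app (op n) = 𝟙 _ := by
        rw [← NatTrans.comp_app, eM.hom_inv_id, NatTrans.id_app]
      exact congrArg (fun ψ : (Formal.completion I M).obj (op n) ⟶ _ => ψ.app V x) h3
    rwa [h2, h2] at h1
  set m₀ : Γ(M, V) := φ.app V (toS V 1) with hm₀
  have h2 : ∀ s : Γ(X, V), φ.app V (toS V s) = s • m₀ := by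
    intro s
    rw [hm₀, ← Scheme.Modules.Hom.app_smul, smul_toS, mul_one]
  have hgen : ∀ m : Γ(M, V), ∃ s : Γ(X, V), s • m₀ = m := by
    intro m
    haveI := isQuasicoherent_structureModule' X
    obtain ⟨s, hs⟩ := Groth.Agent.Lib.Helper23.FinType.surjective_app_of_epi φ hV m
    exact ⟨ofS V s, by rw [← h2, toS_ofS, hs]⟩
  rw [← smul_mem_smul_top_iff m₀ hgen, Ideal.map_pow, ← toSec_eq_ρ,
    ← modPowπ_app_eq_zero_iff I (n + 1) M hV, ← h2]
  have h3 : toS (c.c n ⁻¹ᵁ V) ((c.c n).app V r) =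
      (eM.hom.app (op n)).app V ((Formal.modPowπ I (n + 1) M).app V (φ.app V (toS V r))) := by
    have h4 : (uPush c n).app V (toS V r) = toS (c.c n ⁻¹ᵁ V) ((c.c n).app V r) := rfl
    rw [← h4, hφ n]
    rfl
  constructor
  · intro h
    apply hiso
    rw [← h3, h]
    exact (map_zero ((eM.hom.app (op n)).app V).hom).symm
  · intro h
    rw [h] at h3
    have h4 : toS (c.c n ⁻¹ᵁ V) ((c.c n).app V r) = 0 :=
      h3.trans (map_zero ((eM.hom.app (op n)).app V).hom)
    exact h4

include hφ in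
theorem ker_ideal_eq (hc : ∀ n, IsClosedImmersion (c.c n)) (n : ℕ) (V : X.affineOpens) :
    (c.c n).ker.ideal V = Module.annihilator Γ(X, V.1) Γ(M, V.1) ⊔
      Ideal.map (ρ (X ↘ Spec (CommRingCat.of A)) V.1).hom (I ^ (n + 1)) := by
  haveI := hc n
  rw [Scheme.Hom.ker_apply]
  ext r
  rw [RingHom.mem_ker]
  exact app_eq_zero_iff c M eM φ hφ n V.2 r

include hφ in
/-- **algebraization of a formal closed subscheme**, given a coherent `M` algebraizing `((c n)_* O)_n` and
`φ : O_X ⟶ M` inducing the comparison morphism. -/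
theorem exists_closedSubscheme (hc : ∀ n, IsClosedImmersion (c.c n)) (hM : Coh.IsCoh M) :
    ∃ (W : Scheme.{u}) (ι : W ⟶ X) (w : ∀ n, T.Xs n ⟶ W), IsClosedImmersion ι ∧
      (∀ n, w n ≫ ι = c.c n) ∧
      ∀ n, IsPullback (w n) (T.p n) (ι ≫ (X ↘ Spec (CommRingCat.of A))) (CohB1.specQuot I n) := by
  have hfin := Groth.Agent.Helper18FittSh.finite_sections M hM.2
  let 𝒥 : X.IdealSheafData := Groth.Agent.Helper18Ann.annSheaf M hfin
  have hker : ∀ n (V : X.affineOpens), (c.c n).ker.ideal V =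
      𝒥.ideal V ⊔ Ideal.map (ρ (X ↘ Spec (CommRingCat.of A)) V.1).hom (I ^ (n + 1)) :=
    fun n V => ker_ideal_eq c M eM φ hφ hc n V
  have hle : ∀ n, 𝒥.subschemeι.ker ≤ (c.c n).ker := by
    intro n
    rw [Scheme.IdealSheafData.ker_subschemeι, Scheme.IdealSheafData.le_def]
    intro V
    rw [hker]
    exact le_sup_left
  let w : ∀ n, T.Xs n ⟶ 𝒥.subscheme := fun n =>
    IsClosedImmersion.lift 𝒥.subschemeι (c.c n) (hle n)
  have hw : ∀ n, w n ≫ 𝒥.subschemeι = c.c n := fun n => IsClosedImmersion.lift_fac _ _ _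
  refine ⟨𝒥.subscheme, 𝒥.subschemeι, w, inferInstance, hw, fun n => ?_⟩
  haveI : IsClosedImmersion (w n ≫ 𝒥.subschemeι) := by
    rw [hw]
    exact hc n
  haveI : IsClosedImmersion (w n) := IsClosedImmersion.of_comp_isClosedImmersion (w n) 𝒥.subschemeι
  haveI : IsClosedImmersion (CohB1.specQuot I n) :=
    IsClosedImmersion.spec_of_surjective _ Ideal.Quotient.mk_surjective
  refine isPullback_of_isClosedImmersion _ _ _ _ ?_ ?_
  · rw [← Category.assoc, hw, c.hq]
    rfl
  · refine comap_ker_eq_ker (w n) 𝒥.subschemeι (X ↘ Spec (CommRingCat.of A)) (I ^ (n + 1))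
      (fun V => ?_)
    rw [hw, hker, Scheme.IdealSheafData.ker_subschemeι]

end Main

section Package

open Groth.Agent.R2.H5.CohThick

/-- **algebraization of a formal closed subscheme** of a proper `A`-scheme `X` on which coherent formal modules
are algebraizable, from `PkgPF` and full faithfulness of completion (S0060). -/
theorem exists_closedSubscheme_of (hPF : PkgPF.{u})
    (hFF : ∀ (A : Type u) [CommRing A] [IsNoetherianRing A] (I : Ideal A) [IsAdicComplete I A]
      (X : Scheme.{u}) [X.Over (Spec (CommRingCat.of A))]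
      [IsProper (X ↘ Spec (CommRingCat.of A))] (M N : X.Modules) (_ : Coh.IsCoh M) (_ : Coh.IsCoh N)
      (τ : Formal.completion I M ⟶ Formal.completion I N),
      ∃! φ : M ⟶ N, ∀ n : ℕ,
        Formal.modPowπ I (n + 1) M ≫ τ.app (op n) = φ ≫ Formal.modPowπ I (n + 1) N)
    (A : Type u) [CommRing A] [IsNoetherianRing A] (I : Ideal A) [IsAdicComplete I A]
    (X : Scheme.{u}) [X.Over (Spec (CommRingCat.of A))] [IsProper (X ↘ Spec (CommRingCat.of A))]
    (hex : ∀ (G : ℕᵒᵖ ⥤ X.Modules), Formal.IsCohFormal I G →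
      ∃ M : X.Modules, Coh.IsCoh M ∧ Nonempty (Formal.completion I M ≅ G))
    (T : Sys I) (c : TowerMap T (X ↘ Spec (CommRingCat.of A))) (hc : ∀ n, IsClosedImmersion (c.c n)) :
    ∃ (W : Scheme.{u}) (ι : W ⟶ X) (w : ∀ n, T.Xs n ⟶ W), IsClosedImmersion ι ∧
      (∀ n, w n ≫ ι = c.c n) ∧
      ∀ n, IsPullback (w n) (T.p n) (ι ≫ (X ↘ Spec (CommRingCat.of A))) (CohB1.specQuot I n) := by
  haveI : IsLocallyNoetherian X :=
    LocallyOfFiniteType.isLocallyNoetherian (X ↘ Spec (CommRingCat.of A))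
  have hcoh : ∀ n, Coh.IsCoh ((unitSys T).F n) := fun n => isCoh_structureModule (T.Xs n)
  have hG : Formal.IsCohFormal I (pushTower c (unitSys T)) := hPF A I T X c hc (unitSys T) hcoh
  obtain ⟨M, hM, ⟨eM⟩⟩ := hex _ hG
  have hO : Coh.IsCoh (Coh.structureModule X) := isCoh_structureModule _
  obtain ⟨φ, hφ, -⟩ := hFF A I X _ M hO hM (compHom c hG.2.1 ≫ eM.inv)
  have hφ0 : ∀ n, uPush c n ≫ eM.inv.app (op n) = φ ≫ Formal.modPowπ I (n + 1) M := by
    intro n
    have h : Formal.modPowπ I (n + 1) (Coh.structureModule X) ≫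
        ((compHom c hG.2.1).app (op n) ≫ eM.inv.app (op n)) = φ ≫ Formal.modPowπ I (n + 1) M := hφ n
    have e := π_compHom c hG.2.1 n
    exact (congrArg (fun t => t ≫ eM.inv.app (op n)) e).symm.trans
      ((Category.assoc _ _ _).trans h)
  have hφ' : ∀ n, uPush c n = φ ≫ Formal.modPowπ I (n + 1) M ≫ eM.hom.app (op n) := by
    intro n
    have e1 : eM.inv.app (op n) ≫ eM.hom.app (op n) = 𝟙 _ := by
      rw [← NatTrans.comp_app, eM.inv_hom_id, NatTrans.id_app]
    have e2 : uPush c n = (uPush c n ≫ eM.inv.app (op n)) ≫ eM.hom.app (op n) := by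
      rw [Category.assoc, e1, Category.comp_id]
    exact e2.trans ((congrArg (fun t => t ≫ eM.hom.app (op n)) (hφ0 n)).trans
      (Category.assoc _ _ _))
  haveI := hM.1
  haveI := hO.1
  haveI : Epi φ := by
    refine epi_of_epi_comp_modPowπ I (IsAdicComplete.le_jacobson_bot I)
      (X ↘ Spec (CommRingCat.of A)).isClosedMap φ ?_ ?_
    · haveI := hM.2
      haveI : (cokernel φ).IsQuasicoherent :=
        Groth.Agent.Lib.Helper23.QCohLocal.isQuasicoherent_cokernel φ
      exact ⟨inferInstance, Groth.Agent.Lib.Helper23.FinType.isFiniteType_of_epi (cokernel.π φ)⟩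
    · haveI := hc 0
      haveI : Epi (uPush c 0) := epi_uPush c 0
      have h : Epi (uPush c 0 ≫ eM.inv.app (op 0)) := inferInstance
      rw [hφ0 0] at h
      exact h
  exact exists_closedSubscheme c M eM φ hφ' hc hM

/-- **[CLSUB]** from `PkgPF`, full faithfulness of completion (S0060) and existence in the projective case
(S0061). -/
theorem pkgClSub_of (hPF : PkgPF.{u})
    (hFF : ∀ (A : Type u) [CommRing A] [IsNoetherianRing A] (I : Ideal A) [IsAdicComplete I A]
      (X : Scheme.{u}) [X.Over (Spec (CommRingCat.of A))]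
      [IsProper (X ↘ Spec (CommRingCat.of A))] (M N : X.Modules) (_ : Coh.IsCoh M) (_ : Coh.IsCoh N)
      (τ : Formal.completion I M ⟶ Formal.completion I N),
      ∃! φ : M ⟶ N, ∀ n : ℕ,
        Formal.modPowπ I (n + 1) M ≫ τ.app (op n) = φ ≫ Formal.modPowπ I (n + 1) N)
    (hES : ∀ (A : Type u) [CommRing A] [IsNoetherianRing A] (I : Ideal A) [IsAdicComplete I A] (n : ℕ)
      (X : Scheme.{u}) [X.Over (Spec (CommRingCat.of A))] (i : X ⟶ CohB1.ProjSpace n A)
      [IsClosedImmersion i] (_ : i ≫ CohB1.ProjSpace.toSpec n A = X ↘ Spec (CommRingCat.of A))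
      (G : ℕᵒᵖ ⥤ X.Modules) (_ : Formal.IsCohFormal I G),
      ∃ M : X.Modules, Coh.IsCoh M ∧ Nonempty (Formal.completion I M ≅ G)) :
    PkgClSub.{u} := by
  intro A _ _ I _ T N c hc
  letI : (CohB1.ProjSpace N A).Over (Spec (CommRingCat.of A)) := ⟨CohB1.ProjSpace.toSpec N A⟩
  haveI hP : IsProper ((CohB1.ProjSpace N A) ↘ Spec (CommRingCat.of A)) :=
    Groth.Agent.S9705.isProper_projSpace_toSpec N A
  exact exists_closedSubscheme_of hPF hFF A I (CohB1.ProjSpace N A)
    (fun G hG => hES A I N (CohB1.ProjSpace N A) (𝟙 _) (Category.id_comp _) G hG) T c hc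

end Package

end Groth.Agent.R2.H64.AlgzClSub
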