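import Mathlib

set_option autoImplicit false
universe u

namespace Groth.Agent.R2.H64.ArSing

variable (k : Type u) [Field k]

section EvenOdd

open PowerSeries

/-- `a(t) ↦ a(t^2)`. -/
noncomputable abbrev E2 : PowerSeries k →ₐ[k] PowerSeries k := PowerSeries.expand 2 two_ne_zero

variable {k}

/-- The even part of a power series, as a series in `t^2`. -/
noncomputable def evenPart (a : PowerSeries k) : PowerSeries k := mk fun n => coeff (2 * n) a

/-- The odd part of a power series divided by `t`, as a series in `t^2`. -/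
noncomputable def oddPart (a : PowerSeries k) : PowerSeries k := mk fun n => coeff (2 * n + 1) a

lemma coeff_E2_add_X_E2 (p q : PowerSeries k) (n : ℕ) :
    coeff n (E2 k p + X * E2 k q) = if Even n then coeff (n / 2) p else coeff (n / 2) q := by
  rw [map_add]
  rcases Nat.even_or_odd' n with ⟨m, rfl | rfl⟩
  · rw [if_pos (by simp), coeff_expand_mul, Nat.mul_div_cancel_left _ two_pos]
    rcases m with _ | m
    · simp
    · rw [show 2 * (m + 1) = (2 * m + 1) + 1 by ring, coeff_succ_X_mul,
        coeff_expand_of_not_dvd _ _ _ (by omega)]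
      simp
  · rw [if_neg (by simp), coeff_succ_X_mul, coeff_expand_mul,
      coeff_expand_of_not_dvd _ _ _ (by omega)]
    rw [show (2 * m + 1) / 2 = m by omega]
    simp

lemma even_add_odd (a : PowerSeries k) : a = E2 k (evenPart a) + X * E2 k (oddPart a) := by
  ext n
  rw [coeff_E2_add_X_E2]
  rcases Nat.even_or_odd' n with ⟨m, rfl | rfl⟩
  · rw [if_pos (by simp), evenPart, coeff_mk, Nat.mul_div_cancel_left _ two_pos]
  · rw [if_neg (by simp), oddPart, coeff_mk, show (2 * m + 1) / 2 = m by omega]

lemma evenPart_E2_add (p q : PowerSeries k) : evenPart (E2 k p + X * E2 k q) = p := by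
  ext n
  rw [evenPart, coeff_mk, coeff_E2_add_X_E2, if_pos (by simp), Nat.mul_div_cancel_left _ two_pos]

lemma oddPart_E2_add (p q : PowerSeries k) : oddPart (E2 k p + X * E2 k q) = q := by
  ext n
  rw [oddPart, coeff_mk, coeff_E2_add_X_E2, if_neg (by simp), show (2 * n + 1) / 2 = n by omega]

lemma E2_add_X_E2_eq_zero {p q : PowerSeries k} (h : E2 k p + X * E2 k q = 0) : p = 0 ∧ q = 0 := by
  constructor
  · have := evenPart_E2_add p q
    rw [h] at this
    rw [← this]; ext n; simp [evenPart]
  · have := oddPart_E2_add p q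
    rw [h] at this
    rw [← this]; ext n; simp [oddPart]

lemma E2_add_X_E2_inj {p q p' q' : PowerSeries k}
    (h : E2 k p + X * E2 k q = E2 k p' + X * E2 k q') : p = p' ∧ q = q' := by
  constructor
  · rw [← evenPart_E2_add p q, h, evenPart_E2_add]
  · rw [← oddPart_E2_add p q, h, oddPart_E2_add]

lemma rescale_neg_one_eq (a : PowerSeries k) :
    rescale (-1 : k) a = E2 k (evenPart a) + X * E2 k (-oddPart a) := by
  ext n
  rw [coeff_rescale, coeff_E2_add_X_E2]
  rcases Nat.even_or_odd' n with ⟨m, rfl | rfl⟩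
  · rw [if_pos (by simp), evenPart, coeff_mk, Nat.mul_div_cancel_left _ two_pos]
    simp
  · rw [if_neg (by simp), map_neg, oddPart, coeff_mk, show (2 * m + 1) / 2 = m by omega]
    simp [pow_succ]

lemma two_ne_zero_ps (h2 : (2 : k) ≠ 0) : (2 : PowerSeries k) ≠ 0 := by
  intro h
  apply h2
  have := congrArg (PowerSeries.constantCoeff (R := k)) h
  rw [map_ofNat, map_zero] at this
  exact this

lemma eq_zero_of_neg_eq_self (h2 : (2 : k) ≠ 0) {b : PowerSeries k} (hb : -b = b) : b = 0 := by
  have h2b : (2 : PowerSeries k) * b = 0 := by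
    rw [two_mul]; nth_rewrite 1 [← hb]; ring
  rcases mul_eq_zero.mp h2b with h | h
  · exact absurd h (two_ne_zero_ps h2)
  · exact h

lemma rescale_neg_one_eq_self_iff (h2 : (2 : k) ≠ 0) (a : PowerSeries k) :
    rescale (-1 : k) a = a ↔ oddPart a = 0 := by
  rw [rescale_neg_one_eq]
  nth_rewrite 3 [even_add_odd a]
  constructor
  · intro h
    obtain ⟨_, h'⟩ := E2_add_X_E2_inj h
    exact eq_zero_of_neg_eq_self h2 h'
  · intro h
    rw [h]; simp

lemma rescale_neg_one_eq_neg_iff (h2 : (2 : k) ≠ 0) (a : PowerSeries k) :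
    rescale (-1 : k) a = -a ↔ evenPart a = 0 := by
  rw [rescale_neg_one_eq]
  nth_rewrite 3 [even_add_odd a]
  rw [neg_add, ← map_neg, ← mul_neg, ← map_neg]
  constructor
  · intro h
    obtain ⟨h', _⟩ := E2_add_X_E2_inj h
    exact eq_zero_of_neg_eq_self h2 h'.symm
  · intro h
    rw [h]; simp

/-- `a(t) ↦ a(ct)` as an algebra map. -/
noncomputable def rescaleₐ (c : k) : PowerSeries k →ₐ[k] PowerSeries k :=
  { rescale c with
    commutes' := fun d => by
      change rescale c (C d) = C d
      ext n
      rw [coeff_rescale, coeff_C]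
      split_ifs with h
      · subst h; simp
      · simp }

lemma rescaleₐ_apply (c : k) (a : PowerSeries k) : rescaleₐ c a = rescale c a := rfl

end EvenOdd

end Groth.Agent.R2.H64.ArSing
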