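import Groth.Agent.R2.H64ArOdd
import Groth.Agent.R2.H64PSEvenOdd

/-!
# The parametrisation of `A_r`, `r = 2m` even (helper64)

`ι : A_r → k[[t]]`, `x ↦ t^2`, `y ↦ t^(2m+1)`; injective, with image the series `f` with
`f(-t) ≡ f(t)` modulo `t^(2m+1)`.
-/

set_option autoImplicit false
universe u

namespace Groth.Agent.R2.H64.ArEven

open Groth.Agent.R2.H64.ArSing Groth.Agent.R2.H64.PSSubst Groth.Agent.R2.H64.ArMaps
  Groth.Agent.R2.H64.ArOdd PowerSeries

variable (k : Type u) [Field k] (m : ℕ)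

/-- The ring `A_(2m)`. -/
abbrev R : Type u := ArSing.ring k (2 * m)

lemma exists_iota : ∃ φ : R k m →ₐ[k] PowerSeries k,
    φ (ArSing.x k (2 * m)) = X ^ 2 ∧ φ (ArSing.y k (2 * m)) = X ^ (2 * m + 1) := by
  apply exists_algHom_toPS k (2 * m) (X ^ 2) (X ^ (2 * m + 1))
  · simp
  · simp
  · rw [← pow_mul, ← pow_mul]; congr 1; ring

noncomputable def ι : R k m →ₐ[k] PowerSeries k := (exists_iota k m).choose

lemma ι_x : ι k m (ArSing.x k (2 * m)) = X ^ 2 := (exists_iota k m).choose_spec.1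
lemma ι_y : ι k m (ArSing.y k (2 * m)) = X ^ (2 * m + 1) := (exists_iota k m).choose_spec.2

lemma ι_xMap (a : PowerSeries k) : ι k m (ArSing.xMap k (2 * m) a) = E2 k a := by
  have := algHom_ext' ((ι k m).comp (ArSing.xMap k (2 * m))) (E2 k)
    (by rw [AlgHom.comp_apply, xMap_X, ι_x, expand_X])
    (by rw [AlgHom.comp_apply, xMap_X, ι_x]; simp)
  exact DFunLike.congr_fun this a

lemma ι_dc (a b : PowerSeries k) :
    ι k m (ArSing.xMap k (2 * m) a + ArSing.xMap k (2 * m) b * ArSing.y k (2 * m)) =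
      E2 k a + X * E2 k (X ^ m * b) := by
  rw [map_add, map_mul, ι_xMap, ι_xMap, ι_y, map_mul, map_pow, expand_X]
  ring

variable {k m}

lemma ι_injective {z z' : R k m} (h : ι k m z = ι k m z') : z = z' := by
  obtain ⟨a, b, rfl⟩ := exists_decomp k (2 * m) z
  obtain ⟨a', b', rfl⟩ := exists_decomp k (2 * m) z'
  rw [ι_dc, ι_dc] at h
  obtain ⟨h1, h2⟩ := E2_add_X_E2_inj h
  have hb : b = b' := mul_left_cancel₀ (pow_ne_zero m X_ne_zero) h2
  rw [h1, hb]

variable (k)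

/-- `f(t) ↦ f(-t)`. -/
noncomputable abbrev ρ : PowerSeries k →ₐ[k] PowerSeries k := rescaleₐ (-1 : k)

lemma ρ_X : ρ k X = -X := by
  rw [rescaleₐ_apply, rescale_neg_one_X]

lemma ρ_eq_sb : ρ k = sb (-X : PowerSeries k) := by
  apply algHom_ext'
  · rw [ρ_X, sb_X (by simp)]
  · rw [ρ_X]; simp

lemma ρ_ρ (a : PowerSeries k) : ρ k (ρ k a) = a := by
  rw [ρ_eq_sb, sb_sb (by simp) (by simp), map_neg, sb_X (by simp), neg_neg, sb_X_eq_id]; rfl

variable {k}

/-- Membership in the image of `ι`, as a congruence. -/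
def InS (m : ℕ) (f : PowerSeries k) : Prop :=
  ρ k f - f ∈ Ideal.span {(X : PowerSeries k) ^ (2 * m + 1)}

/-- Oddness modulo `t^(2m)`. -/
def IsOddMod (m : ℕ) (P : PowerSeries k) : Prop :=
  ρ k P + P ∈ Ideal.span {(X : PowerSeries k) ^ (2 * m)}

lemma inS_ι (z : R k m) : InS m (ι k m z) := by
  obtain ⟨a, b, rfl⟩ := exists_decomp k (2 * m) z
  have h1 : ρ k (ι k m (ArSing.xMap k (2 * m) a)) = ι k m (ArSing.xMap k (2 * m) a) := by
    have := algHom_ext' (((ρ k).comp (ι k m)).comp (ArSing.xMap k (2 * m)))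
      ((ι k m).comp (ArSing.xMap k (2 * m)))
      (by
        rw [AlgHom.comp_apply, AlgHom.comp_apply, AlgHom.comp_apply, xMap_X, ι_x, map_pow, ρ_X]
        ring)
      (by
        rw [AlgHom.comp_apply, AlgHom.comp_apply, xMap_X, ι_x, map_pow, ρ_X]
        simp)
    exact DFunLike.congr_fun this a
  have h2 : ρ k (ι k m (ArSing.xMap k (2 * m) b)) = ι k m (ArSing.xMap k (2 * m) b) := by
    have := algHom_ext' (((ρ k).comp (ι k m)).comp (ArSing.xMap k (2 * m)))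
      ((ι k m).comp (ArSing.xMap k (2 * m)))
      (by
        rw [AlgHom.comp_apply, AlgHom.comp_apply, AlgHom.comp_apply, xMap_X, ι_x, map_pow, ρ_X]
        ring)
      (by
        rw [AlgHom.comp_apply, AlgHom.comp_apply, xMap_X, ι_x, map_pow, ρ_X]
        simp)
    exact DFunLike.congr_fun this b
  unfold InS
  rw [map_add, map_mul, map_add, map_mul, h1, h2, ι_y, map_pow, ρ_X, Ideal.mem_span_singleton,
    Odd.neg_pow ⟨m, rfl⟩]
  exact ⟨-(2 * ι k m (ArSing.xMap k (2 * m) b)), by ring⟩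

lemma X_pow_dvd_of_dvd_E2 {q : PowerSeries k} (h : X ^ (2 * m) ∣ E2 k q) : X ^ m ∣ q := by
  rw [X_pow_dvd_iff] at h ⊢
  intro j hj
  have := h (2 * j) (by omega)
  rwa [coeff_expand_mul] at this

lemma exists_of_inS (h2 : (2 : k) ≠ 0) {f : PowerSeries k} (hf : InS m f) : ∃ z : R k m, ι k m z = f := by
  unfold InS at hf
  have e1 : ρ k f - f = -(2 * X * E2 k (oddPart f)) := by
    rw [rescaleₐ_apply, rescale_neg_one_eq]
    nth_rewrite 3 [even_add_odd f]
    rw [map_neg]; ring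
  rw [e1, Ideal.mem_span_singleton, dvd_neg] at hf
  obtain ⟨d, hd⟩ := hf
  have h3 : E2 k (oddPart f) = X ^ (2 * m) * (C (2⁻¹ : k) * d) := by
    have h2' : (2 : PowerSeries k) * C (2⁻¹ : k) = 1 := by
      have : (2 : PowerSeries k) = C (2 : k) := (map_ofNat _ 2).symm
      rw [this, ← map_mul, mul_inv_cancel₀ h2, map_one]
    have h4 : X * (2 * E2 k (oddPart f)) = X * (2 * (X ^ (2 * m) * (C (2⁻¹ : k) * d))) := by
      have : X * (2 * (X ^ (2 * m) * (C (2⁻¹ : k) * d))) =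
          (2 * C (2⁻¹ : k)) * (X ^ (2 * m + 1) * d) := by ring
      rw [this, h2', one_mul, ← hd]; ring
    have h5 := mul_left_cancel₀ X_ne_zero h4
    exact mul_left_cancel₀ (two_ne_zero_ps h2) h5
  obtain ⟨b, hb⟩ := X_pow_dvd_of_dvd_E2 (m := m) ⟨_, h3⟩
  refine ⟨ArSing.xMap k (2 * m) (evenPart f) + ArSing.xMap k (2 * m) b * ArSing.y k (2 * m), ?_⟩
  rw [ι_dc, ← hb]
  exact (even_add_odd f).symm

lemma constantCoeff_ρ (a : PowerSeries k) : constantCoeff (ρ k a) = constantCoeff a :=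
  constantCoeff_algHom _ (by rw [ρ_X]; simp) a

lemma ρ_mem_span {N : ℕ} {a : PowerSeries k} (ha : a ∈ Ideal.span {(X : PowerSeries k) ^ N}) :
    ρ k a ∈ Ideal.span {(X : PowerSeries k) ^ N} :=
  algHom_mem_span_X_pow _ (by rw [ρ_X]; simp) N ha

/-- The square of a series which is odd modulo `t^(2m)` lies in the image of `ι`. -/
lemma inS_sq {P : PowerSeries k} (hP0 : constantCoeff P = 0) (hP : IsOddMod m P) : InS m (P ^ 2) := by
  unfold InS IsOddMod at *
  rw [Ideal.mem_span_singleton] at hP ⊢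
  obtain ⟨d, hd⟩ := hP
  have h0 : constantCoeff (ρ k P - P) = 0 := by rw [map_sub, constantCoeff_ρ, hP0, sub_zero]
  obtain ⟨e, he⟩ := X_dvd_iff.mpr h0
  refine ⟨e * d, ?_⟩
  rw [map_pow]
  have : ρ k P ^ 2 - P ^ 2 = (ρ k P - P) * (ρ k P + P) := by ring
  rw [this, hd, he]; ring

lemma inS_of_mem {f : PowerSeries k} (hf : f ∈ Ideal.span {(X : PowerSeries k) ^ (2 * m + 1)}) :
    InS m f :=
  Ideal.sub_mem _ (ρ_mem_span hf) hf

lemma inS_pow {P : PowerSeries k} (hP0 : constantCoeff P = 0) : InS m (P ^ (2 * m + 1)) := by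
  apply inS_of_mem
  obtain ⟨e, rfl⟩ := X_dvd_iff.mpr hP0
  rw [Ideal.mem_span_singleton, mul_pow]
  exact Dvd.intro _ rfl


lemma mem_max_of_ι {z : R k m} (h : constantCoeff (ι k m z) = 0) :
    z ∈ IsLocalRing.maximalIdeal (R k m) := by
  rw [mem_max_iff_aug, ← constantCoeff_algHom_eq_aug k _ (ι k m)]; exact h

/-- Endomorphisms of `A_(2m)` induced by substitutions which are odd modulo `t^(2m)`. -/
lemma exists_endo_even (h2 : (2 : k) ≠ 0) (P : PowerSeries k) (hP0 : constantCoeff P = 0)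
    (hP : IsOddMod m P) :
    ∃ φ : R k m →ₐ[k] R k m, ∀ z, ι k m (φ z) = sb P (ι k m z) := by
  obtain ⟨ξ, hξ⟩ := exists_of_inS h2 (inS_sq hP0 hP)
  obtain ⟨η, hη⟩ := exists_of_inS h2 (inS_pow (m := m) hP0)
  have hξm : ξ ∈ IsLocalRing.maximalIdeal (R k m) :=
    mem_max_of_ι (by rw [hξ, map_pow, hP0]; exact zero_pow two_ne_zero)
  have hηm : η ∈ IsLocalRing.maximalIdeal (R k m) :=
    mem_max_of_ι (by rw [hη, map_pow, hP0]; exact zero_pow (Nat.succ_ne_zero _))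
  have hrel : η ^ 2 = ξ ^ (2 * m + 1) := by
    apply ι_injective
    rw [map_pow, map_pow, hξ, hη, ← pow_mul, ← pow_mul]; congr 1; ring
  obtain ⟨φ, hφx, hφy⟩ := exists_algHom_toAr k (2 * m) (2 * m) ξ η hξm hηm hrel
  refine ⟨φ, ?_⟩
  have := algHom_toPS_ext k _ ((ι k m).comp φ) ((sb P).comp (ι k m)) (by
    rw [AlgHom.comp_apply, AlgHom.comp_apply, hφx, hξ, ι_x, map_pow, sb_X hP0]) (by
    rw [AlgHom.comp_apply, AlgHom.comp_apply, hφy, hη, ι_y, map_pow, sb_X hP0])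
  intro z; exact DFunLike.congr_fun this z

lemma sb_neg_ρ_neg_ρ {P Q : PowerSeries k} (hQ0 : constantCoeff Q = 0)
    (hQP : sb Q P = X) : sb (-ρ k Q) (-ρ k P) = X := by
  have hnX : constantCoeff (-X : PowerSeries k) = 0 := by simp
  have hρQ : constantCoeff (-ρ k Q) = 0 := by rw [map_neg, constantCoeff_ρ, hQ0, neg_zero]
  have hρQ' : constantCoeff (ρ k Q) = 0 := by rw [constantCoeff_ρ, hQ0]
  have e1 : sb (-ρ k Q) (-X) = ρ k Q := by rw [map_neg, sb_X hρQ, neg_neg]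
  rw [map_neg]
  nth_rewrite 2 [ρ_eq_sb]
  rw [sb_sb hρQ hnX, e1]
  nth_rewrite 1 [ρ_eq_sb]
  rw [← sb_sb hnX hQ0, hQP, sb_X hnX, neg_neg]

/-- The compositional inverse of a series which is odd modulo `t^(2m)` is odd modulo `t^(2m)`. -/
lemma isOddMod_inv {P Q : PowerSeries k} (hP0 : constantCoeff P = 0) (hQ0 : constantCoeff Q = 0)
    (hPQ : sb P Q = X) (hQP : sb Q P = X) (hP : IsOddMod m P) : IsOddMod m Q := by
  unfold IsOddMod at *
  have hρP : constantCoeff (-ρ k P) = 0 := by rw [map_neg, constantCoeff_ρ, hP0, neg_zero]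
  have hρQ : constantCoeff (-ρ k Q) = 0 := by rw [map_neg, constantCoeff_ρ, hQ0, neg_zero]
  have key := inv_congr (2 * m) (T₁ := P) (T₂ := -ρ k P) (Q₁ := Q) (Q₂ := -ρ k Q) hP0 hρP hρQ hPQ
    (sb_neg_ρ_neg_ρ hQ0 hQP) (by
      have : P - -ρ k P = ρ k P + P := by ring
      rw [this]; exact hP)
  have : Q - -ρ k Q = ρ k Q + Q := by ring
  rw [this] at key
  exact key

/-- Automorphisms of `A_(2m)` induced by substitutions which are odd modulo `t^(2m)`. -/
lemma exists_aut_even (h2 : (2 : k) ≠ 0) (P : PowerSeries k) (hP0 : constantCoeff P = 0)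
    (hP1 : coeff 1 P ≠ 0) (hP : IsOddMod m P) :
    ∃ (φ : R k m ≃ₐ[k] R k m) (Q : PowerSeries k), constantCoeff Q = 0 ∧ sb Q P = X ∧
      (∀ z, ι k m (φ z) = sb P (ι k m z)) ∧ (∀ z, ι k m (φ.symm z) = sb Q (ι k m z)) := by
  obtain ⟨Q, hQ0, -, hPQ, hQP⟩ := exists_inv P hP0 hP1
  have hQ : IsOddMod m Q := isOddMod_inv hP0 hQ0 hPQ hQP hP
  obtain ⟨φ₀, hφ⟩ := exists_endo_even h2 P hP0 hP
  obtain ⟨ψ₀, hψ⟩ := exists_endo_even h2 Q hQ0 hQ
  have hφψ : φ₀.comp ψ₀ = AlgHom.id k _ := by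
    ext1 z
    apply ι_injective
    change ι k m (φ₀ (ψ₀ z)) = ι k m z
    rw [hφ, hψ, sb_sb_of_inv hP0 hQ0 hPQ]
  have hψφ : ψ₀.comp φ₀ = AlgHom.id k _ := by
    ext1 z
    apply ι_injective
    change ι k m (ψ₀ (φ₀ z)) = ι k m z
    rw [hψ, hφ, sb_sb_of_inv hQ0 hP0 hQP]
  exact ⟨AlgEquiv.ofAlgHom φ₀ ψ₀ hφψ hψφ, Q, hQ0, hQP, hφ, hψ⟩

/-- Every automorphism of `A_(2m)` extends to the normalisation `k[[t]]`. -/
lemma exists_ext (σ : R k m ≃ₐ[k] R k m) :
    ∃ T : PowerSeries k, constantCoeff T = 0 ∧ ∀ z, ι k m (σ z) = sb T (ι k m z) := by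
  set F := ι k m (σ (ArSing.x k (2 * m))) with hF
  set G := ι k m (σ (ArSing.y k (2 * m))) with hG
  have hF0 : constantCoeff F = 0 :=
    constantCoeff_algHom_x k _ ((ι k m).comp (σ : R k m →ₐ[k] R k m))
  have hFne : F ≠ 0 := by
    intro h0
    have h1 : σ (ArSing.x k (2 * m)) = 0 := ι_injective (by rw [← hF, h0, map_zero])
    have h3 : ArSing.x k (2 * m) = 0 := by
      have := congrArg σ.symm h1
      rwa [AlgEquiv.symm_apply_apply, map_zero] at this
    have h4 := ι_x k m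
    rw [h3, map_zero] at h4
    exact pow_ne_zero 2 X_ne_zero h4.symm
  have hrel : G ^ 2 = F ^ (2 * m + 1) := by
    have e1 : ι k m (σ (ArSing.y k (2 * m) ^ 2)) = G ^ 2 := by rw [map_pow, map_pow]
    have e2 : ι k m (σ (ArSing.x k (2 * m) ^ (2 * m + 1))) = F ^ (2 * m + 1) := by
      rw [map_pow, map_pow]
    rw [← e1, ← e2]
    congr 2
    rw [y_sq k (2 * m), map_pow, xMap_X]
  have hdvd : F ^ m ∣ G := by
    rcases ValuationRing.dvd_total (F ^ m) G with h | ⟨H, hH⟩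
    · exact h
    · exfalso
      have h1 : F ^ (2 * m) * (F * H ^ 2) = F ^ (2 * m) * 1 := by
        have : F ^ (2 * m) = (F ^ m) ^ 2 := by rw [← pow_mul, mul_comm]
        rw [mul_one]
        nth_rewrite 2 [this]
        rw [hH, mul_pow, hrel]; ring
      have h3 := mul_left_cancel₀ (pow_ne_zero _ hFne) h1
      have h4 := congrArg (constantCoeff (R := k)) h3
      rw [map_mul, hF0, zero_mul, map_one] at h4
      exact zero_ne_one h4
  obtain ⟨T, hT⟩ := hdvd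
  have hT2 : T ^ 2 = F := by
    have h1 : F ^ (2 * m) * T ^ 2 = F ^ (2 * m) * F := by
      have : F ^ (2 * m) * T ^ 2 = (F ^ m * T) ^ 2 := by rw [mul_pow, ← pow_mul, mul_comm m 2]
      rw [this, ← hT, hrel]; ring
    exact mul_left_cancel₀ (pow_ne_zero _ hFne) h1
  have hT0 : constantCoeff T = 0 := by
    have := congrArg (constantCoeff (R := k)) hT2
    rw [map_pow, hF0] at this
    exact pow_eq_zero_iff (two_ne_zero) |>.mp this
  have hTG : T ^ (2 * m + 1) = G := by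
    rw [pow_succ, pow_mul, hT2, hT]
  refine ⟨T, hT0, ?_⟩
  have := algHom_toPS_ext k _ ((ι k m).comp (σ : R k m →ₐ[k] R k m)) ((sb T).comp (ι k m)) (by
    rw [AlgHom.comp_apply, AlgHom.comp_apply, ι_x, map_pow, sb_X hT0, hT2]; rfl) (by
    rw [AlgHom.comp_apply, AlgHom.comp_apply, ι_y, map_pow, sb_X hT0, hTG]; rfl)
  intro z; exact DFunLike.congr_fun this z

end Groth.Agent.R2.H64.ArEven
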