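import Groth.Agent.R2.H64ArSing

/-!
# One-variable power series substitution (helper64)

`sb T : k[[t]] →ₐ[k] k[[t]]`, `t ↦ T` (for `T` with zero constant coefficient), composition,
congruences, compositional inverses.
-/

set_option autoImplicit false
universe u

namespace Groth.Agent.R2.H64.PSSubst

open PowerSeries Groth.Agent.R2.H64.ArSing

variable {k : Type u} [Field k]

lemma iInf_span_X_pow : ⨅ n : ℕ, (Ideal.span {(X : PowerSeries k)}) ^ n = ⊥ := by
  rw [eq_bot_iff]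
  intro f hf
  rw [Ideal.mem_iInf] at hf
  rw [Ideal.mem_bot]
  ext n
  have := hf (n + 1)
  rw [Ideal.span_singleton_pow, Ideal.mem_span_singleton, X_pow_dvd_iff] at this
  rw [this n (Nat.lt_succ_self n), map_zero]

lemma mem_span_X_iff (f : PowerSeries k) : f ∈ Ideal.span {(X : PowerSeries k)} ↔
    constantCoeff f = 0 := by
  rw [Ideal.mem_span_singleton, X_dvd_iff]

/-- Two `k`-algebra endomorphisms of `k[[t]]` agreeing on `t` (sent to the maximal ideal) agree. -/
lemma algHom_ext' (h₁ h₂ : PowerSeries k →ₐ[k] PowerSeries k) (hX : h₁ X = h₂ X)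
    (h0 : constantCoeff (h₁ X) = 0) : h₁ = h₂ :=
  algHom_ext_of_X k (Ideal.span {X}) iInf_span_X_pow h₁ h₂ hX ((mem_span_X_iff _).mpr h0)

open Classical in
/-- Substitution `t ↦ T` (junk value `id` if `T` has non-zero constant coefficient). -/
noncomputable def sb (T : PowerSeries k) : PowerSeries k →ₐ[k] PowerSeries k :=
  if hT : constantCoeff T = 0 then substAlgHom (HasSubst.of_constantCoeff_zero' hT)
  else AlgHom.id k _

lemma sb_X {T : PowerSeries k} (hT : constantCoeff T = 0) : sb T X = T := by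
  rw [sb, dif_pos hT, coe_substAlgHom, subst_X (HasSubst.of_constantCoeff_zero' hT)]

lemma constantCoeff_algHom (h : PowerSeries k →ₐ[k] PowerSeries k)
    (h0 : constantCoeff (h X) = 0) (a : PowerSeries k) :
    constantCoeff (h a) = constantCoeff a := by
  have h1 := eq_X_mul_shift_add_const a
  set a₁ := (mk fun p => coeff (p + 1) a) with ha₁
  have h4 : h (C (constantCoeff a)) = C (constantCoeff a) := h.commutes _
  conv_lhs => rw [h1]
  rw [map_add, map_mul, h4, map_add, map_mul, h0, zero_mul, zero_add, constantCoeff_C]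

lemma constantCoeff_sb {T : PowerSeries k} (hT : constantCoeff T = 0) (a : PowerSeries k) :
    constantCoeff (sb T a) = constantCoeff a :=
  constantCoeff_algHom _ (by rw [sb_X hT]; exact hT) a

lemma sb_comp {T₁ T₂ : PowerSeries k} (h₁ : constantCoeff T₁ = 0) (h₂ : constantCoeff T₂ = 0) :
    (sb T₁).comp (sb T₂) = sb (sb T₁ T₂) := by
  have h3 : constantCoeff (sb T₁ T₂) = 0 := by rw [constantCoeff_sb h₁]; exact h₂
  apply algHom_ext'
  · rw [AlgHom.comp_apply, sb_X h₂, sb_X h3]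
  · rw [AlgHom.comp_apply, sb_X h₂]; exact h3

lemma sb_sb {T₁ T₂ : PowerSeries k} (h₁ : constantCoeff T₁ = 0) (h₂ : constantCoeff T₂ = 0)
    (a : PowerSeries k) : sb T₁ (sb T₂ a) = sb (sb T₁ T₂) a := by
  rw [← sb_comp h₁ h₂, AlgHom.comp_apply]

lemma sb_X_eq_id : sb (X : PowerSeries k) = AlgHom.id k _ := by
  have h0 : constantCoeff (X : PowerSeries k) = 0 := constantCoeff_X
  apply algHom_ext'
  · rw [sb_X h0]; rfl
  · rw [sb_X h0]; exact h0

/-- Every endomorphism sending `t` into the maximal ideal is a substitution. -/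
lemma eq_sb (h : PowerSeries k →ₐ[k] PowerSeries k) (h0 : constantCoeff (h X) = 0) :
    h = sb (h X) := by
  apply algHom_ext'
  · rw [sb_X h0]
  · exact h0

/-- Congruence: maps out of `k[[t]]` into a Noetherian local `k`-algebra which are congruent on `t`
modulo an ideal are congruent. -/
lemma algHom_sub_mem {B : Type*} [CommRing B] [Algebra k B] [IsLocalRing B] [IsNoetherianRing B]
    (I : Ideal B) (h₁ h₂ : PowerSeries k →ₐ[k] B)
    (hX : h₁ X - h₂ X ∈ I)
    (hm : h₁ X ∈ IsLocalRing.maximalIdeal B) (a : PowerSeries k) :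
    h₁ a - h₂ a ∈ I := by
  by_cases hI : I = ⊤
  · rw [hI]; trivial
  have : Nontrivial (B ⧸ I) := Ideal.Quotient.nontrivial_iff.mpr hI
  have : IsLocalRing (B ⧸ I) :=
    IsLocalRing.of_surjective' (Ideal.Quotient.mk I) Ideal.Quotient.mk_surjective
  have hIm : I ≤ IsLocalRing.maximalIdeal B := IsLocalRing.le_maximalIdeal hI
  have hK : ⨅ n : ℕ, IsLocalRing.maximalIdeal (B ⧸ I) ^ n = ⊥ :=
    Ideal.iInf_pow_eq_bot_of_isLocalRing (R := B ⧸ I)
      (IsLocalRing.maximalIdeal (B ⧸ I))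
      (IsLocalRing.maximalIdeal.isMaximal (B ⧸ I)).ne_top
  have key := algHom_ext_of_X k (B := B ⧸ I)
    (IsLocalRing.maximalIdeal (B ⧸ I)) hK
    ((Ideal.Quotient.mkₐ k I).comp h₁) ((Ideal.Quotient.mkₐ k I).comp h₂)
    (by
      rw [AlgHom.comp_apply, AlgHom.comp_apply]
      exact (Ideal.Quotient.mk_eq_mk_iff_sub_mem _ _).mpr hX)
    (by
      rw [AlgHom.comp_apply, IsLocalRing.mem_maximalIdeal, mem_nonunits_iff]
      intro hu
      obtain ⟨v, hv⟩ := hu.exists_right_inv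
      obtain ⟨v, rfl⟩ := Ideal.Quotient.mk_surjective v
      change Ideal.Quotient.mk I _ * Ideal.Quotient.mk I v = 1 at hv
      rw [← map_mul, ← map_one (Ideal.Quotient.mk I), Ideal.Quotient.mk_eq_mk_iff_sub_mem] at hv
      have h1 : h₁ X * v ∈ IsLocalRing.maximalIdeal B :=
        Ideal.mul_mem_right _ _ hm
      have h2 := Ideal.sub_mem _ h1 (hIm hv)
      rw [sub_sub_cancel] at h2
      exact (IsLocalRing.maximalIdeal.isMaximal _).ne_top ((Ideal.eq_top_iff_one _).mpr h2))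
  have := DFunLike.congr_fun key a
  rw [AlgHom.comp_apply, AlgHom.comp_apply] at this
  exact (Ideal.Quotient.mk_eq_mk_iff_sub_mem _ _).mp this

lemma mem_maximalIdeal_iff (f : PowerSeries k) :
    f ∈ IsLocalRing.maximalIdeal (PowerSeries k) ↔ constantCoeff f = 0 := by
  rw [IsLocalRing.mem_maximalIdeal, mem_nonunits_iff, isUnit_iff_constantCoeff]
  constructor
  · intro h
    by_contra h'
    exact h (IsUnit.mk0 _ h')
  · intro h hu
    rw [h] at hu
    exact not_isUnit_zero hu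

/-- Congruence for substitutions in `k[[t]]`. -/
lemma sb_sub_mem (I : Ideal (PowerSeries k)) {T₁ T₂ : PowerSeries k}
    (h₁ : constantCoeff T₁ = 0) (h₂ : constantCoeff T₂ = 0) (hT : T₁ - T₂ ∈ I)
    (a : PowerSeries k) : sb T₁ a - sb T₂ a ∈ I := by
  apply algHom_sub_mem I (sb T₁) (sb T₂)
  · rw [sb_X h₁, sb_X h₂]; exact hT
  · rw [sb_X h₁, mem_maximalIdeal_iff]; exact h₁

/-- Endomorphisms sending `t` into the maximal ideal preserve the ideals `(t^N)`. -/
lemma algHom_mem_span_X_pow (h : PowerSeries k →ₐ[k] PowerSeries k)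
    (h0 : constantCoeff (h X) = 0) (N : ℕ) {a : PowerSeries k}
    (ha : a ∈ Ideal.span {(X : PowerSeries k) ^ N}) : h a ∈ Ideal.span {(X : PowerSeries k) ^ N} := by
  rw [Ideal.mem_span_singleton] at ha ⊢
  obtain ⟨b, rfl⟩ := ha
  obtain ⟨c, hc⟩ := X_dvd_iff.mpr h0
  rw [map_mul, map_pow, hc, mul_pow, mul_assoc]
  exact Dvd.intro _ rfl

/-- Compositional inverse. -/
lemma exists_inv (T : PowerSeries k) (hT0 : constantCoeff T = 0) (hT1 : coeff 1 T ≠ 0) :
    ∃ Q : PowerSeries k, constantCoeff Q = 0 ∧ coeff 1 Q ≠ 0 ∧ sb T Q = X ∧ sb Q T = X := by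
  have hu : IsUnit (coeff 1 T) := IsUnit.mk0 _ hT1
  refine ⟨T.substInvOfIsUnit hu, constantCoeff_substInvOfIsUnit T hu, ?_, ?_, ?_⟩
  · rw [coeff_one_substInvOfIsUnit]
    exact Units.ne_zero _
  · rw [sb, dif_pos hT0, coe_substAlgHom]
    exact subst_substInvOfIsUnit_left T hT0 hu
  · rw [sb, dif_pos (constantCoeff_substInvOfIsUnit T hu), coe_substAlgHom]
    exact subst_substInvOfIsUnit_right T hT0 hu

lemma sb_sb_of_inv {T Q : PowerSeries k} (hT0 : constantCoeff T = 0) (hQ0 : constantCoeff Q = 0)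
    (h : sb T Q = X) (a : PowerSeries k) : sb T (sb Q a) = a := by
  rw [sb_sb hT0 hQ0, h, sb_X_eq_id]; rfl

/-- Compositional inverses of congruent series are congruent modulo `t^N`. -/
lemma inv_congr (N : ℕ) {T₁ T₂ Q₁ Q₂ : PowerSeries k}
    (hT₁ : constantCoeff T₁ = 0) (hT₂ : constantCoeff T₂ = 0)
    (hQ₂ : constantCoeff Q₂ = 0)
    (h₁ : sb T₁ Q₁ = X) (h₂ : sb Q₂ T₂ = X)
    (hT : T₁ - T₂ ∈ Ideal.span {(X : PowerSeries k) ^ N}) :
    Q₁ - Q₂ ∈ Ideal.span {(X : PowerSeries k) ^ N} := by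
  -- Q₁ = sb Q₂ (sb T₂ Q₁), Q₂ = sb Q₂ (sb T₁ Q₁)
  have e1 : sb Q₂ (sb T₂ Q₁) = Q₁ := sb_sb_of_inv hQ₂ hT₂ h₂ Q₁
  have e2 : sb Q₂ (sb T₁ Q₁) = Q₂ := by rw [h₁, sb_X hQ₂]
  have h3 : sb T₂ Q₁ - sb T₁ Q₁ ∈ Ideal.span {(X : PowerSeries k) ^ N} := by
    apply sb_sub_mem _ hT₂ hT₁
    have : T₂ - T₁ = -(T₁ - T₂) := by ring
    rw [this]; exact neg_mem hT
  have h4 := algHom_mem_span_X_pow (sb Q₂) (by rw [sb_X hQ₂]; exact hQ₂) N h3
  rw [map_sub, e1, e2] at h4
  exact h4

end Groth.Agent.R2.H64.PSSubst
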