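import Groth.Agent.R2.H64ArSing2
import Groth.Agent.R2.H64PSSubst

/-!
# Constructing `k`-algebra maps out of `A_r = k[[x,y]]/(y^2 - x^(r+1))` (helper64)
-/

set_option autoImplicit false
universe u

namespace Groth.Agent.R2.H64.ArMaps

open Groth.Agent.R2.H64.ArSing Groth.Agent.R2.H64.PSSubst

variable (k : Type u) [Field k] (r : ℕ)

/-- General builder: a pair of power series without constant term in variables `τ`, whose images
in a quotient `B` satisfy the equation, define a map `A_r → B`. -/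
lemma exists_algHom_of_subst {τ : Type*} {B : Type*} [CommRing B] [Algebra k B]
    (q : MvPowerSeries τ k →ₐ[k] B) (a : Fin 2 → MvPowerSeries τ k)
    (ha : ∀ s, MvPowerSeries.constantCoeff (a s) = 0)
    (hrel : q (a 1) ^ 2 = q (a 0) ^ (r + 1)) :
    ∃ φ : ArSing.ring k r →ₐ[k] B, φ (ArSing.x k r) = q (a 0) ∧ φ (ArSing.y k r) = q (a 1) := by
  have hS : MvPowerSeries.HasSubst a := MvPowerSeries.hasSubst_of_constantCoeff_zero ha
  let Φ : MvPowerSeries (Fin 2) k →ₐ[k] B := q.comp (MvPowerSeries.substAlgHom hS)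
  have hΦX : ∀ s, Φ (MvPowerSeries.X s) = q (a s) := fun s => by
    change q (MvPowerSeries.substAlgHom hS (MvPowerSeries.X s)) = _
    rw [MvPowerSeries.substAlgHom_X]
  have hΦ : ∀ f ∈ Ideal.span {ArSing.eqn k r}, Φ f = 0 := by
    intro f hf
    obtain ⟨c, rfl⟩ := Ideal.mem_span_singleton'.mp hf
    rw [map_mul]
    have : Φ (ArSing.eqn k r) = 0 := by
      unfold ArSing.eqn
      rw [map_sub, map_pow, map_pow, hΦX, hΦX, hrel, sub_self]
    rw [this, mul_zero]
  refine ⟨Ideal.Quotient.liftₐ (Ideal.span {ArSing.eqn k r}) Φ hΦ, ?_, ?_⟩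
  · change Φ (MvPowerSeries.X 0) = _
    exact hΦX 0
  · change Φ (MvPowerSeries.X 1) = _
    exact hΦX 1

/-- Maps `A_r → k[[t]]`. -/
lemma exists_algHom_toPS (Tx Ty : PowerSeries k) (hx : PowerSeries.constantCoeff Tx = 0)
    (hy : PowerSeries.constantCoeff Ty = 0) (hrel : Ty ^ 2 = Tx ^ (r + 1)) :
    ∃ φ : ArSing.ring k r →ₐ[k] PowerSeries k,
      φ (ArSing.x k r) = Tx ∧ φ (ArSing.y k r) = Ty := by
  have := exists_algHom_of_subst k r (τ := Unit) (B := PowerSeries k)
    (AlgHom.id k (MvPowerSeries Unit k)) ![Tx, Ty] (by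
      intro s
      fin_cases s
      · exact hx
      · exact hy) (by simpa using hrel)
  simpa using this

/-- Maps `A_r → A_r'`. -/
lemma exists_algHom_toAr (r' : ℕ) (ξ η : ArSing.ring k r')
    (hξ : ξ ∈ IsLocalRing.maximalIdeal (ArSing.ring k r'))
    (hη : η ∈ IsLocalRing.maximalIdeal (ArSing.ring k r'))
    (hrel : η ^ 2 = ξ ^ (r + 1)) :
    ∃ φ : ArSing.ring k r →ₐ[k] ArSing.ring k r',
      φ (ArSing.x k r) = ξ ∧ φ (ArSing.y k r) = η := by
  obtain ⟨Fξ, rfl⟩ := Ideal.Quotient.mk_surjective ξ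
  obtain ⟨Fη, rfl⟩ := Ideal.Quotient.mk_surjective η
  rw [mem_max_iff_aug, aug_mk] at hξ hη
  have := exists_algHom_of_subst k r (τ := Fin 2) (B := ArSing.ring k r')
    (Ideal.Quotient.mkₐ k (Ideal.span {ArSing.eqn k r'})) ![Fξ, Fη] (by
      intro s
      fin_cases s
      · exact hξ
      · exact hη) (by simpa using hrel)
  simpa using this

end Groth.Agent.R2.H64.ArMaps
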