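import Groth.Agent.R2.H64ArMaps

/-!
# The two branches of `A_r`, `r = 2n+1` odd (helper64)

`pi₁, pi₂ : A_r → k[[t]]`, `x ↦ t`, `y ↦ ± t^(n+1)`; jointly injective with image the pairs
congruent modulo `t^(n+1)`.
-/

set_option autoImplicit false
universe u

namespace Groth.Agent.R2.H64.ArOdd

open Groth.Agent.R2.H64.ArSing Groth.Agent.R2.H64.PSSubst Groth.Agent.R2.H64.ArMaps PowerSeries

variable (k : Type u) [Field k] (n : ℕ)

/-- The ring `A_(2n+1)`. -/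
abbrev R : Type u := ArSing.ring k (2 * n + 1)

lemma exists_pi (s : k) (hs : s ^ 2 = 1) : ∃ φ : R k n →ₐ[k] PowerSeries k,
    φ (ArSing.x k (2 * n + 1)) = X ∧ φ (ArSing.y k (2 * n + 1)) = C s * X ^ (n + 1) := by
  apply exists_algHom_toPS k (2 * n + 1) X (C s * X ^ (n + 1)) constantCoeff_X
  · simp
  · rw [mul_pow, ← map_pow, hs, map_one, one_mul, ← pow_mul]
    congr 1
    ring

noncomputable def pi₁ : R k n →ₐ[k] PowerSeries k := (exists_pi k n 1 (one_pow 2)).choose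
noncomputable def pi₂ : R k n →ₐ[k] PowerSeries k := (exists_pi k n (-1) (by ring)).choose

lemma pi₁_x : pi₁ k n (ArSing.x k (2 * n + 1)) = X := (exists_pi k n 1 (one_pow 2)).choose_spec.1
lemma pi₁_y : pi₁ k n (ArSing.y k (2 * n + 1)) = X ^ (n + 1) := by
  have := (exists_pi k n 1 (one_pow 2)).choose_spec.2
  exact this.trans (by rw [map_one, one_mul])
lemma pi₂_x : pi₂ k n (ArSing.x k (2 * n + 1)) = X := (exists_pi k n (-1) (by ring)).choose_spec.1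
lemma pi₂_y : pi₂ k n (ArSing.y k (2 * n + 1)) = -X ^ (n + 1) := by
  have := (exists_pi k n (-1) (by ring)).choose_spec.2
  exact this.trans (by rw [map_neg, map_one, neg_one_mul])

/-- Any `k`-algebra map `A_r → k[[t]]` composed with `xMap` is substitution by the image of `x`
(when that image has no constant term). -/
lemma algHom_xMap (r : ℕ) (ρ : ArSing.ring k r →ₐ[k] PowerSeries k)
    (h0 : constantCoeff (ρ (ArSing.x k r)) = 0) (a : PowerSeries k) :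
    ρ (ArSing.xMap k r a) = sb (ρ (ArSing.x k r)) a := by
  have := algHom_ext' (ρ.comp (ArSing.xMap k r)) (sb (ρ (ArSing.x k r)))
    (by rw [AlgHom.comp_apply, xMap_X, sb_X h0])
    (by rw [AlgHom.comp_apply, xMap_X]; exact h0)
  exact DFunLike.congr_fun this a

lemma pi₁_xMap (a : PowerSeries k) : pi₁ k n (ArSing.xMap k (2 * n + 1) a) = a := by
  rw [algHom_xMap k _ _ (by rw [pi₁_x]; exact constantCoeff_X), pi₁_x, sb_X_eq_id]; rfl

lemma pi₂_xMap (a : PowerSeries k) : pi₂ k n (ArSing.xMap k (2 * n + 1) a) = a := by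
  rw [algHom_xMap k _ _ (by rw [pi₂_x]; exact constantCoeff_X), pi₂_x, sb_X_eq_id]; rfl

lemma pi₁_dc (a b : PowerSeries k) :
    pi₁ k n (ArSing.xMap k (2 * n + 1) a + ArSing.xMap k (2 * n + 1) b * ArSing.y k (2 * n + 1)) =
      a + b * X ^ (n + 1) := by
  rw [map_add, map_mul, pi₁_xMap, pi₁_xMap, pi₁_y]

lemma pi₂_dc (a b : PowerSeries k) :
    pi₂ k n (ArSing.xMap k (2 * n + 1) a + ArSing.xMap k (2 * n + 1) b * ArSing.y k (2 * n + 1)) =
      a - b * X ^ (n + 1) := by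
  rw [map_add, map_mul, pi₂_xMap, pi₂_xMap, pi₂_y]; ring

variable {k n}

lemma pi_injective (h2 : (2 : k) ≠ 0) {z z' : R k n} (h₁ : pi₁ k n z = pi₁ k n z')
    (h₂ : pi₂ k n z = pi₂ k n z') : z = z' := by
  obtain ⟨a, b, rfl⟩ := exists_decomp k (2 * n + 1) z
  obtain ⟨a', b', rfl⟩ := exists_decomp k (2 * n + 1) z'
  rw [pi₁_dc, pi₁_dc] at h₁
  rw [pi₂_dc, pi₂_dc] at h₂
  have hne : (2 : PowerSeries k) ≠ 0 := two_ne_zero_ps h2
  have ha : a = a' := by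
    have : (2 : PowerSeries k) * (a - a') = 0 := by linear_combination h₁ + h₂
    exact sub_eq_zero.mp ((mul_eq_zero.mp this).resolve_left hne)
  have hb : b = b' := by
    have : (2 : PowerSeries k) * X ^ (n + 1) * (b - b') = 0 := by linear_combination h₁ - h₂
    have h2X : (2 : PowerSeries k) * X ^ (n + 1) ≠ 0 := mul_ne_zero hne (pow_ne_zero _ X_ne_zero)
    exact sub_eq_zero.mp ((mul_eq_zero.mp this).resolve_left h2X)
  rw [ha, hb]

lemma pi_sub_mem (z : R k n) :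
    pi₁ k n z - pi₂ k n z ∈ Ideal.span {(X : PowerSeries k) ^ (n + 1)} := by
  obtain ⟨a, b, rfl⟩ := exists_decomp k (2 * n + 1) z
  rw [pi₁_dc, pi₂_dc, Ideal.mem_span_singleton]
  exact ⟨2 * b, by ring⟩

lemma exists_of_congr (h2 : (2 : k) ≠ 0) (f g : PowerSeries k)
    (h : f - g ∈ Ideal.span {(X : PowerSeries k) ^ (n + 1)}) :
    ∃ z : R k n, pi₁ k n z = f ∧ pi₂ k n z = g := by
  rw [Ideal.mem_span_singleton] at h
  obtain ⟨d, hd⟩ := h
  have h2' : (2 : PowerSeries k) * C (2⁻¹ : k) = 1 := by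
    have : (2 : PowerSeries k) = C (2 : k) := (map_ofNat _ 2).symm
    rw [this, ← map_mul, mul_inv_cancel₀ h2, map_one]
  refine ⟨ArSing.xMap k (2 * n + 1) (C (2⁻¹ : k) * (f + g)) +
    ArSing.xMap k (2 * n + 1) (C (2⁻¹ : k) * d) * ArSing.y k (2 * n + 1), ?_, ?_⟩
  · rw [pi₁_dc]
    linear_combination f * h2' - (C (2⁻¹ : k)) * hd
  · rw [pi₂_dc]
    linear_combination g * h2' + (C (2⁻¹ : k)) * hd

variable (k n)

/-- The constant coefficient of the image of `z` under any `k`-algebra map to `k[[t]]` is the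
augmentation of `z`. -/
lemma constantCoeff_algHom_eq_aug (r : ℕ) (ρ : ArSing.ring k r →ₐ[k] PowerSeries k)
    (z : ArSing.ring k r) : constantCoeff (ρ z) = aug k r z := by
  have key : ∀ w : ArSing.ring k r, aug k r w = 0 → constantCoeff (ρ w) = 0 := by
    intro w hw
    by_contra hd
    set d := constantCoeff (ρ w) with hd'
    have h1 : IsUnit (w - algebraMap k _ d) := by
      by_contra hnu
      have : w - algebraMap k _ d ∈ IsLocalRing.maximalIdeal (ArSing.ring k r) := hnu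
      rw [mem_max_iff_aug, map_sub, hw, AlgHom.commutes] at this
      apply hd
      simpa using this
    have h3 : IsUnit (ρ (w - algebraMap k _ d)) := h1.map ρ
    rw [isUnit_iff_constantCoeff, map_sub, AlgHom.commutes, map_sub, ← hd'] at h3
    have : (constantCoeff ((algebraMap k (PowerSeries k)) d) : k) = d := by
      change constantCoeff (C d) = d
      exact constantCoeff_C d
    rw [this, sub_self] at h3
    exact not_isUnit_zero h3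
  have h1 := key (z - algebraMap k _ (aug k r z)) (by rw [map_sub, AlgHom.commutes]; simp)
  rw [map_sub, AlgHom.commutes, map_sub] at h1
  have : (constantCoeff ((algebraMap k (PowerSeries k)) (aug k r z)) : k) = aug k r z := by
    change constantCoeff (C _) = _
    exact constantCoeff_C _
  rw [this] at h1
  exact sub_eq_zero.mp h1

lemma constantCoeff_algHom_x (r : ℕ) (ρ : ArSing.ring k r →ₐ[k] PowerSeries k) :
    constantCoeff (ρ (ArSing.x k r)) = 0 := by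
  rw [constantCoeff_algHom_eq_aug, aug_x]

/-- Maps from `A_r` to `k[[t]]` are determined by the images of `x` and `y`. -/
lemma algHom_toPS_ext (r : ℕ) (ρ₁ ρ₂ : ArSing.ring k r →ₐ[k] PowerSeries k)
    (hx : ρ₁ (ArSing.x k r) = ρ₂ (ArSing.x k r)) (hy : ρ₁ (ArSing.y k r) = ρ₂ (ArSing.y k r)) :
    ρ₁ = ρ₂ :=
  algHom_ext_xy k r (Ideal.span {(X : PowerSeries k)}) iInf_span_X_pow ρ₁ ρ₂ hx hy
    ((mem_span_X_iff _).mpr (constantCoeff_algHom_x k r ρ₁))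

/-- Every `k`-algebra map `A_(2n+1) → k[[t]]` factors through one of the two branches. -/
lemma algHom_toPS_cases (ρ : R k n →ₐ[k] PowerSeries k) :
    (∀ z, ρ z = sb (ρ (ArSing.x k (2 * n + 1))) (pi₁ k n z)) ∨
    (∀ z, ρ z = sb (ρ (ArSing.x k (2 * n + 1))) (pi₂ k n z)) := by
  set F := ρ (ArSing.x k (2 * n + 1)) with hF
  set G := ρ (ArSing.y k (2 * n + 1)) with hG
  have hF0 : constantCoeff F = 0 := constantCoeff_algHom_x k _ ρ
  have hrel : G ^ 2 = F ^ (2 * n + 1 + 1) := by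
    have e1 : ρ (ArSing.y k (2 * n + 1) ^ 2) = G ^ 2 := map_pow ρ _ 2
    have e2 : ρ (ArSing.x k (2 * n + 1) ^ (2 * n + 1 + 1)) = F ^ (2 * n + 1 + 1) := map_pow ρ _ _
    rw [← e1, ← e2]
    congr 1
    rw [y_sq k (2 * n + 1), map_pow, xMap_X]
  have hprod : (G - F ^ (n + 1)) * (G + F ^ (n + 1)) = 0 := by
    have : F ^ (2 * n + 1 + 1) = F ^ (n + 1) * F ^ (n + 1) := by rw [← pow_add]; congr 1; ring
    linear_combination hrel + this
  rcases mul_eq_zero.mp hprod with h | h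
  · left
    have hG' : G = F ^ (n + 1) := sub_eq_zero.mp h
    have := algHom_toPS_ext k _ ρ ((sb F).comp (pi₁ k n))
      (by rw [AlgHom.comp_apply, pi₁_x, sb_X hF0])
      (by rw [AlgHom.comp_apply, pi₁_y, map_pow, sb_X hF0]; exact hG')
    intro z
    exact DFunLike.congr_fun this z
  · right
    have hG' : G = -F ^ (n + 1) := eq_neg_of_add_eq_zero_left h
    have := algHom_toPS_ext k _ ρ ((sb F).comp (pi₂ k n))
      (by rw [AlgHom.comp_apply, pi₂_x, sb_X hF0])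
      (by rw [AlgHom.comp_apply, pi₂_y, map_neg, map_pow, sb_X hF0]; exact hG')
    intro z
    exact DFunLike.congr_fun this z


variable {k n}

lemma mem_max_of_pi₁ {z : R k n} (h : constantCoeff (pi₁ k n z) = 0) :
    z ∈ IsLocalRing.maximalIdeal (R k n) := by
  rw [mem_max_iff_aug, ← constantCoeff_algHom_eq_aug k _ (pi₁ k n)]; exact h

/-- Branch-preserving endomorphisms. -/
lemma exists_endo (h2 : (2 : k) ≠ 0) (T₁ T₂ : PowerSeries k) (h₁ : constantCoeff T₁ = 0)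
    (h₂ : constantCoeff T₂ = 0) (hT : T₁ - T₂ ∈ Ideal.span {(X : PowerSeries k) ^ (n + 1)}) :
    ∃ φ : R k n →ₐ[k] R k n, (∀ z, pi₁ k n (φ z) = sb T₁ (pi₁ k n z)) ∧
      (∀ z, pi₂ k n (φ z) = sb T₂ (pi₂ k n z)) := by
  obtain ⟨ξ, hξ₁, hξ₂⟩ := exists_of_congr h2 T₁ T₂ hT
  have hη : T₁ ^ (n + 1) - (-T₂ ^ (n + 1)) ∈ Ideal.span {(X : PowerSeries k) ^ (n + 1)} := by
    obtain ⟨e₁, he₁⟩ := X_dvd_iff.mpr h₁
    obtain ⟨e₂, he₂⟩ := X_dvd_iff.mpr h₂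
    rw [Ideal.mem_span_singleton, he₁, he₂]
    exact ⟨e₁ ^ (n + 1) + e₂ ^ (n + 1), by ring⟩
  obtain ⟨η, hη₁, hη₂⟩ := exists_of_congr h2 _ _ hη
  have hξm : ξ ∈ IsLocalRing.maximalIdeal (R k n) := mem_max_of_pi₁ (by rw [hξ₁]; exact h₁)
  have hηm : η ∈ IsLocalRing.maximalIdeal (R k n) :=
    mem_max_of_pi₁ (by rw [hη₁, map_pow, h₁]; exact zero_pow (Nat.succ_ne_zero n))
  have hrel : η ^ 2 = ξ ^ (2 * n + 1 + 1) := by
    apply pi_injective h2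
    · rw [map_pow, map_pow, hξ₁, hη₁, ← pow_mul]; congr 1; ring
    · rw [map_pow, map_pow, hξ₂, hη₂, neg_sq, ← pow_mul]; congr 1; ring
  obtain ⟨φ, hφx, hφy⟩ := exists_algHom_toAr k (2 * n + 1) (2 * n + 1) ξ η hξm hηm hrel
  refine ⟨φ, ?_, ?_⟩
  · have := algHom_toPS_ext k _ ((pi₁ k n).comp φ) ((sb T₁).comp (pi₁ k n)) (by
      rw [AlgHom.comp_apply, AlgHom.comp_apply, hφx, hξ₁, pi₁_x, sb_X h₁]) (by
      rw [AlgHom.comp_apply, AlgHom.comp_apply, hφy, hη₁, pi₁_y, map_pow, sb_X h₁])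
    intro z; exact DFunLike.congr_fun this z
  · have := algHom_toPS_ext k _ ((pi₂ k n).comp φ) ((sb T₂).comp (pi₂ k n)) (by
      rw [AlgHom.comp_apply, AlgHom.comp_apply, hφx, hξ₂, pi₂_x, sb_X h₂]) (by
      rw [AlgHom.comp_apply, AlgHom.comp_apply, hφy, hη₂, pi₂_y, map_neg, map_pow, sb_X h₂])
    intro z; exact DFunLike.congr_fun this z

/-- Branch-preserving automorphisms. -/
lemma exists_aut (h2 : (2 : k) ≠ 0) (T₁ T₂ : PowerSeries k) (h₁ : constantCoeff T₁ = 0)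
    (h₂ : constantCoeff T₂ = 0) (h₁' : coeff 1 T₁ ≠ 0) (h₂' : coeff 1 T₂ ≠ 0)
    (hT : T₁ - T₂ ∈ Ideal.span {(X : PowerSeries k) ^ (n + 1)}) :
    ∃ (φ : R k n ≃ₐ[k] R k n) (Q₁ Q₂ : PowerSeries k),
      constantCoeff Q₁ = 0 ∧ constantCoeff Q₂ = 0 ∧ sb Q₁ T₁ = X ∧ sb Q₂ T₂ = X ∧
      (∀ z, pi₁ k n (φ z) = sb T₁ (pi₁ k n z)) ∧ (∀ z, pi₂ k n (φ z) = sb T₂ (pi₂ k n z)) ∧
      (∀ z, pi₁ k n (φ.symm z) = sb Q₁ (pi₁ k n z)) ∧
      (∀ z, pi₂ k n (φ.symm z) = sb Q₂ (pi₂ k n z)) := by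
  obtain ⟨Q₁, hQ₁0, -, hTQ₁, hQT₁⟩ := exists_inv T₁ h₁ h₁'
  obtain ⟨Q₂, hQ₂0, -, hTQ₂, hQT₂⟩ := exists_inv T₂ h₂ h₂'
  have hQ : Q₁ - Q₂ ∈ Ideal.span {(X : PowerSeries k) ^ (n + 1)} :=
    inv_congr (n + 1) h₁ h₂ hQ₂0 hTQ₁ hQT₂ hT
  obtain ⟨φ₀, hφ₁, hφ₂⟩ := exists_endo h2 T₁ T₂ h₁ h₂ hT
  obtain ⟨ψ₀, hψ₁, hψ₂⟩ := exists_endo h2 Q₁ Q₂ hQ₁0 hQ₂0 hQ
  have hφψ : φ₀.comp ψ₀ = AlgHom.id k _ := by
    ext1 z
    apply pi_injective h2
    · change pi₁ k n (φ₀ (ψ₀ z)) = pi₁ k n z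
      rw [hφ₁, hψ₁, sb_sb_of_inv h₁ hQ₁0 hTQ₁]
    · change pi₂ k n (φ₀ (ψ₀ z)) = pi₂ k n z
      rw [hφ₂, hψ₂, sb_sb_of_inv h₂ hQ₂0 hTQ₂]
  have hψφ : ψ₀.comp φ₀ = AlgHom.id k _ := by
    ext1 z
    apply pi_injective h2
    · change pi₁ k n (ψ₀ (φ₀ z)) = pi₁ k n z
      rw [hψ₁, hφ₁, sb_sb_of_inv hQ₁0 h₁ hQT₁]
    · change pi₂ k n (ψ₀ (φ₀ z)) = pi₂ k n z
      rw [hψ₂, hφ₂, sb_sb_of_inv hQ₂0 h₂ hQT₂]
  exact ⟨AlgEquiv.ofAlgHom φ₀ ψ₀ hφψ hψφ, Q₁, Q₂, hQ₁0, hQ₂0, hQT₁, hQT₂, hφ₁, hφ₂, hψ₁, hψ₂⟩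

lemma coeff_one_mul_of_constantCoeff_zero {T : PowerSeries k} (hT : constantCoeff T = 0)
    (b : PowerSeries k) : coeff 1 (T * b) = coeff 1 T * constantCoeff b := by
  obtain ⟨e, rfl⟩ := X_dvd_iff.mpr hT
  rw [mul_assoc, show (1 : ℕ) = 0 + 1 from rfl, coeff_succ_X_mul, coeff_succ_X_mul]
  simp

lemma coeff_one_algHom (h : PowerSeries k →ₐ[k] PowerSeries k) (h0 : constantCoeff (h X) = 0)
    (a : PowerSeries k) : coeff 1 (h a) = coeff 1 (h X) * coeff 1 a := by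
  have h1 := eq_X_mul_shift_add_const a
  set a₁ := (mk fun p => coeff (p + 1) a) with ha₁
  have h4 : h (C (constantCoeff a)) = C (constantCoeff a) := h.commutes _
  have h5 : constantCoeff a₁ = coeff 1 a := by
    rw [ha₁, ← coeff_zero_eq_constantCoeff_apply, coeff_mk]
  conv_lhs => rw [h1]
  rw [map_add, map_mul, h4, map_add, coeff_one_mul_of_constantCoeff_zero h0,
    constantCoeff_algHom h h0, h5]
  simp

lemma coeff_one_sb {T : PowerSeries k} (hT : constantCoeff T = 0) (a : PowerSeries k) :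
    coeff 1 (sb T a) = coeff 1 T * coeff 1 a := by
  have := coeff_one_algHom (sb T) (by rw [sb_X hT]; exact hT) a
  rw [sb_X hT] at this
  exact this

variable (k n)

lemma pi₁_z₀ : pi₁ k n (ArSing.y k (2 * n + 1) - ArSing.x k (2 * n + 1) ^ (n + 1)) = 0 := by
  rw [map_sub, map_pow, pi₁_x, pi₁_y, sub_self]

lemma pi₂_z₀ : pi₂ k n (ArSing.y k (2 * n + 1) - ArSing.x k (2 * n + 1) ^ (n + 1)) =
    -(2 * X ^ (n + 1)) := by
  rw [map_sub, map_pow, pi₂_x, pi₂_y]; ring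

lemma pi₂_z₀' : pi₂ k n (ArSing.y k (2 * n + 1) + ArSing.x k (2 * n + 1) ^ (n + 1)) = 0 := by
  rw [map_add, map_pow, pi₂_x, pi₂_y]; ring

lemma pi₁_z₀' : pi₁ k n (ArSing.y k (2 * n + 1) + ArSing.x k (2 * n + 1) ^ (n + 1)) =
    2 * X ^ (n + 1) := by
  rw [map_add, map_pow, pi₁_x, pi₁_y]; ring

variable {k n}

/-- An automorphism either preserves or exchanges the two branches. -/
lemma aut_cases (h2 : (2 : k) ≠ 0) (σ : R k n ≃ₐ[k] R k n) :
    ((∀ z, pi₁ k n (σ z) = sb (pi₁ k n (σ (ArSing.x k (2 * n + 1)))) (pi₁ k n z)) ∧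
      (∀ z, pi₂ k n (σ z) = sb (pi₂ k n (σ (ArSing.x k (2 * n + 1)))) (pi₂ k n z))) ∨
    ((∀ z, pi₁ k n (σ z) = sb (pi₁ k n (σ (ArSing.x k (2 * n + 1)))) (pi₂ k n z)) ∧
      (∀ z, pi₂ k n (σ z) = sb (pi₂ k n (σ (ArSing.x k (2 * n + 1)))) (pi₁ k n z))) := by
  have hne : (2 : PowerSeries k) * X ^ (n + 1) ≠ 0 :=
    mul_ne_zero (two_ne_zero_ps h2) (pow_ne_zero _ X_ne_zero)
  have c₁ := algHom_toPS_cases k n ((pi₁ k n).comp (σ : R k n →ₐ[k] R k n))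
  have c₂ := algHom_toPS_cases k n ((pi₂ k n).comp (σ : R k n →ₐ[k] R k n))
  simp only [AlgHom.comp_apply, AlgEquiv.coe_toAlgHom] at c₁ c₂
  rcases c₁ with c₁ | c₁ <;> rcases c₂ with c₂ | c₂
  · exfalso
    set z₀ := ArSing.y k (2 * n + 1) - ArSing.x k (2 * n + 1) ^ (n + 1) with hz₀
    have e1 : pi₁ k n (σ z₀) = 0 := by rw [c₁, pi₁_z₀, map_zero]
    have e2 : pi₂ k n (σ z₀) = 0 := by rw [c₂, pi₁_z₀, map_zero]
    have e3 : σ z₀ = 0 := pi_injective h2 (by rw [e1, map_zero]) (by rw [e2, map_zero])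
    have e4 : z₀ = 0 := by
      have := congrArg σ.symm e3
      rwa [AlgEquiv.symm_apply_apply, map_zero] at this
    have e5 := pi₂_z₀ k n
    rw [← hz₀, e4, map_zero] at e5
    exact hne (neg_eq_zero.mp e5.symm)
  · exact Or.inl ⟨c₁, c₂⟩
  · exact Or.inr ⟨c₁, c₂⟩
  · exfalso
    set z₀ := ArSing.y k (2 * n + 1) + ArSing.x k (2 * n + 1) ^ (n + 1) with hz₀
    have e1 : pi₁ k n (σ z₀) = 0 := by rw [c₁, pi₂_z₀', map_zero]
    have e2 : pi₂ k n (σ z₀) = 0 := by rw [c₂, pi₂_z₀', map_zero]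
    have e3 : σ z₀ = 0 := pi_injective h2 (by rw [e1, map_zero]) (by rw [e2, map_zero])
    have e4 : z₀ = 0 := by
      have := congrArg σ.symm e3
      rwa [AlgEquiv.symm_apply_apply, map_zero] at this
    have e5 := pi₁_z₀' k n
    rw [← hz₀, e4, map_zero] at e5
    exact hne e5.symm


section Involution

variable (h2 : (2 : k) ≠ 0) (σ : R k n ≃ₐ[k] R k n) (hσ : ∀ a, σ (σ a) = a)

lemma constantCoeff_pi₁_apply_x (σ : R k n ≃ₐ[k] R k n) :
    constantCoeff (pi₁ k n (σ (ArSing.x k (2 * n + 1)))) = 0 :=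
  constantCoeff_algHom_x k _ ((pi₁ k n).comp (σ : R k n →ₐ[k] R k n))

lemma constantCoeff_pi₂_apply_x (σ : R k n ≃ₐ[k] R k n) :
    constantCoeff (pi₂ k n (σ (ArSing.x k (2 * n + 1)))) = 0 :=
  constantCoeff_algHom_x k _ ((pi₂ k n).comp (σ : R k n →ₐ[k] R k n))

lemma sb_C (T : PowerSeries k) (c : k) : sb T (C c) = C c := (sb T).commutes c

/-- The linearising coordinate `(t + c F)/2`. -/
noncomputable def lin (c : k) (F : PowerSeries k) : PowerSeries k := C (2⁻¹ : k) * (X + C c * F)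

lemma constantCoeff_lin (c : k) {F : PowerSeries k} (hF : constantCoeff F = 0) :
    constantCoeff (lin c F) = 0 := by
  unfold lin; simp [hF]

include h2 in
lemma coeff_one_lin {c c' : k} {F : PowerSeries k} (hc : coeff 1 F = c') (hcc : c * c' = 1) :
    coeff 1 (lin c F) = 1 := by
  unfold lin
  rw [coeff_C_mul, map_add, coeff_one_X, coeff_C_mul, hc, hcc, one_add_one_eq_two,
    inv_mul_cancel₀ h2]

/-- If `sb F F' = X` and `c^2 = 1` then `sb F (lin c F') = c * lin c F`. -/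
lemma sb_lin {c : k} (hc : c * c = 1) {F F' : PowerSeries k} (hF : constantCoeff F = 0)
    (hFF' : sb F F' = X) : sb F (lin c F') = C c * lin c F := by
  unfold lin
  rw [map_mul, map_add, map_mul, sb_C, sb_C, sb_X hF, hFF']
  have : C c * C c = (1 : PowerSeries k) := by rw [← map_mul, hc, map_one]
  linear_combination (-(C (2⁻¹ : k) * F)) * this

lemma lin_sub_mem (c : k) {F₁ F₂ : PowerSeries k} {I : Ideal (PowerSeries k)} (h : F₁ - F₂ ∈ I) :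
    lin c F₁ - lin c F₂ ∈ I := by
  have : lin c F₁ - lin c F₂ = C (2⁻¹ : k) * C c * (F₁ - F₂) := by unfold lin; ring
  rw [this]
  exact Ideal.mul_mem_left _ _ h

include h2 hσ in
/-- Branch-preserving involutions are linearisable on each branch. -/
lemma caseA (c₁ c₂ : k)
    (hA₁ : ∀ z, pi₁ k n (σ z) = sb (pi₁ k n (σ (ArSing.x k (2 * n + 1)))) (pi₁ k n z))
    (hA₂ : ∀ z, pi₂ k n (σ z) = sb (pi₂ k n (σ (ArSing.x k (2 * n + 1)))) (pi₂ k n z))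
    (hc₁ : coeff 1 (pi₁ k n (σ (ArSing.x k (2 * n + 1)))) = c₁)
    (hc₂ : coeff 1 (pi₂ k n (σ (ArSing.x k (2 * n + 1)))) = c₂)
    (hT : lin c₁ (pi₁ k n (σ (ArSing.x k (2 * n + 1)))) - lin c₂ (pi₂ k n (σ (ArSing.x k (2 * n + 1))))
      ∈ Ideal.span {(X : PowerSeries k) ^ (n + 1)}) :
    c₁ * c₁ = 1 ∧ c₂ * c₂ = 1 ∧ ∃ φ : R k n ≃ₐ[k] R k n,
      (∀ z, pi₁ k n (φ.symm (σ (φ z))) = sb (C c₁ * X) (pi₁ k n z)) ∧
      (∀ z, pi₂ k n (φ.symm (σ (φ z))) = sb (C c₂ * X) (pi₂ k n z)) := by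
  set F₁ := pi₁ k n (σ (ArSing.x k (2 * n + 1))) with hF₁
  set F₂ := pi₂ k n (σ (ArSing.x k (2 * n + 1))) with hF₂
  have hF₁0 : constantCoeff F₁ = 0 := constantCoeff_pi₁_apply_x σ
  have hF₂0 : constantCoeff F₂ = 0 := constantCoeff_pi₂_apply_x σ
  have inv₁ : ∀ a, sb F₁ (sb F₁ a) = a := by
    intro a
    have := hA₁ (σ (ArSing.xMap k (2 * n + 1) a))
    rw [hσ, hA₁, pi₁_xMap] at this
    exact this.symm
  have inv₂ : ∀ a, sb F₂ (sb F₂ a) = a := by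
    intro a
    have := hA₂ (σ (ArSing.xMap k (2 * n + 1) a))
    rw [hσ, hA₂, pi₂_xMap] at this
    exact this.symm
  have hFF₁ : sb F₁ F₁ = X := by
    have := inv₁ X
    rwa [sb_X hF₁0] at this
  have hFF₂ : sb F₂ F₂ = X := by
    have := inv₂ X
    rwa [sb_X hF₂0] at this
  have hcc₁ : c₁ * c₁ = 1 := by
    have := coeff_one_sb hF₁0 F₁
    rw [hFF₁, coeff_one_X, hc₁] at this
    exact this.symm
  have hcc₂ : c₂ * c₂ = 1 := by
    have := coeff_one_sb hF₂0 F₂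
    rw [hFF₂, coeff_one_X, hc₂] at this
    exact this.symm
  refine ⟨hcc₁, hcc₂, ?_⟩
  have hT₁0 := constantCoeff_lin c₁ hF₁0
  have hT₂0 := constantCoeff_lin c₂ hF₂0
  obtain ⟨φ, Q₁, Q₂, hQ₁0, hQ₂0, hQT₁, hQT₂, hφ₁, hφ₂, hψ₁, hψ₂⟩ :=
    exists_aut h2 (lin c₁ F₁) (lin c₂ F₂) hT₁0 hT₂0
      (by rw [coeff_one_lin h2 hc₁ hcc₁]; exact one_ne_zero)
      (by rw [coeff_one_lin h2 hc₂ hcc₂]; exact one_ne_zero) hT
  refine ⟨φ, ?_, ?_⟩
  · intro z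
    have e0 : constantCoeff (C c₁ * lin c₁ F₁) = 0 := by rw [map_mul, hT₁0, mul_zero]
    rw [hψ₁, hA₁, hφ₁, sb_sb hF₁0 hT₁0, sb_lin hcc₁ hF₁0 hFF₁, sb_sb hQ₁0 e0, map_mul, sb_C, hQT₁]
  · intro z
    have e0 : constantCoeff (C c₂ * lin c₂ F₂) = 0 := by rw [map_mul, hT₂0, mul_zero]
    rw [hψ₂, hA₂, hφ₂, sb_sb hF₂0 hT₂0, sb_lin hcc₂ hF₂0 hFF₂, sb_sb hQ₂0 e0, map_mul, sb_C, hQT₂]

include h2 hσ in
/-- Branch-exchanging involutions whose linear coefficients on the two branches agree. -/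
lemma caseB (c : k)
    (hB₁ : ∀ z, pi₁ k n (σ z) = sb (pi₁ k n (σ (ArSing.x k (2 * n + 1)))) (pi₂ k n z))
    (hB₂ : ∀ z, pi₂ k n (σ z) = sb (pi₂ k n (σ (ArSing.x k (2 * n + 1)))) (pi₁ k n z))
    (hc₁ : coeff 1 (pi₁ k n (σ (ArSing.x k (2 * n + 1)))) = c)
    (hc₂ : coeff 1 (pi₂ k n (σ (ArSing.x k (2 * n + 1)))) = c) :
    c * c = 1 ∧ ∃ φ : R k n ≃ₐ[k] R k n,
      (∀ z, pi₁ k n (φ.symm (σ (φ z))) = sb (C c * X) (pi₂ k n z)) ∧
      (∀ z, pi₂ k n (φ.symm (σ (φ z))) = sb (C c * X) (pi₁ k n z)) := by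
  set F₁ := pi₁ k n (σ (ArSing.x k (2 * n + 1))) with hF₁
  set F₂ := pi₂ k n (σ (ArSing.x k (2 * n + 1))) with hF₂
  have hF₁0 : constantCoeff F₁ = 0 := constantCoeff_pi₁_apply_x σ
  have hF₂0 : constantCoeff F₂ = 0 := constantCoeff_pi₂_apply_x σ
  have inv₁ : ∀ a, sb F₁ (sb F₂ a) = a := by
    intro a
    have := hB₁ (σ (ArSing.xMap k (2 * n + 1) a))
    rw [hσ, hB₂, pi₁_xMap] at this
    exact this.symm
  have inv₂ : ∀ a, sb F₂ (sb F₁ a) = a := by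
    intro a
    have := hB₂ (σ (ArSing.xMap k (2 * n + 1) a))
    rw [hσ, hB₁, pi₂_xMap] at this
    exact this.symm
  have hFF₁ : sb F₁ F₂ = X := by
    have := inv₁ X
    rwa [sb_X hF₂0] at this
  have hFF₂ : sb F₂ F₁ = X := by
    have := inv₂ X
    rwa [sb_X hF₁0] at this
  have hcc : c * c = 1 := by
    have := coeff_one_sb hF₁0 F₂
    rw [hFF₁, coeff_one_X, hc₁, hc₂] at this
    exact this.symm
  refine ⟨hcc, ?_⟩
  have hT₁0 := constantCoeff_lin c hF₁0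
  have hT₂0 := constantCoeff_lin c hF₂0
  have hT : lin c F₁ - lin c F₂ ∈ Ideal.span {(X : PowerSeries k) ^ (n + 1)} :=
    lin_sub_mem c (pi_sub_mem _)
  obtain ⟨φ, Q₁, Q₂, hQ₁0, hQ₂0, hQT₁, hQT₂, hφ₁, hφ₂, hψ₁, hψ₂⟩ :=
    exists_aut h2 (lin c F₁) (lin c F₂) hT₁0 hT₂0
      (by rw [coeff_one_lin h2 hc₁ hcc]; exact one_ne_zero)
      (by rw [coeff_one_lin h2 hc₂ hcc]; exact one_ne_zero) hT
  refine ⟨φ, ?_, ?_⟩
  · intro z
    have e0 : constantCoeff (C c * lin c F₁) = 0 := by rw [map_mul, hT₁0, mul_zero]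
    rw [hψ₁, hB₁, hφ₂, sb_sb hF₁0 hT₂0, sb_lin hcc hF₁0 hFF₁, sb_sb hQ₁0 e0, map_mul, sb_C, hQT₁]
  · intro z
    have e0 : constantCoeff (C c * lin c F₂) = 0 := by rw [map_mul, hT₂0, mul_zero]
    rw [hψ₂, hB₂, hφ₁, sb_sb hF₂0 hT₁0, sb_lin hcc hF₂0 hFF₂, sb_sb hQ₂0 e0, map_mul, sb_C, hQT₂]

end Involution

section Identify

lemma sb_CX_X (c : k) : sb (C c * X) (X : PowerSeries k) = C c * X :=
  sb_X (by simp)

lemma sb_CX_pow (c : k) (j : ℕ) : sb (C c * X) ((X : PowerSeries k) ^ j) = C (c ^ j) * X ^ j := by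
  rw [map_pow, sb_CX_X, mul_pow, ← map_pow]

variable (h2 : (2 : k) ≠ 0)

include h2 in
lemma eq_smul_x {w : R k n} {c₁ : k} (h₁ : pi₁ k n w = C c₁ * X) (h₂ : pi₂ k n w = C c₁ * X) :
    w = algebraMap k _ c₁ * ArSing.x k (2 * n + 1) := by
  apply pi_injective h2
  · rw [h₁, map_mul, AlgHom.commutes, pi₁_x]; rfl
  · rw [h₂, map_mul, AlgHom.commutes, pi₂_x]; rfl

include h2 in
lemma eq_smul_y {w : R k n} {d : k} (h₁ : pi₁ k n w = C d * X ^ (n + 1))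
    (h₂ : pi₂ k n w = -(C d * X ^ (n + 1))) :
    w = algebraMap k _ d * ArSing.y k (2 * n + 1) := by
  apply pi_injective h2
  · rw [h₁, map_mul, AlgHom.commutes, pi₁_y]; rfl
  · rw [h₂, map_mul, AlgHom.commutes, pi₂_y, mul_neg]; rfl

end Identify

end Groth.Agent.R2.H64.ArOdd
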