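import Mathlib
import Groth.Prelude.Def_W4c1arstab1appArSing

set_option autoImplicit false
universe u
open MvPowerSeries

namespace Groth.Agent.R2.H64.ArSing

variable (k : Type u) [Field k] (r : ℕ)

/-- the coefficient ring `k[[x]]` in the form `MvPowerSeries (Fin 1) k`. -/
abbrev A₁ : Type u := MvPowerSeries (Fin 1) k

/-- `k[[x,y]] ≃ k[[x]][[Y]]`, with `x ↦ C x`, `y ↦ Y`. -/
noncomputable def e₁ : MvPowerSeries (Fin 2) k ≃ₐ[k] PowerSeries (A₁ k) :=
  (renameEquiv k (Equiv.swap (0 : Fin 2) 1)).trans (finSuccEquiv k 1)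

lemma e₁_x : e₁ k (X 0) = PowerSeries.C (X 0 : A₁ k) := by
  have h := finSuccEquiv_X_succ (R := k) (n := 1) 0
  simpa [e₁, renameEquiv] using h

lemma e₁_y : e₁ k (X 1) = (PowerSeries.X : PowerSeries (A₁ k)) := by
  simp [e₁]

/-- The Weierstrass polynomial `Y^2 - x^(r+1)` over `k[[x]]`. -/
noncomputable def g : Polynomial (A₁ k) :=
  Polynomial.X ^ 2 - Polynomial.C ((X 0 : A₁ k) ^ (r + 1))

lemma e₁_eqn : e₁ k (ArSing.eqn k r) = ((g k r : Polynomial (A₁ k)) : PowerSeries (A₁ k)) := by
  simp [ArSing.eqn, g, e₁_x, e₁_y]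

lemma g_monic : (g k r).Monic := by
  unfold g
  apply Polynomial.monic_X_pow_sub_C
  norm_num

lemma g_natDegree : (g k r).natDegree = 2 := by
  unfold g
  exact Polynomial.natDegree_X_pow_sub_C

lemma g_distinguished :
    (g k r).IsDistinguishedAt (Ideal.span (Set.range (X : Fin 1 → A₁ k))) := by
  refine ⟨⟨?_⟩, g_monic k r⟩
  intro n hn
  rw [g_natDegree] at hn
  unfold g
  rw [Polynomial.coeff_sub, Polynomial.coeff_X_pow, Polynomial.coeff_C]
  rw [if_neg (by omega)]
  rw [zero_sub]
  apply neg_mem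
  split_ifs with h
  · rw [pow_succ]
    apply Ideal.mul_mem_left
    exact Ideal.subset_span ⟨0, rfl⟩
  · exact Ideal.zero_mem _

/-- Step 2: pass to the quotient. -/
noncomputable def e₂ : ArSing.ring k r ≃ₐ[k]
    (PowerSeries (A₁ k) ⧸ Ideal.span {((g k r : Polynomial (A₁ k)) : PowerSeries (A₁ k))}) :=
  Ideal.quotientEquivAlg _ _ (e₁ k) (by
    rw [Ideal.map_span, Set.image_singleton]
    congr 2
    exact (e₁_eqn k r).symm)

/-- Step 3: Weierstrass. -/
noncomputable def e₃ : AdjoinRoot (g k r) ≃ₐ[A₁ k]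
    (PowerSeries (A₁ k) ⧸ Ideal.span {((g k r : Polynomial (A₁ k)) : PowerSeries (A₁ k))}) :=
  (g_distinguished k r).algEquivQuotient

noncomputable def Ψ : ArSing.ring k r ≃ₐ[k] AdjoinRoot (g k r) :=
  (e₂ k r).trans ((e₃ k r).restrictScalars k).symm

lemma Ψ_x : Ψ k r (ArSing.x k r) = AdjoinRoot.of (g k r) (X 0) := by
  unfold Ψ
  rw [AlgEquiv.trans_apply, AlgEquiv.symm_apply_eq]
  change _ = e₃ k r (algebraMap (A₁ k) (AdjoinRoot (g k r)) (X 0))
  rw [AlgEquiv.commutes]
  change Ideal.Quotient.mk _ (e₁ k (X 0)) = _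
  rw [e₁_x]
  rfl

lemma Ψ_y : Ψ k r (ArSing.y k r) = AdjoinRoot.root (g k r) := by
  unfold Ψ
  rw [AlgEquiv.trans_apply, AlgEquiv.symm_apply_eq]
  change Ideal.Quotient.mk _ (e₁ k (X 1)) = e₃ k r (Ideal.Quotient.mk _ Polynomial.X)
  rw [e₁_y]
  change _ = Ideal.Quotient.mk _ ((Polynomial.X : Polynomial (A₁ k)) : PowerSeries (A₁ k))
  rw [Polynomial.coe_X]


section General

/-- Two `k`-algebra maps out of `k[[t]]` agreeing on `t`, with value in an ideal `J` which is
adically separated, are equal. -/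
lemma algHom_ext_of_X {B : Type*} [CommRing B] [Algebra k B] (J : Ideal B)
    (hJ : ⨅ n : ℕ, J ^ n = ⊥) (h₁ h₂ : PowerSeries k →ₐ[k] B)
    (hX : h₁ PowerSeries.X = h₂ PowerSeries.X) (hJX : h₁ PowerSeries.X ∈ J) : h₁ = h₂ := by
  have key : ∀ n : ℕ, ∀ f : PowerSeries k, h₁ f - h₂ f ∈ J ^ n := by
    intro n
    induction n with
    | zero => intro f; simp
    | succ n ih =>
      intro f
      have h1 := PowerSeries.eq_X_mul_shift_add_const f
      set f₁ := (PowerSeries.mk fun p => PowerSeries.coeff (p + 1) f) with hf₁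
      have h4 : ∀ τ : PowerSeries k →ₐ[k] B,
          τ (PowerSeries.C (PowerSeries.constantCoeff f)) =
            algebraMap k B (PowerSeries.constantCoeff f) := fun τ => by
        exact τ.commutes _
      have h2 : h₁ f - h₂ f = h₁ PowerSeries.X * (h₁ f₁ - h₂ f₁) := by
        conv_lhs => rw [h1]
        rw [map_add, map_add, map_mul, map_mul, h4, h4, ← hX]; ring
      rw [h2, pow_succ']
      exact Ideal.mul_mem_mul hJX (ih f₁)
  ext f
  have : h₁ f - h₂ f ∈ (⨅ n : ℕ, J ^ n) := by
    rw [Ideal.mem_iInf]; exact fun n => key n f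
  rw [hJ] at this
  exact sub_eq_zero.mp this

end General


section Local

/-- The augmentation `k[[x,y]]/(y^2-x^(r+1)) → k`. -/
noncomputable def aug : ArSing.ring k r →ₐ[k] k :=
  Ideal.Quotient.liftₐ (Ideal.span {ArSing.eqn k r})
    ({ MvPowerSeries.constantCoeff (σ := Fin 2) (R := k) with
        commutes' := fun c => by simp [MvPowerSeries.algebraMap_apply] } :
      MvPowerSeries (Fin 2) k →ₐ[k] k)
    (by
      intro a ha
      obtain ⟨c, rfl⟩ := Ideal.mem_span_singleton'.mp ha
      change MvPowerSeries.constantCoeff (c * ArSing.eqn k r) = 0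
      simp [ArSing.eqn])

lemma aug_mk (f : MvPowerSeries (Fin 2) k) :
    aug k r (Ideal.Quotient.mk _ f) = MvPowerSeries.constantCoeff f := rfl

instance : Nontrivial (ArSing.ring k r) :=
  (aug k r).toRingHom.domain_nontrivial

instance : IsLocalRing (ArSing.ring k r) :=
  IsLocalRing.of_surjective' (Ideal.Quotient.mk (Ideal.span {ArSing.eqn k r}))
    Ideal.Quotient.mk_surjective

lemma x_mem_max : ArSing.x k r ∈ IsLocalRing.maximalIdeal (ArSing.ring k r) := by
  rw [IsLocalRing.mem_maximalIdeal, mem_nonunits_iff]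
  intro h
  have := h.map (aug k r)
  rw [aug_mk] at this
  simp at this

lemma y_mem_max : ArSing.y k r ∈ IsLocalRing.maximalIdeal (ArSing.ring k r) := by
  rw [IsLocalRing.mem_maximalIdeal, mem_nonunits_iff]
  intro h
  have := h.map (aug k r)
  rw [aug_mk] at this
  simp at this

lemma iInf_max_pow : ⨅ n : ℕ, IsLocalRing.maximalIdeal (ArSing.ring k r) ^ n = ⊥ :=
  Ideal.iInf_pow_eq_bot_of_isLocalRing _ (IsLocalRing.maximalIdeal.isMaximal _).ne_top

end Local


section Struct

lemma xMap_X : ArSing.xMap k r PowerSeries.X = ArSing.x k r := by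
  unfold ArSing.xMap
  rw [AlgHom.comp_apply]
  change Ideal.Quotient.mk _ _ = _
  congr 1
  exact PowerSeries.substAlgHom_X _

/-- `k[[t]] ≃ MvPowerSeries (Fin 1) k`. -/
noncomputable def ι : PowerSeries k ≃ₐ[k] A₁ k :=
  renameEquiv k (Equiv.ofUnique Unit (Fin 1))

lemma ι_X : ι k PowerSeries.X = (X 0 : A₁ k) := by
  unfold ι PowerSeries.X
  simp [renameEquiv]

/-- The inclusion `k[[t]] → A_r` obtained through the Weierstrass model. -/
noncomputable def incl : PowerSeries k →ₐ[k] ArSing.ring k r :=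
  ((Ψ k r).symm : AdjoinRoot (g k r) →ₐ[k] ArSing.ring k r).comp
    ((IsScalarTower.toAlgHom k (A₁ k) (AdjoinRoot (g k r))).comp (ι k : PowerSeries k →ₐ[k] A₁ k))

lemma incl_apply (a : PowerSeries k) :
    incl k r a = (Ψ k r).symm (AdjoinRoot.of (g k r) (ι k a)) := rfl

lemma incl_eq_xMap : incl k r = ArSing.xMap k r := by
  apply algHom_ext_of_X k (IsLocalRing.maximalIdeal (ArSing.ring k r)) (iInf_max_pow k r)
  · rw [xMap_X, incl_apply, ι_X, ← Ψ_x, AlgEquiv.symm_apply_apply]
  · rw [incl_apply, ι_X, ← Ψ_x, AlgEquiv.symm_apply_apply]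
    exact x_mem_max k r

end Struct


section Decomp

open Polynomial in
lemma adjoinRoot_exists (w : AdjoinRoot (g k r)) :
    ∃ a b : A₁ k, w = AdjoinRoot.of (g k r) a + AdjoinRoot.of (g k r) b * AdjoinRoot.root (g k r) := by
  obtain ⟨p, rfl⟩ := AdjoinRoot.mk_surjective (g := g k r) w
  have hdeg : (p %ₘ g k r).natDegree ≤ 1 := by
    have h := Polynomial.natDegree_modByMonic_lt p (g_monic k r) (by
      intro h
      have := g_natDegree k r
      rw [h] at this
      simp at this)
    rw [g_natDegree] at h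
    omega
  obtain ⟨b, a, hab⟩ := Polynomial.exists_eq_X_add_C_of_natDegree_le_one hdeg
  refine ⟨a, b, ?_⟩
  have h1 : AdjoinRoot.mk (g k r) p = AdjoinRoot.mk (g k r) (p %ₘ g k r) := by
    rw [AdjoinRoot.mk_eq_mk]
    rw [Polynomial.modByMonic_eq_sub_mul_div (p := p) (q := g k r)]
    simp
  rw [h1, hab]
  simp [add_comm]

open Polynomial in
lemma adjoinRoot_unique (a b : A₁ k)
    (h : AdjoinRoot.of (g k r) a + AdjoinRoot.of (g k r) b * AdjoinRoot.root (g k r) = 0) :
    a = 0 ∧ b = 0 := by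
  have h1 : AdjoinRoot.mk (g k r) (Polynomial.C a + Polynomial.C b * Polynomial.X) = 0 := by
    simpa using h
  rw [AdjoinRoot.mk_eq_zero] at h1
  have h2 : Polynomial.C a + Polynomial.C b * Polynomial.X = 0 := by
    by_contra hne
    have := Polynomial.natDegree_le_of_dvd h1 hne
    rw [g_natDegree] at this
    have h3 : (Polynomial.C a + Polynomial.C b * Polynomial.X : Polynomial (A₁ k)).natDegree ≤ 1 := by
      compute_degree
    omega
  have ha : a = 0 := by
    have := congrArg (fun p => Polynomial.coeff p 0) h2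
    simpa using this
  have hb : b = 0 := by
    have := congrArg (fun p => Polynomial.coeff p 1) h2
    simpa using this
  exact ⟨ha, hb⟩

theorem exists_decomp (z : ArSing.ring k r) :
    ∃ a b : PowerSeries k, z = ArSing.xMap k r a + ArSing.xMap k r b * ArSing.y k r := by
  obtain ⟨a, b, hab⟩ := adjoinRoot_exists k r (Ψ k r z)
  refine ⟨(ι k).symm a, (ι k).symm b, ?_⟩
  rw [← incl_eq_xMap, incl_apply, incl_apply, AlgEquiv.apply_symm_apply, AlgEquiv.apply_symm_apply]
  apply (Ψ k r).injective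
  rw [hab, map_add, map_mul, AlgEquiv.apply_symm_apply, AlgEquiv.apply_symm_apply, Ψ_y]

theorem decomp_unique (a b : PowerSeries k)
    (h : ArSing.xMap k r a + ArSing.xMap k r b * ArSing.y k r = 0) : a = 0 ∧ b = 0 := by
  rw [← incl_eq_xMap, incl_apply, incl_apply] at h
  have h' := congrArg (Ψ k r) h
  rw [map_add, map_mul, AlgEquiv.apply_symm_apply, AlgEquiv.apply_symm_apply, Ψ_y, map_zero] at h'
  obtain ⟨h1, h2⟩ := adjoinRoot_unique k r _ _ h'
  exact ⟨by simpa using h1, by simpa using h2⟩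

end Decomp


section Arith

lemma y_sq : ArSing.y k r ^ 2 = ArSing.xMap k r (PowerSeries.X ^ (r + 1)) := by
  rw [map_pow, xMap_X]
  have h : Ideal.Quotient.mk (Ideal.span {ArSing.eqn k r}) (ArSing.eqn k r) = 0 :=
    Ideal.Quotient.eq_zero_iff_mem.mpr (Ideal.subset_span rfl)
  unfold ArSing.eqn at h
  rw [map_sub, map_pow, map_pow, sub_eq_zero] at h
  exact h

lemma mul_decomp (a b c d : PowerSeries k) :
    (ArSing.xMap k r a + ArSing.xMap k r b * ArSing.y k r) *
      (ArSing.xMap k r c + ArSing.xMap k r d * ArSing.y k r) =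
    ArSing.xMap k r (a * c + PowerSeries.X ^ (r + 1) * (b * d)) +
      ArSing.xMap k r (a * d + b * c) * ArSing.y k r := by
  have hy := y_sq k r
  simp only [map_add, map_mul]
  rw [← hy]
  ring

lemma decomp_ext {a b c d : PowerSeries k}
    (h : ArSing.xMap k r a + ArSing.xMap k r b * ArSing.y k r =
      ArSing.xMap k r c + ArSing.xMap k r d * ArSing.y k r) : a = c ∧ b = d := by
  have h' : ArSing.xMap k r (a - c) + ArSing.xMap k r (b - d) * ArSing.y k r = 0 := by
    rw [map_sub, map_sub]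
    linear_combination h
  obtain ⟨h1, h2⟩ := decomp_unique k r _ _ h'
  exact ⟨sub_eq_zero.mp h1, sub_eq_zero.mp h2⟩

/-- Two `k`-algebra maps `k[[t]] → A_r` which agree on `t`, with value in the maximal ideal, are equal. -/
lemma algHom_ext_max (h₁ h₂ : PowerSeries k →ₐ[k] ArSing.ring k r)
    (hX : h₁ PowerSeries.X = h₂ PowerSeries.X)
    (hm : h₁ PowerSeries.X ∈ IsLocalRing.maximalIdeal (ArSing.ring k r)) : h₁ = h₂ :=
  algHom_ext_of_X k _ (iInf_max_pow k r) h₁ h₂ hX hm

/-- `k`-algebra maps out of `A_r` into a ring in which a suitable ideal is separated are determined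
by the images of `x` and `y`. -/
lemma algHom_ext_xy {B : Type*} [CommRing B] [Algebra k B] (J : Ideal B)
    (hJ : ⨅ n : ℕ, J ^ n = ⊥) (h₁ h₂ : ArSing.ring k r →ₐ[k] B)
    (hx : h₁ (ArSing.x k r) = h₂ (ArSing.x k r)) (hy : h₁ (ArSing.y k r) = h₂ (ArSing.y k r))
    (hJx : h₁ (ArSing.x k r) ∈ J) : h₁ = h₂ := by
  have h := algHom_ext_of_X k J hJ (h₁.comp (ArSing.xMap k r)) (h₂.comp (ArSing.xMap k r))
    (by simp only [AlgHom.comp_apply, xMap_X, hx])
    (by simp only [AlgHom.comp_apply, xMap_X]; exact hJx)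
  ext z
  obtain ⟨a, b, rfl⟩ := exists_decomp k r z
  have ha := DFunLike.congr_fun h a
  have hb := DFunLike.congr_fun h b
  simp only [AlgHom.comp_apply] at ha hb
  simp only [map_add, map_mul, ha, hb, hy]

end Arith

section Flat

/-- A ring map `f : R → S` such that `S = f(R) ⊕ f(R) y` is flat. -/
lemma flat_of_decomp {R S : Type*} [CommRing R] [CommRing S] (f : R →+* S) (y : S)
    (hex : ∀ z : S, ∃ a b : R, z = f a + f b * y)
    (huniq : ∀ a b : R, f a + f b * y = 0 → a = 0 ∧ b = 0) : f.Flat := by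
  letI := f.toAlgebra
  change Module.Flat R S
  let L : (R × R) →ₗ[R] S :=
    { toFun := fun p => f p.1 + f p.2 * y
      map_add' := fun p q => by simp only [Prod.fst_add, Prod.snd_add, map_add]; ring
      map_smul' := fun c p => by
        simp only [Prod.smul_fst, Prod.smul_snd, smul_eq_mul, map_mul, RingHom.id_apply]
        rw [Algebra.smul_def]
        change _ = f c * _
        ring }
  have hbij : Function.Bijective L := by
    constructor
    · rw [injective_iff_map_eq_zero]
      intro p hp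
      obtain ⟨h1, h2⟩ := huniq p.1 p.2 hp
      exact Prod.ext h1 h2
    · intro z
      obtain ⟨a, b, rfl⟩ := hex z
      exact ⟨(a, b), rfl⟩
  exact Module.Flat.of_linearEquiv (LinearEquiv.ofBijective L hbij).symm

lemma xMap_flat : (ArSing.xMap k r).toRingHom.Flat :=
  flat_of_decomp _ (ArSing.y k r) (exists_decomp k r) (decomp_unique k r)

end Flat

section Length

/-- Length of a quotient `B ⧸ I` which is, via a ring map from `k[[t]]`, identified with `k[[t]]/(t^n)`. -/
lemma length_quotient_eq_of_powerSeries {B : Type*} [CommRing B] (I : Ideal B)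
    (h : PowerSeries k →+* B) (n : ℕ)
    (hsurj : ∀ z : B, ∃ a : PowerSeries k, z - h a ∈ I)
    (hker : ∀ a : PowerSeries k, h a ∈ I ↔ PowerSeries.X ^ n ∣ a) :
    Module.length B (B ⧸ I) = n := by
  set ψ : PowerSeries k →+* (B ⧸ I) := (Ideal.Quotient.mk I).comp h with hψ
  have hψsurj : Function.Surjective ψ := by
    intro q
    obtain ⟨z, rfl⟩ := Ideal.Quotient.mk_surjective q
    obtain ⟨a, ha⟩ := hsurj z
    refine ⟨a, ?_⟩
    rw [hψ, RingHom.comp_apply, eq_comm, Ideal.Quotient.mk_eq_mk_iff_sub_mem]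
    exact ha
  have h1 : Module.length B (B ⧸ I) = Module.length (B ⧸ I) (B ⧸ I) :=
    Module.length_eq_of_surjective (S := B) (R := B ⧸ I) (M := B ⧸ I) Ideal.Quotient.mk_surjective
  let _ : Algebra (PowerSeries k) (B ⧸ I) := ψ.toAlgebra
  have h2 : Module.length (PowerSeries k) (B ⧸ I) = Module.length (B ⧸ I) (B ⧸ I) :=
    Module.length_eq_of_surjective (S := PowerSeries k) (R := B ⧸ I) (M := B ⧸ I) hψsurj
  rw [h1, ← h2]
  have hker' : LinearMap.ker (Algebra.linearMap (PowerSeries k) (B ⧸ I)) =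
      IsLocalRing.maximalIdeal (PowerSeries k) ^ n := by
    ext a
    rw [LinearMap.mem_ker, Algebra.linearMap_apply]
    change ψ a = 0 ↔ _
    rw [hψ, RingHom.comp_apply, Ideal.Quotient.eq_zero_iff_mem, hker,
      PowerSeries.maximalIdeal_eq_span_X, Ideal.span_singleton_pow, Ideal.mem_span_singleton]
  have e := LinearMap.quotKerEquivOfSurjective (Algebra.linearMap (PowerSeries k) (B ⧸ I)) hψsurj
  rw [← e.length_eq]
  rw [hker']
  exact IsDiscreteValuationRing.length_quotient_pow_maximalIdeal (PowerSeries k) n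

end Length

end Groth.Agent.R2.H64.ArSing
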