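import Groth.Agent.R2.H64ArSing
import Groth.Agent.R2.H64PSEvenOdd

/-!
# More on the rings `k[[x,y]]/(y^2 - x^(r+1))` (helper64)

* the maximal ideal (`= ker aug = (x, y)`), membership in terms of the decomposition;
* even/odd parts of power series in one variable;
* `k`-algebra maps `k[[t]] → A_r` with prescribed value in the maximal ideal (`ofElem`);
* comparison of such maps modulo an ideal (`algHom_sub_mem_of_X`).
-/

set_option autoImplicit false
universe u

namespace Groth.Agent.R2.H64.ArSing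

variable (k : Type u) [Field k] (r : ℕ)

section MaxIdeal

lemma aug_surjective : Function.Surjective (aug k r) := fun c =>
  ⟨algebraMap k _ c, by simp⟩

lemma maximalIdeal_eq_ker_aug :
    IsLocalRing.maximalIdeal (ArSing.ring k r) = RingHom.ker (aug k r) := by
  have hmax : (RingHom.ker (aug k r)).IsMaximal :=
    RingHom.ker_isMaximal_of_surjective (aug k r) (aug_surjective k r)
  exact (IsLocalRing.eq_maximalIdeal hmax).symm

lemma mem_max_iff_aug (z : ArSing.ring k r) :
    z ∈ IsLocalRing.maximalIdeal (ArSing.ring k r) ↔ aug k r z = 0 := by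
  rw [maximalIdeal_eq_ker_aug, RingHom.mem_ker]

lemma aug_comp_xMap : (aug k r).comp (ArSing.xMap k r) =
    ({ PowerSeries.constantCoeff (R := k) with
        commutes' := fun c => by simp } : PowerSeries k →ₐ[k] k) := by
  apply algHom_ext_of_X k (⊥ : Ideal k) (by
    apply le_antisymm _ bot_le
    exact (iInf_le _ 1).trans (by simp))
  · rw [AlgHom.comp_apply, xMap_X]
    change aug k r (Ideal.Quotient.mk _ _) = PowerSeries.constantCoeff PowerSeries.X
    rw [aug_mk]; simp
  · rw [AlgHom.comp_apply, xMap_X]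
    change aug k r (Ideal.Quotient.mk _ _) ∈ _
    rw [aug_mk]; simp

lemma aug_xMap (a : PowerSeries k) : aug k r (ArSing.xMap k r a) = PowerSeries.constantCoeff a :=
  DFunLike.congr_fun (aug_comp_xMap k r) a

lemma aug_y : aug k r (ArSing.y k r) = 0 := by
  change aug k r (Ideal.Quotient.mk _ _) = 0
  rw [aug_mk]; simp

lemma aug_x : aug k r (ArSing.x k r) = 0 := by
  change aug k r (Ideal.Quotient.mk _ _) = 0
  rw [aug_mk]; simp

lemma aug_decomp (a b : PowerSeries k) :
    aug k r (ArSing.xMap k r a + ArSing.xMap k r b * ArSing.y k r) = PowerSeries.constantCoeff a := by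
  rw [map_add, map_mul, aug_xMap, aug_y]; simp

lemma decomp_mem_max_iff (a b : PowerSeries k) :
    ArSing.xMap k r a + ArSing.xMap k r b * ArSing.y k r ∈
      IsLocalRing.maximalIdeal (ArSing.ring k r) ↔ PowerSeries.constantCoeff a = 0 := by
  rw [mem_max_iff_aug, aug_decomp]

lemma maximalIdeal_eq_span :
    IsLocalRing.maximalIdeal (ArSing.ring k r) = Ideal.span {ArSing.x k r, ArSing.y k r} := by
  apply le_antisymm
  · intro z hz
    obtain ⟨a, b, rfl⟩ := exists_decomp k r z
    rw [decomp_mem_max_iff] at hz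
    obtain ⟨a', rfl⟩ := PowerSeries.X_dvd_iff.mpr hz
    rw [map_mul, xMap_X]
    refine Ideal.add_mem _ (Ideal.mul_mem_right _ _ (Ideal.subset_span (by simp)))
      (Ideal.mul_mem_left _ _ (Ideal.subset_span (by simp)))
  · rw [Ideal.span_le]
    rintro z (rfl | rfl)
    · exact x_mem_max k r
    · exact y_mem_max k r

end MaxIdeal

section Hom

variable (r' : ℕ)

/-- A `k`-algebra map `A_r' → A_r` sending `x, y` into the maximal ideal commutes with the
augmentations. -/
lemma aug_comp_of_mem (φ : ArSing.ring k r' →ₐ[k] ArSing.ring k r)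
    (hx : φ (ArSing.x k r') ∈ IsLocalRing.maximalIdeal (ArSing.ring k r))
    (hy : φ (ArSing.y k r') ∈ IsLocalRing.maximalIdeal (ArSing.ring k r)) :
    (aug k r).comp φ = aug k r' := by
  rw [mem_max_iff_aug] at hx hy
  apply algHom_ext_xy k r' (⊥ : Ideal k) (by
    apply le_antisymm _ bot_le
    exact (iInf_le _ 1).trans (by simp))
  · rw [AlgHom.comp_apply, hx, aug_x]
  · rw [AlgHom.comp_apply, hy, aug_y]
  · rw [AlgHom.comp_apply, hx]; simp

lemma map_mem_max_of_mem (φ : ArSing.ring k r' →ₐ[k] ArSing.ring k r)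
    (hx : φ (ArSing.x k r') ∈ IsLocalRing.maximalIdeal (ArSing.ring k r))
    (hy : φ (ArSing.y k r') ∈ IsLocalRing.maximalIdeal (ArSing.ring k r))
    {z : ArSing.ring k r'} (hz : z ∈ IsLocalRing.maximalIdeal (ArSing.ring k r')) :
    φ z ∈ IsLocalRing.maximalIdeal (ArSing.ring k r) := by
  rw [mem_max_iff_aug] at hz ⊢
  have := DFunLike.congr_fun (aug_comp_of_mem k r r' φ hx hy) z
  rw [AlgHom.comp_apply] at this
  rw [this, hz]

lemma map_max_ne_top (φ : ArSing.ring k r' →ₐ[k] ArSing.ring k r)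
    (hx : φ (ArSing.x k r') ∈ IsLocalRing.maximalIdeal (ArSing.ring k r))
    (hy : φ (ArSing.y k r') ∈ IsLocalRing.maximalIdeal (ArSing.ring k r))
    (I : Ideal (ArSing.ring k r')) (hI : I.IsMaximal) : Ideal.map φ I ≠ ⊤ := by
  intro h
  have hI' : I = IsLocalRing.maximalIdeal _ := IsLocalRing.eq_maximalIdeal hI
  have hle : Ideal.map φ I ≤ IsLocalRing.maximalIdeal (ArSing.ring k r) := by
    rw [Ideal.map_le_iff_le_comap, hI']
    intro z hz
    exact map_mem_max_of_mem k r r' φ hx hy hz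
  rw [h] at hle
  exact (IsLocalRing.maximalIdeal.isMaximal _).ne_top (top_le_iff.mp hle)

end Hom



section OfElem

/-- For `w` in the maximal ideal of `A_r`, there is a `k`-algebra map `k[[t]] → A_r`, `t ↦ w`. -/
lemma exists_algHom_X_eq (w : ArSing.ring k r)
    (hw : w ∈ IsLocalRing.maximalIdeal (ArSing.ring k r)) :
    ∃ h : PowerSeries k →ₐ[k] ArSing.ring k r, h PowerSeries.X = w := by
  obtain ⟨W, rfl⟩ := Ideal.Quotient.mk_surjective w
  rw [mem_max_iff_aug, aug_mk] at hw
  refine ⟨(Ideal.Quotient.mkₐ k (Ideal.span {ArSing.eqn k r})).comp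
    (PowerSeries.substAlgHom (PowerSeries.HasSubst.of_constantCoeff_zero hw)), ?_⟩
  rw [AlgHom.comp_apply, PowerSeries.substAlgHom_X]
  rfl

/-- A choice of `k`-algebra map `k[[t]] → A_r` with `t ↦ w` (for `w` in the maximal ideal). -/
noncomputable def ofElem (w : ArSing.ring k r)
    (hw : w ∈ IsLocalRing.maximalIdeal (ArSing.ring k r)) : PowerSeries k →ₐ[k] ArSing.ring k r :=
  (exists_algHom_X_eq k r w hw).choose

lemma ofElem_X (w : ArSing.ring k r)
    (hw : w ∈ IsLocalRing.maximalIdeal (ArSing.ring k r)) : ofElem k r w hw PowerSeries.X = w :=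
  (exists_algHom_X_eq k r w hw).choose_spec

end OfElem

section Quot

/-- Two `k`-algebra maps `k[[t]] → A_r` whose values on `t` are congruent modulo an ideal `I`
(and lie in the maximal ideal) are congruent modulo `I`. -/
lemma algHom_sub_mem_of_X (I : Ideal (ArSing.ring k r))
    (h₁ h₂ : PowerSeries k →ₐ[k] ArSing.ring k r)
    (hX : h₁ PowerSeries.X - h₂ PowerSeries.X ∈ I)
    (hm : h₁ PowerSeries.X ∈ IsLocalRing.maximalIdeal (ArSing.ring k r)) (a : PowerSeries k) :
    h₁ a - h₂ a ∈ I := by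
  by_cases hI : I = ⊤
  · rw [hI]; trivial
  have : Nontrivial (ArSing.ring k r ⧸ I) := Ideal.Quotient.nontrivial_iff.mpr hI
  have : IsLocalRing (ArSing.ring k r ⧸ I) :=
    IsLocalRing.of_surjective' (Ideal.Quotient.mk I) Ideal.Quotient.mk_surjective
  have hIm : I ≤ IsLocalRing.maximalIdeal (ArSing.ring k r) := IsLocalRing.le_maximalIdeal hI
  have hK : ⨅ n : ℕ, IsLocalRing.maximalIdeal (ArSing.ring k r ⧸ I) ^ n = ⊥ :=
    Ideal.iInf_pow_eq_bot_of_isLocalRing (R := ArSing.ring k r ⧸ I)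
      (IsLocalRing.maximalIdeal (ArSing.ring k r ⧸ I))
      (IsLocalRing.maximalIdeal.isMaximal (ArSing.ring k r ⧸ I)).ne_top
  have key := algHom_ext_of_X k (B := ArSing.ring k r ⧸ I)
    (IsLocalRing.maximalIdeal (ArSing.ring k r ⧸ I)) hK
    ((Ideal.Quotient.mkₐ k I).comp h₁) ((Ideal.Quotient.mkₐ k I).comp h₂)
    (by
      rw [AlgHom.comp_apply, AlgHom.comp_apply]
      exact (Ideal.Quotient.mk_eq_mk_iff_sub_mem _ _).mpr hX)
    (by
      rw [AlgHom.comp_apply, IsLocalRing.mem_maximalIdeal, mem_nonunits_iff]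
      intro hu
      obtain ⟨v, hv⟩ := hu.exists_right_inv
      obtain ⟨v, rfl⟩ := Ideal.Quotient.mk_surjective v
      change Ideal.Quotient.mk I _ * Ideal.Quotient.mk I v = 1 at hv
      rw [← map_mul, ← map_one (Ideal.Quotient.mk I), Ideal.Quotient.mk_eq_mk_iff_sub_mem] at hv
      have h1 : h₁ PowerSeries.X * v ∈ IsLocalRing.maximalIdeal (ArSing.ring k r) :=
        Ideal.mul_mem_right _ _ hm
      have h2 := Ideal.sub_mem _ h1 (hIm hv)
      rw [sub_sub_cancel] at h2
      exact (IsLocalRing.maximalIdeal.isMaximal _).ne_top ((Ideal.eq_top_iff_one _).mpr h2))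
  have := DFunLike.congr_fun key a
  rw [AlgHom.comp_apply, AlgHom.comp_apply] at this
  exact (Ideal.Quotient.mk_eq_mk_iff_sub_mem _ _).mp this

end Quot

section More

lemma x_mul_decomp (a b : PowerSeries k) :
    ArSing.x k r * (ArSing.xMap k r a + ArSing.xMap k r b * ArSing.y k r) =
      ArSing.xMap k r (PowerSeries.X * a) + ArSing.xMap k r (PowerSeries.X * b) * ArSing.y k r := by
  rw [map_mul, map_mul, xMap_X]; ring

lemma y_mul_decomp (c d : PowerSeries k) :
    (ArSing.xMap k r c + ArSing.xMap k r d * ArSing.y k r) * ArSing.y k r =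
      ArSing.xMap k r (PowerSeries.X ^ (r + 1) * d) + ArSing.xMap k r c * ArSing.y k r := by
  have := mul_decomp k r c d 0 1
  simpa using this

lemma x_mem_nonZeroDivisors : ArSing.x k r ∈ nonZeroDivisors (ArSing.ring k r) := by
  rw [mem_nonZeroDivisors_iff_left]
  intro z hz
  obtain ⟨c, d, rfl⟩ := exists_decomp k r z
  rw [x_mul_decomp] at hz
  obtain ⟨h1, h2⟩ := decomp_unique k r _ _ hz
  have hc : c = 0 := (mul_eq_zero.mp h1).resolve_left PowerSeries.X_ne_zero
  have hd : d = 0 := (mul_eq_zero.mp h2).resolve_left PowerSeries.X_ne_zero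
  rw [hc, hd]; simp

lemma y_mem_nonZeroDivisors : ArSing.y k r ∈ nonZeroDivisors (ArSing.ring k r) := by
  rw [mem_nonZeroDivisors_iff_right]
  intro z hz
  obtain ⟨c, d, rfl⟩ := exists_decomp k r z
  rw [y_mul_decomp] at hz
  obtain ⟨h1, h2⟩ := decomp_unique k r _ _ hz
  have hd : d = 0 := (mul_eq_zero.mp h1).resolve_left (pow_ne_zero _ PowerSeries.X_ne_zero)
  rw [h2, hd]; simp

lemma decomp_mem_span_x_iff (a b : PowerSeries k) :
    ArSing.xMap k r a + ArSing.xMap k r b * ArSing.y k r ∈ Ideal.span {ArSing.x k r} ↔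
      PowerSeries.X ∣ a ∧ PowerSeries.X ∣ b := by
  rw [Ideal.mem_span_singleton]
  constructor
  · rintro ⟨w, hw⟩
    obtain ⟨c, d, rfl⟩ := exists_decomp k r w
    rw [x_mul_decomp] at hw
    obtain ⟨h1, h2⟩ := decomp_ext k r hw
    exact ⟨⟨c, h1⟩, ⟨d, h2⟩⟩
  · rintro ⟨⟨c, rfl⟩, ⟨d, rfl⟩⟩
    exact ⟨ArSing.xMap k r c + ArSing.xMap k r d * ArSing.y k r, (x_mul_decomp k r c d).symm⟩

lemma y_not_mem_span_x : ArSing.y k r ∉ Ideal.span {ArSing.x k r} := by
  intro h
  have h' : ArSing.xMap k r 0 + ArSing.xMap k r 1 * ArSing.y k r ∈ Ideal.span {ArSing.x k r} := by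
    simpa using h
  rw [decomp_mem_span_x_iff] at h'
  obtain ⟨_, ⟨d, hd⟩⟩ := h'
  have := congrArg (PowerSeries.constantCoeff (R := k)) hd
  simp at this

/-- A `k`-algebra map `A_r' → A_r` with `x ↦ xMap (θ t)` satisfies `xMap' a ↦ xMap (θ a)`. -/
lemma comp_xMap_eq (r' : ℕ) (ψ : ArSing.ring k r' →ₐ[k] ArSing.ring k r)
    (θ : PowerSeries k →ₐ[k] PowerSeries k)
    (h : ψ (ArSing.x k r') = ArSing.xMap k r (θ PowerSeries.X))
    (hθ : PowerSeries.constantCoeff (θ PowerSeries.X) = 0) (a : PowerSeries k) :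
    ψ (ArSing.xMap k r' a) = ArSing.xMap k r (θ a) := by
  have key := algHom_ext_max k r (ψ.comp (ArSing.xMap k r')) ((ArSing.xMap k r).comp θ)
    (by rw [AlgHom.comp_apply, AlgHom.comp_apply, xMap_X, h])
    (by rw [AlgHom.comp_apply, xMap_X, h, mem_max_iff_aug, aug_xMap, hθ])
  exact DFunLike.congr_fun key a

end More

end Groth.Agent.R2.H64.ArSing
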