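import Groth.Agent.R2.H64ArSing2

/-!
# The node `A_1 = k[[x,y]]/(y^2 - x^2)` in branch coordinates (helper64)

`u = x + y`, `v = y - x`, `u v = 0`; normal form `N c P Q = c + u P(x) + v Q(x)`.
-/

set_option autoImplicit false
universe u

namespace Groth.Agent.R2.H64.Node

open Groth.Agent.R2.H64.ArSing

variable (k : Type u) [Field k]

/-- The node algebra. -/
abbrev A : Type u := ArSing.ring k 1

noncomputable abbrev xx : A k := ArSing.x k 1
noncomputable abbrev yy : A k := ArSing.y k 1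
/-- `u = x + y` -/
noncomputable abbrev uu : A k := ArSing.x k 1 + ArSing.y k 1
/-- `v = y - x` -/
noncomputable abbrev vv : A k := ArSing.y k 1 - ArSing.x k 1
noncomputable abbrev xM : PowerSeries k →ₐ[k] A k := ArSing.xMap k 1

lemma y_sq_eq : yy k ^ 2 = xx k ^ 2 := by
  have := y_sq k 1
  rw [map_pow, xMap_X] at this
  exact this

lemma u_mul_v : uu k * vv k = 0 := by
  have := y_sq_eq k
  linear_combination this

lemma v_mul_u : vv k * uu k = 0 := by rw [mul_comm]; exact u_mul_v k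

lemma v_sq : vv k ^ 2 = -2 * xx k * vv k := by
  have := y_sq_eq k
  linear_combination this

lemma u_mem_max : uu k ∈ IsLocalRing.maximalIdeal (A k) :=
  Ideal.add_mem _ (x_mem_max k 1) (y_mem_max k 1)

lemma v_mem_max : vv k ∈ IsLocalRing.maximalIdeal (A k) :=
  Ideal.sub_mem _ (y_mem_max k 1) (x_mem_max k 1)

/-- The normal form `c + u P(x) + v Q(x)`. -/
noncomputable def N (c : k) (P Q : PowerSeries k) : A k :=
  algebraMap k (A k) c + uu k * xM k P + vv k * xM k Q

lemma N_eq_dc (c : k) (P Q : PowerSeries k) :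
    N k c P Q = xM k (PowerSeries.C c + PowerSeries.X * (P - Q)) + xM k (P + Q) * yy k := by
  unfold N
  have hC : xM k (PowerSeries.C c) = algebraMap k (A k) c := by
    change xM k (algebraMap k _ c) = _
    rw [AlgHom.commutes]
  rw [map_add, map_mul, map_sub, map_add, hC, xMap_X]
  ring

variable {k}

lemma exists_N (h2 : (2 : k) ≠ 0) (z : A k) : ∃ c P Q, z = N k c P Q := by
  obtain ⟨a, b, rfl⟩ := exists_decomp k 1 z
  have h1 := PowerSeries.eq_X_mul_shift_add_const a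
  set a' := (PowerSeries.mk fun p => PowerSeries.coeff (p + 1) a) with ha'
  refine ⟨PowerSeries.constantCoeff a, (2⁻¹ : k) • (a' + b), (2⁻¹ : k) • (b - a'), ?_⟩
  rw [N_eq_dc]
  have e1 : (2⁻¹ : k) • (a' + b) - (2⁻¹ : k) • (b - a') = a' := by
    rw [← smul_sub, show a' + b - (b - a') = (2 : k) • a' by rw [ofNat_smul_eq_nsmul, two_nsmul]; ring,
      smul_smul, inv_mul_cancel₀ h2, one_smul]
  have e2 : (2⁻¹ : k) • (a' + b) + (2⁻¹ : k) • (b - a') = b := by
    rw [← smul_add, show a' + b + (b - a') = (2 : k) • b by rw [ofNat_smul_eq_nsmul, two_nsmul]; ring,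
      smul_smul, inv_mul_cancel₀ h2, one_smul]
  rw [e1, e2]
  congr 2
  conv_lhs => rw [h1]
  ring

lemma N_eq_zero (h2 : (2 : k) ≠ 0) {c : k} {P Q : PowerSeries k} (h : N k c P Q = 0) :
    c = 0 ∧ P = 0 ∧ Q = 0 := by
  rw [N_eq_dc] at h
  obtain ⟨h1, h3⟩ := decomp_unique k 1 _ _ h
  have hc : c = 0 := by
    have := congrArg (PowerSeries.constantCoeff (R := k)) h1
    simpa using this
  rw [hc, map_zero, zero_add] at h1
  have h4 : P - Q = 0 := (mul_eq_zero.mp h1).resolve_left PowerSeries.X_ne_zero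
  have hPQ : P = Q := sub_eq_zero.mp h4
  rw [hPQ] at h3
  have hQ : Q = 0 := by
    have : (2 : PowerSeries k) * Q = 0 := by rw [two_mul]; exact h3
    exact (mul_eq_zero.mp this).resolve_left (two_ne_zero_ps h2)
  exact ⟨hc, hPQ.trans hQ, hQ⟩

lemma N_sub (c c' : k) (P P' Q Q' : PowerSeries k) :
    N k c P Q - N k c' P' Q' = N k (c - c') (P - P') (Q - Q') := by
  unfold N; rw [map_sub, map_sub, map_sub]; ring

lemma N_inj (h2 : (2 : k) ≠ 0) {c c' : k} {P P' Q Q' : PowerSeries k}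
    (h : N k c P Q = N k c' P' Q') : c = c' ∧ P = P' ∧ Q = Q' := by
  have h' : N k (c - c') (P - P') (Q - Q') = 0 := by rw [← N_sub, h, sub_self]
  obtain ⟨h1, h3, h4⟩ := N_eq_zero h2 h'
  exact ⟨sub_eq_zero.mp h1, sub_eq_zero.mp h3, sub_eq_zero.mp h4⟩

/-- If `e e' = 0` and two algebra maps out of `k[[t]]` are congruent at `t` modulo `e'`, then they
agree after multiplication by `e`. -/
lemma mul_algHom_eq {e e' : A k} (hee' : e * e' = 0) (h₁ h₂ : PowerSeries k →ₐ[k] A k)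
    (hX : h₁ PowerSeries.X - h₂ PowerSeries.X ∈ Ideal.span {e'})
    (hm : h₁ PowerSeries.X ∈ IsLocalRing.maximalIdeal (A k)) (P : PowerSeries k) :
    e * h₁ P = e * h₂ P := by
  have := algHom_sub_mem_of_X k 1 (Ideal.span {e'}) h₁ h₂ hX hm P
  rw [Ideal.mem_span_singleton'] at this
  obtain ⟨w, hw⟩ := this
  have : e * (h₁ P - h₂ P) = 0 := by rw [← hw]; calc e * (w * e') = w * (e * e') := by ring
    _ = 0 := by rw [hee', mul_zero]
  rw [mul_sub] at this
  exact sub_eq_zero.mp this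


variable (k)

lemma xM_C (c : k) : xM k (PowerSeries.C c) = algebraMap k (A k) c := by
  change xM k (algebraMap k _ c) = _
  rw [AlgHom.commutes]

lemma u_eq_N : uu k = N k 0 1 0 := by
  unfold N; rw [map_zero, map_zero, map_one]; ring

lemma v_eq_N : vv k = N k 0 0 1 := by
  unfold N; rw [map_zero, map_zero, map_one]; ring

lemma one_eq_N : (1 : A k) = N k 1 0 0 := by
  unfold N; rw [map_zero, map_one]; ring

/-- The product in normal form. -/
lemma N_mul (c₁ c₂ : k) (P₁ P₂ Q₁ Q₂ : PowerSeries k) :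
    N k c₁ P₁ Q₁ * N k c₂ P₂ Q₂ =
      N k (c₁ * c₂)
        (PowerSeries.C c₁ * P₂ + PowerSeries.C c₂ * P₁ + 2 * PowerSeries.X * P₁ * P₂)
        (PowerSeries.C c₁ * Q₂ + PowerSeries.C c₂ * Q₁ - 2 * PowerSeries.X * Q₁ * Q₂) := by
  unfold N
  have h2' : xM k (2 : PowerSeries k) = 2 := map_ofNat _ 2
  have hX : xM k PowerSeries.X = xx k := xMap_X k 1
  simp only [map_sub, map_add, map_mul, xM_C, h2', hX]
  have := y_sq_eq k
  linear_combination (xM k P₁ * xM k P₂ + xM k Q₁ * xM k Q₂ + xM k P₁ * xM k Q₂ + xM k Q₁ * xM k P₂) * this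

lemma u_mul_N (c : k) (P Q : PowerSeries k) :
    uu k * N k c P Q = N k 0 (PowerSeries.C c + 2 * PowerSeries.X * P) 0 := by
  rw [u_eq_N, N_mul]
  congr 1
  · ring
  · simp
  · simp

lemma v_mul_N (c : k) (P Q : PowerSeries k) :
    vv k * N k c P Q = N k 0 0 (PowerSeries.C c - 2 * PowerSeries.X * Q) := by
  rw [v_eq_N, N_mul]
  congr 1
  · ring
  · simp
  · simp

variable {k}

lemma u_ne_zero (h2 : (2 : k) ≠ 0) : uu k ≠ 0 := by
  intro h
  rw [u_eq_N] at h
  obtain ⟨-, h1, -⟩ := N_eq_zero h2 h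
  exact one_ne_zero h1

lemma v_ne_zero (h2 : (2 : k) ≠ 0) : vv k ≠ 0 := by
  intro h
  rw [v_eq_N] at h
  obtain ⟨-, -, h1⟩ := N_eq_zero h2 h
  exact one_ne_zero h1

lemma C_add_two_X_mul_eq_zero (h2 : (2 : k) ≠ 0) {c : k} {P : PowerSeries k}
    (h : PowerSeries.C c + 2 * PowerSeries.X * P = 0) : c = 0 ∧ P = 0 := by
  have hc : c = 0 := by
    have := congrArg (PowerSeries.constantCoeff (R := k)) h
    simpa using this
  refine ⟨hc, ?_⟩
  rw [hc, map_zero, zero_add] at h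
  have h2X : (2 : PowerSeries k) * PowerSeries.X ≠ 0 :=
    mul_ne_zero (two_ne_zero_ps h2) PowerSeries.X_ne_zero
  exact (mul_eq_zero.mp h).resolve_left h2X

/-- Membership in the branch ideal `(v)`. -/
lemma N_mem_span_v_iff (h2 : (2 : k) ≠ 0) (c : k) (P Q : PowerSeries k) :
    N k c P Q ∈ Ideal.span {vv k} ↔ c = 0 ∧ P = 0 := by
  constructor
  · intro h
    rw [Ideal.mem_span_singleton'] at h
    obtain ⟨w, hw⟩ := h
    obtain ⟨c', P', Q', rfl⟩ := exists_N h2 w
    rw [mul_comm, v_mul_N] at hw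
    obtain ⟨h1, h3, -⟩ := N_inj h2 hw
    exact ⟨h1.symm, h3.symm⟩
  · rintro ⟨rfl, rfl⟩
    rw [Ideal.mem_span_singleton']
    refine ⟨xM k Q, ?_⟩
    unfold N; rw [map_zero, map_zero]; ring

/-- The annihilator of `u` is `(v)`. -/
lemma mem_span_v_of_u_mul_eq_zero (h2 : (2 : k) ≠ 0) {z : A k} (h : uu k * z = 0) :
    z ∈ Ideal.span {vv k} := by
  obtain ⟨c, P, Q, rfl⟩ := exists_N h2 z
  rw [u_mul_N] at h
  obtain ⟨-, h1, -⟩ := N_eq_zero h2 h
  rw [N_mem_span_v_iff h2]
  exact C_add_two_X_mul_eq_zero h2 h1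

lemma u_not_mem_span_v (h2 : (2 : k) ≠ 0) : uu k ∉ Ideal.span {vv k} := by
  intro h
  rw [u_eq_N, N_mem_span_v_iff h2] at h
  exact one_ne_zero h.2

lemma span_v_isPrime (h2 : (2 : k) ≠ 0) : (Ideal.span {vv k}).IsPrime := by
  refine ⟨?_, ?_⟩
  · intro h
    have : (1 : A k) ∈ Ideal.span {vv k} := by rw [h]; trivial
    rw [one_eq_N, N_mem_span_v_iff h2] at this
    exact one_ne_zero this.1
  · intro z₁ z₂ h
    obtain ⟨c₁, P₁, Q₁, rfl⟩ := exists_N h2 z₁
    obtain ⟨c₂, P₂, Q₂, rfl⟩ := exists_N h2 z₂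
    rw [N_mul, N_mem_span_v_iff h2] at h
    obtain ⟨hc, hP⟩ := h
    have hprod : (PowerSeries.C c₁ + 2 * PowerSeries.X * P₁) *
        (PowerSeries.C c₂ + 2 * PowerSeries.X * P₂) = 0 := by
      have : (PowerSeries.C c₁ + 2 * PowerSeries.X * P₁) *
        (PowerSeries.C c₂ + 2 * PowerSeries.X * P₂) = PowerSeries.C (c₁ * c₂) + 2 * PowerSeries.X *
          (PowerSeries.C c₁ * P₂ + PowerSeries.C c₂ * P₁ + 2 * PowerSeries.X * P₁ * P₂) := by
        rw [map_mul]; ring
      rw [this, hP, hc]; simp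
    rcases mul_eq_zero.mp hprod with h | h
    · left; rw [N_mem_span_v_iff h2]; exact C_add_two_X_mul_eq_zero h2 h
    · right; rw [N_mem_span_v_iff h2]; exact C_add_two_X_mul_eq_zero h2 h

lemma span_v_mem_minimalPrimes (h2 : (2 : k) ≠ 0) :
    Ideal.span {vv k} ∈ minimalPrimes (A k) := by
  refine ⟨⟨span_v_isPrime h2, bot_le⟩, ?_⟩
  rintro q ⟨hq, -⟩ hle
  rw [Ideal.span_le, Set.singleton_subset_iff]
  have h0 : uu k * vv k ∈ q := by rw [u_mul_v]; exact q.zero_mem
  rcases hq.mem_or_mem h0 with h | h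
  · exact absurd (hle h) (u_not_mem_span_v h2)
  · exact h

/-- Equational criterion of flatness for a relation with a single term. -/
lemma exists_of_flat_of_rel₁ {R S : Type*} [CommRing R] [CommRing S] (f : R →+* S) (hflat : f.Flat)
    (a : R) (s : S) (hrel : f a * s = 0) :
    ∃ (n : ℕ) (c : Fin n → R) (yy : Fin n → S), s = ∑ j, f (c j) * yy j ∧ ∀ j, a * c j = 0 := by
  algebraize [f]
  have hsm : ∀ (p : R) (q : S), p • q = f p * q := fun p q => by
    rw [Algebra.smul_def]; rfl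
  let F : Fin 1 → R := ![a]
  let G : Fin 1 → S := ![s]
  have hrel' : ∑ i : Fin 1, F i • G i = 0 := by
    rw [Fin.sum_univ_one]
    simp only [F, G, Matrix.cons_val_zero, hsm]
    exact hrel
  obtain ⟨n, c, yy, hxy, ha⟩ :=
    Module.Flat.isTrivialRelation_of_sum_smul_eq_zero (R := R) (M := S) (f := F) (x := G) hrel'
  refine ⟨n, c 0, yy, ?_, ?_⟩
  · have := hxy 0
    simpa only [F, G, Matrix.cons_val_zero, hsm] using this
  · intro j
    have := ha j
    rw [Fin.sum_univ_one] at this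
    simpa only [F, G, Matrix.cons_val_zero] using this

end Groth.Agent.R2.H64.Node
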