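import Groth.Agent.Lib.Helper13ProjUPa
import Groth.Prelude.Def_CohB1

/-!
# helper64: an affine scheme of finite type over `Spec A` immerses into some `P^n_A` (pn-toolkit P1)
-/

set_option autoImplicit false
universe u

open CategoryTheory CategoryTheory.Limits AlgebraicGeometry

namespace Groth.Agent.R2.H64.PnAffImm

open Groth.Agent.Helper13ProjUP Groth.Agent.Helper13Dehom

/-- P1 of the pn-toolkit: for a finite type `A`-algebra `B` there is an immersion
`Spec B ⟶ P^n_A` over `Spec A`. It factors as a closed immersion into the chart `D₊(T_0)`. -/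
theorem exists_immersion_projSpace (A B : Type u) [CommRing A] [CommRing B] [Algebra A B]
    [Algebra.FiniteType A B] :
    ∃ (n : ℕ) (j : Spec (CommRingCat.of B) ⟶ CohB1.ProjSpace n A), IsImmersion j ∧
      j ≫ CohB1.ProjSpace.toSpec n A = Spec.map (CommRingCat.ofHom (algebraMap A B)) := by
  obtain ⟨n, f, hf⟩ := Algebra.FiniteType.iff_quotient_mvPolynomial''.mp
    (inferInstance : Algebra.FiniteType A B)
  let ψ : MvPolynomial (Fin (n + 1)) A →ₐ[A] B :=
    MvPolynomial.aeval (Fin.cases 1 (fun i => f (MvPolynomial.X i)))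
  have hψ0 : ψ (MvPolynomial.X 0) = 1 := by simp [ψ]
  have hψsurj : Function.Surjective ψ := by
    intro b
    obtain ⟨p, rfl⟩ := hf b
    refine ⟨MvPolynomial.rename Fin.succ p, ?_⟩
    have h1 : ψ (MvPolynomial.rename Fin.succ p) =
        MvPolynomial.aeval (fun i => f (MvPolynomial.X i)) p := by
      simp only [ψ, MvPolynomial.aeval_rename]
      rfl
    rw [h1]
    have h2 := MvPolynomial.aeval_unique f
    exact (DFunLike.congr_fun h2 p).symm
  have hX0 : (MvPolynomial.X 0 : MvPolynomial (Fin (n + 1)) A) ∈ CohB1.polyGrading n A 1 :=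
    MvPolynomial.isHomogeneous_X _ _
  obtain ⟨φ, hφ⟩ := exists_dehomLift (𝒜 := CohB1.polyGrading n A) hX0 ψ.toRingHom hψ0
  have hφsurj : Function.Surjective φ := fun b => by
    obtain ⟨p, rfl⟩ := hψsurj b
    exact ⟨dehom hX0 p, hφ p⟩
  have hU := isAffineOpen_basicOpen (𝒜 := CohB1.polyGrading n A) hX0
  let j₀ : Spec (CommRingCat.of B) ⟶ Proj (CohB1.polyGrading n A) :=
    Spec.map (CommRingCat.ofHom φ) ≫ hU.fromSpec
  have hj₀ : IsImmersion j₀ := by
    have : IsClosedImmersion (Spec.map (CommRingCat.ofHom φ)) :=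
      IsClosedImmersion.spec_of_surjective _ hφsurj
    exact inferInstanceAs (IsImmersion (Spec.map (CommRingCat.ofHom φ) ≫ hU.fromSpec))
  have hcomp : j₀ ≫ toBase (CohB1.polyGrading n A) =
      Spec.map (CommRingCat.ofHom (algebraMap A B)) := by
    have h1 := fromSpec_toBase (𝒜 := CohB1.polyGrading n A) hX0
    change (Spec.map (CommRingCat.ofHom φ) ≫ hU.fromSpec) ≫ toBase (CohB1.polyGrading n A) = _
    rw [Category.assoc, h1, ← Spec.map_comp]
    congr 1
    ext a
    change φ (dehom hX0 (algebraMap A _ a)) = algebraMap A B a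
    rw [hφ]
    exact ψ.commutes a
  exact ⟨n, j₀, hj₀, hcomp⟩

end Groth.Agent.R2.H64.PnAffImm
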