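import Mathlib
import Groth.Agent.R2.H64RelSerreCD
import Groth.Agent.R2.H62RelSerreSpec
import Groth.Agent.Lib.Helper2Push

/-!
# Steps C and D of the relative Serre package in the interface shapes of `R2/H62RelSerreSpec.lean` (helper64)
-/

set_option autoImplicit false
set_option linter.style.haveILetI false
universe u

open CategoryTheory CategoryTheory.Limits AlgebraicGeometry TopologicalSpace Opposite

namespace Groth.Agent.R2.H64.RelSerreSteps

open Groth.Agent.R2.H64.RelSerreCD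

lemma exists_mem_of_iSup_eq_top {Z : Scheme.{u}} {ι : Type u} (V : ι → Z.Opens)
    (h : ⨆ k, V k = ⊤) (z : Z) : ∃ k, z ∈ V k := by
  have hz : z ∈ (⨆ k, V k : Z.Opens) := by rw [h]; trivial
  exact Opens.mem_iSup.1 hz

/-- **STEP C** in the interface shape. -/
theorem stepC : Groth.Agent.R2.H62.RelSerreSpec.StepC.{u} := by
  intro Y Z π _ _ L _ ι V hV hcov hvan q hq
  exact isZero_RpushAb_of_affine_cover π L V hV (exists_mem_of_iSup_eq_top V hcov) hvan q hq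

/-- `H^0(X, M) ≃+ M(X)`. -/
noncomputable def hh0Equiv (X : Scheme.{u}) (M : X.Modules) :
    Coh.HH X M 0 ≃+ (Coh.toAb M).obj.obj (op (⊤ : Opens X)) :=
  Sheaf.H.equiv₀ (Coh.toAb M) Limits.isTerminalTop

theorem hh0Equiv_smul (X : Scheme.{u}) (M : X.Modules) (r : Coh.Γtop X) (x : Coh.HH X M 0) :
    hh0Equiv X M (r • x) = (Coh.smulAb M r).hom.app (op ⊤) (hh0Equiv X M x) := by
  change Sheaf.H.equiv₀ _ _ (Sheaf.H.map (Coh.smulAb M r) 0 x) = _
  rw [← Sheaf.H.equiv₀_naturality]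
  rfl

theorem resTop_top (X : Scheme.{u}) (r : Coh.Γtop X) : Coh.resTop X (op ⊤) r = r := by
  change (X.ringCatSheaf.obj.map (𝟙 (op ⊤))).hom r = r
  rw [CategoryTheory.Functor.map_id]
  rfl

variable {Y Z : Scheme.{u}} (π : Y ⟶ Z)

lemma morphismRestrict_appTop' (V : Z.Opens) :
    (π ∣_ V).appTop = V.topIso.hom ≫ π.app V ≫ (π ⁻¹ᵁ V).topIso.inv := by
  have h := Scheme.Hom.resLE_app_top π (U := V) (V := π ⁻¹ᵁ V) le_rfl
  rw [Scheme.Hom.appLE_eq_app] at h
  have h2 : π.resLE V (π ⁻¹ᵁ V) le_rfl = π ∣_ V := Scheme.Hom.resLE_eq_morphismRestrict π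
  rw [h2] at h
  exact h

lemma key1 (V : Z.Opens) (hV : IsAffineOpen V) :
    (Scheme.ΓSpecIso Γ(Z, V)).inv ≫ ((π ∣_ V) ≫ hV.isoSpec.hom).appTop =
      π.app V ≫ (π ⁻¹ᵁ V).topIso.inv := by
  rw [Scheme.Hom.comp_appTop, IsAffineOpen.isoSpec_hom_appTop, morphismRestrict_appTop']
  simp only [Category.assoc, Iso.inv_hom_id_assoc]

lemma toGlobal_restrict (V : Z.Opens) (hV : IsAffineOpen V) (b : Γ(Z, V)) :
    Coh.toGlobal (A := Γ(Z, V)) ((π ∣_ V) ≫ hV.isoSpec.hom) b =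
      ((π ⁻¹ᵁ V).topIso.inv (π.app V b) : Γ((π ⁻¹ᵁ V : Y.Opens).toScheme, ⊤)) := by
  have := congrArg (fun φ => φ.hom b) (key1 π V hV)
  exact this

set_option backward.isDefEq.respectTransparency.types true in
theorem finite_sections_of_finite_HH (L : Y.Modules) (V : Z.Opens) (hV : IsAffineOpen V)
    (h : letI : ((π ⁻¹ᵁ V : Y.Opens) : Scheme.{u}).Over (Spec Γ(Z, V)) :=
        ⟨(π ∣_ V) ≫ hV.isoSpec.hom⟩
      Module.Finite Γ(Z, V) (Coh.HHon Y L (π ⁻¹ᵁ V) 0)) :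
    Module.Finite Γ(Z, V) Γ((Coh.push π).obj L, V) := by
  letI inst : ((π ⁻¹ᵁ V : Y.Opens) : Scheme.{u}).Over (Spec Γ(Z, V)) :=
    ⟨(π ∣_ V) ≫ hV.isoSpec.hom⟩
  let W : Y.Opens := π ⁻¹ᵁ V
  let X : Scheme.{u} := W
  let M : X.Modules := L.restrict W.ι
  let e0 := hh0Equiv X M
  let t : Γ(M, ⊤) ≅ Γ(L, W) := L.presheaf.mapIso (eqToIso W.ι_image_top.symm).op
  let t' : (Coh.toAb M).obj.obj (op (⊤ : Opens X)) ≃+ Γ((Coh.push π).obj L, V) :=
    t.addCommGroupIsoToAddEquiv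
  let φ : Coh.HH X M 0 ≃+ Γ((Coh.push π).obj L, V) := e0.trans t'
  have hφ : ∀ (b : Γ(Z, V)) (x : Coh.HH X M 0), φ (b • x) = b • φ x := by
    intro b x
    have h1 : b • x = (Coh.toGlobal (A := Γ(Z, V)) ((π ∣_ V) ≫ hV.isoSpec.hom) b) • x := rfl
    change t' (e0 (b • x)) = b • t' (e0 x)
    rw [h1, hh0Equiv_smul, Coh.smulAb_app, resTop_top, toGlobal_restrict]
    rw [Groth.Agent.Lib.Helper2.Push.pushforward_smul]
    generalize e0 x = y
    generalize π.app V b = c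
    have h2 := Scheme.Modules.map_smul L (eqToHom W.ι_image_top.symm)
      ((W.ι.appIso ⊤).inv (W.topIso.inv c)) y
    have h3 : Y.presheaf.map (eqToHom W.ι_image_top.symm).op ((W.ι.appIso ⊤).inv (W.topIso.inv c)) = c := by
      rw [Scheme.Opens.ι_appIso]
      change W.topIso.hom (W.topIso.inv c) = c
      exact Iso.inv_hom_id_apply W.topIso c
    rw [h3] at h2
    exact h2
  let ψ : Coh.HH X M 0 ≃ₗ[Γ(Z, V)] Γ((Coh.push π).obj L, V) :=
    { φ with map_smul' := hφ }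
  haveI : Module.Finite Γ(Z, V) (Coh.HH X M 0) := h
  exact Module.Finite.equiv ψ

/-- **STEP D** in the interface shape. -/
theorem stepD : Groth.Agent.R2.H62.RelSerreSpec.StepD.{u} := by
  intro Y Z π _ _ L _ ι V hV hcov hfin
  exact isCoh_push_of_affine_cover π L V hV (exists_mem_of_iSup_eq_top V hcov)
    (fun k => finite_sections_of_finite_HH π L (V k) (hV k) (hfin k))

end Groth.Agent.R2.H64.RelSerreSteps
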