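import Groth.Agent.R2.H64SteinCore
import Groth.Agent.R2.H34ConnIdem

/-!
# Lifting idempotents along the closed fibre via the theorem on formal functions (helper64, PROJ:stein ST-0b)

* `exists_idempotent`, `exists_idempotent_of_clopen`: if `H^0(X, O_X) → lim_n H^0(X, O_X/I^(n+1)O_X)` is bijective
  (theorem on formal functions over an `I`-adically complete base, `S0003` with `p = 0`), every decomposition of
  the closed fibre `Supp (O_X/I O_X) = U ⊔ U'` into disjoint closed subsets comes from an idempotent of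
  `Γ(X, O_X)`.
* `exists_isClopen_of_clopen`: hence from a clopen subset of `X`.
-/

set_option autoImplicit false
set_option linter.style.haveILetI false
universe u

open CategoryTheory CategoryTheory.Limits AlgebraicGeometry Opposite TopologicalSpace

namespace Groth.Agent.R2.H64.SteinIdem

open Groth.Agent.R2.H64.SteinCore

variable {X : Scheme.{u}}

/-- sections over `X` are determined by their restrictions to a two-element open cover -/
theorem section_ext₂ (M : X.Modules) (W W' : X.Opens) (hcov : (⊤ : X.Opens) ≤ W ⊔ W')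
    (s t : Γ(M, ⊤))
    (h1 : M.presheaf.map (homOfLE (le_top : W ≤ ⊤)).op s =
      M.presheaf.map (homOfLE (le_top : W ≤ ⊤)).op t)
    (h2 : M.presheaf.map (homOfLE (le_top : W' ≤ ⊤)).op s =
      M.presheaf.map (homOfLE (le_top : W' ≤ ⊤)).op t) : s = t :=
  TopCat.Sheaf.eq_of_locally_eq₂ (⟨M.presheaf, M.isSheaf⟩ : TopCat.Sheaf _ _)
    (homOfLE (le_top : W ≤ ⊤)) (homOfLE (le_top : W' ≤ ⊤)) hcov s t h1 h2

variable {A : Type u} [CommRing A] [X.Over (Spec (CommRingCat.of A))]

/-- glue `1` on `W` and `0` on `W'` to a global section of `O/I^(n+1)O` -/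
theorem exists_glue (I : Ideal A) (n : ℕ) (W W' : X.Opens) (hcov : (⊤ : X.Opens) ≤ W ⊔ W')
    (hdisj : ∀ x ∈ W ⊓ W',
      x ∉ CohB1.support (Formal.modPow I (n + 1) (Coh.structureModule X))) :
    ∃ e : Γ(Formal.modPow I (n + 1) (Coh.structureModule X), ⊤),
      (Formal.modPow I (n + 1) (Coh.structureModule X)).presheaf.map
          (homOfLE (le_top : W ≤ ⊤)).op e =
        (Formal.modPowπ I (n + 1) (Coh.structureModule X)).app W
          (show Γ(Coh.structureModule X, W) from (1 : Γ(X, W))) ∧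
      (Formal.modPow I (n + 1) (Coh.structureModule X)).presheaf.map
          (homOfLE (le_top : W' ≤ ⊤)).op e = 0 := by
  let F : X.Modules := Formal.modPow I (n + 1) (Coh.structureModule X)
  let a : Γ(F, W) := (Formal.modPowπ I (n + 1) (Coh.structureModule X)).app W
    (show Γ(Coh.structureModule X, W) from (1 : Γ(X, W)))
  obtain ⟨e, he1, he2⟩ := Groth.Agent.Lib.Helper16.SectSupp.glue2 (Coh.toAb F) W W' ⊤ le_top le_top hcov
    a 0 ((eq_zero_of_disjoint_support F (W ⊓ W') hdisj _).trans
      (eq_zero_of_disjoint_support F (W ⊓ W') hdisj _).symm)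
  exact ⟨e, he1, he2⟩

/-- **Lifting of idempotents via formal functions.** -/
theorem exists_idempotent (I : Ideal A) (W W' : X.Opens) (hcov : (⊤ : X.Opens) ≤ W ⊔ W')
    (hdisj : ∀ n, ∀ x ∈ W ⊓ W',
      x ∉ CohB1.support (Formal.modPow I (n + 1) (Coh.structureModule X)))
    (hbij : Function.Bijective (Formal.toHHlim I (Coh.structureModule X) 0)) :
    ∃ r : Γ(X, ⊤), r * r = r ∧
      (Formal.modPowπ I 1 (Coh.structureModule X)).app W (show Γ(Coh.structureModule X, W) from
        X.presheaf.map (homOfLE (le_top : W ≤ ⊤)).op (1 - r)) = 0 ∧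
      (Formal.modPowπ I 1 (Coh.structureModule X)).app W' (show Γ(Coh.structureModule X, W') from
        X.presheaf.map (homOfLE (le_top : W' ≤ ⊤)).op r) = 0 := by
  let O : X.Modules := Coh.structureModule X
  choose e he1 he2 using fun n => exists_glue I n W W' hcov (hdisj n)
  let x : ∀ n, Formal.HHmodPow I O 0 n := fun n => (hh0Equiv X _).symm (e n)
  have hcompat : ∀ n, Formal.HHmodPowTrans I O 0 n (x (n + 1)) = x n := by
    intro n
    apply (hh0Equiv X _).injective
    refine (hh0Equiv_map (Formal.modPowTrans I (n + 1) O) (x (n + 1))).trans ?_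
    rw [AddEquiv.apply_symm_apply, AddEquiv.apply_symm_apply]
    apply section_ext₂ _ W W' hcov
    · rw [← app_res, he1, he1]
      change ((Formal.modPowπ I (n + 1 + 1) O ≫ Formal.modPowTrans I (n + 1) O).app W) _ = _
      rw [Formal.modPowπ_trans]
    · rw [← app_res, he2, he2, map_zero]
  obtain ⟨y, hy⟩ := hbij.2 ⟨x, hcompat⟩
  have hy' : ∀ n, Formal.toHHmodPow I O 0 n y = x n := fun n => congrFun (congrArg Subtype.val hy) n
  let r : Γ(X, ⊤) := hh0Equiv X O y
  have hr : ∀ n, (Formal.modPowπ I (n + 1) O).app ⊤ (show Γ(O, ⊤) from r) = e n := by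
    intro n
    have h1 := hh0Equiv_map (Formal.modPowπ I (n + 1) O) y
    have h2 := congrArg (hh0Equiv X _) (hy' n)
    rw [AddEquiv.apply_symm_apply] at h2
    exact h1.symm.trans h2
  have hsmul : ∀ n, (r • e n : Γ(Formal.modPow I (n + 1) O, ⊤)) = e n := by
    intro n
    apply section_ext₂ _ W W' hcov
    · rw [Scheme.Modules.map_smul, he1, ← Scheme.Modules.Hom.app_smul]
      have h3 := app_res (Formal.modPowπ I (n + 1) O) (le_top : W ≤ ⊤) (show Γ(O, ⊤) from r)
      rw [hr n, he1] at h3
      rw [← h3]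
      congr 1
      change X.presheaf.map (homOfLE (le_top : W ≤ ⊤)).op r * 1 = _
      rw [mul_one]
      rfl
    · rw [Scheme.Modules.map_smul, he2, smul_zero]
  have hidem : r * r = r := by
    have h0 : (hh0Equiv X O).symm (r * r - r) = 0 := by
      apply hbij.1
      rw [map_zero]
      apply Subtype.ext
      funext n
      change Formal.toHHmodPow I O 0 n _ = 0
      apply (hh0Equiv X _).injective
      rw [map_zero]
      refine (hh0Equiv_map (Formal.modPowπ I (n + 1) O) ((hh0Equiv X O).symm (r * r - r))).trans ?_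
      rw [AddEquiv.apply_symm_apply]
      change (Formal.modPowπ I (n + 1) O).app ⊤
        (r • (show Γ(O, ⊤) from r) - (show Γ(O, ⊤) from r)) = 0
      rw [map_sub, Scheme.Modules.Hom.app_smul, hr, hsmul, sub_self]
    have h5 := congrArg (hh0Equiv X O) h0
    rw [AddEquiv.apply_symm_apply, map_zero] at h5
    exact sub_eq_zero.1 h5
  refine ⟨r, hidem, ?_, ?_⟩
  · have h1 := app_res (Formal.modPowπ I (0 + 1) O) (le_top : W ≤ ⊤) (show Γ(O, ⊤) from r)
    rw [hr 0, he1] at h1
    have h5 : (show Γ(O, W) from X.presheaf.map (homOfLE (le_top : W ≤ ⊤)).op (1 - r)) =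
        (show Γ(O, W) from (1 : Γ(X, W))) -
          O.presheaf.map (homOfLE (le_top : W ≤ ⊤)).op (show Γ(O, ⊤) from r) := by
      change X.presheaf.map (homOfLE (le_top : W ≤ ⊤)).op (1 - r) =
        (1 : Γ(X, W)) - X.presheaf.map (homOfLE (le_top : W ≤ ⊤)).op r
      rw [map_sub, map_one]
    rw [h5, map_sub]
    exact sub_eq_zero.2 h1.symm
  · have h1 := app_res (Formal.modPowπ I (0 + 1) O) (le_top : W' ≤ ⊤) (show Γ(O, ⊤) from r)
    rw [hr 0, he2] at h1
    exact h1

/-- Closed-subset form of `exists_idempotent`: if the closed fibre `Z = Supp (O_X / I O_X)` is the disjoint union of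
closed subsets `U`, `U'`, and `H^0(X, O_X) → lim_n H^0(X, O_X/I^(n+1))` is bijective (formal functions over a
complete base), there is an idempotent `r` of `Γ(X, O_X)` with `r ≡ 1` on `U`, `r ≡ 0` on `U'`. -/
theorem exists_idempotent_of_clopen (I : Ideal A)
    (hsupp : ∀ n, CohB1.support (Formal.modPow I (n + 1) (Coh.structureModule X)) ⊆
      CohB1.support (Formal.modPow I 1 (Coh.structureModule X)))
    (hbij : Function.Bijective (Formal.toHHlim I (Coh.structureModule X) 0))
    (U U' : Set X) (hU : IsClosed U) (hU' : IsClosed U') (hd : Disjoint U U')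
    (hUU' : U ∪ U' = CohB1.support (Formal.modPow I 1 (Coh.structureModule X))) :
    ∃ r : Γ(X, ⊤), r * r = r ∧ (∀ x ∈ U, x ∉ X.basicOpen (1 - r)) ∧
      (∀ x ∈ U', x ∉ X.basicOpen r) := by
  let O : X.Modules := Coh.structureModule X
  let N : X.Modules := Formal.modPow I 1 O
  let π₀ : O ⟶ N := Formal.modPowπ I 1 O
  let W : X.Opens := ⟨U'ᶜ, hU'.isOpen_compl⟩
  let W' : X.Opens := ⟨Uᶜ, hU.isOpen_compl⟩
  have hWW' : (⊤ : X.Opens) ≤ W ⊔ W' := by
    intro x _
    by_cases hx : x ∈ U'
    · exact Or.inr (fun hxU => Set.disjoint_left.1 hd hxU hx)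
    · exact Or.inl hx
  have hdisj : ∀ n, ∀ x ∈ W ⊓ W', x ∉ CohB1.support (Formal.modPow I (n + 1) O) := by
    intro n x hx hxF
    have h1 : x ∈ U ∪ U' := by rw [hUU']; exact hsupp n hxF
    rcases h1 with h1 | h1
    · exact hx.2 h1
    · exact hx.1 h1
  obtain ⟨r, hr, h1, h2⟩ := exists_idempotent I W W' hWW' hdisj hbij
  haveI : N.IsQuasicoherent :=
    Groth.Agent.R2.H35.FFRees.isQCoh_modPow I 1 O (isQuasicoherent_structureModule X)
  haveI : Epi π₀ := inferInstanceAs (Epi (cokernel.π _))
  refine ⟨r, hr, ?_, ?_⟩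
  · intro x hxU hxr
    have hxN : x ∈ CohB1.support N := by rw [← hUU']; exact Or.inl hxU
    have hxW : x ∈ W := fun hxU' => Set.disjoint_left.1 hd hxU hxU'
    apply notMem_basicOpen_of_app_eq_zero π₀ x hxN W _ h1
    rw [Scheme.basicOpen_res]
    exact ⟨hxW, hxr⟩
  · intro x hxU' hxr
    have hxN : x ∈ CohB1.support N := by rw [← hUU']; exact Or.inr hxU'
    have hxW' : x ∈ W' := fun hxU => Set.disjoint_left.1 hd hxU hxU'
    apply notMem_basicOpen_of_app_eq_zero π₀ x hxN W' _ h2
    rw [Scheme.basicOpen_res]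
    exact ⟨hxW', hxr⟩

/-- Every clopen subset `U` of the closed fibre `Z` is the trace on `Z` of a clopen subset of `X`. -/
theorem exists_isClopen_of_clopen (I : Ideal A)
    (hsupp : ∀ n, CohB1.support (Formal.modPow I (n + 1) (Coh.structureModule X)) ⊆
      CohB1.support (Formal.modPow I 1 (Coh.structureModule X)))
    (hbij : Function.Bijective (Formal.toHHlim I (Coh.structureModule X) 0))
    (U U' : Set X) (hU : IsClosed U) (hU' : IsClosed U') (hd : Disjoint U U')
    (hUU' : U ∪ U' = CohB1.support (Formal.modPow I 1 (Coh.structureModule X))) :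
    ∃ C : Set X, IsClopen C ∧ U ⊆ C ∧ Disjoint U' C := by
  obtain ⟨r, hr, h1, h2⟩ := exists_idempotent_of_clopen I hsupp hbij U U' hU hU' hd hUU'
  have hr' : IsIdempotentElem r := hr
  refine ⟨(X.basicOpen r : X.Opens), ?_, ?_, ?_⟩
  · exact Groth.Agent.R2.H34.ConnIdem.isClopen_basicOpen_of_isIdempotentElem X hr'
  · intro x hx
    by_contra hxr
    have : x ∈ ((X.basicOpen r : X.Opens) : Set X)ᶜ := hxr
    rw [Groth.Agent.R2.H34.ConnIdem.basicOpen_compl_of_isIdempotentElem X hr'] at this
    exact h1 x hx this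
  · rw [Set.disjoint_left]
    intro x hx hxr
    exact h2 x hx hxr

end Groth.Agent.R2.H64.SteinIdem
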