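import Mathlib
import Groth.Prelude.Def_Coh
import Groth.Prelude.Def_CohB1
import Groth.Prelude.Def_Curv2
import Groth.Agent.R2.H62CohFin
import Groth.Agent.R2.H7CurveVanish
import Groth.Agent.R2.H1CohSum
import Groth.Agent.R2.H79TwistCalc
import Groth.Agent.Lib.Helper23QCohAbelian
import Groth.Agent.Lib.Helper23TensorQCoh
import Groth.Agent.Lib.Helper27PnSections
import Groth.Agent.S10945

/-!
# "Deformation ample" modules on curves: the formal part (helper65)

On a quasi-compact quasi-separated scheme `X` on which `H^2` of every quasi-coherent module vanishes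
(`H2Van X`; e.g. Noetherian of dimension `≤ 1`) and with `H^1(X, O_X) = 0`:

* `subsingleton_HH_one_of_epi` : `H^1` is right exact on quasi-coherent modules;
* `subsingleton_HH_one_of_rightExact` : `A → B → C → 0` exact, `H^1(A) = H^1(C) = 0` ⇒ `H^1(B) = 0`;
* `subsingleton_HH_one_of_gg` : a globally generated quasi-coherent module has `H^1 = 0`;
* `sections_surjective` : `H^1(S.X₁) = 0` ⇒ `Γ(S.X₂) → Γ(S.X₃)` surjective;
* `gg_tensor` : tensor products of globally generated modules are globally generated;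
* `subsingleton_HH_one_tensor_of_gg` : `M` globally generated, `H^1(G) = 0` ⇒ `H^1(M ⊗ G) = 0`;
* `defAmple_of_shortExact`, `defAmple_tensorPow` : the abstract forms of S17656 / S17657.
-/

set_option autoImplicit false
set_option linter.style.haveILetI false
universe u

open CategoryTheory CategoryTheory.Limits AlgebraicGeometry TopologicalSpace Opposite

namespace Groth.Agent.R2.H65.DefAmple

open Groth.Agent.R2.H62.CohLES Groth.Agent.R2.H79.TwistCalc
open Groth.Agent.Lib.Helper23.QCohLocal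

section generic

variable {C : Type*} [Category C]

theorem epi_sigma_desc_id (O : C) {κ : Type*} [Inhabited κ] [HasCoproduct (fun _ : κ => O)] :
    Epi (Sigma.desc (fun _ : κ => 𝟙 O)) :=
  (IsSplitEpi.mk' ⟨Sigma.ι (fun _ : κ => O) default, by simp⟩).epi

theorem epi_sigma_desc_of_epi [Preadditive C] {ι κ : Type*} (O N : C)
    [HasCoproduct (fun _ : κ => O)] [HasCoproduct (fun _ : ι => N)]
    [HasCoproduct (fun _ : ι × κ => O)] (q : (∐ fun _ : κ => O) ⟶ N) (hq : Epi q) :
    Epi (Sigma.desc (fun a : ι × κ =>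
      (Sigma.ι (fun _ : κ => O) a.2 ≫ q) ≫ Sigma.ι (fun _ : ι => N) a.1)) := by
  apply Preadditive.epi_of_cancel_zero
  intro Z h hh
  apply Sigma.hom_ext
  intro i
  rw [comp_zero, ← cancel_epi q]
  apply Sigma.hom_ext
  intro k
  have := congrArg (fun φ => Sigma.ι (fun _ : ι × κ => O) (i, k) ≫ φ) hh
  simp only [comp_zero] at this ⊢
  rw [← this, Sigma.ι_desc_assoc, Category.assoc, Category.assoc]

end generic

variable {X : Scheme.{u}}

/-- `H^2` of quasi-coherent modules vanishes. -/
def H2Van (X : Scheme.{u}) : Prop :=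
  ∀ F : X.Modules, F.IsQuasicoherent → Subsingleton (Coh.HH X F 2)

theorem h2Van_of_dim_le_one (X : Scheme.{u}) [IsNoetherian X] (hd : topologicalKrullDim X ≤ 1) :
    H2Van X := fun F hF =>
  Groth.Agent.R2.H7.CurveVanish.subsingleton_HH_of_dim_le_one X hd F hF 2 le_rfl

theorem isQuasicoherent_of_isFinLocFree (E : X.Modules) (hE : FlatMod.IsFinLocFree E) :
    E.IsQuasicoherent :=
  Groth.Agent.Helper18Strict.isQCoh_of_isFP E
    (Groth.Agent.Lib.Helper2.LocFree.isFP_of_isFinLocFree E hE)

theorem subsingleton_HH_of_iso {A B : X.Modules} (e : A ≅ B) (n : ℕ)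
    (h : Subsingleton (Coh.HH X A n)) : Subsingleton (Coh.HH X B n) := by
  have hinj : Function.Injective (HHmap e.inv n) := by
    intro x y hxy
    have := congrArg (HHmap e.hom n) hxy
    rwa [← HHmap_comp, ← HHmap_comp, e.inv_hom_id, HHmap_id, HHmap_id] at this
  exact hinj.subsingleton

/-- `H^1` is right exact on quasi-coherent modules. -/
theorem subsingleton_HH_one_of_epi (h2 : H2Van X) {A B : X.Modules} [A.IsQuasicoherent]
    [B.IsQuasicoherent] (φ : A ⟶ B) (hφ : Epi φ) (hA : Subsingleton (Coh.HH X A 1)) :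
    Subsingleton (Coh.HH X B 1) := by
  let S : ShortComplex X.Modules := ShortComplex.mk (kernel.ι φ) φ (kernel.condition φ)
  have hS : S.ShortExact :=
    ShortComplex.ShortExact.mk' (ShortComplex.exact_kernel φ)
      (inferInstanceAs (Mono (kernel.ι φ))) hφ
  haveI : (kernel φ).IsQuasicoherent := isQuasicoherent_kernel φ
  haveI : Subsingleton (Coh.HH X S.X₁ (1 + 1)) := h2 (kernel φ) inferInstance
  haveI : Subsingleton (Coh.HH X S.X₂ 1) := hA
  exact subsingleton_X₃ hS 1

/-- `A → B → C → 0` exact with `H^1(A) = H^1(C) = 0` ⇒ `H^1(B) = 0`. -/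
theorem subsingleton_HH_one_of_rightExact (h2 : H2Van X) (S : ShortComplex X.Modules)
    (hS : S.Exact) [Epi S.g] [S.X₁.IsQuasicoherent] [S.X₂.IsQuasicoherent] [S.X₃.IsQuasicoherent]
    (h₁ : Subsingleton (Coh.HH X S.X₁ 1)) (h₃ : Subsingleton (Coh.HH X S.X₃ 1)) :
    Subsingleton (Coh.HH X S.X₂ 1) := by
  haveI : (kernel S.g).IsQuasicoherent := isQuasicoherent_kernel S.g
  haveI : Epi (kernel.lift S.g S.f S.zero) := S.exact_iff_epi_kernel_lift.1 hS
  have hK : Subsingleton (Coh.HH X (kernel S.g) 1) :=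
    subsingleton_HH_one_of_epi h2 (kernel.lift S.g S.f S.zero) inferInstance h₁
  let T : ShortComplex X.Modules := ShortComplex.mk (kernel.ι S.g) S.g (kernel.condition S.g)
  have hT : T.ShortExact :=
    ShortComplex.ShortExact.mk' (ShortComplex.exact_kernel S.g)
      (inferInstanceAs (Mono (kernel.ι S.g))) (inferInstanceAs (Epi S.g))
  haveI : Subsingleton (Coh.HH X T.X₁ 1) := hK
  haveI : Subsingleton (Coh.HH X T.X₃ 1) := h₃
  exact subsingleton_X₂ hT 1

/-- a globally generated quasi-coherent module has `H^1 = 0` (when `H^1(O) = 0`, `H^2 = 0`). -/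
theorem subsingleton_HH_one_of_gg [CompactSpace X] [QuasiSeparatedSpace X] (h2 : H2Van X)
    (hg : Subsingleton (Coh.HH X (Coh.structureModule X) 1)) (F : X.Modules) [F.IsQuasicoherent]
    (hgg : Curv2.IsGloballyGenerated F) : Subsingleton (Coh.HH X F 1) := by
  obtain ⟨ι, p, hp⟩ := hgg
  haveI : (SheafOfModules.free ι : X.Modules).IsQuasicoherent := inferInstance
  exact subsingleton_HH_one_of_epi h2 p hp
    (Groth.Agent.R2.H1.CohSum.subsingleton_HH_free X 1 hg ι)

/-- `H^1(S.X₁) = 0` ⇒ `Γ(X, S.X₂) → Γ(X, S.X₃)` is surjective. -/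
theorem sections_surjective (S : ShortComplex X.Modules) (hS : S.ShortExact)
    (h₁ : Subsingleton (Coh.HH X S.X₁ 1)) :
    Function.Surjective (S.g.val.app (op ⊤)).hom := by
  intro y
  let e₂ := Groth.Agent.Lib.Helper27PnSections.hh0Equiv X S.X₂
  let e₃ := Groth.Agent.Lib.Helper27PnSections.hh0Equiv X S.X₃
  haveI : Subsingleton (Coh.HH X S.X₁ (0 + 1)) := h₁
  obtain ⟨x₂, hx₂⟩ := HHmap_g_surjective hS 0 (e₃.symm y)
  refine ⟨e₂ x₂, ?_⟩
  have hnat := Sheaf.H.equiv₀_naturality (f := toAbMap S.g) (hT := Limits.isTerminalTop) x₂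
  have h3 : e₃ (HHmap S.g 0 x₂) = y := by rw [hx₂, AddEquiv.apply_symm_apply]
  exact hnat.trans h3

/-! ### global generation -/

theorem gg_of_epi {A B : X.Modules} (φ : A ⟶ B) (hφ : Epi φ) (hA : Curv2.IsGloballyGenerated A) :
    Curv2.IsGloballyGenerated B := by
  obtain ⟨ι, p, hp⟩ := hA
  exact ⟨ι, p ≫ φ, @epi_comp _ _ _ _ _ p hp φ hφ⟩

theorem gg_of_iso {A B : X.Modules} (e : A ≅ B) (hA : Curv2.IsGloballyGenerated A) :
    Curv2.IsGloballyGenerated B := gg_of_epi e.hom inferInstance hA

theorem gg_unit : Curv2.IsGloballyGenerated (Coh.structureModule X) :=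
  ⟨PUnit.{u + 1}, Sigma.desc (fun _ => 𝟙 (Coh.structureModule X)),
    epi_sigma_desc_id (Coh.structureModule X) (κ := PUnit.{u + 1})⟩

/-- an arbitrary direct sum of copies of a globally generated module is globally generated -/
theorem gg_sigma (N : X.Modules) (hN : Curv2.IsGloballyGenerated N) (ι : Type u) :
    Curv2.IsGloballyGenerated (∐ fun _ : ι => N) := by
  obtain ⟨κ, q, hq⟩ := hN
  haveI hpre : Preadditive X.Modules := Abelian.toPreadditive
  have := @epi_sigma_desc_of_epi X.Modules _ hpre ι κ (Coh.structureModule X) N _ _ _ q hq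
  exact ⟨ι × κ, _, this⟩

/-- `(free ι) ⊗ G ≅ ∐_ι G` -/
noncomputable def freeTensorIso (ι : Type u) (G : X.Modules) :
    CohB1.tensorMod (SheafOfModules.free ι : X.Modules) G ≅ ∐ fun _ : ι => G :=
  haveI : PreservesColimitsOfSize.{u, u} (tensorRightF G) :=
    Groth.Agent.Lib.Helper21.ModTensor3.tR_preservesColimits X.sheaf G
  PreservesCoproduct.iso (tensorRightF G) (fun _ : ι => Coh.structureModule X) ≪≫
    Sigma.mapIso (fun _ : ι =>
      (Groth.Agent.Lib.Helper21.ModTensor7.tLUnitIso X.sheaf).app G)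

/-- tensor products of globally generated modules are globally generated -/
theorem gg_tensor (M N : X.Modules) (hM : Curv2.IsGloballyGenerated M)
    (hN : Curv2.IsGloballyGenerated N) : Curv2.IsGloballyGenerated (CohB1.tensorMod M N) := by
  obtain ⟨ι, p, hp⟩ := hM
  have hp' : Epi ((tensorRightF N).map p) := @epi_map_tensorRightF X N _ _ p hp
  exact gg_of_epi ((tensorRightF N).map p) hp' (gg_of_iso (freeTensorIso ι N).symm (gg_sigma N hN ι))

theorem gg_tensorPow (E : X.Modules) (hE : Curv2.IsGloballyGenerated E) (n : ℕ) :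
    Curv2.IsGloballyGenerated (CohB1.tensorPow E n) := by
  induction n with
  | zero => exact gg_unit
  | succ n ih => exact gg_tensor _ _ ih hE

theorem isQuasicoherent_tensorPow (E : X.Modules) [E.IsQuasicoherent] (n : ℕ) :
    (CohB1.tensorPow E n).IsQuasicoherent := by
  induction n with
  | zero => exact (inferInstance : (Coh.structureModule X).IsQuasicoherent)
  | succ n ih =>
    haveI := ih
    exact Groth.Agent.Lib.Helper23.TensorQCoh.isQuasicoherent_tensorMod _ E

/-- `M` globally generated, `H^1(G) = 0` ⇒ `H^1(M ⊗ G) = 0`. -/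
theorem subsingleton_HH_one_tensor_of_gg [CompactSpace X] [QuasiSeparatedSpace X] (h2 : H2Van X)
    (M G : X.Modules) [M.IsQuasicoherent] [G.IsQuasicoherent] (hM : Curv2.IsGloballyGenerated M)
    (hG : Subsingleton (Coh.HH X G 1)) : Subsingleton (Coh.HH X (CohB1.tensorMod M G) 1) := by
  obtain ⟨ι, p, hp⟩ := hM
  have hp' : Epi ((tensorRightF G).map p) := @epi_map_tensorRightF X G _ _ p hp
  haveI : (SheafOfModules.free ι : X.Modules).IsQuasicoherent := inferInstance
  haveI : (CohB1.tensorMod (SheafOfModules.free ι : X.Modules) G).IsQuasicoherent :=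
    Groth.Agent.Lib.Helper23.TensorQCoh.isQuasicoherent_tensorMod _ G
  haveI : (CohB1.tensorMod M G).IsQuasicoherent :=
    Groth.Agent.Lib.Helper23.TensorQCoh.isQuasicoherent_tensorMod M G
  have h0 : Subsingleton (Coh.HH X (∐ fun _ : ι => G) 1) :=
    Groth.Agent.R2.H1.CohSum.subsingleton_HH_sigma X 1 (fun _ : ι => G) (fun _ => hG)
  have h1 : Subsingleton (Coh.HH X (CohB1.tensorMod (SheafOfModules.free ι : X.Modules) G) 1) :=
    subsingleton_HH_of_iso (freeTensorIso ι G).symm 1 h0
  exact subsingleton_HH_one_of_epi h2 (A := CohB1.tensorMod (SheafOfModules.free ι : X.Modules) G)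
    (B := CohB1.tensorMod M G) ((tensorRightF G).map p) hp' h1

/-! ### the abstract statements -/

/-- abstract form of S17656 -/
theorem defAmple_of_shortExact [CompactSpace X] [QuasiSeparatedSpace X] (h2 : H2Van X)
    (hg : Subsingleton (Coh.HH X (Coh.structureModule X) 1)) (W : X.Modules) [W.IsQuasicoherent]
    (S : ShortComplex X.Modules) (hS : S.ShortExact)
    [S.X₁.IsQuasicoherent] [S.X₂.IsQuasicoherent] [S.X₃.IsQuasicoherent]
    (h₁ : Curv2.IsGloballyGenerated S.X₁ ∧ Subsingleton (Coh.HH X (CohB1.tensorMod S.X₁ W) 1))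
    (h₃ : Curv2.IsGloballyGenerated S.X₃ ∧ Subsingleton (Coh.HH X (CohB1.tensorMod S.X₃ W) 1)) :
    Curv2.IsGloballyGenerated S.X₂ ∧ Subsingleton (Coh.HH X (CohB1.tensorMod S.X₂ W) 1) := by
  constructor
  · have hH1 : Subsingleton (Coh.HH X S.X₁ 1) := subsingleton_HH_one_of_gg h2 hg S.X₁ h₁.1
    exact Groth.Agent.S10945.result X S hS (sections_surjective S hS hH1) h₁.1 h₃.1
  · haveI := hS.epi_g
    have hex : (S.map (tensorRightF W)).Exact :=
      hS.exact.map_of_epi_of_preservesCokernel (tensorRightF W) inferInstance inferInstance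
    haveI : Epi (S.map (tensorRightF W)).g := by
      change Epi ((tensorRightF W).map S.g)
      infer_instance
    haveI : (S.map (tensorRightF W)).X₁.IsQuasicoherent :=
      Groth.Agent.Lib.Helper23.TensorQCoh.isQuasicoherent_tensorMod S.X₁ W
    haveI : (S.map (tensorRightF W)).X₂.IsQuasicoherent :=
      Groth.Agent.Lib.Helper23.TensorQCoh.isQuasicoherent_tensorMod S.X₂ W
    haveI : (S.map (tensorRightF W)).X₃.IsQuasicoherent :=
      Groth.Agent.Lib.Helper23.TensorQCoh.isQuasicoherent_tensorMod S.X₃ W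
    exact subsingleton_HH_one_of_rightExact h2 (S.map (tensorRightF W)) hex h₁.2 h₃.2

/-- abstract form of S17657 -/
theorem defAmple_tensorPow [CompactSpace X] [QuasiSeparatedSpace X] (h2 : H2Van X)
    (W : X.Modules) [W.IsQuasicoherent] (E : X.Modules) [E.IsQuasicoherent]
    (h₁ : Curv2.IsGloballyGenerated E ∧ Subsingleton (Coh.HH X (CohB1.tensorMod E W) 1))
    (n : ℕ) (hn : 1 ≤ n) :
    Curv2.IsGloballyGenerated (CohB1.tensorPow E n) ∧
      Subsingleton (Coh.HH X (CohB1.tensorMod (CohB1.tensorPow E n) W) 1) := by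
  refine ⟨gg_tensorPow E h₁.1 n, ?_⟩
  obtain ⟨m, rfl⟩ : ∃ m, n = m + 1 := ⟨n - 1, by omega⟩
  haveI := isQuasicoherent_tensorPow E m
  haveI : (CohB1.tensorMod E W).IsQuasicoherent :=
    Groth.Agent.Lib.Helper23.TensorQCoh.isQuasicoherent_tensorMod E W
  have h := subsingleton_HH_one_tensor_of_gg h2 (CohB1.tensorPow E m) (CohB1.tensorMod E W)
    (gg_tensorPow E h₁.1 m) h₁.2
  exact subsingleton_HH_of_iso (tensorAssocIso (CohB1.tensorPow E m) E W).symm 1 h

end Groth.Agent.R2.H65.DefAmple
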