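import Mathlib.Analysis.Convex.Combination
import Mathlib.LinearAlgebra.Dual.Lemmas

/-!
# Gordan's lemma and separation of a point from a finitely generated convex hull

Everything is over an arbitrary linearly ordered field, with no topology: a point outside the
convex hull of a finite family of vectors is strictly separated from the family by a linear form.
-/

set_option autoImplicit false

namespace Groth.Agent.R2.H65.Gordan

universe u v w

variable {R : Type u} {V : Type v} [Field R] [LinearOrder R] [IsStrictOrderedRing R]
  [AddCommGroup V] [Module R V]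

/-- A family of vectors, restricted to a finset of indices, is positively independent: no
non-trivial combination with non-negative coefficients vanishes. -/
def PosIndep {κ : Type w} (t : Finset κ) (v : κ → V) : Prop :=
  ∀ u : κ → R, (∀ k ∈ t, 0 ≤ u k) → ∑ k ∈ t, u k • v k = 0 → ∀ k ∈ t, u k = 0

/-- **Gordan's lemma**: a positively independent finite family of vectors lies in an open
half-space. -/
theorem gordan {κ : Type w} [DecidableEq κ] (t : Finset κ) :
    ∀ v : κ → V, PosIndep (R := R) t v → ∃ f : V →ₗ[R] R, ∀ k ∈ t, 0 < f (v k) := by
  induction t using Finset.induction_on with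
  | empty => intro v _; exact ⟨0, by simp⟩
  | insert a t ha ih =>
    intro v hv
    have hv_t : PosIndep (R := R) t v := by
      intro u hu hsum k hk
      have hka : k ≠ a := fun h => ha (h ▸ hk)
      have := hv (fun k => if k = a then 0 else u k)
        (by
          intro l hl
          by_cases hla : l = a
          · simp [hla]
          · simp only [if_neg hla]
            exact hu l ((Finset.mem_insert.mp hl).resolve_left hla))
        (by
          rw [Finset.sum_insert ha]
          simp only [if_true, zero_smul, zero_add]
          rw [← hsum]
          refine Finset.sum_congr rfl fun l hl => ?_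
          have hla : l ≠ a := fun h => ha (h ▸ hl)
          rw [if_neg hla])
        k (Finset.mem_insert_of_mem hk)
      simpa [hka] using this
    obtain ⟨f, hf⟩ := ih v hv_t
    by_cases hfa : 0 < f (v a)
    · refine ⟨f, fun k hk => ?_⟩
      rcases Finset.mem_insert.mp hk with rfl | hk
      · exact hfa
      · exact hf k hk
    push Not at hfa
    by_cases ht : t.Nonempty
    swap
    · rw [Finset.not_nonempty_iff_eq_empty] at ht
      subst ht
      have hva : v a ≠ 0 := by
        intro h0
        have := hv (fun _ => 1) (by simp) (by simp [h0]) a (by simp)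
        exact one_ne_zero this
      obtain ⟨g, hg⟩ : ∃ g : Module.Dual R V, g (v a) ≠ 0 := by
        by_contra hcon
        push Not at hcon
        exact hva ((Module.forall_dual_apply_eq_zero_iff R (v a)).mp hcon)
      rcases lt_or_gt_of_ne hg with h | h
      · exact ⟨-g, by simpa using h⟩
      · exact ⟨g, by simpa using h⟩
    -- main case
    set c : R := - f (v a) with hc
    have hc0 : 0 ≤ c := by rw [hc]; linarith
    have hw : PosIndep (R := R) t (fun k => f (v k) • v a + c • v k) := by
      intro u hu hsum
      have hcomb : ∑ k ∈ insert a t,
          (fun k => if k = a then ∑ l ∈ t, u l * f (v l) else c * u k) k • v k = 0 := by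
        rw [Finset.sum_insert ha]
        simp only [if_true]
        rw [← hsum, Finset.sum_smul, ← Finset.sum_add_distrib]
        refine Finset.sum_congr rfl fun l hl => ?_
        have hla : l ≠ a := fun h => ha (h ▸ hl)
        rw [if_neg hla, smul_add, smul_smul, smul_smul, mul_comm (u l) c]
      have h := hv _ (by
          intro l hl
          by_cases hla : l = a
          · simp only [hla, if_true]
            exact Finset.sum_nonneg fun m hm => mul_nonneg (hu m hm) (hf m hm).le
          · simp only [if_neg hla]
            exact mul_nonneg hc0 (hu l ((Finset.mem_insert.mp hl).resolve_left hla)))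
        hcomb a (Finset.mem_insert_self a t)
      simp only [if_true] at h
      intro k hk
      have : u k * f (v k) = 0 :=
        (Finset.sum_eq_zero_iff_of_nonneg
          (fun l hl => mul_nonneg (hu l hl) (hf l hl).le)).mp h k hk
      exact (mul_eq_zero.mp this).resolve_right (hf k hk).ne'
    obtain ⟨g, hg⟩ := ih _ hw
    obtain ⟨k₀, hk₀, hmax⟩ := Finset.exists_max_image t (fun k => - g (v k) / f (v k)) ht
    set lam₀ : R := - g (v k₀) / f (v k₀) with hlam₀
    set X : R := g (v a) - lam₀ * c with hX
    have hXpos : 0 < X := by
      have h1 := hg k₀ hk₀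
      simp only [map_add, map_smul, smul_eq_mul] at h1
      have h2 := hf k₀ hk₀
      have h3 : X = (f (v k₀) * g (v a) + c * g (v k₀)) / f (v k₀) := by
        rw [hX, hlam₀]; field_simp; ring
      rw [h3]
      exact div_pos h1 h2
    have hc1 : 0 < c + 1 := by linarith
    refine ⟨g + (lam₀ + X / (c + 1)) • f, fun k hk => ?_⟩
    rcases Finset.mem_insert.mp hk with rfl | hk
    · have h1 : (g + (lam₀ + X / (c + 1)) • f) (v k) = X / (c + 1) := by
        simp only [LinearMap.add_apply, LinearMap.smul_apply, smul_eq_mul]
        have : f (v k) = - c := by rw [hc]; ring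
        rw [this, hX]
        field_simp
        ring
      rw [h1]
      exact div_pos hXpos hc1
    · have h2 := hf k hk
      have h3 : - g (v k) / f (v k) ≤ lam₀ := hmax k hk
      have h4 : - g (v k) ≤ lam₀ * f (v k) := by
        rwa [div_le_iff₀ h2] at h3
      have h5 : 0 < X / (c + 1) * f (v k) := mul_pos (div_pos hXpos hc1) h2
      simp only [LinearMap.add_apply, LinearMap.smul_apply, smul_eq_mul]
      nlinarith

/-- Strict separation of a point from the convex hull of a finite family, by a linear form. -/
theorem exists_linearMap_lt_of_notMem_convexHull {κ : Type w} [Finite κ] (v : κ → V) (S : Set κ)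
    (y : V) (hy : y ∉ convexHull R (v '' S)) :
    ∃ f : V →ₗ[R] R, ∀ k ∈ S, f y < f (v k) := by
  classical
  have _ := Fintype.ofFinite κ
  have hpi : PosIndep (R := R) S.toFinset (fun k => v k - y) := by
    intro u hu hsum
    by_contra hne
    push Not at hne
    obtain ⟨k, hk, hk0⟩ := hne
    have hpos : 0 < ∑ l ∈ S.toFinset, u l :=
      Finset.sum_pos' hu ⟨k, hk, lt_of_le_of_ne (hu k hk) (Ne.symm hk0)⟩
    apply hy
    have hmem := Finset.centerMass_mem_convexHull (R := R) S.toFinset (w := u) (z := v)
      (s := v '' S) hu hpos (fun l hl => ⟨l, Set.mem_toFinset.mp hl, rfl⟩)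
    have hcm : S.toFinset.centerMass u v = y := by
      rw [Finset.centerMass]
      have h1 : ∑ l ∈ S.toFinset, u l • v l = (∑ l ∈ S.toFinset, u l) • y := by
        have : ∑ l ∈ S.toFinset, u l • (v l - y) =
            ∑ l ∈ S.toFinset, u l • v l - (∑ l ∈ S.toFinset, u l) • y := by
          rw [Finset.sum_smul, ← Finset.sum_sub_distrib]
          exact Finset.sum_congr rfl fun l _ => smul_sub _ _ _
        rw [this] at hsum
        exact sub_eq_zero.mp hsum
      rw [h1, smul_smul, inv_mul_cancel₀ hpos.ne', one_smul]
    rwa [hcm] at hmem
  obtain ⟨f, hf⟩ := gordan S.toFinset _ hpi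
  refine ⟨f, fun k hk => ?_⟩
  have := hf k (Set.mem_toFinset.mpr hk)
  rw [map_sub] at this
  linarith

end Groth.Agent.R2.H65.Gordan
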