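import Mathlib.MeasureTheory.Group.Measure
import Mathlib.MeasureTheory.Group.Integral
import Mathlib.MeasureTheory.Constructions.Pi
import Mathlib.MeasureTheory.Integral.Bochner.Basic
import Mathlib.MeasureTheory.Integral.IntegrableOn
import Mathlib.MeasureTheory.Constructions.BorelSpace.Basic
import Mathlib.Topology.Algebra.Group.Basic
import Mathlib.Topology.UniformSpace.HeineCantor
import Mathlib.Data.Fintype.Powerset
import Mathlib.Algebra.BigOperators.Fin
import Mathlib.Data.Fin.Tuple.Basic
import Mathlib.Data.Real.Basic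
import Mathlib.Analysis.SpecificLimits.Basic

/-!
# Multi-cocycles on a compact abelian group are deviations of their Haar averages
-/

set_option autoImplicit false
set_option linter.unusedSectionVars false

noncomputable section

namespace Groth.Agent.R2.H65.HaarCocycle

open MeasureTheory Filter Topology

section Measurability

variable {ι : Type*} [Finite ι] {X : ι → Type*} [∀ i, TopologicalSpace (X i)]
  [∀ i, CompactSpace (X i)] [∀ i, MeasurableSpace (X i)] [∀ i, OpensMeasurableSpace (X i)]

/-- A continuous real function on a finite product of compact spaces is uniformly approximated by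
simple functions for the product sigma-algebra (no countability assumption on the factors). -/
lemma exists_simpleFunc_approx {f : (∀ i, X i) → ℝ} (hf : Continuous f) {ε : ℝ} (hε : 0 < ε) :
    ∃ g : SimpleFunc (∀ i, X i) ℝ, ∀ x, dist (f x) (g x) < ε := by
  have M : ∃ (g : SimpleFunc (∀ i, X i) ℝ) (s : Set (∀ i, X i)), MeasurableSet s ∧
      Set.univ ⊆ s ∧ ∀ x ∈ s, dist (f x) (g x) < ε := by
    apply IsCompact.induction_on
      (p := fun t ↦ ∃ (g : SimpleFunc (∀ i, X i) ℝ) (s : Set (∀ i, X i)), MeasurableSet s ∧
        t ⊆ s ∧ ∀ x ∈ s, dist (f x) (g x) < ε) isCompact_univ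
    · exact ⟨0, ∅, by simp⟩
    · intro t t' htt' ⟨g, s, s_meas, ts, hg⟩
      exact ⟨g, s, s_meas, htt'.trans ts, hg⟩
    · intro t t' ⟨g, s, s_meas, ts, hg⟩ ⟨g', s', s'_meas, t's', hg'⟩
      refine ⟨g.piecewise s s_meas g', s ∪ s', s_meas.union s'_meas,
        Set.union_subset_union ts t's', fun p hp ↦ ?_⟩
      by_cases H : p ∈ s
      · simpa [H, SimpleFunc.piecewise_apply] using hg p H
      · simp only [SimpleFunc.piecewise_apply, H, ite_false]
        apply hg'
        simpa [H] using (Set.mem_union _ _ _).1 hp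
    · intro x _
      have hopen : IsOpen {z | dist (f z) (f x) < ε} :=
        isOpen_lt (by fun_prop) continuous_const
      obtain ⟨u, hu, hsub⟩ := isOpen_pi_iff'.mp hopen x (by simpa using hε)
      refine ⟨Set.univ.pi u, nhdsWithin_le_nhds
        (set_pi_mem_nhds Set.finite_univ fun i _ => (hu i).1.mem_nhds (hu i).2), ?_⟩
      exact ⟨SimpleFunc.const _ (f x), Set.univ.pi u,
        MeasurableSet.univ_pi fun i => (hu i).1.measurableSet, Set.Subset.rfl,
        fun z hz ↦ hsub hz⟩
  obtain ⟨g, s, -, hs, hg⟩ := M
  exact ⟨g, fun x => hg x (hs (Set.mem_univ x))⟩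

theorem stronglyMeasurable_of_continuous {f : (∀ i, X i) → ℝ} (hf : Continuous f) :
    StronglyMeasurable f := by
  have : ∀ n : ℕ, ∃ g : SimpleFunc (∀ i, X i) ℝ, ∀ x, dist (f x) (g x) < 1 / ((n : ℝ) + 1) :=
    fun n => exists_simpleFunc_approx hf (by positivity)
  choose g hg using this
  refine ⟨g, fun x => ?_⟩
  rw [tendsto_iff_dist_tendsto_zero]
  refine squeeze_zero (fun n => dist_nonneg) (fun n => ?_) tendsto_one_div_add_atTop_nhds_zero_nat
  rw [dist_comm]
  exact (hg n x).le

theorem integrable_of_continuous {f : (∀ i, X i) → ℝ} (hf : Continuous f)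
    (ν : Measure (∀ i, X i)) [IsFiniteMeasure ν] : Integrable f ν := by
  obtain ⟨C, hC⟩ := isCompact_univ.exists_bound_of_continuousOn hf.continuousOn
  exact Integrable.of_bound (stronglyMeasurable_of_continuous hf).aestronglyMeasurable C
    (Eventually.of_forall fun x => hC x (Set.mem_univ x))

end Measurability

section Main

variable {G : Type*} [AddCommGroup G] [TopologicalSpace G] [IsTopologicalAddGroup G]
  [CompactSpace G] [T2Space G] [MeasurableSpace G] [BorelSpace G]
  (μ : Measure G) [μ.IsAddHaarMeasure] [IsProbabilityMeasure μ] {m : ℕ}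

/-- The point of `G^{m+1}` with first coordinate `s`, coordinates in `S` taken from `u` and the
others from `x`. -/
def P (S : Finset (Fin (m + 1))) (x : Fin (m + 1) → G) (s : G) (u : Fin m → G) :
    Fin (m + 1) → G :=
  S.piecewise (Fin.cons s u : Fin (m + 1) → G) (Function.update x 0 s)

lemma P_zero {S : Finset (Fin (m + 1))} (h0 : (0 : Fin (m + 1)) ∉ S) (x : Fin (m + 1) → G) (s : G)
    (u : Fin m → G) : P S x s u 0 = s := by
  simp [P, Finset.piecewise, h0]

lemma P_of_notMem {S : Finset (Fin (m + 1))} {i : Fin (m + 1)} (hi : i ∉ S) (hi0 : i ≠ 0)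
    (x : Fin (m + 1) → G) (s : G) (u : Fin m → G) : P S x s u i = x i := by
  simp [P, Finset.piecewise, hi, Function.update_of_ne hi0]

lemma P_succ_of_mem {S : Finset (Fin (m + 1))} {k : Fin m} (hk : k.succ ∈ S)
    (x : Fin (m + 1) → G) (s : G) (u : Fin m → G) : P S x s u k.succ = u k := by
  simp [P, Finset.piecewise, hk]

lemma P_empty (x : Fin (m + 1) → G) (s : G) (u : Fin m → G) :
    P ∅ x s u = Function.update x 0 s := by
  simp [P]

lemma P_univ_erase (x : Fin (m + 1) → G) (s : G) (u : Fin m → G) :
    P (Finset.univ.erase 0) x s u = (Fin.cons s u : Fin (m + 1) → G) := by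
  funext i
  refine Fin.cases ?_ (fun k => ?_) i
  · rw [P_zero (by simp)]; rfl
  · rw [P_succ_of_mem (by simp [Fin.succ_ne_zero])]; rfl

lemma P_insert {S : Finset (Fin (m + 1))} (h0 : (0 : Fin (m + 1)) ∉ S) {k : Fin m}
    (hk : k.succ ∉ S) (x : Fin (m + 1) → G) (s s' : G) (u : Fin m → G) (v : G) :
    Function.update (Function.update (P S x s u) 0 s') k.succ v =
      P (insert k.succ S) x s' (Function.update u k v) := by
  have h0' : (0 : Fin (m + 1)) ∉ insert k.succ S := by
    simp [Finset.mem_insert, h0, (Fin.succ_ne_zero k).symm]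
  funext i
  refine Fin.cases ?_ (fun l => ?_) i
  · rw [Function.update_of_ne (Fin.succ_ne_zero k).symm, Function.update_self, P_zero h0']
  · by_cases hlk : l = k
    · subst hlk
      rw [Function.update_self, P_succ_of_mem (Finset.mem_insert_self _ _), Function.update_self]
    · have hne : l.succ ≠ k.succ := fun h => hlk (Fin.succ_injective _ h)
      rw [Function.update_of_ne hne, Function.update_of_ne (Fin.succ_ne_zero l)]
      by_cases hl : l.succ ∈ S
      · rw [P_succ_of_mem hl, P_succ_of_mem (Finset.mem_insert_of_mem hl),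
          Function.update_of_ne hlk]
      · rw [P_of_notMem hl (Fin.succ_ne_zero l), P_of_notMem (by
          simp [Finset.mem_insert, hne, hl]) (Fin.succ_ne_zero l)]

lemma continuous_cons :
    Continuous (fun p : G × (Fin m → G) => (Fin.cons p.1 p.2 : Fin (m + 1) → G)) := by
  apply continuous_pi
  intro i
  refine Fin.cases ?_ (fun k => ?_) i
  · simp only [Fin.cons_zero]; fun_prop
  · simp only [Fin.cons_succ]; fun_prop

lemma continuous_P (S : Finset (Fin (m + 1))) (x : Fin (m + 1) → G) (s : G) :
    Continuous (fun u : Fin m → G => P S x s u) := by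
  apply continuous_pi
  intro i
  by_cases hi : i ∈ S
  · have : (fun u : Fin m → G => P S x s u i) =
        fun u => (Fin.cons s u : Fin (m + 1) → G) i := by
      funext u; simp [P, Finset.piecewise, hi]
    rw [this]
    exact (continuous_apply i).comp
      (continuous_cons.comp (Continuous.prodMk continuous_const continuous_id))
  · have : (fun u : Fin m → G => P S x s u i) = fun _ => Function.update x 0 s i := by
      funext u; simp [P, Finset.piecewise, hi]
    rw [this]
    exact continuous_const

omit [AddCommGroup G] [TopologicalSpace G] [IsTopologicalAddGroup G] [CompactSpace G] [T2Space G]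
  [MeasurableSpace G] [BorelSpace G] in
lemma update_update_eq_self {n : ℕ} (y : Fin n → G) {i j : Fin n} {a b : G} (hi : y i = a)
    (hj : y j = b) : Function.update (Function.update y i a) j b = y := by
  subst hi; subst hj
  rw [Function.update_eq_self, Function.update_eq_self]

variable (ψ : (Fin (m + 1) → G) → ℝ)

/-- The partial average of `ψ` over the coordinates in `S`. -/
def T (S : Finset (Fin (m + 1))) (x : Fin (m + 1) → G) (s : G) : ℝ :=
  ∫ u, ψ (P S x s u) ∂(Measure.pi (fun _ : Fin m => μ))

variable {ψ}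

lemma integrable_P (hψc : Continuous ψ) (S : Finset (Fin (m + 1))) (x : Fin (m + 1) → G)
    (s : G) :
    Integrable (fun u : Fin m → G => ψ (P S x s u)) (Measure.pi (fun _ : Fin m => μ)) :=
  integrable_of_continuous (hψc.comp (continuous_P S x s)) _

/-- The step: averaging over one more coordinate. -/
lemma T_step (hψc : Continuous ψ)
    (hψ : ∀ (i j : Fin (m + 1)), i ≠ j → ∀ (x : Fin (m + 1) → G) (a b c : G),
      ψ (Function.update (Function.update x i (a + b)) j c) +
          ψ (Function.update (Function.update x i a) j b) =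
        ψ (Function.update (Function.update x i a) j (b + c)) +
          ψ (Function.update (Function.update x i b) j c))
    {S : Finset (Fin (m + 1))} (h0 : (0 : Fin (m + 1)) ∉ S) {k : Fin m} (hk : k.succ ∉ S)
    (x : Fin (m + 1) → G) (s : G) :
    T μ ψ S x s = T μ ψ (insert k.succ S) x s + T μ ψ (insert k.succ S) x (x k.succ) -
      T μ ψ (insert k.succ S) x (s + x k.succ) := by
  have hpt : ∀ u : Fin m → G, ψ (P S x s u) =
      ψ (P (insert k.succ S) x s (u + Pi.single k (x k.succ))) +
        ψ (P (insert k.succ S) x (x k.succ) u) -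
        ψ (P (insert k.succ S) x (s + x k.succ) u) := by
    intro u
    have h := hψ 0 k.succ (Fin.succ_ne_zero k).symm (P S x s u) s (x k.succ) (u k)
    have e1 : Function.update (Function.update (P S x s u) 0 (s + x k.succ)) k.succ (u k) =
        P (insert k.succ S) x (s + x k.succ) u := by
      rw [P_insert h0 hk, Function.update_eq_self]
    have e2 : Function.update (Function.update (P S x s u) 0 s) k.succ (x k.succ) =
        P S x s u :=
      update_update_eq_self _ (P_zero h0 x s u) (P_of_notMem hk (Fin.succ_ne_zero k) x s u)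
    have e3 : Function.update (Function.update (P S x s u) 0 s) k.succ (x k.succ + u k) =
        P (insert k.succ S) x s (u + Pi.single k (x k.succ)) := by
      rw [P_insert h0 hk]
      congr 1
      funext l
      by_cases hl : l = k
      · subst hl; simp [add_comm]
      · simp [Function.update_of_ne hl, Pi.single_eq_of_ne hl]
    have e4 : Function.update (Function.update (P S x s u) 0 (x k.succ)) k.succ (u k) =
        P (insert k.succ S) x (x k.succ) u := by
      rw [P_insert h0 hk, Function.update_eq_self]
    rw [e1, e2, e3, e4] at h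
    linarith
  unfold T
  have hI1 : Integrable (fun u : Fin m → G =>
      ψ (P (insert k.succ S) x s (u + Pi.single k (x k.succ))))
      (Measure.pi (fun _ : Fin m => μ)) :=
    integrable_of_continuous (hψc.comp ((continuous_P _ x s).comp
      (continuous_id.add continuous_const))) _
  have hI2 := integrable_P μ hψc (insert k.succ S) x (x k.succ)
  have hI3 := integrable_P μ hψc (insert k.succ S) x (s + x k.succ)
  have hI12 : Integrable (fun u : Fin m → G =>
      ψ (P (insert k.succ S) x s (u + Pi.single k (x k.succ))) +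
        ψ (P (insert k.succ S) x (x k.succ) u)) (Measure.pi (fun _ : Fin m => μ)) :=
    hI1.add hI2
  rw [integral_congr_ae (Eventually.of_forall hpt), integral_sub hI12 hI3, integral_add hI1 hI2]
  congr 2
  exact integral_add_right_eq_self (fun u => ψ (P (insert k.succ S) x s u)) _

lemma sum_powerset_neg_one_pow_succ {α : Type*} {A : Finset α} (hA : A.Nonempty) :
    ∑ I ∈ A.powerset, (-1 : ℝ) ^ (I.card + 1) = 0 := by
  have h := Finset.sum_powerset_neg_one_pow_card_of_nonempty hA
  have h' : ∑ I ∈ A.powerset, (-1 : ℝ) ^ I.card = 0 := by exact_mod_cast h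
  simp only [pow_succ, ← Finset.sum_mul, h', zero_mul]

/-- The inductive identity: `ψ` through the partial averages over the coordinates in `S`. -/
theorem psi_eq_sum_T (hψc : Continuous ψ)
    (hψ : ∀ (i j : Fin (m + 1)), i ≠ j → ∀ (x : Fin (m + 1) → G) (a b c : G),
      ψ (Function.update (Function.update x i (a + b)) j c) +
          ψ (Function.update (Function.update x i a) j b) =
        ψ (Function.update (Function.update x i a) j (b + c)) +
          ψ (Function.update (Function.update x i b) j c))
    (S : Finset (Fin (m + 1))) (h0 : (0 : Fin (m + 1)) ∉ S) (x : Fin (m + 1) → G) :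
    ψ x = ∑ I ∈ (insert 0 S).powerset.erase ∅,
      (-1 : ℝ) ^ (I.card + 1) * T μ ψ S x (∑ i ∈ I, x i) := by
  induction S using Finset.induction_on with
  | empty =>
    rw [Finset.sum_erase_eq_sub (Finset.empty_mem_powerset _),
      Finset.sum_powerset_insert (Finset.notMem_empty _), Finset.powerset_empty,
      Finset.sum_singleton, Finset.sum_singleton]
    simp only [insert_empty_eq, Finset.card_singleton, Finset.sum_singleton]
    unfold T
    simp only [P_empty, Function.update_eq_self, integral_const, probReal_univ, one_smul]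
    norm_num
  | insert a S ha ih =>
    have ha0 : a ≠ 0 := fun h => h0 (h ▸ Finset.mem_insert_self a S)
    have h0S : (0 : Fin (m + 1)) ∉ S := fun h => h0 (Finset.mem_insert_of_mem h)
    obtain ⟨k, rfl⟩ := Fin.exists_succ_eq_of_ne_zero ha0
    have ih' := ih h0S
    set A : Finset (Fin (m + 1)) := insert 0 S with hA
    have hkA : k.succ ∉ A := by
      rw [hA, Finset.mem_insert]
      rintro (h | h)
      · exact ha0 h
      · exact ha h
    have hcomm : insert (0 : Fin (m + 1)) (insert k.succ S) = insert k.succ A :=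
      Finset.insert_comm _ _ _
    have hAne : A.Nonempty := ⟨0, Finset.mem_insert_self _ _⟩
    rw [hcomm, Finset.sum_erase_eq_sub (Finset.empty_mem_powerset _),
      Finset.sum_powerset_insert hkA]
    rw [Finset.sum_erase_eq_sub (Finset.empty_mem_powerset _)] at ih'
    rw [ih']
    set T' := T μ ψ (insert k.succ S) x with hT'
    have hstep : ∀ s, T μ ψ S x s = T' s + T' (x k.succ) - T' (s + x k.succ) :=
      fun s => T_step μ hψc hψ h0S ha x s
    have h1 : ∑ I ∈ A.powerset, (-1 : ℝ) ^ (I.card + 1) * T μ ψ S x (∑ i ∈ I, x i) =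
        ∑ I ∈ A.powerset, (-1 : ℝ) ^ (I.card + 1) * T' (∑ i ∈ I, x i) +
          (∑ I ∈ A.powerset, (-1 : ℝ) ^ (I.card + 1)) * T' (x k.succ) -
          ∑ I ∈ A.powerset, (-1 : ℝ) ^ (I.card + 1) * T' (∑ i ∈ I, x i + x k.succ) := by
      rw [Finset.sum_mul, ← Finset.sum_add_distrib, ← Finset.sum_sub_distrib]
      refine Finset.sum_congr rfl fun I _ => ?_
      rw [hstep]; ring
    have h2 : ∑ I ∈ A.powerset, (-1 : ℝ) ^ ((insert k.succ I).card + 1) *
        T' (∑ i ∈ insert k.succ I, x i) =
        - ∑ I ∈ A.powerset, (-1 : ℝ) ^ (I.card + 1) * T' (∑ i ∈ I, x i + x k.succ) := by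
      rw [← Finset.sum_neg_distrib]
      refine Finset.sum_congr rfl fun I hI => ?_
      have hkI : k.succ ∉ I := fun h => hkA (Finset.mem_powerset.mp hI h)
      rw [Finset.card_insert_of_notMem hkI, Finset.sum_insert hkI, add_comm (x k.succ), pow_succ]
      ring
    rw [h1, h2, sum_powerset_neg_one_pow_succ hAne, hstep]
    simp only [Finset.card_empty, Finset.sum_empty, zero_add, pow_one]
    ring

/-- The full average of `ψ` over the last `m` coordinates. -/
def Phi (ψ : (Fin (m + 1) → G) → ℝ) (g : G) : ℝ :=
  ∫ u, ψ (Fin.cons g u) ∂(Measure.pi (fun _ : Fin m => μ))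

lemma T_univ_erase (x : Fin (m + 1) → G) (s : G) :
    T μ ψ (Finset.univ.erase 0) x s = Phi μ ψ s := by
  unfold T Phi
  simp only [P_univ_erase]

lemma neg_one_pow_mul (k : ℕ) (t : ℝ) :
    (-1 : ℝ) ^ (m + 1 + k) * ((-1 : ℝ) ^ m * t) = (-1 : ℝ) ^ (k + 1) * t := by
  have : (-1 : ℝ) ^ (m + 1 + k) * (-1 : ℝ) ^ m = (-1 : ℝ) ^ (k + 1) := by
    rw [← pow_add]
    have : m + 1 + k + m = 2 * m + (k + 1) := by ring
    rw [this, pow_add, pow_mul]
    norm_num
  rw [← mul_assoc, this]

/-- `ψ` is the deviation of its full average. -/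
theorem psi_eq_deviation (hψc : Continuous ψ)
    (hψ : ∀ (i j : Fin (m + 1)), i ≠ j → ∀ (x : Fin (m + 1) → G) (a b c : G),
      ψ (Function.update (Function.update x i (a + b)) j c) +
          ψ (Function.update (Function.update x i a) j b) =
        ψ (Function.update (Function.update x i a) j (b + c)) +
          ψ (Function.update (Function.update x i b) j c))
    (x : Fin (m + 1) → G) :
    ψ x = ∑ I ∈ ((Finset.univ : Finset (Fin (m + 1))).powerset.erase ∅),
      (-1 : ℝ) ^ (m + 1 + I.card) * ((-1 : ℝ) ^ m * Phi μ ψ (∑ i ∈ I, x i)) := by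
  have h := psi_eq_sum_T μ hψc hψ (Finset.univ.erase 0) (by simp) x
  rw [Finset.insert_erase (Finset.mem_univ _)] at h
  rw [h]
  refine Finset.sum_congr rfl fun I _ => ?_
  rw [neg_one_pow_mul, T_univ_erase]

lemma integrable_cons (hψc : Continuous ψ) (g : G) :
    Integrable (fun u : Fin m → G => ψ (Fin.cons g u)) (Measure.pi (fun _ : Fin m => μ)) :=
  integrable_of_continuous (hψc.comp
    (continuous_cons.comp (Continuous.prodMk continuous_const continuous_id))) _

theorem continuous_Phi (hψc : Continuous ψ) : Continuous (Phi μ ψ) := by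
  rw [continuous_iff_continuousAt]
  intro g₀
  rw [Metric.continuousAt_iff']
  intro ε hε
  have hε2 : 0 < ε / 2 := by positivity
  have hcont : ContinuousOn (Function.uncurry
      (fun (g : G) (u : Fin m → G) => ψ (Fin.cons g u))) (Set.univ ×ˢ Set.univ) :=
    (hψc.comp continuous_cons).continuousOn
  obtain ⟨v, hv, hv'⟩ := IsCompact.mem_uniformity_of_prod (q := g₀) isCompact_univ hcont
    (Set.mem_univ g₀) (Metric.dist_mem_uniformity hε2)
  rw [nhdsWithin_univ] at hv
  filter_upwards [hv] with g hg
  unfold Phi
  rw [dist_eq_norm, ← integral_sub (integrable_cons μ hψc g) (integrable_cons μ hψc g₀)]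
  have hb : ∀ᵐ u ∂(Measure.pi (fun _ : Fin m => μ)),
      ‖ψ (Fin.cons g u) - ψ (Fin.cons g₀ u)‖ ≤ ε / 2 := by
    refine Eventually.of_forall fun u => ?_
    have := hv' g hg u (Set.mem_univ u)
    rw [← dist_eq_norm]
    exact this.le
  have := norm_integral_le_of_norm_le_const hb
  rw [probReal_univ, mul_one] at this
  linarith

omit [CompactSpace G] [T2Space G] [IsTopologicalAddGroup G] [TopologicalSpace G]
  [MeasurableSpace G] [BorelSpace G] in
lemma cons_add_single (g : G) (u : Fin m → G) (k : Fin m) (t : G) :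
    (Fin.cons g (u + Pi.single k t) : Fin (m + 1) → G) =
      (Fin.cons g u : Fin (m + 1) → G) + Pi.single k.succ t := by
  funext i
  refine Fin.cases ?_ (fun l => ?_) i
  · simp
  · by_cases hl : l = k
    · subst hl; simp
    · have hne : l.succ ≠ k.succ := fun h => hl (Fin.succ_injective _ h)
      simp [Pi.single_eq_of_ne hl, Pi.single_eq_of_ne hne]

/-- Averages of `φ` over sums of coordinates do not see an extra translation. -/
lemma integral_insert_zero {φ : G → ℝ} (g : G) {I : Finset (Fin (m + 1))}
    (h0 : (0 : Fin (m + 1)) ∉ I) (hI : I.Nonempty) :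
    ∫ u, φ (∑ i ∈ insert 0 I, (Fin.cons g u : Fin (m + 1) → G) i)
        ∂(Measure.pi (fun _ : Fin m => μ)) =
      ∫ u, φ (∑ i ∈ I, (Fin.cons g u : Fin (m + 1) → G) i)
        ∂(Measure.pi (fun _ : Fin m => μ)) := by
  obtain ⟨i₀, hi₀⟩ := hI
  have hi₀0 : i₀ ≠ 0 := fun h => h0 (h ▸ hi₀)
  obtain ⟨k, rfl⟩ := Fin.exists_succ_eq_of_ne_zero hi₀0
  have key : ∀ u : Fin m → G,
      ∑ i ∈ insert 0 I, (Fin.cons g u : Fin (m + 1) → G) i =
        ∑ i ∈ I, (Fin.cons g (u + Pi.single k g) : Fin (m + 1) → G) i := by
    intro u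
    rw [Finset.sum_insert h0, cons_add_single]
    simp only [Pi.add_apply, Finset.sum_add_distrib, Finset.sum_pi_single', if_pos hi₀,
      Fin.cons_zero]
    rw [add_comm]
  simp only [key]
  exact integral_add_right_eq_self
    (fun u => φ (∑ i ∈ I, (Fin.cons g u : Fin (m + 1) → G) i)) _

theorem eq_of_deviation (φ : G → ℝ) (hφc : Continuous φ)
    (hφ : ∀ x : Fin (m + 1) → G,
      ψ x = ∑ I ∈ ((Finset.univ : Finset (Fin (m + 1))).powerset.erase ∅),
        (-1 : ℝ) ^ (m + 1 + I.card) * φ (∑ i ∈ I, x i)) (g : G) :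
    φ g = (-1 : ℝ) ^ m * Phi μ ψ g := by
  have hint : ∀ I : Finset (Fin (m + 1)), Integrable
      (fun u : Fin m → G => φ (∑ i ∈ I, (Fin.cons g u : Fin (m + 1) → G) i))
      (Measure.pi (fun _ : Fin m => μ)) := by
    intro I
    apply integrable_of_continuous
    apply hφc.comp
    apply continuous_finsetSum
    intro i _
    exact (continuous_apply i).comp
      (continuous_cons.comp (Continuous.prodMk continuous_const continuous_id))
  set F : Finset (Fin (m + 1)) → ℝ := fun I => (-1 : ℝ) ^ (m + 1 + I.card) *
    ∫ u, φ (∑ i ∈ I, (Fin.cons g u : Fin (m + 1) → G) i)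
      ∂(Measure.pi (fun _ : Fin m => μ)) with hF
  have h1 : Phi μ ψ g = ∑ I ∈ ((Finset.univ : Finset (Fin (m + 1))).powerset.erase ∅), F I := by
    unfold Phi
    simp only [hφ]
    rw [integral_finsetSum _ fun I _ => (hint I).const_mul _]
    refine Finset.sum_congr rfl fun I _ => ?_
    rw [integral_const_mul]
  set E : Finset (Fin (m + 1)) := Finset.univ.erase 0 with hE
  have h0E : (0 : Fin (m + 1)) ∉ E := by simp [hE]
  have huniv : (Finset.univ : Finset (Fin (m + 1))) = insert 0 E := by
    rw [hE, Finset.insert_erase (Finset.mem_univ _)]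
  have h2 : ∑ I ∈ E.powerset, (F I + F (insert 0 I)) = F ∅ + F {0} := by
    rw [Finset.sum_eq_single ∅]
    · rfl
    · intro I hI hne
      have h0I : (0 : Fin (m + 1)) ∉ I := fun h => h0E (Finset.mem_powerset.mp hI h)
      simp only [hF]
      rw [integral_insert_zero μ g h0I (Finset.nonempty_iff_ne_empty.mpr hne),
        Finset.card_insert_of_notMem h0I, ← add_assoc, pow_succ]
      ring
    · intro h; exact absurd (Finset.empty_mem_powerset _) h
  have h3 : F {0} = (-1 : ℝ) ^ m * φ g := by
    simp only [hF, Finset.card_singleton, Finset.sum_singleton, Fin.cons_zero, integral_const,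
      probReal_univ, one_smul]
    rw [pow_add, pow_add]; ring
  rw [h1, Finset.sum_erase_eq_sub (Finset.empty_mem_powerset _), huniv,
    Finset.sum_powerset_insert h0E, ← Finset.sum_add_distrib, h2, h3]
  have : (-1 : ℝ) ^ m * (-1 : ℝ) ^ m = 1 := by
    rw [← pow_add, ← two_mul, pow_mul]; norm_num
  linear_combination (-φ g) * this

end Main

end Groth.Agent.R2.H65.HaarCocycle
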