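import Mathlib

/-!
# helper65: closed immersions / immersions from affine charts with surjective maps on sections

* `isClosedImmersion_of_forall_exists` : `f : X ⟶ Y` is a closed immersion as soon as every point of `Y`
  has an affine open neighbourhood `U` with `f⁻¹ U` affine and `Γ(Y, U) → Γ(X, f⁻¹ U)` surjective
  (no a priori affineness of `f` needed).
* `isImmersion_of_forall_exists` : `f : X ⟶ Y` is an immersion as soon as every point `x` of `X` has such a
  `U ∋ f x`.
-/

set_option autoImplicit false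
universe u

open CategoryTheory CategoryTheory.Limits AlgebraicGeometry TopologicalSpace Opposite

namespace Groth.Agent.R2.H65.ImmCover

theorem isClosedImmersion_of_forall_exists {X Y : Scheme.{u}} (f : X ⟶ Y)
    (H : ∀ y : Y, ∃ U : Y.Opens, y ∈ U ∧ IsAffineOpen U ∧ IsAffineOpen (f ⁻¹ᵁ U) ∧
      Function.Surjective (f.app U)) :
    IsClosedImmersion f := by
  apply IsZariskiLocalAtTarget.of_forall_exists_morphismRestrict (P := @IsClosedImmersion)
  intro y
  obtain ⟨U, hy, hU, hV, hs⟩ := H y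
  refine ⟨U, hy, ?_⟩
  have e : Arrow.mk (f ∣_ U) ≅ Arrow.mk (Spec.map (f.app U)) :=
    Arrow.isoMk hV.isoSpec hU.isoSpec (by
      simp only [Arrow.mk_left, Arrow.mk_right, Arrow.mk_hom, IsAffineOpen.isoSpec_hom]
      exact Scheme.Opens.toSpecΓ_naturality f U)
  exact (MorphismProperty.arrow_mk_iso_iff @IsClosedImmersion e).mpr
    (IsClosedImmersion.spec_of_surjective _ hs)

/-- a morphism through an open `W`, closed-immersion criterion for the factorisation -/
theorem isClosedImmersion_lift {X Y : Scheme.{u}} (W : Y.Opens) (f' : X ⟶ W)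
    (H : ∀ y : W, ∃ U : Y.Opens, y.1 ∈ U ∧ U ≤ W ∧ IsAffineOpen U ∧
      IsAffineOpen ((f' ≫ W.ι) ⁻¹ᵁ U) ∧ Function.Surjective ((f' ≫ W.ι).app U)) :
    IsClosedImmersion f' := by
  apply isClosedImmersion_of_forall_exists
  intro y
  obtain ⟨U, hy, hUW, hU, hV, hs⟩ := H y
  refine ⟨W.ι ⁻¹ᵁ U, hy, ?_, hV, ?_⟩
  · exact hU.preimage_of_isOpenImmersion W.ι (by rwa [Scheme.Opens.opensRange_ι])
  · have h1 : (f' ≫ W.ι).app U = W.ι.app U ≫ f'.app (W.ι ⁻¹ᵁ U) := Scheme.Hom.comp_app _ _ _
    rw [h1] at hs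
    intro t
    obtain ⟨a, ha⟩ := hs t
    exact ⟨W.ι.app U a, ha⟩

/-- `f : X ⟶ Y` is an immersion as soon as every point `x` of `X` has an affine open neighbourhood `U` of
`f x` with `f⁻¹ U` affine and `Γ(Y, U) → Γ(X, f⁻¹ U)` surjective. -/
theorem isImmersion_of_forall_exists {X Y : Scheme.{u}} (f : X ⟶ Y)
    (H : ∀ x : X, ∃ U : Y.Opens, f x ∈ U ∧ IsAffineOpen U ∧ IsAffineOpen (f ⁻¹ᵁ U) ∧
      Function.Surjective (f.app U)) :
    IsImmersion f := by
  choose U hxU hU hV hs using H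
  let W : Y.Opens := ⨆ x, U x
  have hW : ∀ x, f x ∈ W := fun x => Opens.mem_iSup.2 ⟨x, hxU x⟩
  have hrange : Set.range f ⊆ Set.range W.ι := by
    rintro _ ⟨x, rfl⟩
    rw [Scheme.Opens.range_ι]
    exact hW x
  let f' : X ⟶ W := IsOpenImmersion.lift W.ι f hrange
  have hf' : f' ≫ W.ι = f := IsOpenImmersion.lift_fac _ _ _
  have : IsClosedImmersion f' := by
    refine isClosedImmersion_lift W f' (fun y => ?_)
    obtain ⟨x, hx⟩ := Opens.mem_iSup.1 y.2
    refine ⟨U x, hx, le_iSup U x, hU x, ?_, ?_⟩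
    · rw [hf']; exact hV x
    · rw [hf']; exact hs x
  rw [← hf']
  infer_instance

end Groth.Agent.R2.H65.ImmCover
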