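import Mathlib
import Groth.Agent.Lib.Helper13AffMor

/-!
# helper65: evaluation of functions at a `B`-valued point `q : Spec B ⟶ X`

`evAt q O hq : Γ(X, O) ⟶ B` for an open `O` containing the image of `q`; functoriality
(`evAt_comp`), restriction (`evAt_res`), reconstruction of `q` from `evAt` on an affine open
(`eq_SpecMap_evAt`, `evAt_SpecMap_fromSpec`), and non-vanishing (`mem_basicOpen_iff_evAt_ne_zero`).
-/

set_option autoImplicit false
universe u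

open CategoryTheory CategoryTheory.Limits AlgebraicGeometry TopologicalSpace Opposite

namespace Groth.Agent.R2.H65.KPoint

variable {X Y : Scheme.{u}} {B : CommRingCat.{u}}

theorem top_le_preimage (q : Spec B ⟶ X) (O : X.Opens) (hq : ∀ y, q y ∈ O) :
    (⊤ : (Spec B).Opens) ≤ q ⁻¹ᵁ O := fun y _ => hq y

theorem mem_of_top_le_preimage (q : Spec B ⟶ X) (O : X.Opens)
    (hq : (⊤ : (Spec B).Opens) ≤ q ⁻¹ᵁ O) (y : Spec B) : q y ∈ O := hq (show y ∈ ⊤ from trivial)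

/-- evaluation at a `B`-point landing in `O` -/
noncomputable def evAt (q : Spec B ⟶ X) (O : X.Opens) (hq : (⊤ : (Spec B).Opens) ≤ q ⁻¹ᵁ O) :
    Γ(X, O) ⟶ B :=
  q.appLE O ⊤ hq ≫ (Scheme.ΓSpecIso B).hom

theorem evAt_comp (q : Spec B ⟶ X) (g : X ⟶ Y) (V : Y.Opens) (O : X.Opens) (hO : O ≤ g ⁻¹ᵁ V)
    (hq : (⊤ : (Spec B).Opens) ≤ q ⁻¹ᵁ O) (hqg : (⊤ : (Spec B).Opens) ≤ (q ≫ g) ⁻¹ᵁ V) :
    evAt (q ≫ g) V hqg = g.appLE V O hO ≫ evAt q O hq := by
  unfold evAt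
  rw [← Category.assoc, Scheme.Hom.appLE_comp_appLE]

theorem evAt_res (q : Spec B ⟶ X) {O O' : X.Opens} (h : O' ≤ O)
    (hq' : (⊤ : (Spec B).Opens) ≤ q ⁻¹ᵁ O') (hq : (⊤ : (Spec B).Opens) ≤ q ⁻¹ᵁ O) :
    X.presheaf.map (homOfLE h).op ≫ evAt q O' hq' = evAt q O hq := by
  unfold evAt
  rw [← Category.assoc, Scheme.Hom.map_appLE]

theorem evAt_res_apply (q : Spec B ⟶ X) {O O' : X.Opens} (h : O' ≤ O)
    (hq' : (⊤ : (Spec B).Opens) ≤ q ⁻¹ᵁ O') (hq : (⊤ : (Spec B).Opens) ≤ q ⁻¹ᵁ O)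
    (f : Γ(X, O)) :
    (evAt q O' hq').hom ((X.presheaf.map (homOfLE h).op).hom f) = (evAt q O hq).hom f := by
  rw [← evAt_res q h hq' hq]
  rfl

/-- a `B`-point landing in an affine open is `Spec` of its evaluation map -/
theorem eq_SpecMap_evAt (q : Spec B ⟶ X) {U : X.Opens} (hU : IsAffineOpen U)
    (hq : (⊤ : (Spec B).Opens) ≤ q ⁻¹ᵁ U) : q = Spec.map (evAt q U hq) ≫ hU.fromSpec := by
  unfold evAt
  have h1 := IsAffineOpen.SpecMap_appLE_fromSpec q hU (isAffineOpen_top (Spec B)) hq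
  rw [IsAffineOpen.fromSpec_top, Scheme.isoSpec_Spec_inv] at h1
  rw [Spec.map_comp, Category.assoc, h1, ← Category.assoc, ← Spec.map_comp, Iso.inv_hom_id,
    Spec.map_id, Category.id_comp]

theorem fromSpec_mem {U : X.Opens} (hU : IsAffineOpen U) (x : Spec Γ(X, U)) :
    hU.fromSpec x ∈ U := by
  have h : hU.fromSpec x ∈ Set.range hU.fromSpec := ⟨x, rfl⟩
  rw [hU.range_fromSpec] at h
  exact h

theorem SpecMap_fromSpec_le {U : X.Opens} (hU : IsAffineOpen U) (ε : Γ(X, U) ⟶ B) :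
    (⊤ : (Spec B).Opens) ≤ (Spec.map ε ≫ hU.fromSpec) ⁻¹ᵁ U := by
  intro y _
  change (Spec.map ε ≫ hU.fromSpec) y ∈ U
  rw [Scheme.Hom.comp_apply]
  exact fromSpec_mem hU _

theorem evAt_SpecMap_fromSpec {U : X.Opens} (hU : IsAffineOpen U) (ε : Γ(X, U) ⟶ B)
    (h : (⊤ : (Spec B).Opens) ≤ (Spec.map ε ≫ hU.fromSpec) ⁻¹ᵁ U) :
    evAt (Spec.map ε ≫ hU.fromSpec) U h = ε := by
  have h := eq_SpecMap_evAt (Spec.map ε ≫ hU.fromSpec) hU h
  rw [cancel_mono] at h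
  exact (Spec.map_injective h).symm

open Groth.Agent.Helper13AffMor in
/-- a point of `Spec K` (K a field) lies in the basic open of `f` iff `f` does not vanish there -/
theorem mem_basicOpen_iff_evAt_ne_zero {K : Type u} [Field K]
    (q : Spec (CommRingCat.of K) ⟶ X) (O : X.Opens)
    (hq : (⊤ : (Spec (CommRingCat.of K)).Opens) ≤ q ⁻¹ᵁ O) (f : Γ(X, O))
    (y : Spec (CommRingCat.of K)) :
    q y ∈ X.basicOpen f ↔ (evAt q O hq).hom f ≠ 0 := by
  have h1 := basicOpen_appLE q hq f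
  have h2 : (q.appLE O ⊤ hq).hom f =
      (Scheme.ΓSpecIso (CommRingCat.of K)).inv.hom ((evAt q O hq).hom f) := by
    unfold evAt
    rw [CommRingCat.comp_apply]
    change _ = ((Scheme.ΓSpecIso (CommRingCat.of K)).hom ≫
      (Scheme.ΓSpecIso (CommRingCat.of K)).inv).hom _
    rw [Iso.hom_inv_id]
    rfl
  rw [h2, basicOpen_eq_of_affine] at h1
  have h3 : q y ∈ X.basicOpen f ↔ y ∈ (⊤ ⊓ q ⁻¹ᵁ X.basicOpen f : (Spec (CommRingCat.of K)).Opens) :=
    ⟨fun h => ⟨trivial, h⟩, fun h => h.2⟩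
  rw [h3, ← h1]
  change (evAt q O hq).hom f ∉ (y : PrimeSpectrum K).asIdeal ↔ _
  have hbot : (y : PrimeSpectrum K).asIdeal = ⊥ :=
    (Ideal.eq_bot_or_top _).resolve_right (y : PrimeSpectrum K).isPrime.ne_top
  rw [hbot, Ideal.mem_bot]

end Groth.Agent.R2.H65.KPoint
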