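import Groth.Agent.R2.H65PnSegre3

/-!
# helper65: morphisms to `P^M_R` from local homogeneous coordinates

Given a scheme `Q`, an open cover `V a`, ring maps `s a : R →+* Γ(Q, V a)` agreeing on overlaps and
tuples `F a : Fin (M+1) → Γ(Q, V a)` which on overlaps differ by a common factor and whose basic opens
cover `V a`, there is a morphism `μ : Q ⟶ P^M_R` which on `Q.basicOpen (F a l)` is the chart morphism
`T_k/T_l ↦ F a k / F a l` (`exists_map_of_local_coords`).
-/

set_option autoImplicit false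
set_option linter.unusedSectionVars false
universe u

open CategoryTheory CategoryTheory.Limits AlgebraicGeometry TopologicalSpace Opposite

namespace Groth.Agent.R2.H65.PnMap

open Groth.Agent.Helper13AffMor Groth.Agent.Helper13Dehom Groth.Agent.Helper13ProjUP
open Groth.Agent.R2.H65.PnSegre
open MvPolynomial

variable {Q : Scheme.{u}} {R : Type u} [CommRing R] (M : ℕ)

/-- restriction of sections -/
noncomputable abbrev res {O O' : Q.Opens} (h : O' ≤ O) : Γ(Q, O) →+* Γ(Q, O') :=
  (Q.presheaf.map (homOfLE h).op).hom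

theorem res_res {O O' O'' : Q.Opens} (h : O' ≤ O) (h' : O'' ≤ O') (x : Γ(Q, O)) :
    res h' (res h x) = res (h'.trans h) x := by
  change ((Q.presheaf.map (homOfLE h).op) ≫ (Q.presheaf.map (homOfLE h').op)).hom x = _
  rw [← Functor.map_comp]
  rfl

section chartHom

variable {O : Q.Opens} (s : R →+* Γ(Q, O)) (F : Fin (M + 1) → Γ(Q, O)) (w : Γ(Q, O))

/-- `T_k ↦ F k * w` (think `w = (F l)⁻¹`) -/
noncomputable def chartHom : MvPolynomial (Fin (M + 1)) R →+* Γ(Q, O) :=
  eval₂Hom s (fun k => F k * w)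

theorem chartHom_C (r : R) : chartHom M s F w (C r) = s r := eval₂Hom_C _ _ _

theorem chartHom_X (k : Fin (M + 1)) : chartHom M s F w (X k) = F k * w := eval₂Hom_X' _ _ _

theorem chartHom_X_self {l : Fin (M + 1)} (hw : F l * w = 1) : chartHom M s F w (X l) = 1 := by
  rw [chartHom_X, hw]

theorem chartHom_res {O' : Q.Opens} (h : O' ≤ O) (c : MvPolynomial (Fin (M + 1)) R) :
    res h (chartHom M s F w c) =
      chartHom M ((res h).comp s) (fun k => res h (F k)) (res h w) c := by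
  have key : (res h).comp (chartHom M s F w) =
      chartHom M ((res h).comp s) (fun k => res h (F k)) (res h w) := by
    apply MvPolynomial.ringHom_ext
    · intro r
      rw [RingHom.comp_apply, chartHom_C, chartHom_C]
      rfl
    · intro k
      rw [RingHom.comp_apply, chartHom_X, chartHom_X, map_mul]
  exact RingHom.congr_fun key c

theorem chartHom_congr_unit (F' : Fin (M + 1) → Γ(Q, O)) (w' u : Γ(Q, O))
    (hu : ∀ k, F' k = u * F k) {l : Fin (M + 1)} (hw : F l * w = 1) (hw' : F' l * w' = 1) :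
    chartHom M s F' w' = chartHom M s F w := by
  have h1 : w = u * w' := by
    calc w = w * (F' l * w') := by rw [hw', mul_one]
      _ = (F l * w) * (u * w') := by rw [hu l]; ring
      _ = u * w' := by rw [hw, one_mul]
  apply MvPolynomial.ringHom_ext
  · intro r
    rw [chartHom_C, chartHom_C]
  · intro k
    rw [chartHom_X, chartHom_X, hu k, h1]
    ring

theorem chartHom_change {l k : Fin (M + 1)} (wl wk : Γ(Q, O)) (hl : F l * wl = 1)
    (_hk : F k * wk = 1) {d : ℕ} {c : MvPolynomial (Fin (M + 1)) R}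
    (hc : c ∈ CohB1.polyGrading M R d) :
    chartHom M s F wk c = (F l * wk) ^ d * chartHom M s F wl c := by
  have key : chartHom M s F wk = eval₂Hom s (fun m => (F l * wk) * (F m * wl)) := by
    apply MvPolynomial.ringHom_ext
    · intro r
      rw [chartHom_C, eval₂Hom_C]
    · intro m
      rw [chartHom_X, eval₂Hom_X']
      calc F m * wk = (F l * wl) * (F m * wk) := by rw [hl, one_mul]
        _ = _ := by ring
  rw [key, eval₂Hom_scale _ _ _ ((mem_homogeneousSubmodule _ _).mp hc)]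
  rfl

end chartHom

section chartMor

/-- the chart morphism `O ⟶ D₊(T_l) ⟶ P^M_R`, `T_k/T_l ↦ F k * w` -/
noncomputable def chartMor (O : Q.Opens) (s : R →+* Γ(Q, O)) (F : Fin (M + 1) → Γ(Q, O))
    (l : Fin (M + 1)) (w : Γ(Q, O)) (hw : F l * w = 1) :
    (O : Scheme.{u}) ⟶ Proj (CohB1.polyGrading M R) :=
  toAff (isAffineOpen_D M R l)
    (dehomLiftCat (hX M R l) (B := Γ(Q, O)) (chartHom M s F w) (chartHom_X_self M s F w hw))

theorem dehomLiftCat_congr {A : Type u} [CommRing A] [Algebra R A] {𝒜 : ℕ → Submodule R A}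
    [GradedAlgebra 𝒜] {f : A} (hf : f ∈ 𝒜 1) {B : CommRingCat.{u}} (ψ ψ' : A →+* B) (e : ψ = ψ')
    (hψ : ψ f = 1) (hψ' : ψ' f = 1) : dehomLiftCat hf ψ hψ = dehomLiftCat hf ψ' hψ' := by
  subst e
  rfl

theorem chartMor_congr (O : Q.Opens) (s s' : R →+* Γ(Q, O)) (F F' : Fin (M + 1) → Γ(Q, O))
    (l : Fin (M + 1)) (w w' : Γ(Q, O)) (hw : F l * w = 1) (hw' : F' l * w' = 1)
    (e : chartHom M s F w = chartHom M s' F' w') :
    chartMor M O s F l w hw = chartMor M O s' F' l w' hw' := by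
  unfold chartMor
  rw [dehomLiftCat_congr (hX M R l) _ _ e]

theorem chartMor_res {O O' : Q.Opens} (h : O' ≤ O) (s : R →+* Γ(Q, O))
    (F : Fin (M + 1) → Γ(Q, O)) (l : Fin (M + 1)) (w : Γ(Q, O)) (hw : F l * w = 1) :
    Q.homOfLE h ≫ chartMor M O s F l w hw =
      chartMor M O' ((res h).comp s) (fun k => res h (F k)) l (res h w)
        (by rw [← map_mul, hw, map_one]) := by
  unfold chartMor
  rw [toAff_homOfLE]
  congr 1
  ext1
  apply dehom_ringHom_ext (hX M R l)
  intro c
  change res h ((dehomLiftCat (hX M R l) (B := Γ(Q, O)) (chartHom M s F w) _).hom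
    (dehom (hX M R l) c)) = _
  rw [dehomLiftCat_dehom, dehomLiftCat_dehom, chartHom_res]

theorem chartMor_change (O : Q.Opens) (s : R →+* Γ(Q, O)) (F : Fin (M + 1) → Γ(Q, O))
    {l k : Fin (M + 1)} (wl wk : Γ(Q, O)) (hl : F l * wl = 1) (hk : F k * wk = 1) :
    chartMor M O s F l wl hl = chartMor M O s F k wk hk := by
  unfold chartMor
  apply toAff_eq_toAff (hX M R l) (hX M R k) _ _ (F k * wl) (F l * wk)
  · calc _ = (F l * wl) * (F k * wk) := by ring
      _ = 1 := by rw [hl, hk, one_mul]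
  · rw [dehomLiftCat_dehom, chartHom_X]
  · intro d c hc
    rw [dehomLiftCat_dehom, dehomLiftCat_dehom]
    exact chartHom_change M s F wl wk hl hk hc

end chartMor

section glue

/-- an inverse of `f` on its basic open -/
noncomputable def winv {O : Q.Opens} (f : Γ(Q, O)) : Γ(Q, Q.basicOpen f) :=
  Classical.choose (Q.toRingedSpace.isUnit_res_basicOpen f).exists_right_inv

theorem winv_spec {O : Q.Opens} (f : Γ(Q, O)) : res (Q.basicOpen_le f) f * winv f = 1 :=
  Classical.choose_spec (Q.toRingedSpace.isUnit_res_basicOpen f).exists_right_inv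

variable {ι : Type*} (V : ι → Q.Opens) (s : ∀ a, R →+* Γ(Q, V a))
  (F : ∀ a, Fin (M + 1) → Γ(Q, V a))

/-- the chart morphism on `Q.basicOpen (F a l)` -/
noncomputable def G (a : ι) (l : Fin (M + 1)) :
    (Q.basicOpen (F a l) : Scheme.{u}) ⟶ Proj (CohB1.polyGrading M R) :=
  chartMor M (Q.basicOpen (F a l)) ((res (Q.basicOpen_le (F a l))).comp (s a))
    (fun k => res (Q.basicOpen_le (F a l)) (F a k)) l (winv (F a l)) (winv_spec (F a l))

theorem G_compat
    (hs : ∀ a b r, res (inf_le_left : V a ⊓ V b ≤ V a) (s a r) =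
      res (inf_le_right : V a ⊓ V b ≤ V b) (s b r))
    (hF : ∀ a b, ∃ u : Γ(Q, V a ⊓ V b), ∀ l, res (inf_le_right : V a ⊓ V b ≤ V b) (F b l) =
      u * res (inf_le_left : V a ⊓ V b ≤ V a) (F a l))
    (a b : ι) (l k : Fin (M + 1)) :
    Q.homOfLE (inf_le_left : Q.basicOpen (F a l) ⊓ Q.basicOpen (F b k) ≤ Q.basicOpen (F a l)) ≫
        G M V s F a l =
      Q.homOfLE (inf_le_right : Q.basicOpen (F a l) ⊓ Q.basicOpen (F b k) ≤ Q.basicOpen (F b k)) ≫
        G M V s F b k := by
  unfold G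
  rw [chartMor_res, chartMor_res]
  obtain ⟨u, hu⟩ := hF a b
  have hOab : Q.basicOpen (F a l) ⊓ Q.basicOpen (F b k) ≤ V a ⊓ V b :=
    inf_le_inf (Q.basicOpen_le _) (Q.basicOpen_le _)
  have hOa : Q.basicOpen (F a l) ⊓ Q.basicOpen (F b k) ≤ V a := hOab.trans inf_le_left
  have hOb : Q.basicOpen (F a l) ⊓ Q.basicOpen (F b k) ≤ V b := hOab.trans inf_le_right
  -- normal forms
  have hFa : ∀ m, res (inf_le_left : Q.basicOpen (F a l) ⊓ Q.basicOpen (F b k) ≤ _)
      (res (Q.basicOpen_le (F a l)) (F a m)) = res hOa (F a m) := fun m => res_res _ _ _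
  have hFb : ∀ m, res (inf_le_right : Q.basicOpen (F a l) ⊓ Q.basicOpen (F b k) ≤ _)
      (res (Q.basicOpen_le (F b k)) (F b m)) = res hOb (F b m) := fun m => res_res _ _ _
  have hub : ∀ m, res hOb (F b m) = res hOab u * res hOa (F a m) := by
    intro m
    have := congrArg (res hOab) (hu m)
    rw [map_mul, res_res, res_res] at this
    exact this
  have hsab : ∀ r, res hOa (s a r) = res hOb (s b r) := by
    intro r
    have := congrArg (res hOab) (hs a b r)
    rw [res_res, res_res] at this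
    exact this
  -- the inverse of `F a k` on the overlap
  set w1 := res (inf_le_left : Q.basicOpen (F a l) ⊓ Q.basicOpen (F b k) ≤ _) (winv (F a l))
    with hw1
  set w2 := res (inf_le_right : Q.basicOpen (F a l) ⊓ Q.basicOpen (F b k) ≤ _) (winv (F b k))
    with hw2
  have h1 : res hOa (F a l) * w1 = 1 := by
    rw [← hFa l, hw1, ← map_mul, winv_spec, map_one]
  have h2 : res hOb (F b k) * w2 = 1 := by
    rw [← hFb k, hw2, ← map_mul, winv_spec, map_one]
  have h3 : res hOa (F a k) * (res hOab u * w2) = 1 := by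
    rw [← h2, hub k]
    ring
  -- chain of equalities
  have e1 : chartMor M _ ((res hOa).comp (s a)) (fun m => res hOa (F a m)) l w1 h1 =
      chartMor M _ ((res hOa).comp (s a)) (fun m => res hOa (F a m)) k (res hOab u * w2) h3 :=
    chartMor_change M _ _ _ _ _ h1 h3
  have e2 : chartMor M _ ((res hOa).comp (s a)) (fun m => res hOa (F a m)) k (res hOab u * w2) h3 =
      chartMor M _ ((res hOb).comp (s b)) (fun m => res hOb (F b m)) k w2 h2 := by
    apply chartMor_congr
    have hss : (res hOa).comp (s a) = (res hOb).comp (s b) := RingHom.ext hsab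
    rw [hss]
    exact (chartHom_congr_unit M _ (fun m => res hOa (F a m)) (res hOab u * w2)
      (fun m => res hOb (F b m)) w2 (res hOab u) hub h3 h2).symm
  refine Eq.trans ?_ (Eq.trans (e1.trans e2) ?_)
  · apply chartMor_congr
    apply MvPolynomial.ringHom_ext
    · intro r
      rw [chartHom_C, chartHom_C]
      exact res_res _ _ _
    · intro m
      rw [chartHom_X, chartHom_X, hFa]
  · apply chartMor_congr
    apply MvPolynomial.ringHom_ext
    · intro r
      rw [chartHom_C, chartHom_C]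
      exact (res_res _ _ _).symm
    · intro m
      rw [chartHom_X, chartHom_X, hFb]

/-- **Morphisms to projective space from local homogeneous coordinates.** -/
theorem exists_map_of_local_coords (hV : ∀ x : Q, ∃ a, x ∈ V a)
    (hs : ∀ a b r, res (inf_le_left : V a ⊓ V b ≤ V a) (s a r) =
      res (inf_le_right : V a ⊓ V b ≤ V b) (s b r))
    (hF : ∀ a b, ∃ u : Γ(Q, V a ⊓ V b), ∀ l, res (inf_le_right : V a ⊓ V b ≤ V b) (F b l) =
      u * res (inf_le_left : V a ⊓ V b ≤ V a) (F a l))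
    (hcov : ∀ a, ∀ x ∈ V a, ∃ l, x ∈ Q.basicOpen (F a l)) :
    ∃ μ : Q ⟶ Proj (CohB1.polyGrading M R),
      ∀ a l, (Q.basicOpen (F a l)).ι ≫ μ = G M V s F a l := by
  obtain ⟨μ, hμ⟩ := glue_opens (fun al : ι × Fin (M + 1) => Q.basicOpen (F al.1 al.2))
    (fun x => by
      obtain ⟨a, ha⟩ := hV x
      obtain ⟨l, hl⟩ := hcov a x ha
      exact ⟨(a, l), hl⟩)
    (fun al => G M V s F al.1 al.2)
    (fun al bk => G_compat M V s F hs hF al.1 bk.1 al.2 bk.2)
  exact ⟨μ, fun a l => hμ (a, l)⟩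

end glue

section props

variable {M} {ι : Type*} {V : ι → Q.Opens} {s : ∀ a, R →+* Γ(Q, V a)}
  {F : ∀ a, Fin (M + 1) → Γ(Q, V a)} {μ : Q ⟶ Proj (CohB1.polyGrading M R)}

/-- the ring map of the chart `(a, l)` -/
noncomputable def chartRing (V : ι → Q.Opens) (s : ∀ a, R →+* Γ(Q, V a))
    (F : ∀ a, Fin (M + 1) → Γ(Q, V a)) (a : ι) (l : Fin (M + 1)) :
    MvPolynomial (Fin (M + 1)) R →+* Γ(Q, Q.basicOpen (F a l)) :=
  chartHom M ((res (Q.basicOpen_le (F a l))).comp (s a))
    (fun k => res (Q.basicOpen_le (F a l)) (F a k)) (winv (F a l))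

theorem chartRing_C (a : ι) (l : Fin (M + 1)) (r : R) :
    chartRing V s F a l (C r) = res (Q.basicOpen_le (F a l)) (s a r) := chartHom_C _ _ _ _ _

theorem chartRing_X (a : ι) (l k : Fin (M + 1)) :
    chartRing V s F a l (X k) = res (Q.basicOpen_le (F a l)) (F a k) * winv (F a l) :=
  chartHom_X _ _ _ _ _

/-- `chartRing (T_k) * F_l = F_k` -/
theorem chartRing_X_mul (a : ι) (l k : Fin (M + 1)) :
    chartRing V s F a l (X k) * res (Q.basicOpen_le (F a l)) (F a l) =
      res (Q.basicOpen_le (F a l)) (F a k) := by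
  rw [chartRing_X, mul_assoc, mul_comm (winv (F a l)), winv_spec, mul_one]

theorem basicOpen_le_preimage (hμ : ∀ a l, (Q.basicOpen (F a l)).ι ≫ μ = G M V s F a l) (a : ι)
    (l : Fin (M + 1)) : Q.basicOpen (F a l) ≤ μ ⁻¹ᵁ D M R l :=
  le_preimage_of_ι_comp_eq (isAffineOpen_D M R l) μ _ (hμ a l)

theorem appLE_dehom (hμ : ∀ a l, (Q.basicOpen (F a l)).ι ≫ μ = G M V s F a l) (a : ι)
    (l : Fin (M + 1)) (c : MvPolynomial (Fin (M + 1)) R) :
    (μ.appLE (D M R l) (Q.basicOpen (F a l)) (basicOpen_le_preimage hμ a l)).hom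
      (dehom (hX M R l) c) = chartRing V s F a l c := by
  have h := appLE_of_ι_comp_eq (isAffineOpen_D M R l) μ _ (hμ a l)
  rw [h]
  exact dehomLiftCat_dehom _ _ _ c

theorem inf_preimage_D (hμ : ∀ a l, (Q.basicOpen (F a l)).ι ≫ μ = G M V s F a l)
    (hcov : ∀ a, ∀ x ∈ V a, ∃ l, x ∈ Q.basicOpen (F a l)) (a : ι) (l : Fin (M + 1)) :
    V a ⊓ μ ⁻¹ᵁ D M R l = Q.basicOpen (F a l) := by
  apply le_antisymm
  · rintro x ⟨hxa, hxl⟩
    obtain ⟨k, hk⟩ := hcov a x hxa
    have hb := basicOpen_appLE μ (basicOpen_le_preimage hμ a k) (dehom (hX M R k) (X l))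
    rw [appLE_dehom hμ, basicOpen_dehom (hX M R l) (hX M R k), chartRing_X] at hb
    have hx : x ∈ Q.basicOpen (res (Q.basicOpen_le (F a k)) (F a l) * winv (F a k)) := by
      rw [hb]
      exact ⟨hk, hxl, basicOpen_le_preimage hμ a k hk⟩
    rw [Scheme.basicOpen_mul] at hx
    have hx1 := hx.1
    rw [Scheme.basicOpen_res] at hx1
    exact hx1.2
  · intro x hx
    exact ⟨Q.basicOpen_le _ hx, basicOpen_le_preimage hμ a l hx⟩

theorem comp_toBase (hμ : ∀ a l, (Q.basicOpen (F a l)).ι ≫ μ = G M V s F a l)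
    (hV : ∀ x : Q, ∃ a, x ∈ V a) (hcov : ∀ a, ∀ x ∈ V a, ∃ l, x ∈ Q.basicOpen (F a l))
    (q : Q ⟶ Spec (CommRingCat.of R))
    (hq : ∀ a, (V a).ι ≫ q = (V a).toSpecΓ ≫ Spec.map (CommRingCat.ofHom (s a))) :
    μ ≫ toBase (CohB1.polyGrading M R) = q := by
  apply hom_ext_opens (fun al : ι × Fin (M + 1) => Q.basicOpen (F al.1 al.2))
    (fun x => by
      obtain ⟨a, ha⟩ := hV x
      obtain ⟨l, hl⟩ := hcov a x ha
      exact ⟨(a, l), hl⟩)
  rintro ⟨a, l⟩
  change (Q.basicOpen (F a l)).ι ≫ _ = (Q.basicOpen (F a l)).ι ≫ _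
  rw [← Category.assoc, hμ a l]
  unfold G chartMor
  rw [toAff_toBase, ← Q.homOfLE_ι (Q.basicOpen_le (F a l)), Category.assoc, hq a,
    ← Scheme.Opens.toSpecΓ_SpecMap_presheaf_map_assoc, ← Spec.map_comp]
  congr 2
  ext r
  change (dehomLiftCat (hX M R l) (B := Γ(Q, Q.basicOpen (F a l))) _ _).hom
    (dehom (hX M R l) (C r)) = res (Q.basicOpen_le (F a l)) (s a r)
  rw [dehomLiftCat_dehom, chartHom_C]
  rfl

end props

end Groth.Agent.R2.H65.PnMap
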