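import Groth.Agent.R2.H65PnSegre4
import Groth.Agent.R2.H65PnMap1
import Groth.Agent.S9705

/-!
# helper65: linear maps to projective space

For a morphism `g : Q ⟶ P^N_R` and linear forms `L_0, …, L_M` whose common zero locus misses the
image of `g`, the morphism `linMap : Q ⟶ P^M_R`, `x ↦ (L_0(g x) : … : L_M(g x))`.

* `linMap_preimage`: `linMap⁻¹ D₊(T_l) = g⁻¹ D₊(L_l)`;
* `linMap_toBase`: compatibility with the structure morphisms;
* `isAffineHom_linMap` (for affine `g`), `isFinite_linMap` (for `g` a closed immersion).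
-/

set_option autoImplicit false
set_option linter.unusedSectionVars false
universe u

open CategoryTheory CategoryTheory.Limits AlgebraicGeometry TopologicalSpace Opposite

namespace Groth.Agent.R2.H65.LinProj

open Groth.Agent.Helper13AffMor Groth.Agent.Helper13Dehom Groth.Agent.Helper13ProjUP
open Groth.Agent.R2.H65.PnSegre Groth.Agent.R2.H65.PnMap
open MvPolynomial

variable {N M : ℕ} {R : Type u} [CommRing R] {Q : Scheme.{u}}
  (g : Q ⟶ Proj (CohB1.polyGrading N R))
  (L : Fin (M + 1) → MvPolynomial (Fin (N + 1)) R) (hL : ∀ l, L l ∈ CohB1.polyGrading N R 1)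

/-- `g⁻¹ D₊(L_a)` -/
noncomputable def VV (a : Fin (M + 1)) : Q.Opens :=
  g ⁻¹ᵁ Proj.basicOpen (CohB1.polyGrading N R) (L a)

/-- the structure maps -/
noncomputable def ss (a : Fin (M + 1)) : R →+* Γ(Q, VV g L a) :=
  (pb g (hL a) (VV g L a) le_rfl).comp C

/-- the local coordinates `L_l / L_a` -/
noncomputable def FF (a l : Fin (M + 1)) : Γ(Q, VV g L a) :=
  pb g (hL a) (VV g L a) le_rfl (L l)

theorem ss_compat (a b : Fin (M + 1)) (r : R) :
    res (inf_le_left : VV g L a ⊓ VV g L b ≤ VV g L a) (ss g L hL a r) =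
      res (inf_le_right : VV g L a ⊓ VV g L b ≤ VV g L b) (ss g L hL b r) := by
  unfold ss
  rw [RingHom.comp_apply, RingHom.comp_apply]
  erw [pb_res, pb_res]
  exact (pb_algebraMap g (hL a) (hL b) _ _ _ r).symm

theorem FF_compat (a b : Fin (M + 1)) :
    ∃ u : Γ(Q, VV g L a ⊓ VV g L b), ∀ l,
      res (inf_le_right : VV g L a ⊓ VV g L b ≤ VV g L b) (FF g L hL b l) =
        u * res (inf_le_left : VV g L a ⊓ VV g L b ≤ VV g L a) (FF g L hL a l) := by
  refine ⟨pb g (hL b) (VV g L a ⊓ VV g L b) inf_le_right (L a), fun l => ?_⟩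
  unfold FF
  erw [pb_res, pb_res]
  have h := pb_overlap g (hL a) (hL b) (VV g L a ⊓ VV g L b) inf_le_left inf_le_right (hL l)
  rw [pow_one] at h
  exact h

theorem basicOpen_FF (a l : Fin (M + 1)) :
    Q.basicOpen (FF g L hL a l) = VV g L a ⊓ VV g L l :=
  basicOpen_pb g (hL a) (hL l) (VV g L a) le_rfl

theorem FF_cover (a : Fin (M + 1)) (x : Q) (hx : x ∈ VV g L a) :
    ∃ l, x ∈ Q.basicOpen (FF g L hL a l) :=
  ⟨a, by rw [basicOpen_FF]; exact ⟨hx, hx⟩⟩

variable (hcov : ∀ x : Q, ∃ a, x ∈ VV g L a)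

include hcov in
theorem exists_linMap : ∃ μ : Q ⟶ Proj (CohB1.polyGrading M R),
    ∀ a l, (Q.basicOpen (FF g L hL a l)).ι ≫ μ =
      G M (VV g L) (ss g L hL) (FF g L hL) a l :=
  exists_map_of_local_coords M (VV g L) (ss g L hL) (FF g L hL) hcov (ss_compat g L hL)
    (FF_compat g L hL) (FF_cover g L hL)

/-- the linear map `x ↦ (L_0(g x) : … : L_M(g x))` -/
noncomputable def linMap : Q ⟶ Proj (CohB1.polyGrading M R) :=
  Classical.choose (exists_linMap g L hL hcov)

theorem linMap_spec (a l : Fin (M + 1)) :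
    (Q.basicOpen (FF g L hL a l)).ι ≫ linMap g L hL hcov =
      G M (VV g L) (ss g L hL) (FF g L hL) a l :=
  Classical.choose_spec (exists_linMap g L hL hcov) a l

theorem linMap_toBase : linMap g L hL hcov ≫ toBase (CohB1.polyGrading M R) =
    g ≫ toBase (CohB1.polyGrading N R) := by
  apply comp_toBase (linMap_spec g L hL hcov) hcov (FF_cover g L hL)
  intro a
  exact ι_comp_toBase g (hL a) (VV g L a) le_rfl

theorem linMap_preimage (l : Fin (M + 1)) :
    linMap g L hL hcov ⁻¹ᵁ D M R l = VV g L l := by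
  ext x
  obtain ⟨a, hx⟩ := hcov x
  have h1 := inf_preimage_D (linMap_spec g L hL hcov) (FF_cover g L hL) a l
  rw [basicOpen_FF] at h1
  constructor
  · intro hxl
    have h2 : x ∈ VV g L a ⊓ VV g L l := by
      rw [← h1]
      exact ⟨hx, hxl⟩
    exact h2.2
  · intro hxl
    have h2 : x ∈ VV g L a ⊓ linMap g L hL hcov ⁻¹ᵁ D M R l := by
      rw [h1]
      exact ⟨hx, hxl⟩
    exact h2.2

theorem isAffineHom_linMap [IsAffineHom g] : IsAffineHom (linMap g L hL hcov) := by
  apply isAffineHom_of_forall_exists_isAffineOpen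
  intro y
  obtain ⟨l, hl⟩ := exists_mem_D M R y
  refine ⟨D M R l, hl, isAffineOpen_D M R l, ?_⟩
  rw [linMap_preimage g L hL hcov l]
  exact (isAffineOpen_basicOpen (hL l)).preimage g

theorem isProper_linMap [IsProper g] : IsProper (linMap g L hL hcov) := by
  have h2 := Groth.Agent.S9705.isProper_projSpace_toSpec N R
  have h3 := Groth.Agent.S9705.isProper_projSpace_toSpec M R
  have h4 : IsProper (linMap g L hL hcov ≫ toBase (CohB1.polyGrading M R)) := by
    rw [linMap_toBase]
    exact MorphismProperty.comp_mem (W := @IsProper) g (CohB1.ProjSpace.toSpec N R) inferInstance h2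
  have h5 : IsSeparated (toBase (CohB1.polyGrading M R)) := by
    change IsSeparated (CohB1.ProjSpace.toSpec M R)
    infer_instance
  exact IsProper.of_comp (linMap g L hL hcov) (toBase (CohB1.polyGrading M R))

theorem isFinite_linMap [IsClosedImmersion g] : IsFinite (linMap g L hL hcov) := by
  rw [IsFinite.iff_isProper_and_isAffineHom]
  exact ⟨isProper_linMap g L hL hcov, isAffineHom_linMap g L hL hcov⟩

end Groth.Agent.R2.H65.LinProj
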