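import Groth.Agent.R2.H65SecMap2
import Groth.Agent.Lib.Helper27TwistGen2
import Groth.Agent.S9705

/-!
# helper65: linear projections as morphisms attached to pulled-back linear forms

For `g : Q ⟶ P^N_R` and linear forms `L_0, …, L_M` without common zero on the image of `g`, the sections
`g^* L_l` of `g^* O(1)` generate; the attached morphism `r : Q ⟶ P^M_R` (`H65SecMap2.exists_map`) satisfies
`r⁻¹ D₊(T_l) = g⁻¹ D₊(L_l)`, `r ≫ toBase = g ≫ toBase`, and `r^* O(1) ≅ g^* O(1)` (`exists_linSec`).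
If `g` is a closed immersion, `r` is finite (`exists_linSec_finite`).
-/

set_option autoImplicit false
set_option linter.unusedSectionVars false
universe u

open CategoryTheory CategoryTheory.Limits AlgebraicGeometry TopologicalSpace Opposite
  HomogeneousLocalization

namespace Groth.Agent.R2.H65.LinSec

open Groth.Agent.Lib.Helper27GrTildeSect Groth.Agent.Helper13GrTildeFrac
  Groth.Agent.Helper13Dehom Groth.Agent.Helper13AffMor Groth.Agent.Helper13SymGr
open Groth.Agent.Lib.Helper23.SecTw Groth.Agent.Lib.Helper6 Groth.Agent.Lib.Helper23.GenLocus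
open Groth.Agent.Lib.Helper23.PB Groth.Agent.Helper13PullbackUnit Groth.Agent.Lib.Helper23.Extend
open Groth.Agent.Helper13ProjUP Groth.Agent.R2.H65.PnSegre Groth.Agent.R2.H65.SecMap

section general

variable {R A : Type u} [CommRing R] [CommRing A] [Algebra R A] {𝒜 : ℕ → Submodule R A}
  [GradedAlgebra 𝒜]
variable {Q : Scheme.{u}} (g : Q ⟶ Proj 𝒜)

/-- the pulled-back global section `g^* f` of `g^* O(1)` -/
noncomputable def pullForm {f : A} (hf : f ∈ 𝒜 1) : ProjUP.Γm ((Scheme.Modules.pullback g).obj (O1 𝒜)) :=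
  unitSec g (O1 𝒜) (le_top : (⊤ : Q.Opens) ≤ g ⁻¹ᵁ ⊤) (gsec 𝒜 1 ⊤ hf)

/-- `g^* f` restricted to an open inside `g⁻¹ D₊(f)` is the pulled-back coordinate -/
theorem res_pullForm {f : A} (hf : f ∈ 𝒜 1) {V : Q.Opens} (hV : V ≤ g ⁻¹ᵁ Proj.basicOpen 𝒜 f) :
    res ((Scheme.Modules.pullback g).obj (O1 𝒜)) (le_top : V ≤ ⊤) (pullForm g hf) = pcoord g hf hV := by
  unfold pullForm pcoord
  rw [res_unitSec g (O1 𝒜) (le_top : (⊤ : Q.Opens) ≤ g ⁻¹ᵁ ⊤) hV le_top le_top]
  rfl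

/-- `g^* f'` in terms of the generator `g^* f` on `g⁻¹ D₊(f)` -/
theorem res_pullForm_eq_smul {f f' : A} (hf : f ∈ 𝒜 1) (hf' : f' ∈ 𝒜 1) {V : Q.Opens}
    (hV : V ≤ g ⁻¹ᵁ Proj.basicOpen 𝒜 f) :
    res ((Scheme.Modules.pullback g).obj (O1 𝒜)) (le_top : V ≤ ⊤) (pullForm g hf') =
      (g.appLE (Proj.basicOpen 𝒜 f) V hV).hom (dehom hf f') • pcoord g hf hV := by
  unfold pullForm
  rw [res_unitSec g (O1 𝒜) (le_top : (⊤ : Q.Opens) ≤ g ⁻¹ᵁ ⊤) (le_top : V ≤ g ⁻¹ᵁ ⊤) le_rfl le_top,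
    res_self]
  exact unitSec_gsec g hf hf' hV (U := ⊤) le_top

/-- the generating locus of `g^* f` is `g⁻¹ D₊(f)`, provided `Q` is covered by such preimages -/
theorem genLocus_pullForm {κ : Type*} (F : κ → A) (hF : ∀ l, F l ∈ 𝒜 1)
    (hcov : ∀ x : Q, ∃ l, x ∈ g ⁻¹ᵁ Proj.basicOpen 𝒜 (F l)) (l : κ) :
    CohB1.genLocus ((Scheme.Modules.pullback g).obj (O1 𝒜))
      (secHom ((Scheme.Modules.pullback g).obj (O1 𝒜)) (pullForm g (hF l))) =
      g ⁻¹ᵁ Proj.basicOpen 𝒜 (F l) := by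
  set P := (Scheme.Modules.pullback g).obj (O1 𝒜) with hP
  have key : ∀ l' : κ, CohB1.genLocus P (secHom P (pullForm g (hF l))) ⊓ g ⁻¹ᵁ Proj.basicOpen 𝒜 (F l') =
      g ⁻¹ᵁ Proj.basicOpen 𝒜 (F l') ⊓ g ⁻¹ᵁ (Proj.basicOpen 𝒜 (F l) ⊓ Proj.basicOpen 𝒜 (F l')) := by
    intro l'
    have h1 := genLocus_inf_eq_of_isGen P (secHom P (pullForm g (hF l)))
      (g ⁻¹ᵁ Proj.basicOpen 𝒜 (F l')) (pcoord g (hF l') le_rfl)
      ((g.appLE (Proj.basicOpen 𝒜 (F l')) (g ⁻¹ᵁ Proj.basicOpen 𝒜 (F l')) le_rfl).hom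
        (dehom (hF l') (F l)))
      (isGen_pcoord g (hF l') le_rfl)
      (by rw [sv_secHom]; exact res_pullForm_eq_smul g (hF l') (hF l) le_rfl)
    rw [h1, basicOpen_appLE, basicOpen_dehom (hF l) (hF l')]
  apply le_antisymm
  · intro x hx
    obtain ⟨l', hl'⟩ := hcov x
    have h2 : x ∈ CohB1.genLocus P (secHom P (pullForm g (hF l))) ⊓
        g ⁻¹ᵁ Proj.basicOpen 𝒜 (F l') := ⟨hx, hl'⟩
    rw [key l'] at h2
    exact h2.2.1
  · intro x hx
    have h2 : x ∈ g ⁻¹ᵁ Proj.basicOpen 𝒜 (F l) ⊓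
        g ⁻¹ᵁ (Proj.basicOpen 𝒜 (F l) ⊓ Proj.basicOpen 𝒜 (F l)) := ⟨hx, hx, hx⟩
    rw [← key l] at h2
    exact h2.1

/-- sections which locally contain a generator generate (helper91, `R2/H91AmpleEmb`) -/
theorem generatedBy_of_isGen {X : Scheme.{u}} (N : X.Modules) {κ : Type*} (s : κ → ProjUP.Γm N)
    (h : ∀ x : X, ∃ (i : κ) (W : X.Opens), x ∈ W ∧ IsGen N W (res N le_top (s i))) :
    ProjUP.GeneratedBy N s := by
  intro x
  rw [eq_top_iff]
  intro z _
  obtain ⟨i, W, hxW, hgenW⟩ := h x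
  obtain ⟨V, hxV, t, rfl⟩ := N.presheaf.exists_germ_eq z
  have hxV' : x ∈ V ⊓ W := ⟨hxV, hxW⟩
  obtain ⟨c, hc⟩ := (hgenW (V ⊓ W) inf_le_right).2 (res N inf_le_left t)
  have hc' : c • res N (le_top : V ⊓ W ≤ ⊤) (s i) = res N inf_le_left t := by
    rw [← hc, res_res]
  have h1 : N.presheaf.germ V x hxV t = N.presheaf.germ (V ⊓ W) x hxV' (res N inf_le_left t) :=
    (TopCat.Presheaf.germ_res_apply N.presheaf (homOfLE (inf_le_left : V ⊓ W ≤ V)) x hxV' t).symm
  have h2 : N.presheaf.germ (V ⊓ W) x hxV' (res N (le_top : V ⊓ W ≤ ⊤) (s i)) =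
      N.presheaf.germ ⊤ x trivial (s i) :=
    TopCat.Presheaf.germ_res_apply N.presheaf (homOfLE (le_top : V ⊓ W ≤ ⊤)) x hxV' _
  rw [h1, ← hc', Groth.Agent.Lib.Helper2.QCoh.germ_smul, h2]
  exact Submodule.smul_mem _ _ (Submodule.subset_span ⟨i, rfl⟩)

theorem generatedBy_pullForm {κ : Type*} (F : κ → A) (hF : ∀ l, F l ∈ 𝒜 1)
    (hcov : ∀ x : Q, ∃ l, x ∈ g ⁻¹ᵁ Proj.basicOpen 𝒜 (F l)) :
    ProjUP.GeneratedBy ((Scheme.Modules.pullback g).obj (O1 𝒜)) (fun l => pullForm g (hF l)) := by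
  apply generatedBy_of_isGen
  intro x
  obtain ⟨l, hl⟩ := hcov x
  refine ⟨l, g ⁻¹ᵁ Proj.basicOpen 𝒜 (F l), hl, ?_⟩
  rw [res_pullForm g (hF l) le_rfl]
  exact isGen_pcoord g (hF l) le_rfl

end general

section poly

variable {R : Type u} [CommRing R] {N M : ℕ} {Q : Scheme.{u}} (g : Q ⟶ Proj (CohB1.polyGrading N R))
  (L : Fin (M + 1) → MvPolynomial (Fin (N + 1)) R) (hL : ∀ l, L l ∈ CohB1.polyGrading N R 1)
  (hcov : ∀ x : Q, ∃ l, x ∈ g ⁻¹ᵁ Proj.basicOpen (CohB1.polyGrading N R) (L l))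

include hL hcov in
/-- the linear projection attached to the linear forms `L_l`, with its `O(1)`-compatibility -/
theorem exists_linSec :
    ∃ r : Q ⟶ Proj (CohB1.polyGrading M R),
      r ≫ toBase (CohB1.polyGrading M R) = g ≫ toBase (CohB1.polyGrading N R) ∧
      (∀ l, r ⁻¹ᵁ D M R l = g ⁻¹ᵁ Proj.basicOpen (CohB1.polyGrading N R) (L l)) ∧
      Nonempty ((Scheme.Modules.pullback r).obj (O1 (CohB1.polyGrading M R)) ≅
        (Scheme.Modules.pullback g).obj (O1 (CohB1.polyGrading N R))) := by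
  have hinv : PicF.IsInvertible ((Scheme.Modules.pullback g).obj (O1 (CohB1.polyGrading N R))) := by
    apply isInvertible_pullback
    apply isInvertible_tilde
    intro y
    obtain ⟨i, hi⟩ := exists_mem_D N R y
    exact ⟨⟨MvPolynomial.X i, hX N R i⟩, hi⟩
  obtain ⟨r, hrq, hpre, -, τ, -⟩ := exists_map (g ≫ toBase (CohB1.polyGrading N R))
    ((Scheme.Modules.pullback g).obj (O1 (CohB1.polyGrading N R))) (fun l => pullForm g (hL l)) hinv
    (generatedBy_pullForm g L hL hcov)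
  refine ⟨r, hrq, fun l => ?_, ⟨τ⟩⟩
  rw [hpre l]
  exact genLocus_pullForm g L hL hcov l

include hL hcov in
theorem exists_linSec_finite [IsClosedImmersion g] :
    ∃ r : Q ⟶ Proj (CohB1.polyGrading M R), IsFinite r ∧
      r ≫ toBase (CohB1.polyGrading M R) = g ≫ toBase (CohB1.polyGrading N R) ∧
      Nonempty ((Scheme.Modules.pullback r).obj (O1 (CohB1.polyGrading M R)) ≅
        (Scheme.Modules.pullback g).obj (O1 (CohB1.polyGrading N R))) := by
  obtain ⟨r, hrq, hpre, τ⟩ := exists_linSec g L hL hcov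
  refine ⟨r, ?_, hrq, τ⟩
  have haff : IsAffineHom r := by
    apply isAffineHom_of_forall_exists_isAffineOpen
    intro y
    obtain ⟨l, hl⟩ := exists_mem_D M R y
    refine ⟨D M R l, hl, isAffineOpen_D M R l, ?_⟩
    rw [hpre l]
    exact (isAffineOpen_basicOpen (hL l)).preimage g
  have hprop : IsProper r := by
    have h2 := Groth.Agent.S9705.isProper_projSpace_toSpec N R
    have h4 : IsProper (r ≫ toBase (CohB1.polyGrading M R)) := by
      rw [hrq]
      exact MorphismProperty.comp_mem (W := @IsProper) g (CohB1.ProjSpace.toSpec N R) inferInstance h2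
    have h5 : IsSeparated (toBase (CohB1.polyGrading M R)) := by
      have h3 := Groth.Agent.S9705.isProper_projSpace_toSpec M R
      change IsSeparated (CohB1.ProjSpace.toSpec M R)
      infer_instance
    exact IsProper.of_comp r (toBase (CohB1.polyGrading M R))
  rw [IsFinite.iff_isProper_and_isAffineHom]
  exact ⟨hprop, haff⟩

end poly

end Groth.Agent.R2.H65.LinSec
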