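import Mathlib

/-!
# helper65: topological going-up

A continuous closed surjective map `f : X → Y` onto a quasi-sober space does not lower the
topological Krull dimension: `topologicalKrullDim Y ≤ topologicalKrullDim X`.
-/

set_option autoImplicit false

open TopologicalSpace Order

namespace Groth.Agent.R2.H65.TopGoingUp

variable {X Y : Type*} [TopologicalSpace X] [TopologicalSpace Y]

/-- lifting irreducible closed subsets along a closed map -/
theorem exists_irreducibleCloseds_image_eq [QuasiSober Y] (f : X → Y) (hf : Continuous f)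
    (hcl : IsClosedMap f) (W : Set X) (hW : IsClosed W) (Z : IrreducibleCloseds Y)
    (hZ : (Z : Set Y) ⊆ f '' W) :
    ∃ W' : IrreducibleCloseds X, (W' : Set X) ⊆ W ∧ f '' (W' : Set X) = (Z : Set Y) := by
  obtain ⟨η, hη⟩ := QuasiSober.sober Z.isIrreducible Z.isClosed
  obtain ⟨w, hwW, hwη⟩ := hZ hη.mem
  refine ⟨⟨closure {w}, isIrreducible_singleton.closure, isClosed_closure⟩,
    closure_minimal (Set.singleton_subset_iff.2 hwW) hW, ?_⟩
  change f '' closure {w} = (Z : Set Y)
  apply Set.Subset.antisymm
  · refine (image_closure_subset_closure_image hf).trans ?_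
    rw [Set.image_singleton, hwη, hη.def]
  · rw [← hη.def]
    apply closure_minimal _ (hcl _ isClosed_closure)
    rw [Set.singleton_subset_iff]
    exact ⟨w, subset_closure rfl, hwη⟩

/-- the image of an irreducible closed subset under a continuous closed map -/
def im (f : X → Y) (hf : Continuous f) (hcl : IsClosedMap f) (W : IrreducibleCloseds X) :
    IrreducibleCloseds Y :=
  ⟨f '' (W : Set X), W.isIrreducible.image f hf.continuousOn, hcl _ W.isClosed⟩

theorem le_height_of_le_height_im [QuasiSober Y] (f : X → Y) (hf : Continuous f)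
    (hcl : IsClosedMap f) (n : ℕ) :
    ∀ W : IrreducibleCloseds X, (n : ℕ∞) ≤ height (im f hf hcl W) → (n : ℕ∞) ≤ height W := by
  induction n with
  | zero => intro W _; simp
  | succ n ih =>
    intro W hW
    have h1 : ¬ height (im f hf hcl W) ≤ (n : ℕ∞) := by
      intro h
      have := hW.trans h
      norm_cast at this
      omega
    rw [height_le_coe_iff] at h1
    push_neg at h1
    obtain ⟨Z₁, hZ₁lt, hZ₁⟩ := h1
    obtain ⟨W₁, hW₁W, hW₁Z⟩ := exists_irreducibleCloseds_image_eq f hf hcl (W : Set X) W.isClosed
      Z₁ (by exact hZ₁lt.le)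
    have him : im f hf hcl W₁ = Z₁ := IrreducibleCloseds.ext hW₁Z
    have hlt : W₁ < W := by
      refine lt_of_le_of_ne hW₁W ?_
      intro h
      rw [h] at him
      exact hZ₁lt.ne him.symm
    have h2 := ih W₁ (by rw [him]; exact hZ₁)
    have h3 := height_add_one_le hlt
    calc ((n + 1 : ℕ) : ℕ∞) = (n : ℕ∞) + 1 := by norm_cast
      _ ≤ height W₁ + 1 := by gcongr
      _ ≤ height W := h3

/-- **Topological going-up**: closed continuous surjections onto quasi-sober spaces do not lower
the Krull dimension. -/
theorem topologicalKrullDim_le_of_isClosedMap_of_surjective [QuasiSober Y] (f : X → Y)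
    (hf : Continuous f) (hcl : IsClosedMap f) (hs : Function.Surjective f) :
    topologicalKrullDim Y ≤ topologicalKrullDim X := by
  unfold topologicalKrullDim
  rw [krullDim_eq_iSup_height (α := IrreducibleCloseds Y)]
  refine iSup_le fun Z => ?_
  obtain ⟨W₀, -, hW₀⟩ := exists_irreducibleCloseds_image_eq f hf hcl Set.univ isClosed_univ Z
    (by rw [Set.image_univ, hs.range_eq]; exact Set.subset_univ _)
  have him : im f hf hcl W₀ = Z := IrreducibleCloseds.ext hW₀
  have h1 : height Z ≤ height W₀ := by
    rw [← ENat.forall_natCast_le_iff_le]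
    intro n hn
    exact le_height_of_le_height_im f hf hcl n W₀ (by rw [him]; exact hn)
  calc ((height Z : ℕ∞) : WithBot ℕ∞) ≤ ((height W₀ : ℕ∞) : WithBot ℕ∞) := by exact_mod_cast h1
    _ ≤ krullDim (IrreducibleCloseds X) := height_le_krullDim W₀

end Groth.Agent.R2.H65.TopGoingUp
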