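import Groth.Agent.R2.H65NoethNorm1
import Groth.Agent.R2.H65TopGoingUp
import Groth.Agent.R2.H45Dim
import Groth.Agent.S10829
import Groth.Agent.S3581

/-!
# helper65: projective Noether normalization, part 2

Over an infinite field `k`, a nonempty closed subscheme `X` of `P^n_k` admits a finite surjective
`k`-morphism to `P^e_k` for some `e` (`exists_finite_surjective_aux`), and `e = dim X`
(`exists_finite_surjective`).
-/

set_option autoImplicit false
set_option linter.unusedSectionVars false
universe u

open CategoryTheory CategoryTheory.Limits AlgebraicGeometry TopologicalSpace Opposite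

namespace Groth.Agent.R2.H65.NoethNorm

open Groth.Agent.Helper13ProjUP
open Groth.Agent.R2.H65.PnSegre Groth.Agent.R2.H65.PnMap Groth.Agent.R2.H65.LinProj
open MvPolynomial

variable (k : Type u) [Field k]

/-- `P^0_k` is a point -/
theorem subsingleton_projSpace_zero : Subsingleton (CohB1.ProjSpace 0 k) := by
  haveI : IsIso (CohB1.ProjSpace.toSpec 0 k) := Groth.Agent.S3581.result k
  have h : Function.Injective (CohB1.ProjSpace.toSpec 0 k) :=
    (CohB1.ProjSpace.toSpec 0 k).homeomorph.injective
  have : Subsingleton (Spec (CommRingCat.of k)) :=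
    (inferInstance : Subsingleton (PrimeSpectrum k))
  exact h.subsingleton

variable [Infinite k]

theorem exists_finite_surjective_aux (n : ℕ) :
    ∀ (X : Scheme.{u}) (ι : X ⟶ CohB1.ProjSpace n k) [IsClosedImmersion ι] [Nonempty X],
      ∃ (e : ℕ) (π : X ⟶ CohB1.ProjSpace e k),
        π ≫ CohB1.ProjSpace.toSpec e k = ι ≫ CohB1.ProjSpace.toSpec n k ∧ IsFinite π ∧
          Surjective π := by
  induction n with
  | zero =>
    intro X ι _ _
    refine ⟨0, ι, rfl, inferInstance, ⟨fun y => ?_⟩⟩
    haveI := subsingleton_projSpace_zero k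
    exact ⟨Classical.arbitrary X, Subsingleton.elim _ _⟩
  | succ m ih =>
    intro X ι _ _
    by_cases hs : Function.Surjective ι
    · exact ⟨m + 1, ι, rfl, inferInstance, ⟨hs⟩⟩
    · have hZ : IsClosed (Set.range ι) := ι.isClosedEmbedding.isClosed_range
      have hne : Set.range ι ≠ Set.univ := fun h => hs (Set.range_eq_univ.1 h)
      obtain ⟨a, ha⟩ := exists_forms k m (Set.range ι) hZ hne
      let ι' : X ⟶ Proj (CohB1.polyGrading (m + 1) k) := ι
      haveI : IsClosedImmersion ι' := ‹IsClosedImmersion ι›
      have hcov : ∀ x : X, ∃ l, x ∈ VV ι' (LF k m a) l :=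
        fun x => ha (ι x) ⟨x, rfl⟩
      obtain ⟨π₁, hfin, hbase⟩ : ∃ π₁ : X ⟶ CohB1.ProjSpace m k, IsFinite π₁ ∧
          π₁ ≫ CohB1.ProjSpace.toSpec m k = ι ≫ CohB1.ProjSpace.toSpec (m + 1) k :=
        ⟨linMap ι' (LF k m a) (LF_mem k m a) hcov,
          isFinite_linMap ι' (LF k m a) (LF_mem k m a) hcov,
          linMap_toBase ι' (LF k m a) (LF_mem k m a) hcov⟩
      -- scheme-theoretic image
      haveI : Nonempty π₁.image := ⟨π₁.toImage (Classical.arbitrary X)⟩
      obtain ⟨e, π', h1, h2, h3⟩ := ih π₁.image π₁.imageι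
      haveI : IsFinite (π₁.toImage ≫ π₁.imageι) := by rw [π₁.toImage_imageι]; exact hfin
      haveI ht : IsFinite π₁.toImage := IsFinite.of_comp π₁.toImage π₁.imageι
      haveI : Surjective π₁.toImage := inferInstance
      refine ⟨e, π₁.toImage ≫ π', ?_, inferInstance, inferInstance⟩
      rw [Category.assoc, h1, ← Category.assoc, π₁.toImage_imageι, hbase]

/-- **Projective Noether normalization** over an infinite field. -/
theorem exists_finite_surjective (X : Scheme.{u}) (n : ℕ) (ι : X ⟶ CohB1.ProjSpace n k)
    [IsClosedImmersion ι] (d : ℕ) (hd : topologicalKrullDim X = d) :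
    ∃ π : X ⟶ CohB1.ProjSpace d k,
      π ≫ CohB1.ProjSpace.toSpec d k = ι ≫ CohB1.ProjSpace.toSpec n k ∧ IsFinite π ∧
        Surjective π := by
  haveI : Nonempty X := by
    by_contra h
    rw [not_nonempty_iff] at h
    have : topologicalKrullDim X = ⊥ := by
      unfold topologicalKrullDim
      rw [Order.krullDim_eq_bot_iff]
      exact ⟨fun W => h.elim W.isIrreducible.nonempty.some⟩
    rw [this] at hd
    exact WithBot.bot_ne_coe hd
  obtain ⟨e, π, h1, h2, h3⟩ := exists_finite_surjective_aux k n X ι
  have hle : topologicalKrullDim X ≤ topologicalKrullDim (CohB1.ProjSpace e k) :=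
    Groth.Agent.R2.H45.Dim.topologicalKrullDim_le_of_locallyQuasiFinite π
  have hge : topologicalKrullDim (CohB1.ProjSpace e k) ≤ topologicalKrullDim X :=
    Groth.Agent.R2.H65.TopGoingUp.topologicalKrullDim_le_of_isClosedMap_of_surjective π
      π.continuous π.isClosedMap π.surjective
  have hdim : topologicalKrullDim X = (e : WithBot ℕ∞) := by
    rw [← Groth.Agent.S10829.result k e]
    exact le_antisymm hle hge
  have hed : e = d := by
    rw [hd] at hdim
    exact_mod_cast hdim.symm
  subst hed
  exact ⟨π, h1, h2, h3⟩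

end Groth.Agent.R2.H65.NoethNorm
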