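import Groth.Prelude.Def_CohB1
import Groth.Prelude.Def_Twist2
import Groth.Prelude.Def_GrMod2

/-!
# helper65: the two spellings of `O(1)` on projective space

`Twist.twistProjSpace n R 1 = GrTilde.tilde (polyGrading n R) (polyGrading n R) ((1 : ℕ) : ℤ)` (`= O1 (polyGrading n R)`
of helper13's `Lib/Helper13ProjUPb`).  Same statement as helper79's `R2/H79TwistCalc.twist_eq_tilde` (a `rfl` which is
expensive for the kernel, ~40 s); duplicated here with minimal imports so that consumers do not pull in the closure of
`H79TwistCalc`.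
-/

set_option autoImplicit false
universe u

open CategoryTheory AlgebraicGeometry

namespace Groth.Agent.R2.H65.TwistO1

theorem twist_eq_tilde {R A : Type u} [CommRing R] [CommRing A] [Algebra R A] (𝒜 : ℕ → Submodule R A)
    [GradedAlgebra 𝒜] (n : ℤ) : Twist.twist 𝒜 n = GrTilde.tilde 𝒜 𝒜 n := rfl

theorem twistProjSpace_one_eq (n : ℕ) (R : Type u) [CommRing R] :
    Twist.twistProjSpace n R 1 =
      GrTilde.tilde (CohB1.polyGrading n R) (CohB1.polyGrading n R) ((1 : ℕ) : ℤ) := by
  show Twist.twist (CohB1.polyGrading n R) 1 = _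
  exact twist_eq_tilde _ _

end Groth.Agent.R2.H65.TwistO1
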