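import Groth.Agent.R2.H65LinSec1
import Groth.Agent.R2.H65NoethNorm2
import Groth.Agent.R2.H65TwistO1

/-!
# helper65: projective Noether normalization with `O(1)`-compatibility

Over an infinite field `k`, a closed subscheme `ι : X ⟶ P^n_k` of dimension `d` admits a finite surjective
`k`-morphism `π : X ⟶ P^d_k` with `π^* O(1) ≅ ι^* O(1)` (`exists_finite_surjective_twist`).  Same induction as
`H65NoethNorm2`, the linear projections being the morphisms attached to the pulled-back linear forms
(`H65LinSec1.exists_linSec_finite`), which come with the isomorphism of twisting sheaves.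
-/

set_option autoImplicit false
set_option linter.unusedSectionVars false
universe u

open CategoryTheory CategoryTheory.Limits AlgebraicGeometry TopologicalSpace Opposite

namespace Groth.Agent.R2.H65.LinSec

open Groth.Agent.Helper13ProjUP
open Groth.Agent.R2.H65.PnSegre Groth.Agent.R2.H65.NoethNorm
open MvPolynomial

variable (k : Type u) [Field k] [Infinite k]

theorem exists_finite_surjective_aux (n : ℕ) :
    ∀ (X : Scheme.{u}) (ι : X ⟶ Proj (CohB1.polyGrading n k)) [IsClosedImmersion ι] [Nonempty X],
      ∃ (e : ℕ) (π : X ⟶ Proj (CohB1.polyGrading e k)),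
        π ≫ toBase (CohB1.polyGrading e k) = ι ≫ toBase (CohB1.polyGrading n k) ∧ IsFinite π ∧
          Surjective π ∧
          Nonempty ((Scheme.Modules.pullback π).obj (O1 (CohB1.polyGrading e k)) ≅
            (Scheme.Modules.pullback ι).obj (O1 (CohB1.polyGrading n k))) := by
  induction n with
  | zero =>
    intro X ι _ _
    refine ⟨0, ι, rfl, inferInstance, ⟨fun y => ?_⟩, ⟨Iso.refl _⟩⟩
    have : Subsingleton (Proj (CohB1.polyGrading 0 k)) := subsingleton_projSpace_zero k
    exact ⟨Classical.arbitrary X, Subsingleton.elim _ _⟩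
  | succ m ih =>
    intro X ι _ _
    by_cases hs : Function.Surjective ι
    · exact ⟨m + 1, ι, rfl, inferInstance, ⟨hs⟩, ⟨Iso.refl _⟩⟩
    · have hZ : IsClosed (Set.range ι) := ι.isClosedEmbedding.isClosed_range
      have hne : Set.range ι ≠ Set.univ := fun h => hs (Set.range_eq_univ.1 h)
      obtain ⟨a, ha⟩ := exists_forms k m (Set.range ι) hZ hne
      have hcov : ∀ x : X, ∃ l,
          x ∈ ι ⁻¹ᵁ Proj.basicOpen (CohB1.polyGrading (m + 1) k) (LF k m a l) :=
        fun x => ha (ι x) ⟨x, rfl⟩
      obtain ⟨π₁, hfin, hbase, ⟨τ₁⟩⟩ := exists_linSec_finite ι (LF k m a) (LF_mem k m a) hcov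
      -- scheme-theoretic image
      have : Nonempty π₁.image := ⟨π₁.toImage (Classical.arbitrary X)⟩
      obtain ⟨e, π', h1, h2, h3, ⟨τ'⟩⟩ := ih π₁.image π₁.imageι
      have : IsFinite (π₁.toImage ≫ π₁.imageι) := by rw [π₁.toImage_imageι]; exact hfin
      have ht : IsFinite π₁.toImage := IsFinite.of_comp π₁.toImage π₁.imageι
      have : Surjective π₁.toImage := inferInstance
      refine ⟨e, π₁.toImage ≫ π', ?_, inferInstance, inferInstance, ⟨?_⟩⟩
      · rw [Category.assoc, h1, ← Category.assoc, π₁.toImage_imageι, hbase]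
      · exact ((Scheme.Modules.pullbackComp π₁.toImage π').app _).symm ≪≫
          (Scheme.Modules.pullback π₁.toImage).mapIso τ' ≪≫
          (Scheme.Modules.pullbackComp π₁.toImage π₁.imageι).app _ ≪≫
          (Scheme.Modules.pullbackCongr π₁.toImage_imageι).app _ ≪≫ τ₁

/-- **Projective Noether normalization with `O(1)`-compatibility** over an infinite field. -/
theorem exists_finite_surjective_twist (X : Scheme.{u}) (n : ℕ) (ι : X ⟶ CohB1.ProjSpace n k)
    [IsClosedImmersion ι] (d : ℕ) (hd : topologicalKrullDim X = d) :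
    ∃ π : X ⟶ CohB1.ProjSpace d k,
      π ≫ CohB1.ProjSpace.toSpec d k = ι ≫ CohB1.ProjSpace.toSpec n k ∧ IsFinite π ∧
        Surjective π ∧
        Nonempty ((Scheme.Modules.pullback π).obj (Twist.twistProjSpace d k 1) ≅
          (Scheme.Modules.pullback ι).obj (Twist.twistProjSpace n k 1)) := by
  have : Nonempty X := by
    by_contra h
    rw [not_nonempty_iff] at h
    have : topologicalKrullDim X = ⊥ := by
      unfold topologicalKrullDim
      rw [Order.krullDim_eq_bot_iff]
      exact ⟨fun W => h.elim W.isIrreducible.nonempty.some⟩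
    rw [this] at hd
    exact WithBot.bot_ne_coe hd
  let ι' : X ⟶ Proj (CohB1.polyGrading n k) := ι
  have : IsClosedImmersion ι' := ‹IsClosedImmersion ι›
  obtain ⟨e, π, h1, h2, h3, ⟨τ⟩⟩ := exists_finite_surjective_aux k n X ι'
  have hle : topologicalKrullDim X ≤ topologicalKrullDim (Proj (CohB1.polyGrading e k)) :=
    Groth.Agent.R2.H45.Dim.topologicalKrullDim_le_of_locallyQuasiFinite π
  have hge : topologicalKrullDim (Proj (CohB1.polyGrading e k)) ≤ topologicalKrullDim X :=
    Groth.Agent.R2.H65.TopGoingUp.topologicalKrullDim_le_of_isClosedMap_of_surjective π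
      π.continuous π.isClosedMap π.surjective
  have h829 : topologicalKrullDim (Proj (CohB1.polyGrading e k)) = (e : WithBot ℕ∞) :=
    Groth.Agent.S10829.result k e
  have hdim : topologicalKrullDim X = (e : WithBot ℕ∞) := by
    rw [← h829]
    exact le_antisymm hle hge
  have hed : e = d := by
    rw [hd] at hdim
    exact_mod_cast hdim.symm
  subst hed
  refine ⟨π, h1, h2, h3, ⟨?_⟩⟩
  exact (Scheme.Modules.pullback π).mapIso
      (eqToIso (Groth.Agent.R2.H65.TwistO1.twistProjSpace_one_eq e k)) ≪≫ τ ≪≫
    (Scheme.Modules.pullback ι').mapIso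
      (eqToIso (Groth.Agent.R2.H65.TwistO1.twistProjSpace_one_eq n k)).symm

end Groth.Agent.R2.H65.LinSec
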