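import Groth.Agent.R2.H65LinProj

/-!
# helper65: projective Noether normalization, part 1 (choice of the projection centre)

Over an infinite field `k`, a proper closed subset `Z` of `P^{m+1}_k` misses the common zero locus
of the `m + 1` linear forms `a_0 x_{l+1} - a_{l+1} x_0` for a suitable `a ∈ k^{m+2}` with `a_0 ≠ 0`.
-/

set_option autoImplicit false
set_option linter.unusedSectionVars false
universe u

open CategoryTheory CategoryTheory.Limits AlgebraicGeometry TopologicalSpace Opposite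

namespace Groth.Agent.R2.H65.NoethNorm

open Groth.Agent.R2.H65.PnSegre Groth.Agent.R2.H65.PnMap
open MvPolynomial

variable (k : Type u) [Field k] (m : ℕ)

/-- the linear forms `a_0 x_{l+1} - a_{l+1} x_0` -/
noncomputable def LF (a : Fin (m + 1 + 1) → k) (l : Fin (m + 1)) :
    MvPolynomial (Fin (m + 1 + 1)) k :=
  C (a 0) * X l.succ - C (a l.succ) * X 0

theorem LF_mem (a : Fin (m + 1 + 1) → k) (l : Fin (m + 1)) :
    LF k m a l ∈ CohB1.polyGrading (m + 1) k 1 := by
  unfold LF
  apply Submodule.sub_mem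
  · have h := (isHomogeneous_C (Fin (m + 1 + 1)) (a 0)).mul (isHomogeneous_X k l.succ)
    rw [zero_add] at h
    exact h
  · have h := (isHomogeneous_C (Fin (m + 1 + 1)) (a l.succ)).mul
      (isHomogeneous_X k (0 : Fin (m + 1 + 1)))
    rw [zero_add] at h
    exact h

/-- algebraic core: a prime containing a form `F` with `F(a) ≠ 0` and all `LF a l` contains all
variables -/
theorem exists_LF_notMem (a : Fin (m + 1 + 1) → k) (F : MvPolynomial (Fin (m + 1 + 1)) k) (e : ℕ)
    (hF : F.IsHomogeneous e) (ha : eval a F ≠ 0) (ha0 : a 0 ≠ 0)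
    (p : Ideal (MvPolynomial (Fin (m + 1 + 1)) k)) [hp : p.IsPrime] (hFp : F ∈ p)
    (hirr : ∃ j, (X j : MvPolynomial (Fin (m + 1 + 1)) k) ∉ p) : ∃ l, LF k m a l ∉ p := by
  by_contra hcon
  push_neg at hcon
  let q := Ideal.Quotient.mk p
  have h1 : ∀ j, q (C (a 0)) * q (X j) = q (X 0) * q (C (a j)) := by
    intro j
    refine Fin.cases ?_ (fun l => ?_) j
    · exact mul_comm _ _
    · have h := (Ideal.Quotient.eq_zero_iff_mem (I := p)).2 (hcon l)
      unfold LF at h
      rw [map_sub, map_mul, map_mul, sub_eq_zero] at h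
      rw [h, mul_comm]
  have hq : ∀ G : MvPolynomial (Fin (m + 1 + 1)) k,
      q G = eval₂Hom (q.comp C) (fun j => q (X j)) G := by
    intro G
    have : q = eval₂Hom (q.comp C) (fun j => q (X j)) := by
      apply MvPolynomial.ringHom_ext
      · intro r
        rw [eval₂Hom_C]
        rfl
      · intro i
        rw [eval₂Hom_X']
    exact RingHom.congr_fun this G
  have h2 : q (C (a 0)) ^ e * q F = q (X 0) ^ e * q (C (eval a F)) := by
    rw [hq F, ← eval₂Hom_scale (q.comp C) (fun j => q (X j)) (q (C (a 0))) hF]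
    have : (fun j => q (C (a 0)) * q (X j)) = fun j => q (X 0) * q (C (a j)) := funext h1
    rw [this, eval₂Hom_scale (q.comp C) (fun j => q (C (a j))) (q (X 0)) hF]
    congr 1
    have h3 := MvPolynomial.eval₂_comp_left (q.comp C) (RingHom.id k) a F
    rw [RingHom.comp_id] at h3
    exact h3.symm
  have h3 : q F = 0 := (Ideal.Quotient.eq_zero_iff_mem (I := p)).2 hFp
  rw [h3, mul_zero] at h2
  have h4 : q (C (eval a F)) * q (C (eval a F)⁻¹) = 1 := by
    rw [← map_mul, ← C_mul, mul_inv_cancel₀ ha, C_1, map_one]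
  have h5 : q (X 0) ^ e = 0 := by
    rw [← mul_one (q (X 0) ^ e), ← h4, ← mul_assoc, ← h2, zero_mul]
  have h6 : (X 0 : MvPolynomial (Fin (m + 1 + 1)) k) ∈ p := by
    apply hp.mem_of_pow_mem e
    rw [← Ideal.Quotient.eq_zero_iff_mem, map_pow]
    exact h5
  have h7 : q (X 0) = 0 := (Ideal.Quotient.eq_zero_iff_mem (I := p)).2 h6
  obtain ⟨j, hj⟩ := hirr
  apply hj
  have h8 : q (C (a 0)) * q (X j) = 0 := by rw [h1 j, h7, zero_mul]
  have h9 : q (C (a 0)⁻¹) * q (C (a 0)) = 1 := by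
    rw [← map_mul, ← C_mul, inv_mul_cancel₀ ha0, C_1, map_one]
  rw [← Ideal.Quotient.eq_zero_iff_mem]
  change q (X j) = 0
  rw [← one_mul (q (X j)), ← h9, mul_assoc, h8, mul_zero]

variable [Infinite k]

/-- a proper closed subset of `P^{m+1}_k` misses the centre of some linear projection
(`ProjectiveSpectrum` form) -/
theorem exists_forms_aux (Z : Set (ProjectiveSpectrum (CohB1.polyGrading (m + 1) k)))
    (hZ : IsClosed Z) (hne : Z ≠ Set.univ) :
    ∃ a : Fin (m + 1 + 1) → k, ∀ y ∈ Z, ∃ l, LF k m a l ∉ y.asHomogeneousIdeal := by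
  classical
  obtain ⟨s, hs⟩ := (ProjectiveSpectrum.isClosed_iff_zeroLocus (CohB1.polyGrading (m + 1) k) Z).1 hZ
  obtain ⟨y₀, hy₀⟩ : ∃ y₀, y₀ ∉ Z := by
    by_contra h
    push_neg at h
    exact hne (Set.eq_univ_of_forall h)
  rw [hs, ProjectiveSpectrum.mem_zeroLocus, Set.not_subset] at hy₀
  obtain ⟨f, hfs, hfy₀⟩ := hy₀
  -- a homogeneous component of `f` outside `y₀`
  obtain ⟨e, he⟩ : ∃ e, ((DirectSum.decompose (CohB1.polyGrading (m + 1) k) f e :
      CohB1.polyGrading (m + 1) k e) : MvPolynomial (Fin (m + 1 + 1)) k) ∉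
      y₀.asHomogeneousIdeal := by
    by_contra h
    push_neg at h
    apply hfy₀
    rw [← DirectSum.sum_support_decompose (CohB1.polyGrading (m + 1) k) f]
    exact Ideal.sum_mem _ (fun i _ => h i)
  set F₀ : MvPolynomial (Fin (m + 1 + 1)) k :=
    ((DirectSum.decompose (CohB1.polyGrading (m + 1) k) f e : CohB1.polyGrading (m + 1) k e) :
      MvPolynomial (Fin (m + 1 + 1)) k) with hF₀
  have hF₀h : F₀.IsHomogeneous e :=
    (DirectSum.decompose (CohB1.polyGrading (m + 1) k) f e).2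
  have hF₀ne : F₀ ≠ 0 := by
    intro h
    apply he
    rw [h]
    exact Ideal.zero_mem _
  set F : MvPolynomial (Fin (m + 1 + 1)) k := F₀ * X 0 with hFdef
  have hFh : F.IsHomogeneous (e + 1) := hF₀h.mul (isHomogeneous_X k 0)
  have hFne : F ≠ 0 := mul_ne_zero hF₀ne (X_ne_zero 0)
  obtain ⟨a, ha⟩ : ∃ a : Fin (m + 1 + 1) → k, eval a F ≠ 0 := by
    by_contra h
    push_neg at h
    apply hFne
    apply MvPolynomial.funext
    intro x
    rw [h x, map_zero]
  have ha0 : a 0 ≠ 0 := by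
    intro h
    apply ha
    rw [hFdef, map_mul, eval_X, h, mul_zero]
  refine ⟨a, fun y hy => ?_⟩
  rw [hs, ProjectiveSpectrum.mem_zeroLocus] at hy
  have hfy : f ∈ y.asHomogeneousIdeal := hy hfs
  have hF₀y : F₀ ∈ y.asHomogeneousIdeal.toIdeal := y.asHomogeneousIdeal.isHomogeneous e hfy
  have hFy : F ∈ y.asHomogeneousIdeal.toIdeal := Ideal.mul_mem_right _ _ hF₀y
  haveI : y.asHomogeneousIdeal.toIdeal.IsPrime := y.isPrime
  obtain ⟨j, hj⟩ := exists_mem_D (m + 1) k y
  obtain ⟨l, hl⟩ := exists_LF_notMem k m a F (e + 1) hFh ha ha0 y.asHomogeneousIdeal.toIdeal hFy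
    ⟨j, hj⟩
  exact ⟨l, hl⟩

/-- a proper closed subset of `P^{m+1}_k` misses the centre of some linear projection -/
theorem exists_forms (Z : Set (Proj (CohB1.polyGrading (m + 1) k))) (hZ : IsClosed Z)
    (hne : Z ≠ Set.univ) :
    ∃ a : Fin (m + 1 + 1) → k, ∀ y ∈ Z, ∃ l,
      y ∈ Proj.basicOpen (CohB1.polyGrading (m + 1) k) (LF k m a l) :=
  exists_forms_aux k m Z hZ hne

end Groth.Agent.R2.H65.NoethNorm
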