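import Groth.Agent.R2.H65PnSegre4
import Groth.Agent.R2.H65PnMap1
import Groth.Agent.S9705

/-!
# helper65: the multiplication map `P^1_R ×_R P^n_R ⟶ P^{n+1}_R`

`((x_0 : x_1), (y_0 : … : y_n)) ↦ (F_0 : … : F_{n+1})`, `F_l = x_0 y_l + x_1 y_{l-1}`
(the coefficients of `(x_0 + x_1 t)(∑ y_l t^l)`).  Construction (`mulMap`), compatibility with the
structure morphisms (`mulMap_toBase`), preimages of the standard charts (`mulMap_preimage`), finiteness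
(`isFinite_mulMap`).
-/

set_option autoImplicit false
set_option linter.unusedSectionVars false
universe u

open CategoryTheory CategoryTheory.Limits AlgebraicGeometry TopologicalSpace Opposite

namespace Groth.Agent.R2.H65.P1Pow

open Groth.Agent.Helper13AffMor Groth.Agent.Helper13Dehom Groth.Agent.Helper13ProjUP
open Groth.Agent.R2.H65.PnSegre Groth.Agent.R2.H65.PnMap
open MvPolynomial

theorem mem_basicOpen_add {Q : Scheme.{u}} {O : Q.Opens} (a b : Γ(Q, O)) {x : Q}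
    (ha : x ∈ Q.basicOpen a) (hb : x ∉ Q.basicOpen b) : x ∈ Q.basicOpen (a + b) := by
  have h := Q.basicOpen_add_le (a + b) (-b)
  rw [add_neg_cancel_right] at h
  have h1 := h ha
  rw [← SetLike.mem_coe, Opens.coe_sup, Set.mem_union] at h1
  rcases h1 with h1 | h1
  · exact h1
  · exfalso
    apply hb
    have e : -b = (-1) * b := by ring
    rw [SetLike.mem_coe, e, Scheme.basicOpen_mul] at h1
    exact h1.2

theorem mem_basicOpen_add' {Q : Scheme.{u}} {O : Q.Opens} (a b : Γ(Q, O)) {x : Q}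
    (hb : x ∈ Q.basicOpen b) (ha : x ∉ Q.basicOpen a) : x ∈ Q.basicOpen (a + b) := by
  have e : a + b = b + a := add_comm a b
  rw [e]
  exact mem_basicOpen_add b a hb ha

theorem notMem_basicOpen_mul_right {Q : Scheme.{u}} {O : Q.Opens} (a b : Γ(Q, O)) {x : Q}
    (hb : x ∉ Q.basicOpen b) : x ∉ Q.basicOpen (a * b) := by
  rw [Scheme.basicOpen_mul]
  exact fun h => hb h.2

theorem notMem_basicOpen_mul_left {Q : Scheme.{u}} {O : Q.Opens} (a b : Γ(Q, O)) {x : Q}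
    (ha : x ∉ Q.basicOpen a) : x ∉ Q.basicOpen (a * b) := by
  rw [Scheme.basicOpen_mul]
  exact fun h => ha h.1

variable (n : ℕ) (R : Type u) [CommRing R]

/-- `y_l`, or `0` if `l > n` -/
noncomputable def yy (l : ℕ) : MvPolynomial (Fin (n + 1)) R :=
  if h : l < n + 1 then X ⟨l, h⟩ else 0

theorem yy_mem (l : ℕ) : yy n R l ∈ CohB1.polyGrading n R 1 := by
  unfold yy
  split_ifs
  · exact hX n R _
  · exact zero_mem _

theorem yy_of_lt {l : ℕ} (h : l < n + 1) : yy n R l = X ⟨l, h⟩ := dif_pos h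

theorem yy_of_not_lt {l : ℕ} (h : ¬ l < n + 1) : yy n R l = 0 := dif_neg h

/-- the coefficient paired with `x_0` in `F_l`: `y_l` -/
noncomputable def Ylo (l : Fin (n + 1 + 1)) : MvPolynomial (Fin (n + 1)) R := yy n R l

/-- the coefficient paired with `x_1` in `F_l`: `y_{l-1}` -/
noncomputable def Yhi (l : Fin (n + 1 + 1)) : MvPolynomial (Fin (n + 1)) R :=
  if (l : ℕ) = 0 then 0 else yy n R (l - 1)

theorem Ylo_mem (l : Fin (n + 1 + 1)) : Ylo n R l ∈ CohB1.polyGrading n R 1 := yy_mem n R _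

theorem Yhi_mem (l : Fin (n + 1 + 1)) : Yhi n R l ∈ CohB1.polyGrading n R 1 := by
  unfold Yhi
  split_ifs
  · exact zero_mem _
  · exact yy_mem n R _

/-- `F_l = x_0 y_l + x_1 y_{l-1}` in the coordinates of the chart `(i, j)`, on `V` -/
noncomputable def FF (V : (PP 1 n R).Opens) (i : Fin (1 + 1)) (j : Fin (n + 1))
    (h1 : V ≤ p1 1 n R ⁻¹ᵁ D 1 R i) (h2 : V ≤ p2 1 n R ⁻¹ᵁ D n R j) (l : Fin (n + 1 + 1)) :
    Γ(PP 1 n R, V) :=
  pb (p1 1 n R) (hX 1 R i) V h1 (X 0) * pb (p2 1 n R) (hX n R j) V h2 (Ylo n R l) +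
    pb (p1 1 n R) (hX 1 R i) V h1 (X 1) * pb (p2 1 n R) (hX n R j) V h2 (Yhi n R l)

theorem FF_res (V V' : (PP 1 n R).Opens) (i : Fin (1 + 1)) (j : Fin (n + 1))
    (h1 : V ≤ p1 1 n R ⁻¹ᵁ D 1 R i) (h2 : V ≤ p2 1 n R ⁻¹ᵁ D n R j) (h : V' ≤ V)
    (l : Fin (n + 1 + 1)) :
    res h (FF n R V i j h1 h2 l) = FF n R V' i j (h.trans h1) (h.trans h2) l := by
  unfold FF
  rw [map_add, map_mul, map_mul]
  erw [pb_res, pb_res, pb_res, pb_res]

theorem FF_change (V : (PP 1 n R).Opens) (i i' : Fin (1 + 1)) (j j' : Fin (n + 1))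
    (h1 : V ≤ p1 1 n R ⁻¹ᵁ D 1 R i) (h2 : V ≤ p2 1 n R ⁻¹ᵁ D n R j)
    (h1' : V ≤ p1 1 n R ⁻¹ᵁ D 1 R i') (h2' : V ≤ p2 1 n R ⁻¹ᵁ D n R j') (l : Fin (n + 1 + 1)) :
    FF n R V i' j' h1' h2' l =
      (pb (p1 1 n R) (hX 1 R i') V h1' (X i) * pb (p2 1 n R) (hX n R j') V h2' (X j)) *
        FF n R V i j h1 h2 l := by
  unfold FF
  rw [pb_overlap (p1 1 n R) (hX 1 R i) (hX 1 R i') V h1 h1' (hX 1 R 0),
    pb_overlap (p1 1 n R) (hX 1 R i) (hX 1 R i') V h1 h1' (hX 1 R 1),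
    pb_overlap (p2 1 n R) (hX n R j) (hX n R j') V h2 h2' (Ylo_mem n R l),
    pb_overlap (p2 1 n R) (hX n R j) (hX n R j') V h2 h2' (Yhi_mem n R l)]
  ring

/-- the structure maps of the local coordinates -/
noncomputable def ss (a : Fin (1 + 1) × Fin (n + 1)) : R →+* Γ(PP 1 n R, W 1 n R a.1 a.2) :=
  (pb (p1 1 n R) (hX 1 R a.1) (W 1 n R a.1 a.2) (W_le1 1 n R a.1 a.2)).comp C

/-- the local coordinates -/
noncomputable def Fc (a : Fin (1 + 1) × Fin (n + 1)) (l : Fin (n + 1 + 1)) :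
    Γ(PP 1 n R, W 1 n R a.1 a.2) :=
  FF n R (W 1 n R a.1 a.2) a.1 a.2 (W_le1 1 n R a.1 a.2) (W_le2 1 n R a.1 a.2) l

theorem ss_compat (a b : Fin (1 + 1) × Fin (n + 1)) (r : R) :
    res (inf_le_left : W 1 n R a.1 a.2 ⊓ W 1 n R b.1 b.2 ≤ W 1 n R a.1 a.2) (ss n R a r) =
      res (inf_le_right : W 1 n R a.1 a.2 ⊓ W 1 n R b.1 b.2 ≤ W 1 n R b.1 b.2) (ss n R b r) := by
  unfold ss
  rw [RingHom.comp_apply, RingHom.comp_apply]
  erw [pb_res, pb_res]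
  exact (pb_algebraMap (p1 1 n R) (hX 1 R a.1) (hX 1 R b.1) _ _ _ r).symm

theorem Fc_compat (a b : Fin (1 + 1) × Fin (n + 1)) :
    ∃ u : Γ(PP 1 n R, W 1 n R a.1 a.2 ⊓ W 1 n R b.1 b.2), ∀ l,
      res (inf_le_right : W 1 n R a.1 a.2 ⊓ W 1 n R b.1 b.2 ≤ W 1 n R b.1 b.2) (Fc n R b l) =
        u * res (inf_le_left : W 1 n R a.1 a.2 ⊓ W 1 n R b.1 b.2 ≤ W 1 n R a.1 a.2)
          (Fc n R a l) := by
  refine ⟨pb (p1 1 n R) (hX 1 R b.1) _ (inf_le_right.trans (W_le1 1 n R b.1 b.2)) (X a.1) *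
    pb (p2 1 n R) (hX n R b.2) _ (inf_le_right.trans (W_le2 1 n R b.1 b.2)) (X a.2), fun l => ?_⟩
  unfold Fc
  rw [FF_res, FF_res]
  exact FF_change n R _ a.1 b.1 a.2 b.2 _ _ _ _ l

theorem Fc_cover (a : Fin (1 + 1) × Fin (n + 1)) (x : PP 1 n R) (hx : x ∈ W 1 n R a.1 a.2) :
    ∃ l, x ∈ (PP 1 n R).basicOpen (Fc n R a l) := by
  classical
  obtain ⟨i, j⟩ := a
  change x ∈ W 1 n R i j at hx
  -- the least `j₀` with `y_{j₀} ≠ 0` at `x`
  have hex : ∃ j₀ : ℕ, ∃ h : j₀ < n + 1, p2 1 n R x ∈ D n R ⟨j₀, h⟩ := by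
    obtain ⟨j', hj'⟩ := exists_mem_D n R (p2 1 n R x)
    exact ⟨j', j'.2, hj'⟩
  obtain ⟨hj₀lt, hj₀⟩ := Nat.find_spec hex
  have hmin : ∀ m : ℕ, m < Nat.find hex → ∀ h : m < n + 1, p2 1 n R x ∉ D n R ⟨m, h⟩ :=
    fun m hm h hmem => Nat.find_min hex hm ⟨h, hmem⟩
  set j₀ := Nat.find hex with hj₀def
  have b1 : ∀ k, (PP 1 n R).basicOpen (pb (p1 1 n R) (hX 1 R i) (W 1 n R i j) (W_le1 1 n R i j)
      (X k)) = W 1 n R i j ⊓ p1 1 n R ⁻¹ᵁ D 1 R k :=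
    fun k => basicOpen_pb (p1 1 n R) (hX 1 R i) (hX 1 R k) _ _
  have b2 : ∀ k, (PP 1 n R).basicOpen (pb (p2 1 n R) (hX n R j) (W 1 n R i j) (W_le2 1 n R i j)
      (X k)) = W 1 n R i j ⊓ p2 1 n R ⁻¹ᵁ D n R k :=
    fun k => basicOpen_pb (p2 1 n R) (hX n R j) (hX n R k) _ _
  by_cases h0 : p1 1 n R x ∈ D 1 R 0
  · -- `l = j₀`
    refine ⟨⟨j₀, by omega⟩, ?_⟩
    change x ∈ (PP 1 n R).basicOpen (FF n R _ i j _ _ _)
    unfold FF
    apply mem_basicOpen_add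
    · rw [Scheme.basicOpen_mul, b1]
      refine ⟨⟨hx, h0⟩, ?_⟩
      have : Ylo n R ⟨j₀, by omega⟩ = X ⟨j₀, hj₀lt⟩ := yy_of_lt n R hj₀lt
      rw [this, b2]
      exact ⟨hx, hj₀⟩
    · apply notMem_basicOpen_mul_right
      unfold Yhi
      split_ifs with hz
      · rw [map_zero, Scheme.basicOpen_zero]
        exact fun h => h
      · have hlt : j₀ - 1 < n + 1 := by omega
        have : yy n R ((⟨j₀, by omega⟩ : Fin (n + 1 + 1)) - 1 : ℕ) = X ⟨j₀ - 1, hlt⟩ :=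
          yy_of_lt n R hlt
        rw [this, b2]
        exact fun h => hmin (j₀ - 1) (by simp only [] at hz; omega) hlt h.2
  · -- `x_0 = 0` at `x`, so `x_1 ≠ 0`; `l = j₀ + 1`
    have h1 : p1 1 n R x ∈ D 1 R 1 := by
      obtain ⟨i', hi'⟩ := exists_mem_D 1 R (p1 1 n R x)
      have : i' = 0 ∨ i' = 1 := by
        rcases i' with ⟨v, hv⟩
        have : v = 0 ∨ v = 1 := by omega
        rcases this with rfl | rfl
        · left; rfl
        · right; rfl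
      rcases this with rfl | rfl
      · exact absurd hi' h0
      · exact hi'
    refine ⟨⟨j₀ + 1, by omega⟩, ?_⟩
    change x ∈ (PP 1 n R).basicOpen (FF n R _ i j _ _ _)
    unfold FF
    apply mem_basicOpen_add'
    · rw [Scheme.basicOpen_mul, b1]
      refine ⟨⟨hx, h1⟩, ?_⟩
      have : Yhi n R ⟨j₀ + 1, by omega⟩ = X ⟨j₀, hj₀lt⟩ := by
        unfold Yhi
        rw [if_neg (by simp)]
        exact yy_of_lt n R hj₀lt
      rw [this, b2]
      exact ⟨hx, hj₀⟩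
    · apply notMem_basicOpen_mul_left
      rw [b1]
      exact fun h => h0 h.2

theorem exists_mulMap : ∃ μ : PP 1 n R ⟶ Proj (CohB1.polyGrading (n + 1) R),
    ∀ a l, ((PP 1 n R).basicOpen (Fc n R a l)).ι ≫ μ =
      G (n + 1) (fun a : Fin (1 + 1) × Fin (n + 1) => W 1 n R a.1 a.2) (ss n R) (Fc n R) a l :=
  exists_map_of_local_coords (n + 1) (fun a : Fin (1 + 1) × Fin (n + 1) => W 1 n R a.1 a.2)
    (ss n R) (Fc n R) (exists_mem_W 1 n R) (ss_compat n R) (Fc_compat n R) (Fc_cover n R)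

/-- the multiplication map `P^1 × P^n ⟶ P^{n+1}` -/
noncomputable def mulMap : PP 1 n R ⟶ Proj (CohB1.polyGrading (n + 1) R) :=
  Classical.choose (exists_mulMap n R)

theorem mulMap_spec (a : Fin (1 + 1) × Fin (n + 1)) (l : Fin (n + 1 + 1)) :
    ((PP 1 n R).basicOpen (Fc n R a l)).ι ≫ mulMap n R =
      G (n + 1) (fun a : Fin (1 + 1) × Fin (n + 1) => W 1 n R a.1 a.2) (ss n R) (Fc n R) a l :=
  Classical.choose_spec (exists_mulMap n R) a l

theorem mulMap_toBase : mulMap n R ≫ toBase (CohB1.polyGrading (n + 1) R) =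
    p1 1 n R ≫ toBase (CohB1.polyGrading 1 R) := by
  apply comp_toBase (mulMap_spec n R) (exists_mem_W 1 n R) (Fc_cover n R)
  intro a
  exact ι_comp_toBase (p1 1 n R) (hX 1 R a.1) (W 1 n R a.1 a.2) (W_le1 1 n R a.1 a.2)

end Groth.Agent.R2.H65.P1Pow
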