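import Groth.Agent.R2.H65P1Pow1

/-!
# helper65: the multiplication map `P^1_R ×_R P^n_R ⟶ P^{n+1}_R` is finite

The preimage of `D₊(T_l)` is the preimage under the Segre embedding of `D₊(L_l)`,
`L_l = z_{0,l} + z_{1,l-1}` (`mulMap_preimage`), hence affine; with properness this gives
`isFinite_mulMap`.
-/

set_option autoImplicit false
set_option linter.unusedSectionVars false
universe u

open CategoryTheory CategoryTheory.Limits AlgebraicGeometry TopologicalSpace Opposite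

namespace Groth.Agent.R2.H65.P1Pow

open Groth.Agent.Helper13AffMor Groth.Agent.Helper13Dehom Groth.Agent.Helper13ProjUP
open Groth.Agent.R2.H65.PnSegre Groth.Agent.R2.H65.PnMap
open MvPolynomial

variable (n : ℕ) (R : Type u) [CommRing R] {N : ℕ}
  (e : Fin (1 + 1) × Fin (n + 1) ≃ Fin (N + 1))

/-- `z_{i,l}`, or `0` if `l > n` -/
noncomputable def zz (i : Fin (1 + 1)) (l : ℕ) : MvPolynomial (Fin (N + 1)) R :=
  if h : l < n + 1 then X (e (i, ⟨l, h⟩)) else 0

theorem zz_mem (i : Fin (1 + 1)) (l : ℕ) : zz n R e i l ∈ CohB1.polyGrading N R 1 := by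
  unfold zz
  split_ifs
  · exact hX N R _
  · exact zero_mem _

/-- the linear form `L_l = z_{0,l} + z_{1,l-1}` -/
noncomputable def LL (l : Fin (n + 1 + 1)) : MvPolynomial (Fin (N + 1)) R :=
  zz n R e 0 l + (if (l : ℕ) = 0 then 0 else zz n R e 1 (l - 1))

theorem LL_mem (l : Fin (n + 1 + 1)) : LL n R e l ∈ CohB1.polyGrading N R 1 := by
  unfold LL
  apply add_mem (zz_mem n R e 0 l)
  split_ifs
  · exact zero_mem _
  · exact zz_mem n R e 1 _

theorem ψ_zz (V : (PP 1 n R).Opens) (i : Fin (1 + 1)) (j : Fin (n + 1))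
    (h1 : V ≤ p1 1 n R ⁻¹ᵁ D 1 R i) (h2 : V ≤ p2 1 n R ⁻¹ᵁ D n R j) (i' : Fin (1 + 1)) (l : ℕ) :
    ψ 1 n R e V i j h1 h2 (zz n R e i' l) =
      pb (p1 1 n R) (hX 1 R i) V h1 (X i') * pb (p2 1 n R) (hX n R j) V h2 (yy n R l) := by
  unfold zz yy
  split_ifs
  · exact ψ_X 1 n R e V i j h1 h2 _ _
  · rw [map_zero, map_zero, mul_zero]

theorem ψ_LL (V : (PP 1 n R).Opens) (i : Fin (1 + 1)) (j : Fin (n + 1))
    (h1 : V ≤ p1 1 n R ⁻¹ᵁ D 1 R i) (h2 : V ≤ p2 1 n R ⁻¹ᵁ D n R j) (l : Fin (n + 1 + 1)) :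
    ψ 1 n R e V i j h1 h2 (LL n R e l) = FF n R V i j h1 h2 l := by
  unfold LL FF Ylo Yhi
  rw [map_add, ψ_zz]
  split_ifs
  · rw [map_zero, map_zero, mul_zero]
  · rw [ψ_zz]

theorem mulMap_preimage (l : Fin (n + 1 + 1)) :
    mulMap n R ⁻¹ᵁ D (n + 1) R l =
      segre 1 n R e ⁻¹ᵁ Proj.basicOpen (CohB1.polyGrading N R) (LL n R e l) := by
  ext x
  obtain ⟨⟨i, j⟩, hx⟩ := exists_mem_W 1 n R x
  change x ∈ W 1 n R i j at hx
  have h1 := inf_preimage_D (mulMap_spec n R) (Fc_cover n R) (i, j) l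
  have hb := basicOpen_appLE (segre 1 n R e) (W_le_segre_preimage 1 n R e i j)
    (dehom (hX N R (e (i, j))) (LL n R e l))
  rw [segre_appLE, basicOpen_dehom (LL_mem n R e l) (hX N R (e (i, j))), φ_dehom, ψ_LL] at hb
  constructor
  · intro hxl
    have h2 : x ∈ (PP 1 n R).basicOpen (Fc n R (i, j) l) := by
      rw [← h1]
      exact ⟨hx, hxl⟩
    have h3 : x ∈ (PP 1 n R).basicOpen (FF n R (W 1 n R i j) i j (W_le1 1 n R i j)
        (W_le2 1 n R i j) l) := h2
    rw [hb] at h3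
    exact h3.2.1
  · intro hxl
    have h3 : x ∈ (PP 1 n R).basicOpen (FF n R (W 1 n R i j) i j (W_le1 1 n R i j)
        (W_le2 1 n R i j) l) := by
      rw [hb]
      exact ⟨hx, hxl, W_le_segre_preimage 1 n R e i j hx⟩
    have h2 : x ∈ (PP 1 n R).basicOpen (Fc n R (i, j) l) := h3
    rw [← h1] at h2
    exact h2.2

theorem isAffineHom_mulMap : IsAffineHom (mulMap n R) := by
  have hs : IsClosedImmersion (segre 1 n R (coordEquiv 1 n)) :=
    isClosedImmersion_segre 1 n R (coordEquiv 1 n)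
  apply isAffineHom_of_forall_exists_isAffineOpen
  intro y
  obtain ⟨l, hl⟩ := exists_mem_D (n + 1) R y
  refine ⟨D (n + 1) R l, hl, isAffineOpen_D (n + 1) R l, ?_⟩
  rw [mulMap_preimage n R (coordEquiv 1 n) l]
  exact (isAffineOpen_basicOpen (LL_mem n R (coordEquiv 1 n) l)).preimage
    (segre 1 n R (coordEquiv 1 n))

theorem isProper_mulMap : IsProper (mulMap n R) := by
  have h1 := Groth.Agent.S9705.isProper_projSpace_toSpec 1 R
  have h2 := Groth.Agent.S9705.isProper_projSpace_toSpec n R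
  have h3 := Groth.Agent.S9705.isProper_projSpace_toSpec (n + 1) R
  have h4 : IsProper (mulMap n R ≫ toBase (CohB1.polyGrading (n + 1) R)) := by
    rw [mulMap_toBase]
    change IsProper (pullback.fst (CohB1.ProjSpace.toSpec 1 R) (CohB1.ProjSpace.toSpec n R) ≫
      CohB1.ProjSpace.toSpec 1 R)
    infer_instance
  have h5 : IsSeparated (toBase (CohB1.polyGrading (n + 1) R)) := by
    change IsSeparated (CohB1.ProjSpace.toSpec (n + 1) R)
    infer_instance
  exact IsProper.of_comp (mulMap n R) (toBase (CohB1.polyGrading (n + 1) R))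

theorem isFinite_mulMap : IsFinite (mulMap n R) := by
  rw [IsFinite.iff_isProper_and_isAffineHom]
  exact ⟨isProper_mulMap n R, isAffineHom_mulMap n R⟩

end Groth.Agent.R2.H65.P1Pow
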