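import Mathlib

/-!
# helper65: splitting off a linear factor from a binary form over an algebraically closed field

`exists_factor`: a nonzero sequence `c_0, …, c_{n+1}` over an algebraically closed field is the
coefficient sequence of a product `(a_0 + a_1 t)(b_0 + ⋯ + b_n t^n)` with `(a_0, a_1) ≠ 0`, `b ≠ 0`.
-/

set_option autoImplicit false

open Polynomial

namespace Groth.Agent.R2.H65.PolyFactor

theorem exists_factor {K : Type*} [Field K] [IsAlgClosed K] (n : ℕ) (c : ℕ → K)
    (hc : ∃ k, k ≤ n + 1 ∧ c k ≠ 0) (hc0 : ∀ k, n + 1 < k → c k = 0) :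
    ∃ (a0 a1 : K) (b : ℕ → K), (a0 ≠ 0 ∨ a1 ≠ 0) ∧ (∃ j, j ≤ n ∧ b j ≠ 0) ∧
      (∀ j, n < j → b j = 0) ∧
      ∀ l, a0 * b l + a1 * (if l = 0 then 0 else b (l - 1)) = c l := by
  by_cases htop : c (n + 1) = 0
  · refine ⟨1, 0, fun l => if l ≤ n then c l else 0, Or.inl one_ne_zero, ?_, ?_, ?_⟩
    · obtain ⟨k, hk, hck⟩ := hc
      have hkn : k ≤ n := by
        rcases Nat.lt_or_ge n k with h | h
        · have : k = n + 1 := by omega
          rw [this] at hck
          exact absurd htop hck
        · exact h
      exact ⟨k, hkn, by simpa [hkn] using hck⟩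
    · intro j hj
      simp [Nat.not_le.mpr hj]
    · intro l
      simp only [one_mul, zero_mul, add_zero]
      split_ifs with h
      · rfl
      · rcases Nat.lt_or_ge (n + 1) l with h' | h'
        · exact (hc0 l h').symm
        · have : l = n + 1 := by omega
          rw [this, htop]
  · -- the polynomial with coefficients `c`
    let P : K[X] := ∑ l ∈ Finset.range (n + 2), C (c l) * X ^ l
    have hP : ∀ l, P.coeff l = c l := by
      intro l
      simp only [P, finsetSum_coeff, coeff_C_mul, coeff_X_pow]
      rcases Nat.lt_or_ge l (n + 2) with h | h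
      · rw [Finset.sum_eq_single l]
        · simp
        · intro b _ hb
          simp [Ne.symm hb]
        · intro hl
          exact absurd (Finset.mem_range.mpr h) hl
      · rw [Finset.sum_eq_zero, hc0 l (by omega)]
        intro b hb
        have : b < n + 2 := Finset.mem_range.mp hb
        have hne : l ≠ b := by omega
        simp [hne]
    have hdeg : P.natDegree ≤ n + 1 := by
      rw [natDegree_le_iff_coeff_eq_zero]
      intro N hN
      rw [hP, hc0 N hN]
    have hdeg' : n + 1 ≤ P.natDegree := le_natDegree_of_ne_zero (by rw [hP]; exact htop)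
    have hnd : P.natDegree = n + 1 := le_antisymm hdeg hdeg'
    have hd : P.degree ≠ 0 := by
      intro h0
      have h1 : P.natDegree = 0 := natDegree_eq_of_degree_eq_some h0
      rw [hnd] at h1
      exact Nat.succ_ne_zero n h1
    obtain ⟨r, hr⟩ := IsAlgClosed.exists_root P hd
    have hfac : (X - C r) * (P /ₘ (X - C r)) = P := mul_divByMonic_eq_iff_isRoot.mpr hr
    set G := P /ₘ (X - C r) with hG
    have hGdeg : G.natDegree = n := by
      rw [hG, natDegree_divByMonic _ (monic_X_sub_C r), natDegree_X_sub_C, hnd]
      rfl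
    have hP0 : P ≠ 0 := by
      intro h
      rw [h, natDegree_zero] at hnd
      omega
    have hG0 : G ≠ 0 := by
      intro h
      rw [h, mul_zero] at hfac
      exact hP0 hfac.symm
    refine ⟨-r, 1, fun l => G.coeff l, Or.inr one_ne_zero, ⟨n, le_refl n, ?_⟩, ?_, ?_⟩
    · have := leadingCoeff_ne_zero.mpr hG0
      rw [leadingCoeff, hGdeg] at this
      exact this
    · intro j hj
      exact coeff_eq_zero_of_natDegree_lt (by rw [hGdeg]; exact hj)
    · intro l
      rw [← hP l, ← hfac, sub_mul, coeff_sub, coeff_C_mul]
      rcases l with _ | l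
      · simp
      · rw [coeff_X_mul]
        simp
        ring

end Groth.Agent.R2.H65.PolyFactor
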