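import Groth.Agent.R2.H65P1Pow2
import Groth.Agent.R2.H65KPoint
import Groth.Agent.R2.H65PolyFactor

/-!
# helper65: the multiplication map `P^1_R ×_R P^n_R ⟶ P^{n+1}_R` is surjective

For a point `z` of `P^{n+1}_R` take an algebraically closed field `K ⊇ κ(z)`; the `K`-point `z` is a
binary form of degree `n+1` over `K`, which splits off a linear factor; the factors define a `K`-point
of `P^1 × P^n` mapping to `z`.
-/

set_option autoImplicit false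
set_option linter.unusedSectionVars false
universe u

open CategoryTheory CategoryTheory.Limits AlgebraicGeometry TopologicalSpace Opposite

namespace Groth.Agent.R2.H65.P1Pow

open Groth.Agent.Helper13AffMor Groth.Agent.Helper13Dehom Groth.Agent.Helper13ProjUP
open Groth.Agent.R2.H65.PnSegre Groth.Agent.R2.H65.PnMap Groth.Agent.R2.H65.KPoint
open MvPolynomial

theorem evAt_congr {X : Scheme.{u}} {B : CommRingCat.{u}} {q q' : Spec B ⟶ X} (e : q = q')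
    (O : X.Opens) (hq : (⊤ : (Spec B).Opens) ≤ q ⁻¹ᵁ O) (hq' : (⊤ : (Spec B).Opens) ≤ q' ⁻¹ᵁ O) :
    evAt q O hq = evAt q' O hq' := by
  subst e
  rfl

variable (n : ℕ) (R : Type u) [CommRing R]

section point

variable {K : Type u} [Field K] (σ₀ : R →+* K) (a : Fin (1 + 1) → K) (b : ℕ → K)
  (i₀ : Fin (1 + 1)) (j₀ : Fin (n + 1))

/-- `x_i ↦ a_i / a_{i₀}` -/
noncomputable def ρ₁ : MvPolynomial (Fin (1 + 1)) R →+* K :=
  eval₂Hom σ₀ (fun i => a i / a i₀)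

/-- `y_j ↦ b_j / b_{j₀}` -/
noncomputable def ρ₂ : MvPolynomial (Fin (n + 1)) R →+* K :=
  eval₂Hom σ₀ (fun j => b j / b j₀)

variable (ha : a i₀ ≠ 0) (hb : b j₀ ≠ 0)

include ha in
theorem ρ₁_self : ρ₁ R σ₀ a i₀ (X i₀) = 1 := by
  unfold ρ₁
  rw [eval₂Hom_X', div_self ha]

include hb in
theorem ρ₂_self : ρ₂ n R σ₀ b j₀ (X j₀) = 1 := by
  unfold ρ₂
  rw [eval₂Hom_X', div_self hb]

theorem ρ₂_yy (hb0 : ∀ j, n < j → b j = 0) (m : ℕ) :
    ρ₂ n R σ₀ b j₀ (yy n R m) = b m / b j₀ := by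
  unfold yy ρ₂
  split_ifs with h
  · rw [eval₂Hom_X']
  · rw [map_zero, hb0 m (by omega), zero_div]

/-- the ring map of the `K`-point of `P^1` -/
noncomputable def α₁ : Γ(Proj (CohB1.polyGrading 1 R), D 1 R i₀) ⟶ CommRingCat.of K :=
  dehomLiftCat (hX 1 R i₀) (B := CommRingCat.of K) (ρ₁ R σ₀ a i₀) (ρ₁_self R σ₀ a i₀ ha)

/-- the ring map of the `K`-point of `P^n` -/
noncomputable def α₂ : Γ(Proj (CohB1.polyGrading n R), D n R j₀) ⟶ CommRingCat.of K :=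
  dehomLiftCat (hX n R j₀) (B := CommRingCat.of K) (ρ₂ n R σ₀ b j₀) (ρ₂_self n R σ₀ b j₀ hb)

theorem α₁_dehom (x : MvPolynomial (Fin (1 + 1)) R) :
    (α₁ R σ₀ a i₀ ha).hom (dehom (hX 1 R i₀) x) = ρ₁ R σ₀ a i₀ x :=
  dehomLiftCat_dehom (hX 1 R i₀) (B := CommRingCat.of K) _ _ x

theorem α₂_dehom (x : MvPolynomial (Fin (n + 1)) R) :
    (α₂ n R σ₀ b j₀ hb).hom (dehom (hX n R j₀) x) = ρ₂ n R σ₀ b j₀ x :=
  dehomLiftCat_dehom (hX n R j₀) (B := CommRingCat.of K) _ _ x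

/-- the `K`-point of `P^1` -/
noncomputable def qx : Spec (CommRingCat.of K) ⟶ Proj (CohB1.polyGrading 1 R) :=
  Spec.map (α₁ R σ₀ a i₀ ha) ≫ (isAffineOpen_D 1 R i₀).fromSpec

/-- the `K`-point of `P^n` -/
noncomputable def qy : Spec (CommRingCat.of K) ⟶ Proj (CohB1.polyGrading n R) :=
  Spec.map (α₂ n R σ₀ b j₀ hb) ≫ (isAffineOpen_D n R j₀).fromSpec

theorem q_cond : qx R σ₀ a i₀ ha ≫ CohB1.ProjSpace.toSpec 1 R =
    qy n R σ₀ b j₀ hb ≫ CohB1.ProjSpace.toSpec n R := by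
  change (_ ≫ _) ≫ toBase (CohB1.polyGrading 1 R) = (_ ≫ _) ≫ toBase (CohB1.polyGrading n R)
  rw [Category.assoc, Category.assoc]
  erw [fromSpec_toBase (hX 1 R i₀), fromSpec_toBase (hX n R j₀)]
  rw [← Spec.map_comp, ← Spec.map_comp]
  congr 1
  ext r
  change (α₁ R σ₀ a i₀ ha).hom (dehom (hX 1 R i₀) (C r)) =
    (α₂ n R σ₀ b j₀ hb).hom (dehom (hX n R j₀) (C r))
  rw [α₁_dehom, α₂_dehom]
  unfold ρ₁ ρ₂
  rw [eval₂Hom_C, eval₂Hom_C]

/-- the `K`-point of `P^1 × P^n` -/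
noncomputable def qq : Spec (CommRingCat.of K) ⟶ PP 1 n R :=
  pullback.lift (qx R σ₀ a i₀ ha) (qy n R σ₀ b j₀ hb) (q_cond n R σ₀ a b i₀ j₀ ha hb)

theorem qq_p1 : qq n R σ₀ a b i₀ j₀ ha hb ≫ p1 1 n R = qx R σ₀ a i₀ ha :=
  pullback.lift_fst _ _ _

theorem qq_p2 : qq n R σ₀ a b i₀ j₀ ha hb ≫ p2 1 n R = qy n R σ₀ b j₀ hb :=
  pullback.lift_snd _ _ _

theorem qq_le_W : (⊤ : (Spec (CommRingCat.of K)).Opens) ≤
    qq n R σ₀ a b i₀ j₀ ha hb ⁻¹ᵁ W 1 n R i₀ j₀ := by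
  intro y _
  constructor
  · change p1 1 n R (qq n R σ₀ a b i₀ j₀ ha hb y) ∈ D 1 R i₀
    rw [← Scheme.Hom.comp_apply, qq_p1]
    unfold qx
    rw [Scheme.Hom.comp_apply]
    exact KPoint.fromSpec_mem _ _
  · change p2 1 n R (qq n R σ₀ a b i₀ j₀ ha hb y) ∈ D n R j₀
    rw [← Scheme.Hom.comp_apply, qq_p2]
    unfold qy
    rw [Scheme.Hom.comp_apply]
    exact KPoint.fromSpec_mem _ _

/-- evaluation at the `K`-point on `W i₀ j₀` -/
noncomputable def evW : Γ(PP 1 n R, W 1 n R i₀ j₀) →+* K :=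
  (evAt (qq n R σ₀ a b i₀ j₀ ha hb) (W 1 n R i₀ j₀) (qq_le_W n R σ₀ a b i₀ j₀ ha hb)).hom

theorem evW_pb1 (x : MvPolynomial (Fin (1 + 1)) R) :
    evW n R σ₀ a b i₀ j₀ ha hb (pb (p1 1 n R) (hX 1 R i₀) (W 1 n R i₀ j₀) (W_le1 1 n R i₀ j₀) x) =
      ρ₁ R σ₀ a i₀ x := by
  have hle : (⊤ : (Spec (CommRingCat.of K)).Opens) ≤
      (qq n R σ₀ a b i₀ j₀ ha hb ≫ p1 1 n R) ⁻¹ᵁ D 1 R i₀ := by
    rw [qq_p1]
    exact SpecMap_fromSpec_le _ _
  have h1 := evAt_comp (qq n R σ₀ a b i₀ j₀ ha hb) (p1 1 n R) (D 1 R i₀) (W 1 n R i₀ j₀)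
    (W_le1 1 n R i₀ j₀) (qq_le_W n R σ₀ a b i₀ j₀ ha hb) hle
  have h2 : evAt (qq n R σ₀ a b i₀ j₀ ha hb ≫ p1 1 n R) (D 1 R i₀) hle = α₁ R σ₀ a i₀ ha := by
    rw [evAt_congr (qq_p1 n R σ₀ a b i₀ j₀ ha hb) (D 1 R i₀) hle (SpecMap_fromSpec_le _ _)]
    exact evAt_SpecMap_fromSpec _ _ _
  rw [h2] at h1
  have h3 := congrArg (fun F => F.hom (dehom (hX 1 R i₀) x)) h1
  simp only at h3
  rw [α₁_dehom] at h3
  exact h3.symm

theorem evW_pb2 (x : MvPolynomial (Fin (n + 1)) R) :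
    evW n R σ₀ a b i₀ j₀ ha hb (pb (p2 1 n R) (hX n R j₀) (W 1 n R i₀ j₀) (W_le2 1 n R i₀ j₀) x) =
      ρ₂ n R σ₀ b j₀ x := by
  have hle : (⊤ : (Spec (CommRingCat.of K)).Opens) ≤
      (qq n R σ₀ a b i₀ j₀ ha hb ≫ p2 1 n R) ⁻¹ᵁ D n R j₀ := by
    rw [qq_p2]
    exact SpecMap_fromSpec_le _ _
  have h1 := evAt_comp (qq n R σ₀ a b i₀ j₀ ha hb) (p2 1 n R) (D n R j₀) (W 1 n R i₀ j₀)
    (W_le2 1 n R i₀ j₀) (qq_le_W n R σ₀ a b i₀ j₀ ha hb) hle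
  have h2 : evAt (qq n R σ₀ a b i₀ j₀ ha hb ≫ p2 1 n R) (D n R j₀) hle = α₂ n R σ₀ b j₀ hb := by
    rw [evAt_congr (qq_p2 n R σ₀ a b i₀ j₀ ha hb) (D n R j₀) hle (SpecMap_fromSpec_le _ _)]
    exact evAt_SpecMap_fromSpec _ _ _
  rw [h2] at h1
  have h3 := congrArg (fun F => F.hom (dehom (hX n R j₀) x)) h1
  simp only at h3
  rw [α₂_dehom] at h3
  exact h3.symm

/-- the value of `F_l` at the `K`-point -/
theorem evW_Fc (hb0 : ∀ j, n < j → b j = 0) (l : Fin (n + 1 + 1)) :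
    evW n R σ₀ a b i₀ j₀ ha hb (Fc n R (i₀, j₀) l) =
      (a 0 * b l + a 1 * (if (l : ℕ) = 0 then 0 else b ((l : ℕ) - 1))) / (a i₀ * b j₀) := by
  change evW n R σ₀ a b i₀ j₀ ha hb (FF n R (W 1 n R i₀ j₀) i₀ j₀ (W_le1 1 n R i₀ j₀)
    (W_le2 1 n R i₀ j₀) l) = _
  unfold FF
  rw [map_add, map_mul, map_mul, evW_pb1, evW_pb1, evW_pb2, evW_pb2]
  have e1 : ρ₁ R σ₀ a i₀ (X 0) = a 0 / a i₀ := by unfold ρ₁; rw [eval₂Hom_X']
  have e2 : ρ₁ R σ₀ a i₀ (X 1) = a 1 / a i₀ := by unfold ρ₁; rw [eval₂Hom_X']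
  have e3 : ρ₂ n R σ₀ b j₀ (Ylo n R l) = b l / b j₀ := ρ₂_yy n R σ₀ b j₀ hb0 _
  have e4 : ρ₂ n R σ₀ b j₀ (Yhi n R l) = (if (l : ℕ) = 0 then 0 else b ((l : ℕ) - 1)) / b j₀ := by
    unfold Yhi
    split_ifs
    · rw [map_zero, zero_div]
    · exact ρ₂_yy n R σ₀ b j₀ hb0 _
  rw [e1, e2, e3, e4]
  field_simp

end point

open Groth.Agent.R2.H65.PolyFactor in
theorem surjective_mulMap : Surjective (mulMap n R) := by
  constructor
  intro z
  obtain ⟨k, hk⟩ := exists_mem_D (n + 1) R z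
  -- a geometric point over `z`
  let Z : Scheme.{u} := Proj (CohB1.polyGrading (n + 1) R)
  let K := AlgebraicClosure (Z.residueField z)
  let t : Spec (CommRingCat.of K) ⟶ Z :=
    Spec.map (CommRingCat.ofHom (algebraMap (Z.residueField z) K)) ≫ Z.fromSpecResidueField z
  have ht : ∀ y, t y = z := fun y => by
    change (Spec.map _ ≫ Z.fromSpecResidueField z) y = z
    rw [Scheme.Hom.comp_apply]
    exact Scheme.fromSpecResidueField_apply _ _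
  have htle : (⊤ : (Spec (CommRingCat.of K)).Opens) ≤ t ⁻¹ᵁ D (n + 1) R k := fun y _ => by
    change t y ∈ D (n + 1) R k
    rw [ht]
    exact hk
  let ε₀ : Γ(Z, D (n + 1) R k) →+* K := (evAt t (D (n + 1) R k) htle).hom
  let σ₀ : R →+* K := ε₀.comp ((dehom (hX (n + 1) R k)).comp C)
  let c : ℕ → K := fun l =>
    if h : l < n + 1 + 1 then ε₀ (dehom (hX (n + 1) R k) (X ⟨l, h⟩)) else 0
  have hcl : ∀ l : Fin (n + 1 + 1), c l = ε₀ (dehom (hX (n + 1) R k) (X l)) := fun l => by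
    simp only [c]
    rw [dif_pos l.2]
  have hck : c k = 1 := by
    rw [hcl, dehom_self, map_one]
  obtain ⟨a0, a1, b, ha, ⟨j₀, hj₀, hbj₀⟩, hb0, hrel⟩ := exists_factor n c
    ⟨k, by have := k.2; omega, by rw [hck]; exact one_ne_zero⟩
    (fun l hl => dif_neg (by omega))
  let a : Fin (1 + 1) → K := fun i => if i = 0 then a0 else a1
  have ha0 : a 0 = a0 := rfl
  have ha1 : a 1 = a1 := rfl
  obtain ⟨i₀, hi₀⟩ : ∃ i₀, a i₀ ≠ 0 := by
    rcases ha with h | h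
    · exact ⟨0, h⟩
    · exact ⟨1, h⟩
  have hbj : b ((⟨j₀, by omega⟩ : Fin (n + 1)) : ℕ) ≠ 0 := hbj₀
  set j₁ : Fin (n + 1) := ⟨j₀, by omega⟩ with hj₁
  set q := qq n R σ₀ a b i₀ j₁ hi₀ hbj with hq
  -- values of the `F_l` at the point
  have hF : ∀ l : Fin (n + 1 + 1), evW n R σ₀ a b i₀ j₁ hi₀ hbj (Fc n R (i₀, j₁) l) =
      c l / (a i₀ * b j₁) := by
    intro l
    rw [evW_Fc n R σ₀ a b i₀ j₁ hi₀ hbj hb0 l, ha0, ha1, hrel]
  have hAB : a i₀ * b j₁ ≠ 0 := mul_ne_zero hi₀ hbj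
  -- the point lies in the basic open of `F_k`
  have hqW := qq_le_W n R σ₀ a b i₀ j₁ hi₀ hbj
  have hqO : (⊤ : (Spec (CommRingCat.of K)).Opens) ≤
      q ⁻¹ᵁ (PP 1 n R).basicOpen (Fc n R (i₀, j₁) k) := by
    intro y _
    change q y ∈ (PP 1 n R).basicOpen (Fc n R (i₀, j₁) k)
    rw [mem_basicOpen_iff_evAt_ne_zero q (W 1 n R i₀ j₁) hqW]
    change evW n R σ₀ a b i₀ j₁ hi₀ hbj (Fc n R (i₀, j₁) k) ≠ 0
    rw [hF, hck]
    exact div_ne_zero one_ne_zero hAB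
  have hOle := basicOpen_le_preimage (mulMap_spec n R) (i₀, j₁) k
  have hqm : (⊤ : (Spec (CommRingCat.of K)).Opens) ≤ (q ≫ mulMap n R) ⁻¹ᵁ D (n + 1) R k := by
    intro y hy
    exact hOle (hqO hy)
  -- the evaluation map of `q ≫ mulMap` is `ε₀`
  have hev : evAt (q ≫ mulMap n R) (D (n + 1) R k) hqm = evAt t (D (n + 1) R k) htle := by
    rw [evAt_comp q (mulMap n R) (D (n + 1) R k) _ hOle hqO hqm]
    ext1
    apply dehom_ringHom_ext (hX (n + 1) R k)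
    intro x
    change (evAt q _ hqO).hom ((Scheme.Hom.appLE (mulMap n R) (D (n + 1) R k) _ hOle).hom
      (dehom (hX (n + 1) R k) x)) = ε₀ (dehom (hX (n + 1) R k) x)
    rw [appLE_dehom (mulMap_spec n R) (i₀, j₁) k x]
    have key : (evAt q _ hqO).hom.comp (chartRing
        (fun a : Fin (1 + 1) × Fin (n + 1) => W 1 n R a.1 a.2) (ss n R) (Fc n R) (i₀, j₁) k) =
        ε₀.comp (dehom (hX (n + 1) R k)) := by
      apply MvPolynomial.ringHom_ext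
      · intro r
        rw [RingHom.comp_apply, chartRing_C, RingHom.comp_apply]
        erw [evAt_res_apply q ((PP 1 n R).basicOpen_le (Fc n R (i₀, j₁) k)) hqO hqW]
        change evW n R σ₀ a b i₀ j₁ hi₀ hbj
          (pb (p1 1 n R) (hX 1 R i₀) (W 1 n R i₀ j₁) (W_le1 1 n R i₀ j₁) (C r)) = _
        rw [evW_pb1]
        unfold ρ₁
        rw [eval₂Hom_C]
        rfl
      · intro l
        rw [RingHom.comp_apply, RingHom.comp_apply, ← hcl]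
        have h1 := congrArg (evAt q _ hqO).hom (chartRing_X_mul
          (V := fun a : Fin (1 + 1) × Fin (n + 1) => W 1 n R a.1 a.2) (s := ss n R) (F := Fc n R)
          (i₀, j₁) k l)
        rw [map_mul] at h1
        erw [evAt_res_apply q ((PP 1 n R).basicOpen_le (Fc n R (i₀, j₁) k)) hqO hqW,
          evAt_res_apply q ((PP 1 n R).basicOpen_le (Fc n R (i₀, j₁) k)) hqO hqW] at h1
        change _ * evW n R σ₀ a b i₀ j₁ hi₀ hbj (Fc n R (i₀, j₁) k) =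
          evW n R σ₀ a b i₀ j₁ hi₀ hbj (Fc n R (i₀, j₁) l) at h1
        rw [hF, hF, hck] at h1
        rw [div_eq_mul_inv, div_eq_mul_inv, one_mul] at h1
        exact mul_right_cancel₀ (inv_ne_zero hAB) h1
    exact RingHom.congr_fun key x
  have hfinal : q ≫ mulMap n R = t := by
    rw [eq_SpecMap_evAt (q ≫ mulMap n R) (isAffineOpen_D (n + 1) R k) hqm, hev,
      ← eq_SpecMap_evAt t (isAffineOpen_D (n + 1) R k) htle]
  have y0 : Spec (CommRingCat.of K) := Classical.arbitrary _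
  refine ⟨q y0, ?_⟩
  rw [← Scheme.Hom.comp_apply, hfinal, ht]

end Groth.Agent.R2.H65.P1Pow
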