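import Groth.Agent.R2.H65P1Pow3
import Groth.Agent.R2.LeadSegreBC
import Groth.Agent.S3581

/-!
# The finite surjective morphism `(P^1_S)^n ⟶ P^n_S` (helper65)

* `exists_mulOver`: base change of `mulMap` to any base scheme `S`.
* `widePullbackSucc`: `X^{n+1}/S ≅ X ×_S X^n/S` for wide pullbacks indexed by `Fin`.
* `exists_finite_surjective`: the statement of S13502.
-/

set_option autoImplicit false
universe u

open CategoryTheory CategoryTheory.Limits AlgebraicGeometry

namespace Groth.Agent.R2.H65.P1Pow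

open Groth.Agent.R2.Lead.SegreBC

/-- the multiplication map over any base -/
theorem exists_mulOver (S : Scheme.{u}) (n : ℕ) :
    ∃ μ : pullback (CohB1.ProjSpaceOver.toBase 1 S) (CohB1.ProjSpaceOver.toBase n S) ⟶
        CohB1.ProjSpaceOver (n + 1) S,
      IsFinite μ ∧ Surjective μ ∧ μ ≫ CohB1.ProjSpaceOver.toBase (n + 1) S =
        pullback.fst _ _ ≫ CohB1.ProjSpaceOver.toBase 1 S := by
  have hσ : (mulMap n (ULift.{u} ℤ) : pullback (CohB1.ProjSpace.toSpec 1 (ULift.{u} ℤ))
      (CohB1.ProjSpace.toSpec n (ULift.{u} ℤ)) ⟶ CohB1.ProjSpace (n + 1) (ULift.{u} ℤ)) ≫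
      CohB1.ProjSpace.toSpec (n + 1) (ULift.{u} ℤ) =
      pullback.fst _ _ ≫ CohB1.ProjSpace.toSpec 1 (ULift.{u} ℤ) := mulMap_toBase n _
  refine ⟨φ _ _ _ (specULiftZIsTerminal.from S) _ hσ, ?_, ?_, φ_snd _ _ _ _ _ hσ⟩
  · exact MorphismProperty.of_isPullback (P := @IsFinite) (isPullback_φ _ _ _ _ _ hσ)
      (isFinite_mulMap n _)
  · exact MorphismProperty.of_isPullback (P := @Surjective) (isPullback_φ _ _ _ _ _ hσ)
      (surjective_mulMap n _)

section wide

variable {C : Type*} [Category C] [HasPullbacks C] {S X : C} (f : X ⟶ S) (n : ℕ)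
  [HasWidePullback S (fun _ : Fin n => X) (fun _ => f)]
  [HasWidePullback S (fun _ : Fin (n + 1) => X) (fun _ => f)]

/-- `X^{n+1} ⟶ X × X^n` -/
noncomputable def wideSuccHom :
    widePullback S (fun _ : Fin (n + 1) => X) (fun _ => f) ⟶
      pullback f (WidePullback.base (fun _ : Fin n => f)) :=
  pullback.lift (WidePullback.π (fun _ : Fin (n + 1) => f) 0)
    (WidePullback.lift (WidePullback.base (fun _ : Fin (n + 1) => f))
      (fun j => WidePullback.π (fun _ : Fin (n + 1) => f) j.succ)
      (fun j => WidePullback.π_arrow (fun _ : Fin (n + 1) => f) j.succ))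
    (by rw [WidePullback.lift_base]; exact WidePullback.π_arrow (fun _ : Fin (n + 1) => f) 0)

/-- `X × X^n ⟶ X^{n+1}` -/
noncomputable def wideSuccInv :
    pullback f (WidePullback.base (fun _ : Fin n => f)) ⟶
      widePullback S (fun _ : Fin (n + 1) => X) (fun _ => f) :=
  WidePullback.lift (pullback.fst _ _ ≫ f)
    (fun j => Fin.cases (pullback.fst _ _)
      (fun i => pullback.snd _ _ ≫ WidePullback.π (fun _ : Fin n => f) i) j)
    (fun j => by
      refine Fin.cases ?_ (fun i => ?_) j
      · rfl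
      · rw [Fin.cases_succ, Category.assoc, WidePullback.π_arrow, pullback.condition])

theorem wideSuccHom_inv : wideSuccHom f n ≫ wideSuccInv f n = 𝟙 _ := by
  apply WidePullback.hom_ext
  · intro j
    unfold wideSuccHom wideSuccInv
    rw [Category.assoc, WidePullback.lift_π, Category.id_comp]
    refine Fin.cases ?_ (fun i => ?_) j
    · rw [Fin.cases_zero, pullback.lift_fst]
    · rw [Fin.cases_succ, pullback.lift_snd_assoc, WidePullback.lift_π]
  · unfold wideSuccHom wideSuccInv
    rw [Category.assoc, WidePullback.lift_base, pullback.lift_fst_assoc, Category.id_comp]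
    exact WidePullback.π_arrow (fun _ : Fin (n + 1) => f) 0

theorem wideSuccInv_hom : wideSuccInv f n ≫ wideSuccHom f n = 𝟙 _ := by
  apply pullback.hom_ext
  · unfold wideSuccHom wideSuccInv
    rw [Category.assoc, pullback.lift_fst, WidePullback.lift_π, Category.id_comp, Fin.cases_zero]
  · unfold wideSuccHom wideSuccInv
    rw [Category.assoc, pullback.lift_snd, Category.id_comp]
    apply WidePullback.hom_ext
    · intro i
      rw [Category.assoc, WidePullback.lift_π, WidePullback.lift_π, Fin.cases_succ]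
    · rw [Category.assoc, WidePullback.lift_base, WidePullback.lift_base, pullback.condition]

instance : IsIso (wideSuccHom f n) :=
  ⟨wideSuccInv f n, wideSuccHom_inv f n, wideSuccInv_hom f n⟩

theorem wideSuccHom_fst_comp :
    wideSuccHom f n ≫ pullback.fst _ _ ≫ f = WidePullback.base (fun _ : Fin (n + 1) => f) := by
  unfold wideSuccHom
  rw [pullback.lift_fst_assoc]
  exact WidePullback.π_arrow (fun _ : Fin (n + 1) => f) 0

/-- the base map of an empty wide pullback is an isomorphism -/
instance isIso_base_zero [HasWidePullback S (fun _ : Fin 0 => X) (fun _ => f)] :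
    IsIso (WidePullback.base (fun _ : Fin 0 => f)) := by
  refine ⟨WidePullback.lift (𝟙 S) (fun j => Fin.elim0 j) (fun j => Fin.elim0 j), ?_, ?_⟩
  · apply WidePullback.hom_ext
    · intro j; exact Fin.elim0 j
    · rw [Category.assoc, WidePullback.lift_base, Category.comp_id, Category.id_comp]
  · rw [WidePullback.lift_base]

end wide

/-- **S13502**: a finite surjective `S`-morphism `(P^1_S)^n ⟶ P^n_S`. -/
theorem exists_finite_surjective (S : Scheme.{u}) (n : ℕ) :
    ∃ φ : widePullback S (fun _ : Fin n => CohB1.ProjSpaceOver 1 S)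
        (fun _ => CohB1.ProjSpaceOver.toBase 1 S) ⟶ CohB1.ProjSpaceOver n S,
      IsFinite φ ∧ Surjective φ ∧
        φ ≫ CohB1.ProjSpaceOver.toBase n S =
          WidePullback.base (fun _ => CohB1.ProjSpaceOver.toBase 1 S) := by
  induction n with
  | zero =>
    have h0 : IsIso (CohB1.ProjSpace.toSpec 0 (ULift.{u} ℤ)) := Groth.Agent.S3581.result _
    have : IsIso (CohB1.ProjSpaceOver.toBase 0 S) :=
      (IsPullback.of_hasPullback (CohB1.ProjSpace.toSpec 0 (ULift.{u} ℤ))
        (specULiftZIsTerminal.from S)).isIso_snd_of_isIso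
    refine ⟨WidePullback.base (fun _ : Fin 0 => CohB1.ProjSpaceOver.toBase 1 S) ≫
      inv (CohB1.ProjSpaceOver.toBase 0 S), inferInstance, inferInstance, ?_⟩
    rw [Category.assoc, IsIso.inv_hom_id, Category.comp_id]
  | succ n ih =>
    obtain ⟨φ, hφ1, hφ2, hφ3⟩ := ih
    obtain ⟨μ, hμ1, hμ2, hμ3⟩ := exists_mulOver S n
    have e₂ : WidePullback.base (fun _ : Fin n => CohB1.ProjSpaceOver.toBase 1 S) =
        φ ≫ CohB1.ProjSpaceOver.toBase n S := hφ3.symm
    have e₁ : CohB1.ProjSpaceOver.toBase 1 S = 𝟙 _ ≫ CohB1.ProjSpaceOver.toBase 1 S :=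
      (Category.id_comp _).symm
    let m := pullback.map (CohB1.ProjSpaceOver.toBase 1 S)
      (WidePullback.base (fun _ : Fin n => CohB1.ProjSpaceOver.toBase 1 S))
      (CohB1.ProjSpaceOver.toBase 1 S) (CohB1.ProjSpaceOver.toBase n S) (𝟙 _) φ (𝟙 _)
      ((Category.comp_id _).trans e₁) ((Category.comp_id _).trans e₂)
    have hm1 : IsFinite m :=
      MorphismProperty.pullbackMap (P := @IsFinite) (inferInstance : IsFinite (𝟙 _)) hφ1 e₁ e₂
    have : MorphismProperty.IsStableUnderComposition @Surjective.{u} :=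
      (inferInstance : MorphismProperty.IsMultiplicative @Surjective.{u}).toIsStableUnderComposition
    have hm2 : Surjective m :=
      MorphismProperty.pullbackMap (P := @Surjective.{u}) (inferInstance : Surjective (𝟙 _)) hφ2 e₁ e₂
    refine ⟨wideSuccHom (CohB1.ProjSpaceOver.toBase 1 S) n ≫ m ≫ μ, inferInstance, inferInstance, ?_⟩
    rw [Category.assoc, Category.assoc, hμ3]
    change _ ≫ pullback.map _ _ _ _ _ _ _ _ _ ≫ _ = _
    rw [pullback.lift_fst_assoc, Category.comp_id]
    exact wideSuccHom_fst_comp _ n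

end Groth.Agent.R2.H65.P1Pow
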