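import Mathlib
import Groth.Agent.Lib.Helper13AffMor

/-!
# helper65: general lemmas for the Segre embedding (pn-toolkit P2)

* `isClosedImmersion_morphismRestrict_of_retraction` : a morphism `σ : P ⟶ Z` restricted over an affine
  open `U ⊆ Z` is a closed immersion as soon as the restriction admits a retraction `U ⟶ σ⁻¹ U`
  (given through `Spec Γ(Z, U)`).
* `isClosedImmersion_of_local_retractions` : the global version for an affine open cover of `Z`.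
-/

set_option autoImplicit false
universe u

open CategoryTheory CategoryTheory.Limits AlgebraicGeometry TopologicalSpace Opposite

namespace Groth.Agent.R2.H65.PnSegre

open Groth.Agent.Helper13AffMor

variable {P Z : Scheme.{u}}

theorem isSeparated_of_isAffine_source {X Y : Scheme.{u}} [IsAffine X] (f : X ⟶ Y) :
    IsSeparated f := by
  have : IsSeparated (f ≫ terminal.from Y) := inferInstance
  exact IsSeparated.of_comp f (terminal.from Y)

theorem isClosedImmersion_morphismRestrict_of_retraction (σ : P ⟶ Z) {U : Z.Opens}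
    (hU : IsAffineOpen U) {W : P.Opens} (hW : σ ⁻¹ᵁ U = W) (φ : Γ(Z, U) ⟶ Γ(P, W))
    (hφ : W.ι ≫ σ = toAff hU φ) (ρ : Spec Γ(Z, U) ⟶ P)
    (hρ : W.toSpecΓ ≫ Spec.map φ ≫ ρ = W.ι) (hρW : ∀ x, ρ x ∈ W) :
    IsClosedImmersion (σ ∣_ U) := by
  subst hW
  have hrange : Set.range ρ ⊆ Set.range (σ ⁻¹ᵁ U).ι := by
    rintro _ ⟨x, rfl⟩
    rw [Scheme.Opens.range_ι]
    exact hρW x
  let ρ' : Spec Γ(Z, U) ⟶ ((σ ⁻¹ᵁ U : P.Opens) : Scheme.{u}) :=
    IsOpenImmersion.lift (σ ⁻¹ᵁ U).ι ρ hrange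
  have hρ' : ρ' ≫ (σ ⁻¹ᵁ U).ι = ρ := IsOpenImmersion.lift_fac _ _ _
  have h1 : (σ ∣_ U) ≫ U.toSpecΓ = (σ ⁻¹ᵁ U).toSpecΓ ≫ Spec.map φ := by
    have h2 : (σ ∣_ U) ≫ U.ι = ((σ ⁻¹ᵁ U).toSpecΓ ≫ Spec.map φ ≫ hU.isoSpec.inv) ≫ U.ι := by
      rw [morphismRestrict_ι, hφ]
      unfold toAff
      simp only [Category.assoc]
      rw [IsAffineOpen.isoSpec_inv_ι]
    rw [cancel_mono] at h2
    rw [h2, Category.assoc, Category.assoc, ← hU.isoSpec_hom, Iso.inv_hom_id, Category.comp_id]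
  have h3 : (σ ∣_ U) ≫ (U.toSpecΓ ≫ ρ') = 𝟙 _ := by
    rw [← cancel_mono (σ ⁻¹ᵁ U).ι, Category.assoc, Category.assoc, hρ', ← Category.assoc, h1,
      Category.assoc, hρ, Category.id_comp]
  have : IsAffine (U : Scheme.{u}) := hU
  have : IsSeparated (U.toSpecΓ ≫ ρ') := isSeparated_of_isAffine_source _
  have : IsClosedImmersion ((σ ∣_ U) ≫ (U.toSpecΓ ≫ ρ')) := by rw [h3]; infer_instance
  exact IsClosedImmersion.of_comp _ (U.toSpecΓ ≫ ρ')

theorem isClosedImmersion_of_local_retractions (σ : P ⟶ Z) {ι : Type*} (U : ι → Z.Opens)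
    (hUtop : iSup U = ⊤) (hU : ∀ i, IsAffineOpen (U i)) (W : ι → P.Opens)
    (hW : ∀ i, σ ⁻¹ᵁ U i = W i) (φ : ∀ i, Γ(Z, U i) ⟶ Γ(P, W i))
    (hφ : ∀ i, (W i).ι ≫ σ = toAff (hU i) (φ i)) (ρ : ∀ i, Spec Γ(Z, U i) ⟶ P)
    (hρ : ∀ i, (W i).toSpecΓ ≫ Spec.map (φ i) ≫ ρ i = (W i).ι) (hρW : ∀ i x, ρ i x ∈ W i) :
    IsClosedImmersion σ := by
  rw [IsZariskiLocalAtTarget.iff_of_iSup_eq_top (P := @IsClosedImmersion) U hUtop]
  intro i
  exact isClosedImmersion_morphismRestrict_of_retraction σ (hU i) (hW i) (φ i) (hφ i) (ρ i) (hρ i)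
    (hρW i)

/-- two morphisms agreeing on an open cover by opens are equal -/
theorem hom_ext_opens {X Y : Scheme.{u}} {ι : Type*} (V : ι → X.Opens) (hV : ∀ x : X, ∃ i, x ∈ V i)
    (f g : X ⟶ Y) (h : ∀ i, (V i).ι ≫ f = (V i).ι ≫ g) : f = g :=
  Scheme.hom_ext_of_forall f g fun x => by
    obtain ⟨i, hi⟩ := hV x
    exact ⟨V i, hi, h i⟩

end Groth.Agent.R2.H65.PnSegre
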