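import Groth.Agent.Lib.Helper13ProjUPa
import Groth.Agent.R2.H65PnSegre1

/-!
# helper65: pulling back dehomogenised functions along a morphism to `Proj 𝒜` (pn-toolkit P2)

For `g : Q ⟶ Proj 𝒜`, `f ∈ 𝒜 1` and an open `V ≤ g⁻¹ D₊(f)`, `pb g hf V hV : A →+* Γ(Q, V)` is
`a ↦ g^#(a / f^deg a)|_V`.  Its compatibilities (`pb_self`, `pb_res`, `pb_overlap`, `pb_mul_pb`,
`pb_deg_zero`, `basicOpen_pb`, `ι_comp_toBase`) and the lift `dehomLift` of a ring map `ψ : A → B`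
with `ψ f = 1` to `Γ(Proj 𝒜, D₊(f))`.
-/

set_option autoImplicit false
set_option linter.unusedSectionVars false
universe u

open CategoryTheory CategoryTheory.Limits AlgebraicGeometry TopologicalSpace Opposite

namespace Groth.Agent.R2.H65.PnSegre

open Groth.Agent.Helper13AffMor Groth.Agent.Helper13Dehom Groth.Agent.Helper13ProjUP

variable {R A : Type u} [CommRing R] [CommRing A] [Algebra R A] {𝒜 : ℕ → Submodule R A}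
  [GradedAlgebra 𝒜]

/-- the lift of a ring map `ψ : A → B` with `ψ f = 1` to `Γ(Proj 𝒜, D₊(f))` -/
noncomputable def dehomLift {f : A} (hf : f ∈ 𝒜 1) {B : Type u} [CommRing B] (ψ : A →+* B)
    (hψ : ψ f = 1) : Γ(Proj 𝒜, Proj.basicOpen 𝒜 f) →+* B :=
  Classical.choose (exists_dehomLift hf ψ hψ)

theorem dehomLift_dehom {f : A} (hf : f ∈ 𝒜 1) {B : Type u} [CommRing B] (ψ : A →+* B)
    (hψ : ψ f = 1) (a : A) : dehomLift hf ψ hψ (dehom hf a) = ψ a :=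
  Classical.choose_spec (exists_dehomLift hf ψ hψ) a

/-- `dehomLift` as a morphism of `CommRingCat` -/
noncomputable def dehomLiftCat {f : A} (hf : f ∈ 𝒜 1) {B : CommRingCat.{u}} (ψ : A →+* B)
    (hψ : ψ f = 1) : Γ(Proj 𝒜, Proj.basicOpen 𝒜 f) ⟶ B :=
  CommRingCat.ofHom (R := Γ(Proj 𝒜, Proj.basicOpen 𝒜 f)) (S := B) (dehomLift hf ψ hψ)

theorem dehomLiftCat_dehom {f : A} (hf : f ∈ 𝒜 1) {B : CommRingCat.{u}} (ψ : A →+* B)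
    (hψ : ψ f = 1) (a : A) : (dehomLiftCat hf ψ hψ).hom (dehom hf a) = ψ a :=
  dehomLift_dehom hf ψ hψ a

theorem dehom_ringHom_ext {f : A} (hf : f ∈ 𝒜 1) {B : Type*} [Semiring B]
    (φ φ' : Γ(Proj 𝒜, Proj.basicOpen 𝒜 f) →+* B)
    (h : ∀ a, φ (dehom hf a) = φ' (dehom hf a)) : φ = φ' := by
  ext r
  obtain ⟨j, a, _, rfl⟩ := exists_dehom_eq hf r
  exact h a

section pb

variable {Q : Scheme.{u}} (g : Q ⟶ Proj 𝒜)

/-- `a ↦ g^#(a / f^deg a)|_V` -/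
noncomputable def pb {f : A} (hf : f ∈ 𝒜 1) (V : Q.Opens) (hV : V ≤ g ⁻¹ᵁ Proj.basicOpen 𝒜 f) :
    A →+* Γ(Q, V) :=
  (g.appLE (Proj.basicOpen 𝒜 f) V hV).hom.comp (dehom hf)

theorem pb_apply {f : A} (hf : f ∈ 𝒜 1) (V : Q.Opens) (hV : V ≤ g ⁻¹ᵁ Proj.basicOpen 𝒜 f) (a : A) :
    pb g hf V hV a = (g.appLE (Proj.basicOpen 𝒜 f) V hV).hom (dehom hf a) := rfl

theorem pb_self {f : A} (hf : f ∈ 𝒜 1) (V : Q.Opens) (hV : V ≤ g ⁻¹ᵁ Proj.basicOpen 𝒜 f) :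
    pb g hf V hV f = 1 := by
  rw [pb_apply, dehom_self, map_one]

theorem pb_res {f : A} (hf : f ∈ 𝒜 1) (V V' : Q.Opens) (hV : V ≤ g ⁻¹ᵁ Proj.basicOpen 𝒜 f)
    (h : V' ≤ V) (a : A) :
    (Q.presheaf.map (homOfLE h).op).hom (pb g hf V hV a) = pb g hf V' (h.trans hV) a := by
  rw [pb_apply, pb_apply, ← CommRingCat.comp_apply, Scheme.Hom.appLE_map]

/-- sections over `D₊(f)` and `D₊(f')` agreeing on the overlap have the same pullback -/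
theorem appLE_eq_of_res_eq {f f' : A} (V : Q.Opens) (hV : V ≤ g ⁻¹ᵁ Proj.basicOpen 𝒜 f)
    (hV' : V ≤ g ⁻¹ᵁ Proj.basicOpen 𝒜 f') (r : Γ(Proj 𝒜, Proj.basicOpen 𝒜 f))
    (r' : Γ(Proj 𝒜, Proj.basicOpen 𝒜 f'))
    (h : resO (inf_le_left : Proj.basicOpen 𝒜 f ⊓ Proj.basicOpen 𝒜 f' ≤ _) r =
      resO (inf_le_right : Proj.basicOpen 𝒜 f ⊓ Proj.basicOpen 𝒜 f' ≤ _) r') :
    (g.appLE (Proj.basicOpen 𝒜 f) V hV).hom r = (g.appLE (Proj.basicOpen 𝒜 f') V hV').hom r' := by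
  have hVO : V ≤ g ⁻¹ᵁ (Proj.basicOpen 𝒜 f ⊓ Proj.basicOpen 𝒜 f') := fun x hx => ⟨hV hx, hV' hx⟩
  have h1 := Scheme.Hom.map_appLE g hVO
    (homOfLE (inf_le_left : Proj.basicOpen 𝒜 f ⊓ Proj.basicOpen 𝒜 f' ≤ _)).op
  have h2 := Scheme.Hom.map_appLE g hVO
    (homOfLE (inf_le_right : Proj.basicOpen 𝒜 f ⊓ Proj.basicOpen 𝒜 f' ≤ _)).op
  rw [← h1, ← h2, CommRingCat.comp_apply, CommRingCat.comp_apply]
  exact congrArg _ h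

theorem pb_overlap {f f' : A} (hf : f ∈ 𝒜 1) (hf' : f' ∈ 𝒜 1) (V : Q.Opens)
    (hV : V ≤ g ⁻¹ᵁ Proj.basicOpen 𝒜 f) (hV' : V ≤ g ⁻¹ᵁ Proj.basicOpen 𝒜 f') {d : ℕ} {a : A}
    (ha : a ∈ 𝒜 d) :
    pb g hf' V hV' a = pb g hf' V hV' f ^ d * pb g hf V hV a := by
  rw [pb_apply, pb_apply, pb_apply, ← map_pow]
  have hVO : V ≤ g ⁻¹ᵁ (Proj.basicOpen 𝒜 f ⊓ Proj.basicOpen 𝒜 f') := fun x hx => ⟨hV hx, hV' hx⟩
  have h1 := Scheme.Hom.map_appLE g hVO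
    (homOfLE (inf_le_left : Proj.basicOpen 𝒜 f ⊓ Proj.basicOpen 𝒜 f' ≤ _)).op
  have h2 := Scheme.Hom.map_appLE g hVO
    (homOfLE (inf_le_right : Proj.basicOpen 𝒜 f ⊓ Proj.basicOpen 𝒜 f' ≤ _)).op
  rw [← h1, ← h2, CommRingCat.comp_apply, CommRingCat.comp_apply, CommRingCat.comp_apply,
    ← map_mul]
  congr 1
  exact dehom_overlap hf hf' ha inf_le_left inf_le_right

theorem pb_mul_pb {f f' : A} (hf : f ∈ 𝒜 1) (hf' : f' ∈ 𝒜 1) (V : Q.Opens)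
    (hV : V ≤ g ⁻¹ᵁ Proj.basicOpen 𝒜 f) (hV' : V ≤ g ⁻¹ᵁ Proj.basicOpen 𝒜 f') :
    pb g hf' V hV' f * pb g hf V hV f' = 1 := by
  have h := pb_overlap g hf hf' V hV hV' hf'
  rw [pb_self, pow_one] at h
  exact h.symm

theorem pb_deg_zero {f f' : A} (hf : f ∈ 𝒜 1) (hf' : f' ∈ 𝒜 1) (V : Q.Opens)
    (hV : V ≤ g ⁻¹ᵁ Proj.basicOpen 𝒜 f) (hV' : V ≤ g ⁻¹ᵁ Proj.basicOpen 𝒜 f') {a : A}
    (ha : a ∈ 𝒜 0) : pb g hf' V hV' a = pb g hf V hV a := by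
  have h := pb_overlap g hf hf' V hV hV' ha
  rw [pow_zero, one_mul] at h
  exact h

theorem pb_algebraMap {f f' : A} (hf : f ∈ 𝒜 1) (hf' : f' ∈ 𝒜 1) (V : Q.Opens)
    (hV : V ≤ g ⁻¹ᵁ Proj.basicOpen 𝒜 f) (hV' : V ≤ g ⁻¹ᵁ Proj.basicOpen 𝒜 f') (c : R) :
    pb g hf' V hV' (algebraMap R A c) = pb g hf V hV (algebraMap R A c) :=
  pb_deg_zero g hf hf' V hV hV' (SetLike.algebraMap_mem_graded 𝒜 c)

theorem basicOpen_pb {f f' : A} (hf : f ∈ 𝒜 1) (hf' : f' ∈ 𝒜 1) (V : Q.Opens)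
    (hV : V ≤ g ⁻¹ᵁ Proj.basicOpen 𝒜 f) :
    Q.basicOpen (pb g hf V hV f') = V ⊓ g ⁻¹ᵁ Proj.basicOpen 𝒜 f' := by
  rw [pb_apply, basicOpen_appLE, basicOpen_dehom hf' hf]
  ext x
  constructor
  · rintro ⟨h1, h2⟩
    exact ⟨h1, h2.1⟩
  · rintro ⟨h1, h2⟩
    exact ⟨h1, h2, hV h1⟩

theorem ι_comp_eq {f : A} (hf : f ∈ 𝒜 1) (V : Q.Opens) (hV : V ≤ g ⁻¹ᵁ Proj.basicOpen 𝒜 f) :
    V.ι ≫ g = toAff (isAffineOpen_basicOpen hf) (g.appLE (Proj.basicOpen 𝒜 f) V hV) :=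
  ι_comp_eq_toAff (isAffineOpen_basicOpen hf) g hV

/-- the structure morphism to `Spec R` on `V`, through the chart `D₊(f)` -/
theorem ι_comp_toBase {f : A} (hf : f ∈ 𝒜 1) (V : Q.Opens) (hV : V ≤ g ⁻¹ᵁ Proj.basicOpen 𝒜 f) :
    V.ι ≫ g ≫ toBase 𝒜 =
      V.toSpecΓ ≫ Spec.map (CommRingCat.ofHom ((pb g hf V hV).comp (algebraMap R A))) := by
  rw [← Category.assoc, ι_comp_eq g hf V hV]
  unfold toAff
  simp only [Category.assoc]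
  rw [fromSpec_toBase hf, ← Spec.map_comp]
  rfl

/-- `toAff` into a chart followed by the structure morphism -/
theorem toAff_toBase {f : A} (hf : f ∈ 𝒜 1) {X : Scheme.{u}} (V : X.Opens)
    (φ : Γ(Proj 𝒜, Proj.basicOpen 𝒜 f) ⟶ Γ(X, V)) :
    toAff (isAffineOpen_basicOpen hf) φ ≫ toBase 𝒜 = V.toSpecΓ ≫ Spec.map (strMap hf ≫ φ) := by
  unfold toAff
  simp only [Category.assoc]
  rw [fromSpec_toBase hf, ← Spec.map_comp]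

end pb

end Groth.Agent.R2.H65.PnSegre
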