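import Groth.Prelude.Def_CohB1
import Groth.Agent.Lib.Helper27PnChart
import Groth.Agent.R2.H65PnSegre2

/-!
# helper65: the universal Segre embedding `P^n_R ×_R P^m_R ⟶ P^N_R` (pn-toolkit P2), construction

`e : Fin (n+1) × Fin (m+1) ≃ Fin (N+1)` indexes the coordinates `z_{ij} = T_{e(i,j)}` of `P^N`.
* `W i j = pr₁⁻¹ D₊(x_i) ⊓ pr₂⁻¹ D₊(y_j)`, `ψ V i j : R[z] →+* Γ(P, V)`, `z_{kl} ↦ (x_k/x_i)(y_l/y_j)`,
  `φ i j : Γ(P^N, D₊(z_ij)) →+* Γ(P, W i j)`, chart morphisms `gch i j`, glued to `segre`.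
* `segre_toBase`, `segre_preimage`.
-/

set_option autoImplicit false
set_option linter.unusedSectionVars false
universe u

open CategoryTheory CategoryTheory.Limits AlgebraicGeometry TopologicalSpace Opposite

namespace Groth.Agent.R2.H65.PnSegre

open Groth.Agent.Helper13AffMor Groth.Agent.Helper13Dehom Groth.Agent.Helper13ProjUP
open MvPolynomial

theorem eval₂Hom_scale {R : Type*} [CommRing R] {σ : Type*} {S : Type*} [CommRing S] (f : R →+* S)
    (g : σ → S) (v : S) {d : ℕ} {p : MvPolynomial σ R} (hp : p.IsHomogeneous d) :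
    eval₂Hom f (fun k => v * g k) p = v ^ d * eval₂Hom f g p := by
  rw [← p.support_sum_monomial_coeff]
  simp only [map_sum, Finset.mul_sum]
  apply Finset.sum_congr rfl
  intro s hs
  have hdeg : s.degree = d := by
    have := hp (mem_support_iff.mp hs)
    rw [Finsupp.degree_eq_weight_one]; exact this
  rw [eval₂Hom_monomial, eval₂Hom_monomial]
  simp only [mul_pow, Finsupp.prod_mul]
  rw [← hdeg]
  have : (s.prod fun _ b => v ^ b) = v ^ s.degree := by
    rw [Finsupp.prod, Finset.prod_pow_eq_pow_sum]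
    rfl
  rw [this]
  ring

section chart

variable (k : ℕ) (R : Type u) [CommRing R]

/-- `T_i` has degree one -/
theorem hX (i : Fin (k + 1)) :
    (X i : MvPolynomial (Fin (k + 1)) R) ∈ CohB1.polyGrading k R 1 :=
  Groth.Agent.Lib.Helper27PnChart.X_mem_one k R i

/-- the standard chart `D₊(T_i)` of `P^k_R` -/
noncomputable abbrev D (i : Fin (k + 1)) : (Proj (CohB1.polyGrading k R)).Opens :=
  Proj.basicOpen (CohB1.polyGrading k R) (X i)

theorem exists_mem_D (y : Proj (CohB1.polyGrading k R)) : ∃ i, y ∈ D k R i := by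
  have h := Groth.Agent.Lib.Helper27PnChart.iSup_basicOpen_X k R
  have hy : y ∈ (⊤ : (Proj (CohB1.polyGrading k R)).Opens) := trivial
  rw [← h] at hy
  exact Opens.mem_iSup.1 hy

theorem isAffineOpen_D (i : Fin (k + 1)) : IsAffineOpen (D k R i) :=
  isAffineOpen_basicOpen (hX k R i)

end chart

variable (n m : ℕ) (R : Type u) [CommRing R]

/-- `P^n_R ×_R P^m_R` -/
noncomputable abbrev PP : Scheme.{u} :=
  pullback (CohB1.ProjSpace.toSpec n R) (CohB1.ProjSpace.toSpec m R)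

/-- first projection -/
noncomputable def p1 : PP n m R ⟶ Proj (CohB1.polyGrading n R) :=
  pullback.fst (CohB1.ProjSpace.toSpec n R) (CohB1.ProjSpace.toSpec m R)

/-- second projection -/
noncomputable def p2 : PP n m R ⟶ Proj (CohB1.polyGrading m R) :=
  pullback.snd (CohB1.ProjSpace.toSpec n R) (CohB1.ProjSpace.toSpec m R)

theorem p_cond : p1 n m R ≫ toBase (CohB1.polyGrading n R) =
    p2 n m R ≫ toBase (CohB1.polyGrading m R) :=
  pullback.condition

/-- the open `pr₁⁻¹ D₊(x_i) ⊓ pr₂⁻¹ D₊(y_j)` -/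
noncomputable def W (i : Fin (n + 1)) (j : Fin (m + 1)) : (PP n m R).Opens :=
  p1 n m R ⁻¹ᵁ D n R i ⊓ p2 n m R ⁻¹ᵁ D m R j

theorem W_le1 (i : Fin (n + 1)) (j : Fin (m + 1)) : W n m R i j ≤ p1 n m R ⁻¹ᵁ D n R i :=
  inf_le_left

theorem W_le2 (i : Fin (n + 1)) (j : Fin (m + 1)) : W n m R i j ≤ p2 n m R ⁻¹ᵁ D m R j :=
  inf_le_right

theorem exists_mem_W (p : PP n m R) : ∃ ij : Fin (n + 1) × Fin (m + 1), p ∈ W n m R ij.1 ij.2 := by
  obtain ⟨i, hi⟩ := exists_mem_D n R (p1 n m R p)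
  obtain ⟨j, hj⟩ := exists_mem_D m R (p2 n m R p)
  exact ⟨(i, j), hi, hj⟩

/-- the two structure maps `R → Γ(P, V)` agree -/
theorem pb_C_eq (V : (PP n m R).Opens) (i : Fin (n + 1)) (j : Fin (m + 1))
    (h1 : V ≤ p1 n m R ⁻¹ᵁ D n R i) (h2 : V ≤ p2 n m R ⁻¹ᵁ D m R j) (c : R) :
    pb (p1 n m R) (hX n R i) V h1 (C c) = pb (p2 n m R) (hX m R j) V h2 (C c) := by
  have e1 := ι_comp_toBase (p1 n m R) (hX n R i) V h1
  have e2 := ι_comp_toBase (p2 n m R) (hX m R j) V h2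
  rw [p_cond, e2] at e1
  have e3 := toSpecΓ_SpecMap_injective _ _ e1
  have e4 := congrArg (fun F => F.hom c) e3
  exact e4.symm

variable {N : ℕ} (e : Fin (n + 1) × Fin (m + 1) ≃ Fin (N + 1))

/-- `z_{kl} ↦ (x_k/x_i)(y_l/y_j)` on `V` -/
noncomputable def ψ (V : (PP n m R).Opens) (i : Fin (n + 1)) (j : Fin (m + 1))
    (h1 : V ≤ p1 n m R ⁻¹ᵁ D n R i) (h2 : V ≤ p2 n m R ⁻¹ᵁ D m R j) :
    MvPolynomial (Fin (N + 1)) R →+* Γ(PP n m R, V) :=
  eval₂Hom ((pb (p1 n m R) (hX n R i) V h1).comp C)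
    (fun k => pb (p1 n m R) (hX n R i) V h1 (X (e.symm k).1) *
      pb (p2 n m R) (hX m R j) V h2 (X (e.symm k).2))

theorem ψ_C (V : (PP n m R).Opens) (i : Fin (n + 1)) (j : Fin (m + 1))
    (h1 : V ≤ p1 n m R ⁻¹ᵁ D n R i) (h2 : V ≤ p2 n m R ⁻¹ᵁ D m R j) (c : R) :
    ψ n m R e V i j h1 h2 (C c) = pb (p1 n m R) (hX n R i) V h1 (C c) := by
  unfold ψ
  rw [eval₂Hom_C]
  rfl

theorem ψ_X (V : (PP n m R).Opens) (i : Fin (n + 1)) (j : Fin (m + 1))
    (h1 : V ≤ p1 n m R ⁻¹ᵁ D n R i) (h2 : V ≤ p2 n m R ⁻¹ᵁ D m R j) (k : Fin (n + 1))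
    (l : Fin (m + 1)) :
    ψ n m R e V i j h1 h2 (X (e (k, l))) =
      pb (p1 n m R) (hX n R i) V h1 (X k) * pb (p2 n m R) (hX m R j) V h2 (X l) := by
  unfold ψ
  rw [eval₂Hom_X', Equiv.symm_apply_apply]

theorem ψ_X_self (V : (PP n m R).Opens) (i : Fin (n + 1)) (j : Fin (m + 1))
    (h1 : V ≤ p1 n m R ⁻¹ᵁ D n R i) (h2 : V ≤ p2 n m R ⁻¹ᵁ D m R j) :
    ψ n m R e V i j h1 h2 (X (e (i, j))) = 1 := by
  rw [ψ_X, pb_self, pb_self, one_mul]

theorem ψ_res (V V' : (PP n m R).Opens) (i : Fin (n + 1)) (j : Fin (m + 1))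
    (h1 : V ≤ p1 n m R ⁻¹ᵁ D n R i) (h2 : V ≤ p2 n m R ⁻¹ᵁ D m R j) (h : V' ≤ V)
    (c : MvPolynomial (Fin (N + 1)) R) :
    ((PP n m R).presheaf.map (homOfLE h).op).hom (ψ n m R e V i j h1 h2 c) =
      ψ n m R e V' i j (h.trans h1) (h.trans h2) c := by
  have key : ((PP n m R).presheaf.map (homOfLE h).op).hom.comp (ψ n m R e V i j h1 h2) =
      ψ n m R e V' i j (h.trans h1) (h.trans h2) := by
    apply MvPolynomial.ringHom_ext
    · intro c
      rw [RingHom.comp_apply, ψ_C, ψ_C, pb_res]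
    · intro k
      obtain ⟨⟨a, b⟩, rfl⟩ := e.surjective k
      rw [RingHom.comp_apply, ψ_X, ψ_X, map_mul, pb_res, pb_res]
  exact RingHom.congr_fun key c

theorem ψ_change (V : (PP n m R).Opens) (i i' : Fin (n + 1)) (j j' : Fin (m + 1))
    (h1 : V ≤ p1 n m R ⁻¹ᵁ D n R i) (h2 : V ≤ p2 n m R ⁻¹ᵁ D m R j)
    (h1' : V ≤ p1 n m R ⁻¹ᵁ D n R i') (h2' : V ≤ p2 n m R ⁻¹ᵁ D m R j') {d : ℕ}
    {c : MvPolynomial (Fin (N + 1)) R} (hc : c ∈ CohB1.polyGrading N R d) :
    ψ n m R e V i' j' h1' h2' c =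
      ψ n m R e V i' j' h1' h2' (X (e (i, j))) ^ d * ψ n m R e V i j h1 h2 c := by
  have key : ψ n m R e V i' j' h1' h2' =
      eval₂Hom ((pb (p1 n m R) (hX n R i) V h1).comp C)
        (fun k => (pb (p1 n m R) (hX n R i') V h1' (X i) * pb (p2 n m R) (hX m R j') V h2' (X j)) *
          (pb (p1 n m R) (hX n R i) V h1 (X (e.symm k).1) *
            pb (p2 n m R) (hX m R j) V h2 (X (e.symm k).2))) := by
    apply MvPolynomial.ringHom_ext
    · intro c
      rw [ψ_C, eval₂Hom_C, RingHom.comp_apply]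
      exact pb_algebraMap (p1 n m R) (hX n R i) (hX n R i') V h1 h1' c
    · intro k
      obtain ⟨⟨a, b⟩, rfl⟩ := e.surjective k
      rw [ψ_X, eval₂Hom_X', Equiv.symm_apply_apply,
        pb_overlap (p1 n m R) (hX n R i) (hX n R i') V h1 h1' (hX n R a),
        pb_overlap (p2 n m R) (hX m R j) (hX m R j') V h2 h2' (hX m R b)]
      ring
  have hc' : c.IsHomogeneous d := (mem_homogeneousSubmodule _ _).mp hc
  rw [ψ_X]
  conv_lhs => rw [key]
  rw [eval₂Hom_scale _ _ _ hc']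
  rfl

/-- the ring map of the chart `(i, j)` -/
noncomputable def φ (i : Fin (n + 1)) (j : Fin (m + 1)) :
    Γ(Proj (CohB1.polyGrading N R), D N R (e (i, j))) ⟶ Γ(PP n m R, W n m R i j) :=
  dehomLiftCat (hX N R (e (i, j))) (B := Γ(PP n m R, W n m R i j))
    (ψ n m R e (W n m R i j) i j (W_le1 n m R i j) (W_le2 n m R i j))
    (ψ_X_self n m R e _ i j _ _)

theorem φ_dehom (i : Fin (n + 1)) (j : Fin (m + 1)) (c : MvPolynomial (Fin (N + 1)) R) :
    (φ n m R e i j).hom (dehom (hX N R (e (i, j))) c) =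
      ψ n m R e (W n m R i j) i j (W_le1 n m R i j) (W_le2 n m R i j) c :=
  dehomLiftCat_dehom (hX N R (e (i, j))) (B := Γ(PP n m R, W n m R i j))
    (ψ n m R e (W n m R i j) i j (W_le1 n m R i j) (W_le2 n m R i j))
    (ψ_X_self n m R e _ i j _ _) c

/-- the chart morphism `W i j ⟶ D₊(z_ij) ⟶ P^N` -/
noncomputable def gch (i : Fin (n + 1)) (j : Fin (m + 1)) :
    (W n m R i j : Scheme.{u}) ⟶ Proj (CohB1.polyGrading N R) :=
  toAff (isAffineOpen_D N R (e (i, j))) (φ n m R e i j)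

theorem gch_compat (i i' : Fin (n + 1)) (j j' : Fin (m + 1)) :
    (PP n m R).homOfLE (inf_le_left : W n m R i j ⊓ W n m R i' j' ≤ W n m R i j) ≫ gch n m R e i j =
      (PP n m R).homOfLE (inf_le_right : W n m R i j ⊓ W n m R i' j' ≤ W n m R i' j') ≫
        gch n m R e i' j' := by
  unfold gch
  rw [toAff_homOfLE, toAff_homOfLE]
  have h1 : W n m R i j ⊓ W n m R i' j' ≤ p1 n m R ⁻¹ᵁ D n R i := inf_le_left.trans inf_le_left
  have h2 : W n m R i j ⊓ W n m R i' j' ≤ p2 n m R ⁻¹ᵁ D m R j := inf_le_left.trans inf_le_right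
  have h1' : W n m R i j ⊓ W n m R i' j' ≤ p1 n m R ⁻¹ᵁ D n R i' := inf_le_right.trans inf_le_left
  have h2' : W n m R i j ⊓ W n m R i' j' ≤ p2 n m R ⁻¹ᵁ D m R j' := inf_le_right.trans inf_le_right
  apply toAff_eq_toAff (hX N R (e (i, j))) (hX N R (e (i', j'))) _ _
    (ψ n m R e _ i j h1 h2 (X (e (i', j')))) (ψ n m R e _ i' j' h1' h2' (X (e (i, j))))
  · rw [ψ_X, ψ_X]
    have e1 := pb_mul_pb (p1 n m R) (hX n R i') (hX n R i) _ h1' h1
    have e2 := pb_mul_pb (p2 n m R) (hX m R j') (hX m R j) _ h2' h2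
    calc _ = (pb (p1 n m R) (hX n R i) _ h1 (X i') * pb (p1 n m R) (hX n R i') _ h1' (X i)) *
          (pb (p2 n m R) (hX m R j) _ h2 (X j') * pb (p2 n m R) (hX m R j') _ h2' (X j)) := by ring
      _ = 1 := by rw [e1, e2, one_mul]
  · change ((PP n m R).presheaf.map (homOfLE _).op).hom
      ((φ n m R e i j).hom (dehom (hX N R (e (i, j))) (X (e (i', j'))))) = _
    rw [φ_dehom, ψ_res]
  · intro d c hc
    change ((PP n m R).presheaf.map (homOfLE _).op).hom
      ((φ n m R e i' j').hom (dehom (hX N R (e (i', j'))) c)) = _ ^ d *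
      ((PP n m R).presheaf.map (homOfLE _).op).hom
        ((φ n m R e i j).hom (dehom (hX N R (e (i, j))) c))
    rw [φ_dehom, φ_dehom, ψ_res, ψ_res]
    exact ψ_change n m R e _ i i' j j' h1 h2 h1' h2' hc

theorem exists_segre : ∃ σ : PP n m R ⟶ Proj (CohB1.polyGrading N R),
    ∀ ij : Fin (n + 1) × Fin (m + 1), (W n m R ij.1 ij.2).ι ≫ σ = gch n m R e ij.1 ij.2 :=
  glue_opens (fun ij : Fin (n + 1) × Fin (m + 1) => W n m R ij.1 ij.2) (exists_mem_W n m R)
    (fun ij => gch n m R e ij.1 ij.2) (fun ij ij' => gch_compat n m R e ij.1 ij'.1 ij.2 ij'.2)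

/-- the Segre morphism -/
noncomputable def segre : PP n m R ⟶ Proj (CohB1.polyGrading N R) :=
  Classical.choose (exists_segre n m R e)

theorem segre_spec (i : Fin (n + 1)) (j : Fin (m + 1)) :
    (W n m R i j).ι ≫ segre n m R e = gch n m R e i j :=
  Classical.choose_spec (exists_segre n m R e) (i, j)

theorem segre_toBase : segre n m R e ≫ toBase (CohB1.polyGrading N R) =
    p1 n m R ≫ toBase (CohB1.polyGrading n R) := by
  apply hom_ext_opens (fun ij : Fin (n + 1) × Fin (m + 1) => W n m R ij.1 ij.2) (exists_mem_W n m R)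
  rintro ⟨i, j⟩
  change (W n m R i j).ι ≫ _ = (W n m R i j).ι ≫ _
  rw [← Category.assoc, segre_spec, ι_comp_toBase (p1 n m R) (hX n R i) (W n m R i j) (W_le1 n m R i j)]
  unfold gch
  rw [toAff_toBase]
  congr 2
  ext c
  change (φ n m R e i j).hom (dehom (hX N R (e (i, j))) (C c)) =
    pb (p1 n m R) (hX n R i) _ _ (C c)
  rw [φ_dehom, ψ_C]

theorem W_le_segre_preimage (i : Fin (n + 1)) (j : Fin (m + 1)) :
    W n m R i j ≤ segre n m R e ⁻¹ᵁ D N R (e (i, j)) :=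
  le_preimage_of_ι_comp_eq (isAffineOpen_D N R (e (i, j))) (segre n m R e)
    (φ n m R e i j) (segre_spec n m R e i j)

theorem segre_appLE (i : Fin (n + 1)) (j : Fin (m + 1)) :
    (segre n m R e).appLE (D N R (e (i, j))) (W n m R i j) (W_le_segre_preimage n m R e i j) =
      φ n m R e i j :=
  appLE_of_ι_comp_eq (isAffineOpen_D N R (e (i, j))) (segre n m R e)
    (φ n m R e i j) (segre_spec n m R e i j)

theorem segre_preimage (i : Fin (n + 1)) (j : Fin (m + 1)) :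
    segre n m R e ⁻¹ᵁ D N R (e (i, j)) = W n m R i j := by
  apply le_antisymm _ (W_le_segre_preimage n m R e i j)
  intro p hp
  obtain ⟨⟨k, l⟩, hkl⟩ := exists_mem_W n m R p
  change p ∈ W n m R k l at hkl
  have hb := basicOpen_appLE (segre n m R e) (W_le_segre_preimage n m R e k l)
    (dehom (hX N R (e (k, l))) (X (e (i, j))))
  rw [segre_appLE, basicOpen_dehom (hX N R (e (i, j))) (hX N R (e (k, l)))] at hb
  have hp' : p ∈ (PP n m R).basicOpen ((φ n m R e k l).hom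
      (dehom (hX N R (e (k, l))) (X (e (i, j))))) := by
    rw [hb]
    exact ⟨hkl, hp, W_le_segre_preimage n m R e k l hkl⟩
  rw [φ_dehom, ψ_X, Scheme.basicOpen_mul, basicOpen_pb (p1 n m R) (hX n R k) (hX n R i),
    basicOpen_pb (p2 n m R) (hX m R l) (hX m R j)] at hp'
  exact ⟨hp'.1.2, hp'.2.2⟩

end Groth.Agent.R2.H65.PnSegre
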