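import Mathlib
import Groth.Prelude.Def_CohB1
import Groth.Agent.Lib.Helper13ProjQuotIdeal
import Groth.Agent.Lib.Helper27RelProj4
import Groth.Agent.Lib.Helper27ProjGamma2
import Groth.Agent.Lib.Helper27PnChart

/-!
# Closed subschemes of `P^N_A` are `Proj` of standard graded `A`-algebras (helper65)

* `exists_proj_quot'` : helper13's `exists_proj_quot`, also recording that the graded quotient map is
  `R`-linear;
* `exists_proj_of_closedImmersion` : a closed immersion `j : X ⟶ P^N_A` identifies `X` over `Spec A`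
  with `Proj 𝒮` for a graded `A`-algebra `𝒮` with `A → 𝒮₀` surjective and irrelevant ideal generated by
  finitely many elements of degree one (the images of the coordinates).
-/

set_option autoImplicit false
set_option linter.unusedSectionVars false
set_option linter.style.haveILetI false
universe u

open CategoryTheory CategoryTheory.Limits AlgebraicGeometry TopologicalSpace Opposite
  HomogeneousLocalization

namespace Groth.Agent.R2.H65.ProjQuot

open Groth.Agent.Helper13ProjQuotIdeal Groth.Agent.Helper13GradedQuot Groth.Agent.Helper13Dehom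

section general

variable {R A : Type u} [CommRing R] [CommRing A] [Algebra R A] {𝒜 : ℕ → Submodule R A}
  [GradedAlgebra 𝒜]
variable {ι : Type u} {f : ι → A} (hf : ∀ i, f i ∈ 𝒜 1)

include hf in
/-- helper13's `exists_proj_quot`, recording also the `R`-linearity of the quotient map. -/
theorem exists_proj_quot' [Finite ι] (hcov : ⨆ i, Proj.basicOpen 𝒜 (f i) = ⊤) {Z : Scheme.{u}}
    (i : Z ⟶ Proj 𝒜) [IsClosedImmersion i] :
    ∃ (B : Type u) (_ : CommRing B) (_ : Algebra R B) (ℬ : ℕ → Submodule R B)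
      (_ : GradedAlgebra ℬ) (φ : 𝒜 →+*ᵍ ℬ) (_ : Function.Surjective φ)
      (_ : ∀ r : R, φ (algebraMap R A r) = algebraMap R B r)
      (hφ : HomogeneousIdeal.irrelevant ℬ ≤ (HomogeneousIdeal.irrelevant 𝒜).map φ)
      (e : Z ≅ Proj ℬ), e.hom ≫ Proj.map φ hφ = i := by
  letI : GradedAlgebra (qgr 𝒜 (J hf i.ker).toIdeal) :=
    gradedAlgebraQuot 𝒜 (J hf i.ker).toIdeal (J hf i.ker).isHomogeneous
  have hsurj := quotHom_surjective 𝒜 (J hf i.ker).toIdeal
  have hφ := irrelevant_le_map (quotHom 𝒜 (J hf i.ker).toIdeal) hsurj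
  haveI : IsClosedImmersion (Proj.map (quotHom 𝒜 (J hf i.ker).toIdeal) hφ) :=
    Groth.Agent.Lib.Helper27ProjClosed.isClosedImmersion_map _ hsurj hφ
  have hker : (Proj.map (quotHom 𝒜 (J hf i.ker).toIdeal) hφ).ker = i.ker := by
    refine Scheme.IdealSheafData.ext_of_iSup_eq_top (Uaff hf) hcov (fun j => ?_)
    rw [Scheme.Hom.ker_apply]
    ext x
    obtain ⟨k, a, ha, rfl⟩ := exists_dehom_eq hf j x
    rw [RingHom.mem_ker]
    refine (map_app_dehom_eq_zero_iff _ hφ (hf j) ha).trans ?_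
    refine Iff.trans ?_ (dehom_mem_iff hf i.ker j ha).symm
    simp only [quotHom_eq_zero_iff]
  haveI := IsClosedImmersion.isIso_lift (Proj.map (quotHom 𝒜 (J hf i.ker).toIdeal) hφ) i hker
  exact ⟨_, _, _, _, _, quotHom 𝒜 (J hf i.ker).toIdeal, hsurj, fun _ => rfl, hφ,
    asIso (IsClosedImmersion.lift (Proj.map (quotHom 𝒜 (J hf i.ker).toIdeal) hφ) i hker.le),
    IsClosedImmersion.lift_fac _ _ _⟩

end general

section Pn

variable (A : Type u) [CommRing A] (N : ℕ)

local notation "𝒢" => CohB1.polyGrading N A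

theorem X_mem_one (i : Fin (N + 1)) :
    (MvPolynomial.X i : MvPolynomial (Fin (N + 1)) A) ∈ 𝒢 1 :=
  (MvPolynomial.mem_homogeneousSubmodule _ _).mpr (MvPolynomial.isHomogeneous_X A i)

theorem exists_algebraMap_eq_of_mem_zero {x : MvPolynomial (Fin (N + 1)) A} (hx : x ∈ 𝒢 0) :
    ∃ a : A, algebraMap A (MvPolynomial (Fin (N + 1)) A) a = x := by
  have h1 : x ∈ MvPolynomial.homogeneousSubmodule (Fin (N + 1)) A 0 := hx
  rw [MvPolynomial.homogeneousSubmodule_zero] at h1
  exact Submodule.mem_one.1 h1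

/-- a closed subscheme of `P^N_A` is `Proj` of a standard graded `A`-algebra, over `Spec A`. -/
theorem exists_proj_of_closedImmersion {X : Scheme.{u}} (j : X ⟶ CohB1.ProjSpace N A)
    [IsClosedImmersion j] :
    ∃ (S : Type u) (_ : CommRing S) (_ : Algebra A S) (𝒮 : ℕ → Submodule A S)
      (_ : GradedAlgebra 𝒮) (s : Finset S),
      Function.Surjective (algebraMap A (𝒮 0)) ∧ (∀ g ∈ s, g ∈ 𝒮 1) ∧
      (HomogeneousIdeal.irrelevant 𝒮).toIdeal = Ideal.span (s : Set S) ∧
      ∃ e : X ≅ Proj 𝒮, e.hom ≫ Proj.toSpecZero 𝒮 ≫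
        Spec.map (CommRingCat.ofHom (algebraMap A (𝒮 0))) = j ≫ CohB1.ProjSpace.toSpec N A := by
  classical
  let ι' : X ⟶ Proj 𝒢 := j
  haveI : IsClosedImmersion ι' := ‹IsClosedImmersion j›
  let fX : ULift.{u} (Fin (N + 1)) → MvPolynomial (Fin (N + 1)) A := fun i => MvPolynomial.X i.down
  have hfX : ∀ i, fX i ∈ 𝒢 1 := fun i => X_mem_one A N i.down
  have hcov : ⨆ i, Proj.basicOpen 𝒢 (fX i) = ⊤ := by
    rw [eq_top_iff, ← Groth.Agent.Lib.Helper27PnChart.iSup_basicOpen_X N A]
    refine iSup_le (fun i => ?_)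
    exact le_iSup (fun i' : ULift.{u} (Fin (N + 1)) => Proj.basicOpen 𝒢 (fX i')) ⟨i⟩
  obtain ⟨B, _, _, ℬ, _, φ, hsurj, hlin, hφ, e, he⟩ := exists_proj_quot' hfX hcov ι'
  refine ⟨B, inferInstance, inferInstance, ℬ, inferInstance,
    Finset.univ.image (fun i : Fin (N + 1) => φ (MvPolynomial.X i)), ?_, ?_, ?_, e, ?_⟩
  · -- surjectivity in degree zero
    intro y
    obtain ⟨x, hx, hxy⟩ := Groth.Agent.Lib.Helper27RelProj4.exists_mem_of_surjective φ hsurj y.2
    obtain ⟨a, rfl⟩ := exists_algebraMap_eq_of_mem_zero A N hx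
    refine ⟨a, Subtype.ext ?_⟩
    rw [← hxy, hlin a]
    rfl
  · intro g hg
    obtain ⟨i, -, rfl⟩ := Finset.mem_image.1 hg
    exact φ.map_mem (X_mem_one A N i)
  · apply le_antisymm
    · have h1 : (HomogeneousIdeal.irrelevant ℬ).toIdeal ≤
          ((HomogeneousIdeal.irrelevant 𝒢).map φ).toIdeal := hφ
      rw [HomogeneousIdeal.toIdeal_map] at h1
      refine h1.trans ?_
      refine (Ideal.map_mono (Groth.Agent.Lib.Helper27ProjGamma.irrelevant_le N A)).trans ?_
      rw [Ideal.map_span, Ideal.span_le]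
      rintro _ ⟨_, ⟨i, rfl⟩, rfl⟩
      apply Ideal.subset_span
      simp only [Finset.coe_image, Finset.coe_univ, Set.image_univ, Set.mem_range]
      exact ⟨i, rfl⟩
    · rw [Ideal.span_le]
      intro g hg
      obtain ⟨i, -, rfl⟩ := Finset.mem_image.1 (Finset.mem_coe.1 hg)
      exact HomogeneousIdeal.mem_irrelevant_of_mem _ (i := 1) Nat.one_pos
        (φ.map_mem (X_mem_one A N i))
  · have hz := Groth.Agent.Lib.Helper27RelProj4.map_toSpecZero φ hφ
      (algebraMap A (𝒢 0)) (algebraMap A (ℬ 0)) (fun r => hlin r)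
    have hj : ι' = e.hom ≫ Proj.map φ hφ := he.symm
    change e.hom ≫ _ = ι' ≫ (Proj.toSpecZero 𝒢 ≫
      Spec.map (CommRingCat.ofHom (algebraMap A (𝒢 0))))
    rw [hj, Category.assoc, hz]

end Pn

end Groth.Agent.R2.H65.ProjQuot
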