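import Groth.Prelude.Def_RootCh2
import Mathlib.LinearAlgebra.RootSystem.BaseExists
import Mathlib.LinearAlgebra.RootSystem.WeylGroup

/-!
# Weyl chambers and facets of a finite root system: basic coefficient calculus

Helper library of helper65 for the `RootCh` block.  Everything lives in
`Groth.Agent.R2.H65.WeylCh`.
-/

set_option autoImplicit false
set_option linter.unusedSectionVars false

noncomputable section

namespace Groth.Agent.R2.H65.WeylCh

open RootCh RootPairing Module

universe u v w x

variable {ι : Type u} {R : Type v} {M : Type w} {N : Type x}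

section Len

variable [Field R] [LinearOrder R] [IsStrictOrderedRing R]
  [AddCommGroup M] [Module R M] [AddCommGroup N] [Module R N] [Fintype ι]
  (P : RootPairing ι R M N)

/-- Squared length of the root `i` for the canonical invariant form. -/
def len (i : ι) : R := P.RootForm (P.root i) (P.root i)

lemma len_pos (i : ι) : 0 < len P i := by
  unfold len
  rw [P.rootForm_root_self]
  have h4 : (0 : R) < P.pairing i i * P.pairing i i := by
    rw [P.pairing_same]; norm_num
  refine lt_of_lt_of_le h4 ?_
  exact Finset.single_le_sum (f := fun j => P.pairing i j * P.pairing i j)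
    (fun j _ => mul_self_nonneg _) (Finset.mem_univ i)

lemma coroot_eq_smul_polarization (i : ι) :
    P.coroot i = (2 / len P i) • P.Polarization (P.root i) := by
  have h := P.rootForm_self_smul_coroot i
  have hl := (len_pos P i).ne'
  have h2 : (2 : R) • P.Polarization (P.root i) = len P i • P.coroot i := by
    rw [len, h, two_smul, two_smul]
  rw [div_eq_mul_inv, mul_comm, mul_smul, h2, smul_smul, inv_mul_cancel₀ hl, one_smul]

lemma polarization_root (i : ι) :
    P.Polarization (P.root i) = (len P i / 2) • P.coroot i := by
  rw [coroot_eq_smul_polarization P i, smul_smul]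
  have hl := (len_pos P i).ne'
  field_simp
  simp

end Len

section Coeff

variable [Field R] [LinearOrder R] [IsStrictOrderedRing R]
  [AddCommGroup M] [Module R M] [AddCommGroup N] [Module R N] [Finite ι]
  {P : RootPairing ι R M N} [P.IsRootSystem]

/-- The coefficient of the simple root `j` of the base `b` in the root `i`. -/
def rc (b : P.Base) (i : ι) (j : b.support) : R := P.root' i (fundCoweight b j)

/-- The coefficient of the simple coroot `j` of the base `b` in the coroot `i`. -/
def cc (b : P.Base) (i : ι) (j : b.support) : R := P.coroot' i (fundWeight b j)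

lemma toPerfPair_fundWeight (b : P.Base) (j : b.support) :
    P.toLinearMap (fundWeight b j) = b.toCoweightBasis.coord j :=
  P.toLinearMap.apply_symm_toPerfPair_self _

/-- Every weight is the combination of the fundamental weights with coefficients its pairings
with the simple coroots. -/
lemma weight_eq_sum (b : P.Base) (ξ : M) :
    ξ = ∑ j : b.support, P.coroot' j ξ • fundWeight b j := by
  classical
  apply P.toPerfPair.injective
  refine b.toCoweightBasis.ext fun k => ?_
  rw [map_sum, LinearMap.sum_apply]
  have h1 : ∀ j : b.support, (P.toPerfPair (P.coroot' j ξ • fundWeight b j)) (b.toCoweightBasis k)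
      = if k = j then P.coroot' k ξ else 0 := by
    intro j
    have : P.toPerfPair (fundWeight b j) = b.toCoweightBasis.coord j := toPerfPair_fundWeight b j
    rw [map_smul, LinearMap.smul_apply, this, Basis.coord_apply, Basis.repr_self,
      Finsupp.single_apply]
    split_ifs with h
    · subst h; simp
    · simp
  rw [Finset.sum_congr rfl fun j _ => h1 j, Finset.sum_ite_eq Finset.univ k]
  simp only [Finset.mem_univ, if_true]
  change P.toLinearMap ξ (b.toCoweightBasis k) = P.toLinearMap ξ (P.coroot k)
  rw [b.toCoweightBasis_apply]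

/-- Every coweight is the combination of the fundamental coweights with coefficients its pairings
with the simple roots. -/
lemma coweight_eq_sum (b : P.Base) (x : N) :
    x = ∑ j : b.support, P.root' j x • fundCoweight b j :=
  weight_eq_sum (P := P.flip) b.flip x

lemma root'_fundCoweight (b : P.Base) (j k : b.support) [Decidable (j = k)] :
    P.root' j (fundCoweight b k) = if j = k then 1 else 0 := by
  split_ifs with h
  · subst h; exact root'_fundCoweight_self b j
  · exact root'_fundCoweight_of_ne b k j h

lemma coroot'_fundWeight (b : P.Base) (j k : b.support) [Decidable (j = k)] :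
    P.coroot' j (fundWeight b k) = if j = k then 1 else 0 := by
  split_ifs with h
  · subst h; exact coroot'_fundWeight_self b j
  · exact coroot'_fundWeight_of_ne b k j h

/-- If a root is an integral combination of the simple roots, the coefficients are the `rc`. -/
lemma rc_eq_of_root_eq_sum (b : P.Base) (i : ι) (f : ι → ℤ)
    (h : P.root i = ∑ j ∈ b.support, f j • P.root j) (k : b.support) :
    rc b i k = f k := by
  classical
  unfold rc
  change P.toLinearMap (P.root i) (fundCoweight b k) = _
  rw [h, map_sum, LinearMap.sum_apply, ← Finset.sum_coe_sort b.support]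
  have h1 : ∀ j : b.support, (P.toLinearMap (f j • P.root j)) (fundCoweight b k) =
      if j = k then (f k : R) else 0 := by
    intro j
    rw [map_zsmul, LinearMap.smul_apply]
    have := root'_fundCoweight b j k
    change P.toLinearMap (P.root j) (fundCoweight b k) = _ at this
    rw [this]
    split_ifs with hjk
    · subst hjk; simp
    · simp
  rw [Finset.sum_congr rfl fun j _ => h1 j, Finset.sum_ite_eq' Finset.univ k]
  simp

lemma root_eq_sum_rc (b : P.Base) (i : ι) :
    P.root i = ∑ j : b.support, rc b i j • P.root j := by
  obtain ⟨f, -, -, hf⟩ := b.exists_root_eq_sum_int i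
  conv_lhs => rw [hf]
  rw [← Finset.sum_coe_sort b.support]
  refine Finset.sum_congr rfl fun j _ => ?_
  rw [rc_eq_of_root_eq_sum b i f hf j, Int.cast_smul_eq_zsmul]

lemma rc_int (b : P.Base) (i : ι) (j : b.support) : ∃ z : ℤ, rc b i j = z := by
  obtain ⟨f, -, -, hf⟩ := b.exists_root_eq_sum_int i
  exact ⟨f j, rc_eq_of_root_eq_sum b i f hf j⟩

lemma rc_nonneg_of_isPos (b : P.Base) {i : ι} (hi : b.IsPos i) (j : b.support) :
    0 ≤ rc b i j := by
  obtain ⟨f, hf0, hf1, hf⟩ := b.exists_root_eq_sum_int i
  rw [rc_eq_of_root_eq_sum b i f hf j]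
  rcases hf1 with h | h
  · exact_mod_cast h.le j
  · exfalso
    rw [RootPairing.Base.isPos_iff, RootPairing.Base.height_eq_sum hf] at hi
    have : ∑ j ∈ b.support, f j ≤ 0 := Finset.sum_nonpos fun j _ => h.le j
    omega

lemma rc_nonpos_of_not_isPos (b : P.Base) {i : ι} (hi : ¬ b.IsPos i) (j : b.support) :
    rc b i j ≤ 0 := by
  obtain ⟨f, hf0, hf1, hf⟩ := b.exists_root_eq_sum_int i
  rw [rc_eq_of_root_eq_sum b i f hf j]
  rcases hf1 with h | h
  · exfalso
    apply hi
    rw [RootPairing.Base.isPos_iff', RootPairing.Base.height_eq_sum hf]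
    exact Finset.sum_nonneg fun j _ => h.le j
  · exact_mod_cast h.le j

/-- Squared root length, for `[Finite ι]`. -/
def rlen (P : RootPairing ι R M N) (i : ι) : R :=
  letI := Fintype.ofFinite ι
  len P i

lemma rlen_pos (i : ι) : 0 < rlen P i := by
  let _ := Fintype.ofFinite ι
  exact len_pos P i

lemma coroot_eq_sum_rc (b : P.Base) (i : ι) :
    P.coroot i = ∑ j : b.support, (rc b i j * rlen P j / rlen P i) • P.coroot j := by
  let _ := Fintype.ofFinite ι
  have hi := (rlen_pos (P := P) i).ne'
  change len P i ≠ 0 at hi
  rw [coroot_eq_smul_polarization P i]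
  conv_lhs => rw [root_eq_sum_rc b i]
  rw [map_sum, Finset.smul_sum]
  refine Finset.sum_congr rfl fun j _ => ?_
  rw [map_smul, polarization_root, smul_smul, smul_smul]
  congr 1
  change _ = rc b i j * len P j / len P i
  field_simp

lemma cc_eq (b : P.Base) (i : ι) (j : b.support) :
    cc b i j = rc b i j * rlen P j / rlen P i := by
  classical
  unfold cc
  change P.toLinearMap (fundWeight b j) (P.coroot i) = _
  rw [coroot_eq_sum_rc b i, map_sum]
  have h1 : ∀ k : b.support, P.toLinearMap (fundWeight b j)
      ((rc b i k * rlen P k / rlen P i) • P.coroot k) =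
      if k = j then rc b i j * rlen P j / rlen P i else 0 := by
    intro k
    rw [map_smul]
    have := coroot'_fundWeight b k j
    change P.toLinearMap (fundWeight b j) (P.coroot k) = _ at this
    rw [this]
    split_ifs with hjk
    · subst hjk; simp
    · simp
  rw [Finset.sum_congr rfl fun j _ => h1 j, Finset.sum_ite_eq' Finset.univ j]
  simp

lemma coroot_eq_sum_cc (b : P.Base) (i : ι) :
    P.coroot i = ∑ j : b.support, cc b i j • P.coroot j := by
  rw [coroot_eq_sum_rc b i]
  exact Finset.sum_congr rfl fun j _ => by rw [cc_eq]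

lemma cc_nonneg_of_isPos (b : P.Base) {i : ι} (hi : b.IsPos i) (j : b.support) :
    0 ≤ cc b i j := by
  rw [cc_eq]
  exact div_nonneg (mul_nonneg (rc_nonneg_of_isPos b hi j) (rlen_pos (P := P) (j : ι)).le) (rlen_pos (P := P) i).le

lemma cc_nonpos_of_not_isPos (b : P.Base) {i : ι} (hi : ¬ b.IsPos i) (j : b.support) :
    cc b i j ≤ 0 := by
  rw [cc_eq]
  exact div_nonpos_of_nonpos_of_nonneg
    (mul_nonpos_of_nonpos_of_nonneg (rc_nonpos_of_not_isPos b hi j) (rlen_pos (P := P) (j : ι)).le) (rlen_pos (P := P) i).le

lemma cc_eq_zero_iff (b : P.Base) (i : ι) (j : b.support) : cc b i j = 0 ↔ rc b i j = 0 := by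
  rw [cc_eq]
  have h1 := (rlen_pos (P := P) j).ne'
  have h2 := (rlen_pos (P := P) i).ne'
  constructor
  · intro h
    rcases div_eq_zero_iff.mp h with h | h
    · rcases mul_eq_zero.mp h with h | h
      · exact h
      · exact absurd h h1
    · exact absurd h h2
  · intro h; rw [h]; simp

/-- The pairing of a weight with a coroot, through the simple coroots. -/
lemma coroot'_eq_sum (b : P.Base) (i : ι) (ξ : M) :
    P.coroot' i ξ = ∑ j : b.support, cc b i j * P.coroot' j ξ := by
  change P.toLinearMap ξ (P.coroot i) = _
  rw [coroot_eq_sum_cc b i, map_sum]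
  refine Finset.sum_congr rfl fun j _ => ?_
  rw [map_smul]; rfl

/-- The pairing of a root with a coweight, through the simple roots. -/
lemma root'_eq_sum (b : P.Base) (i : ι) (x : N) :
    P.root' i x = ∑ j : b.support, rc b i j * P.root' j x := by
  change P.toLinearMap (P.root i) x = _
  rw [root_eq_sum_rc b i, map_sum, LinearMap.sum_apply]
  refine Finset.sum_congr rfl fun j _ => ?_
  rw [map_smul]; rfl

end Coeff

section Refl

variable [Field R] [LinearOrder R] [IsStrictOrderedRing R]
  [AddCommGroup M] [Module R M] [AddCommGroup N] [Module R N] [Finite ι]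
  {P : RootPairing ι R M N} [P.IsRootSystem] [P.IsCrystallographic] [P.IsReduced]

lemma image_root_reflectionPerm (j : ι) (s : Set ι) :
    P.root '' (P.reflectionPerm j '' s) = P.reflection j '' (P.root '' s) := by
  rw [Set.image_image, Set.image_image]
  exact Set.image_congr fun k _ => P.root_reflectionPerm j k

lemma reflection_mem_closure (j : ι) (s : Set ι) {x : M}
    (hx : x ∈ AddSubmonoid.closure (P.root '' s)) :
    P.reflection j x ∈ AddSubmonoid.closure (P.root '' (P.reflectionPerm j '' s)) := by
  rw [image_root_reflectionPerm]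
  have := AddSubmonoid.mem_map_of_mem
    ((P.reflection j : M ≃ₗ[R] M).toLinearMap.toAddMonoidHom) hx
  rw [AddMonoidHom.map_mclosure] at this
  exact this

/-- The base obtained by reflecting the base `b` in the root `j`. -/
def reflBase (b : P.Base) (j : ι) : P.Base :=
  RootPairing.Base.mk' P (P.reflectionPerm j '' (b.support : Set ι))
    (by
      apply LinearIndepOn.image_of_comp
      have : P.root ∘ P.reflectionPerm j = P.reflection j ∘ P.root := by
        ext k; simp [P.root_reflectionPerm]
      rw [this]
      exact b.linearIndepOn_root.map_injOn _ (P.reflection j).injective.injOn)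
    (by
      intro i
      have hi : P.reflection j (P.root (P.reflectionPerm j i)) = P.root i := by
        rw [← P.root_reflectionPerm, P.reflectionPerm_self]
      rcases b.root_mem_or_neg_mem (P.reflectionPerm j i) with h | h
      · left
        rw [← hi]
        exact reflection_mem_closure j _ h
      · right
        rw [← hi, ← map_neg]
        exact reflection_mem_closure j _ h)

lemma reflBase_support (b : P.Base) (j : ι) :
    ((reflBase b j).support : Set ι) = P.reflectionPerm j '' (b.support : Set ι) := by
  simp [reflBase, RootPairing.Base.mk']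

lemma mem_reflBase_support (b : P.Base) (j k : ι) :
    k ∈ (reflBase b j).support ↔ P.reflectionPerm j k ∈ b.support := by
  have := reflBase_support b j
  rw [← Finset.mem_coe, this]
  constructor
  · rintro ⟨l, hl, rfl⟩
    rw [P.reflectionPerm_self]; exact hl
  · intro h
    exact ⟨_, h, P.reflectionPerm_self j k⟩

/-- The index of the opposite root. -/
abbrev ineg (P : RootPairing ι R M N) (i : ι) : ι := P.reflectionPerm i i

omit [LinearOrder R] [IsStrictOrderedRing R] [Finite ι] [P.IsRootSystem] [P.IsCrystallographic]
  [P.IsReduced] in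
lemma root_ineg (i : ι) : P.root (ineg P i) = - P.root i := by
  rw [P.root_reflectionPerm, P.reflection_apply_self]

omit [LinearOrder R] [IsStrictOrderedRing R] [Finite ι] [P.IsRootSystem] [P.IsCrystallographic]
  [P.IsReduced] in
lemma coroot_ineg (i : ι) : P.coroot (ineg P i) = - P.coroot i := by
  rw [P.coroot_reflectionPerm, P.coreflection_apply_self]

omit [LinearOrder R] [IsStrictOrderedRing R] [Finite ι] [P.IsRootSystem] [P.IsCrystallographic]
  [P.IsReduced] in
lemma ineg_ineg (i : ι) : ineg P (ineg P i) = i := by
  apply P.root.injective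
  rw [root_ineg, root_ineg, neg_neg]

lemma isPos_ineg_iff (b : P.Base) (i : ι) : b.IsPos (ineg P i) ↔ ¬ b.IsPos i :=
  RootPairing.Base.IsPos.neg_iff_not b i

lemma rc_ineg (b : P.Base) (i : ι) (j : b.support) : rc b (ineg P i) j = - rc b i j := by
  unfold rc
  change P.toLinearMap (P.root (ineg P i)) _ = - P.toLinearMap (P.root i) _
  rw [root_ineg, map_neg, LinearMap.neg_apply]

lemma isPos_iff_rc_nonneg (b : P.Base) (i : ι) : b.IsPos i ↔ ∀ j, 0 ≤ rc b i j := by
  refine ⟨fun h j => rc_nonneg_of_isPos b h j, fun h => ?_⟩
  by_contra hn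
  have h0 : ∀ j, rc b i j = 0 := fun j => le_antisymm (rc_nonpos_of_not_isPos b hn j) (h j)
  apply P.ne_zero i
  rw [root_eq_sum_rc b i]
  exact Finset.sum_eq_zero fun j _ => by rw [h0 j, zero_smul]

lemma rc_nonneg_of_mem_closure (b : P.Base) {x : M}
    (hx : x ∈ AddSubmonoid.closure (P.root '' (b.support : Set ι))) (k : b.support) :
    0 ≤ P.toLinearMap x (fundCoweight b k) := by
  classical
  induction hx using AddSubmonoid.closure_induction with
  | mem x hx =>
    obtain ⟨j, hj, rfl⟩ := hx
    have := root'_fundCoweight b ⟨j, hj⟩ k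
    change P.toLinearMap (P.root j) (fundCoweight b k) = _ at this
    rw [this]; split_ifs <;> simp
  | zero => simp
  | add x y _ _ hx hy => rw [map_add, LinearMap.add_apply]; exact add_nonneg hx hy

lemma isPos_iff_mem_closure (b : P.Base) (i : ι) :
    b.IsPos i ↔ P.root i ∈ AddSubmonoid.closure (P.root '' (b.support : Set ι)) := by
  constructor
  · intro h
    rcases b.root_mem_or_neg_mem i with h1 | h1
    · exact h1
    · exfalso
      have h0 : ∀ j, rc b i j = 0 := fun j => by
        refine le_antisymm ?_ (rc_nonneg_of_isPos b h j)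
        have := rc_nonneg_of_mem_closure b h1 j
        rw [map_neg, LinearMap.neg_apply] at this
        exact neg_nonneg.mp this
      apply P.ne_zero i
      rw [root_eq_sum_rc b i]
      exact Finset.sum_eq_zero fun j _ => by rw [h0 j, zero_smul]
  · intro h
    rw [isPos_iff_rc_nonneg]
    exact fun j => rc_nonneg_of_mem_closure b h j

lemma reflBase_isPos_iff (b : P.Base) (j i : ι) :
    (reflBase b j).IsPos i ↔ b.IsPos (P.reflectionPerm j i) := by
  rw [isPos_iff_mem_closure, isPos_iff_mem_closure, reflBase_support]
  constructor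
  · intro h
    have := reflection_mem_closure j _ h
    have hc : P.reflectionPerm j '' (P.reflectionPerm j '' (b.support : Set ι)) = b.support := by
      rw [Set.image_image]
      simp [P.reflectionPerm_self]
    rw [hc, ← P.root_reflectionPerm] at this
    exact this
  · intro h
    have := reflection_mem_closure j _ h
    rw [← P.root_reflectionPerm, P.reflectionPerm_self] at this
    exact this

omit [LinearOrder R] [IsStrictOrderedRing R] [Finite ι] [P.IsRootSystem] [P.IsCrystallographic]
  [P.IsReduced] in
lemma reflectionPerm_ineg (j i : ι) :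
    P.reflectionPerm j (ineg P i) = ineg P (P.reflectionPerm j i) := by
  apply P.root.injective
  rw [P.root_reflectionPerm, root_ineg, root_ineg, P.root_reflectionPerm, map_neg]

/-- A simple reflection permutes the positive roots other than the simple root itself. -/
lemma isPos_reflectionPerm_iff (b : P.Base) {j : ι} (hj : j ∈ b.support) (i : ι) :
    b.IsPos (P.reflectionPerm j i) ↔ (b.IsPos i ∧ i ≠ j) ∨ i = ineg P j := by
  constructor
  · intro h
    by_cases hi : b.IsPos i
    · left
      refine ⟨hi, ?_⟩
      rintro rfl
      exact (isPos_ineg_iff b i).mp h hi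
    · right
      have hi' : b.IsPos (ineg P i) := (isPos_ineg_iff b i).mpr hi
      by_contra hne
      have hne' : ineg P i ≠ j := by
        intro h'
        apply hne
        rw [← h', ineg_ineg]
      have := RootPairing.Base.IsPos.reflectionPerm hi' hj hne'
      rw [reflectionPerm_ineg, isPos_ineg_iff] at this
      exact this h
  · rintro (⟨hi, hne⟩ | rfl)
    · exact RootPairing.Base.IsPos.reflectionPerm hi hj hne
    · rw [reflectionPerm_ineg]
      change b.IsPos (ineg P (ineg P j))
      rw [ineg_ineg]
      exact RootPairing.Base.isPos_of_mem_support hj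

end Refl

section Chamber

variable [Field R] [LinearOrder R] [IsStrictOrderedRing R]
  [AddCommGroup M] [Module R M] [AddCommGroup N] [Module R N] [Finite ι]
  {P : RootPairing ι R M N} [P.IsRootSystem] [P.IsCrystallographic] [P.IsReduced]

omit [P.IsCrystallographic] [P.IsReduced] in
lemma coroot'_nonneg_of_mem_closedChamber (b : P.Base) {ξ : M} (hξ : ξ ∈ closedChamber b)
    {i : ι} (hi : b.IsPos i) : 0 ≤ P.coroot' i ξ := by
  rw [coroot'_eq_sum b i ξ]
  exact Finset.sum_nonneg fun j _ => mul_nonneg (cc_nonneg_of_isPos b hi j) (hξ j j.2)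

omit [P.IsCrystallographic] [P.IsReduced] in
lemma coroot'_eq_zero_iff_of_mem_closedChamber (b : P.Base) {ξ : M} (hξ : ξ ∈ closedChamber b)
    {i : ι} (hi : b.IsPos i) :
    P.coroot' i ξ = 0 ↔ ∀ j : b.support, rc b i j ≠ 0 → P.coroot' j ξ = 0 := by
  rw [coroot'_eq_sum b i ξ, Finset.sum_eq_zero_iff_of_nonneg
    (fun j _ => mul_nonneg (cc_nonneg_of_isPos b hi j) (hξ j j.2))]
  constructor
  · intro h j hj
    have := h j (Finset.mem_univ j)
    rcases mul_eq_zero.mp this with h1 | h1
    · exact absurd ((cc_eq_zero_iff b i j).mp h1) hj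
    · exact h1
  · intro h j _
    by_cases hj : rc b i j = 0
    · rw [(cc_eq_zero_iff b i j).mpr hj, zero_mul]
    · rw [h j hj, mul_zero]

omit [LinearOrder R] [IsStrictOrderedRing R] [Finite ι] [P.IsRootSystem] [P.IsCrystallographic]
  [P.IsReduced] in
lemma coroot'_ineg (i : ι) (ξ : M) : P.coroot' (ineg P i) ξ = - P.coroot' i ξ := by
  change P.toLinearMap ξ (P.coroot (ineg P i)) = - P.toLinearMap ξ (P.coroot i)
  rw [coroot_ineg, map_neg]

omit [LinearOrder R] [IsStrictOrderedRing R] [Finite ι] [P.IsRootSystem] [P.IsCrystallographic]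
  [P.IsReduced] in
lemma root'_ineg (i : ι) (x : N) : P.root' (ineg P i) x = - P.root' i x := by
  change P.toLinearMap (P.root (ineg P i)) x = - P.toLinearMap (P.root i) x
  rw [root_ineg, map_neg, LinearMap.neg_apply]

/-- Every vector lies in the closed Weyl chamber of some base. -/
theorem exists_mem_closedChamber (ξ : M) : ∃ b : P.Base, ξ ∈ closedChamber b := by
  classical
  have key : ∀ n : ℕ, ∀ b : P.Base, {i | b.IsPos i ∧ P.coroot' i ξ < 0}.ncard ≤ n →
      ∃ b' : P.Base, ξ ∈ closedChamber b' := by
    intro n
    induction n with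
    | zero =>
      intro b hb
      refine ⟨b, fun j hj => ?_⟩
      by_contra hneg
      have hmem : j ∈ {i | b.IsPos i ∧ P.coroot' i ξ < 0} :=
        ⟨RootPairing.Base.isPos_of_mem_support hj, not_le.mp hneg⟩
      have : {i | b.IsPos i ∧ P.coroot' i ξ < 0} = ∅ := by
        rw [← Set.ncard_eq_zero (Set.toFinite _)]; omega
      rw [this] at hmem
      exact hmem
    | succ n ih =>
      intro b hb
      by_cases hall : ∀ j ∈ b.support, 0 ≤ P.coroot' j ξ
      · exact ⟨b, hall⟩
      · push Not at hall
        obtain ⟨j, hj, hjneg⟩ := hall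
        apply ih (reflBase b j)
        have hsub : {i | (reflBase b j).IsPos i ∧ P.coroot' i ξ < 0} ⊆
            {i | b.IsPos i ∧ P.coroot' i ξ < 0} \ {j} := by
          rintro i ⟨hi, hi'⟩
          rw [reflBase_isPos_iff, isPos_reflectionPerm_iff b hj] at hi
          rcases hi with ⟨hi, hne⟩ | rfl
          · exact ⟨⟨hi, hi'⟩, hne⟩
          · exfalso
            rw [coroot'_ineg] at hi'
            linarith
        have hjmem : j ∈ {i | b.IsPos i ∧ P.coroot' i ξ < 0} :=
          ⟨RootPairing.Base.isPos_of_mem_support hj, hjneg⟩
        have h1 := Set.ncard_le_ncard hsub (Set.toFinite _)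
        have h2 := Set.ncard_sdiff_singleton_add_one hjmem (Set.toFinite _)
        omega
  obtain ⟨b⟩ := P.nonempty_base
  exact key _ b le_rfl

end Chamber

end Groth.Agent.R2.H65.WeylCh
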