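import Groth.Agent.R2.H65RootChParab

/-!
# Complementary convex solids: special facets through numerical invariants, the point `y(F)`
-/

set_option autoImplicit false
set_option linter.unusedSectionVars false

noncomputable section

namespace Groth.Agent.R2.H65.WeylCh

open RootCh RootPairing Module

universe u v w x

variable {ι : Type u} {R : Type v} {M : Type w} {N : Type x}

variable [Field R] [LinearOrder R] [IsStrictOrderedRing R]
  [AddCommGroup M] [Module R M] [AddCommGroup N] [Module R N] [Finite ι]
  {P : RootPairing ι R M N} [P.IsRootSystem] [P.IsCrystallographic] [P.IsReduced]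

section DualCarrier

variable {F : Facet P} {b : P.Base}

lemma mem_dualCarrier_iff (hb : b ∈ F.cham) (x : N) :
    x ∈ F.dualCarrier ↔ ∀ j : b.support, (F.sgn j = 0 → P.root' j x = 0) ∧
      (F.sgn j = 1 → 0 < P.root' j x) :=
  mem_carrier_iff' (P := P.flip) (flip_mem_cham_dualFacet hb) x

lemma span_dualCarrier_eq (F : Facet P) :
    Submodule.span R F.dualCarrier = Submodule.span R F.dualCorners :=
  span_carrier_eq_span_corners (P := P.flip) (dualFacet F)

lemma mem_span_dualCarrier_iff (hb : b ∈ F.cham) (x : N) :
    x ∈ Submodule.span R F.dualCarrier ↔ ∀ j : b.support, F.sgn j = 0 → P.root' j x = 0 := by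
  classical
  rw [span_dualCarrier_eq, dualCorners_eq hb]
  constructor
  · intro hx j hj
    induction hx using Submodule.span_induction with
    | mem y hy =>
      obtain ⟨k, hk, rfl⟩ := hy
      rw [root'_fundCoweight b j k, if_neg]
      rintro rfl
      change F.sgn j = 1 at hk
      rw [hj] at hk; exact absurd hk (by decide)
    | zero => simp
    | add y z _ _ hy hz => rw [map_add, hy, hz, add_zero]
    | smul a y _ hy => rw [map_smul, hy, smul_zero]
  · intro h
    rw [coweight_eq_sum b x]
    refine Submodule.sum_mem _ fun j _ => ?_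
    rcases sgn_simple hb j with h0 | h1
    · rw [h j h0, zero_smul]; exact Submodule.zero_mem _
    · exact Submodule.smul_mem _ _ (Submodule.subset_span ⟨j, h1, rfl⟩)

lemma dualCarrier_subset_span (F : Facet P) :
    F.dualCarrier ⊆ (Submodule.span R F.dualCarrier : Set N) := Submodule.subset_span

end DualCarrier

section SolidPairing

variable {d : P.Base → N}

/-- Vectors in the span of the corners of a facet are constant on its dual solid. -/
lemma toLinearMap_eq_of_mem_dualSolid (hd : IsCCS d) (F : Facet P) {b : P.Base}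
    (hb : b ∈ F.cham) {v : M} (hv : v ∈ Submodule.span R F.corners) {y : N}
    (hy : y ∈ dualSolid d F) : P.toLinearMap v y = P.toLinearMap v (d b) := by
  have hconv : Convex R {y : N | P.toLinearMap v y = P.toLinearMap v (d b)} :=
    convex_hyperplane (P.toLinearMap v).isLinear _
  refine convexHull_min ?_ hconv hy
  rintro _ ⟨b', hb', rfl⟩
  exact toLinearMap_eq_of_mem_span_corners hd F hb' hb hv

lemma dualSolid_subset_solid (d : P.Base → N) (F : Facet P) : dualSolid d F ⊆ solid d :=
  convexHull_mono (Set.image_subset_range _ _)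

lemma d_mem_dualSolid (d : P.Base → N) (F : Facet P) {b : P.Base} (hb : b ∈ F.cham) :
    d b ∈ dualSolid d F := subset_convexHull R _ ⟨b, hb, rfl⟩

end SolidPairing

section NumInv

variable {d : P.Base → N} {F : Facet P} {b : P.Base}

/-- The pairing of the sum of an elementary set of roots with a vector of the span of the dual
facet. -/
lemma toLinearMap_sum_Psi (hb : b ∈ F.cham) (k : b.support) (hk : F.sgn k = 1) {z : N}
    (hz : z ∈ Submodule.span R F.dualCarrier) :
    P.toLinearMap (∑ i ∈ (Set.toFinite (F.Psi (fundWeight b k))).toFinset, P.root i) z =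
      ((Set.toFinite (F.Psi (fundWeight b k))).toFinset.card : R) * P.root' k z := by
  classical
  rw [map_sum, LinearMap.sum_apply, Finset.card_eq_sum_ones, Nat.cast_sum, Finset.sum_mul]
  refine Finset.sum_congr rfl fun i hi => ?_
  rw [Set.Finite.mem_toFinset, mem_Psi_iff hb] at hi
  change P.root' i z = _
  rw [root'_eq_sum b i z, Finset.sum_eq_single k]
  · rw [hi.1]; simp
  · intro l _ hlk
    rcases sgn_simple hb l with h0 | h1
    · rw [(mem_span_dualCarrier_iff hb z).mp hz l h0, mul_zero]
    · rw [hi.2 l h1 hlk, zero_mul]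
  · intro h; exact absurd (Finset.mem_univ k) h

lemma simple_mem_Psi (hb : b ∈ F.cham) (k : b.support) :
    (k : ι) ∈ F.Psi (fundWeight b k) := by
  classical
  rw [mem_Psi_iff hb]
  refine ⟨by rw [rc_simple b k k, if_pos rfl], fun l _ hlk => ?_⟩
  rw [rc_simple b k l, if_neg (Ne.symm hlk)]

lemma card_Psi_pos (hb : b ∈ F.cham) (k : b.support) :
    (0 : R) < ((Set.toFinite (F.Psi (fundWeight b k))).toFinset.card : R) := by
  have : 0 < (Set.toFinite (F.Psi (fundWeight b k))).toFinset.card :=
    Finset.card_pos.mpr ⟨k, by rw [Set.Finite.mem_toFinset]; exact simple_mem_Psi hb k⟩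
  exact_mod_cast this

/-- The numerical invariant at a corner, through a point of the dual solid lying in the span of
the dual facet. -/
lemma numInv_eq (hd : IsCCS d) (hb : b ∈ F.cham) (k : b.support) (hk : F.sgn k = 1) {z : N}
    (hz : z ∈ Submodule.span R F.dualCarrier) (hz' : z ∈ dualSolid d F) :
    F.numInv d (fundWeight b k) b =
      ((Set.toFinite (F.Psi (fundWeight b k))).toFinset.card : R) * P.root' k z := by
  rw [numInv_eq_toLinearMap, ← toLinearMap_sum_Psi hb k hk hz]
  have hm : fundWeight b k ∈ F.corners := by rw [corners_eq hb]; exact ⟨k, hk, rfl⟩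
  exact (toLinearMap_eq_of_mem_dualSolid hd F hb (sum_root_Psi_mem_span_corners F _ hm) hz').symm

theorem numInv_pos_and_meets_span_iff_isSpecial (hd : IsCCS d) (F : Facet P) :
    ((∀ m ∈ F.corners, ∀ b ∈ F.cham, 0 < F.numInv d m b) ∧
        (dualSolid d F ∩ (Submodule.span R F.dualCarrier : Set N)).Nonempty) ↔
      IsSpecial d F := by
  constructor
  · rintro ⟨h1, z, hz', hz⟩
    refine ⟨z, ?_, hz'⟩
    obtain ⟨b, hb⟩ := cham_nonempty F
    rw [mem_dualCarrier_iff hb]
    intro j
    refine ⟨fun h0 => (mem_span_dualCarrier_iff hb z).mp hz j h0, fun hj => ?_⟩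
    have hm : fundWeight b j ∈ F.corners := by rw [corners_eq hb]; exact ⟨j, hj, rfl⟩
    have := h1 _ hm b hb
    rw [numInv_eq hd hb j hj hz hz'] at this
    exact (mul_pos_iff_of_pos_left (card_Psi_pos hb j)).mp this
  · rintro ⟨y, hy, hy'⟩
    have hys : y ∈ Submodule.span R F.dualCarrier := Submodule.subset_span hy
    refine ⟨fun m hm b hb => ?_, ⟨y, hy', hys⟩⟩
    have hm' := hm
    rw [corners_eq hb] at hm'
    obtain ⟨k, hk, rfl⟩ := hm'
    rw [numInv_eq hd hb k hk hys hy']
    exact mul_pos (card_Psi_pos hb k) (((mem_dualCarrier_iff hb y).mp hy k).2 hk)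

end NumInv

end Groth.Agent.R2.H65.WeylCh
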