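import Groth.Agent.R2.H65RootChCCS1

/-!
# Complementary convex solids: the step lemma, the half-space lemma
-/

set_option autoImplicit false
set_option linter.unusedSectionVars false

noncomputable section

namespace Groth.Agent.R2.H65.WeylCh

open RootCh RootPairing Module

universe u v w x

variable {ι : Type u} {R : Type v} {M : Type w} {N : Type x}

variable [Field R] [LinearOrder R] [IsStrictOrderedRing R]
  [AddCommGroup M] [Module R M] [AddCommGroup N] [Module R N] [Finite ι]
  {P : RootPairing ι R M N} [P.IsRootSystem] [P.IsCrystallographic] [P.IsReduced]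

section Descent

/-- Descent along simple reflections: to prove `q b` for all bases it suffices to prove it for the
bases none of whose simple roots is "negative", and to pass from `s_j b` to `b` for a negative
simple root `j` of `b`. -/
theorem base_descent (neg : ι → Prop) (hneg : ∀ i, neg i → ¬ neg (ineg P i))
    (q : P.Base → Prop) (hbase : ∀ b : P.Base, (∀ j ∈ b.support, ¬ neg j) → q b)
    (hstep : ∀ (b : P.Base) (j : ι), j ∈ b.support → neg j → q (reflBase b j) → q b) :
    ∀ b : P.Base, q b := by
  classical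
  have key : ∀ n : ℕ, ∀ b : P.Base, {i | b.IsPos i ∧ neg i}.ncard ≤ n → q b := by
    intro n
    induction n with
    | zero =>
      intro b hb
      apply hbase
      intro j hj hnj
      have hmem : j ∈ {i | b.IsPos i ∧ neg i} :=
        ⟨RootPairing.Base.isPos_of_mem_support hj, hnj⟩
      have : {i | b.IsPos i ∧ neg i} = ∅ := by
        rw [← Set.ncard_eq_zero (Set.toFinite _)]; omega
      rw [this] at hmem
      exact hmem
    | succ n ih =>
      intro b hb
      by_cases hall : ∀ j ∈ b.support, ¬ neg j
      · exact hbase b hall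
      · push Not at hall
        obtain ⟨j, hj, hjneg⟩ := hall
        apply hstep b j hj hjneg
        apply ih (reflBase b j)
        have hsub : {i | (reflBase b j).IsPos i ∧ neg i} ⊆
            {i | b.IsPos i ∧ neg i} \ {j} := by
          rintro i ⟨hi, hi'⟩
          rw [reflBase_isPos_iff, isPos_reflectionPerm_iff b hj] at hi
          rcases hi with ⟨hi, hne⟩ | rfl
          · exact ⟨⟨hi, hi'⟩, hne⟩
          · exfalso
            exact hneg j hjneg hi'
        have hjmem : j ∈ {i | b.IsPos i ∧ neg i} :=
          ⟨RootPairing.Base.isPos_of_mem_support hj, hjneg⟩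
        have h1 := Set.ncard_le_ncard hsub (Set.toFinite _)
        have h2 := Set.ncard_sdiff_singleton_add_one hjmem (Set.toFinite _)
        omega
  intro b
  exact key _ b le_rfl

instance finite_base : Finite P.Base := by
  classical
  apply Finite.of_injective (fun b : P.Base => b.support)
  intro b b' h
  cases b; cases b'; simp only [RootPairing.Base.mk.injEq]; exact h

end Descent

section Coroot

/-- Every vector of `N` is the combination of the simple coroots with coefficients its pairings
with the fundamental weights. -/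
lemma coweight_eq_sum_coroot (b : P.Base) (x : N) :
    x = ∑ j : b.support, P.toLinearMap (fundWeight b j) x • P.coroot j := by
  conv_lhs => rw [← b.toCoweightBasis.sum_repr x]
  refine Finset.sum_congr rfl fun j _ => ?_
  rw [toPerfPair_fundWeight, Basis.coord_apply, b.toCoweightBasis_apply]

end Coroot

section Step

variable {d : P.Base → N}

lemma fundWeight_mem_baseCorners (b : P.Base) (k : b.support) :
    fundWeight b k ∈ baseCorners b := by
  rw [baseCorners_eq]; exact ⟨k, rfl⟩

/-- The fundamental weights of `b` other than the `j`-th are corners of `s_j b`. -/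
lemma fundWeight_mem_baseCorners_reflBase (b : P.Base) (j k : b.support) (hkj : k ≠ j) :
    fundWeight b k ∈ baseCorners (reflBase b j) := by
  classical
  rw [baseCorners_eq]
  refine ⟨⟨P.reflectionPerm j k, by
    rw [mem_reflBase_support, P.reflectionPerm_self]; exact k.2⟩, ?_⟩
  rw [fundWeight_reflBase b j k]
  apply reflection_eq_self_of_coroot'_eq_zero
  rw [coroot'_fundWeight b j k, if_neg (Ne.symm hkj)]

lemma fundWeight_notMem_baseCorners_reflBase (b : P.Base) (j : b.support) :
    fundWeight b j ∉ baseCorners (reflBase b j) := by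
  classical
  intro h
  have hmem : ineg P (j : ι) ∈ (reflBase b j).support := by
    rw [mem_reflBase_support]
    change P.reflectionPerm j (P.reflectionPerm j j) ∈ b.support
    rw [P.reflectionPerm_self]; exact j.2
  have := h.2 _ hmem
  rw [coroot'_ineg, coroot'_fundWeight b j j, if_pos rfl] at this
  linarith

lemma baseCorners_inter_reflBase (b : P.Base) (j : b.support) :
    baseCorners b ∩ baseCorners (reflBase b j) = fundWeight b '' {k | k ≠ j} := by
  ext w
  constructor
  · rintro ⟨h1, h2⟩
    rw [baseCorners_eq] at h1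
    obtain ⟨k, rfl⟩ := h1
    refine ⟨k, ?_, rfl⟩
    rintro rfl
    exact fundWeight_notMem_baseCorners_reflBase b k h2
  · rintro ⟨k, hk, rfl⟩
    exact ⟨fundWeight_mem_baseCorners b k, fundWeight_mem_baseCorners_reflBase b j k hk⟩

lemma ncard_baseCorners_inter_reflBase (b : P.Base) (j : b.support) :
    (baseCorners b ∩ baseCorners (reflBase b j)).ncard + 1 = b.support.card := by
  classical
  have h1 : baseCorners b = insert (fundWeight b j)
      (baseCorners b ∩ baseCorners (reflBase b j)) := by
    rw [baseCorners_inter_reflBase, baseCorners_eq]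
    ext w
    constructor
    · rintro ⟨k, rfl⟩
      by_cases hk : k = j
      · subst hk; exact Set.mem_insert _ _
      · exact Set.mem_insert_of_mem _ ⟨k, hk, rfl⟩
    · rintro (rfl | ⟨k, -, rfl⟩)
      · exact ⟨j, rfl⟩
      · exact ⟨k, rfl⟩
  have h2 : fundWeight b j ∉ baseCorners b ∩ baseCorners (reflBase b j) :=
    fun h => fundWeight_notMem_baseCorners_reflBase b j h.2
  have hfin : (baseCorners b ∩ baseCorners (reflBase b j)).Finite := by
    rw [baseCorners_inter_reflBase]; exact (Set.toFinite _).image _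
  have h3 := Set.ncard_insert_of_notMem h2 hfin
  rw [← h1] at h3
  rw [← h3, baseCorners_eq, ← Set.image_univ, Set.ncard_image_of_injective _ (fundWeight_injective b),
    Set.ncard_univ, Nat.card_eq_fintype_card, Fintype.card_coe]

lemma isPos_and_not_isPos_reflBase_iff (b : P.Base) (j : b.support) (i : ι) :
    (b.IsPos i ∧ ¬ (reflBase b j).IsPos i) ↔ i = j := by
  rw [reflBase_isPos_iff, isPos_reflectionPerm_iff b j.2]
  constructor
  · rintro ⟨h1, h2⟩
    by_contra hne
    exact h2 (Or.inl ⟨h1, hne⟩)
  · rintro rfl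
    refine ⟨RootPairing.Base.isPos_of_mem_support j.2, ?_⟩
    rintro (⟨-, h⟩ | h)
    · exact h rfl
    · have h1 : b.IsPos (ineg P (j : ι)) := by
        rw [← h]; exact RootPairing.Base.isPos_of_mem_support j.2
      exact (isPos_ineg_iff b j).mp h1 (RootPairing.Base.isPos_of_mem_support j.2)

/-- **Step lemma**: crossing the wall of the simple root `j` moves `d` by a non-negative multiple
of the coroot of `j`. -/
theorem d_reflBase (hd : IsCCS d) (b : P.Base) (j : b.support) :
    ∃ c : R, 0 ≤ c ∧ d (reflBase b j) = d b + c • P.coroot j := by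
  classical
  set x : N := d (reflBase b j) - d b with hx
  have h0 : ∀ k : b.support, k ≠ j → P.toLinearMap (fundWeight b k) x = 0 := by
    intro k hk
    rw [hx, map_sub, sub_eq_zero]
    exact (hd.corner_eq b (reflBase b j) _ (fundWeight_mem_baseCorners b k)
      (fundWeight_mem_baseCorners_reflBase b j k hk)).symm
  have hxe : x = P.toLinearMap (fundWeight b j) x • P.coroot j := by
    conv_lhs => rw [coweight_eq_sum_coroot b x]
    rw [Finset.sum_eq_single j]
    · intro k _ hk; rw [h0 k hk, zero_smul]
    · intro h; exact absurd (Finset.mem_univ j) h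
  have hw := hd.wall_le b (reflBase b j) j (ncard_baseCorners_inter_reflBase b j)
    (isPos_and_not_isPos_reflBase_iff b j)
  refine ⟨P.toLinearMap (fundWeight b j) x, ?_, ?_⟩
  · have h2 : 0 ≤ P.root' j x := by
      rw [hx, map_sub]; linarith
    rw [hxe, map_smul, smul_eq_mul] at h2
    have h3 : P.root' j (P.coroot j) = 2 := P.root_coroot_two j
    rw [h3] at h2
    linarith
  · rw [← hxe, hx]; abel

end Step

section HalfSpace

variable {d : P.Base → N}

lemma coroot'_neg_of_sgn (F : Facet P) {μ : M} (hμ : μ ∈ F.carrier) {j : ι}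
    (hj : F.sgn j = -1) : P.coroot' j μ < 0 := by
  have h : sgnVec P μ = F.sgn := hμ
  have h2 : SignType.sign (P.coroot' j μ) = -1 := by rw [← sgnVec_apply, h, hj]
  exact sign_eq_neg_one_iff.mp h2

/-- **Half-space lemma** with its equality case: a vector `μ` of the facet `F` pairs minimally
with the values of `d` at the chambers adjacent to `F`; a chamber at which the minimum is attained
has the same `d`-value as a chamber adjacent to `F`. -/
theorem toLinearMap_d_le_and (hd : IsCCS d) (F : Facet P) {μ : M} (hμ : μ ∈ F.carrier)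
    {b₀ : P.Base} (hb₀ : b₀ ∈ F.cham) (b : P.Base) :
    P.toLinearMap μ (d b₀) ≤ P.toLinearMap μ (d b) ∧
      (P.toLinearMap μ (d b) = P.toLinearMap μ (d b₀) → ∃ b' ∈ F.cham, d b' = d b) := by
  refine base_descent (P := P) (fun i => F.sgn i = -1) ?_
    (fun b => P.toLinearMap μ (d b₀) ≤ P.toLinearMap μ (d b) ∧
      (P.toLinearMap μ (d b) = P.toLinearMap μ (d b₀) → ∃ b' ∈ F.cham, d b' = d b)) ?_ ?_ b
  · intro i hi
    rw [sgn_ineg, hi]; decide
  · intro b hb
    have hbc : b ∈ F.cham := (mem_cham_iff F b).mpr hb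
    have hv : μ ∈ Submodule.span R F.corners := by
      rw [← span_carrier_eq_span_corners]; exact Submodule.subset_span hμ
    have := toLinearMap_eq_of_mem_span_corners hd F hb₀ hbc hv
    exact ⟨this.le, fun _ => ⟨b, hbc, rfl⟩⟩
  · intro b j hj hneg ⟨h1, h2⟩
    obtain ⟨c, hc, hdc⟩ := d_reflBase hd b ⟨j, hj⟩
    have hlt : P.coroot' j μ < 0 := coroot'_neg_of_sgn F hμ hneg
    have he : P.toLinearMap μ (d (reflBase b j)) =
        P.toLinearMap μ (d b) + c * P.coroot' j μ := by
      rw [hdc, map_add, map_smul, smul_eq_mul]; rfl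
    have hle : c * P.coroot' j μ ≤ 0 := mul_nonpos_of_nonneg_of_nonpos hc hlt.le
    refine ⟨by linarith, fun heq => ?_⟩
    have hz : c * P.coroot' j μ = 0 := by linarith
    have hc0 : c = 0 := by
      rcases mul_eq_zero.mp hz with h | h
      · exact h
      · exact absurd h hlt.ne
    have hdd : d (reflBase b j) = d b := by rw [hdc, hc0, zero_smul, add_zero]
    obtain ⟨b', hb', hb'd⟩ := h2 (by rw [hdd]; exact heq)
    exact ⟨b', hb', by rw [hb'd, hdd]⟩

/-- **Half-space lemma**: a vector of the closed chamber of `b₀` pairs minimally with `d b₀`. -/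
theorem toLinearMap_d_le (hd : IsCCS d) {μ : M} {b₀ : P.Base} (hμ : μ ∈ closedChamber b₀)
    (b : P.Base) : P.toLinearMap μ (d b₀) ≤ P.toLinearMap μ (d b) :=
  (toLinearMap_d_le_and hd (Facet.ofVec P μ) (μ := μ) rfl
    (mem_cham_of_mem (Facet.ofVec P μ) b₀ rfl hμ) b).1

/-- The half-space lemma on the whole solid. -/
theorem toLinearMap_d_le_of_mem_solid (hd : IsCCS d) {μ : M} {b₀ : P.Base}
    (hμ : μ ∈ closedChamber b₀) {y : N} (hy : y ∈ solid d) :
    P.toLinearMap μ (d b₀) ≤ P.toLinearMap μ y := by
  have hconv : Convex R {y : N | P.toLinearMap μ (d b₀) ≤ P.toLinearMap μ y} :=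
    convex_halfSpace_ge (P.toLinearMap μ).isLinear _
  refine convexHull_min ?_ hconv hy
  rintro _ ⟨b, rfl⟩
  exact toLinearMap_d_le hd hμ b

end HalfSpace

section YLocus

variable {d : P.Base → N}

lemma corner_mem_baseCorners {F : Facet P} {b : P.Base} (hb : b ∈ F.cham) {m : M}
    (hm : m ∈ F.corners) : m ∈ baseCorners b := by
  rw [corners_eq hb] at hm
  obtain ⟨j, -, rfl⟩ := hm
  exact fundWeight_mem_baseCorners b j

lemma mem_hyper_of_mem_dualSolid (hd : IsCCS d) (F : Facet P) {m : M} (hm : m ∈ F.corners)
    {y : N} (hy : y ∈ dualSolid d F) : y ∈ hyper d m := by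
  intro b hmb
  obtain ⟨b', hb'⟩ := cham_nonempty F
  rw [toLinearMap_eq_of_mem_dualSolid hd F hb' (Submodule.subset_span hm) hy]
  exact hd.corner_eq b' b m (corner_mem_baseCorners hb' hm) hmb

lemma toLinearMap_pol_self_pos {μ : M} (hμ : μ ≠ 0) : 0 < P.toLinearMap μ (pol P μ) := by
  let _ := Fintype.ofFinite ι
  change 0 < P.toLinearMap μ (P.Polarization μ)
  rw [P.toLinearMap_apply_apply_Polarization]
  exact P.rootForm_pos_of_ne_zero (by simp) hμ

/-- A vector of the span of the dual facet killed by all corners of the facet vanishes. -/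
lemma eq_zero_of_mem_span_dualCarrier (F : Facet P) {δ : N}
    (hδ : δ ∈ Submodule.span R F.dualCarrier)
    (h0 : ∀ m ∈ F.corners, P.toLinearMap m δ = 0) : δ = 0 := by
  classical
  obtain ⟨b, hb⟩ := cham_nonempty F
  set μ : M := ∑ j : b.support, (P.root' j δ * (2 / rlen P j)) • fundWeight b j with hμ
  have h1 : pol P μ = δ := by
    rw [hμ, map_sum]
    conv_rhs => rw [coweight_eq_sum b δ]
    refine Finset.sum_congr rfl fun j _ => ?_
    rw [map_smul, fundCoweight_eq_smul_pol, smul_smul]
  have h2 : P.toLinearMap μ δ = 0 := by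
    rw [hμ, map_sum, LinearMap.sum_apply]
    refine Finset.sum_eq_zero fun j _ => ?_
    rw [map_smul, LinearMap.smul_apply, smul_eq_mul]
    rcases sgn_simple hb j with hj | hj
    · rw [(mem_span_dualCarrier_iff hb δ).mp hδ j hj]; simp
    · rw [h0 (fundWeight b j) (by rw [corners_eq hb]; exact ⟨j, hj, rfl⟩)]; simp
  have h3 : μ = 0 := by
    by_contra hne
    have := toLinearMap_pol_self_pos (P := P) hne
    rw [h1, h2] at this
    exact lt_irrefl _ this
  rw [← h1, h3, map_zero]

theorem yLocus_eq_singleton (hd : IsCCS d) (F : Facet P) {y₀ : N}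
    (hy₀ : y₀ ∈ Submodule.span R F.dualCarrier) (hy₀' : y₀ ∈ dualSolid d F) :
    yLocus d F = {y₀} := by
  obtain ⟨b, hb⟩ := cham_nonempty F
  apply Set.Subset.antisymm
  · rintro y ⟨hy1, hy2⟩
    rw [Set.mem_singleton_iff, ← sub_eq_zero]
    apply eq_zero_of_mem_span_dualCarrier F (Submodule.sub_mem _ hy2 hy₀)
    intro m hm
    have h1 : y ∈ hyper d m := Set.mem_iInter₂.mp hy1 m hm
    have h2 := mem_hyper_of_mem_dualSolid hd F hm hy₀'
    rw [map_sub, h1 b (corner_mem_baseCorners hb hm), h2 b (corner_mem_baseCorners hb hm),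
      sub_self]
  · rintro _ rfl
    exact ⟨Set.mem_iInter₂.mpr fun m hm => mem_hyper_of_mem_dualSolid hd F hm hy₀', hy₀⟩

theorem yLocus_and_inter_eq_singleton (hd : IsCCS d) (F : Facet P) {y₀ : N}
    (hy₀ : y₀ ∈ F.dualCarrier) (hy₀' : y₀ ∈ dualSolid d F) :
    yLocus d F = {y₀} ∧ F.dualCarrier ∩ dualSolid d F = {y₀} := by
  have h1 := yLocus_eq_singleton hd F (Submodule.subset_span hy₀) hy₀'
  refine ⟨h1, ?_⟩
  apply Set.Subset.antisymm
  · rintro y ⟨hy1, hy2⟩
    have := yLocus_eq_singleton hd F (Submodule.subset_span hy1) hy2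
    rw [h1] at this
    rw [Set.mem_singleton_iff]
    exact (Set.singleton_eq_singleton_iff.mp this).symm
  · rintro _ rfl
    exact ⟨hy₀, hy₀'⟩

theorem exists_yLocus_of_isSpecial (hd : IsCCS d) (F : Facet P) (hF : IsSpecial d F) :
    ∃ y₀ : N, yLocus d F = {y₀} ∧ F.dualCarrier ∩ dualSolid d F = {y₀} := by
  obtain ⟨y₀, h1, h2⟩ := hF
  exact ⟨y₀, yLocus_and_inter_eq_singleton hd F h1 h2⟩

end YLocus

end Groth.Agent.R2.H65.WeylCh
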