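import Groth.Agent.R2.H65RootChCCS2
import Groth.Agent.R2.H65Gordan

/-!
# Complementary convex solids: the dual solid as an intersection of half-spaces, semi-stability
-/

set_option autoImplicit false
set_option linter.unusedSectionVars false

noncomputable section

namespace Groth.Agent.R2.H65.WeylCh

open RootCh RootPairing Module

universe u v w x

variable {ι : Type u} {R : Type v} {M : Type w} {N : Type x}

variable [Field R] [LinearOrder R] [IsStrictOrderedRing R]
  [AddCommGroup M] [Module R M] [AddCommGroup N] [Module R N] [Finite ι]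
  {P : RootPairing ι R M N} [P.IsRootSystem] [P.IsCrystallographic] [P.IsReduced]

section LexChamber

/-- A chamber adapted to a pair of vectors `(ξ, μ)` lexicographically: its closure contains `ξ` and
`μ` pairs non-negatively with the simple coroots vanishing on `ξ`. -/
theorem exists_lex_chamber (ξ μ : M) :
    ∃ b : P.Base, ξ ∈ closedChamber b ∧
      ∀ j ∈ b.support, P.coroot' j ξ = 0 → 0 ≤ P.coroot' j μ := by
  obtain ⟨b₀⟩ := P.nonempty_base
  have := base_descent (P := P)
    (fun i => P.coroot' i ξ < 0 ∨ (P.coroot' i ξ = 0 ∧ P.coroot' i μ < 0)) ?_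
    (fun _ => ∃ b : P.Base, ∀ j ∈ b.support,
      ¬ (P.coroot' j ξ < 0 ∨ (P.coroot' j ξ = 0 ∧ P.coroot' j μ < 0)))
    (fun b hb => ⟨b, hb⟩) (fun _ _ _ _ h => h) b₀
  · obtain ⟨b, hb⟩ := this
    refine ⟨b, fun j hj => ?_, fun j hj h0 => ?_⟩
    · have := hb j hj
      push Not at this
      exact this.1
    · have := hb j hj
      push Not at this
      exact this.2 h0
  · intro i hi
    simp only [coroot'_ineg]
    rcases hi with h | ⟨h1, h2⟩
    · rintro (h' | ⟨h1', -⟩) <;> linarith
    · rintro (h' | ⟨-, h2'⟩) <;> linarith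

end LexChamber

section DualSolid

variable {d : P.Base → N}

/-- The dual solid of a facet is cut out by the hyperplanes of its corners and the closed
half-spaces of the corners of the adjacent chambers. -/
theorem dualSolid_eq (hd : IsCCS d) (F : Facet P) :
    dualSolid d F =
      (⋂ m ∈ F.corners, hyper d m) ∩ ⋂ m ∈ F.corners', halfClosed d m := by
  classical
  apply Set.Subset.antisymm
  · intro y hy
    refine ⟨Set.mem_iInter₂.mpr fun m hm => mem_hyper_of_mem_dualSolid hd F hm hy,
      Set.mem_iInter₂.mpr fun m _ => ?_⟩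
    intro b' hm'
    exact toLinearMap_d_le_of_mem_solid hd hm'.2 (dualSolid_subset_solid d F hy)
  · rintro y ⟨hy1, hy2⟩
    by_contra hy
    obtain ⟨f, hf⟩ :=
      Gordan.exists_linearMap_lt_of_notMem_convexHull (R := R) d F.cham y hy
    set μ : M := P.toPerfPair.symm f with hμ
    have hμf : P.toLinearMap μ = f := P.toLinearMap.apply_symm_toPerfPair_self f
    obtain ⟨ξ, hξ⟩ := carrier_nonempty F
    obtain ⟨b, hb1, hb2⟩ := exists_lex_chamber (P := P) ξ μ
    have hb : b ∈ F.cham := mem_cham_of_mem F b hξ hb1
    have hlt := hf b hb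
    rw [← hμf] at hlt
    have hge : P.toLinearMap μ (d b) ≤ P.toLinearMap μ y := by
      rw [← sub_nonneg, ← map_sub]
      have hexp : P.toLinearMap μ (y - d b) =
          P.toLinearMap (∑ j : b.support, P.coroot' j μ • fundWeight b j) (y - d b) := by
        rw [← weight_eq_sum b μ]
      rw [hexp, map_sum, LinearMap.sum_apply]
      refine Finset.sum_nonneg fun j _ => ?_
      rw [map_smul, LinearMap.smul_apply, smul_eq_mul, map_sub]
      rcases sgn_simple hb j with h0 | h1
      · have hξ' : sgnVec P ξ = F.sgn := hξ
        have hz : P.coroot' j ξ = 0 := by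
          have : SignType.sign (P.coroot' j ξ) = 0 := by rw [← sgnVec_apply, hξ', h0]
          exact sign_eq_zero_iff.mp this
        have hc := hb2 j j.2 hz
        have hm : fundWeight b j ∈ F.corners' :=
          Set.mem_iUnion₂.mpr ⟨b, hb, fundWeight_mem_baseCorners b j⟩
        have := Set.mem_iInter₂.mp hy2 _ hm b (fundWeight_mem_baseCorners b j)
        exact mul_nonneg hc (sub_nonneg.mpr this)
      · have hm : fundWeight b j ∈ F.corners := by rw [corners_eq hb]; exact ⟨j, h1, rfl⟩
        have := Set.mem_iInter₂.mp hy1 _ hm b (fundWeight_mem_baseCorners b j)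
        rw [this, sub_self, mul_zero]
    exact absurd hlt (not_lt.mpr hge)

end DualSolid

section Semistable

variable {d : P.Base → N}

lemma origin_sgn (i : ι) : (Facet.origin P).sgn i = 0 := by
  change sgnVec P 0 i = 0
  rw [sgnVec_apply, map_zero, sign_zero]

lemma cham_origin : (Facet.origin P).cham = Set.univ := by
  ext b
  simp only [Set.mem_univ, iff_true]
  rw [mem_cham_iff]
  intro j _
  rw [origin_sgn]; decide

lemma dualSolid_origin (d : P.Base → N) : dualSolid d (Facet.origin P) = solid d := by
  unfold dualSolid solid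
  rw [cham_origin, Set.image_univ]

lemma corners_origin : (Facet.origin P).corners = ∅ := by
  obtain ⟨b, hb⟩ := cham_nonempty (Facet.origin P)
  rw [corners_eq hb, Set.image_eq_empty]
  ext j
  simp only [Set.mem_ofPred_eq, Set.mem_empty_iff_false, iff_false]
  rw [origin_sgn]; decide

/-- Semi-stability through the corners of the chambers. -/
theorem forall_corner_nonpos_iff_isSemistable (hd : IsCCS d) :
    (∀ (b : P.Base), ∀ m ∈ baseCorners b, P.toLinearMap m (d b) ≤ 0) ↔ IsSemistable d := by
  constructor
  · intro h
    unfold IsSemistable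
    rw [← dualSolid_origin, dualSolid_eq hd]
    refine ⟨?_, Set.mem_iInter₂.mpr fun m _ => ?_⟩
    · rw [corners_origin]; simp
    · intro b hm
      rw [map_zero]
      exact h b m hm
  · intro h b m hm
    have := toLinearMap_d_le_of_mem_solid hd hm.2 h
    rwa [map_zero] at this

/-- The degree of a facet as a combination of the pairings of its corners with `d`. -/
lemma deg_eq_sum {F : Facet P} {b : P.Base} (d : P.Base → N) :
    F.deg d b = ∑ j : b.support,
      P.coroot' j (∑ i ∈ (Set.toFinite F.parab).toFinset, P.root i) *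
        P.toLinearMap (fundWeight b j) (d b) := by
  rw [deg_eq_toLinearMap]
  set ρ : M := ∑ i ∈ (Set.toFinite F.parab).toFinset, P.root i
  have hexp : P.toLinearMap ρ (d b) =
      P.toLinearMap (∑ j : b.support, P.coroot' j ρ • fundWeight b j) (d b) := by
    rw [← weight_eq_sum b ρ]
  rw [hexp, map_sum, LinearMap.sum_apply]
  refine Finset.sum_congr rfl fun j _ => ?_
  rw [map_smul, LinearMap.smul_apply, smul_eq_mul]

lemma deg_nonpos_of_isSemistable (hd : IsCCS d) (h : IsSemistable d) (F : Facet P) (b : P.Base)
    (hb : b ∈ F.cham) : F.deg d b ≤ 0 := by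
  rw [deg_eq_sum]
  refine Finset.sum_nonpos fun j _ => ?_
  have h1 := (forall_corner_nonpos_iff_isSemistable hd).mpr h b _ (fundWeight_mem_baseCorners b j)
  have h2 := (mem_carrier_iff' hb _).mp (sum_root_parab_mem_carrier F) j
  rcases sgn_simple hb j with h0 | h1'
  · rw [h2.1 h0, zero_mul]
  · exact mul_nonpos_of_nonneg_of_nonpos (h2.2 h1').le h1

open Classical in
lemma deg_facetOf_singleton (b : P.Base) (k : b.support) (d : P.Base → N) :
    ∃ c : R, 0 < c ∧ (facetOf b {k}).deg d b = c * P.toLinearMap (fundWeight b k) (d b) := by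
  have hb := mem_cham_facetOf b ({k} : Set b.support)
  refine ⟨P.coroot' k (∑ i ∈ (Set.toFinite (facetOf b {k}).parab).toFinset, P.root i), ?_, ?_⟩
  · have h2 := (mem_carrier_iff' hb _).mp (sum_root_parab_mem_carrier (facetOf b {k})) k
    apply h2.2
    rw [facetOf_sgn_simple, if_pos (Set.mem_singleton k)]
  · rw [deg_eq_sum, Finset.sum_eq_single k]
    · intro j _ hjk
      have h2 := (mem_carrier_iff' hb _).mp (sum_root_parab_mem_carrier (facetOf b {k})) j
      rw [h2.1 (by rw [facetOf_sgn_simple, if_neg (fun h => hjk (Set.mem_singleton_iff.mp h))]),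
        zero_mul]
    · intro h; exact absurd (Finset.mem_univ k) h

lemma fundWeight_ne_zero (b : P.Base) (k : b.support) : fundWeight b k ≠ 0 :=
  (linearIndependent_fundWeight b).ne_zero k

lemma dim_facetOf_singleton (b : P.Base) (k : b.support) : (facetOf b {k}).dim = 1 := by
  unfold Facet.dim
  rw [span_carrier_eq_span_corners, corners_facetOf, Set.image_singleton]
  exact finrank_span_singleton (fundWeight_ne_zero b k)

theorem forall_deg_nonpos_iff_isSemistable (hd : IsCCS d) :
    (∀ (F : Facet P) (b : P.Base), b ∈ F.cham → F.deg d b ≤ 0) ↔ IsSemistable d := by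
  constructor
  · intro h
    rw [← forall_corner_nonpos_iff_isSemistable hd]
    intro b m hm
    rw [baseCorners_eq] at hm
    obtain ⟨k, rfl⟩ := hm
    obtain ⟨c, hc, he⟩ := deg_facetOf_singleton b k d
    have := h (facetOf b {k}) b (mem_cham_facetOf b _)
    rw [he] at this
    by_contra hpos
    push Not at hpos
    have := mul_pos hc hpos
    linarith
  · intro h F b hb
    exact deg_nonpos_of_isSemistable hd h F b hb

theorem forall_dim_one_deg_nonpos_iff_isSemistable (hd : IsCCS d) :
    (∀ (F : Facet P) (b : P.Base), F.dim = 1 → b ∈ F.cham → F.deg d b ≤ 0) ↔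
      IsSemistable d := by
  constructor
  · intro h
    rw [← forall_corner_nonpos_iff_isSemistable hd]
    intro b m hm
    rw [baseCorners_eq] at hm
    obtain ⟨k, rfl⟩ := hm
    obtain ⟨c, hc, he⟩ := deg_facetOf_singleton b k d
    have := h (facetOf b {k}) b (dim_facetOf_singleton b k) (mem_cham_facetOf b _)
    rw [he] at this
    by_contra hpos
    push Not at hpos
    have := mul_pos hc hpos
    linarith
  · intro h F b _ hb
    exact deg_nonpos_of_isSemistable hd h F b hb

end Semistable

end Groth.Agent.R2.H65.WeylCh
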