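import Groth.Agent.R2.H65RootChCCS3

/-!
# Complementary convex solids: the special facet has maximal degree, metric characterisation
-/

set_option autoImplicit false
set_option linter.unusedSectionVars false

noncomputable section

namespace Groth.Agent.R2.H65.WeylCh

open RootCh RootPairing Module

universe u v w x

variable {ι : Type u} {R : Type v} {M : Type w} {N : Type x}

variable [Field R] [LinearOrder R] [IsStrictOrderedRing R]
  [AddCommGroup M] [Module R M] [AddCommGroup N] [Module R N] [Finite ι]
  {P : RootPairing ι R M N} [P.IsRootSystem] [P.IsCrystallographic] [P.IsReduced]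

section MaxDeg

variable {d : P.Base → N}

lemma root'_nonneg_of_mem_dualCarrier {F : Facet P} {y : N} (hy : y ∈ F.dualCarrier) {i : ι}
    (hi : i ∈ F.parab) : 0 ≤ P.root' i y := by
  have h : cosgnVec P y = F.sgn := hy
  have h2 : SignType.sign (P.root' i y) ≠ -1 := by
    change cosgnVec P y i ≠ -1
    rw [h]; exact hi
  exact (sign_ne_neg_one_iff _).mp h2

lemma root'_neg_of_mem_dualCarrier {F : Facet P} {y : N} (hy : y ∈ F.dualCarrier) {i : ι}
    (hi : i ∉ F.parab) : P.root' i y < 0 := by
  have h : cosgnVec P y = F.sgn := hy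
  have h2 : SignType.sign (P.root' i y) = -1 := by
    change cosgnVec P y i = -1
    rw [h]
    by_contra hne
    exact hi hne
  exact sign_eq_neg_one_iff.mp h2

/-- The degree of a facet through a point of its dual solid. -/
lemma deg_eq_of_mem_dualSolid (hd : IsCCS d) (F : Facet P) {b : P.Base} (hb : b ∈ F.cham) {y : N}
    (hy : y ∈ dualSolid d F) :
    F.deg d b = ∑ i ∈ (Set.toFinite F.parab).toFinset, P.root' i y := by
  rw [deg_eq_toLinearMap]
  have hv : (∑ i ∈ (Set.toFinite F.parab).toFinset, P.root i) ∈ Submodule.span R F.corners := by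
    rw [← span_carrier_eq_span_corners]
    exact Submodule.subset_span (sum_root_parab_mem_carrier F)
  rw [← toLinearMap_eq_of_mem_dualSolid hd F hb hv hy, map_sum, LinearMap.sum_apply]

lemma deg_le_of_mem_solid (hd : IsCCS d) (G : Facet P) {c : P.Base} (hc : c ∈ G.cham) {y : N}
    (hy : y ∈ solid d) :
    G.deg d c ≤ ∑ i ∈ (Set.toFinite G.parab).toFinset, P.root' i y := by
  rw [deg_eq_toLinearMap]
  have h1 : (∑ i ∈ (Set.toFinite G.parab).toFinset, P.root i) ∈ closedChamber c :=
    hc (sum_root_parab_mem_carrier G)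
  have := toLinearMap_d_le_of_mem_solid hd h1 hy
  rw [map_sum (P.toLinearMap), LinearMap.sum_apply, LinearMap.sum_apply] at this
  rw [map_sum (P.toLinearMap), LinearMap.sum_apply]
  exact this

/-- A special facet has maximal degree, and is the largest facet of that degree. -/
theorem deg_le_of_isSpecial (hd : IsCCS d) (F : Facet P) {b : P.Base} (hb : b ∈ F.cham)
    (hF : IsSpecial d F) :
    (∀ (G : Facet P) (c : P.Base), c ∈ G.cham → G.deg d c ≤ F.deg d b) ∧
      ∀ (G : Facet P) (c : P.Base), c ∈ G.cham → G.deg d c = F.deg d b → G ≤ F := by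
  classical
  obtain ⟨y₀, hy1, hy2⟩ := hF
  have hF := deg_eq_of_mem_dualSolid hd F hb hy2
  set B := (Set.toFinite F.parab).toFinset with hB
  have key : ∀ (G : Facet P),
      ∑ i ∈ (Set.toFinite G.parab).toFinset, P.root' i y₀ ≤ ∑ i ∈ B, P.root' i y₀ ∧
      (∑ i ∈ (Set.toFinite G.parab).toFinset, P.root' i y₀ = ∑ i ∈ B, P.root' i y₀ →
        G.parab ⊆ F.parab) := by
    intro G
    set A := (Set.toFinite G.parab).toFinset with hA
    have h1 := Finset.sum_inter_add_sum_sdiff A B (fun i => P.root' i y₀)
    have h2 : ∑ i ∈ A ∩ B, P.root' i y₀ ≤ ∑ i ∈ B, P.root' i y₀ := by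
      apply Finset.sum_le_sum_of_subset_of_nonneg Finset.inter_subset_right
      intro i hi _
      exact root'_nonneg_of_mem_dualCarrier hy1 ((Set.Finite.mem_toFinset _).mp hi)
    have h3 : ∑ i ∈ A \ B, P.root' i y₀ ≤ 0 := by
      apply Finset.sum_nonpos
      intro i hi
      have : i ∉ B := (Finset.mem_sdiff.mp hi).2
      exact (root'_neg_of_mem_dualCarrier hy1
        (fun h => this ((Set.Finite.mem_toFinset _).mpr h))).le
    refine ⟨by linarith, fun heq i hi => ?_⟩
    by_contra hni
    have hmem : i ∈ A \ B := Finset.mem_sdiff.mpr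
      ⟨(Set.Finite.mem_toFinset _).mpr hi, fun h => hni ((Set.Finite.mem_toFinset _).mp h)⟩
    have h4 : ∑ i ∈ A \ B, P.root' i y₀ < 0 := by
      apply Finset.sum_neg
      · intro i hi
        have : i ∉ B := (Finset.mem_sdiff.mp hi).2
        exact root'_neg_of_mem_dualCarrier hy1
          (fun h => this ((Set.Finite.mem_toFinset _).mpr h))
      · exact ⟨i, hmem⟩
    linarith
  constructor
  · intro G c hc
    have h1 := deg_le_of_mem_solid hd G hc (dualSolid_subset_solid d F hy2)
    have h2 := (key G).1
    rw [hF]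
    linarith
  · intro G c hc heq
    have h1 := deg_le_of_mem_solid hd G hc (dualSolid_subset_solid d F hy2)
    have h2 := (key G).1
    rw [hF] at heq
    rw [le_iff_parab_subset]
    exact (key G).2 (by linarith)

end MaxDeg

end Groth.Agent.R2.H65.WeylCh
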