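import Groth.Agent.R2.H65RootChCCS4

/-!
# Complementary convex solids: the point of a special facet is the point of the solid closest to the
origin for an invariant metric
-/

set_option autoImplicit false
set_option linter.unusedSectionVars false

noncomputable section

namespace Groth.Agent.R2.H65.WeylCh

open RootCh RootPairing Module

universe u v w x

section Face

variable {R : Type v} {V : Type x} [Field R] [LinearOrder R] [IsStrictOrderedRing R]
  [AddCommGroup V] [Module R V]

/-- A point of a convex hull at which a linear form, bounded below by `m` on the generators, takes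
a value `≤ m` lies in the convex hull of the generators at which the form takes the value `m`. -/
lemma mem_convexHull_inter_of_le (f : V →ₗ[R] R) (s : Set V) (m : R) (hs : ∀ x ∈ s, m ≤ f x)
    {y : V} (hy : y ∈ convexHull R s) (hfy : f y ≤ m) :
    y ∈ convexHull R (s ∩ {x | f x = m}) := by
  classical
  rw [mem_convexHull_iff_exists_fintype] at hy
  obtain ⟨κ, _, w, z, hw0, hw1, hz, hsum⟩ := hy
  have h1 : ∑ i, w i * (f (z i) - m) = f y - m := by
    rw [← hsum, map_sum]
    simp only [mul_sub, Finset.sum_sub_distrib, ← Finset.sum_mul, hw1, one_mul, map_smul,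
      smul_eq_mul]
  have h2 : ∀ i, 0 ≤ w i * (f (z i) - m) := fun i =>
    mul_nonneg (hw0 i) (sub_nonneg.mpr (hs _ (hz i)))
  have h3 : ∑ i, w i * (f (z i) - m) = 0 :=
    le_antisymm (by rw [h1]; linarith) (Finset.sum_nonneg fun i _ => h2 i)
  have h4 : ∀ i, w i * (f (z i) - m) = 0 := fun i =>
    (Finset.sum_eq_zero_iff_of_nonneg fun i _ => h2 i).mp h3 i (Finset.mem_univ i)
  have h5 : ∑ i ∈ Finset.univ.filter (fun i => w i ≠ 0), w i • z i = y := by
    rw [← hsum, Finset.sum_filter]
    refine Finset.sum_congr rfl fun i _ => ?_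
    by_cases hi : w i = 0
    · simp [hi]
    · simp [hi]
  rw [← h5]
  apply (convex_convexHull R _).sum_mem (fun i _ => hw0 i)
  · rw [Finset.sum_filter_ne_zero, hw1]
  · intro i hi
    have hi' : w i ≠ 0 := (Finset.mem_filter.mp hi).2
    apply subset_convexHull
    refine ⟨hz i, ?_⟩
    have := (mul_eq_zero.mp (h4 i)).resolve_left hi'
    exact sub_eq_zero.mp this

end Face

variable {ι : Type u} {R : Type v} {M : Type w} {N : Type x}

variable [Field R] [LinearOrder R] [IsStrictOrderedRing R]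
  [AddCommGroup M] [Module R M] [AddCommGroup N] [Module R N] [Finite ι]
  {P : RootPairing ι R M N} [P.IsRootSystem] [P.IsCrystallographic] [P.IsReduced]

section Metric

variable {d : P.Base → N} {B : LinearMap.BilinForm R N}

/-- For an invariant symmetric form, pairing with a coroot is a multiple of the root. -/
lemma two_mul_form_coroot
    (hBi : ∀ (i : ι) (y z : N), B (P.coreflection i y) (P.coreflection i z) = B y z)
    (i : ι) (y : N) : 2 * B y (P.coroot i) = P.root' i y * B (P.coroot i) (P.coroot i) := by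
  have h := hBi i y (P.coroot i)
  have h1 : P.coreflection i (P.coroot i) = - P.coroot i := by
    rw [P.coreflection_apply]
    have : P.root' i (P.coroot i) = 2 := P.root_coroot_two i
    rw [this, two_smul]; abel
  rw [h1, P.coreflection_apply, map_neg, map_sub, LinearMap.sub_apply, map_smul,
    LinearMap.smul_apply, smul_eq_mul] at h
  linarith

/-- The vector of `M` representing the linear form `B y₀`. -/
def formVec (P : RootPairing ι R M N) [P.IsRootSystem] (B : LinearMap.BilinForm R N) (y₀ : N) : M :=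
  P.toPerfPair.symm (B y₀)

lemma toLinearMap_formVec (y₀ z : N) : P.toLinearMap (formVec P B y₀) z = B y₀ z := by
  have : P.toLinearMap (formVec P B y₀) = B y₀ := P.toLinearMap.apply_symm_toPerfPair_self _
  rw [this]

lemma sgnVec_formVec (hBp : ∀ y : N, y ≠ 0 → 0 < B y y)
    (hBi : ∀ (i : ι) (y z : N), B (P.coreflection i y) (P.coreflection i z) = B y z) (y₀ : N) :
    sgnVec P (formVec P B y₀) = cosgnVec P y₀ := by
  funext i
  change SignType.sign (P.toLinearMap (formVec P B y₀) (P.coroot i)) =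
    SignType.sign (P.root' i y₀)
  rw [toLinearMap_formVec]
  have h := two_mul_form_coroot hBi i y₀
  have hpos : 0 < B (P.coroot i) (P.coroot i) := hBp _ (P.ne_zero' i)
  have h2 : B y₀ (P.coroot i) = P.root' i y₀ * (B (P.coroot i) (P.coroot i) / 2) := by
    linarith
  rw [h2, sign_mul, sign_pos (half_pos hpos), mul_one]

lemma formVec_mem_carrier (hBp : ∀ y : N, y ≠ 0 → 0 < B y y)
    (hBi : ∀ (i : ι) (y z : N), B (P.coreflection i y) (P.coreflection i z) = B y z)
    {F : Facet P} {y₀ : N} (hy₀ : y₀ ∈ F.dualCarrier) : formVec P B y₀ ∈ F.carrier := by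
  change sgnVec P _ = F.sgn
  rw [sgnVec_formVec hBp hBi]
  exact hy₀

lemma form_expand (hBs : ∀ y z : N, B y z = B z y) (y₀ y : N) :
    B y y = B y₀ y₀ + 2 * (B y₀ y - B y₀ y₀) + B (y - y₀) (y - y₀) := by
  simp only [map_sub, LinearMap.sub_apply]
  rw [hBs y y₀]
  ring

/-- The point of a special facet is the point of the solid closest to the origin. -/
theorem exists_closest_of_isSpecial (hd : IsCCS d)
    (hBs : ∀ y z : N, B y z = B z y) (hBp : ∀ y : N, y ≠ 0 → 0 < B y y)
    (hBi : ∀ (i : ι) (y z : N), B (P.coreflection i y) (P.coreflection i z) = B y z)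
    (F : Facet P) (hF : IsSpecial d F) :
    ∃ y₀ : N, yLocus d F = {y₀} ∧ y₀ ∈ solid d ∧
      ∀ y ∈ solid d, y ≠ y₀ → B y₀ y₀ < B y y := by
  obtain ⟨y₀, hy1, hy2⟩ := hF
  refine ⟨y₀, (yLocus_and_inter_eq_singleton hd F hy1 hy2).1, dualSolid_subset_solid d F hy2, ?_⟩
  intro y hy hne
  obtain ⟨b, hb⟩ := cham_nonempty F
  have hμ := formVec_mem_carrier (P := P) hBp hBi hy1
  have h1 := toLinearMap_d_le_of_mem_solid hd (hb hμ) hy
  have hv : formVec P B y₀ ∈ Submodule.span R F.corners := by
    rw [← span_carrier_eq_span_corners]; exact Submodule.subset_span hμ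
  have h2 := toLinearMap_eq_of_mem_dualSolid hd F hb hv hy2
  rw [← h2, toLinearMap_formVec, toLinearMap_formVec] at h1
  have h3 : 0 < B (y - y₀) (y - y₀) := hBp _ (sub_ne_zero.mpr hne)
  rw [form_expand hBs y₀ y]
  linarith

/-- Variational inequality at a point of a convex set closest to the origin. -/
lemma form_le_of_min (hBs : ∀ y z : N, B y z = B z y) (hBp : ∀ y : N, y ≠ 0 → 0 < B y y)
    {s : Set N} (hs : Convex R s) {y₀ : N} (hy₀ : y₀ ∈ s) (hmin : ∀ y ∈ s, B y₀ y₀ ≤ B y y)
    {y : N} (hy : y ∈ s) : B y₀ y₀ ≤ B y₀ y := by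
  by_contra hlt
  push Not at hlt
  set δ : N := y - y₀ with hδ
  have hδ0 : B y₀ δ < 0 := by rw [hδ, map_sub]; linarith
  have hδne : δ ≠ 0 := by
    intro h; rw [h, map_zero] at hδ0; exact lt_irrefl _ hδ0
  have hδpos : 0 < B δ δ := hBp δ hδne
  set t : R := min 1 (- B y₀ δ / B δ δ) with ht
  have ht0 : 0 < t := lt_min one_pos (div_pos (by linarith) hδpos)
  have ht1 : t ≤ 1 := min_le_left _ _
  have ht2 : t * B δ δ ≤ - B y₀ δ := by
    have : t ≤ - B y₀ δ / B δ δ := min_le_right _ _
    rwa [le_div_iff₀ hδpos] at this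
  have hmem : y₀ + t • δ ∈ s := hs.add_smul_sub_mem hy₀ hy ⟨ht0.le, ht1⟩
  have h1 := hmin _ hmem
  have h2 : B (y₀ + t • δ) (y₀ + t • δ) = B y₀ y₀ + t * (2 * B y₀ δ + t * B δ δ) := by
    simp only [map_add, map_smul, LinearMap.add_apply, LinearMap.smul_apply, smul_eq_mul]
    rw [hBs δ y₀]
    ring
  rw [h2] at h1
  have h3 : t * (2 * B y₀ δ + t * B δ δ) < 0 := mul_neg_of_pos_of_neg ht0 (by linarith)
  linarith

/-- The facet whose dual facet contains the point of the solid closest to the origin is special. -/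
theorem isSpecial_of_closest (hd : IsCCS d)
    (hBs : ∀ y z : N, B y z = B z y) (hBp : ∀ y : N, y ≠ 0 → 0 < B y y)
    (hBi : ∀ (i : ι) (y z : N), B (P.coreflection i y) (P.coreflection i z) = B y z)
    (y₀ : N) (hy₀ : y₀ ∈ solid d) (hmin : ∀ y ∈ solid d, B y₀ y₀ ≤ B y y)
    (F : Facet P) (hF : y₀ ∈ F.dualCarrier) :
    IsSpecial d F ∧ yLocus d F = {y₀} := by
  obtain ⟨b₀, hb₀⟩ := cham_nonempty F
  have hμ := formVec_mem_carrier (P := P) hBp hBi hF
  have hvar : ∀ y ∈ solid d, B y₀ y₀ ≤ B y₀ y := fun y hy =>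
    form_le_of_min hBs hBp (convex_convexHull R _) hy₀ hmin hy
  have hface := mem_convexHull_inter_of_le (B y₀) (Set.range d) (B y₀ y₀)
    (fun x hx => hvar x (subset_convexHull R _ hx)) hy₀ le_rfl
  have hsub : Set.range d ∩ {x | B y₀ x = B y₀ y₀} ⊆ d '' F.cham := by
    rintro _ ⟨⟨b, rfl⟩, hb⟩
    have hb' : B y₀ (d b) = B y₀ y₀ := hb
    have h1 := toLinearMap_d_le_and hd F hμ hb₀ b
    rw [toLinearMap_formVec, toLinearMap_formVec] at h1
    have h2 := hvar (d b₀) (subset_convexHull R _ ⟨b₀, rfl⟩)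
    obtain ⟨b', hb'c, hb'd⟩ := h1.2 (by linarith [h1.1])
    exact ⟨b', hb'c, hb'd⟩
  have hy₀' : y₀ ∈ dualSolid d F := convexHull_mono hsub hface
  exact ⟨⟨y₀, hF, hy₀'⟩, (yLocus_and_inter_eq_singleton hd F hF hy₀').1⟩

end Metric

end Groth.Agent.R2.H65.WeylCh
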