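import Groth.Agent.R2.H65RootChCCS5

/-!
# Complementary convex solids: the largest facet of maximal degree is special; existence and
uniqueness of the special facet
-/

set_option autoImplicit false
set_option linter.unusedSectionVars false

noncomputable section

namespace Groth.Agent.R2.H65.WeylCh

open RootCh RootPairing Module

universe u v w x

variable {ι : Type u} {R : Type v} {M : Type w} {N : Type x}

variable [Field R] [LinearOrder R] [IsStrictOrderedRing R]
  [AddCommGroup M] [Module R M] [AddCommGroup N] [Module R N] [Finite ι]
  {P : RootPairing ι R M N} [P.IsRootSystem] [P.IsCrystallographic] [P.IsReduced]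

section Existence

variable {F : Facet P} {b : P.Base}

/-- The roots vanishing on a facet vanish on the span of the dual facet. -/
lemma root'_eq_zero_of_mem_span_dualCarrier {y : N} (hy : y ∈ Submodule.span R F.dualCarrier)
    {i : ι} (hi : F.sgn i = 0) : P.root' i y = 0 := by
  induction hy using Submodule.span_induction with
  | mem x hx =>
    have h : cosgnVec P x = F.sgn := hx
    have : SignType.sign (P.root' i x) = 0 := by
      change cosgnVec P x i = 0
      rw [h, hi]
    exact sign_eq_zero_iff.mp this
  | zero => simp
  | add y z _ _ hy hz => rw [map_add, hy, hz, add_zero]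
  | smul a y _ hy => rw [map_smul, hy, smul_zero]

/-- Existence of the point `y(F)`: a vector of the span of the dual facet with prescribed
pairings with the corners of the facet. -/
lemma exists_mem_span_dualCarrier (hb : b ∈ F.cham) (x : N) :
    ∃ y ∈ Submodule.span R F.dualCarrier,
      ∀ m ∈ F.corners, P.toLinearMap m y = P.toLinearMap m x := by
  classical
  let κ := {k : b.support // F.sgn k = 1}
  let L : (κ → R) →ₗ[R] N := Fintype.linearCombination R (fun k : κ => fundCoweight b k.1)
  let T : (κ → R) →ₗ[R] (κ → R) :=
    LinearMap.pi (fun l : κ => (P.toLinearMap (fundWeight b l.1)) ∘ₗ L)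
  have hL : ∀ c, L c = ∑ k : κ, c k • fundCoweight b k.1 := fun c =>
    Fintype.linearCombination_apply R _ c
  have hLmem : ∀ c, L c ∈ Submodule.span R F.dualCarrier := by
    intro c
    rw [span_dualCarrier_eq, dualCorners_eq hb, hL]
    exact Submodule.sum_mem _ fun k _ =>
      Submodule.smul_mem _ _ (Submodule.subset_span ⟨k.1, k.2, rfl⟩)
  have hinj : Function.Injective T := by
    rw [← LinearMap.ker_eq_bot, LinearMap.ker_eq_bot']
    intro c hc
    have h0 : L c = 0 := by
      apply eq_zero_of_mem_span_dualCarrier F (hLmem c)
      intro m hm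
      rw [corners_eq hb] at hm
      obtain ⟨l, hl, rfl⟩ := hm
      exact congrFun hc ⟨l, hl⟩
    funext k
    have : P.root' k.1 (L c) = c k := by
      rw [hL, map_sum, Finset.sum_eq_single k]
      · rw [map_smul, root'_fundCoweight_self, smul_eq_mul, mul_one]
      · intro k' _ hk'
        rw [map_smul, root'_fundCoweight_of_ne b k'.1 k.1
          (fun h => hk' (Subtype.ext h).symm), smul_zero]
      · intro h; exact absurd (Finset.mem_univ k) h
    rw [← this, h0, map_zero]; rfl
  have hsurj : Function.Surjective T := LinearMap.injective_iff_surjective.mp hinj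
  obtain ⟨c, hc⟩ := hsurj (fun l => P.toLinearMap (fundWeight b l.1) x)
  refine ⟨L c, hLmem c, ?_⟩
  intro m hm
  rw [corners_eq hb] at hm
  obtain ⟨l, hl, rfl⟩ := hm
  exact congrFun hc ⟨l, hl⟩

/-- The coefficients of a root vanishing on a facet at the simple roots positive on the facet
vanish. -/
lemma rc_eq_zero_of_sgn_eq_zero (hb : b ∈ F.cham) {i : ι} (hi : F.sgn i = 0) (l : b.support)
    (hl : F.sgn l = 1) : rc b i l = 0 := by
  by_contra hne
  by_cases hpos : b.IsPos i
  · have := (sgn_of_isPos hb hpos).1.mp hi l hne
    rw [hl] at this; exact absurd this (by decide)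
  · have hpos' : b.IsPos (ineg P i) := (isPos_ineg_iff b i).mpr hpos
    have hi' : F.sgn (ineg P i) = 0 := by rw [sgn_ineg, hi]; rfl
    have := (sgn_of_isPos hb hpos').1.mp hi' l (by rw [rc_ineg]; exact neg_ne_zero.mpr hne)
    rw [hl] at this; exact absurd this (by decide)

end Existence

section MaxSpecial

variable {d : P.Base → N}

open Classical in
lemma sum_parab_sub_sum_parab {F G : Facet P} (h : F.parab ⊆ G.parab) (f : ι → R) :
    ∑ i ∈ (Set.toFinite G.parab).toFinset, f i - ∑ i ∈ (Set.toFinite F.parab).toFinset, f i =
      ∑ i ∈ (Set.toFinite G.parab).toFinset \ (Set.toFinite F.parab).toFinset, f i := by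
  classical
  have hsub : (Set.toFinite F.parab).toFinset ⊆ (Set.toFinite G.parab).toFinset := by
    intro i hi
    rw [Set.Finite.mem_toFinset] at hi ⊢
    exact h hi
  rw [← Finset.sum_sdiff hsub]
  ring

lemma sum_root_parab_mem_span_corners (F : Facet P) :
    (∑ i ∈ (Set.toFinite F.parab).toFinset, P.root i) ∈ Submodule.span R F.corners := by
  rw [← span_carrier_eq_span_corners]
  exact Submodule.subset_span (sum_root_parab_mem_carrier F)

lemma toLinearMap_sum_root_parab (F : Facet P) (x : N) :
    P.toLinearMap (∑ i ∈ (Set.toFinite F.parab).toFinset, P.root i) x =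
      ∑ i ∈ (Set.toFinite F.parab).toFinset, P.root' i x := by
  rw [map_sum, LinearMap.sum_apply]

/-- The largest facet of maximal degree is special. -/
theorem isSpecial_of_max (hd : IsCCS d) (F : Facet P) (b : P.Base) (hb : b ∈ F.cham)
    (hmax : ∀ (G : Facet P) (c : P.Base), c ∈ G.cham → G.deg d c ≤ F.deg d b)
    (hmaxl : ∀ (G : Facet P) (c : P.Base), c ∈ G.cham → G.deg d c = F.deg d b → F ≤ G → G = F) :
    IsSpecial d F := by
  classical
  obtain ⟨y, hy, hym⟩ := exists_mem_span_dualCarrier hb (d b)
  have hyv : ∀ v ∈ Submodule.span R F.corners, P.toLinearMap v y = P.toLinearMap v (d b) := by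
    intro v hv
    induction hv using Submodule.span_induction with
    | mem m hm => exact hym m hm
    | zero => simp
    | add v w _ _ hv hw => rw [map_add, LinearMap.add_apply, LinearMap.add_apply, hv, hw]
    | smul a v _ hv => rw [map_smul, LinearMap.smul_apply, LinearMap.smul_apply, hv]
  have hyb' : ∀ b' ∈ F.cham, ∀ v ∈ Submodule.span R F.corners,
      P.toLinearMap v y = P.toLinearMap v (d b') := by
    intro b' hb' v hv
    rw [hyv v hv]
    exact toLinearMap_eq_of_mem_span_corners hd F hb hb' hv
  have hρF := sum_root_parab_mem_span_corners F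
  have hFy : F.deg d b = ∑ i ∈ (Set.toFinite F.parab).toFinset, P.root' i y := by
    rw [deg_eq_toLinearMap, ← hyv _ hρF, toLinearMap_sum_root_parab]
  refine ⟨y, ?_, ?_⟩
  · -- `y` lies in the dual facet
    rw [mem_dualCarrier_iff hb]
    intro k
    refine ⟨fun h0 => root'_eq_zero_of_mem_span_dualCarrier hy h0, fun h1 => ?_⟩
    set S : Set b.support := {j | F.sgn j = 1} \ {k} with hS
    set G := facetOf b S with hG
    have hbG : b ∈ G.cham := mem_cham_facetOf b S
    have hGs1 : ∀ l : b.support, l ∈ S → G.sgn l = 1 := fun l hl => by
      rw [hG, facetOf_sgn_simple, if_pos hl]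
    have hGs0 : ∀ l : b.support, l ∉ S → G.sgn l = 0 := fun l hl => by
      rw [hG, facetOf_sgn_simple, if_neg hl]
    have hGk : G.sgn k = 0 := hGs0 k (fun h => h.2 rfl)
    have hsub : F.parab ⊆ G.parab := by
      intro i hi
      rw [mem_parab_iff hb] at hi
      rw [mem_parab_iff hbG]
      rcases hi with h | h
      · exact Or.inl h
      · right
        intro l hl
        have h0 := h l hl
        apply hGs0
        intro hmem
        have h1' : F.sgn l = 1 := hmem.1
        rw [h0] at h1'
        exact absurd h1' (by decide)
    have hFG : F ≤ G := (le_iff_parab_subset F G).mpr hsub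
    have hne : G ≠ F := by
      intro h
      rw [h] at hGk
      rw [hGk] at h1
      exact absurd h1 (by decide)
    have hlt : G.deg d b < F.deg d b :=
      lt_of_le_of_ne (hmax G b hbG) (fun h => hne (hmaxl G b hbG h hFG))
    have hρG : (∑ i ∈ (Set.toFinite G.parab).toFinset, P.root i) ∈
        Submodule.span R F.corners := by
      refine Submodule.span_mono ?_ (sum_root_parab_mem_span_corners G)
      rw [hG, corners_facetOf, corners_eq hb]
      exact Set.image_mono Set.sdiff_subset
    have hGy : G.deg d b = ∑ i ∈ (Set.toFinite G.parab).toFinset, P.root' i y := by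
      rw [deg_eq_toLinearMap, ← hyv _ hρG, toLinearMap_sum_root_parab]
    have hdiff : ∑ i ∈ (Set.toFinite G.parab).toFinset \ (Set.toFinite F.parab).toFinset,
        P.root' i y < 0 := by
      rw [← sum_parab_sub_sum_parab hsub, ← hGy, ← hFy]; linarith
    have hterm : ∀ i ∈ (Set.toFinite G.parab).toFinset \ (Set.toFinite F.parab).toFinset,
        P.root' i y = rc b i k * P.root' k y ∧ rc b i k ≤ 0 := by
      intro i hi
      rw [Finset.mem_sdiff, Set.Finite.mem_toFinset, Set.Finite.mem_toFinset] at hi
      obtain ⟨hiG, hiF⟩ := hi
      have hFi : F.sgn i = -1 := by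
        by_contra h; exact hiF h
      have hGi : G.sgn i = 0 := by
        rcases hFG i with h | h
        · exact h
        · exfalso; apply hiG; rw [h, hFi]
      have hnpos : ¬ b.IsPos i := fun hp => sgn_ne_neg_one_of_isPos hb hp hFi
      refine ⟨?_, rc_nonpos_of_not_isPos b hnpos k⟩
      rw [root'_eq_sum b i y, Finset.sum_eq_single k]
      · intro l _ hlk
        rcases sgn_simple hb l with h0 | h1'
        · rw [root'_eq_zero_of_mem_span_dualCarrier hy h0, mul_zero]
        · rw [rc_eq_zero_of_sgn_eq_zero hbG hGi l (hGs1 l ⟨h1', hlk⟩), zero_mul]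
      · intro h; exact absurd (Finset.mem_univ k) h
    by_contra hle
    push Not at hle
    have : 0 ≤ ∑ i ∈ (Set.toFinite G.parab).toFinset \ (Set.toFinite F.parab).toFinset,
        P.root' i y := Finset.sum_nonneg fun i hi => by
      rw [(hterm i hi).1]; exact mul_nonneg_of_nonpos_of_nonpos (hterm i hi).2 hle
    linarith
  · -- `y` lies in the dual solid
    rw [dualSolid_eq hd]
    refine ⟨Set.mem_iInter₂.mpr fun m hm => ?_, Set.mem_iInter₂.mpr fun m hm => ?_⟩
    · intro b' hmb'
      rw [hym m hm]
      exact hd.corner_eq b b' m (corner_mem_baseCorners hb hm) hmb'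
    · obtain ⟨b', hb', hmb'⟩ := Set.mem_iUnion₂.mp hm
      intro b'' hmb''
      rw [hd.corner_eq b'' b' m hmb'' hmb']
      rw [baseCorners_eq] at hmb'
      obtain ⟨l, rfl⟩ := hmb'
      rcases sgn_simple hb' l with h0 | h1
      swap
      · have hm' : fundWeight b' l ∈ F.corners := by rw [corners_eq hb']; exact ⟨l, h1, rfl⟩
        rw [hyb' b' hb' _ (Submodule.subset_span hm')]
      set S : Set b'.support := {j | F.sgn j = 1} ∪ {l} with hS
      set G := facetOf b' S with hG
      have hbG : b' ∈ G.cham := mem_cham_facetOf b' S
      have hGs1 : ∀ j : b'.support, j ∈ S → G.sgn j = 1 := fun j hj => by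
        rw [hG, facetOf_sgn_simple, if_pos hj]
      have hGs0 : ∀ j : b'.support, j ∉ S → G.sgn j = 0 := fun j hj => by
        rw [hG, facetOf_sgn_simple, if_neg hj]
      have hsub : G.parab ⊆ F.parab := by
        intro i hi
        rw [mem_parab_iff hbG] at hi
        rw [mem_parab_iff hb']
        rcases hi with h | h
        · exact Or.inl h
        · right
          intro j hj
          have h0' := h j hj
          rcases sgn_simple hb' j with hj0 | hj1
          · exact hj0
          · rw [hGs1 j (Or.inl hj1)] at h0'
            exact absurd h0' (by decide)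
      have hGF : G ≤ F := (le_iff_parab_subset G F).mpr hsub
      have hle := hmax G b' hbG
      have h0' : ∑ i ∈ (Set.toFinite F.parab).toFinset \ (Set.toFinite G.parab).toFinset,
          P.root' i y = 0 := Finset.sum_eq_zero fun i hi => by
        rw [Finset.mem_sdiff, Set.Finite.mem_toFinset, Set.Finite.mem_toFinset] at hi
        obtain ⟨hiF, hiG⟩ := hi
        have hGi : G.sgn i = -1 := by
          by_contra h; exact hiG h
        have hFi : F.sgn i = 0 := by
          rcases hGF i with h | h
          · exact h
          · exfalso; apply hiF; rw [h, hGi]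
        exact root'_eq_zero_of_mem_span_dualCarrier hy hFi
      set ρG : M := ∑ i ∈ (Set.toFinite G.parab).toFinset, P.root i with hρGdef
      set ρF : M := ∑ i ∈ (Set.toFinite F.parab).toFinset, P.root i with hρFdef
      have hρy : P.toLinearMap ρG y = P.toLinearMap ρF y := by
        rw [hρGdef, hρFdef, toLinearMap_sum_root_parab, toLinearMap_sum_root_parab]
        have := sum_parab_sub_sum_parab hsub (fun i => P.root' i y)
        rw [h0'] at this
        linarith
      have hexp : ∀ x : N, P.toLinearMap ρG x =
          ∑ j : b'.support, P.coroot' j ρG * P.toLinearMap (fundWeight b' j) x := by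
        intro x
        have hexp' : P.toLinearMap ρG x =
            P.toLinearMap (∑ j : b'.support, P.coroot' j ρG • fundWeight b' j) x := by
          rw [← weight_eq_sum b' ρG]
        rw [hexp', map_sum, LinearMap.sum_apply]
        refine Finset.sum_congr rfl fun j _ => ?_
        rw [map_smul, LinearMap.smul_apply, smul_eq_mul]
      have hdiff : P.toLinearMap ρG (d b') - P.toLinearMap ρG y =
          P.coroot' l ρG * (P.toLinearMap (fundWeight b' l) (d b') -
            P.toLinearMap (fundWeight b' l) y) := by
        rw [hexp, hexp, ← Finset.sum_sub_distrib, Finset.sum_eq_single l]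
        · ring
        · intro j _ hjl
          rcases sgn_simple hb' j with hj0 | hj1
          · have hGj : G.sgn j = 0 := by
              apply hGs0
              rintro (h | h)
              · have h' : F.sgn j = 1 := h
                rw [hj0] at h'; exact absurd h' (by decide)
              · exact hjl h
            rw [hρGdef, coroot'_sum_parab_eq_zero G hGj]; ring
          · have hm' : fundWeight b' j ∈ F.corners := by
              rw [corners_eq hb']; exact ⟨j, hj1, rfl⟩
            rw [hyb' b' hb' _ (Submodule.subset_span hm')]; ring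
        · intro h; exact absurd (Finset.mem_univ l) h
      have hgl : 0 < P.coroot' l ρG :=
        coroot'_sum_parab_pos G (hGs1 l (Or.inr rfl))
      have hle' : P.toLinearMap ρG (d b') - P.toLinearMap ρG y ≤ 0 := by
        have e1 : P.toLinearMap ρG (d b') = G.deg d b' := (deg_eq_toLinearMap d G b').symm
        have e2 : P.toLinearMap ρF y = F.deg d b := by
          rw [hyv _ hρF]; exact (deg_eq_toLinearMap d F b).symm
        rw [hρy, e1, e2]
        linarith
      rw [hdiff] at hle'
      by_contra hcon
      push Not at hcon
      have := mul_pos hgl (sub_pos.mpr hcon)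
      linarith

end MaxSpecial

section ExistsUnique

variable {d : P.Base → N}

instance finite_facet : Finite (Facet P) := by
  apply Finite.of_injective (fun F : Facet P => F.sgn)
  intro F G h
  exact Facet.ext h

/-- There is exactly one special facet. -/
theorem existsUnique_isSpecial (hd : IsCCS d) : ∃! F : Facet P, IsSpecial d F := by
  classical
  -- the degree of a facet, computed at a chosen adjacent chamber
  let D : Facet P → R := fun G => G.deg d (Classical.choose (cham_nonempty G))
  have hD : ∀ (G : Facet P) (c : P.Base), c ∈ G.cham → G.deg d c = D G := fun G c hc =>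
    deg_eq_deg_of_mem_cham hd G hc (Classical.choose_spec (cham_nonempty G))
  have : Nonempty (Facet P) := ⟨Facet.origin P⟩
  obtain ⟨F₀, hF₀⟩ := Finite.exists_max D
  obtain ⟨F, -, hFmax⟩ := Finite.exists_le_maximal (p := fun G : Facet P => D G = D F₀) rfl
  obtain ⟨b, hb⟩ := cham_nonempty F
  have hFD : F.deg d b = D F₀ := by rw [hD F b hb]; exact hFmax.1
  have hsp : IsSpecial d F := by
    apply isSpecial_of_max hd F b hb
    · intro G c hc
      rw [hD G c hc, hFD]
      exact hF₀ G
    · intro G c hc heq hFG
      have hG : D G = D F₀ := by rw [← hD G c hc, heq, hFD]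
      exact le_antisymm (hFmax.2 hG hFG) hFG
  refine ⟨F, hsp, fun F' hsp' => ?_⟩
  obtain ⟨b', hb'⟩ := cham_nonempty F'
  have h1 := deg_le_of_isSpecial hd F hb hsp
  have h2 := deg_le_of_isSpecial hd F' hb' hsp'
  have heq : F'.deg d b' = F.deg d b := le_antisymm (h1.1 F' b' hb') (h2.1 F b hb)
  exact le_antisymm (h1.2 F' b' hb' heq) (h2.2 F b hb heq.symm)

end ExistsUnique

end Groth.Agent.R2.H65.WeylCh
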