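import Groth.Agent.R2.H65RootChSums

/-!
# Fundamental weights versus fundamental coweights; the dual facet
-/

set_option autoImplicit false
set_option linter.unusedSectionVars false

noncomputable section

namespace Groth.Agent.R2.H65.WeylCh

open RootCh RootPairing Module

universe u v w x

variable {ι : Type u} {R : Type v} {M : Type w} {N : Type x}

variable [Field R] [LinearOrder R] [IsStrictOrderedRing R]
  [AddCommGroup M] [Module R M] [AddCommGroup N] [Module R N] [Finite ι]
  {P : RootPairing ι R M N} [P.IsRootSystem] [P.IsCrystallographic] [P.IsReduced]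

section Pol

/-- The polarization `M → N`, for `[Finite ι]`. -/
def pol (P : RootPairing ι R M N) : M →ₗ[R] N :=
  letI := Fintype.ofFinite ι
  P.Polarization

lemma pol_root (i : ι) : pol P (P.root i) = (rlen P i / 2) • P.coroot i := by
  let _ := Fintype.ofFinite ι
  exact polarization_root P i

lemma toLinearMap_pol_symm (x y : M) :
    P.toLinearMap y (pol P x) = P.toLinearMap x (pol P y) := by
  let _ := Fintype.ofFinite ι
  change P.toLinearMap y (P.Polarization x) = P.toLinearMap x (P.Polarization y)
  rw [P.toLinearMap_apply_apply_Polarization, P.toLinearMap_apply_apply_Polarization]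
  have hs := P.rootForm_symmetric.eq x y
  simpa using hs

lemma root'_pol (l : ι) (x : M) : P.root' l (pol P x) = rlen P l / 2 * P.coroot' l x := by
  change P.toLinearMap (P.root l) (pol P x) = _
  rw [toLinearMap_pol_symm, pol_root, map_smul, smul_eq_mul]
  rfl

open Classical in
lemma fundCoweight_eq_of_pairing (b : P.Base) (k : b.support) (y : N)
    (h : ∀ l : b.support, P.root' l y = if l = k then 1 else 0) : y = fundCoweight b k :=
  fundWeight_eq_of_pairing (P := P.flip) b.flip k y h

/-- The fundamental coweight is a positive multiple of the polarization of the fundamental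
weight. -/
lemma fundCoweight_eq_smul_pol (b : P.Base) (j : b.support) :
    fundCoweight b j = (2 / rlen P j) • pol P (fundWeight b j) := by
  classical
  symm
  apply fundCoweight_eq_of_pairing b j
  intro l
  rw [map_smul, root'_pol, coroot'_fundWeight b l j, smul_eq_mul]
  have hj := (rlen_pos (P := P) j).ne'
  by_cases h : l = j
  · subst h
    rw [if_pos rfl]
    field_simp
  · rw [if_neg h]
    simp

end Pol

section Corr

lemma int_eq_one_of_mul_eq_one {a c : R} (ha : ∃ z : ℤ, a = z) (hc : ∃ z : ℤ, c = z)
    (hpos : 0 < a) (h : a * c = 1) : a = 1 := by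
  obtain ⟨z, rfl⟩ := ha
  obtain ⟨z', rfl⟩ := hc
  have hz : z * z' = 1 := by exact_mod_cast h
  have hzpos : 0 < z := by exact_mod_cast hpos
  have : z = 1 := Int.eq_one_of_mul_eq_one_right hzpos.le hz
  rw [this]; simp

/-- If a fundamental weight of `b` at `j` equals a fundamental weight of `b'` at `i` then the
simple roots have the same length. -/
lemma rlen_eq_of_fundWeight_eq {b b' : P.Base} {j : b.support} {i : b'.support}
    (h : fundWeight b j = fundWeight b' i) : rlen P (j : ι) = rlen P (i : ι) := by
  have h1 : cc b i j = 1 := by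
    unfold cc; rw [h]; exact coroot'_fundWeight_self b' i
  have h2 : cc b' j i = 1 := by
    unfold cc; rw [← h]; exact coroot'_fundWeight_self b j
  rw [cc_eq] at h1 h2
  have hi := rlen_pos (P := P) (i : ι)
  have hj := rlen_pos (P := P) (j : ι)
  have hprod : rc b i j * rc b' j i = 1 := by
    have : (rc b i j * rlen P j / rlen P i) * (rc b' j i * rlen P i / rlen P j) = 1 := by
      rw [h1, h2, one_mul]
    field_simp at this
    linarith
  have hpos : 0 < rc b i j := by
    by_contra hn
    have hn' : rc b i j * rlen P j / rlen P i ≤ 0 :=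
      div_nonpos_of_nonpos_of_nonneg (mul_nonpos_of_nonpos_of_nonneg (not_lt.mp hn) hj.le) hi.le
    rw [h1] at hn'
    linarith
  have hone := int_eq_one_of_mul_eq_one (rc_int b i j) (rc_int b' j i) hpos hprod
  rw [hone, one_mul] at h1
  field_simp at h1
  exact h1

/-- The fundamental coweight attached to a fundamental weight does not depend on the base. -/
theorem fundCoweight_eq_of_fundWeight_eq {b b' : P.Base} {j : b.support} {i : b'.support}
    (h : fundWeight b j = fundWeight b' i) : fundCoweight b j = fundCoweight b' i := by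
  rw [fundCoweight_eq_smul_pol, fundCoweight_eq_smul_pol, h, rlen_eq_of_fundWeight_eq h]

/-- The fundamental weight attached to a fundamental coweight does not depend on the base. -/
theorem fundWeight_eq_of_fundCoweight_eq {b b' : P.Base} {j : b.support} {i : b'.support}
    (h : fundCoweight b j = fundCoweight b' i) : fundWeight b j = fundWeight b' i :=
  fundCoweight_eq_of_fundWeight_eq (P := P.flip) (b := b.flip) (b' := b'.flip) (j := j) (i := i) h

lemma corr_iff (b : P.Base) (j : b.support) (y : N) :
    Corr P (fundWeight b j) y ↔ y = fundCoweight b j := by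
  constructor
  · rintro ⟨b', i, h1, rfl⟩
    exact fundCoweight_eq_of_fundWeight_eq h1
  · rintro rfl
    exact ⟨b, j, rfl, rfl⟩

end Corr

section DualFacet

lemma rc_flip (b : P.Base) (i : ι) (j : b.support) :
    rc (P := P.flip) b.flip i j = cc b i j := rfl

lemma cc_nonneg_iff (b : P.Base) (i : ι) (j : b.support) : 0 ≤ cc b i j ↔ 0 ≤ rc b i j := by
  rw [cc_eq]
  have hi := rlen_pos (P := P) i
  have hj := rlen_pos (P := P) (j : ι)
  constructor
  · intro h
    by_contra hn
    push Not at hn
    have : rc b i j * rlen P j / rlen P i < 0 :=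
      div_neg_of_neg_of_pos (mul_neg_of_neg_of_pos hn hj) hi
    linarith
  · intro h
    exact div_nonneg (mul_nonneg h hj.le) hi.le

lemma isPos_flip_iff_cc_nonneg (b : P.Base) (i : ι) :
    b.flip.IsPos i ↔ ∀ j : b.support, 0 ≤ cc b i j :=
  isPos_iff_rc_nonneg (P := P.flip) b.flip i

lemma isPos_flip_iff (b : P.Base) (i : ι) : b.flip.IsPos i ↔ b.IsPos i := by
  rw [isPos_flip_iff_cc_nonneg, isPos_iff_rc_nonneg]
  refine forall_congr' fun j => ?_
  rw [cc_nonneg_iff]

/-- The signs of a facet on positive roots, through an adjacent chamber. -/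
lemma sgn_of_isPos {F : Facet P} {b : P.Base} (hb : b ∈ F.cham) {i : ι} (hi : b.IsPos i) :
    (F.sgn i = 0 ↔ ∀ j : b.support, rc b i j ≠ 0 → F.sgn j = 0) ∧ (F.sgn i ≠ 0 → F.sgn i = 1) := by
  obtain ⟨ξ, hξ⟩ := carrier_nonempty F
  have hξ' : sgnVec P ξ = F.sgn := hξ
  have := sgnVec_of_mem_closedChamber b (hb hξ) hi
  rw [hξ'] at this
  exact this

lemma sgn_of_isPos_flip {G : Facet P.flip} {b : P.Base} (hb' : b.flip ∈ G.cham) {i : ι}
    (hi : b.flip.IsPos i) :
    (G.sgn i = 0 ↔ ∀ j : b.support, cc b i j ≠ 0 → G.sgn j = 0) ∧ (G.sgn i ≠ 0 → G.sgn i = 1) :=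
  sgn_of_isPos (P := P.flip) hb' hi

lemma ineg_flip (i : ι) : ineg P.flip i = ineg P i := rfl

/-- A facet of `P` and a facet of the dual root system, adjacent to the same chamber and with the
same signs on the simple roots, have the same sign vectors. -/
lemma sgn_eq_of_simple_flip {F : Facet P} {G : Facet P.flip} {b : P.Base} (hb : b ∈ F.cham)
    (hb' : b.flip ∈ G.cham) (h : ∀ j : b.support, F.sgn j = G.sgn j) : F.sgn = G.sgn := by
  have key : ∀ i, b.IsPos i → F.sgn i = G.sgn i := by
    intro i hi
    have hi' : b.flip.IsPos i := (isPos_flip_iff b i).mpr hi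
    obtain ⟨h1, h2⟩ := sgn_of_isPos hb hi
    obtain ⟨h3, h4⟩ := sgn_of_isPos_flip hb' hi'
    have h3' : G.sgn i = 0 ↔ ∀ j : b.support, rc b i j ≠ 0 → G.sgn j = 0 := by
      rw [h3]
      refine forall_congr' fun j => ?_
      rw [Ne, cc_eq_zero_iff]
    by_cases hz : F.sgn i = 0
    · rw [hz, eq_comm, h3']
      intro j hj
      rw [← h j]; exact h1.mp hz j hj
    · have hz' : G.sgn i ≠ 0 := by
        intro h0
        apply hz
        rw [h1]
        intro j hj
        rw [h j]; exact h3'.mp h0 j hj
      rw [h2 hz, h4 hz']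
  funext i
  by_cases hi : b.IsPos i
  · exact key i hi
  · have hi' : b.IsPos (ineg P i) := (isPos_ineg_iff b i).mpr hi
    have := key _ hi'
    rw [sgn_ineg F, ← ineg_flip, sgn_ineg (P := P.flip) G, neg_inj] at this
    exact this

lemma exists_cosgnVec_eq (F : Facet P) : ∃ x : N, cosgnVec P x = F.sgn := by
  classical
  obtain ⟨b, hb⟩ := cham_nonempty F
  let G : Facet P.flip := facetOf (P := P.flip) b.flip {j | F.sgn j = 1}
  have hG : b.flip ∈ G.cham := mem_cham_facetOf (P := P.flip) b.flip _
  have hs : F.sgn = G.sgn := by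
    apply sgn_eq_of_simple_flip hb hG
    intro j
    have := facetOf_sgn_simple (P := P.flip) b.flip {j | F.sgn j = 1} j
    change G.sgn j = _ at this
    rw [this]
    rcases sgn_simple hb j with h0 | h1
    · rw [if_neg, h0]
      change ¬ F.sgn j = 1
      rw [h0]; decide
    · rw [if_pos, h1]
      exact h1
  obtain ⟨x, hx⟩ := G.exists_sgnVec_eq
  exact ⟨x, by rw [hs, ← hx]; rfl⟩

/-- The dual facet: the facet of the dual root system with the same sign vector. -/
def dualFacet (F : Facet P) : Facet P.flip := ⟨F.sgn, exists_cosgnVec_eq F⟩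

lemma dualFacet_sgn (F : Facet P) : (dualFacet F).sgn = F.sgn := rfl

lemma dualFacet_carrier (F : Facet P) : (dualFacet F).carrier = F.dualCarrier := rfl

lemma dualFacet_corners (F : Facet P) : (dualFacet F).corners = F.dualCorners := rfl

lemma flip_mem_cham_dualFacet {F : Facet P} {b : P.Base} (hb : b ∈ F.cham) :
    b.flip ∈ (dualFacet F).cham := by
  rw [mem_cham_iff] at hb ⊢
  exact hb

theorem dualCorners_eq {F : Facet P} {b : P.Base} (hb : b ∈ F.cham) :
    F.dualCorners = fundCoweight b '' {j : b.support | F.sgn j = 1} := by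
  rw [← dualFacet_corners, corners_eq (P := P.flip) (flip_mem_cham_dualFacet hb)]
  rfl

theorem dualCorners_eq_setOf_corr (F : Facet P) :
    F.dualCorners = {y : N | ∃ m ∈ F.corners, Corr P m y} := by
  obtain ⟨b, hb⟩ := cham_nonempty F
  rw [dualCorners_eq hb, corners_eq hb]
  ext y
  constructor
  · rintro ⟨j, hj, rfl⟩
    exact ⟨fundWeight b j, ⟨j, hj, rfl⟩, (corr_iff b j _).mpr rfl⟩
  · rintro ⟨_, ⟨j, hj, rfl⟩, hy⟩
    exact ⟨j, hj, ((corr_iff b j y).mp hy).symm⟩

/-- For a positive root, the sign on the facet is zero or one. -/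
lemma sgn_ne_neg_one_of_isPos {F : Facet P} {b : P.Base} (hb : b ∈ F.cham) {i : ι}
    (hi : b.IsPos i) : F.sgn i ≠ -1 := by
  obtain ⟨-, h2⟩ := sgn_of_isPos hb hi
  by_cases hz : F.sgn i = 0
  · rw [hz]; decide
  · rw [h2 hz]; decide

lemma root'_fundCoweight_eq_rc (b : P.Base) (i : ι) (j : b.support) :
    P.root' i (fundCoweight b j) = rc b i j := rfl

theorem corners_eq_setOf_nonneg_on_parab (F : Facet P) :
    F.corners = {m : M | m ∈ fundWeights P ∧
      ∀ y : N, Corr P m y → ∀ i ∈ F.parab, 0 ≤ P.root' i y} := by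
  classical
  obtain ⟨b, hb⟩ := cham_nonempty F
  apply Set.Subset.antisymm
  · intro m hm
    have hm' := hm
    rw [corners_eq hb] at hm'
    obtain ⟨j, hj, rfl⟩ := hm'
    refine ⟨hm.1, fun y hy i hi => ?_⟩
    rw [(corr_iff b j y).mp hy, root'_fundCoweight_eq_rc]
    by_cases hpos : b.IsPos i
    · exact rc_nonneg_of_isPos b hpos j
    · have hpos' : b.IsPos (ineg P i) := (isPos_ineg_iff b i).mpr hpos
      have h1 := sgn_ne_neg_one_of_isPos hb hpos'
      rw [sgn_ineg] at h1
      have hi' : F.sgn i ≠ -1 := hi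
      have h0 : F.sgn i = 0 := by
        revert h1 hi'
        generalize F.sgn i = s
        cases s <;> decide
      have h0' : F.sgn (ineg P i) = 0 := by rw [sgn_ineg, h0]; rfl
      have := (sgn_of_isPos hb hpos').1.mp h0' j
      have hz : rc b (ineg P i) j = 0 := by
        by_contra hne
        have := this hne
        change F.sgn j = 1 at hj
        rw [this] at hj
        exact absurd hj (by decide)
      rw [rc_ineg, neg_eq_zero] at hz
      rw [hz]
  · rintro m ⟨⟨b', k, rfl⟩, hm⟩
    have hy := hm (fundCoweight b' k) ⟨b', k, rfl, rfl⟩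
    have hcl : fundCoweight b' k ∈ closedChamber (P := P.flip) b.flip := by
      intro j hj
      exact hy j (sgn_ne_neg_one_of_isPos hb (RootPairing.Base.isPos_of_mem_support hj))
    have hfw : fundCoweight b' k ∈ fundWeights P.flip := ⟨b'.flip, k, rfl⟩
    obtain ⟨⟨j₀, hjs⟩, hj⟩ :=
      mem_range_fundWeight_of_mem_closedChamber (P := P.flip) b.flip hfw hcl
    have hjs' : j₀ ∈ b.support := hjs
    obtain ⟨j, hjdef⟩ : ∃ j : b.support, j = ⟨j₀, hjs'⟩ := ⟨_, rfl⟩
    have hj' : fundCoweight b j = fundCoweight b' k := by rw [hjdef]; exact hj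
    have hw := fundWeight_eq_of_fundCoweight_eq hj'
    rw [← hw, corners_eq hb]
    refine ⟨j, ?_, rfl⟩
    rcases sgn_simple hb j with h0 | h1
    · exfalso
      have hneg : ineg P (j : ι) ∈ F.parab := by
        change F.sgn (ineg P (j : ι)) ≠ -1
        rw [sgn_ineg, h0]; decide
      have := hy _ hneg
      rw [root'_ineg, ← hj', root'_fundCoweight_self] at this
      linarith
    · exact h1

end DualFacet

end Groth.Agent.R2.H65.WeylCh
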