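import Groth.Agent.R2.H65RootChGallery

/-!
# Facets of a finite root system: description through an adjacent chamber
-/

set_option autoImplicit false
set_option linter.unusedSectionVars false

noncomputable section

namespace Groth.Agent.R2.H65.WeylCh

open RootCh RootPairing Module

universe u v w x

variable {ι : Type u} {R : Type v} {M : Type w} {N : Type x}

variable [Field R] [LinearOrder R] [IsStrictOrderedRing R]
  [AddCommGroup M] [Module R M] [AddCommGroup N] [Module R N] [Finite ι]
  {P : RootPairing ι R M N} [P.IsRootSystem] [P.IsCrystallographic] [P.IsReduced]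

section Signs

lemma sgnVec_apply (ξ : M) (i : ι) : sgnVec P ξ i = SignType.sign (P.coroot' i ξ) := rfl

lemma sgnVec_ineg (ξ : M) (i : ι) : sgnVec P ξ (ineg P i) = - sgnVec P ξ i := by
  rw [sgnVec_apply, sgnVec_apply, coroot'_ineg, Left.sign_neg]

lemma sgn_ineg (F : Facet P) (i : ι) : F.sgn (ineg P i) = - F.sgn i := by
  obtain ⟨ξ, hξ⟩ := F.exists_sgnVec_eq
  rw [← hξ, sgnVec_ineg]

lemma carrier_nonempty (F : Facet P) : F.carrier.Nonempty := F.exists_sgnVec_eq

lemma sign_ne_neg_one_iff (a : R) : SignType.sign a ≠ -1 ↔ 0 ≤ a := by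
  rw [Ne, sign_eq_neg_one_iff, not_lt]

lemma mem_cham_iff (F : Facet P) (b : P.Base) :
    b ∈ F.cham ↔ ∀ j ∈ b.support, F.sgn j ≠ -1 := by
  constructor
  · intro hb j hj
    obtain ⟨ξ, hξ⟩ := carrier_nonempty F
    have h1 : ξ ∈ closedChamber b := hb hξ
    have hξ' : sgnVec P ξ = F.sgn := hξ
    rw [← hξ', sgnVec_apply, sign_ne_neg_one_iff]
    exact h1 j hj
  · intro h ξ hξ j hj
    have hξ' : sgnVec P ξ = F.sgn := hξ
    have := h j hj
    rw [← hξ', sgnVec_apply, sign_ne_neg_one_iff] at this
    exact this

lemma mem_cham_of_mem (F : Facet P) (b : P.Base) {ξ : M} (hξ : ξ ∈ F.carrier)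
    (hb : ξ ∈ closedChamber b) : b ∈ F.cham := by
  rw [mem_cham_iff]
  intro j hj
  have hξ' : sgnVec P ξ = F.sgn := hξ
  rw [← hξ', sgnVec_apply, sign_ne_neg_one_iff]
  exact hb j hj

lemma cham_nonempty (F : Facet P) : ∃ b : P.Base, b ∈ F.cham := by
  obtain ⟨ξ, hξ⟩ := carrier_nonempty F
  obtain ⟨b, hb⟩ := exists_mem_closedChamber (P := P) ξ
  exact ⟨b, mem_cham_of_mem F b hξ hb⟩

end Signs

section Structure

variable (F : Facet P) (b : P.Base)

/-- The sign of a positive root on a vector of the closed chamber, through the simple signs. -/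
lemma sgnVec_of_mem_closedChamber {ξ : M} (hξ : ξ ∈ closedChamber b) {i : ι} (hi : b.IsPos i) :
    (sgnVec P ξ i = 0 ↔ ∀ j : b.support, rc b i j ≠ 0 → sgnVec P ξ j = 0) ∧
    (sgnVec P ξ i ≠ 0 → sgnVec P ξ i = 1) := by
  constructor
  · rw [sgnVec_apply, sign_eq_zero_iff, coroot'_eq_zero_iff_of_mem_closedChamber b hξ hi]
    simp only [sgnVec_apply, sign_eq_zero_iff]
  · intro h
    rw [sgnVec_apply, Ne, sign_eq_zero_iff] at h
    rw [sgnVec_apply, sign_eq_one_iff]
    exact lt_of_le_of_ne (coroot'_nonneg_of_mem_closedChamber b hξ hi) (Ne.symm h)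

/-- Two vectors of the closed chamber with the same simple signs have the same signs. -/
lemma sgnVec_eq_of_simple {ξ η : M} (hξ : ξ ∈ closedChamber b) (hη : η ∈ closedChamber b)
    (h : ∀ j : b.support, sgnVec P ξ j = sgnVec P η j) : sgnVec P ξ = sgnVec P η := by
  have key : ∀ i, b.IsPos i → sgnVec P ξ i = sgnVec P η i := by
    intro i hi
    obtain ⟨h1, h2⟩ := sgnVec_of_mem_closedChamber b hξ hi
    obtain ⟨h3, h4⟩ := sgnVec_of_mem_closedChamber b hη hi
    by_cases hz : sgnVec P ξ i = 0
    · rw [hz, eq_comm, h3]
      intro j hj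
      rw [← h j]; exact h1.mp hz j hj
    · have hz' : sgnVec P η i ≠ 0 := by
        intro h0
        apply hz
        rw [h1]
        intro j hj
        rw [h j]; exact h3.mp h0 j hj
      rw [h2 hz, h4 hz']
  funext i
  by_cases hi : b.IsPos i
  · exact key i hi
  · have hi' : b.IsPos (ineg P i) := (isPos_ineg_iff b i).mpr hi
    have := key _ hi'
    rw [sgnVec_ineg, sgnVec_ineg, neg_inj] at this
    exact this

variable {F b}

lemma mem_closedChamber_of_mem_carrier (hb : b ∈ F.cham) {ξ : M} (hξ : ξ ∈ F.carrier) :
    ξ ∈ closedChamber b := hb hξ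

lemma mem_carrier_iff (hb : b ∈ F.cham) (η : M) :
    η ∈ F.carrier ↔ ∀ j : b.support, sgnVec P η j = F.sgn j := by
  constructor
  · intro h j
    have h' : sgnVec P η = F.sgn := h
    rw [h']
  · intro h
    obtain ⟨ξ, hξ⟩ := carrier_nonempty F
    have hξ' : sgnVec P ξ = F.sgn := hξ
    have hη : η ∈ closedChamber b := by
      intro j hj
      have := (mem_cham_iff F b).mp hb j hj
      rw [← h ⟨j, hj⟩, sgnVec_apply, sign_ne_neg_one_iff] at this
      exact this
    change sgnVec P η = F.sgn
    rw [← hξ']
    apply sgnVec_eq_of_simple b hη (hb hξ)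
    intro j
    rw [h j, hξ']

lemma sgn_simple (hb : b ∈ F.cham) (j : b.support) : F.sgn j = 0 ∨ F.sgn j = 1 := by
  have := (mem_cham_iff F b).mp hb j j.2
  rcases h : F.sgn j with _ | _ | _
  · left; rfl
  · exact absurd h this
  · right; rfl

lemma mem_closure_iff (hb : b ∈ F.cham) (η : M) :
    η ∈ F.closure ↔ ∀ j : b.support, 0 ≤ P.coroot' j η ∧ (F.sgn j = 0 → P.coroot' j η = 0) := by
  constructor
  · intro h j
    have hj := h j
    rcases sgn_simple hb j with h0 | h1
    · rw [h0, or_self, sgnVec_apply, sign_eq_zero_iff] at hj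
      exact ⟨hj.ge, fun _ => hj⟩
    · rw [h1, sgnVec_apply, sign_eq_zero_iff, sign_eq_one_iff] at hj
      refine ⟨?_, fun h0 => ?_⟩
      · rcases hj with hj | hj
        · exact hj.ge
        · exact hj.le
      · rw [h1] at h0; exact absurd h0 (by decide)
  · intro h
    obtain ⟨ξ, hξ⟩ := carrier_nonempty F
    have hξ' : sgnVec P ξ = F.sgn := hξ
    have hξb : ξ ∈ closedChamber b := hb hξ
    have hη : η ∈ closedChamber b := fun j hj => (h ⟨j, hj⟩).1
    have key : ∀ i, b.IsPos i → (sgnVec P η i = 0 ∨ sgnVec P η i = F.sgn i) := by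
      intro i hi
      obtain ⟨h1, h2⟩ := sgnVec_of_mem_closedChamber b hη hi
      obtain ⟨h3, h4⟩ := sgnVec_of_mem_closedChamber b hξb hi
      by_cases hz : sgnVec P η i = 0
      · left; exact hz
      · right
        rw [h2 hz, ← hξ']
        symm
        apply h4
        intro h0
        apply hz
        rw [h1]
        intro j hj
        have := h3.mp h0 j hj
        rw [hξ'] at this
        rw [sgnVec_apply, sign_eq_zero_iff]
        exact (h j).2 this
    intro i
    by_cases hi : b.IsPos i
    · exact key i hi
    · have hi' : b.IsPos (ineg P i) := (isPos_ineg_iff b i).mpr hi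
      have := key _ hi'
      rw [sgnVec_ineg, sgn_ineg F, neg_inj] at this
      rcases this with h0 | h0
      · left
        revert h0
        generalize sgnVec P η i = s
        cases s <;> decide
      · right; exact h0

lemma closure_subset_closedChamber (hb : b ∈ F.cham) : F.closure ⊆ closedChamber b :=
  fun η hη j hj => ((mem_closure_iff hb η).mp hη ⟨j, hj⟩).1

/-- The corners of a facet are the fundamental weights of an adjacent chamber at the simple roots
which are positive on the facet. -/
theorem corners_eq (hb : b ∈ F.cham) :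
    F.corners = fundWeight b '' {j : b.support | F.sgn j = 1} := by
  classical
  apply Set.Subset.antisymm
  · rintro w ⟨hw, hcl⟩
    obtain ⟨j, rfl⟩ := mem_range_fundWeight_of_mem_closedChamber b hw
      (closure_subset_closedChamber hb hcl)
    refine ⟨j, ?_, rfl⟩
    rcases sgn_simple hb j with h0 | h1
    · exfalso
      have := ((mem_closure_iff hb _).mp hcl j).2 h0
      rw [coroot'_fundWeight_self] at this
      exact one_ne_zero this
    · exact h1
  · rintro _ ⟨j, hj, rfl⟩
    refine ⟨⟨b, j, rfl⟩, ?_⟩
    rw [mem_closure_iff hb]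
    intro l
    rw [coroot'_fundWeight b l j]
    split_ifs with hlj
    · rw [hlj]
      refine ⟨zero_le_one, fun h0 => ?_⟩
      change F.sgn j = 1 at hj; rw [h0] at hj
      exact absurd hj (by decide)
    · exact ⟨le_rfl, fun _ => rfl⟩

lemma mem_carrier_iff' (hb : b ∈ F.cham) (η : M) :
    η ∈ F.carrier ↔ ∀ j : b.support, (F.sgn j = 0 → P.coroot' j η = 0) ∧
      (F.sgn j = 1 → 0 < P.coroot' j η) := by
  rw [mem_carrier_iff hb]
  refine forall_congr' fun j => ?_
  rcases sgn_simple hb j with h0 | h1
  · rw [h0, sgnVec_apply, sign_eq_zero_iff]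
    constructor
    · intro h; exact ⟨fun _ => h, fun h' => absurd h' (by decide)⟩
    · intro h; exact h.1 rfl
  · rw [h1, sgnVec_apply, sign_eq_one_iff]
    constructor
    · intro h; exact ⟨fun h' => absurd h' (by decide), fun _ => h⟩
    · intro h; exact h.2 rfl

end Structure

section Construct

open Classical in
/-- The pairing of a combination of fundamental weights with a simple coroot. -/
lemma coroot'_sum_fundWeight (b : P.Base) (c : b.support → R) (l : b.support) :
    P.coroot' l (∑ j : b.support, c j • fundWeight b j) = c l := by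
  rw [map_sum]
  simp only [map_smul, smul_eq_mul, coroot'_fundWeight b l]
  rw [Finset.sum_eq_single l]
  · simp
  · intro j _ hj; rw [if_neg (Ne.symm hj), mul_zero]
  · intro h; exact absurd (Finset.mem_univ l) h

open Classical in
/-- The facet attached to a set `S` of simple roots of the base `b`: the facet of the sum of the
fundamental weights indexed by `S`. -/
def facetOf (b : P.Base) (S : Set b.support) : Facet P :=
  Facet.ofVec P (∑ j : b.support, (if j ∈ S then (1 : R) else 0) • fundWeight b j)

open Classical in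
lemma facetOf_sgn_simple (b : P.Base) (S : Set b.support) (l : b.support) :
    (facetOf b S).sgn l = if l ∈ S then 1 else 0 := by
  change sgnVec P _ l = _
  rw [sgnVec_apply, coroot'_sum_fundWeight]
  split_ifs <;> simp

lemma mem_cham_facetOf (b : P.Base) (S : Set b.support) : b ∈ (facetOf b S).cham := by
  classical
  rw [mem_cham_iff]
  intro j hj
  rw [facetOf_sgn_simple b S ⟨j, hj⟩]
  split_ifs <;> decide

lemma corners_facetOf (b : P.Base) (S : Set b.support) :
    (facetOf b S).corners = fundWeight b '' S := by
  classical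
  rw [corners_eq (mem_cham_facetOf b S)]
  congr 1
  ext l
  change (facetOf b S).sgn l = 1 ↔ l ∈ S
  rw [facetOf_sgn_simple]
  split_ifs with h
  · simp [h]
  · simp [h]

end Construct

section Statements

variable (F : Facet P)

theorem linearIndepOn_corners : LinearIndepOn R (fun m : M => m) F.corners := by
  obtain ⟨b, hb⟩ := cham_nonempty F
  rw [corners_eq hb]
  exact ((linearIndependent_fundWeight b).linearIndepOn (s := {j : b.support | F.sgn j = 1})).id_image

theorem span_carrier_eq_span_corners :
    Submodule.span R F.carrier = Submodule.span R F.corners := by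
  classical
  obtain ⟨b, hb⟩ := cham_nonempty F
  rw [corners_eq hb]
  apply le_antisymm
  · rw [Submodule.span_le]
    intro ξ hξ
    rw [weight_eq_sum b ξ]
    refine Submodule.sum_mem _ fun j _ => ?_
    rcases sgn_simple hb j with h0 | h1
    · rw [((mem_carrier_iff' hb ξ).mp hξ j).1 h0, zero_smul]
      exact Submodule.zero_mem _
    · exact Submodule.smul_mem _ _ (Submodule.subset_span ⟨j, h1, rfl⟩)
  · rw [Submodule.span_le]
    rintro _ ⟨j, hj, rfl⟩
    obtain ⟨ξ, hξ⟩ := carrier_nonempty F
    have h2 : ξ + fundWeight b j ∈ F.carrier := by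
      rw [mem_carrier_iff' hb]
      intro l
      have hl := (mem_carrier_iff' hb ξ).mp hξ l
      rw [map_add, coroot'_fundWeight b l j]
      split_ifs with hlj
      · subst hlj
        refine ⟨fun h0 => ?_, fun _ => ?_⟩
        · change F.sgn l = 1 at hj; rw [h0] at hj; exact absurd hj (by decide)
        · have := hl.2 hj; linarith
      · rw [add_zero]; exact hl
    have : fundWeight b j = (ξ + fundWeight b j) - ξ := by abel
    rw [this]
    exact Submodule.sub_mem _ (Submodule.subset_span h2) (Submodule.subset_span hξ)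

theorem exists_corners_eq_insert (m : M) (hm : m ∈ F.corners') :
    ∃ G : Facet P, G.corners = insert m F.corners := by
  simp only [Facet.corners', Set.mem_iUnion] at hm
  obtain ⟨b, hb, hm⟩ := hm
  rw [baseCorners_eq] at hm
  obtain ⟨k, rfl⟩ := hm
  refine ⟨facetOf b ({j : b.support | F.sgn j = 1} ∪ {k}), ?_⟩
  rw [corners_facetOf, corners_eq hb, Set.image_union, Set.image_singleton, Set.union_comm]
  rfl

theorem exists_corners_eq_diff_singleton (m : M) (hm : m ∈ F.corners) :
    ∃ G : Facet P, G.corners = F.corners \ {m} := by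
  obtain ⟨b, hb⟩ := cham_nonempty F
  rw [corners_eq hb] at hm ⊢
  obtain ⟨k, hk, rfl⟩ := hm
  refine ⟨facetOf b ({j : b.support | F.sgn j = 1} \ {k}), ?_⟩
  rw [corners_facetOf, Set.image_sdiff (fundWeight_injective b), Set.image_singleton]

theorem carrier_eq_setOf_pos_comb_corners :
    F.carrier = {ξ : M | ∃ c : M →₀ R, (c.support : Set M) ⊆ F.corners ∧
      (∀ m ∈ F.corners, 0 < c m) ∧ c.sum (fun m r => r • m) = ξ} := by
  classical
  obtain ⟨b, hb⟩ := cham_nonempty F
  have hinj := fundWeight_injective b
  ext ξ
  constructor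
  · intro hξ
    have hξ' := (mem_carrier_iff' hb ξ).mp hξ
    let g : b.support →₀ R := Finsupp.equivFunOnFinite.symm (fun j => P.coroot' j ξ)
    refine ⟨g.mapDomain (fundWeight b), ?_, ?_, ?_⟩
    · intro m hm
      have hm' := Finsupp.mapDomain_support hm
      rw [Finset.mem_image] at hm'
      obtain ⟨j, hj, rfl⟩ := hm'
      rw [corners_eq hb]
      refine ⟨j, ?_, rfl⟩
      rcases sgn_simple hb j with h0 | h1
      · exfalso
        rw [Finsupp.mem_support_iff] at hj
        apply hj
        change P.coroot' j ξ = 0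
        exact (hξ' j).1 h0
      · exact h1
    · intro m hm
      rw [corners_eq hb] at hm
      obtain ⟨j, hj, rfl⟩ := hm
      rw [Finsupp.mapDomain_apply hinj]
      exact (hξ' j).2 hj
    · rw [Finsupp.sum_mapDomain_index_inj hinj,
        Finsupp.sum_fintype g (fun a r => r • fundWeight b a) (fun _ => zero_smul _ _)]
      exact (weight_eq_sum b ξ).symm
  · rintro ⟨c, hsupp, hpos, rfl⟩
    have hrange : (c.support : Set M) ⊆ Set.range (fundWeight b) := by
      intro m hm
      have := hsupp hm
      rw [corners_eq hb] at this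
      obtain ⟨j, -, rfl⟩ := this
      exact ⟨j, rfl⟩
    have hc := Finsupp.mapDomain_comapDomain (fundWeight b) hinj c hrange
    set g := c.comapDomain (fundWeight b) hinj.injOn with hg
    rw [← hc, Finsupp.sum_mapDomain_index_inj hinj,
        Finsupp.sum_fintype g (fun a r => r • fundWeight b a) (fun _ => zero_smul _ _)]
    rw [mem_carrier_iff' hb]
    intro l
    rw [coroot'_sum_fundWeight]
    have hgl : g l = c (fundWeight b l) := Finsupp.comapDomain_apply _ _ _ _
    rw [hgl]
    constructor
    · intro h0
      by_contra hne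
      have hmem : fundWeight b l ∈ (c.support : Set M) := by
        rw [Finset.mem_coe, Finsupp.mem_support_iff]; exact hne
      have := hsupp hmem
      rw [corners_eq hb] at this
      obtain ⟨j, hj, hjl⟩ := this
      have := hinj hjl
      subst this
      change F.sgn j = 1 at hj
      rw [h0] at hj; exact absurd hj (by decide)
    · intro h1
      apply hpos
      rw [corners_eq hb]
      exact ⟨l, h1, rfl⟩

end Statements

end Groth.Agent.R2.H65.WeylCh
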