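import Groth.Agent.R2.H65RootChBasic

/-!
# Weyl chambers: a base is determined by its positive roots; transport of fundamental weights
under a reflection; galleries fixing a vector; the corners of a chamber.
-/

set_option autoImplicit false
set_option linter.unusedSectionVars false

noncomputable section

namespace Groth.Agent.R2.H65.WeylCh

open RootCh RootPairing Module

universe u v w x

variable {ι : Type u} {R : Type v} {M : Type w} {N : Type x}

variable [Field R] [LinearOrder R] [IsStrictOrderedRing R]
  [AddCommGroup M] [Module R M] [AddCommGroup N] [Module R N] [Finite ι]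
  {P : RootPairing ι R M N} [P.IsRootSystem] [P.IsCrystallographic] [P.IsReduced]

section BaseExt

/-- A positive root which is not simple is the sum of a positive root and a simple root. -/
lemma isPos_decompose (b : P.Base) {i : ι} (hi : b.IsPos i) :
    i ∈ b.support ∨ ∃ k l, b.IsPos k ∧ l ∈ b.support ∧ P.root i = P.root k + P.root l := by
  refine RootPairing.Base.IsPos.induction_on_add (p := fun i => b.IsPos i ∧
      (i ∈ b.support ∨ ∃ k l, b.IsPos k ∧ l ∈ b.support ∧ P.root i = P.root k + P.root l)) hi
      ?_ ?_ |>.2
  · intro j hj
    exact ⟨RootPairing.Base.isPos_of_mem_support hj, Or.inl hj⟩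
  · intro k l m hm hk hl
    exact ⟨hk.1.add (RootPairing.Base.isPos_of_mem_support hl) hm, Or.inr ⟨k, l, hk.1, hl, hm⟩⟩

/-- Simple roots are indecomposable among positive roots. -/
lemma not_root_eq_add_of_mem_support (b : P.Base) {j : ι} (hj : j ∈ b.support) {k l : ι}
    (hk : b.IsPos k) (hl : b.IsPos l) : P.root j ≠ P.root k + P.root l := by
  intro h
  have h1 := b.height_add h
  rw [RootPairing.Base.height_one_of_mem_support hj] at h1
  rw [RootPairing.Base.isPos_iff] at hk hl
  omega

lemma mem_support_iff (b : P.Base) (j : ι) :
    j ∈ b.support ↔ b.IsPos j ∧ ∀ k l, b.IsPos k → b.IsPos l → P.root j ≠ P.root k + P.root l := by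
  constructor
  · intro hj
    exact ⟨RootPairing.Base.isPos_of_mem_support hj,
      fun k l hk hl => not_root_eq_add_of_mem_support b hj hk hl⟩
  · rintro ⟨hj, h⟩
    rcases isPos_decompose b hj with h1 | ⟨k, l, hk, hl, hkl⟩
    · exact h1
    · exact absurd hkl (h k l hk (RootPairing.Base.isPos_of_mem_support hl))

/-- A base is determined by its set of positive roots. -/
lemma base_ext {b b' : P.Base} (h : ∀ i, b.IsPos i ↔ b'.IsPos i) : b = b' := by
  have hs : b.support = b'.support := by
    ext j
    rw [mem_support_iff, mem_support_iff]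
    simp only [h]
  cases b; cases b'; simp only [RootPairing.Base.mk.injEq]; exact hs

lemma base_ext_of_imp {b b' : P.Base} (h : ∀ i, b.IsPos i → b'.IsPos i) : b = b' := by
  apply base_ext
  intro i
  refine ⟨h i, fun hi => ?_⟩
  by_contra hn
  have h1 : b.IsPos (ineg P i) := (isPos_ineg_iff b i).mpr hn
  have h2 := h _ h1
  rw [isPos_ineg_iff] at h2
  exact h2 hi

/-- If all simple roots of `b` are positive for `b'` then so are all the positive roots. -/
lemma isPos_of_forall_support {b b' : P.Base} (h : ∀ j ∈ b.support, b'.IsPos j) {i : ι}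
    (hi : b.IsPos i) : b'.IsPos i := by
  refine RootPairing.Base.IsPos.induction_on_add (p := fun i => b'.IsPos i) hi h ?_
  intro k l m hm hk hl
  exact hk.add (h l hl) hm

end BaseExt

section Fund

/-- The fundamental weights of a base form a basis of `M`. -/
def fundBasis (b : P.Base) : Basis b.support R M :=
  letI : DecidableEq b.support := Classical.decEq _
  b.toCoweightBasis.dualBasis.map P.toPerfPair.symm

lemma fundBasis_apply (b : P.Base) (j : b.support) : fundBasis b j = fundWeight b j := by
  let _ : DecidableEq b.support := Classical.decEq _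
  unfold fundBasis fundWeight
  rw [Basis.map_apply, Basis.coe_dualBasis]

lemma linearIndependent_fundWeight (b : P.Base) : LinearIndependent R (fundWeight b) := by
  have := (fundBasis b).linearIndependent
  have h : (fundBasis b : b.support → M) = fundWeight b := funext (fundBasis_apply b)
  rwa [h] at this

lemma fundWeight_injective (b : P.Base) : Function.Injective (fundWeight b) :=
  (linearIndependent_fundWeight b).injective

open Classical in
lemma fundWeight_eq_of_pairing (b : P.Base) (k : b.support) (w : M)
    (h : ∀ l : b.support, P.coroot' l w = if l = k then 1 else 0) : w = fundWeight b k := by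
  rw [weight_eq_sum b w]
  simp only [h]
  rw [Finset.sum_eq_single k]
  · simp
  · intro l _ hl; simp [hl]
  · intro hk; exact absurd (Finset.mem_univ k) hk

lemma fundWeight_mem_closedChamber (b : P.Base) (k : b.support) :
    fundWeight b k ∈ closedChamber b := by
  classical
  intro j hj
  have := coroot'_fundWeight b ⟨j, hj⟩ k
  rw [this]; split_ifs <;> simp

/-- Transport of the fundamental weights under the reflection of a base. -/
lemma fundWeight_reflBase (b : P.Base) (j : ι) (k : b.support) :
    fundWeight (reflBase b j) ⟨P.reflectionPerm j k, by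
        rw [mem_reflBase_support, P.reflectionPerm_self]; exact k.2⟩ =
      P.reflection j (fundWeight b k) := by
  classical
  symm
  apply fundWeight_eq_of_pairing
  rintro ⟨l, hl⟩
  rw [P.coroot'_reflection]
  have hl' : P.reflectionPerm j l ∈ b.support := (mem_reflBase_support b j l).mp hl
  have := coroot'_fundWeight b ⟨P.reflectionPerm j l, hl'⟩ k
  rw [this]
  simp only [Subtype.mk.injEq]
  by_cases h : l = P.reflectionPerm j k
  · rw [if_pos h, if_pos]
    apply Subtype.ext
    simp [h, P.reflectionPerm_self]
  · rw [if_neg h, if_neg]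
    intro h'
    apply h
    have := congrArg Subtype.val h'
    simp only at this
    rw [← this, P.reflectionPerm_self]

lemma range_fundWeight_reflBase (b : P.Base) (j : ι) :
    Set.range (fundWeight (reflBase b j)) = P.reflection j '' Set.range (fundWeight b) := by
  ext w
  constructor
  · rintro ⟨⟨l, hl⟩, rfl⟩
    have hl' : P.reflectionPerm j l ∈ b.support := (mem_reflBase_support b j l).mp hl
    refine ⟨fundWeight b ⟨_, hl'⟩, ⟨_, rfl⟩, ?_⟩
    rw [← fundWeight_reflBase b j ⟨_, hl'⟩]
    congr 1
    apply Subtype.ext
    simp [P.reflectionPerm_self]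
  · rintro ⟨_, ⟨k, rfl⟩, rfl⟩
    rw [← fundWeight_reflBase b j k]
    exact ⟨_, rfl⟩

end Fund

section Gallery

lemma reflection_eq_self_of_coroot'_eq_zero (j : ι) (w : M) (h : P.coroot' j w = 0) :
    P.reflection j w = w := by
  rw [P.reflection_apply]
  change w - P.coroot' j w • P.root j = w
  rw [h, zero_smul, sub_zero]

lemma mem_closedChamber_reflBase (b : P.Base) (j : ι) {w : M} (hw : w ∈ closedChamber b)
    (h : P.reflection j w = w) : w ∈ closedChamber (reflBase b j) := by
  intro l hl
  have hl' : P.reflectionPerm j l ∈ b.support := (mem_reflBase_support b j l).mp hl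
  have := hw _ hl'
  rw [← P.coroot'_reflection, h] at this
  exact this

/-- Two chambers whose closures contain `w` are joined by a gallery of chambers whose closures
contain `w`, each step being a simple reflection fixing `w`. -/
theorem gallery_induction (w : M) (b : P.Base) (hb : w ∈ closedChamber b) (p : P.Base → Prop)
    (hstep : ∀ (b' : P.Base) (j : ι), w ∈ closedChamber b' → j ∈ b'.support →
      P.coroot' j w = 0 → p b' → p (reflBase b' j)) :
    ∀ b' : P.Base, w ∈ closedChamber b' → p b' → p b := by
  classical
  have key : ∀ n : ℕ, ∀ b' : P.Base, {k | b'.IsPos k ∧ ¬ b.IsPos k}.ncard ≤ n →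
      w ∈ closedChamber b' → p b' → p b := by
    intro n
    induction n with
    | zero =>
      intro b' hn hb' hp
      have hem : {k | b'.IsPos k ∧ ¬ b.IsPos k} = ∅ := by
        rw [← Set.ncard_eq_zero (Set.toFinite _)]; omega
      have : b' = b := by
        apply base_ext_of_imp
        intro i hi
        by_contra hni
        have : i ∈ {k | b'.IsPos k ∧ ¬ b.IsPos k} := ⟨hi, hni⟩
        rw [hem] at this
        exact this
      rw [← this]; exact hp
    | succ n ih =>
      intro b' hn hb' hp
      by_cases hall : ∀ j ∈ b'.support, b.IsPos j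
      · have : b' = b := base_ext_of_imp fun i hi => isPos_of_forall_support hall hi
        rw [← this]; exact hp
      · push Not at hall
        obtain ⟨j, hj, hjneg⟩ := hall
        have h1 : 0 ≤ P.coroot' j w := hb' j hj
        have h2 : 0 ≤ P.coroot' (ineg P j) w :=
          coroot'_nonneg_of_mem_closedChamber b hb ((isPos_ineg_iff b j).mpr hjneg)
        rw [coroot'_ineg] at h2
        have h0 : P.coroot' j w = 0 := le_antisymm (by linarith) h1
        have hfix := reflection_eq_self_of_coroot'_eq_zero j w h0
        apply ih (reflBase b' j) _ (mem_closedChamber_reflBase b' j hb' hfix)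
          (hstep b' j hb' hj h0 hp)
        have hsub : {k | (reflBase b' j).IsPos k ∧ ¬ b.IsPos k} ⊆
            {k | b'.IsPos k ∧ ¬ b.IsPos k} \ {j} := by
          rintro i ⟨hi, hi'⟩
          rw [reflBase_isPos_iff, isPos_reflectionPerm_iff b' hj] at hi
          rcases hi with ⟨hi, hne⟩ | rfl
          · exact ⟨⟨hi, hi'⟩, hne⟩
          · exfalso
            exact hi' ((isPos_ineg_iff b j).mpr hjneg)
        have hjmem : j ∈ {k | b'.IsPos k ∧ ¬ b.IsPos k} :=
          ⟨RootPairing.Base.isPos_of_mem_support hj, hjneg⟩
        have h1 := Set.ncard_le_ncard hsub (Set.toFinite _)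
        have h2 := Set.ncard_sdiff_singleton_add_one hjmem (Set.toFinite _)
        omega
  intro b' hb' hp
  exact key _ b' le_rfl hb' hp

/-- A fundamental weight (of any base) lying in the closed chamber of `b` is a fundamental weight
of `b`. -/
theorem mem_range_fundWeight_of_mem_closedChamber (b : P.Base) {w : M}
    (hw : w ∈ fundWeights P) (hb : w ∈ closedChamber b) : w ∈ Set.range (fundWeight b) := by
  obtain ⟨b', i, rfl⟩ := hw
  refine gallery_induction (fundWeight b' i) b hb (fun c => fundWeight b' i ∈ Set.range (fundWeight c))
    ?_ b' (fundWeight_mem_closedChamber b' i) ⟨i, rfl⟩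
  intro c j _ _ h0 hp
  rw [range_fundWeight_reflBase]
  exact ⟨_, hp, reflection_eq_self_of_coroot'_eq_zero j _ h0⟩

theorem baseCorners_eq (b : P.Base) : baseCorners b = Set.range (fundWeight b) := by
  apply Set.Subset.antisymm
  · rintro w ⟨hw, hb⟩
    exact mem_range_fundWeight_of_mem_closedChamber b hw hb
  · rintro _ ⟨k, rfl⟩
    exact ⟨⟨b, k, rfl⟩, fundWeight_mem_closedChamber b k⟩

end Gallery

end Groth.Agent.R2.H65.WeylCh
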