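import Groth.Agent.R2.H65RootChPsi

/-!
# Parabolic sets of roots and facets
-/

set_option autoImplicit false
set_option linter.unusedSectionVars false

noncomputable section

namespace Groth.Agent.R2.H65.WeylCh

open RootCh RootPairing Module

universe u v w x

variable {ι : Type u} {R : Type v} {M : Type w} {N : Type x}

variable [Field R] [LinearOrder R] [IsStrictOrderedRing R]
  [AddCommGroup M] [Module R M] [AddCommGroup N] [Module R N] [Finite ι]
  {P : RootPairing ι R M N} [P.IsRootSystem] [P.IsCrystallographic] [P.IsReduced]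

section ParabOfFacet

variable {F : Facet P} {b : P.Base}

lemma signType_eq_zero_of_ne {s : SignType} (h1 : s ≠ -1) (h2 : -s ≠ -1) : s = 0 := by
  revert h1 h2; cases s <;> decide

lemma mem_parab_iff (hb : b ∈ F.cham) (i : ι) :
    i ∈ F.parab ↔ b.IsPos i ∨ (∀ l : b.support, rc b i l ≠ 0 → F.sgn l = 0) := by
  constructor
  · intro hi
    by_cases hpos : b.IsPos i
    · exact Or.inl hpos
    · right
      have hpos' : b.IsPos (ineg P i) := (isPos_ineg_iff b i).mpr hpos
      have h1 := sgn_ne_neg_one_of_isPos hb hpos'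
      rw [sgn_ineg] at h1
      have h0 : F.sgn i = 0 := signType_eq_zero_of_ne hi h1
      have h0' : F.sgn (ineg P i) = 0 := by rw [sgn_ineg, h0]; rfl
      intro l hl
      apply (sgn_of_isPos hb hpos').1.mp h0' l
      rw [rc_ineg]; exact neg_ne_zero.mpr hl
  · rintro (hpos | h)
    · exact sgn_ne_neg_one_of_isPos hb hpos
    · by_cases hpos : b.IsPos i
      · exact sgn_ne_neg_one_of_isPos hb hpos
      · have hpos' : b.IsPos (ineg P i) := (isPos_ineg_iff b i).mpr hpos
        have h0' : F.sgn (ineg P i) = 0 := by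
          apply (sgn_of_isPos hb hpos').1.mpr
          intro l hl
          apply h l
          rw [rc_ineg] at hl; exact neg_ne_zero.mp hl
        rw [sgn_ineg] at h0'
        change F.sgn i ≠ -1
        intro h
        rw [h] at h0'
        exact absurd h0' (by decide)

lemma coroot'_add_of_root_eq_add {i j k : ι} (h : P.root k = P.root i + P.root j) (ξ : M) :
    rlen P k * P.coroot' k ξ = rlen P i * P.coroot' i ξ + rlen P j * P.coroot' j ξ := by
  have h1 := congrArg (fun x => P.toLinearMap ξ (pol P x)) h
  simp only [map_add, pol_root, map_smul, smul_eq_mul] at h1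
  change rlen P k / 2 * P.coroot' k ξ = rlen P i / 2 * P.coroot' i ξ + rlen P j / 2 * P.coroot' j ξ
    at h1
  linarith

theorem parab_isParabolicSubset (F : Facet P) : IsParabolicSubset P F.parab := by
  obtain ⟨ξ, hξ⟩ := carrier_nonempty F
  have hξ' : sgnVec P ξ = F.sgn := hξ
  have hmem : ∀ i, i ∈ F.parab ↔ 0 ≤ P.coroot' i ξ := by
    intro i
    change F.sgn i ≠ -1 ↔ _
    rw [← hξ', sgnVec_apply, sign_ne_neg_one_iff]
  constructor
  · intro i j k hi hj hk
    rw [hmem] at hi hj ⊢
    have h := coroot'_add_of_root_eq_add hk ξ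
    have hk' := rlen_pos (P := P) k
    have : 0 ≤ rlen P k * P.coroot' k ξ := by
      rw [h]
      exact add_nonneg (mul_nonneg (rlen_pos i).le hi) (mul_nonneg (rlen_pos j).le hj)
    exact (mul_nonneg_iff_of_pos_left hk').mp this
  · intro i
    rw [hmem, hmem]
    change _ ∨ 0 ≤ P.coroot' (ineg P i) ξ
    rw [coroot'_ineg]
    rcases le_total 0 (P.coroot' i ξ) with h | h
    · exact Or.inl h
    · exact Or.inr (by linarith)

theorem facet_ext_of_parab {F G : Facet P} (h : F.parab = G.parab) : F = G := by
  apply Facet.ext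
  funext i
  have h1 : F.sgn i = -1 ↔ G.sgn i = -1 := by
    have := Set.ext_iff.mp h i
    change F.sgn i ≠ -1 ↔ G.sgn i ≠ -1 at this
    exact not_iff_not.mp this
  have h2 : F.sgn (ineg P i) = -1 ↔ G.sgn (ineg P i) = -1 := by
    have := Set.ext_iff.mp h (ineg P i)
    change F.sgn (ineg P i) ≠ -1 ↔ G.sgn (ineg P i) ≠ -1 at this
    exact not_iff_not.mp this
  rw [sgn_ineg, sgn_ineg] at h2
  revert h1 h2
  generalize F.sgn i = s
  generalize G.sgn i = t
  cases s <;> cases t <;> decide

theorem le_iff_parab_subset (F G : Facet P) : F ≤ G ↔ F.parab ⊆ G.parab := by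
  rw [Facet.le_def]
  constructor
  · intro h i hi
    change G.sgn i ≠ -1
    change F.sgn i ≠ -1 at hi
    rcases h i with h0 | h0
    · rw [h0]; decide
    · rw [h0]; exact hi
  · intro h i
    have h1 : F.sgn i ≠ -1 → G.sgn i ≠ -1 := fun hi => h hi
    have h2 : F.sgn (ineg P i) ≠ -1 → G.sgn (ineg P i) ≠ -1 := fun hi => h hi
    rw [sgn_ineg, sgn_ineg] at h2
    revert h1 h2
    generalize F.sgn i = s
    generalize G.sgn i = t
    cases s <;> cases t <;> decide

end ParabOfFacet

section FacetOfParab

variable {S : Set ι}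

/-- A parabolic set of roots contains the positive roots of some base. -/
theorem exists_base_isPos_subset (hS : IsParabolicSubset P S) :
    ∃ b : P.Base, ∀ i, b.IsPos i → i ∈ S := by
  classical
  have key : ∀ n : ℕ, ∀ b : P.Base, {i | b.IsPos i ∧ i ∉ S}.ncard ≤ n →
      ∃ b' : P.Base, ∀ i, b'.IsPos i → i ∈ S := by
    intro n
    induction n with
    | zero =>
      intro b hb
      refine ⟨b, fun i hi => ?_⟩
      by_contra hni
      have hmem : i ∈ {i | b.IsPos i ∧ i ∉ S} := ⟨hi, hni⟩
      have : {i | b.IsPos i ∧ i ∉ S} = ∅ := by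
        rw [← Set.ncard_eq_zero (Set.toFinite _)]; omega
      rw [this] at hmem
      exact hmem
    | succ n ih =>
      intro b hb
      by_cases hall : ∀ j ∈ b.support, j ∈ S
      · refine ⟨b, fun i hi => ?_⟩
        exact RootPairing.Base.IsPos.induction_on_add (p := fun i => i ∈ S) hi hall
          (fun k l m hm hk hl => hS.1 k l m hk (hall l hl) hm)
      · push Not at hall
        obtain ⟨j, hj, hjS⟩ := hall
        have hnegS : ineg P j ∈ S := (hS.2 j).resolve_left hjS
        apply ih (reflBase b j)
        have hsub : {i | (reflBase b j).IsPos i ∧ i ∉ S} ⊆ {i | b.IsPos i ∧ i ∉ S} \ {j} := by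
          rintro i ⟨hi, hi'⟩
          rw [reflBase_isPos_iff, isPos_reflectionPerm_iff b hj] at hi
          rcases hi with ⟨hi, hne⟩ | rfl
          · exact ⟨⟨hi, hi'⟩, hne⟩
          · exact absurd hnegS hi'
        have hjmem : j ∈ {i | b.IsPos i ∧ i ∉ S} :=
          ⟨RootPairing.Base.isPos_of_mem_support hj, hjS⟩
        have h1 := Set.ncard_le_ncard hsub (Set.toFinite _)
        have h2 := Set.ncard_sdiff_singleton_add_one hjmem (Set.toFinite _)
        omega
  obtain ⟨b⟩ := P.nonempty_base
  exact key _ b le_rfl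

lemma rc_add_of_root_eq_add (b : P.Base) {i j k : ι} (h : P.root k = P.root i + P.root j)
    (l : b.support) : rc b k l = rc b i l + rc b j l := by
  unfold rc
  change P.toLinearMap (P.root k) _ = P.toLinearMap (P.root i) _ + P.toLinearMap (P.root j) _
  rw [h, map_add, LinearMap.add_apply]

open Classical in
lemma rc_simple (b : P.Base) (j l : b.support) : rc b j l = if j = l then 1 else 0 :=
  root'_fundCoweight b j l

lemma root_ineg_add {i j k : ι} (h : P.root k = P.root i + P.root j) :
    P.root (ineg P k) = P.root (ineg P i) + P.root (ineg P j) := by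
  rw [root_ineg, root_ineg, root_ineg, h, neg_add]

/-- Every parabolic set of roots is the parabolic set of a facet. -/
theorem exists_facet_parab_eq (hS : IsParabolicSubset P S) : ∃ F : Facet P, F.parab = S := by
  classical
  obtain ⟨b, hb⟩ := exists_base_isPos_subset hS
  let J : Set b.support := {j | ineg P (j : ι) ∈ S}
  refine ⟨facetOf b Jᶜ, ?_⟩
  have hcham := mem_cham_facetOf b Jᶜ
  have hsgn : ∀ l : b.support, (facetOf b Jᶜ).sgn l = 0 ↔ l ∈ J := by
    intro l
    rw [facetOf_sgn_simple]
    by_cases hl : l ∈ J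
    · simp [hl]
    · simp [hl]
  -- the two inductions over positive roots
  have h1 : ∀ i, b.IsPos i → (ineg P i ∈ S ↔ ∀ l : b.support, rc b i l ≠ 0 → l ∈ J) := by
    intro i hi
    refine RootPairing.Base.IsPos.induction_on_add (p := fun i => b.IsPos i ∧
      (ineg P i ∈ S ↔ ∀ l : b.support, rc b i l ≠ 0 → l ∈ J)) hi ?_ ?_ |>.2
    · intro j hj
      refine ⟨RootPairing.Base.isPos_of_mem_support hj, ?_⟩
      constructor
      · intro hjS l hl
        rw [rc_simple b ⟨j, hj⟩ l] at hl
        by_cases hjl : (⟨j, hj⟩ : b.support) = l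
        · rw [← hjl]; exact hjS
        · rw [if_neg hjl] at hl; exact absurd rfl hl
      · intro h
        have := h ⟨j, hj⟩ (by rw [rc_simple b ⟨j, hj⟩ ⟨j, hj⟩, if_pos rfl]; exact one_ne_zero)
        exact this
    · intro k l m hm ⟨hkpos, hk⟩ hl
      have hlpos := RootPairing.Base.isPos_of_mem_support hl
      refine ⟨hkpos.add hlpos hm, ?_⟩
      have hrc : ∀ l' : b.support, rc b m l' = rc b k l' + rc b l l' :=
        fun l' => rc_add_of_root_eq_add b hm l'
      have hkS : k ∈ S := hb k hkpos
      have hlS : l ∈ S := hb l hlpos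
      constructor
      · intro hmS
        -- `-k = -m + l` and `-l = -m + k`
        have e1 : P.root (ineg P k) = P.root (ineg P m) + P.root l := by
          rw [root_ineg, root_ineg, hm]; abel
        have e2 : P.root (ineg P l) = P.root (ineg P m) + P.root k := by
          rw [root_ineg, root_ineg, hm]; abel
        have hk' : ineg P k ∈ S := hS.1 _ _ _ hmS hlS e1
        have hl' : ineg P l ∈ S := hS.1 _ _ _ hmS hkS e2
        intro l' hl'ne
        rw [hrc] at hl'ne
        by_cases hk0 : rc b k l' = 0
        · rw [hk0, zero_add, rc_simple b ⟨l, hl⟩ l'] at hl'ne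
          by_cases hll : (⟨l, hl⟩ : b.support) = l'
          · rw [← hll]; exact hl'
          · rw [if_neg hll] at hl'ne; exact absurd rfl hl'ne
        · exact hk.mp hk' l' hk0
      · intro h
        have hk' : ineg P k ∈ S := by
          apply hk.mpr
          intro l' hl'ne
          apply h l'
          rw [hrc]
          have h1 := rc_nonneg_of_isPos b hkpos l'
          have h2 := rc_nonneg_of_isPos b hlpos l'
          have : 0 < rc b k l' := lt_of_le_of_ne h1 (Ne.symm hl'ne)
          linarith
        have hl' : ineg P l ∈ S := by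
          apply h ⟨l, hl⟩
          rw [hrc]
          have h1 := rc_nonneg_of_isPos b hkpos ⟨l, hl⟩
          have h2 : rc b l ⟨l, hl⟩ = 1 := by rw [rc_simple b ⟨l, hl⟩ ⟨l, hl⟩, if_pos rfl]
          rw [h2]; linarith
        exact hS.1 _ _ _ hk' hl' (root_ineg_add hm)
  ext i
  rw [mem_parab_iff hcham]
  constructor
  · rintro (hpos | h)
    · exact hb i hpos
    · by_cases hpos : b.IsPos i
      · exact hb i hpos
      · have hpos' : b.IsPos (ineg P i) := (isPos_ineg_iff b i).mpr hpos
        have := (h1 _ hpos').mpr (fun l hl => by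
          rw [← hsgn]
          apply h l
          rw [rc_ineg] at hl; exact neg_ne_zero.mp hl)
        rwa [ineg_ineg] at this
  · intro hiS
    by_cases hpos : b.IsPos i
    · exact Or.inl hpos
    · right
      have hpos' : b.IsPos (ineg P i) := (isPos_ineg_iff b i).mpr hpos
      have := (h1 _ hpos').mp (by rwa [ineg_ineg])
      intro l hl
      rw [hsgn]
      apply this l
      rw [rc_ineg]; exact neg_ne_zero.mpr hl

theorem isParabolicSubset_iff_existsUnique (S : Set ι) :
    IsParabolicSubset P S ↔ ∃! F : Facet P, F.parab = S := by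
  constructor
  · intro hS
    obtain ⟨F, hF⟩ := exists_facet_parab_eq hS
    exact ⟨F, hF, fun G hG => facet_ext_of_parab (hG.trans hF.symm)⟩
  · rintro ⟨F, rfl, -⟩
    exact parab_isParabolicSubset F

theorem facet_ext_of_corners {F G : Facet P} (h : F.corners = G.corners) : F = G := by
  have hc : F.carrier = G.carrier := by
    rw [carrier_eq_setOf_pos_comb_corners F, carrier_eq_setOf_pos_comb_corners G, h]
  obtain ⟨ξ, hξ⟩ := carrier_nonempty F
  have hξ' : ξ ∈ G.carrier := hc ▸ hξ
  apply Facet.ext
  have h1 : sgnVec P ξ = F.sgn := hξ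
  have h2 : sgnVec P ξ = G.sgn := hξ'
  rw [← h1, ← h2]

theorem existsUnique_facet_corners_eq (hS : IsParabolicSubset P S) :
    ∃ F : Facet P,
      (F.corners = {m : M | m ∈ fundWeights P ∧
          ∀ y : N, Corr P m y → ∀ i ∈ S, 0 ≤ P.root' i y} ∧ F.parab = S) ∧
      ∀ G : Facet P,
        G.corners = {m : M | m ∈ fundWeights P ∧
          ∀ y : N, Corr P m y → ∀ i ∈ S, 0 ≤ P.root' i y} → G = F := by
  obtain ⟨F, hF⟩ := exists_facet_parab_eq hS
  have hc := corners_eq_setOf_nonneg_on_parab F
  rw [hF] at hc
  exact ⟨F, ⟨hc, hF⟩, fun G hG => facet_ext_of_corners (hG.trans hc.symm)⟩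

end FacetOfParab

end Groth.Agent.R2.H65.WeylCh
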