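import Groth.Agent.R2.H65RootChDual

/-!
# Elementary sets of roots; independence of degrees and numerical invariants of the chamber
-/

set_option autoImplicit false
set_option linter.unusedSectionVars false

noncomputable section

namespace Groth.Agent.R2.H65.WeylCh

open RootCh RootPairing Module

universe u v w x

variable {ι : Type u} {R : Type v} {M : Type w} {N : Type x}

variable [Field R] [LinearOrder R] [IsStrictOrderedRing R]
  [AddCommGroup M] [Module R M] [AddCommGroup N] [Module R N] [Finite ι]
  {P : RootPairing ι R M N} [P.IsRootSystem] [P.IsCrystallographic] [P.IsReduced]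

section Psi

variable {F : Facet P} {b : P.Base}

lemma mem_Psi_iff (hb : b ∈ F.cham) (k : b.support) (i : ι) :
    i ∈ F.Psi (fundWeight b k) ↔ rc b i k = 1 ∧
      ∀ l : b.support, F.sgn l = 1 → l ≠ k → rc b i l = 0 := by
  constructor
  · rintro ⟨h1, h2⟩
    refine ⟨h1 _ ((corr_iff b k _).mpr rfl), fun l hl hlk => ?_⟩
    have hmem : fundWeight b l ∈ F.corners := by
      rw [corners_eq hb]; exact ⟨l, hl, rfl⟩
    have hne : fundWeight b l ≠ fundWeight b k := fun h => hlk (fundWeight_injective b h)
    exact h2 _ hmem hne _ ((corr_iff b l _).mpr rfl)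
  · rintro ⟨h1, h2⟩
    refine ⟨fun x hx => ?_, fun w' hw' hne x hx => ?_⟩
    · rw [(corr_iff b k x).mp hx]; exact h1
    · rw [corners_eq hb] at hw'
      obtain ⟨l, hl, rfl⟩ := hw'
      rw [(corr_iff b l x).mp hx]
      exact h2 l hl (fun h => hne (by rw [h]))

open Classical in
lemma rc_reflectionPerm (b : P.Base) (j : ι) (i : ι) (l : b.support) :
    rc b (P.reflectionPerm j i) l = rc b i l - P.pairing i j * P.root' j (fundCoweight b l) := by
  unfold rc
  change P.toLinearMap (P.root (P.reflectionPerm j i)) _ = _
  rw [P.root_reflectionPerm, P.reflection_apply_root, map_sub, map_smul, LinearMap.sub_apply,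
    LinearMap.smul_apply, smul_eq_mul]

/-- The sum of the roots of an elementary set pairs to zero with the simple coroots vanishing on
the facet. -/
lemma coroot'_sum_Psi_eq_zero (hb : b ∈ F.cham) (k : b.support) (hk : F.sgn k = 1)
    (j : b.support) (hj : F.sgn j = 0) :
    P.coroot' j (∑ i ∈ (Set.toFinite (F.Psi (fundWeight b k))).toFinset, P.root i) = 0 := by
  classical
  rw [coroot'_sum_root]
  refine sum_eq_zero_of_involution _ (P.reflectionPerm j) ?_ (fun i => P.reflectionPerm_self j i)
    _ (fun i _ => pairing_reflectionPerm_left (j : ι) i)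
  intro i hi
  rw [Set.Finite.mem_toFinset, mem_Psi_iff hb] at hi ⊢
  have hrc : ∀ l : b.support, F.sgn l = 1 → rc b (P.reflectionPerm j i) l = rc b i l := by
    intro l hl
    have hlj : j ≠ l := by
      rintro rfl
      rw [hj] at hl; exact absurd hl (by decide)
    rw [rc_reflectionPerm, root'_fundCoweight b j l, if_neg hlj, mul_zero, sub_zero]
  refine ⟨by rw [hrc k hk]; exact hi.1, fun l hl hlk => by rw [hrc l hl]; exact hi.2 l hl hlk⟩

/-- The sum of the roots of an elementary set of a facet lies in the span of its corners. -/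
theorem sum_root_Psi_mem_span_corners (F : Facet P) (m : M) (hm : m ∈ F.corners) :
    (∑ i ∈ (Set.toFinite (F.Psi m)).toFinset, P.root i) ∈ Submodule.span R F.corners := by
  obtain ⟨b, hb⟩ := cham_nonempty F
  have hm' := hm
  rw [corners_eq hb] at hm'
  obtain ⟨k, hk, rfl⟩ := hm'
  rw [weight_eq_sum b (∑ i ∈ (Set.toFinite (F.Psi (fundWeight b k))).toFinset, P.root i)]
  refine Submodule.sum_mem _ fun j _ => ?_
  rcases sgn_simple hb j with h0 | h1
  · rw [coroot'_sum_Psi_eq_zero hb k hk j h0, zero_smul]
    exact Submodule.zero_mem _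
  · refine Submodule.smul_mem _ _ (Submodule.subset_span ?_)
    rw [corners_eq hb]
    exact ⟨j, h1, rfl⟩

end Psi

section Indep

variable {d : P.Base → N}

/-- Vectors of the span of the corners of a facet pair equally with the values of a complementary
convex solid at the chambers adjacent to the facet. -/
lemma toLinearMap_eq_of_mem_span_corners (hd : IsCCS d) (F : Facet P) {b b' : P.Base}
    (hb : b ∈ F.cham) (hb' : b' ∈ F.cham) {v : M} (hv : v ∈ Submodule.span R F.corners) :
    P.toLinearMap v (d b) = P.toLinearMap v (d b') := by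
  induction hv using Submodule.span_induction with
  | mem m hm =>
    apply hd.corner_eq b b' m
    · rw [baseCorners_eq]
      rw [corners_eq hb] at hm
      obtain ⟨j, -, rfl⟩ := hm
      exact ⟨j, rfl⟩
    · rw [baseCorners_eq]
      rw [corners_eq hb'] at hm
      obtain ⟨j, -, rfl⟩ := hm
      exact ⟨j, rfl⟩
  | zero => simp
  | add x y _ _ hx hy => rw [map_add, LinearMap.add_apply, LinearMap.add_apply, hx, hy]
  | smul a x _ hx => rw [map_smul, LinearMap.smul_apply, LinearMap.smul_apply, hx]

lemma deg_eq_toLinearMap (d : P.Base → N) (F : Facet P) (b : P.Base) :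
    F.deg d b = P.toLinearMap (∑ i ∈ (Set.toFinite F.parab).toFinset, P.root i) (d b) := by
  unfold Facet.deg
  rw [map_sum, LinearMap.sum_apply]

lemma numInv_eq_toLinearMap (d : P.Base → N) (F : Facet P) (m : M) (b : P.Base) :
    F.numInv d m b = P.toLinearMap (∑ i ∈ (Set.toFinite (F.Psi m)).toFinset, P.root i) (d b) := by
  unfold Facet.numInv
  rw [map_sum, LinearMap.sum_apply]

theorem deg_eq_deg_of_mem_cham (hd : IsCCS d) (F : Facet P) {b b' : P.Base}
    (hb : b ∈ F.cham) (hb' : b' ∈ F.cham) : F.deg d b = F.deg d b' := by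
  rw [deg_eq_toLinearMap, deg_eq_toLinearMap]
  apply toLinearMap_eq_of_mem_span_corners hd F hb hb'
  rw [← span_carrier_eq_span_corners]
  exact Submodule.subset_span (sum_root_parab_mem_carrier F)

theorem numInv_eq_numInv_of_mem_cham (hd : IsCCS d) (F : Facet P) {m : M} (hm : m ∈ F.corners)
    {b b' : P.Base} (hb : b ∈ F.cham) (hb' : b' ∈ F.cham) :
    F.numInv d m b = F.numInv d m b' := by
  rw [numInv_eq_toLinearMap, numInv_eq_toLinearMap]
  exact toLinearMap_eq_of_mem_span_corners hd F hb hb' (sum_root_Psi_mem_span_corners F m hm)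

end Indep

end Groth.Agent.R2.H65.WeylCh
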