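import Groth.Agent.R2.H65RootChFacet

/-!
# Sums of roots over parabolic sets and elementary sets; independence of the chamber
-/

set_option autoImplicit false
set_option linter.unusedSectionVars false

noncomputable section

namespace Groth.Agent.R2.H65.WeylCh

open RootCh RootPairing Module

universe u v w x

variable {ι : Type u} {R : Type v} {M : Type w} {N : Type x}

variable [Field R] [LinearOrder R] [IsStrictOrderedRing R]
  [AddCommGroup M] [Module R M] [AddCommGroup N] [Module R N] [Finite ι]
  {P : RootPairing ι R M N} [P.IsRootSystem] [P.IsCrystallographic] [P.IsReduced]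

section Pairing

lemma pairing_reflectionPerm_left (j i : ι) :
    P.pairing (P.reflectionPerm j i) j = - P.pairing i j := by
  have h : P.root (P.reflectionPerm j i) = P.root i - P.pairing i j • P.root j := by
    rw [P.root_reflectionPerm, P.reflection_apply_root]
  have := congrArg (fun x => P.toLinearMap x (P.coroot j)) h
  simp only [map_sub, map_smul, LinearMap.sub_apply, LinearMap.smul_apply,
    root_coroot_eq_pairing, pairing_same, smul_eq_mul] at this
  rw [this]; ring

lemma coroot'_reflectionPerm_apply (j i : ι) (ξ : M) :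
    P.coroot' (P.reflectionPerm j i) ξ = P.coroot' i ξ - P.coroot' j ξ * P.pairing j i := by
  rw [← P.coroot'_reflection, P.reflection_apply, map_sub, map_smul]
  rfl

/-- Symmetry of the pairing up to the squared lengths. -/
lemma rlen_mul_pairing (i j : ι) : rlen P i * P.pairing j i = rlen P j * P.pairing i j := by
  let _ := Fintype.ofFinite ι
  have h1 : P.toLinearMap (P.root j) (P.Polarization (P.root i)) = rlen P i / 2 * P.pairing j i := by
    rw [polarization_root, map_smul, smul_eq_mul]; rfl
  have h2 : P.toLinearMap (P.root i) (P.Polarization (P.root j)) = rlen P j / 2 * P.pairing i j := by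
    rw [polarization_root, map_smul, smul_eq_mul]; rfl
  rw [P.toLinearMap_apply_apply_Polarization] at h1 h2
  have hs := P.rootForm_symmetric.eq (P.root i) (P.root j)
  simp only [RingHom.id_apply] at hs
  rw [h1, h2] at hs
  linarith

lemma pairing_pos_iff (i j : ι) : 0 < P.pairing i j ↔ 0 < P.pairing j i := by
  have h := rlen_mul_pairing (P := P) i j
  have hi := rlen_pos (P := P) i
  have hj := rlen_pos (P := P) j
  constructor
  · intro hp
    have : 0 < rlen P i * P.pairing j i := by rw [h]; exact mul_pos hj hp
    exact (mul_pos_iff_of_pos_left hi).mp this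
  · intro hp
    have : 0 < rlen P j * P.pairing i j := by rw [← h]; exact mul_pos hi hp
    exact (mul_pos_iff_of_pos_left hj).mp this

/-- A sum which is anti-invariant under an involution of the index set vanishes. -/
lemma sum_eq_zero_of_involution (T : Finset ι) (σ : Equiv.Perm ι) (hσT : ∀ i ∈ T, σ i ∈ T)
    (hσ : ∀ i, σ (σ i) = i) (f : ι → R) (hf : ∀ i ∈ T, f (σ i) = - f i) :
    ∑ i ∈ T, f i = 0 := by
  have h1 : ∑ i ∈ T, f i = ∑ i ∈ T, f (σ i) := by
    refine Finset.sum_bij' (fun i _ => σ i) (fun i _ => σ i) hσT hσT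
      (fun i _ => hσ i) (fun i _ => hσ i) (fun i hi => ?_)
    rw [hσ i]
  have h2 : ∑ i ∈ T, f (σ i) = - ∑ i ∈ T, f i := by
    rw [← Finset.sum_neg_distrib]
    exact Finset.sum_congr rfl hf
  have : ∑ i ∈ T, f i = - ∑ i ∈ T, f i := h1.trans h2
  linarith

end Pairing

section ParabSum

variable (F : Facet P)

lemma sgn_reflectionPerm_of_sgn_eq_zero {j : ι} (hj : F.sgn j = 0) (i : ι) :
    F.sgn (P.reflectionPerm j i) = F.sgn i := by
  obtain ⟨ξ, hξ⟩ := carrier_nonempty F
  have hξ' : sgnVec P ξ = F.sgn := hξ
  have h0 : P.coroot' j ξ = 0 := by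
    have := congrFun hξ' j
    rw [hj, sgnVec_apply, sign_eq_zero_iff] at this
    exact this
  rw [← hξ', sgnVec_apply, sgnVec_apply, coroot'_reflectionPerm_apply, h0, zero_mul, sub_zero]

/-- The pairing of the sum of a finite set of roots with a coroot. -/
lemma coroot'_sum_root (T : Finset ι) (j : ι) :
    P.coroot' j (∑ i ∈ T, P.root i) = ∑ i ∈ T, P.pairing i j := by
  rw [map_sum]; rfl

lemma parab_toFinset_mem (i : ι) :
    i ∈ (Set.toFinite F.parab).toFinset ↔ F.sgn i ≠ -1 := by
  rw [Set.Finite.mem_toFinset]; rfl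

/-- The sum of the roots of the parabolic set of a facet pairs to zero with the coroots vanishing
on the facet. -/
lemma coroot'_sum_parab_eq_zero {j : ι} (hj : F.sgn j = 0) :
    P.coroot' j (∑ i ∈ (Set.toFinite F.parab).toFinset, P.root i) = 0 := by
  rw [coroot'_sum_root]
  refine sum_eq_zero_of_involution _ (P.reflectionPerm j) ?_ (fun i => P.reflectionPerm_self j i)
    _ (fun i _ => pairing_reflectionPerm_left j i)
  intro i hi
  rw [parab_toFinset_mem] at hi ⊢
  rwa [sgn_reflectionPerm_of_sgn_eq_zero F hj]

lemma coroot'_sum_parab_pos {j : ι} (hj : F.sgn j = 1) :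
    0 < P.coroot' j (∑ i ∈ (Set.toFinite F.parab).toFinset, P.root i) := by
  classical
  rw [coroot'_sum_root]
  obtain ⟨ξ, hξ⟩ := carrier_nonempty F
  have hξ' : sgnVec P ξ = F.sgn := hξ
  have hc : 0 < P.coroot' j ξ := by
    have := congrFun hξ' j
    rw [hj, sgnVec_apply, sign_eq_one_iff] at this
    exact this
  set T := (Set.toFinite F.parab).toFinset with hT
  set σ := P.reflectionPerm j with hσ
  rw [← Finset.sum_filter_add_sum_filter_not T (fun i => σ i ∈ T)]
  have hA : ∑ i ∈ T.filter (fun i => σ i ∈ T), P.pairing i j = 0 := by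
    refine sum_eq_zero_of_involution _ σ ?_ (fun i => P.reflectionPerm_self j i)
      _ (fun i _ => pairing_reflectionPerm_left j i)
    intro i hi
    rw [Finset.mem_filter] at hi ⊢
    refine ⟨hi.2, ?_⟩
    rw [hσ, P.reflectionPerm_self]; exact hi.1
  rw [hA, zero_add]
  have hB : ∀ i ∈ T.filter (fun i => ¬ σ i ∈ T), 0 ≤ P.pairing i j := by
    intro i hi
    rw [Finset.mem_filter, hT, parab_toFinset_mem, parab_toFinset_mem, not_not] at hi
    obtain ⟨h1, h2⟩ := hi
    rw [← hξ', sgnVec_apply, sign_ne_neg_one_iff] at h1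
    rw [← hξ', sgnVec_apply, sign_eq_neg_one_iff, hσ, coroot'_reflectionPerm_apply] at h2
    have : 0 < P.coroot' j ξ * P.pairing j i := by linarith
    have hp : 0 < P.pairing j i := (mul_pos_iff_of_pos_left hc).mp this
    exact ((pairing_pos_iff j i).mp hp).le
  have hjB : j ∈ T.filter (fun i => ¬ σ i ∈ T) := by
    rw [Finset.mem_filter, hT, parab_toFinset_mem, parab_toFinset_mem, not_not]
    refine ⟨by rw [hj]; decide, ?_⟩
    change F.sgn (ineg P j) = -1
    rw [sgn_ineg, hj]
  have := Finset.single_le_sum hB hjB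
  rw [P.pairing_same] at this
  linarith

/-- The sum of the roots of the parabolic set of a facet lies in the facet. -/
theorem sum_root_parab_mem_carrier :
    (∑ i ∈ (Set.toFinite F.parab).toFinset, P.root i) ∈ F.carrier := by
  change sgnVec P _ = F.sgn
  funext j
  rw [sgnVec_apply]
  rcases h : F.sgn j with _ | _ | _
  · change SignType.sign _ = 0
    rw [sign_eq_zero_iff]; exact coroot'_sum_parab_eq_zero F h
  · change SignType.sign _ = -1
    rw [sign_eq_neg_one_iff]
    have h' : F.sgn (ineg P j) = 1 := by
      rw [sgn_ineg, h]; rfl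
    have := coroot'_sum_parab_pos F h'
    rw [coroot'_ineg] at this
    linarith
  · change SignType.sign _ = 1
    rw [sign_eq_one_iff]; exact coroot'_sum_parab_pos F h

end ParabSum

end Groth.Agent.R2.H65.WeylCh
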