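import Groth.Agent.Lib.Helper13ProjUPb
import Groth.Agent.R2.H65PnSegre3

/-!
# helper65: the morphism to `Proj` of a symmetric algebra attached to generating sections, with exact
chart preimages

A sharpening of helper13's `Helper13ProjUP.exists_mor` / `exists_mor_iso`: the SAME morphism `r : X ⟶ Proj 𝒜`
carries the chart data (`appLE` on dehomogenised generators = coefficient functions `cf`), the isomorphism
`r^* O(1) ≅ L` and satisfies `r⁻¹ D₊(ι m) = XL m` EXACTLY (`preimage_eq`).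

Specialisation to projective space `P^n_R` and sections `s : Fin (n+1) → Γ(X, L)` : `exists_map`.
-/

set_option autoImplicit false
set_option linter.unusedSectionVars false
universe u

open CategoryTheory CategoryTheory.Limits AlgebraicGeometry TopologicalSpace Opposite
  HomogeneousLocalization

namespace Groth.Agent.R2.H65.SecMap

open Groth.Agent.Lib.Helper27GrTildeSect Groth.Agent.Helper13GrTildeFrac
  Groth.Agent.Helper13Dehom Groth.Agent.Helper13AffMor Groth.Agent.Helper13SymGr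
open Groth.Agent.Lib.Helper23.SecTw Groth.Agent.Lib.Helper6 Groth.Agent.Lib.Helper23.GenLocus
open Groth.Agent.Lib.Helper23.PB Groth.Agent.Helper13PullbackUnit Groth.Agent.Lib.Helper23.Extend
open Groth.Agent.Helper13ProjUP

section general

variable {R A : Type u} [CommRing R] [CommRing A] [Algebra R A] (𝒜 : ℕ → Submodule R A)
  [GradedAlgebra 𝒜]
variable {M : Type u} [AddCommGroup M] [Module R M] (ι : M →ₗ[R] A)
variable {X : Scheme.{u}} (q : X ⟶ Spec (CommRingCat.of R)) (L : X.Modules)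
  (v : M →+ ProjUP.Γm L)

/-- `exists_mor` and `exists_mor_iso` of helper13 for the same morphism `r`. -/
theorem exists_mor_iso' (hι : ∀ m, ι m ∈ 𝒜 1) (hsym : IsSymmetricAlgebra ι) (hL : PicF.IsInvertible L)
    (hv : ∀ (c : R) (m : M), v (c • m) = ProjUP.toGlobal q c • v m) (hgen : ProjUP.GeneratedBy L v) :
    ∃ (r : X ⟶ Proj 𝒜) (hle : ∀ m, XL L v m ≤ r ⁻¹ᵁ Proj.basicOpen 𝒜 (ι m)),
      r ≫ toBase 𝒜 = q ∧
      (∀ m m', (r.appLE (Proj.basicOpen 𝒜 (ι m)) (XL L v m) (hle m)).hom (dehom (hι m) (ι m')) =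
        cf L v m m') ∧
      ∃ τ : (Scheme.Modules.pullback r).obj (O1 𝒜) ≅ L,
        ∀ m, τ.hom.app ⊤ (unitSec r (O1 𝒜) (le_top : (⊤ : X.Opens) ≤ r ⁻¹ᵁ ⊤)
          (gsec 𝒜 1 ⊤ (hι m))) = v m := by
  obtain ⟨r, hle, hrq, hcf⟩ := exists_mor 𝒜 ι q L v hι hsym hL hv hgen
  have hcov : ∀ x : X, ∃ m, x ∈ XL L v m := fun x => exists_mem_genLocus L hL v hgen x
  set P := (Scheme.Modules.pullback r).obj (O1 𝒜) with hP
  obtain ⟨Φ, hΦ⟩ := exists_iso_of_frames P L (fun m => XL L v m) hcov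
    (fun m => pcoord r (hι m) (hle m)) (fun m => eL L v m)
    (fun m => isGen_pcoord r (hι m) (hle m)) (fun m => isGen_eL L v m)
    (fun m m' => by
      refine cocycle_of_transition (isGen_pcoord r (hι m') (hle m'))
        (resf inf_le_right (cf L v m' m)) ?_ ?_
      · rw [res_pcoord, res_pcoord]
        have h1 := unitSec_gsec r (hι m') (hι m)
          ((inf_le_right : XL L v m ⊓ XL L v m' ≤ XL L v m').trans (hle m'))
          ((inf_le_left : XL L v m ⊓ XL L v m' ≤ XL L v m).trans (hle m))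
        change pcoord r (hι m) _ = _
        unfold pcoord at h1 ⊢
        rw [h1]
        congr 1
        rw [← hcf m' m]
        have h3 := r.appLE_map (hle m') (homOfLE (inf_le_right : XL L v m ⊓ XL L v m' ≤ XL L v m')).op
        have h4 := congrArg (fun φ => φ.hom (dehom (hι m') (ι m))) h3
        exact h4.symm
      · rw [← res_smul, cf_spec, res_res, res_eL])
  refine ⟨r, hle, hrq, hcf, Φ, fun m => ?_⟩
  refine sec_ext_cover L (fun m => XL L v m) hcov _ _ (fun m' => ?_)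
  obtain ⟨σ, hσ⟩ : ∃ σ : Γ(P, ⊤), σ = unitSec r (O1 𝒜) (le_top : (⊤ : X.Opens) ≤ r ⁻¹ᵁ ⊤)
    (gsec 𝒜 1 ⊤ (hι m)) := ⟨_, rfl⟩
  rw [← hσ]
  have key : res L (le_top : XL L v m' ≤ ⊤) (Φ.hom.app ⊤ σ) =
      Φ.hom.app (XL L v m') (res P le_top σ) := (app_map Φ.hom (homOfLE le_top) σ).symm
  change res L (le_top : XL L v m' ≤ ⊤) (Φ.hom.app ⊤ σ) = _
  rw [key]
  have h2 := res_unitSec r (O1 𝒜) (le_top : (⊤ : X.Opens) ≤ r ⁻¹ᵁ ⊤)
    (le_top : XL L v m' ≤ r ⁻¹ᵁ ⊤) le_rfl le_top (gsec 𝒜 1 ⊤ (hι m))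
  rw [res_self] at h2
  have h2' : res P (le_top : XL L v m' ≤ ⊤) σ =
      cf L v m' m • pcoord r (hι m') (hle m') := by
    rw [hσ]
    change res ((Scheme.Modules.pullback r).obj (O1 𝒜)) _ _ = _
    rw [h2, unitSec_gsec r (hι m') (hι m) (hle m') (U := ⊤) le_top, hcf]
  rw [h2']
  have h3 := hΦ m' (XL L v m') le_rfl (cf L v m' m)
  rw [res_self, res_self] at h3
  rw [h3, cf_spec]

/-- the chart preimages of the morphism of `exists_mor` are exactly the generating loci -/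
theorem preimage_eq (hι : ∀ m, ι m ∈ 𝒜 1) (r : X ⟶ Proj 𝒜)
    (hle : ∀ m, XL L v m ≤ r ⁻¹ᵁ Proj.basicOpen 𝒜 (ι m))
    (hcf : ∀ m m', (r.appLE (Proj.basicOpen 𝒜 (ι m)) (XL L v m) (hle m)).hom
      (dehom (hι m) (ι m')) = cf L v m m')
    (hcov : ∀ x : X, ∃ m, x ∈ XL L v m) (m : M) :
    r ⁻¹ᵁ Proj.basicOpen 𝒜 (ι m) = XL L v m := by
  refine le_antisymm ?_ (hle m)
  intro x hx
  obtain ⟨m', hm'⟩ := hcov x
  have hb := basicOpen_appLE r (hle m') (dehom (hι m') (ι m))
  rw [hcf, basicOpen_dehom (hι m) (hι m')] at hb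
  have hx' : x ∈ X.basicOpen (cf L v m' m) := by
    rw [hb]
    exact ⟨hm', hx, hle m' hm'⟩
  have h1 := genLocus_inf_eq_of_isGen L (secHom L (v m)) (XL L v m') (eL L v m') (cf L v m' m)
    (isGen_eL L v m') (by rw [sv_secHom, cf_spec])
  rw [← h1] at hx'
  exact hx'.1

end general

end Groth.Agent.R2.H65.SecMap
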