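import Groth.Agent.R2.H65SecMap1

/-!
# helper65: the morphism `X ⟶ P^n_R` attached to generating sections `s₀, …, sₙ` of an invertible module

* `XS L s i` : the locus where `s i` generates `L`; `ρS q L s i : R →+* Γ(X, XS L s i)`.
* `exists_map` : for `q : X ⟶ Spec R`, `L` invertible, `s : Fin (n+1) → Γ(X, L)` generating: a morphism
  `r : X ⟶ P^n_R` over `R` with `r⁻¹ D₊(T_i) = XS L s i` EXACTLY, `r^♯(T_{i'}/T_i) • s_i = s_{i'}` on `XS L s i`,
  `r^♯(b) = b` for `b : R`, and an isomorphism `r^* O(1) ≅ L` carrying `T_i` to `s_i`.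
* `pb_algebraMap_eq` : `r^♯` on constants, for any morphism to `Proj 𝒜`.
(The immersion criterion built on this is helper91's `R2/H91AmpleEmb.exists_immersion`.)
-/

set_option autoImplicit false
set_option linter.unusedSectionVars false
universe u

open CategoryTheory CategoryTheory.Limits AlgebraicGeometry TopologicalSpace Opposite
  HomogeneousLocalization

namespace Groth.Agent.R2.H65.SecMap

open Groth.Agent.Helper13ProjUP Groth.Agent.Helper13PullbackUnit Groth.Agent.Lib.Helper27GrTildeSect in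
theorem unitSec_top {X Y : Scheme.{u}} (r : X ⟶ Y) (F : Y.Modules) (x : ProjUP.Γm F) :
    unitSec r F (le_top : (⊤ : X.Opens) ≤ r ⁻¹ᵁ ⊤) x = ProjUP.pullSec r F x :=
  Groth.Agent.Lib.Helper23.SecTw.res_self ((Scheme.Modules.pullback r).obj F) (ProjUP.pullSec r F x)

open Groth.Agent.Lib.Helper27GrTildeSect in
theorem gsec_congr {R A : Type u} [CommRing R] [CommRing A] [Algebra R A] (𝒜 : ℕ → Submodule R A)
    [GradedAlgebra 𝒜] {b b' : A} (hb : b ∈ 𝒜 1) (hb' : b' ∈ 𝒜 1) (h : b = b') :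
    gsec 𝒜 1 ⊤ hb = gsec 𝒜 1 ⊤ hb' := by
  subst h
  rfl

open Groth.Agent.Lib.Helper27GrTildeSect Groth.Agent.Helper13GrTildeFrac
  Groth.Agent.Helper13Dehom Groth.Agent.Helper13AffMor Groth.Agent.Helper13SymGr
open Groth.Agent.Lib.Helper23.SecTw Groth.Agent.Lib.Helper6 Groth.Agent.Lib.Helper23.GenLocus
open Groth.Agent.Lib.Helper23.PB Groth.Agent.Helper13PullbackUnit Groth.Agent.Lib.Helper23.Extend
open Groth.Agent.Helper13ProjUP Groth.Agent.R2.H65.PnSegre

theorem SpecMap_inj_of_toSpecΓ {Q : Scheme.{u}} (V : Q.Opens) {B : CommRingCat.{u}} (α β : B ⟶ Γ(Q, V))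
    (h : V.toSpecΓ ≫ Spec.map α = V.toSpecΓ ≫ Spec.map β) : α = β := by
  have h1 := congrArg Scheme.Hom.appTop h
  simp only [Scheme.Hom.comp_appTop, Scheme.Opens.toSpecΓ_appTop] at h1
  rw [← Category.assoc, ← Category.assoc, Scheme.ΓSpecIso_naturality, Scheme.ΓSpecIso_naturality] at h1
  simp only [Category.assoc] at h1
  rw [cancel_epi] at h1
  exact (cancel_mono V.topIso.inv).1 h1

section general

variable {R A : Type u} [CommRing R] [CommRing A] [Algebra R A] {𝒜 : ℕ → Submodule R A}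
  [GradedAlgebra 𝒜]

/-- the pull back of a constant `c : R` along a morphism to `Proj 𝒜`, on a chart -/
theorem pb_algebraMap_eq {Q : Scheme.{u}} (g : Q ⟶ Proj 𝒜) {f : A} (hf : f ∈ 𝒜 1) (V : Q.Opens)
    (hV : V ≤ g ⁻¹ᵁ Proj.basicOpen 𝒜 f) (c : R) :
    pb g hf V hV (algebraMap R A c) =
      (Q.presheaf.map (homOfLE (le_top : V ≤ ⊤)).op).hom (ProjUP.toGlobal (g ≫ toBase 𝒜) c) := by
  have h1 := ι_comp_toBase g hf V hV
  have h2 : V.ι ≫ g ≫ toBase 𝒜 = V.toSpecΓ ≫ Spec.map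
      (CommRingCat.ofHom (ProjUP.toGlobal (g ≫ toBase 𝒜)) ≫
        Q.presheaf.map (homOfLE (le_top : V ≤ ⊤)).op) := by
    conv_lhs => rw [eq_toSpecΓ_SpecMap_toGlobal (g ≫ toBase 𝒜), ← Category.assoc,
      ← Scheme.Opens.toSpecΓ_SpecMap_presheaf_map_top, Category.assoc, ← Spec.map_comp]
  rw [h1] at h2
  have h3 := SpecMap_inj_of_toSpecΓ V _ _ h2
  have h4 := congrArg (fun φ => φ.hom c) h3
  exact h4

end general

section poly

variable {R : Type u} [CommRing R] {n : ℕ} {X : Scheme.{u}} (q : X ⟶ Spec (CommRingCat.of R))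
  (L : X.Modules) (s : Fin (n + 1) → ProjUP.Γm L)

/-- the locus where the section `s i` generates `L` -/
noncomputable def XS (i : Fin (n + 1)) : X.Opens := CohB1.genLocus L (secHom L (s i))

/-- `R → Γ(X, XS L s i)` -/
noncomputable def ρS (i : Fin (n + 1)) : R →+* Γ(X, XS L s i) :=
  (X.presheaf.map (homOfLE (le_top : XS L s i ≤ ⊤)).op).hom.comp (ProjUP.toGlobal q)

theorem isGen_XS (i : Fin (n + 1)) : IsGen L (XS L s i) (res L (le_top : XS L s i ≤ ⊤) (s i)) := by
  have := isGen_sv_genLocus L (secHom L (s i))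
  rw [sv_secHom] at this
  exact this

/-- transport of the chart formula of `exists_mor` along `ι m = f`, `v m = σ` -/
theorem smul_res_eq {R A : Type u} [CommRing R] [CommRing A] [Algebra R A] (𝒜 : ℕ → Submodule R A)
    [GradedAlgebra 𝒜] {M : Type u} [AddCommGroup M] [Module R M] (ι : M →ₗ[R] A)
    (L : X.Modules) (v : M →+ ProjUP.Γm L) (hι : ∀ m, ι m ∈ 𝒜 1) (r : X ⟶ Proj 𝒜)
    (hle : ∀ m, XL L v m ≤ r ⁻¹ᵁ Proj.basicOpen 𝒜 (ι m))
    (hcf : ∀ m m', (r.appLE (Proj.basicOpen 𝒜 (ι m)) (XL L v m) (hle m)).hom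
      (dehom (hι m) (ι m')) = cf L v m m')
    {m m' : M} {f f' : A} (hfm : ι m = f) (hfm' : ι m' = f') (hf : f ∈ 𝒜 1)
    {σ σ' : ProjUP.Γm L} (hσ : v m = σ) (hσ' : v m' = σ')
    (hle' : CohB1.genLocus L (secHom L σ) ≤ r ⁻¹ᵁ Proj.basicOpen 𝒜 f) :
    (r.appLE (Proj.basicOpen 𝒜 f) (CohB1.genLocus L (secHom L σ)) hle').hom (dehom hf f') •
      res L (le_top : CohB1.genLocus L (secHom L σ) ≤ ⊤) σ = res L le_top σ' := by
  subst hfm hfm' hσ hσ'
  have h := cf_spec L v m m'
  rw [← hcf m m'] at h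
  exact h

theorem exists_map (hL : PicF.IsInvertible L) (hs : ProjUP.GeneratedBy L s) :
    ∃ r : X ⟶ Proj (CohB1.polyGrading n R),
      r ≫ toBase (CohB1.polyGrading n R) = q ∧
      (∀ i, r ⁻¹ᵁ D n R i = XS L s i) ∧
      (∀ i i' (hle : XS L s i ≤ r ⁻¹ᵁ D n R i),
        (r.appLE (D n R i) (XS L s i) hle).hom (dehom (hX n R i) (MvPolynomial.X i')) •
          res L (le_top : XS L s i ≤ ⊤) (s i) = res L le_top (s i')) ∧
      ∃ τ : (Scheme.Modules.pullback r).obj (O1 (CohB1.polyGrading n R)) ≅ L,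
        ∀ i, τ.hom.app ⊤ (unitSec r (O1 (CohB1.polyGrading n R)) (le_top : (⊤ : X.Opens) ≤ r ⁻¹ᵁ ⊤)
          (gsec (CohB1.polyGrading n R) 1 ⊤ (hX n R i))) = s i := by
  classical
  let b : Module.Basis (Fin (n + 1)) R (Fin (n + 1) → R) := Pi.basisFun R (Fin (n + 1))
  let ι : (Fin (n + 1) → R) →ₗ[R] MvPolynomial (Fin (n + 1)) R :=
    Module.Basis.constr b R (MvPolynomial.X : Fin (n + 1) → MvPolynomial (Fin (n + 1)) R)
  have hsym : IsSymmetricAlgebra ι := SymmetricAlgebra.IsSymmetricAlgebra.mvPolynomial (Fin (n + 1)) b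
  have hιb : ∀ i, ι (Pi.single i 1) = MvPolynomial.X i := by
    intro i
    have := Module.Basis.constr_basis b R (MvPolynomial.X : Fin (n + 1) → MvPolynomial (Fin (n + 1)) R) i
    rwa [Pi.basisFun_apply] at this
  have hι : ∀ m, ι m ∈ CohB1.polyGrading n R 1 := by
    intro m
    have hm : m = ∑ i, m i • (Pi.single i (1 : R) : Fin (n + 1) → R) := by
      ext j
      simp [Finset.sum_apply, Pi.single_apply]
    rw [hm, map_sum]
    refine Submodule.sum_mem _ (fun i _ => ?_)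
    rw [map_smul, hιb]
    exact Submodule.smul_mem _ _ (MvPolynomial.isHomogeneous_X R i)
  let v : (Fin (n + 1) → R) →+ ProjUP.Γm L :=
    { toFun := fun m => ∑ i, ProjUP.toGlobal q (m i) • s i
      map_zero' := by simp
      map_add' := fun m m' => by
        simp only [Pi.add_apply, map_add, add_smul, Finset.sum_add_distrib] }
  have hv : ∀ (c : R) (m : Fin (n + 1) → R), v (c • m) = ProjUP.toGlobal q c • v m := by
    intro c m
    change ∑ i, ProjUP.toGlobal q ((c • m) i) • s i = ProjUP.toGlobal q c • ∑ i, ProjUP.toGlobal q (m i) • s i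
    rw [Finset.smul_sum]
    refine Finset.sum_congr rfl (fun i _ => ?_)
    rw [Pi.smul_apply, smul_eq_mul, map_mul, mul_smul]
  have hvb : ∀ i, v (Pi.single i 1) = s i := by
    intro i
    change ∑ j, ProjUP.toGlobal q ((Pi.single i (1 : R) : Fin (n + 1) → R) j) • s j = s i
    rw [Finset.sum_eq_single i]
    · rw [Pi.single_eq_same, map_one, one_smul]
    · intro j _ hj
      rw [Pi.single_eq_of_ne hj, map_zero, zero_smul]
    · intro h
      exact absurd (Finset.mem_univ i) h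
  have hgen : ProjUP.GeneratedBy L v := by
    intro x
    rw [eq_top_iff, ← hs x]
    apply Submodule.span_mono
    rintro _ ⟨i, rfl⟩
    exact ⟨Pi.single i 1, by simp only [hvb]⟩
  obtain ⟨r, hle, hrq, hcf, τ, hτ⟩ :=
    exists_mor_iso' (CohB1.polyGrading n R) ι q L v hι hsym hL hv hgen
  have hcov : ∀ x : X, ∃ m, x ∈ XL L v m := fun x => exists_mem_genLocus L hL v hgen x
  have hpre : ∀ i, r ⁻¹ᵁ D n R i = XS L s i := by
    intro i
    have h := preimage_eq (CohB1.polyGrading n R) ι L v hι r hle hcf hcov (Pi.single i 1)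
    unfold XL at h
    rw [hιb i, hvb i] at h
    exact h
  refine ⟨r, hrq, hpre, ?_, τ, fun i => ?_⟩
  · intro i i' hle'
    exact smul_res_eq (CohB1.polyGrading n R) ι L v hι r hle hcf (hιb i) (hιb i') (hX n R i)
      (hvb i) (hvb i') hle'
  · have h1 := hτ (Pi.single i 1)
    rw [hvb] at h1
    rw [← h1]
    congr 2
    exact (gsec_congr (CohB1.polyGrading n R) (hι (Pi.single i 1)) (hX n R i) (hιb i)).symm

end poly

end Groth.Agent.R2.H65.SecMap
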