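import Mathlib

/-!
# Finite chains in a partial order versus `LTSeries` (helper66)

* `eq_of_range_eq`: an `LTSeries` is determined by its range.
* `exists_series`: every nonempty finite chain is the range of an `LTSeries`.
* `existsUnique_finset_of_existsUnique_series`: transfer of an `∃!` statement about `LTSeries` from
  `⊥` to `⊤` (conditions on members, on consecutive pairs and on consecutive triples) to the same
  statement about finite chains containing `⊥` and `⊤`.
-/

set_option autoImplicit false

open Classical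

namespace Groth.Agent.R2.H66.ChainSeries

variable {α : Type*} [PartialOrder α]

/-- a series with a given range is unique -/
theorem eq_of_range_eq (s t : LTSeries α) (h : Set.range s = Set.range t) : s = t := by
  have hlen : s.length = t.length := by
    have h1 : Nat.card (Set.range s) = s.length + 1 := by
      rw [Nat.card_range_of_injective s.strictMono.injective]; simp
    have h2 : Nat.card (Set.range t) = t.length + 1 := by
      rw [Nat.card_range_of_injective t.strictMono.injective]; simp
    rw [h] at h1
    omega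
  apply RelSeries.ext hlen
  have hs : StrictMono s.toFun := s.strictMono
  have hc : StrictMono (Fin.cast (congrArg (· + 1) hlen)) := fun a b hab => hab
  have ht : StrictMono (t.toFun ∘ Fin.cast (congrArg (· + 1) hlen)) := t.strictMono.comp hc
  refine (StrictMono.range_inj hs ht).1 ?_
  have hsurj : Function.Surjective (Fin.cast (congrArg (· + 1) hlen)) := fun b =>
    ⟨Fin.cast (congrArg (· + 1) hlen).symm b, by simp⟩
  rw [hsurj.range_comp]
  exact h

/-- every nonempty finite chain is the range of a series -/
theorem exists_series : ∀ (n : ℕ) (C : Finset α), C.card = n → IsChain (· ≤ ·) (C : Set α) →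
    C.Nonempty → ∃ s : LTSeries α, Set.range s = (C : Set α) := by
  intro n
  induction n using Nat.strong_induction_on with
  | _ n ih =>
    intro C hcard hC hne
    obtain ⟨M, hM⟩ := C.exists_maximal hne
    have hMC : M ∈ C := hM.1
    have hge : ∀ x ∈ C, x ≤ M := by
      intro x hx
      rcases eq_or_ne x M with rfl | hxM
      · exact le_rfl
      · rcases hC hx hMC hxM with h | h
        · exact h
        · exact hM.2 hx h
    by_cases hC' : (C.erase M).Nonempty
    · obtain ⟨s', hs'⟩ := ih (C.erase M).card (by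
        rw [Finset.card_erase_of_mem hMC, hcard]
        have : 0 < C.card := Finset.card_pos.2 hne
        omega) (C.erase M) rfl (hC.mono (by
          intro x hx
          exact Finset.mem_of_mem_erase hx)) hC'
      have hlast : s'.last ∈ C.erase M := by
        have : s'.last ∈ Set.range s' := ⟨_, rfl⟩
        rw [hs'] at this
        exact this
      have hlt : s'.last < M :=
        lt_of_le_of_ne (hge _ (Finset.mem_of_mem_erase hlast)) (Finset.ne_of_mem_erase hlast)
      refine ⟨s'.snoc M hlt, ?_⟩
      ext x
      have h1 : x ∈ Set.range (s'.snoc M hlt) ↔ x ∈ s'.snoc M hlt := Iff.rfl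
      rw [h1, RelSeries.mem_snoc, RelSeries.mem_def, hs']
      simp only [Finset.coe_erase, Set.mem_sdiff, Finset.mem_coe, Set.mem_singleton_iff]
      constructor
      · rintro (⟨hx, -⟩ | rfl)
        · exact hx
        · exact hMC
      · intro hx
        by_cases hxM : x = M
        · exact Or.inr hxM
        · exact Or.inl ⟨hx, hxM⟩
    · refine ⟨RelSeries.singleton _ M, ?_⟩
      rw [Finset.not_nonempty_iff_eq_empty] at hC'
      ext x
      constructor
      · rintro ⟨i, rfl⟩
        exact hMC
      · intro hx
        have : x = M := by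
          by_contra hxM
          have : x ∈ C.erase M := Finset.mem_erase.2 ⟨hxM, hx⟩
          rw [hC'] at this
          exact absurd this (Finset.notMem_empty _)
        rw [this]
        exact ⟨0, rfl⟩

section Transfer

variable (b t : α) (ok : α → Prop) (F : ∀ A B : α, A < B → Prop)
  (D : ∀ A B B' : α, A < B → B < B' → Prop)

/-- no member of `C` lies strictly between `A` and `B`. -/
def Consec (C : Finset α) (A B : α) : Prop := ∀ X ∈ C, ¬ (A < X ∧ X < B)

theorem lt_step (s : LTSeries α) (i : ℕ) (h : i + 1 < s.length + 1) :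
    s ⟨i, Nat.lt_of_succ_lt h⟩ < s ⟨i + 1, h⟩ :=
  s.strictMono (by rw [Fin.lt_def]; exact Nat.lt_succ_self i)

/-- the property of a finite chain. -/
def PF (C : Finset α) : Prop :=
  b ∈ C ∧ t ∈ C ∧ IsChain (· ≤ ·) (C : Set α) ∧ (∀ A ∈ C, ok A) ∧
    (∀ A ∈ C, ∀ B ∈ C, ∀ h : A < B, Consec C A B → F A B h) ∧
    (∀ A ∈ C, ∀ B ∈ C, ∀ B' ∈ C, ∀ (h : A < B) (h' : B < B'), Consec C A B → Consec C B B' →
      D A B B' h h')

/-- the property of a series. -/
def PS (s : LTSeries α) : Prop :=
  s.head = b ∧ s.last = t ∧ (∀ i, ok (s i)) ∧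
    (∀ (i : ℕ) (h : i + 1 < s.length + 1), F _ _ (lt_step s i h)) ∧
    (∀ (i : ℕ) (h : i + 2 < s.length + 1),
      D _ _ _ (lt_step s i (Nat.lt_of_succ_lt h)) (lt_step s (i + 1) h))

variable {s : LTSeries α} {C : Finset α}

theorem consec_step (hsC : Set.range s = (C : Set α)) (i : ℕ) (h : i + 1 < s.length + 1) :
    Consec C (s ⟨i, Nat.lt_of_succ_lt h⟩) (s ⟨i + 1, h⟩) := by
  intro X hX ⟨h1, h2⟩
  have hX' : X ∈ Set.range s := by rw [hsC]; exact hX
  obtain ⟨x, rfl⟩ := hX'
  rw [s.strictMono.lt_iff_lt, Fin.lt_def] at h1 h2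
  simp only at h1 h2
  omega

theorem exists_step_of_consec (hsC : Set.range s = (C : Set α)) {A B : α} (hA : A ∈ C) (hB : B ∈ C)
    (hAB : A < B) (hc : Consec C A B) :
    ∃ (i : ℕ) (h : i + 1 < s.length + 1), A = s ⟨i, Nat.lt_of_succ_lt h⟩ ∧ B = s ⟨i + 1, h⟩ := by
  have hA' : A ∈ Set.range s := by rw [hsC]; exact hA
  have hB' : B ∈ Set.range s := by rw [hsC]; exact hB
  obtain ⟨a, rfl⟩ := hA'
  obtain ⟨c, rfl⟩ := hB'
  rw [s.strictMono.lt_iff_lt, Fin.lt_def] at hAB
  have hc1 : c.val = a.val + 1 := by
    by_contra hne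
    have h2 : a.val + 1 < c.val := by omega
    have h3 : a.val + 1 < s.length + 1 := lt_trans h2 c.2
    refine hc (s ⟨a.val + 1, h3⟩) ?_ ⟨?_, ?_⟩
    · have : s ⟨a.val + 1, h3⟩ ∈ Set.range s := ⟨_, rfl⟩
      rw [hsC] at this
      exact this
    · rw [s.strictMono.lt_iff_lt, Fin.lt_def]
      exact Nat.lt_succ_self _
    · rw [s.strictMono.lt_iff_lt, Fin.lt_def]
      exact h2
  refine ⟨a.val, by rw [← hc1]; exact c.2, rfl, ?_⟩
  congr 1
  exact Fin.ext hc1

variable (hb : ∀ x : α, b ≤ x) (ht : ∀ x : α, x ≤ t)

include hb ht in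
theorem ps_iff_pf (hsC : Set.range s = (C : Set α)) : PS b t ok F D s ↔ PF b t ok F D C := by
  have hmem : ∀ i, s i ∈ C := fun i => by
    have : s i ∈ Set.range s := ⟨i, rfl⟩
    rw [hsC] at this
    exact this
  constructor
  · rintro ⟨h1, h2, h3, h4, h5⟩
    refine ⟨?_, ?_, ?_, ?_, ?_, ?_⟩
    · rw [← h1]; exact hmem _
    · rw [← h2]; exact hmem _
    · intro x hx y hy _
      have hx' : x ∈ Set.range s := by rw [hsC]; exact hx
      have hy' : y ∈ Set.range s := by rw [hsC]; exact hy
      obtain ⟨i, rfl⟩ := hx'
      obtain ⟨j, rfl⟩ := hy'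
      rcases le_total i j with h | h
      · exact Or.inl (s.strictMono.monotone h)
      · exact Or.inr (s.strictMono.monotone h)
    · intro A hA
      have hA' : A ∈ Set.range s := by rw [hsC]; exact hA
      obtain ⟨i, rfl⟩ := hA'
      exact h3 i
    · intro A hA B hB hAB hc
      obtain ⟨i, h, rfl, rfl⟩ := exists_step_of_consec hsC hA hB hAB hc
      exact h4 i h
    · intro A hA B hB B' hB' hAB hBB' hc hc'
      obtain ⟨i, h, rfl, hBi⟩ := exists_step_of_consec hsC hA hB hAB hc
      obtain ⟨j, h', hBj, rfl⟩ := exists_step_of_consec hsC hB hB' hBB' hc'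
      have hij : j = i + 1 := by
        have := s.strictMono.injective (hBi.symm.trans hBj)
        exact (Fin.mk.inj_iff.1 this).symm
      subst hij
      subst hBi
      exact h5 i h'
  · rintro ⟨h1, h2, h3, h4, h5, h6⟩
    refine ⟨?_, ?_, ?_, ?_, ?_⟩
    · have h1' : b ∈ Set.range s := by rw [hsC]; exact h1
      obtain ⟨i, hi⟩ := h1'
      apply le_antisymm _ (hb _)
      rw [← hi]
      exact s.strictMono.monotone (Fin.zero_le i)
    · have h2' : t ∈ Set.range s := by rw [hsC]; exact h2
      obtain ⟨i, hi⟩ := h2'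
      apply le_antisymm (ht _)
      rw [← hi]
      exact s.strictMono.monotone (Fin.le_last i)
    · exact fun i => h4 _ (hmem i)
    · intro i h
      exact h5 _ (hmem _) _ (hmem _) _ (consec_step hsC i h)
    · intro i h
      exact h6 _ (hmem _) _ (hmem _) _ (hmem _) _ _ (consec_step hsC i (Nat.lt_of_succ_lt h))
        (consec_step hsC (i + 1) h)

include hb ht in
/-- **transfer**: a unique series from `b` to `t` with given conditions on members, steps and double
steps gives a unique finite chain with the same conditions. -/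
theorem existsUnique_finset (h : ∃! s : LTSeries α, PS b t ok F D s) :
    ∃! C : Finset α, PF b t ok F D C := by
  obtain ⟨s, hs, huniq⟩ := h
  have hrange : Set.range s = ((Finset.univ.image s : Finset α) : Set α) := by
    rw [Finset.coe_image, Finset.coe_univ, Set.image_univ]
  refine ⟨Finset.univ.image s, (ps_iff_pf b t ok F D hb ht hrange).1 hs, ?_⟩
  intro C hC
  have hne : C.Nonempty := ⟨b, hC.1⟩
  obtain ⟨s', hs'⟩ := exists_series C.card C rfl hC.2.2.1 hne
  have h1 : s' = s := huniq s' ((ps_iff_pf b t ok F D hb ht hs').2 hC)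
  apply Finset.coe_injective
  rw [← hs', h1, hrange]

end Transfer

end Groth.Agent.R2.H66.ChainSeries
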