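import Groth.Agent.R2.H66FMChase
import Mathlib.CategoryTheory.Subobject.Limits
import Mathlib.CategoryTheory.Subobject.Lattice

/-!
# Subobjects and image subobjects, on elements (Freyd–Mitchell dictionary)
-/

set_option autoImplicit false
universe v u
open CategoryTheory CategoryTheory.Limits

namespace Groth.Agent.R2.H66.FMSub

open Groth.Agent.R2.H66.FMChase

variable {D : Type u} [Category.{v} D] [Abelian D]

lemma subobject_le_iff {A : D} (S S' : Subobject A) :
    S ≤ S' ↔ ∀ x : El (S : D), ∃ y : El (S' : D), ap S'.arrow y = ap S.arrow x := by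
  constructor
  · intro h x
    exact ⟨ap (S.ofLE S' h) x, by rw [← ap_comp, Subobject.ofLE_arrow]⟩
  · intro h
    obtain ⟨l, hl⟩ := exists_lift_of_range_le S.arrow S'.arrow h
    exact Subobject.le_of_comm l hl

lemma range_imageSubobject_arrow {X A : D} (f : X ⟶ A) (a : El A) :
    (∃ z : El (imageSubobject f : D), ap (imageSubobject f).arrow z = a) ↔
      ∃ x : El X, ap f x = a := by
  constructor
  · rintro ⟨z, rfl⟩
    obtain ⟨x, rfl⟩ := surjective_of_epi (factorThruImageSubobject f) z
    exact ⟨x, by rw [← ap_comp, imageSubobject_arrow_comp]⟩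
  · rintro ⟨x, rfl⟩
    exact ⟨ap (factorThruImageSubobject f) x, by rw [← ap_comp, imageSubobject_arrow_comp]⟩

lemma le_imageSubobject_iff {X A : D} (S : Subobject A) (g : X ⟶ A) :
    S ≤ imageSubobject g ↔ ∀ x : El (S : D), ∃ y : El X, ap g y = ap S.arrow x := by
  rw [subobject_le_iff]
  exact forall_congr' (fun x => range_imageSubobject_arrow g _)

lemma imageSubobject_le_iff {X Y A : D} (f : X ⟶ A) (g : Y ⟶ A) :
    imageSubobject f ≤ imageSubobject g ↔ ∀ x : El X, ∃ y : El Y, ap g y = ap f x := by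
  rw [le_imageSubobject_iff]
  constructor
  · intro h x
    obtain ⟨y, hy⟩ := h (ap (factorThruImageSubobject f) x)
    exact ⟨y, by rw [hy, ← ap_comp, imageSubobject_arrow_comp]⟩
  · intro h z
    obtain ⟨x, rfl⟩ := surjective_of_epi (factorThruImageSubobject f) z
    obtain ⟨y, hy⟩ := h x
    exact ⟨y, by rw [hy, ← ap_comp, imageSubobject_arrow_comp]⟩

lemma imageSubobject_eq_iff {X Y A : D} (f : X ⟶ A) (g : Y ⟶ A) :
    imageSubobject f = imageSubobject g ↔
      ∀ a : El A, (∃ x : El X, ap f x = a) ↔ ∃ y : El Y, ap g y = a := by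
  rw [le_antisymm_iff, imageSubobject_le_iff, imageSubobject_le_iff]
  constructor
  · rintro ⟨h1, h2⟩ a
    constructor
    · rintro ⟨x, rfl⟩
      exact h1 x
    · rintro ⟨y, rfl⟩
      exact h2 y
  · intro h
    exact ⟨fun x => (h _).mp ⟨x, rfl⟩, fun y => (h _).mpr ⟨y, rfl⟩⟩

lemma arrow_injective {A : D} (S : Subobject A) : Function.Injective (ap S.arrow) :=
  injective_of_mono _

end Groth.Agent.R2.H66.FMSub
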