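import Groth.Agent.R2.H66Cofinite
import Groth.Agent.R2.H66FMSub

/-!
# Descending chains of subobjects of cofinite type stabilise (abstract form)
-/

set_option autoImplicit false
universe v u
open CategoryTheory CategoryTheory.Limits

namespace Groth.Agent.R2.H66.CofArtin

open Groth.Agent.R2.H66.FMChase Groth.Agent.R2.H66.FMSub Groth.Agent.R2.H66.Cofinite

variable {D : Type u} [Category.{v} D] [Abelian D]

/-- a subobject containing all the `A[p^k]` is everything -/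
def UnionPure (p : ℕ) : Prop :=
  ∀ (A B : D) (i : B ⟶ A) [Mono i], (∀ k : ℕ, ∃ h, h ≫ i = ιT (p ^ k) A) → Epi i

lemma nonempty_iso_of_range_eq {X X' A : D} (i : X ⟶ A) (i' : X' ⟶ A) [Mono i] [Mono i']
    (h : ∀ a : El A, (∃ x, ap i x = a) ↔ ∃ x', ap i' x' = a) : Nonempty (X ≅ X') := by
  obtain ⟨l, hl⟩ := exists_lift_of_range_le i i' (fun x => (h _).mp ⟨x, rfl⟩)
  obtain ⟨l', hl'⟩ := exists_lift_of_range_le i' i (fun x => (h _).mpr ⟨x, rfl⟩)
  refine ⟨⟨l, l', ?_, ?_⟩⟩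
  · rw [← cancel_mono i, Category.assoc, hl', hl, Category.id_comp]
  · rw [← cancel_mono i', Category.assoc, hl, hl', Category.id_comp]

lemma epi_smul_iff {X : D} (k : ℕ) :
    Epi (k • 𝟙 X) ↔ ∀ x : El X, ∃ y : El X, k • y = x := by
  rw [epi_iff_ap_surjective]
  constructor
  · intro h x
    obtain ⟨y, hy⟩ := h x
    exact ⟨y, by simpa using hy⟩
  · intro h x
    obtain ⟨y, hy⟩ := h x
    exact ⟨y, by simpa using hy⟩

/-- the torsion of the image of multiplication by `b` -/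
lemma P_T_image {S : Setup D} (a b : ℕ) (A : D) (ha : S.P (T a A)) (hab : S.P (T (a * b) A)) :
    S.P (T a (imageSubobject (b • 𝟙 A) : D)) := by
  let g : T (a * b) A ⟶ T a A := kernel.lift (a • 𝟙 A) (ιT (a * b) A ≫ (b • 𝟙 A)) (by
    apply hom_ext_ap
    intro x
    simp only [ap_comp, ap_nsmul, ap_id, ap_zero]
    rw [← mul_smul]
    exact ιT_smul _ _ _)
  have hg : ∀ x, ap (ιT a A) (ap g x) = b • ap (ιT (a * b) A) x := by
    intro x
    rw [← ap_comp, kernel.lift_ι]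
    simp
  obtain ⟨I', m', hm', hPI', hrange⟩ := exists_image_P g hab ha
  have e : Nonempty (I' ≅ T a (imageSubobject (b • 𝟙 A) : D)) := by
    refine nonempty_iso_of_range_eq (m' ≫ ιT a A)
      (ιT a (imageSubobject (b • 𝟙 A) : D) ≫ (imageSubobject (b • 𝟙 A)).arrow) (fun w => ?_)
    constructor
    · rintro ⟨z, rfl⟩
      obtain ⟨x, hx⟩ := (hrange (ap m' z)).mp ⟨z, rfl⟩
      obtain ⟨u, hu⟩ := (range_imageSubobject_arrow (b • 𝟙 A) (b • ap (ιT (a * b) A) x)).mpr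
        ⟨ap (ιT (a * b) A) x, by simp⟩
      have hau : a • u = 0 := by
        apply arrow_injective
        rw [map_nsmul, hu, map_zero, ← mul_smul]
        exact ιT_smul _ _ _
      obtain ⟨t, ht⟩ := (mem_T_iff a _ u).mpr hau
      refine ⟨t, ?_⟩
      rw [ap_comp, ht, hu, ap_comp, ← hx, hg]
    · rintro ⟨t, rfl⟩
      obtain ⟨x, hx⟩ := (range_imageSubobject_arrow (b • 𝟙 A) _).mp
        ⟨ap (ιT a (imageSubobject (b • 𝟙 A) : D)) t, rfl⟩
      simp only [ap_nsmul, ap_id] at hx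
      have hx0 : (a * b) • x = 0 := by
        rw [mul_smul, hx, ← map_nsmul, ιT_smul, map_zero]
      obtain ⟨s, hs⟩ := (mem_T_iff (a * b) A x).mpr hx0
      obtain ⟨z, hz⟩ := (hrange (ap g s)).mpr ⟨s, rfl⟩
      refine ⟨z, ?_⟩
      rw [ap_comp, hz, hg, hs, hx, ap_comp]
  exact S.P_iso e.some hPI'

/-- `X / p^n X` is in `P` for `X` of cofinite type -/
lemma P_cokernel_pow {S : Setup D} (p n : ℕ) (hU : Union (D := D) (p ^ n)) (X : D)
    (hX : ∀ k : ℕ, S.P (T (p ^ k) X)) : S.P (cokernel ((p ^ n) • 𝟙 X)) := by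
  have hX' : ∀ k : ℕ, S.P (T ((p ^ n) ^ k) X) := by
    intro k
    rw [← pow_mul]
    exact hX (n * k)
  obtain ⟨N, hN⟩ := exists_decomp (S := S) (p ^ n) hU X hX'
  exact P_cokernel_smul (p ^ n) N X hN (hX' N) (hX' (N + 1))


/-- descending chain condition for families of subobjects in `P` given by their ranges -/
lemma artin_ranges (𝒮 : Setup D) (A : D) (Q : ℕ → El A → Prop)
    (hQ : ∀ n, ∃ (I : D) (m : I ⟶ A), Mono m ∧ 𝒮.P I ∧ ∀ a, (∃ z, ap m z = a) ↔ Q n a)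
    (hanti : ∀ n a, Q (n + 1) a → Q n a) :
    ∃ N, ∀ n, N ≤ n → ∀ a, Q N a → Q n a := by
  choose I m hm hPI hrange using hQ
  let c : ℕ → Subobject A := fun n => @Subobject.mk _ _ _ _ (m n) (hm n)
  have hanti' : Antitone c := by
    refine antitone_nat_of_succ_le (fun n => ?_)
    have := hm n
    have := hm (n + 1)
    obtain ⟨l, hl⟩ := exists_lift_of_range_le (m (n + 1)) (m n) (by
      intro x
      exact (hrange n _).mpr (hanti n _ ((hrange (n + 1) _).mp ⟨x, rfl⟩)))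
    exact @Subobject.mk_le_mk_of_comm _ _ _ _ _ _ _ (hm (n + 1)) (hm n) l hl
  have hPc : ∀ n, 𝒮.P (c n : D) := fun n => by
    have := hm n
    exact 𝒮.P_iso (Subobject.underlyingIso (m n)).symm (hPI n)
  obtain ⟨N, hN⟩ := 𝒮.artin A c hanti' hPc
  refine ⟨N, fun n hn a ha => ?_⟩
  have h1 : c n = c N := hN n hn
  have := hm n
  have := hm N
  have hle : Subobject.mk (m N) ≤ Subobject.mk (m n) := h1.ge
  have he : Subobject.ofMkLEMk (m N) (m n) hle ≫ m n = m N := Subobject.ofMkLEMk_comp hle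
  obtain ⟨z, hz⟩ := (hrange N a).mpr ha
  refine (hrange n a).mp ⟨ap (Subobject.ofMkLEMk (m N) (m n) hle) z, ?_⟩
  rw [← ap_comp, he, hz]

section Chain

variable {A : D} (S : ℕ → Subobject A)

/-- `a ∈ S m` -/
def R (m : ℕ) (a : El A) : Prop := ∃ x : El (S m : D), ap (S m).arrow x = a

/-- `a ∈ p^n (S m)` -/
def V (p : ℕ) (n m : ℕ) (a : El A) : Prop := ∃ b, R S m b ∧ a = (p ^ n) • b

variable {S}

lemma R_anti (hS : Antitone S) {m m' : ℕ} (h : m ≤ m') {a : El A} (ha : R S m' a) : R S m a := by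
  obtain ⟨x, rfl⟩ := ha
  exact (subobject_le_iff _ _).mp (hS h) x

lemma R_zero (m : ℕ) : R S m 0 := ⟨0, map_zero _⟩

lemma R_add {m : ℕ} {a b : El A} (ha : R S m a) (hb : R S m b) : R S m (a + b) := by
  obtain ⟨x, rfl⟩ := ha
  obtain ⟨y, rfl⟩ := hb
  exact ⟨x + y, map_add _ _ _⟩

lemma R_sub {m : ℕ} {a b : El A} (ha : R S m a) (hb : R S m b) : R S m (a - b) := by
  obtain ⟨x, rfl⟩ := ha
  obtain ⟨y, rfl⟩ := hb
  exact ⟨x - y, map_sub _ _ _⟩

lemma R_nsmul {m : ℕ} {a : El A} (k : ℕ) (ha : R S m a) : R S m (k • a) := by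
  obtain ⟨x, rfl⟩ := ha
  exact ⟨k • x, map_nsmul _ _ _⟩

lemma V_R {p n m : ℕ} {a : El A} (h : V S p n m a) : R S m a := by
  obtain ⟨b, hb, rfl⟩ := h
  exact R_nsmul _ hb

lemma V_zero (p n m : ℕ) : V S p n m 0 := ⟨0, R_zero m, by simp⟩

lemma V_add {p n m : ℕ} {a b : El A} (ha : V S p n m a) (hb : V S p n m b) :
    V S p n m (a + b) := by
  obtain ⟨x, hx, rfl⟩ := ha
  obtain ⟨y, hy, rfl⟩ := hb
  exact ⟨x + y, R_add hx hy, (smul_add _ _ _).symm⟩

lemma V_sub {p n m : ℕ} {a b : El A} (ha : V S p n m a) (hb : V S p n m b) :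
    V S p n m (a - b) := by
  obtain ⟨x, hx, rfl⟩ := ha
  obtain ⟨y, hy, rfl⟩ := hb
  exact ⟨x - y, R_sub hx hy, (smul_sub _ _ _).symm⟩

lemma V_nsmul {p n m : ℕ} {a : El A} (k : ℕ) (ha : V S p n m a) : V S p n m (k • a) := by
  obtain ⟨x, hx, rfl⟩ := ha
  exact ⟨k • x, R_nsmul k hx, smul_comm _ _ _⟩

/-- elementwise form of the decomposition for the elements of `S m` -/
lemma decomp_R {p N m : ℕ} (hN : Decomp p N (S m : D)) (n : ℕ) {a : El A} (ha : R S m a) :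
    ∃ b c, R S m b ∧ R S m c ∧ (p ^ N) • c = 0 ∧ a = (p ^ n) • b + c := by
  obtain ⟨x, rfl⟩ := ha
  obtain ⟨y, z, hz, rfl⟩ := hN.pow n x
  refine ⟨ap (S m).arrow y, ap (S m).arrow z, ⟨y, rfl⟩, ⟨z, rfl⟩, ?_, ?_⟩
  · rw [← map_nsmul, hz, map_zero]
  · rw [map_add, map_nsmul]

/-- the divisible part is divisible -/
lemma V_div {p N m : ℕ} (hN : Decomp p N (S m : D)) (n : ℕ) {a : El A} (ha : V S p N m a) :
    ∃ b, V S p N m b ∧ a = (p ^ n) • b := by
  obtain ⟨x, hx, rfl⟩ := ha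
  obtain ⟨b, c, hb, hc, hc0, rfl⟩ := decomp_R hN n hx
  refine ⟨(p ^ N) • b, ⟨b, hb, rfl⟩, ?_⟩
  rw [smul_add, hc0, add_zero, smul_comm]

/-- the divisible parts decrease -/
lemma V_anti (hS : Antitone S) {p N N' m m' : ℕ} (h : m ≤ m') (hN' : Decomp p N' (S m' : D))
    {a : El A} (ha : V S p N' m' a) : V S p N m a := by
  obtain ⟨b, hb, rfl⟩ := V_div hN' N ha
  exact ⟨b, R_anti hS h (V_R hb), rfl⟩

end Chain

section Main

variable {A : D} {S : ℕ → Subobject A}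

/-- the `p`-torsion of the divisible part, as a subobject in `P` -/
lemma exists_torsion_divisible {𝒮 : Setup D} (p N m : ℕ)
    (hP1 : 𝒮.P (T p (S m : D))) (hP2 : 𝒮.P (T (p * p ^ N) (S m : D))) :
    ∃ (I : D) (i : I ⟶ A), Mono i ∧ 𝒮.P I ∧
      ∀ a, (∃ z, ap i z = a) ↔ (V S p N m a ∧ p • a = 0) := by
  let J : Subobject (S m : D) := imageSubobject ((p ^ N) • 𝟙 (S m : D))
  refine ⟨T p (J : D), ιT p (J : D) ≫ J.arrow ≫ (S m).arrow, inferInstance,
    P_T_image p (p ^ N) (S m : D) hP1 hP2, fun a => ?_⟩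
  constructor
  · rintro ⟨z, rfl⟩
    obtain ⟨x, hx⟩ := (range_imageSubobject_arrow ((p ^ N) • 𝟙 (S m : D)) _).mp
      ⟨ap (ιT p (J : D)) z, rfl⟩
    simp only [ap_nsmul, ap_id] at hx
    refine ⟨⟨ap (S m).arrow x, ⟨x, rfl⟩, ?_⟩, ?_⟩
    · rw [ap_comp, ap_comp, ← hx, map_nsmul]
    · rw [ap_comp, ← map_nsmul, ιT_smul, map_zero]
  · rintro ⟨⟨b, ⟨x, rfl⟩, rfl⟩, h0⟩
    obtain ⟨u, hu⟩ := (range_imageSubobject_arrow ((p ^ N) • 𝟙 (S m : D)) ((p ^ N) • x)).mpr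
      ⟨x, by simp⟩
    have hpu : p • u = 0 := by
      apply arrow_injective J
      apply arrow_injective (S m)
      rw [map_nsmul, map_nsmul, hu, map_zero, map_zero, map_nsmul]
      exact h0
    obtain ⟨t, ht⟩ := (mem_T_iff p (J : D) u).mpr hpu
    refine ⟨t, ?_⟩
    rw [ap_comp, ap_comp, ht, hu, map_nsmul]

/-- the quotient of `S m₁` by its divisible part receives the quotients of the smaller `S m`;
their images form a family of subobjects in `P` -/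
lemma exists_quotient_image {𝒮 : Setup D} (hS : Antitone S) (p N₁ N m₁ m : ℕ) (h : m₁ ≤ m)
    (hN : Decomp p N (S m : D))
    (hP1 : 𝒮.P (cokernel ((p ^ N₁) • 𝟙 (S m₁ : D)))) (hP : 𝒮.P (cokernel ((p ^ N) • 𝟙 (S m : D)))) :
    ∃ (I : D) (i : I ⟶ cokernel ((p ^ N₁) • 𝟙 (S m₁ : D))), Mono i ∧ 𝒮.P I ∧
      ∀ y, (∃ z, ap i z = y) ↔
        ∃ x : El (S m₁ : D), R S m (ap (S m₁).arrow x) ∧
          ap (cokernel.π ((p ^ N₁) • 𝟙 (S m₁ : D))) x = y := by
  let π₁ := cokernel.π ((p ^ N₁) • 𝟙 (S m₁ : D))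
  let j : (S m : D) ⟶ (S m₁ : D) := (S m).ofLE (S m₁) (hS h)
  have hj : ∀ x, ap (S m₁).arrow (ap j x) = ap (S m).arrow x := by
    intro x
    rw [← ap_comp, Subobject.ofLE_arrow]
  have w : ((p ^ N) • 𝟙 (S m : D)) ≫ (j ≫ π₁) = 0 := by
    apply eq_zero_of_ap
    intro x
    simp only [ap_comp, ap_nsmul, ap_id]
    rw [cokernel_π_eq_zero_iff]
    have hV : V S p N₁ m₁ (ap (S m).arrow ((p ^ N) • x)) :=
      V_anti hS h hN ⟨ap (S m).arrow x, ⟨x, rfl⟩, map_nsmul _ _ _⟩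
    obtain ⟨b, ⟨x₁, rfl⟩, hb⟩ := hV
    refine ⟨x₁, ?_⟩
    apply arrow_injective (S m₁)
    simp only [ap_nsmul, ap_id]
    rw [hj, hb, map_nsmul]
  let ψ : cokernel ((p ^ N) • 𝟙 (S m : D)) ⟶ cokernel ((p ^ N₁) • 𝟙 (S m₁ : D)) :=
    cokernel.desc _ (j ≫ π₁) w
  obtain ⟨I, i, hi, hPI, hrange⟩ := exists_image_P ψ hP hP1
  refine ⟨I, i, hi, hPI, fun y => ?_⟩
  rw [hrange]
  constructor
  · rintro ⟨z, rfl⟩
    obtain ⟨x, rfl⟩ := cokernel_π_surjective _ z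
    refine ⟨ap j x, ⟨x, (hj x).symm⟩, ?_⟩
    rw [← ap_comp (cokernel.π _) ψ, cokernel.π_desc, ap_comp]
  · rintro ⟨x₁, ⟨x, hx⟩, rfl⟩
    refine ⟨ap (cokernel.π _) x, ?_⟩
    rw [← ap_comp (cokernel.π _) ψ, cokernel.π_desc, ap_comp]
    congr 1
    apply arrow_injective (S m₁)
    rw [hj, hx]

/-- **Descending chains of subobjects of cofinite type stabilise.** -/
theorem chain_stabilizes (𝒮 : Setup D) (p : ℕ) (hU : ∀ n : ℕ, Union (D := D) (p ^ n))
    (hUp : UnionPure (D := D) p) (A : D) (S : ℕ → Subobject A) (hS : Antitone S)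
    (hcof : ∀ m n : ℕ, 𝒮.P (T (p ^ n) (S m : D))) :
    ∃ N : ℕ, ∀ m : ℕ, N ≤ m → S m = S N := by
  -- Step 1: decompositions
  have hU1 : Union (D := D) p := by simpa using hU 1
  have hdec : ∀ m, ∃ N, Decomp p N (S m : D) := fun m =>
    exists_decomp (S := 𝒮) p hU1 (S m : D) (hcof m)
  choose N hN using hdec
  -- Step 2: the `p`-torsion of the divisible parts
  obtain ⟨m₁, hm₁⟩ := artin_ranges 𝒮 A (fun m a => V S p (N m) m a ∧ p • a = 0)
    (fun m => exists_torsion_divisible p (N m) m (by simpa using hcof m 1)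
      (by rw [← pow_succ']; exact hcof m (N m + 1)))
    (fun m a ha => ⟨V_anti hS (Nat.le_succ m) (hN (m + 1)) ha.1, ha.2⟩)
  -- Step 3: the divisible parts are constant from `m₁` on
  have hstep3 : ∀ m, m₁ ≤ m → ∀ a, V S p (N m₁) m₁ a → V S p (N m) m a := by
    intro m hm
    -- torsion elements first
    have htors : ∀ k : ℕ, ∀ a, V S p (N m₁) m₁ a → (p ^ k) • a = 0 → V S p (N m) m a := by
      intro k
      induction k with
      | zero =>
        intro a _ ha0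
        simp only [pow_zero, one_smul] at ha0
        rw [ha0]
        exact V_zero _ _ _
      | succ k ih =>
        intro a ha ha0
        have h1 : V S p (N m) m ((p ^ k) • a) := by
          refine (hm₁ m hm _ ⟨V_nsmul _ ha, ?_⟩).1
          rw [← mul_smul, ← pow_succ']
          exact ha0
        obtain ⟨b, hb, hab⟩ := V_div (hN m) k h1
        have h2 : V S p (N m) m (a - b) := by
          refine ih (a - b) (V_sub ha (V_anti hS hm (hN m) hb)) ?_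
          rw [smul_sub, hab, sub_self]
        have := V_add h2 hb
        rwa [sub_add_cancel] at this
    -- now use purity
    let J₁ : Subobject (S m₁ : D) := imageSubobject ((p ^ N m₁) • 𝟙 (S m₁ : D))
    let J : Subobject (S m : D) := imageSubobject ((p ^ N m) • 𝟙 (S m : D))
    have hr₁ : ∀ a, (∃ u, ap (J₁.arrow ≫ (S m₁).arrow) u = a) ↔ V S p (N m₁) m₁ a := by
      intro a
      constructor
      · rintro ⟨u, rfl⟩
        obtain ⟨x, hx⟩ := (range_imageSubobject_arrow ((p ^ N m₁) • 𝟙 (S m₁ : D)) _).mp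
          ⟨u, rfl⟩
        simp only [ap_nsmul, ap_id] at hx
        exact ⟨ap (S m₁).arrow x, ⟨x, rfl⟩, by rw [ap_comp, ← hx, map_nsmul]⟩
      · rintro ⟨b, ⟨x, rfl⟩, rfl⟩
        obtain ⟨u, hu⟩ := (range_imageSubobject_arrow ((p ^ N m₁) • 𝟙 (S m₁ : D))
          ((p ^ N m₁) • x)).mpr ⟨x, by simp⟩
        exact ⟨u, by rw [ap_comp, hu, map_nsmul]⟩
    have hr : ∀ a, (∃ u, ap (J.arrow ≫ (S m).arrow) u = a) ↔ V S p (N m) m a := by
      intro a
      constructor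
      · rintro ⟨u, rfl⟩
        obtain ⟨x, hx⟩ := (range_imageSubobject_arrow ((p ^ N m) • 𝟙 (S m : D)) _).mp
          ⟨u, rfl⟩
        simp only [ap_nsmul, ap_id] at hx
        exact ⟨ap (S m).arrow x, ⟨x, rfl⟩, by rw [ap_comp, ← hx, map_nsmul]⟩
      · rintro ⟨b, ⟨x, rfl⟩, rfl⟩
        obtain ⟨u, hu⟩ := (range_imageSubobject_arrow ((p ^ N m) • 𝟙 (S m : D))
          ((p ^ N m) • x)).mpr ⟨x, by simp⟩
        exact ⟨u, by rw [ap_comp, hu, map_nsmul]⟩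
    obtain ⟨j, hj⟩ := exists_lift_of_range_le (J.arrow ≫ (S m).arrow) (J₁.arrow ≫ (S m₁).arrow)
      (fun u => (hr₁ _).mpr (V_anti hS hm (hN m) ((hr _).mp ⟨u, rfl⟩)))
    have hjmono : Mono j := by
      have : Mono (j ≫ (J₁.arrow ≫ (S m₁).arrow)) := by rw [hj]; infer_instance
      exact mono_of_mono j (J₁.arrow ≫ (S m₁).arrow)
    have hepi : Epi j := by
      refine hUp (J₁ : D) (J : D) j (fun k => ?_)
      refine exists_lift_of_range_le _ _ (fun t => ?_)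
      have hV : V S p (N m) m (ap (J₁.arrow ≫ (S m₁).arrow) (ap (ιT (p ^ k) (J₁ : D)) t)) := by
        refine htors k _ ((hr₁ _).mp ⟨_, rfl⟩) ?_
        rw [← map_nsmul, ιT_smul, map_zero]
      obtain ⟨u, hu⟩ := (hr _).mpr hV
      refine ⟨u, ?_⟩
      apply injective_of_mono (J₁.arrow ≫ (S m₁).arrow)
      rw [← ap_comp, hj, hu]
    intro a ha
    obtain ⟨u₁, hu₁⟩ := (hr₁ a).mpr ha
    obtain ⟨u, hu⟩ := surjective_of_epi j u₁
    refine (hr a).mp ⟨u, ?_⟩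
    rw [← hj, ap_comp, hu, hu₁]
  -- Step 4: the quotients by the divisible part
  have hPcok : ∀ m, 𝒮.P (cokernel ((p ^ N m) • 𝟙 (S m : D))) := fun m =>
    P_cokernel_pow p (N m) (hU (N m)) (S m : D) (hcof m)
  obtain ⟨t₀, ht₀⟩ := artin_ranges 𝒮 (cokernel ((p ^ N m₁) • 𝟙 (S m₁ : D)))
    (fun t y => ∃ x : El (S m₁ : D), R S (m₁ + t) (ap (S m₁).arrow x) ∧
      ap (cokernel.π ((p ^ N m₁) • 𝟙 (S m₁ : D))) x = y)
    (fun t => exists_quotient_image hS p (N m₁) (N (m₁ + t)) m₁ (m₁ + t) (Nat.le_add_right _ _)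
      (hN (m₁ + t)) (hPcok m₁) (hPcok (m₁ + t)))
    (fun t y hy => by
      obtain ⟨x, hx, rfl⟩ := hy
      exact ⟨x, R_anti hS (by omega) hx, rfl⟩)
  refine ⟨m₁ + t₀, fun m hm => le_antisymm (hS hm) ?_⟩
  obtain ⟨t, rfl⟩ : ∃ t, m = m₁ + t := ⟨m - m₁, by omega⟩
  have ht : t₀ ≤ t := by omega
  rw [subobject_le_iff]
  intro x
  have hR1 : R S m₁ (ap (S (m₁ + t₀)).arrow x) := R_anti hS (Nat.le_add_right _ _) ⟨x, rfl⟩
  obtain ⟨x₁, hx₁⟩ := hR1
  obtain ⟨x₁', hx₁', hπ⟩ := ht₀ t ht (ap (cokernel.π ((p ^ N m₁) • 𝟙 (S m₁ : D))) x₁)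
    ⟨x₁, by rw [hx₁]; exact ⟨x, rfl⟩, rfl⟩
  have h0 : ap (cokernel.π ((p ^ N m₁) • 𝟙 (S m₁ : D))) (x₁ - x₁') = 0 := by
    rw [map_sub, hπ, sub_self]
  obtain ⟨x₂, hx₂⟩ := (cokernel_π_eq_zero_iff _ _).mp h0
  simp only [ap_nsmul, ap_id] at hx₂
  have hV : V S p (N m₁) m₁ (ap (S m₁).arrow (x₁ - x₁')) :=
    ⟨ap (S m₁).arrow x₂, ⟨x₂, rfl⟩, by rw [← hx₂, map_nsmul]⟩
  have hR : R S (m₁ + t) (ap (S m₁).arrow (x₁ - x₁')) :=
    V_R (hstep3 (m₁ + t) (Nat.le_add_right _ _) _ hV)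
  have := R_add hR hx₁'
  rw [← map_add, sub_add_cancel, hx₁] at this
  exact this

end Main

end Groth.Agent.R2.H66.CofArtin
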