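import Groth.Agent.R2.H66FMChase
import Mathlib.CategoryTheory.Subobject.Limits
import Mathlib.CategoryTheory.Subobject.Lattice
import Mathlib.CategoryTheory.Abelian.Images

/-!
# Objects of cofinite type in an abelian category, abstractly

`D` is an abelian category, `P` a class of objects stable under isomorphisms, kernels and cokernels
and satisfying a descending chain condition (`Setup`).  For a natural number `q` the `q`-torsion of
`A` is `T q A = kernel (q • 𝟙 A)`.  `Union S q` says that a subobject of any `A` containing `q A`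
and all `A[q^m]` is everything.  Under these hypotheses we prove the decomposition
`A = q A + A[q^N]` for objects all of whose `A[q^k]` are in `P`, and deduce that `A / q A` is in `P`,
that the images of `q^n` stabilise, and that objects of cofinite type are stable under kernels
and cokernels.
-/

set_option autoImplicit false
universe v u
open CategoryTheory CategoryTheory.Limits

namespace Groth.Agent.R2.H66.Cofinite

open Groth.Agent.R2.H66.FMChase

variable {D : Type u} [Category.{v} D] [Abelian D]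

/-- the `n`-torsion subobject -/
noncomputable abbrev T (n : ℕ) (A : D) : D := kernel (n • 𝟙 A)

/-- the inclusion of the `n`-torsion -/
noncomputable abbrev ιT (n : ℕ) (A : D) : T n A ⟶ A := kernel.ι (n • 𝟙 A)

lemma mem_T_iff (n : ℕ) (A : D) (x : El A) : (∃ y, ap (ιT n A) y = x) ↔ n • x = 0 := by
  rw [mem_range_kernel_ι_iff]
  simp

lemma ιT_smul (n : ℕ) (A : D) (y : El (T n A)) : n • ap (ιT n A) y = 0 :=
  (mem_T_iff n A _).mp ⟨y, rfl⟩

lemma ιT_injective (n : ℕ) (A : D) : Function.Injective (ap (ιT n A)) :=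
  kernel_ι_injective _

/-- the data of a class of "small" objects -/
structure Setup (D : Type u) [Category.{v} D] [Abelian D] where
  /-- the class of objects -/
  P : D → Prop
  P_iso : ∀ {X Y : D}, (X ≅ Y) → P X → P Y
  P_kernel : ∀ {X Y : D} (g : X ⟶ Y), P X → P Y → P (kernel g)
  P_cokernel : ∀ {X Y : D} (g : X ⟶ Y), P X → P Y → P (cokernel g)
  artin : ∀ (A : D) (c : ℕ → Subobject A), Antitone c → (∀ n, P (c n : D)) →
    ∃ N, ∀ n, N ≤ n → c n = c N

variable (S : Setup D)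

/-- a subobject containing `q A` and all the `A[q^m]` is everything -/
def Union (q : ℕ) : Prop :=
  ∀ (A B : D) (i : B ⟶ A) [Mono i], (∃ h, h ≫ i = q • 𝟙 A) →
    (∀ m : ℕ, ∃ h, h ≫ i = ιT (q ^ m) A) → Epi i

/-- `A = q A + A[q^N]`, on elements -/
def Decomp (q N : ℕ) (A : D) : Prop :=
  ∀ x : El A, ∃ a b : El A, (q ^ N) • b = 0 ∧ x = q • a + b

section Basic

variable {S}

lemma P_of_exact_mono (T' : ShortComplex D) (hT : T'.Exact) [Mono T'.f] (h2 : S.P T'.X₂)
    (h3 : S.P T'.X₃) : S.P T'.X₁ := by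
  have e : kernel T'.g ≅ T'.X₁ :=
    IsLimit.conePointUniqueUpToIso (kernelIsKernel T'.g) hT.fIsKernel
  exact S.P_iso e (S.P_kernel T'.g h2 h3)

lemma P_of_exact_epi (T' : ShortComplex D) (hT : T'.Exact) [Epi T'.g] (h1 : S.P T'.X₁)
    (h2 : S.P T'.X₂) : S.P T'.X₃ := by
  have e : cokernel T'.f ≅ T'.X₃ :=
    IsColimit.coconePointUniqueUpToIso (cokernelIsCokernel T'.f) hT.gIsCokernel
  exact S.P_iso e (S.P_cokernel T'.f h1 h2)

/-- the image of a morphism between objects of `P`, as a mono into the target, is in `P` -/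
lemma exists_image_P {X Y : D} (g : X ⟶ Y) (hX : S.P X) (hY : S.P Y) :
    ∃ (I : D) (m : I ⟶ Y), Mono m ∧ S.P I ∧
      ∀ y : El Y, (∃ z, ap m z = y) ↔ ∃ x, ap g x = y := by
  refine ⟨kernel (cokernel.π g), kernel.ι _, inferInstance,
    S.P_kernel _ hY (S.P_cokernel g hX hY), fun y => ?_⟩
  rw [mem_range_kernel_ι_iff, cokernel_π_eq_zero_iff]

end Basic

section Lift

/-- the map `A[q^(n+1)] ⟶ A[q]` given by multiplication by `q^n` -/
noncomputable def mulT (q n : ℕ) (A : D) : T (q ^ (n + 1)) A ⟶ T q A :=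
  kernel.lift (q • 𝟙 A) (ιT (q ^ (n + 1)) A ≫ ((q ^ n : ℕ) • 𝟙 A)) (by
    apply hom_ext_ap
    intro x
    simp only [ap_comp, ap_nsmul, ap_id, ap_zero]
    rw [← mul_smul, ← pow_succ']
    exact ιT_smul _ _ _)

lemma mulT_ι (q n : ℕ) (A : D) (x : El (T (q ^ (n + 1)) A)) :
    ap (ιT q A) (ap (mulT q n A) x) = (q ^ n) • ap (ιT (q ^ (n + 1)) A) x := by
  rw [← ap_comp, mulT, kernel.lift_ι]
  simp

/-- the map `A[q^(N+1)] ⟶ A[q^N]` given by multiplication by `q` -/
noncomputable def stepT (q N : ℕ) (A : D) : T (q ^ (N + 1)) A ⟶ T (q ^ N) A :=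
  kernel.lift ((q ^ N : ℕ) • 𝟙 A) (ιT (q ^ (N + 1)) A ≫ ((q : ℕ) • 𝟙 A)) (by
    apply hom_ext_ap
    intro x
    simp only [ap_comp, ap_nsmul, ap_id, ap_zero]
    rw [← mul_smul, ← pow_succ]
    exact ιT_smul _ _ _)

lemma stepT_ι (q N : ℕ) (A : D) (x : El (T (q ^ (N + 1)) A)) :
    ap (ιT (q ^ N) A) (ap (stepT q N A) x) = q • ap (ιT (q ^ (N + 1)) A) x := by
  rw [← ap_comp, stepT, kernel.lift_ι]
  simp

/-- functoriality of the torsion -/
noncomputable def mapT (n : ℕ) {A B : D} (f : A ⟶ B) : T n A ⟶ T n B :=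
  kernel.lift ((n : ℕ) • 𝟙 B) (ιT n A ≫ f) (by
    apply hom_ext_ap
    intro x
    simp only [ap_comp, ap_nsmul, ap_id, ap_zero]
    rw [← map_nsmul, ιT_smul, map_zero])

lemma mapT_ι (n : ℕ) {A B : D} (f : A ⟶ B) (x : El (T n A)) :
    ap (ιT n B) (ap (mapT n f) x) = ap f (ap (ιT n A) x) := by
  rw [← ap_comp, mapT, kernel.lift_ι]
  simp

end Lift

section Decomposition

variable {S}

/-- Main step: stabilisation of the chain `q^n A[q^(n+1)] ⊆ A[q]` gives `A[q^j] ⊆ q A + A[q^N]`. -/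
lemma exists_torsion_le (q : ℕ) (A : D) (hA : ∀ k : ℕ, S.P (T (q ^ k) A)) :
    ∃ N : ℕ, ∀ (j : ℕ) (x : El A), (q ^ j) • x = 0 →
      ∃ a b : El A, (q ^ N) • b = 0 ∧ x = q • a + b := by
  classical
  -- the chain
  have hI : ∀ n : ℕ, ∃ (I : D) (m : I ⟶ T q A), Mono m ∧ S.P I ∧
      ∀ y : El (T q A), (∃ z, ap m z = y) ↔ ∃ x, ap (mulT q n A) x = y := fun n =>
    exists_image_P (mulT q n A) (hA (n + 1)) (by simpa using hA 1)
  choose I m hm hPI hrange using hI
  have hmono : ∀ n, Mono (m n ≫ ιT q A) := fun n => by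
    have := hm n
    exact mono_comp _ _
  let c : ℕ → Subobject A := fun n => @Subobject.mk _ _ _ _ (m n ≫ ιT q A) (hmono n)
  -- description of the range
  have hr : ∀ (n : ℕ) (y : El A), (∃ z, ap (m n ≫ ιT q A) z = y) ↔
      ∃ w : El A, (q ^ (n + 1)) • w = 0 ∧ y = (q ^ n) • w := by
    intro n y
    constructor
    · rintro ⟨z, rfl⟩
      obtain ⟨x, hx⟩ := (hrange n (ap (m n) z)).mp ⟨z, rfl⟩
      refine ⟨ap (ιT (q ^ (n + 1)) A) x, ιT_smul _ _ _, ?_⟩
      rw [ap_comp, ← hx, mulT_ι]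
    · rintro ⟨w, hw, rfl⟩
      obtain ⟨x, hx⟩ := (mem_T_iff (q ^ (n + 1)) A w).mpr hw
      obtain ⟨z, hz⟩ := (hrange n (ap (mulT q n A) x)).mpr ⟨x, rfl⟩
      refine ⟨z, ?_⟩
      rw [ap_comp, hz, mulT_ι, hx]
  have hanti : Antitone c := by
    refine antitone_nat_of_succ_le (fun n => ?_)
    have := hmono n
    have := hmono (n + 1)
    obtain ⟨l, hl⟩ := exists_lift_of_range_le (m (n + 1) ≫ ιT q A) (m n ≫ ιT q A) (by
      intro x
      obtain ⟨w, hw, hw'⟩ := (hr (n + 1) _).mp ⟨x, rfl⟩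
      refine (hr n _).mpr ⟨q • w, ?_, ?_⟩
      · rw [← mul_smul, ← pow_succ]
        exact hw
      · rw [hw', ← mul_smul, ← pow_succ])
    exact @Subobject.mk_le_mk_of_comm _ _ _ _ _ _ _ (hmono (n + 1)) (hmono n) l hl
  have hPc : ∀ n, S.P (c n : D) := fun n => by
    have := hmono n
    exact S.P_iso (Subobject.underlyingIso (m n ≫ ιT q A)).symm (hPI n)
  obtain ⟨N, hN⟩ := S.artin A c hanti hPc
  -- equality of ranges
  have hrange_eq : ∀ n, N ≤ n → ∀ y : El A,
      (∃ w : El A, (q ^ (n + 1)) • w = 0 ∧ y = (q ^ n) • w) →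
      ∃ w : El A, (q ^ (n + 1 + 1)) • w = 0 ∧ y = (q ^ (n + 1)) • w := by
    intro n hn y hy
    have h1 : c (n + 1) = c n := by rw [hN n hn, hN (n + 1) (by omega)]
    have := hmono n
    have := hmono (n + 1)
    have hle : Subobject.mk (m n ≫ ιT q A) ≤ Subobject.mk (m (n + 1) ≫ ιT q A) := h1.ge
    have he : Subobject.ofMkLEMk (m n ≫ ιT q A) (m (n + 1) ≫ ιT q A) hle ≫
        (m (n + 1) ≫ ιT q A) = m n ≫ ιT q A := Subobject.ofMkLEMk_comp hle
    obtain ⟨z, hz⟩ := (hr n y).mpr hy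
    refine (hr (n + 1) y).mp
      ⟨ap (Subobject.ofMkLEMk (m n ≫ ιT q A) (m (n + 1) ≫ ιT q A) hle) z, ?_⟩
    rw [← ap_comp, he, hz]
  refine ⟨N, ?_⟩
  intro j
  induction j with
  | zero =>
    intro x hx
    refine ⟨0, x, ?_, by simp⟩
    simp only [pow_zero, one_smul] at hx
    rw [hx, smul_zero]
  | succ j ih =>
    intro x hx
    by_cases hj : j + 1 ≤ N
    · refine ⟨0, x, ?_, by simp⟩
      obtain ⟨d, hd⟩ := Nat.exists_eq_add_of_le hj
      rw [hd, pow_add, mul_comm, mul_smul, hx, smul_zero]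
    · have hNj : N ≤ j := by omega
      obtain ⟨w, hw, hw'⟩ := hrange_eq j hNj ((q ^ j) • x) ⟨x, hx, rfl⟩
      -- q^j (x - q w) = 0
      have h0 : (q ^ j) • (x - q • w) = 0 := by
        rw [smul_sub, hw', ← mul_smul, ← pow_succ, sub_self]
      obtain ⟨a, b, hb, hab⟩ := ih (x - q • w) h0
      refine ⟨a + w, b, hb, ?_⟩
      rw [smul_add, add_right_comm, ← hab]
      abel

/-- The decomposition `A = q A + A[q^N]`. -/
theorem exists_decomp (q : ℕ) (hU : Union q (D := D)) (A : D) (hA : ∀ k : ℕ, S.P (T (q ^ k) A)) :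
    ∃ N : ℕ, Decomp q N A := by
  obtain ⟨N, hN⟩ := exists_torsion_le q A hA
  refine ⟨N, ?_⟩
  -- the subobject `q A + A[q^N]` as a kernel
  let π := cokernel.π (ιT (q ^ N) A)
  let π' := cokernel.π (q • 𝟙 (cokernel (ιT (q ^ N) A)))
  let ρ := π ≫ π'
  have hρ : ∀ x : El A, ap ρ x = 0 ↔ ∃ a b : El A, (q ^ N) • b = 0 ∧ x = q • a + b := by
    intro x
    simp only [ρ, ap_comp]
    rw [cokernel_π_eq_zero_iff]
    constructor
    · rintro ⟨y, hy⟩
      obtain ⟨a, rfl⟩ := cokernel_π_surjective (ιT (q ^ N) A) y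
      have h0 : ap π (x - q • a) = 0 := by
        rw [map_sub, map_nsmul, ← hy]
        simp [π]
      obtain ⟨t, ht⟩ := (cokernel_π_eq_zero_iff _ _).mp h0
      refine ⟨a, x - q • a, ?_, by abel⟩
      rw [← ht]
      exact ιT_smul _ _ _
    · rintro ⟨a, b, hb, rfl⟩
      refine ⟨ap π a, ?_⟩
      obtain ⟨t, ht⟩ := (mem_T_iff (q ^ N) A b).mpr hb
      have : ap π b = 0 := (cokernel_π_eq_zero_iff _ _).mpr ⟨t, ht⟩
      simp only [ap_nsmul, ap_id, map_add, map_nsmul, this, add_zero, π]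
  have hepi : Epi (kernel.ι ρ) := by
    refine hU A (kernel ρ) (kernel.ι ρ) ?_ ?_
    · refine exists_lift_of_range_le _ _ (fun x => ?_)
      refine (mem_range_kernel_ι_iff ρ _).mpr ((hρ _).mpr ⟨x, 0, by simp, by simp⟩)
    · intro j
      refine exists_lift_of_range_le _ _ (fun x => ?_)
      refine (mem_range_kernel_ι_iff ρ _).mpr ((hρ _).mpr ?_)
      exact hN j _ (ιT_smul _ _ _)
  intro x
  obtain ⟨y, hy⟩ := surjective_of_epi (kernel.ι ρ) x
  exact (hρ x).mp ((mem_range_kernel_ι_iff ρ x).mp ⟨y, hy⟩)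

lemma Decomp.pow {q N : ℕ} {A : D} (h : Decomp q N A) (n : ℕ) :
    ∀ x : El A, ∃ a b : El A, (q ^ N) • b = 0 ∧ x = (q ^ n) • a + b := by
  induction n with
  | zero =>
    intro x
    exact ⟨x, 0, by simp, by simp⟩
  | succ n ih =>
    intro x
    obtain ⟨a, b, hb, rfl⟩ := ih x
    obtain ⟨a', b', hb', rfl⟩ := h a
    refine ⟨a', (q ^ n) • b' + b, ?_, ?_⟩
    · rw [smul_add, hb, add_zero, smul_comm, hb', smul_zero]
    · rw [smul_add, ← mul_smul, ← pow_succ]
      abel

end Decomposition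

section Consequences

variable {S}

/-- `A / q A` is in `P`. -/
theorem P_cokernel_smul (q N : ℕ) (A : D) (h : Decomp q N A) (hN : S.P (T (q ^ N) A))
    (hN1 : S.P (T (q ^ (N + 1)) A)) : S.P (cokernel (q • 𝟙 A)) := by
  let g := stepT q N A
  let hh : T (q ^ N) A ⟶ cokernel (q • 𝟙 A) := ιT (q ^ N) A ≫ cokernel.π _
  have w : g ≫ hh = 0 := by
    apply eq_zero_of_ap
    intro x
    simp only [hh, g, ap_comp]
    rw [stepT_ι, cokernel_π_eq_zero_iff]
    exact ⟨ap (ιT (q ^ (N + 1)) A) x, by simp⟩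
  have hex : (ShortComplex.mk g hh w).Exact := by
    rw [exact_iff]
    intro t ht
    simp only [hh, ap_comp] at ht
    obtain ⟨a, ha⟩ := (cokernel_π_eq_zero_iff _ _).mp ht
    simp only [ap_nsmul, ap_id] at ha
    have h0 : (q ^ (N + 1)) • a = 0 := by
      rw [pow_succ, mul_smul, ha]
      exact ιT_smul _ _ _
    obtain ⟨s, hs⟩ := (mem_T_iff (q ^ (N + 1)) A a).mpr h0
    refine ⟨s, ?_⟩
    apply ιT_injective
    simp only [g]
    rw [stepT_ι, hs, ha]
  have hepi : Epi hh := by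
    rw [epi_iff_ap_surjective]
    intro z
    obtain ⟨x, rfl⟩ := cokernel_π_surjective _ z
    obtain ⟨a, b, hb, rfl⟩ := h x
    obtain ⟨t, ht⟩ := (mem_T_iff (q ^ N) A b).mpr hb
    refine ⟨t, ?_⟩
    simp only [hh, ap_comp, ht, map_add]
    have : ap (cokernel.π (q • 𝟙 A)) (q • a) = 0 :=
      (cokernel_π_eq_zero_iff _ _).mpr ⟨a, by simp⟩
    rw [this, zero_add]
  have : Epi (ShortComplex.mk g hh w).g := hepi
  exact P_of_exact_epi (ShortComplex.mk g hh w) hex hN1 hN

lemma imageSubobject_le_of_range_le {X Y A : D} (f : X ⟶ A) (g : Y ⟶ A)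
    (h : ∀ x : El X, ∃ y : El Y, ap g y = ap f x) : imageSubobject f ≤ imageSubobject g := by
  obtain ⟨l, hl⟩ := exists_lift_of_range_le f (imageSubobject g).arrow (by
    intro x
    obtain ⟨y, hy⟩ := h x
    refine ⟨ap (factorThruImageSubobject g) y, ?_⟩
    rw [← ap_comp, imageSubobject_arrow_comp, hy])
  exact imageSubobject_le f l hl

/-- the images of `q^n` stabilise -/
theorem imageSubobject_pow_eq (q N : ℕ) (A : D) (h : Decomp q N A) (n : ℕ) (hn : N ≤ n) :
    imageSubobject ((q ^ n) • 𝟙 A) = imageSubobject ((q ^ N) • 𝟙 A) := by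
  obtain ⟨d, rfl⟩ := Nat.exists_eq_add_of_le hn
  apply le_antisymm
  · refine imageSubobject_le_of_range_le _ _ (fun x => ⟨(q ^ d) • x, ?_⟩)
    simp only [ap_nsmul, ap_id]
    rw [← mul_smul, pow_add]
  · refine imageSubobject_le_of_range_le _ _ (fun x => ?_)
    obtain ⟨a, b, hb, rfl⟩ := h.pow d x
    refine ⟨a, ?_⟩
    simp only [ap_nsmul, ap_id]
    rw [smul_add, hb, add_zero, ← mul_smul, pow_add]

end Consequences

section CofiniteType

variable {S}

/-- objects of cofinite type with respect to a set of multipliers -/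
def Cof (S : Setup D) (Q : Set ℕ) (A : D) : Prop := ∀ q ∈ Q, S.P (T q A)

/-- the kernel of a morphism between objects of cofinite type is of cofinite type -/
theorem cof_kernel (Q : Set ℕ) {A B : D} (f : A ⟶ B) (hA : Cof S Q A) (hB : Cof S Q B) :
    Cof S Q (kernel f) := by
  intro q hq
  let j : T q (kernel f) ⟶ T q A := mapT q (kernel.ι f)
  let g : T q A ⟶ T q B := mapT q f
  have w : j ≫ g = 0 := by
    apply eq_zero_of_ap
    intro x
    apply ιT_injective
    simp only [j, g, ap_comp, map_zero]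
    rw [mapT_ι, mapT_ι, ← ap_comp, kernel.condition, ap_zero]
  have hmono : Mono j := by
    rw [mono_iff_ap_injective]
    intro x y hxy
    apply ιT_injective
    apply kernel_ι_injective f
    have := congrArg (ap (ιT q A)) hxy
    simpa only [j, mapT_ι] using this
  have hex : (ShortComplex.mk j g w).Exact := by
    rw [exact_iff]
    intro x hx
    simp only [g] at hx
    have h1 : ap f (ap (ιT q A) x) = 0 := by
      rw [← mapT_ι, hx, map_zero]
    obtain ⟨k, hk⟩ := (mem_range_kernel_ι_iff f _).mpr h1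
    have h2 : q • k = 0 := by
      apply kernel_ι_injective f
      rw [map_nsmul, hk, map_zero]
      exact ιT_smul _ _ _
    obtain ⟨t, ht⟩ := (mem_T_iff q (kernel f) k).mpr h2
    refine ⟨t, ?_⟩
    apply ιT_injective
    simp only [j]
    rw [mapT_ι, ht, hk]
  have : Mono (ShortComplex.mk j g w).f := hmono
  exact P_of_exact_mono (ShortComplex.mk j g w) hex (hA q hq) (hB q hq)

/-- the quotient of an object of cofinite type by a subobject of cofinite type satisfying the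
decomposition is of cofinite type (one multiplier at a time) -/
theorem P_T_cokernel_of_mono (m N : ℕ) {K A : D} (i : K ⟶ A) [Mono i] (hK : Decomp m N K)
    (hKN : S.P (T (m ^ N) K)) (hKN1 : S.P (T (m ^ (N + 1)) K))
    (hAN : S.P (T (m ^ N) A)) (hAN1 : S.P (T (m ^ (N + 1)) A)) :
    S.P (T m (cokernel i)) := by
  -- the object `A'' = {a ∈ A[m^(N+1)] : m a ∈ i(K[m^N])}`
  let s : T (m ^ (N + 1)) A ⟶ cokernel (mapT (m ^ N) i) :=
    stepT m N A ≫ cokernel.π (mapT (m ^ N) i)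
  have hC1 : S.P (cokernel (mapT (m ^ N) i)) := S.P_cokernel _ hKN hAN
  have hA'' : S.P (kernel s) := S.P_kernel s hAN1 hC1
  -- elementwise description of `A''`
  have hs : ∀ y : El (T (m ^ (N + 1)) A), ap s y = 0 ↔
      ∃ k : El K, (m ^ N) • k = 0 ∧ ap i k = m • ap (ιT (m ^ (N + 1)) A) y := by
    intro y
    simp only [s, ap_comp]
    rw [cokernel_π_eq_zero_iff]
    constructor
    · rintro ⟨t, ht⟩
      refine ⟨ap (ιT (m ^ N) K) t, ιT_smul _ _ _, ?_⟩
      rw [← mapT_ι, ht, stepT_ι]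
    · rintro ⟨k, hk, hk'⟩
      obtain ⟨t, ht⟩ := (mem_T_iff (m ^ N) K k).mpr hk
      refine ⟨t, ?_⟩
      apply ιT_injective
      rw [mapT_ι, ht, hk', stepT_ι]
  -- the map `K[m^(N+1)] ⟶ A''`
  have hu : mapT (m ^ (N + 1)) i ≫ s = 0 := by
    apply eq_zero_of_ap
    intro x
    rw [ap_comp, hs]
    refine ⟨m • ap (ιT (m ^ (N + 1)) K) x, ?_, ?_⟩
    · rw [← mul_smul, ← pow_succ]
      exact ιT_smul _ _ _
    · rw [map_nsmul, mapT_ι]
  let u : T (m ^ (N + 1)) K ⟶ kernel s := kernel.lift s (mapT (m ^ (N + 1)) i) hu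
  have hu_ι : ∀ x, ap (ιT (m ^ (N + 1)) A) (ap (kernel.ι s) (ap u x)) =
      ap i (ap (ιT (m ^ (N + 1)) K) x) := by
    intro x
    rw [← ap_comp u, kernel.lift_ι, mapT_ι]
  -- the map `A'' ⟶ (A/K)[m]`
  have hw : (kernel.ι s ≫ ιT (m ^ (N + 1)) A ≫ cokernel.π i) ≫ ((m : ℕ) • 𝟙 (cokernel i)) = 0 := by
    apply eq_zero_of_ap
    intro x
    simp only [ap_comp, ap_nsmul, ap_id]
    obtain ⟨k, -, hk'⟩ := (hs (ap (kernel.ι s) x)).mp (by
      rw [← ap_comp, kernel.condition, ap_zero])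
    rw [← map_nsmul, ← hk', ← ap_comp, cokernel.condition, ap_zero]
  let wmap : kernel s ⟶ T m (cokernel i) :=
    kernel.lift _ (kernel.ι s ≫ ιT (m ^ (N + 1)) A ≫ cokernel.π i) hw
  have hwmap_ι : ∀ x, ap (ιT m (cokernel i)) (ap wmap x) =
      ap (cokernel.π i) (ap (ιT (m ^ (N + 1)) A) (ap (kernel.ι s) x)) := by
    intro x
    rw [← ap_comp wmap, kernel.lift_ι]
    simp
  have hzero : u ≫ wmap = 0 := by
    apply eq_zero_of_ap
    intro x
    apply ιT_injective
    rw [ap_comp, hwmap_ι, hu_ι, map_zero, ← ap_comp i, cokernel.condition, ap_zero]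
  have hex : (ShortComplex.mk u wmap hzero).Exact := by
    rw [exact_iff]
    intro x hx
    simp only at hx
    have h1 : ap (cokernel.π i) (ap (ιT (m ^ (N + 1)) A) (ap (kernel.ι s) x)) = 0 := by
      rw [← hwmap_ι, hx, map_zero]
    obtain ⟨k, hk⟩ := (cokernel_π_eq_zero_iff _ _).mp h1
    have h2 : (m ^ (N + 1)) • k = 0 := by
      apply injective_of_mono i
      rw [map_nsmul, hk, map_zero]
      exact ιT_smul _ _ _
    obtain ⟨t, ht⟩ := (mem_T_iff (m ^ (N + 1)) K k).mpr h2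
    refine ⟨t, ?_⟩
    apply kernel_ι_injective s
    apply ιT_injective
    simp only
    rw [hu_ι, ht, hk]
  have hepi : Epi wmap := by
    rw [epi_iff_ap_surjective]
    intro z
    obtain ⟨a, ha⟩ := cokernel_π_surjective i (ap (ιT m (cokernel i)) z)
    have h1 : ap (cokernel.π i) (m • a) = 0 := by
      rw [map_nsmul, ha]
      exact ιT_smul _ _ _
    obtain ⟨k, hk⟩ := (cokernel_π_eq_zero_iff _ _).mp h1
    obtain ⟨k', k'', hk'', rfl⟩ := hK k
    -- the element `a - i k'`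
    have h2 : m • (a - ap i k') = ap i k'' := by
      rw [smul_sub, ← hk, map_add, map_nsmul]
      abel
    have h3 : (m ^ (N + 1)) • (a - ap i k') = 0 := by
      rw [pow_succ, mul_smul, h2, ← map_nsmul, hk'', map_zero]
    obtain ⟨y, hy⟩ := (mem_T_iff (m ^ (N + 1)) A _).mpr h3
    have h4 : ap s y = 0 := (hs y).mpr ⟨k'', hk'', by rw [hy, h2]⟩
    obtain ⟨x, hx⟩ := (mem_range_kernel_ι_iff s y).mpr h4
    refine ⟨x, ?_⟩
    apply ιT_injective
    rw [hwmap_ι, hx, hy, map_sub, ha, ← ap_comp i, cokernel.condition, ap_zero, sub_zero]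
  have : Epi (ShortComplex.mk u wmap hzero).g := hepi
  exact P_of_exact_epi (ShortComplex.mk u wmap hzero) hex hKN1 hA''

/-- invariance of the torsion under isomorphisms -/
noncomputable def isoT (n : ℕ) {X Y : D} (e : X ≅ Y) : T n X ≅ T n Y :=
  kernel.mapIso (n • 𝟙 X) (n • 𝟙 Y) e e (by simp)

lemma cof_of_iso (Q : Set ℕ) {X Y : D} (e : X ≅ Y) (hX : Cof S Q X) : Cof S Q Y :=
  fun q hq => S.P_iso (isoT q e) (hX q hq)

/-- quotients of objects of cofinite type by subobjects of cofinite type -/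
theorem cof_cokernel_of_mono (Q : Set ℕ) (hQ : ∀ q ∈ Q, ∀ k : ℕ, q ^ k ∈ Q)
    (hU : ∀ q ∈ Q, Union (D := D) q) {K A : D} (i : K ⟶ A) [Mono i]
    (hK : Cof S Q K) (hA : Cof S Q A) : Cof S Q (cokernel i) := by
  intro m hm
  obtain ⟨N, hN⟩ := exists_decomp (S := S) m (hU m hm) K (fun k => hK _ (hQ m hm k))
  exact P_T_cokernel_of_mono m N i hN (hK _ (hQ m hm N)) (hK _ (hQ m hm (N + 1)))
    (hA _ (hQ m hm N)) (hA _ (hQ m hm (N + 1)))

/-- cokernels of morphisms between objects of cofinite type -/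
theorem cof_cokernel (Q : Set ℕ) (hQ : ∀ q ∈ Q, ∀ k : ℕ, q ^ k ∈ Q)
    (hU : ∀ q ∈ Q, Union (D := D) q) {A B : D} (f : A ⟶ B)
    (hA : Cof S Q A) (hB : Cof S Q B) : Cof S Q (cokernel f) := by
  have hK : Cof S Q (kernel f) := cof_kernel Q f hA hB
  have hcoim : Cof S Q (cokernel (kernel.ι f)) :=
    cof_cokernel_of_mono Q hQ hU (kernel.ι f) hK hA
  let j : cokernel (kernel.ι f) ⟶ B := cokernel.desc (kernel.ι f) f (kernel.condition f)
  have hj : cokernel.π (kernel.ι f) ≫ j = f := cokernel.π_desc _ _ _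
  have hjmono : Mono j := by
    rw [mono_iff_ap_injective]
    intro x x' hxx'
    obtain ⟨a, rfl⟩ := cokernel_π_surjective (kernel.ι f) x
    obtain ⟨a', rfl⟩ := cokernel_π_surjective (kernel.ι f) x'
    rw [← ap_comp, ← ap_comp, hj] at hxx'
    have h0 : ap f (a - a') = 0 := by rw [map_sub, hxx', sub_self]
    obtain ⟨k, hk⟩ := (mem_range_kernel_ι_iff f _).mpr h0
    have h1 : ap (cokernel.π (kernel.ι f)) (a - a') = 0 :=
      (cokernel_π_eq_zero_iff _ _).mpr ⟨k, hk⟩
    rw [map_sub] at h1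
    exact sub_eq_zero.mp h1
  have hcj : Cof S Q (cokernel j) := cof_cokernel_of_mono Q hQ hU j hcoim hB
  have e : cokernel f ≅ cokernel j :=
    cokernelIsoOfEq hj.symm ≪≫ cokernelEpiComp (cokernel.π (kernel.ι f)) j
  exact cof_of_iso Q e.symm hcj

end CofiniteType

end Groth.Agent.R2.H66.Cofinite
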