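import Mathlib.CategoryTheory.Abelian.FreydMitchell
import Mathlib.Algebra.Homology.ShortComplex.ModuleCat
import Mathlib.Algebra.Category.ModuleCat.EpiMono
import Mathlib.Tactic

/-!
# Element chasing in an abelian category through the Freyd–Mitchell embedding

For an abelian category `D` we fix the full, faithful and exact functor
`Φ D : D ⥤ ModuleCat R` of Mathlib (`Abelian.FreydMitchell.functor`) and record the
dictionary between statements on morphisms of `D` and statements on elements.
-/

set_option autoImplicit false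
universe v u
open CategoryTheory CategoryTheory.Limits

namespace Groth.Agent.R2.H66.FMChase

variable {D : Type u} [Category.{v} D] [Abelian D]

/-- the Freyd–Mitchell functor of `D` -/
noncomputable abbrev Φ (D : Type u) [Category.{v} D] [Abelian D] :
    D ⥤ ModuleCat.{max u v} (Abelian.FreydMitchell.EmbeddingRing D) :=
  Abelian.FreydMitchell.functor D

noncomputable instance instAdditiveΦ : (Φ D).Additive :=
  Functor.additive_of_preserves_binary_products _

/-- the module of "elements" of an object -/
abbrev El (A : D) : Type (max u v) := ((Φ D).obj A : Type (max u v))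

/-- the linear map on elements induced by a morphism -/
noncomputable def ap {A B : D} (f : A ⟶ B) :
    El A →ₗ[Abelian.FreydMitchell.EmbeddingRing D] El B :=
  ((Φ D).map f).hom

@[simp] lemma ap_id (A : D) (x : El A) : ap (𝟙 A) x = x := by
  simp [ap]

@[simp] lemma ap_comp {A B C : D} (f : A ⟶ B) (g : B ⟶ C) (x : El A) :
    ap (f ≫ g) x = ap g (ap f x) := by
  simp [ap]

@[simp] lemma ap_zero {A B : D} (x : El A) : ap (0 : A ⟶ B) x = 0 := by
  simp [ap]

@[simp] lemma ap_add {A B : D} (f g : A ⟶ B) (x : El A) :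
    ap (f + g) x = ap f x + ap g x := by
  simp [ap, Functor.map_add]

@[simp] lemma ap_sub {A B : D} (f g : A ⟶ B) (x : El A) :
    ap (f - g) x = ap f x - ap g x := by
  simp [ap, Functor.map_sub]

@[simp] lemma ap_neg {A B : D} (f : A ⟶ B) (x : El A) :
    ap (-f) x = - ap f x := by
  simp [ap, Functor.map_neg]

@[simp] lemma ap_nsmul {A B : D} (n : ℕ) (f : A ⟶ B) (x : El A) :
    ap (n • f) x = n • ap f x := by
  simp [ap, Functor.map_nsmul]

@[simp] lemma ap_zsmul {A B : D} (n : ℤ) (f : A ⟶ B) (x : El A) :
    ap (n • f) x = n • ap f x := by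
  simp [ap, Functor.map_zsmul]

lemma hom_ext_ap {A B : D} {f g : A ⟶ B} (h : ∀ x, ap f x = ap g x) : f = g := by
  apply (Φ D).map_injective
  ext x
  exact h x

lemma eq_zero_of_ap {A B : D} {f : A ⟶ B} (h : ∀ x, ap f x = 0) : f = 0 :=
  hom_ext_ap (fun x => by rw [h x, ap_zero])

lemma mono_iff_ap_injective {A B : D} (f : A ⟶ B) : Mono f ↔ Function.Injective (ap f) := by
  rw [← (Φ D).mono_map_iff_mono f, ModuleCat.mono_iff_injective]
  rfl

lemma epi_iff_ap_surjective {A B : D} (f : A ⟶ B) : Epi f ↔ Function.Surjective (ap f) := by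
  rw [← (Φ D).epi_map_iff_epi f, ModuleCat.epi_iff_surjective]
  rfl

lemma injective_of_mono {A B : D} (f : A ⟶ B) [Mono f] : Function.Injective (ap f) :=
  (mono_iff_ap_injective f).mp inferInstance

lemma surjective_of_epi {A B : D} (f : A ⟶ B) [Epi f] : Function.Surjective (ap f) :=
  (epi_iff_ap_surjective f).mp inferInstance

lemma isIso_iff_bijective {A B : D} (f : A ⟶ B) : IsIso f ↔ Function.Bijective (ap f) := by
  constructor
  · intro h
    exact ⟨injective_of_mono f, surjective_of_epi f⟩
  · rintro ⟨h1, h2⟩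
    have := (mono_iff_ap_injective f).mpr h1
    have := (epi_iff_ap_surjective f).mpr h2
    exact isIso_of_mono_of_epi f

lemma exact_iff (S : ShortComplex D) :
    S.Exact ↔ ∀ x : El S.X₂, ap S.g x = 0 → ∃ y : El S.X₁, ap S.f y = x := by
  rw [← S.exact_map_iff_of_faithful (Φ D), ShortComplex.moduleCat_exact_iff]
  rfl

lemma kernel_ι_injective {A B : D} (g : A ⟶ B) : Function.Injective (ap (kernel.ι g)) :=
  injective_of_mono _

lemma mem_range_kernel_ι_iff {A B : D} (g : A ⟶ B) (x : El A) :
    (∃ y, ap (kernel.ι g) y = x) ↔ ap g x = 0 := by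
  constructor
  · rintro ⟨y, rfl⟩
    rw [← ap_comp, kernel.condition, ap_zero]
  · intro h
    have hex : (ShortComplex.mk (kernel.ι g) g (kernel.condition g)).Exact :=
      ShortComplex.exact_of_f_is_kernel _ (kernelIsKernel g)
    exact (exact_iff _).mp hex x h

lemma cokernel_π_surjective {A B : D} (g : A ⟶ B) : Function.Surjective (ap (cokernel.π g)) :=
  surjective_of_epi _

lemma cokernel_π_eq_zero_iff {A B : D} (g : A ⟶ B) (x : El B) :
    ap (cokernel.π g) x = 0 ↔ ∃ y, ap g y = x := by
  constructor
  · intro h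
    have hex : (ShortComplex.mk g (cokernel.π g) (cokernel.condition g)).Exact :=
      ShortComplex.exact_of_g_is_cokernel _ (cokernelIsCokernel g)
    exact (exact_iff _).mp hex x h
  · rintro ⟨y, rfl⟩
    rw [← ap_comp, cokernel.condition, ap_zero]

/-- factorisation through a monomorphism, detected on elements (fullness of `Φ`) -/
lemma exists_lift_of_range_le {X Y A : D} (f : X ⟶ A) (g : Y ⟶ A) [Mono g]
    (h : ∀ x : El X, ∃ y : El Y, ap g y = ap f x) : ∃ l : X ⟶ Y, l ≫ g = f := by
  -- use the kernel of the cokernel of g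
  have hex : (ShortComplex.mk g (cokernel.π g) (cokernel.condition g)).Exact :=
    ShortComplex.exact_of_g_is_cokernel _ (cokernelIsCokernel g)
  have hz : f ≫ cokernel.π g = 0 := by
    apply eq_zero_of_ap
    intro x
    obtain ⟨y, hy⟩ := h x
    rw [ap_comp, ← hy, ← ap_comp, cokernel.condition, ap_zero]
  exact ⟨hex.lift f hz, hex.lift_f f hz⟩

end Groth.Agent.R2.H66.FMChase
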