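import Mathlib

/-!
# Frobenius-stable closed subsets of `X_{k̄}` (helper66): algebra part
-/

set_option autoImplicit false
universe u

namespace Groth.Agent.R2.H66.FrobDescent

section Field

/-- Over a finite field, an automorphism of an algebraic extension acts on any finite set of
elements as the inverse of a power of Frobenius. -/
theorem exists_pow_card_pow_eq {k K : Type*} [Field k] [Fintype k] [Field K] [Algebra k K]
    [Algebra.IsAlgebraic k K] (σ : K ≃ₐ[k] K) (S : Finset K) :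
    ∃ m : ℕ, ∀ t ∈ S, (σ t) ^ (Fintype.card k ^ m) = t := by
  classical
  let L : IntermediateField k K := IntermediateField.adjoin k (S : Set K)
  have : FiniteDimensional k L :=
    IntermediateField.finiteDimensional_adjoin (fun x _ => Algebra.IsIntegral.isIntegral x)
  have : Finite L := Module.finite_of_finite k
  let σ' : L ≃ₐ[k] L := σ.restrictNormal L
  obtain ⟨n, hn⟩ := (FiniteField.bijective_frobeniusAlgEquivOfAlgebraic_pow k L).2 σ'⁻¹
  refine ⟨n, fun t ht => ?_⟩
  have htL : t ∈ L := IntermediateField.subset_adjoin k _ ht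
  have h1 : (FiniteField.frobeniusAlgEquivOfAlgebraic k L ^ n.1) (σ' ⟨t, htL⟩) = ⟨t, htL⟩ := by
    have := congrArg (fun f : L ≃ₐ[k] L => f (σ' ⟨t, htL⟩)) hn
    simpa using this
  have h2 : ∀ y : L, (FiniteField.frobeniusAlgEquivOfAlgebraic k L ^ n.1) y =
      y ^ (Fintype.card k ^ n.1) := by
    intro y
    rw [AlgEquiv.coe_pow, FiniteField.coe_frobeniusAlgEquivOfAlgebraic_iterate]
  rw [h2] at h1
  have h3 := congrArg (algebraMap L K) h1
  rw [map_pow, AlgEquiv.restrictNormal_commutes] at h3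
  exact h3

end Field

section Ring

variable {K A B : Type*} [Field K] [CommRing A] [CommRing B] (q : ℕ) (hq : 0 < q)
  (hadd : ∀ x y : B, (x + y) ^ q = x ^ q + y ^ q)
  (πs : A →+* B) (ιs : K →+* B) (Fs Ts : B →+* B) (σ : K →+* K)
  (hF1 : ∀ a, Fs (πs a) = πs a ^ q) (hF2 : ∀ t, Fs (ιs t) = ιs t)
  (hT1 : ∀ a, Ts (πs a) = πs a) (hT2 : ∀ t, Ts (ιs t) = ιs (σ t))

include hadd in
theorem add_pow_pow (m : ℕ) (x y : B) : (x + y) ^ (q ^ m) = x ^ (q ^ m) + y ^ (q ^ m) := by
  induction m with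
  | zero => simp
  | succ m ih => rw [pow_succ, pow_mul, pow_mul, pow_mul, ih, hadd]

include hF1 in
theorem iterate_πs (m : ℕ) (a : A) : Fs^[m] (πs a) = πs a ^ (q ^ m) := by
  induction m generalizing a with
  | zero => simp
  | succ m ih =>
    rw [Function.iterate_succ_apply, hF1, ← map_pow, ih, map_pow, ← pow_mul, pow_succ, mul_comm]

include hF2 in
theorem iterate_ιs (m : ℕ) (t : K) : Fs^[m] (ιs t) = ιs t := by
  induction m with
  | zero => simp
  | succ m ih => rw [Function.iterate_succ_apply, hF2, ih]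

include hq hadd hF1 hF2 hT1 hT2 in
theorem exists_finset_of_mem_closure (h : B)
    (hh : h ∈ AddSubmonoid.closure (Set.range fun p : A × K => πs p.1 * ιs p.2)) :
    ∃ S : Finset K, ∀ m : ℕ, (∀ t ∈ S, (σ t) ^ (q ^ m) = t) → (Ts h) ^ (q ^ m) = Fs^[m] h := by
  classical
  induction hh using AddSubmonoid.closure_induction with
  | mem x hx =>
    obtain ⟨⟨a, t⟩, rfl⟩ := hx
    refine ⟨{t}, fun m hm => ?_⟩
    have ht := hm t (Finset.mem_singleton_self t)
    have e1 : Fs^[m] (πs a * ιs t) = Fs^[m] (πs a) * Fs^[m] (ιs t) := by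
      rw [← RingHom.coe_pow, map_mul]
    rw [e1, iterate_πs q πs Fs hF1, iterate_ιs ιs Fs hF2]
    change (Ts (πs a * ιs t)) ^ (q ^ m) = _
    rw [map_mul, hT1, hT2, mul_pow, ← map_pow ιs, ht]
  | zero =>
    refine ⟨∅, fun m _ => ?_⟩
    have e1 : Fs^[m] 0 = 0 := by rw [← RingHom.coe_pow, map_zero]
    rw [e1, map_zero, zero_pow (pow_pos hq m).ne']
  | add x y _ _ hx hy =>
    obtain ⟨S₁, h₁⟩ := hx
    obtain ⟨S₂, h₂⟩ := hy
    refine ⟨S₁ ∪ S₂, fun m hm => ?_⟩
    have e1 : Fs^[m] (x + y) = Fs^[m] x + Fs^[m] y := by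
      rw [← RingHom.coe_pow, map_add]
    rw [e1, map_add, add_pow_pow q hadd,
      h₁ m (fun t ht => hm t (Finset.mem_union_left _ ht)),
      h₂ m (fun t ht => hm t (Finset.mem_union_right _ ht))]

end Ring

/-- The key algebraic statement: `B` generated by `A` and `K` (algebraic over the finite field `k`),
`Fs` the partial Frobenius (`q`-th power on `A`, identity on `K`), `Ts = id ⊗ σ`. Then for every
`h` there is `m` with `(Ts h)^(q^m) = Fs^m h`. -/
theorem exists_pow_eq_iterate {k K A B : Type*} [Field k] [Fintype k] [Field K] [Algebra k K]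
    [Algebra.IsAlgebraic k K] [CommRing A] [CommRing B]
    (hadd : ∀ x y : B, (x + y) ^ Fintype.card k = x ^ Fintype.card k + y ^ Fintype.card k)
    (πs : A →+* B) (ιs : K →+* B) (Fs Ts : B →+* B) (σ : K ≃ₐ[k] K)
    (hF1 : ∀ a, Fs (πs a) = πs a ^ Fintype.card k) (hF2 : ∀ t, Fs (ιs t) = ιs t)
    (hT1 : ∀ a, Ts (πs a) = πs a) (hT2 : ∀ t, Ts (ιs t) = ιs (σ t))
    (hgen : AddSubmonoid.closure (Set.range fun p : A × K => πs p.1 * ιs p.2) = ⊤) (h : B) :
    ∃ m : ℕ, (Ts h) ^ (Fintype.card k ^ m) = Fs^[m] h := by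
  obtain ⟨S, hS⟩ := exists_finset_of_mem_closure (Fintype.card k) Fintype.card_pos hadd πs ιs Fs Ts
    (σ : K →+* K) hF1 hF2 hT1 hT2 h (by rw [hgen]; trivial)
  obtain ⟨m, hm⟩ := exists_pow_card_pow_eq σ S
  exact ⟨m, hS m hm⟩

end Groth.Agent.R2.H66.FrobDescent
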