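import Mathlib

/-!
# Galois orbits on `X_{k̄}` (helper66)

* `exists_algEquiv_comp_eq`: two embeddings of a normal extension `K/k` into a field `Ω` which agree
  on `k` differ by a `k`-automorphism of `K`.
* `exists_common_field_point`: two points of a scheme `P` with the same image under `π : P ⟶ X`
  are the images of two `Ω`-points `a b : Spec Ω ⟶ P` with `a ≫ π = b ≫ π`.
* `exists_galois_of_fst_eq`: the fibres of `X_K → X` (`K/k` normal) are contained in the orbits of
  `Aut(K/k)`.
-/

set_option autoImplicit false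
universe u

namespace Groth.Agent.R2.H66.GalOrbit

open CategoryTheory CategoryTheory.Limits AlgebraicGeometry

theorem exists_algEquiv_comp_eq {k K Ω : Type*} [Field k] [Field K] [Field Ω] [Algebra k K]
    [Normal k K] (α β : K →+* Ω) (h : α.comp (algebraMap k K) = β.comp (algebraMap k K)) :
    ∃ σ : K ≃ₐ[k] K, ∀ t, β t = α (σ t) := by
  let _ : Algebra K Ω := α.toAlgebra
  let _ : Algebra k Ω := (α.comp (algebraMap k K)).toAlgebra
  have : IsScalarTower k K Ω := .of_algebraMap_eq' rfl
  let βa : K →ₐ[k] Ω := ⟨β, fun r => (congrArg (fun f => f r) h).symm⟩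
  refine ⟨βa.restrictNormal' K, fun t => ?_⟩
  have := βa.restrictNormal_commutes K t
  exact this.symm

theorem exists_common_field_point {P X : Scheme.{u}} (π : P ⟶ X) (x y : P)
    (h : π.base x = π.base y) :
    ∃ (Ω : Type u) (_ : Field Ω) (a b : Spec (CommRingCat.of Ω) ⟶ P), a ≫ π = b ≫ π ∧
      (∀ s : Spec (CommRingCat.of Ω), a.base s = x) ∧
      (∀ s : Spec (CommRingCat.of Ω), b.base s = y) ∧ Nonempty (Spec (CommRingCat.of Ω)) := by
  let a₀ := P.fromSpecResidueField x
  let b₀ := P.fromSpecResidueField y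
  have px : Spec (P.residueField x) := ⟨⊥, Ideal.isPrime_bot⟩
  have py : Spec (P.residueField y) := ⟨⊥, Ideal.isPrime_bot⟩
  have hxy : (a₀ ≫ π).base px = (b₀ ≫ π).base py := by
    change π.base (a₀.base px) = π.base (b₀.base py)
    rw [Scheme.fromSpecResidueField_apply, Scheme.fromSpecResidueField_apply, h]
  obtain ⟨w, -, -⟩ := Scheme.Pullback.exists_preimage_pullback (f := a₀ ≫ π) (g := b₀ ≫ π) px py hxy
  let T := pullback (a₀ ≫ π) (b₀ ≫ π)
  refine ⟨T.residueField w, inferInstance,
    T.fromSpecResidueField w ≫ pullback.fst _ _ ≫ a₀,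
    T.fromSpecResidueField w ≫ pullback.snd _ _ ≫ b₀, ?_, ?_, ?_, ⟨⟨⊥, Ideal.isPrime_bot⟩⟩⟩
  · simp only [Category.assoc]
    rw [pullback.condition]
  · intro s
    change a₀.base _ = x
    exact Scheme.fromSpecResidueField_apply _ _
  · intro s
    change b₀.base _ = y
    exact Scheme.fromSpecResidueField_apply _ _

/-- The fibres of `X_K ⟶ X` are contained in the orbits of `Aut(K/k)`, `K/k` normal. -/
theorem exists_galois_of_fst_eq {k K : Type u} [Field k] [Field K] [Algebra k K] [Normal k K]
    {X : Scheme.{u}} (f : X ⟶ Spec (CommRingCat.of k))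
    (τ : (K ≃ₐ[k] K) →
      (pullback f (Spec.map (CommRingCat.ofHom (algebraMap k K))) ⟶
        pullback f (Spec.map (CommRingCat.ofHom (algebraMap k K)))))
    (hτ1 : ∀ σ, τ σ ≫ pullback.fst f _ = pullback.fst f _)
    (hτ2 : ∀ σ, τ σ ≫ pullback.snd f (Spec.map (CommRingCat.ofHom (algebraMap k K))) =
        pullback.snd f _ ≫ Spec.map (CommRingCat.ofHom (σ : K →+* K)))
    (x y : ↑(pullback f (Spec.map (CommRingCat.ofHom (algebraMap k K)))))
    (h : (pullback.fst f (Spec.map (CommRingCat.ofHom (algebraMap k K)))).base x =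
        (pullback.fst f (Spec.map (CommRingCat.ofHom (algebraMap k K)))).base y) :
    ∃ σ, (τ σ).base x = y := by
  obtain ⟨Ω, _, a, b, hab, ha, hb, ⟨pt⟩⟩ := exists_common_field_point _ x y h
  -- the two embeddings of `K` into `Ω`
  let α' : CommRingCat.of K ⟶ CommRingCat.of Ω := Spec.preimage (a ≫ pullback.snd f _)
  let β' : CommRingCat.of K ⟶ CommRingCat.of Ω := Spec.preimage (b ≫ pullback.snd f _)
  have hα' : Spec.map α' = a ≫ pullback.snd f _ := Spec.map_preimage _
  have hβ' : Spec.map β' = b ≫ pullback.snd f _ := Spec.map_preimage _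
  have hk : CommRingCat.ofHom (algebraMap k K) ≫ α' = CommRingCat.ofHom (algebraMap k K) ≫ β' := by
    apply Spec.map_injective
    rw [Spec.map_comp, Spec.map_comp, hα', hβ', Category.assoc, Category.assoc,
      ← pullback.condition, ← Category.assoc, ← Category.assoc, hab]
  obtain ⟨σ, hσ⟩ := exists_algEquiv_comp_eq (k := k) α'.hom β'.hom
    (by
      have := congrArg CommRingCat.Hom.hom hk
      simpa using this)
  refine ⟨σ, ?_⟩
  have key : a ≫ τ σ = b := by
    apply pullback.hom_ext
    · rw [Category.assoc, hτ1, hab]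
    · rw [Category.assoc, hτ2, ← Category.assoc, ← hα', ← hβ', ← Spec.map_comp]
      congr 1
      ext t
      exact (hσ t).symm
  rw [← ha pt, ← hb pt, ← key]
  rfl

end Groth.Agent.R2.H66.GalOrbit
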