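import Mathlib
import Groth.Agent.R2.H66FrobDescent
import Groth.Agent.R2.H66GalOrbit
import Groth.Agent.Lib.Helper20QuotAff

/-!
# Frobenius-stable closed subsets of `X_{K}` descend (helper66): geometric part
-/

set_option autoImplicit false
universe u

namespace Groth.Agent.R2.H66.FrobDescent

open CategoryTheory CategoryTheory.Limits AlgebraicGeometry TensorProduct
open Groth.Agent.Lib.Helper20 (appLE_congr_hom appLE_top_top)

/-- In a pushout square of commutative rings the pushout is additively generated by the products of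
the images of the two legs. -/
theorem closure_of_isPushout {R A K' B : CommRingCat.{u}} {φ : R ⟶ A} {α : R ⟶ K'} {β : A ⟶ B}
    {φ' : K' ⟶ B} (hpo : IsPushout φ α β φ') :
    AddSubmonoid.closure (Set.range fun p : A × K' => β.hom p.1 * φ'.hom p.2) = ⊤ := by
  let _ : Algebra R A := φ.hom.toAlgebra
  let _ : Algebra R K' := α.hom.toAlgebra
  let _ : Algebra A B := β.hom.toAlgebra
  let _ : Algebra K' B := φ'.hom.toAlgebra
  let _ : Algebra R B := (β.hom.comp φ.hom).toAlgebra
  have : IsScalarTower R A B := .of_algebraMap_eq' rfl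
  have : IsScalarTower R K' B := .of_algebraMap_eq' (by
    change β.hom.comp φ.hom = φ'.hom.comp α.hom
    rw [← CommRingCat.hom_comp, ← CommRingCat.hom_comp, hpo.w])
  have hP : Algebra.IsPushout R K' A B := by
    rw [← CommRingCat.isPushout_iff_isPushout]
    exact hpo.flip
  rw [eq_top_iff]
  intro b _
  obtain ⟨y, rfl⟩ := hP.out.equiv.surjective b
  clear * - y
  induction y using TensorProduct.induction_on with
  | zero => rw [map_zero]; exact zero_mem _
  | tmul s a =>
    rw [IsBaseChange.equiv_tmul]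
    apply AddSubmonoid.subset_closure
    refine ⟨(a, s), ?_⟩
    change β.hom a * φ'.hom s = s • (β.hom a)
    rw [Algebra.smul_def, mul_comm]
    rfl
  | add x y hx hy => rw [map_add]; exact add_mem hx hy

variable {k : Type u} [Field k] {K : Type u} [Field K] [Algebra k K]
  {X : Scheme.{u}} (f : X ⟶ Spec (CommRingCat.of k))

/-- `id × Spec σ` on `X ×_k K`. -/
noncomputable def tau (σ : K ≃ₐ[k] K) :
    pullback f (Spec.map (CommRingCat.ofHom (algebraMap k K))) ⟶
      pullback f (Spec.map (CommRingCat.ofHom (algebraMap k K))) :=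
  pullback.lift (pullback.fst f _) (pullback.snd f _ ≫ Spec.map (CommRingCat.ofHom (σ : K →+* K)))
    (by
      rw [Category.assoc, ← Spec.map_comp, pullback.condition]
      congr 2
      ext x
      exact (σ.commutes x).symm)

theorem tau_fst (σ : K ≃ₐ[k] K) : tau f σ ≫ pullback.fst f _ = pullback.fst f _ :=
  pullback.lift_fst _ _ _

theorem tau_snd (σ : K ≃ₐ[k] K) : tau f σ ≫ pullback.snd f _ =
    pullback.snd f _ ≫ Spec.map (CommRingCat.ofHom (σ : K →+* K)) :=
  pullback.lift_snd _ _ _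

/-- the embedding of `K` into the sections of `X_K` over an open. -/
noncomputable def iotaS (V : (pullback f (Spec.map (CommRingCat.ofHom (algebraMap k K)))).Opens) :
    K →+* Γ(pullback f (Spec.map (CommRingCat.ofHom (algebraMap k K))), V) :=
  ((pullback.snd f (Spec.map (CommRingCat.ofHom (algebraMap k K)))).appLE ⊤ V le_top).hom.comp
    (Scheme.ΓSpecIso (CommRingCat.of K)).inv.hom

theorem closure_eq_top {U : X.Opens} (hU : IsAffineOpen U) :
    AddSubmonoid.closure (Set.range fun p : Γ(X, U) × K =>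
      ((pullback.fst f (Spec.map (CommRingCat.ofHom (algebraMap k K)))).app U).hom p.1 *
        iotaS f ((pullback.fst f (Spec.map (CommRingCat.ofHom (algebraMap k K)))) ⁻¹ᵁ U) p.2) = ⊤ := by
  have H := IsPullback.of_hasPullback f (Spec.map (CommRingCat.ofHom (algebraMap k K)))
  have hUY : (pullback.fst f (Spec.map (CommRingCat.ofHom (algebraMap k K)))) ⁻¹ᵁ U =
      (pullback.fst f (Spec.map (CommRingCat.ofHom (algebraMap k K)))) ⁻¹ᵁ U ⊓
        (pullback.snd f (Spec.map (CommRingCat.ofHom (algebraMap k K)))) ⁻¹ᵁ ⊤ := by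
    simp
  have hiso := isIso_pushoutSection_of_isAffineOpen H (US := ⊤) (UT := ⊤) (UX := U) le_top le_top hUY
    (isAffineOpen_top _) (isAffineOpen_top _) hU
  have hpo := (isIso_pushoutSection_iff H (US := ⊤) (UT := ⊤) (UX := U) le_top le_top hUY).mp hiso
  have h1 := closure_of_isPushout hpo
  rw [eq_top_iff] at h1 ⊢
  intro b hb
  have h2 := h1 hb
  refine AddSubmonoid.closure_mono ?_ h2
  rintro _ ⟨⟨a, t⟩, rfl⟩
  refine ⟨(a, (Scheme.ΓSpecIso (CommRingCat.of K)).hom.hom t), ?_⟩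
  simp only [iotaS, RingHom.comp_apply]
  rw [Scheme.Hom.appLE_eq_app]
  congr 2
  exact congrArg (fun g => g.hom t) (Scheme.ΓSpecIso (CommRingCat.of K)).hom_inv_id


/-- The projection `X_K ⟶ X` is a closed map for `K/k` algebraic. -/
theorem isClosedMap_fst [Algebra.IsAlgebraic k K] :
    IsClosedMap (pullback.fst f (Spec.map (CommRingCat.ofHom (algebraMap k K)))).base := by
  have h1 : IsIntegralHom (Spec.map (CommRingCat.ofHom (algebraMap k K))) := by
    rw [IsIntegralHom.SpecMap_iff]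
    exact algebraMap_isIntegral_iff.mpr inferInstance
  have h2 : IsIntegralHom (pullback.fst f (Spec.map (CommRingCat.ofHom (algebraMap k K)))) :=
    MorphismProperty.pullback_fst _ _ h1
  exact Scheme.Hom.isClosedMap _

section Main

variable (K) in
/-- `X_K` -/
noncomputable abbrev XK : Scheme.{u} := pullback f (Spec.map (CommRingCat.ofHom (algebraMap k K)))

variable (K) in
/-- `X_K ⟶ X` -/
noncomputable abbrev prX : XK K f ⟶ X := pullback.fst f (Spec.map (CommRingCat.ofHom (algebraMap k K)))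

variable (K) in
/-- `X_K ⟶ Spec K` -/
noncomputable abbrev prK : XK K f ⟶ Spec (CommRingCat.of K) :=
  pullback.snd f (Spec.map (CommRingCat.ofHom (algebraMap k K)))

variable [Fintype k] [Normal k K]
  (FX : X ⟶ X) (hle : ∀ U : X.Opens, U ≤ FX ⁻¹ᵁ U)
  (hFapp : ∀ (U : X.Opens) (s : Γ(X, U)), (FX.appLE U U (hle U)).hom s = s ^ Fintype.card k)
  (F : XK K f ⟶ XK K f)
  (hF1 : F ≫ prX K f = prX K f ≫ FX)
  (hF2 : F ≫ prK K f = prK K f)

include hle hFapp hF1 hF2 in
/-- A closed subset of `X_K` stable under the partial Frobenius `F = Frob_X × id` is a union of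
fibres of `X_K ⟶ X`. -/
theorem preimage_image_eq_of_frobenius_stable
    (W : Set ↑(XK K f)) (hW : IsClosed W) (hFW : F.base '' W ⊆ W) :
    (prX K f).base ⁻¹' ((prX K f).base '' W) = W := by
  have : IsAffineHom (prX K f) := MorphismProperty.pullback_fst _ _ inferInstance
  refine Set.Subset.antisymm ?_ (Set.subset_preimage_image _ _)
  rintro y ⟨w, hwW, hwy⟩
  by_contra hyW
  -- `y` is a Galois conjugate of `w`
  obtain ⟨σ, hσ⟩ := GalOrbit.exists_galois_of_fst_eq f (tau f) (tau_fst f) (tau_snd f) w y hwy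
  -- an affine chart
  obtain ⟨_, ⟨U, hU, rfl⟩, hyU, -⟩ := X.isBasis_affineOpens.exists_subset_of_mem_open
    (Set.mem_univ ((prX K f).base y)) isOpen_univ
  have hV : IsAffineOpen ((prX K f) ⁻¹ᵁ U) := hU.preimage (prX K f)
  have hyV : y ∈ (prX K f) ⁻¹ᵁ U := hyU
  have hwV : w ∈ (prX K f) ⁻¹ᵁ U := by
    change (prX K f).base w ∈ U
    rw [hwy]
    exact hyU
  -- a basic open around `y` missing `W`
  let Wc : (XK K f).Opens := ⟨Wᶜ, hW.isOpen_compl⟩
  obtain ⟨h, hhW, hyh⟩ := hV.exists_basicOpen_le (V := Wc) ⟨y, hyW⟩ hyV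
  -- the ring-level data
  have eF : (prX K f) ⁻¹ᵁ U ≤ F ⁻¹ᵁ ((prX K f) ⁻¹ᵁ U) := by
    rw [← Scheme.Hom.comp_preimage, hF1, Scheme.Hom.comp_preimage]
    exact (prX K f).preimage_mono (hle U)
  have eT : (prX K f) ⁻¹ᵁ U ≤ (tau f σ) ⁻¹ᵁ ((prX K f) ⁻¹ᵁ U) := by
    rw [← Scheme.Hom.comp_preimage, tau_fst]
  have hadd : ∀ x y : Γ(XK K f, (prX K f) ⁻¹ᵁ U),
      (x + y) ^ Fintype.card k = x ^ Fintype.card k + y ^ Fintype.card k := by
    let _ : Algebra k Γ(XK K f, (prX K f) ⁻¹ᵁ U) :=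
      ((iotaS f ((prX K f) ⁻¹ᵁ U)).comp (algebraMap k K)).toAlgebra
    exact fun x y => map_add (FiniteField.frobeniusAlgHom k Γ(XK K f, (prX K f) ⁻¹ᵁ U)) x y
  have hA1 : ∀ a, (F.appLE _ _ eF).hom (((prX K f).app U).hom a) =
      ((prX K f).app U).hom a ^ Fintype.card k := by
    intro a
    have h1 : (prX K f).app U ≫ F.appLE _ _ eF = FX.appLE U U (hle U) ≫ (prX K f).app U := by
      rw [Scheme.Hom.app_eq_appLE, Scheme.Hom.appLE_comp_appLE, Scheme.Hom.appLE_comp_appLE]
      exact appLE_congr_hom hF1 _ _ _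
    have h2 := congrArg (fun g => g.hom a) h1
    simp only [CommRingCat.hom_comp, RingHom.coe_comp, Function.comp_apply] at h2
    rw [h2, hFapp, map_pow]
  have hA2 : ∀ t, (F.appLE _ _ eF).hom (iotaS f ((prX K f) ⁻¹ᵁ U) t) =
      iotaS f ((prX K f) ⁻¹ᵁ U) t := by
    intro t
    have h1 : (prK K f).appLE ⊤ ((prX K f) ⁻¹ᵁ U) le_top ≫ F.appLE _ _ eF =
        (prK K f).appLE ⊤ ((prX K f) ⁻¹ᵁ U) le_top := by
      rw [Scheme.Hom.appLE_comp_appLE]
      exact appLE_congr_hom hF2 _ _ _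
    exact congrArg (fun g => g.hom ((Scheme.ΓSpecIso (CommRingCat.of K)).inv.hom t)) h1
  have hB1 : ∀ a, ((tau f σ).appLE _ _ eT).hom (((prX K f).app U).hom a) =
      ((prX K f).app U).hom a := by
    intro a
    have h1 : (prX K f).app U ≫ (tau f σ).appLE _ _ eT = (prX K f).app U := by
      rw [Scheme.Hom.app_eq_appLE, Scheme.Hom.appLE_comp_appLE]
      exact appLE_congr_hom (tau_fst f σ) _ _ _
    exact congrArg (fun g => g.hom a) h1
  have hB2 : ∀ t, ((tau f σ).appLE _ _ eT).hom (iotaS f ((prX K f) ⁻¹ᵁ U) t) =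
      iotaS f ((prX K f) ⁻¹ᵁ U) (σ t) := by
    intro t
    have h1 : (prK K f).appLE ⊤ ((prX K f) ⁻¹ᵁ U) le_top ≫ (tau f σ).appLE _ _ eT =
        (Spec.map (CommRingCat.ofHom (σ : K →+* K))).appLE ⊤ ⊤ le_top ≫
          (prK K f).appLE ⊤ ((prX K f) ⁻¹ᵁ U) le_top := by
      rw [Scheme.Hom.appLE_comp_appLE, Scheme.Hom.appLE_comp_appLE]
      exact appLE_congr_hom (tau_snd f σ) _ _ _
    have h2 := congrArg (fun g => g.hom ((Scheme.ΓSpecIso (CommRingCat.of K)).inv.hom t)) h1
    simp only [CommRingCat.hom_comp, RingHom.coe_comp, Function.comp_apply] at h2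
    change ((tau f σ).appLE _ _ eT).hom (((prK K f).appLE ⊤ ((prX K f) ⁻¹ᵁ U) le_top).hom
      ((Scheme.ΓSpecIso (CommRingCat.of K)).inv.hom t)) = _
    rw [h2]
    change _ = ((prK K f).appLE ⊤ ((prX K f) ⁻¹ᵁ U) le_top).hom
      ((Scheme.ΓSpecIso (CommRingCat.of K)).inv.hom (σ t))
    congr 1
    have h3 := Scheme.ΓSpecIso_inv_naturality (CommRingCat.ofHom (σ : K →+* K))
    have h4 := congrArg (fun g => g.hom t) h3
    simp only [CommRingCat.hom_comp, RingHom.coe_comp, Function.comp_apply] at h4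
    rw [appLE_top_top]
    exact h4.symm
  obtain ⟨m, hm⟩ := exists_pow_eq_iterate hadd ((prX K f).app U).hom
    (iotaS f ((prX K f) ⁻¹ᵁ U)) (F.appLE _ _ eF).hom ((tau f σ).appLE _ _ eT).hom σ
    hA1 hA2 hB1 hB2 (closure_eq_top f hU) h
  -- membership in basic opens
  have hw1 : w ∈ (XK K f).basicOpen (((tau f σ).appLE _ _ eT).hom h) := by
    have := Scheme.basicOpen_appLE (tau f σ) ((prX K f) ⁻¹ᵁ U) ((prX K f) ⁻¹ᵁ U) eT h
    rw [this]
    refine ⟨hwV, ?_⟩
    change (tau f σ).base w ∈ (XK K f).basicOpen h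
    rw [hσ]
    exact hyh
  have hw2 : w ∈ (XK K f).basicOpen ((F.appLE _ _ eF).hom^[m] h) := by
    rw [← hm, Scheme.basicOpen_pow (XK K f) _ (pow_pos (Fintype.card_pos (α := k)) m)]
    exact hw1
  -- iterate
  have hiter : ∀ (m : ℕ) (w : XK K f) (h : Γ(XK K f, (prX K f) ⁻¹ᵁ U)), w ∈ (prX K f) ⁻¹ᵁ U →
      w ∈ (XK K f).basicOpen ((F.appLE _ _ eF).hom^[m] h) →
        F.base^[m] w ∈ (XK K f).basicOpen h := by
    intro m
    induction m with
    | zero => intro w h _ hw; exact hw
    | succ m ih =>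
      intro w h hwV hw
      rw [Function.iterate_succ_apply] at hw
      have h1 := ih w _ hwV hw
      rw [Scheme.basicOpen_appLE] at h1
      rw [Function.iterate_succ_apply']
      exact h1.2
  have hWiter : ∀ m : ℕ, F.base^[m] w ∈ W := by
    intro m
    induction m with
    | zero => exact hwW
    | succ m ih =>
      rw [Function.iterate_succ_apply']
      exact hFW ⟨_, ih, rfl⟩
  exact (hhW (hiter m w h hwV hw2)) (hWiter m)

end Main

end Groth.Agent.R2.H66.FrobDescent
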