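import Mathlib
import Groth.Prelude.Def_Fitting
import Groth.Prelude.Def_Mor2
import Groth.Agent.Lib.Helper18FittSh1
import Groth.Agent.Lib.Helper18Fitt30
import Groth.Agent.Lib.Helper22IdealComap

/-!
# The Fitting ideal sheaves of a finite morphism (helper96)

For a finite morphism `f : X ⟶ Y` and `r : ℕ`, `fittMor f r : Y.IdealSheafData` is the `r`-th Fitting
ideal sheaf of `f_* O_X`: on an affine open `V` of `Y` it is the `r`-th Fitting ideal of the finite
`Γ(Y, V)`-module `Γ(X, f⁻¹ V)`.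
-/

set_option autoImplicit false
set_option linter.style.haveILetI false
set_option linter.unusedSectionVars false
universe u

open CategoryTheory CategoryTheory.Limits AlgebraicGeometry TopologicalSpace TensorProduct
open Groth.Agent.Helper18Fitt Groth.Agent.Helper18FittSh

namespace Groth.Agent.R2.H96.FittMor

variable {X Y : Scheme.{u}} (f : X ⟶ Y)

/-- the `Γ(Y, V)`-algebra structure on `Γ(X, f⁻¹ V)`. -/
@[reducible] noncomputable def appAlg (V : Y.Opens) : Algebra Γ(Y, V) Γ(X, f ⁻¹ᵁ V) :=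
  (f.app V).hom.toAlgebra

theorem finite_app [IsFinite f] {V : Y.Opens} (hV : IsAffineOpen V) :
    letI := appAlg f V
    Module.Finite Γ(Y, V) Γ(X, f ⁻¹ᵁ V) :=
  f.finite_app V hV

/-- the `r`-th Fitting ideal of `Γ(X, f⁻¹ V)` over `Γ(Y, V)`. -/
noncomputable def fittApp (V : Y.Opens) (r : ℕ) : Ideal Γ(Y, V) :=
  letI := appAlg f V
  Fitt.ideal Γ(Y, V) Γ(X, f ⁻¹ᵁ V) r

theorem map_fittApp_basicOpen [IsFinite f] {V : Y.Opens} (hV : IsAffineOpen V) (g : Γ(Y, V))
    (r : ℕ) :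
    (fittApp f V r).map (Y.presheaf.map (homOfLE (Y.basicOpen_le g)).op).hom =
      fittApp f (Y.basicOpen g) r := by
  have hle : f ⁻¹ᵁ Y.basicOpen g ≤ f ⁻¹ᵁ V := f.preimage_mono (Y.basicOpen_le g)
  letI a1 : Algebra Γ(Y, V) Γ(X, f ⁻¹ᵁ V) := appAlg f V
  letI a2 : Algebra Γ(Y, Y.basicOpen g) Γ(X, f ⁻¹ᵁ Y.basicOpen g) := appAlg f (Y.basicOpen g)
  letI a3 : Algebra Γ(Y, V) Γ(Y, Y.basicOpen g) :=
    (Y.presheaf.map (homOfLE (Y.basicOpen_le g)).op).hom.toAlgebra
  letI a4 : Algebra Γ(X, f ⁻¹ᵁ V) Γ(X, f ⁻¹ᵁ Y.basicOpen g) :=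
    (X.presheaf.map (homOfLE hle).op).hom.toAlgebra
  letI a5 : Algebra Γ(Y, V) Γ(X, f ⁻¹ᵁ Y.basicOpen g) :=
    ((f.app (Y.basicOpen g)).hom.comp (Y.presheaf.map (homOfLE (Y.basicOpen_le g)).op).hom).toAlgebra
  haveI t1 : IsScalarTower Γ(Y, V) Γ(Y, Y.basicOpen g) Γ(X, f ⁻¹ᵁ Y.basicOpen g) :=
    .of_algebraMap_eq' rfl
  haveI t2 : IsScalarTower Γ(Y, V) Γ(X, f ⁻¹ᵁ V) Γ(X, f ⁻¹ᵁ Y.basicOpen g) := by
    refine .of_algebraMap_eq' ?_
    have := f.naturality (homOfLE (Y.basicOpen_le g)).op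
    exact congrArg CommRingCat.Hom.hom this
  haveI hfin : Module.Finite Γ(Y, V) Γ(X, f ⁻¹ᵁ V) := finite_app f hV
  haveI hloc : IsLocalization (Submonoid.powers g) Γ(Y, Y.basicOpen g) :=
    hV.isLocalization_basicOpen g
  have hVX : IsAffineOpen (f ⁻¹ᵁ V) := hV.preimage f
  have hloc' : IsLocalization.Away (f.app V g) Γ(X, f ⁻¹ᵁ Y.basicOpen g) :=
    hVX.isLocalization_of_eq_basicOpen (f.app V g) (homOfLE hle) (Scheme.preimage_basicOpen f g)
  haveI : IsLocalization (Algebra.algebraMapSubmonoid Γ(X, f ⁻¹ᵁ V) (Submonoid.powers g))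
      Γ(X, f ⁻¹ᵁ Y.basicOpen g) := by
    have : Algebra.algebraMapSubmonoid Γ(X, f ⁻¹ᵁ V) (Submonoid.powers g) =
        Submonoid.powers (f.app V g) := by
      rw [Algebra.algebraMapSubmonoid, Submonoid.map_powers]
      rfl
    rw [this]
    exact hloc'
  exact fitt_map_of_isLocalizedModule (Submonoid.powers g)
    (IsScalarTower.toAlgHom Γ(Y, V) Γ(X, f ⁻¹ᵁ V) Γ(X, f ⁻¹ᵁ Y.basicOpen g)).toLinearMap r

/-- the `r`-th Fitting ideal sheaf of a finite morphism. -/
noncomputable def fittMor [IsFinite f] (r : ℕ) : Y.IdealSheafData where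
  ideal V := fittApp f V.1 r
  map_ideal_basicOpen V g := map_fittApp_basicOpen f V.2 g r

@[simp] theorem fittMor_ideal [IsFinite f] (r : ℕ) (V : Y.affineOpens) :
    (fittMor f r).ideal V = fittApp f V.1 r := rfl

theorem appLE_congr_hom {X Y : Scheme.{u}} {f g : X ⟶ Y} (e : f = g) (U : Y.Opens) (V : X.Opens)
    (h : V ≤ f ⁻¹ᵁ U) : f.appLE U V h = g.appLE U V (e ▸ h) := by
  subst e; rfl

theorem fittMor_mono [IsFinite f] : Monotone (fittMor f) := by
  intro r r' h V
  letI := appAlg f V.1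
  haveI : Module.Finite Γ(Y, V.1) Γ(X, f ⁻¹ᵁ V.1) := finite_app f V.2
  exact fitt_mono h

/-- ring-level: a retraction forces the zeroth Fitting ideal to vanish. -/
theorem fitt_zero_eq_bot_of_retraction {A B : Type u} [CommRing A] [CommRing B] [Algebra A B]
    (ψ : B →+* A) (hψ : ∀ a, ψ (algebraMap A B a) = a) : Fitt.ideal A B 0 = ⊥ := by
  let l : B →ₗ[A] A :=
    { toFun := ψ
      map_add' := map_add ψ
      map_smul' := fun a b => by
        simp only [Algebra.smul_def, map_mul, hψ, RingHom.id_apply, Algebra.algebraMap_self] }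
  have hl : Function.Surjective l := fun a => ⟨algebraMap A B a, hψ a⟩
  have h1 := fitt_le_of_surjective' l hl 0
  have h2 : Fitt.ideal A A 0 = ⊥ :=
    (fitt_of_basis (Module.Basis.singleton (Fin 1) A) 0).1 Nat.zero_lt_one
  rw [h2] at h1
  exact le_bot_iff.mp h1

theorem fittMor_zero_of_section [IsFinite f] (e : Y ⟶ X) (he : e ≫ f = 𝟙 Y) :
    fittMor f 0 = ⊥ := by
  ext V : 2
  rw [Scheme.IdealSheafData.ideal_bot]
  show fittApp f V.1 0 = ⊥
  letI := appAlg f V.1
  have hle : V.1 ≤ e ⁻¹ᵁ (f ⁻¹ᵁ V.1) := by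
    rw [← Scheme.Hom.comp_preimage, he]; exact le_rfl
  refine fitt_zero_eq_bot_of_retraction (e.appLE (f ⁻¹ᵁ V.1) V.1 hle).hom ?_
  intro a
  have h1 : f.app V.1 ≫ e.appLE (f ⁻¹ᵁ V.1) V.1 hle = 𝟙 _ := by
    rw [Scheme.Hom.app_eq_appLE, Scheme.Hom.appLE_comp_appLE]
    rw [appLE_congr_hom he V.1 V.1]
    simp only [Scheme.Hom.appLE, Scheme.Hom.id_app]
    exact Y.presheaf.map_id _
  exact congrArg (fun φ => φ.hom a) h1

theorem exists_notMem_support_fittMor [IsFinite f] (y : Y) :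
    ∃ n : ℕ, y ∉ (fittMor f n).support := by
  obtain ⟨V, hV, hyV, -⟩ := exists_isAffineOpen_mem_and_subset (x := y) (U := ⊤) trivial
  letI := appAlg f V
  haveI : Module.Finite Γ(Y, V) Γ(X, f ⁻¹ᵁ V) := finite_app f hV
  obtain ⟨n, x, hx⟩ := Module.Finite.exists_fin (R := Γ(Y, V)) (M := Γ(X, f ⁻¹ᵁ V))
  refine ⟨n, ?_⟩
  rw [Scheme.IdealSheafData.mem_support_iff_of_mem (U := ⟨V, hV⟩) hyV]
  show y ∉ Y.zeroLocus (U := V) ((fittApp f V n : Ideal Γ(Y, V)) : Set Γ(Y, V))
  have h1 : fittApp f V n = ⊤ := fitt_top_of_gens n x hx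
  rw [h1, Scheme.mem_zeroLocus_iff]
  intro h
  have := h 1 trivial
  rw [Scheme.basicOpen_of_isUnit _ isUnit_one] at this
  exact this hyV

theorem iInter_support_fittMor [IsFinite f] :
    (⋂ r, ((fittMor f r).support : Set Y)) = ∅ := by
  rw [Set.eq_empty_iff_forall_notMem]
  intro y hy
  obtain ⟨n, hn⟩ := exists_notMem_support_fittMor f y
  exact hn (Set.mem_iInter.1 hy n)


end Groth.Agent.R2.H96.FittMor

namespace Groth.Agent.R2.H96.FittMor

/-- ring-level base change of Fitting ideals along a pushout square of commutative rings. -/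
theorem fitt_of_isPushout {A B A' B' : CommRingCat.{u}} {φ : A ⟶ B} {γ : A ⟶ A'} {γ' : B ⟶ B'}
    {φ' : A' ⟶ B'} (h : IsPushout φ γ γ' φ') (hfin : φ.hom.Finite) (r : ℕ) :
    (letI := φ'.hom.toAlgebra; Fitt.ideal A' B' r) =
      (letI := φ.hom.toAlgebra; Fitt.ideal A B r).map γ.hom := by
  algebraize [φ.hom, γ.hom, γ'.hom, φ'.hom, φ'.hom.comp γ.hom]
  haveI : IsScalarTower A B B' := .of_algebraMap_eq' <| congr($(h.1.1).hom).symm
  have h1 : Algebra.IsPushout A B A' B' := CommRingCat.isPushout_iff_isPushout.mp h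
  have h2 : Algebra.IsPushout A A' B B' := h1.symm
  have h3 : IsBaseChange A' (IsScalarTower.toAlgHom A B B').toLinearMap := h2.out
  haveI : Module.Finite A B := hfin
  rw [← fitt_congr h3.equiv r, fitt_baseChange (R' := A') (M := B) r]
  rfl

variable {X Y X' Y' : Scheme.{u}} {f : X ⟶ Y} {g : Y' ⟶ Y} {f' : X' ⟶ Y'} {g' : X' ⟶ X}

theorem fittApp_of_isPullback (H : IsPullback g' f' f g) [IsFinite f] {V : Y.Opens}
    (hV : IsAffineOpen V) {W : Y'.Opens} (hW : IsAffineOpen W) (hWV : W ≤ g ⁻¹ᵁ V) (r : ℕ) :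
    fittApp f' W r = (fittApp f V r).map (g.appLE V W hWV).hom := by
  have hUY : f' ⁻¹ᵁ W = g' ⁻¹ᵁ (f ⁻¹ᵁ V) ⊓ f' ⁻¹ᵁ W := by
    refine (inf_eq_right.2 ?_).symm
    rw [← Scheme.Hom.comp_preimage, H.w, Scheme.Hom.comp_preimage]
    exact f'.preimage_mono hWV
  have hiso := isIso_pushoutSection_of_isAffineOpen H hWV (le_refl (f ⁻¹ᵁ V)) hUY hV hW
    (hV.preimage f)
  have hpo := (isIso_pushoutSection_iff H hWV (le_refl (f ⁻¹ᵁ V)) hUY).mp hiso
  have e1 : f.appLE V (f ⁻¹ᵁ V) le_rfl = f.app V := f.appLE_eq_app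
  have e2 : ∀ h, f'.appLE W (f' ⁻¹ᵁ W) h = f'.app W := fun _ => f'.appLE_eq_app
  rw [e1, e2] at hpo
  exact fitt_of_isPushout hpo (f.finite_app V hV) r

theorem fittMor_comap (H : IsPullback g' f' f g) [IsFinite f] [IsFinite f'] (r : ℕ) :
    (fittMor f r).comap g = fittMor f' r := by
  let ι : Type u := {p : Y'.affineOpens × Y.affineOpens // p.1.1 ≤ g ⁻¹ᵁ p.2.1}
  have hcov : ⨆ p : ι, (p.1.1 : Y'.affineOpens).1 = ⊤ := by
    rw [eq_top_iff]
    intro y _
    obtain ⟨V, hV, hyV, -⟩ := exists_isAffineOpen_mem_and_subset (x := g y) (U := ⊤) trivial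
    obtain ⟨U, hU, hyU, hUV⟩ := exists_isAffineOpen_mem_and_subset (x := y) (U := g ⁻¹ᵁ V) hyV
    exact Opens.mem_iSup.2 ⟨⟨(⟨U, hU⟩, ⟨V, hV⟩), hUV⟩, hyU⟩
  apply Scheme.IdealSheafData.ext_of_iSup_eq_top (fun p : ι => p.1.1) hcov
  intro p
  rw [Groth.Agent.Lib.Helper22.IdealComap.ideal_comap_eq_map g _ p.1.1 p.1.2 p.2]
  exact (fittApp_of_isPullback H p.1.2.2 p.1.1.2 p.2 r).symm

/-- ring-level: Fitting ideals `0` below `d` and `⊤` at `d` force a finite module to be finitely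
presented, flat, of constant rank `d`. -/
theorem fp_flat_rank_of_fitt {A : Type u} [CommRing A] (M : Type u) [AddCommGroup M] [Module A M]
    [Module.Finite A M] (d : ℕ) (h0 : ∀ k, k < d → Fitt.ideal A M k = ⊥)
    (h1 : Fitt.ideal A M d = ⊤) :
    Module.FinitePresentation A M ∧ Module.Flat A M ∧
      ∀ p : PrimeSpectrum A, Module.rankAtStalk M p = d := by
  have h1' : ∀ k, d ≤ k → Fitt.ideal A M k = ⊤ := fun k hk =>
    top_le_iff.mp (h1 ▸ fitt_mono hk)
  have hlf : LocFree (R := A) M d := locFree_of_fitt M d h0 h1'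
  let s : Set A := {f | Module.Free (Localization.Away f) (LocalizedModule (Submonoid.powers f) M) ∧
    Module.finrank (Localization.Away f) (LocalizedModule (Submonoid.powers f) M) = d}
  have hs : Ideal.span s = ⊤ := by
    by_contra hne
    obtain ⟨m, hm, hle⟩ := Ideal.exists_le_maximal _ hne
    obtain ⟨f, hf, hfree, hrk⟩ := hlf m
    exact hf (hle (Ideal.subset_span ⟨hfree, hrk⟩))
  have hfp : Module.FinitePresentation A M := by
    refine Module.FinitePresentation.of_localizationSpan s hs (fun g => ?_)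
    haveI : Module.Free (Localization.Away g.1) (LocalizedModule (Submonoid.powers g.1) M) :=
      g.2.1
    haveI : Module.Finite (Localization.Away g.1) (LocalizedModule (Submonoid.powers g.1) M) :=
      inferInstance
    exact Module.finitePresentation_of_projective _ _
  have hflat : Module.Flat A M := by
    refine Module.flat_of_localized_span A M s hs (fun g => ?_)
    haveI : Module.Free (Localization.Away g.1) (LocalizedModule (Submonoid.powers g.1) M) :=
      g.2.1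
    exact Module.Flat.trans A (Localization.Away g.1) _
  refine ⟨hfp, hflat, fun p => ?_⟩
  rw [Module.rankAtStalk_eq]
  have e1 : Module.finrank p.asIdeal.ResidueField (p.asIdeal.ResidueField ⊗[A] M) ≤ d := by
    rw [← not_le_iff_finrank M d p.asIdeal, h1]
    intro h
    exact p.isPrime.ne_top (top_le_iff.mp h)
  have e2 : d ≤ Module.finrank p.asIdeal.ResidueField (p.asIdeal.ResidueField ⊗[A] M) := by
    rcases Nat.eq_zero_or_pos d with hd | hd
    · omega
    · by_contra hlt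
      have : Module.finrank p.asIdeal.ResidueField (p.asIdeal.ResidueField ⊗[A] M) ≤ d - 1 := by
        omega
      rw [← not_le_iff_finrank M (d - 1) p.asIdeal, h0 (d - 1) (by omega)] at this
      exact this bot_le
  exact le_antisymm e1 e2

theorem isFinLocFreeOfDeg_SpecMap {A B : CommRingCat.{u}} (φ : A ⟶ B) [IsFinite (Spec.map φ)]
    (d : ℕ) (h0 : ∀ k, k < d → fittMor (Spec.map φ) k = ⊥) (h1 : fittMor (Spec.map φ) d = ⊤) :
    Mor2.IsFinLocFreeOfDeg d (Spec.map φ) := by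
  have hfin : φ.hom.Finite := (IsFinite.SpecMap_iff φ).mp inferInstance
  have hsq : IsPushout ((Spec.map φ).app ⊤) (Scheme.ΓSpecIso A).hom (Scheme.ΓSpecIso B).hom φ :=
    IsPushout.of_vert_isIso ⟨Scheme.ΓSpecIso_naturality φ⟩
  have key : ∀ k, (letI := φ.hom.toAlgebra; Fitt.ideal A B k) =
      ((fittMor (Spec.map φ) k).ideal ⟨⊤, isAffineOpen_top _⟩).map (Scheme.ΓSpecIso A).hom.hom :=
    fun k => fitt_of_isPushout hsq ((Spec.map φ).finite_app ⊤ (isAffineOpen_top _)) k
  letI := φ.hom.toAlgebra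
  haveI : Module.Finite A B := hfin
  have k0 : ∀ k, k < d → Fitt.ideal A B k = ⊥ := by
    intro k hk
    rw [key k, h0 k hk, Scheme.IdealSheafData.ideal_bot, Pi.bot_apply, Ideal.map_bot]
  have k1 : Fitt.ideal A B d = ⊤ := by
    rw [key d, h1, Scheme.IdealSheafData.ideal_top, Pi.top_apply, Ideal.map_top]
  obtain ⟨hfp, hflat, hrk⟩ := fp_flat_rank_of_fitt (A := A) B d k0 k1
  have hflat' : φ.hom.Flat := hflat
  have hfp' : φ.hom.FinitePresentation :=
    (Module.FinitePresentation.iff_finitePresentation_of_finite (R := A) (S := B)).mp hfp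
  refine ⟨⟨inferInstance, Flat.SpecMap_iff.mpr hflat',
    (LocallyOfFinitePresentation.SpecMap_iff φ).mpr hfp'⟩, fun y => ?_⟩
  rw [Scheme.Hom.finrank_SpecMap_eq_finrank hfin hflat']
  exact hrk y


variable {X Y : Scheme.{u}}

/-- affine target. -/
theorem isFinLocFreeOfDeg_of_fittMor_of_isAffine [IsAffine Y] (f : X ⟶ Y) [IsFinite f]
    (d : ℕ) (h0 : ∀ k, k < d → fittMor f k = ⊥) (h1 : fittMor f d = ⊤) :
    Mor2.IsFinLocFreeOfDeg d f := by
  haveI : IsAffine X := isAffine_of_isAffineHom f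
  have hsq : IsPullback X.isoSpec.hom f (Spec.map f.appTop) Y.isoSpec.hom :=
    IsPullback.of_horiz_isIso ⟨Scheme.isoSpec_hom_naturality f⟩
  have hsq' : IsPullback X.isoSpec.inv (Spec.map f.appTop) f Y.isoSpec.inv :=
    IsPullback.of_horiz_isIso ⟨(Scheme.isoSpec_inv_naturality f).symm⟩
  haveI : IsFinite (Spec.map f.appTop) :=
    MorphismProperty.of_isPullback (P := @IsFinite) hsq' inferInstance
  have hfit : ∀ k, fittMor (Spec.map f.appTop) k = (fittMor f k).comap Y.isoSpec.inv :=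
    fun k => (fittMor_comap hsq' k).symm
  obtain ⟨⟨_, hfl, hfp⟩, hrk⟩ := isFinLocFreeOfDeg_SpecMap f.appTop d
    (fun k hk => by rw [hfit k, h0 k hk, Scheme.IdealSheafData.comap_bot])
    (by rw [hfit d, h1, Scheme.IdealSheafData.comap_top])
  haveI := hfl
  haveI := hfp
  have hflat : Flat f := MorphismProperty.of_isPullback (P := @Flat) hsq hfl
  have hlfp : LocallyOfFinitePresentation f :=
    MorphismProperty.of_isPullback (P := @LocallyOfFinitePresentation) hsq hfp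
  refine ⟨⟨inferInstance, hflat, hlfp⟩, fun y => ?_⟩
  rw [Scheme.Hom.finrank_of_isPullback _ _ _ _ hsq y]
  exact hrk _

theorem isFinLocFreeOfDeg_of_fittMor (f : X ⟶ Y) [IsFinite f] (d : ℕ)
    (h0 : ∀ k, k < d → fittMor f k = ⊥) (h1 : fittMor f d = ⊤) :
    Mor2.IsFinLocFreeOfDeg d f := by
  have key : ∀ i : Y.affineCover.I₀,
      Mor2.IsFinLocFreeOfDeg d (pullback.snd f (Y.affineCover.f i)) := by
    intro i
    have hsq := IsPullback.of_hasPullback f (Y.affineCover.f i)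
    refine isFinLocFreeOfDeg_of_fittMor_of_isAffine (pullback.snd f (Y.affineCover.f i)) d
      (fun k hk => ?_) ?_
    · rw [← fittMor_comap hsq k, h0 k hk, Scheme.IdealSheafData.comap_bot]
    · rw [← fittMor_comap hsq d, h1, Scheme.IdealSheafData.comap_top]
  have hflat : Flat f := by
    rw [IsZariskiLocalAtTarget.iff_of_openCover (P := @Flat) Y.affineCover]
    exact fun i => (key i).1.2.1
  have hfp : LocallyOfFinitePresentation f := by
    rw [IsZariskiLocalAtTarget.iff_of_openCover (P := @LocallyOfFinitePresentation) Y.affineCover]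
    exact fun i => (key i).1.2.2
  refine ⟨⟨inferInstance, hflat, hfp⟩, fun y => ?_⟩
  obtain ⟨y', hy'⟩ := Y.affineCover.covers y
  rw [← hy', ← Scheme.Hom.finrank_pullback_snd f (Y.affineCover.f _) y']
  exact (key _).2 y'

end Groth.Agent.R2.H96.FittMor
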