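import Mathlib
import Groth.Prelude.Def_Grpd
import Groth.Agent.S1880
import Groth.Agent.R2.H96FittMor

/-!
# The Fitting stratification of a groupoid scheme with finite source map (helper96)
-/

set_option autoImplicit false
set_option linter.style.haveILetI false
set_option linter.unusedSectionVars false
universe u

open CategoryTheory CategoryTheory.Limits AlgebraicGeometry TopologicalSpace
open Groth.Agent.R2.H96.FittMor

namespace Groth.Agent.R2.H96.GrpdFitt

section General
variable {X Y : Scheme.{u}}

theorem exists_subscheme_iso_of_eq {I J : X.IdealSheafData} (h : I = J) :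
    ∃ ψ : I.subscheme ≅ J.subscheme, ψ.hom ≫ J.subschemeι = I.subschemeι := by
  subst h
  exact ⟨Iso.refl _, Category.id_comp _⟩

/-- equal pullbacks of an ideal sheaf give isomorphic pullbacks of the closed subscheme. -/
theorem exists_iso_of_comap_eq (I : Y.IdealSheafData) (a b : X ⟶ Y) (h : I.comap a = I.comap b) :
    ∃ φ : pullback a I.subschemeι ≅ pullback b I.subschemeι,
      φ.hom ≫ pullback.fst b I.subschemeι = pullback.fst a I.subschemeι := by
  obtain ⟨ψ, hψ⟩ := exists_subscheme_iso_of_eq h
  refine ⟨(I.comapIso a).symm ≪≫ ψ ≪≫ I.comapIso b, ?_⟩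
  simp only [Iso.trans_hom, Iso.symm_hom, Category.assoc,
    Scheme.IdealSheafData.comapIso_hom_fst, hψ, Scheme.IdealSheafData.comapIso_inv_subschemeι]

theorem comap_subschemeι_self (I : Y.IdealSheafData) : I.comap I.subschemeι = ⊥ := by
  unfold Scheme.IdealSheafData.comap
  exact Scheme.Hom.ker_eq_bot_of_isIso _

theorem comap_eq_bot_of_le {I J : Y.IdealSheafData} (h : I ≤ J) (a : X ⟶ J.subscheme) :
    I.comap (a ≫ J.subschemeι) = ⊥ := by
  rw [eq_bot_iff, Scheme.IdealSheafData.comap_comp]
  have h1 : I.comap J.subschemeι ≤ J.comap J.subschemeι :=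
    Scheme.IdealSheafData.comap_mono _ h
  rw [comap_subschemeι_self] at h1
  have h2 : (I.comap J.subschemeι).comap a ≤ (⊥ : J.subscheme.IdealSheafData).comap a :=
    Scheme.IdealSheafData.comap_mono a h1
  rwa [Scheme.IdealSheafData.comap_bot] at h2

theorem comap_eq_top_of_forall_notMem (I : Y.IdealSheafData) (a : X ⟶ Y)
    (h : ∀ x, a x ∉ I.support) : I.comap a = ⊤ := by
  rw [← Scheme.IdealSheafData.support_eq_bot_iff, Scheme.IdealSheafData.support_comap]
  ext x
  simp only [Closeds.coe_preimage, Set.mem_preimage, SetLike.mem_coe, Closeds.coe_bot,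
    Set.mem_empty_iff_false, iff_false]
  exact h x

/-- the base change of a finite morphism to a subscheme on which the Fitting ideal sheaves are `0`
below `d` and `⊤` at `d` is finite locally free of degree `d`. -/
theorem isFinLocFreeOfDeg_pullback_snd (f : X ⟶ Y) [IsFinite f] {T : Scheme.{u}} (h : T ⟶ Y)
    (d : ℕ) (h0 : ∀ k, k < d → (fittMor f k).comap h = ⊥) (h1 : (fittMor f d).comap h = ⊤) :
    Mor2.IsFinLocFreeOfDeg d (pullback.snd f h) := by
  have hsq := IsPullback.of_hasPullback f h
  refine isFinLocFreeOfDeg_of_fittMor _ d (fun k hk => ?_) ?_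
  · rw [← fittMor_comap hsq k, h0 k hk]
  · rw [← fittMor_comap hsq d, h1]

end General

variable {S : Scheme.{u}} (G : Grpd.GroupoidScheme S) [IsFinite G.s]

/-- the Fitting ideal sheaves of `s_* O_R`. -/
noncomputable def Z (r : ℕ) : G.U.IdealSheafData := fittMor G.s r

theorem Z_zero : Z G 0 = ⊥ := fittMor_zero_of_section G.s G.e G.e_s

theorem Z_mono : Monotone (Z G) := fittMor_mono G.s

theorem iInter_support_Z : (⋂ r, ((Z G r).support : Set G.U)) = ∅ := iInter_support_fittMor G.s

/-- invariance of the Fitting strata. -/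
theorem comap_s_eq_comap_t (r : ℕ) : (Z G r).comap G.s = (Z G r).comap G.t := by
  have h1 := fittMor_comap (Groth.Agent.S1880.isPullback_c G) r
  have h2 := fittMor_comap (IsPullback.of_hasPullback G.s G.t) r
  exact h1.trans h2.symm

theorem exists_iso_Z (r : ℕ) :
    ∃ φ : pullback G.s (Z G r).subschemeι ≅ pullback G.t (Z G r).subschemeι,
      φ.hom ≫ pullback.fst G.t (Z G r).subschemeι = pullback.fst G.s (Z G r).subschemeι :=
  exists_iso_of_comap_eq _ _ _ (comap_s_eq_comap_t G r)

/-- `s` over the stratum `Z_r ∖ Z_{r+1}` is finite locally free of degree `r + 1`. -/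
theorem isFinLocFreeOfDeg_stratum (r : ℕ) :
    Mor2.IsFinLocFreeOfDeg (r + 1) (pullback.snd G.s
      (((Z G r).subschemeι ⁻¹ᵁ (Z G (r + 1)).support.compl).ι ≫ (Z G r).subschemeι)) := by
  refine isFinLocFreeOfDeg_pullback_snd G.s _ (r + 1) (fun k hk => ?_) ?_
  · exact comap_eq_bot_of_le (Z_mono G (Nat.lt_succ_iff.mp hk)) _
  · refine comap_eq_top_of_forall_notMem _ _ (fun x => ?_)
    exact x.2

end Groth.Agent.R2.H96.GrpdFitt
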