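import Mathlib
import Groth.Agent.R2.H96GrpdFitt

/-!
# PROJ:grpd-fitt — interface (helper96)

Targets: S1908, S1909 (Stacks 0ABE-type: for a groupoid with finite `s, t` there are an invariant open
`W ⊆ U` and an invariant thickening-closed `W' ⊆ W` with `U = t(s⁻¹(closure W))` such that the
restricted `s', t'` are finite locally free), built from the Fitting stratification
`Z G r = fittMor G.s r` (R2/H96FittMor, R2/H96GrpdFitt, S7513).

The packages below are independent `Prop`s; prove `theorem xxx : XxxStmt.{u}` in your own file.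
-/

set_option autoImplicit false
universe u

open CategoryTheory CategoryTheory.Limits AlgebraicGeometry TopologicalSpace
open Groth.Agent.R2.H96.FittMor Groth.Agent.R2.H96.GrpdFitt

namespace Groth.Agent.R2.H96.GrpdFittSpec

/-- **[GLUE]** gluing ideal sheaves along a cover by pairwise disjoint opens: `J|_{O n} = (I n)|_{O n}`.
Route: `F n := (⨆ k ≠ n, O k).ι.ker` (the inclusion of the clopen complement is a closed immersion, hence
quasi-compact, so `Hom.support_ker` applies); `J := ⨆ n, I n ⊓ F n`; `comap` along any morphism commutes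
with `⨆` (`Scheme.IdealSheafData.map_gc`), along an open immersion it commutes with `⊓`
(`ideal_comap_of_isOpenImmersion`); `(F n).comap (O n).ι = ⊤` (support) and
`(F n).comap (O k).ι = ⊥` for `k ≠ n` (`comap_map_le`, `(O k).ι` factors through the complement). -/
def GlueStmt : Prop :=
  ∀ {X : Scheme.{u}} (O : ℕ → X.Opens), Pairwise (Function.onFun Disjoint O) → (⨆ n, O n) = ⊤ →
    ∀ I : ℕ → X.IdealSheafData,
      ∃ J : X.IdealSheafData, ∀ n, J.comap (O n).ι = (I n).comap (O n).ι

/-- **[LOCEQ]** ideal sheaves are determined by their restrictions to the members of an open cover.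
Route: `Scheme.IdealSheafData.ext_of_iSup_eq_top` on the affine opens contained in some `O n` +
`Scheme.IdealSheafData.ideal_comap_of_isOpenImmersion`. -/
def LocEqStmt : Prop :=
  ∀ {X : Scheme.{u}} (O : ℕ → X.Opens), (⨆ n, O n) = ⊤ → ∀ I I' : X.IdealSheafData,
    (∀ n, I.comap (O n).ι = I'.comap (O n).ι) → I = I'

/-- **[LOC]** a finite morphism whose Fitting ideal sheaves are, locally on the target, `⊥` below some
`d` and `⊤` at `d`, is finite locally free.
Route: `isPullback_morphismRestrict` + `fittMor_comap` give the hypotheses of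
`isFinLocFreeOfDeg_of_fittMor` for `f ∣_ T n`; then `IsZariskiLocalAtTarget.iff_of_iSup_eq_top` for
`Flat` and `LocallyOfFinitePresentation`. -/
def LocStmt : Prop :=
  ∀ {X Y : Scheme.{u}} (f : X ⟶ Y) [IsFinite f] (T : ℕ → Y.Opens), (⨆ n, T n) = ⊤ →
    (∀ n, ∃ d : ℕ, (∀ k, k < d → (fittMor f k).comap (T n).ι = ⊥) ∧
      (fittMor f d).comap (T n).ι = ⊤) →
    Mor2.IsFinLocFree f

/-- **[TOP]** the topological recursion of Stacks 0ABE. `Sg n` = support of `Z G n`.
Route: `T' 0 = ∅`, `W n = (Sg (n+1) ∪ T' n)ᶜ`, `T' (n+1) = T' n ∪ t(s⁻¹(closure (W n)))`.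
`t` is a closed map (`IsFinite G.t`), `t(s⁻¹ A)` is invariant (R2/H33GrpdInvOpen: `exists_comp_pt`,
`s_i_pt`, `t_i_pt`, `s_e_pt`, `t_e_pt`), `(Sg n)ᶜ ⊆ T' n` by induction, so `W n ⊆ Sg n \ Sg (n+1)`;
every `u` lies in some `(Sg n)ᶜ ⊆ T' n ⊆ ⋃_{k<n} t(s⁻¹(closure (W k)))`;
`T' n ⊆ t(s⁻¹(closure (Sg n)ᶜ))` gives the last clause. -/
def TopStmt : Prop :=
  ∀ {S : Scheme.{u}} (G : Grpd.GroupoidScheme S) [IsFinite G.s] [IsFinite G.t]
    (Sg : ℕ → Set G.U), (∀ n, IsClosed (Sg n)) → Antitone Sg → Sg 0 = Set.univ →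
    (⋂ n, Sg n) = ∅ → (∀ n, G.s ⁻¹' (Sg n) = G.t ⁻¹' (Sg n)) →
    ∃ W : ℕ → G.U.Opens,
      (∀ n, G.s ⁻¹ᵁ W n = G.t ⁻¹ᵁ W n) ∧
      (∀ n, (W n : Set G.U) ⊆ Sg n \ Sg (n + 1)) ∧
      (∀ u : G.U, ∃ n, ∃ ρ : G.R, G.t ρ = u ∧ G.s ρ ∈ closure (W n : Set G.U)) ∧
      (∀ n (u : G.U), u ∈ Sg n \ Sg (n + 1) →
        (∀ ρ : G.R, G.t ρ = u → G.s ρ ∉ closure ((Sg n)ᶜ)) → u ∈ W n)

/-- an ideal sheaf is locally finitely generated. -/
def LocFG {X : Scheme.{u}} (K : X.IdealSheafData) : Prop :=
  ∀ x : X, ∃ V : X.affineOpens, x ∈ V.1 ∧ (K.ideal V).FG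

/-- **[FG]** (for S1909) the Fitting ideal sheaves of a finite, finitely presented morphism are
finitely generated. Route: `HasRingHomProperty.appLE` for `LocallyOfFinitePresentation`,
`Module.FinitePresentation.iff_finitePresentation_of_finite`, `Helper18Fitt.fitt_fg_of_fp`. -/
def FGStmt : Prop :=
  ∀ {X Y : Scheme.{u}} (f : X ⟶ Y) [IsFinite f] [LocallyOfFinitePresentation f] (r : ℕ)
    (V : Y.affineOpens), ((fittMor f r).ideal V).FG

/-- **[FGCOMAP]** (for S1909) pullbacks of locally finitely generated ideal sheaves are locally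
finitely generated (`Lib/Helper22IdealComap.ideal_comap_eq_map`), and conversely along the members of
an open cover (`ideal_comap_of_isOpenImmersion`). -/
def FGComapStmt : Prop :=
  (∀ {X Y : Scheme.{u}} (g : X ⟶ Y) (K : Y.IdealSheafData), LocFG K → LocFG (K.comap g)) ∧
  (∀ {X : Scheme.{u}} (O : ℕ → X.Opens), (⨆ n, O n) = ⊤ → ∀ J : X.IdealSheafData,
    (∀ n, LocFG (J.comap (O n).ι)) → LocFG J)

/-- **[LFP]** (for S1909) the closed immersion of a locally finitely generated ideal sheaf is locally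
of finite presentation. Route: `HasRingHomProperty.iff_exists_appLE` (source version) with
`V' = J.subschemeι ⁻¹ᵁ V`; `J.subschemeι.app V` is surjective with kernel `J.ideal V`
(`Scheme.IdealSheafData.ker_subschemeι_app`, `subschemeι_app_surjective`), so it is of finite
presentation (`RingHom.FinitePresentation.of_surjective`). -/
def LfpStmt : Prop :=
  ∀ {X : Scheme.{u}} (J : X.IdealSheafData), LocFG J → LocallyOfFinitePresentation J.subschemeι

/-- **[GEN]** (for S1909) a point without proper generizations in the support of a locally finitely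
generated ideal sheaf is not in the closure of the complement of the support.
Route: affine `V ∋ x` with `K.ideal V = span {g₁..g_m}`; the prime `p` of `x` is minimal, so every
`g_i` is nilpotent in `Γ(V)_p`: `s_i g_i ^ N = 0` with `s_i ∉ p`; `D(∏ s_i)` is an open neighbourhood
of `x` inside the support. -/
def GenStmt : Prop :=
  ∀ {X : Scheme.{u}} (K : X.IdealSheafData), LocFG K → ∀ x : X, x ∈ K.support →
    (∀ y : X, y ⤳ x → y = x) → x ∉ closure ((K.support : Set X)ᶜ)

end Groth.Agent.R2.H96.GrpdFittSpec
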