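import Mathlib
import Groth.Agent.R2.H96GrpdFittSpec

/-!
# PROJ:grpd-fitt — package [GEN] (helper66)

A point without proper generizations in the support of a locally finitely generated ideal sheaf is
an interior point of the support.
-/

set_option autoImplicit false
universe u

open CategoryTheory CategoryTheory.Limits AlgebraicGeometry TopologicalSpace
open AlgebraicGeometry.Scheme AlgebraicGeometry.Scheme.IdealSheafData

namespace Groth.Agent.R2.H66.GrpdFittGen

/-- ring level: an element of a minimal prime is killed, up to a power, by an element outside. -/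
theorem exists_mul_pow_eq_zero {R : Type*} [CommRing R] {p : Ideal R} (hp : p ∈ minimalPrimes R)
    {g : R} (hg : g ∈ p) : ∃ s : R, s ∉ p ∧ ∃ N : ℕ, s * g ^ (N + 1) = 0 := by
  haveI : p.IsPrime := hp.1.1
  have h1 := IsLocalization.AtPrime.radical_map_of_mem_minimalPrimes
    (A := Localization.AtPrime p) p ⊥ hp
  have h2 : algebraMap R (Localization.AtPrime p) g ∈
      ((⊥ : Ideal R).map (algebraMap R (Localization.AtPrime p))).radical := by
    rw [h1]
    exact Ideal.mem_map_of_mem _ hg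
  obtain ⟨N, hN⟩ := h2
  rw [Ideal.map_bot, Ideal.mem_bot, ← map_pow] at hN
  obtain ⟨s, hs⟩ := (IsLocalization.map_eq_zero_iff p.primeCompl (Localization.AtPrime p) _).mp hN
  refine ⟨s.1, s.2, N, ?_⟩
  rw [pow_succ, ← mul_assoc, hs, zero_mul]

/-- finitely many elements of a minimal prime -/
theorem exists_forall_mul_pow_eq_zero {R : Type*} [CommRing R] {p : Ideal R}
    (hp : p ∈ minimalPrimes R) (T : Finset R) (hT : ∀ g ∈ T, g ∈ p) :
    ∃ s : R, s ∉ p ∧ ∀ g ∈ T, ∃ N : ℕ, s * g ^ (N + 1) = 0 := by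
  classical
  haveI : p.IsPrime := hp.1.1
  induction T using Finset.induction_on with
  | empty =>
    exact ⟨1, fun h => (Ideal.ne_top_iff_one p).mp ‹p.IsPrime›.ne_top h, fun g hg => by simp at hg⟩
  | insert a T ha ih =>
    obtain ⟨s, hs, hsT⟩ := ih (fun g hg => hT g (Finset.mem_insert_of_mem hg))
    obtain ⟨s', hs', N', hN'⟩ := exists_mul_pow_eq_zero hp (hT a (Finset.mem_insert_self a T))
    refine ⟨s' * s, fun h => ?_, fun g hg => ?_⟩
    · rcases ‹p.IsPrime›.mem_or_mem h with h | h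
      · exact hs' h
      · exact hs h
    · rcases Finset.mem_insert.mp hg with rfl | hg
      · exact ⟨N', by rw [mul_right_comm, hN', zero_mul]⟩
      · obtain ⟨N, hN⟩ := hsT g hg
        exact ⟨N, by rw [mul_assoc, hN, mul_zero]⟩

theorem genStmt : Groth.Agent.R2.H96.GrpdFittSpec.GenStmt.{u} := by
  intro X K hK x hx hgen
  obtain ⟨V, hxV, hfg⟩ := hK x
  obtain ⟨T, hT⟩ := hfg
  -- the prime of `x`
  let p : PrimeSpectrum Γ(X, V.1) := V.2.primeIdealOf ⟨x, hxV⟩
  have hpx : V.2.fromSpec p = x := V.2.fromSpec_primeIdealOf ⟨x, hxV⟩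
  -- `p` is a minimal prime
  have hmin : p.asIdeal ∈ minimalPrimes Γ(X, V.1) := by
    refine ⟨⟨p.2, bot_le⟩, fun q hq hqp => ?_⟩
    let q' : PrimeSpectrum Γ(X, V.1) := ⟨q, hq.1⟩
    have h1 : q' ⤳ p := (PrimeSpectrum.le_iff_specializes q' p).mp hqp
    have h2 : V.2.fromSpec q' ⤳ x := by
      rw [← hpx]
      exact h1.map V.2.fromSpec.continuous
    have h3 : V.2.fromSpec q' = V.2.fromSpec p := (hgen _ h2).trans hpx.symm
    have h4 : q' = p := V.2.fromSpec.isOpenEmbedding.injective h3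
    rw [← h4]
  -- the generators lie in `p`
  have hsupp : (K.support : Set X) ∩ V.1 = X.zeroLocus (U := V.1) (K.ideal V) ∩ V.1 :=
    K.coe_support_inter V
  have hxz : x ∈ X.zeroLocus (U := V.1) (K.ideal V) := by
    have : x ∈ (K.support : Set X) ∩ V.1 := ⟨hx, hxV⟩
    rw [hsupp] at this
    exact this.1
  have hTp : ∀ g ∈ T, g ∈ p.asIdeal := by
    intro g hg
    have hgK : g ∈ K.ideal V := by
      rw [← hT]
      exact Ideal.subset_span hg
    have h1 : x ∉ X.basicOpen g := (Scheme.mem_zeroLocus_iff _ _ _).mp hxz g hgK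
    by_contra h2
    apply h1
    rw [← hpx]
    have : V.2.fromSpec p ∈ V.2.fromSpec ''ᵁ PrimeSpectrum.basicOpen g := ⟨p, h2, rfl⟩
    rwa [V.2.fromSpec_image_basicOpen] at this
  obtain ⟨s, hs, hsT⟩ := exists_forall_mul_pow_eq_zero hmin T hTp
  -- the neighbourhood `D(s)`
  have hxs : x ∈ X.basicOpen s := by
    rw [← hpx]
    have : V.2.fromSpec p ∈ V.2.fromSpec ''ᵁ PrimeSpectrum.basicOpen s := ⟨p, hs, rfl⟩
    rwa [V.2.fromSpec_image_basicOpen] at this
  have hsub : (X.basicOpen s : Set X) ⊆ K.support := by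
    intro y hy
    have hyV : y ∈ V.1 := X.basicOpen_le s hy
    have : y ∈ X.zeroLocus (U := V.1) (K.ideal V) ∩ V.1 := by
      refine ⟨?_, hyV⟩
      rw [← hT, Scheme.zeroLocus_span, Scheme.mem_zeroLocus_iff]
      intro g hg hyg
      obtain ⟨N, hN⟩ := hsT g hg
      have h1 : y ∈ X.basicOpen (s * g ^ (N + 1)) := by
        rw [Scheme.basicOpen_mul, Scheme.basicOpen_pow _ _ (Nat.succ_pos N)]
        exact ⟨hy, hyg⟩
      rw [hN, Scheme.basicOpen_zero] at h1
      exact h1
    rw [← hsupp] at this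
    exact this.1
  intro hcl
  rw [closure_compl, Set.mem_compl_iff] at hcl
  exact hcl (mem_interior.mpr ⟨_, hsub, (X.basicOpen s).isOpen, hxs⟩)

end Groth.Agent.R2.H66.GrpdFittGen
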