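import Mathlib
import Groth.Agent.R2.H96GrpdFitt2Spec
import Groth.Agent.R2.H66GrpdFittGen

/-!
# PROJ:grpd-fitt round 2 — package [AFFGEN] (helper66)

Finitely many points without proper generizations in a quasi-separated scheme lie in a common affine
open.
-/

set_option autoImplicit false
universe u

open CategoryTheory CategoryTheory.Limits AlgebraicGeometry TopologicalSpace
open Groth.Agent.R2.H66.GrpdFittGen

namespace Groth.Agent.R2.H66.GrpdFitt2AffGen

/-- the prime of a point without proper generizations is a minimal prime. -/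
theorem primeIdealOf_mem_minimalPrimes {X : Scheme.{u}} {V : X.Opens} (hV : IsAffineOpen V)
    (x : X) (hxV : x ∈ V) (hgen : ∀ y : X, y ⤳ x → y = x) :
    (hV.primeIdealOf ⟨x, hxV⟩).asIdeal ∈ minimalPrimes Γ(X, V) := by
  set p : PrimeSpectrum Γ(X, V) := hV.primeIdealOf ⟨x, hxV⟩ with hp
  have hpx : hV.fromSpec p = x := hV.fromSpec_primeIdealOf ⟨x, hxV⟩
  refine ⟨⟨p.2, bot_le⟩, fun q hq hqp => ?_⟩
  let q' : PrimeSpectrum Γ(X, V) := ⟨q, hq.1⟩
  have h1 : q' ⤳ p := (PrimeSpectrum.le_iff_specializes q' p).mp hqp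
  have h2 : hV.fromSpec q' ⤳ x := by
    rw [← hpx]
    exact h1.map hV.fromSpec.continuous
  have h3 : hV.fromSpec q' = hV.fromSpec p := (hgen _ h2).trans hpx.symm
  have h4 : q' = p := hV.fromSpec.isOpenEmbedding.injective h3
  rw [← h4]

theorem mem_basicOpen_iff_notMem_primeIdealOf {X : Scheme.{u}} {V : X.Opens} (hV : IsAffineOpen V)
    (x : X) (hxV : x ∈ V) (f : Γ(X, V)) :
    x ∈ X.basicOpen f ↔ f ∉ (hV.primeIdealOf ⟨x, hxV⟩).asIdeal := by
  have hpx : hV.fromSpec (hV.primeIdealOf ⟨x, hxV⟩) = x := hV.fromSpec_primeIdealOf ⟨x, hxV⟩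
  rw [← hV.fromSpec_image_basicOpen]
  constructor
  · rintro ⟨q, hq, hqx⟩
    have : q = hV.primeIdealOf ⟨x, hxV⟩ :=
      hV.fromSpec.isOpenEmbedding.injective (hqx.trans hpx.symm)
    rw [← this]
    exact hq
  · intro h
    exact ⟨_, h, hpx⟩

/-- one step: enlarge an affine open by a point without proper generizations. -/
theorem exists_affine_insert {X : Scheme.{u}} [QuasiSeparatedSpace X] (V : X.Opens)
    (hV : IsAffineOpen V) (x : X) (hgen : ∀ y : X, y ⤳ x → y = x) :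
    ∃ W : X.Opens, IsAffineOpen W ∧ V ≤ W ∧ x ∈ W := by
  by_cases hxV : x ∈ V
  · exact ⟨V, hV, le_rfl, hxV⟩
  obtain ⟨V', hV', hxV', -⟩ := exists_isAffineOpen_mem_and_subset (x := x) (U := ⊤) trivial
  have hcomp : IsCompact ((V : Set X) ∩ (V' : Set X)) :=
    QuasiSeparatedSpace.inter_isCompact (α := X) (V : Set X) (V' : Set X) V.isOpen hV.isCompact
      V'.isOpen hV'.isCompact
  -- cover `V ∩ V'` by basic opens of `V'` contained in `V`
  let ι := {f : Γ(X, V') // X.basicOpen f ≤ V}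
  have hcov : (V : Set X) ∩ (V' : Set X) ⊆ ⋃ f : ι, (X.basicOpen f.1 : Set X) := by
    rintro y ⟨hyV, hyV'⟩
    obtain ⟨f, hf1, hf2⟩ := hV'.exists_basicOpen_le (V := V) ⟨y, hyV⟩ hyV'
    exact Set.mem_iUnion.mpr ⟨⟨f, hf1⟩, hf2⟩
  obtain ⟨t, ht⟩ := hcomp.elim_finite_subcover (fun f : ι => (X.basicOpen f.1 : Set X))
    (fun f => (X.basicOpen f.1).isOpen) hcov
  classical
  let T : Finset Γ(X, V') := t.image Subtype.val
  have hmin := primeIdealOf_mem_minimalPrimes hV' x hxV' hgen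
  have hTp : ∀ f ∈ T, f ∈ (hV'.primeIdealOf ⟨x, hxV'⟩).asIdeal := by
    intro f hf
    obtain ⟨f', -, rfl⟩ := Finset.mem_image.mp hf
    by_contra h
    exact hxV (f'.2 ((mem_basicOpen_iff_notMem_primeIdealOf hV' x hxV' f'.1).mpr h))
  obtain ⟨g, hg, hgT⟩ := exists_forall_mul_pow_eq_zero hmin T hTp
  have hxg : x ∈ X.basicOpen g := (mem_basicOpen_iff_notMem_primeIdealOf hV' x hxV' g).mpr hg
  have hdisj : Disjoint V (X.basicOpen g) := by
    rw [disjoint_iff, eq_bot_iff]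
    rintro y ⟨hyV, hyg⟩
    have hyV' : y ∈ V' := X.basicOpen_le g hyg
    obtain ⟨f, hft, hyf⟩ : ∃ f ∈ t, y ∈ (X.basicOpen f.1 : Set X) := by
      have := ht ⟨hyV, hyV'⟩
      simpa only [Set.mem_iUnion, exists_prop] using this
    obtain ⟨N, hN⟩ := hgT f.1 (Finset.mem_image_of_mem _ hft)
    have h1 : y ∈ X.basicOpen (g * f.1 ^ (N + 1)) := by
      rw [Scheme.basicOpen_mul, Scheme.basicOpen_pow _ _ (Nat.succ_pos N)]
      exact ⟨hyg, hyf⟩
    rw [hN, Scheme.basicOpen_zero] at h1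
    exact h1
  exact ⟨V ⊔ X.basicOpen g, hV.sup_of_disjoint (hV'.basicOpen g) hdisj, le_sup_left,
    Or.inr hxg⟩

theorem affGenStmt : Groth.Agent.R2.H96.GrpdFitt2Spec.AffGenStmt.{u} := by
  intro X _ s hs
  induction s, hs using Set.Finite.induction_on with
  | empty =>
    intro _
    exact ⟨⊥, isAffineOpen_bot X, Set.empty_subset _⟩
  | insert ha hs ih =>
    intro h
    obtain ⟨V, hV, hsV⟩ := ih (fun x hx => h x (Set.mem_insert_of_mem _ hx))
    obtain ⟨W, hW, hVW, hxW⟩ := exists_affine_insert V hV _ (h _ (Set.mem_insert _ _))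
    refine ⟨W, hW, ?_⟩
    intro y hy
    rcases hy with rfl | hy
    · exact hxW
    · exact hVW (hsV hy)

end Groth.Agent.R2.H66.GrpdFitt2AffGen
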