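import Mathlib
import Groth.Agent.R2.H96GrpdFitt2Spec

/-!
# PROJ:grpd-fitt round 2 — package [PRIMEAVOID] (helper66)
-/

set_option autoImplicit false
universe u

open CategoryTheory CategoryTheory.Limits AlgebraicGeometry TopologicalSpace

namespace Groth.Agent.R2.H66.GrpdFitt2PrimeAvoid

/-- prime avoidance for a finite set of points of a prime spectrum. -/
theorem exists_mem_forall_notMem {A : Type u} [CommRing A] (I : Ideal A)
    (T : Set (PrimeSpectrum A)) (hT : T.Finite) (hTI : ∀ p ∈ T, ¬ I ≤ p.asIdeal) :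
    ∃ f ∈ I, ∀ p ∈ T, f ∉ p.asIdeal := by
  classical
  by_contra hcon
  push Not at hcon
  have hsub : (I : Set A) ⊆ ⋃ p ∈ (↑hT.toFinset : Set (PrimeSpectrum A)),
      (p.asIdeal : Set A) := by
    intro f hf
    obtain ⟨p, hp, hfp⟩ := hcon f hf
    simp only [Set.mem_iUnion]
    exact ⟨p, by simpa using hp, hfp⟩
  by_cases hTe : hT.toFinset = ∅
  · rw [hTe] at hsub
    simp only [Finset.coe_empty, Set.mem_empty_iff_false, Set.iUnion_of_empty,
      Set.iUnion_empty] at hsub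
    exact (hsub I.zero_mem).elim
  · obtain ⟨a, ha⟩ := Finset.nonempty_iff_ne_empty.mpr hTe
    obtain ⟨p, hp, hle⟩ := (Ideal.subset_union_prime (s := hT.toFinset)
      (f := fun p : PrimeSpectrum A => p.asIdeal) a a
      (fun p _ _ _ => p.isPrime)).mp hsub
    exact hTI p (by simpa using hp) hle

theorem primeAvoidStmt : Groth.Agent.R2.H96.GrpdFitt2Spec.PrimeAvoidStmt.{u} := by
  intro U A _ j _ I hjI hcl V O hO hOV
  -- `V = j⁻¹ Ω`
  obtain ⟨Ω, hΩ, hΩV⟩ := j.isEmbedding.isInducing.isOpen_iff.mp V.isOpen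
  have hmemV : ∀ u : U, u ∈ V ↔ j u ∈ Ω := by
    intro u
    have : u ∈ (V : Set U) ↔ u ∈ j ⁻¹' Ω := by rw [hΩV]
    exact this
  let Z : Set (PrimeSpectrum A) := PrimeSpectrum.zeroLocus (I : Set A) ∪
    ((PrimeSpectrum.zeroLocus (I : Set A) ∪ Set.range j) ∩ Ωᶜ)
  have hZ : IsClosed Z :=
    (PrimeSpectrum.isClosed_zeroLocus _).union (hcl.inter hΩ.isClosed_compl)
  let I' : Ideal A := PrimeSpectrum.vanishingIdeal Z
  have hZI : PrimeSpectrum.zeroLocus (I' : Set A) = Z := by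
    rw [PrimeSpectrum.zeroLocus_vanishingIdeal_eq_closure, hZ.closure_eq]
  have hI'rad : I' ≤ I.radical := by
    rw [← PrimeSpectrum.vanishingIdeal_zeroLocus_eq_radical]
    exact PrimeSpectrum.vanishingIdeal_anti_mono Set.subset_union_left
  -- the points `j o`
  let T : Set (PrimeSpectrum A) := j '' O
  have hT : T.Finite := hO.image _
  have hTI : ∀ p ∈ T, ¬ I' ≤ p.asIdeal := by
    rintro _ ⟨o, ho, rfl⟩ hle
    have h1 : j o ∈ PrimeSpectrum.zeroLocus (I' : Set A) := hle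
    rw [hZI] at h1
    rcases h1 with h1 | ⟨_, h1⟩
    · exact hjI o h1
    · exact h1 ((hmemV o).mp (hOV ho))
  obtain ⟨h', hh'I', hh'T⟩ := exists_mem_forall_notMem I' T hT hTI
  obtain ⟨n, hn⟩ := hI'rad hh'I'
  have hn1 : h' ^ (n + 1) ∈ I := by
    rw [pow_succ]
    exact I.mul_mem_right _ hn
  refine ⟨h' ^ (n + 1), hn1, ?_, ?_⟩
  · intro o ho
    change h' ^ (n + 1) ∉ (j o).asIdeal
    intro hmem
    exact hh'T (j o) ⟨o, ho, rfl⟩ ((j o).isPrime.mem_of_pow_mem (n + 1) hmem)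
  · intro u hu
    have hu' : h' ^ (n + 1) ∉ (j u).asIdeal := hu
    have hu'' : h' ∉ (j u).asIdeal :=
      fun hmem => hu' (Ideal.pow_mem_of_mem _ hmem (n + 1) (Nat.succ_pos n))
    have hjuZ : j u ∉ Z := by
      rw [← hZI]
      intro hmem
      exact hu'' (hmem hh'I')
    rw [hmemV]
    by_contra hΩu
    exact hjuZ (Or.inr ⟨Or.inr ⟨u, rfl⟩, hΩu⟩)

end Groth.Agent.R2.H66.GrpdFitt2PrimeAvoid
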