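import Mathlib
import Groth.Agent.R2.H96GrpdFitt2Spec

/-!
# helper94: PROJ:grpd-fitt round 2, package [NORMLIFT]

For a finite locally free groupoid, `j : U ⟶ Spec A`, `h₀ : A` with `j⁻¹ D(h₀)` affine and
`Γ(Spec A, D(h₀)) → Γ(U, j⁻¹ D(h₀))` surjective, the largest invariant subset of `j⁻¹ D(h₀)` is
`j⁻¹ D(a h₀)` for some `a : A`.
-/

set_option autoImplicit false
universe u

open CategoryTheory CategoryTheory.Limits AlgebraicGeometry TopologicalSpace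
open Groth.Agent.R2.H33.GrpdInvOpen

namespace Groth.Agent.R2.H94.GrpdFitt2NormLift

/-- Scheme-level form: `Y` affine, `g₀` a global function on `Y`. -/
theorem normLift_affine {S : Scheme.{u}} (G : Grpd.GroupoidScheme S) [IsFinite G.s] [Flat G.s]
    [LocallyOfFinitePresentation G.s] {Y : Scheme.{u}} [IsAffine Y] (j : G.U ⟶ Y) (g₀ : Γ(Y, ⊤))
    (hV₁ : IsAffineOpen (j ⁻¹ᵁ Y.basicOpen g₀))
    (hsurj : Function.Surjective (j.app (Y.basicOpen g₀)).hom) :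
    ∃ b : Γ(Y, ⊤), ((j ⁻¹ᵁ Y.basicOpen (b * g₀) : G.U.Opens) : Set G.U) =
      sat G ((j ⁻¹ᵁ Y.basicOpen g₀ : G.U.Opens) : Set G.U) := by
  let W₀ : Y.Opens := Y.basicOpen g₀
  let V₁ : G.U.Opens := j ⁻¹ᵁ W₀
  -- the function on `s⁻¹ V₁` with non-vanishing locus `s⁻¹ V₁ ⊓ t⁻¹ V₁`
  let φ : Γ(G.R, ⊤) := (G.t ≫ j).appTop g₀
  let h : Γ(G.R, G.s ⁻¹ᵁ V₁) := G.R.presheaf.map (homOfLE (le_top : G.s ⁻¹ᵁ V₁ ≤ ⊤)).op φ
  have hbh : G.R.basicOpen h = G.s ⁻¹ᵁ V₁ ⊓ G.t ⁻¹ᵁ V₁ := by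
    rw [Scheme.basicOpen_res, ← Scheme.preimage_basicOpen_top, Scheme.Hom.comp_preimage]
  obtain ⟨N, hN⟩ := exists_norm_open G.s hV₁ h
  have hWV₁ : G.U.basicOpen N ≤ V₁ := G.U.basicOpen_le N
  have hWsat : (G.U.basicOpen N : Set G.U) = sat G (V₁ : Set G.U) := by
    ext x
    constructor
    · intro hx r hr
      have h1 := (hN x (hWV₁ hx)).mp hx r hr
      rw [hbh] at h1
      exact h1.2
    · intro hx
      have hxV₁ : x ∈ V₁ := sat_subset G _ hx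
      rw [SetLike.mem_coe, hN x hxV₁]
      intro r hr
      rw [hbh]
      refine ⟨?_, hx r hr⟩
      change G.s r ∈ V₁
      rw [hr]
      exact hxV₁
  -- lift the norm
  obtain ⟨ν, hν⟩ := hsurj N
  obtain ⟨⟨b, ⟨_, k, rfl⟩⟩, hb⟩ := IsLocalization.surj (Submonoid.powers g₀) ν
  refine ⟨b, ?_⟩
  rw [← hWsat]
  congr 1
  have hunit : IsUnit ((j.app W₀).hom (algebraMap Γ(Y, ⊤) Γ(Y, W₀) (g₀ ^ k))) := by
    apply IsUnit.map
    rw [map_pow]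
    exact (IsLocalization.Away.algebraMap_isUnit g₀).pow k
  have hb' : N * (j.app W₀).hom (algebraMap Γ(Y, ⊤) Γ(Y, W₀) (g₀ ^ k)) =
      (j.app W₀).hom (algebraMap Γ(Y, ⊤) Γ(Y, W₀) b) := by
    rw [← hν, ← map_mul]
    exact congrArg _ hb
  have h1 : Y.basicOpen (algebraMap Γ(Y, ⊤) Γ(Y, W₀) b) = W₀ ⊓ Y.basicOpen b :=
    Scheme.basicOpen_res _ _ _
  calc j ⁻¹ᵁ Y.basicOpen (b * g₀)
      = j ⁻¹ᵁ Y.basicOpen (algebraMap Γ(Y, ⊤) Γ(Y, W₀) b) := by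
        rw [h1, Scheme.basicOpen_mul, inf_comm]
    _ = G.U.basicOpen ((j.app W₀).hom (algebraMap Γ(Y, ⊤) Γ(Y, W₀) b)) :=
        Scheme.preimage_basicOpen j _
    _ = G.U.basicOpen N ⊓ V₁ := by
        rw [← hb', Scheme.basicOpen_mul, Scheme.basicOpen_of_isUnit _ hunit]
    _ = G.U.basicOpen N := inf_eq_left.mpr hWV₁

theorem normLiftStmt : Groth.Agent.R2.H96.GrpdFitt2Spec.NormLiftStmt.{u} := by
  intro S G _ _ _ A _ j h₀ hV₁ hsurj
  rw [← basicOpen_eq_of_affine (R := CommRingCat.of A) h₀] at hV₁ hsurj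
  obtain ⟨b, hb⟩ := normLift_affine G j _ hV₁ hsurj
  refine ⟨(Scheme.ΓSpecIso (CommRingCat.of A)).hom b, ?_⟩
  rw [← basicOpen_eq_of_affine (R := CommRingCat.of A) h₀,
    ← basicOpen_eq_of_affine (R := CommRingCat.of A), map_mul]
  have h2 : (Scheme.ΓSpecIso (CommRingCat.of A)).inv
      ((Scheme.ΓSpecIso (CommRingCat.of A)).hom b) = b := by
    simp
  rw [h2]
  exact hb

end Groth.Agent.R2.H94.GrpdFitt2NormLift
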