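import Mathlib
import Groth.Agent.R2.H96GrpdFitt2Spec

/-!
# PROJ:grpd-fitt round 2 — package [INVFIN] (helper86)

Finite-family version of `R2/H33GrpdInvOpen.exists_invariant_affine_open`.
-/

set_option autoImplicit false
universe u

open CategoryTheory CategoryTheory.Limits AlgebraicGeometry TopologicalSpace
open Groth.Agent.R2.H33.GrpdInvOpen

namespace Groth.Agent.R2.H86.GrpdFitt2InvFin

theorem invFinStmt : Groth.Agent.R2.H96.GrpdFitt2Spec.InvFinStmt.{u} := by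
  intro S G _ _ _ O₀ hO₀ V hV huV
  -- the largest invariant open inside `V`
  let W' : G.U.Opens := ⟨sat G (V : Set G.U), sat_isOpen G _ V.isOpen⟩
  have hW'V : W' ≤ V := sat_subset G _
  -- the union of the orbits
  let O : Set G.U := G.t '' (G.s ⁻¹' O₀)
  have hO : O.Finite :=
    (hO₀.preimage' (fun u _ => G.s.finite_preimage_singleton u)).image _
  have hOW' : O ⊆ W' := by
    rintro _ ⟨r, hr, rfl⟩
    exact orbit_subset_sat G _ (G.s r) (huV _ hr) r rfl
  obtain ⟨f, hOf, hfW'⟩ := exists_basicOpen_of_finite hV W' O hO hOW' (hOW'.trans hW'V)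
  let V₁ : G.U.Opens := G.U.basicOpen f
  have hV₁ : IsAffineOpen V₁ := hV.basicOpen f
  have hle : G.s ⁻¹ᵁ V₁ ≤ G.t ⁻¹ᵁ V := by
    intro r hr
    have h1 : G.s r ∈ W' := hfW' hr
    exact h1 r rfl
  let h : Γ(G.R, G.s ⁻¹ᵁ V₁) := G.t.appLE V (G.s ⁻¹ᵁ V₁) hle f
  have hbh : G.R.basicOpen h = G.s ⁻¹ᵁ V₁ ⊓ G.t ⁻¹ᵁ V₁ := Scheme.basicOpen_appLE _ _ _ _ _
  obtain ⟨N, hN⟩ := exists_norm_open G.s hV₁ h
  have hWV₁ : G.U.basicOpen N ≤ V₁ := G.U.basicOpen_le N
  -- `D(N)` is the largest invariant subset of `V₁`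
  have hWsat : (G.U.basicOpen N : Set G.U) = sat G (V₁ : Set G.U) := by
    ext x
    constructor
    · intro hx r hr
      have h1 := (hN x (hWV₁ hx)).mp hx r hr
      rw [hbh] at h1
      exact h1.2
    · intro hx
      have hxV₁ : x ∈ V₁ := sat_subset G _ hx
      rw [SetLike.mem_coe, hN x hxV₁]
      intro r hr
      rw [hbh]
      refine ⟨?_, hx r hr⟩
      change G.s r ∈ V₁
      rw [hr]
      exact hxV₁
  refine ⟨G.U.basicOpen N, hV₁.basicOpen N, hWV₁.trans (G.U.basicOpen_le f), ?_, ?_⟩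
  · intro u hu
    rw [hWsat]
    intro r hr
    exact hOf ⟨r, by rw [Set.mem_preimage, hr]; exact hu, rfl⟩
  · apply TopologicalSpace.Opens.ext
    change G.s ⁻¹' (G.U.basicOpen N : Set G.U) = G.t ⁻¹' (G.U.basicOpen N : Set G.U)
    rw [hWsat]
    exact sat_invariant G _

end Groth.Agent.R2.H86.GrpdFitt2InvFin
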