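import Mathlib
import Groth.Prelude.Def_Grpd
import Groth.Prelude.Def_Mor2
import Groth.Agent.R2.H53GrpdRestr
import Groth.Agent.R2.H53GrpdBasic
import Groth.Agent.R2.H33GrpdInvOpen
import Groth.Agent.Lib.Helper22ThickAffine

/-!
# Restriction of a groupoid scheme to an invariant thickening-closed subscheme (helper96)

Part A (`ι : U' ⟶ G.U` a monomorphism, `φ : s⁻¹ U' ≅ t⁻¹ U'` over `R`): the restricted groupoid
`restr G ι φ hφ` on `(U', pullback G.s ι)`, transfer of invariant subsets.

Part B (`W ⊆ U` open, `J` an ideal sheaf on `W` with full support, `ι' = J.subschemeι ≫ W.ι`):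
transfer of opens `img`, affineness through the thickening, restriction `J.comap (homOfLE)` to a
smaller invariant open.
-/

set_option autoImplicit false
set_option linter.style.haveILetI false
set_option linter.unusedSectionVars false
universe u

open CategoryTheory CategoryTheory.Limits AlgebraicGeometry TopologicalSpace
open Groth.Agent.R2.H53.GrpdRestr

namespace Groth.Agent.R2.H96.GrpdThick

section PartA

variable {S : Scheme.{u}} (G : Grpd.GroupoidScheme S) {U' : Scheme.{u}} (ι : U' ⟶ G.U) [Mono ι]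

/-- two mutually inverse-over-`R` factorisations give the invariance isomorphism. -/
theorem exists_iso_of_factor (k : pullback G.s ι ⟶ U') (hk : k ≫ ι = pullback.fst G.s ι ≫ G.t)
    (k' : pullback G.t ι ⟶ U') (hk' : k' ≫ ι = pullback.fst G.t ι ≫ G.s) :
    ∃ φ : pullback G.s ι ≅ pullback G.t ι,
      φ.hom ≫ pullback.fst G.t ι = pullback.fst G.s ι := by
  refine ⟨⟨pullback.lift (pullback.fst G.s ι) k hk.symm,
    pullback.lift (pullback.fst G.t ι) k' hk'.symm, ?_, ?_⟩, ?_⟩
  · rw [← cancel_mono (pullback.fst G.s ι), Category.assoc, pullback.lift_fst,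
      pullback.lift_fst, Category.id_comp]
  · rw [← cancel_mono (pullback.fst G.t ι), Category.assoc, pullback.lift_fst,
      pullback.lift_fst, Category.id_comp]
  · exact pullback.lift_fst _ _ _

variable (φ : pullback G.s ι ≅ pullback G.t ι)
  (hφ : φ.hom ≫ pullback.fst G.t ι = pullback.fst G.s ι)

/-- the restricted target map. -/
noncomputable def t' : pullback G.s ι ⟶ U' := φ.hom ≫ pullback.snd G.t ι

include hφ in
theorem t'_ι : t' G ι φ ≫ ι = pullback.fst G.s ι ≫ G.t := by
  unfold t'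
  rw [Category.assoc, ← pullback.condition, ← Category.assoc, hφ]

/-- the restriction data. -/
noncomputable def restrData : RestrData₂ G ι (pullback.fst G.s ι) where
  s' := pullback.snd G.s ι
  t' := t' G ι φ
  hs := pullback.condition.symm
  ht := t'_ι G ι φ hφ
  e' := pullback.lift (ι ≫ G.e) (𝟙 U')
    (by rw [Category.assoc, G.e_s, Category.comp_id, Category.id_comp])
  he := pullback.lift_fst _ _ _
  i' := pullback.lift (pullback.fst G.s ι ≫ G.i) (t' G ι φ)
    (by rw [Category.assoc, G.i_s, t'_ι G ι φ hφ])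
  hi := pullback.lift_fst _ _ _
  c' := pullback.lift
    (pullback.map (pullback.snd G.s ι) (t' G ι φ) G.s G.t (pullback.fst G.s ι)
      (pullback.fst G.s ι) ι pullback.condition.symm (t'_ι G ι φ hφ) ≫ G.c)
    (pullback.snd (pullback.snd G.s ι) (t' G ι φ) ≫ pullback.snd G.s ι)
    (by
      rw [Category.assoc, c_s_univ, ← Category.assoc, pullback.lift_snd, Category.assoc,
        Category.assoc, pullback.condition])
  hc := pullback.lift_fst _ _ _

/-- the restricted groupoid scheme. -/
noncomputable def restr : Grpd.GroupoidScheme S := restrict₂ (restrData G ι φ hφ)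

theorem restr_s : (restr G ι φ hφ).s = pullback.snd G.s ι := rfl
theorem restr_t : (restr G ι φ hφ).t = t' G ι φ := rfl

include hφ in
theorem ι_t'_pt (r' : ↥(pullback G.s ι)) : ι (t' G ι φ r') = G.t (pullback.fst G.s ι r') := by
  have := congrArg (fun ψ : pullback G.s ι ⟶ G.U => ψ r') (t'_ι G ι φ hφ)
  simpa only [Scheme.Hom.comp_apply] using this

theorem ι_snd_pt (r' : ↥(pullback G.s ι)) :
    ι (pullback.snd G.s ι r') = G.s (pullback.fst G.s ι r') := by
  have := congrArg (fun ψ : pullback G.s ι ⟶ G.U => ψ r') (pullback.condition (f := G.s) (g := ι))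
  simpa only [Scheme.Hom.comp_apply] using this.symm

include hφ in
/-- the image of an invariant subset of the restricted groupoid is invariant. -/
theorem image_invariant (A : Set U')
    (hA : (pullback.snd G.s ι) ⁻¹' A = (t' G ι φ) ⁻¹' A) :
    G.s ⁻¹' (ι '' A) = G.t ⁻¹' (ι '' A) := by
  have key : ∀ r : G.R, G.s r ∈ ι '' A → G.t r ∈ ι '' A := by
    rintro r ⟨a, ha, har⟩
    obtain ⟨r', hr1, hr2⟩ := Scheme.Pullback.exists_preimage_pullback (f := G.s) (g := ι) r a har.symm
    have h1 : r' ∈ (pullback.snd G.s ι) ⁻¹' A := by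
      show pullback.snd G.s ι r' ∈ A
      rw [hr2]; exact ha
    rw [hA] at h1
    refine ⟨t' G ι φ r', h1, ?_⟩
    rw [ι_t'_pt G ι φ hφ, hr1]
  ext r
  constructor
  · exact key r
  · intro h
    have h2 : G.s (G.i r) ∈ ι '' A := by
      rw [Groth.Agent.R2.H33.GrpdInvOpen.s_i_pt]; exact h
    have h3 := key _ h2
    rwa [Groth.Agent.R2.H33.GrpdInvOpen.t_i_pt] at h3

include hφ in
/-- the preimage of an invariant subset is invariant for the restricted groupoid. -/
theorem preimage_invariant (B : Set G.U) (hB : G.s ⁻¹' B = G.t ⁻¹' B) :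
    (pullback.snd G.s ι) ⁻¹' (ι ⁻¹' B) = (t' G ι φ) ⁻¹' (ι ⁻¹' B) := by
  ext r'
  simp only [Set.mem_preimage]
  rw [ι_snd_pt, ι_t'_pt G ι φ hφ]
  have : (pullback.fst G.s ι r') ∈ G.s ⁻¹' B ↔ (pullback.fst G.s ι r') ∈ G.t ⁻¹' B := by rw [hB]
  exact this

include hφ in
/-- orbits of the restricted groupoid map into orbits. -/
theorem orbit_restr (u' : U') (r' : ↥(pullback G.s ι)) (hr' : pullback.snd G.s ι r' = u') :
    ∃ r : G.R, G.s r = ι u' ∧ G.t r = ι (t' G ι φ r') :=
  ⟨pullback.fst G.s ι r', by rw [← ι_snd_pt, hr'], (ι_t'_pt G ι φ hφ r').symm⟩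

end PartA

section General

theorem isFinLocFree_pullback_snd_comp {X Y T T' : Scheme.{u}} (f : X ⟶ Y) (h : T ⟶ Y) (a : T' ⟶ T)
    (H : Mor2.IsFinLocFree (pullback.snd f h)) : Mor2.IsFinLocFree (pullback.snd f (a ≫ h)) := by
  obtain ⟨h1, h2, h3⟩ := H
  rw [← pullbackLeftPullbackSndIso_inv_snd_snd]
  exact ⟨inferInstance, inferInstance, inferInstance⟩

end General

section PartB

variable {S : Scheme.{u}} (G : Grpd.GroupoidScheme S) (W : G.U.Opens)
  (J : (↑W : Scheme.{u}).IdealSheafData)

/-- the inclusion of the thickening-closed subscheme. -/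
noncomputable abbrev ι' : J.subscheme ⟶ G.U := J.subschemeι ≫ W.ι

theorem ι'_mem (x : J.subscheme) : ι' G W J x ∈ W := by
  rw [Scheme.Hom.comp_apply]
  exact (J.subschemeι x).2

theorem ι'_injective : Function.Injective (ι' G W J) := by
  intro x y h
  rw [Scheme.Hom.comp_apply, Scheme.Hom.comp_apply] at h
  exact J.subschemeι.isEmbedding.injective (W.ι.isEmbedding.injective h)

variable (hJ : J.support = ⊤)
include hJ

theorem surjective_subschemeι : Function.Surjective J.subschemeι := by
  rw [← Set.range_eq_univ, Scheme.IdealSheafData.range_subschemeι, hJ]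
  rfl

theorem isOpenEmbedding_ι' : Topology.IsOpenEmbedding (ι' G W J) := by
  have h1 : IsHomeomorph J.subschemeι :=
    Groth.Agent.Lib.Helper22.ThickAffine.isHomeomorph_of_surjective _ (surjective_subschemeι G W J hJ)
  have h2 := W.ι.isOpenEmbedding
  have e : ⇑(ι' G W J) = ⇑W.ι ∘ ⇑J.subschemeι := by
    funext x
    exact Scheme.Hom.comp_apply _ _ _
  rw [e]
  exact h2.comp h1.homeomorph.isOpenEmbedding

theorem exists_ι'_eq (w : G.U) (hw : w ∈ W) : ∃ x : J.subscheme, ι' G W J x = w := by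
  obtain ⟨x, hx⟩ := surjective_subschemeι G W J hJ ⟨w, hw⟩
  refine ⟨x, ?_⟩
  rw [Scheme.Hom.comp_apply, hx]
  rfl

/-- the open of `U` corresponding to an open of the thickening-closed subscheme. -/
def img (V₀ : J.subscheme.Opens) : G.U.Opens :=
  ⟨ι' G W J '' (V₀ : Set J.subscheme), (isOpenEmbedding_ι' G W J hJ).isOpenMap _ V₀.2⟩

theorem mem_img {V₀ : J.subscheme.Opens} {x : J.subscheme} :
    ι' G W J x ∈ img G W J hJ V₀ ↔ x ∈ V₀ := by
  constructor
  · rintro ⟨y, hy, hyx⟩
    rwa [← ι'_injective G W J hyx]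
  · intro hx
    exact ⟨x, hx, rfl⟩

theorem img_le (V₀ : J.subscheme.Opens) : img G W J hJ V₀ ≤ W := by
  rintro _ ⟨x, -, rfl⟩
  exact ι'_mem G W J x

/-- affineness passes through the thickening. -/
theorem isAffineOpen_img (V₀ : J.subscheme.Opens) (hV₀ : IsAffineOpen V₀) :
    IsAffineOpen (img G W J hJ V₀) := by
  set V := img G W J hJ V₀ with hV
  have hr : Set.range (V₀.ι ≫ ι' G W J) ⊆ Set.range V.ι := by
    rw [Scheme.Opens.range_ι]
    rintro _ ⟨x, rfl⟩
    rw [Scheme.Hom.comp_apply]
    exact ⟨_, x.2, rfl⟩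
  let t : (↑V₀ : Scheme.{u}) ⟶ ↑V := IsOpenImmersion.lift V.ι (V₀.ι ≫ ι' G W J) hr
  have ht : t ≫ V.ι = V₀.ι ≫ ι' G W J := IsOpenImmersion.lift_fac _ _ _
  haveI : IsImmersion (t ≫ V.ι) := by rw [ht]; infer_instance
  haveI : IsImmersion t := IsImmersion.of_comp t V.ι
  have hsurj : Function.Surjective t := by
    intro y
    obtain ⟨x, hx, hxy⟩ := y.2
    refine ⟨⟨x, hx⟩, ?_⟩
    apply V.ι.isEmbedding.injective
    rw [← Scheme.Hom.comp_apply, ht, Scheme.Hom.comp_apply]
    exact hxy
  haveI : IsClosedImmersion t :=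
    IsClosedImmersion.of_isPreimmersion t (by rw [Set.range_eq_univ.2 hsurj]; exact isClosed_univ)
  haveI : IsAffine (↑V₀ : Scheme.{u}) := hV₀
  exact Groth.Agent.Lib.Helper22.ThickAffine.isAffine_of_thickening t hsurj

theorem quasiSeparatedSpace_subscheme [QuasiSeparatedSpace G.U] :
    QuasiSeparatedSpace J.subscheme :=
  (isOpenEmbedding_ι' G W J hJ).quasiSeparatedSpace

omit hJ in
/-- points without proper generizations. -/
theorem generic_of_ι' (x : J.subscheme) (hx : ∀ y : G.U, y ⤳ ι' G W J x → y = ι' G W J x)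
    (y : J.subscheme) (hy : y ⤳ x) : y = x :=
  ι'_injective G W J (hx _ (hy.map (ι' G W J).continuous))

end PartB

section Restrict

variable {S : Scheme.{u}} (G : Grpd.GroupoidScheme S) (W : G.U.Opens)
  (J : (↑W : Scheme.{u}).IdealSheafData) (V : G.U.Opens) (hVW : V ≤ W)

/-- the restriction of the ideal sheaf to a smaller open. -/
noncomputable abbrev JV : (↑V : Scheme.{u}).IdealSheafData := J.comap (G.U.homOfLE hVW)

/-- the open immersion of the restricted subscheme. -/
noncomputable def a : (JV G W J V hVW).subscheme ⟶ J.subscheme :=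
  (J.comapIso (G.U.homOfLE hVW)).hom ≫ pullback.snd _ _

instance : IsOpenImmersion (a G W J V hVW) := by
  unfold a
  infer_instance

theorem a_subschemeι :
    a G W J V hVW ≫ J.subschemeι = (JV G W J V hVW).subschemeι ≫ G.U.homOfLE hVW := by
  unfold a
  rw [Category.assoc, ← pullback.condition, ← Category.assoc,
    Scheme.IdealSheafData.comapIso_hom_fst]

theorem a_ι' : a G W J V hVW ≫ ι' G W J = ι' G V (JV G W J V hVW) := by
  rw [← Category.assoc, a_subschemeι, Category.assoc, Scheme.homOfLE_ι]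

theorem range_a : Set.range (a G W J V hVW) = (ι' G W J) ⁻¹' (V : Set G.U) := by
  ext x
  constructor
  · rintro ⟨y, rfl⟩
    show ι' G W J (a G W J V hVW y) ∈ V
    rw [← Scheme.Hom.comp_apply, a_ι']
    exact ι'_mem G V _ y
  · intro hx
    have hx' : W.ι (J.subschemeι x) ∈ V := by
      have : ι' G W J x ∈ V := hx
      rwa [Scheme.Hom.comp_apply] at this
    have h1 : J.subschemeι x ∈ Set.range (G.U.homOfLE hVW) := by
      refine ⟨⟨_, hx'⟩, ?_⟩
      apply W.ι.isEmbedding.injective
      rw [← Scheme.Hom.comp_apply, Scheme.homOfLE_ι]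
      rfl
    have h2 : x ∈ Set.range (pullback.snd (G.U.homOfLE hVW) J.subschemeι) := by
      rw [Scheme.Pullback.range_snd]
      exact h1
    obtain ⟨z, hz⟩ := h2
    refine ⟨(J.comapIso (G.U.homOfLE hVW)).inv z, ?_⟩
    unfold a
    rw [← Scheme.Hom.comp_apply, Iso.inv_hom_id_assoc]
    exact hz

theorem support_JV (hJ : J.support = ⊤) : (JV G W J V hVW).support = ⊤ := by
  rw [Scheme.IdealSheafData.support_comap, hJ]
  rfl

theorem lfp_JV [LocallyOfFinitePresentation J.subschemeι] :
    LocallyOfFinitePresentation (JV G W J V hVW).subschemeι := by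
  rw [← Scheme.IdealSheafData.comapIso_hom_fst]
  infer_instance

/-- lifting through the open immersion `a`. -/
theorem exists_lift_a {T : Scheme.{u}} (q : T ⟶ J.subscheme) (hq : ∀ z, ι' G W J (q z) ∈ V) :
    ∃ k : T ⟶ (JV G W J V hVW).subscheme, k ≫ a G W J V hVW = q := by
  have hr : Set.range q ⊆ Set.range (a G W J V hVW) := by
    rw [range_a]
    rintro _ ⟨z, rfl⟩
    exact hq z
  exact ⟨IsOpenImmersion.lift (a G W J V hVW) q hr, IsOpenImmersion.lift_fac _ _ _⟩

variable (φ : pullback G.s (ι' G W J) ≅ pullback G.t (ι' G W J))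
  (hφ : φ.hom ≫ pullback.fst G.t (ι' G W J) = pullback.fst G.s (ι' G W J))
  (hV : G.s ⁻¹ᵁ V = G.t ⁻¹ᵁ V)

include hφ hV in
/-- invariance of the restricted thickening-closed subscheme. -/
theorem exists_iso_restrict :
    ∃ φV : pullback G.s (ι' G V (JV G W J V hVW)) ≅ pullback G.t (ι' G V (JV G W J V hVW)),
      φV.hom ≫ pullback.fst G.t (ι' G V (JV G W J V hVW)) =
        pullback.fst G.s (ι' G V (JV G W J V hVW)) := by
  have hs_iff : ∀ r : G.R, G.s r ∈ V ↔ G.t r ∈ V := fun r => by
    have : r ∈ G.s ⁻¹ᵁ V ↔ r ∈ G.t ⁻¹ᵁ V := by rw [hV]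
    exact this
  have hφ' : φ.inv ≫ pullback.fst G.s (ι' G W J) = pullback.fst G.t (ι' G W J) := by
    rw [← hφ, Iso.inv_hom_id_assoc]
  -- the maps to the big pullbacks
  let m : pullback G.s (ι' G V (JV G W J V hVW)) ⟶ pullback G.s (ι' G W J) :=
    pullback.lift (pullback.fst _ _) (pullback.snd _ _ ≫ a G W J V hVW)
      (by rw [Category.assoc, a_ι', pullback.condition])
  let m' : pullback G.t (ι' G V (JV G W J V hVW)) ⟶ pullback G.t (ι' G W J) :=
    pullback.lift (pullback.fst _ _) (pullback.snd _ _ ≫ a G W J V hVW)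
      (by rw [Category.assoc, a_ι', pullback.condition])
  have e1 : (m ≫ φ.hom ≫ pullback.snd G.t (ι' G W J)) ≫ ι' G W J =
      pullback.fst G.s (ι' G V (JV G W J V hVW)) ≫ G.t := by
    rw [Category.assoc, Category.assoc, ← pullback.condition, ← Category.assoc φ.hom, hφ,
      pullback.lift_fst_assoc]
  have e2 : (m' ≫ φ.inv ≫ pullback.snd G.s (ι' G W J)) ≫ ι' G W J =
      pullback.fst G.t (ι' G V (JV G W J V hVW)) ≫ G.s := by
    rw [Category.assoc, Category.assoc, ← pullback.condition, ← Category.assoc φ.inv, hφ',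
      pullback.lift_fst_assoc]
  obtain ⟨k, hk⟩ := exists_lift_a G W J V hVW (m ≫ φ.hom ≫ pullback.snd G.t (ι' G W J))
    (fun z => by
      rw [← Scheme.Hom.comp_apply, e1, Scheme.Hom.comp_apply, ← hs_iff]
      have := congrArg (fun ψ : pullback G.s (ι' G V (JV G W J V hVW)) ⟶ G.U => ψ z)
        (pullback.condition (f := G.s) (g := ι' G V (JV G W J V hVW)))
      simp only [Scheme.Hom.comp_apply] at this
      rw [this]
      exact ι'_mem G V _ _)
  obtain ⟨k', hk'⟩ := exists_lift_a G W J V hVW (m' ≫ φ.inv ≫ pullback.snd G.s (ι' G W J))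
    (fun z => by
      rw [← Scheme.Hom.comp_apply, e2, Scheme.Hom.comp_apply, hs_iff]
      have := congrArg (fun ψ : pullback G.t (ι' G V (JV G W J V hVW)) ⟶ G.U => ψ z)
        (pullback.condition (f := G.t) (g := ι' G V (JV G W J V hVW)))
      simp only [Scheme.Hom.comp_apply] at this
      rw [this]
      exact ι'_mem G V _ _)
  refine exists_iso_of_factor G _ k ?_ k' ?_
  · have : k ≫ ι' G V (JV G W J V hVW) = (k ≫ a G W J V hVW) ≫ ι' G W J := by
      rw [Category.assoc, a_ι']
    rw [this, hk, e1]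
  · have : k' ≫ ι' G V (JV G W J V hVW) = (k' ≫ a G W J V hVW) ≫ ι' G W J := by
      rw [Category.assoc, a_ι']
    rw [this, hk', e2]

theorem isFinLocFree_restrict_s (H : Mor2.IsFinLocFree (pullback.snd G.s (ι' G W J))) :
    Mor2.IsFinLocFree (pullback.snd G.s (ι' G V (JV G W J V hVW))) := by
  rw [← a_ι']
  exact isFinLocFree_pullback_snd_comp _ _ _ H

theorem isFinLocFree_restrict_t (H : Mor2.IsFinLocFree (pullback.snd G.t (ι' G W J))) :
    Mor2.IsFinLocFree (pullback.snd G.t (ι' G V (JV G W J V hVW))) := by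
  rw [← a_ι']
  exact isFinLocFree_pullback_snd_comp _ _ _ H

end Restrict

end Groth.Agent.R2.H96.GrpdThick
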