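import Mathlib
import Groth.Agent.R2.H96GrpdFittSpec

/-!
# PROJ:grpd-fitt — package [LFP] (helper86)

The closed immersion of a locally finitely generated ideal sheaf is locally of finite presentation.
-/

set_option autoImplicit false
universe u

open CategoryTheory CategoryTheory.Limits AlgebraicGeometry TopologicalSpace

namespace Groth.Agent.R2.H86.GrpdFittLfp

theorem lfpStmt : Groth.Agent.R2.H96.GrpdFittSpec.LfpStmt.{u} := by
  intro X J hJ
  rw [HasRingHomProperty.iff_exists_appLE (P := @LocallyOfFinitePresentation)
    ((RingHom.finitePresentation_stableUnderComposition.stableUnderCompositionWithLocalizationAway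
      RingHom.finitePresentation_holdsForLocalizationAway).left)]
  intro z
  obtain ⟨V, hxV, hfg⟩ := hJ (J.subschemeι z)
  refine ⟨V, ⟨J.subschemeι ⁻¹ᵁ V.1, V.2.preimage J.subschemeι⟩, hxV, le_rfl, ?_⟩
  rw [Scheme.Hom.appLE_eq_app]
  refine RingHom.FinitePresentation.of_surjective _ (J.subschemeι_app_surjective V) ?_
  rw [Scheme.IdealSheafData.ker_subschemeι_app]
  exact hfg

end Groth.Agent.R2.H86.GrpdFittLfp
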