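import Mathlib
import Groth.Agent.R2.H96GrpdFittSpec
import Groth.Agent.R2.H33GrpdInvOpen
import Groth.Agent.R2.H53GrpdBasic

/-!
# PROJ:grpd-fitt — assembly (helper96)
-/

set_option autoImplicit false
set_option linter.style.haveILetI false
set_option linter.unusedSectionVars false
universe u

open CategoryTheory CategoryTheory.Limits AlgebraicGeometry TopologicalSpace
open Groth.Agent.R2.H96.FittMor Groth.Agent.R2.H96.GrpdFitt Groth.Agent.R2.H96.GrpdFittSpec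

namespace Groth.Agent.R2.H96.GrpdFittAsm

section Fact

variable {U : Scheme.{u}} (W : U.Opens) (Wn : ℕ → U.Opens) (K : ℕ → U.IdealSheafData)
  (J : (↑W : Scheme.{u}).IdealSheafData)

/-- `h` lands in `W` and pulls `K n` back to `0` over `h⁻¹ (Wn n)`. -/
def Good {T : Scheme.{u}} (h : T ⟶ U) : Prop :=
  (∀ x, h x ∈ W) ∧ ∀ n (O' : T.Opens), O' ≤ h ⁻¹ᵁ Wn n → (K n).comap (O'.ι ≫ h) = ⊥

variable (hJ : ∀ n, J.comap (W.ι ⁻¹ᵁ Wn n).ι = (K n).comap ((W.ι ⁻¹ᵁ Wn n).ι ≫ W.ι))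
include hJ

theorem good_of_factor {T : Scheme.{u}} (k : T ⟶ J.subscheme) :
    Good W Wn K (k ≫ J.subschemeι ≫ W.ι) := by
  refine ⟨fun x => ?_, fun n O' hO' => ?_⟩
  · rw [← Category.assoc, Scheme.Hom.comp_apply]
    exact ((k ≫ J.subschemeι) x).2
  · let m : (↑O' : Scheme.{u}) ⟶ ↑W := O'.ι ≫ k ≫ J.subschemeι
    have hm : Set.range m ⊆ Set.range (W.ι ⁻¹ᵁ Wn n).ι := by
      rw [Scheme.Opens.range_ι]
      rintro _ ⟨x, rfl⟩
      have := hO' x.2
      simpa [m, Scheme.Hom.comp_apply] using this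
    let q := IsOpenImmersion.lift (W.ι ⁻¹ᵁ Wn n).ι m hm
    have hq : q ≫ (W.ι ⁻¹ᵁ Wn n).ι = m := IsOpenImmersion.lift_fac _ _ _
    have e1 : O'.ι ≫ k ≫ J.subschemeι ≫ W.ι = q ≫ (W.ι ⁻¹ᵁ Wn n).ι ≫ W.ι := by
      rw [← Category.assoc q, hq]
      simp [m]
    rw [e1, Scheme.IdealSheafData.comap_comp, ← hJ n, ← Scheme.IdealSheafData.comap_comp, hq]
    show J.comap ((O'.ι ≫ k) ≫ J.subschemeι) = ⊥
    rw [Scheme.IdealSheafData.comap_comp, comap_subschemeι_self,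
      Scheme.IdealSheafData.comap_bot]

theorem good_of_le {T : Scheme.{u}} {h : T ⟶ U} (n : ℕ) (O'' : T.Opens)
    (h0 : (K n).comap (O''.ι ≫ h) = ⊥) (O' : T.Opens) (hle : O' ≤ O'') :
    (K n).comap (O'.ι ≫ h) = ⊥ := by
  have : O'.ι = T.homOfLE hle ≫ O''.ι := (Scheme.homOfLE_ι T hle).symm
  rw [this, Category.assoc, Scheme.IdealSheafData.comap_comp, h0,
    Scheme.IdealSheafData.comap_bot]

omit hJ in
theorem good_iff_of_eq {T : Scheme.{u}} {h h' : T ⟶ U}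
    (hW : ∀ x, h x ∈ W ↔ h' x ∈ W) (hWn : ∀ n x, h x ∈ Wn n ↔ h' x ∈ Wn n)
    (hK : ∀ n (O' : T.Opens), (K n).comap (O'.ι ≫ h) = (K n).comap (O'.ι ≫ h')) :
    Good W Wn K h → Good W Wn K h' := by
  rintro ⟨h1, h2⟩
  refine ⟨fun x => (hW x).1 (h1 x), fun n O' hO' => ?_⟩
  rw [← hK n O']
  exact h2 n O' (fun x hx => (hWn n x).2 (hO' hx))

theorem factor_of_good (hLocEq : LocEqStmt.{u}) (hcov : W ≤ ⨆ n, Wn n) {T : Scheme.{u}}
    (h : T ⟶ U) (hg : Good W Wn K h) : ∃ k : T ⟶ J.subscheme, k ≫ J.subschemeι ≫ W.ι = h := by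
  obtain ⟨h1, h2⟩ := hg
  have hr : Set.range h ⊆ Set.range W.ι := by
    rw [Scheme.Opens.range_ι]
    rintro _ ⟨x, rfl⟩
    exact h1 x
  let h' : T ⟶ ↑W := IsOpenImmersion.lift W.ι h hr
  have hh' : h' ≫ W.ι = h := IsOpenImmersion.lift_fac _ _ _
  have hcomap : J.comap h' = ⊥ := by
    refine hLocEq (fun n => h ⁻¹ᵁ Wn n) ?_ _ _ (fun n => ?_)
    · rw [eq_top_iff]
      intro x _
      have := hcov (h1 x)
      rw [Opens.mem_iSup] at this ⊢
      exact this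
    · rw [Scheme.IdealSheafData.comap_bot, ← Scheme.IdealSheafData.comap_comp]
      let m : (↑(h ⁻¹ᵁ Wn n) : Scheme.{u}) ⟶ ↑W := (h ⁻¹ᵁ Wn n).ι ≫ h'
      have hm : Set.range m ⊆ Set.range (W.ι ⁻¹ᵁ Wn n).ι := by
        rw [Scheme.Opens.range_ι]
        rintro _ ⟨x, rfl⟩
        show W.ι (m x) ∈ Wn n
        have : W.ι (m x) = h ((h ⁻¹ᵁ Wn n).ι x) := by
          simp only [m, ← Scheme.Hom.comp_apply, Category.assoc, hh']
        rw [this]
        exact x.2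
      let q := IsOpenImmersion.lift (W.ι ⁻¹ᵁ Wn n).ι m hm
      have hq : q ≫ (W.ι ⁻¹ᵁ Wn n).ι = m := IsOpenImmersion.lift_fac _ _ _
      show J.comap m = ⊥
      rw [← hq, Scheme.IdealSheafData.comap_comp, hJ n, ← Scheme.IdealSheafData.comap_comp,
        ← Category.assoc, hq]
      show (K n).comap (((h ⁻¹ᵁ Wn n).ι ≫ h') ≫ W.ι) = ⊥
      rw [Category.assoc, hh']
      exact h2 n _ le_rfl
  have hle : J.subschemeι.ker ≤ h'.ker := by
    rw [Scheme.IdealSheafData.ker_subschemeι, ← Scheme.IdealSheafData.map_bot,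
      Scheme.IdealSheafData.le_map_iff_comap_le, hcomap]
  refine ⟨IsClosedImmersion.lift J.subschemeι h' hle, ?_⟩
  rw [← Category.assoc, IsClosedImmersion.lift_fac, hh']

end Fact

section Main
variable {S : Scheme.{u}} (G : Grpd.GroupoidScheme S) [IsFinite G.s]

/-- the supports of the Fitting ideal sheaves. -/
def Sg (n : ℕ) : Set G.U := ((Z G n).support : Set G.U)

theorem isClosed_Sg (n : ℕ) : IsClosed (Sg G n) := (Z G n).support.isClosed

theorem antitone_Sg : Antitone (Sg G) := fun _ _ h =>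
  Scheme.IdealSheafData.support_antitone (Z_mono G h)

theorem Sg_zero : Sg G 0 = Set.univ := by
  unfold Sg
  rw [Z_zero, Scheme.IdealSheafData.support_bot]
  rfl

theorem iInter_Sg : (⋂ n, Sg G n) = ∅ := iInter_support_Z G

theorem Sg_inv (n : ℕ) : G.s ⁻¹' (Sg G n) = G.t ⁻¹' (Sg G n) := by
  have h := congrArg (fun I : G.R.IdealSheafData => (I.support : Set G.R)) (comap_s_eq_comap_t G n)
  simp only [Scheme.IdealSheafData.support_comap] at h
  exact h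

/-- the output of [TOP] and [GLUE]. -/
structure Data where
  Wn : ℕ → G.U.Opens
  inv : ∀ n, G.s ⁻¹ᵁ Wn n = G.t ⁻¹ᵁ Wn n
  sub : ∀ n, (Wn n : Set G.U) ⊆ Sg G n \ Sg G (n + 1)
  cov : ∀ u : G.U, ∃ n, ∃ ρ : G.R, G.t ρ = u ∧ G.s ρ ∈ closure (Wn n : Set G.U)
  gen : ∀ n (u : G.U), u ∈ Sg G n \ Sg G (n + 1) →
    (∀ ρ : G.R, G.t ρ = u → G.s ρ ∉ closure ((Sg G n)ᶜ)) → u ∈ Wn n
  J : (↑(⨆ n, Wn n) : Scheme.{u}).IdealSheafData
  hJ : ∀ n, J.comap ((⨆ n, Wn n).ι ⁻¹ᵁ Wn n).ι =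
    (Z G n).comap (((⨆ n, Wn n).ι ⁻¹ᵁ Wn n).ι ≫ (⨆ n, Wn n).ι)

theorem disjoint_Wn {Wn : ℕ → G.U.Opens} (sub : ∀ n, (Wn n : Set G.U) ⊆ Sg G n \ Sg G (n + 1))
    {m n : ℕ} (hmn : m ≠ n) : Disjoint (Wn m) (Wn n) := by
  rw [← Opens.coe_disjoint, Set.disjoint_left]
  intro x hxm hxn
  rcases lt_or_gt_of_ne hmn with h | h
  · exact (sub m hxm).2 (antitone_Sg G (Nat.succ_le_of_lt h) (sub n hxn).1)
  · exact (sub n hxn).2 (antitone_Sg G (Nat.succ_le_of_lt h) (sub m hxm).1)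

theorem nonempty_data [IsFinite G.t] (hGlue : GlueStmt.{u}) (hTop : TopStmt.{u}) :
    Nonempty (Data G) := by
  obtain ⟨Wn, inv, sub, cov, gen⟩ := hTop G (Sg G) (isClosed_Sg G) (antitone_Sg G) (Sg_zero G)
    (iInter_Sg G) (Sg_inv G)
  let W : G.U.Opens := ⨆ n, Wn n
  have hdisj : Pairwise (Function.onFun Disjoint fun n => W.ι ⁻¹ᵁ Wn n) := by
    intro m n hmn
    have := disjoint_Wn G sub hmn
    show Disjoint (W.ι ⁻¹ᵁ Wn m) (W.ι ⁻¹ᵁ Wn n)
    rw [← Opens.coe_disjoint, Set.disjoint_left] at this ⊢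
    intro x hxm hxn
    exact this hxm hxn
  have hcov : (⨆ n, W.ι ⁻¹ᵁ Wn n) = ⊤ := by
    rw [eq_top_iff]
    intro x _
    have hx : (W.ι x) ∈ W := x.2
    rw [Opens.mem_iSup] at hx ⊢
    exact hx
  obtain ⟨J, hJ⟩ := hGlue (fun n => W.ι ⁻¹ᵁ Wn n) hdisj hcov (fun n => (Z G n).comap W.ι)
  exact ⟨⟨Wn, inv, sub, cov, gen, J, fun n => by
    rw [hJ n, ← Scheme.IdealSheafData.comap_comp]⟩⟩

namespace Data
variable {G} (D : Data G)

/-- the invariant open. -/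
abbrev W : G.U.Opens := ⨆ n, D.Wn n

/-- the inclusion of the thickening-closed subscheme. -/
noncomputable abbrev ι' : D.J.subscheme ⟶ G.U := D.J.subschemeι ≫ D.W.ι

instance : Mono D.ι' := inferInstance

theorem Wn_le (n : ℕ) : D.Wn n ≤ D.W := le_iSup D.Wn n

theorem s_mem_Wn_iff (n : ℕ) (ρ : G.R) : G.s ρ ∈ D.Wn n ↔ G.t ρ ∈ D.Wn n := by
  have := D.inv n
  constructor
  · intro h
    have h' : ρ ∈ G.s ⁻¹ᵁ D.Wn n := h
    rw [this] at h'
    exact h'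
  · intro h
    have h' : ρ ∈ G.t ⁻¹ᵁ D.Wn n := h
    rw [← this] at h'
    exact h'

theorem s_mem_W_iff (ρ : G.R) : G.s ρ ∈ D.W ↔ G.t ρ ∈ D.W := by
  simp only [Opens.mem_iSup, D.s_mem_Wn_iff]

theorem W_inv : G.s ⁻¹ᵁ D.W = G.t ⁻¹ᵁ D.W := by
  ext ρ
  exact D.s_mem_W_iff ρ

theorem support_J : D.J.support = ⊤ := by
  rw [eq_top_iff]
  intro x _
  have hx : D.W.ι x ∈ D.W := x.2
  obtain ⟨n, hn⟩ := Opens.mem_iSup.1 hx
  let x' : ↥(D.W.ι ⁻¹ᵁ D.Wn n) := ⟨x, hn⟩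
  have h1 : x' ∈ (D.J.comap (D.W.ι ⁻¹ᵁ D.Wn n).ι).support := by
    rw [D.hJ n, Scheme.IdealSheafData.support_comap]
    exact (D.sub n hn).1
  rw [Scheme.IdealSheafData.support_comap] at h1
  exact h1

theorem exists_mem_closure (u : G.U) :
    ∃ ρ : G.R, G.t ρ = u ∧ G.s ρ ∈ closure (D.W : Set G.U) := by
  obtain ⟨n, ρ, h1, h2⟩ := D.cov u
  exact ⟨ρ, h1, closure_mono (D.Wn_le n) h2⟩

theorem good_swap {T : Scheme.{u}} (a : T ⟶ G.R) :
    Good D.W D.Wn (Z G) (a ≫ G.s) ↔ Good D.W D.Wn (Z G) (a ≫ G.t) := by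
  have hK : ∀ n (O' : T.Opens), (Z G n).comap (O'.ι ≫ a ≫ G.s) = (Z G n).comap (O'.ι ≫ a ≫ G.t) := by
    intro n O'
    rw [← Category.assoc, ← Category.assoc, Scheme.IdealSheafData.comap_comp,
      Scheme.IdealSheafData.comap_comp (Z G n) _ G.t, comap_s_eq_comap_t]
  constructor
  · refine good_iff_of_eq D.W D.Wn (Z G) (fun x => ?_) (fun n x => ?_) hK
    · simp only [Scheme.Hom.comp_apply]; exact D.s_mem_W_iff _
    · simp only [Scheme.Hom.comp_apply]; exact D.s_mem_Wn_iff n _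
  · refine good_iff_of_eq D.W D.Wn (Z G) (fun x => ?_) (fun n x => ?_) (fun n O' => (hK n O').symm)
    · simp only [Scheme.Hom.comp_apply]; exact (D.s_mem_W_iff _).symm
    · simp only [Scheme.Hom.comp_apply]; exact (D.s_mem_Wn_iff n _).symm

theorem good_ι' : Good D.W D.Wn (Z G) D.ι' := by
  have := good_of_factor D.W D.Wn (Z G) D.J D.hJ (𝟙 D.J.subscheme)
  rwa [Category.id_comp] at this

/-- invariance of the thickening-closed subscheme. -/
theorem exists_iso (hLocEq : LocEqStmt.{u}) :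
    ∃ φ : pullback G.s D.ι' ≅ pullback G.t D.ι',
      φ.hom ≫ pullback.fst G.t D.ι' = pullback.fst G.s D.ι' := by
  have g1 : Good D.W D.Wn (Z G) (pullback.fst G.s D.ι' ≫ G.t) := by
    rw [← D.good_swap, pullback.condition]
    exact good_of_factor D.W D.Wn (Z G) D.J D.hJ _
  have g2 : Good D.W D.Wn (Z G) (pullback.fst G.t D.ι' ≫ G.s) := by
    rw [D.good_swap, pullback.condition]
    exact good_of_factor D.W D.Wn (Z G) D.J D.hJ _
  obtain ⟨k1, hk1⟩ := factor_of_good D.W D.Wn (Z G) D.J D.hJ hLocEq le_rfl _ g1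
  obtain ⟨k2, hk2⟩ := factor_of_good D.W D.Wn (Z G) D.J D.hJ hLocEq le_rfl _ g2
  refine ⟨⟨pullback.lift (pullback.fst G.s D.ι') k1 hk1.symm,
    pullback.lift (pullback.fst G.t D.ι') k2 hk2.symm, ?_, ?_⟩, ?_⟩
  · rw [← cancel_mono (pullback.fst G.s D.ι'), Category.assoc, pullback.lift_fst,
      pullback.lift_fst, Category.id_comp]
  · rw [← cancel_mono (pullback.fst G.t D.ι'), Category.assoc, pullback.lift_fst,
      pullback.lift_fst, Category.id_comp]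
  · exact pullback.lift_fst _ _ _

/-- `s` restricted to the thickening-closed subscheme is finite locally free. -/
theorem isFinLocFree_s (hLoc : LocStmt.{u}) : Mor2.IsFinLocFree (pullback.snd G.s D.ι') := by
  have hsq := IsPullback.of_hasPullback G.s D.ι'
  refine hLoc (pullback.snd G.s D.ι') (fun n => D.ι' ⁻¹ᵁ D.Wn n) ?_ (fun n => ⟨n + 1, ?_, ?_⟩)
  · rw [eq_top_iff]
    intro x _
    have hx : D.ι' x ∈ D.W := D.good_ι'.1 x
    rw [Opens.mem_iSup] at hx ⊢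
    exact hx
  · intro k hk
    rw [← fittMor_comap hsq k, ← Scheme.IdealSheafData.comap_comp]
    have h1 : (Z G k).comap ((D.ι' ⁻¹ᵁ D.Wn n).ι ≫ D.ι') ≤
        (Z G n).comap ((D.ι' ⁻¹ᵁ D.Wn n).ι ≫ D.ι') :=
      Scheme.IdealSheafData.comap_mono _ (Z_mono G (Nat.lt_succ_iff.mp hk))
    rw [D.good_ι'.2 n _ le_rfl] at h1
    exact le_bot_iff.mp h1
  · rw [← fittMor_comap hsq (n + 1), ← Scheme.IdealSheafData.comap_comp]
    refine comap_eq_top_of_forall_notMem _ _ (fun x => ?_)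
    have hx : D.ι' ((D.ι' ⁻¹ᵁ D.Wn n).ι x) ∈ D.Wn n := x.2
    rw [Scheme.Hom.comp_apply]
    exact (D.sub n hx).2

/-- `t` restricted to the thickening-closed subscheme is finite locally free. -/
theorem isFinLocFree_t (hLoc : LocStmt.{u}) : Mor2.IsFinLocFree (pullback.snd G.t D.ι') := by
  obtain ⟨h1, h2, h3⟩ := D.isFinLocFree_s hLoc
  let θ : pullback G.t D.ι' ⟶ pullback G.s D.ι' :=
    pullback.lift (pullback.fst G.t D.ι' ≫ G.i) (pullback.snd G.t D.ι')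
      (by rw [Category.assoc, G.i_s, pullback.condition])
  let θ' : pullback G.s D.ι' ⟶ pullback G.t D.ι' :=
    pullback.lift (pullback.fst G.s D.ι' ≫ G.i) (pullback.snd G.s D.ι')
      (by rw [Category.assoc, G.i_t, pullback.condition])
  have hθ : IsIso θ := by
    refine ⟨θ', ?_, ?_⟩
    · apply pullback.hom_ext
      · simp only [θ, θ', Category.assoc, pullback.lift_fst, pullback.lift_fst_assoc,
          Groth.Agent.R2.H53.GrpdBasic.i_i, Category.comp_id, Category.id_comp]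
      · simp only [θ, θ', Category.assoc, pullback.lift_snd, Category.id_comp]
    · apply pullback.hom_ext
      · simp only [θ, θ', Category.assoc, pullback.lift_fst, pullback.lift_fst_assoc,
          Groth.Agent.R2.H53.GrpdBasic.i_i, Category.comp_id, Category.id_comp]
      · simp only [θ, θ', Category.assoc, pullback.lift_snd, Category.id_comp]
  have hfac : pullback.snd G.t D.ι' = θ ≫ pullback.snd G.s D.ι' := (pullback.lift_snd _ _ _).symm
  rw [hfac]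
  haveI := h1
  haveI := h2
  haveI := h3
  exact ⟨inferInstance, inferInstance, inferInstance⟩

theorem locFG_J [LocallyOfFinitePresentation G.s] (hFG : FGStmt.{u}) (hFGC : FGComapStmt.{u}) :
    LocFG D.J := by
  refine hFGC.2 (fun n => D.W.ι ⁻¹ᵁ D.Wn n) ?_ D.J (fun n => ?_)
  · rw [eq_top_iff]
    intro x _
    have hx : D.W.ι x ∈ D.W := x.2
    rw [Opens.mem_iSup] at hx ⊢
    exact hx
  · rw [D.hJ n]
    refine hFGC.1 _ _ (fun x => ?_)
    obtain ⟨V, hV, hxV, -⟩ := exists_isAffineOpen_mem_and_subset (x := x) (U := ⊤) trivial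
    exact ⟨⟨V, hV⟩, hxV, hFG G.s n ⟨V, hV⟩⟩

theorem mem_W_of_generic [LocallyOfFinitePresentation G.s] (hFG : FGStmt.{u}) (hGen : GenStmt.{u})
    (u : G.U) (hu : ∀ r : G.R, G.s r = u → ∀ x : G.U, x ⤳ G.t r → x = G.t r) : u ∈ D.W := by
  classical
  have hex : ∃ m, u ∉ Sg G m := by
    by_contra h
    push Not at h
    have : u ∈ ⋂ n, Sg G n := Set.mem_iInter.2 h
    rw [iInter_Sg] at this
    exact this
  have hm0 : Nat.find hex ≠ 0 := by
    intro h0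
    have := Nat.find_spec hex
    rw [h0, Sg_zero] at this
    exact this trivial
  obtain ⟨n, hn⟩ := Nat.exists_eq_succ_of_ne_zero hm0
  have hun : u ∈ Sg G n := by
    by_contra h
    have := Nat.find_min' hex h
    omega
  have hun1 : u ∉ Sg G (n + 1) := by
    have := Nat.find_spec hex
    rwa [hn] at this
  have hlocFG : LocFG (Z G n) := fun x => by
    obtain ⟨V, hV, hxV, -⟩ := exists_isAffineOpen_mem_and_subset (x := x) (U := ⊤) trivial
    exact ⟨⟨V, hV⟩, hxV, hFG G.s n ⟨V, hV⟩⟩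
  refine D.Wn_le n (D.gen n u ⟨hun, hun1⟩ (fun ρ hρ => ?_))
  have h1 : G.s ρ ∈ (Z G n).support := by
    have : ρ ∈ G.t ⁻¹' (Sg G n) := by
      show G.t ρ ∈ Sg G n
      rw [hρ]; exact hun
    rw [← Sg_inv] at this
    exact this
  refine hGen (Z G n) hlocFG (G.s ρ) h1 (fun y hy => ?_)
  have h2 := hu (G.i ρ) (by rw [Groth.Agent.R2.H33.GrpdInvOpen.s_i_pt, hρ]) y
  rw [Groth.Agent.R2.H33.GrpdInvOpen.t_i_pt] at h2
  exact h2 hy

end Data

theorem main_S1908 [IsFinite G.t] (hGlue : GlueStmt.{u}) (hTop : TopStmt.{u})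
    (hLocEq : LocEqStmt.{u}) (hLoc : LocStmt.{u}) :
    ∃ (W : G.U.Opens) (W' : (↑W : Scheme.{u}).IdealSheafData), G.s ⁻¹ᵁ W = G.t ⁻¹ᵁ W ∧
      W'.support = ⊤ ∧
      (∃ φ : pullback G.s (W'.subschemeι ≫ W.ι) ≅ pullback G.t (W'.subschemeι ≫ W.ι),
        φ.hom ≫ pullback.fst G.t (W'.subschemeι ≫ W.ι) =
          pullback.fst G.s (W'.subschemeι ≫ W.ι)) ∧
      (∀ u : G.U, ∃ r : G.R, G.t r = u ∧ G.s r ∈ closure (W : Set G.U)) ∧
      Mor2.IsFinLocFree (pullback.snd G.s (W'.subschemeι ≫ W.ι)) ∧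
      Mor2.IsFinLocFree (pullback.snd G.t (W'.subschemeι ≫ W.ι)) := by
  obtain ⟨D⟩ := nonempty_data G hGlue hTop
  exact ⟨D.W, D.J, D.W_inv, D.support_J, D.exists_iso hLocEq, D.exists_mem_closure,
    D.isFinLocFree_s hLoc, D.isFinLocFree_t hLoc⟩

theorem main_S1909 [IsFinite G.t] [LocallyOfFinitePresentation G.s] (hGlue : GlueStmt.{u})
    (hTop : TopStmt.{u}) (hLocEq : LocEqStmt.{u}) (hLoc : LocStmt.{u}) (hFG : FGStmt.{u})
    (hFGC : FGComapStmt.{u}) (hLfp : LfpStmt.{u}) (hGen : GenStmt.{u}) :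
    ∃ (W : G.U.Opens) (W' : (↑W : Scheme.{u}).IdealSheafData), G.s ⁻¹ᵁ W = G.t ⁻¹ᵁ W ∧
      W'.support = ⊤ ∧
      (∃ φ : pullback G.s (W'.subschemeι ≫ W.ι) ≅ pullback G.t (W'.subschemeι ≫ W.ι),
        φ.hom ≫ pullback.fst G.t (W'.subschemeι ≫ W.ι) =
          pullback.fst G.s (W'.subschemeι ≫ W.ι)) ∧
      (∀ u : G.U, ∃ r : G.R, G.t r = u ∧ G.s r ∈ closure (W : Set G.U)) ∧
      Mor2.IsFinLocFree (pullback.snd G.s (W'.subschemeι ≫ W.ι)) ∧
      Mor2.IsFinLocFree (pullback.snd G.t (W'.subschemeι ≫ W.ι)) ∧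
      LocallyOfFinitePresentation W'.subschemeι ∧
      ∀ u : G.U, (∀ r : G.R, G.s r = u → ∀ x : G.U, x ⤳ G.t r → x = G.t r) → u ∈ W := by
  obtain ⟨D⟩ := nonempty_data G hGlue hTop
  exact ⟨D.W, D.J, D.W_inv, D.support_J, D.exists_iso hLocEq, D.exists_mem_closure,
    D.isFinLocFree_s hLoc, D.isFinLocFree_t hLoc, hLfp D.J (D.locFG_J hFG hFGC),
    D.mem_W_of_generic hFG hGen⟩

end Main

end Groth.Agent.R2.H96.GrpdFittAsm
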