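import Mathlib
import Groth.Agent.R2.H96GrpdFittSpec

/-!
# PROJ:grpd-fitt — packages [FG], [FGCOMAP] (helper96)
-/

set_option autoImplicit false
set_option linter.style.haveILetI false
universe u

open CategoryTheory CategoryTheory.Limits AlgebraicGeometry TopologicalSpace
open Groth.Agent.R2.H96.FittMor Groth.Agent.R2.H96.GrpdFitt Groth.Agent.R2.H96.GrpdFittSpec
open Groth.Agent.Helper18Fitt

namespace Groth.Agent.R2.H96.GrpdFittFG

theorem fgStmt : FGStmt.{u} := by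
  intro X Y f _ _ r V
  show (fittApp f V.1 r).FG
  letI := appAlg f V.1
  haveI : Module.Finite Γ(Y, V.1) Γ(X, f ⁻¹ᵁ V.1) := finite_app f V.2
  have h1 : (f.appLE V.1 (f ⁻¹ᵁ V.1) le_rfl).hom.FinitePresentation :=
    f.finitePresentation_appLE V.2 (V.2.preimage f) le_rfl
  rw [f.appLE_eq_app] at h1
  have h2 : Algebra.FinitePresentation Γ(Y, V.1) Γ(X, f ⁻¹ᵁ V.1) := h1
  have h3 : Module.FinitePresentation Γ(Y, V.1) Γ(X, f ⁻¹ᵁ V.1) :=
    (Module.FinitePresentation.iff_finitePresentation_of_finite _ _).mpr h2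
  exact fitt_fg_of_fp h3 r

theorem locFG_comap {X Y : Scheme.{u}} (g : X ⟶ Y) (K : Y.IdealSheafData) (hK : LocFG K) :
    LocFG (K.comap g) := by
  intro x
  obtain ⟨V, hxV, hfg⟩ := hK (g x)
  obtain ⟨U, hU, hxU, hUV⟩ := exists_isAffineOpen_mem_and_subset (x := x) (U := g ⁻¹ᵁ V.1) hxV
  refine ⟨⟨U, hU⟩, hxU, ?_⟩
  rw [Groth.Agent.Lib.Helper22.IdealComap.ideal_comap_eq_map g K ⟨U, hU⟩ V hUV]
  exact hfg.map _

theorem locFG_of_cover {X : Scheme.{u}} (O : ℕ → X.Opens) (hO : (⨆ n, O n) = ⊤)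
    (J : X.IdealSheafData) (h : ∀ n, LocFG (J.comap (O n).ι)) : LocFG J := by
  intro x
  have hx : x ∈ ⨆ n, O n := by rw [hO]; trivial
  obtain ⟨n, hn⟩ := Opens.mem_iSup.1 hx
  let x' : (↑(O n) : Scheme.{u}) := ⟨x, hn⟩
  obtain ⟨V, hxV, hfg⟩ := h n x'
  refine ⟨⟨(O n).ι ''ᵁ V.1, V.2.image_of_isOpenImmersion (O n).ι⟩, ⟨x', hxV, rfl⟩, ?_⟩
  rw [Scheme.IdealSheafData.ideal_comap_of_isOpenImmersion] at hfg
  have hsurj : Function.Surjective ((O n).ι.appIso V.1).inv.hom :=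
    (((O n).ι.appIso V.1).symm.commRingCatIsoToRingEquiv).surjective
  have := hfg.map ((O n).ι.appIso V.1).inv.hom
  rwa [Ideal.map_comap_of_surjective _ hsurj] at this

theorem fgComapStmt : FGComapStmt.{u} :=
  ⟨fun g K hK => locFG_comap g K hK, fun O hO J h => locFG_of_cover O hO J h⟩

end Groth.Agent.R2.H96.GrpdFittFG
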