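import Mathlib
import Groth.Agent.R2.H96GrpdFittSpec

/-!
# PROJ:grpd-fitt — package [GLUE] (helper96): gluing ideal sheaves along a disjoint open cover
-/

set_option autoImplicit false
set_option linter.style.haveILetI false
universe u

open CategoryTheory CategoryTheory.Limits AlgebraicGeometry TopologicalSpace
open Groth.Agent.R2.H96.FittMor Groth.Agent.R2.H96.GrpdFitt Groth.Agent.R2.H96.GrpdFittSpec

namespace Groth.Agent.R2.H96.GrpdFittGlue

variable {X : Scheme.{u}}

/-- restriction to an open subscheme commutes with `⊓`. -/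
theorem comap_inf_of_isOpenImmersion {Y : Scheme.{u}} (f : Y ⟶ X) [IsOpenImmersion f]
    (I F : X.IdealSheafData) : (I ⊓ F).comap f = I.comap f ⊓ F.comap f := by
  ext U : 2
  rw [Scheme.IdealSheafData.ideal_comap_of_isOpenImmersion, Scheme.IdealSheafData.ideal_inf,
    Scheme.IdealSheafData.ideal_inf, Pi.inf_apply, Pi.inf_apply,
    Scheme.IdealSheafData.ideal_comap_of_isOpenImmersion,
    Scheme.IdealSheafData.ideal_comap_of_isOpenImmersion]
  rfl

theorem comap_iSup {Y : Scheme.{u}} (f : Y ⟶ X) {ι : Type*} (I : ι → X.IdealSheafData) :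
    (⨆ i, I i).comap f = ⨆ i, (I i).comap f :=
  (Scheme.IdealSheafData.map_gc f).l_iSup

variable (O : ℕ → X.Opens)

/-- the union of the other opens. -/
def Oc (n : ℕ) : X.Opens := ⨆ (k : ℕ) (_ : k ≠ n), O k

theorem le_Oc {k n : ℕ} (h : k ≠ n) : O k ≤ Oc O n := le_iSup₂_of_le k h le_rfl

variable (hdisj : Pairwise (Function.onFun Disjoint O)) (hcov : (⨆ n, O n) = ⊤)
include hdisj hcov

theorem coe_Oc (n : ℕ) : (Oc O n : Set X) = (O n : Set X)ᶜ := by
  ext x
  simp only [Oc, Opens.coe_iSup, Set.mem_iUnion, SetLike.mem_coe, Set.mem_compl_iff, exists_prop]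
  constructor
  · rintro ⟨k, hk, hx⟩ hxn
    have := hdisj hk
    rw [Function.onFun, ← Opens.coe_disjoint, Set.disjoint_left] at this
    exact this hx hxn
  · intro hx
    have : x ∈ ⨆ n, O n := by rw [hcov]; trivial
    obtain ⟨k, hk⟩ := Opens.mem_iSup.1 this
    exact ⟨k, fun h => hx (h ▸ hk), hk⟩

theorem isClosedImmersion_Oc_ι (n : ℕ) : IsClosedImmersion (Oc O n).ι := by
  refine IsClosedImmersion.of_isPreimmersion _ ?_
  rw [Scheme.Opens.range_ι, coe_Oc O hdisj hcov]
  exact (O n).isOpen.isClosed_compl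

/-- functions vanishing on the other opens. -/
noncomputable def F (n : ℕ) : X.IdealSheafData := (Oc O n).ι.ker

omit hdisj hcov in
theorem F_comap_of_ne {k n : ℕ} (h : k ≠ n) : (F O n).comap (O k).ι = ⊥ := by
  have e : (O k).ι = X.homOfLE (le_Oc O h) ≫ (Oc O n).ι := (Scheme.homOfLE_ι X _).symm
  have h1 : (F O n).comap (Oc O n).ι = ⊥ := by
    rw [eq_bot_iff, F, ← Scheme.IdealSheafData.map_bot]
    exact Scheme.IdealSheafData.comap_map_le _ _
  rw [e, Scheme.IdealSheafData.comap_comp, h1, Scheme.IdealSheafData.comap_bot]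

theorem F_comap_self (n : ℕ) : (F O n).comap (O n).ι = ⊤ := by
  haveI := isClosedImmersion_Oc_ι O hdisj hcov n
  refine comap_eq_top_of_forall_notMem _ _ (fun x => ?_)
  intro hx
  have h1 : (O n).ι x ∈ ((F O n).support : Set X) := hx
  rw [F, Scheme.Hom.support_ker, Scheme.Opens.range_ι, coe_Oc O hdisj hcov,
    closure_eq_iff_isClosed.2 (O n).isOpen.isClosed_compl] at h1
  exact h1 x.2

theorem glue (I : ℕ → X.IdealSheafData) :
    ∃ J : X.IdealSheafData, ∀ n, J.comap (O n).ι = (I n).comap (O n).ι := by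
  refine ⟨⨆ n, I n ⊓ F O n, fun m => ?_⟩
  rw [comap_iSup]
  apply le_antisymm
  · refine iSup_le (fun n => ?_)
    rw [comap_inf_of_isOpenImmersion]
    by_cases h : m = n
    · subst h
      exact inf_le_left
    · rw [F_comap_of_ne O h, inf_bot_eq]
      exact bot_le
  · refine le_trans ?_ (le_iSup _ m)
    rw [comap_inf_of_isOpenImmersion, F_comap_self O hdisj hcov m, inf_top_eq]

omit hdisj hcov in
theorem glueStmt : GlueStmt.{u} := fun O hdisj hcov I => glue O hdisj hcov I

end Groth.Agent.R2.H96.GrpdFittGlue
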