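import Mathlib
import Groth.Agent.R2.H96GrpdFittSpec

/-!
# PROJ:grpd-fitt — packages [LOC] and [LOCEQ] (helper96)
-/

set_option autoImplicit false
set_option linter.style.haveILetI false
universe u

open CategoryTheory CategoryTheory.Limits AlgebraicGeometry TopologicalSpace
open Groth.Agent.R2.H96.FittMor Groth.Agent.R2.H96.GrpdFitt Groth.Agent.R2.H96.GrpdFittSpec

namespace Groth.Agent.R2.H96.GrpdFittLoc

theorem locStmt : LocStmt.{u} := by
  intro X Y f _ T hT h
  have key : ∀ n, Flat (f ∣_ T n) ∧ LocallyOfFinitePresentation (f ∣_ T n) := by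
    intro n
    obtain ⟨d, h0, h1⟩ := h n
    have hsq : IsPullback (f ⁻¹ᵁ T n).ι (f ∣_ T n) f (T n).ι := (isPullback_morphismRestrict f (T n)).flip
    have := isFinLocFreeOfDeg_of_fittMor (f ∣_ T n) d
      (fun k hk => by rw [← fittMor_comap hsq k, h0 k hk])
      (by rw [← fittMor_comap hsq d, h1])
    exact ⟨this.1.2.1, this.1.2.2⟩
  refine ⟨inferInstance, ?_, ?_⟩
  · rw [IsZariskiLocalAtTarget.iff_of_iSup_eq_top (P := @Flat) T hT]
    exact fun n => (key n).1
  · rw [IsZariskiLocalAtTarget.iff_of_iSup_eq_top (P := @LocallyOfFinitePresentation) T hT]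
    exact fun n => (key n).2

/-- the ideal of an ideal sheaf on the image of an affine open under an open immersion is
determined by the pulled-back ideal sheaf. -/
theorem ideal_image_eq_of_comap_eq {X Y : Scheme.{u}} (f : X ⟶ Y) [IsOpenImmersion f]
    (I I' : Y.IdealSheafData) (h : I.comap f = I'.comap f) (U : X.affineOpens) :
    I.ideal ⟨f ''ᵁ U, U.2.image_of_isOpenImmersion f⟩ =
      I'.ideal ⟨f ''ᵁ U, U.2.image_of_isOpenImmersion f⟩ := by
  have h1 := Scheme.IdealSheafData.ideal_comap_of_isOpenImmersion I f U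
  have h2 := Scheme.IdealSheafData.ideal_comap_of_isOpenImmersion I' f U
  rw [h] at h1
  have h3 := h1.symm.trans h2
  have hsurj : Function.Surjective (f.appIso U).inv.hom :=
    ((f.appIso U).symm.commRingCatIsoToRingEquiv).surjective
  exact Ideal.comap_injective_of_surjective _ hsurj h3

theorem locEqStmt : LocEqStmt.{u} := by
  intro X O hO I I' h
  let ι : Type u := Σ n : ℕ, (↑(O n) : Scheme.{u}).affineOpens
  let Uf : ι → X.affineOpens := fun p =>
    ⟨(O p.1).ι ''ᵁ p.2.1, p.2.2.image_of_isOpenImmersion (O p.1).ι⟩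
  have hcov : ⨆ p : ι, (Uf p : X.Opens) = ⊤ := by
    rw [eq_top_iff]
    intro x _
    have hx : x ∈ ⨆ n, O n := by rw [hO]; trivial
    obtain ⟨n, hn⟩ := Opens.mem_iSup.1 hx
    let x' : (↑(O n) : Scheme.{u}) := ⟨x, hn⟩
    obtain ⟨V, hV, hxV, -⟩ := exists_isAffineOpen_mem_and_subset (X := ↑(O n)) (x := x')
      (U := ⊤) trivial
    refine Opens.mem_iSup.2 ⟨⟨n, ⟨V, hV⟩⟩, ?_⟩
    exact ⟨x', hxV, rfl⟩
  refine Scheme.IdealSheafData.ext_of_iSup_eq_top Uf hcov (fun p => ?_)
  exact ideal_image_eq_of_comap_eq (O p.1).ι I I' (h p.1) p.2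

end Groth.Agent.R2.H96.GrpdFittLoc
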