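import Mathlib
import Groth.Agent.R2.H96GrpdFittSpec
import Groth.Agent.R2.H33GrpdInvOpen

/-!
# PROJ:grpd-fitt — package [TOP] (helper96): the topological recursion
-/

set_option autoImplicit false
set_option linter.style.haveILetI false
set_option linter.unusedSectionVars false
universe u

open CategoryTheory CategoryTheory.Limits AlgebraicGeometry TopologicalSpace
open Groth.Agent.R2.H96.GrpdFittSpec Groth.Agent.R2.H33.GrpdInvOpen

namespace Groth.Agent.R2.H96.GrpdFittTop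

variable {S : Scheme.{u}} (G : Grpd.GroupoidScheme S)

/-- the saturation `t(s⁻¹ A)`. -/
def satC (A : Set G.U) : Set G.U := G.t '' (G.s ⁻¹' A)

theorem mem_satC {A : Set G.U} {u : G.U} : u ∈ satC G A ↔ ∃ ρ : G.R, G.t ρ = u ∧ G.s ρ ∈ A := by
  constructor
  · rintro ⟨ρ, h1, h2⟩; exact ⟨ρ, h2, h1⟩
  · rintro ⟨ρ, h1, h2⟩; exact ⟨ρ, h2, h1⟩

theorem subset_satC (A : Set G.U) : A ⊆ satC G A := fun u hu =>
  (mem_satC G).2 ⟨G.e u, t_e_pt G u, by rw [s_e_pt]; exact hu⟩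

theorem isClosed_satC [IsFinite G.t] {A : Set G.U} (hA : IsClosed A) : IsClosed (satC G A) :=
  G.t.isClosedMap _ (hA.preimage G.s.continuous)

theorem satC_inv (A : Set G.U) : G.s ⁻¹' (satC G A) = G.t ⁻¹' (satC G A) := by
  ext ρ
  simp only [Set.mem_preimage, mem_satC]
  constructor
  · rintro ⟨ρ₁, h1, h2⟩
    obtain ⟨r₃, h3s, h3t⟩ := exists_comp_pt G ρ ρ₁ h1.symm
    exact ⟨r₃, h3t, by rw [h3s]; exact h2⟩
  · rintro ⟨ρ₁, h1, h2⟩
    obtain ⟨r₃, h3s, h3t⟩ := exists_comp_pt G (G.i ρ) ρ₁ (by rw [s_i_pt, h1])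
    exact ⟨r₃, by rw [h3t, t_i_pt], by rw [h3s]; exact h2⟩

variable (Sg : ℕ → Set G.U)

/-- the closed sets removed at each step. -/
def T' : ℕ → Set G.U
  | 0 => ∅
  | n + 1 => T' n ∪ satC G (closure (Sg (n + 1) ∪ T' n)ᶜ)

/-- the opens. -/
def Wset (n : ℕ) : Set G.U := (Sg (n + 1) ∪ T' G Sg n)ᶜ

theorem T'_succ (n : ℕ) : T' G Sg (n + 1) = T' G Sg n ∪ satC G (closure (Wset G Sg n)) := rfl

section
variable [IsFinite G.t] (hcl : ∀ n, IsClosed (Sg n))
include hcl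

theorem isClosed_T' (n : ℕ) : IsClosed (T' G Sg n) := by
  induction n with
  | zero => exact isClosed_empty
  | succ n ih =>
    rw [T'_succ]
    exact ih.union (isClosed_satC G isClosed_closure)

theorem isOpen_Wset (n : ℕ) : IsOpen (Wset G Sg n) :=
  ((hcl (n + 1)).union (isClosed_T' G Sg hcl n)).isOpen_compl

end

theorem T'_inv (n : ℕ) : G.s ⁻¹' (T' G Sg n) = G.t ⁻¹' (T' G Sg n) := by
  induction n with
  | zero => rfl
  | succ n ih =>
    rw [T'_succ, Set.preimage_union, Set.preimage_union, ih, satC_inv]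

theorem compl_Sg_subset_T' (h0 : Sg 0 = Set.univ) (n : ℕ) : (Sg n)ᶜ ⊆ T' G Sg n := by
  induction n with
  | zero => rw [h0, Set.compl_univ]; exact fun _ h => h.elim
  | succ n ih =>
    intro u hu
    rw [T'_succ]
    by_cases hT : u ∈ T' G Sg n
    · exact Or.inl hT
    · refine Or.inr (subset_satC G _ (subset_closure ?_))
      intro h
      rcases h with h | h
      · exact hu h
      · exact hT h

theorem Wset_subset (h0 : Sg 0 = Set.univ) (n : ℕ) : Wset G Sg n ⊆ Sg n \ Sg (n + 1) := by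
  intro u hu
  refine ⟨?_, fun h => hu (Or.inl h)⟩
  by_contra h
  exact hu (Or.inr (compl_Sg_subset_T' G Sg h0 n h))

theorem T'_subset (n : ℕ) (u : G.U) (hu : u ∈ T' G Sg n) :
    ∃ k, k < n ∧ u ∈ satC G (closure (Wset G Sg k)) := by
  induction n with
  | zero => exact hu.elim
  | succ n ih =>
    rw [T'_succ] at hu
    rcases hu with hu | hu
    · obtain ⟨k, hk, h⟩ := ih hu
      exact ⟨k, Nat.lt_succ_of_lt hk, h⟩
    · exact ⟨n, Nat.lt_succ_self n, hu⟩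

theorem topStmt : TopStmt.{u} := by
  intro S G _ _ Sg hcl hanti h0 hinter hinv
  refine ⟨fun n => ⟨Wset G Sg n, isOpen_Wset G Sg hcl n⟩, fun n => ?_, fun n => ?_, fun u => ?_,
    fun n u hu hρ => ?_⟩
  · ext ρ
    show G.s ρ ∈ Wset G Sg n ↔ G.t ρ ∈ Wset G Sg n
    have h1 : G.s ρ ∈ Sg (n + 1) ↔ G.t ρ ∈ Sg (n + 1) := by
      have := hinv (n + 1)
      exact ⟨fun h => (this ▸ (show ρ ∈ G.s ⁻¹' Sg (n + 1) from h) : ρ ∈ G.t ⁻¹' Sg (n + 1)),
        fun h => (this.symm ▸ (show ρ ∈ G.t ⁻¹' Sg (n + 1) from h) : ρ ∈ G.s ⁻¹' Sg (n + 1))⟩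
    have h2 : G.s ρ ∈ T' G Sg n ↔ G.t ρ ∈ T' G Sg n := by
      have := T'_inv G Sg n
      exact ⟨fun h => (this ▸ (show ρ ∈ G.s ⁻¹' T' G Sg n from h) : ρ ∈ G.t ⁻¹' T' G Sg n),
        fun h => (this.symm ▸ (show ρ ∈ G.t ⁻¹' T' G Sg n from h) : ρ ∈ G.s ⁻¹' T' G Sg n)⟩
    simp only [Wset, Set.mem_compl_iff, Set.mem_union, h1, h2]
  · exact Wset_subset G Sg h0 n
  · have hex : ∃ m, u ∉ Sg m := by
      by_contra h
      push Not at h
      have : u ∈ ⋂ n, Sg n := Set.mem_iInter.2 h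
      rw [hinter] at this
      exact this
    obtain ⟨m, hm⟩ := hex
    obtain ⟨k, -, hk⟩ := T'_subset G Sg m u (compl_Sg_subset_T' G Sg h0 m hm)
    obtain ⟨ρ, h1, h2⟩ := (mem_satC G).1 hk
    exact ⟨k, ρ, h1, h2⟩
  · show u ∈ Wset G Sg n
    intro h
    rcases h with h | h
    · exact hu.2 h
    · obtain ⟨k, hk, hk'⟩ := T'_subset G Sg n u h
      obtain ⟨ρ, h1, h2⟩ := (mem_satC G).1 hk'
      refine hρ ρ h1 (closure_mono ?_ h2)
      intro x hx
      have := (Wset_subset G Sg h0 k hx).2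
      exact fun hxn => this (hanti (Nat.succ_le_of_lt hk) hxn)

end Groth.Agent.R2.H96.GrpdFittTop
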