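import Mathlib
import Groth.Agent.S1909
import Groth.Agent.R2.H96GrpdThick
import Groth.Agent.R2.H96GrpdFitt2Spec
import Groth.Agent.R2.H86GrpdFitt2InvFin
import Groth.Agent.R2.H66GrpdFitt2AffGen

/-!
# PROJ:grpd-fitt, round 2 — assembly of S7466 / S7465 (helper96)
-/

set_option autoImplicit false
set_option linter.style.haveILetI false
set_option linter.unusedSectionVars false
universe u

open CategoryTheory CategoryTheory.Limits AlgebraicGeometry TopologicalSpace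
open Groth.Agent.R2.H96.GrpdThick Groth.Agent.R2.H33.GrpdInvOpen

namespace Groth.Agent.R2.H96.GrpdFitt2Asm

variable {S : Scheme.{u}} (G : Grpd.GroupoidScheme S)

/-- the union of the orbits of finitely many points. -/
def orbits {m : ℕ} (u : Fin m → G.U) : Set G.U := ⋃ i, G.t '' (G.s ⁻¹' {u i})

theorem finite_orbits [IsFinite G.s] {m : ℕ} (u : Fin m → G.U) : (orbits G u).Finite :=
  Set.finite_iUnion (fun i => (G.s.finite_preimage_singleton (u i)).image _)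

theorem mem_orbits_self {m : ℕ} (u : Fin m → G.U) (i : Fin m) : u i ∈ orbits G u :=
  Set.mem_iUnion.2 ⟨i, G.e (u i), s_e_pt G (u i), t_e_pt G (u i)⟩

theorem orbits_closed {m : ℕ} (u : Fin m → G.U) (o : G.U) (ho : o ∈ orbits G u) (r : G.R)
    (hr : G.s r = o) : G.t r ∈ orbits G u := by
  obtain ⟨i, r₀, hr₀, rfl⟩ := Set.mem_iUnion.1 ho
  obtain ⟨r₃, h1, h2⟩ := exists_comp_pt G r r₀ hr
  exact Set.mem_iUnion.2 ⟨i, r₃, h1.trans hr₀, h2⟩

theorem orbits_subset {m : ℕ} (u : Fin m → G.U) (W : G.U.Opens) (hW : G.s ⁻¹ᵁ W = G.t ⁻¹ᵁ W)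
    (hu : ∀ i, u i ∈ W) : orbits G u ⊆ W := by
  intro o ho
  obtain ⟨i, r, hr, rfl⟩ := Set.mem_iUnion.1 ho
  have h1 : r ∈ G.s ⁻¹ᵁ W := by
    show G.s r ∈ W
    rw [hr]; exact hu i
  rw [hW] at h1
  exact h1

theorem main_S7466 [IsFinite G.s] [LocallyOfFinitePresentation G.s] [IsFinite G.t]
    [LocallyOfFinitePresentation G.t] [QuasiSeparatedSpace G.U] (m : ℕ) (u : Fin m → G.U)
    (hu : ∀ i (r : G.R), G.s r = u i → ∀ x : G.U, x ⤳ G.t r → x = G.t r) :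
    ∃ (V : G.U.Opens) (V' : (↑V : Scheme.{u}).IdealSheafData), IsAffineOpen V ∧ (∀ i, u i ∈ V) ∧
      G.s ⁻¹ᵁ V = G.t ⁻¹ᵁ V ∧ V'.support = ⊤ ∧ LocallyOfFinitePresentation V'.subschemeι ∧
      (∃ φ : pullback G.s (V'.subschemeι ≫ V.ι) ≅ pullback G.t (V'.subschemeι ≫ V.ι),
        φ.hom ≫ pullback.fst G.t (V'.subschemeι ≫ V.ι) = pullback.fst G.s (V'.subschemeι ≫ V.ι)) ∧
      Mor2.IsFinLocFree (pullback.snd G.s (V'.subschemeι ≫ V.ι)) ∧
      Mor2.IsFinLocFree (pullback.snd G.t (V'.subschemeι ≫ V.ι)) := by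
  obtain ⟨W, J, hWinv, hJ, ⟨φ, hφ⟩, -, hs, ht, hlfp, hgen⟩ := Groth.Agent.S1909.result S G
  have huW : ∀ i, u i ∈ W := fun i => hgen (u i) (hu i)
  -- the restricted groupoid
  let G' : Grpd.GroupoidScheme S := restr G (ι' G W J) φ hφ
  haveI : IsFinite G'.s := hs.1
  haveI : Flat G'.s := hs.2.1
  haveI : LocallyOfFinitePresentation G'.s := hs.2.2
  haveI : QuasiSeparatedSpace J.subscheme := quasiSeparatedSpace_subscheme G W J hJ
  -- the orbits
  have hOfin := finite_orbits G u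
  have hOgen : ∀ o ∈ orbits G u, ∀ y : G.U, y ⤳ o → y = o := by
    intro o ho
    obtain ⟨i, r, hr, rfl⟩ := Set.mem_iUnion.1 ho
    exact hu i r hr
  let O' : Set J.subscheme := (ι' G W J) ⁻¹' (orbits G u)
  have hO'fin : O'.Finite := hOfin.preimage (ι'_injective G W J).injOn
  have hO'gen : ∀ x ∈ O', ∀ y : J.subscheme, y ⤳ x → y = x :=
    fun x hx => generic_of_ι' G W J x (hOgen _ hx)
  obtain ⟨V₁, hV₁aff, hO'V₁⟩ :=
    Groth.Agent.R2.H66.GrpdFitt2AffGen.affGenStmt O' hO'fin hO'gen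
  have horb : ∀ x ∈ O', ∀ r' : G'.R, G'.s r' = x → G'.t r' ∈ V₁ := by
    intro x hx r' hr'
    apply hO'V₁
    show ι' G W J (t' G (ι' G W J) φ r') ∈ orbits G u
    rw [ι_t'_pt G (ι' G W J) φ hφ]
    refine orbits_closed G u _ hx _ ?_
    rw [← ι_snd_pt]
    exact congrArg _ hr'
  obtain ⟨(V₀ : J.subscheme.Opens), hV₀aff, -, hO'V₀, hV₀inv⟩ :=
    Groth.Agent.R2.H86.GrpdFitt2InvFin.invFinStmt G' O' hO'fin V₁ hV₁aff horb
  -- transfer to `U`
  have hVW : img G W J hJ V₀ ≤ W := img_le G W J hJ V₀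
  have hVaff : IsAffineOpen (img G W J hJ V₀) := isAffineOpen_img G W J hJ V₀ hV₀aff
  have hVinv : G.s ⁻¹ᵁ img G W J hJ V₀ = G.t ⁻¹ᵁ img G W J hJ V₀ := by
    apply Opens.ext
    refine image_invariant G (ι' G W J) φ hφ (V₀ : Set J.subscheme) ?_
    exact congrArg (fun O : G'.R.Opens => (O : Set G'.R)) hV₀inv
  have huV : ∀ i, u i ∈ img G W J hJ V₀ := by
    intro i
    obtain ⟨x, hx⟩ := exists_ι'_eq G W J hJ (u i) (huW i)
    rw [← hx]
    refine (mem_img G W J hJ).2 (hO'V₀ ?_)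
    show ι' G W J x ∈ orbits G u
    rw [hx]
    exact mem_orbits_self G u i
  haveI := hlfp
  exact ⟨img G W J hJ V₀, JV G W J _ hVW, hVaff, huV, hVinv, support_JV G W J _ hVW hJ,
    lfp_JV G W J _ hVW, exists_iso_restrict G W J _ hVW φ hφ hVinv,
    isFinLocFree_restrict_s G W J _ hVW hs, isFinLocFree_restrict_t G W J _ hVW ht⟩

end Groth.Agent.R2.H96.GrpdFitt2Asm
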