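import Mathlib
import Groth.Agent.R2.H96GrpdFitt2Spec

/-!
# PROJ:grpd-fitt, round 2 — interface, part B (helper96)
-/

set_option autoImplicit false
universe u

open CategoryTheory CategoryTheory.Limits AlgebraicGeometry TopologicalSpace

namespace Groth.Agent.R2.H96.GrpdFitt2Spec

/-- **[J2SURJ]** (for S1885) passing `[IMMAFF]` to a closed subscheme of an open: if `j⁻¹ D(h₀) ⊆ V` is
affine with `Γ(Spec A, D(h₀)) ⟶ Γ(U, j⁻¹ D(h₀))` surjective, the same holds for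
`j'' = J.subschemeι ≫ V.ι ≫ j`.
Route: `j''⁻¹ D(h₀) = J.subschemeι ⁻¹ᵁ (V.ι ⁻¹ᵁ V₁)`, `V₁ := j⁻¹ D(h₀)`; `V.ι ⁻¹ᵁ V₁` is affine
(`IsAffineOpen` of an open `≤ V`: `IsAffineOpen.ι_preimage`/`Scheme.Opens.ι`-image lemmas) and
`V.ι.app V₁` is an isomorphism (`V₁ ≤ V`); a closed immersion is affine and surjective on sections over
affine opens (`IsClosedImmersion` ⇒ `IsAffineHom`, `HasAffineProperty` of `IsClosedImmersion`:
`IsClosedImmersion.isAffine_surjective_of_isAffine` applied to `J.subschemeι ∣_ _`);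
`Scheme.Hom.comp_app`. -/
def J2SurjStmt : Prop :=
  ∀ {U : Scheme.{u}} (V : U.Opens) (J : (↑V : Scheme.{u}).IdealSheafData) (A : Type u) [CommRing A]
    (j : U ⟶ Spec (CommRingCat.of A)) (h₀ : A), j ⁻¹ᵁ PrimeSpectrum.basicOpen h₀ ≤ V →
    IsAffineOpen (j ⁻¹ᵁ PrimeSpectrum.basicOpen h₀) →
    Function.Surjective (j.app (PrimeSpectrum.basicOpen h₀)).hom →
    IsAffineOpen ((J.subschemeι ≫ V.ι ≫ j) ⁻¹ᵁ PrimeSpectrum.basicOpen h₀) ∧
      Function.Surjective ((J.subschemeι ≫ V.ι ≫ j).app (PrimeSpectrum.basicOpen h₀)).hom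

end Groth.Agent.R2.H96.GrpdFitt2Spec
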