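import Mathlib
import Groth.Agent.R2.H96GrpdFitt2SpecB

/-!
# PROJ:grpd-fitt, round 2 — package [J2SURJ] (helper96)
-/

set_option autoImplicit false
universe u

open CategoryTheory CategoryTheory.Limits AlgebraicGeometry TopologicalSpace

namespace Groth.Agent.R2.H96.GrpdFitt2J2

open Groth.Agent.R2.H96.GrpdFitt2Spec

theorem j2SurjStmt : J2SurjStmt.{u} := by
  intro U V J A _ j h₀ hle haff hsurj
  have hle' : j ⁻¹ᵁ PrimeSpectrum.basicOpen h₀ ≤ V.ι.opensRange := by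
    rw [Scheme.Opens.opensRange_ι]; exact hle
  have hV₂ : IsAffineOpen (V.ι ⁻¹ᵁ (j ⁻¹ᵁ PrimeSpectrum.basicOpen h₀)) :=
    haff.preimage_of_isOpenImmersion V.ι hle'
  refine ⟨hV₂.preimage J.subschemeι, ?_⟩
  have e : (J.subschemeι ≫ V.ι ≫ j).app (PrimeSpectrum.basicOpen h₀) =
      j.app (PrimeSpectrum.basicOpen h₀) ≫ V.ι.app (j ⁻¹ᵁ PrimeSpectrum.basicOpen h₀) ≫
        J.subschemeι.app (V.ι ⁻¹ᵁ (j ⁻¹ᵁ PrimeSpectrum.basicOpen h₀)) := rfl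
  rw [e]
  haveI : IsIso (V.ι.app (j ⁻¹ᵁ PrimeSpectrum.basicOpen h₀)) := V.ι.isIso_app _ hle'
  have h2 : Function.Surjective (V.ι.app (j ⁻¹ᵁ PrimeSpectrum.basicOpen h₀)).hom :=
    (ConcreteCategory.bijective_of_isIso (V.ι.app (j ⁻¹ᵁ PrimeSpectrum.basicOpen h₀))).2
  have h3 := J.subschemeι_app_surjective ⟨_, hV₂⟩
  simp only [CommRingCat.hom_comp, RingHom.coe_comp]
  exact h3.comp (h2.comp hsurj)

end Groth.Agent.R2.H96.GrpdFitt2J2
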