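import Mathlib
import Groth.Agent.S7466
import Groth.Agent.R2.H96GrpdThick
import Groth.Agent.R2.H96GrpdFitt2Spec
import Groth.Agent.R2.H96GrpdFitt2SpecB
import Groth.Agent.R2.H96GrpdFitt2J2
import Groth.Agent.R2.H96GrpdFitt2Asm
import Groth.Agent.R2.H86GrpdFitt2ImmAff
import Groth.Agent.R2.H94GrpdFitt2NormLift
import Groth.Agent.R2.H66GrpdFitt2PrimeAvoid

/-!
# PROJ:grpd-fitt, round 2 — assembly of S1885 (helper66, plan by helper96)
-/

set_option autoImplicit false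
set_option linter.style.haveILetI false
set_option linter.unusedSectionVars false
universe u

open CategoryTheory CategoryTheory.Limits AlgebraicGeometry TopologicalSpace
open Groth.Agent.R2.H96.GrpdThick Groth.Agent.R2.H33.GrpdInvOpen
open Groth.Agent.R2.H96.GrpdFitt2Asm Groth.Agent.R2.H96.GrpdFitt2Spec

namespace Groth.Agent.R2.H66.GrpdFitt2Asm2

variable {S : Scheme.{u}} (G : Grpd.GroupoidScheme S)

theorem quasiSeparatedSpace_of_immersion {U : Scheme.{u}} (A : Type u) [CommRing A]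
    (j : U ⟶ Spec (CommRingCat.of A)) [IsImmersion j] : QuasiSeparatedSpace U :=
  quasiSeparatedSpace_of_quasiSeparated j

theorem main_S1885 [IsFinite G.s] [LocallyOfFinitePresentation G.s]
    [IsFinite G.t] [LocallyOfFinitePresentation G.t] (m : ℕ) (u : Fin m → G.U)
    (hu : ∀ i (r : G.R), G.s r = u i → ∀ x : G.U, x ⤳ G.t r → x = G.t r) (A : Type u) [CommRing A]
    (j : G.U ⟶ Spec (CommRingCat.of A)) [IsImmersion j] (I : Ideal A)
    (hI : ∀ x : G.U, j x ∉ PrimeSpectrum.zeroLocus (I : Set A))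
    (hcl : IsClosed (PrimeSpectrum.zeroLocus (I : Set A) ∪ Set.range j)) :
    ∃ h ∈ I, IsAffineOpen (j ⁻¹ᵁ PrimeSpectrum.basicOpen h) ∧
      (∀ i, u i ∈ j ⁻¹ᵁ PrimeSpectrum.basicOpen h) ∧
      G.s ⁻¹ᵁ (j ⁻¹ᵁ PrimeSpectrum.basicOpen h) = G.t ⁻¹ᵁ (j ⁻¹ᵁ PrimeSpectrum.basicOpen h) := by
  haveI : QuasiSeparatedSpace G.U := quasiSeparatedSpace_of_immersion A j
  obtain ⟨V, V', hVaff, huV, hVinv, hsupp, hlfp, ⟨φ, hφ⟩, hs, ht⟩ :=
    Groth.Agent.S7466.result S G m u hu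
  -- the restricted groupoid
  let G'' : Grpd.GroupoidScheme S := restr G (ι' G V V') φ hφ
  haveI : IsFinite G''.s := hs.1
  haveI : Flat G''.s := hs.2.1
  haveI : LocallyOfFinitePresentation G''.s := hs.2.2
  -- (1) the orbits and prime avoidance
  have hOfin := finite_orbits G u
  have hOV : orbits G u ⊆ (V : Set G.U) := orbits_subset G u V hVinv huV
  obtain ⟨h₀, hh₀, hOh₀, hh₀V⟩ :=
    Groth.Agent.R2.H66.GrpdFitt2PrimeAvoid.primeAvoidStmt A j I hI hcl V (orbits G u) hOfin hOV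
  -- (2) IMMAFF + J2SURJ
  obtain ⟨haff₀, hsurj₀⟩ := Groth.Agent.R2.H86.GrpdFitt2ImmAff.immAffStmt A j I hcl h₀ hh₀
  obtain ⟨haff₂, hsurj₂⟩ :=
    Groth.Agent.R2.H96.GrpdFitt2J2.j2SurjStmt V V' A j h₀ hh₀V haff₀ hsurj₀
  -- (3) NORMLIFT
  obtain ⟨a, ha⟩ := Groth.Agent.R2.H94.GrpdFitt2NormLift.normLiftStmt G'' A
    (V'.subschemeι ≫ V.ι ≫ j) h₀ haff₂ hsurj₂
  have hjpt : ∀ x : V'.subscheme, (V'.subschemeι ≫ V.ι ≫ j) x = j (ι' G V V' x) := by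
    intro x
    rw [← Category.assoc, Scheme.Hom.comp_apply]
  have hhI : a * h₀ ∈ I := I.mul_mem_left a hh₀
  have hle : ∀ w : G.U, w ∈ j ⁻¹ᵁ PrimeSpectrum.basicOpen (a * h₀) →
      w ∈ j ⁻¹ᵁ PrimeSpectrum.basicOpen h₀ := by
    intro w hw
    have hw' : j w ∈ PrimeSpectrum.basicOpen (a * h₀) := hw
    rw [PrimeSpectrum.basicOpen_mul] at hw'
    exact hw'.2
  -- the key identity
  have key : ((j ⁻¹ᵁ PrimeSpectrum.basicOpen (a * h₀) : G.U.Opens) : Set G.U) =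
      ι' G V V' '' (sat G'' (((V'.subschemeι ≫ V.ι ≫ j) ⁻¹ᵁ PrimeSpectrum.basicOpen h₀ :
        V'.subscheme.Opens) : Set V'.subscheme)) := by
    ext w
    constructor
    · intro hw
      obtain ⟨x, hx⟩ := exists_ι'_eq G V V' hsupp w (hh₀V (hle w hw))
      refine ⟨x, (Set.ext_iff.1 ha x).1 ?_, hx⟩
      show (V'.subschemeι ≫ V.ι ≫ j) x ∈ PrimeSpectrum.basicOpen (a * h₀)
      rw [hjpt, hx]
      exact hw
    · rintro ⟨x, hx, rfl⟩
      have hx' : (V'.subschemeι ≫ V.ι ≫ j) x ∈ PrimeSpectrum.basicOpen (a * h₀) :=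
        (Set.ext_iff.1 ha x).2 hx
      rw [hjpt] at hx'
      exact hx'
  refine ⟨a * h₀, hhI,
    (Groth.Agent.R2.H86.GrpdFitt2ImmAff.immAffStmt A j I hcl (a * h₀) hhI).1, ?_, ?_⟩
  · intro i
    show u i ∈ ((j ⁻¹ᵁ PrimeSpectrum.basicOpen (a * h₀) : G.U.Opens) : Set G.U)
    rw [key]
    obtain ⟨x, hx⟩ := exists_ι'_eq G V V' hsupp (u i) (huV i)
    refine ⟨x, ?_, hx⟩
    intro r' hr'
    show (V'.subschemeι ≫ V.ι ≫ j) (t' G (ι' G V V') φ r') ∈ PrimeSpectrum.basicOpen h₀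
    rw [hjpt, ι_t'_pt G (ι' G V V') φ hφ]
    refine hOh₀ _ (Set.mem_iUnion.2 ⟨i, pullback.fst G.s (ι' G V V') r', ?_, rfl⟩)
    show G.s (pullback.fst G.s (ι' G V V') r') = u i
    rw [← ι_snd_pt, ← hx]
    exact congrArg _ hr'
  · apply Opens.ext
    show G.s ⁻¹' ((j ⁻¹ᵁ PrimeSpectrum.basicOpen (a * h₀) : G.U.Opens) : Set G.U) =
      G.t ⁻¹' ((j ⁻¹ᵁ PrimeSpectrum.basicOpen (a * h₀) : G.U.Opens) : Set G.U)
    rw [key]
    exact image_invariant G (ι' G V V') φ hφ _ (sat_invariant G'' _)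

end Groth.Agent.R2.H66.GrpdFitt2Asm2
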