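import Mathlib
import Groth.Prelude.Def_Grpd
import Groth.Agent.R2.H53GrpdRestr
import Groth.Agent.R2.H96GrpdFitt3Spec

/-!
# PROJ:grpd-fitt, round 3 — [RESTRMONO] (helper66)

The restriction of a groupoid scheme `G` along a monomorphism `ι : Z ⟶ G.U`: arrows
`R' = s⁻¹ Z ∩ t⁻¹ Z = pullback (pullback.fst G.s ι ≫ G.t) ι`.
-/

set_option autoImplicit false
set_option linter.unusedSectionVars false
universe u

open CategoryTheory CategoryTheory.Limits AlgebraicGeometry
open Groth.Agent.R2.H53.GrpdRestr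

namespace Groth.Agent.R2.H66.GrpdFitt3RestrMono

variable {S : Scheme.{u}} (G : Grpd.GroupoidScheme S) {Z : Scheme.{u}} (ι : Z ⟶ G.U)

/-- `s⁻¹ Z ∩ t⁻¹ Z`. -/
noncomputable abbrev R' : Scheme.{u} := pullback (pullback.fst G.s ι ≫ G.t) ι

/-- the inclusion of the arrows. -/
noncomputable abbrev ιR : R' G ι ⟶ G.R :=
  pullback.fst (pullback.fst G.s ι ≫ G.t) ι ≫ pullback.fst G.s ι

/-- the restricted source. -/
noncomputable abbrev s' : R' G ι ⟶ Z :=
  pullback.fst (pullback.fst G.s ι ≫ G.t) ι ≫ pullback.snd G.s ι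

/-- the restricted target. -/
noncomputable abbrev t' : R' G ι ⟶ Z := pullback.snd (pullback.fst G.s ι ≫ G.t) ι

lemma hs : s' G ι ≫ ι = ιR G ι ≫ G.s := by
  rw [Category.assoc, Category.assoc, pullback.condition]

lemma ht : t' G ι ≫ ι = ιR G ι ≫ G.t := by
  rw [Category.assoc, ← pullback.condition]

/-- maps into `R'`. -/
noncomputable def liftR {T : Scheme.{u}} (α : T ⟶ G.R) (a b : T ⟶ Z) (ha : α ≫ G.s = a ≫ ι)
    (hb : α ≫ G.t = b ≫ ι) : T ⟶ R' G ι :=
  pullback.lift (pullback.lift α a ha) b (by rw [← Category.assoc, pullback.lift_fst, hb])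

section
variable {T : Scheme.{u}} (α : T ⟶ G.R) (a b : T ⟶ Z) (ha : α ≫ G.s = a ≫ ι)
  (hb : α ≫ G.t = b ≫ ι)

lemma liftR_ιR : liftR G ι α a b ha hb ≫ ιR G ι = α := by
  unfold liftR
  rw [← Category.assoc, pullback.lift_fst, pullback.lift_fst]

lemma liftR_s' : liftR G ι α a b ha hb ≫ s' G ι = a := by
  unfold liftR
  rw [← Category.assoc, pullback.lift_fst, pullback.lift_snd]

lemma liftR_t' : liftR G ι α a b ha hb ≫ t' G ι = b := by
  unfold liftR
  rw [pullback.lift_snd]

end

/-- `c (α, β)` has the target of `α`, universally. -/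
lemma c_t_univ : G.c ≫ G.t = pullback.fst G.s G.t ≫ G.t := by
  have h := G.comp_t (pullback.fst G.s G.t) (pullback.snd G.s G.t) pullback.condition
  have e : pullback.lift (pullback.fst G.s G.t) (pullback.snd G.s G.t) pullback.condition =
      𝟙 (pullback G.s G.t) := by
    apply pullback.hom_ext <;> simp
  rw [e, Category.id_comp] at h
  exact h

/-- the restriction data. -/
noncomputable def data : RestrData₂ G ι (ιR G ι) where
  s' := s' G ι
  t' := t' G ι
  hs := hs G ι
  ht := ht G ι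
  e' := liftR G ι (ι ≫ G.e) (𝟙 Z) (𝟙 Z)
    (by rw [Category.assoc, G.e_s, Category.comp_id, Category.id_comp])
    (by rw [Category.assoc, G.e_t, Category.comp_id, Category.id_comp])
  he := liftR_ιR G ι _ _ _ _ _
  i' := liftR G ι (ιR G ι ≫ G.i) (t' G ι) (s' G ι)
    (by rw [Category.assoc, G.i_s, ht])
    (by rw [Category.assoc, G.i_t, hs])
  hi := liftR_ιR G ι _ _ _ _ _
  c' := liftR G ι
    (pullback.map (s' G ι) (t' G ι) G.s G.t (ιR G ι) (ιR G ι) ι (hs G ι) (ht G ι) ≫ G.c)
    (pullback.snd (s' G ι) (t' G ι) ≫ s' G ι) (pullback.fst (s' G ι) (t' G ι) ≫ t' G ι)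
    (by
      rw [Category.assoc, c_s_univ, ← Category.assoc, pullback.lift_snd]
      simp only [Category.assoc]
      rw [pullback.condition])
    (by
      rw [Category.assoc, c_t_univ, ← Category.assoc, pullback.lift_fst]
      simp only [Category.assoc]
      rw [pullback.condition])
  hc := liftR_ιR G ι _ _ _ _ _

instance [Mono ι] : Mono (ιR G ι) := mono_comp _ _

theorem restrMonoStmt : Groth.Agent.R2.H96.GrpdFitt3Spec.RestrMonoStmt.{u} := by
  intro S G _ _ Z ι _
  refine ⟨restrict₂ (data G ι), restrictHom₂ (data G ι), ?_, rfl, ?_, ?_, ?_⟩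
  · show IsClosedImmersion ι
    infer_instance
  · show IsFinite (s' G ι)
    infer_instance
  · show IsFinite (t' G ι)
    infer_instance
  · intro r z z' h1 h2
    obtain ⟨r₁, hr₁, hr₁'⟩ :=
      Scheme.Pullback.exists_preimage_pullback (f := G.s) (g := ι) r z h1
    have h3 : (pullback.fst G.s ι ≫ G.t) r₁ = ι z' := by
      rw [Scheme.Hom.comp_apply, hr₁, h2]
      rfl
    obtain ⟨r', hr', hr''⟩ :=
      Scheme.Pullback.exists_preimage_pullback (f := pullback.fst G.s ι ≫ G.t) (g := ι) r₁ z' h3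
    refine ⟨r', ?_, ?_, hr''⟩
    · show (ιR G ι) r' = r
      rw [Scheme.Hom.comp_apply, hr', hr₁]
    · show (s' G ι) r' = z
      rw [Scheme.Hom.comp_apply, hr', hr₁']

end Groth.Agent.R2.H66.GrpdFitt3RestrMono
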