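import Mathlib
import Groth.Agent.R2.H66GrpdFitt2Asm2
import Groth.Agent.R2.H96GrpdFitt3Spec

/-!
# PROJ:grpd-fitt, round 3 — [S1885STRONG] (helper66)

S1885 together with the invariant thickening-closed subscheme of `j⁻¹ D(h)` on which the groupoid is
finite locally free.
-/

set_option autoImplicit false
set_option linter.style.haveILetI false
set_option linter.unusedSectionVars false
universe u

open CategoryTheory CategoryTheory.Limits AlgebraicGeometry TopologicalSpace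
open Groth.Agent.R2.H96.GrpdThick Groth.Agent.R2.H33.GrpdInvOpen
open Groth.Agent.R2.H96.GrpdFitt2Asm Groth.Agent.R2.H96.GrpdFitt2Spec

namespace Groth.Agent.R2.H66.GrpdFitt3Strong

theorem s1885StrongStmt : Groth.Agent.R2.H96.GrpdFitt3Spec.S1885StrongStmt.{u} := by
  intro S G _ _ _ _ m u hu A _ j _ I hI hcl
  haveI : QuasiSeparatedSpace G.U :=
    Groth.Agent.R2.H66.GrpdFitt2Asm2.quasiSeparatedSpace_of_immersion A j
  obtain ⟨V, V', hVaff, huV, hVinv, hsupp, hlfp, ⟨φ, hφ⟩, hs, ht⟩ :=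
    Groth.Agent.S7466.result S G m u hu
  -- the restricted groupoid
  let G'' : Grpd.GroupoidScheme S := restr G (ι' G V V') φ hφ
  haveI : IsFinite G''.s := hs.1
  haveI : Flat G''.s := hs.2.1
  haveI : LocallyOfFinitePresentation G''.s := hs.2.2
  -- (1) the orbits and prime avoidance
  have hOfin := finite_orbits G u
  have hOV : orbits G u ⊆ (V : Set G.U) := orbits_subset G u V hVinv huV
  obtain ⟨h₀, hh₀, hOh₀, hh₀V⟩ :=
    Groth.Agent.R2.H66.GrpdFitt2PrimeAvoid.primeAvoidStmt A j I hI hcl V (orbits G u) hOfin hOV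
  -- (2) IMMAFF + J2SURJ
  obtain ⟨haff₀, hsurj₀⟩ := Groth.Agent.R2.H86.GrpdFitt2ImmAff.immAffStmt A j I hcl h₀ hh₀
  obtain ⟨haff₂, hsurj₂⟩ :=
    Groth.Agent.R2.H96.GrpdFitt2J2.j2SurjStmt V V' A j h₀ hh₀V haff₀ hsurj₀
  -- (3) NORMLIFT
  obtain ⟨a, ha⟩ := Groth.Agent.R2.H94.GrpdFitt2NormLift.normLiftStmt G'' A
    (V'.subschemeι ≫ V.ι ≫ j) h₀ haff₂ hsurj₂
  have hjpt : ∀ x : V'.subscheme, (V'.subschemeι ≫ V.ι ≫ j) x = j (ι' G V V' x) := by
    intro x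
    rw [← Category.assoc, Scheme.Hom.comp_apply]
  have hhI : a * h₀ ∈ I := I.mul_mem_left a hh₀
  have hle : ∀ w : G.U, w ∈ j ⁻¹ᵁ PrimeSpectrum.basicOpen (a * h₀) →
      w ∈ j ⁻¹ᵁ PrimeSpectrum.basicOpen h₀ := by
    intro w hw
    have hw' : j w ∈ PrimeSpectrum.basicOpen (a * h₀) := hw
    rw [PrimeSpectrum.basicOpen_mul] at hw'
    exact hw'.2
  -- the key identity
  have key : ((j ⁻¹ᵁ PrimeSpectrum.basicOpen (a * h₀) : G.U.Opens) : Set G.U) =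
      ι' G V V' '' (sat G'' (((V'.subschemeι ≫ V.ι ≫ j) ⁻¹ᵁ PrimeSpectrum.basicOpen h₀ :
        V'.subscheme.Opens) : Set V'.subscheme)) := by
    ext w
    constructor
    · intro hw
      obtain ⟨x, hx⟩ := exists_ι'_eq G V V' hsupp w (hh₀V (hle w hw))
      refine ⟨x, (Set.ext_iff.1 ha x).1 ?_, hx⟩
      show (V'.subschemeι ≫ V.ι ≫ j) x ∈ PrimeSpectrum.basicOpen (a * h₀)
      rw [hjpt, hx]
      exact hw
    · rintro ⟨x, hx, rfl⟩
      have hx' : (V'.subschemeι ≫ V.ι ≫ j) x ∈ PrimeSpectrum.basicOpen (a * h₀) :=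
        (Set.ext_iff.1 ha x).2 hx
      rw [hjpt] at hx'
      exact hx'
  have hui : ∀ i, u i ∈ j ⁻¹ᵁ PrimeSpectrum.basicOpen (a * h₀) := by
    intro i
    show u i ∈ ((j ⁻¹ᵁ PrimeSpectrum.basicOpen (a * h₀) : G.U.Opens) : Set G.U)
    rw [key]
    obtain ⟨x, hx⟩ := exists_ι'_eq G V V' hsupp (u i) (huV i)
    refine ⟨x, ?_, hx⟩
    intro r' hr'
    show (V'.subschemeι ≫ V.ι ≫ j) (t' G (ι' G V V') φ r') ∈ PrimeSpectrum.basicOpen h₀
    rw [hjpt, ι_t'_pt G (ι' G V V') φ hφ]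
    refine hOh₀ _ (Set.mem_iUnion.2 ⟨i, pullback.fst G.s (ι' G V V') r', ?_, rfl⟩)
    show G.s (pullback.fst G.s (ι' G V V') r') = u i
    rw [← ι_snd_pt, ← hx]
    exact congrArg _ hr'
  have hWinv : G.s ⁻¹ᵁ (j ⁻¹ᵁ PrimeSpectrum.basicOpen (a * h₀)) =
      G.t ⁻¹ᵁ (j ⁻¹ᵁ PrimeSpectrum.basicOpen (a * h₀)) := by
    apply Opens.ext
    show G.s ⁻¹' ((j ⁻¹ᵁ PrimeSpectrum.basicOpen (a * h₀) : G.U.Opens) : Set G.U) =
      G.t ⁻¹' ((j ⁻¹ᵁ PrimeSpectrum.basicOpen (a * h₀) : G.U.Opens) : Set G.U)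
    rw [key]
    exact image_invariant G (ι' G V V') φ hφ _ (sat_invariant G'' _)
  have hWV : j ⁻¹ᵁ PrimeSpectrum.basicOpen (a * h₀) ≤ V := fun w hw => hh₀V (hle w hw)
  exact ⟨a * h₀, hhI,
    (Groth.Agent.R2.H86.GrpdFitt2ImmAff.immAffStmt A j I hcl (a * h₀) hhI).1, hui, hWinv,
    JV G V V' _ hWV, support_JV G V V' _ hWV hsupp, exists_iso_restrict G V V' _ hWV φ hφ hWinv,
    isFinLocFree_restrict_s G V V' _ hWV hs, isFinLocFree_restrict_t G V V' _ hWV ht⟩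

end Groth.Agent.R2.H66.GrpdFitt3Strong
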