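import Groth.Agent.R2.H66Cofinite
import Mathlib.CategoryTheory.Abelian.Indization
import Mathlib.CategoryTheory.Subobject.ArtinianObject
import Mathlib.CategoryTheory.Limits.Preserves.Shapes.Kernels

/-!
# The class of objects of `C` inside `Ind C`

For a small abelian category `C` all of whose objects are Artinian, the essential image of
`Ind.yoneda : C ⥤ Ind C` is a `Setup` in the sense of `H66Cofinite`; and the `Union` property holds
for multipliers which kill the objects of `C`.
-/

set_option autoImplicit false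
universe v
open CategoryTheory CategoryTheory.Limits

namespace Groth.Agent.R2.H66.IndYoneda

open Groth.Agent.R2.H66.FMChase Groth.Agent.R2.H66.Cofinite

section General

universe v₁ u₁ v₂ u₂

variable {C : Type u₁} [Category.{v₁} C] [Abelian C] {D : Type u₂} [Category.{v₂} D] [Abelian D]
  (y : C ⥤ D) [y.Full] [y.Faithful] [PreservesFiniteLimits y] [PreservesFiniteColimits y]

include y in
lemma essImage_kernel {X Y : D} (g : X ⟶ Y) (hX : y.essImage X) (hY : y.essImage Y) :
    y.essImage (kernel g) := by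
  obtain ⟨X₀, ⟨eX⟩⟩ := hX
  obtain ⟨Y₀, ⟨eY⟩⟩ := hY
  let g₀ : X₀ ⟶ Y₀ := y.preimage (eX.hom ≫ g ≫ eY.inv)
  have hg₀ : y.map g₀ = eX.hom ≫ g ≫ eY.inv := y.map_preimage _
  refine ⟨kernel g₀, ⟨PreservesKernel.iso y g₀ ≪≫ kernel.mapIso (y.map g₀) g eX eY ?_⟩⟩
  rw [hg₀]
  simp

include y in
lemma essImage_cokernel {X Y : D} (g : X ⟶ Y) (hX : y.essImage X) (hY : y.essImage Y) :
    y.essImage (cokernel g) := by
  obtain ⟨X₀, ⟨eX⟩⟩ := hX
  obtain ⟨Y₀, ⟨eY⟩⟩ := hY
  let g₀ : X₀ ⟶ Y₀ := y.preimage (eX.hom ≫ g ≫ eY.inv)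
  have hg₀ : y.map g₀ = eX.hom ≫ g ≫ eY.inv := y.map_preimage _
  refine ⟨cokernel g₀, ⟨PreservesCokernel.iso y g₀ ≪≫ cokernel.mapIso (y.map g₀) g eX eY ?_⟩⟩
  rw [hg₀]
  simp

include y in
/-- descending chains of subobjects in the essential image of `y` stabilise when the objects of
`C` are Artinian -/
lemma essImage_artin (hart : ∀ X : C, IsArtinianObject X) (A : D) (c : ℕ → Subobject A)
    (hc : Antitone c) (hP : ∀ n, y.essImage (c n : D)) :
    ∃ N, ∀ n, N ≤ n → c n = c N := by
  classical
  choose X e using fun n => hP n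
  replace e : ∀ n, y.obj (X n) ≅ (c n : D) := fun n => (e n).some
  -- the monomorphisms `X n ⟶ X 0`
  let j : ∀ n, X n ⟶ X 0 := fun n =>
    y.preimage ((e n).hom ≫ (c n).ofLE (c 0) (hc (Nat.zero_le n)) ≫ (e 0).inv)
  have hj : ∀ n, y.map (j n) = (e n).hom ≫ (c n).ofLE (c 0) (hc (Nat.zero_le n)) ≫ (e 0).inv :=
    fun n => y.map_preimage _
  have hjmono : ∀ n, Mono (j n) := fun n => by
    have : Mono (y.map (j n)) := by
      rw [hj n]
      infer_instance
    exact y.mono_of_mono_map this
  let s : ℕ → Subobject (X 0) := fun n => @Subobject.mk _ _ _ _ (j n) (hjmono n)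
  have hs : ∀ a b : ℕ, a ≤ b → s b ≤ s a := by
    intro a b hab
    let k : X b ⟶ X a := y.preimage ((e b).hom ≫ (c b).ofLE (c a) (hc hab) ≫ (e a).inv)
    have hk : k ≫ j a = j b := by
      apply y.map_injective
      rw [y.map_comp, hj a, hj b, y.map_preimage]
      simp
    exact @Subobject.mk_le_mk_of_comm _ _ _ _ _ _ _ (hjmono b) (hjmono a) k hk
  -- the chain condition in `C`
  have hwf := hart (X 0)
  obtain ⟨N, hN⟩ := antitone_chain_condition_of_isArtinianObject (X := X 0)
    ⟨fun n => OrderDual.toDual (s n), fun a b hab => hs a b hab⟩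
  refine ⟨N, fun n hn => ?_⟩
  have hsN : s N = s n := hN n hn
  refine le_antisymm (hc hn) ?_
  -- build the map `c N ⟶ c n`
  have hle : s N ≤ s n := hsN.le
  let l : X N ⟶ X n := @Subobject.ofMkLEMk _ _ _ _ _ (j N) (j n) (hjmono N) (hjmono n) hle
  have hl : l ≫ j n = j N :=
    @Subobject.ofMkLEMk_comp _ _ _ _ _ (j N) (j n) (hjmono N) (hjmono n) hle
  refine Subobject.le_of_comm ((e N).inv ≫ y.map l ≫ (e n).hom) ?_
  have h1 : (c n).arrow = (c n).ofLE (c 0) (hc (Nat.zero_le n)) ≫ (c 0).arrow := by simp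
  have h2 : (c N).arrow = (c N).ofLE (c 0) (hc (Nat.zero_le N)) ≫ (c 0).arrow := by simp
  have h3 : (e n).hom ≫ (c n).ofLE (c 0) (hc (Nat.zero_le n)) = y.map (j n) ≫ (e 0).hom := by
    rw [hj n]
    simp
  have h4 : (e N).hom ≫ (c N).ofLE (c 0) (hc (Nat.zero_le N)) = y.map (j N) ≫ (e 0).hom := by
    rw [hj N]
    simp
  rw [h1, h2, Category.assoc, Category.assoc, reassoc_of% h3, ← y.map_comp_assoc, hl,
    ← reassoc_of% h4]
  simp

include y in
/-- the setup attached to a full, faithful and exact functor from a category of Artinian objects -/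
def setupOf (hart : ∀ X : C, IsArtinianObject X) : Setup D where
  P := fun X => y.essImage X
  P_iso := fun e h => Functor.essImage.ofIso e h
  P_kernel := fun g hX hY => essImage_kernel y g hX hY
  P_cokernel := fun g hX hY => essImage_cokernel y g hX hY
  artin := fun A c hc hP => essImage_artin y hart A c hc hP

end General

section IndCase

variable {C : Type v} [SmallCategory C] [Abelian C]

/-- the setup on `Ind C` -/
noncomputable def setup (hart : ∀ X : C, IsArtinianObject X) : Setup (Ind C) :=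
  setupOf (Ind.yoneda (C := C)) hart

@[simp] lemma setup_P (hart : ∀ X : C, IsArtinianObject X) (A : Ind C) :
    (setup hart).P A ↔ (Ind.yoneda (C := C)).essImage A := Iff.rfl

/-- a mono into `A` through which all the "points" `yoneda X ⟶ A` factor is an epimorphism -/
lemma epi_of_forall_factors (A B : Ind C) (i : B ⟶ A) [Mono i]
    (h : ∀ (X : C) (f : Ind.yoneda.obj X ⟶ A), ∃ g : Ind.yoneda.obj X ⟶ B, g ≫ i = f) :
    Epi i := by
  classical
  let P := A.presentation
  let e : colimit (P.F ⋙ Ind.yoneda) ≅ A := Ind.colimitPresentationCompYoneda A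
  choose g hg using fun k : P.I => h (P.F.obj k) (colimit.ι (P.F ⋙ Ind.yoneda) k ≫ e.hom)
  let cc : Cocone (P.F ⋙ Ind.yoneda) :=
    { pt := B
      ι :=
        { app := fun k => g k
          naturality := by
            intro k k' φ
            rw [← cancel_mono i]
            simp only [Functor.const_obj_obj, Functor.const_obj_map, Category.comp_id,
              Category.assoc, hg]
            rw [← Category.assoc, colimit.w] } }
  let σ : A ⟶ B := e.inv ≫ colimit.desc _ cc
  have hσ : σ ≫ i = 𝟙 A := by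
    rw [← cancel_epi e.hom]
    apply colimit.hom_ext
    intro k
    simp only [σ, Category.assoc, Iso.hom_inv_id_assoc, colimit.ι_desc_assoc, Category.comp_id]
    exact hg k
  exact ⟨fun u w huw => by
    have := congrArg (fun t => σ ≫ t) huw
    simpa [← Category.assoc, hσ] using this⟩

/-- morphisms from an object killed by `k` land in the `k`-torsion -/
lemma exists_lift_T {X : C} (k : ℕ) (hk : k • 𝟙 X = 0) (A : Ind C)
    (f : Ind.yoneda.obj X ⟶ A) : ∃ g : Ind.yoneda.obj X ⟶ T k A, g ≫ ιT k A = f := by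
  refine ⟨kernel.lift _ f ?_, kernel.lift_ι _ _ _⟩
  have h1 : f ≫ (k • 𝟙 A) = (k • 𝟙 (Ind.yoneda.obj X)) ≫ f := by
    simp
  have h2 : k • 𝟙 (Ind.yoneda.obj X) = 0 := by
    haveI : (Ind.yoneda (C := C)).Additive := Functor.additive_of_preserves_binary_products _
    have := congrArg (fun t => (Ind.yoneda (C := C)).map t) hk
    simpa [Functor.map_nsmul] using this
  rw [h1, h2, zero_comp]

/-- the `Union` property for a power of `p`, when all objects of `C` are `p`-power torsion -/
theorem union_prime_pow (p : ℕ) (htor : ∀ X : C, ∃ n : ℕ, (p ^ n) • 𝟙 X = 0) (n : ℕ) :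
    Union (D := Ind C) (p ^ n) := by
  intro A B i _ h1 h2
  by_cases hn : n = 0
  · subst hn
    obtain ⟨h, hh⟩ := h1
    simp only [pow_zero, one_smul] at hh
    exact ⟨fun u w huw => by
      have := congrArg (fun t => h ≫ t) huw
      simpa [← Category.assoc, hh] using this⟩
  · refine epi_of_forall_factors A B i (fun X f => ?_)
    obtain ⟨m, hm⟩ := htor X
    -- `X` is killed by `(p^n)^m`
    have hm' : ((p ^ n) ^ m) • 𝟙 X = 0 := by
      have hdvd : p ^ m ∣ (p ^ n) ^ m := by
        rw [← pow_mul]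
        exact pow_dvd_pow p (Nat.le_mul_of_pos_left m (Nat.pos_of_ne_zero hn))
      obtain ⟨d, hd⟩ := hdvd
      rw [hd, mul_comm, mul_smul, hm, smul_zero]
    obtain ⟨g, hg⟩ := exists_lift_T _ hm' A f
    obtain ⟨l, hl⟩ := h2 m
    exact ⟨g ≫ l, by rw [Category.assoc, hl, hg]⟩

end IndCase

end Groth.Agent.R2.H66.IndYoneda
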