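import Groth.Agent.R2.H66CofArtin
import Groth.Agent.R2.H66IndYoneda

/-!
# The purity form of the `Union` property in `Ind C`
-/

set_option autoImplicit false
universe v
open CategoryTheory CategoryTheory.Limits

namespace Groth.Agent.R2.H66.IndCofArtin

open Groth.Agent.R2.H66.FMChase Groth.Agent.R2.H66.Cofinite Groth.Agent.R2.H66.CofArtin
  Groth.Agent.R2.H66.IndYoneda

variable {C : Type v} [SmallCategory C] [Abelian C]

/-- a subobject of `A : Ind C` containing all the `A[p^k]` is everything, when all objects of `C`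
are `p`-power torsion -/
theorem unionPure (p : ℕ) (htor : ∀ X : C, ∃ n : ℕ, (p ^ n) • 𝟙 X = 0) :
    UnionPure (D := Ind C) p := by
  intro A B i _ h2
  refine epi_of_forall_factors A B i (fun X f => ?_)
  obtain ⟨m, hm⟩ := htor X
  obtain ⟨g, hg⟩ := exists_lift_T _ hm A f
  obtain ⟨l, hl⟩ := h2 m
  exact ⟨g ≫ l, by rw [Category.assoc, hl, hg]⟩

/-- descending chains of subobjects of cofinite type in `Ind C` stabilise -/
theorem chain_stabilizes_ind (hart : ∀ X : C, IsArtinianObject X) (p : ℕ)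
    (htor : ∀ X : C, ∃ n : ℕ, (p ^ n) • 𝟙 X = 0) (A : Ind C) (S : ℕ → Subobject A)
    (hS : Antitone S)
    (hcof : ∀ m n : ℕ, (Ind.yoneda (C := C)).essImage (kernel ((p ^ n) • 𝟙 ((S m : Subobject A) : Ind C)))) :
    ∃ N : ℕ, ∀ m : ℕ, N ≤ m → S m = S N :=
  chain_stabilizes (setup hart) p (union_prime_pow p htor) (unionPure p htor) A S hS hcof

end Groth.Agent.R2.H66.IndCofArtin
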