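import Groth.Agent.R2.H66IndYoneda

/-!
# The `Union` property in `Ind C` when the objects of `C` are killed by positive integers
-/

set_option autoImplicit false
universe v
open CategoryTheory CategoryTheory.Limits

namespace Groth.Agent.R2.H66.IndTorsion

open Groth.Agent.R2.H66.FMChase Groth.Agent.R2.H66.Cofinite Groth.Agent.R2.H66.IndYoneda

/-- every positive integer `k` is a product of a divisor of a power of `q` and a number prime to
`q` -/
lemma exists_factor (q : ℕ) : ∀ k : ℕ, 0 < k →
    ∃ m k₁ k₂ : ℕ, k = k₁ * k₂ ∧ k₁ ∣ q ^ m ∧ Nat.Coprime k₂ q := by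
  intro k
  induction k using Nat.strong_induction_on with
  | _ k ih =>
    intro hk
    by_cases hc : Nat.Coprime k q
    · exact ⟨0, 1, k, by simp, by simp, hc⟩
    · have hgpos : 0 < Nat.gcd k q := Nat.gcd_pos_of_pos_left q hk
      have hg : 1 < Nat.gcd k q := by
        rcases Nat.lt_or_ge 1 (Nat.gcd k q) with h | h
        · exact h
        · exfalso
          apply hc
          have : Nat.gcd k q = 1 := by omega
          exact this
      obtain ⟨k', hk'⟩ := Nat.gcd_dvd_left k q
      have hk'pos : 0 < k' := by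
        rcases Nat.eq_zero_or_pos k' with h | h
        · rw [h, mul_zero] at hk'
          omega
        · exact h
      have hlt : k' < k := by
        calc k' = 1 * k' := (one_mul k').symm
          _ < Nat.gcd k q * k' := Nat.mul_lt_mul_of_pos_right hg hk'pos
          _ = k := hk'.symm
      obtain ⟨m, k₁, k₂, h1, h2, h3⟩ := ih k' hlt hk'pos
      refine ⟨m + 1, Nat.gcd k q * k₁, k₂, ?_, ?_, h3⟩
      · calc k = Nat.gcd k q * k' := hk'
          _ = Nat.gcd k q * (k₁ * k₂) := by rw [← h1]
          _ = Nat.gcd k q * k₁ * k₂ := (mul_assoc _ _ _).symm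
      · rw [pow_succ']
        exact Nat.mul_dvd_mul (Nat.gcd_dvd_right k q) h2

variable {C : Type v} [SmallCategory C] [Abelian C]

/-- the `Union` property for a positive multiplier, when all objects of `C` are torsion -/
theorem union_of_torsion (htor : ∀ X : C, ∃ n : ℕ, 0 < n ∧ n • 𝟙 X = 0) (q : ℕ) :
    Union (D := Ind C) q := by
  intro A B i _ h1 h2
  refine epi_of_forall_factors A B i (fun X f => ?_)
  obtain ⟨k, hkpos, hk⟩ := htor X
  obtain ⟨g, hg⟩ := exists_lift_T k hk A f
  -- `A[k]` is contained in the subobject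
  obtain ⟨m, k₁, k₂, hk12, hk₁, hk₂⟩ := exists_factor q k hkpos
  obtain ⟨h₁, hh₁⟩ := h1
  obtain ⟨h₂, hh₂⟩ := h2 m
  obtain ⟨l, hl⟩ := exists_lift_of_range_le (ιT k A) i (by
    intro x
    set a := ap (ιT k A) x with ha
    have hka : k • a = 0 := ιT_smul _ _ _
    -- Bezout
    have hbez : (Nat.gcdA k₂ q : ℤ) * k₂ + (Nat.gcdB k₂ q : ℤ) * q = 1 := by
      have := Nat.gcd_eq_gcd_ab k₂ q
      rw [hk₂] at this
      push_cast at this
      linarith
    set u : ℤ := Nat.gcdB k₂ q
    set w : ℤ := Nat.gcdA k₂ q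
    have hdecomp : a = u • (q • a) + w • (k₂ • a) := by
      calc a = ((w * k₂ + u * q : ℤ)) • a := by rw [hbez, one_smul]
        _ = w • ((k₂ : ℤ) • a) + u • ((q : ℤ) • a) := by rw [add_smul, mul_smul, mul_smul]
        _ = w • (k₂ • a) + u • (q • a) := by rw [natCast_zsmul, natCast_zsmul]
        _ = u • (q • a) + w • (k₂ • a) := add_comm _ _
    -- the second summand is `q^m`-torsion
    have htors : (q ^ m) • (w • (k₂ • a)) = 0 := by
      obtain ⟨d, hd⟩ := hk₁
      have : (q ^ m) • (k₂ • a) = 0 := by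
        rw [← mul_smul, hd, mul_assoc, mul_comm d k₂, ← mul_assoc, ← hk12, mul_smul,
          smul_comm, hka, smul_zero]
      rw [smul_comm, this, smul_zero]
    obtain ⟨t, ht⟩ := (mem_T_iff (q ^ m) A _).mpr htors
    refine ⟨u • ap h₁ a + ap h₂ t, ?_⟩
    rw [map_add, map_zsmul, ← ap_comp h₁ i, ← ap_comp h₂ i, hh₁, hh₂, ht]
    simp only [ap_nsmul, ap_id]
    exact hdecomp.symm)
  exact ⟨g ≫ l, by rw [Category.assoc, hl, hg]⟩

end Groth.Agent.R2.H66.IndTorsion
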