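import Mathlib
import Groth.Agent.Lib.Helper5RLR2

set_option autoImplicit false
universe u

namespace Groth.Agent.R2.H66.Jac

open MvPolynomial IsLocalRing

/-- A derivation maps `p²` into `p`. -/
theorem deriv_mem_of_mem_sq {A B : Type*} [CommRing A] [CommRing B] [Algebra A B]
    (D : Derivation A B B) (p : Ideal B) {y : B} (hy : y ∈ p ^ 2) : D y ∈ p := by
  rw [pow_two] at hy
  refine Submodule.mul_induction_on hy ?_ ?_
  · intro a ha b hb
    rw [Derivation.leibniz, smul_eq_mul, smul_eq_mul]
    exact Ideal.add_mem _ (Ideal.mul_mem_right _ _ ha) (Ideal.mul_mem_right _ _ hb)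
  · intro a b ha hb
    rw [map_add]
    exact Ideal.add_mem _ ha hb

variable {k : Type u} [Field k] {n : ℕ}

/-- The kernel of evaluation at a point is generated by the `X i - C (pt i)`. -/
theorem ker_eval_eq_span (pt : Fin n → k) :
    RingHom.ker (eval pt : MvPolynomial (Fin n) k →+* k) =
      Ideal.span (Set.range fun i => (X i - C (pt i) : MvPolynomial (Fin n) k)) := by
  apply le_antisymm
  · intro q hq
    rw [RingHom.mem_ker] at hq
    have key : ∀ q : MvPolynomial (Fin n) k, q - C (eval pt q) ∈
        Ideal.span (Set.range fun i => (X i - C (pt i) : MvPolynomial (Fin n) k)) := by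
      intro q
      induction q using MvPolynomial.induction_on with
      | C a => simp
      | add p q hp hq =>
        have : p + q - C (eval pt (p + q)) = (p - C (eval pt p)) + (q - C (eval pt q)) := by
          rw [map_add, map_add]; ring
        rw [this]
        exact Ideal.add_mem _ hp hq
      | mul_X p i hp =>
        have : p * X i - C (eval pt (p * X i)) =
            (p - C (eval pt p)) * X i + C (eval pt p) * (X i - C (pt i)) := by
          rw [map_mul, eval_X, map_mul]; ring
        rw [this]
        exact Ideal.add_mem _ (Ideal.mul_mem_right _ _ hp)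
          (Ideal.mul_mem_left _ _ (Ideal.subset_span ⟨i, rfl⟩))
    have := key q
    rwa [hq, map_zero, sub_zero] at this
  · rw [Ideal.span_le]
    rintro _ ⟨i, rfl⟩
    simp [RingHom.mem_ker]


section JacLI

variable {r : ℕ} (pt : Fin n → k) (p : Ideal (MvPolynomial (Fin n) k)) [p.IsPrime]

/-- Jacobian criterion for linear independence in the cotangent space of the local ring of
affine space at a rational point. -/
theorem linearIndependent_toCotangent_of_jacobian
    (hp : p = RingHom.ker (eval pt : MvPolynomial (Fin n) k →+* k))
    (y : Fin r → MvPolynomial (Fin n) k)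
    (hjac : ∀ c : Fin r → k, (∀ j : Fin n, ∑ i, c i * eval pt (pderiv j (y i)) = 0) → ∀ i, c i = 0)
    (x : Fin r → maximalIdeal (Localization.AtPrime p))
    (hx : ∀ i, (x i : Localization.AtPrime p) = algebraMap _ (Localization.AtPrime p) (y i)) :
    LinearIndependent (ResidueField (Localization.AtPrime p))
      (fun i => (maximalIdeal (Localization.AtPrime p)).toCotangent (x i)) := by
  classical
  have hyp : ∀ i, y i ∈ p := by
    intro i
    have h1 : algebraMap _ (Localization.AtPrime p) (y i) ∈ maximalIdeal (Localization.AtPrime p) := by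
      rw [← hx i]; exact (x i).2
    by_contra hnot
    have hu : IsUnit (algebraMap _ (Localization.AtPrime p) (y i)) :=
      IsLocalization.map_units (Localization.AtPrime p) (⟨y i, hnot⟩ : p.primeCompl)
    exact (IsLocalRing.mem_maximalIdeal _).mp h1 hu
  have hev : ∀ q, q ∈ p ↔ eval pt q = 0 := by
    intro q; rw [hp, RingHom.mem_ker]
  rw [Fintype.linearIndependent_iff]
  intro γ hγ
  choose c hc using (fun i => IsLocalRing.residue_surjective (γ i))
  have h1 : (maximalIdeal (Localization.AtPrime p)).toCotangent (∑ i, c i • x i) = 0 := by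
    rw [map_sum, ← hγ]
    refine Finset.sum_congr rfl fun i _ => ?_
    rw [map_smul, ← hc i]
    rfl
  rw [Ideal.toCotangent_eq_zero] at h1
  obtain ⟨b, hb⟩ := IsLocalization.exist_integer_multiples p.primeCompl Finset.univ c
  choose a ha using (fun i => hb i (Finset.mem_univ i))
  -- ha i : algebraMap (a i) = b • c i
  have h2 : algebraMap _ (Localization.AtPrime p) (∑ i, a i * y i) ∈
      maximalIdeal (Localization.AtPrime p) ^ 2 := by
    have : algebraMap _ (Localization.AtPrime p) (∑ i, a i * y i) =
        algebraMap _ (Localization.AtPrime p) (b : MvPolynomial (Fin n) k) *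
          ((∑ i, c i • x i : maximalIdeal (Localization.AtPrime p)) : Localization.AtPrime p) := by
      rw [map_sum, Submodule.coe_sum, Finset.mul_sum]
      refine Finset.sum_congr rfl fun i _ => ?_
      rw [map_mul, ha i, Submodule.coe_smul, hx i, Algebra.smul_def, smul_eq_mul]
      ring
    rw [this]
    exact Ideal.mul_mem_left _ _ h1
  rw [← Localization.AtPrime.map_eq_maximalIdeal, ← Ideal.map_pow,
    IsLocalization.algebraMap_mem_map_algebraMap_iff p.primeCompl] at h2
  obtain ⟨s, hs, hsw⟩ := h2
  have hsev : eval pt s ≠ 0 := fun h => hs ((hev s).mpr h)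
  have hwev : eval pt (∑ i, a i * y i) = 0 := by
    rw [map_sum]
    refine Finset.sum_eq_zero fun i _ => ?_
    rw [map_mul, (hev _).mp (hyp i), mul_zero]
  have h3 : ∀ i, eval pt (a i) = 0 := by
    apply hjac
    intro j
    have h4 := deriv_mem_of_mem_sq (pderiv j) p hsw
    rw [hev, Derivation.leibniz, smul_eq_mul, smul_eq_mul, map_add, map_mul, map_mul, hwev,
      zero_mul, add_zero] at h4
    have h5 : eval pt (pderiv j (∑ i, a i * y i)) = 0 := by
      rcases mul_eq_zero.mp h4 with h | h
      · exact absurd h hsev
      · exact h
    rw [map_sum, map_sum] at h5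
    rw [← h5]
    refine Finset.sum_congr rfl fun i _ => ?_
    rw [Derivation.leibniz, smul_eq_mul, smul_eq_mul, map_add, map_mul, map_mul,
      (hev _).mp (hyp i), zero_mul, add_zero]
  intro i
  rw [← hc i, IsLocalRing.residue_eq_zero_iff]
  have h6 : algebraMap _ (Localization.AtPrime p) (a i) ∈ maximalIdeal (Localization.AtPrime p) := by
    rw [← Localization.AtPrime.map_eq_maximalIdeal]
    exact Ideal.mem_map_of_mem _ ((hev _).mpr (h3 i))
  rw [ha i, Algebra.smul_def] at h6
  have hu : IsUnit (algebraMap _ (Localization.AtPrime p) (b : MvPolynomial (Fin n) k)) :=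
    IsLocalization.map_units (Localization.AtPrime p) b
  exact (Ideal.unit_mul_mem_iff_mem _ hu).mp h6

/-- The local ring of affine `n`-space at a rational point has dimension `n`. -/
theorem ringKrullDim_localization_ker_eval
    (hp : p = RingHom.ker (eval pt : MvPolynomial (Fin n) k →+* k)) :
    ringKrullDim (Localization.AtPrime p) = n := by
  classical
  have hreg : IsRegularLocalRing (Localization.AtPrime p) := inferInstance
  have hgp : ∀ j, (X j - C (pt j) : MvPolynomial (Fin n) k) ∈ p := by
    intro j; rw [hp, RingHom.mem_ker]; simp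
  let x : Fin n → maximalIdeal (Localization.AtPrime p) := fun j =>
    ⟨algebraMap _ (Localization.AtPrime p) (X j - C (pt j)), by
      rw [← Localization.AtPrime.map_eq_maximalIdeal]
      exact Ideal.mem_map_of_mem _ (hgp j)⟩
  have hli := linearIndependent_toCotangent_of_jacobian pt p hp (fun j => X j - C (pt j))
    (by
      intro c hc i
      have := hc i
      simpa [pderiv_X, Pi.single_apply] using this) x (fun _ => rfl)
  have h_ge : n ≤ Module.finrank (ResidueField (Localization.AtPrime p))
      (CotangentSpace (Localization.AtPrime p)) := by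
    have := hli.fintype_card_le_finrank
    simpa using this
  have h_le : (maximalIdeal (Localization.AtPrime p)).spanFinrank ≤ n := by
    have hm : maximalIdeal (Localization.AtPrime p) =
        Ideal.span (↑(Finset.univ.image fun j : Fin n =>
          algebraMap _ (Localization.AtPrime p) (X j - C (pt j))) : Set (Localization.AtPrime p)) := by
      have hp2 : p = Ideal.span (Set.range fun i => (X i - C (pt i) : MvPolynomial (Fin n) k)) :=
        hp.trans (ker_eval_eq_span pt)
      rw [← Localization.AtPrime.map_eq_maximalIdeal]
      refine (congrArg (Ideal.map (algebraMap _ (Localization.AtPrime p))) hp2).trans ?_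
      rw [Ideal.map_span]
      congr 1
      ext z
      simp
    rw [hm]
    refine (Submodule.spanFinrank_span_le_ncard_of_finite (Finset.finite_toSet _)).trans ?_
    rw [Set.ncard_coe_finset]
    exact Finset.card_image_le.trans (by simp)
  have h_eq : (maximalIdeal (Localization.AtPrime p)).spanFinrank = n := by
    rw [spanFinrank_maximalIdeal_eq_finrank_cotangentSpace] at h_le ⊢
    omega
  rw [← hreg.spanFinrank_maximalIdeal, h_eq]

end JacLI

end Groth.Agent.R2.H66.Jac
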