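import Mathlib

/-!
# helper66: Mittag-Leffler lifting for inverse systems of Artinian modules over `ℕᵒᵖ`

* `nonempty_sections_of_isMittagLeffler`: a Mittag-Leffler system of nonempty sets over `ℕᵒᵖ` has a
  section.
* `exists_compatible_lift`: for a morphism `ψ : A ⟶ B` of `ℕᵒᵖ`-systems of modules with all `A n`
  Artinian, every compatible family in `B` which is levelwise in the range of `ψ` lifts to a
  compatible family in `A`.
-/

set_option autoImplicit false
universe u

open CategoryTheory CategoryTheory.Limits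

namespace Groth.Agent.R2.H66.ML

/-- sections of a Mittag-Leffler system of nonempty sets over `ℕᵒᵖ` -/
lemma nonempty_sections_of_isMittagLeffler (G : ℕᵒᵖ ⥤ Type u) [∀ n, Nonempty (G.obj n)]
    (h : G.IsMittagLeffler) : Nonempty G.sections := by
  have hs : ∀ n, Function.Surjective (G.toEventualRanges.map (homOfLE (Nat.le_succ n)).op) :=
    fun n => G.surjective_toEventualRanges h _
  have hsurj := Types.surjective_π_app_zero_of_surjective_map
    (Types.limitConeIsLimit G.toEventualRanges) hs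
  obtain ⟨x⟩ := G.toEventualRanges_nonempty h ⟨0⟩
  obtain ⟨s, -⟩ := hsurj x
  exact ⟨G.toEventualRangesSectionsEquiv s⟩

variable {R : Type u} [Ring R]

/-- Mittag-Leffler lifting: for a morphism `ψ : A ⟶ B` of `ℕᵒᵖ`-systems of modules with all `A n`
Artinian, every compatible family in `B` which is levelwise in the range of `ψ` lifts to a
compatible family in `A`. -/
theorem exists_compatible_lift (A B : ℕᵒᵖ ⥤ ModuleCat.{u} R) (ψ : A ⟶ B)
    (hA : ∀ n, IsArtinian R (A.obj n))
    (w : ∀ n, B.obj n) (hw : ∀ {n m : ℕᵒᵖ} (f : n ⟶ m), B.map f (w n) = w m)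
    (hr : ∀ n, ∃ a : A.obj n, ψ.app n a = w n) :
    ∃ v : ∀ n, A.obj n, (∀ {n m : ℕᵒᵖ} (f : n ⟶ m), A.map f (v n) = v m) ∧
      ∀ n, ψ.app n (v n) = w n := by
  have hnat : ∀ {n m : ℕᵒᵖ} (f : n ⟶ m) (a : A.obj n),
      ψ.app m (A.map f a) = B.map f (ψ.app n a) := by
    intro n m f a
    have := congr($(ψ.naturality f) a)
    exact this
  have hcomp : ∀ {n m k : ℕᵒᵖ} (f : n ⟶ m) (g : m ⟶ k) (a : A.obj n),
      A.map (f ≫ g) a = A.map g (A.map f a) := by
    intro n m k f g a
    rw [A.map_comp]; rfl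
  let G : ℕᵒᵖ ⥤ Type u :=
    { obj := fun n => {a : A.obj n // ψ.app n a = w n}
      map := fun {n m} f => ↾(fun a => ⟨A.map f a.1, by rw [hnat, a.2, hw]⟩)
      map_id := by
        intro n
        ext a
        simp
      map_comp := by
        intro n m k f g
        ext a
        simp }
  have hGmap : ∀ {n m : ℕᵒᵖ} (f : n ⟶ m) (a : G.obj n), (G.map f a).1 = A.map f a.1 :=
    fun f a => rfl
  have hne : ∀ n, Nonempty (G.obj n) := fun n => let ⟨a, ha⟩ := hr n; ⟨⟨a, ha⟩⟩
  have hML : G.IsMittagLeffler := by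
    rw [Functor.isMittagLeffler_iff_subset_range_comp]
    intro j
    obtain ⟨n⟩ := j
    have : IsArtinian R (A.obj (Opposite.op n)) := hA _
    let I : ℕ → Submodule R (A.obj (Opposite.op n)) := fun m =>
      (LinearMap.ker (ψ.app (Opposite.op (n + m))).hom).map
        (A.map (homOfLE (Nat.le_add_right n m)).op).hom
    have hI : ∀ m m', m ≤ m' → I m' ≤ I m := by
      intro m m' hmm'
      rintro _ ⟨z, hz, rfl⟩
      have hle : n + m ≤ n + m' := Nat.add_le_add_left hmm' n
      refine ⟨A.map (homOfLE hle).op z, ?_, ?_⟩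
      · change ψ.app _ (A.map (homOfLE hle).op z) = 0
        rw [hnat]
        have hz' : ψ.app (Opposite.op (n + m')) z = 0 := hz
        rw [hz', map_zero]
      · change A.map _ (A.map _ z) = A.map _ z
        rw [← hcomp]
        congr 2
    let f : ℕ →o (Submodule R (A.obj (Opposite.op n)))ᵒᵈ :=
      ⟨fun m => OrderDual.toDual (I m), fun m m' h => hI m m' h⟩
    obtain ⟨m₀, hm₀⟩ := IsArtinian.monotone_stabilizes f
    refine ⟨Opposite.op (n + m₀), (homOfLE (Nat.le_add_right n m₀)).op, ?_⟩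
    intro k g
    obtain ⟨k'⟩ := k
    have hk' : n + m₀ ≤ k' := g.unop.le
    obtain ⟨m, rfl⟩ : ∃ m, k' = n + m := ⟨k' - n, by omega⟩
    have hm : m₀ ≤ m := by omega
    rintro _ ⟨x, rfl⟩
    obtain ⟨y⟩ := hne (Opposite.op (n + m))
    have hIeq : I m₀ = I m := congrArg OrderDual.ofDual (hm₀ m hm)
    have hd : x.1 - (G.map g y).1 ∈ LinearMap.ker (ψ.app (Opposite.op (n + m₀))).hom := by
      change ψ.app _ (x.1 - (G.map g y).1) = 0
      rw [map_sub, x.2, (G.map g y).2, sub_self]
    have hmem : A.map (homOfLE (Nat.le_add_right n m₀)).op (x.1 - (G.map g y).1) ∈ I m₀ :=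
      ⟨_, hd, rfl⟩
    rw [hIeq] at hmem
    obtain ⟨z, hz, hzeq⟩ := hmem
    have hz' : ψ.app (Opposite.op (n + m)) z = 0 := hz
    refine ⟨⟨y.1 + z, by rw [map_add, y.2, hz', add_zero]⟩, ?_⟩
    apply Subtype.ext
    rw [hGmap, hGmap]
    change A.map (g ≫ (homOfLE (Nat.le_add_right n m₀)).op) (y.1 + z) = _
    rw [map_add, hcomp, ← hGmap g y]
    have e1 : g ≫ (homOfLE (Nat.le_add_right n m₀)).op = (homOfLE (Nat.le_add_right n m)).op :=
      Subsingleton.elim _ _
    rw [e1]
    have hzeq' : A.map (homOfLE (Nat.le_add_right n m)).op z =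
        A.map (homOfLE (Nat.le_add_right n m₀)).op (x.1 - (G.map g y).1) := hzeq
    rw [hzeq', map_sub]
    abel
  obtain ⟨s⟩ := nonempty_sections_of_isMittagLeffler G hML
  refine ⟨fun n => (s.1 n).1, fun {n m} f => ?_, fun n => (s.1 n).2⟩
  have := s.2 f
  change A.map f (s.1 n).1 = (s.1 m).1
  rw [← this]
  rfl

end Groth.Agent.R2.H66.ML
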