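import Mathlib

/-!
# Invariants commute with flat base change (helper66)

Ring-level input for `SGA1.isQuot_baseChange_of_flat`.
-/

set_option autoImplicit false
universe u

namespace Groth.Agent.R2.H66.QuotFlat

open TensorProduct

section ModuleLevel

variable {A A' B B' : Type*} [CommRing A] [CommRing A'] [CommRing B] [CommRing B']
  [Algebra A A'] [Algebra A B] [Algebra A B'] [Algebra A' B'] [Algebra B B']
  [IsScalarTower A A' B'] [IsScalarTower A B B']

/-- If `A → B` is injective with image the invariants of a finite family of `A`-algebra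
endomorphisms `σ i` of `B`, and `A → A'` is flat, then `A' → B' = A' ⊗_A B` is injective with image
the invariants of the base-changed endomorphisms. -/
theorem invariants_baseChange [Module.Flat A A'] {ι : Type*} [Finite ι]
    (h : IsBaseChange A' (IsScalarTower.toAlgHom A B B').toLinearMap)
    (σ : ι → (B →ₐ[A] B)) (σ' : ι → (B' →ₐ[A'] B'))
    (hcompat : ∀ i b, σ' i (algebraMap B B' b) = algebraMap B B' (σ i b))
    (hinj : Function.Injective (algebraMap A B))
    (hrange : ∀ b, (∀ i, σ i b = b) → b ∈ Set.range (algebraMap A B)) :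
    Function.Injective (algebraMap A' B') ∧
      ∀ b', (∀ i, σ' i b' = b') → b' ∈ Set.range (algebraMap A' B') := by
  classical
  cases nonempty_fintype ι
  let e : A' ⊗[A] B ≃ₗ[A'] B' := h.equiv
  have he : ∀ a' b, e (a' ⊗ₜ b) = a' • algebraMap B B' b := fun a' b => h.equiv_tmul a' b
  let j : A →ₗ[A] B := Algebra.linearMap A B
  let d : B →ₗ[A] (ι → B) := LinearMap.pi fun i => (σ i).toLinearMap - LinearMap.id
  have hex : Function.Exact j d := by
    intro b
    constructor
    · intro hb
      refine hrange b fun i => ?_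
      have := congrFun hb i
      simpa [d, sub_eq_zero] using this
    · rintro ⟨a, rfl⟩
      ext i
      simp [d, j]
  have hex' : Function.Exact (j.lTensor A') (d.lTensor A') := Module.Flat.lTensor_exact A' hex
  have hinj' : Function.Injective (j.lTensor A') :=
    Module.Flat.lTensor_preserves_injective_linearMap j hinj
  have hcomp : ∀ a' : A', algebraMap A' B' a' = e (j.lTensor A' ((TensorProduct.rid A A').symm a')) := by
    intro a'
    simp [he, j, Algebra.algebraMap_eq_smul_one]
  refine ⟨?_, ?_⟩
  · intro a₁ a₂ h12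
    rw [hcomp, hcomp] at h12
    exact (TensorProduct.rid A A').symm.injective (hinj' (e.injective h12))
  · intro b' hb'
    obtain ⟨x, rfl⟩ := e.surjective b'
    -- `σ' i ∘ e = e ∘ (1 ⊗ σ i)`
    have hσe : ∀ (i : ι) (x : A' ⊗[A] B), σ' i (e x) = e ((σ i).toLinearMap.lTensor A' x) := by
      intro i x
      induction x using TensorProduct.induction_on with
      | zero => simp
      | tmul a' b =>
        simp only [LinearMap.lTensor_tmul, he, AlgHom.toLinearMap_apply]
        rw [map_smul, hcompat]
      | add x y hx hy => simp only [map_add, hx, hy]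
    have hx0 : d.lTensor A' x = 0 := by
      apply (TensorProduct.piRight A A' A' (fun _ : ι => B)).injective
      rw [map_zero]
      ext i
      have h1 : ∀ y : A' ⊗[A] B, (TensorProduct.piRight A A' A' (fun _ : ι => B)) (d.lTensor A' y) i =
          (σ i).toLinearMap.lTensor A' y - y := by
        intro y
        induction y using TensorProduct.induction_on with
        | zero => simp
        | tmul a' b => simp [d, TensorProduct.tmul_sub]
        | add x y hx hy => simp only [map_add, Pi.add_apply, hx, hy]; abel
      rw [h1, Pi.zero_apply, sub_eq_zero]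
      apply e.injective
      rw [← hσe, hb']
    obtain ⟨y, hy⟩ := (hex' x).mp hx0
    refine ⟨TensorProduct.rid A A' y, ?_⟩
    rw [hcomp, LinearEquiv.symm_apply_apply, hy]

end ModuleLevel

open CategoryTheory CategoryTheory.Limits in
/-- `CommRingCat` form of `invariants_baseChange`: in a pushout square
`φ : A ⟶ B`, `α : A ⟶ A'` (flat), `β : B ⟶ B'`, `φ' : A' ⟶ B'`, if `φ` is injective with image the
invariants of a finite family `σ` of endomorphisms of `B` over `A`, then so is `φ'` for any
family `σ'` of endomorphisms of `B'` over `A'` compatible with `σ`. -/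
theorem quot_pushout {A B A' B' : CommRingCat.{u}} {φ : A ⟶ B} {α : A ⟶ A'} {β : B ⟶ B'}
    {φ' : A' ⟶ B'} (hpo : IsPushout φ α β φ') (hflat : α.hom.Flat) {ι : Type*} [Finite ι]
    (σ : ι → (B ⟶ B)) (σ' : ι → (B' ⟶ B'))
    (hσ : ∀ i, φ ≫ σ i = φ) (hσ' : ∀ i, φ' ≫ σ' i = φ') (hcompat : ∀ i, β ≫ σ' i = σ i ≫ β)
    (hinj : Function.Injective φ.hom)
    (hrange : ∀ b, (∀ i, (σ i).hom b = b) → b ∈ Set.range φ.hom) :
    Function.Injective φ'.hom ∧ ∀ b', (∀ i, (σ' i).hom b' = b') → b' ∈ Set.range φ'.hom := by
  let _ : Algebra A B := φ.hom.toAlgebra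
  let _ : Algebra A A' := α.hom.toAlgebra
  let _ : Algebra B B' := β.hom.toAlgebra
  let _ : Algebra A' B' := φ'.hom.toAlgebra
  let _ : Algebra A B' := (β.hom.comp φ.hom).toAlgebra
  have : IsScalarTower A B B' := .of_algebraMap_eq' rfl
  have : IsScalarTower A A' B' := .of_algebraMap_eq' (by
    change β.hom.comp φ.hom = φ'.hom.comp α.hom
    rw [← CommRingCat.hom_comp, ← CommRingCat.hom_comp, hpo.w])
  have : Module.Flat A A' := hflat
  have hP : Algebra.IsPushout A A' B B' := by
    rw [← CommRingCat.isPushout_iff_isPushout]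
    exact hpo.flip
  exact invariants_baseChange hP.out
    (fun i => ⟨(σ i).hom, fun a => congrArg (fun f => f.hom a) (hσ i)⟩)
    (fun i => ⟨(σ' i).hom, fun a => congrArg (fun f => f.hom a) (hσ' i)⟩)
    (fun i b => congrArg (fun f => f.hom b) (hcompat i)) hinj hrange

end Groth.Agent.R2.H66.QuotFlat
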