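import Mathlib
import Groth.Agent.Lib.Helper20QuotAff

/-!
# `SGA1.IsQuot` is local on the base (helper66)

* `quotAt_of_basis`: the quotient conditions (`Helper20.QuotAt`) over a basis of opens of the base
  imply them over every open.
* `isQuot_of_basis`: `IsQuot` from the conditions over a basis.
-/

set_option autoImplicit false
universe u

namespace Groth.Agent.R2.H66.QuotLocal

open CategoryTheory AlgebraicGeometry TopologicalSpace SGA1 Groth.Agent.Lib.Helper20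

variable {X Y : Scheme.{u}} {ι : Type u} {σ : ι → (X ⟶ X)} {p : X ⟶ Y}

theorem quotAt_of_basis (hσ : ∀ i, σ i ≫ p = p) (𝓑 : Set Y.Opens)
    (hbasis : ∀ (U : Y.Opens) (y : Y), y ∈ U → ∃ V ∈ 𝓑, y ∈ V ∧ V ≤ U)
    (hB : ∀ V ∈ 𝓑, QuotAt σ p V (p ⁻¹ᵁ V)) (U : Y.Opens) :
    QuotAt σ p U (p ⁻¹ᵁ U) := by
  have eσ : ∀ (W : Y.Opens) (i : ι), p ⁻¹ᵁ W ≤ σ i ⁻¹ᵁ (p ⁻¹ᵁ W) := by
    intro W i
    rw [← Scheme.Hom.comp_preimage, hσ i]
  -- restriction compatibilities
  have hres : ∀ (W W' : Y.Opens) (hWW' : W' ≤ W) (a : Γ(Y, W)),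
      (p.app W').hom ((Y.presheaf.map (homOfLE hWW').op).hom a) =
        (X.presheaf.map (homOfLE (p.preimage_mono hWW')).op).hom ((p.app W).hom a) := by
    intro W W' hWW' a
    exact congrArg (fun f => f.hom a) (p.naturality (homOfLE hWW').op)
  have hresσ : ∀ (W W' : Y.Opens) (hWW' : W' ≤ W) (i : ι) (t : Γ(X, p ⁻¹ᵁ W)),
      ((σ i).appLE _ _ (eσ W' i)).hom ((X.presheaf.map (homOfLE (p.preimage_mono hWW')).op).hom t) =
        (X.presheaf.map (homOfLE (p.preimage_mono hWW')).op).hom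
          (((σ i).appLE _ _ (eσ W i)).hom t) := by
    intro W W' hWW' i t
    have h1 : X.presheaf.map (homOfLE (p.preimage_mono hWW')).op ≫ (σ i).appLE _ _ (eσ W' i) =
        (σ i).appLE _ _ (eσ W i) ≫ X.presheaf.map (homOfLE (p.preimage_mono hWW')).op := by
      rw [Scheme.Hom.map_appLE, Scheme.Hom.appLE_map]
    exact congrArg (fun f => f.hom t) h1
  have happ : ∀ (W : Y.Opens) (hW : QuotAt σ p W (p ⁻¹ᵁ W)),
      Function.Injective (p.app W).hom ∧ ∀ s : Γ(X, p ⁻¹ᵁ W),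
        (∀ i, ((σ i).appLE _ _ (eσ W i)).hom s = s) → s ∈ Set.range (p.app W).hom := by
    rintro W ⟨e, eσ', hinj, hrange⟩
    rw [Scheme.Hom.app_eq_appLE]
    exact ⟨hinj, hrange⟩
  -- the cover of an open `W` by basis elements
  have hcover : ∀ W : Y.Opens, W ≤ ⨆ j : {V : Y.Opens // V ∈ 𝓑 ∧ V ≤ W}, j.1 := by
    intro W y hy
    obtain ⟨V, hV, hyV, hVW⟩ := hbasis W y hy
    exact Opens.mem_iSup.mpr ⟨⟨V, hV, hVW⟩, hyV⟩
  have hcover' : ∀ W : Y.Opens, p ⁻¹ᵁ W ≤ ⨆ j : {V : Y.Opens // V ∈ 𝓑 ∧ V ≤ W}, p ⁻¹ᵁ j.1 := by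
    intro W x hx
    obtain ⟨j, hj⟩ := Opens.mem_iSup.mp (hcover W (show p.base x ∈ W from hx))
    exact Opens.mem_iSup.mpr ⟨j, hj⟩
  -- Step 1: injectivity over every open
  have hinj : ∀ W : Y.Opens, Function.Injective (p.app W).hom := by
    intro W
    rw [injective_iff_map_eq_zero]
    intro s hs
    fapply Y.sheaf.eq_of_locally_eq' (fun j : {V : Y.Opens // V ∈ 𝓑 ∧ V ≤ W} => j.1) W
      (fun j => homOfLE j.2.2) (hcover W)
    intro j
    change (Y.presheaf.map (homOfLE j.2.2).op).hom s = (Y.presheaf.map (homOfLE j.2.2).op).hom 0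
    rw [map_zero]
    apply (happ _ (hB j.1 j.2.1)).1
    rw [map_zero, hres W j.1 j.2.2 s, hs, map_zero]
  refine ⟨le_rfl, eσ U, ?_, ?_⟩
  · rw [Scheme.Hom.appLE_eq_app]
    exact hinj U
  · intro t ht
    rw [Scheme.Hom.appLE_eq_app]
    let J := {V : Y.Opens // V ∈ 𝓑 ∧ V ≤ U}
    let V : J → Y.Opens := fun j => j.1
    have h1 : ∀ j : J, ∃ s : Γ(Y, V j), (p.app (V j)).hom s =
        (X.presheaf.map (homOfLE (p.preimage_mono j.2.2)).op).hom t := by
      intro j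
      apply (happ _ (hB j.1 j.2.1)).2
      intro i
      rw [hresσ U (V j) j.2.2 i t, ht i]
    choose sf hsf using h1
    have hcompat : TopCat.Presheaf.IsCompatible Y.presheaf V sf := by
      intro j k
      apply hinj (V j ⊓ V k)
      change (p.app (V j ⊓ V k)).hom ((Y.presheaf.map (homOfLE inf_le_left).op).hom (sf j)) =
        (p.app (V j ⊓ V k)).hom ((Y.presheaf.map (homOfLE inf_le_right).op).hom (sf k))
      rw [hres (V j) (V j ⊓ V k) inf_le_left, hres (V k) (V j ⊓ V k) inf_le_right, hsf, hsf]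
      change (X.presheaf.map _ ≫ X.presheaf.map _).hom t = (X.presheaf.map _ ≫ X.presheaf.map _).hom t
      rw [← X.presheaf.map_comp, ← X.presheaf.map_comp]
      rfl
    obtain ⟨s, hs, -⟩ := Y.sheaf.existsUnique_gluing' V U (fun j => homOfLE j.2.2) (hcover U) sf
      hcompat
    refine ⟨s, ?_⟩
    fapply X.sheaf.eq_of_locally_eq' (fun j : J => p ⁻¹ᵁ V j) (p ⁻¹ᵁ U)
      (fun j => homOfLE (p.preimage_mono j.2.2)) (hcover' U)
    intro j
    change (X.presheaf.map (homOfLE (p.preimage_mono j.2.2)).op).hom ((p.app U).hom s) =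
      (X.presheaf.map (homOfLE (p.preimage_mono j.2.2)).op).hom t
    rw [← hres U (V j) j.2.2 s, ← hsf j]
    congr 1
    exact hs j

/-- `IsQuot` from the quotient conditions over a basis of opens of the base. -/
theorem isQuot_of_basis {G : Type u} [Group G] (ρ : G →* Aut X)
    (haff : IsAffineHom p) (hinv : ∀ g : G, (ρ g).hom ≫ p = p) (𝓑 : Set Y.Opens)
    (hbasis : ∀ (U : Y.Opens) (y : Y), y ∈ U → ∃ V ∈ 𝓑, y ∈ V ∧ V ≤ U)
    (hB : ∀ V ∈ 𝓑, QuotAt (fun g : G => (ρ g).hom) p V (p ⁻¹ᵁ V)) : IsQuot ρ p := by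
  have hall := quotAt_of_basis (σ := fun g : G => (ρ g).hom) hinv 𝓑 hbasis hB
  refine ⟨haff, hinv, fun U => ?_, fun U s => ⟨?_, ?_⟩⟩
  · obtain ⟨e, eσ, hinj, -⟩ := hall U
    rw [Scheme.Hom.appLE_eq_app] at hinj
    exact hinj
  · rintro ⟨a, rfl⟩ g
    have := appLE_invariant (σ := fun g : G => (ρ g).hom) hinv U (p ⁻¹ᵁ U) le_rfl g
      (preimage_le_of_inv ρ p hinv g U) a
    rw [Scheme.Hom.appLE_eq_app] at this
    exact this
  · intro hs
    obtain ⟨e, eσ, -, hrange⟩ := hall U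
    have := hrange s hs
    rw [Scheme.Hom.appLE_eq_app] at this
    exact this

end Groth.Agent.R2.H66.QuotLocal
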