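import Mathlib
import Groth.Agent.Lib.Helper20QuotTop

/-!
# Field-valued points of a quotient by a finite group (helper66)

* `exists_smul_forall_eq` (ring level): for `A = B^G`, two ring maps `B → Ω` into a field that
  agree on `A` differ by an element of `G`.
* `exists_lift_of_isIntegral` (ring level): ring maps into an algebraically closed field lift
  along injective integral maps.
* `exists_rho_comp_eq` (scheme level): for a quotient `p : X ⟶ Y` by a finite group (`SGA1.IsQuot`),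
  `G` acts transitively on the `Ω`-points of `X` over an `Ω`-point of `Y`.
* `exists_lift_geometric_point`: geometric points lift along `p`.
-/

set_option autoImplicit false
universe u

namespace Groth.Agent.R2.H66.QuotPts

open Polynomial CategoryTheory AlgebraicGeometry

section Ring

variable {A B : Type*} [CommRing A] [CommRing B] [Algebra A B]
  (G : Type*) [Group G] [Finite G] [MulSemiringAction G B] [SMulCommClass G A B]
  [Algebra.IsInvariant A B G]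
  {Ω : Type*} [Field Ω]

omit [SMulCommClass G A B] in
/-- Two field-valued points of `B` agreeing on the invariants `A` agree pointwise up to `G`. -/
theorem exists_smul_eq (a₁ a₂ : B →+* Ω)
    (h : a₁.comp (algebraMap A B) = a₂.comp (algebraMap A B)) (x : B) :
    ∃ g : G, a₂ x = a₁ (g • x) := by
  cases nonempty_fintype G
  obtain ⟨M, hM⟩ := (Polynomial.mem_lifts _).mp (Algebra.IsInvariant.charpoly_mem_lifts A B G x)
  have h1 : ((MulSemiringAction.charpoly G x).map a₂).eval (a₂ x) = 0 := by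
    rw [Polynomial.eval_map, Polynomial.eval₂_at_apply, MulSemiringAction.eval_charpoly, map_zero]
  have h2 : (MulSemiringAction.charpoly G x).map a₂ = (MulSemiringAction.charpoly G x).map a₁ := by
    rw [← hM, Polynomial.map_map, Polynomial.map_map, h]
  rw [h2, MulSemiringAction.charpoly_eq, Polynomial.map_prod, Polynomial.eval_prod,
    Finset.prod_eq_zero_iff] at h1
  obtain ⟨g, -, hg⟩ := h1
  refine ⟨g, ?_⟩
  simpa [sub_eq_zero] using hg

theorem exists_smul_forall_eq_of_ker_eq (a₁ a₂ : B →+* Ω)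
    (h : a₁.comp (algebraMap A B) = a₂.comp (algebraMap A B))
    (hker : RingHom.ker a₁ = RingHom.ker a₂) :
    ∃ g : G, ∀ x : B, a₂ x = a₁ (g • x) := by
  let Q : Ideal B := RingHom.ker a₁
  let P : Ideal A := Q.under A
  have : Q.IsPrime := RingHom.ker_isPrime a₁
  have hQ₁ : ∀ b ∈ Q, a₁ b = 0 := fun b hb => hb
  have hQ₂ : ∀ b ∈ Q, a₂ b = 0 := fun b hb => by
    have : b ∈ RingHom.ker a₂ := hker ▸ hb
    exact this
  let f₁ : B ⧸ Q →+* Ω := Ideal.Quotient.lift Q a₁ hQ₁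
  let f₂ : B ⧸ Q →+* Ω := Ideal.Quotient.lift Q a₂ hQ₂
  have hf₁ : Function.Injective f₁ := (Ideal.injective_lift_iff hQ₁).mpr rfl
  have hf₂ : Function.Injective f₂ := (Ideal.injective_lift_iff hQ₂).mpr hker.symm
  have hr : ∀ y : B ⧸ Q, f₂ y ∈ f₁.range := by
    intro y
    obtain ⟨x, rfl⟩ := Ideal.Quotient.mk_surjective y
    obtain ⟨g, hg⟩ := exists_smul_eq G a₁ a₂ h x
    exact ⟨Ideal.Quotient.mk Q (g • x), by simpa [f₁, f₂] using hg.symm⟩
  have hr' : ∀ y : B ⧸ Q, f₁ y ∈ f₂.range := by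
    intro y
    obtain ⟨x, rfl⟩ := Ideal.Quotient.mk_surjective y
    obtain ⟨g, hg⟩ := exists_smul_eq G a₂ a₁ h.symm x
    exact ⟨Ideal.Quotient.mk Q (g • x), by simpa [f₁, f₂] using hg.symm⟩
  let e₁ : (B ⧸ Q) ≃+* f₁.range := RingEquiv.ofLeftInverse (Function.leftInverse_invFun hf₁)
  let θ : B ⧸ Q →+* B ⧸ Q := e₁.symm.toRingHom.comp (f₂.codRestrict f₁.range hr)
  have hθ : ∀ y, f₁ (θ y) = f₂ y := fun y =>
    congrArg Subtype.val (e₁.apply_symm_apply ⟨f₂ y, hr y⟩)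
  have hθinj : Function.Injective θ := by
    intro y y' hy
    apply hf₂
    rw [← hθ, ← hθ, hy]
  have hθsurj : Function.Surjective θ := by
    intro z
    obtain ⟨y, hy⟩ := hr' z
    exact ⟨y, hf₁ ((hθ y).trans hy)⟩
  have hcomm : ∀ r : A ⧸ P, θ (algebraMap (A ⧸ P) (B ⧸ Q) r) = algebraMap (A ⧸ P) (B ⧸ Q) r := by
    intro r
    obtain ⟨a, rfl⟩ := Ideal.Quotient.mk_surjective r
    apply hf₁
    rw [hθ]
    have e : algebraMap (A ⧸ P) (B ⧸ Q) (Ideal.Quotient.mk P a) =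
        Ideal.Quotient.mk Q (algebraMap A B a) := rfl
    rw [e]
    change a₂ (algebraMap A B a) = a₁ (algebraMap A B a)
    exact (congrArg (fun f => f a) h).symm
  let θ' : (B ⧸ Q) ≃ₐ[A ⧸ P] (B ⧸ Q) :=
    AlgEquiv.ofBijective { θ with commutes' := hcomm } ⟨hθinj, hθsurj⟩
  obtain ⟨g, hg⟩ := Ideal.Quotient.stabilizerHom_surjective G P Q θ'
  refine ⟨g.1, fun x => ?_⟩
  have h3 : θ' (Ideal.Quotient.mk Q x) = Ideal.Quotient.mk Q (g.1 • x) := by
    rw [← hg]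
    rfl
  have h4 : f₁ (θ (Ideal.Quotient.mk Q x)) = f₂ (Ideal.Quotient.mk Q x) := hθ _
  have h5 : θ (Ideal.Quotient.mk Q x) = θ' (Ideal.Quotient.mk Q x) := rfl
  rw [h5, h3] at h4
  exact h4.symm

/-- For `A = B^G` with `G` finite, two ring maps `B → Ω` into a field that agree on `A` differ by an
element of `G`. -/
theorem exists_smul_forall_eq (a₁ a₂ : B →+* Ω)
    (h : a₁.comp (algebraMap A B) = a₂.comp (algebraMap A B)) :
    ∃ g : G, ∀ x : B, a₂ x = a₁ (g • x) := by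
  have hu : (RingHom.ker a₁).under A = (RingHom.ker a₂).under A := by
    rw [Ideal.under_def, Ideal.under_def, RingHom.comap_ker, RingHom.comap_ker, h]
  have : (RingHom.ker a₁).IsPrime := RingHom.ker_isPrime a₁
  have : (RingHom.ker a₂).IsPrime := RingHom.ker_isPrime a₂
  obtain ⟨g₀, hg₀⟩ := Algebra.IsInvariant.exists_smul_of_under_eq A B G _ _ hu
  let a₁' : B →+* Ω := a₁.comp (MulSemiringAction.toRingHom G B g₀⁻¹)
  have hker : RingHom.ker a₁' = RingHom.ker a₂ := by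
    rw [hg₀]
    ext b
    rw [Ideal.mem_pointwise_smul_iff_inv_smul_mem]
    rfl
  have h' : a₁'.comp (algebraMap A B) = a₂.comp (algebraMap A B) := by
    rw [← h]
    ext a
    change a₁ (g₀⁻¹ • algebraMap A B a) = a₁ (algebraMap A B a)
    rw [smul_algebraMap]
  obtain ⟨g₁, hg₁⟩ := exists_smul_forall_eq_of_ker_eq G a₁' a₂ h' hker
  refine ⟨g₀⁻¹ * g₁, fun x => ?_⟩
  rw [hg₁ x, mul_smul]
  rfl

end Ring

section Lift

/-- Ring maps into an algebraically closed field lift along injective integral ring maps. -/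
theorem exists_lift_of_isIntegral {A B : Type*} [CommRing A] [CommRing B] (φ : A →+* B)
    (hinj : Function.Injective φ) (hint : φ.IsIntegral) {Ω : Type*} [Field Ω] [IsAlgClosed Ω]
    (a : A →+* Ω) : ∃ b : B →+* Ω, b.comp φ = a := by
  letI := φ.toAlgebra
  have : Algebra.IsIntegral A B := ⟨hint⟩
  let P : Ideal A := RingHom.ker a
  have : P.IsPrime := RingHom.ker_isPrime a
  obtain ⟨Q, -, hQprime, hQover⟩ := Ideal.exists_ideal_over_prime_of_isIntegral P (⊥ : Ideal B) (by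
    have : Ideal.comap (algebraMap A B) ⊥ = ⊥ := Ideal.comap_bot_of_injective _ hinj
    rw [this]; exact bot_le)
  have := hQprime
  have : Q.LiesOver P := ⟨hQover.symm⟩
  let ā : A ⧸ P →+* Ω := Ideal.Quotient.lift P a (fun x hx => hx)
  have hā : Function.Injective ā := (Ideal.injective_lift_iff _).mpr rfl
  letI : Algebra (A ⧸ P) Ω := ā.toAlgebra
  have : FaithfulSMul (A ⧸ P) Ω := (faithfulSMul_iff_algebraMap_injective _ _).mpr hā
  have : Algebra.IsIntegral (A ⧸ P) (B ⧸ Q) := inferInstance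
  have : Algebra.IsAlgebraic (A ⧸ P) (B ⧸ Q) := inferInstance
  let f : (B ⧸ Q) →ₐ[A ⧸ P] Ω := IsAlgClosed.lift
  refine ⟨f.toRingHom.comp (Ideal.Quotient.mk Q), ?_⟩
  ext x
  have h1 : Ideal.Quotient.mk Q (φ x) = algebraMap (A ⧸ P) (B ⧸ Q) (Ideal.Quotient.mk P x) := rfl
  change f (Ideal.Quotient.mk Q (φ x)) = a x
  rw [h1, f.commutes]
  rfl

end Lift

section Scheme

open SGA1 Groth.Agent.Lib.Helper20

/-- A morphism from an affine scheme `Spec R` landing in an affine open is determined by its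
ring map. -/
theorem spec_hom_eq {R : CommRingCat.{u}} {Y : Scheme.{u}} (g : Spec R ⟶ Y) {U : Y.Opens}
    (hU : IsAffineOpen U) (e : (⊤ : (Spec R).Opens) ≤ g ⁻¹ᵁ U) :
    g = Spec.map (g.appLE U ⊤ e ≫ (Scheme.ΓSpecIso R).hom) ≫ hU.fromSpec := by
  have h := IsAffineOpen.SpecMap_appLE_fromSpec g hU (isAffineOpen_top (Spec R)) e
  rw [IsAffineOpen.fromSpec_top, Scheme.isoSpec_Spec_inv] at h
  rw [Spec.map_comp, Category.assoc, h, ← Category.assoc, ← Spec.map_comp, Iso.inv_hom_id,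
    Spec.map_id, Category.id_comp]

theorem spec_hom_ext {R : CommRingCat.{u}} {Y : Scheme.{u}} (g₁ g₂ : Spec R ⟶ Y) {U : Y.Opens}
    (hU : IsAffineOpen U) (e₁ : (⊤ : (Spec R).Opens) ≤ g₁ ⁻¹ᵁ U)
    (e₂ : (⊤ : (Spec R).Opens) ≤ g₂ ⁻¹ᵁ U) (h : g₁.appLE U ⊤ e₁ = g₂.appLE U ⊤ e₂) : g₁ = g₂ := by
  rw [spec_hom_eq g₁ hU e₁, spec_hom_eq g₂ hU e₂, h]

variable {X Y : Scheme.{u}} {G : Type u} [Group G] [Finite G] {ρ : G →* Aut X} {p : X ⟶ Y}

/-- `G` acts transitively on the field-valued points of `X` over a given point of `X/G`. -/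
theorem exists_rho_comp_eq (hp : IsQuot ρ p) {Ω : Type u} [Field Ω]
    (h₁ h₂ : Spec (CommRingCat.of Ω) ⟶ X) (heq : h₁ ≫ p = h₂ ≫ p) :
    ∃ g : G, h₂ = h₁ ≫ (ρ g).hom := by
  have := hp.affine
  let pt : Spec (CommRingCat.of Ω) := default
  obtain ⟨U, hU, hyU⟩ : ∃ U : Y.Opens, IsAffineOpen U ∧ (h₁ ≫ p).base pt ∈ U := by
    obtain ⟨_, ⟨V, hV, rfl⟩, hy, -⟩ :=
      (Y.isBasis_affineOpens).exists_subset_of_mem_open (Set.mem_univ ((h₁ ≫ p).base pt))
        isOpen_univ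
    exact ⟨V, hV, hy⟩
  have hT : IsAffineOpen (p ⁻¹ᵁ U) := hU.preimage p
  have e₁ : (⊤ : (Spec (CommRingCat.of Ω)).Opens) ≤ h₁ ⁻¹ᵁ (p ⁻¹ᵁ U) := by
    intro z _
    rw [Unique.eq_default z]
    exact hyU
  have e₂ : (⊤ : (Spec (CommRingCat.of Ω)).Opens) ≤ h₂ ⁻¹ᵁ (p ⁻¹ᵁ U) := by
    intro z _
    rw [Unique.eq_default z]
    have : (h₂ ≫ p).base pt ∈ U := heq ▸ hyU
    exact this
  letI := (p.app U).hom.toAlgebra
  letI := sectionAction ρ p hp.inv U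
  have := isInvariant hp U
  have := smulCommClass hp U
  let a₁ : Γ(X, p ⁻¹ᵁ U) →+* Ω :=
    (Scheme.ΓSpecIso (CommRingCat.of Ω)).hom.hom.comp (h₁.appLE (p ⁻¹ᵁ U) ⊤ e₁).hom
  let a₂ : Γ(X, p ⁻¹ᵁ U) →+* Ω :=
    (Scheme.ΓSpecIso (CommRingCat.of Ω)).hom.hom.comp (h₂.appLE (p ⁻¹ᵁ U) ⊤ e₂).hom
  have hcomp : ∀ (h : Spec (CommRingCat.of Ω) ⟶ X) (e : (⊤ : (Spec (CommRingCat.of Ω)).Opens) ≤
      h ⁻¹ᵁ (p ⁻¹ᵁ U)), p.app U ≫ h.appLE (p ⁻¹ᵁ U) ⊤ e = (h ≫ p).appLE U ⊤ e := by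
    intro h e
    rw [Scheme.Hom.app_eq_appLE, Scheme.Hom.appLE_comp_appLE]
  have hA : a₁.comp (algebraMap Γ(Y, U) Γ(X, p ⁻¹ᵁ U)) =
      a₂.comp (algebraMap Γ(Y, U) Γ(X, p ⁻¹ᵁ U)) := by
    have h3 : p.app U ≫ h₁.appLE (p ⁻¹ᵁ U) ⊤ e₁ = p.app U ≫ h₂.appLE (p ⁻¹ᵁ U) ⊤ e₂ := by
      rw [hcomp, hcomp]
      exact appLE_congr_hom heq _ _ _
    ext s
    exact congrArg (fun f => (Scheme.ΓSpecIso (CommRingCat.of Ω)).hom.hom (f.hom s)) h3
  obtain ⟨g, hg⟩ := exists_smul_forall_eq G a₁ a₂ hA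
  refine ⟨g⁻¹, ?_⟩
  have e₁' : (⊤ : (Spec (CommRingCat.of Ω)).Opens) ≤ (h₁ ≫ (ρ g⁻¹).hom) ⁻¹ᵁ (p ⁻¹ᵁ U) := by
    intro z _
    have h4 : (h₁ ≫ (ρ g⁻¹).hom ≫ p).base z ∈ U := by
      rw [hp.inv]
      exact e₁ (Set.mem_univ z)
    exact h4
  refine spec_hom_ext h₂ (h₁ ≫ (ρ g⁻¹).hom) hT e₂ e₁' ?_
  have h5 : (h₁ ≫ (ρ g⁻¹).hom).appLE (p ⁻¹ᵁ U) ⊤ e₁' =
      (ρ g⁻¹).hom.appLE (p ⁻¹ᵁ U) (p ⁻¹ᵁ U) (preimage_le_of_inv ρ p hp.inv g⁻¹ U) ≫
        h₁.appLE (p ⁻¹ᵁ U) ⊤ e₁ := by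
    rw [Scheme.Hom.appLE_comp_appLE]
  rw [h5]
  ext s
  apply (ConcreteCategory.bijective_of_isIso (Scheme.ΓSpecIso (CommRingCat.of Ω)).hom).1
  exact hg s

/-- Geometric points lift along the quotient map. -/
theorem exists_lift_geometric_point (hp : IsQuot ρ p) {Ω : Type u} [Field Ω] [IsAlgClosed Ω]
    (g : Spec (CommRingCat.of Ω) ⟶ Y) : ∃ h : Spec (CommRingCat.of Ω) ⟶ X, h ≫ p = g := by
  have := hp.affine
  let pt : Spec (CommRingCat.of Ω) := default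
  obtain ⟨U, hU, hyU⟩ : ∃ U : Y.Opens, IsAffineOpen U ∧ g.base pt ∈ U := by
    obtain ⟨_, ⟨V, hV, rfl⟩, hy, -⟩ :=
      (Y.isBasis_affineOpens).exists_subset_of_mem_open (Set.mem_univ (g.base pt)) isOpen_univ
    exact ⟨V, hV, hy⟩
  have hT : IsAffineOpen (p ⁻¹ᵁ U) := hU.preimage p
  have e : (⊤ : (Spec (CommRingCat.of Ω)).Opens) ≤ g ⁻¹ᵁ U := by
    intro z _
    rw [Unique.eq_default z]
    exact hyU
  let a : Γ(Y, U) →+* Ω :=
    (Scheme.ΓSpecIso (CommRingCat.of Ω)).hom.hom.comp (g.appLE U ⊤ e).hom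
  obtain ⟨b, hb⟩ := exists_lift_of_isIntegral (p.app U).hom (hp.injective U)
    (isIntegral_app hp U) a
  refine ⟨Spec.map (CommRingCat.ofHom b) ≫ hT.fromSpec, ?_⟩
  have h1 : hT.fromSpec ≫ p = Spec.map (p.app U) ≫ hU.fromSpec := by
    rw [← IsAffineOpen.SpecMap_appLE_fromSpec p hU hT le_rfl, Scheme.Hom.appLE_eq_app]
  rw [Category.assoc, h1, ← Category.assoc, ← Spec.map_comp]
  rw [spec_hom_eq g hU e]
  congr 2
  ext s
  exact congrArg (fun f => f s) hb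

end Scheme

end Groth.Agent.R2.H66.QuotPts
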