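import Mathlib
import Groth.Agent.Lib.Helper20QuotAff
import Groth.Agent.S5137

/-!
# Quotients in stages and products of quotients (helper66)

* `isQuot_comp_stages`: if `π₁ : W ⟶ W₁` is a quotient by `G` (acting through `θ (g, 1)`), `π₂ : W₁ ⟶ W₂`
  a quotient by `H` acting on `W₁` through `τ`, and `π₁` is `H`-equivariant, then `π₁ ≫ π₂` is a
  quotient by `G × H`.
* `autPullbackRight`: the action `id × σ` on `A ×_S B`.
* `isQuot_prod`: product of quotients over a base over which everything is flat.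
-/

set_option autoImplicit false
universe u

namespace Groth.Agent.R2.H66.QuotStages

open CategoryTheory CategoryTheory.Limits AlgebraicGeometry SGA1 Groth.Agent.Lib.Helper20

theorem isQuot_comp_stages {W W₁ W₂ : Scheme.{u}} {G H : Type u} [Group G] [Group H]
    (θ : G × H →* Aut W) (τ : H →* Aut W₁) (π₁ : W ⟶ W₁) (π₂ : W₁ ⟶ W₂)
    (h₁ : IsQuot (θ.comp (MonoidHom.inl G H)) π₁) (h₂ : IsQuot τ π₂)
    (heq : ∀ h : H, (θ (1, h)).hom ≫ π₁ = π₁ ≫ (τ h).hom) :
    IsQuot θ (π₁ ≫ π₂) := by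
  have := h₁.affine
  have := h₂.affine
  have hinvG : ∀ g : G, (θ (g, 1)).hom ≫ π₁ = π₁ := fun g => h₁.inv g
  have hinv : ∀ gh : G × H, (θ gh).hom ≫ π₁ ≫ π₂ = π₁ ≫ π₂ := by
    rintro ⟨g, h⟩
    have h1 : ((g, h) : G × H) = (g, 1) * (1, h) := by simp
    rw [h1, map_mul, Aut.Aut_mul_def]
    change ((θ (1, h)).hom ≫ (θ (g, 1)).hom) ≫ π₁ ≫ π₂ = _
    rw [Category.assoc, reassoc_of% (hinvG g), reassoc_of% (heq h), h₂.inv h]
  have happ : ∀ (U : W₂.Opens) (a : Γ(W₂, U)), ((π₁ ≫ π₂).app U).hom a =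
      (π₁.app (π₂ ⁻¹ᵁ U)).hom ((π₂.app U).hom a) := fun U a => rfl
  refine ⟨inferInstance, hinv, fun U => ?_, fun U s => ⟨?_, ?_⟩⟩
  · intro a b hab
    rw [happ, happ] at hab
    exact h₂.injective U (h₁.injective (π₂ ⁻¹ᵁ U) hab)
  · rintro ⟨a, rfl⟩ gh
    have := appLE_invariant (σ := fun gh : G × H => (θ gh).hom) hinv U ((π₁ ≫ π₂) ⁻¹ᵁ U) le_rfl gh
      (preimage_le_of_inv θ (π₁ ≫ π₂) hinv gh U) a
    rw [Scheme.Hom.appLE_eq_app] at this
    exact this
  · intro hs
    -- `s` comes from `W₁`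
    obtain ⟨t, ht⟩ := (h₁.range_iff (π₂ ⁻¹ᵁ U) s).mpr (fun g => hs (g, 1))
    -- `t` is `τ`-invariant
    have htinv : ∀ h : H, ((τ h).hom.appLE (π₂ ⁻¹ᵁ U) (π₂ ⁻¹ᵁ U)
        (preimage_le_of_inv τ π₂ h₂.inv h U)).hom t = t := by
      intro h
      apply h₁.injective (π₂ ⁻¹ᵁ U)
      have e1 : (τ h).hom.appLE (π₂ ⁻¹ᵁ U) (π₂ ⁻¹ᵁ U) (preimage_le_of_inv τ π₂ h₂.inv h U) ≫
          π₁.appLE (π₂ ⁻¹ᵁ U) (π₁ ⁻¹ᵁ π₂ ⁻¹ᵁ U) le_rfl =
            π₁.appLE (π₂ ⁻¹ᵁ U) (π₁ ⁻¹ᵁ π₂ ⁻¹ᵁ U) le_rfl ≫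
            (θ (1, h)).hom.appLE (π₁ ⁻¹ᵁ π₂ ⁻¹ᵁ U) (π₁ ⁻¹ᵁ π₂ ⁻¹ᵁ U)
              (preimage_le_of_inv θ (π₁ ≫ π₂) hinv (1, h) U) :=
        (Scheme.Hom.appLE_comp_appLE _ _ _ _ _ _ _).trans
          ((appLE_congr_hom (heq h).symm _ _ _).trans
            (Scheme.Hom.appLE_comp_appLE _ _ _ _ _ _ _).symm)
      have e2 := congrArg (fun f => f.hom t) e1
      simp only [CommRingCat.hom_comp, RingHom.coe_comp, Function.comp_apply,
        Scheme.Hom.appLE_eq_app] at e2
      rw [e2, ht]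
      exact hs (1, h)
    obtain ⟨r, hr⟩ := (h₂.range_iff U t).mpr htinv
    refine ⟨r, ?_⟩
    rw [happ, hr]
    exact ht

/-- The action `id × σ` of `H` on `A ×_S B` induced by an action on `B` over `S`. -/
noncomputable def autPullbackRight {S A B : Scheme.{u}} (a : A ⟶ S) (b : B ⟶ S) {H : Type u}
    [Group H] (σ : H →* Aut B) (hσ : ∀ h, (σ h).hom ≫ b = b) : H →* Aut (pullback a b) where
  toFun h :=
    { hom := pullback.lift (pullback.fst a b) (pullback.snd a b ≫ (σ h).hom)
        (by rw [Category.assoc, hσ h, pullback.condition])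
      inv := pullback.lift (pullback.fst a b) (pullback.snd a b ≫ (σ h).inv)
        (by rw [Category.assoc, show (σ h).inv ≫ b = b from by rw [Iso.inv_comp_eq, hσ h],
          pullback.condition])
      hom_inv_id := by
        apply pullback.hom_ext <;>
          simp only [Category.assoc, pullback.lift_fst, pullback.lift_snd, pullback.lift_snd_assoc,
            Iso.hom_inv_id, Category.comp_id, Category.id_comp]
      inv_hom_id := by
        apply pullback.hom_ext <;>
          simp only [Category.assoc, pullback.lift_fst, pullback.lift_snd, pullback.lift_snd_assoc,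
            Iso.inv_hom_id, Category.comp_id, Category.id_comp] }
  map_one' := by
    apply Iso.ext
    apply pullback.hom_ext
    · simp only [pullback.lift_fst]
      exact (Category.id_comp _).symm
    · simp only [pullback.lift_snd, map_one]
      exact (Category.comp_id _).trans (Category.id_comp _).symm
  map_mul' h h' := by
    apply Iso.ext
    apply pullback.hom_ext
    · simp only [pullback.lift_fst, Aut.Aut_mul_def, Iso.trans_hom, Category.assoc]
    · simp only [pullback.lift_snd, Aut.Aut_mul_def, Iso.trans_hom, Category.assoc, map_mul,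
        pullback.lift_snd_assoc]

@[simp]
theorem autPullbackRight_hom_fst {S A B : Scheme.{u}} (a : A ⟶ S) (b : B ⟶ S) {H : Type u}
    [Group H] (σ : H →* Aut B) (hσ : ∀ h, (σ h).hom ≫ b = b) (h : H) :
    (autPullbackRight a b σ hσ h).hom ≫ pullback.fst a b = pullback.fst a b :=
  pullback.lift_fst _ _ _

@[simp]
theorem autPullbackRight_hom_snd {S A B : Scheme.{u}} (a : A ⟶ S) (b : B ⟶ S) {H : Type u}
    [Group H] (σ : H →* Aut B) (hσ : ∀ h, (σ h).hom ≫ b = b) (h : H) :
    (autPullbackRight a b σ hσ h).hom ≫ pullback.snd a b = pullback.snd a b ≫ (σ h).hom :=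
  pullback.lift_snd _ _ _

/-- Product of quotients over a base `S`, when `Y` and `X/G` are flat over `S`. -/
theorem isQuot_prod {S X Y XG YH : Scheme.{u}} {G H : Type u} [Group G] [Finite G] [Group H]
    [Finite H] (fX : X ⟶ S) (fY : Y ⟶ S) (gX : XG ⟶ S) (gY : YH ⟶ S) [Flat fY] [Flat gX]
    (ρ : G →* Aut X) (σ : H →* Aut Y)
    (hσ : ∀ h, (σ h).hom ≫ fY = fY)
    (p : X ⟶ XG) (hp : p ≫ gX = fX) (q : Y ⟶ YH) (hq : q ≫ gY = fY)
    (hP : SGA1.IsQuot ρ p) (hQ : SGA1.IsQuot σ q)
    (θ : G × H →* Aut (pullback fX fY))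
    (hθ1 : ∀ gh : G × H, (θ gh).hom ≫ pullback.fst fX fY = pullback.fst fX fY ≫ (ρ gh.1).hom)
    (hθ2 : ∀ gh : G × H, (θ gh).hom ≫ pullback.snd fX fY = pullback.snd fX fY ≫ (σ gh.2).hom)
    (π : pullback fX fY ⟶ pullback gX gY) (hπ1 : π ≫ pullback.fst gX gY = pullback.fst fX fY ≫ p)
    (hπ2 : π ≫ pullback.snd gX gY = pullback.snd fX fY ≫ q) :
    SGA1.IsQuot θ π := by
  let π₁ : pullback fX fY ⟶ pullback gX fY :=
    pullback.lift (pullback.fst fX fY ≫ p) (pullback.snd fX fY)
      (by rw [Category.assoc, hp, pullback.condition])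
  let π₂ : pullback gX fY ⟶ pullback gX gY :=
    pullback.lift (pullback.fst gX fY) (pullback.snd gX fY ≫ q)
      (by rw [Category.assoc, hq, pullback.condition])
  have hπ₁fst : π₁ ≫ pullback.fst gX fY = pullback.fst fX fY ≫ p := pullback.lift_fst _ _ _
  have hπ₁snd : π₁ ≫ pullback.snd gX fY = pullback.snd fX fY := pullback.lift_snd _ _ _
  have hπ₂fst : π₂ ≫ pullback.fst gX gY = pullback.fst gX fY := pullback.lift_fst _ _ _
  have hπ₂snd : π₂ ≫ pullback.snd gX gY = pullback.snd gX fY ≫ q := pullback.lift_snd _ _ _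
  have hπ : π = π₁ ≫ π₂ := by
    apply pullback.hom_ext
    · rw [hπ1, Category.assoc, hπ₂fst, hπ₁fst]
    · rw [hπ2, Category.assoc, hπ₂snd, reassoc_of% hπ₁snd]
  let τ : H →* Aut (pullback gX fY) := autPullbackRight gX fY σ hσ
  rw [hπ]
  refine isQuot_comp_stages θ τ π₁ π₂ ?_ ?_ ?_
  · -- stage 1: base change of `p` along `XG ×_S Y ⟶ XG`
    have hY : IsPullback (pullback.fst gX fY) (pullback.snd gX fY) gX fY :=
      IsPullback.of_hasPullback gX fY
    have hbig : IsPullback (π₁ ≫ pullback.snd gX fY) (pullback.fst fX fY) fY (p ≫ gX) := by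
      rw [hπ₁snd, hp]
      exact (IsPullback.of_hasPullback fX fY).flip
    have hX : IsPullback (pullback.fst fX fY) π₁ p (pullback.fst gX fY) :=
      (IsPullback.of_right hbig hπ₁fst hY.flip).flip
    refine Groth.Agent.S5137.result ρ p hP gX fY (pullback.fst gX fY) (pullback.snd gX fY) hY
      (pullback.fst fX fY) π₁ hX _ (fun g => hθ1 (g, 1)) (fun g => ?_)
    apply pullback.hom_ext
    · have := hθ1 (g, 1)
      simp only [MonoidHom.comp_apply, MonoidHom.inl_apply, Category.assoc, hπ₁fst]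
      rw [reassoc_of% this, hP.inv g]
    · have := hθ2 (g, 1)
      simp only [MonoidHom.comp_apply, MonoidHom.inl_apply, Category.assoc, hπ₁snd]
      rw [this]
      change pullback.snd fX fY ≫ (σ 1).hom = _
      rw [map_one]
      exact Category.comp_id _
  · -- stage 2: base change of `q` along `XG ×_S YH ⟶ YH`
    have hY : IsPullback (pullback.snd gX gY) (pullback.fst gX gY) gY gX :=
      (IsPullback.of_hasPullback gX gY).flip
    have hbig : IsPullback (π₂ ≫ pullback.fst gX gY) (pullback.snd gX fY) gX (q ≫ gY) := by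
      rw [hπ₂fst, hq]
      exact IsPullback.of_hasPullback gX fY
    have hX : IsPullback (pullback.snd gX fY) π₂ q (pullback.snd gX gY) :=
      (IsPullback.of_right hbig hπ₂snd hY.flip).flip
    refine Groth.Agent.S5137.result σ q hQ gY gX (pullback.snd gX gY) (pullback.fst gX gY) hY
      (pullback.snd gX fY) π₂ hX τ (fun h => autPullbackRight_hom_snd gX fY σ hσ h) (fun h => ?_)
    apply pullback.hom_ext
    · simp only [Category.assoc, hπ₂fst]
      exact autPullbackRight_hom_fst gX fY σ hσ h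
    · simp only [Category.assoc, hπ₂snd]
      rw [reassoc_of% (autPullbackRight_hom_snd gX fY σ hσ h), hQ.inv h]
  · -- equivariance of `π₁`
    intro h
    apply pullback.hom_ext
    · have := hθ1 (1, h)
      simp only [Category.assoc, hπ₁fst, autPullbackRight_hom_fst, τ]
      rw [reassoc_of% this]
      change pullback.fst fX fY ≫ (ρ 1).hom ≫ p = _
      rw [map_one]
      exact congrArg (fun t => pullback.fst fX fY ≫ t) (Category.id_comp p)
    · have := hθ2 (1, h)
      simp only [Category.assoc, hπ₁snd, autPullbackRight_hom_snd, τ]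
      rw [this, reassoc_of% hπ₁snd]

end Groth.Agent.R2.H66.QuotStages
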