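import Mathlib
import Groth.Prelude.Def_Flat
import Groth.Agent.R2.H66QuotPts

/-!
# Universal injectivity / universal homeomorphism lemmas for quotients by finite groups (helper66)

* `universallyInjective_of_isQuot`: for a `G`-equivariant monomorphism `j : W ⟶ X` and quotients
  `pW : W ⟶ W/G`, `p : X ⟶ X/G`, the induced map `W/G ⟶ X/G` is universally injective.
* `isIntegralHom_of_isQuot`: the quotient map is integral.
* `isUnivHomeo_of`, `universallyInjective_of_comp`: small general lemmas.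
-/

set_option autoImplicit false
universe u

namespace Groth.Agent.R2.H66.QuotUI

open CategoryTheory AlgebraicGeometry SGA1 Groth.Agent.Lib.Helper20

/-- `Spec` of a field extension is an epimorphism of schemes. -/
theorem epi_spec_field (K L : Type u) [Field K] [Field L] [Algebra K L] :
    Epi (Spec.map (CommRingCat.ofHom (algebraMap K L))) := by
  have h1 : Flat (Spec.map (CommRingCat.ofHom (algebraMap K L))) := by
    rw [HasRingHomProperty.Spec_iff (P := @Flat)]
    exact RingHom.flat_algebraMap_iff.mpr inferInstance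
  have h2 : Surjective (Spec.map (CommRingCat.ofHom (algebraMap K L))) :=
    ⟨fun x => ⟨default, Subsingleton.elim _ _⟩⟩
  exact Flat.epi_of_flat_of_surjective _

theorem universallyInjective_of_isQuot {X XG W WG : Scheme.{u}} {G : Type u} [Group G] [Finite G]
    (ρ : G →* Aut X) (p : X ⟶ XG) (hP : IsQuot ρ p) (j : W ⟶ X) [Mono j] (ρW : G →* Aut W)
    (hρW : ∀ g, (ρW g).hom ≫ j = j ≫ (ρ g).hom) (pW : W ⟶ WG) (hPW : IsQuot ρW pW)
    (φ : WG ⟶ XG) (hφ : pW ≫ φ = j ≫ p) : UniversallyInjective φ := by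
  refine ((tfae_universallyInjective φ).out 1 0).mp ?_
  intro K _ g₁ g₂ hg
  have hg' : g₁ ≫ φ = g₂ ≫ φ := hg
  have hepi := epi_spec_field K (AlgebraicClosure K)
  obtain ⟨h₁, hh₁⟩ := Groth.Agent.R2.H66.QuotPts.exists_lift_geometric_point hPW
    (Spec.map (CommRingCat.ofHom (algebraMap K (AlgebraicClosure K))) ≫ g₁)
  obtain ⟨h₂, hh₂⟩ := Groth.Agent.R2.H66.QuotPts.exists_lift_geometric_point hPW
    (Spec.map (CommRingCat.ofHom (algebraMap K (AlgebraicClosure K))) ≫ g₂)
  have heq : (h₁ ≫ j) ≫ p = (h₂ ≫ j) ≫ p := by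
    rw [Category.assoc, Category.assoc, ← hφ, ← Category.assoc, ← Category.assoc, hh₁, hh₂,
      Category.assoc, Category.assoc, hg']
  obtain ⟨g, hgg⟩ := Groth.Agent.R2.H66.QuotPts.exists_rho_comp_eq hP (h₁ ≫ j) (h₂ ≫ j) heq
  have h3 : h₂ = h₁ ≫ (ρW g).hom := by
    rw [← cancel_mono j, Category.assoc, hρW g, ← Category.assoc]
    exact hgg
  rw [← cancel_epi (Spec.map (CommRingCat.ofHom (algebraMap K (AlgebraicClosure K)))),
    ← hh₁, ← hh₂, h3, Category.assoc, hPW.inv]

theorem isIntegralHom_of_isQuot {X Y : Scheme.{u}} {G : Type u} [Group G] [Finite G]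
    {ρ : G →* Aut X} {p : X ⟶ Y} (hp : IsQuot ρ p) : IsIntegralHom p :=
  { toIsAffineHom := hp.affine
    isIntegral_app := fun U _ => isIntegral_app hp U }

theorem surjective_of_isQuot' {X Y : Scheme.{u}} {G : Type u} [Group G] [Finite G]
    {ρ : G →* Aut X} {p : X ⟶ Y} (hp : IsQuot ρ p) : Surjective p :=
  ⟨surjective_of_isQuot hp⟩

theorem isUnivHomeo_of {X Y : Scheme.{u}} (f : X ⟶ Y) [UniversallyInjective f] [Surjective f]
    [UniversallyClosed f] : FlatMor.IsUnivHomeo f := by
  intro X' Y' i₁ i₂ f' hp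
  have hi : Function.Injective f' := UniversallyInjective.universally_injective i₁ i₂ f' hp
  have hc : IsClosedMap f' := UniversallyClosed.universally_isClosedMap i₁ i₂ f' hp
  have hs : Surjective f' := MorphismProperty.of_isPullback (P := @Surjective) hp.flip ‹_›
  exact (isHomeomorph_iff_continuous_isClosedMap_bijective).mpr
    ⟨f'.continuous, hc, hi, f'.surjective⟩

theorem universallyInjective_of_comp {X Y Z : Scheme.{u}} (g : X ⟶ Y) (π : Y ⟶ Z)
    [UniversallyInjective (g ≫ π)] : UniversallyInjective g := by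
  have htfae0 := (tfae_universallyInjective (g ≫ π)).out 0 1
  have h1 := htfae0.mp inferInstance
  have htfae := (tfae_universallyInjective g).out 0 1
  rw [htfae]
  intro K _ h₁ h₂ h
  apply h1 K
  change h₁ ≫ g ≫ π = h₂ ≫ g ≫ π
  have h' : h₁ ≫ g = h₂ ≫ g := h
  rw [← Category.assoc, h', Category.assoc]

theorem ker_toImage_eq_bot {X Y : Scheme.{u}} (f : X ⟶ Y) [QuasiCompact f] : f.toImage.ker = ⊥ := by
  refine Scheme.IdealSheafData.ext_of_iSup_eq_top
    (fun U : Y.affineOpens => ⟨f.imageι ⁻¹ᵁ U.1, U.2.preimage f.imageι⟩) ?_ ?_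
  · rw [eq_top_iff]
    intro x _
    obtain ⟨_, ⟨U, hU : IsAffineOpen U, rfl⟩, hxU, -⟩ :=
      Y.isBasis_affineOpens.exists_subset_of_mem_open (Set.mem_univ (f.imageι x)) isOpen_univ
    exact TopologicalSpace.Opens.mem_iSup.mpr ⟨⟨U, hU⟩, hxU⟩
  · intro U
    rw [Scheme.Hom.ker_apply]
    simp only [Scheme.IdealSheafData.ideal_bot, Pi.bot_apply]
    exact (RingHom.injective_iff_ker_eq_bot _).mp (f.toImage_app_injective U)

end Groth.Agent.R2.H66.QuotUI
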