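import Mathlib
import Groth.Prelude.Def_StabCat
import Groth.Agent.R2.H70StabPoly

/-!
# Polynomial lemmas for Jordan–Hölder filtrations (helper66, PROJ:shstab PKG-JH)

Everything is relative to a fixed polynomial `pE` (the Hilbert polynomial of a semistable object) with
positive multiplicity; `RedEq d P pE` says that `P` is proportional to `pE`.
-/

set_option autoImplicit false

open Polynomial StabCat

namespace Groth.Agent.R2.H66.StabJHPoly

open Groth.Agent.R2.H70.StabPoly

variable {d : ℕ} {pE : ℚ[X]}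

theorem redEq_zero_left (d : ℕ) (pE : ℚ[X]) : RedEq d 0 pE := by
  unfold RedEq
  rw [smul_zero, alpha_zero, zero_smul]

theorem redEq_add {P Q : ℚ[X]} (hP : RedEq d P pE) (hQ : RedEq d Q pE) : RedEq d (P + Q) pE := by
  unfold RedEq at *
  rw [smul_add, alpha_add, add_smul, hP, hQ]

theorem redEq_sub {P Q : ℚ[X]} (hP : RedEq d P pE) (hQ : RedEq d Q pE) : RedEq d (P - Q) pE := by
  unfold RedEq at *
  rw [smul_sub, alpha_sub, sub_smul, hP, hQ]

theorem redEq_of_redEq_of_redEq {T Q : ℚ[X]} (he : alpha d pE ≠ 0) (hT : RedEq d T pE)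
    (hQ : RedEq d Q pE) : RedEq d T Q := by
  unfold RedEq at *
  have h1 : alpha d pE • (alpha d Q • T) = alpha d pE • (alpha d T • Q) := by
    calc alpha d pE • (alpha d Q • T) = alpha d Q • (alpha d pE • T) := smul_comm _ _ _
      _ = alpha d Q • (alpha d T • pE) := by rw [hT]
      _ = alpha d T • (alpha d Q • pE) := smul_comm _ _ _
      _ = alpha d T • (alpha d pE • Q) := by rw [hQ]
      _ = alpha d pE • (alpha d T • Q) := smul_comm _ _ _
  exact smul_right_injective _ he h1

theorem eq_of_polyLE_of_polyLE_of_add_eq {A A' B B' : ℚ[X]} (h1 : PolyLE A A') (h2 : PolyLE B B')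
    (h : A + B = A' + B') : A = A' ∧ B = B' := by
  have key : ∀ m : ℕ, A.eval (m : ℚ) + B.eval (m : ℚ) = A'.eval (m : ℚ) + B'.eval (m : ℚ) := by
    intro m
    have := congrArg (eval (m : ℚ)) h
    rwa [eval_add, eval_add] at this
  obtain ⟨N₁, h₁⟩ := h1
  obtain ⟨N₂, h₂⟩ := h2
  constructor
  · refine polyLE_antisymm ⟨N₁, h₁⟩ ⟨N₂, fun m hm => ?_⟩
    have := key m
    have := h₂ m hm
    linarith
  · refine polyLE_antisymm ⟨N₂, h₂⟩ ⟨N₁, fun m hm => ?_⟩
    have := key m
    have := h₁ m hm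
    linarith

/-- sums and intersections: if `S + I = F + G`, `F`, `G` are proportional to `pE` and `S`, `I` satisfy the
semistability inequality, then `S` and `I` are proportional to `pE`. -/
theorem redEq_of_add_eq {S I F G : ℚ[X]} (hS : RedLE d S pE) (hI : RedLE d I pE)
    (hsum : S + I = F + G) (hF : RedEq d F pE) (hG : RedEq d G pE) :
    RedEq d S pE ∧ RedEq d I pE := by
  unfold RedLE at hS hI
  unfold RedEq at *
  apply eq_of_polyLE_of_polyLE_of_add_eq hS hI
  have ha : alpha d S + alpha d I = alpha d F + alpha d G := by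
    rw [← alpha_add, ← alpha_add, hsum]
  rw [← smul_add, hsum, smul_add, hF, hG, ← add_smul, ← add_smul, ha]

/-- strict monotonicity of the multiplicity along proportional polynomials -/
theorem alpha_lt_of_redEq {P Q : ℚ[X]} (he : 0 < alpha d pE) (hpos : PolyLT 0 pE)
    (hP : RedEq d P pE) (hQ : RedEq d Q pE) (hQP : PolyLT 0 (Q - P)) : alpha d P < alpha d Q := by
  by_contra hcon
  rw [not_lt] at hcon
  obtain ⟨N₁, h₁⟩ := hpos
  obtain ⟨N₂, h₂⟩ := hQP
  have hD : RedEq d (Q - P) pE := redEq_sub hQ hP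
  unfold RedEq at hD
  have := congrArg (eval ((max N₁ N₂ : ℕ) : ℚ)) hD
  rw [eval_smul, eval_smul, smul_eq_mul, smul_eq_mul, alpha_sub] at this
  have e1 := h₁ (max N₁ N₂) (le_max_left _ _)
  have e2 := h₂ (max N₁ N₂) (le_max_right _ _)
  rw [eval_zero] at e1 e2
  have e3 : 0 < alpha d pE * eval ((max N₁ N₂ : ℕ) : ℚ) (Q - P) := mul_pos he e2
  have e4 : (alpha d Q - alpha d P) * eval ((max N₁ N₂ : ℕ) : ℚ) pE ≤ 0 :=
    mul_nonpos_of_nonpos_of_nonneg (by linarith) e1.le
  linarith

/-- purity: a summand of multiplicity zero is eventually nonpositive -/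
theorem polyLE_zero_of_alpha_eq_zero {P T : ℚ[X]} (he : 0 < alpha d pE) (hP : RedEq d P pE)
    (hZ : RedLE d (P + T) pE) (hT : alpha d T = 0) : PolyLE T 0 := by
  unfold RedLE at hZ
  unfold RedEq at hP
  rw [alpha_add, hT, add_zero, ← hP, smul_add] at hZ
  obtain ⟨N, hN⟩ := hZ
  refine ⟨N, fun m hm => ?_⟩
  have := hN m hm
  rw [eval_add, eval_smul, eval_smul, smul_eq_mul, smul_eq_mul] at this
  rw [eval_zero]
  have h2 : alpha d pE * eval (m : ℚ) T ≤ 0 := by linarith
  by_contra hcon
  rw [not_le] at hcon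
  have := mul_pos he hcon
  linarith

/-- the strict inequality passes to quotients by a proportional part -/
theorem redLT_sub_of_redLT {P Q Z : ℚ[X]} (he : 0 < alpha d pE) (hP : RedEq d P pE)
    (hQ : RedEq d Q pE) (hZ : RedLT d Z pE) (hpos : 0 < alpha d (Q - P)) :
    RedLT d (Z - P) (Q - P) := by
  unfold RedLT at *
  unfold RedEq at hP hQ
  obtain ⟨N, hN⟩ := hZ
  refine ⟨N, fun m hm => ?_⟩
  have h := hN m hm
  have eP := congrArg (eval (m : ℚ)) hP
  have eQ := congrArg (eval (m : ℚ)) hQ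
  rw [eval_smul, eval_smul, smul_eq_mul, smul_eq_mul] at h eP eQ
  rw [eval_smul, eval_smul, smul_eq_mul, smul_eq_mul, eval_sub, eval_sub, alpha_sub, alpha_sub]
  rw [alpha_sub] at hpos
  -- multiply by `e > 0`
  have key : alpha d pE * ((alpha d Q - alpha d P) * (eval (m : ℚ) Z - eval (m : ℚ) P)) <
      alpha d pE * ((alpha d Z - alpha d P) * (eval (m : ℚ) Q - eval (m : ℚ) P)) := by
    have h1 : alpha d pE * ((alpha d Q - alpha d P) * (eval (m : ℚ) Z - eval (m : ℚ) P)) =
        (alpha d Q - alpha d P) * (alpha d pE * eval (m : ℚ) Z - alpha d P * eval (m : ℚ) pE) := by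
      rw [← eP]; ring
    have h2 : alpha d pE * ((alpha d Z - alpha d P) * (eval (m : ℚ) Q - eval (m : ℚ) P)) =
        (alpha d Q - alpha d P) * (alpha d Z * eval (m : ℚ) pE - alpha d P * eval (m : ℚ) pE) := by
      have : alpha d pE * ((alpha d Z - alpha d P) * (eval (m : ℚ) Q - eval (m : ℚ) P)) =
          (alpha d Z - alpha d P) * (alpha d pE * eval (m : ℚ) Q - alpha d pE * eval (m : ℚ) P) := by
        ring
      rw [this, eP, eQ]; ring
    rw [h1, h2]
    exact mul_lt_mul_of_pos_left (by linarith) hpos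
  exact lt_of_mul_lt_mul_left key he.le

end Groth.Agent.R2.H66.StabJHPoly
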