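import Mathlib
import Groth.Agent.Lib.Helper27SubobjAb

/-!
# Subobject calculus for Jordan–Hölder filtrations (helper66, PROJ:shstab PKG-JH)

For subobjects of an object `E` of an abelian category:
* kernel descriptions of `F ⊓ G` and `F ⊔ G`;
* for `x ≤ z ≤ y` the induced monomorphism `z/x ⟶ y/x`;
* for a monomorphism `f : T ⟶ y/x` the preimage `x ≤ pre ≤ y` with `0 → x → pre → T → 0`.
-/

set_option autoImplicit false

universe v u

open CategoryTheory CategoryTheory.Limits

namespace Groth.Agent.R2.H66.StabJHSub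

open Groth.Agent.Lib.Helper27.SubobjAb

variable {C : Type u} [Category.{v} C] [Abelian C] {E : C}

/-! ### kernel descriptions of `⊓` and `⊔` -/

/-- the map `G ⟶ E ⟶ E/F` whose kernel is `F ⊓ G` -/
noncomputable abbrev infMap (F G : Subobject E) : (G : C) ⟶ cokernel F.arrow :=
  G.arrow ≫ cokernel.π F.arrow

theorem inf_eq_mk (F G : Subobject E) :
    F ⊓ G = Subobject.mk (kernel.ι (infMap F G) ≫ G.arrow) := by
  apply le_antisymm
  · have h0 : Subobject.ofLE (F ⊓ G) G inf_le_right ≫ infMap F G = 0 := by
      rw [← Category.assoc, Subobject.ofLE_arrow, ← factors_iff_comp_cokernel]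
      exact Subobject.inf_arrow_factors_left F G
    refine Subobject.le_mk_of_comm (kernel.lift _ (Subobject.ofLE (F ⊓ G) G inf_le_right) h0) ?_
    rw [← Category.assoc, kernel.lift_ι, Subobject.ofLE_arrow]
  · apply le_inf
    · have hF : F.Factors (kernel.ι (infMap F G) ≫ G.arrow) := by
        rw [factors_iff_comp_cokernel, Category.assoc]
        exact kernel.condition _
      exact Subobject.mk_le_of_comm (F.factorThru _ hF) (Subobject.factorThru_arrow _ _ _)
    · exact Subobject.mk_le_of_comm (kernel.ι (infMap F G)) rfl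

/-- `F ⊓ G` is the kernel of `G ⟶ E/F` -/
noncomputable def infIso (F G : Subobject E) : ((F ⊓ G : Subobject E) : C) ≅ kernel (infMap F G) :=
  Subobject.isoOfEqMk _ _ (inf_eq_mk F G)

/-- the map `E ⟶ E/F ⟶ (E/F)/G` whose kernel is `F ⊔ G` -/
noncomputable abbrev supMap (F G : Subobject E) : E ⟶ cokernel (infMap F G) :=
  cokernel.π F.arrow ≫ cokernel.π (infMap F G)

theorem sup_eq_mk (F G : Subobject E) : F ⊔ G = Subobject.mk (kernel.ι (supMap F G)) := by
  apply le_antisymm
  · apply sup_le
    · have h0 : F.arrow ≫ supMap F G = 0 := by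
        rw [← Category.assoc, cokernel.condition, zero_comp]
      exact Subobject.le_mk_of_comm (kernel.lift _ F.arrow h0) (kernel.lift_ι _ _ _)
    · have h0 : G.arrow ≫ supMap F G = 0 := by
        rw [← Category.assoc]
        exact cokernel.condition (infMap F G)
      exact Subobject.le_mk_of_comm (kernel.lift _ G.arrow h0) (kernel.lift_ι _ _ _)
  · have hF : F.arrow ≫ cokernel.π (F ⊔ G).arrow = 0 := by
      rw [← factors_iff_comp_cokernel]
      exact Subobject.factors_of_le _ le_sup_left (Subobject.factors_self _)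
    have hG : G.arrow ≫ cokernel.π (F ⊔ G).arrow = 0 := by
      rw [← factors_iff_comp_cokernel]
      exact Subobject.factors_of_le _ le_sup_right (Subobject.factors_self _)
    let v : cokernel F.arrow ⟶ cokernel (F ⊔ G).arrow := cokernel.desc _ _ hF
    have hv : infMap F G ≫ v = 0 := by
      rw [Category.assoc, cokernel.π_desc, hG]
    let w : cokernel (infMap F G) ⟶ cokernel (F ⊔ G).arrow := cokernel.desc _ v hv
    have hw : supMap F G ≫ w = cokernel.π (F ⊔ G).arrow := by
      rw [Category.assoc, cokernel.π_desc, cokernel.π_desc]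
    have h1 : (F ⊔ G).Factors (kernel.ι (supMap F G)) := by
      rw [factors_iff_comp_cokernel, ← hw, ← Category.assoc, kernel.condition, zero_comp]
    exact Subobject.mk_le_of_comm ((F ⊔ G).factorThru _ h1) (Subobject.factorThru_arrow _ _ _)

/-- `F ⊔ G` is the kernel of `E ⟶ (E/F)/G` -/
noncomputable def supIso (F G : Subobject E) : ((F ⊔ G : Subobject E) : C) ≅ kernel (supMap F G) :=
  Subobject.isoOfEqMk _ _ (sup_eq_mk F G)

/-! ### monomorphisms are kernels of their cokernels -/

/-- a monomorphism is the kernel of its cokernel -/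
noncomputable def isoKernelCokernel {F X : C} (ι : F ⟶ X) [Mono ι] : F ≅ kernel (cokernel.π ι) :=
  asIso (Abelian.factorThruImage ι)

/-! ### intermediate subobjects: `z/x ⟶ y/x` -/

section Inter

variable {x z y : Subobject E} (hxz : x ≤ z) (hzy : z ≤ y)

/-- the map `z ⟶ y ⟶ y/x` -/
noncomputable abbrev toQuot : (z : C) ⟶ cokernel (Subobject.ofLE x y (hxz.trans hzy)) :=
  Subobject.ofLE z y hzy ≫ cokernel.π (Subobject.ofLE x y (hxz.trans hzy))

theorem ofLE_toQuot : Subobject.ofLE x z hxz ≫ toQuot hxz hzy = 0 := by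
  rw [← Category.assoc, Subobject.ofLE_comp_ofLE, cokernel.condition]

/-- the induced map `z/x ⟶ y/x` -/
noncomputable def cokerMap :
    cokernel (Subobject.ofLE x z hxz) ⟶ cokernel (Subobject.ofLE x y (hxz.trans hzy)) :=
  cokernel.desc _ (toQuot hxz hzy) (ofLE_toQuot hxz hzy)

@[reassoc]
theorem π_cokerMap :
    cokernel.π (Subobject.ofLE x z hxz) ≫ cokerMap hxz hzy = toQuot hxz hzy :=
  cokernel.π_desc _ _ _

instance mono_cokerMap : Mono (cokerMap hxz hzy) := by
  apply Preadditive.mono_of_cancel_zero
  intro W t ht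
  -- lift `t` along the epi `z ⟶ z/x`
  let π := cokernel.π (Subobject.ofLE x z hxz)
  let p1 := pullback.fst t π
  let p2 := pullback.snd t π
  have hcond : p1 ≫ t = p2 ≫ π := pullback.condition
  have : Epi p1 := by dsimp [p1]; infer_instance
  have h1 : (p2 ≫ Subobject.ofLE z y hzy) ≫
      cokernel.π (Subobject.ofLE x y (hxz.trans hzy)) = 0 := by
    rw [Category.assoc]
    change p2 ≫ toQuot hxz hzy = 0
    rw [← π_cokerMap hxz hzy, ← Category.assoc, ← hcond, Category.assoc, ht, comp_zero]
  obtain ⟨r, hr⟩ := exists_lift_ofLE (hxz.trans hzy) _ h1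
  have h2 : r ≫ Subobject.ofLE x z hxz = p2 := by
    rw [← cancel_mono (Subobject.ofLE z y hzy), Category.assoc, Subobject.ofLE_comp_ofLE, hr]
  have h3 : p2 ≫ π = 0 := by
    rw [← h2, Category.assoc, cokernel.condition, comp_zero]
  rw [← hcond] at h3
  exact (cancel_epi p1).mp (by rw [h3, comp_zero])

theorem le_of_isZero_cokernel (h : IsZero (cokernel (Subobject.ofLE x z hxz))) : z ≤ x :=
  le_of_cokernel_π_eq_zero hxz (h.eq_of_tgt _ _)

theorem le_of_epi_cokerMap (h : Epi (cokerMap hxz hzy)) : y ≤ z := by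
  have hg : Epi (toQuot hxz hzy) := by
    rw [← π_cokerMap hxz hzy]
    exact epi_comp _ _
  set ι := Subobject.ofLE x y (hxz.trans hzy) with hι
  set q := cokernel.π ι with hq
  have hιa : ι ≫ y.arrow = x.arrow := Subobject.ofLE_arrow _
  apply Subobject.le_of_factors
  rw [factors_iff_comp_cokernel]
  have hk : ι ≫ (y.arrow ≫ cokernel.π z.arrow) = 0 := by
    rw [← Category.assoc, hιa, ← factors_iff_comp_cokernel]
    exact Subobject.factors_of_le _ hxz (Subobject.factors_self _)
  let u := cokernel.desc ι _ hk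
  have hu : q ≫ u = y.arrow ≫ cokernel.π z.arrow := cokernel.π_desc _ _ _
  have hgu : toQuot hxz hzy ≫ u = 0 := by
    rw [Category.assoc, hu, ← Category.assoc, Subobject.ofLE_arrow, cokernel.condition]
  have hu0 : u = 0 := (cancel_epi (toQuot hxz hzy)).mp (by rw [hgu, comp_zero])
  rw [← hu, hu0, comp_zero]

end Inter

/-! ### preimages of subobjects of a quotient -/

section Pre

variable {x y : Subobject E} (hxy : x ≤ y) {T : C}
  (f : T ⟶ cokernel (Subobject.ofLE x y hxy)) [Mono f]

/-- the preimage in `y` of a subobject `T` of `y/x`, as an object -/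
noncomputable abbrev preObj : C := pullback f (cokernel.π (Subobject.ofLE x y hxy))

/-- the preimage in `y` of a subobject `T` of `y/x`, as a subobject of `E` -/
noncomputable def pre : Subobject E :=
  Subobject.mk (pullback.snd f (cokernel.π (Subobject.ofLE x y hxy)) ≫ y.arrow)

noncomputable def preIso : ((pre hxy f : Subobject E) : C) ≅ preObj hxy f :=
  Subobject.underlyingIso _

/-- the inclusion `x ⟶ pre` -/
noncomputable def preLift : (x : C) ⟶ preObj hxy f :=
  pullback.lift 0 (Subobject.ofLE x y hxy) (by rw [cokernel.condition, zero_comp])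

@[reassoc (attr := simp)]
theorem preLift_fst : preLift hxy f ≫ pullback.fst f _ = 0 := pullback.lift_fst _ _ _

@[reassoc (attr := simp)]
theorem preLift_snd : preLift hxy f ≫ pullback.snd f _ = Subobject.ofLE x y hxy :=
  pullback.lift_snd _ _ _

instance mono_preLift : Mono (preLift hxy f) :=
  mono_of_mono_fac (preLift_snd hxy f)

theorem le_pre : x ≤ pre hxy f := by
  refine Subobject.le_mk_of_comm (preLift hxy f) ?_
  rw [← Category.assoc, preLift_snd, Subobject.ofLE_arrow]

theorem pre_le : pre hxy f ≤ y := Subobject.mk_le_of_comm _ rfl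

/-- the short complex `x ⟶ pre ⟶ T` -/
noncomputable def preSC : ShortComplex C :=
  ShortComplex.mk (preLift hxy f) (pullback.fst f (cokernel.π (Subobject.ofLE x y hxy)))
    (preLift_fst hxy f)

theorem preLift_isKernel_aux {A : C} (t : A ⟶ preObj hxy f)
    (ht : t ≫ pullback.fst f (cokernel.π (Subobject.ofLE x y hxy)) = 0) :
    ∃ l : A ⟶ (x : C), l ≫ preLift hxy f = t := by
  have h1 : (t ≫ pullback.snd f _) ≫ cokernel.π (Subobject.ofLE x y hxy) = 0 := by
    rw [Category.assoc, ← pullback.condition, ← Category.assoc, ht, zero_comp]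
  obtain ⟨r, hr⟩ := exists_lift_ofLE hxy _ h1
  refine ⟨r, ?_⟩
  apply pullback.hom_ext
  · rw [Category.assoc, preLift_fst, comp_zero, ht]
  · rw [Category.assoc, preLift_snd, hr]

theorem preSC_shortExact : (preSC hxy f).ShortExact := by
  have hm : Mono (preSC hxy f).f := mono_preLift hxy f
  have he : Epi (preSC hxy f).g := by dsimp [preSC]; infer_instance
  refine ShortComplex.ShortExact.mk' ?_ hm he
  apply ShortComplex.exact_of_f_is_kernel
  exact KernelFork.IsLimit.ofι' _ _ (fun {A} t ht =>
    ⟨(preLift_isKernel_aux hxy f t ht).choose, (preLift_isKernel_aux hxy f t ht).choose_spec⟩)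

/-- the preimage is a kernel of a map from a biproduct (for closure properties) -/
noncomputable def preObjIsoKernel :
    preObj hxy f ≅ kernel (biprod.desc f (-cokernel.π (Subobject.ofLE x y hxy))) :=
  IsLimit.conePointUniqueUpToIso
    (Abelian.PullbackToBiproductIsKernel.isLimitPullbackToBiproduct f _) (limit.isLimit _)

theorem isZero_of_pre_le (h : pre hxy f ≤ x) : IsZero T := by
  set q := cokernel.π (Subobject.ofLE x y hxy) with hq
  let p1 := pullback.fst f q
  let p2 := pullback.snd f q
  have : Epi p1 := by dsimp [p1]; infer_instance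
  have h1 : x.Factors (p2 ≫ y.arrow) :=
    Subobject.factors_of_le _ h (Subobject.mk_factors_self _)
  have h2 : p2 = x.factorThru _ h1 ≫ Subobject.ofLE x y hxy := by
    rw [← cancel_mono y.arrow, Category.assoc, Subobject.ofLE_arrow, Subobject.factorThru_arrow]
  have h3 : p2 ≫ q = 0 := by
    rw [h2, Category.assoc, cokernel.condition, comp_zero]
  have h4 : p1 ≫ f = 0 := by rw [pullback.condition]; exact h3
  have h5 : f = 0 := (cancel_epi p1).mp (by rw [h4, comp_zero])
  have h6 : 𝟙 T = 0 := by
    rw [← cancel_mono f, h5, comp_zero, comp_zero]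
  exact (IsZero.iff_id_eq_zero T).mpr h6

theorem isIso_of_le_pre (h : y ≤ pre hxy f) : IsIso f := by
  set q := cokernel.π (Subobject.ofLE x y hxy) with hq
  let p1 := pullback.fst f q
  let p2 := pullback.snd f q
  have hcond : p1 ≫ f = p2 ≫ q := pullback.condition
  have h1 : (pre hxy f).Factors y.arrow := Subobject.factors_of_le _ h (Subobject.factors_self _)
  obtain ⟨s, hs⟩ : ∃ s : (y : C) ⟶ pullback f q, s ≫ (p2 ≫ y.arrow) = y.arrow := by
    unfold pre at h1
    rw [Subobject.mk_factors_iff] at h1
    obtain ⟨s, hs⟩ := h1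
    exact ⟨s, hs⟩
  have hs' : s ≫ p2 = 𝟙 _ := by
    rw [← cancel_mono y.arrow, Category.assoc, hs, Category.id_comp]
  have h2 : q = (s ≫ p1) ≫ f := by
    rw [Category.assoc, hcond, ← Category.assoc, hs', Category.id_comp]
  have : Epi ((s ≫ p1) ≫ f) := by rw [← h2]; dsimp [q]; infer_instance
  have : Epi f := epi_of_epi (s ≫ p1) f
  exact isIso_of_mono_of_epi f

end Pre

end Groth.Agent.R2.H66.StabJHSub
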