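import Mathlib
import Groth.Agent.R2.H70StabCtx
import Groth.Agent.R2.H70StabHom
import Groth.Agent.R2.H66StabJHPoly
import Groth.Agent.R2.H66StabJHSub

/-!
# The lattice of destabilising-free subobjects of a semistable object (helper66, PROJ:shstab PKG-JH)

For `E` semistable of dimension `d` in a `HilbCtx`, the tested subobjects `F ⊆ E` whose Hilbert polynomial is
proportional to that of `E` (`RedEq d P_F P_E`) form a sublattice `lat` of `Subobject E`; it is modular, of
finite length (the multiplicity is a strictly monotone integer-valued function), and `x ⋖ y` in `lat` iff the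
quotient `y/x` is stable (with the reduced Hilbert polynomial of `E`).
-/

set_option autoImplicit false
set_option linter.unusedSectionVars false

universe v u

open CategoryTheory CategoryTheory.Limits Polynomial StabCat

namespace Groth.Agent.R2.H66.StabJHLat

open Groth.Agent.R2.H70.StabPoly Groth.Agent.R2.H70.StabCtx Groth.Agent.R2.H70.StabHom
open Groth.Agent.R2.H66.StabJHPoly Groth.Agent.R2.H66.StabJHSub
open Groth.Agent.Lib.Helper27.SubobjAb

variable {C : Type u} [Category.{v} C] [Abelian C] (H : HilbCtx C) {d : ℕ} {E : C}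

/-- membership in the lattice: tested, with Hilbert polynomial proportional to that of `E` -/
def Mem (d : ℕ) (E : C) (F : Subobject E) : Prop :=
  H.ok (F : C) ∧ ∀ pF pE : ℚ[X], H.HP (F : C) pF → H.HP E pE → RedEq d pF pE

section Basic

variable (hE : H.IsSemistable E d)
include hE

theorem dim_E : H.dim E = (d : WithBot ℕ∞) := hE.2.2.1.dim_eq H hE.1 hE.2.1

theorem dim_sub_le (F : Subobject E) (hF : H.ok (F : C)) : H.dim (F : C) ≤ (d : WithBot ℕ∞) :=
  (H.dim_le_of_mono F.arrow hF hE.1).trans (dim_E H hE).le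

theorem dim_quot_le {x y : Subobject E} (hxy : x ≤ y) (hx : H.ok (x : C)) (hy : H.ok (y : C)) :
    H.dim (cokernel (Subobject.ofLE x y hxy)) ≤ (d : WithBot ℕ∞) :=
  (H.dim_cokernel_le _ hx hy).trans (dim_sub_le H hE y hy)

/-- the semistability inequality for all tested subobjects (including `0` and `E`) -/
theorem redLE_sub (F : Subobject E) (hF : H.ok (F : C)) {pF pE : ℚ[X]} (hpF : H.HP (F : C) pF)
    (hpE : H.HP E pE) : RedLE d pF pE := by
  by_cases h0 : IsZero (F : C)
  · rw [H.HP_eq_zero h0 hpF]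
    exact redLE_of_redEq (redEq_zero_left d pE)
  · by_cases hi : IsIso F.arrow
    · exact redLE_of_eq (H.HP_unique (H.HP_iso (asIso F.arrow) hpF) hpE)
    · exact hE.2.2.2 _ F.arrow inferInstance hF h0 hi _ _ hpF hpE

theorem polyLT_zero_E {pE : ℚ[X]} (hpE : H.HP E pE) : PolyLT 0 pE :=
  H.polyLT_zero hE.1 hE.2.1 (dim_E H hE).le hpE

theorem alpha_E_pos {pE : ℚ[X]} (hpE : H.HP E pE) : 0 < alpha d pE :=
  alpha_pos_of_isSemistable H hE hpE

theorem mem_bot : Mem H d E ⊥ := by
  have h0 : IsZero ((⊥ : Subobject E) : C) := (isZero_zero C).of_iso Subobject.botCoeIsoZero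
  refine ⟨H.ok_zero h0, fun pF pE hpF _ => ?_⟩
  rw [H.HP_eq_zero h0 hpF]
  exact redEq_zero_left d pE

theorem mem_top : Mem H d E ⊤ := by
  have e : ((⊤ : Subobject E) : C) ≅ E := asIso (⊤ : Subobject E).arrow
  refine ⟨H.ok_iso e.symm hE.1, fun pF pE hpF hpE => ?_⟩
  rw [H.HP_unique (H.HP_iso e hpF) hpE]
  rfl

theorem ok_inf {F G : Subobject E} (hF : H.ok (F : C)) (hG : H.ok (G : C)) :
    H.ok ((F ⊓ G : Subobject E) : C) :=
  H.ok_iso (infIso F G).symm (H.ok_kernel _ hG (H.ok_cokernel _ hF hE.1))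

theorem ok_sup {F G : Subobject E} (hF : H.ok (F : C)) (hG : H.ok (G : C)) :
    H.ok ((F ⊔ G : Subobject E) : C) :=
  H.ok_iso (supIso F G).symm
    (H.ok_kernel _ hE.1 (H.ok_cokernel _ hG (H.ok_cokernel _ hF hE.1)))

/-- Hilbert polynomial of a quotient `y/x` -/
theorem HP_quot {x y : Subobject E} (hxy : x ≤ y) (hx : H.ok (x : C)) (hy : H.ok (y : C))
    {px py : ℚ[X]} (hpx : H.HP (x : C) px) (hpy : H.HP (y : C) py) :
    H.HP (cokernel (Subobject.ofLE x y hxy)) (py - px) :=
  H.HP_cokernel _ hx hy hpx hpy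

theorem ok_quot {x y : Subobject E} (hxy : x ≤ y) (hx : H.ok (x : C)) (hy : H.ok (y : C)) :
    H.ok (cokernel (Subobject.ofLE x y hxy)) :=
  H.ok_cokernel _ hx hy

/-- `P(F ⊔ G) + P(F ⊓ G) = P(F) + P(G)` -/
theorem HP_sup_add_inf {F G : Subobject E} (hF : H.ok (F : C)) (hG : H.ok (G : C))
    {pF pG pS pI : ℚ[X]} (hpF : H.HP (F : C) pF) (hpG : H.HP (G : C) pG)
    (hpS : H.HP ((F ⊔ G : Subobject E) : C) pS) (hpI : H.HP ((F ⊓ G : Subobject E) : C) pI) :
    pS + pI = pF + pG := by
  have hS := ok_sup H hE hF hG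
  have hI := ok_inf H hE hF hG
  have h1 := HP_quot H hE (le_sup_left : F ≤ F ⊔ G) hF hS hpF hpS
  have h2 := HP_quot H hE (inf_le_right : F ⊓ G ≤ G) hI hG hpI hpG
  obtain ⟨e⟩ := nonempty_second_iso F G
  have h3 := H.HP_unique (H.HP_iso e h1) h2
  linear_combination h3

theorem mem_sup_inf {F G : Subobject E} (hF : Mem H d E F) (hG : Mem H d E G) :
    Mem H d E (F ⊔ G) ∧ Mem H d E (F ⊓ G) := by
  have hS := ok_sup H hE hF.1 hG.1
  have hI := ok_inf H hE hF.1 hG.1
  obtain ⟨pE, hpE⟩ := H.HP_exists hE.1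
  obtain ⟨pF, hpF⟩ := H.HP_exists hF.1
  obtain ⟨pG, hpG⟩ := H.HP_exists hG.1
  obtain ⟨pS, hpS⟩ := H.HP_exists hS
  obtain ⟨pI, hpI⟩ := H.HP_exists hI
  have hsum := HP_sup_add_inf H hE hF.1 hG.1 hpF hpG hpS hpI
  obtain ⟨h1, h2⟩ := redEq_of_add_eq (redLE_sub H hE _ hS hpS hpE) (redLE_sub H hE _ hI hpI hpE) hsum
    (hF.2 _ _ hpF hpE) (hG.2 _ _ hpG hpE)
  refine ⟨⟨hS, fun p q hp hq => ?_⟩, ⟨hI, fun p q hp hq => ?_⟩⟩
  · rw [H.HP_unique hp hpS, H.HP_unique hq hpE]; exact h1
  · rw [H.HP_unique hp hpI, H.HP_unique hq hpE]; exact h2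

/-- the multiplicity is strictly monotone on the lattice -/
theorem alpha_lt {x y : Subobject E} (hx : Mem H d E x) (hy : Mem H d E y) (hxy : x < y)
    {px py : ℚ[X]} (hpx : H.HP (x : C) px) (hpy : H.HP (y : C) py) : alpha d px < alpha d py := by
  obtain ⟨pE, hpE⟩ := H.HP_exists hE.1
  have hQ := HP_quot H hE hxy.le hx.1 hy.1 hpx hpy
  have hQ0 : ¬ IsZero (cokernel (Subobject.ofLE x y hxy.le)) := fun h =>
    hxy.not_ge (le_of_isZero_cokernel hxy.le h)
  have hpos : PolyLT 0 (py - px) :=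
    H.polyLT_zero (ok_quot H hE hxy.le hx.1 hy.1) hQ0 (dim_quot_le H hE hxy.le hx.1 hy.1) hQ
  exact alpha_lt_of_redEq (alpha_E_pos H hE hpE) (polyLT_zero_E H hE hpE) (hx.2 _ _ hpx hpE)
    (hy.2 _ _ hpy hpE) hpos

end Basic

/-! ### the sublattice -/

/-- the sublattice of tested subobjects with Hilbert polynomial proportional to that of `E` -/
def lat (hE : H.IsSemistable E d) : Sublattice (Subobject E) where
  carrier := {F | Mem H d E F}
  supClosed' := fun _ hF _ hG => (mem_sup_inf H hE hF hG).1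
  infClosed' := fun _ hF _ hG => (mem_sup_inf H hE hF hG).2

variable (hE : H.IsSemistable E d)

theorem mem_lat (x : lat H hE) : Mem H d E x.1 := x.2

instance : IsModularLattice (lat H hE) where
  sup_inf_le_assoc_of_le {x} y {z} hxz := by
    change (((x ⊔ y) ⊓ z : lat H hE) : Subobject E) ≤ ((x ⊔ y ⊓ z : lat H hE) : Subobject E)
    rw [Sublattice.coe_inf, Sublattice.coe_sup, Sublattice.coe_sup, Sublattice.coe_inf]
    exact IsModularLattice.sup_inf_le_assoc_of_le (y : Subobject E) hxz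

/-- bottom and top elements -/
noncomputable def latBot : lat H hE := ⟨⊥, mem_bot H hE⟩
noncomputable def latTop : lat H hE := ⟨⊤, mem_top H hE⟩

theorem latBot_le (x : lat H hE) : latBot H hE ≤ x := (bot_le : (⊥ : Subobject E) ≤ x.1)
theorem le_latTop (x : lat H hE) : x ≤ latTop H hE := (le_top : x.1 ≤ (⊤ : Subobject E))

/-- a chosen Hilbert polynomial -/
noncomputable def hp (x : lat H hE) : ℚ[X] := (H.HP_exists x.2.1).choose

theorem hp_spec (x : lat H hE) : H.HP (x.1 : C) (hp H hE x) := (H.HP_exists x.2.1).choose_spec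

/-- the multiplicity, as a natural number -/
noncomputable def mult (x : lat H hE) : ℕ :=
  (H.alpha_int x.2.1 (dim_sub_le H hE x.1 x.2.1) (hp_spec H hE x)).choose.toNat

theorem mult_spec (x : lat H hE) : alpha d (hp H hE x) = (mult H hE x : ℚ) := by
  have h := (H.alpha_int x.2.1 (dim_sub_le H hE x.1 x.2.1) (hp_spec H hE x)).choose_spec
  have h0 : 0 ≤ alpha d (hp H hE x) :=
    H.alpha_nonneg x.2.1 (dim_sub_le H hE x.1 x.2.1) (hp_spec H hE x)
  unfold mult
  set z := (H.alpha_int x.2.1 (dim_sub_le H hE x.1 x.2.1) (hp_spec H hE x)).choose with hz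
  rw [h] at h0 ⊢
  have hz0 : 0 ≤ z := by exact_mod_cast h0
  have : ((z.toNat : ℤ) : ℚ) = (z : ℚ) := by rw [Int.toNat_of_nonneg hz0]
  rw [← this]
  norm_cast

theorem mult_strictMono : StrictMono (mult H hE) := by
  intro x y hxy
  have h := alpha_lt H hE x.2 y.2 hxy (hp_spec H hE x) (hp_spec H hE y)
  rw [mult_spec, mult_spec] at h
  exact_mod_cast h

instance : WellFoundedLT (lat H hE) := (mult_strictMono H hE).wellFoundedLT

instance : WellFoundedGT (lat H hE) := by
  have h : StrictAnti (fun x : lat H hE => mult H hE (latTop H hE) - mult H hE x) := by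
    intro x y hxy
    have h1 := mult_strictMono H hE hxy
    have h2 : mult H hE y ≤ mult H hE (latTop H hE) :=
      (mult_strictMono H hE).monotone (le_latTop H hE y)
    change mult H hE (latTop H hE) - mult H hE y < mult H hE (latTop H hE) - mult H hE x
    omega
  exact h.wellFoundedGT

end Groth.Agent.R2.H66.StabJHLat
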