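import Mathlib
import Groth.Agent.R2.H66StabJHLat

/-!
# Covering relations in the lattice `lat` are stable quotients (helper66, PROJ:shstab PKG-JH)
-/

set_option autoImplicit false
set_option linter.unusedSectionVars false
set_option linter.style.haveILetI false

universe v u

open CategoryTheory CategoryTheory.Limits Polynomial StabCat

namespace Groth.Agent.R2.H66.StabJHLat

open Groth.Agent.R2.H70.StabPoly Groth.Agent.R2.H70.StabCtx Groth.Agent.R2.H70.StabHom
open Groth.Agent.R2.H66.StabJHPoly Groth.Agent.R2.H66.StabJHSub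
open Groth.Agent.Lib.Helper27.SubobjAb

variable {C : Type u} [Category.{v} C] [Abelian C] (H : HilbCtx C) {d : ℕ} {E : C}

section Pre

variable {x y : Subobject E} (hxy : x ≤ y) {T : C} (f : T ⟶ cokernel (Subobject.ofLE x y hxy))
  [Mono f]

theorem ok_preObj (hx : H.ok (x : C)) (hy : H.ok (y : C)) (hT : H.ok T) : H.ok (preObj hxy f) :=
  H.ok_iso (preObjIsoKernel hxy f).symm
    (H.ok_kernel _ (H.ok_biprod hT hy) (H.ok_cokernel _ hx hy))

theorem ok_pre (hx : H.ok (x : C)) (hy : H.ok (y : C)) (hT : H.ok T) :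
    H.ok ((pre hxy f : Subobject E) : C) :=
  H.ok_iso (preIso hxy f).symm (ok_preObj H hxy f hx hy hT)

theorem HP_pre (hx : H.ok (x : C)) (hy : H.ok (y : C)) (hT : H.ok T) {px pT : ℚ[X]}
    (hpx : H.HP (x : C) px) (hpT : H.HP T pT) :
    H.HP ((pre hxy f : Subobject E) : C) (px + pT) := by
  have h := H.HP_add (preSC hxy f) (preSC_shortExact hxy f) hx (ok_preObj H hxy f hx hy hT) hT
    hpx hpT
  exact H.HP_iso (preIso hxy f).symm h

end Pre

theorem isZero_cokernel_of_le {x y : Subobject E} (hxy : x ≤ y) (hyx : y ≤ x) :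
    IsZero (cokernel (Subobject.ofLE x y hxy)) := by
  have h2 : Subobject.ofLE y x hyx ≫ Subobject.ofLE x y hxy = 𝟙 _ := by
    rw [← cancel_mono y.arrow, Category.assoc, Subobject.ofLE_arrow, Subobject.ofLE_arrow,
      Category.id_comp]
  have h3 : cokernel.π (Subobject.ofLE x y hxy) = 0 := by
    have : cokernel.π (Subobject.ofLE x y hxy) =
        (Subobject.ofLE y x hyx ≫ Subobject.ofLE x y hxy) ≫ cokernel.π _ := by
      rw [h2, Category.id_comp]
    rw [this, Category.assoc, cokernel.condition, Limits.comp_zero]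
  rw [IsZero.iff_id_eq_zero, ← cancel_epi (cokernel.π (Subobject.ofLE x y hxy)), h3]
  simp

variable (hE : H.IsSemistable E d)

/-- a covering pair of the lattice has a stable quotient with the reduced polynomial of `E` -/
theorem isStable_quot_of_covBy {x y : lat H hE} (h : x ⋖ y) :
    H.IsStable (cokernel (Subobject.ofLE x.1 y.1 h.le)) d ∧
      ∀ p q : ℚ[X], H.HP (cokernel (Subobject.ofLE x.1 y.1 h.le)) p → H.HP E q → RedEq d p q := by
  obtain ⟨pE, hpE⟩ := H.HP_exists hE.1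
  have he := alpha_E_pos H hE hpE
  obtain ⟨px, hpx⟩ := H.HP_exists x.2.1
  obtain ⟨py, hpy⟩ := H.HP_exists y.2.1
  have hxy : x.1 ≤ y.1 := h.le
  have hlt : x.1 < y.1 := h.lt
  have hQok := ok_quot H hE hxy x.2.1 y.2.1
  have hpQ := HP_quot H hE hxy x.2.1 y.2.1 hpx hpy
  have hQ0 : ¬ IsZero (cokernel (Subobject.ofLE x.1 y.1 hxy)) := fun h0 =>
    hlt.not_ge (le_of_isZero_cokernel hxy h0)
  have hQd := dim_quot_le H hE hxy x.2.1 y.2.1
  have hXeq := x.2.2 _ _ hpx hpE
  have hYeq := y.2.2 _ _ hpy hpE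
  have hαlt : alpha d px < alpha d py := alpha_lt H hE x.2 y.2 hlt hpx hpy
  have hαQ : 0 < alpha d (py - px) := by rw [alpha_sub]; linarith
  -- the key: preimages of tested subobjects of the quotient
  have key : ∀ (T : C) (f : T ⟶ cokernel (Subobject.ofLE x.1 y.1 hxy)), Mono f → H.ok T →
      ¬ IsZero T → ∀ pT : ℚ[X], H.HP T pT →
      RedLE d (px + pT) pE ∧ (¬ IsIso f → RedLT d (px + pT) pE) := by
    intro T f hf hT hT0 pT hpT
    haveI := hf
    have hzok := ok_pre H hxy f x.2.1 y.2.1 hT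
    have hpz := HP_pre H hxy f x.2.1 y.2.1 hT hpx hpT
    have hle := redLE_sub H hE _ hzok hpz hpE
    refine ⟨hle, fun hni => ?_⟩
    rcases redLE_lt_or_eq hle with h1 | h1
    · exact h1
    · exfalso
      have hzmem : Mem H d E (pre hxy f) := ⟨hzok, fun p q hp hq => by
        rw [H.HP_unique hp hpz, H.HP_unique hq hpE]; exact h1⟩
      have hxz : x < (⟨pre hxy f, hzmem⟩ : lat H hE) :=
        lt_of_le_of_ne (le_pre hxy f) (fun heq => hT0 (isZero_of_pre_le hxy f (by
          have : x.1 = pre hxy f := congrArg Subtype.val heq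
          exact this.ge)))
      have hzy : (⟨pre hxy f, hzmem⟩ : lat H hE) < y :=
        lt_of_le_of_ne (pre_le hxy f) (fun heq => hni (isIso_of_le_pre hxy f (by
          have : pre hxy f = y.1 := congrArg Subtype.val heq
          exact this.ge)))
      exact h.2 hxz hzy
  refine ⟨⟨hQok, hQ0, ?_, ?_⟩, ?_⟩
  · -- purity
    intro T f hf hT hT0
    haveI := hf
    have hTd : H.dim T ≤ (d : WithBot ℕ∞) := (H.dim_le_of_mono f hT hQok).trans hQd
    by_contra hne
    have hTlt : H.dim T < (d : WithBot ℕ∞) := lt_of_le_of_ne hTd hne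
    obtain ⟨pT, hpT⟩ := H.HP_exists hT
    have hα0 : alpha d pT = 0 := H.alpha_eq_zero_of_dim_lt hT hTlt hpT
    have h1 := (key T f hf hT hT0 pT hpT).1
    have h2 : PolyLE pT 0 := polyLE_zero_of_alpha_eq_zero he hXeq h1 hα0
    have h3 : PolyLT 0 pT := H.polyLT_zero hT hT0 hTd hpT
    exact not_polyLT_of_polyLE h2 h3
  · -- stability
    intro T f hf hT hT0 hni pT pQ' hpT hpQ'
    rw [H.HP_unique hpQ' hpQ]
    have h1 := (key T f hf hT hT0 pT hpT).2 hni
    have h2 := redLT_sub_of_redLT he hXeq hYeq h1 hαQ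
    rwa [add_sub_cancel_left] at h2
  · intro p q hp hq
    rw [H.HP_unique hp hpQ, H.HP_unique hq hpE]
    exact redEq_sub hYeq hXeq

/-- a pair of the lattice with stable quotient is a covering pair -/
theorem covBy_of_isStable_quot {x y : lat H hE} (hxy : x.1 ≤ y.1)
    (hst : H.IsStable (cokernel (Subobject.ofLE x.1 y.1 hxy)) d) : x ⋖ y := by
  obtain ⟨pE, hpE⟩ := H.HP_exists hE.1
  have he := alpha_E_pos H hE hpE
  obtain ⟨px, hpx⟩ := H.HP_exists x.2.1
  obtain ⟨py, hpy⟩ := H.HP_exists y.2.1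
  have hpQ := HP_quot H hE hxy x.2.1 y.2.1 hpx hpy
  have hXeq := x.2.2 _ _ hpx hpE
  have hYeq := y.2.2 _ _ hpy hpE
  have hlt : x < y := lt_of_le_not_ge hxy (fun hyx => hst.2.1 (isZero_cokernel_of_le hxy hyx))
  refine ⟨hlt, fun z hxz hzy => ?_⟩
  obtain ⟨pz, hpz⟩ := H.HP_exists z.2.1
  have hZeq := z.2.2 _ _ hpz hpE
  have hxz' : x.1 ≤ z.1 := hxz.le
  have hzy' : z.1 ≤ y.1 := hzy.le
  have hTok := ok_quot H hE hxz' x.2.1 z.2.1
  have hpT := HP_quot H hE hxz' x.2.1 z.2.1 hpx hpz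
  have hT0 : ¬ IsZero (cokernel (Subobject.ofLE x.1 z.1 hxz')) := fun h0 =>
    hxz.not_ge (le_of_isZero_cokernel hxz' h0)
  have hni : ¬ IsIso (cokerMap hxz' hzy') := fun hi =>
    hzy.not_ge (le_of_epi_cokerMap hxz' hzy' inferInstance)
  have h1 := hst.2.2.2 _ (cokerMap hxz' hzy') inferInstance hTok hT0 hni _ _ hpT hpQ
  have h2 : RedEq d (pz - px) (py - px) :=
    redEq_of_redEq_of_redEq he.ne' (redEq_sub hZeq hXeq) (redEq_sub hYeq hXeq)
  exact not_redLT_of_redEq h2 h1

end Groth.Agent.R2.H66.StabJHLat
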