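import Mathlib
import Groth.Agent.R2.H66StabJHCov
import Groth.Agent.R2.H70StabSpec

/-!
# Jordan–Hölder filtrations of semistable objects (helper66, PROJ:shstab PKG-JH)

* `exists_isJH` : a semistable object of a `HilbCtx` has a Jordan–Hölder filtration;
* `gr_unique` : any two Jordan–Hölder filtrations have the same length and isomorphic graded objects;
* `s15202_of`, `s15203_of` : the frozen statements S15202 / S15203 from `PkgCtx`.
-/

set_option autoImplicit false
set_option linter.unusedSectionVars false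
set_option linter.style.haveILetI false

universe v u

open CategoryTheory CategoryTheory.Limits Polynomial StabCat

namespace Groth.Agent.R2.H66.StabJH

open Groth.Agent.R2.H70.StabPoly Groth.Agent.R2.H70.StabCtx Groth.Agent.R2.H70.StabHom
open Groth.Agent.R2.H66.StabJHPoly Groth.Agent.R2.H66.StabJHSub Groth.Agent.R2.H66.StabJHLat
open Groth.Agent.Lib.Helper27.SubobjAb

variable {C : Type u} [Category.{v} C] [Abelian C] (H : HilbCtx C) {d : ℕ} {E : C}

/-- **existence of Jordan–Hölder filtrations** -/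
theorem exists_isJH (hE : H.IsSemistable E d) :
    ∃ s : LTSeries (Subobject E), IsJHWith (fun F => H.IsStable F d) H.HP d E s := by
  obtain ⟨a, h0, n, hn, hcov⟩ :=
    exists_covBy_seq_of_wellFoundedLT_wellFoundedGT_of_le (latBot_le H hE (latTop H hE))
  let s : LTSeries (Subobject E) :=
    { length := n
      toFun := fun i => (a i.1).1
      step := fun i => (hcov i.1 i.2).lt }
  refine ⟨s, ?_, ?_, ?_⟩
  · change (a 0).1 = ⊥
    rw [h0]; rfl
  · change (a n).1 = ⊤
    rw [hn]; rfl
  · intro i
    exact isStable_quot_of_covBy H hE (hcov i.1 i.2)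

section Unique

variable (hE : H.IsSemistable E d) (s : LTSeries (Subobject E))
  (hs : IsJHWith (fun F => H.IsStable F d) H.HP d E s)

include hE hs

theorem ok_of_isJH (i : Fin (s.length + 1)) : H.ok ((s i : Subobject E) : C) := by
  induction i using Fin.reverseInduction with
  | last =>
    have : s (Fin.last s.length) = ⊤ := hs.2.1
    rw [this]
    exact (mem_top H hE).1
  | cast i ih =>
    have hQ : H.ok (factor s i) := (hs.2.2 i).1.1
    exact H.ok_iso (isoKernelCokernel (Subobject.ofLE (s i.castSucc) (s i.succ)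
      (le_of_lt (s.step i)))).symm (H.ok_kernel _ ih hQ)

theorem mem_of_isJH (i : Fin (s.length + 1)) : Mem H d E (s i) := by
  induction i using Fin.induction with
  | zero =>
    have : s 0 = ⊥ := hs.1
    rw [this]
    exact mem_bot H hE
  | succ i ih =>
    have hok := ok_of_isJH H hE s hs i.succ
    refine ⟨hok, fun p q hp hq => ?_⟩
    have hQ : H.ok (factor s i) := (hs.2.2 i).1.1
    obtain ⟨px, hpx⟩ := H.HP_exists ih.1
    obtain ⟨pQ, hpQ⟩ := H.HP_exists hQ
    have hle : s i.castSucc ≤ s i.succ := le_of_lt (s.step i)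
    have hS := H.HP_add _ (HilbCtx.shortExact_of_mono (Subobject.ofLE (s i.castSucc) (s i.succ) hle))
      ih.1 hok hQ hpx hpQ
    rw [H.HP_unique hp hS]
    exact redEq_add (ih.2 _ _ hpx hq) ((hs.2.2 i).2 _ _ hpQ hq)

/-- a Jordan–Hölder filtration is a composition series of the lattice `lat` -/
noncomputable def toCS : CompositionSeries (lat H hE) where
  length := s.length
  toFun := fun i => ⟨s i, mem_of_isJH H hE s hs i⟩
  step := fun i => covBy_of_isStable_quot H hE (le_of_lt (s.step i)) (hs.2.2 i).1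

end Unique

/-- the relation "isomorphic quotients" on pairs of the lattice -/
theorem quotIso_of_iso (hE : H.IsSemistable E d) {p q : lat H hE × lat H hE}
    (h : JordanHolderLattice.Iso p q) : QuotIso (p.1.1, p.2.1) (q.1.1, q.2.1) := by
  refine JordanHolderLattice.Iso.rel
    (fun p q : lat H hE × lat H hE => QuotIso (p.1.1, p.2.1) (q.1.1, q.2.1)) ?_ ?_ ?_ ?_ h
  · intro x; exact ⟨Iff.rfl, fun h₁ h₂ => ⟨Iso.refl _⟩⟩
  · rintro x y ⟨h, H'⟩
    exact ⟨h.symm, fun h₁ h₂ => ⟨(H' h₂ h₁).some.symm⟩⟩
  · rintro x y z ⟨h, H'⟩ ⟨h', H''⟩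
    exact ⟨h.trans h', fun h₁ h₃ => ⟨(H' h₁ (h.mp h₁)).some ≪≫ (H'' (h.mp h₁) h₃).some⟩⟩
  · intro x y hmax
    exact ⟨⟨fun _ => inf_le_right, fun _ => le_sup_left⟩,
      fun h₁ h₂ => nonempty_second_iso x.1 y.1⟩

/-- **uniqueness of the graded object of a Jordan–Hölder filtration** -/
theorem gr_unique (hE : H.IsSemistable E d) (s t : LTSeries (Subobject E))
    (hs : IsJHWith (fun F => H.IsStable F d) H.HP d E s)
    (ht : IsJHWith (fun F => H.IsStable F d) H.HP d E t) :
    s.length = t.length ∧ Nonempty (grObj s ≅ grObj t) := by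
  have hb : (toCS H hE s hs).head = (toCS H hE t ht).head :=
    Subtype.ext (hs.1.trans ht.1.symm)
  have hl : (toCS H hE s hs).last = (toCS H hE t ht).last :=
    Subtype.ext (hs.2.1.trans ht.2.1.symm)
  obtain ⟨f, hf⟩ := CompositionSeries.jordan_holder _ _ hb hl
  have f' : Fin s.length ≃ Fin t.length := f
  refine ⟨Fin.equiv_iff_eq.mp ⟨f'⟩, ?_⟩
  have hiso : ∀ i : Fin s.length, Nonempty (factor t (f i) ≅ factor s i) := by
    intro i
    have h1 := quotIso_of_iso H hE (hf i)
    exact ⟨(h1.2 (le_of_lt (s.step i)) (le_of_lt (t.step (f i)))).some.symm⟩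
  exact ⟨Sigma.whiskerEquiv (f := fun i : Fin s.length => factor s i)
    (g := fun j : Fin t.length => factor t j) f (fun i => (hiso i).some)⟩

/-! ### the rows -/

section Rows

open AlgebraicGeometry Groth.Agent.R2.H70.StabSpec

universe w

variable (hctx : PkgCtx.{w})
include hctx

theorem s15202_of (k : Type w) [Field k] (X : Scheme.{w})
    [X.Over (Spec (CommRingCat.of k))] [IsProper (X ↘ Spec (CommRingCat.of k))]
    (L : X.Modules) (hL : CohB1.IsAmple L) (d : ℕ) (E : X.Modules)
    (hE : ShStab.IsSemistable k X L E d) :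
    ∃ s : LTSeries (Subobject E), ShStab.IsJHFiltration k X L E d s := by
  obtain ⟨Γ⟩ := hctx k X L hL
  obtain ⟨s, hs⟩ := exists_isJH Γ.H ((Γ.isSemistable_iff E d).2 hE)
  exact ⟨s, (Γ.isJHFiltration_iff E d s).1 hs⟩

theorem s15203_of (k : Type w) [Field k] (X : Scheme.{w})
    [X.Over (Spec (CommRingCat.of k))] [IsProper (X ↘ Spec (CommRingCat.of k))]
    (L : X.Modules) (hL : CohB1.IsAmple L) (d : ℕ) (E : X.Modules)
    (hE : ShStab.IsSemistable k X L E d)
    (s t : LTSeries (Subobject E)) (hs : ShStab.IsJHFiltration k X L E d s)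
    (ht : ShStab.IsJHFiltration k X L E d t) :
    s.length = t.length ∧ Nonempty (StabCat.grObj s ≅ StabCat.grObj t) := by
  obtain ⟨Γ⟩ := hctx k X L hL
  exact gr_unique Γ.H ((Γ.isSemistable_iff E d).2 hE) s t
    ((Γ.isJHFiltration_iff E d s).2 hs) ((Γ.isJHFiltration_iff E d t).2 ht)

end Rows

end Groth.Agent.R2.H66.StabJH
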