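import Mathlib
import Groth.Prelude.Def_W4c1zetahwZeta
import Groth.Agent.Lib.Helper27LogDeriv
import Groth.Agent.Lib.Helper20QuotTop

set_option autoImplicit false
set_option linter.style.haveILetI false
universe u

open CategoryTheory AlgebraicGeometry

namespace Groth.Agent.R2.H66.Zeta

open PowerSeries Groth.Agent.Lib.Helper27LogDeriv

section PS

/-- `exp` of a finite sum of power series without constant term is the product of the `exp`s. -/
theorem exp_subst_sum {ι : Type*} (s : Finset ι) (L : ι → ℚ⟦X⟧)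
    (hL : ∀ i ∈ s, constantCoeff (L i) = 0) :
    (PowerSeries.exp ℚ).subst (∑ i ∈ s, L i) = ∏ i ∈ s, (PowerSeries.exp ℚ).subst (L i) := by
  have h0 : constantCoeff (∑ i ∈ s, L i) = 0 := by
    rw [map_sum]; exact Finset.sum_eq_zero hL
  apply LD.unique (S := d⁄dX ℚ (∑ i ∈ s, L i))
  · exact LD.exp_subst _ h0
  · rw [map_sum]
    exact LD.prod s _ _ (fun i hi => LD.exp_subst _ (hL i hi))
  · rw [coeff_zero_exp_subst _ h0, coeff_zero_eq_constantCoeff_apply, map_prod]
    symm
    refine Finset.prod_eq_one fun i hi => ?_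
    rw [← coeff_zero_eq_constantCoeff_apply, coeff_zero_exp_subst _ (hL i hi)]

end PS

section zeta

variable {k : Type u} [Field k]

theorem constantCoeff_logZeta {X : Scheme.{u}} (f : X ⟶ Spec (CommRingCat.of k)) :
    constantCoeff (Zeta.logZeta f) = 0 := by
  rw [← coeff_zero_eq_constantCoeff_apply, Zeta.logZeta, coeff_mk]
  simp

/-- Zeta functions multiply when the degree counts add up. -/
theorem zetaFun_eq_prod_of_degCount {X : Scheme.{u}} (f : X ⟶ Spec (CommRingCat.of k))
    {ι : Type*} [Fintype ι] (Y : ι → Scheme.{u}) (h : ∀ i, Y i ⟶ Spec (CommRingCat.of k))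
    (hdeg : ∀ e : ℕ, 1 ≤ e → Zeta.degCount f e = ∑ i, Zeta.degCount (h i) e) :
    Zeta.zetaFun f = ∏ i, Zeta.zetaFun (h i) := by
  have hn : ∀ m, Zeta.nPts f m = ∑ i, Zeta.nPts (h i) m := by
    intro m
    unfold Zeta.nPts
    rw [Finset.sum_comm]
    refine Finset.sum_congr rfl fun e he => ?_
    have he1 : 1 ≤ e := Nat.pos_of_mem_divisors he
    rw [hdeg e he1, Finset.mul_sum]
  have hl : Zeta.logZeta f = ∑ i, Zeta.logZeta (h i) := by
    ext m
    rw [map_sum]
    simp only [Zeta.logZeta, coeff_mk]
    rw [hn m, Nat.cast_sum, Finset.sum_div]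
  unfold Zeta.zetaFun
  rw [hl]
  exact exp_subst_sum _ _ (fun i _ => constantCoeff_logZeta (h i))

end zeta


section ResDeg

theorem finrank_eq_of_bijective {K L L' : Type*} [Field K] [CommRing L] [CommRing L']
    (φ : K →+* L) (σ : L →+* L') (hσ : Function.Bijective σ) :
    (letI := φ.toAlgebra; Module.finrank K L) =
      (letI := (σ.comp φ).toAlgebra; Module.finrank K L') := by
  letI := φ.toAlgebra
  letI := (σ.comp φ).toAlgebra
  let e : L ≃ₗ[K] L' :=
    { (RingEquiv.ofBijective σ hσ).toAddEquiv with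
      map_smul' := by
        intro c x
        simp only [RingHom.id_apply]
        change σ (φ c * x) = σ (φ c) * σ x
        rw [map_mul] }
  exact e.finrank_eq

theorem finrank_congr_hom {K L : Type*} [Field K] [CommRing L] {φ ψ : K →+* L} (h : φ = ψ) :
    (letI := φ.toAlgebra; Module.finrank K L) = (letI := ψ.toAlgebra; Module.finrank K L) := by
  subst h; rfl

theorem residueFieldMap_bijective_of_isPreimmersion {X Y : Scheme.{u}} (g : Y ⟶ X)
    [IsPreimmersion g] (y : Y) : Function.Bijective (g.residueFieldMap y).hom := by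
  refine ⟨(g.residueFieldMap y).hom.injective, ?_⟩
  intro b
  obtain ⟨s, rfl⟩ := Y.residue_surjective y b
  obtain ⟨t, rfl⟩ := g.stalkMap_surjective y s
  refine ⟨X.residue (g.base y) t, ?_⟩
  have := Scheme.residue_residueFieldMap g y
  exact congrArg (fun φ => φ.hom t) this

theorem residueDegree_comp_of_isPreimmersion {X Y S : Scheme.{u}} (g : Y ⟶ X) [IsPreimmersion g]
    (f : X ⟶ S) (y : Y) :
    EGA4loc.residueDegree (g ≫ f) y = EGA4loc.residueDegree f (g.base y) := by
  unfold EGA4loc.residueDegree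
  have h := finrank_eq_of_bijective (f.residueFieldMap (g.base y)).hom (g.residueFieldMap y).hom
    (residueFieldMap_bijective_of_isPreimmersion g y)
  have h2 : ((g ≫ f).residueFieldMap y).hom =
      (g.residueFieldMap y).hom.comp (f.residueFieldMap (g.base y)).hom := by
    rw [Scheme.residueFieldMap_comp]; rfl
  rw [h]
  exact finrank_congr_hom h2

end ResDeg

section Fin

open Groth.Agent.Lib.Helper20

variable {k : Type u} [Field k]

/-- The residue field of `Spec k` at any point is `k`. -/
theorem nonempty_ringEquiv_residueField_Spec (s : Spec (CommRingCat.of k)) :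
    Nonempty (k ≃+* (Spec (CommRingCat.of k)).residueField s) := by
  have e1 := (Scheme.Spec.residueFieldIso (CommRingCat.of k) s).commRingCatIsoToRingEquiv
  have hmax : s.asIdeal.IsMaximal := by
    have : s.asIdeal = ⊥ := by
      rcases Ideal.eq_bot_or_top s.asIdeal with h | h
      · exact h
      · exact absurd h s.2.ne_top
    rw [this]; exact Ideal.bot_isMaximal
  have hbij := Ideal.bijective_algebraMap_quotient_residueField s.asIdeal
  have hbot : s.asIdeal = ⊥ := by
    rcases Ideal.eq_bot_or_top s.asIdeal with h | h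
    · exact h
    · exact absurd h s.2.ne_top
  have hbij2 : Function.Bijective (algebraMap k s.asIdeal.ResidueField) := by
    rw [IsScalarTower.algebraMap_eq k (k ⧸ s.asIdeal) s.asIdeal.ResidueField, RingHom.coe_comp]
    refine Function.Bijective.comp hbij ?_
    constructor
    · rw [RingHom.injective_iff_ker_eq_bot, Ideal.Quotient.algebraMap_eq, Ideal.mk_ker, hbot]
    · exact Ideal.Quotient.mk_surjective
  exact ⟨(RingEquiv.ofBijective _ hbij2).trans e1.symm⟩

variable [Finite k]

/-- If `κ(x)` has degree `e ≥ 1` over the base finite field, its elements satisfy `a^(q^e) = a`. -/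
theorem pow_card_pow_eq_of_residueDegree {X : Scheme.{u}} (f : X ⟶ Spec (CommRingCat.of k))
    (x : X) (e : ℕ) (he : 1 ≤ e) (hx : EGA4loc.residueDegree f x = e) (a : X.residueField x) :
    a ^ (Nat.card k ^ e) = a := by
  unfold EGA4loc.residueDegree at hx
  letI := (f.residueFieldMap x).hom.toAlgebra
  obtain ⟨σ⟩ := nonempty_ringEquiv_residueField_Spec (f.base x)
  haveI : Finite ((Spec (CommRingCat.of k)).residueField (f.base x)) := Finite.of_equiv _ σ.toEquiv
  have hcard : Nat.card ((Spec (CommRingCat.of k)).residueField (f.base x)) = Nat.card k :=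
    (Nat.card_congr σ.toEquiv).symm
  haveI : Module.Finite ((Spec (CommRingCat.of k)).residueField (f.base x)) (X.residueField x) :=
    Module.finite_of_finrank_pos (by omega)
  haveI : Finite (X.residueField x) :=
    Module.finite_of_finite ((Spec (CommRingCat.of k)).residueField (f.base x))
  have h1 : Nat.card (X.residueField x) = Nat.card k ^ e := by
    rw [Module.natCard_eq_pow_finrank
      (K := (Spec (CommRingCat.of k)).residueField (f.base x)) (V := X.residueField x), hcard, hx]
  letI := Fintype.ofFinite (X.residueField x)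
  rw [← h1, Nat.card_eq_fintype_card]
  exact FiniteField.pow_card a

/-- A finite-type algebra over a finite field in which `b^N = b` identically is finite. -/
theorem finite_of_finiteType_of_pow_eq {A : Type u} [CommRing A] (φ : k →+* A) (hφ : φ.FiniteType)
    (N : ℕ) (hN : 2 ≤ N) (I : Ideal A) (hI : ∀ a : A, a ^ N - a ∈ I) : Finite (A ⧸ I) := by
  letI := φ.toAlgebra
  have hft : Algebra.FiniteType k A := hφ
  have hft' : Algebra.FiniteType k (A ⧸ I) :=
    Algebra.FiniteType.of_surjective (Ideal.Quotient.mkₐ k I) (Ideal.Quotient.mkₐ_surjective k I)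
  have hint : Algebra.IsIntegral k (A ⧸ I) := by
    refine ⟨fun b => ?_⟩
    obtain ⟨a, rfl⟩ := Ideal.Quotient.mk_surjective b
    refine ⟨Polynomial.X ^ N - Polynomial.X, ?_, ?_⟩
    · exact Polynomial.monic_X_pow_sub (by
        rw [Polynomial.degree_X]; exact_mod_cast (by omega : 1 < N))
    · rw [Polynomial.eval₂_sub, Polynomial.eval₂_pow, Polynomial.eval₂_X, ← map_pow, ← map_sub]
      exact Ideal.Quotient.eq_zero_iff_mem.mpr (hI a)
  have : Module.Finite k (A ⧸ I) := Algebra.IsIntegral.finite
  exact Module.finite_of_finite k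

theorem finite_deg_affine {X : Scheme.{u}} (f : X ⟶ Spec (CommRingCat.of k))
    [LocallyOfFiniteType f] (U : X.Opens) (hU : IsAffineOpen U) (e : ℕ) (he : 1 ≤ e) :
    {x : X | x ∈ U ∧ EGA4loc.residueDegree f x = e}.Finite := by
  classical
  have hq : 2 ≤ Nat.card k := by
    have : 1 < Nat.card k := Finite.one_lt_card
    omega
  have hN : 2 ≤ Nat.card k ^ e := by
    calc 2 ≤ Nat.card k := hq
      _ = Nat.card k ^ 1 := (pow_one _).symm
      _ ≤ Nat.card k ^ e := Nat.pow_le_pow_right (by omega) he
  let I : Ideal Γ(X, U) := Ideal.span (Set.range fun a : Γ(X, U) => a ^ (Nat.card k ^ e) - a)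
  let φ : k →+* Γ(X, U) :=
    (f.appLE ⊤ U (by simp)).hom.comp (Scheme.ΓSpecIso (CommRingCat.of k)).inv.hom
  have hφ : φ.FiniteType := by
    refine RingHom.FiniteType.comp (f.finiteType_appLE (isAffineOpen_top _) hU _) ?_
    exact RingHom.FiniteType.of_surjective _
      (ConcreteCategory.bijective_of_isIso (Scheme.ΓSpecIso (CommRingCat.of k)).inv).2
  have hfin : Finite (Γ(X, U) ⧸ I) :=
    finite_of_finiteType_of_pow_eq φ hφ _ hN I (fun a => Ideal.subset_span ⟨a, rfl⟩)
  have hfinI : Finite (Ideal (Γ(X, U) ⧸ I)) :=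
    Finite.of_injective (fun J => (J : Set (Γ(X, U) ⧸ I))) SetLike.coe_injective
  let F : U → Ideal (Γ(X, U) ⧸ I) := fun x => (evalKer U x.1 x.2).map (Ideal.Quotient.mk I)
  have hle : ∀ x : U, EGA4loc.residueDegree f x.1 = e → I ≤ evalKer U x.1 x.2 := by
    intro x hx
    rw [Ideal.span_le]
    rintro _ ⟨a, rfl⟩
    rw [SetLike.mem_coe, evalKer, RingHom.mem_ker, map_sub, map_pow,
      pow_card_pow_eq_of_residueDegree f x.1 e he hx, sub_self]
  have hS : {x : U | EGA4loc.residueDegree f x.1 = e}.Finite := by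
    refine Set.Finite.of_injOn (f := F) (t := Set.univ) (fun _ _ => Set.mem_univ _) ?_
      Set.finite_univ
    intro x hx z hz hxz
    have hcm : ∀ y : U, EGA4loc.residueDegree f y.1 = e →
        (F y).comap (Ideal.Quotient.mk I) = evalKer U y.1 y.2 := by
      intro y hy
      rw [Ideal.comap_map_of_surjective _ Ideal.Quotient.mk_surjective,
        ← RingHom.ker_eq_comap_bot, Ideal.mk_ker]
      exact sup_eq_left.mpr (hle y hy)
    have h1 : evalKer U x.1 x.2 = evalKer U z.1 z.2 := by
      rw [← hcm x hx, ← hcm z hz, hxz]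
    exact Subtype.ext (eq_of_evalKer_eq hU x.2 z.2 h1).symm
  refine (hS.image Subtype.val).subset ?_
  rintro x ⟨hxU, hx⟩
  exact ⟨⟨x, hxU⟩, hx, rfl⟩

theorem finite_deg {X : Scheme.{u}} (f : X ⟶ Spec (CommRingCat.of k))
    [LocallyOfFiniteType f] [QuasiCompact f] (e : ℕ) (he : 1 ≤ e) :
    {x : X | EGA4loc.residueDegree f x = e}.Finite := by
  have hc : CompactSpace X := QuasiCompact.compactSpace_of_compactSpace f
  obtain ⟨s, hs, hcov⟩ := (isCompact_iff_finite_and_eq_biUnion_affineOpens
    (U := (⊤ : X.Opens))).mp (by simpa using isCompact_univ)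
  have : {x : X | EGA4loc.residueDegree f x = e} ⊆
      ⋃ i ∈ s, {x : X | x ∈ (i : X.Opens) ∧ EGA4loc.residueDegree f x = e} := by
    intro x hx
    have hxt : x ∈ (⊤ : X.Opens) := trivial
    rw [hcov] at hxt
    simp only [TopologicalSpace.Opens.mem_iSup] at hxt
    obtain ⟨i, hi, hxi⟩ := hxt
    simp only [Set.mem_iUnion]
    exact ⟨i, hi, hxi, hx⟩
  refine Set.Finite.subset ?_ this
  exact hs.biUnion (fun i _ => finite_deg_affine f i.1 i.2 e he)

end Fin

section Partition

variable {k : Type u} [Field k] [Finite k]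

theorem isClosed_singleton_of_isClosed_image {X Y : Scheme.{u}} (g : Y ⟶ X)
    (hinj : Function.Injective g.base) (y : Y) (h : IsClosed ({g.base y} : Set X)) :
    IsClosed ({y} : Set Y) := by
  have : ({y} : Set Y) = g.base ⁻¹' {g.base y} := by
    ext z
    simp only [Set.mem_singleton_iff, Set.mem_preimage]
    exact ⟨fun h => h ▸ rfl, fun h => hinj h⟩
  rw [this]
  exact h.preimage g.base.hom.continuous

/-- Degree counts add up over a partition of the closed points by immersions. -/
theorem degCount_eq_sum_of_partition {X : Scheme.{u}} (f : X ⟶ Spec (CommRingCat.of k))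
    [LocallyOfFiniteType f] [QuasiCompact f]
    {ι : Type*} [Fintype ι] (Y : ι → Scheme.{u}) (g : ∀ i, Y i ⟶ X) [∀ i, IsImmersion (g i)]
    (hpart : ∀ x : X, IsClosed ({x} : Set X) → ∃! i, x ∈ Set.range (g i).base)
    (e : ℕ) (he : 1 ≤ e) :
    Zeta.degCount f e = ∑ i, Zeta.degCount (g i ≫ f) e := by
  classical
  haveI : JacobsonSpace X := LocallyOfFiniteType.jacobsonSpace f
  have hinj : ∀ i, Function.Injective (g i).base := fun i => (g i).isEmbedding.injective
  have hcl : ∀ i (y : Y i), IsClosed ({y} : Set (Y i)) → IsClosed ({(g i).base y} : Set X) :=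
    fun i y hy => (g i).closePoints_subset_preimage_closedPoints hy
  -- the comparison map
  let Φ : (Σ i, {y : Y i // IsClosed ({y} : Set (Y i)) ∧ EGA4loc.residueDegree (g i ≫ f) y = e}) →
      {x : X // IsClosed ({x} : Set X) ∧ EGA4loc.residueDegree f x = e} :=
    fun p => ⟨(g p.1).base p.2.1, hcl p.1 p.2.1 p.2.2.1, by
      rw [← residueDegree_comp_of_isPreimmersion]; exact p.2.2.2⟩
  have hΦinj : Function.Injective Φ := by
    rintro ⟨i, y, hy⟩ ⟨i', y', hy'⟩ h
    have h1 : (g i).base y = (g i').base y' := congrArg Subtype.val h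
    have hii : i = i' := by
      obtain ⟨j, _, hj⟩ := hpart _ (hcl i y hy.1)
      rw [hj i ⟨y, rfl⟩, hj i' ⟨y', h1.symm⟩]
    subst hii
    have : y = y' := hinj i h1
    subst this
    rfl
  have hΦsurj : Function.Surjective Φ := by
    rintro ⟨x, hx, hxe⟩
    obtain ⟨i, ⟨y, rfl⟩, _⟩ := hpart x hx
    refine ⟨⟨i, y, isClosed_singleton_of_isClosed_image (g i) (hinj i) y hx, ?_⟩, rfl⟩
    rw [residueDegree_comp_of_isPreimmersion]; exact hxe
  have hfinX : Finite {x : X // IsClosed ({x} : Set X) ∧ EGA4loc.residueDegree f x = e} :=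
    ((finite_deg f e he).subset (fun x hx => hx.2)).to_subtype
  have hfinY : ∀ i, Finite {y : Y i // IsClosed ({y} : Set (Y i)) ∧
      EGA4loc.residueDegree (g i ≫ f) y = e} := by
    intro i
    refine Finite.of_injective (fun y => Φ ⟨i, y⟩) ?_
    intro y y' h
    have := hΦinj h
    simpa using this
  unfold Zeta.degCount
  rw [← Nat.card_congr (Equiv.ofBijective Φ ⟨hΦinj, hΦsurj⟩), Nat.card_sigma]

end Partition

end Groth.Agent.R2.H66.Zeta
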