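import Mathlib
import Groth.Prelude.Def_W4c1zetahwZeta
import Groth.Prelude.Def_SgaExt
import Groth.Agent.R2.H66Zeta

set_option autoImplicit false
set_option linter.style.haveILetI false
universe u

open CategoryTheory AlgebraicGeometry

namespace Groth.Agent.R2.H66.ZetaPt

variable {k : Type u} [Field k]

/-- The canonical map `k → κ(s)` for a point `s` of `Spec k`. -/
noncomputable def toResSpec (s : Spec (CommRingCat.of k)) :
    k →+* (Spec (CommRingCat.of k)).residueField s :=
  ((Scheme.Spec.residueFieldIso (CommRingCat.of k) s).inv.hom).comp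
    (algebraMap k s.asIdeal.ResidueField)

theorem toResSpec_bijective (s : Spec (CommRingCat.of k)) : Function.Bijective (toResSpec s) := by
  have hbot : s.asIdeal = ⊥ := by
    rcases Ideal.eq_bot_or_top s.asIdeal with h | h
    · exact h
    · exact absurd h s.2.ne_top
  have hmax : s.asIdeal.IsMaximal := by
    rw [hbot]; exact Ideal.bot_isMaximal
  have hbij := Ideal.bijective_algebraMap_quotient_residueField s.asIdeal
  have hbij2 : Function.Bijective (algebraMap k s.asIdeal.ResidueField) := by
    rw [IsScalarTower.algebraMap_eq k (k ⧸ s.asIdeal) s.asIdeal.ResidueField, RingHom.coe_comp]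
    refine Function.Bijective.comp hbij ?_
    constructor
    · rw [RingHom.injective_iff_ker_eq_bot, Ideal.Quotient.algebraMap_eq, Ideal.mk_ker, hbot]
    · exact Ideal.Quotient.mk_surjective
  unfold toResSpec
  rw [RingHom.coe_comp]
  exact (ConcreteCategory.bijective_of_isIso
    (Scheme.Spec.residueFieldIso (CommRingCat.of k) s).inv).comp hbij2

theorem fromSpecResidueField_Spec (s : Spec (CommRingCat.of k)) :
    (Spec (CommRingCat.of k)).fromSpecResidueField s =
      Spec.map (CommRingCat.ofHom (toResSpec s)) := by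
  rw [← Scheme.Spec.map_residueFieldIso_inv_eq_fromSpecResidueField, ← Spec.map_comp]
  rfl

variable {X : Scheme.{u}} (f : X ⟶ Spec (CommRingCat.of k))

/-- The structure map `k → κ(x)`. -/
noncomputable def rho (x : X) : k →+* X.residueField x :=
  (f.residueFieldMap x).hom.comp (toResSpec (f.base x))

theorem fromSpecResidueField_comp (x : X) :
    X.fromSpecResidueField x ≫ f = Spec.map (CommRingCat.ofHom (rho f x)) := by
  rw [← Scheme.Hom.SpecMap_residueFieldMap_fromSpecResidueField, fromSpecResidueField_Spec,
    ← Spec.map_comp]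
  rfl

theorem compat_iff (k' : Type u) [Field k'] [Algebra k k'] (x : X)
    (φ : X.residueField x ⟶ CommRingCat.of k') :
    (Spec.map φ ≫ X.fromSpecResidueField x) ≫ f =
        Spec.map (CommRingCat.ofHom (algebraMap k k')) ↔
      φ.hom.comp (rho f x) = algebraMap k k' := by
  rw [Category.assoc, fromSpecResidueField_comp, ← Spec.map_comp, Spec.map_inj]
  constructor
  · intro h
    have := congrArg CommRingCat.Hom.hom h
    exact this
  · intro h
    ext a
    exact congrArg (fun ψ : k →+* k' => ψ a) h


theorem finrank_comp_bijective {k₀ K L : Type*} [Field k₀] [Field K] [CommRing L]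
    (ι : k₀ →+* K) (hι : Function.Bijective ι) (φ : K →+* L) :
    (letI := (φ.comp ι).toAlgebra; Module.finrank k₀ L) =
      (letI := φ.toAlgebra; Module.finrank K L) := by
  letI := (φ.comp ι).toAlgebra
  letI := φ.toAlgebra
  letI := ι.toAlgebra
  haveI : IsScalarTower k₀ K L := IsScalarTower.of_algebraMap_eq (fun _ => rfl)
  have h1 : Module.finrank k₀ K = 1 := by
    let e : k₀ ≃ₗ[k₀] K :=
      { (RingEquiv.ofBijective ι hι).toAddEquiv with
        map_smul' := by
          intro c x
          simp only [RingHom.id_apply]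
          change ι (c * x) = ι c * ι x
          rw [map_mul] }
    rw [← e.finrank_eq, Module.finrank_self]
  have h2 := Module.finrank_mul_finrank k₀ K L
  rw [h1, one_mul] at h2
  exact h2.symm

/-- The degree of `κ(x)` over `k` (through `rho`) is the residue degree. -/
theorem finrank_rho (x : X) :
    (letI := (rho f x).toAlgebra; Module.finrank k (X.residueField x)) =
      EGA4loc.residueDegree f x := by
  unfold EGA4loc.residueDegree rho
  exact finrank_comp_bijective (toResSpec (f.base x)) (toResSpec_bijective _)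
    (f.residueFieldMap x).hom

/-- A point of finite residue degree over the base field is closed. -/
theorem isClosed_of_residueDegree_pos [LocallyOfFiniteType f] (x : X)
    (hx : 1 ≤ EGA4loc.residueDegree f x) : IsClosed ({x} : Set X) := by
  haveI : JacobsonSpace X := LocallyOfFiniteType.jacobsonSpace f
  rw [isClosed_singleton_iff_locallyOfFiniteType]
  haveI : LocallyOfFiniteType (X.fromSpecResidueField x ≫ f) := by
    rw [fromSpecResidueField_comp, HasRingHomProperty.Spec_iff (P := @LocallyOfFiniteType)]
    letI := (rho f x).toAlgebra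
    have hfin : Module.Finite k (X.residueField x) := by
      apply Module.finite_of_finrank_pos
      have := finrank_rho f x
      omega
    change (algebraMap k (X.residueField x)).FiniteType
    exact RingHom.Finite.finiteType hfin
  exact locallyOfFiniteType_of_comp (X.fromSpecResidueField x) f


section Count

variable (k' : Type u) [Field k'] [Algebra k k']

/-- `k`-algebra maps `κ(x) → k'`. -/
abbrev HomK (x : X) : Type u :=
  @AlgHom k (X.residueField x) k' _ _ _ (rho f x).toAlgebra _

/-- The `k'`-point attached to a point `x` and a `k`-embedding of its residue field. -/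
noncomputable def ptOf (x : X) (ψ : HomK f k' x) :
    {g : Spec (CommRingCat.of k') ⟶ X //
      g ≫ f = Spec.map (CommRingCat.ofHom (algebraMap k k'))} :=
  letI := (rho f x).toAlgebra
  ⟨Spec.map (CommRingCat.ofHom (ψ : X.residueField x →+* k')) ≫ X.fromSpecResidueField x, by
    rw [compat_iff]
    ext a
    exact ψ.commutes a⟩

theorem ptOf_val (x : X) (ψ : HomK f k' x) :
    (ptOf f k' x ψ).1 = (Scheme.SpecToEquivOfField k' X).symm
      ⟨x, letI := (rho f x).toAlgebra; CommRingCat.ofHom (ψ : X.residueField x →+* k')⟩ := rfl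

theorem ptOf_inj {x x' : X} {ψ : HomK f k' x} {ψ' : HomK f k' x'}
    (h : ptOf f k' x ψ = ptOf f k' x' ψ') : ∃ e : x = x', e ▸ ψ = ψ' := by
  have h1 := congrArg Subtype.val h
  rw [ptOf_val, ptOf_val] at h1
  have h2 := (Scheme.SpecToEquivOfField k' X).symm.injective h1
  obtain ⟨rfl, h3⟩ := Sigma.mk.inj_iff.mp h2
  refine ⟨rfl, ?_⟩
  have h4 := eq_of_heq h3
  letI := (rho f x).toAlgebra
  apply AlgHom.ext
  intro a
  have := congrArg (fun φ : X.residueField x ⟶ CommRingCat.of k' => φ.hom a) h4
  exact this

theorem exists_ptOf (g : {g : Spec (CommRingCat.of k') ⟶ X //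
      g ≫ f = Spec.map (CommRingCat.ofHom (algebraMap k k'))}) :
    ∃ (x : X) (ψ : HomK f k' x), ptOf f k' x ψ = g := by
  obtain ⟨g, hg⟩ := g
  obtain ⟨⟨x, φ⟩, hxφ⟩ := (Scheme.SpecToEquivOfField k' X).symm.surjective g
  have hg' : (Spec.map φ ≫ X.fromSpecResidueField x) ≫ f =
      Spec.map (CommRingCat.ofHom (algebraMap k k')) := by
    rw [← hg, ← hxφ]; rfl
  rw [compat_iff] at hg'
  letI := (rho f x).toAlgebra
  let ψ : HomK f k' x :=
    { φ.hom with
      commutes' := fun a => congrArg (fun ψ : k →+* k' => ψ a) hg' }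
  refine ⟨x, ψ, ?_⟩
  apply Subtype.ext
  rw [ptOf_val]
  exact hxφ

variable [Finite k] [Finite k']

theorem finite_residueField_of_residueDegree_pos (x : X)
    (hx : 1 ≤ EGA4loc.residueDegree f x) : Finite (X.residueField x) := by
  letI := (rho f x).toAlgebra
  have hfin : Module.Finite k (X.residueField x) := by
    apply Module.finite_of_finrank_pos
    have := finrank_rho f x
    omega
  exact Module.finite_of_finite k

theorem finite_homK (x : X) (hx : 1 ≤ EGA4loc.residueDegree f x) : Finite (HomK f k' x) := by
  haveI := finite_residueField_of_residueDegree_pos f x hx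
  letI := (rho f x).toAlgebra
  exact Finite.of_injective (fun ψ : HomK f k' x => (ψ : X.residueField x → k'))
    DFunLike.coe_injective

omit [Finite k] in
theorem natCard_homK (x : X) (hx : EGA4loc.residueDegree f x ∣ Module.finrank k k') :
    Nat.card (HomK f k' x) = EGA4loc.residueDegree f x := by
  letI := (rho f x).toAlgebra
  rw [← finrank_rho f x] at hx ⊢
  exact FiniteField.natCard_algHom_of_finrank_dvd hx

omit [Finite k] in
theorem dvd_of_nonempty_homK (x : X) (h : Nonempty (HomK f k' x)) :
    EGA4loc.residueDegree f x ∣ Module.finrank k k' := by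
  letI := (rho f x).toAlgebra
  rw [← finrank_rho f x]
  exact FiniteField.nonempty_algHom_iff_finrank_dvd.mp h

theorem pointCount_eq_nPts [LocallyOfFiniteType f] [QuasiCompact f] :
    SgaExt.pointCount f k' = Zeta.nPts f (Module.finrank k k') := by
  classical
  have hr : 0 < Module.finrank k k' := by
    haveI : Module.Finite k k' := Module.Finite.of_finite
    exact Module.finrank_pos
  let Src : Type u := Σ (e : ↥(Module.finrank k k').divisors),
    Σ (x : {x : X // IsClosed ({x} : Set X) ∧ EGA4loc.residueDegree f x = e.1}), HomK f k' x.1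
  let Φ : Src → {g : Spec (CommRingCat.of k') ⟶ X //
      g ≫ f = Spec.map (CommRingCat.ofHom (algebraMap k k'))} :=
    fun p => ptOf f k' p.2.1.1 p.2.2
  have hΦinj : Function.Injective Φ := by
    rintro ⟨⟨e, he⟩, ⟨x, hx⟩, ψ⟩ ⟨⟨e', he'⟩, ⟨x', hx'⟩, ψ'⟩ h
    have h' : ptOf f k' x ψ = ptOf f k' x' ψ' := h
    obtain ⟨hxx, hψ⟩ := ptOf_inj f k' h'
    subst hxx
    have hee : e = e' := hx.2.symm.trans hx'.2
    subst hee
    have hψ' : ψ = ψ' := hψ
    subst hψ'
    rfl
  have hΦsurj : Function.Surjective Φ := by
    intro g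
    obtain ⟨x, ψ, rfl⟩ := exists_ptOf f k' g
    have hd := dvd_of_nonempty_homK f k' x ⟨ψ⟩
    have hpos : 1 ≤ EGA4loc.residueDegree f x := Nat.pos_of_dvd_of_pos hd hr
    exact ⟨⟨⟨EGA4loc.residueDegree f x, Nat.mem_divisors.mpr ⟨hd, hr.ne'⟩⟩,
      ⟨x, isClosed_of_residueDegree_pos f x hpos, rfl⟩, ψ⟩, rfl⟩
  have hpos : ∀ e : ↥(Module.finrank k k').divisors, 1 ≤ e.1 :=
    fun e => Nat.pos_of_mem_divisors e.2
  have hfinX : ∀ e : ↥(Module.finrank k k').divisors,
      Finite {x : X // IsClosed ({x} : Set X) ∧ EGA4loc.residueDegree f x = e.1} := fun e =>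
    ((Groth.Agent.R2.H66.Zeta.finite_deg f e.1 (hpos e)).subset (fun x hx => hx.2)).to_subtype
  have hfinH : ∀ (e : ↥(Module.finrank k k').divisors)
      (x : {x : X // IsClosed ({x} : Set X) ∧ EGA4loc.residueDegree f x = e.1}),
      Finite (HomK f k' x.1) := fun e x => finite_homK f k' x.1 (by rw [x.2.2]; exact hpos e)
  have hinner : ∀ e : ↥(Module.finrank k k').divisors,
      Nat.card (Σ (x : {x : X // IsClosed ({x} : Set X) ∧ EGA4loc.residueDegree f x = e.1}),
        HomK f k' x.1) = e.1 * Zeta.degCount f e.1 := by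
    intro e
    haveI := hfinX e
    letI := Fintype.ofFinite
      {x : X // IsClosed ({x} : Set X) ∧ EGA4loc.residueDegree f x = e.1}
    haveI := hfinH e
    rw [Nat.card_sigma]
    have : ∀ x : {x : X // IsClosed ({x} : Set X) ∧ EGA4loc.residueDegree f x = e.1},
        Nat.card (HomK f k' x.1) = e.1 := by
      intro x
      rw [natCard_homK f k' x.1 (by rw [x.2.2]; exact Nat.dvd_of_mem_divisors e.2), x.2.2]
    rw [Finset.sum_congr rfl (fun x _ => this x), Finset.sum_const, Finset.card_univ,
      smul_eq_mul, mul_comm]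
    unfold Zeta.degCount
    rw [Nat.card_eq_fintype_card]
  haveI : ∀ e : ↥(Module.finrank k k').divisors,
      Finite (Σ (x : {x : X // IsClosed ({x} : Set X) ∧ EGA4loc.residueDegree f x = e.1}),
        HomK f k' x.1) := by
    intro e
    haveI := hfinX e
    haveI := hfinH e
    infer_instance
  unfold SgaExt.pointCount
  rw [← Nat.card_congr (Equiv.ofBijective Φ ⟨hΦinj, hΦsurj⟩), Nat.card_sigma,
    Finset.sum_congr rfl (fun e _ => hinner e)]
  unfold Zeta.nPts
  rw [Finset.sum_coe_sort (Module.finrank k k').divisors (fun e => e * Zeta.degCount f e)]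

end Count

end Groth.Agent.R2.H66.ZetaPt
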