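import Mathlib
import Groth.Agent.R2.H66ZetaPt

set_option autoImplicit false
set_option linter.style.haveILetI false
universe u

open CategoryTheory AlgebraicGeometry

namespace Groth.Agent.R2.H66.ZetaA1

open PowerSeries

/-- `exp` of a rescaled series. -/
theorem exp_subst_rescale (q : ℚ) (L : ℚ⟦X⟧) (hL : constantCoeff L = 0) :
    (PowerSeries.exp ℚ).subst (rescale q L) = rescale q ((PowerSeries.exp ℚ).subst L) := by
  have h1 : HasSubst L := HasSubst.of_constantCoeff_zero' hL
  have h2 : HasSubst (q • X : ℚ⟦X⟧) := by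
    apply HasSubst.of_constantCoeff_zero'
    simp
  rw [rescale_eq_subst q ((PowerSeries.exp ℚ).subst L), subst_comp_subst_apply h1 h2,
    ← rescale_eq_subst]

variable {k : Type u} [Field k] [Finite k]

/-- Finite fields have extensions of every positive degree (in the same universe). -/
theorem exists_extension_finrank (m : ℕ) (hm : 1 ≤ m) :
    ∃ (k' : Type u) (_ : Field k') (_ : Algebra k k') (_ : Finite k'), Module.finrank k k' = m := by
  obtain ⟨p, hp⟩ := CharP.exists k
  haveI : Fact p.Prime := ⟨CharP.char_is_prime k p⟩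
  haveI : NeZero m := ⟨by omega⟩
  refine ⟨ULift.{u} (FiniteField.Extension k p m), inferInstance, inferInstance, ?_, ?_⟩
  · haveI : Finite (FiniteField.Extension k p m) := Module.finite_of_finite k
    infer_instance
  · exact ((ULift.moduleEquiv (R := k) (M := FiniteField.Extension k p m)).finrank_eq).trans
      (FiniteField.finrank_extension k p m)


omit [Finite k] in
/-- `k'`-points of the affine line over `X` are pairs of a `k'`-point of `X` and an element of
`k'`. -/
theorem pointCount_affineLine {X : Scheme.{u}} (f : X ⟶ Spec (CommRingCat.of k))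
    (k' : Type u) [Field k'] [Algebra k k'] :
    SgaExt.pointCount ((𝔸(PUnit.{u + 1}; X) ↘ X) ≫ f) k' =
      Nat.card k' * SgaExt.pointCount f k' := by
  unfold SgaExt.pointCount
  rw [← Nat.card_prod]
  refine Nat.card_congr
    { toFun := fun g => ((Scheme.ΓSpecIso (CommRingCat.of k')).hom
          (g.1.appTop (AffineSpace.coord X PUnit.unit)),
        ⟨g.1 ≫ (𝔸(PUnit.{u + 1}; X) ↘ X), by rw [Category.assoc]; exact g.2⟩)
      invFun := fun p => ⟨AffineSpace.homOfVector p.2.1
          (fun _ => (Scheme.ΓSpecIso (CommRingCat.of k')).inv p.1), by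
        rw [← Category.assoc, AffineSpace.homOfVector_over]; exact p.2.2⟩
      left_inv := ?_
      right_inv := ?_ }
  · rintro ⟨g, hg⟩
    apply Subtype.ext
    apply AffineSpace.hom_ext
    · simp only [AffineSpace.homOfVector_over]
    · intro i
      rw [AffineSpace.homOfVector_appTop_coord]
      change (Scheme.ΓSpecIso (CommRingCat.of k')).inv ((Scheme.ΓSpecIso (CommRingCat.of k')).hom _) = _
      rw [← CommRingCat.comp_apply, Iso.hom_inv_id, CommRingCat.id_apply]
  · rintro ⟨a, g₀, hg₀⟩
    apply Prod.ext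
    · change (Scheme.ΓSpecIso (CommRingCat.of k')).hom
        ((AffineSpace.homOfVector g₀ _).appTop (AffineSpace.coord X PUnit.unit)) = a
      rw [AffineSpace.homOfVector_appTop_coord, ← CommRingCat.comp_apply, Iso.inv_hom_id,
        CommRingCat.id_apply]
    · apply Subtype.ext
      exact AffineSpace.homOfVector_over _ _


theorem nPts_affineLine {X : Scheme.{u}} (f : X ⟶ Spec (CommRingCat.of k))
    [LocallyOfFiniteType f] [QuasiCompact f] (m : ℕ) :
    Zeta.nPts ((𝔸(PUnit.{u + 1}; X) ↘ X) ≫ f) m = Nat.card k ^ m * Zeta.nPts f m := by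
  rcases Nat.eq_zero_or_pos m with rfl | hm
  · simp [Zeta.nPts]
  · obtain ⟨k', _, _, _, hk'⟩ := exists_extension_finrank (k := k) m hm
    rw [← hk', ← Groth.Agent.R2.H66.ZetaPt.pointCount_eq_nPts,
      ← Groth.Agent.R2.H66.ZetaPt.pointCount_eq_nPts, pointCount_affineLine,
      Module.natCard_eq_pow_finrank (K := k) (V := k')]

theorem zetaFun_affineLine {X : Scheme.{u}} (f : X ⟶ Spec (CommRingCat.of k))
    [LocallyOfFiniteType f] [QuasiCompact f] :
    Zeta.zetaFun ((𝔸(PUnit.{u + 1}; X) ↘ X) ≫ f) =
      PowerSeries.rescale (Nat.card k : ℚ) (Zeta.zetaFun f) := by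
  have hl : Zeta.logZeta ((𝔸(PUnit.{u + 1}; X) ↘ X) ≫ f) =
      PowerSeries.rescale (Nat.card k : ℚ) (Zeta.logZeta f) := by
    ext m
    rw [coeff_rescale]
    simp only [Zeta.logZeta, coeff_mk]
    rw [nPts_affineLine f m]
    push_cast
    ring
  unfold Zeta.zetaFun
  rw [hl, exp_subst_rescale _ _ (Groth.Agent.R2.H66.Zeta.constantCoeff_logZeta f)]

end Groth.Agent.R2.H66.ZetaA1
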