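import Mathlib
import Groth.Agent.R2.H66ZetaA1
import Groth.Agent.Lib.Helper27LogDeriv3

set_option autoImplicit false
set_option linter.style.haveILetI false
universe u

open CategoryTheory AlgebraicGeometry Limits

namespace Groth.Agent.R2.H66.ZetaBC

variable {k : Type u} [Field k]

/-- `k''`-points of the base change `X_{k'}` over `k'` are the `k''`-points of `X` over `k`. -/
theorem pointCount_baseChange {X : Scheme.{u}} (f : X ⟶ Spec (CommRingCat.of k))
    (k' : Type u) [Field k'] [Algebra k k'] (k'' : Type u) [Field k''] [Algebra k' k'']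
    [Algebra k k''] [IsScalarTower k k' k''] :
    SgaExt.pointCount (pullback.snd f (Spec.map (CommRingCat.ofHom (algebraMap k k')))) k'' =
      SgaExt.pointCount f k'' := by
  unfold SgaExt.pointCount
  have hc : Spec.map (CommRingCat.ofHom (algebraMap k' k'')) ≫
      Spec.map (CommRingCat.ofHom (algebraMap k k')) =
      Spec.map (CommRingCat.ofHom (algebraMap k k'')) := by
    rw [← Spec.map_comp, ← CommRingCat.ofHom_comp, ← IsScalarTower.algebraMap_eq]
  refine Nat.card_congr
    { toFun := fun g => ⟨g.1 ≫ pullback.fst f _, by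
        rw [Category.assoc, pullback.condition, ← Category.assoc, g.2, hc]⟩
      invFun := fun g₀ => ⟨pullback.lift g₀.1 (Spec.map (CommRingCat.ofHom (algebraMap k' k'')))
          (by rw [g₀.2, hc]), pullback.lift_snd _ _ _⟩
      left_inv := ?_
      right_inv := ?_ }
  · rintro ⟨g, hg⟩
    apply Subtype.ext
    apply pullback.hom_ext
    · simp only [pullback.lift_fst]
    · simp only [pullback.lift_snd]; exact hg.symm
  · rintro ⟨g₀, hg₀⟩
    apply Subtype.ext
    exact pullback.lift_fst _ _ _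

variable [Finite k]

theorem nPts_baseChange {X : Scheme.{u}} (f : X ⟶ Spec (CommRingCat.of k))
    [LocallyOfFiniteType f] [QuasiCompact f]
    (k' : Type u) [Field k'] [Algebra k k'] [Finite k'] (m : ℕ) :
    Zeta.nPts (pullback.snd f (Spec.map (CommRingCat.ofHom (algebraMap k k')))) m =
      Zeta.nPts f (Module.finrank k k' * m) := by
  rcases Nat.eq_zero_or_pos m with rfl | hm
  · simp [Zeta.nPts]
  · obtain ⟨k'', _, _, _, hk''⟩ :=
      Groth.Agent.R2.H66.ZetaA1.exists_extension_finrank (k := k') m hm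
    letI : Algebra k k'' := ((algebraMap k' k'').comp (algebraMap k k')).toAlgebra
    haveI : IsScalarTower k k' k'' := IsScalarTower.of_algebraMap_eq (fun _ => rfl)
    have h1 : Module.finrank k k'' = Module.finrank k k' * Module.finrank k' k'' := by
      rw [Module.finrank_mul_finrank]
    rw [← hk'', ← h1, ← Groth.Agent.R2.H66.ZetaPt.pointCount_eq_nPts,
      ← Groth.Agent.R2.H66.ZetaPt.pointCount_eq_nPts, pointCount_baseChange]


section PS

open PowerSeries Groth.Agent.Lib.Helper27LogDeriv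

variable {K : Type*} [Field K] [CharZero K]

theorem exp_subst_sum' {ι : Type*} (s : Finset ι) (L : ι → K⟦X⟧)
    (hL : ∀ i ∈ s, constantCoeff (L i) = 0) :
    (PowerSeries.exp K).subst (∑ i ∈ s, L i) = ∏ i ∈ s, (PowerSeries.exp K).subst (L i) := by
  have h0 : constantCoeff (∑ i ∈ s, L i) = 0 := by
    rw [map_sum]; exact Finset.sum_eq_zero hL
  apply LD.unique' (S := d⁄dX K (∑ i ∈ s, L i))
  · exact LD.exp_subst' _ h0
  · rw [map_sum]
    exact LD.prod s _ _ (fun i hi => LD.exp_subst' _ (hL i hi))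
  · rw [coeff_zero_exp_subst' _ h0, coeff_zero_eq_constantCoeff_apply, map_prod]
    symm
    refine Finset.prod_eq_one fun i hi => ?_
    rw [← coeff_zero_eq_constantCoeff_apply, coeff_zero_exp_subst' _ (hL i hi)]

theorem exp_subst_rescale' (q : K) (L : K⟦X⟧) (hL : constantCoeff L = 0) :
    (PowerSeries.exp K).subst (rescale q L) = rescale q ((PowerSeries.exp K).subst L) := by
  have h1 : HasSubst L := HasSubst.of_constantCoeff_zero' hL
  have h2 : HasSubst (q • X : K⟦X⟧) := by
    apply HasSubst.of_constantCoeff_zero'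
    simp
  rw [rescale_eq_subst q ((PowerSeries.exp K).subst L), subst_comp_subst_apply h1 h2,
    ← rescale_eq_subst]

theorem map_exp_subst (L : ℚ⟦X⟧) (hL : constantCoeff L = 0) :
    PowerSeries.map (algebraMap ℚ K) ((PowerSeries.exp ℚ).subst L) =
      (PowerSeries.exp K).subst (PowerSeries.map (algebraMap ℚ K) L) := by
  have h := map_subst (a := (L : MvPowerSeries Unit ℚ)) (HasSubst.of_constantCoeff_zero' hL)
    (h := algebraMap ℚ K) (PowerSeries.exp ℚ)
  rw [map_exp] at h
  exact h

/-- The series `∑ (N m / m) t^m`. -/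
noncomputable def logSer (N : ℕ → ℕ) : ℚ⟦X⟧ := PowerSeries.mk fun m => (N m : ℚ) / m

theorem constantCoeff_logSer (N : ℕ → ℕ) : constantCoeff (logSer N) = 0 := by
  rw [← coeff_zero_eq_constantCoeff_apply, logSer, coeff_mk]
  simp

omit [CharZero K] in
theorem geom_sum_pow_eq (r : ℕ) (ξ : K) (hξ : IsPrimitiveRoot ξ r) (n : ℕ) :
    ∑ i ∈ Finset.range r, (ξ ^ i) ^ n = if r ∣ n then (r : K) else 0 := by
  have h1 : ∀ i, (ξ ^ i) ^ n = (ξ ^ n) ^ i := fun i => by rw [← pow_mul, ← pow_mul, mul_comm]
  simp_rw [h1]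
  split_ifs with h
  · rw [(hξ.pow_eq_one_iff_dvd n).mpr h]
    simp
  · have hne : ξ ^ n ≠ 1 := fun h1 => h ((hξ.pow_eq_one_iff_dvd n).mp h1)
    have h2 : (ξ ^ n - 1) * ∑ i ∈ Finset.range r, (ξ ^ n) ^ i = 0 := by
      rw [mul_geom_sum, ← pow_mul, mul_comm, pow_mul, hξ.pow_eq_one, one_pow, sub_self]
    exact (mul_eq_zero.mp h2).resolve_left (sub_ne_zero.mpr hne)

theorem expand_logSer (r : ℕ) (hr : r ≠ 0) (ξ : K) (hξ : IsPrimitiveRoot ξ r) (N N' : ℕ → ℕ)
    (hN : ∀ m, N' m = N (r * m)) :
    PowerSeries.expand r hr (PowerSeries.map (algebraMap ℚ K) (logSer N')) =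
      ∑ i ∈ Finset.range r, rescale (ξ ^ i) (PowerSeries.map (algebraMap ℚ K) (logSer N)) := by
  ext n
  rw [coeff_expand, map_sum]
  simp_rw [coeff_rescale, coeff_map, logSer, coeff_mk]
  rw [← Finset.sum_mul, geom_sum_pow_eq r ξ hξ n]
  split_ifs with h
  · obtain ⟨m, rfl⟩ := h
    rw [Nat.mul_div_cancel_left _ (Nat.pos_of_ne_zero hr), hN m]
    simp only [map_div₀, map_natCast]
    rcases Nat.eq_zero_or_pos m with rfl | hm
    · simp
    · have hrK : (r : K) ≠ 0 := Nat.cast_ne_zero.mpr hr
      have hmK : (m : K) ≠ 0 := Nat.cast_ne_zero.mpr hm.ne'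
      push_cast
      field_simp
  · rw [zero_mul]

theorem zeta_identity (r : ℕ) (hr : r ≠ 0) (ξ : K) (hξ : IsPrimitiveRoot ξ r) (N N' : ℕ → ℕ)
    (hN : ∀ m, N' m = N (r * m)) :
    PowerSeries.subst ((PowerSeries.X : K⟦X⟧) ^ r)
        (PowerSeries.map (algebraMap ℚ K) ((PowerSeries.exp ℚ).subst (logSer N'))) =
      ∏ i ∈ Finset.range r, rescale (ξ ^ i)
        (PowerSeries.map (algebraMap ℚ K) ((PowerSeries.exp ℚ).subst (logSer N))) := by
  have hc : ∀ M : ℕ → ℕ, constantCoeff (PowerSeries.map (algebraMap ℚ K) (logSer M)) = 0 := by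
    intro M
    rw [← coeff_zero_eq_constantCoeff_apply, coeff_map, coeff_zero_eq_constantCoeff_apply,
      constantCoeff_logSer, map_zero]
  have hexp : PowerSeries.expand r hr
      ((PowerSeries.exp K).subst (PowerSeries.map (algebraMap ℚ K) (logSer N'))) =
      (PowerSeries.exp K).subst
        (PowerSeries.expand r hr (PowerSeries.map (algebraMap ℚ K) (logSer N'))) :=
    expand_subst (τ := Unit) r hr
      (f := (PowerSeries.map (algebraMap ℚ K) (logSer N') : MvPowerSeries Unit K))
      (HasSubst.of_constantCoeff_zero' (hc N')) (PowerSeries.exp K)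
  rw [← expand_apply r hr, map_exp_subst _ (constantCoeff_logSer N'),
    map_exp_subst _ (constantCoeff_logSer N), hexp, expand_logSer r hr ξ hξ N N' hN,
    exp_subst_sum' _ _ (fun i _ => by
      rw [← coeff_zero_eq_constantCoeff_apply, coeff_rescale, coeff_zero_eq_constantCoeff_apply,
        hc N, mul_zero])]
  refine Finset.prod_congr rfl fun i _ => ?_
  rw [exp_subst_rescale' _ _ (hc N)]

end PS


theorem zetaFun_baseChange {X : Scheme.{u}} (f : X ⟶ Spec (CommRingCat.of k))
    [LocallyOfFiniteType f] [QuasiCompact f]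
    (k' : Type u) [Field k'] [Algebra k k'] [Finite k'] (ξ : ℂ)
    (hξ : IsPrimitiveRoot ξ (Module.finrank k k')) :
    PowerSeries.subst ((PowerSeries.X : PowerSeries ℂ) ^ Module.finrank k k')
        (PowerSeries.map (algebraMap ℚ ℂ) (Zeta.zetaFun
          (pullback.snd f (Spec.map (CommRingCat.ofHom (algebraMap k k')))))) =
      ∏ i ∈ Finset.range (Module.finrank k k'),
        PowerSeries.rescale (ξ ^ i) (PowerSeries.map (algebraMap ℚ ℂ) (Zeta.zetaFun f)) := by
  have hr : Module.finrank k k' ≠ 0 := by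
    haveI : Module.Finite k k' := Module.Finite.of_finite
    exact Module.finrank_pos.ne'
  exact zeta_identity (K := ℂ) (Module.finrank k k') hr ξ hξ (Zeta.nPts f)
    (Zeta.nPts (pullback.snd f (Spec.map (CommRingCat.ofHom (algebraMap k k')))))
    (nPts_baseChange f k')

end Groth.Agent.R2.H66.ZetaBC
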