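import Mathlib
import Groth.Agent.S3589
import Groth.Agent.S3590
import Groth.Agent.S9705
import Groth.Agent.R2.H87PnSpec
import Groth.Agent.R2.H66ZetaA1

/-!
# Point count of projective space over a finite field (helper66)

* `card_hyperplanes`: the number of hyperplanes in an `n`-dimensional space over a finite field.
* `pointCount_projSpace`: `#P^n_k(k') = ∑_{i ≤ n} #k'^i`, through the solved milestones S3589/S3590
  (sections of `P^n_{k'}` ↔ invertible quotients of `k'^{n+1}`) and `P^n_A = P^n_ℤ × Spec A`.
* `nPts_projSpace`.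
-/

set_option autoImplicit false

namespace Groth.Agent.R2.H66.ZetaPn

open Module CategoryTheory CategoryTheory.Limits AlgebraicGeometry

universe u v

section Hyper

variable (K : Type u) [Field K] (V : Type v) [AddCommGroup V] [Module K V] [FiniteDimensional K V]

/-- Hyperplanes of `V` correspond to lines in the dual. -/
noncomputable def hyperEquiv :
    {F : Submodule K V // finrank K (V ⧸ F) = 1} ≃
      {W : Submodule K (Dual K V) // finrank K W = 1} where
  toFun F := ⟨F.1.dualAnnihilator, by
    have h1 := Subspace.finrank_add_finrank_dualAnnihilator_eq F.1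
    have h2 := Submodule.finrank_quotient_add_finrank F.1
    have h3 := F.2
    omega⟩
  invFun W := ⟨W.1.dualCoannihilator, by
    have h0 : W.1.dualCoannihilator.dualAnnihilator = W.1 :=
      Subspace.dualCoannihilator_dualAnnihilator_eq
    have h1 := Subspace.finrank_add_finrank_dualAnnihilator_eq W.1.dualCoannihilator
    have h2 := Submodule.finrank_quotient_add_finrank W.1.dualCoannihilator
    have h3 := W.2
    rw [h0] at h1
    omega⟩
  left_inv F := Subtype.ext Subspace.dualAnnihilator_dualCoannihilator_eq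
  right_inv W := Subtype.ext Subspace.dualCoannihilator_dualAnnihilator_eq

theorem card_hyperplanes [Finite K] (n : ℕ) (hV : finrank K V = n) :
    Nat.card {F : Submodule K V // finrank K (V ⧸ F) = 1} =
      ∑ i ∈ Finset.range n, Nat.card K ^ i := by
  rw [Nat.card_congr (hyperEquiv K V),
    ← Nat.card_congr (Projectivization.equivSubmodule (K := K) (V := Dual K V))]
  exact Projectivization.card_of_finrank (k := K) (V := Dual K V)
    ((Subspace.dual_finrank_eq).trans hV)

end Hyper

section Cond

variable (K : Type u) [Field K] (M : Type v) [AddCommGroup M] [Module K M]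

/-- Over a field, "projective of rank one at every prime" just means one-dimensional. -/
theorem invertible_cond_iff :
    (Module.Projective K M ∧
        ∀ p : PrimeSpectrum K, Module.finrank (Localization.AtPrime p.asIdeal)
          (LocalizedModule p.asIdeal.primeCompl M) = 1) ↔ finrank K M = 1 := by
  have key : ∀ p : PrimeSpectrum K, Module.finrank (Localization.AtPrime p.asIdeal)
      (LocalizedModule p.asIdeal.primeCompl M) = finrank K M := fun p =>
    Module.finrank_of_isLocalizedModule_of_free (Localization.AtPrime p.asIdeal)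
      p.asIdeal.primeCompl (LocalizedModule.mkLinearMap p.asIdeal.primeCompl M)
  constructor
  · rintro ⟨-, h⟩
    have := h ⟨⊥, Ideal.isPrime_bot⟩
    rwa [key] at this
  · intro h
    exact ⟨inferInstance, fun p => (key p).trans h⟩

end Cond

section Pullback

variable {C : Type*} [Category C]

/-- If `P = X ×_T Y` with `T` terminal, maps `W ⟶ P` over a fixed `a : W ⟶ Y` are just maps
`W ⟶ X`. -/
noncomputable def homEquivOfIsPullbackTerminal {P X Y T W : C} {fst : P ⟶ X} {snd : P ⟶ Y}
    {f : X ⟶ T} {g : Y ⟶ T} (h : IsPullback fst snd f g) (hT : IsTerminal T) (a : W ⟶ Y) :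
    {φ : W ⟶ P // φ ≫ snd = a} ≃ (W ⟶ X) where
  toFun φ := φ.1 ≫ fst
  invFun x := ⟨h.lift x a (hT.hom_ext _ _), h.lift_snd _ _ _⟩
  left_inv φ := by
    apply Subtype.ext
    apply h.hom_ext
    · simp
    · simp [φ.2]
  right_inv x := h.lift_fst _ _ _

end Pullback

section Count

open Groth.Agent.R2.H87.ProjSpaceOver Groth.Agent.R2.H87.PnSpec

variable (n : ℕ)

/-- Sections of `P^n_K → Spec K` for a field `K` correspond to hyperplanes of `K^{n+1}`. -/
theorem card_sections (K : Type u) [Field K] :
    Nat.card {s : Spec (CommRingCat.of K) ⟶ CohB1.ProjSpace n K //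
        s ≫ CohB1.ProjSpace.toSpec n K = 𝟙 _} =
      Nat.card {F : Submodule K (Fin (n + 1) → K) // finrank K ((Fin (n + 1) → K) ⧸ F) = 1} := by
  refine Nat.card_congr (Equiv.ofBijective
    (fun s => ⟨ProjUP.secKernel n K s.1, (invertible_cond_iff K _).mp
      ((Groth.Agent.S3590.result n _).mp ⟨s.1, s.2, rfl⟩)⟩) ⟨?_, ?_⟩)
  · rintro ⟨s₁, h₁⟩ ⟨s₂, h₂⟩ h
    apply Subtype.ext
    exact Groth.Agent.S3589.result n s₁ s₂ h₁ h₂ (congrArg Subtype.val h)
  · rintro ⟨F, hF⟩
    obtain ⟨s, hs, hsF⟩ := (Groth.Agent.S3590.result n F).mpr ((invertible_cond_iff K _).mpr hF)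
    exact ⟨⟨s, hs⟩, Subtype.ext hsF⟩

/-- `#P^n_k(k') = ∑_{i ≤ n} #k'^i`. -/
theorem pointCount_projSpace (k : Type u) [Field k] (k' : Type u) [Field k'] [Algebra k k']
    [Finite k'] :
    SgaExt.pointCount (CohB1.ProjSpace.toSpec n k) k' =
      ∑ i ∈ Finset.range (n + 1), Nat.card k' ^ i := by
  unfold SgaExt.pointCount
  refine (Nat.card_congr (homEquivOfIsPullbackTerminal (isPullback_projSpace n k)
      specULiftZIsTerminal (Spec.map (CommRingCat.ofHom (algebraMap k k'))))).trans ?_
  refine (Nat.card_congr (homEquivOfIsPullbackTerminal (isPullback_projSpace n k')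
      specULiftZIsTerminal (𝟙 (Spec (CommRingCat.of k'))))).symm.trans ?_
  refine (card_sections n k').trans ?_
  exact card_hyperplanes k' _ (n + 1) (by simp)

theorem nPts_projSpace (k : Type u) [Field k] [Finite k] (m : ℕ) (hm : 1 ≤ m) :
    Zeta.nPts (CohB1.ProjSpace.toSpec n k) m =
      ∑ i ∈ Finset.range (n + 1), (Nat.card k ^ m) ^ i := by
  have : IsProper (CohB1.ProjSpace.toSpec n k) :=
    Groth.Agent.S9705.isProper_projSpace_toSpec n k
  obtain ⟨k', _, _, _, hk'⟩ := Groth.Agent.R2.H66.ZetaA1.exists_extension_finrank (k := k) m hm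
  rw [← hk', ← Groth.Agent.R2.H66.ZetaPt.pointCount_eq_nPts, pointCount_projSpace,
    Module.natCard_eq_pow_finrank (K := k) (V := k')]

end Count

end Groth.Agent.R2.H66.ZetaPn
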