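import Mathlib
import Groth.Prelude.Def_EtCech
import Groth.Agent.Lib.Helper21CechFree
import Groth.Agent.Lib.Helper9CechDelta

/-!
# Surjectivity on sections from vanishing of Čech `H¹` (helper67)

Generic lemma: for a left exact sequence of presheaves `0 → P' → P → P''`, a family `Y` over `W`
for which `P` glues and `P''` is separated, and `Ȟ¹(Y, P') = 0`, a section of `P''` over `W` which
lifts to `P` on every member of the family lifts to `P` over `W`.
-/

set_option autoImplicit false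
set_option linter.unusedSectionVars false
universe w v u
open CategoryTheory CategoryTheory.Limits Opposite

namespace Groth.Agent.R2.H67.CechSurj

open Groth.Agent.Lib.Helper21.CechFree Groth.Agent.Lib.Helper9.CechDelta

variable {C : Type u} [Category.{v} C] {W : C} [HasFiniteProducts (Over W)] {ι : Type w}
  (Y : ι → Over W)

/-- the augmentation `P(W) → Č⁰(Y, P)`. -/
noncomputable def aug (P : Cᵒᵖ ⥤ AddCommGrpCat.{w}) (t : P.obj (op W)) :
    (EtCech.cechComplex Y P).X 0 :=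
  mkX Y P (fun i => (P.map (fp Y i).hom.op).hom t)

theorem proj_aug (P : Cᵒᵖ ⥤ AddCommGrpCat.{w}) (t : P.obj (op W)) (i : Fin 1 → ι) :
    (proj Y P 0 i).hom (aug Y P t) = (P.map (fp Y i).hom.op).hom t :=
  proj_mkX Y P _ i

/-- explicit formula for the components of `d⁰`. -/
theorem proj_d0 (P : Cᵒᵖ ⥤ AddCommGrpCat.{w}) (c : (EtCech.cechComplex Y P).X 0)
    (i : Fin 2 → ι) :
    (proj Y P 1 i).hom (((EtCech.cechComplex Y P).d 0 1).hom c) =
      (P.map (dmap Y 0 i).left.op).hom ((proj Y P 0 (i ∘ Fin.succAbove 0)).hom c) -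
        (P.map (dmap Y 1 i).left.op).hom ((proj Y P 0 (i ∘ Fin.succAbove 1)).hom c) := by
  have h1 : (EtCech.cechComplex Y P).d 0 1 ≫ proj Y P 1 i =
      proj Y P 0 (i ∘ Fin.succAbove 0) ≫ P.map (dmap Y 0 i).left.op -
        proj Y P 0 (i ∘ Fin.succAbove 1) ≫ P.map (dmap Y 1 i).left.op := by
    rw [cx_d, Preadditive.sum_comp, Fin.sum_univ_two]
    simp only [Fin.val_zero, pow_zero, one_smul, Fin.val_one, pow_one, neg_smul,
      Preadditive.neg_comp]
    rw [face_π, face_π, sub_eq_add_neg]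
  have h2 := ConcreteCategory.congr_hom h1 c
  rw [ConcreteCategory.comp_apply] at h2
  rw [h2]
  rfl

theorem d_aug (P : Cᵒᵖ ⥤ AddCommGrpCat.{w}) (t : P.obj (op W)) :
    ((EtCech.cechComplex Y P).d 0 1).hom (aug Y P t) = 0 := by
  apply X_ext
  intro i
  rw [proj_d0, proj_aug, proj_aug, map_zero, ← ConcreteCategory.comp_apply,
    ← ConcreteCategory.comp_apply, ← P.map_comp, ← P.map_comp, ← op_comp, ← op_comp,
    Over.w, Over.w, sub_self]

/-- the map induced on Čech cochains, with explicit types. -/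
noncomputable def cxMap {P Q : Cᵒᵖ ⥤ AddCommGrpCat.{w}} (φ : P ⟶ Q) (n : ℕ) :
    (EtCech.cechComplex Y P).X n ⟶ (EtCech.cechComplex Y Q).X n :=
  ((G Y).map φ).f n

theorem cxMap_proj_apply {P Q : Cᵒᵖ ⥤ AddCommGrpCat.{w}} (φ : P ⟶ Q) (n : ℕ)
    (i : Fin (n + 1) → ι) (c : (EtCech.cechComplex Y P).X n) :
    (proj Y Q n i).hom ((cxMap Y φ n).hom c) = (φ.app _).hom ((proj Y P n i).hom c) :=
  ConcreteCategory.congr_hom (cxMap_proj Y φ n i) c

theorem cxMap_d {P Q : Cᵒᵖ ⥤ AddCommGrpCat.{w}} (φ : P ⟶ Q) (n : ℕ)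
    (c : (EtCech.cechComplex Y P).X n) :
    ((EtCech.cechComplex Y Q).d n (n + 1)).hom ((cxMap Y φ n).hom c) =
      (cxMap Y φ (n + 1)).hom (((EtCech.cechComplex Y P).d n (n + 1)).hom c) := by
  have h := ((G Y).map φ).comm n (n + 1)
  have h2 := ConcreteCategory.congr_hom h c
  rw [ConcreteCategory.comp_apply, ConcreteCategory.comp_apply] at h2
  exact h2

theorem cxMap_aug {P Q : Cᵒᵖ ⥤ AddCommGrpCat.{w}} (φ : P ⟶ Q) (t : P.obj (op W)) :
    (cxMap Y φ 0).hom (aug Y P t) = aug Y Q ((φ.app _).hom t) := by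
  apply X_ext
  intro i
  rw [cxMap_proj_apply, proj_aug, proj_aug]
  exact (ConcreteCategory.congr_hom (φ.naturality (fp Y i).hom.op) t)

/-- exactness from vanishing of homology. -/
theorem exists_of_isZero_homology (P : Cᵒᵖ ⥤ AddCommGrpCat.{w}) (n : ℕ)
    (h : IsZero (EtCech.cechH Y P (n + 1))) (c : (EtCech.cechComplex Y P).X (n + 1))
    (hc : ((EtCech.cechComplex Y P).d (n + 1) (n + 2)).hom c = 0) :
    ∃ b : (EtCech.cechComplex Y P).X n, ((EtCech.cechComplex Y P).d n (n + 1)).hom b = c := by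
  have hex : (EtCech.cechComplex Y P).ExactAt (n + 1) :=
    (HomologicalComplex.exactAt_iff_isZero_homology _ _).2 h
  rw [HomologicalComplex.exactAt_iff' _ n (n + 1) (n + 2) (by simp) (by simp),
    ShortComplex.ab_exact_iff] at hex
  exact hex c hc

section sheaf

variable (P : Cᵒᵖ ⥤ AddCommGrpCat.{w})

/-- the diagonal `Y k ⟶ fp Y (fun _ => k)`. -/
noncomputable def diag (k : ι) : Y k ⟶ fp Y (fun _ : Fin 1 => k) :=
  Pi.lift (fun _ => 𝟙 (Y k))

theorem π_diag (k : ι) :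
    Pi.π (Y ∘ fun _ : Fin 1 => k) 0 ≫ diag Y k = 𝟙 _ := by
  apply Pi.hom_ext
  intro a
  obtain rfl : a = 0 := Fin.eq_zero a
  rw [Category.assoc, Category.id_comp]
  erw [Pi.lift_π]
  exact Category.comp_id _

/-- the components of a `0`-cochain on the members of the family. -/
noncomputable def comp0 (c : (EtCech.cechComplex Y P).X 0) (k : ι) : P.obj (op (Y k).left) :=
  (P.map (diag Y k).left.op).hom ((proj Y P 0 (fun _ => k)).hom c)

theorem proj_eq_comp0 (c : (EtCech.cechComplex Y P).X 0) (i : Fin 1 → ι) :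
    (proj Y P 0 i).hom c = (P.map (Pi.π (Y ∘ i) 0).left.op).hom (comp0 Y P c (i 0)) := by
  obtain ⟨k, rfl⟩ : ∃ k, i = fun _ => k := ⟨i 0, by
    funext a
    obtain rfl : a = 0 := Fin.eq_zero a
    rfl⟩
  rw [comp0, ← ConcreteCategory.comp_apply, ← P.map_comp, ← op_comp, ← Over.comp_left]
  have h := π_diag Y k
  have h2 : (P.map (Pi.π (Y ∘ fun _ : Fin 1 => k) 0 ≫ diag Y k).left.op) = 𝟙 _ := by
    rw [h]
    exact P.map_id _
  exact (ConcreteCategory.congr_hom h2 ((proj Y P 0 (fun _ => k)).hom c)).symm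

theorem comp0_aug (s : P.obj (op W)) (k : ι) :
    comp0 Y P (aug Y P s) k = (P.map (Y k).hom.op).hom s := by
  rw [comp0, proj_aug, ← ConcreteCategory.comp_apply, ← P.map_comp, ← op_comp]
  have h : (diag Y k).left ≫ (fp Y (fun _ : Fin 1 => k)).hom = (Y k).hom := Over.w (diag Y k)
  rw [h]

/-- a `0`-cocycle has compatible components. -/
theorem comp0_compatible (c : (EtCech.cechComplex Y P).X 0)
    (hc : ((EtCech.cechComplex Y P).d 0 1).hom c = 0) :
    Presieve.Arrows.Compatible (P ⋙ forget AddCommGrpCat) (fun k => (Y k).hom)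
      (comp0 Y P c) := by
  intro i j Z gi gj hij
  let Z' : Over W := Over.mk (gi ≫ (Y i).hom)
  let hi : Z' ⟶ Y i := Over.homMk gi rfl
  let hj : Z' ⟶ Y j := Over.homMk gj hij.symm
  let ij : Fin 2 → ι := ![i, j]
  let T : Z' ⟶ fp Y ij := Pi.lift (fun a : Fin 2 => match a with
    | ⟨0, _⟩ => hi
    | ⟨1, _⟩ => hj)
  have hT0 : T ≫ Pi.π (Y ∘ ij) 0 = hi := by
    erw [Pi.lift_π]
  have hT1 : T ≫ Pi.π (Y ∘ ij) 1 = hj := by
    erw [Pi.lift_π]
  have h1 := proj_d0 Y P c ij
  rw [hc, map_zero, proj_eq_comp0, proj_eq_comp0, ← ConcreteCategory.comp_apply,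
    ← ConcreteCategory.comp_apply, ← P.map_comp, ← P.map_comp, ← op_comp, ← op_comp,
    ← Over.comp_left, ← Over.comp_left, dmap_π, dmap_π] at h1
  have h2 := sub_eq_zero.mp h1.symm
  have h3 := congrArg (fun x => (P.map T.left.op).hom x) h2
  beta_reduce at h3
  rw [← ConcreteCategory.comp_apply, ← ConcreteCategory.comp_apply, ← P.map_comp, ← P.map_comp,
    ← op_comp, ← op_comp, ← Over.comp_left, ← Over.comp_left] at h3
  change (P.map gi.op).hom (comp0 Y P c i) = (P.map gj.op).hom (comp0 Y P c j)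
  have e0 : (T ≫ Pi.π (Y ∘ ij) (Fin.succAbove 1 0)).left = gi :=
    congrArg (fun m : Z' ⟶ (Y ∘ ij) 0 => m.left) hT0
  have e1 : (T ≫ Pi.π (Y ∘ ij) (Fin.succAbove 0 0)).left = gj :=
    congrArg (fun m : Z' ⟶ (Y ∘ ij) 1 => m.left) hT1
  rw [e0, e1] at h3
  exact h3.symm

variable (hSF : Presieve.IsSheafFor (P ⋙ forget AddCommGrpCat)
  (Presieve.ofArrows (fun k => (Y k).left) (fun k => (Y k).hom)))
include hSF

theorem sep_of_isSheafFor (s s' : P.obj (op W))
    (h : ∀ i : Fin 1 → ι, (P.map (fp Y i).hom.op).hom s = (P.map (fp Y i).hom.op).hom s') :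
    s = s' := by
  rw [Presieve.isSheafFor_arrows_iff] at hSF
  have hk : ∀ k, (P.map (Y k).hom.op).hom s = (P.map (Y k).hom.op).hom s' := by
    intro k
    rw [← comp0_aug, ← comp0_aug]
    congr 1
    apply X_ext
    intro i
    rw [proj_aug, proj_aug, h]
  have hcomp : Presieve.Arrows.Compatible (P ⋙ forget AddCommGrpCat) (fun k => (Y k).hom)
      (fun k => (P.map (Y k).hom.op).hom s) := by
    intro i j Z gi gj hij
    change (P.map gi.op).hom ((P.map (Y i).hom.op).hom s) =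
      (P.map gj.op).hom ((P.map (Y j).hom.op).hom s)
    rw [← ConcreteCategory.comp_apply, ← ConcreteCategory.comp_apply, ← P.map_comp, ← P.map_comp,
      ← op_comp, ← op_comp, hij]
  obtain ⟨t, -, ht⟩ := hSF _ hcomp
  rw [ht s (fun k => rfl), ht s' (fun k => (hk k).symm)]

theorem glue_of_isSheafFor (c : (EtCech.cechComplex Y P).X 0)
    (hc : ((EtCech.cechComplex Y P).d 0 1).hom c = 0) :
    ∃ s : P.obj (op W), aug Y P s = c := by
  rw [Presieve.isSheafFor_arrows_iff] at hSF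
  obtain ⟨s, hs, -⟩ := hSF _ (comp0_compatible Y P c hc)
  refine ⟨s, ?_⟩
  apply X_ext
  intro i
  rw [proj_aug, proj_eq_comp0 Y P c i]
  have h1 : (P.map (Y (i 0)).hom.op).hom s = comp0 Y P c (i 0) := hs (i 0)
  rw [← h1, ← ConcreteCategory.comp_apply, ← P.map_comp, ← op_comp]
  have h2 : (Pi.π (Y ∘ i) 0).left ≫ (Y (i 0)).hom = (fp Y i).hom := Over.w (Pi.π (Y ∘ i) 0)
  rw [h2]

end sheaf

section main

variable {P' P P'' : Cᵒᵖ ⥤ AddCommGrpCat.{w}} (f : P' ⟶ P) (g : P ⟶ P'')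

/-- Surjectivity on sections from vanishing of Čech `H¹` of the kernel. -/
theorem exists_lift
    (hfinj : ∀ V : Cᵒᵖ, Function.Injective (f.app V).hom)
    (hex : ∀ (V : Cᵒᵖ) (x : P.obj V), (g.app V).hom x = 0 → ∃ y, (f.app V).hom y = x)
    (hfg : ∀ (V : Cᵒᵖ) (y : P'.obj V), (g.app V).hom ((f.app V).hom y) = 0)
    (hsep : ∀ s s' : P''.obj (op W), (∀ i : Fin 1 → ι,
      (P''.map (fp Y i).hom.op).hom s = (P''.map (fp Y i).hom.op).hom s') → s = s')
    (hglue : ∀ c : (EtCech.cechComplex Y P).X 0,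
      ((EtCech.cechComplex Y P).d 0 1).hom c = 0 → ∃ s : P.obj (op W), aug Y P s = c)
    (hH1 : IsZero (EtCech.cechH Y P' 1))
    (t : P''.obj (op W)) (s : ∀ k : ι, P.obj (op (Y k).left))
    (hs : ∀ k, (g.app _).hom (s k) = (P''.map (Y k).hom.op).hom t) :
    ∃ s₀ : P.obj (op W), (g.app _).hom s₀ = t := by
  -- the 0-cochain of local lifts
  let c0 : (EtCech.cechComplex Y P).X 0 :=
    mkX Y P (fun i => (P.map (Pi.π (Y ∘ i) 0).left.op).hom (s (i 0)))
  have hc0 : (cxMap Y g 0).hom c0 = aug Y P'' t := by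
    apply X_ext
    intro i
    rw [cxMap_proj_apply, proj_aug, proj_mkX]
    have h1 := ConcreteCategory.congr_hom (g.naturality (Pi.π (Y ∘ i) 0).left.op) (s (i 0))
    rw [ConcreteCategory.comp_apply, ConcreteCategory.comp_apply] at h1
    refine h1.trans ?_
    refine (congrArg (fun x => (P''.map (Pi.π (Y ∘ i) 0).left.op).hom x) (hs (i 0))).trans ?_
    have h2 : (Pi.π (Y ∘ i) 0).left ≫ (Y (i 0)).hom = (fp Y i).hom := Over.w (Pi.π (Y ∘ i) 0)
    rw [← h2, op_comp, P''.map_comp]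
    rfl
  -- its coboundary comes from `P'`
  have hz : (cxMap Y g 1).hom (((EtCech.cechComplex Y P).d 0 1).hom c0) = 0 := by
    rw [← cxMap_d, hc0, d_aug]
  have h1 : ∀ i : Fin 2 → ι, ∃ y, (f.app _).hom y =
      (proj Y P 1 i).hom (((EtCech.cechComplex Y P).d 0 1).hom c0) := by
    intro i
    apply hex
    rw [← cxMap_proj_apply, hz, map_zero]
  choose y hy using h1
  let c1 : (EtCech.cechComplex Y P').X 1 := mkX Y P' y
  have hc1 : (cxMap Y f 1).hom c1 = ((EtCech.cechComplex Y P).d 0 1).hom c0 := by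
    apply X_ext
    intro i
    rw [cxMap_proj_apply, proj_mkX, hy]
  have hdc1 : ((EtCech.cechComplex Y P').d 1 2).hom c1 = 0 := by
    have hinj : Function.Injective (cxMap Y f 2).hom := by
      intro a b hab
      apply X_ext
      intro i
      apply hfinj
      rw [← cxMap_proj_apply, ← cxMap_proj_apply, hab]
    apply hinj
    rw [← cxMap_d, hc1, map_zero, ← ConcreteCategory.comp_apply, HomologicalComplex.d_comp_d]
    rfl
  obtain ⟨b0, hb0⟩ := exists_of_isZero_homology Y P' 0 hH1 c1 hdc1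
  -- the corrected cochain is a cocycle
  let c : (EtCech.cechComplex Y P).X 0 := c0 - (cxMap Y f 0).hom b0
  have hdc : ((EtCech.cechComplex Y P).d 0 1).hom c = 0 := by
    change ((EtCech.cechComplex Y P).d 0 1).hom (c0 - (cxMap Y f 0).hom b0) = 0
    rw [map_sub, cxMap_d, hb0, hc1, sub_self]
  obtain ⟨s₀, hs₀⟩ := hglue c hdc
  refine ⟨s₀, ?_⟩
  apply hsep
  intro i
  have h2 : (proj Y P'' 0 i).hom ((cxMap Y g 0).hom (aug Y P s₀)) =
      (proj Y P'' 0 i).hom ((cxMap Y g 0).hom c) := by rw [hs₀]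
  rw [cxMap_aug, proj_aug] at h2
  rw [h2]
  change (proj Y P'' 0 i).hom ((cxMap Y g 0).hom (c0 - (cxMap Y f 0).hom b0)) = _
  rw [map_sub, map_sub, hc0, proj_aug, cxMap_proj_apply, cxMap_proj_apply, hfg, sub_zero]

end main

end Groth.Agent.R2.H67.CechSurj
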