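import Mathlib

/-!
# Rigidity of homomorphisms from an algebraic field extension into a connected reduced ring
(helper67)

`ringHom_eq_of_retraction`: let `B/k` be an algebraic field extension, `R` a reduced ring with only
trivial idempotents, `φ ψ : B →+* R` two ring homomorphisms which agree on `k` and have a common
retraction `ε : R →+* B`. Then `φ = ψ`.
-/

set_option autoImplicit false
universe u

namespace Groth.Agent.R2.H67.ConnAlg

open Polynomial

/-- separable case. -/
theorem apply_eq_of_isSeparable {k B R : Type*} [Field k] [Field B] [Algebra k B] [CommRing R]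
    (hid : ∀ e : R, e * e = e → e = 0 ∨ e = 1)
    (φ ψ : B →+* R) (hk : φ.comp (algebraMap k B) = ψ.comp (algebraMap k B))
    (ε : R →+* B) (hφ : ∀ b, ε (φ b) = b) (hψ : ∀ b, ε (ψ b) = b)
    (α : B) (hα : IsSeparable k α) : φ α = ψ α := by
  have hR1 : (1 : R) ≠ 0 := by
    intro h
    have := congrArg ε h
    rw [map_one, map_zero] at this
    exact one_ne_zero this
  set f := minpoly k α with hf
  have hsep : (f.map (algebraMap k B)).Separable := Polynomial.Separable.map hα
  have hroot : (f.map (algebraMap k B)).IsRoot α := by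
    rw [IsRoot.def, eval_map, ← aeval_def, minpoly.aeval]
  obtain ⟨g, hg⟩ := dvd_iff_isRoot.mpr hroot
  rw [hg] at hsep
  obtain ⟨u, v, huv⟩ := hsep.isCoprime
  set β := φ α with hβ
  -- evaluate everything at `β` through `ψ`
  have h0 : eval₂ ψ β (f.map (algebraMap k B)) = 0 := by
    rw [eval₂_map, ← hk, ← hom_eval₂, ← aeval_def, minpoly.aeval, map_zero]
  have h1 : (β - ψ α) * eval₂ ψ β g = 0 := by
    rw [hg, eval₂_mul, eval₂_sub, eval₂_X, eval₂_C] at h0
    exact h0
  have h2 : eval₂ ψ β u * (β - ψ α) + eval₂ ψ β v * eval₂ ψ β g = 1 := by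
    have := congrArg (eval₂ ψ β) huv
    rw [eval₂_add, eval₂_mul, eval₂_mul, eval₂_sub, eval₂_X, eval₂_C, eval₂_one] at this
    exact this
  set U := eval₂ ψ β u
  set V := eval₂ ψ β v
  set G := eval₂ ψ β g
  have hidem : (U * (β - ψ α)) * (U * (β - ψ α)) = U * (β - ψ α) := by
    have : U * (β - ψ α) = 1 - V * G := by rw [← h2]; ring
    calc (U * (β - ψ α)) * (U * (β - ψ α)) = (U * (β - ψ α)) * (1 - V * G) := by rw [← this]
      _ = U * (β - ψ α) - U * V * ((β - ψ α) * G) := by ring
      _ = U * (β - ψ α) := by rw [h1]; ring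
  rcases hid _ hidem with h | h
  · have : β - ψ α = (β - ψ α) * (U * (β - ψ α)) + V * ((β - ψ α) * G) := by
      calc β - ψ α = (β - ψ α) * (U * (β - ψ α) + V * G) := by rw [h2, mul_one]
        _ = _ := by ring
    rw [h, h1, mul_zero, mul_zero, add_zero] at this
    exact sub_eq_zero.mp this
  · exfalso
    have := congrArg ε h
    rw [map_mul, map_sub, hβ, hφ, hψ, sub_self, mul_zero, map_one] at this
    exact zero_ne_one this

/-- Let `B/k` be an algebraic field extension, `R` a reduced ring with only trivial idempotents,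
`φ ψ : B →+* R` two ring homomorphisms which agree on `k` and have a common retraction
`ε : R →+* B`. Then `φ = ψ`. -/
theorem ringHom_eq_of_retraction {k B R : Type*} [Field k] [Field B] [Algebra k B]
    [Algebra.IsAlgebraic k B] [CommRing R] [IsReduced R]
    (hid : ∀ e : R, e * e = e → e = 0 ∨ e = 1)
    (φ ψ : B →+* R) (hk : φ.comp (algebraMap k B) = ψ.comp (algebraMap k B))
    (ε : R →+* B) (hφ : ∀ b, ε (φ b) = b) (hψ : ∀ b, ε (ψ b) = b) : φ = ψ := by
  have hR : Nontrivial R := by
    refine ⟨⟨1, 0, ?_⟩⟩
    intro h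
    have := congrArg ε h
    rw [map_one, map_zero] at this
    exact one_ne_zero this
  obtain ⟨q, hq⟩ := ExpChar.exists k
  have : ExpChar (separableClosure k B) q := expChar_of_injective_ringHom
    (algebraMap k (separableClosure k B)).injective q
  have : ExpChar R q := expChar_of_injective_ringHom (φ.comp (algebraMap k B)).injective q
  ext α
  obtain ⟨n, ⟨y, hy⟩⟩ := (isPurelyInseparable_iff_pow_mem (separableClosure k B) q).1
    (separableClosure.isPurelyInseparable (F := k) (E := B)) α
  have hysep : IsSeparable k (α ^ q ^ n) := by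
    rw [← hy]
    exact mem_separableClosure_iff.1 y.2
  have h1 := apply_eq_of_isSeparable hid φ ψ hk ε hφ hψ _ hysep
  rw [map_pow, map_pow] at h1
  have h2 : (φ α - ψ α) ^ q ^ n = 0 := by
    rw [sub_pow_expChar_pow, h1, sub_self]
  exact sub_eq_zero.mp (IsReduced.eq_zero _ ⟨_, h2⟩)

end Groth.Agent.R2.H67.ConnAlg
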