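import Mathlib

/-!
# Idempotent global sections of connected reduced schemes (helper67)
-/

set_option autoImplicit false
universe u

open CategoryTheory AlgebraicGeometry

namespace Groth.Agent.R2.H67.ConnSch

/-- An idempotent global section of a connected reduced scheme is `0` or `1`. -/
theorem eq_zero_or_one_of_idempotent {X : Scheme.{u}} [ConnectedSpace X] [IsReduced X]
    (e : Γ(X, ⊤)) (he : e * e = e) : e = 0 ∨ e = 1 := by
  have hinf : X.basicOpen e ⊓ X.basicOpen (1 - e) = ⊥ := by
    rw [← Scheme.basicOpen_mul]
    have : e * (1 - e) = 0 := by rw [mul_sub, mul_one, he, sub_self]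
    rw [this, Scheme.basicOpen_zero]
  have hsup : ∀ x : X, x ∈ X.basicOpen e ∨ x ∈ X.basicOpen (1 - e) := by
    intro x
    rw [Scheme.mem_basicOpen_top, Scheme.mem_basicOpen_top, map_sub, map_one]
    exact IsLocalRing.isUnit_or_isUnit_one_sub_self _
  have hcompl : ((X.basicOpen e : Set X))ᶜ = (X.basicOpen (1 - e) : Set X) := by
    ext x
    constructor
    · intro hx
      exact (hsup x).resolve_left hx
    · intro hx hx'
      have : x ∈ X.basicOpen e ⊓ X.basicOpen (1 - e) := ⟨hx', hx⟩
      rw [hinf] at this
      exact this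
  have hclopen : IsClopen (X.basicOpen e : Set X) := by
    refine ⟨?_, (X.basicOpen e).2⟩
    rw [← isOpen_compl_iff, hcompl]
    exact (X.basicOpen (1 - e)).2
  rcases isClopen_iff.mp hclopen with h | h
  · left
    rw [← basicOpen_eq_bot_iff]
    exact TopologicalSpace.Opens.ext h
  · right
    have h2 : X.basicOpen (1 - e) = ⊥ := by
      rw [← hinf]
      have : X.basicOpen e = ⊤ := TopologicalSpace.Opens.ext h
      rw [this, top_inf_eq]
    rw [basicOpen_eq_bot_iff] at h2
    exact (sub_eq_zero.mp h2).symm

end Groth.Agent.R2.H67.ConnSch
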