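import Mathlib

/-!
# The different ideal commutes with localization (helper67)

`A ⊆ B` Dedekind (AKLB setting), `S ≤ A⁰`, `Aₛ = S⁻¹A`, `Bₛ = S⁻¹B`.  Then
`𝔇(B/A) · Bₛ = 𝔇(Bₛ/Aₛ)`.
-/

set_option autoImplicit false

open scoped nonZeroDivisors
open Submodule Algebra

namespace Groth.Agent.R2.H67.DiffLoc

section TraceDual

variable (A B K L Aₛ Bₛ : Type*) [CommRing A] [CommRing B] [Field K] [Field L]
  [CommRing Aₛ] [CommRing Bₛ]
  [Algebra A B] [Algebra A K] [Algebra B L] [Algebra K L] [Algebra A L]
  [IsScalarTower A K L] [IsScalarTower A B L]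
  [Algebra A Aₛ] [Algebra B Bₛ] [Algebra Aₛ Bₛ]
  [Algebra Aₛ K] [IsScalarTower A Aₛ K] [Algebra Bₛ L] [IsScalarTower B Bₛ L]
  [Algebra Aₛ L] [IsScalarTower Aₛ K L] [IsScalarTower Aₛ Bₛ L]
  (S : Submonoid A) [IsLocalization S Aₛ] [IsLocalization (Algebra.algebraMapSubmonoid B S) Bₛ]
  [IsDomain A] [IsFractionRing A K] [Module.Finite A B]

include S in
/-- The trace dual of `Bₛ` over `Aₛ` is the `Bₛ`-span of the trace dual of `B` over `A`. -/
theorem span_traceDual_one (hS : S ≤ A⁰) :
    Submodule.span Bₛ ((Submodule.traceDual A K (1 : Submodule B L) : Submodule B L) : Set L) =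
      Submodule.traceDual Aₛ K (1 : Submodule Bₛ L) := by
  have hK0 : ∀ s : S, algebraMap A K (s : A) ≠ 0 := fun s =>
    (map_ne_zero_iff _ (IsFractionRing.injective A K)).mpr (nonZeroDivisors.ne_zero (hS s.2))
  have hsL : ∀ s : A, algebraMap K L (algebraMap A K s) =
      algebraMap Bₛ L (algebraMap B Bₛ (algebraMap A B s)) := by
    intro s
    rw [← IsScalarTower.algebraMap_apply A K L, ← IsScalarTower.algebraMap_apply B Bₛ L,
      ← IsScalarTower.algebraMap_apply A B L]
  apply le_antisymm
  · rw [Submodule.span_le]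
    intro z hz
    rw [SetLike.mem_coe, Submodule.mem_traceDual]
    intro y hy
    obtain ⟨b', rfl⟩ := Submodule.mem_one.mp hy
    obtain ⟨⟨b, ⟨_, s, hs, rfl⟩⟩, hb⟩ :=
      IsLocalization.surj (Algebra.algebraMapSubmonoid B S) b'
    obtain ⟨a, ha⟩ := (Submodule.mem_traceDual.mp hz) (algebraMap B L b)
      (Submodule.mem_one.mpr ⟨b, rfl⟩)
    refine ⟨IsLocalization.mk' Aₛ a ⟨s, hs⟩, ?_⟩
    have h0 := hK0 ⟨s, hs⟩
    apply mul_right_cancel₀ h0
    have h1 : algebraMap Aₛ K (IsLocalization.mk' Aₛ a ⟨s, hs⟩) * algebraMap A K s =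
        algebraMap A K a := by
      rw [IsScalarTower.algebraMap_apply A Aₛ K s, ← map_mul, IsLocalization.mk'_spec,
        ← IsScalarTower.algebraMap_apply]
    change _ * algebraMap A K s = _ * algebraMap A K s
    rw [h1, ha, Algebra.traceForm_apply, Algebra.traceForm_apply, mul_comm _ (algebraMap A K s),
      ← smul_eq_mul (algebraMap A K s), ← map_smul, Algebra.smul_def, hsL]
    congr 1
    have : algebraMap B L b = algebraMap Bₛ L (b' * algebraMap B Bₛ (algebraMap A B s)) := by
      rw [hb, ← IsScalarTower.algebraMap_apply]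
    rw [this, map_mul]
    ring
  · intro z hz
    have hz' := Submodule.mem_traceDual.mp hz
    have hex : ∀ g : B, ∃ t : Aₛ, algebraMap Aₛ K t =
        Algebra.traceForm K L z (algebraMap Bₛ L (algebraMap B Bₛ g)) := fun g =>
      hz' _ (Submodule.mem_one.mpr ⟨_, rfl⟩)
    choose t ht using hex
    classical
    obtain ⟨G, hG⟩ := (Module.Finite.fg_top : (⊤ : Submodule A B).FG)
    obtain ⟨s, hs⟩ := IsLocalization.exist_integer_multiples_of_finset S (G.image t)
    -- `s • z` lies in the trace dual of `B`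
    have hsz : algebraMap K L (algebraMap A K (s : A)) * z ∈
        (Submodule.traceDual A K (1 : Submodule B L) : Submodule B L) := by
      rw [Submodule.mem_traceDual]
      intro y hy
      obtain ⟨b, rfl⟩ := Submodule.mem_one.mp hy
      clear hy
      have hb : b ∈ Submodule.span A (G : Set B) := hG ▸ Submodule.mem_top
      induction hb using Submodule.span_induction with
      | mem g hg =>
        obtain ⟨a', ha'⟩ := hs (t g) (Finset.mem_image_of_mem t hg)
        refine ⟨a', ?_⟩
        rw [Algebra.traceForm_apply, mul_assoc, ← Algebra.smul_def, map_smul, smul_eq_mul,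
          IsScalarTower.algebraMap_apply B Bₛ L, ← Algebra.traceForm_apply, ← ht,
          IsScalarTower.algebraMap_apply A Aₛ K a', ha', Algebra.smul_def, map_mul,
          ← IsScalarTower.algebraMap_apply A Aₛ K]
      | zero => exact ⟨0, by simp⟩
      | add x y _ _ hx hy =>
        obtain ⟨ax, hax⟩ := hx
        obtain ⟨ay, hay⟩ := hy
        exact ⟨ax + ay, by rw [map_add, map_add, map_add, hax, hay]⟩
      | smul c x _ hx =>
        obtain ⟨ax, hax⟩ := hx
        refine ⟨c * ax, ?_⟩
        have hcx : algebraMap B L (c • x) = (algebraMap A K c) • algebraMap B L x := by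
          rw [Algebra.smul_def c x, map_mul, ← IsScalarTower.algebraMap_apply A B L,
            IsScalarTower.algebraMap_apply A K L, ← Algebra.smul_def]
        rw [hcx, map_smul, smul_eq_mul, ← hax, map_mul]
    have hsB : algebraMap A B (s : A) ∈ Algebra.algebraMapSubmonoid B S := ⟨s, s.2, rfl⟩
    have hz2 : z = IsLocalization.mk' Bₛ (1 : B) ⟨algebraMap A B (s : A), hsB⟩ •
        (algebraMap K L (algebraMap A K (s : A)) * z) := by
      rw [Algebra.smul_def, ← mul_assoc, hsL, ← map_mul, IsLocalization.mk'_spec, map_one,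
        map_one, one_mul]
    rw [hz2]
    exact Submodule.smul_mem _ _ (Submodule.subset_span hsz)

end TraceDual

section Main

/-- The different ideal commutes with localization (general `K`, `L`). -/
theorem map_differentIdeal_eq (A B K L Aₛ Bₛ : Type*) [CommRing A] [CommRing B] [Field K] [Field L]
    [CommRing Aₛ] [CommRing Bₛ]
    [Algebra A B] [Algebra A K] [Algebra B L] [Algebra K L] [Algebra A L]
    [IsScalarTower A K L] [IsScalarTower A B L]
    [Algebra A Aₛ] [Algebra B Bₛ] [Algebra Aₛ Bₛ]
    [Algebra Aₛ K] [IsScalarTower A Aₛ K] [Algebra Bₛ L] [IsScalarTower B Bₛ L]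
    [Algebra Aₛ L] [IsScalarTower Aₛ K L] [IsScalarTower Aₛ Bₛ L]
    (S : Submonoid A) [IsLocalization S Aₛ] [IsLocalization (Algebra.algebraMapSubmonoid B S) Bₛ]
    [IsDomain A] [IsFractionRing A K] [Module.Finite A B]
    [FiniteDimensional K L] [Algebra.IsSeparable K L]
    [IsIntegrallyClosed A] [IsDedekindDomain B] [Module.IsTorsionFree A B] [IsFractionRing B L]
    [IsIntegralClosure B A L]
    [IsDomain Aₛ] [IsFractionRing Aₛ K] [IsIntegrallyClosed Aₛ] [IsDedekindDomain Bₛ]
    [Module.IsTorsionFree Aₛ Bₛ] [IsFractionRing Bₛ L] [IsIntegralClosure Bₛ Aₛ L]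
    (hS : S ≤ A⁰) :
    Ideal.map (algebraMap B Bₛ) (differentIdeal A B) = differentIdeal Aₛ Bₛ := by
  have hinj : Function.Injective (algebraMap B Bₛ) := by
    have h1 : Function.Injective (algebraMap B L) := IsFractionRing.injective B L
    rw [IsScalarTower.algebraMap_eq B Bₛ L] at h1
    exact Function.Injective.of_comp h1
  have hf : B⁰ ≤ Submonoid.comap (algebraMap B Bₛ) Bₛ⁰ :=
    nonZeroDivisors_le_comap_nonZeroDivisors_of_injective _ hinj
  have hid : IsLocalization.map (S := L) L (algebraMap B Bₛ) hf = RingHom.id L := by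
    apply IsLocalization.ringHom_ext B⁰
    ext b
    simp only [RingHom.coe_comp, Function.comp_apply, IsLocalization.map_eq, RingHom.id_apply]
    rw [← IsScalarTower.algebraMap_apply]
  have key : FractionalIdeal.extended L hf (FractionalIdeal.dual A K (1 : FractionalIdeal B⁰ L)) =
      FractionalIdeal.dual Aₛ K (1 : FractionalIdeal Bₛ⁰ L) := by
    apply FractionalIdeal.coeToSubmodule_injective
    beta_reduce
    rw [FractionalIdeal.coe_extended_eq_span, FractionalIdeal.coe_dual_one, hid,
      ← span_traceDual_one A B K L Aₛ Bₛ S hS]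
    congr 1
    ext x
    simp only [RingHom.id_apply, Set.image_id', SetLike.mem_coe]
    rw [← FractionalIdeal.coe_dual_one A K L B]
    rfl
  apply FractionalIdeal.coeIdeal_injective (K := L)
  beta_reduce
  rw [← FractionalIdeal.extended_coeIdeal_eq_map (K := L) (M := B⁰) L hf,
    coeIdeal_differentIdeal A K L B, coeIdeal_differentIdeal Aₛ K L Bₛ, ← key]
  exact map_inv₀ (FractionalIdeal.extendedHom' (K := L) (M := B⁰) L hf) _

end Main

end Groth.Agent.R2.H67.DiffLoc
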