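import Mathlib
import Groth.Prelude
import Groth.Agent.R2.H50ExtShSpec
import Groth.Agent.Lib.Helper21RestrExact
import Groth.Agent.Lib.Helper21Dual1
import Groth.Agent.Lib.Helper21ExtShDelta
import Groth.Agent.Lib.Helper23RestrTensor
import Groth.Agent.R2.H50ExtZero

/-!
# helper67: PROJ:ext-sheaf, package (A) `PkgRestrHom`

`ℋom_X(F, -)|_Y ≅ ℋom_Y(F|_Y, (-)|_Y)` for an open immersion `j : Y ⟶ X` (iso of functors).

Route: helper21's site-level `restrSheafHomIso` (on the localised site `Opens(X)/V`, `V = j.opensRange`)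
is transported through the equivalence `Φ : Mod(O_X|_V) ≌ Y.Modules`
(`Scheme.Modules.overEquiv V` followed by restriction along `Y ≅ V`).  The equivalence is compatible
with `- ⊗ F|` (`weakMonoidal`): every module on the over-site is naturally the restriction of a module
on `X` (namely `j_*`), and both restrictions (`ModSite.restr`, `restrictFunctor j`) commute with
tensor products naturally (helper21's `μP_nat`, helper1's `delta`).  Right adjoints are then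
compared by uniqueness (`rightAdjTransport`).

Reusable:
* `sectionIso`, `weakMonoidal`, `rightAdjTransport` (abstract category theory);
* `restrTRIso O U F : tR O F ⋙ restr ≅ restr ⋙ tR (O.over U) (restr F)` (site);
* `pullbackTRIso f F`, `restrictTRIso j F` (schemes);
* `Φ j`, `γ j : restr ⋙ (Φ j).functor ≅ restrictFunctor j`;
* `overTensorIso j F : tR (O|_V) (restr F) ⋙ Φ ≅ Φ ⋙ tR Y (j^*F)`,
  `overSheafHomIso j F : sheafHom (restr F) ⋙ Φ ≅ Φ ⋙ sheafHom (j^*F)`;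
* `restrictSheafHomIso j F`, `pkgRestrHom`.
-/

set_option autoImplicit false
universe v₁ v₂ v₃ u₁ u₂ u₃ u
open CategoryTheory MonoidalCategory Opposite Limits AlgebraicGeometry

namespace Groth.Agent.R2.H67.ExtShRestrHom

section Abstract

variable {𝒳 : Type u₁} {𝒜 : Type u₂} {ℬ : Type u₃} [Category.{v₁} 𝒳] [Category.{v₂} 𝒜]
  [Category.{v₃} ℬ]

/-- `Φ ⋙ S ⋙ r ≅ 𝟭` when `r ⋙ Φ ≅ j` and `S ⋙ j ≅ 𝟭`. -/
noncomputable def sectionIso (r : 𝒳 ⥤ 𝒜) (Φ : 𝒜 ≌ ℬ) (j : 𝒳 ⥤ ℬ) (γ : r ⋙ Φ.functor ≅ j)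
    (S : ℬ ⥤ 𝒳) (ε : S ⋙ j ≅ 𝟭 ℬ) : Φ.functor ⋙ S ⋙ r ≅ 𝟭 𝒜 :=
  (Functor.rightUnitor _).symm ≪≫
    Functor.isoWhiskerLeft (Φ.functor ⋙ S ⋙ r) Φ.unitIso ≪≫
    (show (Φ.functor ⋙ S ⋙ r) ⋙ Φ.functor ⋙ Φ.inverse ≅
        Φ.functor ⋙ S ⋙ (r ⋙ Φ.functor) ⋙ Φ.inverse from Iso.refl _) ≪≫
    Functor.isoWhiskerLeft Φ.functor (Functor.isoWhiskerLeft S (Functor.isoWhiskerRight γ Φ.inverse)) ≪≫
    (show Φ.functor ⋙ S ⋙ j ⋙ Φ.inverse ≅ Φ.functor ⋙ (S ⋙ j) ⋙ Φ.inverse from Iso.refl _) ≪≫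
    Functor.isoWhiskerLeft Φ.functor (Functor.isoWhiskerRight ε Φ.inverse) ≪≫
    (show Φ.functor ⋙ 𝟭 ℬ ⋙ Φ.inverse ≅ Φ.functor ⋙ Φ.inverse from Iso.refl _) ≪≫
    Φ.unitIso.symm

/-- weak monoidality of `Φ` from compatibility of `r` and `j` with the "tensor" functors. -/
noncomputable def weakMonoidal (r : 𝒳 ⥤ 𝒜) (Φ : 𝒜 ≌ ℬ) (j : 𝒳 ⥤ ℬ) (γ : r ⋙ Φ.functor ≅ j)
    (S : ℬ ⥤ 𝒳) (ε : S ⋙ j ≅ 𝟭 ℬ) (T : 𝒳 ⥤ 𝒳) (TA : 𝒜 ⥤ 𝒜) (TB : ℬ ⥤ ℬ)
    (α : T ⋙ r ≅ r ⋙ TA) (β : T ⋙ j ≅ j ⋙ TB) : TA ⋙ Φ.functor ≅ Φ.functor ⋙ TB :=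
  (Functor.leftUnitor _).symm ≪≫
    Functor.isoWhiskerRight (sectionIso r Φ j γ S ε).symm (TA ⋙ Φ.functor) ≪≫
    (show (Φ.functor ⋙ S ⋙ r) ⋙ TA ⋙ Φ.functor ≅ Φ.functor ⋙ S ⋙ (r ⋙ TA) ⋙ Φ.functor from
      Iso.refl _) ≪≫
    Functor.isoWhiskerLeft Φ.functor
      (Functor.isoWhiskerLeft S (Functor.isoWhiskerRight α.symm Φ.functor)) ≪≫
    (show Φ.functor ⋙ S ⋙ (T ⋙ r) ⋙ Φ.functor ≅ Φ.functor ⋙ S ⋙ T ⋙ (r ⋙ Φ.functor) from
      Iso.refl _) ≪≫
    Functor.isoWhiskerLeft Φ.functor (Functor.isoWhiskerLeft S (Functor.isoWhiskerLeft T γ)) ≪≫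
    Functor.isoWhiskerLeft Φ.functor (Functor.isoWhiskerLeft S β) ≪≫
    (show Φ.functor ⋙ S ⋙ j ⋙ TB ≅ Φ.functor ⋙ (S ⋙ j) ⋙ TB from Iso.refl _) ≪≫
    Functor.isoWhiskerLeft Φ.functor (Functor.isoWhiskerRight ε TB) ≪≫
    (show Φ.functor ⋙ 𝟭 ℬ ⋙ TB ≅ Φ.functor ⋙ TB from Iso.refl _)

/-- transport of right adjoints along an equivalence compatible with the left adjoints. -/
noncomputable def rightAdjTransport (Φ : 𝒜 ≌ ℬ) {TA HA : 𝒜 ⥤ 𝒜} {TB HB : ℬ ⥤ ℬ}
    (adjA : TA ⊣ HA) (adjB : TB ⊣ HB) (W : TA ⋙ Φ.functor ≅ Φ.functor ⋙ TB) :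
    HA ⋙ Φ.functor ≅ Φ.functor ⋙ HB :=
  let adj1 : TA ⋙ Φ.functor ⊣ Φ.inverse ⋙ HA := adjA.comp Φ.toAdjunction
  let adj2 : Φ.functor ⋙ TB ⊣ HB ⋙ Φ.inverse := Φ.toAdjunction.comp adjB
  let e : Φ.inverse ⋙ HA ≅ HB ⋙ Φ.inverse := (adj1.ofNatIsoLeft W).rightAdjointUniq adj2
  (Functor.leftUnitor _).symm ≪≫
    Functor.isoWhiskerRight Φ.unitIso (HA ⋙ Φ.functor) ≪≫
    (show (Φ.functor ⋙ Φ.inverse) ⋙ HA ⋙ Φ.functor ≅ Φ.functor ⋙ (Φ.inverse ⋙ HA) ⋙ Φ.functor from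
      Iso.refl _) ≪≫
    Functor.isoWhiskerLeft Φ.functor (Functor.isoWhiskerRight e Φ.functor) ≪≫
    (show Φ.functor ⋙ (HB ⋙ Φ.inverse) ⋙ Φ.functor ≅ Φ.functor ⋙ HB ⋙ (Φ.inverse ⋙ Φ.functor) from
      Iso.refl _) ≪≫
    Functor.isoWhiskerLeft Φ.functor (Functor.isoWhiskerLeft HB Φ.counitIso) ≪≫
    (show Φ.functor ⋙ HB ⋙ 𝟭 ℬ ≅ Φ.functor ⋙ HB from Iso.refl _)

end Abstract

open Groth.Agent.Lib.Helper21.ModTensor Groth.Agent.Lib.Helper21.ModTensor2
  Groth.Agent.Lib.Helper21.ModTensor3 Groth.Agent.Lib.Helper21.ModRestr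
  Groth.Agent.Lib.Helper21.Dual

section Site

variable {C : Type u} [SmallCategory C] {J : GrothendieckTopology C} (O : Sheaf J CommRingCat.{u})
  (U : C)

/-- `(- ⊗ F)|_U ≅ (-)|_U ⊗ F|_U` as functors (site level). -/
noncomputable def restrTRIso (F : ModSite.Mod O) :
    tR O F ⋙ ModSite.restr O U ≅
      ModSite.restr O U ⋙ tR (O.over U) ((ModSite.restr O U).obj F) :=
  NatIso.ofComponents (fun A => restrTensorIso O U A F) (by
    intro A A' f
    have h := μP_nat O U ((fgt O).map f) (𝟙 ((fgt O).obj F))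
    rw [(resP O U).map_id, tensorHom_id, tensorHom_id] at h
    exact h)

end Site

section Scheme

open Groth.Agent.Lib.Helper1.PT

variable {X Y : Scheme.{u}} (j : Y ⟶ X)

/-- `f^*(- ⊗ F) ≅ f^*(-) ⊗ f^*F` as functors (pullback; any morphism of schemes). -/
noncomputable def pullbackTRIso (F : X.Modules) :
    (tR X.sheaf F ⋙ Scheme.Modules.pullback j : X.Modules ⥤ Y.Modules) ≅
      (Scheme.Modules.pullback j ⋙ tR Y.sheaf ((Scheme.Modules.pullback j).obj F) :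
        X.Modules ⥤ Y.Modules) :=
  NatIso.ofComponents (fun A => @asIso _ _ _ _ (delta j A F) (isIso_delta j A F))
    (fun φ => delta_naturality_left j φ F)

variable [IsOpenImmersion j]

/-- `j^*(- ⊗ F) ≅ j^*(-) ⊗ j^*F` as functors (restriction along an open immersion). -/
noncomputable def restrictTRIso (F : X.Modules) :
    (tR X.sheaf F ⋙ Scheme.Modules.restrictFunctor j : X.Modules ⥤ Y.Modules) ≅
      (Scheme.Modules.restrictFunctor j ⋙ tR Y.sheaf ((Scheme.Modules.restrictFunctor j).obj F) :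
        X.Modules ⥤ Y.Modules) :=
  Functor.isoWhiskerLeft (tR X.sheaf F) (Scheme.Modules.restrictFunctorIsoPullback j) ≪≫
    pullbackTRIso j F ≪≫
    Functor.isoWhiskerLeft (Scheme.Modules.pullback j)
      ((ModSite.tensorBi Y.sheaf).flip.mapIso
        ((Scheme.Modules.restrictFunctorIsoPullback j).app F).symm) ≪≫
    Functor.isoWhiskerRight (Scheme.Modules.restrictFunctorIsoPullback j).symm
      (tR Y.sheaf ((Scheme.Modules.restrictFunctor j).obj F))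

/-- the equivalence `Mod(O_X|_V) ≌ Mod(O_Y)`, `V = j.opensRange`. -/
noncomputable def Φ : ModSite.Mod (X.sheaf.over j.opensRange) ≌ Y.Modules :=
  (Scheme.Modules.overEquiv j.opensRange).trans
    (Groth.Agent.R2.H50.ExtZero.restrictEquivOfIso j.isoOpensRange.symm)

/-- up to `Φ`, site-level restriction is `restrictFunctor j`. -/
noncomputable def γ :
    (ModSite.restr X.sheaf j.opensRange ⋙ (Φ j).functor : X.Modules ⥤ Y.Modules) ≅
      Scheme.Modules.restrictFunctor j :=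
  (show (ModSite.restr X.sheaf j.opensRange ⋙ (Φ j).functor : X.Modules ⥤ Y.Modules) ≅
      (ModSite.restr X.sheaf j.opensRange ⋙ (Scheme.Modules.overEquiv j.opensRange).functor) ⋙
        Scheme.Modules.restrictFunctor j.isoOpensRange.hom from Iso.refl _) ≪≫
    Functor.isoWhiskerRight (Scheme.Modules.overFunctorEquiv j.opensRange)
      (Scheme.Modules.restrictFunctor j.isoOpensRange.hom) ≪≫
    (Scheme.Modules.restrictFunctorComp j.isoOpensRange.hom j.opensRange.ι).symm ≪≫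
    Scheme.Modules.restrictFunctorCongr j.isoOpensRange_hom_ι

attribute [local instance] Groth.Agent.Lib.Helper21.ExtShDelta.hasSheafHom

/-- `Φ` is compatible with `- ⊗ F|`. -/
noncomputable def overTensorIso (F : X.Modules) :
    (tR (X.sheaf.over j.opensRange) ((ModSite.restr X.sheaf j.opensRange).obj F) ⋙ (Φ j).functor :
        ModSite.Mod (X.sheaf.over j.opensRange) ⥤ Y.Modules) ≅
      ((Φ j).functor ⋙ tR Y.sheaf ((Scheme.Modules.restrictFunctor j).obj F) :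
        ModSite.Mod (X.sheaf.over j.opensRange) ⥤ Y.Modules) :=
  weakMonoidal (𝒳 := X.Modules) (ModSite.restr X.sheaf j.opensRange) (Φ j)
    (Scheme.Modules.restrictFunctor j) (γ j)
    (Scheme.Modules.pushforward j) (asIso (Scheme.Modules.restrictAdjunction j).counit)
    (tR X.sheaf F) (tR (X.sheaf.over j.opensRange) ((ModSite.restr X.sheaf j.opensRange).obj F))
    (tR Y.sheaf ((Scheme.Modules.restrictFunctor j).obj F))
    (restrTRIso X.sheaf j.opensRange F) (restrictTRIso j F)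

/-- `Φ` is compatible with `ℋom(F|, -)`. -/
noncomputable def overSheafHomIso (F : X.Modules)
    [ModSite.HasSheafHom (O := Y.sheaf) ((Scheme.Modules.restrictFunctor j).obj F)] :
    (ModSite.sheafHom ((ModSite.restr X.sheaf j.opensRange).obj F) ⋙ (Φ j).functor :
        ModSite.Mod (X.sheaf.over j.opensRange) ⥤ Y.Modules) ≅
      ((Φ j).functor ⋙ ModSite.sheafHom (O := Y.sheaf) ((Scheme.Modules.restrictFunctor j).obj F) :
        ModSite.Mod (X.sheaf.over j.opensRange) ⥤ Y.Modules) :=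
  rightAdjTransport (Φ j) (ModSite.sheafHomAdj ((ModSite.restr X.sheaf j.opensRange).obj F))
    (ModSite.sheafHomAdj (O := Y.sheaf) ((Scheme.Modules.restrictFunctor j).obj F))
    (overTensorIso j F)

/-- `ℋom_X(F, -)|_Y ≅ ℋom_Y(F|_Y, (-)|_Y)` for an open immersion `j : Y ⟶ X`. -/
noncomputable def restrictSheafHomIso (F : X.Modules)
    [ModSite.HasSheafHom (O := X.sheaf) F]
    [ModSite.HasSheafHom (O := Y.sheaf) ((Scheme.Modules.restrictFunctor j).obj F)] :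
    (ModSite.sheafHom (O := X.sheaf) F ⋙ Scheme.Modules.restrictFunctor j :
        X.Modules ⥤ Y.Modules) ≅
      (Scheme.Modules.restrictFunctor j ⋙
        ModSite.sheafHom (O := Y.sheaf) ((Scheme.Modules.restrictFunctor j).obj F) :
          X.Modules ⥤ Y.Modules) :=
  Functor.isoWhiskerLeft (ModSite.sheafHom (O := X.sheaf) F) (γ j).symm ≪≫
    (show (ModSite.sheafHom (O := X.sheaf) F ⋙ ModSite.restr X.sheaf j.opensRange ⋙ (Φ j).functor :
        X.Modules ⥤ Y.Modules) ≅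
      ((ModSite.sheafHom (O := X.sheaf) F ⋙ ModSite.restr X.sheaf j.opensRange) ⋙ (Φ j).functor :
        X.Modules ⥤ Y.Modules) from Iso.refl _) ≪≫
    Functor.isoWhiskerRight
      (Groth.Agent.Lib.Helper21.RestrExact.restrSheafHomIso X.sheaf j.opensRange F) (Φ j).functor ≪≫
    (show ((ModSite.restr X.sheaf j.opensRange ⋙
          ModSite.sheafHom ((ModSite.restr X.sheaf j.opensRange).obj F)) ⋙ (Φ j).functor :
        X.Modules ⥤ Y.Modules) ≅
      (ModSite.restr X.sheaf j.opensRange ⋙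
          ModSite.sheafHom ((ModSite.restr X.sheaf j.opensRange).obj F) ⋙ (Φ j).functor :
        X.Modules ⥤ Y.Modules) from Iso.refl _) ≪≫
    Functor.isoWhiskerLeft (ModSite.restr X.sheaf j.opensRange) (overSheafHomIso j F) ≪≫
    (show (ModSite.restr X.sheaf j.opensRange ⋙ (Φ j).functor ⋙
          ModSite.sheafHom (O := Y.sheaf) ((Scheme.Modules.restrictFunctor j).obj F) :
        X.Modules ⥤ Y.Modules) ≅
      ((ModSite.restr X.sheaf j.opensRange ⋙ (Φ j).functor) ⋙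
          ModSite.sheafHom (O := Y.sheaf) ((Scheme.Modules.restrictFunctor j).obj F) :
        X.Modules ⥤ Y.Modules) from Iso.refl _) ≪≫
    Functor.isoWhiskerRight (γ j)
      (ModSite.sheafHom (O := Y.sheaf) ((Scheme.Modules.restrictFunctor j).obj F))

end Scheme

/-- PROJ:ext-sheaf package (A). -/
theorem pkgRestrHom : Groth.Agent.R2.H50.ExtShSpec.PkgRestrHom := by
  intro X Y j _ F _ _
  exact ⟨restrictSheafHomIso j F⟩

end Groth.Agent.R2.H67.ExtShRestrHom
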