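import Mathlib
import Groth.Prelude
import Groth.Agent.R2.H50ExtShSpec
import Groth.Agent.R2.H67ExtShRestrHom
import Groth.Agent.R2.H50LocInj
import Groth.Agent.Lib.Helper21DerPost
import Groth.Agent.Lib.Helper23DerComp

/-!
# helper67: PROJ:ext-sheaf, package (A2) `PkgRestrExt`

`ℰxt^q_X(F, -)|_Y ≅ ℰxt^q_Y(F|_Y, (-)|_Y)` for an open immersion `j : Y ⟶ X` (iso of functors),
from `restrictSheafHomIso` (package A): `j^*` is exact and preserves injectives (helper50's
`LocInj.injective_restrict`), so `R^q(ℋom(F,-)) ⋙ j^* ≅ R^q(ℋom(F,-) ⋙ j^*) ≅ R^q(j^* ⋙ ℋom(j^*F,-))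
≅ j^* ⋙ R^q ℋom(j^*F, -)` (helper21's `postIso`, `natIsoRightDerived`, helper23's `compIso`).
-/

set_option autoImplicit false
universe u
open CategoryTheory CategoryTheory.Limits Opposite AlgebraicGeometry

namespace Groth.Agent.R2.H67.ExtShRestrExt

open Groth.Agent.Lib.Helper21.DerPost Groth.Agent.R2.H67.ExtShRestrHom

variable {X Y : Scheme.{u}} (j : Y ⟶ X) [IsOpenImmersion j]

instance preservesInjectiveObjects_restrictFunctor :
    (Scheme.Modules.restrictFunctor j).PreservesInjectiveObjects :=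
  ⟨fun {Q} _ => Groth.Agent.R2.H50.LocInj.injective_restrict j Q⟩

instance additive_restrictFunctor : (Scheme.Modules.restrictFunctor j).Additive :=
  haveI := preservesBinaryBiproducts_of_preservesBinaryProducts (Scheme.Modules.restrictFunctor j)
  Functor.additive_of_preservesBinaryBiproducts _

instance preservesHomology_restrictFunctor : (Scheme.Modules.restrictFunctor j).PreservesHomology :=
  inferInstance

/-- `ℰxt^q_X(F, -)|_Y ≅ ℰxt^q_Y(F|_Y, (-)|_Y)` for an open immersion `j : Y ⟶ X`. -/
noncomputable def restrictExtShIso (F : X.Modules)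
    [ModSite.HasSheafHom (O := X.sheaf) F]
    [ModSite.HasSheafHom (O := Y.sheaf) ((Scheme.Modules.restrictFunctor j).obj F)]
    [HasInjectiveResolutions (ModSite.Mod X.sheaf)] [HasInjectiveResolutions (ModSite.Mod Y.sheaf)]
    (q : ℕ) :
    (ModSite.extSh (O := X.sheaf) F q ⋙ Scheme.Modules.restrictFunctor j : X.Modules ⥤ Y.Modules) ≅
      (Scheme.Modules.restrictFunctor j ⋙
        ModSite.extSh (O := Y.sheaf) ((Scheme.Modules.restrictFunctor j).obj F) q :
          X.Modules ⥤ Y.Modules) :=
  let rF : ModSite.Mod X.sheaf ⥤ ModSite.Mod Y.sheaf := Scheme.Modules.restrictFunctor j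
  haveI : rF.Additive := additive_restrictFunctor j
  haveI : rF.PreservesHomology := preservesHomology_restrictFunctor j
  haveI : rF.PreservesInjectiveObjects := preservesInjectiveObjects_restrictFunctor j
  let e : ModSite.sheafHom (O := X.sheaf) F ⋙ rF ≅
      rF ⋙ ModSite.sheafHom (O := Y.sheaf) ((Scheme.Modules.restrictFunctor j).obj F) :=
    restrictSheafHomIso j F
  (postIso (ModSite.sheafHom (O := X.sheaf) F) rF q).symm ≪≫
    natIsoRightDerived e q ≪≫
    Groth.Agent.Lib.Helper23DerComp.compIso rF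
      (ModSite.sheafHom (O := Y.sheaf) ((Scheme.Modules.restrictFunctor j).obj F)) q

/-- PROJ:ext-sheaf package (A2). -/
theorem pkgRestrExt : Groth.Agent.R2.H50.ExtShSpec.PkgRestrExt := by
  intro X Y j _ F _ _ _ _ q
  exact ⟨restrictExtShIso j F q⟩

end Groth.Agent.R2.H67.ExtShRestrExt
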