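import Mathlib

/-!
# Frobenius-periodic elements (helper67)

`IsPer p z`: `z ^ (p ^ n) = z` for some `n > 0`.  In a ring of characteristic `p` these elements
form a subring `perSubring`; a ring all of whose elements are periodic is reduced, and it is a field
if it is local.  Every element of the algebraic closure of a finite field is periodic.
Also: a subring of a pushout of commutative rings containing both images is everything.
-/

set_option autoImplicit false
set_option linter.style.haveILetI false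
universe u

namespace Groth.Agent.R2.H67.FrobFix

/-- `z` is periodic for the `p`-power map. -/
def IsPer (p : ℕ) {R : Type*} [Monoid R] (z : R) : Prop := ∃ n : ℕ, 0 < n ∧ z ^ (p ^ n) = z

section monoid
variable {p : ℕ} {R : Type*} [CommMonoid R]

lemma pow_pow_mul_eq {z : R} {n : ℕ} (h : z ^ (p ^ n) = z) (m : ℕ) (hm : 0 < m) :
    z ^ (p ^ (n * m)) = z := by
  induction m with
  | zero => exact absurd hm (lt_irrefl 0)
  | succ m ih =>
    rcases Nat.eq_zero_or_pos m with rfl | hm'
    · simpa using h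
    · rw [Nat.mul_succ, pow_add, pow_mul, ih hm', h]

lemma IsPer.mul {z w : R} (hz : IsPer p z) (hw : IsPer p w) : IsPer p (z * w) := by
  obtain ⟨n, hn, hz⟩ := hz
  obtain ⟨m, hm, hw⟩ := hw
  refine ⟨n * m, Nat.mul_pos hn hm, ?_⟩
  rw [mul_pow, pow_pow_mul_eq hz m hm, mul_comm n m, pow_pow_mul_eq hw n hn]

lemma IsPer.one : IsPer p (1 : R) := ⟨1, Nat.one_pos, one_pow _⟩

lemma IsPer.map {S : Type*} [CommMonoid S] (f : R →* S) {z : R} (hz : IsPer p z) :
    IsPer p (f z) := by
  obtain ⟨n, hn, hz⟩ := hz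
  exact ⟨n, hn, by rw [← map_pow, hz]⟩

lemma IsPer.of_mul_eq_one {z w : R} (hz : IsPer p z) (h : z * w = 1) : IsPer p w := by
  obtain ⟨n, hn, hz⟩ := hz
  refine ⟨n, hn, ?_⟩
  have h1 : z ^ (p ^ n) * w ^ (p ^ n) = 1 := by rw [← mul_pow, h, one_pow]
  rw [hz] at h1
  calc w ^ (p ^ n) = (z * w) * w ^ (p ^ n) := by rw [h, one_mul]
    _ = w * (z * w ^ (p ^ n)) := by rw [mul_comm z w, mul_assoc]
    _ = w := by rw [h1, mul_one]

end monoid

section ring
variable (p : ℕ) [Fact p.Prime] (R : Type*) [CommRing R] [CharP R p]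

/-- the subring of periodic elements. -/
def perSubring : Subring R where
  carrier := {z | IsPer p z}
  mul_mem' := fun hz hw => hz.mul hw
  one_mem' := IsPer.one
  add_mem' := by
    rintro z w ⟨n, hn, hz⟩ ⟨m, hm, hw⟩
    refine ⟨n * m, Nat.mul_pos hn hm, ?_⟩
    rw [add_pow_char_pow, pow_pow_mul_eq hz m hm, mul_comm n m, pow_pow_mul_eq hw n hn]
  zero_mem' := ⟨1, Nat.one_pos, zero_pow (pow_ne_zero _ (Fact.out : p.Prime).ne_zero)⟩
  neg_mem' := by
    intro z hz
    have h1 : IsPer p (-1 : R) := ⟨1, Nat.one_pos, neg_one_pow_char_pow (p := p) (n := 1) R⟩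
    have := h1.mul hz
    simpa using this

variable {p R}

lemma mem_perSubring {z : R} : z ∈ perSubring p R ↔ IsPer p z := Iff.rfl

omit [Fact p.Prime] [CharP R p] in
lemma eq_zero_of_isNilpotent_of_isPer {z : R} (hz : IsPer p z) (hp : 1 < p) (hn : IsNilpotent z) :
    z = 0 := by
  obtain ⟨n, hn0, hzn⟩ := hz
  obtain ⟨m, hm⟩ := hn
  have h1 : ∀ j : ℕ, 0 < j → z ^ (p ^ (n * j)) = z := fun j hj => pow_pow_mul_eq hzn j hj
  have h2 : m ≤ p ^ (n * (m + 1)) := by
    calc m ≤ n * (m + 1) := by nlinarith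
      _ ≤ p ^ (n * (m + 1)) := (Nat.lt_pow_self hp).le
  rw [← h1 (m + 1) (Nat.succ_pos m)]
  exact pow_eq_zero_of_le h2 hm

omit [Fact p.Prime] [CharP R p] in
lemma isReduced_of_forall_isPer (hp : 1 < p) (h : ∀ z : R, IsPer p z) : IsReduced R :=
  ⟨fun z hz => eq_zero_of_isNilpotent_of_isPer (h z) hp hz⟩

omit [Fact p.Prime] [CharP R p] in
/-- in a local ring, a periodic non-unit is zero. -/
lemma eq_zero_of_isPer_of_not_isUnit [IsLocalRing R] {z : R} (hz : IsPer p z) (hp : 1 < p)
    (hu : ¬ IsUnit z) : z = 0 := by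
  obtain ⟨n, hn0, hzn⟩ := hz
  have hpn : 1 < p ^ n := Nat.one_lt_pow hn0.ne' hp
  obtain ⟨e, he⟩ : ∃ e, p ^ n = e + 1 + 1 := ⟨p ^ n - 2, by omega⟩
  have h1 : z * (1 - z ^ (e + 1)) = 0 := by
    rw [mul_sub, mul_one, ← pow_succ', ← he, hzn, sub_self]
  have h2 : IsUnit (1 - z ^ (e + 1)) := by
    have hm : z ^ (e + 1) ∈ IsLocalRing.maximalIdeal R := by
      rw [pow_succ]
      exact Ideal.mul_mem_left _ _ ((IsLocalRing.mem_maximalIdeal z).2 hu)
    have := IsLocalRing.isUnit_one_sub_self_of_mem_nonunits _ hm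
    exact this
  exact (h2.mul_left_eq_zero).1 h1

end ring

section finiteField

/-- every element of an algebraic extension of a finite field of characteristic `p` is periodic. -/
lemma isPer_of_isAlgebraic (p : ℕ) [Fact p.Prime] (k : Type*) [Field k] [Finite k] [CharP k p]
    (K : Type*) [Field K] [Algebra k K] [Algebra.IsAlgebraic k K] (x : K) : IsPer p x := by
  classical
  let L := IntermediateField.adjoin k {x}
  haveI : FiniteDimensional k L :=
    IntermediateField.adjoin.finiteDimensional (Algebra.IsIntegral.isIntegral x)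
  haveI : Finite L := Module.finite_of_finite k
  haveI : Fintype L := Fintype.ofFinite L
  haveI : CharP L p := charP_of_injective_algebraMap (algebraMap k L).injective p
  obtain ⟨n, -, hn⟩ := FiniteField.card L p
  let x' : L := ⟨x, IntermediateField.mem_adjoin_simple_self k x⟩
  have h1 : x' ^ (Fintype.card L) = x' := FiniteField.pow_card x'
  refine ⟨n, n.pos, ?_⟩
  have h2 : ((x' ^ (Fintype.card L) : L) : K) = x := congrArg (fun y : L => (y : K)) h1
  rw [hn] at h2
  exact h2

end finiteField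

section pushout

open CategoryTheory CategoryTheory.Limits

/-- a subring of a pushout containing both images is everything. -/
lemma subring_eq_top_of_isPushout {A B C D : CommRingCat.{u}} {f : A ⟶ B} {g : A ⟶ C}
    {inl : B ⟶ D} {inr : C ⟶ D} (H : IsPushout f g inl inr) (S : Subring D)
    (hl : ∀ b, inl.hom b ∈ S) (hr : ∀ c, inr.hom c ∈ S) : S = ⊤ := by
  let j : CommRingCat.of S ⟶ D := CommRingCat.ofHom S.subtype
  let inl' : B ⟶ CommRingCat.of S := CommRingCat.ofHom (inl.hom.codRestrict S hl)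
  let inr' : C ⟶ CommRingCat.of S := CommRingCat.ofHom (inr.hom.codRestrict S hr)
  have hw : f ≫ inl' = g ≫ inr' := by
    ext a
    exact ConcreteCategory.congr_hom H.w a
  have h1 : inl ≫ (H.desc inl' inr' hw ≫ j) = inl ≫ 𝟙 D := by
    rw [← Category.assoc, H.inl_desc]
    ext b
    rfl
  have h2 : inr ≫ (H.desc inl' inr' hw ≫ j) = inr ≫ 𝟙 D := by
    rw [← Category.assoc, H.inr_desc]
    ext c
    rfl
  have h3 : H.desc inl' inr' hw ≫ j = 𝟙 D := H.hom_ext h1 h2
  rw [eq_top_iff]
  intro d _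
  have := ConcreteCategory.congr_hom h3 d
  rw [ConcreteCategory.comp_apply] at this
  rw [show d = (𝟙 D : D ⟶ D).hom d from rfl, ← this]
  exact ((H.desc inl' inr' hw).hom d).2

end pushout

end Groth.Agent.R2.H67.FrobFix
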