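import Mathlib
import Groth.Agent.R2.H81GenBCSpec
import Groth.Agent.Lib.Helper3FlatCx
import Groth.Agent.Lib.Helper1Tor

/-!
# PROJ:genbc-flat, package PkgA (helper67)

A cochain complex `P` of flat `A`-modules in degrees `≥ 0` such that `P ⊗ M` is acyclic above `d` for every
module `M` and all of whose cohomology modules are flat has flat `opcycles` in every degree:
`pkgA : GenBCSpec.PkgA`.

* `exact_lTensor_of_exact_rTensor`: exactness of `f ⊗ Q, g ⊗ Q` gives exactness of `Q ⊗ f, Q ⊗ g`.
* `flat_opcycles_of_large`: for `j ≥ d`, `P^j → P^{j+1} → P^{j+2} → opcycles (j+2) → 0` is exact and stays exact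
  at `P^{j+1}` after tensoring, so `opcycles (j+2)` is flat (helper1's `flat_of_forall_exact_lTensor`).
* descending induction with helper3's `flat_opcycles_iff_flat_homology`.
-/

set_option autoImplicit false
universe u
open CategoryTheory CategoryTheory.Limits MonoidalCategory

namespace Groth.Agent.R2.H67.GenBCA

open Groth.Agent.Lib.Helper3 TensorProduct

theorem exact_lTensor_of_exact_rTensor {R : Type*} [CommRing R] {X Y Z Q : Type*}
    [AddCommGroup X] [AddCommGroup Y] [AddCommGroup Z] [AddCommGroup Q] [Module R X] [Module R Y]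
    [Module R Z] [Module R Q] (f : X →ₗ[R] Y) (g : Y →ₗ[R] Z)
    (h : Function.Exact (f.rTensor Q) (g.rTensor Q)) :
    Function.Exact (f.lTensor Q) (g.lTensor Q) := by
  refine (Function.Exact.iff_of_ladder_linearEquiv (e₁ := TensorProduct.comm R X Q)
    (e₂ := TensorProduct.comm R Y Q) (e₃ := TensorProduct.comm R Z Q) ?_ ?_).2 h
  · ext x q
    simp
  · ext y q
    simp

variable {A : Type u} [CommRing A] (P : CochainComplex (ModuleCat.{u} A) ℕ)

/-- exactness of `P ⊗ M` at `j + 1` in terms of linear maps -/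
theorem exact_rTensor_of_isZero (M : ModuleCat.{u} A) (j : ℕ)
    (h : IsZero (CohIII.T P (j + 1) M)) :
    Function.Exact ((P.d j (j + 1)).hom.rTensor M) ((P.d (j + 1) (j + 2)).hom.rTensor M) := by
  have h1 : (CohIII.tensorObj P M).ExactAt (j + 1) :=
    (HomologicalComplex.exactAt_iff_isZero_homology _ _).2 h
  have h2 := (HomologicalComplex.exactAt_iff' (CohIII.tensorObj P M) j (j + 1) (j + 2)
    (by simp) (by simp)).1 h1
  exact (ShortComplex.ShortExact.moduleCat_exact_iff_function_exact _).mp h2

theorem exact_of_isZero (j : ℕ) (h : IsZero (CohIII.T P (j + 1) (ModuleCat.of A A))) :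
    Function.Exact (P.d j (j + 1)).hom (P.d (j + 1) (j + 2)).hom := by
  have h0 : IsZero (P.homology (j + 1)) := h.of_iso (TUnitIso P (j + 1)).symm
  have h1 : P.ExactAt (j + 1) := (HomologicalComplex.exactAt_iff_isZero_homology _ _).2 h0
  have h2 := (HomologicalComplex.exactAt_iff' P j (j + 1) (j + 2) (by simp) (by simp)).1 h1
  exact (ShortComplex.ShortExact.moduleCat_exact_iff_function_exact _).mp h2

theorem exact_d_pOpcycles (j : ℕ) :
    Function.Exact (P.d (j + 1) (j + 2)).hom (P.pOpcycles (j + 2)).hom := by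
  have hex : (ShortComplex.mk (P.d (j + 1) (j + 2)) (P.pOpcycles (j + 2))
      (P.d_pOpcycles (j + 1) (j + 2))).Exact :=
    ShortComplex.exact_of_g_is_cokernel _ (P.opcyclesIsCokernel (j + 1) (j + 2) (by simp))
  exact (ShortComplex.ShortExact.moduleCat_exact_iff_function_exact _).mp hex

theorem flat_opcycles_of_large (hP : ∀ i, Module.Flat A (P.X i)) (d : ℕ)
    (hvan : ∀ (M : ModuleCat.{u} A) (i : ℕ), d < i → IsZero (CohIII.T P i M)) (j : ℕ) (hj : d ≤ j) :
    Module.Flat A (P.opcycles (j + 2)) := by
  haveI := hP (j + 2)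
  refine Groth.Agent.Lib.Helper1.Tor.flat_of_forall_exact_lTensor (P.d j (j + 1)).hom
    (P.d (j + 1) (j + 2)).hom (P.pOpcycles (j + 2)).hom
    ((ModuleCat.epi_iff_surjective _).mp inferInstance) (exact_d_pOpcycles P j)
    (exact_of_isZero P j (hvan _ _ (by omega))) (fun I => ?_)
  exact exact_lTensor_of_exact_rTensor _ _
    (exact_rTensor_of_isZero P (ModuleCat.of A (A ⧸ I)) j (hvan _ _ (by omega)))

/-- **PkgA**. -/
theorem pkgA : Groth.Agent.R2.H81.GenBCSpec.PkgA.{u} := by
  intro A _ P hP d hvan hH i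
  have step : ∀ i, Module.Flat A (P.opcycles (i + 1)) → Module.Flat A (P.opcycles i) := by
    intro i h
    haveI := hP (i + 1)
    haveI := h
    haveI := hH i
    exact (flat_opcycles_iff_flat_homology P i (i + 1) (by simp)).2 inferInstance
  have key : ∀ k i : ℕ, d + 2 ≤ i + k → Module.Flat A (P.opcycles i) := by
    intro k
    induction k with
    | zero =>
      intro i hi
      obtain ⟨j, rfl⟩ : ∃ j, i = j + 2 := ⟨i - 2, by omega⟩
      exact flat_opcycles_of_large P hP d hvan j (by omega)
    | succ k ih =>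
      intro i hi
      exact step i (ih (i + 1) (by omega))
  exact key (d + 2) i (by omega)

end Groth.Agent.R2.H67.GenBCA
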