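import Mathlib
import Groth.Agent.R2.H81GenBCSpec
import Groth.Agent.Lib.Helper16ExtCompare

/-!
# PROJ:genbc-flat, package PkgC (helper67)

The pullback of cohomology classes along an isomorphism of schemes is bijective: `pkgC : GenBCSpec.PkgC`.

* `pushCompIso`, `pushEquiv`: the direct image of abelian sheaves along a homeomorphism is an equivalence, hence
  so is the inverse image `CohPull.inv f` (`isEquivalence_inv`); it preserves injectives (`injective_inv_obj`).
* `bijective_pullAb`: `CohPull.pullAb f M p` is bijective for a homeomorphism `f` (degree `0` by the prelude's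
  `equiv₀_pullAb` and the unit being an isomorphism; higher degrees by helper16's `cmp_bijective`).
* `pullbackEquiv`, `isIso_theta`: for an isomorphism `g` of schemes `g^*` is an equivalence and `CohPull.theta g M`
  is an isomorphism.
-/

set_option autoImplicit false
set_option linter.style.haveILetI false
universe u
open CategoryTheory CategoryTheory.Limits AlgebraicGeometry TopologicalSpace Opposite Abelian

namespace Groth.Agent.R2.H67.GenBCC

noncomputable section

section Top

variable {X Y : TopCat.{u}}

/-- `f_* ⋙ f'_* ≅ 𝟭` when `f ≫ f' = 𝟙` -/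
def pushCompIso (f : X ⟶ Y) (f' : Y ⟶ X) (h : f ≫ f' = 𝟙 X) :
    CohTop.push f ⋙ CohTop.push f' ≅ 𝟭 (CohTop.Ab X) :=
  Functor.fullyFaithfulCancelRight (sheafToPresheaf _ _) (eqToIso (by
    change sheafToPresheaf _ _ ⋙ TopCat.Presheaf.pushforward _ (f ≫ f') = _
    rw [h]
    rfl))

variable (f : X ⟶ Y) [IsIso f]

/-- the direct image along a homeomorphism is an equivalence -/
def pushEquiv : CohTop.Ab X ≌ CohTop.Ab Y :=
  CategoryTheory.Equivalence.mk (CohTop.push f) (CohTop.push (inv f))
    (pushCompIso f (inv f) (IsIso.hom_inv_id f)).symm (pushCompIso (inv f) f (IsIso.inv_hom_id f))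

instance isEquivalence_push : (CohTop.push f).IsEquivalence :=
  (pushEquiv f).isEquivalence_functor

instance isEquivalence_inv : (CohPull.inv f).IsEquivalence :=
  (CohPull.invPushAdj f).isEquivalence_left_of_isEquivalence_right

instance isIso_unit (M : CohTop.Ab Y) : IsIso ((CohPull.invPushAdj f).unit.app M) := inferInstance

theorem injective_inv_obj (I : CohTop.Ab Y) [Injective I] : Injective ((CohPull.inv f).obj I) := by
  haveI : (CohPull.inv f).inv.PreservesMonomorphisms :=
    Functor.preservesMonomorphisms_of_adjunction (CohPull.inv f).asEquivalence.toAdjunction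
  exact Injective.injective_of_adjoint (CohPull.inv f).asEquivalence.symm.toAdjunction I

theorem bijective_pullAb_zero (M : CohTop.Ab Y) : Function.Bijective (CohPull.pullAb f M 0) := by
  have hu : Function.Bijective (((CohPull.invPushAdj f).unit.app M).hom.app (op ⊤)) := by
    haveI : IsIso (((CohPull.invPushAdj f).unit.app M).hom.app (op ⊤)) :=
      inferInstanceAs (IsIso (((sheafSections (Opens.grothendieckTopology Y) AddCommGrpCat.{u}).obj
        (op ⊤)).map ((CohPull.invPushAdj f).unit.app M)))
    exact ConcreteCategory.bijective_of_isIso _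
  have h : (Sheaf.H.equiv₀ ((CohPull.inv f).obj M) isTerminalTop) ∘ (CohPull.pullAb f M 0) =
      (((CohPull.invPushAdj f).unit.app M).hom.app (op ⊤)) ∘ (Sheaf.H.equiv₀ M isTerminalTop) := by
    funext s
    exact CohPull.equiv₀_pullAb f M s
  have h1 : Function.Bijective
      ((Sheaf.H.equiv₀ ((CohPull.inv f).obj M) isTerminalTop) ∘ (CohPull.pullAb f M 0)) := by
    rw [h]
    exact hu.comp (AddEquiv.bijective _)
  exact (Function.Bijective.of_comp_iff' (AddEquiv.bijective _) _).1 h1

theorem bijective_pullAb (M : CohTop.Ab Y) (p : ℕ) : Function.Bijective (CohPull.pullAb f M p) := by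
  refine Groth.Agent.Lib.Helper16.ExtCompare.cmp_bijective (CohPull.inv f) (CohPull.oneTo f)
    (fun F => ?_) (fun I _ n => ?_) p M
  · have h0 := bijective_pullAb_zero f F
    have hmk : ∀ φ : CohTop.const Y (ULift.{u} ℤ) ⟶ F,
        CohPull.pullAb f F 0 (Ext.mk₀ φ) = Ext.mk₀ (CohPull.oneTo f ≫ (CohPull.inv f).map φ) :=
      fun φ => Groth.Agent.Lib.Helper16.ExtCompare.cmp_mk₀ (CohPull.inv f) (CohPull.oneTo f) F φ
    constructor
    · intro φ ψ hφψ
      have : CohPull.pullAb f F 0 (Ext.mk₀ φ) = CohPull.pullAb f F 0 (Ext.mk₀ ψ) := by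
        rw [hmk, hmk]
        exact congrArg Ext.mk₀ hφψ
      exact (Ext.mk₀_bijective _ _).1 (h0.1 this)
    · intro ψ
      obtain ⟨x, hx⟩ := h0.2 (Ext.mk₀ ψ)
      obtain ⟨φ, rfl⟩ := (Ext.mk₀_bijective _ _).2 x
      refine ⟨φ, (Ext.mk₀_bijective _ _).1 ?_⟩
      rw [← hmk]
      exact hx
  · haveI := injective_inv_obj f I
    exact Ext.subsingleton_of_injective _ _ n

end Top

section Sch

open Scheme.Modules

variable {S₁ S₂ : Scheme.{u}} (g : S₁ ⟶ S₂) [IsIso g]

/-- the inverse image of modules along an isomorphism of schemes is an equivalence -/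
def pullbackEquiv : S₂.Modules ≌ S₁.Modules :=
  CategoryTheory.Equivalence.mk (Scheme.Modules.pullback g) (Scheme.Modules.pullback (inv g))
    ((pullbackId S₂).symm ≪≫ (pullbackCongr (IsIso.inv_hom_id g)).symm ≪≫ (pullbackComp (inv g) g).symm)
    (pullbackComp g (inv g) ≪≫ pullbackCongr (IsIso.hom_inv_id g) ≪≫ pullbackId S₁)

instance isEquivalence_pullback : (Scheme.Modules.pullback g).IsEquivalence :=
  (pullbackEquiv g).isEquivalence_functor

instance isIso_unit_pullback (M : S₂.Modules) :
    IsIso ((pullbackPushforwardAdjunction g).unit.app M) := inferInstance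

instance isIso_base : IsIso g.base :=
  inferInstanceAs (IsIso ((Scheme.forgetToTop).map g))

theorem isIso_theta (M : S₂.Modules) : IsIso (CohPull.theta g M) := by
  unfold CohPull.theta
  rw [Adjunction.homEquiv_counit]
  haveI h1 : IsIso ((SheafOfModules.toSheaf S₂.ringCatSheaf).map
      ((pullbackPushforwardAdjunction g).unit.app M)) :=
    ((SheafOfModules.toSheaf S₂.ringCatSheaf).mapIso
      (@asIso _ _ _ _ ((pullbackPushforwardAdjunction g).unit.app M) (isIso_unit_pullback g M))).isIso_hom
  haveI h2 : IsIso ((CohPull.inv g.base).map ((SheafOfModules.toSheaf S₂.ringCatSheaf).map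
      ((pullbackPushforwardAdjunction g).unit.app M))) :=
    ((CohPull.inv g.base).mapIso (@asIso _ _ _ _ ((SheafOfModules.toSheaf S₂.ringCatSheaf).map
      ((pullbackPushforwardAdjunction g).unit.app M)) h1)).isIso_hom
  haveI h3 : IsIso ((CohPull.invPushAdj g.base).counit.app
      (Coh.toAb ((Scheme.Modules.pullback g).obj M))) := inferInstance
  exact @IsIso.comp_isIso _ _ _ _ _ _ _ h2 h3

/-- **PkgC**. -/
theorem pkgC : Groth.Agent.R2.H81.GenBCSpec.PkgC.{u} := by
  intro S₁ S₂ g _ M p
  haveI := isIso_theta g M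
  have h1 : Function.Bijective (Sheaf.H.map (CohPull.theta g M) p) := by
    refine ⟨fun x y hxy => ?_, fun y => ⟨Sheaf.H.map (inv (CohPull.theta g M)) p y, ?_⟩⟩
    · have := congrArg (Sheaf.H.map (inv (CohPull.theta g M)) p) hxy
      rwa [← Sheaf.H.map_comp_apply, ← Sheaf.H.map_comp_apply, IsIso.hom_inv_id,
        Sheaf.H.map_id_apply, Sheaf.H.map_id_apply] at this
    · rw [← Sheaf.H.map_comp_apply, IsIso.inv_hom_id, Sheaf.H.map_id_apply]
  exact h1.comp (bijective_pullAb g.base (Coh.toAb M) p)

end Sch

end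

end Groth.Agent.R2.H67.GenBCC
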