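import Mathlib
import Groth.Agent.R2.H81GenBCSpec

/-!
# PROJ:genbc-flat, package PkgD (helper67)

A locally bijective morphism `φ : P ⟶ N` from a presheaf of abelian groups on a space to a sheaf is bijective on
sections over a quasi-compact open `V`, provided `P` is separated and glues along finite covers with respect
to a family `B` of opens of `V` which is a basis of `V`, contains `V` and is stable under binary intersections:
`pkgD : GenBCSpec.PkgD`.  (Adapted from helper1's `R2/H1SheafifyTop.bijective_toSheafify_top`.)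
-/

set_option autoImplicit false
universe u
open CategoryTheory Opposite TopologicalSpace

namespace Groth.Agent.R2.H67.GenBCD

variable {Y : TopCat.{u}}

/-- restriction maps of a presheaf -/
noncomputable abbrev rs (P : (Opens Y)ᵒᵖ ⥤ AddCommGrpCat.{u}) {V W : Opens Y} (h : W ≤ V) :
    P.obj (op V) →+ P.obj (op W) :=
  (P.map (homOfLE h).op).hom

lemma rs_rs (P : (Opens Y)ᵒᵖ ⥤ AddCommGrpCat.{u}) {V W W' : Opens Y} (h : W ≤ V) (h' : W' ≤ W)
    (x : P.obj (op V)) : rs P h' (rs P h x) = rs P (h'.trans h) x := by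
  change (P.map (homOfLE h).op ≫ P.map (homOfLE h').op).hom x = _
  rw [← P.map_comp]
  rfl

variable {P N : (Opens Y)ᵒᵖ ⥤ AddCommGrpCat.{u}} (φ : P ⟶ N)

/-- the components of `φ` -/
noncomputable abbrev η (V : Opens Y) : P.obj (op V) →+ N.obj (op V) := (φ.app (op V)).hom

lemma η_rs {V W : Opens Y} (h : W ≤ V) (x : P.obj (op V)) :
    η φ W (rs P h x) = rs N h (η φ V x) := by
  have := φ.naturality (homOfLE h).op
  exact congrArg (fun ψ => ψ.hom x) this

/-- local injectivity, on a basis of `V` -/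
lemma locally_zero_of_η_eq_zero [Presheaf.IsLocallyInjective (Opens.grothendieckTopology Y) φ]
    (B : Set (Opens Y)) {U : Opens Y}
    (hB : ∀ U' : Opens Y, U' ≤ U → ∀ y ∈ U', ∃ W ∈ B, y ∈ W ∧ W ≤ U')
    (x : P.obj (op U)) (hx : η φ U x = 0) :
    ∀ y ∈ U, ∃ W ∈ B, ∃ h : W ≤ U, y ∈ W ∧ rs P h x = 0 := by
  intro y hy
  have hmem := Presheaf.equalizerSieve_mem (Opens.grothendieckTopology Y) φ (X := op U) x 0 (by
    change η φ U x = η φ U 0
    rw [hx, map_zero])
  obtain ⟨U', f, hf, hyU⟩ := hmem y hy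
  obtain ⟨W, hW, hyW, hWU⟩ := hB U' f.le y hyU
  refine ⟨W, hW, hWU.trans f.le, hyW, ?_⟩
  have h1 : rs P f.le x = rs P f.le 0 := hf
  rw [map_zero] at h1
  rw [← rs_rs P f.le hWU, h1, map_zero]

/-- local surjectivity, on a basis of `V` -/
lemma locally_image [Presheaf.IsLocallySurjective (Opens.grothendieckTopology Y) φ]
    (B : Set (Opens Y)) {U : Opens Y}
    (hB : ∀ U' : Opens Y, U' ≤ U → ∀ y ∈ U', ∃ W ∈ B, y ∈ W ∧ W ≤ U')
    (s : N.obj (op U)) :
    ∀ y ∈ U, ∃ W ∈ B, ∃ h : W ≤ U, y ∈ W ∧ ∃ t : P.obj (op W), η φ W t = rs N h s := by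
  intro y hy
  have hmem := Presheaf.imageSieve_mem (Opens.grothendieckTopology Y) φ (U := op U) s
  obtain ⟨U', f, ⟨t, ht⟩, hyU⟩ := hmem y hy
  obtain ⟨W, hW, hyW, hWU⟩ := hB U' f.le y hyU
  refine ⟨W, hW, hWU.trans f.le, hyW, rs P hWU t, ?_⟩
  have ht' : η φ U' t = rs N f.le s := ht
  rw [η_rs, ht', rs_rs]

/-- a sheaf is separated -/
lemma sheaf_ext (hN : Presheaf.IsSheaf (Opens.grothendieckTopology Y) N) {ι : Type u}
    (W : ι → Opens Y) (V : Opens Y) (hle : ∀ k, W k ≤ V) (hV : (⨆ k, W k) = V)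
    (s t : N.obj (op V)) (h : ∀ k, rs N (hle k) s = rs N (hle k) t) : s = t := by
  let F : TopCat.Sheaf AddCommGrpCat.{u} Y := ⟨N, hN⟩
  exact TopCat.Sheaf.eq_of_locally_eq' F W V (fun k => homOfLE (hle k)) (by rw [hV]) s t h

/-- **PkgD**. -/
theorem pkgD : Groth.Agent.R2.H81.GenBCSpec.PkgD.{u} := by
  intro Y P N φ hN _ _ V hVc B hB hVB hinf hBle sep glue
  have hBU : ∀ U ∈ B, ∀ U' : Opens Y, U' ≤ U → ∀ y ∈ U', ∃ W ∈ B, y ∈ W ∧ W ≤ U' :=
    fun U hU U' hU' y hy => hB U' (hU'.trans (hBle U hU)) y hy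
  suffices h : Function.Bijective (η φ V) from h
  constructor
  · rw [injective_iff_map_eq_zero]
    intro x hx
    exact sep V hVB x (locally_zero_of_η_eq_zero φ B (hBU V hVB) x hx)
  · intro s
    have hloc := locally_image φ B (hBU V hVB) s
    choose W hWB hWle hyW tt htt using fun y : V => hloc y.1 y.2
    obtain ⟨T, hT⟩ := hVc.elim_finite_subcover (fun y : V => ((W y : Opens Y) : Set Y))
      (fun y => (W y).isOpen) (fun y hy => Set.mem_iUnion.2 ⟨⟨y, hy⟩, hyW ⟨y, hy⟩⟩)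
    have hcov : (⨆ k : {y // y ∈ T}, W k.1) = V := by
      refine le_antisymm (iSup_le fun k => hWle k.1) ?_
      intro y hy
      obtain ⟨i, hi⟩ := Set.mem_iUnion.1 (hT hy)
      obtain ⟨hiT, hyi⟩ := Set.mem_iUnion.1 hi
      exact Opens.mem_iSup.2 ⟨⟨i, hiT⟩, hyi⟩
    obtain ⟨t, ht⟩ := glue {y // y ∈ T} (fun k => W k.1) (fun k => hWB k.1) hcov (fun k => tt k.1) (by
      intro k l
      have hB' := hinf _ (hWB k.1) _ (hWB l.1)
      rw [← sub_eq_zero]
      have h0 : η φ (W k.1 ⊓ W l.1) (rs P inf_le_left (tt k.1) - rs P inf_le_right (tt l.1)) = 0 := by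
        rw [map_sub, η_rs, η_rs, htt, htt, rs_rs, rs_rs, sub_self]
      exact sep _ hB' _ (locally_zero_of_η_eq_zero φ B (hBU _ hB') _ h0))
    refine ⟨t, sheaf_ext hN (fun k : {y // y ∈ T} => W k.1) V (fun k => hWle k.1) hcov _ _ ?_⟩
    intro k
    have h1 : rs P (hWle k.1) t = tt k.1 := ht k
    rw [← η_rs, h1, htt]

end Groth.Agent.R2.H67.GenBCD
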