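import Groth.Agent.Lib.Helper13ModGlue

/-!
# Modules trivialised by local generators (helper67)

Coordinates with respect to a local generator of an `𝒪_X`-module, the morphism of modules
`L ⟶ L'` determined by a family of functions `u_i` on the members of a cover (on which `L`, `L'`
have generators `s_i`, `s'_i`) compatible with the transition functions, and the comparison
of cocycles under an isomorphism.
-/

set_option autoImplicit false
set_option linter.unusedSectionVars false
set_option linter.style.haveILetI false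
universe u

open CategoryTheory CategoryTheory.Limits AlgebraicGeometry TopologicalSpace Opposite

namespace Groth.Agent.R2.H67.PicCocycle

open Groth.Agent.Lib.Helper6 Groth.Agent.Helper13ModGlue

variable {X : Scheme.{u}}

/-- `s` generates `L` over `Ui`: on every smaller open, `r ↦ r • s|_V` is bijective. -/
def IsGen (L : X.Modules) {Ui : X.Opens} (s : Γ(L, Ui)) : Prop :=
  ∀ (V : X.Opens) (h : V ≤ Ui), Function.Bijective (fun r : Γ(X, V) => r • res L h s)

theorem app_res {L L' : X.Modules} (φ : L ⟶ L') {U V : X.Opens} (h : V ≤ U) (x : Γ(L, U)) :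
    φ.app V (res L h x) = res L' h (φ.app U x) := by
  have := φ.mapPresheaf.naturality (homOfLE h).op
  exact CategoryTheory.congr_fun this x

theorem resf_mul {U V : X.Opens} (h : V ≤ U) (a b : Γ(X, U)) :
    resf h (a * b) = resf h a * resf h b := map_mul _ _ _

theorem resf_one {U V : X.Opens} (h : V ≤ U) : resf h (1 : Γ(X, U)) = 1 := map_one _

section gen
variable {L : X.Modules} {Ui : X.Opens} {s : Γ(L, Ui)} (hs : IsGen L s)

/-- the coordinate of a section with respect to the generator -/
noncomputable def coord {V : X.Opens} (h : V ≤ Ui) (x : Γ(L, V)) : Γ(X, V) :=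
  ((hs V h).2 x).choose

theorem coord_spec {V : X.Opens} (h : V ≤ Ui) (x : Γ(L, V)) :
    coord hs h x • res L h s = x := ((hs V h).2 x).choose_spec

theorem coord_unique {V : X.Opens} (h : V ≤ Ui) (x : Γ(L, V)) (r : Γ(X, V))
    (hr : r • res L h s = x) : coord hs h x = r :=
  (hs V h).1 ((coord_spec hs h x).trans hr.symm)

theorem coord_smul_gen {V : X.Opens} (h : V ≤ Ui) (r : Γ(X, V)) :
    coord hs h (r • res L h s) = r := coord_unique hs h _ r rfl

theorem coord_add {V : X.Opens} (h : V ≤ Ui) (x y : Γ(L, V)) :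
    coord hs h (x + y) = coord hs h x + coord hs h y := by
  apply coord_unique
  rw [add_smul, coord_spec, coord_spec]

theorem coord_smul {V : X.Opens} (h : V ≤ Ui) (a : Γ(X, V)) (x : Γ(L, V)) :
    coord hs h (a • x) = a * coord hs h x := by
  apply coord_unique
  rw [mul_smul, coord_spec]

theorem coord_res {V W : X.Opens} (h : V ≤ Ui) (hW : W ≤ V) (x : Γ(L, V)) :
    coord hs (hW.trans h) (res L hW x) = resf hW (coord hs h x) := by
  apply coord_unique
  rw [← res_res L h hW, ← res_smul, coord_spec]

variable {L' : X.Modules} (s' : Γ(L', Ui)) (c : Γ(X, Ui))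

/-- the local family `x = r • s ↦ (r * c) • s'` -/
noncomputable def locFam : LocFam Ui L L' where
  d W hW :=
    { toFun := fun x => (coord hs hW x * resf hW c) • res L' hW s'
      map_zero' := by
        have : coord hs hW (0 : Γ(L, W)) = 0 := coord_unique hs hW _ _ (zero_smul _ _)
        rw [this, zero_mul, zero_smul]
      map_add' := fun x y => by rw [coord_add, add_mul, add_smul] }
  nat W W' hW hW' τ := by
    change res L' hW' ((coord hs hW τ * resf hW c) • res L' hW s') =
      (coord hs (hW'.trans hW) (res L hW' τ) * resf (hW'.trans hW) c) • res L' (hW'.trans hW) s'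
    rw [res_smul, res_res, coord_res, resf_mul, resf_resf]
  lin W hW a τ := by
    change (coord hs hW (a • τ) * resf hW c) • res L' hW s' =
      a • ((coord hs hW τ * resf hW c) • res L' hW s')
    rw [coord_smul, mul_assoc, mul_smul]

theorem locFam_d {W : X.Opens} (hW : W ≤ Ui) (x : Γ(L, W)) :
    (locFam hs s' c).d W hW x = (coord hs hW x * resf hW c) • res L' hW s' := rfl

end gen

section cover
variable {ι : Type u} (U : ι → X.Opens) (hU : iSup U = ⊤) {L L' : X.Modules}
  {s : ∀ i, Γ(L, U i)} {s' : ∀ i, Γ(L', U i)}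
  (hs : ∀ i, IsGen L (s i)) (hs' : ∀ i, IsGen L' (s' i))
  (η η' : ∀ i j, Γ(X, U i ⊓ U j))
  (hη : ∀ i j, res L (inf_le_left : U i ⊓ U j ≤ U i) (s i) =
    η i j • res L (inf_le_right : U i ⊓ U j ≤ U j) (s j))
  (hη' : ∀ i j, res L' (inf_le_left : U i ⊓ U j ≤ U i) (s' i) =
    η' i j • res L' (inf_le_right : U i ⊓ U j ≤ U j) (s' j))

include hη in
theorem res_gen_eq (i j : ι) {W : X.Opens} (hi : W ≤ U i) (hj : W ≤ U j) :
    res L hi (s i) = resf (le_inf hi hj) (η i j) • res L hj (s j) := by
  have h1 := congrArg (res L (le_inf hi hj)) (hη i j)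
  rwa [res_res, res_smul, res_res] at h1

include hη in
theorem coord_eq (i j : ι) {W : X.Opens} (hi : W ≤ U i) (hj : W ≤ U j) (τ : Γ(L, W)) :
    coord (hs j) hj τ = coord (hs i) hi τ * resf (le_inf hi hj) (η i j) := by
  apply coord_unique
  rw [mul_smul, ← res_gen_eq U η hη i j hi hj, coord_spec]

include hU hη hη' in
/-- functions `c i` on the `U i` compatible with the transition functions define a
morphism `L ⟶ L'`, `r • s i ↦ (r * c i) • s' i`. -/
theorem exists_hom (c : ∀ i, Γ(X, U i))
    (hc : ∀ i j, η' i j * resf (inf_le_left : U i ⊓ U j ≤ U i) (c i) =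
      resf (inf_le_right : U i ⊓ U j ≤ U j) (c j) * η i j) :
    ∃ ψ : L ⟶ L', ∀ (i : ι) (W : X.Opens) (hW : W ≤ U i) (x : Γ(L, W)),
      ψ.app W x = (coord (hs i) hW x * resf hW (c i)) • res L' hW (s' i) := by
  refine exists_hom_of_locFams U hU L L' (fun i => locFam (hs i) (s' i) (c i)) ?_
  intro i j W hi hj τ
  rw [locFam_d, locFam_d, coord_eq U hs η hη i j hi hj τ, res_gen_eq U η' hη' i j hi hj,
    ← mul_smul]
  congr 1
  have h1 := congrArg (resf (le_inf hi hj)) (hc i j)
  rw [resf_mul, resf_mul, resf_resf, resf_resf] at h1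
  rw [mul_assoc, mul_assoc, mul_comm (resf hi (c i)), h1, mul_comm (resf hj (c j))]

include hU hs hs' hη hη' in
/-- units `u i` on the `U i` compatible with the transition functions define an
isomorphism `L ≅ L'`. -/
theorem nonempty_iso (u : ∀ i, (Γ(X, U i))ˣ)
    (hu : ∀ i j, η' i j * resf (inf_le_left : U i ⊓ U j ≤ U i) (u i : Γ(X, U i)) =
      resf (inf_le_right : U i ⊓ U j ≤ U j) (u j : Γ(X, U j)) * η i j) :
    Nonempty (L ≅ L') := by
  obtain ⟨ψ, hψ⟩ := exists_hom U hU hs η η' hη hη' (fun i => (u i : Γ(X, U i))) hu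
  have : IsIso ψ := by
    refine Groth.Agent.Helper13AffBC.isIso_of_bijective_on_basis ψ
      (fun k : (Σ i, {W : X.Opens // W ≤ U i}) => k.2.1) (isBasis_small U hU) fun k => ?_
    obtain ⟨i, W, hW⟩ := k
    change Function.Bijective (ψ.app W)
    have hunit : IsUnit (resf hW (u i : Γ(X, U i))) := (u i).isUnit.map _
    constructor
    · intro x y hxy
      rw [hψ i W hW, hψ i W hW] at hxy
      have h1 := (hs' i W hW).1 hxy
      have h2 : coord (hs i) hW x = coord (hs i) hW y := hunit.mul_left_injective h1
      rw [← coord_spec (hs i) hW x, ← coord_spec (hs i) hW y, h2]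
    · intro y
      obtain ⟨v, hv⟩ := hunit.exists_right_inv
      refine ⟨(coord (hs' i) hW y * v) • res L hW (s i), ?_⟩
      rw [hψ i W hW, coord_smul_gen, mul_assoc, mul_comm v, hv, mul_one, coord_spec]
  exact ⟨asIso ψ⟩

include hs hs' hη hη' in
/-- an isomorphism `L ≅ L'` gives units comparing the transition functions. -/
theorem exists_units_of_iso (φ : L ≅ L') :
    ∃ u : ∀ i, (Γ(X, U i))ˣ, ∀ i j,
      η' i j * resf (inf_le_left : U i ⊓ U j ≤ U i) (u i : Γ(X, U i)) =
        resf (inf_le_right : U i ⊓ U j ≤ U j) (u j : Γ(X, U j)) * η i j := by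
  -- coordinates of the images of the generators
  let a : ∀ i, Γ(X, U i) := fun i => coord (hs' i) le_rfl (φ.hom.app (U i) (s i))
  let b : ∀ i, Γ(X, U i) := fun i => coord (hs i) le_rfl (φ.inv.app (U i) (s' i))
  have ha : ∀ i, φ.hom.app (U i) (s i) = a i • s' i := fun i => by
    have := coord_spec (hs' i) le_rfl (φ.hom.app (U i) (s i))
    rw [res_self] at this
    exact this.symm
  have hb : ∀ i, φ.inv.app (U i) (s' i) = b i • s i := fun i => by
    have := coord_spec (hs i) le_rfl (φ.inv.app (U i) (s' i))
    rw [res_self] at this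
    exact this.symm
  have hab : ∀ i, a i * b i = 1 := fun i => by
    have h1 : φ.inv.app (U i) (φ.hom.app (U i) (s i)) = s i := by
      rw [← ConcreteCategory.comp_apply, ← Scheme.Modules.Hom.comp_app, Iso.hom_inv_id]
      rfl
    rw [ha, Scheme.Modules.Hom.app_smul, hb, ← mul_smul] at h1
    have h2 : (a i * b i) • res L le_rfl (s i) = (1 : Γ(X, U i)) • res L le_rfl (s i) := by
      rw [res_self, one_smul, h1]
    exact (hs i (U i) le_rfl).1 h2
  refine ⟨fun i => Units.mkOfMulEqOne (a i) (b i) (hab i), fun i j => ?_⟩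
  change η' i j * resf inf_le_left (a i) = resf inf_le_right (a j) * η i j
  -- compare the images of `s i` restricted to the intersection
  apply (hs' j (U i ⊓ U j) inf_le_right).1
  change (η' i j * resf inf_le_left (a i)) • res L' inf_le_right (s' j) =
    (resf inf_le_right (a j) * η i j) • res L' inf_le_right (s' j)
  have e1 : res L' (inf_le_left : U i ⊓ U j ≤ U i) (φ.hom.app (U i) (s i)) =
      (η' i j * resf inf_le_left (a i)) • res L' inf_le_right (s' j) := by
    rw [ha, res_smul, hη', ← mul_smul, mul_comm]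
  have e2 : res L' (inf_le_left : U i ⊓ U j ≤ U i) (φ.hom.app (U i) (s i)) =
      (resf inf_le_right (a j) * η i j) • res L' inf_le_right (s' j) := by
    rw [← app_res, hη, Scheme.Modules.Hom.app_smul, app_res, ha, res_smul, ← mul_smul, mul_comm]
  rw [← e1, e2]

end cover

end Groth.Agent.R2.H67.PicCocycle
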