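import Groth.Agent.Lib.Helper23SecTw6
import Groth.Agent.R2.H67PicCocycle

/-!
# Gluing an invertible module from a unit cocycle (helper67)

For an open cover `U i` of a scheme `X` and functions `η i j` on `U i ⊓ U j`, the `𝒪_X`-module
`glued U η` whose sections over `V` are the families `a i ∈ Γ(X, V ⊓ U i)` with
`a j = a i * η i j` on `V ⊓ U i ⊓ U j`. If the `η i j` are units satisfying the cocycle
condition, the sections `gen i = (η i j)_j` over `U i` are generators with transition functions `η`.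
-/

set_option autoImplicit false
set_option linter.unusedSectionVars false
set_option linter.style.haveILetI false
universe u

open CategoryTheory CategoryTheory.Limits AlgebraicGeometry TopologicalSpace Opposite

namespace Groth.Agent.R2.H67.GlueInv

open Groth.Agent.Lib.Helper6 Groth.Agent.Helper13ModGlue Groth.Agent.R2.H67.PicCocycle

variable {X : Scheme.{u}} {ι : Type u} (U : ι → X.Opens)

/-- the ambient product `∏ i, Γ(X, V ⊓ U i)` -/
def PiT (V : X.Opens) : Type u := ∀ i : ι, Γ(X, V ⊓ U i)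

namespace PiT

variable {U} {V : X.Opens}

instance : AddCommGroup (PiT U V) := inferInstanceAs (AddCommGroup (∀ i : ι, Γ(X, V ⊓ U i)))

@[ext] theorem ext {a b : PiT U V} (h : ∀ i, a i = b i) : a = b := funext h

@[simp] theorem add_apply (a b : PiT U V) (i : ι) : (a + b) i = a i + b i := rfl
@[simp] theorem zero_apply (i : ι) : (0 : PiT U V) i = 0 := rfl

noncomputable instance : Module Γ(X, V) (PiT U V) where
  smul r a := fun i => resf (inf_le_left : V ⊓ U i ≤ V) r * a i
  one_smul a := by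
    funext i
    change resf (inf_le_left : V ⊓ U i ≤ V) 1 * a i = a i
    rw [resf_one, one_mul]
  mul_smul r r' a := by
    funext i
    change resf (inf_le_left : V ⊓ U i ≤ V) (r * r') * a i =
      resf (inf_le_left : V ⊓ U i ≤ V) r * (resf (inf_le_left : V ⊓ U i ≤ V) r' * a i)
    rw [resf_mul, mul_assoc]
  smul_zero r := by
    funext i
    change resf (inf_le_left : V ⊓ U i ≤ V) r * (0 : Γ(X, V ⊓ U i)) = 0
    exact mul_zero _
  smul_add r a b := by
    funext i
    change resf (inf_le_left : V ⊓ U i ≤ V) r * (a i + b i) =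
      resf (inf_le_left : V ⊓ U i ≤ V) r * a i + resf (inf_le_left : V ⊓ U i ≤ V) r * b i
    exact mul_add _ _ _
  add_smul r r' a := by
    funext i
    change resf (inf_le_left : V ⊓ U i ≤ V) (r + r') * a i =
      resf (inf_le_left : V ⊓ U i ≤ V) r * a i + resf (inf_le_left : V ⊓ U i ≤ V) r' * a i
    rw [show resf (inf_le_left : V ⊓ U i ≤ V) (r + r') =
      resf (inf_le_left : V ⊓ U i ≤ V) r + resf (inf_le_left : V ⊓ U i ≤ V) r' from map_add _ _ _]
    exact add_mul _ _ _
  zero_smul a := by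
    funext i
    change resf (inf_le_left : V ⊓ U i ≤ V) 0 * a i = 0
    rw [show resf (inf_le_left : V ⊓ U i ≤ V) (0 : Γ(X, V)) = 0 from map_zero _, zero_mul]

theorem smul_apply (r : Γ(X, V)) (a : PiT U V) (i : ι) :
    (r • a) i = resf (inf_le_left : V ⊓ U i ≤ V) r * a i := rfl

/-- restriction -/
noncomputable def rs {V W : X.Opens} (h : W ≤ V) : PiT U V →+ PiT U W where
  toFun a := fun i => resf (inf_le_inf_right (U i) h) (a i)
  map_zero' := by
    funext i
    exact map_zero _
  map_add' a b := by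
    funext i
    exact map_add _ _ _

@[simp] theorem rs_apply {V W : X.Opens} (h : W ≤ V) (a : PiT U V) (i : ι) :
    rs h a i = resf (inf_le_inf_right (U i) h) (a i) := rfl

theorem rs_smul {V W : X.Opens} (h : W ≤ V) (r : Γ(X, V)) (a : PiT U V) :
    rs h (r • a) = resf h r • rs h a := by
  ext i
  rw [rs_apply, smul_apply, smul_apply, rs_apply, resf_mul, resf_resf, resf_resf]

theorem rs_self {V : X.Opens} (h : V ≤ V) (a : PiT U V) : rs h a = a := by
  ext i
  rw [rs_apply, resf_self]

theorem rs_rs {V W W' : X.Opens} (h : W ≤ V) (h' : W' ≤ W) (a : PiT U V) :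
    rs h' (rs h a) = rs (h'.trans h) a := by
  ext i
  rw [rs_apply, rs_apply, rs_apply, resf_resf]

end PiT

variable (η : ∀ i j : ι, Γ(X, U i ⊓ U j))

/-- the glueing condition -/
def Compat (V : X.Opens) (a : PiT U V) : Prop :=
  ∀ i j : ι, resf (inf_le_inf_right (U j) inf_le_left : V ⊓ U i ⊓ U j ≤ V ⊓ U j) (a j) =
    resf (inf_le_left : V ⊓ U i ⊓ U j ≤ V ⊓ U i) (a i) *
      resf (inf_le_inf_right (U j) inf_le_right : V ⊓ U i ⊓ U j ≤ U i ⊓ U j) (η i j)

/-- the submodule of compatible families -/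
noncomputable def GS (V : X.Opens) : Submodule Γ(X, V) (PiT U V) where
  carrier := {a | Compat U η V a}
  add_mem' {a b} ha hb := by
    intro i j
    have h1 := ha i j
    have h2 := hb i j
    rw [PiT.add_apply, PiT.add_apply,
      show ∀ (W W' : X.Opens) (h : W' ≤ W) (x y : Γ(X, W)), resf h (x + y) = resf h x + resf h y
        from fun _ _ _ _ _ => map_add _ _ _,
      show ∀ (W W' : X.Opens) (h : W' ≤ W) (x y : Γ(X, W)), resf h (x + y) = resf h x + resf h y
        from fun _ _ _ _ _ => map_add _ _ _, h1, h2, add_mul]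
  zero_mem' := by
    intro i j
    rw [PiT.zero_apply, PiT.zero_apply,
      show ∀ (W W' : X.Opens) (h : W' ≤ W), resf h (0 : Γ(X, W)) = 0 from fun _ _ _ => map_zero _,
      show ∀ (W W' : X.Opens) (h : W' ≤ W), resf h (0 : Γ(X, W)) = 0 from fun _ _ _ => map_zero _,
      zero_mul]
  smul_mem' r a ha := by
    intro i j
    have h1 := ha i j
    rw [PiT.smul_apply, PiT.smul_apply, resf_mul, resf_mul, resf_resf, resf_resf, h1, mul_assoc]

theorem mem_GS {V : X.Opens} {a : PiT U V} : a ∈ GS U η V ↔ Compat U η V a := Iff.rfl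

theorem rs_mem {V W : X.Opens} (h : W ≤ V) {a : PiT U V} (ha : a ∈ GS U η V) :
    PiT.rs h a ∈ GS U η W := by
  intro i j
  have h1 := congrArg (resf (inf_le_inf_right (U j) (inf_le_inf_right (U i) h) :
    W ⊓ U i ⊓ U j ≤ V ⊓ U i ⊓ U j)) (ha i j)
  rw [resf_mul, resf_resf, resf_resf, resf_resf] at h1
  rw [PiT.rs_apply, PiT.rs_apply, resf_resf, resf_resf]
  exact h1

/-- restriction on compatible families -/
noncomputable def rsG {V W : X.Opens} (h : W ≤ V) : GS U η V →+ GS U η W where
  toFun a := ⟨PiT.rs h a.1, rs_mem U η h a.2⟩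
  map_zero' := Subtype.ext (map_zero _)
  map_add' a b := Subtype.ext (map_add _ _ _)

@[simp] theorem rsG_val {V W : X.Opens} (h : W ≤ V) (a : GS U η V) :
    (rsG U η h a).1 = PiT.rs h a.1 := rfl

theorem rsG_smul {V W : X.Opens} (h : W ≤ V) (r : Γ(X, V)) (a : GS U η V) :
    rsG U η h (r • a) = resf h r • rsG U η h a :=
  Subtype.ext (PiT.rs_smul h r a.1)

noncomputable instance moduleOp (V : (Opens X)ᵒᵖ) :
    Module ((X.presheaf ⋙ forget₂ CommRingCat RingCat).obj V) (GS U η V.unop) :=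
  inferInstanceAs (Module Γ(X, V.unop) (GS U η V.unop))

/-- the presheaf of modules of compatible families -/
noncomputable def pre : PresheafOfModules.{u} (X.presheaf ⋙ forget₂ CommRingCat RingCat) where
  obj V := ModuleCat.of ((X.presheaf ⋙ forget₂ CommRingCat RingCat).obj V) (GS U η V.unop)
  map {V W} f := ModuleCat.ofHom
    (Y := (ModuleCat.restrictScalars ((X.presheaf ⋙ forget₂ CommRingCat RingCat).map f).hom).obj
      (ModuleCat.of ((X.presheaf ⋙ forget₂ CommRingCat RingCat).obj W) (GS U η W.unop)))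
    { toFun := fun a => rsG U η f.unop.le a
      map_add' := fun a b => map_add _ a b
      map_smul' := fun r a => rsG_smul U η f.unop.le r a }
  map_id V := by
    ext a
    exact Subtype.ext (PiT.rs_self _ _)
  map_comp f g := by
    ext a
    exact Subtype.ext (PiT.rs_rs _ _ _).symm

section sheaf

theorem glue_fun {κ : Type u} (W : κ → X.Opens) (V : X.Opens) (hW : ∀ k, W k ≤ V)
    (hcover : V ≤ iSup W) (f : ∀ k, Γ(X, W k))
    (hf : ∀ k l, resf (inf_le_left : W k ⊓ W l ≤ W k) (f k) =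
      resf (inf_le_right : W k ⊓ W l ≤ W l) (f l)) :
    ∃ g : Γ(X, V), ∀ k, resf (hW k) g = f k := by
  obtain ⟨g, hg, -⟩ := X.sheaf.existsUnique_gluing' W V (fun k => homOfLE (hW k)) hcover f hf
  exact ⟨g, hg⟩

theorem eq_of_resf_eq {κ : Type u} (W : κ → X.Opens) (V : X.Opens) (hW : ∀ k, W k ≤ V)
    (hcover : V ≤ iSup W) (g g' : Γ(X, V)) (h : ∀ k, resf (hW k) g = resf (hW k) g') : g = g' :=
  X.sheaf.eq_of_locally_eq' W V (fun k => homOfLE (hW k)) hcover g g' h

theorem inf_le_iSup_inf {κ : Type u} (Vc : κ → X.Opens) (A : X.Opens) :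
    iSup Vc ⊓ A ≤ ⨆ k, Vc k ⊓ A := by
  rintro x ⟨hx1, hx2⟩
  obtain ⟨k, hk⟩ := Opens.mem_iSup.mp hx1
  exact Opens.mem_iSup.mpr ⟨k, hk, hx2⟩

/-- the presheaf of compatible families is a sheaf -/
theorem isSheaf_pre : TopCat.Presheaf.IsSheaf (pre U η).presheaf := by
  rw [TopCat.Presheaf.isSheaf_iff_isSheafUniqueGluing]
  intro κ Vc sf hsf
  -- unpack the data
  let sf' : ∀ k, GS U η (Vc k) := sf
  have hsf' : ∀ k l, rsG U η (inf_le_left : Vc k ⊓ Vc l ≤ Vc k) (sf' k) =
      rsG U η (inf_le_right : Vc k ⊓ Vc l ≤ Vc l) (sf' l) := hsf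
  -- glue componentwise
  have hex : ∀ i : ι, ∃ g : Γ(X, iSup Vc ⊓ U i), ∀ k,
      resf (inf_le_inf_right (U i) (le_iSup Vc k)) g = (sf' k).1 i := by
    intro i
    refine glue_fun (fun k => Vc k ⊓ U i) (iSup Vc ⊓ U i)
      (fun k => inf_le_inf_right (U i) (le_iSup Vc k)) (inf_le_iSup_inf Vc (U i))
      (fun k => (sf' k).1 i) ?_
    intro k l
    have h1 := congrArg (fun t : GS U η (Vc k ⊓ Vc l) => t.1 i) (hsf' k l)
    simp only [rsG_val, PiT.rs_apply] at h1
    have h2 := congrArg (resf (le_inf (le_inf (inf_le_left.trans inf_le_left)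
      (inf_le_right.trans inf_le_left)) (inf_le_left.trans inf_le_right) :
        (Vc k ⊓ U i) ⊓ (Vc l ⊓ U i) ≤ Vc k ⊓ Vc l ⊓ U i)) h1
    rw [resf_resf, resf_resf] at h2
    exact h2
  choose g hg using hex
  have hgc : Compat U η (iSup Vc) g := by
    intro i j
    refine eq_of_resf_eq (fun k => Vc k ⊓ U i ⊓ U j) (iSup Vc ⊓ U i ⊓ U j)
      (fun k => inf_le_inf_right (U j) (inf_le_inf_right (U i) (le_iSup Vc k))) ?_ _ _ ?_
    · rintro x ⟨⟨hx1, hx2⟩, hx3⟩
      obtain ⟨k, hk⟩ := Opens.mem_iSup.mp hx1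
      exact Opens.mem_iSup.mpr ⟨k, ⟨hk, hx2⟩, hx3⟩
    · intro k
      have h1 := (sf' k).2 i j
      rw [← hg i k, ← hg j k, resf_resf, resf_resf] at h1
      rw [resf_mul, resf_resf, resf_resf, resf_resf]
      exact h1
  have hres : ∀ k, rsG U η (le_iSup Vc k) ⟨g, hgc⟩ = sf' k := by
    intro k
    apply Subtype.ext
    ext i
    exact hg i k
  refine ⟨(⟨g, hgc⟩ : GS U η (iSup Vc)), fun k => hres k, ?_⟩
  intro t ht
  let t' : GS U η (iSup Vc) := t
  have ht' : ∀ k, rsG U η (le_iSup Vc k) t' = sf' k := ht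
  change t' = ⟨g, hgc⟩
  apply Subtype.ext
  ext i
  refine eq_of_resf_eq (fun k => Vc k ⊓ U i) (iSup Vc ⊓ U i)
    (fun k => inf_le_inf_right (U i) (le_iSup Vc k)) (inf_le_iSup_inf Vc (U i)) _ _ ?_
  intro k
  change _ = resf _ (g i)
  rw [hg i k]
  exact congrArg (fun t : GS U η (Vc k) => t.1 i) (ht' k)

end sheaf

/-- the glued module -/
noncomputable def glued : X.Modules where
  val := pre U η
  isSheaf := isSheaf_pre U η

/-- a section of the glued module from a compatible family -/
noncomputable def ofGS {V : X.Opens} (a : GS U η V) : Γ(glued U η, V) := a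

/-- the compatible family of a section of the glued module -/
noncomputable def toGS {V : X.Opens} (x : Γ(glued U η, V)) : GS U η V := x

theorem toGS_injective {V : X.Opens} : Function.Injective (toGS U η (V := V)) := fun _ _ h => h

theorem toGS_res {V W : X.Opens} (h : W ≤ V) (x : Γ(glued U η, V)) :
    toGS U η (res (glued U η) h x) = rsG U η h (toGS U η x) := rfl

theorem toGS_smul {V : X.Opens} (r : Γ(X, V)) (x : Γ(glued U η, V)) :
    toGS U η (r • x) = r • toGS U η x := rfl

theorem toGS_ofGS {V : X.Opens} (a : GS U η V) : toGS U η (ofGS U η a) = a := rfl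

section cocycle

variable (hη : ∀ i j k : ι,
  resf (inf_le_inf_right (U k) inf_le_left : U i ⊓ U j ⊓ U k ≤ U i ⊓ U k) (η i k) =
    resf (inf_le_left : U i ⊓ U j ⊓ U k ≤ U i ⊓ U j) (η i j) *
      resf (inf_le_inf_right (U k) inf_le_right : U i ⊓ U j ⊓ U k ≤ U j ⊓ U k) (η j k))

/-- the generator over `U i` -/
noncomputable def gen (i : ι) : Γ(glued U η, U i) :=
  ofGS U η ⟨fun j => η i j, fun j k => hη i j k⟩

theorem toGS_gen_val (i j : ι) : (toGS U η (gen U η hη i)).1 j = η i j := rfl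

include hη in
theorem eta_self (hu : ∀ i j, IsUnit (η i j)) (i : ι) : η i i = 1 := by
  have h1 := hη i i i
  have h2 : IsUnit (resf (inf_le_left : U i ⊓ U i ⊓ U i ≤ U i ⊓ U i) (η i i)) := (hu i i).map _
  have h3 : resf (inf_le_left : U i ⊓ U i ⊓ U i ≤ U i ⊓ U i) (η i i) = 1 := by
    have h4 : resf (inf_le_left : U i ⊓ U i ⊓ U i ≤ U i ⊓ U i) (η i i) * 1 =
        resf (inf_le_left : U i ⊓ U i ⊓ U i ≤ U i ⊓ U i) (η i i) *
          resf (inf_le_left : U i ⊓ U i ⊓ U i ≤ U i ⊓ U i) (η i i) := by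
      rw [mul_one]; exact h1
    exact (h2.mul_left_cancel h4).symm
  have h5 := congrArg (resf (le_inf le_rfl inf_le_left : U i ⊓ U i ≤ U i ⊓ U i ⊓ U i)) h3
  rwa [resf_resf, resf_self, resf_one] at h5

include hη in
theorem relation (i j : ι) :
    res (glued U η) (inf_le_left : U i ⊓ U j ≤ U i) (gen U η hη i) =
      η i j • res (glued U η) (inf_le_right : U i ⊓ U j ≤ U j) (gen U η hη j) := by
  apply toGS_injective
  rw [toGS_smul, toGS_res, toGS_res]
  apply Subtype.ext
  ext k
  exact hη i j k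

include hη in
theorem isGen_gen (hu : ∀ i j, IsUnit (η i j)) (i : ι) :
    IsGen (glued U η) (gen U η hη i) := by
  intro V h
  have hcomp : ∀ (r : Γ(X, V)) (j : ι), (toGS U η (r • res (glued U η) h (gen U η hη i))).1 j =
      resf (inf_le_left : V ⊓ U j ≤ V) r *
        resf (inf_le_inf_right (U j) h : V ⊓ U j ≤ U i ⊓ U j) (η i j) := fun r j => rfl
  constructor
  · intro r r' hrr
    have h1 := congrArg (fun x => (toGS U η x).1 i) hrr
    simp only [hcomp] at h1
    rw [eta_self U η hη hu i, resf_one, mul_one, mul_one] at h1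
    have h2 := congrArg (resf (le_inf le_rfl h : V ≤ V ⊓ U i)) h1
    rwa [resf_resf, resf_resf, resf_self, resf_self] at h2
  · intro x
    refine ⟨resf (le_inf le_rfl h : V ≤ V ⊓ U i) ((toGS U η x).1 i), ?_⟩
    apply toGS_injective
    apply Subtype.ext
    ext j
    rw [hcomp, resf_resf]
    have h1 := (toGS U η x).2 i j
    have h2 := congrArg (resf (le_inf (le_inf inf_le_left (inf_le_left.trans h)) inf_le_right :
      V ⊓ U j ≤ V ⊓ U i ⊓ U j)) h1
    rw [resf_mul, resf_resf, resf_resf, resf_resf, resf_self] at h2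
    exact h2.symm

include hη in
theorem isInvertible_glued (hU : iSup U = ⊤) (hu : ∀ i j, IsUnit (η i j)) :
    PicF.IsInvertible (glued U η) := by
  refine Groth.Agent.Lib.Helper23.SecTw.isInvertible_of_isGen _ fun x => ?_
  have hx : x ∈ iSup U := by rw [hU]; trivial
  obtain ⟨i, hi⟩ := Opens.mem_iSup.mp hx
  exact ⟨U i, gen U η hη i, hi, isGen_gen U η hη hu i⟩

end cocycle

end Groth.Agent.R2.H67.GlueInv
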