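import Mathlib
import Groth.Agent.R2.LeadH399Spec
import Groth.Agent.Lib.Helper2LocFree

/-!
# PROJ:h399 [BW1] (helper67): sections of a finite locally free quasi-coherent module over an affine
open are flat

`bw1 : H399Spec.BW1Stmt` — from helper2's `Lib/Helper2LocFree` (`isFlat_of_isFinLocFree`,
`flat_sections_of_isFlatAt`).
-/

set_option autoImplicit false

universe u

open CategoryTheory CategoryTheory.Limits AlgebraicGeometry TopologicalSpace Opposite

namespace Groth.Agent.R2.H67.H399

/-- [BW1] the sections of a finite locally free quasi-coherent module over an affine open are flat. -/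
theorem bw1 : Groth.Agent.R2.Lead.H399Spec.BW1Stmt.{u} := by
  intro Y M _ h V hV
  exact Groth.Agent.Lib.Helper2.LocFree.flat_sections_of_isFlatAt M hV
    (fun x _ => Groth.Agent.Lib.Helper2.LocFree.isFlat_of_isFinLocFree M h x)

end Groth.Agent.R2.H67.H399
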