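import Mathlib
import Groth.Prelude.Def_KoszTw
import Groth.Agent.R2.LeadH399Spec
import Groth.Agent.S15743
import Groth.Agent.S15744
import Groth.Agent.Lib.Helper23SecTw4
import Groth.Agent.Lib.Helper23SecTw6
import Groth.Agent.Lib.Helper23SecTw7

/-!
# PROJ:h399, package [BW2] (lead)

`X` quasi-compact quasi-separated, `L` invertible with a global section `s`, `G` quasi-coherent and
`φ : A → Γ(X, ⊤)`.  If the global sections of the twists `(G ⊗ L^n) ⊗ L^k` (`n ≥ n₀`) are flat over `A`, then
the sections of `G` over `X_s` are flat over `A`.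

Proof by the equational criterion of flatness: a relation `∑ aᵢ xᵢ = 0` among sections over `X_s` is
extended to global sections of `G ⊗ L^n` (prior S15744), the extended relation is killed by a power of
`s` (prior S15743), trivialised in the flat module of global sections, and brought back to `X_s` where
twisting by powers of `s` is bijective.
-/

set_option autoImplicit false

universe u

open CategoryTheory CategoryTheory.Limits AlgebraicGeometry TopologicalSpace Opposite
open Groth.Agent.Lib.Helper23.SecTw Groth.Agent.Lib.Helper6 Groth.Agent.R2.Lead.H399Spec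
  Groth.Agent.Lib.Helper23.GenLocus

namespace Groth.Agent.R2.Lead.H399BW2

variable {X : Scheme.{u}}

section raise

variable (L : X.Modules) (s : Coh.structureModule X ⟶ L)

/-- multiplication by `s`: `L^n ⟶ L^n ⊗ L = L^(n+1)`. -/
noncomputable def nu (n : ℕ) : CohB1.tensorPow L n ⟶ CohB1.tensorPow L (n + 1) :=
  (SecTwist.unitorR (CohB1.tensorPow L n)).inv ≫ KoszTw.tensorMap (𝟙 (CohB1.tensorPow L n)) s

theorem unitorR_inv_app (F : X.Modules) (U : X.Opens) (y : Γ(F, U)) :
    (SecTwist.unitorR F).inv.app U y = tm F (Coh.structureModule X) U y (toS U 1) := by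
  have h1 : (SecTwist.unitorR F).hom.app U (tm F (Coh.structureModule X) U y (toS U 1)) = y := by
    have := SecTwist.unitorR_tmul F U y (1 : X.ringCatSheaf.obj.obj (op U))
    exact this.trans (one_smul (X.ringCatSheaf.obj.obj (op U)) (show F.val.obj (op U) from y))
  have h2 : (SecTwist.unitorR F).inv.app U ((SecTwist.unitorR F).hom.app U
      (tm F (Coh.structureModule X) U y (toS U 1))) = tm F (Coh.structureModule X) U y (toS U 1) := by
    have := congrArg (fun ψ : CohB1.tensorMod F (Coh.structureModule X) ⟶ _ =>
      ψ.app U (tm F (Coh.structureModule X) U y (toS U 1))) (SecTwist.unitorR F).hom_inv_id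
    exact this
  rw [h1] at h2
  exact h2

theorem nu_app (n : ℕ) (U : X.Opens) (y : Γ(CohB1.tensorPow L n, U)) :
    (nu L s n).app U y = tm (CohB1.tensorPow L n) L U y (sv s U) := by
  unfold nu
  have h := KoszTw.tensorMap_tmul (𝟙 (CohB1.tensorPow L n)) s U y (toS U 1)
  change (KoszTw.tensorMap (𝟙 (CohB1.tensorPow L n)) s).app U
    ((SecTwist.unitorR (CohB1.tensorPow L n)).inv.app U y) = _
  rw [unitorR_inv_app]
  exact h

end raise

end Groth.Agent.R2.Lead.H399BW2
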