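import Mathlib
import Groth.Agent.R2.LeadH399BW2
import Groth.Agent.Lib.Helper23TensorQCoh
import Groth.Agent.Lib.Helper23SecTw3
import Groth.Agent.Lib.Helper23Extend

/-!
# PROJ:h399 [BW2] (helper67)

`X` quasi-compact quasi-separated, `L` invertible with a global section `s`, `G` quasi-coherent,
`φ : A → Γ(X, ⊤)`.  If the global sections of the twists `(G ⊗ L^n) ⊗ L^k` (`n ≥ n₀`) are flat over `A`,
then the sections of `G` over `X_s` are flat over `A`:  `bw2 : H399Spec.BW2Stmt`.

Proof by the equational criterion of flatness (plan of lead, #2764):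

* `isTrivialRelation_of_flat_cover`: the abstract algebra core.
* `mu`, `mu_app_tw`, `exists_extension_ge`: a section `t` of `F` over `X_s` such that `t ⊗ s^n` extends to a
  global section of `F ⊗ L^n` has the same property for all `m ≥ n` (multiply by `s`).
* `exists_common_extension`: finitely many sections over `X_s` extend at one common level `N ≥ n₀`
  (prior S15744).
* `bw2`: the extended relation is killed by a power of `s` (prior S15743), trivialised in the flat module of
  global sections of `(G ⊗ L^N) ⊗ L^k`, and brought back to `X_s`, where twisting by `s` is bijective.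
-/

set_option autoImplicit false
set_option linter.style.haveILetI false

universe u

open CategoryTheory CategoryTheory.Limits AlgebraicGeometry TopologicalSpace Opposite
open Groth.Agent.Lib.Helper23.SecTw Groth.Agent.Lib.Helper6 Groth.Agent.R2.Lead.H399Spec
  Groth.Agent.Lib.Helper23.GenLocus Groth.Agent.R2.Lead.H399BW2

namespace Groth.Agent.R2.H67.H399

/-- abstract core of the equational criterion argument: if the relation `∑ fᵢ xᵢ = 0` in `M` can be
transported (through a bijection `θ : M → Q` and a map `r : P → Q`) to a relation `∑ fᵢ qᵢ = 0` in a flat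
module `P`, then it is trivial. -/
theorem isTrivialRelation_of_flat_cover {A : Type*} [CommRing A] {M P Q : Type*}
    [AddCommGroup M] [Module A M] [AddCommGroup P] [Module A P] [Module.Flat A P]
    [AddCommGroup Q] [Module A Q] (θ : M →ₗ[A] Q) (hθ : Function.Injective θ)
    (hθs : Function.Surjective θ) (r : P →ₗ[A] Q) {l : ℕ} (f : Fin l → A) (x : Fin l → M)
    (q : Fin l → P) (hq : ∀ i, r (q i) = θ (x i)) (hsum : ∑ i, f i • q i = 0) :
    Module.IsTrivialRelation f x := by
  obtain ⟨k, a, y, hy, ha⟩ := Module.Flat.isTrivialRelation_of_sum_smul_eq_zero hsum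
  choose y' hy' using fun j => hθs (r (y j))
  refine ⟨k, a, y', fun i => hθ ?_, ha⟩
  rw [← hq, hy, map_sum, map_sum]
  refine Finset.sum_congr rfl (fun j _ => ?_)
  rw [map_smul, map_smul, hy']

variable {X : Scheme.{u}}

section raise

variable (L : X.Modules) (s : Coh.structureModule X ⟶ L) (F : X.Modules)

/-- multiplication by `s`: `F ⊗ L^n ⟶ F ⊗ L^(n+1)`. -/
noncomputable def mu (n : ℕ) :
    CohB1.tensorMod F (CohB1.tensorPow L n) ⟶ CohB1.tensorMod F (CohB1.tensorPow L (n + 1)) :=
  KoszTw.tensorMap (𝟙 F) (nu L s n)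

theorem mu_app_tw (n : ℕ) (U : X.Opens) (x : Γ(F, U)) :
    (mu L s F n).app U (tw F L U x (sv s U) n) = tw F L U x (sv s U) (n + 1) := by
  have h := KoszTw.tensorMap_tmul (𝟙 F) (nu L s n) U x (pw L U (sv s U) n)
  rw [nu_app] at h
  exact h

/-- raising the level of an extension. -/
theorem exists_extension_ge {W : X.Opens} (t : Γ(F, W)) (n : ℕ)
    (h : ∃ t' : Γ(CohB1.tensorMod F (CohB1.tensorPow L n), ⊤),
      res _ (le_top : W ≤ ⊤) t' = tw F L W t (sv s W) n) (m : ℕ) (hm : n ≤ m) :
    ∃ t' : Γ(CohB1.tensorMod F (CohB1.tensorPow L m), ⊤),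
      res _ (le_top : W ≤ ⊤) t' = tw F L W t (sv s W) m := by
  induction m, hm using Nat.le_induction with
  | base => exact h
  | succ m _ ih =>
    obtain ⟨t', ht'⟩ := ih
    refine ⟨(mu L s F m).app ⊤ t', ?_⟩
    have h1 := Groth.Agent.Lib.Helper23.Extend.app_map (mu L s F m) (homOfLE (le_top : W ≤ ⊤)) t'
    refine h1.symm.trans ?_
    change (mu L s F m).app W (res _ (le_top : W ≤ ⊤) t') = _
    rw [ht', mu_app_tw]

end raise

section lin

variable {A : Type u} [CommRing A] (φ : A →+* Γ(X, ⊤))

/-- restriction is `A`-linear for the module structures `modOf φ`. -/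
noncomputable def resL (M : X.Modules) {U V : X.Opens} (h : V ≤ U) :
    @LinearMap A A _ _ (RingHom.id A) Γ(M, U) Γ(M, V) _ _ (modOf φ M U) (modOf φ M V) :=
  letI := modOf φ M U
  letI := modOf φ M V
  { toFun := res M h
    map_add' := fun a b => map_add _ a b
    map_smul' := fun a m => by
      change res M h (resf (le_top : U ≤ ⊤) (φ a) • m) = resf (le_top : V ≤ ⊤) (φ a) • res M h m
      rw [res_smul, resf_resf] }

/-- twisting by a local section is `A`-linear for the module structures `modOf φ`. -/
noncomputable def twL (F L : X.Modules) (U : X.Opens) (e : Γ(L, U)) (n : ℕ) :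
    @LinearMap A A _ _ (RingHom.id A) Γ(F, U) Γ(CohB1.tensorMod F (CohB1.tensorPow L n), U) _ _
      (modOf φ F U) (modOf φ _ U) :=
  letI := modOf φ F U
  letI := modOf φ (CohB1.tensorMod F (CohB1.tensorPow L n)) U
  { toFun := fun t => tw F L U t e n
    map_add' := fun a b => tm_add_left _ _ _ _ _ _
    map_smul' := fun a m => by
      change tw F L U (resf (le_top : U ≤ ⊤) (φ a) • m) e n =
        resf (le_top : U ≤ ⊤) (φ a) • tw F L U m e n
      exact tm_smul_left _ _ _ _ _ _ }

end lin

theorem bijective_tw (F L : X.Modules) (W : X.Opens) (e : Γ(L, W)) (he : IsGen L W e) (n : ℕ) :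
    Function.Bijective (fun t : Γ(F, W) => tw F L W t e n) := by
  have h := bijective_tm_of_isGen F (CohB1.tensorPow L n) W (pw L W e n) (isGen_pw L W e he n) W
    le_rfl
  simp only [res_self] at h
  exact h

section main

variable [CompactSpace X] [QuasiSeparatedSpace X] (L : X.Modules) (hL : PicF.IsInvertible L)
  (s : Coh.structureModule X ⟶ L) (G : X.Modules) [G.IsQuasicoherent]

include hL in
/-- finitely many sections over `X_s` extend, after twisting, at one common level `N ≥ n₀`. -/
theorem exists_common_extension (n₀ : ℕ) {l : ℕ} (x : Fin l → Γ(G, CohB1.genLocus L s)) :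
    ∃ N : ℕ, n₀ ≤ N ∧ ∀ i, ∃ p : Γ(CohB1.tensorMod G (CohB1.tensorPow L N), ⊤),
      res _ (le_top : CohB1.genLocus L s ≤ ⊤) p =
        tw G L (CohB1.genLocus L s) (x i) (sv s _) N := by
  have h := fun i => Groth.Agent.S15744.main X L hL s G (x i)
  choose n hn t' ht' using h
  refine ⟨max n₀ (Finset.univ.sup n), le_max_left _ _, fun i => ?_⟩
  exact exists_extension_ge L s G (x i) (n i) ⟨t' i, ht' i⟩ _
    ((Finset.le_sup (Finset.mem_univ i)).trans (le_max_right _ _))

end main

/-- [BW2] flatness of the sections over `X_s` from flatness of the global sections of the twists. -/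
theorem bw2 : Groth.Agent.R2.Lead.H399Spec.BW2Stmt.{u} := by
  intro A _ X _ _ φ L hL s G _ n₀ H
  letI iM : Module A Γ(G, CohB1.genLocus L s) := modOf φ G (CohB1.genLocus L s)
  refine Module.Flat.of_forall_isTrivialRelation ?_
  intro l f x hfx
  obtain ⟨N, hN, hp⟩ := exists_common_extension L hL s G n₀ x
  choose p hp using hp
  haveI : (CohB1.tensorPow L N).IsQuasicoherent :=
    isQuasicoherent_of_isInvertible _ (isInvertible_tensorPow hL N)
  haveI : (CohB1.tensorMod G (CohB1.tensorPow L N)).IsQuasicoherent :=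
    Groth.Agent.Lib.Helper23.TensorQCoh.isQuasicoherent_tensorMod _ _
  letI iPN : Module A Γ(CohB1.tensorMod G (CohB1.tensorPow L N), ⊤) := modOf φ _ ⊤
  letI iMN : Module A Γ(CohB1.tensorMod G (CohB1.tensorPow L N), CohB1.genLocus L s) :=
    modOf φ _ _
  -- the extended relation restricts to zero
  have hz : res _ (le_top : CohB1.genLocus L s ≤ ⊤) (∑ i, f i • p i) = 0 := by
    have h1 : res _ (le_top : CohB1.genLocus L s ≤ ⊤) (∑ i, f i • p i) =
        resL φ _ le_top (∑ i, f i • p i) := rfl
    rw [h1, map_sum]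
    have h2 : ∀ i, resL φ _ (le_top : CohB1.genLocus L s ≤ ⊤) (f i • p i) =
        twL φ G L _ (sv s _) N (f i • x i) := by
      intro i
      rw [map_smul, map_smul]
      congr 1
      exact hp i
    rw [Finset.sum_congr rfl (fun i _ => h2 i), ← map_sum, hfx, map_zero]
  obtain ⟨k, -, hk⟩ := Groth.Agent.S15743.main X L hL s _ _ hz
  letI iP : Module A Γ(CohB1.tensorMod (CohB1.tensorMod G (CohB1.tensorPow L N))
    (CohB1.tensorPow L k), ⊤) := modOf φ _ ⊤
  letI iQ : Module A Γ(CohB1.tensorMod (CohB1.tensorMod G (CohB1.tensorPow L N))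
    (CohB1.tensorPow L k), CohB1.genLocus L s) := modOf φ _ _
  haveI : Module.Flat A Γ(CohB1.tensorMod (CohB1.tensorMod G (CohB1.tensorPow L N))
    (CohB1.tensorPow L k), ⊤) := H N k hN
  have hgen := isGen_sv_genLocus L s
  have hb1 := bijective_tw G L _ _ hgen N
  have hb2 := bijective_tw (CohB1.tensorMod G (CohB1.tensorPow L N)) L _ _ hgen k
  refine isTrivialRelation_of_flat_cover
    ((twL φ (CohB1.tensorMod G (CohB1.tensorPow L N)) L _ (sv s _) k).comp
      (twL φ G L _ (sv s _) N))
    (hb2.1.comp hb1.1) (hb2.2.comp hb1.2) (resL φ _ (le_top : CohB1.genLocus L s ≤ ⊤)) f x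
    (fun i => twL φ (CohB1.tensorMod G (CohB1.tensorPow L N)) L ⊤ (sv s ⊤) k (p i)) ?_ ?_
  · intro i
    change res _ (le_top : CohB1.genLocus L s ≤ ⊤)
      (tw (CohB1.tensorMod G (CohB1.tensorPow L N)) L ⊤ (p i) (sv s ⊤) k) =
      tw (CohB1.tensorMod G (CohB1.tensorPow L N)) L _
        (tw G L _ (x i) (sv s _) N) (sv s _) k
    rw [res_tw, res_sv, hp i]
  · have h3 : ∀ i, f i • twL φ (CohB1.tensorMod G (CohB1.tensorPow L N)) L ⊤ (sv s ⊤) k (p i) =
        twL φ (CohB1.tensorMod G (CohB1.tensorPow L N)) L ⊤ (sv s ⊤) k (f i • p i) :=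
      fun i => (map_smul _ _ _).symm
    rw [Finset.sum_congr rfl (fun i _ => h3 i), ← map_sum]
    exact hk

end Groth.Agent.R2.H67.H399
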