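import Mathlib
import Groth.Agent.R2.LeadH399Spec
import Groth.Agent.Lib.Helper2FlatOver

/-!
# PROJ:h399 [BW3] (helper67): flat sections over an affine open give flat stalks over the base

`bw3 : H399Spec.BW3Stmt` — a direct consequence of helper2's
`Groth.Agent.Lib.Helper2.FlatOver.isFlatOverAt_of_flat_sections`.
-/

set_option autoImplicit false

universe u

open CategoryTheory CategoryTheory.Limits AlgebraicGeometry TopologicalSpace Opposite

namespace Groth.Agent.R2.H67.H399

/-- [BW3] flat sections over an affine open give flat stalks over the base. -/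
theorem bw3 : Groth.Agent.R2.Lead.H399Spec.BW3Stmt.{u} := by
  intro X Y f G _ V hV W hW hWV H x hx
  exact Groth.Agent.Lib.Helper2.FlatOver.isFlatOverAt_of_flat_sections f G hW hV hWV H x hx

end Groth.Agent.R2.H67.H399
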