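import Mathlib

/-!
# Homogeneous localizations of normal graded rings are normal (helper67)

* `isIntegrallyClosed_of_injective_of_div` : a subring-like criterion for integrally closedness.
* `HomLoc.isDomain_atPrime`, `HomLoc.isIntegrallyClosed_atPrime` : if the localization `A_𝔭` at a
  homogeneous prime `𝔭` is an integrally closed domain, so is the homogeneous localization `A_(𝔭)`.
-/

set_option autoImplicit false
universe u

namespace Groth.Agent.R2.H67.HomLocNormal

open Polynomial

/-- Let `f : R → R'` be an injective ring homomorphism of domains with `R'` integrally closed, such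
that divisibility `b ∣ a` in `R` can be tested in `R'`. Then `R` is integrally closed. -/
theorem isIntegrallyClosed_of_injective_of_div {R R' : Type*} [CommRing R] [IsDomain R]
    [CommRing R'] [IsDomain R'] [IsIntegrallyClosed R'] (f : R →+* R')
    (hf : Function.Injective f)
    (H : ∀ a b : R, b ≠ 0 → ∀ y : R', y * f b = f a → ∃ y' : R, y' * b = a) :
    IsIntegrallyClosed R := by
  rw [isIntegrallyClosed_iff (FractionRing R)]
  intro x hx
  let K := FractionRing R
  let K' := FractionRing R'
  let g : R →+* K' := (algebraMap R' K').comp f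
  have hg : Function.Injective g := (IsFractionRing.injective R' K').comp hf
  let φ : K →+* K' := IsFractionRing.lift hg
  have hφ : ∀ r : R, φ (algebraMap R K r) = g r := fun r => IsFractionRing.lift_algebraMap hg r
  obtain ⟨a, b, hb, rfl⟩ := IsFractionRing.div_surjective (A := R) x
  have hb0 : b ≠ 0 := nonZeroDivisors.ne_zero hb
  obtain ⟨p, hpm, hp⟩ := hx
  have hint : IsIntegral R' (φ (algebraMap R K a / algebraMap R K b)) := by
    refine ⟨p.map f, hpm.map f, ?_⟩
    rw [Polynomial.eval₂_map]
    have h1 := congrArg φ hp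
    rw [Polynomial.hom_eval₂, map_zero] at h1
    have h2 : φ.comp (algebraMap R K) = (algebraMap R' K').comp f := by
      ext r
      exact hφ r
    rw [h2] at h1
    exact h1
  obtain ⟨y, hy⟩ := (isIntegrallyClosed_iff K').1 inferInstance hint
  rw [map_div₀, hφ, hφ] at hy
  have hgb : g b ≠ 0 := by
    intro h
    exact hb0 (hg (h.trans (map_zero g).symm))
  have h3 : y * f b = f a := by
    apply IsFractionRing.injective R' K'
    rw [map_mul, hy]
    exact div_mul_cancel₀ _ hgb
  obtain ⟨y', hy'⟩ := H a b hb0 y h3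
  refine ⟨y', ?_⟩
  have hb' : algebraMap R K b ≠ 0 := by
    intro h
    exact hb0 (IsFractionRing.injective R K (h.trans (map_zero _).symm))
  rw [eq_div_iff hb', ← map_mul, hy']

section graded

open HomogeneousLocalization DirectSum

variable {A : Type*} [CommRing A] (𝒜 : ℕ → AddSubgroup A) [GradedRing 𝒜]
variable (𝔭 : Ideal A) [𝔭.IsPrime]

theorem isDomain_atPrime [IsDomain (Localization.AtPrime 𝔭)] :
    IsDomain (HomogeneousLocalization.AtPrime 𝒜 𝔭) :=
  Function.Injective.isDomain
    (algebraMap (HomogeneousLocalization.AtPrime 𝒜 𝔭) (Localization.AtPrime 𝔭))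
    (HomogeneousLocalization.val_injective _)

omit [𝔭.IsPrime] in
lemma exists_decompose_notMem {z : A} (hz : z ∉ 𝔭) : ∃ m, (decompose 𝒜 z m : A) ∉ 𝔭 := by
  classical
  by_contra h
  push Not at h
  apply hz
  rw [← DirectSum.sum_support_decompose 𝒜 z]
  exact Ideal.sum_mem _ (fun m _ => h m)

theorem div_test (a b : HomogeneousLocalization.AtPrime 𝒜 𝔭) (y : Localization.AtPrime 𝔭)
    (h : y * b.val = a.val) : ∃ y' : HomogeneousLocalization.AtPrime 𝒜 𝔭, y' * b = a := by
  obtain ⟨⟨d₁, an, ad, had⟩, rfl⟩ := mk_surjective a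
  obtain ⟨⟨d₂, bn, bd, hbd⟩, rfl⟩ := mk_surjective b
  induction y using Localization.induction_on with
  | H y =>
  obtain ⟨c, ⟨t, ht⟩⟩ := y
  rw [val_mk, val_mk, Localization.mk_mul, Localization.mk_eq_mk_iff, Localization.r_iff_exists] at h
  obtain ⟨⟨u, hu⟩, hu'⟩ := h
  dsimp only at hu'
  have hut : u * t ∉ 𝔭 := fun h => (Ideal.IsPrime.mem_or_mem inferInstance h).elim hu ht
  obtain ⟨m, hm⟩ := exists_decompose_notMem 𝒜 𝔭 hut
  have hα : (an : A) * bd ∈ 𝒜 (d₁ + d₂) := SetLike.mul_mem_graded an.2 bd.2
  have hβ : (ad : A) * bn ∈ 𝒜 (d₁ + d₂) := SetLike.mul_mem_graded ad.2 bn.2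
  have heq : (u * c) * ((ad : A) * bn) = (u * t) * ((an : A) * bd) := by
    simp only [Submonoid.coe_mul] at hu'
    linear_combination hu'
  have heq' : (decompose 𝒜 (u * c) m : A) * ((ad : A) * bn) =
      (decompose 𝒜 (u * t) m : A) * ((an : A) * bd) := by
    rw [← coe_decompose_mul_add_of_right_mem 𝒜 hβ, ← coe_decompose_mul_add_of_right_mem 𝒜 hα, heq]
  refine ⟨HomogeneousLocalization.mk ⟨m, decompose 𝒜 (u * c) m, decompose 𝒜 (u * t) m, hm⟩, ?_⟩
  rw [HomogeneousLocalization.ext_iff_val, val_mul, val_mk, val_mk, val_mk, Localization.mk_mul,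
    Localization.mk_eq_mk_iff, Localization.r_iff_exists]
  refine ⟨1, ?_⟩
  simp only [Submonoid.coe_mul, OneMemClass.coe_one, one_mul]
  linear_combination heq'

theorem isIntegrallyClosed_atPrime [IsDomain (Localization.AtPrime 𝔭)]
    [IsIntegrallyClosed (Localization.AtPrime 𝔭)] :
    IsIntegrallyClosed (HomogeneousLocalization.AtPrime 𝒜 𝔭) := by
  have := isDomain_atPrime 𝒜 𝔭
  refine isIntegrallyClosed_of_injective_of_div
    (algebraMap (HomogeneousLocalization.AtPrime 𝒜 𝔭) (Localization.AtPrime 𝔭))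
    (HomogeneousLocalization.val_injective _) ?_
  intro a b _ y hy
  exact div_test 𝒜 𝔭 a b y hy

end graded

end Groth.Agent.R2.H67.HomLocNormal
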