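import Mathlib
import Groth.Agent.Lib.Helper5RLR2

/-!
# Local Jacobian criterion for hypersurfaces in regular rings; `∂/∂X` on `R[X][Y]` (helper67)
-/

set_option autoImplicit false
set_option linter.style.haveILetI false
set_option linter.unusedSimpArgs false
universe u

open Polynomial
open scoped Polynomial.Bivariate

namespace Groth.Agent.R2.H67.HypReg

section Criterion

variable {R : Type u} [CommRing R]

/-- Local Jacobian criterion: `R` regular, `q` a prime of `R/(f)`, `D` a derivation with
`D f ∉ q`.  Then `(R/(f))_q` is a regular local ring. -/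
theorem isRegularLocalRing_localization_of_derivation [IsRegularRing R] (f : R)
    (D : Derivation ℤ R R) (q : Ideal (R ⧸ Ideal.span ({f} : Set R))) [hq : q.IsPrime]
    (hDf : D f ∉ q.comap (Ideal.Quotient.mk (Ideal.span ({f} : Set R)))) :
    IsRegularLocalRing (Localization.AtPrime q) := by
  apply Groth.Agent.Lib.Helper5.isRegularLocalRing_localization_quotient_of
  have hpprime : (q.comap (Ideal.Quotient.mk (Ideal.span ({f} : Set R)))).IsPrime := inferInstance
  have hfp : f ∈ q.comap (Ideal.Quotient.mk (Ideal.span ({f} : Set R))) := by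
    rw [Ideal.mem_comap]
    have : Ideal.Quotient.mk (Ideal.span ({f} : Set R)) f = 0 :=
      Ideal.Quotient.eq_zero_iff_mem.mpr (Ideal.mem_span_singleton_self f)
    rw [this]
    exact q.zero_mem
  rw [Ideal.map_span, Set.image_singleton]
  have hmax := IsLocalization.AtPrime.map_eq_maximalIdeal
    (q.comap (Ideal.Quotient.mk (Ideal.span ({f} : Set R))))
    (Localization.AtPrime (q.comap (Ideal.Quotient.mk (Ideal.span ({f} : Set R)))))
  have hfm : algebraMap R (Localization.AtPrime
      (q.comap (Ideal.Quotient.mk (Ideal.span ({f} : Set R))))) f ∈ IsLocalRing.maximalIdeal _ := by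
    rw [← hmax]
    exact Ideal.mem_map_of_mem _ hfp
  have hloc : IsLocalRing (Localization.AtPrime
      (q.comap (Ideal.Quotient.mk (Ideal.span ({f} : Set R)))) ⧸ Ideal.span {algebraMap R
        (Localization.AtPrime (q.comap (Ideal.Quotient.mk (Ideal.span ({f} : Set R))))) f}) := by
    apply Groth.Agent.Lib.Helper5.isLocalRing_quotient
    intro htop
    rw [Ideal.span_singleton_eq_top] at htop
    exact (IsLocalRing.mem_maximalIdeal _).mp hfm htop
  refine (Groth.Agent.Lib.Helper5.isRegularLocalRing_quotient_span_singleton hfm ?_).1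
  rw [← hmax, ← Ideal.map_pow]
  intro hmem
  rw [IsLocalization.algebraMap_mem_map_algebraMap_iff
    (q.comap (Ideal.Quotient.mk (Ideal.span ({f} : Set R)))).primeCompl] at hmem
  obtain ⟨s, hs, hsf⟩ := hmem
  have h1 := Groth.Agent.Lib.Helper5.derivation_mem_of_mem_sq D _ hsf
  rw [Derivation.leibniz, smul_eq_mul, smul_eq_mul] at h1
  have h2 : f * D s ∈ q.comap (Ideal.Quotient.mk (Ideal.span ({f} : Set R))) :=
    Ideal.mul_mem_right _ _ hfp
  have h3 : s * D f ∈ q.comap (Ideal.Quotient.mk (Ideal.span ({f} : Set R))) :=
    (Ideal.add_mem_iff_left _ h2).mp h1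
  rcases hpprime.mem_or_mem h3 with h4 | h4
  · exact hs h4
  · exact hDf h4

end Criterion

section Deriv

variable (R : Type u) [CommRing R]

/-- `∂/∂Y` on `R[X][Y]` as a `ℤ`-derivation. -/
noncomputable def DY : Derivation ℤ R[X][Y] R[X][Y] :=
  (Polynomial.derivative' (R := R[X])).restrictScalars ℤ

/-- `∂/∂X` on `R[X][Y]` as a `ℤ`-derivation (conjugate `∂/∂Y` by the swap). -/
noncomputable def DX : Derivation ℤ R[X][Y] R[X][Y] :=
  Derivation.mk'
    (((Bivariate.swap (R := R)).toLinearMap.restrictScalars ℤ).comp
      (((Polynomial.derivative (R := R[X])).restrictScalars ℤ).comp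
        ((Bivariate.swap (R := R)).toLinearMap.restrictScalars ℤ)))
    (fun a b => by
      simp only [LinearMap.coe_comp, LinearMap.coe_restrictScalars, AlgEquiv.toLinearMap_apply,
        Function.comp_apply, map_mul, Polynomial.derivative_mul, map_add,
        Bivariate.swap_swap_apply, smul_eq_mul]
      ring)

theorem DY_apply (p : R[X][Y]) : DY R p = Polynomial.derivative p := rfl

theorem DX_apply (p : R[X][Y]) :
    DX R p = Bivariate.swap (Polynomial.derivative (Bivariate.swap p)) := rfl

theorem DY_polynomial (W : WeierstrassCurve.Affine R) : DY R W.polynomial = W.polynomialY := by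
  rw [DY_apply, WeierstrassCurve.Affine.polynomial, WeierstrassCurve.Affine.polynomialY]
  simp only [derivative_sub, derivative_add, derivative_mul, derivative_X_pow, derivative_C,
    derivative_X, Nat.cast_ofNat, zero_mul, zero_add, mul_one, Nat.add_one_sub_one, pow_one]
  simp only [map_ofNat]
  ring

theorem DX_polynomial (W : WeierstrassCurve.Affine R) : DX R W.polynomial = W.polynomialX := by
  rw [DX_apply, WeierstrassCurve.Affine.polynomial, WeierstrassCurve.Affine.polynomialX]
  simp only [map_sub, map_add, map_mul, map_pow, Bivariate.swap_Y, Bivariate.swap_C,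
    Polynomial.map_add, Polynomial.map_mul, Polynomial.map_pow, Polynomial.map_C,
    Polynomial.map_X, derivative_sub, derivative_add, derivative_mul, derivative_X_pow,
    derivative_C, derivative_X, derivative_pow, Bivariate.swap_X, Bivariate.swap_C_C]
  simp only [Nat.cast_ofNat, map_ofNat, Bivariate.swap_C_C, Bivariate.swap_X, Bivariate.swap_Y,
    map_mul, map_add, map_pow, map_sub, map_zero, map_one]
  simp
  ring

end Deriv

section Eval

variable {R S : Type u} [CommRing R] [CommRing S]

/-- Every ring hom out of `R[X][Y]` is "evaluate at the images of `X`, `Y` after mapping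
coefficients". -/
theorem ringHom_eq_evalEval (ψ : R[X][Y] →+* S) (g : R[X][Y]) :
    ψ g = (g.map (mapRingHom (ψ.comp ((C : R[X] →+* R[X][Y]).comp C)))).evalEval
      (ψ (C X)) (ψ Y) := by
  have : ψ = (evalEvalRingHom (ψ (C X)) (ψ Y)).comp
      (mapRingHom (mapRingHom (ψ.comp ((C : R[X] →+* R[X][Y]).comp C)))) := by
    apply Polynomial.ringHom_ext'
    · apply Polynomial.ringHom_ext'
      · ext r
        simp
      · simp
    · simp
  exact congrArg (fun φ : R[X][Y] →+* S => φ g) this

/-- A point of a Weierstrass curve with nonzero discriminant at which both partial derivatives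
vanish does not exist. -/
theorem false_of_singular (W' : WeierstrassCurve.Affine S) (hΔ : W'.Δ ≠ 0) (x y : S)
    (h : W'.polynomial.evalEval x y = 0) (hX : W'.polynomialX.evalEval x y = 0)
    (hY : W'.polynomialY.evalEval x y = 0) : False := by
  have h1 : W'.Equation x y := h
  have h2 := (W'.equation_iff_nonsingular_of_Δ_ne_zero hΔ).mp h1
  rcases h2.2 with h3 | h3
  · exact h3 hX
  · exact h3 hY

/-- On a nodal/cuspidal Weierstrass cubic `y² + a₁xy = x³ + a₂x²` over a domain the only singular
point is the origin. -/
theorem eq_zero_of_singular [IsDomain S] (W' : WeierstrassCurve.Affine S) (h3 : W'.a₃ = 0)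
    (h4 : W'.a₄ = 0) (h6 : W'.a₆ = 0) (x y : S)
    (h : W'.polynomial.evalEval x y = 0) (hX : W'.polynomialX.evalEval x y = 0)
    (hY : W'.polynomialY.evalEval x y = 0) : x = 0 ∧ y = 0 := by
  rw [WeierstrassCurve.Affine.evalEval_polynomial] at h
  rw [WeierstrassCurve.Affine.evalEval_polynomialX] at hX
  rw [WeierstrassCurve.Affine.evalEval_polynomialY] at hY
  rw [h3, h4, h6] at h
  rw [h4] at hX
  rw [h3] at hY
  have hx3 : x ^ 3 = 0 := by linear_combination 2 * h - y * hY - x * hX
  have hx : x = 0 := pow_eq_zero_iff (n := 3) (by norm_num) |>.mp hx3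
  subst hx
  have hy2 : y ^ 2 = 0 := by linear_combination h
  exact ⟨rfl, pow_eq_zero_iff (n := 2) (by norm_num) |>.mp hy2⟩

end Eval

end Groth.Agent.R2.H67.HypReg
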