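import Mathlib

set_option autoImplicit false
open LaurentPolynomial

namespace Groth.Agent.R2.H67.LaurentUnits

variable {R : Type*} [CommRing R] [IsDomain R]

/-- units of a Laurent polynomial ring over a domain are monomials -/
theorem exists_eq_C_mul_T_of_isUnit (u : R[T;T⁻¹]) (hu : IsUnit u) :
    ∃ (r : R) (n : ℤ), IsUnit r ∧ u = C r * T n := by
  obtain ⟨v, hv⟩ := hu.exists_right_inv
  obtain ⟨n, F, hF⟩ := exists_T_pow u
  obtain ⟨m, G, hG⟩ := exists_T_pow v
  have h1 : Polynomial.toLaurent (F * G) = Polynomial.toLaurent (Polynomial.X ^ (n + m)) := by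
    rw [map_mul, hF, hG, Polynomial.toLaurent_X_pow]
    calc u * T n * (v * T m) = (u * v) * (T n * T m) := by ring
      _ = T ((n + m : ℕ) : ℤ) := by rw [hv, one_mul, ← T_add]; push_cast; rfl
  have h2 : F * G = Polynomial.X ^ (n + m) := Polynomial.toLaurent_injective h1
  have hdvd : F ∣ Polynomial.X ^ (n + m) := ⟨G, h2.symm⟩
  obtain ⟨i, -, hi⟩ := (dvd_prime_pow Polynomial.prime_X _).mp hdvd
  obtain ⟨w, hw⟩ := hi.symm
  -- X^i * w = F
  obtain ⟨r, hr, hrw⟩ := Polynomial.isUnit_iff.mp w.isUnit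
  refine ⟨r, (i : ℤ) - n, hr, ?_⟩
  have h3 : u * T n = C r * T i := by
    rw [← hF, ← hw, ← hrw, map_mul, Polynomial.toLaurent_X_pow, Polynomial.toLaurent_C, mul_comm]
  calc u = u * T n * T (-n) := by rw [mul_T_assoc, add_neg_cancel, T_zero, mul_one]
    _ = C r * T i * T (-n) := by rw [h3]
    _ = C r * T (i - n) := by rw [mul_T_assoc, sub_eq_add_neg]

/-- extensionality for ring homs out of Laurent polynomials -/
theorem ringHom_ext' {S : Type*} [CommRing S] {R : Type*} [CommRing R] {f g : R[T;T⁻¹] →+* S}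
    (hC : ∀ a, f (C a) = g (C a)) (hT : f (T 1) = g (T 1)) : f = g := by
  apply IsLocalization.ringHom_ext (Submonoid.powers (Polynomial.X : Polynomial R))
  apply Polynomial.ringHom_ext
  · intro a
    simp only [RingHom.comp_apply, algebraMap_eq_toLaurent, Polynomial.toLaurent_C]
    exact hC a
  · simp only [RingHom.comp_apply, algebraMap_eq_toLaurent, Polynomial.toLaurent_X]
    exact hT

end Groth.Agent.R2.H67.LaurentUnits
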