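import Mathlib

/-!
# Local freeness of cokernels from injectivity on a residue field fibre

Helper library (helper67).  For a ring `A`, a prime `p`, and an exact sequence `N → F → P → 0` of
`A`-modules with `N` finite and `F` finite free, injectivity of `κ(p) ⊗ N → κ(p) ⊗ F` implies that
`P_p` is free over `A_p`.  Also the converse direction statements needed for the exchange property.
-/

set_option autoImplicit false

namespace Groth.Agent.R2.H67.LocFree

open TensorProduct

universe u v

section Transfer

variable {A : Type*} [CommRing A] (R : Type*) [CommRing R] [Algebra A R]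
  (κ : Type*) [CommRing κ] [Algebra A κ] [Algebra R κ] [IsScalarTower A R κ]
  {X Y : Type*} [AddCommGroup X] [Module A X] [AddCommGroup Y] [Module A Y]

/-- Naturality of `cancelBaseChange` with respect to the module variable. -/
lemma cancelBaseChange_lTensor_baseChange (f : X →ₗ[A] Y) (z : κ ⊗[R] (R ⊗[A] X)) :
    AlgebraTensorModule.cancelBaseChange A R κ κ Y (LinearMap.lTensor κ (f.baseChange R) z) =
      LinearMap.lTensor κ f (AlgebraTensorModule.cancelBaseChange A R κ κ X z) := by
  induction z using TensorProduct.induction_on with
  | zero => simp
  | tmul c w =>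
    induction w using TensorProduct.induction_on with
    | zero => simp
    | tmul r x => simp
    | add w₁ w₂ h₁ h₂ => simp only [tmul_add, map_add, h₁, h₂]
  | add z₁ z₂ h₁ h₂ => simp only [map_add, h₁, h₂]

lemma lTensor_baseChange_injective_iff (f : X →ₗ[A] Y) :
    Function.Injective (LinearMap.lTensor κ (f.baseChange R)) ↔
      Function.Injective (LinearMap.lTensor κ f) := by
  have key := cancelBaseChange_lTensor_baseChange R κ f
  constructor
  · intro h a b hab
    have h1 : LinearMap.lTensor κ (f.baseChange R)
        ((AlgebraTensorModule.cancelBaseChange A R κ κ X).symm a) =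
        LinearMap.lTensor κ (f.baseChange R)
          ((AlgebraTensorModule.cancelBaseChange A R κ κ X).symm b) := by
      apply (AlgebraTensorModule.cancelBaseChange A R κ κ Y).injective
      rw [key, key]
      simpa using hab
    simpa using h h1
  · intro h a b hab
    apply (AlgebraTensorModule.cancelBaseChange A R κ κ X).injective
    apply h
    rw [← key, ← key, hab]

end Transfer

section Main

variable {A : Type*} [CommRing A] (p : Ideal A) [p.IsPrime]
  {N F P : Type*} [AddCommGroup N] [Module A N] [AddCommGroup F] [Module A F]
  [AddCommGroup P] [Module A P]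

/-- base change of an exact sequence along the flat map `A → A_p`, with surjectivity. -/
lemma baseChange_exact {f : N →ₗ[A] F} {g : F →ₗ[A] P} (h : Function.Exact f g) :
    Function.Exact (f.baseChange (Localization.AtPrime p)) (g.baseChange (Localization.AtPrime p)) := by
  have := Module.Flat.lTensor_exact (Localization.AtPrime p) h
  exact this

lemma baseChange_surjective {g : F →ₗ[A] P} (hg : Function.Surjective g) :
    Function.Surjective (g.baseChange (Localization.AtPrime p)) :=
  LinearMap.lTensor_surjective _ hg

lemma baseChange_injective {f : N →ₗ[A] F} (hf : Function.Injective f) :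
    Function.Injective (f.baseChange (Localization.AtPrime p)) :=
  Module.Flat.lTensor_preserves_injective_linearMap f hf

/-- the localized module is the base change. -/
noncomputable def locEquiv (X : Type*) [AddCommGroup X] [Module A X] :
    Localization.AtPrime p ⊗[A] X ≃ₗ[Localization.AtPrime p] LocalizedModule p.primeCompl X :=
  (IsLocalizedModule.isBaseChange p.primeCompl (Localization.AtPrime p)
    (LocalizedModule.mkLinearMap p.primeCompl X)).equiv

/-- If `N → F → P → 0` is exact with `N` finite, `F` finite free and `κ(p) ⊗ N → κ(p) ⊗ F`
injective, then `A_p ⊗ P` is free over `A_p`. -/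
theorem free_baseChange_of_lTensor_residueField_injective
    [Module.Finite A N] [Module.Finite A F] [Module.Projective A F]
    (f : N →ₗ[A] F) (g : F →ₗ[A] P) (hg : Function.Surjective g) (h : Function.Exact f g)
    (hf : Function.Injective (LinearMap.lTensor p.ResidueField f)) :
    Module.Free (Localization.AtPrime p) (Localization.AtPrime p ⊗[A] P) := by
  have : Module.Free (Localization.AtPrime p) (Localization.AtPrime p ⊗[A] F) :=
    Module.free_of_flat_of_isLocalRing
  refine Module.free_of_lTensor_residueField_injective
    (f.baseChange (Localization.AtPrime p)) (g.baseChange (Localization.AtPrime p))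
    (baseChange_surjective p hg) (baseChange_exact p h) ?_
  exact (lTensor_baseChange_injective_iff (Localization.AtPrime p) p.ResidueField f).mpr hf

theorem free_localizedModule_of_lTensor_residueField_injective
    [Module.Finite A N] [Module.Finite A F] [Module.Projective A F]
    (f : N →ₗ[A] F) (g : F →ₗ[A] P) (hg : Function.Surjective g) (h : Function.Exact f g)
    (hf : Function.Injective (LinearMap.lTensor p.ResidueField f)) :
    Module.Free (Localization.AtPrime p) (LocalizedModule p.primeCompl P) := by
  have := free_baseChange_of_lTensor_residueField_injective p f g hg h hf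
  exact Module.Free.of_equiv (locEquiv p P)

end Main


section Split

variable {A : Type*} [CommRing A] (p : Ideal A) [p.IsPrime]
  {N F P : Type*} [AddCommGroup N] [Module A N] [AddCommGroup F] [Module A F]
  [AddCommGroup P] [Module A P]

/-- If `0 → N → F → P → 0` is exact and `A_p ⊗ P` is projective over `A_p`, then
`A_p ⊗ N → A_p ⊗ F` has a retraction and `κ(p) ⊗ N → κ(p) ⊗ F` is injective. -/
theorem exists_retraction_baseChange_of_projective
    (f : N →ₗ[A] F) (g : F →ₗ[A] P) (hf : Function.Injective f) (hg : Function.Surjective g)
    (h : Function.Exact f g)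
    [Module.Projective (Localization.AtPrime p) (Localization.AtPrime p ⊗[A] P)] :
    ∃ r : Localization.AtPrime p ⊗[A] F →ₗ[Localization.AtPrime p] Localization.AtPrime p ⊗[A] N,
      r ∘ₗ f.baseChange (Localization.AtPrime p) = LinearMap.id := by
  have hsec : ∃ l, g.baseChange (Localization.AtPrime p) ∘ₗ l = LinearMap.id :=
    Module.projective_lifting_property _ _ (baseChange_surjective p hg)
  exact ((Function.Exact.split_tfae (baseChange_exact p h) (baseChange_injective p hf)
    (baseChange_surjective p hg)).out 0 1).mp hsec

theorem lTensor_residueField_injective_of_projective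
    (f : N →ₗ[A] F) (g : F →ₗ[A] P) (hf : Function.Injective f) (hg : Function.Surjective g)
    (h : Function.Exact f g)
    [Module.Projective (Localization.AtPrime p) (Localization.AtPrime p ⊗[A] P)] :
    Function.Injective (LinearMap.lTensor p.ResidueField f) := by
  obtain ⟨r, hr⟩ := exists_retraction_baseChange_of_projective p f g hf hg h
  rw [← lTensor_baseChange_injective_iff (Localization.AtPrime p) p.ResidueField f]
  have : LinearMap.lTensor p.ResidueField r ∘ₗ
      LinearMap.lTensor p.ResidueField (f.baseChange (Localization.AtPrime p)) = LinearMap.id := by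
    rw [← LinearMap.lTensor_comp, hr, LinearMap.lTensor_id]
  exact Function.HasLeftInverse.injective ⟨_, LinearMap.congr_fun this⟩

/-- In the same situation, if moreover `F` is finite free over `A` and `N` is finite,
then `A_p ⊗ N` is free over `A_p`. -/
theorem free_baseChange_of_projective_quotient
    [Module.Finite A N] [Module.Finite A F] [Module.Projective A F]
    (f : N →ₗ[A] F) (g : F →ₗ[A] P) (hf : Function.Injective f) (hg : Function.Surjective g)
    (h : Function.Exact f g)
    [Module.Projective (Localization.AtPrime p) (Localization.AtPrime p ⊗[A] P)] :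
    Module.Free (Localization.AtPrime p) (Localization.AtPrime p ⊗[A] N) := by
  obtain ⟨r, hr⟩ := exists_retraction_baseChange_of_projective p f g hf hg h
  have : Module.Projective (Localization.AtPrime p) (Localization.AtPrime p ⊗[A] N) :=
    Module.Projective.of_split _ _ hr
  exact Module.free_of_flat_of_isLocalRing

end Split


section Exchange

variable {A : Type*} [CommRing A] {X' X Y : Type*} [AddCommGroup X'] [Module A X']
  [AddCommGroup X] [Module A X] [AddCommGroup Y] [Module A Y]

lemma exact_rangeRestrict_of_exact {e : X' →ₗ[A] X} {f : X →ₗ[A] Y} (h : Function.Exact e f) :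
    Function.Exact e f.rangeRestrict := by
  intro x
  rw [← h x]
  constructor
  · intro hx
    have := congrArg Subtype.val hx
    simpa using this
  · intro hx
    exact Subtype.ext (by simpa using hx)

/-- If `X' → X → Y` is exact then exactness of `κ ⊗ X' → κ ⊗ X → κ ⊗ Y` is equivalent to injectivity
of `κ ⊗ im → κ ⊗ Y`. -/
lemma lTensor_exact_iff_injective (κ : Type*) [AddCommGroup κ] [Module A κ]
    {e : X' →ₗ[A] X} {f : X →ₗ[A] Y} (h : Function.Exact e f) :
    Function.Exact (LinearMap.lTensor κ e) (LinearMap.lTensor κ f) ↔
      Function.Injective (LinearMap.lTensor κ (LinearMap.range f).subtype) := by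
  have hsurj : Function.Surjective f.rangeRestrict := LinearMap.surjective_rangeRestrict f
  have E1 : Function.Exact (LinearMap.lTensor κ e) (LinearMap.lTensor κ f.rangeRestrict) :=
    lTensor_exact κ (exact_rangeRestrict_of_exact h) hsurj
  have S1 : Function.Surjective (LinearMap.lTensor κ f.rangeRestrict) :=
    LinearMap.lTensor_surjective κ hsurj
  have hcomp : ∀ y, LinearMap.lTensor κ f y =
      LinearMap.lTensor κ (LinearMap.range f).subtype (LinearMap.lTensor κ f.rangeRestrict y) := by
    intro y
    rw [← LinearMap.comp_apply, ← LinearMap.lTensor_comp, LinearMap.subtype_comp_codRestrict]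
  constructor
  · intro h'
    rw [injective_iff_map_eq_zero]
    intro w hw
    obtain ⟨y, rfl⟩ := S1 w
    rw [← hcomp] at hw
    exact (E1 y).mpr ((h' y).mp hw)
  · intro h' y
    rw [hcomp, ← E1 y]
    constructor
    · intro hy
      exact h' (by rw [hy, map_zero])
    · intro hy
      rw [hy, map_zero]

/-- transport exactness of `rTensor κ₁` to `lTensor κ₂` along an isomorphism `κ₁ ≃ κ₂`. -/
lemma rTensor_exact_iff_lTensor_exact {κ₁ κ₂ : Type*} [AddCommGroup κ₁] [Module A κ₁]
    [AddCommGroup κ₂] [Module A κ₂] (φ : κ₁ ≃ₗ[A] κ₂) (e : X' →ₗ[A] X) (f : X →ₗ[A] Y) :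
    Function.Exact (LinearMap.rTensor κ₁ e) (LinearMap.rTensor κ₁ f) ↔
      Function.Exact (LinearMap.lTensor κ₂ e) (LinearMap.lTensor κ₂ f) := by
  symm
  refine Function.Exact.iff_of_ladder_linearEquiv
    (e₁ := (TensorProduct.comm A X' κ₁) ≪≫ₗ (TensorProduct.congr φ (LinearEquiv.refl A X')))
    (e₂ := (TensorProduct.comm A X κ₁) ≪≫ₗ (TensorProduct.congr φ (LinearEquiv.refl A X)))
    (e₃ := (TensorProduct.comm A Y κ₁) ≪≫ₗ (TensorProduct.congr φ (LinearEquiv.refl A Y))) ?_ ?_
  · apply TensorProduct.ext'
    intro x c
    simp
  · apply TensorProduct.ext'
    intro x c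
    simp

end Exchange

section Global

variable {A : Type*} [CommRing A] {N F P : Type*} [AddCommGroup N] [Module A N]
  [AddCommGroup F] [Module A F] [AddCommGroup P] [Module A P]

/-- the quotient by a maximal ideal is the residue field, as modules. -/
noncomputable def quotEquivResidueField (m : Ideal A) [m.IsMaximal] :
    (A ⧸ m) ≃ₗ[A] m.ResidueField :=
  LinearEquiv.ofBijective ((Algebra.linearMap (A ⧸ m) m.ResidueField).restrictScalars A)
    m.bijective_algebraMap_quotient_residueField

/-- Let `X' → X → F → P → 0` be exact with `X` finite, `F` finite projective over a Noetherian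
ring. If `X' ⊗ A/m → X ⊗ A/m → F ⊗ A/m` is exact for every maximal ideal `m`, then `P` is
projective. -/
theorem projective_of_forall_maximal_rTensor_exact [IsNoetherianRing A]
    {X' X : Type*} [AddCommGroup X'] [Module A X'] [AddCommGroup X] [Module A X]
    [Module.Finite A X] [Module.Finite A F] [Module.Projective A F]
    (e : X' →ₗ[A] X) (f : X →ₗ[A] F) (g : F →ₗ[A] P) (hef : Function.Exact e f)
    (hfg : Function.Exact f g) (hg : Function.Surjective g)
    (H : ∀ (m : Ideal A) [m.IsMaximal],
      Function.Exact (LinearMap.rTensor (A ⧸ m) e) (LinearMap.rTensor (A ⧸ m) f)) :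
    Module.Projective A P := by
  have : Module.Finite A P := Module.Finite.of_surjective g hg
  have : Module.FinitePresentation A P := Module.finitePresentation_of_finite A P
  apply Module.projective_of_localization_maximal
  intro m hm
  have hinj : Function.Injective (LinearMap.lTensor m.ResidueField (LinearMap.range f).subtype) := by
    rw [← lTensor_exact_iff_injective m.ResidueField hef,
      ← rTensor_exact_iff_lTensor_exact (quotEquivResidueField m)]
    exact H m
  have hex : Function.Exact (LinearMap.range f).subtype g := by
    intro y
    rw [hfg y]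
    simp
  have := free_localizedModule_of_lTensor_residueField_injective m
    (LinearMap.range f).subtype g hg hex hinj
  infer_instance

end Global

end Groth.Agent.R2.H67.LocFree
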