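import Groth.Agent.R2.H67PnCharts
import Groth.Agent.R2.H67PicCocycle
import Groth.Agent.Lib.Helper23GenNear
import Groth.Agent.Lib.Helper27TwistGen2

/-!
# `Pic (P^n_R) = ℤ` for a factorial ring `R` (helper67)

* `exists_gens`: an invertible module `L` on `P^n_R` has generators `s a` over the standard
  charts `D₊(X a)` whose transition functions are `(X a / X b) ^ k` for one integer `k`.
* `nonempty_iso_twist`: hence `L ≅ O(k)`.
-/

set_option autoImplicit false
set_option linter.unusedSectionVars false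
set_option linter.style.haveILetI false
universe u

open CategoryTheory CategoryTheory.Limits AlgebraicGeometry TopologicalSpace Opposite
  HomogeneousLocalization

namespace Groth.Agent.R2.H67.PicPn

open Groth.Agent.Lib.Helper6 Groth.Agent.Lib.Helper23.SecTw Groth.Agent.Lib.Helper20.ParaFLib
  Groth.Agent.Lib.Helper20.UFDPic Groth.Agent.R2.H67.PnCharts Groth.Agent.Helper13Dehom
  Groth.Agent.Lib.Helper27PnChart

section general

variable {X : Scheme.{u}} {L : X.Modules}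

/-- two generators differ by a unit -/
theorem exists_unit_smul_eq {W : X.Opens} {e e' : Γ(L, W)} (he : IsGen L W e)
    (he' : IsGen L W e') : ∃ g : (Γ(X, W))ˣ, e = (g : Γ(X, W)) • e' := by
  obtain ⟨c, hc⟩ := (he' W le_rfl).2 e
  simp only [] at hc
  rw [Groth.Agent.Helper13ModGlue.res_self] at hc
  have hu : IsUnit c := (Groth.Agent.Lib.Helper23.GenNear.isGen_smul_iff he' c).mp (hc ▸ he)
  exact ⟨hu.unit, hc.symm⟩

end general

section main

variable (n : ℕ) (R : Type u) [CommRing R]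

theorem tau_zpow_res (a b : Fin (n + 1)) {V W : (Proj (CohB1.polyGrading n R)).Opens}
    (h : V ≤ W) (ha : W ≤ Uc n R a) (hb : W ≤ Uc n R b) (k : ℤ) :
    resf h ((tau n R a b ha hb ^ k : (Γ(Proj (CohB1.polyGrading n R), W))ˣ) :
      Γ(Proj (CohB1.polyGrading n R), W)) =
    ((tau n R a b (h.trans ha) (h.trans hb) ^ k : (Γ(Proj (CohB1.polyGrading n R), V))ˣ) :
      Γ(Proj (CohB1.polyGrading n R), V)) := by
  rw [← tau_map n R a b h ha hb, ← map_zpow]
  rfl

variable {n R} in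
/-- restrict a transition relation to a smaller open -/
theorem restrict_rel {L : (Proj (CohB1.polyGrading n R)).Modules} {a b : Fin (n + 1)}
    {x : Γ(L, Uc n R a)} {y : Γ(L, Uc n R b)} {k : ℤ}
    (h : res L (inf_le_left : Uc n R a ⊓ Uc n R b ≤ Uc n R a) x =
      ((tau n R a b inf_le_left inf_le_right ^ k :
        (Γ(Proj (CohB1.polyGrading n R), Uc n R a ⊓ Uc n R b))ˣ) :
        Γ(Proj (CohB1.polyGrading n R), Uc n R a ⊓ Uc n R b)) •
        res L (inf_le_right : Uc n R a ⊓ Uc n R b ≤ Uc n R b) y)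
    {W : (Proj (CohB1.polyGrading n R)).Opens} (ha : W ≤ Uc n R a) (hb : W ≤ Uc n R b) :
    res L ha x = ((tau n R a b ha hb ^ k : (Γ(Proj (CohB1.polyGrading n R), W))ˣ) :
      Γ(Proj (CohB1.polyGrading n R), W)) • res L hb y := by
  have h1 := congrArg (res L (le_inf ha hb)) h
  rw [res_res, res_smul, res_res, tau_zpow_res] at h1
  exact h1

variable {n R} in
/-- the transition coefficient between two charts, computed through the chart `0`. -/
theorem res_coef_eq {L : (Proj (CohB1.polyGrading n R)).Modules} {a b : Fin (n + 1)}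
    {e0 : Γ(L, Uc n R 0)} {sa : Γ(L, Uc n R a)} {sb : Γ(L, Uc n R b)}
    (hsb : IsGen L (Uc n R b) sb) {ka kb : ℤ}
    (h0a : res L (inf_le_left : Uc n R 0 ⊓ Uc n R a ≤ Uc n R 0) e0 =
      ((tau n R 0 a inf_le_left inf_le_right ^ ka :
        (Γ(Proj (CohB1.polyGrading n R), Uc n R 0 ⊓ Uc n R a))ˣ) :
        Γ(Proj (CohB1.polyGrading n R), Uc n R 0 ⊓ Uc n R a)) •
        res L (inf_le_right : Uc n R 0 ⊓ Uc n R a ≤ Uc n R a) sa)
    (h0b : res L (inf_le_left : Uc n R 0 ⊓ Uc n R b ≤ Uc n R 0) e0 =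
      ((tau n R 0 b inf_le_left inf_le_right ^ kb :
        (Γ(Proj (CohB1.polyGrading n R), Uc n R 0 ⊓ Uc n R b))ˣ) :
        Γ(Proj (CohB1.polyGrading n R), Uc n R 0 ⊓ Uc n R b)) •
        res L (inf_le_right : Uc n R 0 ⊓ Uc n R b ≤ Uc n R b) sb)
    {g : Γ(Proj (CohB1.polyGrading n R), Uc n R a ⊓ Uc n R b)}
    (hg : res L (inf_le_left : Uc n R a ⊓ Uc n R b ≤ Uc n R a) sa =
      g • res L (inf_le_right : Uc n R a ⊓ Uc n R b ≤ Uc n R b) sb)
    {W : (Proj (CohB1.polyGrading n R)).Opens} (h0 : W ≤ Uc n R 0) (ha : W ≤ Uc n R a)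
    (hb : W ≤ Uc n R b) :
    resf (le_inf ha hb) g =
      ((tau n R 0 b h0 hb ^ kb * (tau n R 0 a h0 ha ^ ka)⁻¹ :
        (Γ(Proj (CohB1.polyGrading n R), W))ˣ) : Γ(Proj (CohB1.polyGrading n R), W)) := by
  have e1 := restrict_rel h0a h0 ha
  have e2 := restrict_rel h0b h0 hb
  have e3 : res L ha sa = resf (le_inf ha hb) g • res L hb sb := by
    have := congrArg (res L (le_inf ha hb)) hg
    rwa [res_res, res_smul, res_res] at this
  rw [e3, ← mul_smul] at e1
  have e4 := (hsb W hb).1 (e1.symm.trans e2)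
  rw [Units.val_mul, ← e4, mul_comm _ (resf _ g), mul_assoc, Units.mul_inv, mul_one]

theorem comm_group_aux {G : Type*} [CommGroup G] (V T0 T A : G) (ka kb m : ℤ) (hA : T * A = T0)
    (h : V * T ^ m = T0 ^ kb * (A ^ ka)⁻¹) : V = T0 ^ (kb - ka) * T ^ (ka - m) := by
  have hA' : A = T0 * T⁻¹ := by rw [← hA, mul_comm, inv_mul_cancel_left]
  have h1 := eq_mul_inv_of_mul_eq h
  rw [h1, hA', mul_zpow, inv_zpow, mul_inv, inv_inv, zpow_sub, zpow_sub]
  simp only [mul_assoc]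

section ufd

variable [IsDomain R] [UniqueFactorizationMonoid R]
  (L : (Proj (CohB1.polyGrading n R)).Modules) (hL : PicF.IsInvertible L)

include hL in
/-- step 1: generators on all charts, normalised against the chart `0`. -/
theorem exists_gens_zero : ∃ (e0 : Γ(L, Uc n R 0)), IsGen L (Uc n R 0) e0 ∧
    ∀ a : Fin (n + 1), ∃ (s : Γ(L, Uc n R a)) (k : ℤ), IsGen L (Uc n R a) s ∧
      res L (inf_le_left : Uc n R 0 ⊓ Uc n R a ≤ Uc n R 0) e0 =
        ((tau n R 0 a inf_le_left inf_le_right ^ k :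
          (Γ(Proj (CohB1.polyGrading n R), Uc n R 0 ⊓ Uc n R a))ˣ) :
          Γ(Proj (CohB1.polyGrading n R), Uc n R 0 ⊓ Uc n R a)) •
        res L (inf_le_right : Uc n R 0 ⊓ Uc n R a ≤ Uc n R a) s := by
  have htriv : ∀ a : Fin (n + 1), Triv L (Uc n R a) := fun a =>
    triv_of_isAffineOpen_ufd L hL (Uc n R a) (isAffineOpen_Uc n R a)
  choose e he using htriv
  refine ⟨e 0, he 0, fun a => ?_⟩
  by_cases ha : a = 0
  · subst ha
    refine ⟨e 0, 0, he 0, ?_⟩
    rw [zpow_zero, Units.val_one, one_smul]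
  · obtain ⟨g, hg⟩ := exists_unit_smul_eq ((he 0).mono
      (inf_le_left : Uc n R 0 ⊓ Uc n R a ≤ Uc n R 0)) ((he a).mono inf_le_right)
    obtain ⟨u, k, hgu⟩ := exists_unit_zpow n R 0 a (Ne.symm ha) g
    refine ⟨(u : Γ(Proj (CohB1.polyGrading n R), Uc n R a)) • e a, k,
      isGen_unit_smul (he a) _ u.isUnit, ?_⟩
    rw [hg, hgu, res_smul, ← mul_smul, Units.val_mul, Units.coe_map, mul_comm]
    rfl

/-- step 2: the exponents against the chart `0` agree. -/
theorem exp_eq {a b : Fin (n + 1)} (ha0 : a ≠ 0) (hb0 : b ≠ 0) (hab : a ≠ b)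
    {e0 : Γ(L, Uc n R 0)} {sa : Γ(L, Uc n R a)} {sb : Γ(L, Uc n R b)}
    (hsa : IsGen L (Uc n R a) sa) (hsb : IsGen L (Uc n R b) sb) {ka kb : ℤ}
    (h0a : res L (inf_le_left : Uc n R 0 ⊓ Uc n R a ≤ Uc n R 0) e0 =
      ((tau n R 0 a inf_le_left inf_le_right ^ ka :
        (Γ(Proj (CohB1.polyGrading n R), Uc n R 0 ⊓ Uc n R a))ˣ) :
        Γ(Proj (CohB1.polyGrading n R), Uc n R 0 ⊓ Uc n R a)) •
        res L (inf_le_right : Uc n R 0 ⊓ Uc n R a ≤ Uc n R a) sa)
    (h0b : res L (inf_le_left : Uc n R 0 ⊓ Uc n R b ≤ Uc n R 0) e0 =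
      ((tau n R 0 b inf_le_left inf_le_right ^ kb :
        (Γ(Proj (CohB1.polyGrading n R), Uc n R 0 ⊓ Uc n R b))ˣ) :
        Γ(Proj (CohB1.polyGrading n R), Uc n R 0 ⊓ Uc n R b)) •
        res L (inf_le_right : Uc n R 0 ⊓ Uc n R b ≤ Uc n R b) sb) : ka = kb := by
  obtain ⟨g, hg⟩ := exists_unit_smul_eq (hsa.mono
    (inf_le_left : Uc n R a ⊓ Uc n R b ≤ Uc n R a)) (hsb.mono inf_le_right)
  obtain ⟨v, m, hgv⟩ := exists_unit_zpow n R a b hab g
  have h0 : Uc n R 0 ⊓ Uc n R a ⊓ Uc n R b ≤ Uc n R 0 := inf_le_left.trans inf_le_left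
  have ha : Uc n R 0 ⊓ Uc n R a ⊓ Uc n R b ≤ Uc n R a := inf_le_left.trans inf_le_right
  have hb : Uc n R 0 ⊓ Uc n R a ⊓ Uc n R b ≤ Uc n R b := inf_le_right
  have key := res_coef_eq hsb h0a h0b hg h0 ha hb
  have key' : Units.map (resO (le_inf ha hb)).toMonoidHom g =
      tau n R 0 b h0 hb ^ kb * (tau n R 0 a h0 ha ^ ka)⁻¹ := Units.ext key
  have hv : Units.map (resO (le_inf ha hb)).toMonoidHom
      (Units.map (resO (inf_le_right : Uc n R a ⊓ Uc n R b ≤ Uc n R b)).toMonoidHom v) =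
      Units.map (resO hb).toMonoidHom v := Units.ext (resO_resO _ _ _)
  rw [hgv, map_mul, map_zpow, tau_map, hv] at key'
  have final := comm_group_aux _ _ _ _ ka kb m (tau_cocycle n R 0 a b h0 ha hb) key'
  have := (eq_one_of_res_eq n R 0 a b (Ne.symm hb0) hab (Ne.symm ha0) h0 ha hb v _ _ final).1
  omega

/-- step 3: with a common exponent against the chart `0`, all transition functions are
powers of `X a / X b`. -/
theorem rel_of_zero {a b : Fin (n + 1)}
    {e0 : Γ(L, Uc n R 0)} {sa : Γ(L, Uc n R a)} {sb : Γ(L, Uc n R b)}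
    (hsb : IsGen L (Uc n R b) sb) {k : ℤ}
    (h0a : res L (inf_le_left : Uc n R 0 ⊓ Uc n R a ≤ Uc n R 0) e0 =
      ((tau n R 0 a inf_le_left inf_le_right ^ k :
        (Γ(Proj (CohB1.polyGrading n R), Uc n R 0 ⊓ Uc n R a))ˣ) :
        Γ(Proj (CohB1.polyGrading n R), Uc n R 0 ⊓ Uc n R a)) •
        res L (inf_le_right : Uc n R 0 ⊓ Uc n R a ≤ Uc n R a) sa)
    (h0b : res L (inf_le_left : Uc n R 0 ⊓ Uc n R b ≤ Uc n R 0) e0 =
      ((tau n R 0 b inf_le_left inf_le_right ^ k :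
        (Γ(Proj (CohB1.polyGrading n R), Uc n R 0 ⊓ Uc n R b))ˣ) :
        Γ(Proj (CohB1.polyGrading n R), Uc n R 0 ⊓ Uc n R b)) •
        res L (inf_le_right : Uc n R 0 ⊓ Uc n R b ≤ Uc n R b) sb) :
    res L (inf_le_left : Uc n R a ⊓ Uc n R b ≤ Uc n R a) sa =
      ((tau n R a b inf_le_left inf_le_right ^ k :
        (Γ(Proj (CohB1.polyGrading n R), Uc n R a ⊓ Uc n R b))ˣ) :
        Γ(Proj (CohB1.polyGrading n R), Uc n R a ⊓ Uc n R b)) •
        res L (inf_le_right : Uc n R a ⊓ Uc n R b ≤ Uc n R b) sb := by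
  obtain ⟨g, hg⟩ := (hsb (Uc n R a ⊓ Uc n R b) inf_le_right).2
    (res L (inf_le_left : Uc n R a ⊓ Uc n R b ≤ Uc n R a) sa)
  simp only [] at hg
  have h0 : Uc n R 0 ⊓ Uc n R a ⊓ Uc n R b ≤ Uc n R 0 := inf_le_left.trans inf_le_left
  have ha : Uc n R 0 ⊓ Uc n R a ⊓ Uc n R b ≤ Uc n R a := inf_le_left.trans inf_le_right
  have hb : Uc n R 0 ⊓ Uc n R a ⊓ Uc n R b ≤ Uc n R b := inf_le_right
  have key := res_coef_eq hsb h0a h0b hg.symm h0 ha hb
  have hc := tau_cocycle n R 0 a b h0 ha hb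
  rw [← hc, mul_zpow, mul_inv_cancel_right] at key
  have h2 := tau_zpow_res n R a b (le_inf ha hb) inf_le_left inf_le_right k
  have h3 : g = ((tau n R a b inf_le_left inf_le_right ^ k :
        (Γ(Proj (CohB1.polyGrading n R), Uc n R a ⊓ Uc n R b))ˣ) :
        Γ(Proj (CohB1.polyGrading n R), Uc n R a ⊓ Uc n R b)) :=
    resO_injective n R (le_inf ha hb) (key.trans h2.symm)
  rw [← hg, h3]

include hL in
/-- an invertible module on `P^n_R` has generators on the standard charts whose transition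
functions are `(X a / X b) ^ k`. -/
theorem exists_gens : ∃ (k : ℤ) (s : ∀ a : Fin (n + 1), Γ(L, Uc n R a)),
    (∀ a, IsGen L (Uc n R a) (s a)) ∧ ∀ a b : Fin (n + 1),
      res L (inf_le_left : Uc n R a ⊓ Uc n R b ≤ Uc n R a) (s a) =
      ((tau n R a b inf_le_left inf_le_right ^ k :
        (Γ(Proj (CohB1.polyGrading n R), Uc n R a ⊓ Uc n R b))ˣ) :
        Γ(Proj (CohB1.polyGrading n R), Uc n R a ⊓ Uc n R b)) •
        res L (inf_le_right : Uc n R a ⊓ Uc n R b ≤ Uc n R b) (s b) := by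
  obtain ⟨e0, he0, H⟩ := exists_gens_zero n R L hL
  choose s k hs hrel using H
  have hk : ∀ a b : Fin (n + 1), a ≠ 0 → b ≠ 0 → k a = k b := by
    intro a b ha hb
    by_cases hab : a = b
    · rw [hab]
    · exact exp_eq n R L ha hb hab (hs a) (hs b) (hrel a) (hrel b)
  obtain ⟨K, hK⟩ : ∃ K : ℤ, ∀ a : Fin (n + 1), a ≠ 0 → k a = K := by
    by_cases hex : ∃ a : Fin (n + 1), a ≠ 0
    · obtain ⟨a0, ha0⟩ := hex
      exact ⟨k a0, fun a ha => hk a a0 ha ha0⟩
    · exact ⟨0, fun a ha => absurd ⟨a, ha⟩ hex⟩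
  have hrelK : ∀ a : Fin (n + 1),
      res L (inf_le_left : Uc n R 0 ⊓ Uc n R a ≤ Uc n R 0) e0 =
      ((tau n R 0 a inf_le_left inf_le_right ^ K :
        (Γ(Proj (CohB1.polyGrading n R), Uc n R 0 ⊓ Uc n R a))ˣ) :
        Γ(Proj (CohB1.polyGrading n R), Uc n R 0 ⊓ Uc n R a)) •
        res L (inf_le_right : Uc n R 0 ⊓ Uc n R a ≤ Uc n R a) (s a) := by
    intro a
    by_cases ha : a = 0
    · have := hrel a
      subst ha
      rw [tau_self, one_zpow] at this ⊢
      exact this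
    · rw [← hK a ha]
      exact hrel a
  exact ⟨K, s, hs, fun a b => rel_of_zero n R L (hs b) (hrelK a) (hrelK b)⟩

end ufd

section twist

open Groth.Agent.Lib.Helper27GrTildeSect MvPolynomial

/-- the standard generator `X a ^ d` of `O(d)` over `D₊(X a)` -/
noncomputable def sigma (d : ℤ) (a : Fin (n + 1)) :
    Γ(GrTilde.tilde (CohB1.polyGrading n R) (CohB1.polyGrading n R) d, Uc n R a) :=
  zsec (X_mem_one n R a) d d.toNat (-d).toNat (by omega)

theorem isGen_sigma (d : ℤ) (a : Fin (n + 1)) :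
    IsGen (GrTilde.tilde (CohB1.polyGrading n R) (CohB1.polyGrading n R) d) (Uc n R a)
      (sigma n R d a) :=
  isGen_zsec (X_mem_one n R a) d _ _ _

theorem tau_zpow_val (a b : Fin (n + 1)) {W : (Proj (CohB1.polyGrading n R)).Opens}
    (ha : W ≤ Uc n R a) (hb : W ≤ Uc n R b) (d : ℤ) :
    ((tau n R a b ha hb ^ d : (Γ(Proj (CohB1.polyGrading n R), W))ˣ) :
      Γ(Proj (CohB1.polyGrading n R), W)) =
    resO hb (tt n R a b) ^ d.toNat * resO ha (tt n R b a) ^ (-d).toNat := by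
  have hd : d = (d.toNat : ℤ) - ((-d).toNat : ℤ) := by omega
  have h1 : tau n R a b ha hb ^ d =
      tau n R a b ha hb ^ d.toNat * tau n R b a hb ha ^ (-d).toNat := by
    conv_lhs => rw [hd]
    rw [zpow_sub, zpow_natCast, zpow_natCast, ← inv_pow, tau_inv]
  rw [h1, Units.val_mul, Units.val_pow_eq_pow_val, Units.val_pow_eq_pow_val, tau_val, tau_val]

theorem sigma_rel (d : ℤ) (a b : Fin (n + 1)) :
    res (GrTilde.tilde (CohB1.polyGrading n R) (CohB1.polyGrading n R) d)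
      (inf_le_left : Uc n R a ⊓ Uc n R b ≤ Uc n R a) (sigma n R d a) =
      ((tau n R a b inf_le_left inf_le_right ^ d :
        (Γ(Proj (CohB1.polyGrading n R), Uc n R a ⊓ Uc n R b))ˣ) :
        Γ(Proj (CohB1.polyGrading n R), Uc n R a ⊓ Uc n R b)) •
      res (GrTilde.tilde (CohB1.polyGrading n R) (CohB1.polyGrading n R) d)
        (inf_le_right : Uc n R a ⊓ Uc n R b ≤ Uc n R b) (sigma n R d b) := by
  rw [tau_zpow_val]
  refine (res_zsec_eq_smul_iff (X_mem_one n R a) (X_mem_one n R b) d _ _ _ _).mpr ?_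
  intro y hy
  rw [Helper13Dehom.funVal_mul, funVal_pow, funVal_pow, funVal_resO, funVal_resO,
    HomogeneousLocalization.val_mul, HomogeneousLocalization.val_pow,
    HomogeneousLocalization.val_pow, tt, tt,
    funVal_dehom (X_mem_one n R b) (X_mem_one n R a),
    funVal_dehom (X_mem_one n R a) (X_mem_one n R b), Localization.mk_pow, Localization.mk_pow,
    Localization.mk_mul, Localization.mk_mul, Localization.mk_eq_mk_iff,
    Localization.r_iff_exists]
  refine ⟨1, ?_⟩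
  simp only [OneMemClass.coe_one, one_mul, Submonoid.coe_mul, SubmonoidClass.coe_pow, pow_one]
  ring

end twist

section final

variable [IsDomain R] [UniqueFactorizationMonoid R]

/-- every invertible module on `P^n_R`, `R` factorial, is some `O(d)`. -/
theorem nonempty_iso_tilde (L : (Proj (CohB1.polyGrading n R)).Modules)
    (hL : PicF.IsInvertible L) :
    ∃ d : ℤ, Nonempty (L ≅ GrTilde.tilde (CohB1.polyGrading n R) (CohB1.polyGrading n R) d) := by
  obtain ⟨k, s, hs, hrel⟩ := exists_gens n R L hL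
  refine ⟨k, ?_⟩
  refine PicCocycle.nonempty_iso (ι := ULift.{u} (Fin (n + 1))) (fun i => Uc n R i.down) ?_
    (s := fun i => s i.down) (s' := fun i => sigma n R k i.down)
    (fun i V h => hs i.down V h) (fun i V h => isGen_sigma n R k i.down V h)
    (fun i j => ((tau n R i.down j.down inf_le_left inf_le_right ^ k :
        (Γ(Proj (CohB1.polyGrading n R), Uc n R i.down ⊓ Uc n R j.down))ˣ) :
        Γ(Proj (CohB1.polyGrading n R), Uc n R i.down ⊓ Uc n R j.down)))
    (fun i j => ((tau n R i.down j.down inf_le_left inf_le_right ^ k :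
        (Γ(Proj (CohB1.polyGrading n R), Uc n R i.down ⊓ Uc n R j.down))ˣ) :
        Γ(Proj (CohB1.polyGrading n R), Uc n R i.down ⊓ Uc n R j.down)))
    (fun i j => hrel i.down j.down) (fun i j => sigma_rel n R k i.down j.down)
    (fun _ => 1) (fun i j => ?_)
  · rw [← iSup_Uc n R]
    exact Equiv.ulift.iSup_comp (g := fun a => Uc n R a)
  · simp only [Units.val_one]
    rw [PicCocycle.resf_one, PicCocycle.resf_one, mul_one, one_mul]

end final

section uniq

open MvPolynomial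

variable [IsDomain R]

/-- `O(d) ≅ O(d')` on `P^n_R`, `n ≥ 1`, `R` a domain, forces `d = d'`. -/
theorem eq_of_iso_tilde (hn : 1 ≤ n) (d d' : ℤ)
    (φ : GrTilde.tilde (CohB1.polyGrading n R) (CohB1.polyGrading n R) d ≅
      GrTilde.tilde (CohB1.polyGrading n R) (CohB1.polyGrading n R) d') : d = d' := by
  obtain ⟨u, hu⟩ := PicCocycle.exists_units_of_iso (ι := ULift.{u} (Fin (n + 1)))
    (fun i => Uc n R i.down)
    (s := fun i => sigma n R d i.down) (s' := fun i => sigma n R d' i.down)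
    (fun i V h => isGen_sigma n R d i.down V h) (fun i V h => isGen_sigma n R d' i.down V h)
    (fun i j => ((tau n R i.down j.down inf_le_left inf_le_right ^ d :
        (Γ(Proj (CohB1.polyGrading n R), Uc n R i.down ⊓ Uc n R j.down))ˣ) :
        Γ(Proj (CohB1.polyGrading n R), Uc n R i.down ⊓ Uc n R j.down)))
    (fun i j => ((tau n R i.down j.down inf_le_left inf_le_right ^ d' :
        (Γ(Proj (CohB1.polyGrading n R), Uc n R i.down ⊓ Uc n R j.down))ˣ) :
        Γ(Proj (CohB1.polyGrading n R), Uc n R i.down ⊓ Uc n R j.down)))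
    (fun i j => sigma_rel n R d i.down j.down) (fun i j => sigma_rel n R d' i.down j.down) φ
  have h01 : (0 : Fin (n + 1)) ≠ 1 := by
    intro h
    have := congrArg Fin.val h
    rw [Fin.val_zero, Fin.val_one', Nat.mod_eq_of_lt (by omega)] at this
    omega
  have key := hu ⟨0⟩ ⟨1⟩
  simp only [] at key
  obtain ⟨c0, hc0⟩ := exists_const_of_unit n R 0 (u ⟨0⟩)
  obtain ⟨c1, hc1⟩ := exists_const_of_unit n R 1 (u ⟨1⟩)
  -- the unit `c0 / c1` of the chart `1`
  let ψ : R →+* Γ(Proj (CohB1.polyGrading n R), Uc n R 1) :=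
    (dehom (X_mem_one n R 1)).comp (C : R →+* MvPolynomial (Fin (n + 1)) R)
  let v : (Γ(Proj (CohB1.polyGrading n R), Uc n R 1))ˣ := Units.map ψ.toMonoidHom (c0 * c1⁻¹)
  letI alg : Algebra Γ(Proj (CohB1.polyGrading n R), Uc n R 1)
      Γ(Proj (CohB1.polyGrading n R), Uc n R 0 ⊓ Uc n R 1) :=
    (resO (inf_le_right : Uc n R 0 ⊓ Uc n R 1 ≤ Uc n R 1)).toAlgebra
  have hfin : (d - d' : ℤ) = 0 := by
    refine UnitsLoc.eq_zero_of_algebraMap_eq_zpow (resO_injective n R inf_le_right)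
      (prime_tt n R 0 1 h01) (tau n R 0 1 inf_le_left inf_le_right) rfl v (d - d') ?_
    change resO (inf_le_right : Uc n R 0 ⊓ Uc n R 1 ≤ Uc n R 1)
      (ψ ((c0 * c1⁻¹ : Rˣ) : R)) = _
    -- multiply by the unit `res (ψ c1) * tau ^ d'`
    have hunit : IsUnit (resO (inf_le_right : Uc n R 0 ⊓ Uc n R 1 ≤ Uc n R 1) (ψ (c1 : R)) *
        ((tau n R 0 1 inf_le_left inf_le_right ^ d' :
        (Γ(Proj (CohB1.polyGrading n R), Uc n R 0 ⊓ Uc n R 1))ˣ) :
        Γ(Proj (CohB1.polyGrading n R), Uc n R 0 ⊓ Uc n R 1))) :=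
      ((c1.isUnit.map ψ).map _).mul (Units.isUnit _)
    apply hunit.mul_left_injective
    simp only []
    have e1 : resO (inf_le_right : Uc n R 0 ⊓ Uc n R 1 ≤ Uc n R 1) (ψ ((c0 * c1⁻¹ : Rˣ) : R)) *
        resO (inf_le_right : Uc n R 0 ⊓ Uc n R 1 ≤ Uc n R 1) (ψ (c1 : R)) =
        resO (inf_le_right : Uc n R 0 ⊓ Uc n R 1 ≤ Uc n R 1) (ψ (c0 : R)) := by
      rw [← map_mul, ← map_mul, ← Units.val_mul, inv_mul_cancel_right]
    have e2 : resO (inf_le_right : Uc n R 0 ⊓ Uc n R 1 ≤ Uc n R 1) (ψ (c0 : R)) =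
        resf (inf_le_left : Uc n R 0 ⊓ Uc n R 1 ≤ Uc n R 0)
          ((u ⟨0⟩ : (Γ(Proj (CohB1.polyGrading n R), Uc n R 0))ˣ) :
            Γ(Proj (CohB1.polyGrading n R), Uc n R 0)) := by
      rw [hc0]
      exact dehom_C_overlap n R 0 1 (c0 : R) inf_le_left inf_le_right
    have e3 : resO (inf_le_right : Uc n R 0 ⊓ Uc n R 1 ≤ Uc n R 1) (ψ (c1 : R)) =
        resf (inf_le_right : Uc n R 0 ⊓ Uc n R 1 ≤ Uc n R 1)
          ((u ⟨1⟩ : (Γ(Proj (CohB1.polyGrading n R), Uc n R 1))ˣ) :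
            Γ(Proj (CohB1.polyGrading n R), Uc n R 1)) := by
      rw [hc1]
      rfl
    rw [← mul_assoc, e1, e2, mul_comm, key, e3, zpow_sub, Units.val_mul, mul_comm _
      ((tau n R 0 1 inf_le_left inf_le_right ^ d :
        (Γ(Proj (CohB1.polyGrading n R), Uc n R 0 ⊓ Uc n R 1))ˣ) :
        Γ(Proj (CohB1.polyGrading n R), Uc n R 0 ⊓ Uc n R 1)), mul_assoc]
    congr 1
    rw [mul_comm (resf _ _), ← mul_assoc, ← Units.val_mul, inv_mul_cancel, Units.val_one, one_mul]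
  omega

end uniq

end main

end Groth.Agent.R2.H67.PicPn
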