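import Groth.Agent.R2.H67PicPn

/-!
# Consumers of `Pic (P^n_R) = ℤ` (helper67)

* `isInvertible_of_isFinLocFreeOfRank_one`
* `exists_twist_iso_of_rank_one`: a rank one finite locally free module on `P^n_R`, `R` factorial,
  is some `O(d)`.
* `exists_biprod_iso_of_split`: a short exact sequence of rank one bundles on `P^n_R` has middle
  term `O(a) ⊕ O(b)` as soon as sequences `0 → O(a) → E → O(b) → 0` split.
-/

set_option autoImplicit false
set_option linter.unusedSectionVars false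
universe u

open CategoryTheory CategoryTheory.Limits AlgebraicGeometry

namespace Groth.Agent.R2.H67.PicPnApps

theorem isInvertible_of_isFinLocFreeOfRank_one {X : Scheme.{u}} (L : X.Modules)
    (h : FlatMod.IsFinLocFreeOfRank 1 L) : PicF.IsInvertible L := by
  intro x
  obtain ⟨U, hxU, ⟨ε⟩⟩ := h x
  exact ⟨U, hxU, ⟨ε ≪≫
    Limits.coproductUniqueIso (fun _ : Fin 1 => Coh.structureModule (↑U : Scheme.{u}))⟩⟩

variable (R : Type u) [CommRing R] [IsDomain R] [UniqueFactorizationMonoid R] (n : ℕ)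

theorem exists_twist_iso_of_rank_one (L : (CohB1.ProjSpace n R).Modules)
    (h : FlatMod.IsFinLocFreeOfRank 1 L) :
    ∃ d : ℤ, Nonempty (L ≅ Twist.twistProjSpace n R d) :=
  Groth.Agent.R2.H67.PicPn.nonempty_iso_tilde n R L (isInvertible_of_isFinLocFreeOfRank_one L h)

theorem exists_biprod_iso_of_split (S : ShortComplex (CohB1.ProjSpace n R).Modules)
    (h₁ : FlatMod.IsFinLocFreeOfRank 1 S.X₁) (h₃ : FlatMod.IsFinLocFreeOfRank 1 S.X₃)
    (hsplit : ∀ a b : ℤ, Nonempty (S.X₁ ≅ Twist.twistProjSpace n R a) →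
      Nonempty (S.X₃ ≅ Twist.twistProjSpace n R b) → Nonempty S.Splitting) :
    ∃ a b : ℤ, Nonempty (S.X₂ ≅ Twist.twistProjSpace n R a ⊞ Twist.twistProjSpace n R b) := by
  obtain ⟨a, ⟨e₁⟩⟩ := exists_twist_iso_of_rank_one R n S.X₁ h₁
  obtain ⟨b, ⟨e₃⟩⟩ := exists_twist_iso_of_rank_one R n S.X₃ h₃
  obtain ⟨s⟩ := hsplit a b ⟨e₁⟩ ⟨e₃⟩
  exact ⟨a, b, ⟨s.isoBinaryBiproduct ≪≫ biprod.mapIso e₁ e₃⟩⟩

end Groth.Agent.R2.H67.PicPnApps
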