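import Mathlib

/-!
# Units of localizations at prime elements (helper67)

* `exists_unit_zpow_of_isUnit_away`: for a domain `B`, a prime element `p` and `Bp = B[1/p]`,
  every unit of `Bp` is `u * p ^ k` with `u` a unit of `B` and `k : ℤ`.
* `eq_of_unit_mul_pow_mul_pow_eq`: uniqueness of factorizations `v * p ^ a * q ^ b` for
  non-associated primes.
* `eq_one_of_algebraMap_eq_zpow_mul_zpow`: a unit of `B` that is a Laurent monomial in two
  non-associated primes (in an overring) is `1` and the exponents vanish.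
-/

set_option autoImplicit false
universe u

namespace Groth.Agent.R2.H67.UnitsLoc

variable {B : Type*} [CommRing B] [IsDomain B]

theorem emultiplicity_unit_mul_pow_mul_pow {p q : B} (hp : Prime p) (_hq : Prime q)
    (hpq : ¬ p ∣ q) (v : Bˣ) (a b : ℕ) :
    emultiplicity p ((v : B) * p ^ a * q ^ b) = a := by
  rw [emultiplicity_mul hp, emultiplicity_mul hp, emultiplicity_pow_self hp.ne_zero hp.not_isUnit]
  have h1 : emultiplicity p (v : B) = 0 :=
    emultiplicity_eq_zero.mpr fun h => hp.not_isUnit (isUnit_of_dvd_unit h v.isUnit)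
  have h2 : emultiplicity p (q ^ b) = 0 :=
    emultiplicity_eq_zero.mpr fun h => hpq (hp.dvd_of_dvd_pow h)
  rw [h1, h2, zero_add, add_zero]

theorem eq_of_unit_mul_pow_mul_pow_eq {p q : B} (hp : Prime p) (hq : Prime q)
    (hpq : ¬ p ∣ q) (hqp : ¬ q ∣ p) (v v' : Bˣ) (a b a' b' : ℕ)
    (h : (v : B) * p ^ a * q ^ b = (v' : B) * p ^ a' * q ^ b') :
    a = a' ∧ b = b' ∧ v = v' := by
  have h1 : a = a' := by
    have := congrArg (emultiplicity p) h
    rw [emultiplicity_unit_mul_pow_mul_pow hp hq hpq, emultiplicity_unit_mul_pow_mul_pow hp hq hpq]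
      at this
    exact_mod_cast this
  have h2 : b = b' := by
    have h' : (v : B) * q ^ b * p ^ a = (v' : B) * q ^ b' * p ^ a' := by
      rw [mul_assoc, mul_comm (q ^ b), ← mul_assoc, h]; ring
    have := congrArg (emultiplicity q) h'
    rw [emultiplicity_unit_mul_pow_mul_pow hq hp hqp, emultiplicity_unit_mul_pow_mul_pow hq hp hqp]
      at this
    exact_mod_cast this
  subst h1 h2
  refine ⟨rfl, rfl, ?_⟩
  have h3 : (v : B) * (p ^ a * q ^ b) = (v' : B) * (p ^ a * q ^ b) := by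
    rw [← mul_assoc, ← mul_assoc]; exact h
  exact Units.ext (mul_right_cancel₀ (mul_ne_zero (pow_ne_zero _ hp.ne_zero)
    (pow_ne_zero _ hq.ne_zero)) h3)

/-- a unit of `B` which becomes a Laurent monomial in two non-associated primes in an overring
is `1`, and the exponents vanish. -/
theorem eq_one_of_algebraMap_eq_zpow_mul_zpow {C : Type*} [CommRing C] [Algebra B C]
    (hinj : Function.Injective (algebraMap B C)) {p q : B} (hp : Prime p) (hq : Prime q)
    (hpq : ¬ p ∣ q) (hqp : ¬ q ∣ p) (P Q : Cˣ) (hP : (P : C) = algebraMap B C p)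
    (hQ : (Q : C) = algebraMap B C q) (v : Bˣ) (e f : ℤ)
    (h : algebraMap B C (v : B) = ((P ^ e * Q ^ f : Cˣ) : C)) :
    e = 0 ∧ f = 0 ∧ v = 1 := by
  obtain ⟨N, hN⟩ : ∃ N : ℕ, 0 ≤ e + N ∧ 0 ≤ f + N := ⟨e.natAbs + f.natAbs, by omega, by omega⟩
  obtain ⟨a, ha⟩ := Int.eq_ofNat_of_zero_le hN.1
  obtain ⟨b, hb⟩ := Int.eq_ofNat_of_zero_le hN.2
  have key : algebraMap B C ((v : B) * p ^ N * q ^ N) = algebraMap B C ((1 : Bˣ) * p ^ a * q ^ b) := by
    rw [map_mul, map_mul, map_pow, map_pow, h, map_mul, map_mul, map_pow, map_pow, ← hP, ← hQ,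
      Units.val_one, map_one, one_mul]
    have h1 : (P ^ e * Q ^ f : Cˣ) * P ^ N * Q ^ N = P ^ a * Q ^ b := by
      rw [← zpow_natCast P N, ← zpow_natCast Q N, ← zpow_natCast P a, ← zpow_natCast Q b, ← ha, ← hb,
        zpow_add, zpow_add]
      rw [mul_assoc, mul_assoc, mul_assoc]
      congr 1
      rw [← mul_assoc, mul_comm (Q ^ f), mul_assoc]
    have h2 := congrArg (fun u : Cˣ => (u : C)) h1
    simpa using h2
  have key2 := hinj key
  obtain ⟨h1, h2, h3⟩ := eq_of_unit_mul_pow_mul_pow_eq hp hq hpq hqp v 1 N N a b key2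
  refine ⟨by omega, by omega, h3⟩

/-- units of `B[1/p]` for a prime `p` of a domain `B`. -/
theorem exists_unit_zpow_of_isUnit_away {Bp : Type*} [CommRing Bp] [Algebra B Bp] {p : B}
    (hp : Prime p) [IsLocalization.Away p Bp] (P : Bpˣ) (hP : (P : Bp) = algebraMap B Bp p)
    (η : Bpˣ) : ∃ (u : Bˣ) (k : ℤ), η = Units.map (algebraMap B Bp).toMonoidHom u * P ^ k := by
  have hinj : Function.Injective (algebraMap B Bp) :=
    IsLocalization.injective Bp (powers_le_nonZeroDivisors_of_noZeroDivisors hp.ne_zero)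
  obtain ⟨n, b, hb⟩ := IsLocalization.Away.surj p (η : Bp)
  obtain ⟨m, b', hb'⟩ := IsLocalization.Away.surj p ((η⁻¹ : Bpˣ) : Bp)
  have h1 : b * b' = p ^ (n + m) := by
    apply hinj
    rw [map_mul, ← hb, ← hb', map_pow, pow_add]
    have : (η : Bp) * ((η⁻¹ : Bpˣ) : Bp) = 1 := η.mul_inv
    calc (η : Bp) * algebraMap B Bp p ^ n * (((η⁻¹ : Bpˣ) : Bp) * algebraMap B Bp p ^ m)
        = ((η : Bp) * ((η⁻¹ : Bpˣ) : Bp)) * (algebraMap B Bp p ^ n * algebraMap B Bp p ^ m) := by
          ring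
      _ = algebraMap B Bp p ^ n * algebraMap B Bp p ^ m := by rw [this, one_mul]
  obtain ⟨l, -, hl⟩ := (dvd_prime_pow hp (n + m)).mp ⟨b', h1.symm⟩
  obtain ⟨u, hu⟩ := hl.symm
  -- `b = p ^ l * u`
  refine ⟨u, (l : ℤ) - n, ?_⟩
  apply Units.ext
  have h2 : (η : Bp) * algebraMap B Bp p ^ n = algebraMap B Bp (u : B) * algebraMap B Bp p ^ l := by
    rw [hb, ← hu, map_mul, map_pow, mul_comm]
  have h3 : ((Units.map (algebraMap B Bp).toMonoidHom u * P ^ ((l : ℤ) - n) : Bpˣ) : Bp) *
      algebraMap B Bp p ^ n = algebraMap B Bp (u : B) * algebraMap B Bp p ^ l := by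
    have h4 : (Units.map (algebraMap B Bp).toMonoidHom u * P ^ ((l : ℤ) - n)) * P ^ n =
        Units.map (algebraMap B Bp).toMonoidHom u * P ^ l := by
      rw [mul_assoc, ← zpow_natCast P n, ← zpow_add, sub_add_cancel, zpow_natCast]
    have h5 := congrArg (fun u : Bpˣ => (u : Bp)) h4
    simpa [hP] using h5
  have hunit : IsUnit (algebraMap B Bp p ^ n) := by
    rw [← hP]; exact (P ^ n).isUnit
  exact hunit.mul_left_injective (h2.trans h3.symm)

omit [IsDomain B] in
/-- a unit of `B` which becomes a power of a prime `p` in an overring: the exponent vanishes. -/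
theorem eq_zero_of_algebraMap_eq_zpow {C : Type*} [CommRing C] [Algebra B C]
    (hinj : Function.Injective (algebraMap B C)) {p : B} (hp : Prime p) (P : Cˣ)
    (hP : (P : C) = algebraMap B C p) (v : Bˣ) (e : ℤ)
    (h : algebraMap B C (v : B) = ((P ^ e : Cˣ) : C)) : e = 0 := by
  rcases e with k | k
  · rw [Int.ofNat_eq_natCast, zpow_natCast, Units.val_pow_eq_pow_val, hP, ← map_pow] at h
    have h1 := hinj h
    by_contra hk
    have hk' : k ≠ 0 := fun h0 => hk (by simp [h0])
    have h2 : IsUnit (p ^ k) := h1 ▸ v.isUnit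
    exact hp.not_isUnit ((isUnit_pow_iff hk').mp h2)
  · exfalso
    have h2 : algebraMap B C ((v : B) * p ^ (k + 1)) = algebraMap B C 1 := by
      rw [map_mul, h, map_pow, ← hP, map_one, zpow_negSucc, ← Units.val_pow_eq_pow_val,
        ← Units.val_mul, inv_mul_cancel, Units.val_one]
    have h3 := hinj h2
    exact hp.not_isUnit ((isUnit_pow_iff (Nat.succ_ne_zero k)).mp
      (IsUnit.of_mul_eq_one _ (by rw [mul_comm]; exact h3)))

end Groth.Agent.R2.H67.UnitsLoc
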