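import Groth.Agent.Lib.Helper13Dehom
import Groth.Agent.Lib.Helper27PnChart
import Groth.Agent.Lib.Helper20UFDPic
import Groth.Agent.Lib.Helper23Restr
import Groth.Agent.R2.H67UnitsLoc
import Groth.Agent.S3557

/-!
# Standard charts of `P^n_R` over a factorial ring (helper67)

* `triv_of_isAffineOpen_ufd`: an invertible module is trivial over an affine open whose ring of
  functions is factorial.
* the standard charts `Uc j = D₊(X j)` of `P^n_R`: ring of functions `≃ R[T_l, l ≠ j]`, the
  coordinate functions `tt i j = X i / X j` are prime and pairwise non-associated.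
-/

set_option autoImplicit false
set_option linter.unusedSectionVars false
set_option linter.style.haveILetI false
universe u

open CategoryTheory CategoryTheory.Limits AlgebraicGeometry TopologicalSpace Opposite
  HomogeneousLocalization

namespace Groth.Agent.R2.H67.PnCharts

open Groth.Agent.Lib.Helper6 Groth.Agent.Lib.Helper23.SecTw Groth.Agent.Lib.Helper20.ParaFLib
  Groth.Agent.Lib.Helper20.UFDPic

section general

variable {X : Scheme.{u}}

/-- an invertible module is trivial over an affine open with factorial ring of functions. -/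
theorem triv_of_isAffineOpen_ufd (L : X.Modules) (hL : PicF.IsInvertible L) (U : X.Opens)
    (hU : IsAffineOpen U) [Nonempty U] [IsDomain Γ(X, U)] [UniqueFactorizationMonoid Γ(X, U)] :
    Triv L U := by
  let Y : Scheme.{u} := ↑U
  haveI : IsAffine Y := hU
  let e : Γ(Y, ⊤) ≃+* Γ(X, U) := U.topIso.commRingCatIsoToRingEquiv
  haveI : IsDomain Γ(Y, ⊤) := e.toMulEquiv.isDomain _
  haveI : UniqueFactorizationMonoid Γ(Y, ⊤) :=
    e.symm.toMulEquiv.uniqueFactorizationMonoid inferInstance
  haveI : Nonempty Y := ‹Nonempty U›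
  haveI : IsIntegral Y := isIntegral_of_isAffine_of_isDomain Y
  have hM : PicF.IsInvertible (L.restrict U.ι) := isInvertible_restrict L hL U
  have h1 : Triv (L.restrict U.ι) (⊤ : Y.Opens) := by
    refine triv_of_charts fun x _ => ?_
    obtain ⟨W₀, hxW₀, e₀, he₀⟩ := exists_triv _ hM x
    obtain ⟨_, ⟨f, rfl⟩, hxf, hfW⟩ := Opens.isBasis_iff_nbhd.1 (isBasis_basicOpen Y) hxW₀
    refine ⟨⟨f, ?_, le_top, res _ hfW e₀, he₀.mono hfW⟩, hxf⟩
    rintro rfl
    rw [Scheme.basicOpen_zero] at hxf
    exact hxf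
  have h2 : Triv L (U.ι ''ᵁ ⊤) := Triv.of_restrict U.ι h1
  exact h2.of_eq (by simp)

end general

/-- in an integral scheme, nonempty opens meet. -/
theorem nonempty_inf_of_isIntegral {X : Scheme.{u}} [IsIntegral X] (U V : X.Opens)
    [hU : Nonempty U] [hV : Nonempty V] : Nonempty (U ⊓ V : X.Opens) := by
  obtain ⟨x, hx⟩ := hU
  obtain ⟨y, hy⟩ := hV
  obtain ⟨z, hz⟩ := nonempty_preirreducible_inter U.isOpen V.isOpen ⟨x, hx⟩ ⟨y, hy⟩
  exact ⟨⟨z, hz⟩⟩

section charts

open MvPolynomial Groth.Agent.Lib.Helper27PnChart Groth.Agent.Helper13Dehom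

variable (n : ℕ) (R : Type u) [CommRing R]

/-- the standard chart `D₊(X j)` of `P^n_R` -/
noncomputable abbrev Uc (j : Fin (n + 1)) : (Proj (CohB1.polyGrading n R)).Opens :=
  Proj.basicOpen (CohB1.polyGrading n R) (X j)

theorem iSup_Uc : ⨆ j, Uc n R j = ⊤ := iSup_basicOpen_X n R

theorem isAffineOpen_Uc (j : Fin (n + 1)) : IsAffineOpen (Uc n R j) :=
  Proj.isAffineOpen_basicOpen (CohB1.polyGrading n R) (X j) (X_mem_one n R j) one_pos

/-- the coordinate function `X i / X j` on the chart `D₊(X j)` -/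
noncomputable def tt (i j : Fin (n + 1)) : Γ(Proj (CohB1.polyGrading n R), Uc n R j) :=
  dehom (X_mem_one n R j) (X i)

/-- functions on the chart `D₊(X j)` form a polynomial ring -/
noncomputable def chartEquiv (j : Fin (n + 1)) :
    MvPolynomial {l : Fin (n + 1) // l ≠ j} R ≃+* Γ(Proj (CohB1.polyGrading n R), Uc n R j) :=
  (RingEquiv.ofBijective (chart n R j) (chart_bijective n R j)).trans
    (Proj.basicOpenIsoAway (CohB1.polyGrading n R) (X j) (X_mem_one n R j)
      one_pos).commRingCatIsoToRingEquiv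

theorem chartEquiv_X (j i : Fin (n + 1)) (h : i ≠ j) :
    chartEquiv n R j (X ⟨i, h⟩) = tt n R i j := by
  have h1 : (X i : MvPolynomial (Fin (n + 1)) R) ∈ CohB1.polyGrading n R (1 • 1) := by
    simpa using X_mem_one n R i
  rw [tt, dehom_eq_awayToSection (X_mem_one n R j) (j := 1) h1]
  change (Proj.awayToSection (CohB1.polyGrading n R) (X j)).hom (chart n R j (X ⟨i, h⟩)) = _
  congr 1
  rw [chart, MvPolynomial.eval₂Hom_X']
  apply HomogeneousLocalization.val_injective
  rw [HomogeneousLocalization.val_mk, HomogeneousLocalization.Away.val_mk]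
  rw [Localization.mk_eq_mk_iff, Localization.r_iff_exists]
  exact ⟨1, by simp⟩

theorem C_mem_zero (c : R) : (C c : MvPolynomial (Fin (n + 1)) R) ∈ CohB1.polyGrading n R 0 :=
  MvPolynomial.isHomogeneous_C _ c

theorem chartEquiv_C (j : Fin (n + 1)) (c : R) :
    chartEquiv n R j (C c) = dehom (X_mem_one n R j) (C c) := by
  have h1 : (C c : MvPolynomial (Fin (n + 1)) R) ∈ CohB1.polyGrading n R (0 • 1) := by
    rw [zero_smul]; exact C_mem_zero n R c
  rw [dehom_eq_awayToSection (X_mem_one n R j) (j := 0) h1]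
  change (Proj.awayToSection (CohB1.polyGrading n R) (X j)).hom (chart n R j (C c)) = _
  congr 1
  rw [chart, MvPolynomial.eval₂Hom_C]
  apply HomogeneousLocalization.val_injective
  rw [HomogeneousLocalization.Away.val_mk]
  simp only [RingHom.comp_apply]
  rw [HomogeneousLocalization.fromZeroRingHom]
  simp only [RingHom.coe_mk, MonoidHom.coe_mk, OneHom.coe_mk]
  rw [HomogeneousLocalization.val_mk, Localization.mk_eq_mk_iff, Localization.r_iff_exists]
  exact ⟨1, by simp [MvPolynomial.algebraMap_eq]⟩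

/-- constants are compatible on overlaps of charts -/
theorem dehom_C_overlap (a b : Fin (n + 1)) (c : R)
    {W : (Proj (CohB1.polyGrading n R)).Opens} (ha : W ≤ Uc n R a) (hb : W ≤ Uc n R b) :
    resO hb (dehom (X_mem_one n R b) (C c)) = resO ha (dehom (X_mem_one n R a) (C c)) := by
  have h := dehom_overlap (X_mem_one n R a) (X_mem_one n R b) (C_mem_zero n R c) ha hb
  rw [pow_zero, one_mul] at h
  exact h

section domain

variable [IsDomain R]

instance isDomain_chart (j : Fin (n + 1)) :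
    IsDomain Γ(Proj (CohB1.polyGrading n R), Uc n R j) :=
  (chartEquiv n R j).symm.toMulEquiv.isDomain _

instance ufd_chart [UniqueFactorizationMonoid R] (j : Fin (n + 1)) :
    UniqueFactorizationMonoid Γ(Proj (CohB1.polyGrading n R), Uc n R j) :=
  (chartEquiv n R j).toMulEquiv.uniqueFactorizationMonoid inferInstance

theorem prime_tt (i j : Fin (n + 1)) (h : i ≠ j) : Prime (tt n R i j) := by
  rw [← chartEquiv_X n R j i h]
  exact (MulEquiv.prime_iff (chartEquiv n R j)).mpr MvPolynomial.X_prime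

theorem not_tt_dvd_tt (i i' j : Fin (n + 1)) (h : i ≠ j) (h' : i' ≠ j) (hii' : i ≠ i') :
    ¬ tt n R i j ∣ tt n R i' j := by
  rw [← chartEquiv_X n R j i h, ← chartEquiv_X n R j i' h', map_dvd_iff (chartEquiv n R j),
    MvPolynomial.X_dvd_X]
  intro h1
  exact hii' (congrArg Subtype.val h1)

/-- units of a chart ring are constants -/
theorem exists_const_of_unit (j : Fin (n + 1))
    (u : (Γ(Proj (CohB1.polyGrading n R), Uc n R j))ˣ) :
    ∃ c : Rˣ, (u : Γ(Proj (CohB1.polyGrading n R), Uc n R j)) =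
      dehom (X_mem_one n R j) (C (c : R)) := by
  have h1 : IsUnit ((chartEquiv n R j).symm (u : Γ(Proj (CohB1.polyGrading n R), Uc n R j))) :=
    u.isUnit.map (chartEquiv n R j).symm
  obtain ⟨r, hr, h2⟩ := MvPolynomial.isUnit_iff_eq_C_of_isReduced.mp h1
  refine ⟨hr.unit, ?_⟩
  rw [← chartEquiv_C, IsUnit.unit_spec, ← h2, RingEquiv.apply_symm_apply]

end domain

section units

/-- the unit `X a / X b` on an open contained in `D₊(X a) ∩ D₊(X b)` -/
noncomputable def tau (a b : Fin (n + 1)) {W : (Proj (CohB1.polyGrading n R)).Opens}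
    (ha : W ≤ Uc n R a) (hb : W ≤ Uc n R b) : (Γ(Proj (CohB1.polyGrading n R), W))ˣ :=
  Units.mkOfMulEqOne (resO hb (tt n R a b)) (resO ha (tt n R b a))
    (dehom_mul_dehom (X_mem_one n R a) (X_mem_one n R b) ha hb)

theorem tau_val (a b : Fin (n + 1)) {W : (Proj (CohB1.polyGrading n R)).Opens}
    (ha : W ≤ Uc n R a) (hb : W ≤ Uc n R b) :
    ((tau n R a b ha hb : (Γ(Proj (CohB1.polyGrading n R), W))ˣ) :
      Γ(Proj (CohB1.polyGrading n R), W)) = resO hb (tt n R a b) := rfl

theorem tau_inv (a b : Fin (n + 1)) {W : (Proj (CohB1.polyGrading n R)).Opens}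
    (ha : W ≤ Uc n R a) (hb : W ≤ Uc n R b) :
    (tau n R a b ha hb)⁻¹ = tau n R b a hb ha := by
  apply Units.ext
  rfl

theorem tau_self (a : Fin (n + 1)) {W : (Proj (CohB1.polyGrading n R)).Opens}
    (ha ha' : W ≤ Uc n R a) : tau n R a a ha ha' = 1 := by
  apply Units.ext
  rw [tau_val, tt, dehom_self, map_one, Units.val_one]

theorem tau_cocycle (a b c : Fin (n + 1)) {W : (Proj (CohB1.polyGrading n R)).Opens}
    (ha : W ≤ Uc n R a) (hb : W ≤ Uc n R b) (hc : W ≤ Uc n R c) :
    tau n R b c hb hc * tau n R a b ha hb = tau n R a c ha hc := by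
  apply Units.ext
  rw [Units.val_mul, tau_val, tau_val, tau_val]
  exact dehom_cocycle (X_mem_one n R a) (X_mem_one n R b) (X_mem_one n R c) hb hc

theorem tau_map (a b : Fin (n + 1)) {V W : (Proj (CohB1.polyGrading n R)).Opens}
    (h : V ≤ W) (ha : W ≤ Uc n R a) (hb : W ≤ Uc n R b) :
    Units.map (resO h).toMonoidHom (tau n R a b ha hb) =
      tau n R a b (h.trans ha) (h.trans hb) := by
  apply Units.ext
  rw [Units.coe_map, tau_val, tau_val]
  exact resO_resO hb h _

end units

section integral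

variable [IsDomain R]

instance isIntegral_proj : IsIntegral (Proj (CohB1.polyGrading n R)) := by
  rw [Groth.Agent.S3557.result (CohB1.polyGrading n R) (fun f _ hf => hf.eq_zero)]
  refine ⟨⟨X 0, ?_, X_ne_zero 0⟩, fun f _ g _ h => mul_eq_zero.mp h⟩
  change X 0 ∈ HomogeneousIdeal.irrelevant (CohB1.polyGrading n R)
  rw [HomogeneousIdeal.mem_irrelevant_iff]
  change ((DirectSum.decompose (CohB1.polyGrading n R) (X 0) 0 :
    CohB1.polyGrading n R 0) : MvPolynomial (Fin (n + 1)) R) = 0
  exact DirectSum.decompose_of_mem_ne (CohB1.polyGrading n R) (X_mem_one n R 0) one_ne_zero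

instance nonempty_Uc (j : Fin (n + 1)) : Nonempty (Uc n R j) := by
  by_contra h
  rw [not_nonempty_iff] at h
  have h1 : Uc n R j = ⊥ := by
    ext x
    simp only [Opens.coe_bot, Set.mem_empty_iff_false, iff_false]
    exact fun hx => h.false ⟨x, hx⟩
  have h2 : Subsingleton Γ(Proj (CohB1.polyGrading n R), Uc n R j) := by
    rw [h1]; infer_instance
  exact not_subsingleton _ h2

instance nonempty_inf2 (a b : Fin (n + 1)) :
    Nonempty (Uc n R a ⊓ Uc n R b : (Proj (CohB1.polyGrading n R)).Opens) :=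
  nonempty_inf_of_isIntegral _ _

instance nonempty_inf3 (a b c : Fin (n + 1)) :
    Nonempty (Uc n R a ⊓ Uc n R b ⊓ Uc n R c : (Proj (CohB1.polyGrading n R)).Opens) :=
  nonempty_inf_of_isIntegral _ _

theorem resO_injective {V W : (Proj (CohB1.polyGrading n R)).Opens} (h : V ≤ W) [Nonempty V] :
    Function.Injective (resO h : Γ(Proj (CohB1.polyGrading n R), W) →+*
      Γ(Proj (CohB1.polyGrading n R), V)) :=
  map_injective_of_isIntegral (Proj (CohB1.polyGrading n R)) (homOfLE h)

/-- units on `D₊(X a) ∩ D₊(X b)` are units of `D₊(X b)` times powers of `X a / X b`. -/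
theorem exists_unit_zpow (a b : Fin (n + 1)) (hab : a ≠ b)
    (η : (Γ(Proj (CohB1.polyGrading n R), Uc n R a ⊓ Uc n R b))ˣ) :
    ∃ (u : (Γ(Proj (CohB1.polyGrading n R), Uc n R b))ˣ) (k : ℤ),
      η = Units.map (resO (inf_le_right : Uc n R a ⊓ Uc n R b ≤ Uc n R b)).toMonoidHom u *
        tau n R a b inf_le_left inf_le_right ^ k := by
  letI alg : Algebra Γ(Proj (CohB1.polyGrading n R), Uc n R b)
      Γ(Proj (CohB1.polyGrading n R), Uc n R a ⊓ Uc n R b) :=
    (resO (inf_le_right : Uc n R a ⊓ Uc n R b ≤ Uc n R b)).toAlgebra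
  haveI : IsLocalization.Away (tt n R a b)
      Γ(Proj (CohB1.polyGrading n R), Uc n R a ⊓ Uc n R b) :=
    (isAffineOpen_Uc n R b).isLocalization_of_eq_basicOpen (tt n R a b) (homOfLE inf_le_right)
      (basicOpen_dehom (X_mem_one n R a) (X_mem_one n R b)).symm
  exact UnitsLoc.exists_unit_zpow_of_isUnit_away (prime_tt n R a b hab)
    (tau n R a b inf_le_left inf_le_right) rfl η

/-- a unit of `D₊(X b)` which on a triple overlap is a Laurent monomial in `X c / X b` and
`X a / X b` is `1`, and the exponents vanish. -/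
theorem eq_one_of_res_eq (c a b : Fin (n + 1)) (hcb : c ≠ b) (hab : a ≠ b) (hca : c ≠ a)
    {W : (Proj (CohB1.polyGrading n R)).Opens} [Nonempty W]
    (hc : W ≤ Uc n R c) (ha : W ≤ Uc n R a) (hb : W ≤ Uc n R b)
    (v : (Γ(Proj (CohB1.polyGrading n R), Uc n R b))ˣ) (e f : ℤ)
    (h : Units.map (resO hb).toMonoidHom v = tau n R c b hc hb ^ e * tau n R a b ha hb ^ f) :
    e = 0 ∧ f = 0 ∧ v = 1 := by
  letI alg : Algebra Γ(Proj (CohB1.polyGrading n R), Uc n R b)
      Γ(Proj (CohB1.polyGrading n R), W) := (resO hb).toAlgebra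
  refine UnitsLoc.eq_one_of_algebraMap_eq_zpow_mul_zpow (resO_injective n R hb)
    (prime_tt n R c b hcb) (prime_tt n R a b hab) (not_tt_dvd_tt n R c a b hcb hab hca)
    (not_tt_dvd_tt n R a c b hab hcb hca.symm) (tau n R c b hc hb) (tau n R a b ha hb) rfl rfl
    v e f ?_
  have := congrArg (fun u : (Γ(Proj (CohB1.polyGrading n R), W))ˣ =>
    (u : Γ(Proj (CohB1.polyGrading n R), W))) h
  exact this

end integral

end charts

end Groth.Agent.R2.H67.PnCharts
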