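import Mathlib

/-!
# A quotient `P ⧸ I` is the filtered colimit of the quotients by finitely generated subideals

Helper library (helper67).  `fgIdealDiagram A P I`, `fgIdealCocone A P I`, `fgIdealIsColimit A P I`:
the diagram `I' ↦ P ⧸ I'` over finitely generated ideals `I' ≤ I` in `Under (CommRingCat.of A)` and its
colimit cocone with point `P ⧸ I`.
-/

set_option autoImplicit false
universe u
open CategoryTheory CategoryTheory.Limits

namespace Groth.Agent.R2.H67.QuotColim

variable (A P : Type u) [CommRing A] [CommRing P] [Algebra A P] (I : Ideal P)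

/-- Index category: finitely generated ideals contained in `I`. -/
abbrev FGIdeal := {I' : Ideal P // I'.FG ∧ I' ≤ I}

instance : Nonempty (FGIdeal P I) := ⟨⟨⊥, Submodule.fg_bot, bot_le⟩⟩

instance : IsDirected (FGIdeal P I) (· ≤ ·) :=
  ⟨fun S T => ⟨⟨S.1 ⊔ T.1, Submodule.FG.sup S.2.1 T.2.1, sup_le S.2.2 T.2.2⟩,
    (le_sup_left : S.1 ≤ S.1 ⊔ T.1), (le_sup_right : T.1 ≤ S.1 ⊔ T.1)⟩⟩

instance : IsFiltered (FGIdeal P I) := isFiltered_of_directed_le_nonempty _

/-- The diagram of quotients by finitely generated subideals. -/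
noncomputable def fgIdealDiagram : FGIdeal P I ⥤ Under (CommRingCat.of A) where
  obj j := Under.mk (CommRingCat.ofHom (algebraMap A (P ⧸ j.1)))
  map {j k} f := Under.homMk (CommRingCat.ofHom (Ideal.Quotient.factor (leOfHom f))) (by
    ext x
    rfl)
  map_id j := by
    ext x
    obtain ⟨x, rfl⟩ := Ideal.Quotient.mk_surjective x
    rfl
  map_comp f g := by
    ext x
    obtain ⟨x, rfl⟩ := Ideal.Quotient.mk_surjective x
    rfl

/-- The cocone with point `P ⧸ I`. -/
noncomputable def fgIdealCocone : Cocone (fgIdealDiagram A P I) where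
  pt := Under.mk (CommRingCat.ofHom (algebraMap A (P ⧸ I)))
  ι :=
    { app := fun j => Under.homMk (CommRingCat.ofHom (Ideal.Quotient.factor j.2.2)) (by
        ext x
        rfl)
      naturality := by
        intro j k f
        ext x
        obtain ⟨x, rfl⟩ := Ideal.Quotient.mk_surjective x
        rfl }

variable {A P I}

/-- the bottom index -/
def botIdx : FGIdeal P I := ⟨⊥, Submodule.fg_bot, bot_le⟩

/-- the index of the principal ideal generated by an element of `I` -/
def spanIdx (x : P) (hx : x ∈ I) : FGIdeal P I :=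
  ⟨Ideal.span {x}, ⟨{x}, by simp⟩, (Ideal.span_singleton_le_iff_mem I).mpr hx⟩

theorem leg_mk (s : Cocone (fgIdealDiagram A P I)) (j : FGIdeal P I) (y : P) :
    (s.ι.app j).right.hom (Ideal.Quotient.mk j.1 y) =
      (s.ι.app botIdx).right.hom (Ideal.Quotient.mk ⊥ y) := by
  have h : (botIdx : FGIdeal P I) ≤ j := (bot_le : (⊥ : Ideal P) ≤ j.1)
  have := congr($(s.w (homOfLE h : botIdx ⟶ j)).right.hom (Ideal.Quotient.mk ⊥ y))
  exact this

/-- The induced ring hom out of `P ⧸ I`. -/
noncomputable def descHom (s : Cocone (fgIdealDiagram A P I)) : P ⧸ I →+* s.pt.right :=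
  Ideal.Quotient.lift I ((s.ι.app botIdx).right.hom.comp (Ideal.Quotient.mk ⊥)) (by
    intro x hx
    have h1 := leg_mk s (spanIdx x hx) x
    have : Ideal.Quotient.mk (spanIdx x hx).1 x = 0 :=
      Ideal.Quotient.eq_zero_iff_mem.mpr (Ideal.subset_span rfl)
    exact h1.symm.trans
      ((congrArg (s.ι.app (spanIdx x hx)).right.hom this).trans (map_zero _)))

theorem descHom_mk (s : Cocone (fgIdealDiagram A P I)) (y : P) :
    descHom s (Ideal.Quotient.mk I y) = (s.ι.app botIdx).right.hom (Ideal.Quotient.mk ⊥ y) := rfl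

variable (A P I)

/-- The cocone of quotients by finitely generated subideals is a colimit. -/
noncomputable def fgIdealIsColimit : IsColimit (fgIdealCocone A P I) where
  desc s := Under.homMk (CommRingCat.ofHom (descHom s)) (by
    ext r
    have := congr($(Under.w (s.ι.app botIdx)).hom r)
    exact this)
  fac s j := by
    ext x
    obtain ⟨x, rfl⟩ := Ideal.Quotient.mk_surjective x
    exact (leg_mk s j x).symm
  uniq s m hm := by
    ext b
    obtain ⟨b, rfl⟩ := Ideal.Quotient.mk_surjective b
    have h1 := congr($(hm botIdx).right.hom (Ideal.Quotient.mk ⊥ b))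
    exact h1

end Groth.Agent.R2.H67.QuotColim
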