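import Groth.Agent.Lib.Helper24G0
import Groth.Agent.Lib.Helper28GeomRed1
import Groth.Agent.Lib.Helper24Eis

/-!
# Totally tamely ramified extensions of complete DVRs are Kummer (helper67)

`A` a complete DVR with coefficient field `K`, `B` a Dedekind domain finite torsion-free over `A`
of rank `m`, totally ramified at a maximal ideal `M`, `m` a unit of `A`: there is a uniformizer
`u` of `B` with `u ^ m ∈ A` whose minimal polynomial has degree `m`.
-/

set_option autoImplicit false
set_option linter.unusedSectionVars false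
set_option linter.style.haveILetI false
universe u

open Polynomial IsLocalRing

namespace Groth.Agent.R2.H67.TameRam

theorem not_isField_of_finite (A B : Type u) [CommRing A] [IsDomain A] [IsDiscreteValuationRing A]
    [CommRing B] [IsDomain B] [Algebra A B] [Module.Finite A B] [Module.IsTorsionFree A B] :
    ¬ IsField B := by
  intro hB
  have hinj : Function.Injective (algebraMap A B) := FaithfulSMul.algebraMap_injective A B
  haveI : Algebra.IsIntegral A B := Algebra.IsIntegral.of_finite A B
  exact IsDiscreteValuationRing.not_isField A (isField_of_isIntegral_of_isField hinj hB)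

theorem isLocalRing_of_finite (A B : Type u) [CommRing A] [IsDomain A] [IsDiscreteValuationRing A]
    [IsAdicComplete (IsLocalRing.maximalIdeal A) A]
    [CommRing B] [IsDomain B] [Algebra A B] [Module.Finite A B] : IsLocalRing B := by
  haveI : HenselianLocalRing A :=
    Groth.Agent.Lib.Helper28.GeomRed.henselianLocalRing_of_isAdicComplete A
  exact Groth.Agent.Lib.Helper28.GeomRed.isLocalRing_of_finite_of_isDomain A B

/-- in a local DVR extension, the maximal ideal is the only prime over the maximal ideal -/
theorem primesOver_eq (A B : Type u) [CommRing A] [IsDomain A] [IsDiscreteValuationRing A]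
    [CommRing B] [IsDomain B] [IsDiscreteValuationRing B] [Algebra A B] [Module.Finite A B]
    [Module.IsTorsionFree A B] :
    (maximalIdeal A).primesOver B = {maximalIdeal B} := by
  ext q
  constructor
  · rintro ⟨hq1, hq2⟩
    have hq0 : q ≠ ⊥ := by
      rintro rfl
      have h1 := hq2.over
      have h2 : (⊥ : Ideal B).under A = ⊥ := by
        rw [Ideal.under, Ideal.comap_bot_of_injective _ (FaithfulSMul.algebraMap_injective A B)]
      rw [h2] at h1
      exact IsDiscreteValuationRing.not_a_field A h1
    haveI := hq1.isMaximal hq0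
    exact IsLocalRing.eq_maximalIdeal this
  · rintro rfl
    refine ⟨inferInstance, ?_⟩
    haveI : Algebra.IsIntegral A B := Algebra.IsIntegral.of_finite A B
    constructor
    have h1 : ((maximalIdeal B).under A).IsMaximal :=
      Ideal.isMaximal_comap_of_isIntegral_of_isMaximal (R := A) (maximalIdeal B)
    exact (IsLocalRing.eq_maximalIdeal h1).symm

/-- the fundamental identity in the local case -/
theorem ramificationIdx_mul_inertiaDeg (A B : Type u) [CommRing A] [IsDomain A]
    [IsDiscreteValuationRing A]
    [CommRing B] [IsDomain B] [IsDiscreteValuationRing B] [Algebra A B] [Module.Finite A B]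
    [Module.IsTorsionFree A B] :
    (maximalIdeal B).ramificationIdx A * (maximalIdeal B).inertiaDeg A = Module.finrank A B := by
  classical
  have hfin : ((maximalIdeal A).primesOver B).Finite := by
    rw [primesOver_eq]; exact Set.finite_singleton _
  letI : Fintype ((maximalIdeal A).primesOver B) := hfin.fintype
  have hsum := Ideal.sum_ramification_inertia_eq_finrank (maximalIdeal A) B
  have hmem : maximalIdeal B ∈ (maximalIdeal A).primesOver B := by
    rw [primesOver_eq]; exact Set.mem_singleton _
  rw [Fintype.sum_eq_single (⟨maximalIdeal B, hmem⟩ : (maximalIdeal A).primesOver B)] at hsum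
  · exact hsum
  · rintro ⟨q, hq⟩ hne
    exfalso
    apply hne
    apply Subtype.ext
    have := hq
    rw [primesOver_eq] at this
    exact this

theorem liesOver (A B : Type u) [CommRing A] [IsDomain A] [IsDiscreteValuationRing A]
    [CommRing B] [IsDomain B] [IsDiscreteValuationRing B] [Algebra A B] [Module.Finite A B]
    [Module.IsTorsionFree A B] : (maximalIdeal B).LiesOver (maximalIdeal A) := by
  have hmem : maximalIdeal B ∈ (maximalIdeal A).primesOver B := by
    rw [primesOver_eq]; exact Set.mem_singleton _
  exact hmem.2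

/-- if the inertia degree is one, every element of `B` is congruent to an element of `A` -/
theorem exists_sub_mem (A B : Type u) [CommRing A] [IsDomain A] [IsDiscreteValuationRing A]
    [CommRing B] [IsDomain B] [IsDiscreteValuationRing B] [Algebra A B] [Module.Finite A B]
    [Module.IsTorsionFree A B] (hf : (maximalIdeal B).inertiaDeg A = 1) (b : B) :
    ∃ a : A, b - algebraMap A B a ∈ maximalIdeal B := by
  haveI := liesOver A B
  rw [Ideal.inertiaDeg_eq_of_isMaximal (maximalIdeal A) (maximalIdeal B)] at hf
  letI : Field (A ⧸ maximalIdeal A) := Ideal.Quotient.field _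
  letI : Field (B ⧸ maximalIdeal B) := Ideal.Quotient.field _
  have h1 := Subalgebra.bot_eq_top_of_finrank_eq_one hf
  have h2 : Ideal.Quotient.mk (maximalIdeal B) b ∈ (⊥ : Subalgebra (A ⧸ maximalIdeal A)
      (B ⧸ maximalIdeal B)) := by rw [h1]; exact Algebra.mem_top
  obtain ⟨x, hx⟩ := Algebra.mem_bot.mp h2
  obtain ⟨a, rfl⟩ := Ideal.Quotient.mk_surjective x
  refine ⟨a, ?_⟩
  rw [Ideal.Quotient.algebraMap_mk_of_liesOver] at hx
  rw [← Ideal.Quotient.eq]
  exact hx.symm

/-- the ramification index is the exponent of the uniformizer -/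
theorem ramificationIdx_eq_of_eq (A B : Type u) [CommRing A] [IsDomain A]
    [IsDiscreteValuationRing A]
    [CommRing B] [IsDomain B] [IsDiscreteValuationRing B] [Algebra A B] [Module.Finite A B]
    [Module.IsTorsionFree A B] {t : A} (ht : Irreducible t) {ϖ : B} (hϖ : Irreducible ϖ)
    (w : Bˣ) (k : ℕ) (h : algebraMap A B t = w * ϖ ^ k) :
    (maximalIdeal B).ramificationIdx A = k := by
  haveI := liesOver A B
  haveI : IsDedekindDomain B := inferInstance
  rw [← Ideal.ramificationIdx'_eq_ramificationIdx (maximalIdeal A) (maximalIdeal B)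
    (IsDiscreteValuationRing.not_a_field A)]
  have hmap : (maximalIdeal A).map (algebraMap A B) = Ideal.span {algebraMap A B t} := by
    rw [ht.maximalIdeal_eq, Ideal.map_span, Set.image_singleton]
  apply Ideal.ramificationIdx'_spec
  · rw [hmap, hϖ.maximalIdeal_eq, Ideal.span_singleton_pow, Ideal.span_singleton_le_span_singleton,
      h]
    exact Dvd.intro_left _ rfl
  · rw [hmap, hϖ.maximalIdeal_eq, Ideal.span_singleton_pow, Ideal.span_singleton_le_span_singleton,
      h]
    rintro ⟨c, hc⟩
    have h1 : ϖ ^ k * (w : B) = ϖ ^ k * (ϖ * c) := by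
      rw [mul_comm, hc]; ring
    have h2 := mul_left_cancel₀ (pow_ne_zero k hϖ.ne_zero) h1
    exact hϖ.not_isUnit (isUnit_of_mul_isUnit_left (h2 ▸ w.isUnit))

theorem main (K A B : Type u) [Field K] [CommRing A] [IsDomain A] [IsDiscreteValuationRing A]
    [IsAdicComplete (maximalIdeal A) A] [Algebra K A]
    (hK : Function.Bijective ((residue A).comp (algebraMap K A)))
    [CommRing B] [IsDomain B] [IsDiscreteValuationRing B] [Algebra A B] [Module.Finite A B]
    [Module.IsTorsionFree A B]
    (hram : (maximalIdeal B).ramificationIdx A = Module.finrank A B)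
    (hm : IsUnit ((Module.finrank A B : ℕ) : A)) :
    ∃ u : B, u ∈ maximalIdeal B ∧ u ∉ maximalIdeal B ^ 2 ∧
      u ^ Module.finrank A B ∈ (algebraMap A B).range ∧
      (minpoly A u).natDegree = Module.finrank A B := by
  classical
  set m := Module.finrank A B with hmdef
  have hm0 : 0 < m := by
    rcases Nat.eq_zero_or_pos m with h0 | h0
    · rw [h0, Nat.cast_zero] at hm
      exact absurd hm not_isUnit_zero
    · exact h0
  haveI := liesOver A B
  haveI : HenselianLocalRing A :=
    Groth.Agent.Lib.Helper28.GeomRed.henselianLocalRing_of_isAdicComplete A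
  haveI : HenselianLocalRing B := Groth.Agent.Lib.Helper24G0.henselian_of_finite A B
  -- inertia degree one
  have hf : (maximalIdeal B).inertiaDeg A = 1 := by
    have h1 := ramificationIdx_mul_inertiaDeg A B
    rw [hram] at h1
    have h2 : m * (maximalIdeal B).inertiaDeg A = m * 1 := by rw [mul_one]; exact h1
    exact Nat.eq_of_mul_eq_mul_left hm0 h2
  -- uniformizers
  obtain ⟨t, ht⟩ := IsDiscreteValuationRing.exists_irreducible A
  obtain ⟨ϖ, hϖ⟩ := IsDiscreteValuationRing.exists_irreducible B
  have hinj : Function.Injective (algebraMap A B) := FaithfulSMul.algebraMap_injective A B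
  have ht0 : algebraMap A B t ≠ 0 := fun h => ht.ne_zero (hinj (h.trans (map_zero _).symm))
  obtain ⟨k, w, hw⟩ := IsDiscreteValuationRing.eq_unit_mul_pow_irreducible ht0 hϖ
  have hk : k = m := by
    rw [← hram]; exact (ramificationIdx_eq_of_eq A B ht hϖ w k hw).symm
  subst hk
  -- the residue of `w` comes from `K`
  obtain ⟨a, ha⟩ := exists_sub_mem A B hf (w : B)
  obtain ⟨c, hc⟩ := hK.2 (residue A a)
  have hc' : a - algebraMap K A c ∈ maximalIdeal A := by
    rw [← Ideal.Quotient.eq]; exact hc.symm
  have hle : (maximalIdeal A).map (algebraMap A B) ≤ maximalIdeal B :=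
    Ideal.map_le_iff_le_comap.mpr (Ideal.LiesOver.over (p := maximalIdeal A)
      (P := maximalIdeal B)).le
  have hwc : (w : B) - algebraMap A B (algebraMap K A c) ∈ maximalIdeal B := by
    have h1 : algebraMap A B (a - algebraMap K A c) ∈ maximalIdeal B :=
      hle (Ideal.mem_map_of_mem _ hc')
    have h2 : (w : B) - algebraMap A B (algebraMap K A c) =
        ((w : B) - algebraMap A B a) + algebraMap A B (a - algebraMap K A c) := by
      rw [map_sub]; ring
    rw [h2]; exact Ideal.add_mem _ ha h1
  have hc0 : c ≠ 0 := by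
    rintro rfl
    rw [map_zero, map_zero, sub_zero] at hwc
    exact (mem_maximalIdeal _).mp hwc w.isUnit
  have hcA : IsUnit (algebraMap K A c) := (isUnit_iff_ne_zero.mpr hc0).map _
  obtain ⟨cA, hcAeq⟩ := hcA
  let cB : Bˣ := Units.map (algebraMap A B).toMonoidHom cA
  have hcB : (cB : B) = algebraMap A B (algebraMap K A c) := by
    change algebraMap A B cA = _
    rw [hcAeq]
  -- `v = w / c ≡ 1`
  let v : Bˣ := w * cB⁻¹
  have hv1 : (1 : B) - (v : B) ∈ maximalIdeal B := by
    have h1 : (1 : B) - (v : B) = -(((w : B) - (cB : B)) * ((cB⁻¹ : Bˣ) : B)) := by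
      change (1 : B) - (w : B) * ((cB⁻¹ : Bˣ) : B) = _
      have h2 : (cB : B) * ((cB⁻¹ : Bˣ) : B) = 1 := cB.mul_inv
      linear_combination h2.symm
    rw [h1, hcB]
    exact Ideal.neg_mem_iff _ |>.mpr (Ideal.mul_mem_right _ _ hwc)
  -- Hensel: an `m`-th root of `v`
  have hmB : IsUnit ((m : ℕ) : B) := by
    have := hm.map (algebraMap A B)
    rwa [map_natCast] at this
  obtain ⟨z, hz, -⟩ := HenselianLocalRing.is_henselian (X ^ m - C (v : B))
    (monic_X_pow_sub_C _ hm0.ne') 1
    (by rw [eval_sub, eval_pow, eval_X, eval_C, one_pow]; exact hv1)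
    (by
      rw [derivative_sub, derivative_C, sub_zero, derivative_X_pow, eval_mul, eval_C, eval_pow,
        eval_X, one_pow, mul_one]
      exact hmB)
  have hzm : z ^ m = (v : B) := by
    rw [IsRoot, eval_sub, eval_pow, eval_X, eval_C, sub_eq_zero] at hz
    exact hz
  have hzu : IsUnit z := by
    have : IsUnit (z ^ m) := hzm ▸ v.isUnit
    exact (isUnit_pow_iff hm0.ne').mp this
  -- the uniformizer `u = ϖ z`
  have hu : Irreducible (ϖ * z) := (irreducible_mul_isUnit hzu).mpr hϖ
  let cAi : A := ((cA⁻¹ : Aˣ) : A)
  have hpow : (ϖ * z) ^ m = algebraMap A B (t * cAi) := by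
    rw [mul_pow, hzm, map_mul, hw]
    change ϖ ^ m * ((w : B) * ((cB⁻¹ : Bˣ) : B)) = (w : B) * ϖ ^ m * algebraMap A B cAi
    have h3 : ((cB⁻¹ : Bˣ) : B) = algebraMap A B cAi := rfl
    rw [h3]; ring
  have hirr : Irreducible (t * cAi) := (irreducible_mul_isUnit (cA⁻¹).isUnit).mpr ht
  refine ⟨ϖ * z, ?_, Groth.Agent.Lib.Helper24Eis.not_mem_sq hu, ⟨t * cAi, hpow.symm⟩, ?_⟩
  · exact (mem_maximalIdeal _).mpr hu.not_isUnit
  · -- minimal polynomial
    have hg : Irreducible (X ^ m - C (t * cAi) : A[X]) :=
      Groth.Agent.Lib.Helper24Eis.irreducible_X_pow_sub_C hirr m hm0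
    have hint : IsIntegral A (ϖ * z) := Algebra.IsIntegral.isIntegral _
    have hroot : aeval (ϖ * z) (X ^ m - C (t * cAi) : A[X]) = 0 := by
      rw [map_sub, map_pow, aeval_X, aeval_C, hpow, sub_self]
    have hdvd := minpoly.isIntegrallyClosed_dvd hint hroot
    have hassoc : Associated (minpoly A (ϖ * z)) (X ^ m - C (t * cAi) : A[X]) := by
      obtain ⟨q, hq⟩ := hdvd
      rcases hg.isUnit_or_isUnit hq with h | h
      · exact absurd h (minpoly.not_isUnit A _)
      · exact ⟨h.unit, by rw [IsUnit.unit_spec]; exact hq.symm⟩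
    have heq := eq_of_monic_of_associated (minpoly.monic hint)
      (monic_X_pow_sub_C _ hm0.ne') hassoc
    rw [heq, natDegree_X_pow_sub_C]

end Groth.Agent.R2.H67.TameRam
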