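import Mathlib

set_option autoImplicit false

/-!
# Units of `A[G]` for a domain `A` and a two-unique-sums additive group `G` (e.g. `ℤⁿ`)

helper67.  The "trivial units" theorem: every unit of `A[G]` is a monomial `single e a`, `a ∈ Aˣ`.
-/

namespace Groth.Agent.R2.H67.TorusUnits

open AddMonoidAlgebra Finset

variable {A : Type*} [CommRing A] [IsDomain A] {G : Type*} [AddCancelCommMonoid G] [TwoUniqueSums G]

/-- if `f * g = 1` in `A[G]` then the supports of `f` and `g` are singletons -/
theorem card_support_mul_le_one (f g : AddMonoidAlgebra A G) (h : f * g = 1) :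
    #f.coeff.support * #g.coeff.support ≤ 1 := by
  classical
  by_contra hlt
  push Not at hlt
  obtain ⟨p1, hp1, p2, hp2, hne, hu1, hu2⟩ := TwoUniqueSums.uniqueAdd_of_one_lt_card hlt
  rw [Finset.mem_product] at hp1 hp2
  have c1 : (f * g).coeff (p1.1 + p1.2) ≠ 0 := by
    rw [coeff_mul_add_of_uniqueAdd hu1]
    exact mul_ne_zero (Finsupp.mem_support_iff.mp hp1.1) (Finsupp.mem_support_iff.mp hp1.2)
  have c2 : (f * g).coeff (p2.1 + p2.2) ≠ 0 := by
    rw [coeff_mul_add_of_uniqueAdd hu2]
    exact mul_ne_zero (Finsupp.mem_support_iff.mp hp2.1) (Finsupp.mem_support_iff.mp hp2.2)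
  rw [h, one_def, coeff_single] at c1 c2
  have e1 : p1.1 + p1.2 = 0 := by
    by_contra hh
    exact c1 (Finsupp.single_eq_of_ne hh)
  have e2 : p2.1 + p2.2 = 0 := by
    by_contra hh
    exact c2 (Finsupp.single_eq_of_ne hh)
  have := hu1 hp2.1 hp2.2 (e2.trans e1.symm)
  exact hne (Prod.ext this.1.symm this.2.symm)

/-- every unit of `A[G]` is a monomial with unit coefficient -/
theorem exists_single_of_isUnit (f : AddMonoidAlgebra A G) (hf : IsUnit f) :
    ∃ (e : G) (a : A), IsUnit a ∧ f = single e a := by
  classical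
  obtain ⟨g, hfg⟩ := hf.exists_right_inv
  have hcard := card_support_mul_le_one f g hfg
  have hf0 : f ≠ 0 := by
    rintro rfl
    rw [zero_mul] at hfg
    exact zero_ne_one hfg
  have hg0 : g ≠ 0 := by
    rintro rfl
    rw [mul_zero] at hfg
    exact zero_ne_one hfg
  have hfs : f.coeff.support.Nonempty := by
    rw [Finsupp.support_nonempty_iff]
    intro h0
    exact hf0 (by rw [← ofCoeff_coeff f, h0]; rfl)
  have hgs : g.coeff.support.Nonempty := by
    rw [Finsupp.support_nonempty_iff]
    intro h0
    exact hg0 (by rw [← ofCoeff_coeff g, h0]; rfl)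
  have hf1 : #f.coeff.support = 1 := by
    have := Finset.card_pos.mpr hfs
    have := Finset.card_pos.mpr hgs
    nlinarith
  have hg1 : #g.coeff.support = 1 := by
    have := Finset.card_pos.mpr hfs
    have := Finset.card_pos.mpr hgs
    nlinarith
  obtain ⟨e, he⟩ := Finset.card_eq_one.mp hf1
  obtain ⟨e', he'⟩ := Finset.card_eq_one.mp hg1
  have hfe : f = single e (f.coeff e) := by
    rw [← ofCoeff_coeff f]
    congr 1
    exact (Finsupp.support_subset_singleton.mp he.subset)
  have hge : g = single e' (g.coeff e') := by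
    rw [← ofCoeff_coeff g]
    congr 1
    exact (Finsupp.support_subset_singleton.mp he'.subset)
  refine ⟨e, f.coeff e, ?_, hfe⟩
  rw [hfe, hge, single_mul_single] at hfg
  have := congrArg (fun x => x.coeff (e + e')) hfg
  simp only [coeff_single, Finsupp.single_eq_same, one_def] at this
  have hee : e + e' = 0 := by
    by_contra hh
    rw [Finsupp.single_eq_of_ne hh] at this
    exact mul_ne_zero (Finsupp.mem_support_iff.mp (he ▸ Finset.mem_singleton_self e))
      (Finsupp.mem_support_iff.mp (he' ▸ Finset.mem_singleton_self e')) this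
  rw [hee, Finsupp.single_eq_same] at this
  exact IsUnit.of_mul_eq_one _ this

omit [IsDomain A] [AddCancelCommMonoid G] [TwoUniqueSums G] in
/-- injectivity of monomials with nonzero coefficient -/
theorem single_eq_single_iff_of_ne_zero {e e' : G} {a a' : A} (ha : a ≠ 0)
    (h : (single e a : AddMonoidAlgebra A G) = single e' a') : e = e' ∧ a = a' := by
  classical
  have h1 := congrArg (fun x => x.coeff e) h
  simp only [coeff_single, Finsupp.single_eq_same] at h1
  by_cases hee : e = e'
  · subst hee
    rw [Finsupp.single_eq_same] at h1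
    exact ⟨rfl, h1⟩
  · rw [Finsupp.single_eq_of_ne hee] at h1
    exact absurd h1 ha

end Groth.Agent.R2.H67.TorusUnits
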