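import Mathlib
import Groth.Agent.R2.H67TorusUnits

set_option autoImplicit false

/-!
# Sections of `Y × 𝔾_mⁿ` over an affine `Y` are Laurent polynomials

helper67.
-/

universe u

open CategoryTheory CategoryTheory.Limits AlgebraicGeometry Opposite

namespace Groth.Agent.R2.H67.TorusProd

variable (n : ℕ)

/-- the coordinate ring of the split torus -/
abbrev B : Type u := ULift.{u} (AddMonoidAlgebra ℤ (Fin n → ℤ))

/-- monomials in `B` -/
noncomputable def monB (e : Fin n → ℤ) : B.{u} n := ULift.up (AddMonoidAlgebra.single e 1)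

lemma monB_zero : monB.{u} n 0 = 1 := rfl

lemma monB_add (e e' : Fin n → ℤ) : monB.{u} n (e + e') = monB n e * monB n e' := by
  apply ULift.ext
  change AddMonoidAlgebra.single (e + e') (1 : ℤ) =
    AddMonoidAlgebra.single e 1 * AddMonoidAlgebra.single e' 1
  rw [AddMonoidAlgebra.single_mul_single, one_mul]

/-- monomials as a monoid hom -/
noncomputable def monBHom : Multiplicative (Fin n → ℤ) →* B.{u} n where
  toFun e := monB n e.toAdd
  map_one' := monB_zero n
  map_mul' e e' := monB_add n e.toAdd e'.toAdd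

section Alg

variable {R S : Type*} [CommRing R] [CommRing S]

/-- ring homs out of `B` are determined by their values on monomials -/
lemma ringHom_ext_B {f g : B.{u} n →+* S} (h : ∀ e, f (monB n e) = g (monB n e)) : f = g := by
  have key : f.comp (ULift.ringEquiv.{0, u} (R := AddMonoidAlgebra ℤ (Fin n → ℤ))).symm.toRingHom =
      g.comp (ULift.ringEquiv.{0, u} (R := AddMonoidAlgebra ℤ (Fin n → ℤ))).symm.toRingHom := by
    apply AddMonoidAlgebra.ringHom_ext
    · intro r
      have : (AddMonoidAlgebra.single (0 : Fin n → ℤ) r : AddMonoidAlgebra ℤ (Fin n → ℤ)) =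
          ((r : ℤ) : AddMonoidAlgebra ℤ (Fin n → ℤ)) := by
        rw [AddMonoidAlgebra.intCast_def, Int.cast_id]
      rw [this, map_intCast, map_intCast]
    · intro e
      exact h e
  ext x
  have := RingHom.congr_fun key x.down
  exact this

/-- the canonical map `R[ℤⁿ] → S` induced by `φ : R → S` and `ψ : B → S` -/
noncomputable def PhiG (φ : R →+* S) (ψ : B.{u} n →+* S) : AddMonoidAlgebra R (Fin n → ℤ) →+* S :=
  AddMonoidAlgebra.liftNCRingHom φ ((ψ : B.{u} n →* S).comp (monBHom n)) (fun _ _ => Commute.all _ _)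

lemma PhiG_single (φ : R →+* S) (ψ : B.{u} n →+* S) (e : Fin n → ℤ) (a : R) :
    PhiG n φ ψ (AddMonoidAlgebra.single e a) = φ a * ψ (monB n e) := by
  rw [PhiG, AddMonoidAlgebra.liftNCRingHom_single]
  rfl

/-- inclusion of coefficients -/
noncomputable def iR : R →+* AddMonoidAlgebra R (Fin n → ℤ) := AddMonoidAlgebra.singleZeroRingHom

/-- inclusion of `B` -/
noncomputable def iB : B.{u} n →+* AddMonoidAlgebra R (Fin n → ℤ) :=
  (AddMonoidAlgebra.mapRingHom (Fin n → ℤ) (Int.castRingHom R)).comp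
    (ULift.ringEquiv.{0, u} (R := AddMonoidAlgebra ℤ (Fin n → ℤ))).toRingHom

lemma iB_monB (e : Fin n → ℤ) : iB.{u} n (R := R) (monB n e) = AddMonoidAlgebra.single e 1 := by
  change AddMonoidAlgebra.mapRingHom (Fin n → ℤ) (Int.castRingHom R)
    (AddMonoidAlgebra.single e 1) = _
  rw [AddMonoidAlgebra.mapRingHom_single, map_one]

lemma PhiG_comp_iR (φ : R →+* S) (ψ : B.{u} n →+* S) : (PhiG n φ ψ).comp (iR n) = φ := by
  ext a
  change PhiG n φ ψ (AddMonoidAlgebra.single 0 a) = φ a
  rw [PhiG_single, monB_zero, map_one, mul_one]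

lemma PhiG_comp_iB (φ : R →+* S) (ψ : B.{u} n →+* S) : (PhiG n φ ψ).comp (iB n) = ψ := by
  apply ringHom_ext_B
  intro e
  rw [RingHom.comp_apply, iB_monB, PhiG_single, map_one, one_mul]

/-- ring homs out of `R[ℤⁿ]` are determined by their restrictions to `R` and `B` -/
lemma ringHom_ext_alg {f g : AddMonoidAlgebra R (Fin n → ℤ) →+* S}
    (h1 : f.comp (iR n) = g.comp (iR n)) (h2 : f.comp (iB.{u} n) = g.comp (iB.{u} n)) : f = g := by
  apply AddMonoidAlgebra.ringHom_ext
  · intro r
    exact RingHom.congr_fun h1 r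
  · intro e
    have := RingHom.congr_fun h2 (monB n e)
    rwa [RingHom.comp_apply, RingHom.comp_apply, iB_monB] at this

/-- naturality of `PhiG` -/
lemma PhiG_natural {R' S' : Type*} [CommRing R'] [CommRing S'] (φ : R →+* S) (ψ : B.{u} n →+* S)
    (φ' : R' →+* S') (ψ' : B.{u} n →+* S') (ρ : R →+* R') (ρ' : S →+* S')
    (h1 : ρ'.comp φ = φ'.comp ρ) (h2 : ρ'.comp ψ = ψ') :
    ρ'.comp (PhiG n φ ψ) = (PhiG n φ' ψ').comp (AddMonoidAlgebra.mapRingHom (Fin n → ℤ) ρ) := by
  apply AddMonoidAlgebra.ringHom_ext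
  · intro r
    rw [RingHom.comp_apply, RingHom.comp_apply, AddMonoidAlgebra.mapRingHom_single, PhiG_single,
      PhiG_single, map_mul, monB_zero, map_one, map_one, map_one, mul_one, mul_one]
    exact RingHom.congr_fun h1 r
  · intro e
    rw [RingHom.comp_apply, RingHom.comp_apply, AddMonoidAlgebra.mapRingHom_single, PhiG_single,
      PhiG_single, map_one, map_one, map_one, one_mul, one_mul]
    exact RingHom.congr_fun h2 (monB n e)

end Alg

/-- if `S` is the pushout of `R` and `B` over an object with unique outgoing maps, then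
`PhiG : R[ℤⁿ] → S` is bijective -/
theorem bijective_PhiG_of_isPushout {Z' RR SS : CommRingCat.{u}} (a : Z' ⟶ RR)
    (b : Z' ⟶ CommRingCat.of (B.{u} n)) (φ : RR ⟶ SS) (ψ : CommRingCat.of (B.{u} n) ⟶ SS)
    (po : IsPushout a b φ ψ) (hZ : ∀ (W : CommRingCat.{u}) (f g : Z' ⟶ W), f = g) :
    Function.Bijective (PhiG n φ.hom ψ.hom) := by
  let L : CommRingCat.{u} := CommRingCat.of (AddMonoidAlgebra RR (Fin n → ℤ))
  let α : RR ⟶ L := CommRingCat.ofHom (iR n)
  let β : CommRingCat.of (B.{u} n) ⟶ L := CommRingCat.ofHom (iB n)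
  let d : SS ⟶ L := po.desc α β (hZ _ _ _)
  have hd1 : φ ≫ d = α := po.inl_desc _ _ _
  have hd2 : ψ ≫ d = β := po.inr_desc _ _ _
  have hd1' : d.hom.comp φ.hom = iR n := by
    have := congrArg CommRingCat.Hom.hom hd1
    exact this
  have hd2' : d.hom.comp ψ.hom = iB n := by
    have := congrArg CommRingCat.Hom.hom hd2
    exact this
  have left : d.hom.comp (PhiG n φ.hom ψ.hom) = RingHom.id _ := by
    apply ringHom_ext_alg.{u} n
    · rw [RingHom.comp_assoc, PhiG_comp_iR, hd1', RingHom.id_comp]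
    · rw [RingHom.comp_assoc, PhiG_comp_iB, hd2', RingHom.id_comp]
  have right : d ≫ CommRingCat.ofHom (PhiG n φ.hom ψ.hom) = 𝟙 SS := by
    apply po.hom_ext
    · rw [← Category.assoc, hd1, Category.comp_id]
      ext x
      have := RingHom.congr_fun (PhiG_comp_iR n φ.hom ψ.hom) x
      exact this
    · rw [← Category.assoc, hd2, Category.comp_id]
      ext x
      have := RingHom.congr_fun (PhiG_comp_iB n φ.hom ψ.hom) x
      exact this
  constructor
  · intro x y hxy
    have := congrArg d.hom hxy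
    have hx := RingHom.congr_fun left x
    have hy := RingHom.congr_fun left y
    rw [RingHom.comp_apply, RingHom.id_apply] at hx hy
    rw [← hx, ← hy, this]
  · intro s
    refine ⟨d.hom s, ?_⟩
    have := congrArg (fun f => f.hom s) right
    exact this

/-- the split torus -/
noncomputable abbrev T : Scheme.{u} := Spec (CommRingCat.of (B.{u} n))

/-- **Key lemma**: for `Y` affine and `Q = Y × T`, `Γ(Q) = Γ(Y)[ℤⁿ]`. -/
theorem bijective_PhiG_of_isPullback {Y Q : Scheme.{u}} [IsAffine Y] (fst : Q ⟶ Y)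
    (snd : Q ⟶ T.{u} n)
    (h : IsPullback fst snd (specULiftZIsTerminal.from Y) (specULiftZIsTerminal.from (T.{u} n))) :
    Function.Bijective (PhiG n fst.appTop.hom
      ((Scheme.ΓSpecIso (CommRingCat.of (B.{u} n))).inv ≫ snd.appTop).hom) := by
  have po := isPushout_appTop_of_isPullback h
  have po' : IsPushout (specULiftZIsTerminal.from Y).appTop
      ((specULiftZIsTerminal.from (T.{u} n)).appTop ≫ (Scheme.ΓSpecIso (CommRingCat.of (B.{u} n))).hom)
      fst.appTop ((Scheme.ΓSpecIso (CommRingCat.of (B.{u} n))).inv ≫ snd.appTop) := by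
    refine po.of_iso (Iso.refl _) (Iso.refl _) (Scheme.ΓSpecIso (CommRingCat.of (B.{u} n)))
      (Iso.refl _) ?_ ?_ ?_ ?_
    · simp
    · simp
    · simp
    · simp
  refine bijective_PhiG_of_isPushout n _ _ _ _ po' ?_
  intro W f g
  rw [← cancel_epi (Scheme.ΓSpecIso (CommRingCat.of (ULift.{u} ℤ))).inv]
  exact CommRingCat.isInitial.hom_ext _ _

end Groth.Agent.R2.H67.TorusProd
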