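import Mathlib
import Groth.Agent.R2.H67TorusProd

set_option autoImplicit false

/-!
# Units of `Γ(X × 𝔾_mⁿ)` for an integral scheme `X`

helper67.
-/

universe u

open CategoryTheory CategoryTheory.Limits AlgebraicGeometry Opposite TopologicalSpace

namespace Groth.Agent.R2.H67.TorusGlue

open Groth.Agent.R2.H67.TorusProd Groth.Agent.R2.H67.TorusUnits

/-- restriction of sections, as a ring hom -/
noncomputable def res {Y : Scheme.{u}} {U V : Y.Opens} (h : V ≤ U) : Γ(Y, U) →+* Γ(Y, V) :=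
  (Y.presheaf.map (homOfLE h).op).hom

lemma res_res {Y : Scheme.{u}} {U V W : Y.Opens} (h : V ≤ U) (h' : W ≤ V) (a : Γ(Y, U)) :
    res h' (res h a) = res (h'.trans h) a := by
  simp only [res]
  rw [← CommRingCat.comp_apply, ← Functor.map_comp]
  rfl

lemma res_comp {Y : Scheme.{u}} {U V W : Y.Opens} (h : V ≤ U) (h' : W ≤ V) :
    (res h').comp (res h) = res (h'.trans h) := by
  ext a
  exact res_res h h' a

variable (X : Scheme.{u}) (n : ℕ)

/-- the product `X × 𝔾_mⁿ` -/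
noncomputable abbrev P : Scheme.{u} := X ⨯ T.{u} n

/-- first projection -/
noncomputable abbrev p1 : P X n ⟶ X := prod.fst

/-- second projection -/
noncomputable abbrev p2 : P X n ⟶ T.{u} n := prod.snd

/-- preimage of an open under the first projection -/
noncomputable abbrev PU (U : X.Opens) : (P X n).Opens := (p1 X n) ⁻¹ᵁ U

lemma PU_mono {U V : X.Opens} (h : V ≤ U) : PU X n V ≤ PU X n U :=
  fun _ hx => h hx

/-- pullback of functions along the first projection -/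
noncomputable def phiU (U : X.Opens) : Γ(X, U) →+* Γ(P X n, PU X n U) := ((p1 X n).app U).hom

/-- the monomial functions, restricted -/
noncomputable def psiU (U : X.Opens) : B.{u} n →+* Γ(P X n, PU X n U) :=
  (res (le_top : PU X n U ≤ ⊤)).comp
    ((Scheme.ΓSpecIso (CommRingCat.of (B.{u} n))).inv ≫ (p2 X n).appTop).hom

/-- the comparison map `Γ(X,U)[ℤⁿ] → Γ(P, p₁⁻¹U)` -/
noncomputable def PhiU (U : X.Opens) : AddMonoidAlgebra Γ(X, U) (Fin n → ℤ) →+* Γ(P X n, PU X n U) :=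
  PhiG n (phiU X n U) (psiU X n U)

lemma phiU_res {U V : X.Opens} (h : V ≤ U) :
    (res (PU_mono X n h)).comp (phiU X n U) = (phiU X n V).comp (res h) := by
  ext a
  have := ConcreteCategory.congr_hom ((p1 X n).naturality (homOfLE h).op) a
  exact this.symm

lemma psiU_res {U V : X.Opens} (h : V ≤ U) :
    (res (PU_mono X n h)).comp (psiU X n U) = psiU X n V := by
  rw [psiU, ← RingHom.comp_assoc, res_comp]
  rfl

lemma PhiU_res {U V : X.Opens} (h : V ≤ U) :
    (res (PU_mono X n h)).comp (PhiU X n U) =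
      (PhiU X n V).comp (AddMonoidAlgebra.mapRingHom (Fin n → ℤ) (res h)) :=
  PhiG_natural n _ _ _ _ _ _ (phiU_res X n h) (psiU_res X n h)


/-- the product square over `Spec ℤ` -/
lemma isPullback_prod : IsPullback (p1 X n) (p2 X n) (specULiftZIsTerminal.from X)
    (specULiftZIsTerminal.from (T.{u} n)) :=
  IsPullback.of_is_product (limit.isLimit _) specULiftZIsTerminal

/-- the product square restricted to an open of `X` -/
lemma isPullback_restrict (U : X.Opens) :
    IsPullback (p1 X n ∣_ U) ((PU X n U).ι ≫ p2 X n) (specULiftZIsTerminal.from U.toScheme)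
      (specULiftZIsTerminal.from (T.{u} n)) := by
  have sq := (isPullback_morphismRestrict (p1 X n) U).paste_vert (isPullback_prod X n)
  have e : U.ι ≫ specULiftZIsTerminal.from X = specULiftZIsTerminal.from U.toScheme :=
    specULiftZIsTerminal.hom_ext _ _
  rwa [e] at sq

lemma morphismRestrict_appTop_topIso' {X Y : Scheme.{u}} (f : X ⟶ Y) (U : Y.Opens) :
    (f ∣_ U).appTop ≫ (f ⁻¹ᵁ U).topIso.hom = U.topIso.hom ≫ f.app U := by
  have e : f ∣_ U = f.resLE U (f ⁻¹ᵁ U) le_rfl := by simp [Scheme.Hom.resLE]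
  have w := (arrowResLEAppIso f U (f ⁻¹ᵁ U) le_rfl).hom.w
  have h2 : f.appLE U (f ⁻¹ᵁ U) le_rfl = f.app U := f.appLE_eq_app
  rw [e, ← h2]
  exact w.symm

lemma morphismRestrict_appTop_topIso (U : X.Opens) :
    (p1 X n ∣_ U).appTop ≫ (PU X n U).topIso.hom = U.topIso.hom ≫ (p1 X n).app U :=
  morphismRestrict_appTop_topIso' (p1 X n) U

lemma ι_appTop_topIso {Y : Scheme.{u}} (U : Y.Opens) :
    U.ι.appTop ≫ U.topIso.hom = Y.presheaf.map (homOfLE (le_top : U ≤ ⊤)).op := by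
  rw [Scheme.Opens.ι_appTop, Scheme.Opens.topIso_hom]
  exact (Y.presheaf.map_comp _ _).symm

lemma ι_comp_appTop_topIso (U : X.Opens) :
    ((PU X n U).ι ≫ p2 X n).appTop ≫ (PU X n U).topIso.hom =
      (p2 X n).appTop ≫ (P X n).presheaf.map (homOfLE (le_top : PU X n U ≤ ⊤)).op := by
  rw [Scheme.Hom.comp_appTop, Category.assoc, ι_appTop_topIso]

/-- **Local structure**: over an affine open `U`, `Γ(P, p₁⁻¹U) = Γ(X,U)[ℤⁿ]`. -/
theorem bijective_PhiU {U : X.Opens} (hU : IsAffineOpen U) : Function.Bijective (PhiU X n U) := by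
  have : IsAffine U.toScheme := hU
  have K := bijective_PhiG_of_isPullback n _ _ (isPullback_restrict X n U)
  set ΦK := PhiG n (p1 X n ∣_ U).appTop.hom
    ((Scheme.ΓSpecIso (CommRingCat.of (B.{u} n))).inv ≫ ((PU X n U).ι ≫ p2 X n).appTop).hom with hΦK
  let ρ : Γ(U.toScheme, ⊤) →+* Γ(X, U) := U.topIso.hom.hom
  let ρi : Γ(X, U) →+* Γ(U.toScheme, ⊤) := U.topIso.inv.hom
  let ρ' : Γ((PU X n U).toScheme, ⊤) →+* Γ(P X n, PU X n U) := (PU X n U).topIso.hom.hom
  have hρ1 : ρ.comp ρi = RingHom.id _ := by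
    ext a
    exact ConcreteCategory.congr_hom U.topIso.inv_hom_id a
  have hρ2 : ρi.comp ρ = RingHom.id _ := by
    ext a
    exact ConcreteCategory.congr_hom U.topIso.hom_inv_id a
  have h1 : ρ'.comp (p1 X n ∣_ U).appTop.hom = (phiU X n U).comp ρ := by
    ext a
    exact ConcreteCategory.congr_hom (morphismRestrict_appTop_topIso X n U) a
  have h2 : ρ'.comp ((Scheme.ΓSpecIso (CommRingCat.of (B.{u} n))).inv ≫
      ((PU X n U).ι ≫ p2 X n).appTop).hom = psiU X n U := by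
    ext a
    exact ConcreteCategory.congr_hom (ι_comp_appTop_topIso X n U)
      ((Scheme.ΓSpecIso (CommRingCat.of (B.{u} n))).inv a)
  have nat := PhiG_natural n _ _ _ _ ρ ρ' h1 h2
  have key : PhiU X n U = (ρ'.comp ΦK).comp (AddMonoidAlgebra.mapRingHom (Fin n → ℤ) ρi) := by
    rw [nat, RingHom.comp_assoc, ← AddMonoidAlgebra.mapRingHom_comp, hρ1,
      AddMonoidAlgebra.mapRingHom_id, RingHom.comp_id]
    rfl
  rw [key]
  have hb1 : Function.Bijective ρ' :=
    ConcreteCategory.bijective_of_isIso (PU X n U).topIso.hom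
  have hb2 : Function.Bijective (AddMonoidAlgebra.mapRingHom (Fin n → ℤ) ρi) := by
    rw [Function.bijective_iff_has_inverse]
    refine ⟨AddMonoidAlgebra.mapRingHom (Fin n → ℤ) ρ, ?_, ?_⟩
    · intro x
      rw [← RingHom.comp_apply, ← AddMonoidAlgebra.mapRingHom_comp, hρ1,
        AddMonoidAlgebra.mapRingHom_id, RingHom.id_apply]
    · intro x
      rw [← RingHom.comp_apply, ← AddMonoidAlgebra.mapRingHom_comp, hρ2,
        AddMonoidAlgebra.mapRingHom_id, RingHom.id_apply]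
  exact (hb1.comp K).comp hb2


/-- the monomial functions on `P` -/
noncomputable def tau (e : Fin n → ℤ) : Γ(P X n, ⊤) :=
  (p2 X n).appTop ((Scheme.ΓSpecIso (CommRingCat.of (B.{u} n))).inv (monB n e))

lemma psiU_monB (U : X.Opens) (e : Fin n → ℤ) :
    psiU X n U (monB n e) = res (le_top : PU X n U ≤ ⊤) (tau X n e) := rfl

lemma phiU_top_res (U : X.Opens) (a : Γ(X, ⊤)) :
    res (le_top : PU X n U ≤ ⊤) ((p1 X n).appTop a) = phiU X n U (res (le_top : U ≤ ⊤) a) :=
  RingHom.congr_fun (phiU_res X n (le_top : U ≤ ⊤)) a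

/-- restriction of `p₁^*(a) · t^e` to `p₁⁻¹ U` -/
lemma res_mul_tau (U : X.Opens) (a : Γ(X, ⊤)) (e : Fin n → ℤ) :
    res (le_top : PU X n U ≤ ⊤) ((p1 X n).appTop a * tau X n e) =
      PhiU X n U (AddMonoidAlgebra.single e (res (le_top : U ≤ ⊤) a)) := by
  rw [PhiU, PhiG_single, map_mul, phiU_top_res, psiU_monB]

section Integral

variable [IsIntegral X]

/-- nonempty affine opens -/
abbrev NA : Type u := {U : X.Opens // IsAffineOpen U ∧ Nonempty U}

instance (U : NA X) : Nonempty (U.1 : X.Opens) := U.2.2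

omit [IsIntegral X] in
lemma exists_NA_le (V : X.Opens) (x : X) (hx : x ∈ V) : ∃ W : NA X, W.1 ≤ V ∧ x ∈ W.1 := by
  obtain ⟨W, hW, hxW, hWV⟩ := exists_isAffineOpen_mem_and_subset (x := x) (U := V) hx
  exact ⟨⟨W, hW, ⟨⟨x, hxW⟩⟩⟩, hWV, hxW⟩

lemma exists_NA_le_inf (U U' : NA X) : ∃ W : NA X, W.1 ≤ U.1 ⊓ U'.1 := by
  obtain ⟨x, hx⟩ : ((U.1 : Set X) ∩ (U'.1 : Set X)).Nonempty :=
    nonempty_preirreducible_inter U.1.isOpen U'.1.isOpen
      (Set.nonempty_coe_sort.mp U.2.2) (Set.nonempty_coe_sort.mp U'.2.2)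
  obtain ⟨W, hW, -⟩ := exists_NA_le X (U.1 ⊓ U'.1) x hx
  exact ⟨W, hW⟩

omit [IsIntegral X] in
lemma cover_NA : (⊤ : X.Opens) ≤ ⨆ U : NA X, U.1 := by
  intro x _
  obtain ⟨W, -, hxW⟩ := exists_NA_le X ⊤ x trivial
  exact Opens.mem_iSup.mpr ⟨W, hxW⟩

omit [IsIntegral X] in
lemma cover_PU : (⊤ : (P X n).Opens) ≤ ⨆ U : NA X, PU X n U.1 := by
  intro y _
  obtain ⟨W, -, hxW⟩ := exists_NA_le X ⊤ ((p1 X n) y) trivial
  exact Opens.mem_iSup.mpr ⟨W, hxW⟩

lemma res_injective {U V : X.Opens} (h : V ≤ U) [Nonempty V] : Function.Injective (res h) :=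
  map_injective_of_isIntegral X (homOfLE h)

/-- local form of a unit -/
lemma exists_local (v : Γ(P X n, ⊤)) (hv : IsUnit v) (U : NA X) :
    ∃ (e : Fin n → ℤ) (a : Γ(X, U.1)), IsUnit a ∧
      res (le_top : PU X n U.1 ≤ ⊤) v = PhiU X n U.1 (AddMonoidAlgebra.single e a) := by
  have hb := bijective_PhiU X n U.2.1
  let E := RingEquiv.ofBijective (PhiU X n U.1) hb
  have hu : IsUnit (E.symm (res (le_top : PU X n U.1 ≤ ⊤) v)) := (hv.map _).map E.symm
  obtain ⟨e, a, ha, hea⟩ := exists_single_of_isUnit _ hu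
  refine ⟨e, a, ha, ?_⟩
  rw [← hea]
  exact (E.apply_symm_apply _).symm

/-- **Units on tori** (existence and uniqueness). -/
theorem existsUnique_units (v : Γ(P X n, ⊤)) (hv : IsUnit v) :
    ∃! p : (Γ(X, ⊤))ˣ × (Fin n → ℤ),
      v = (p1 X n).appTop (p.1 : Γ(X, ⊤)) * tau X n p.2 := by
  choose e a ha hva using exists_local X n v hv
  -- compatibility for `W ≤ U`
  have hle : ∀ (U W : NA X) (h : W.1 ≤ U.1), e W = e U ∧ a W = res h (a U) := by
    intro U W h
    have h1 : PhiU X n W.1 (AddMonoidAlgebra.single (e W) (a W)) =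
        PhiU X n W.1 (AddMonoidAlgebra.single (e U) (res h (a U))) := by
      rw [← hva W, ← res_res (le_top : PU X n U.1 ≤ ⊤) (PU_mono X n h) v, hva U,
        ← RingHom.comp_apply, PhiU_res, RingHom.comp_apply, AddMonoidAlgebra.mapRingHom_single]
    have h2 := (bijective_PhiU X n W.2.1).1 h1
    exact single_eq_single_iff_of_ne_zero (ha W).ne_zero h2
  -- compatibility on overlaps
  have hcompat : ∀ U U' : NA X, e U = e U' ∧
      res (inf_le_left : U.1 ⊓ U'.1 ≤ U.1) (a U) = res (inf_le_right : U.1 ⊓ U'.1 ≤ U'.1) (a U') := by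
    intro U U'
    obtain ⟨W, hW⟩ := exists_NA_le_inf X U U'
    have hWU : W.1 ≤ U.1 := hW.trans inf_le_left
    have hWU' : W.1 ≤ U'.1 := hW.trans inf_le_right
    refine ⟨((hle U W hWU).1).symm.trans (hle U' W hWU').1, ?_⟩
    apply res_injective X hW
    rw [res_res, res_res, ← (hle U W hWU).2, ← (hle U' W hWU').2]
  -- glue
  obtain ⟨u, hu, -⟩ := X.sheaf.existsUnique_gluing' (fun U : NA X => U.1) ⊤
    (fun U => homOfLE le_top) (cover_NA X) a (fun U U' => (hcompat U U').2)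
  have hu' : ∀ U : NA X, res (le_top : U.1 ≤ ⊤) u = a U := hu
  -- `u` is a unit
  have huu : IsUnit u := by
    apply RingedSpace.isUnit_of_isUnit_germ X.toRingedSpace ⊤ u
    intro x hx
    obtain ⟨W, -, hxW⟩ := exists_NA_le X ⊤ x trivial
    have := TopCat.Presheaf.germ_res_apply X.presheaf (homOfLE (le_top : W.1 ≤ ⊤)) x hxW u
    rw [← this]
    have h3 : X.presheaf.map (homOfLE (le_top : W.1 ≤ ⊤)).op u = a W := hu' W
    rw [h3]
    exact (ha W).map _
  obtain ⟨U₀⟩ : Nonempty (NA X) := by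
    obtain ⟨x⟩ : Nonempty X := inferInstance
    obtain ⟨W, -, -⟩ := exists_NA_le X ⊤ x trivial
    exact ⟨W⟩
  have hv_eq : v = (p1 X n).appTop u * tau X n (e U₀) := by
    apply (P X n).sheaf.eq_of_locally_eq' (fun U : NA X => PU X n U.1) ⊤
      (fun U => homOfLE le_top) (cover_PU X n)
    intro U
    change res (le_top : PU X n U.1 ≤ ⊤) v = res (le_top : PU X n U.1 ≤ ⊤) _
    rw [res_mul_tau, hva U, hu' U, (hcompat U U₀).1]
  refine ⟨(huu.unit, e U₀), hv_eq, ?_⟩
  rintro ⟨u', e'⟩ h'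
  have h4 : PhiU X n U₀.1 (AddMonoidAlgebra.single (e U₀) (res (le_top : U₀.1 ≤ ⊤) u)) =
      PhiU X n U₀.1 (AddMonoidAlgebra.single e' (res (le_top : U₀.1 ≤ ⊤) (u' : Γ(X, ⊤)))) := by
    rw [← res_mul_tau, ← res_mul_tau, ← hv_eq, ← h']
  have h5 := (bijective_PhiU X n U₀.2.1).1 h4
  have hne : res (le_top : U₀.1 ≤ ⊤) u ≠ 0 := (huu.map _).ne_zero
  obtain ⟨h6, h7⟩ := single_eq_single_iff_of_ne_zero hne h5
  have h8 : u = (u' : Γ(X, ⊤)) := res_injective X (le_top : U₀.1 ≤ ⊤) h7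
  ext1
  · exact Units.ext h8.symm
  · exact h6.symm

end Integral

end Groth.Agent.R2.H67.TorusGlue
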