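import Mathlib
import Groth.Agent.Lib.Helper27TraceLen

/-!
# Trace modulo `p` in terms of ramification indices and residue traces (helper67)
-/

set_option autoImplicit false
set_option linter.style.haveILetI false
set_option linter.unusedSectionVars false
set_option linter.deprecated false

open Module

namespace Groth.Agent.R2.H67.TraceRam

section Pi

variable {k : Type*} [Field k] {ι : Type*} [Fintype ι] [DecidableEq ι]

/-- Trace of a "diagonal" endomorphism of a finite product. -/
theorem trace_pi_map (M : ι → Type*) [∀ i, AddCommGroup (M i)] [∀ i, Module k (M i)]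
    [∀ i, FiniteDimensional k (M i)] (f : ∀ i, M i →ₗ[k] M i) :
    LinearMap.trace k (∀ i, M i) (LinearMap.pi fun i => f i ∘ₗ LinearMap.proj i) =
      ∑ i, LinearMap.trace k (M i) (f i) := by
  classical
  let b : ∀ i, Basis (Fin (finrank k (M i))) k (M i) := fun i => Module.finBasis k (M i)
  rw [LinearMap.trace_eq_matrix_trace k (Pi.basis b)]
  simp only [Matrix.trace, Matrix.diag_apply, LinearMap.toMatrix_apply]
  rw [Fintype.sum_sigma]
  refine Finset.sum_congr rfl fun i _ => ?_
  rw [LinearMap.trace_eq_matrix_trace k (b i)]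
  simp only [Matrix.trace, Matrix.diag_apply, LinearMap.toMatrix_apply]
  refine Finset.sum_congr rfl fun a _ => ?_
  rw [Pi.basis_repr, Pi.basis_apply]
  simp

/-- Trace on a finite product of finite-dimensional algebras. -/
theorem algebra_trace_pi (T : ι → Type*) [∀ i, CommRing (T i)] [∀ i, Algebra k (T i)]
    [∀ i, FiniteDimensional k (T i)] (x : ∀ i, T i) :
    Algebra.trace k (∀ i, T i) x = ∑ i, Algebra.trace k (T i) (x i) := by
  rw [Algebra.trace_apply]
  have : Algebra.lmul k (∀ i, T i) x =
      LinearMap.pi fun i => (Algebra.lmul k (T i) (x i)) ∘ₗ LinearMap.proj i := by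
    ext y i
    simp
  rw [this, trace_pi_map]
  rfl

end Pi

section Local

universe u

/-- Trace of a finite local algebra through any surjection onto a field. -/
theorem trace_eq_length_smul (k T κ : Type u) [Field k] [CommRing T] [Algebra k T]
    [FiniteDimensional k T] [IsLocalRing T] [Field κ] [Algebra k κ]
    (π : T →ₐ[k] κ) (hπ : Function.Surjective π) (x : T) :
    Algebra.trace k T x = (Module.length T T).toNat • Algebra.trace k κ (π x) := by
  rw [Groth.Agent.Lib.Helper27TraceLen.trace_eq k T x]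
  congr 1
  have hker : RingHom.ker (π : T →+* κ) = IsLocalRing.maximalIdeal T := by
    have : (RingHom.ker (π : T →+* κ)).IsMaximal := RingHom.ker_isMaximal_of_surjective _ hπ
    exact IsLocalRing.eq_maximalIdeal this
  let e1 : (T ⧸ RingHom.ker (π : T →+* κ)) ≃ₐ[k] κ :=
    Ideal.quotientKerAlgEquivOfSurjective hπ
  let e2 : IsLocalRing.ResidueField T ≃ₐ[k] (T ⧸ RingHom.ker (π : T →+* κ)) :=
    Ideal.quotientEquivAlgOfEq k hker.symm
  have h := Algebra.trace_eq_of_algEquiv (e2.trans e1) (IsLocalRing.residue T x)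
  rw [← h]
  congr 1

end Local

section QuotPow

variable {B : Type*} [CommRing B] [IsDedekindDomain B] (Q : Ideal B) [hQ : Q.IsMaximal]

theorem isLocalRing_quotient_pow {n : ℕ} (hn : n ≠ 0) : IsLocalRing (B ⧸ Q ^ n) := by
  let Bq := Localization.AtPrime Q
  have hne : IsLocalRing.maximalIdeal Bq ^ n ≠ ⊤ := by
    intro h
    have h1 : IsLocalRing.maximalIdeal Bq ^ n ≤ IsLocalRing.maximalIdeal Bq :=
      Ideal.pow_le_self hn
    rw [h] at h1
    exact (IsLocalRing.maximalIdeal.isMaximal Bq).ne_top (top_le_iff.mp h1)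
  haveI : Nontrivial (Bq ⧸ IsLocalRing.maximalIdeal Bq ^ n) := Ideal.Quotient.nontrivial_iff.mpr hne
  haveI : IsLocalRing (Bq ⧸ IsLocalRing.maximalIdeal Bq ^ n) :=
    IsLocalRing.of_surjective' (Ideal.Quotient.mk _) Ideal.Quotient.mk_surjective
  exact (IsLocalization.AtPrime.equivQuotMaximalIdealPow Q Bq n).symm.toRingEquiv.isLocalRing

theorem length_quotient_pow (hQ0 : Q ≠ ⊥) (n : ℕ) :
    Module.length (B ⧸ Q ^ n) (B ⧸ Q ^ n) = n := by
  let Bq := Localization.AtPrime Q
  haveI : IsDiscreteValuationRing Bq :=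
    IsLocalization.AtPrime.isDiscreteValuationRing_of_dedekind_domain B hQ0 Bq
  let T' := Bq ⧸ IsLocalRing.maximalIdeal Bq ^ n
  let e := IsLocalization.AtPrime.equivQuotMaximalIdealPow Q Bq n
  have h1 : Module.length B (B ⧸ Q ^ n) = Module.length (B ⧸ Q ^ n) (B ⧸ Q ^ n) :=
    Module.length_eq_of_surjective Ideal.Quotient.mk_surjective
  have h2 : Module.length B (B ⧸ Q ^ n) = Module.length B T' := e.toLinearEquiv.length_eq
  have hsurj : Function.Surjective (algebraMap B T') := by
    intro t
    obtain ⟨x, rfl⟩ := e.surjective t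
    obtain ⟨b, rfl⟩ := Ideal.Quotient.mk_surjective x
    exact ⟨b, rfl⟩
  have h3 : Module.length B T' = Module.length T' T' := Module.length_eq_of_surjective hsurj
  have h4 : Module.length Bq T' = Module.length T' T' :=
    Module.length_eq_of_surjective Ideal.Quotient.mk_surjective
  rw [← h1, h2, h3, ← h4]
  exact IsDiscreteValuationRing.length_quotient_pow_maximalIdeal Bq n

end QuotPow

section Main

universe u

open UniqueFactorizationMonoid in
/-- `Tr_{(B/pB)/(A/p)}(y) = ∑_P e(P|p) · Tr_{(B/P)/(A/p)}(y)`, sum over the prime factors of `pB`. -/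
theorem trace_quotient_map_eq_sum (A B : Type u) [CommRing A] [CommRing B] [IsDedekindDomain A]
    [IsDedekindDomain B] [Algebra A B] [Module.Finite A B] [Module.IsTorsionFree A B]
    (p : Ideal A) [p.IsMaximal] (hp : p ≠ ⊥) (y : B) :
    Algebra.trace (A ⧸ p) (B ⧸ p.map (algebraMap A B)) (Ideal.Quotient.mk _ y) =
      ∑ P : (factors (p.map (algebraMap A B))).toFinset,
        (p.ramificationIdx' P.1) •
          Algebra.trace (A ⧸ p) (B ⧸ P.1) (Ideal.Quotient.mk P.1 y) := by
  classical
  letI := Ideal.Quotient.field p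
  have hpB : p.map (algebraMap A B) ≠ ⊥ := Ideal.map_ne_bot_of_ne_bot hp
  let eR := Ideal.Factors.piQuotientEquiv p hpB
  let e : (B ⧸ p.map (algebraMap A B)) ≃ₐ[A ⧸ p]
      (∀ P : (factors (p.map (algebraMap A B))).toFinset, B ⧸ P.1 ^ p.ramificationIdx' P.1) :=
    AlgEquiv.ofRingEquiv (f := eR) (fun x => by
      obtain ⟨a, rfl⟩ := Ideal.Quotient.mk_surjective x
      rfl)
  have he : e (Ideal.Quotient.mk _ y) = fun _ => Ideal.Quotient.mk _ y := rfl
  rw [← Algebra.trace_eq_of_algEquiv e, he, algebra_trace_pi]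
  refine Finset.sum_congr rfl fun P _ => ?_
  have hP0 : P.1 ≠ ⊥ := Ideal.Factors.ne_bot p P
  haveI hPmax : P.1.IsMaximal := (Ideal.Factors.isPrime p P).isMaximal hP0
  have hne : p.ramificationIdx' P.1 ≠ 0 := Ideal.Factors.ramificationIdx_ne_zero p P
  haveI := isLocalRing_quotient_pow P.1 hne
  letI := Ideal.Quotient.field P.1
  let π : (B ⧸ P.1 ^ p.ramificationIdx' P.1) →ₐ[A ⧸ p] (B ⧸ P.1) :=
    { Ideal.Quotient.factor (Ideal.pow_le_self hne) with
      commutes' := fun x => by
        obtain ⟨a, rfl⟩ := Ideal.Quotient.mk_surjective x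
        rfl }
  have hπ : Function.Surjective π := Ideal.Quotient.factor_surjective (Ideal.pow_le_self hne)
  rw [trace_eq_length_smul (A ⧸ p) (B ⧸ P.1 ^ p.ramificationIdx' P.1) (B ⧸ P.1) π hπ,
    length_quotient_pow P.1 hP0, ENat.toNat_natCast]
  rfl

end Main

end Groth.Agent.R2.H67.TraceRam
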