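import Groth.Agent.Lib.Helper1Fibres
import Groth.Agent.Lib.Helper1TorG
import Groth.Agent.Lib.Helper1LBC2

/-!
# Trimming a bounded above complex of finite free modules by its fibres (helper67)

`exists_trim`: a bounded above complex `K` of finite free modules whose fibres at all maximal
ideals are exact outside `[a, c]` is universally quasi-isomorphic to a complex `E` of finite
projective modules concentrated in `[a, c]`: `H^i(E ⊗_A B) ≅ H^i(K ⊗_A B)` for every `A → B`.
(Interface of helper1's tor-amplitude library.)
-/

set_option autoImplicit false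
set_option linter.unusedSectionVars false
set_option linter.style.haveILetI false
universe u

open CategoryTheory CategoryTheory.Limits DerivedCategory

namespace Groth.Agent.R2.H67.TrimAlg

open Groth.Agent.Lib.Helper1.Tor Groth.Agent.Lib.Helper1.LDer Groth.Agent.Lib.Helper1.LocalCx
  Groth.Agent.Lib.Helper1.Extend

attribute [local instance] HasDerivedCategory.standard

variable {R : Type u} [CommRing R]

/-- exactness of the fibre at a maximal ideal (residue field form) passes to the localization -/
lemma exactAt_TC_residueField_atPrime' (m : Ideal R) [m.IsMaximal] (F : DRing.Cx R) (i : ℤ)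
    (h : ((bcCx (algebraMap R m.ResidueField)).obj F).ExactAt i) :
    ((TC (ModuleCat.of (Localization.AtPrime m)
      (IsLocalRing.ResidueField (Localization.AtPrime m)))).obj
        ((bcCx (algebraMap R (Localization.AtPrime m))).obj F)).ExactAt i := by
  let S := Localization.AtPrime m
  let f : R →+* S := algebraMap R S
  let g : S →+* IsLocalRing.ResidueField S := IsLocalRing.residue S
  have hfg : algebraMap R m.ResidueField = g.comp f := rfl
  have h3 : ((bcCx (g.comp f)).obj F).ExactAt i := h.of_iso (bcCxEqIso hfg F)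
  have h4 : ((bcCx g).obj ((bcCx f).obj F)).ExactAt i := h3.of_iso (bcCxCompIso f g F)
  have h5 := (exactAt_bc_iff_TC g ((bcCx f).obj F) i).1 h4
  let eκ : (ModuleCat.restrictScalars.{u} g).obj (ModuleCat.of (IsLocalRing.ResidueField S)
      (IsLocalRing.ResidueField S)) ≅ ModuleCat.of S (IsLocalRing.ResidueField S) :=
    (e₀ (A := S) (IsLocalRing.ResidueField S)).toModuleIso
  exact (exactAt_TC_congr eκ _ i).1 h5

/-- a bounded above complex of finite free modules whose fibres at all maximal ideals
are exact outside `[a, b]` has tor amplitude in `[a, b]` (residue field form). -/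
theorem hasTorAmp_of_fibres' (F : DRing.Cx R) (bF : ℤ) (hFb : DRing.VanishesAbove F bF)
    (hFf : DRing.TermwiseFiniteFree F) (a b : ℤ)
    (h : ∀ (m : Ideal R) [m.IsMaximal] (i : ℤ), (i < a ∨ b < i) →
      ((bcCx (algebraMap R m.ResidueField)).obj F).ExactAt i) :
    DRing.HasTorAmplitudeIn R a b (DRing.toD F) := by
  refine (descFam'_maximal (R := R)).hasTorAmp _ a b (fun m => ?_)
  have := m.isMaximal
  let S := Localization.AtPrime m.asIdeal
  let Fm := (bcCx (algebraMap R S)).obj F
  have hloc : DRing.HasTorAmplitudeIn S a b (DRing.toD Fm) :=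
    hasTorAmp_of_exactAt_TC_residueField Fm bF (vanishesAbove_bc _ F bF hFb)
      (termwiseFiniteFree_bc _ F hFf) a b
      (fun i hi => exactAt_TC_residueField_atPrime' m.asIdeal F i (h m.asIdeal i hi))
  exact hasTorAmp_of_iso (mapQIso (ext R S) F).symm hloc

/-- trimming: the complex `E` of finite projective modules in `[a, c]` computing the
cohomology of all base changes of `K`. -/
theorem exists_trim (K : DRing.Cx R) (bK : ℤ) (hKb : DRing.VanishesAbove K bK)
    (hKf : DRing.TermwiseFiniteFree K) (a c : ℤ)
    (h : ∀ (m : Ideal R) [m.IsMaximal] (i : ℤ), (i < a ∨ c < i) →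
      ((bcCx (algebraMap R m.ResidueField)).obj K).ExactAt i) :
    ∃ E : DRing.Cx R, DRing.VanishesOutside E a c ∧ DRing.TermwiseFiniteProjective E ∧
      ∀ (B : Type u) [CommRing B] (φ : R →+* B) (i : ℤ),
        Nonempty (((bcCx φ).obj E).homology i ≅ ((bcCx φ).obj K).homology i) := by
  have hamp := hasTorAmp_of_fibres' K bK hKb hKf a c h
  obtain ⟨E, hE, hEf, ⟨e⟩⟩ := exists_finiteProjective_of_pc_of_torAmp (DRing.toD K)
    ⟨K, bK, hKb, hKf, ⟨Iso.refl _⟩⟩ a c hamp
  refine ⟨E, hE, hEf, fun B _ φ i => ?_⟩
  have hEb : DRing.VanishesAbove E c := fun j hj => hE j (Or.inr hj)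
  haveI hEK : E.IsKProjective := by
    apply isKProjective_of_vanishesAbove E c hEb
    intro j
    have := (hEf j).2
    exact ModuleCat.projective_of_module_projective _
  obtain ⟨g, hg⟩ := Groth.Agent.Lib.Helper1.Cone.exists_chain_map E K e.hom
  have hgi : IsIso (Q.map g) := by rw [hg]; infer_instance
  have hEflat : DRing.TermwiseFlat E := fun j =>
    have := (hEf j).2
    inferInstance
  have hKflat : DRing.TermwiseFlat K := fun j =>
    have := (hKf j).2
    inferInstance
  have h1 : IsIso (Q.map ((bcCx φ).map g)) :=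
    isIso_Q_map_bc φ g c bK hEb hKb hEflat hKflat hgi
  have h2 : QuasiIso ((bcCx φ).map g) :=
    (DerivedCategory.isIso_Q_map_iff_quasiIso (φ := (bcCx φ).map g)).1 h1
  have h3 : IsIso (HomologicalComplex.homologyMap ((bcCx φ).map g) i) :=
    (quasiIsoAt_iff_isIso_homologyMap _ i).1 (h2.quasiIsoAt i)
  exact ⟨asIso (HomologicalComplex.homologyMap ((bcCx φ).map g) i)⟩

end Groth.Agent.R2.H67.TrimAlg
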