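import Groth.Agent.R2.H67TrimAlg
import Groth.Agent.R2.H11CbcFinal
import Groth.Agent.R2.H11CbcMumford
import Groth.Agent.R2.H16CbcFIFib
import Groth.Agent.R2.H16CbcFinal
import Groth.Agent.R2.H8CbcG9
import Groth.Agent.Lib.Helper3FlatCx

/-!
# The Grothendieck complex trimmed to the cohomological amplitude (helper67)

For `X` proper over a Noetherian ring `A` and `F` coherent and flat over `A` (with finite
cohomology), a complex `L` of finite projective `A`-modules concentrated in `[a, c]` computing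
`H^p(X_B, F_B)` for all `A`-algebras `B`, when `H^p(X, F) = 0` for `p > c` and the cohomology of
all fibres vanishes in degrees `< a`.
-/

set_option autoImplicit false
set_option linter.unusedSectionVars false
set_option linter.style.haveILetI false
universe u

open CategoryTheory CategoryTheory.Limits AlgebraicGeometry Opposite TopologicalSpace

namespace Groth.Agent.R2.H67.TrimGeom

open Groth.Agent.R2.H11.CbcMumford Groth.Agent.R2.H16.CbcFIFib Groth.Agent.R2.H16.CbcGeom
  Groth.Agent.Lib.Helper1.LDer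

section neg

variable {A B : Type u} [CommRing A] [CommRing B] (φ : A →+* B)

theorem bcCx_negCx (L0 : ChainComplex (ModuleCat.{u} A) ℤ) :
    (bcCx φ).obj (negCx L0) = negCx (CohIII.bcCx φ L0) := rfl

theorem exactAt_bcCx_negCx_iff (L0 : ChainComplex (ModuleCat.{u} A) ℤ) (i : ℤ) :
    ((bcCx φ).obj (negCx L0)).ExactAt i ↔
      Subsingleton ↥((CohIII.bcCx φ L0).homology (-i)) := by
  rw [bcCx_negCx, HomologicalComplex.exactAt_iff_isZero_homology]
  constructor
  · intro h
    exact ModuleCat.subsingleton_of_isZero (h.of_iso (negCxHomologyIso (CohIII.bcCx φ L0) i).symm)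
  · intro h
    exact (ModuleCat.isZero_of_subsingleton _).of_iso (negCxHomologyIso (CohIII.bcCx φ L0) i)

theorem exactAt_negCx_iff (L0 : ChainComplex (ModuleCat.{u} A) ℤ) (i : ℤ) :
    (negCx L0).ExactAt i ↔ IsZero (L0.homology (-i)) := by
  rw [HomologicalComplex.exactAt_iff_isZero_homology]
  exact ⟨fun h => h.of_iso (negCxHomologyIso L0 i).symm, fun h => h.of_iso (negCxHomologyIso L0 i)⟩

end neg

section main

variable (A : Type u) [CommRing A] [IsNoetherianRing A] (X : Scheme.{u})
  [X.Over (Spec (CommRingCat.of A))] [IsProper (X ↘ Spec (CommRingCat.of A))] (F : X.Modules)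

/-- the trimmed Grothendieck complex. -/
theorem exists_complex (hF : Coh.IsCoh F)
    (hfl : FlatMod.IsFlatOver (X ↘ Spec (CommRingCat.of A)) F)
    (hfinH : ∀ n, Module.Finite A (Coh.HH X F n)) (a c : ℤ)
    (hlow : ∀ (y : ↑(Spec (CommRingCat.of A))) (p : ℕ), (p : ℤ) < a →
      Subsingleton (CohIII.fiberH (X ↘ Spec (CommRingCat.of A)) F y p))
    (hup : ∀ p : ℕ, c < (p : ℤ) → Subsingleton (Coh.HH X F p)) :
    ∃ L : CochainComplex (ModuleCat.{u} A) ℤ,
      (∀ i, Module.Finite A (L.X i) ∧ Module.Projective A (L.X i)) ∧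
      (∀ i : ℤ, i < a ∨ c < i → IsZero (L.X i)) ∧
      ∀ (B : Type u) [CommRing B] [Algebra A B] (p : ℕ),
        Nonempty (Coh.HH (pullback (X ↘ Spec (CommRingCat.of A))
              (Spec.map (CommRingCat.ofHom (algebraMap A B))))
            ((Scheme.Modules.pullback (pullback.fst (X ↘ Spec (CommRingCat.of A))
              (Spec.map (CommRingCat.ofHom (algebraMap A B))))).obj F) p ≃+
          CohIII.T L (p : ℤ) (ModuleCat.of A B)) := by
  haveI : F.IsQuasicoherent := hF.1
  haveI : CompactSpace X := Groth.Agent.R2.H16.CbcFinal.compactSpace_of_isProper A X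
  obtain ⟨L0, d0, hL0, hL0z, hL0neg, hiso⟩ :=
    Groth.Agent.R2.H11.CbcFinal.exists_bridge' A F hF.1 hfl hfinH
  -- the cochain complex
  have hKf : DRing.TermwiseFiniteFree (negCx L0) := fun i => hL0 (-i)
  have hKb : DRing.VanishesAbove (negCx L0) (d0 : ℤ) := fun i hi => hL0z (-i) (by omega)
  have hKflat : DRing.TermwiseFlat (negCx L0) := fun i =>
    have := (hKf i).2
    inferInstance
  -- exactness of `K` in negative degrees and above `c`
  have hexK : ∀ j : ℤ, (j < 0 ∨ c < j) → (negCx L0).ExactAt j := by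
    intro j hj
    rw [exactAt_negCx_iff]
    by_cases hj0 : j < 0
    · exact (hL0neg (-j) (ModuleCat.of A A) (by omega)).of_iso
        (Groth.Agent.Lib.Helper3.TUnitIso L0 (-j)).symm
    · obtain ⟨p, rfl⟩ := Int.eq_ofNat_of_zero_le (not_lt.1 hj0)
      have hcp : c < (p : ℤ) := hj.resolve_left hj0
      obtain ⟨γ⟩ := hiso p
      have h1 : Subsingleton (Coh.HH X ((CohIII.tensorAFunctor A F).obj (ModuleCat.of A A)) p) := by
        have := hup p hcp
        exact (HHequiv (Groth.Agent.R2.H8.CbcG9.tensorAFunctorSelfIso A F) p).injective.subsingleton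
      have h1' : Subsingleton ↑((CohIII.tensorAFunctor A F ⋙ CohIII.HAb X p).obj
          (ModuleCat.of A A)) := h1
      have h2 : Subsingleton ↑(CohIII.T L0 (-(p : ℤ)) (ModuleCat.of A A)) :=
        ((γ.app (ModuleCat.of A A)).addCommGroupIsoToAddEquiv.symm).injective.subsingleton
      exact (ModuleCat.isZero_of_subsingleton _).of_iso
        (Groth.Agent.Lib.Helper3.TUnitIso L0 (-(p : ℤ))).symm
  -- exactness of the fibres outside `[a, c]`
  have hfib : ∀ (m : Ideal A) [m.IsMaximal] (i : ℤ), (i < a ∨ c < i) →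
      ((bcCx (algebraMap A m.ResidueField)).obj (negCx L0)).ExactAt i := by
    intro m _ i hi
    by_cases hi0 : i < 0
    · rw [exactAt_bcCx_negCx_iff]
      have hz : IsZero ((CohIII.TFun L0 (-i)).obj (ModuleCat.of A m.ResidueField)) :=
        hL0neg (-i) _ (by omega)
      have := ModuleCat.subsingleton_of_isZero
        (hz.of_iso (Groth.Agent.R2.H16.CbcFIRank.hIso A m.ResidueField L0 (-i)))
      exact this
    · by_cases hic : c < i
      · exact exactAt_bc_of_flat _ (negCx L0) d0 hKb hKflat c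
          (fun j hj => hexK j (Or.inr hj)) i hic
      · have hia : i < a := hi.resolve_right hic
        obtain ⟨p, rfl⟩ := Int.eq_ofNat_of_zero_le (not_lt.1 hi0)
        obtain ⟨γ⟩ := hiso p
        rw [exactAt_bcCx_negCx_iff]
        let y : ↑(Spec (CommRingCat.of A)) := (⟨m, inferInstance⟩ : PrimeSpectrum A)
        exact (subsingleton_fiberH_iff F y L0 p γ).1 (hlow y p hia)
  obtain ⟨E, hE, hEf, hEiso⟩ :=
    Groth.Agent.R2.H67.TrimAlg.exists_trim (negCx L0) d0 hKb hKf a c hfib
  refine ⟨E, hEf, hE, fun B _ _ p => ?_⟩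
  obtain ⟨γ⟩ := hiso p
  obtain ⟨e1, -⟩ := exists_fi_bcCx F (IsPullback.of_hasPullback (X ↘ Spec (CommRingCat.of A))
    (Spec.map (CommRingCat.ofHom (algebraMap A B)))) L0 p γ
  obtain ⟨ι⟩ := hEiso B (algebraMap A B) (p : ℤ)
  let e2 : ↥((CohIII.bcCx (algebraMap A B) L0).homology (-(p : ℤ))) ≃+
      ↥(((bcCx (algebraMap A B)).obj (negCx L0)).homology (p : ℤ)) :=
    (negCxHomologyIso (CohIII.bcCx (algebraMap A B) L0) (p : ℤ)).symm.toLinearEquiv.toAddEquiv
  let e3 : ↥(((bcCx (algebraMap A B)).obj (negCx L0)).homology (p : ℤ)) ≃+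
      ↥(((bcCx (algebraMap A B)).obj E).homology (p : ℤ)) :=
    ι.symm.toLinearEquiv.toAddEquiv
  let e4 : ↥(((bcCx (algebraMap A B)).obj E).homology (p : ℤ)) ≃+
      ↥(CohIII.T E (p : ℤ) (ModuleCat.of A B)) :=
    (Groth.Agent.R2.H16.CbcFIRank.hIso A B E (p : ℤ)).toLinearEquiv.toAddEquiv
  exact ⟨((e1.trans e2).trans e3).trans e4⟩

end main

end Groth.Agent.R2.H67.TrimGeom
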