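import Mathlib
import Groth.Agent.Lib.LeadFF5
import Groth.Agent.Lib.Helper4TensorDim

/-!
# Finiteness of the valuation rings of the function field of an affine curve that do not contain
the coordinate ring (helper67)
-/

set_option autoImplicit false
set_option linter.style.haveILetI false
set_option linter.unusedSectionVars false
universe u

open Polynomial FunFld Groth.Agent.Lib.LeadFF

namespace Groth.Agent.R2.H67.ValFin

section

variable (k A F : Type u) [Field k] [CommRing A] [IsDomain A] [Algebra k A]
  [Algebra.FiniteType k A] [Field F] [Algebra A F] [IsFractionRing A F] [Algebra k F]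
  [IsScalarTower k A F]

/-- Noether normalization in dimension one. -/
theorem exists_normalization (hA : ringKrullDim A = 1) :
    ∃ g : MvPolynomial (Fin 1) k →ₐ[k] A, Function.Injective g ∧ g.IsIntegral := by
  obtain ⟨s, g, hinj, hint⟩ := exists_integral_inj_algHom_of_fg k A
  have hdim := Groth.Agent.Lib.Helper4.TensorDim.ringKrullDim_eq_of_integral_injective k A s g
    hinj hint
  rw [hA] at hdim
  have hs : s = 1 := by
    have : ((1 : ℕ) : WithBot ℕ∞) = (s : WithBot ℕ∞) := by simpa using hdim
    exact_mod_cast this.symm
  subst hs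
  exact ⟨g, hinj, hint⟩

variable {k A F}

/-- The image of `g` lands in any subfield containing `k` and `x`. -/
theorem map_mem_of_mem (g : MvPolynomial (Fin 1) k →ₐ[k] A) {K₀ : Type*} [Field K₀]
    [Algebra K₀ F] (E : IntermediateField K₀ F)
    (hk : ∀ c : k, algebraMap k F c ∈ E) (hx : algebraMap A F (g (MvPolynomial.X 0)) ∈ E)
    (q : MvPolynomial (Fin 1) k) : algebraMap A F (g q) ∈ E := by
  induction q using MvPolynomial.induction_on with
  | C c =>
    rw [← MvPolynomial.algebraMap_eq, AlgHom.commutes, ← IsScalarTower.algebraMap_apply]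
    exact hk c
  | add p q hp hq =>
    rw [map_add, map_add]
    exact E.add_mem hp hq
  | mul_X p i hp =>
    rw [map_mul, map_mul]
    have : i = 0 := Subsingleton.elim _ _
    subst this
    exact E.mul_mem hp hx

/-- Elements of `A` are integral over any subfield containing `k` and `x`. -/
theorem isIntegral_of_normalization (g : MvPolynomial (Fin 1) k →ₐ[k] A) (hint : g.IsIntegral)
    {K₀ : Type*} [Field K₀] [Algebra K₀ F] (E : IntermediateField K₀ F) (hk : ∀ c : k, algebraMap k F c ∈ E)
    (hx : algebraMap A F (g (MvPolynomial.X 0)) ∈ E) (a : A) :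
    IsIntegral E (algebraMap A F a) := by
  obtain ⟨p, hp, hpa⟩ := hint a
  let φ : MvPolynomial (Fin 1) k →+* E :=
    ((algebraMap A F).comp g.toRingHom).codRestrict E (fun q => map_mem_of_mem g E hk hx q)
  refine ⟨p.map φ, hp.map φ, ?_⟩
  rw [Polynomial.eval₂_map]
  have hcomp : (algebraMap E F).comp φ = (algebraMap A F).comp g.toRingHom := by
    ext q
    · rfl
    · rfl
  rw [hcomp, ← Polynomial.hom_eval₂, hpa, map_zero]

variable (k A F) in
/-- `F = Frac A` is a function field of one variable over the algebraic closure of `k` in `F`. -/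
theorem isFunctionField (hA : ringKrullDim A = 1) :
    IsFunctionField (algebraicClosure k F) F := by
  classical
  obtain ⟨g, hinj, hint⟩ := exists_normalization k A hA
  have hx0 : Transcendental k (g (MvPolynomial.X 0)) := by
    rw [transcendental_iff]
    intro p hp
    rw [Polynomial.aeval_algHom_apply] at hp
    have h1 : Polynomial.aeval (MvPolynomial.X (0 : Fin 1) : MvPolynomial (Fin 1) k) p = 0 :=
      hinj (by rw [hp, map_zero])
    exact (transcendental_iff.mp (MvPolynomial.transcendental_X k (0 : Fin 1))) p h1
  have hxk : Transcendental k (algebraMap A F (g (MvPolynomial.X 0))) :=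
    (transcendental_algebraMap_iff (IsFractionRing.injective A F)).mpr hx0
  set x : F := algebraMap A F (g (MvPolynomial.X 0)) with hx
  haveI : Algebra.IsAlgebraic k (algebraicClosure k F) := algebraicClosure.isAlgebraic k F
  have hxk' : Transcendental (algebraicClosure k F) x := fun halg =>
    hxk (halg.restrictScalars k)
  refine ⟨⟨x, hxk', ?_⟩, ?_⟩
  · set E := IntermediateField.adjoin (algebraicClosure k F) ({x} : Set F) with hE
    have hkE : ∀ c : k, algebraMap k F c ∈ E := fun c => by
      have : algebraMap k F c = algebraMap (algebraicClosure k F) F (algebraMap k _ c) := rfl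
      rw [this]
      exact E.algebraMap_mem _
    have hxE : algebraMap A F (g (MvPolynomial.X 0)) ∈ E :=
      IntermediateField.subset_adjoin _ _ (Set.mem_singleton x)
    obtain ⟨G, hG⟩ := (Algebra.FiniteType.out : (⊤ : Subalgebra k A).FG)
    let S : Set F := (algebraMap A F) '' (G : Set A)
    haveI : Finite S := (G.finite_toSet.image _).to_subtype
    have hSint : ∀ s ∈ S, IsIntegral E s := by
      rintro _ ⟨a, -, rfl⟩
      exact isIntegral_of_normalization g hint E hkE hxE a
    haveI hfin : FiniteDimensional E (IntermediateField.adjoin E S) :=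
      IntermediateField.finiteDimensional_adjoin hSint
    have hAmem : ∀ a : A, algebraMap A F a ∈ IntermediateField.adjoin E S := by
      intro a
      have ha : a ∈ Algebra.adjoin k (G : Set A) := hG ▸ Algebra.mem_top
      induction ha using Algebra.adjoin_induction with
      | mem a ha => exact IntermediateField.subset_adjoin _ _ ⟨a, ha, rfl⟩
      | algebraMap c =>
        rw [← IsScalarTower.algebraMap_apply]
        have : algebraMap k F c = algebraMap E F ⟨algebraMap k F c, hkE c⟩ := rfl
        rw [this]
        exact (IntermediateField.adjoin E S).algebraMap_mem _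
      | add a b _ _ ha hb =>
        rw [map_add]
        exact add_mem ha hb
      | mul a b _ _ ha hb =>
        rw [map_mul]
        exact mul_mem ha hb
    have htop : IntermediateField.adjoin E S = ⊤ := by
      rw [eq_top_iff]
      intro z _
      obtain ⟨a, b, _, rfl⟩ := IsFractionRing.div_surjective (A := A) z
      exact div_mem (hAmem a) (hAmem b)
    rw [htop] at hfin
    exact LinearEquiv.finiteDimensional (IntermediateField.topEquiv (F := E) (E := F)).toLinearEquiv
  · intro y hy
    have : IsAlgebraic k y := hy.restrictScalars k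
    exact ⟨⟨y, mem_algebraicClosure_iff.mpr this⟩, rfl⟩

variable (k A F) in
/-- The valuation rings of `F = Frac A` containing `k` but not `A` are finite in number. -/
theorem finite_valuationSubrings (hA : ringKrullDim A = 1) :
    {O : ValuationSubring F | (algebraMap k F).range ≤ O.toSubring ∧
        ¬ (algebraMap A F).range ≤ O.toSubring}.Finite := by
  classical
  have hK := isFunctionField k A F hA
  obtain ⟨G, hG⟩ := (Algebra.FiniteType.out : (⊤ : Subalgebra k A).FG)
  let T : A → Set (ValuationSubring F) := fun a =>
    if algebraMap A F a ∈ Set.range (algebraMap (algebraicClosure k F) F) then ∅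
    else (fun P : Place (algebraicClosure k F) F => P.O) ''
      {P : Place (algebraicClosure k F) F | P.1 (algebraMap A F a)⁻¹ < 1}
  have hT : ∀ a, (T a).Finite := by
    intro a
    simp only [T]
    split_ifs with h
    · exact Set.finite_empty
    · exact (zeros_finite hK (transcendental_inv hK h)).image _
  refine (Set.Finite.biUnion G.finite_toSet (fun a _ => hT a)).subset ?_
  rintro O ⟨hkO, hAO⟩
  -- some generator is not in `O`
  obtain ⟨a, haG, haO⟩ : ∃ a ∈ G, algebraMap A F a ∉ O := by
    by_contra hcon
    push Not at hcon
    apply hAO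
    rintro _ ⟨a, rfl⟩
    have ha : a ∈ Algebra.adjoin k (G : Set A) := hG ▸ Algebra.mem_top
    induction ha using Algebra.adjoin_induction with
    | mem a ha => exact hcon a ha
    | algebraMap c =>
      rw [← IsScalarTower.algebraMap_apply]
      exact hkO ⟨c, rfl⟩
    | add a b _ _ ha hb =>
      rw [map_add]
      exact O.add_mem _ _ ha hb
    | mul a b _ _ ha hb =>
      rw [map_mul]
      exact O.mul_mem _ _ ha hb
  -- the algebraic closure of `k` in `F` lies in `O`
  have hk'O : ∀ c : algebraicClosure k F, (c : F) ∈ O := by
    intro c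
    have hint : IsIntegral k (c : F) := (mem_algebraicClosure_iff.mp c.2).isIntegral
    obtain ⟨p, hp, hpc⟩ := hint
    let ψ : k →+* O := (algebraMap k F).codRestrict O.toSubring (fun c => hkO ⟨c, rfl⟩)
    have hintO : IsIntegral O (c : F) := ⟨p.map ψ, hp.map ψ, by
      rw [Polynomial.eval₂_map]
      have : (algebraMap O F).comp ψ = algebraMap k F := by ext; rfl
      rw [this]
      exact hpc⟩
    obtain ⟨w, hw⟩ := IsIntegrallyClosed.isIntegral_iff.mp hintO
    rw [← hw]
    exact w.2
  have htriv : TrivOn (algebraicClosure k F) O.valuation := by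
    intro c hc
    apply le_antisymm
    · exact (O.valuation_le_one_iff _).mpr (hk'O c)
    · have h1 : O.valuation (algebraMap (algebraicClosure k F) F c⁻¹) ≤ 1 :=
        (O.valuation_le_one_iff _).mpr (hk'O c⁻¹)
      rw [map_inv₀, map_inv₀] at h1
      have hne : O.valuation (algebraMap (algebraicClosure k F) F c) ≠ 0 := by
        rw [Valuation.ne_zero_iff]
        exact (map_ne_zero_iff _ (algebraMap (algebraicClosure k F) F).injective).mpr hc
      exact (inv_le_one₀ (zero_lt_iff.mpr hne)).mp h1
  have ha0 : algebraMap A F a ≠ 0 := fun h => haO (h ▸ O.zero_mem)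
  have hy0 : (algebraMap A F a)⁻¹ ≠ 0 := inv_ne_zero ha0
  have hva : 1 < O.valuation (algebraMap A F a) := by
    rw [← not_le, O.valuation_le_one_iff]
    exact haO
  have hy : O.valuation (algebraMap A F a)⁻¹ < 1 := by
    rw [map_inv₀]
    exact inv_lt_one_of_one_lt₀ hva
  obtain ⟨P, hP⟩ := exists_place_of_valuation hK htriv hy0 hy
  have hPy : P.1 (algebraMap A F a)⁻¹ < 1 := by
    by_contra hcon
    rw [not_lt] at hcon
    have h1 : P.1 1 ≤ P.1 (algebraMap A F a)⁻¹ := by rw [map_one]; exact hcon
    have h2 := (hP _ _).mp h1
    rw [map_one] at h2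
    exact absurd hy (not_lt.mpr h2)
  have hPO : P.O = O := by
    ext z
    rw [Valuation.mem_valuationSubring_iff, ← O.valuation_le_one_iff]
    have := hP z 1
    rw [map_one, map_one] at this
    exact this
  have hnot : algebraMap A F a ∉ Set.range (algebraMap (algebraicClosure k F) F) := by
    rintro ⟨c, hc⟩
    exact haO (hc ▸ hk'O c)
  refine Set.mem_iUnion₂.mpr ⟨a, haG, ?_⟩
  simp only [T]
  rw [if_neg hnot]
  exact ⟨P, hPy, hPO⟩

end

end Groth.Agent.R2.H67.ValFin
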