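import Mathlib

/-!
# Chains of primes give algebraically independent elements (helper68)

* `poly_eval_notMem`, `mv_eval_notMem`: if `p 0 ≤ … ≤ p n` are primes of `D` and `x i ∈ p (i+1) ∖ p i`,
  then a polynomial all of whose coefficients are in `p 0` or outside `p n`, not all in `p 0`, takes a
  value outside `p 0` at `x`.
-/

set_option autoImplicit false

universe u

open Polynomial

namespace Groth.Agent.R2.H68.ChainIndep

variable {D : Type*} [CommRing D]

theorem poly_eval_notMem (p0 p1 : Ideal D) [p0.IsPrime] (h01 : p0 ≤ p1) (x0 : D) (hx : x0 ∈ p1)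
    (hx' : x0 ∉ p0) :
    ∀ (d : ℕ) (f : D[X]), f.natDegree ≤ d → (∀ j, f.coeff j ∈ p0 ∨ f.coeff j ∉ p1) →
      (∃ j, f.coeff j ∉ p0) → f.eval x0 ∉ p0 := by
  intro d
  induction d with
  | zero =>
    intro f hd hf ⟨j, hj⟩
    have hfC : f = C (f.coeff 0) := Polynomial.eq_C_of_natDegree_le_zero hd
    have hj0 : j = 0 := by
      by_contra hne
      apply hj
      rw [hfC, Polynomial.coeff_C, if_neg hne]
      exact p0.zero_mem
    subst hj0
    rw [hfC, Polynomial.eval_C]
    exact hj
  | succ d ih =>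
    intro f hd hf ⟨j, hj⟩
    have hdecomp : f.eval x0 = (divX f).eval x0 * x0 + f.coeff 0 := by
      conv_lhs => rw [← Polynomial.divX_mul_X_add f]
      simp
    rcases hf 0 with h0 | h0
    · -- constant coefficient in p0
      have hj0 : j ≠ 0 := by
        rintro rfl
        exact hj h0
      obtain ⟨j', rfl⟩ := Nat.exists_eq_succ_of_ne_zero hj0
      have hg : (divX f).eval x0 ∉ p0 := by
        apply ih (divX f)
        · rw [Polynomial.natDegree_divX_eq_natDegree_tsub_one]
          omega
        · intro i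
          rw [Polynomial.coeff_divX]
          exact hf (i + 1)
        · exact ⟨j', by rw [Polynomial.coeff_divX]; exact hj⟩
      rw [hdecomp]
      intro hmem
      have h1 : (divX f).eval x0 * x0 ∈ p0 := by
        have := p0.sub_mem hmem h0
        simpa using this
      rcases Ideal.IsPrime.mem_or_mem inferInstance h1 with h | h
      · exact hg h
      · exact hx' h
    · -- constant coefficient outside p1
      rw [hdecomp]
      intro hmem
      apply h0
      have h1 : (divX f).eval x0 * x0 ∈ p1 := p1.mul_mem_left _ hx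
      have := p1.sub_mem (h01 hmem) h1
      simpa using this

theorem mv_eval_mem_of_coeff_mem {σ : Type*} (I : Ideal D) (x : σ → D) (P : MvPolynomial σ D)
    (h : ∀ m, P.coeff m ∈ I) : MvPolynomial.eval x P ∈ I := by
  rw [MvPolynomial.eval_eq]
  exact I.sum_mem fun m _ => I.mul_mem_right _ (h m)

theorem mv_eval_notMem : ∀ (n : ℕ) (p : Fin (n + 1) → Ideal D) (_ : ∀ i, (p i).IsPrime)
    (_ : Monotone p) (x : Fin n → D) (_ : ∀ i, x i ∈ p i.succ) (_ : ∀ i, x i ∉ p i.castSucc)
    (P : MvPolynomial (Fin n) D) (_ : ∀ m, P.coeff m ∈ p 0 ∨ P.coeff m ∉ p (Fin.last n))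
    (_ : ∃ m, P.coeff m ∉ p 0), MvPolynomial.eval x P ∉ p 0 := by
  intro n
  induction n with
  | zero =>
    intro p hp hmono x hx hx' P hP ⟨m, hm⟩
    have hm0 : m = 0 := Subsingleton.elim _ _
    subst hm0
    rw [MvPolynomial.eq_C_of_isEmpty P, MvPolynomial.eval_C]
    exact hm
  | succ n ih =>
    intro p hp hmono x hx hx' P hP ⟨m₀, hm₀⟩
    have hxc : x = Fin.cons (x 0) (Fin.tail x) := (Fin.cons_self_tail x).symm
    rw [hxc, MvPolynomial.eval_eq_eval_mv_eval']
    set Q := MvPolynomial.finSuccEquiv D n P with hQ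
    have hcoeff : ∀ (m : Fin n →₀ ℕ) (j : ℕ), (Q.coeff j).coeff m = P.coeff (m.cons j) :=
      fun m j => MvPolynomial.finSuccEquiv_coeff_coeff m P j
    have h0 : (p 0).IsPrime := hp 0
    have h01 : p 0 ≤ p 1 := hmono (Fin.zero_le _)
    have h1l : p 1 ≤ p (Fin.last (n + 1)) := hmono (Fin.le_last _)
    -- the induction hypothesis for the tail
    have key : ∀ j, (∃ m, (Q.coeff j).coeff m ∉ p 0) →
        MvPolynomial.eval (Fin.tail x) (Q.coeff j) ∉ p 1 := by
      intro j ⟨m, hm⟩
      refine ih (Fin.tail p) (fun i => hp _) (fun a b hab => hmono (Fin.succ_le_succ_iff.2 hab))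
        (Fin.tail x) (fun i => hx i.succ) (fun i => ?_) (Q.coeff j) (fun m' => ?_) ⟨m, ?_⟩
      · have := hx' i.succ
        rwa [← Fin.succ_castSucc] at this
      · rw [hcoeff]
        rcases hP (m'.cons j) with h | h
        · exact Or.inl (h01 h)
        · exact Or.inr h
      · rw [hcoeff] at hm ⊢
        rcases hP (m.cons j) with h | h
        · exact absurd h hm
        · exact fun h' => h (h1l h')
    refine poly_eval_notMem (p 0) (p 1) h01 (x 0) (hx 0) (hx' 0) _ _ le_rfl (fun j => ?_) ?_
    · rw [Polynomial.coeff_map]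
      by_cases hj : ∃ m, (Q.coeff j).coeff m ∉ p 0
      · exact Or.inr (key j hj)
      · push Not at hj
        exact Or.inl (mv_eval_mem_of_coeff_mem _ _ _ hj)
    · refine ⟨m₀ 0, ?_⟩
      rw [Polynomial.coeff_map]
      have : MvPolynomial.eval (Fin.tail x) (Q.coeff (m₀ 0)) ∉ p 1 := by
        apply key
        refine ⟨m₀.tail, ?_⟩
        rw [hcoeff, Finsupp.cons_tail]
        exact hm₀
      exact fun h => this (h01 h)

end Groth.Agent.R2.H68.ChainIndep
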