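import Mathlib

/-!
# Finite chains of primes are dominated by a valuation ring

For a commutative ring `R` and a chain of primes `p 0 ≤ p 1 ≤ ⋯ ≤ p n` there are a valuation ring
`V`, a ring homomorphism `R → V` and a chain of primes `P 0 ≤ ⋯ ≤ P n` of `V` with `P i` lying
over `p i`.  The valuation ring is built by iterated composites: if `V` is a valuation ring and `W`
a valuation subring of its residue field, the preimage of `W` in `V` is a valuation ring.
-/

set_option autoImplicit false
universe u
open IsLocalRing

namespace Groth.Agent.R2.H96.ChainVal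

section Composite

variable {V : Type u} [CommRing V] [IsDomain V] [ValuationRing V]
  (W : ValuationSubring (ResidueField V))

/-- The composite of the valuation ring `V` with a valuation subring `W` of its residue field:
the elements of `V` whose residue class lies in `W`. -/
def comp : Subring V := Subring.comap (residue V) W.toSubring

theorem mem_comp {v : V} : v ∈ comp W ↔ residue V v ∈ W := Iff.rfl

theorem isUnit_of_residue_ne_zero {v : V} (h : residue V v ≠ 0) : IsUnit v := by
  by_contra hv
  exact h ((residue_eq_zero_iff v).mpr ((mem_maximalIdeal v).mpr hv))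

theorem residue_unit_inv (u : Vˣ) : residue V (↑u⁻¹ : V) = (residue V (u : V))⁻¹ := by
  apply eq_inv_of_mul_eq_one_left
  rw [← map_mul, Units.inv_mul, map_one]

theorem exists_mul_eq_or {a b c : V} (h : a * c = b) :
    ∃ c' : V, c' ∈ comp W ∧ (a * c' = b ∨ b * c' = a) := by
  by_cases hc : c ∈ comp W
  · exact ⟨c, hc, Or.inl h⟩
  · have hc' : residue V c ∉ W := hc
    have hinv : (residue V c)⁻¹ ∈ W := (W.mem_or_inv_mem (residue V c)).resolve_left hc'
    have hne : residue V c ≠ 0 := fun h0 => hc' (h0 ▸ W.zero_mem)
    obtain ⟨u, rfl⟩ := isUnit_of_residue_ne_zero hne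
    refine ⟨(↑u⁻¹ : V), ?_, Or.inr ?_⟩
    · rw [mem_comp, residue_unit_inv]; exact hinv
    · rw [← h, mul_assoc, Units.mul_inv, mul_one]

instance valuationRing_comp : ValuationRing ↥(comp W) where
  cond' := by
    rintro ⟨a, ha⟩ ⟨b, hb⟩
    obtain ⟨c, h | h⟩ := ValuationRing.cond a b
    · obtain ⟨c', hc', h' | h'⟩ := exists_mul_eq_or W h
      · exact ⟨⟨c', hc'⟩, Or.inl (Subtype.ext h')⟩
      · exact ⟨⟨c', hc'⟩, Or.inr (Subtype.ext h')⟩
    · obtain ⟨c', hc', h' | h'⟩ := exists_mul_eq_or W h
      · exact ⟨⟨c', hc'⟩, Or.inr (Subtype.ext h')⟩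
      · exact ⟨⟨c', hc'⟩, Or.inl (Subtype.ext h')⟩

/-- An element of the composite is a unit as soon as its residue class is a unit of `W`. -/
theorem isUnit_comp_iff (v : ↥(comp W)) :
    IsUnit v ↔ ∃ w ∈ W, residue V (v : V) * w = 1 := by
  constructor
  · intro hv
    obtain ⟨⟨v', hv'⟩, hvv'⟩ := isUnit_iff_exists_inv.mp hv
    refine ⟨residue V v', hv', ?_⟩
    have : (v : V) * v' = 1 := congrArg Subtype.val hvv'
    rw [← map_mul, this, map_one]
  · rintro ⟨w, hw, h⟩
    have hne : residue V (v : V) ≠ 0 := by
      intro h0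
      rw [h0, zero_mul] at h
      exact zero_ne_one h
    obtain ⟨u, hu⟩ := isUnit_of_residue_ne_zero hne
    have hw' : residue V (↑u⁻¹ : V) = w := by
      rw [residue_unit_inv, hu]
      exact (eq_inv_of_mul_eq_one_right h).symm
    refine isUnit_iff_exists_inv.mpr ⟨⟨(↑u⁻¹ : V), ?_⟩, Subtype.ext ?_⟩
    · rw [mem_comp, hw']; exact hw
    · change (v : V) * ↑u⁻¹ = 1
      rw [← hu, Units.mul_inv]

end Composite

/-- A finite chain of primes of a ring is the image of a chain of primes of a valuation ring, whose
last member is the maximal ideal. -/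
theorem exists_valuationRing_chain (R : Type u) [CommRing R] (p : ℕ → PrimeSpectrum R)
    (hp : Monotone p) (n : ℕ) :
    ∃ (V : Type u) (_ : CommRing V) (_ : IsDomain V) (_ : ValuationRing V) (φ : R →+* V)
      (P : ℕ → PrimeSpectrum V),
      (∀ i j, i ≤ j → j ≤ n → P i ≤ P j) ∧ (∀ i, i ≤ n → (P i).comap φ = p i) ∧
        (P n).asIdeal = maximalIdeal V := by
  induction n with
  | zero =>
    refine ⟨(p 0).asIdeal.ResidueField, inferInstance, inferInstance, inferInstance,
      algebraMap R (p 0).asIdeal.ResidueField, fun _ => ⟨⊥, Ideal.isPrime_bot⟩, ?_, ?_, ?_⟩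
    · intro i j _ _; exact le_refl _
    · intro i hi
      obtain rfl : i = 0 := Nat.le_zero.mp hi
      apply PrimeSpectrum.ext
      change Ideal.comap (algebraMap R (p 0).asIdeal.ResidueField) ⊥ = (p 0).asIdeal
      rw [← RingHom.ker_eq_comap_bot, Ideal.ker_algebraMap_residueField]
    · exact (IsLocalRing.maximalIdeal_eq_bot).symm
  | succ n ih =>
    obtain ⟨V, _, _, _, φ, P, hmono, hcomap, hmax⟩ := ih
    -- the local ring at `p (n+1)` maps to the residue field of `V`
    have hker : ∀ r : R, φ r ∈ maximalIdeal V ↔ r ∈ (p n).asIdeal := by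
      intro r
      rw [← hmax, ← hcomap n le_rfl]
      rfl
    have hunits : ∀ y : (p (n + 1)).asIdeal.primeCompl,
        IsUnit (((residue V).comp φ) (y : R)) := by
      intro y
      have hy : (y : R) ∉ (p n).asIdeal := fun h => y.2 (hp (Nat.le_succ n) h)
      have : IsUnit (φ (y : R)) := by
        by_contra hu
        exact hy ((hker _).mp ((mem_maximalIdeal _).mpr hu))
      exact this.map (residue V)
    let L := Localization.AtPrime (p (n + 1)).asIdeal
    let f : L →+* ResidueField V := IsLocalization.lift (M := (p (n + 1)).asIdeal.primeCompl) hunits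
    have hf : ∀ r : R, f (algebraMap R L r) = residue V (φ r) := fun r =>
      IsLocalization.lift_eq hunits r
    obtain ⟨W, hW, hloc⟩ := exists_factor_valuationRing f
    have hφW : ∀ r : R, φ r ∈ comp W := fun r => by
      rw [mem_comp, ← hf]; exact hW _
    let φ' : R →+* ↥(comp W) := φ.codRestrict (comp W) hφW
    let P' : ℕ → PrimeSpectrum ↥(comp W) := fun i =>
      if i ≤ n then (P i).comap (comp W).subtype else ⟨maximalIdeal ↥(comp W), inferInstance⟩
    have hP'le : ∀ i, i ≤ n → P' i = (P i).comap (comp W).subtype := fun i hi => if_pos hi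
    have hP'last : P' (n + 1) = ⟨maximalIdeal ↥(comp W), inferInstance⟩ :=
      if_neg (Nat.not_succ_le_self n)
    refine ⟨↥(comp W), inferInstance, inferInstance, inferInstance, φ', P', ?_, ?_, ?_⟩
    · intro i j hij hj
      rcases Nat.lt_or_ge n j with hnj | hjn
      · obtain rfl : j = n + 1 := le_antisymm hj hnj
        rw [hP'last]
        exact IsLocalRing.le_maximalIdeal (P' i).isPrime.ne_top
      · rw [hP'le i (hij.trans hjn), hP'le j hjn]
        exact Ideal.comap_mono (hmono i j hij hjn)
    · intro i hi
      rcases Nat.lt_or_ge n i with hni | hin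
      · obtain rfl : i = n + 1 := le_antisymm hi hni
        rw [hP'last]
        apply PrimeSpectrum.ext
        ext r
        change φ' r ∈ maximalIdeal ↥(comp W) ↔ r ∈ (p (n + 1)).asIdeal
        rw [mem_maximalIdeal, mem_nonunits_iff, isUnit_comp_iff]
        change (¬ ∃ w ∈ W, residue V (φ r) * w = 1) ↔ _
        rw [← hf r, not_iff_comm]
        constructor
        · intro hr
          have hu : IsUnit (algebraMap R L r) :=
            (IsLocalization.AtPrime.isUnit_to_map_iff L (p (n + 1)).asIdeal r).mpr hr
          obtain ⟨l, hl⟩ := isUnit_iff_exists_inv.mp hu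
          exact ⟨f l, hW l, by rw [← map_mul, hl, map_one]⟩
        · rintro ⟨w, hw, hmul⟩
          have hu : IsUnit ((f.codRestrict W.toSubring hW) (algebraMap R L r)) :=
            isUnit_iff_exists_inv.mpr ⟨⟨w, hw⟩, Subtype.ext hmul⟩
          have hu' : IsUnit (algebraMap R L r) := hloc.map_nonunit _ hu
          exact (IsLocalization.AtPrime.isUnit_to_map_iff L (p (n + 1)).asIdeal r).mp hu'
      · rw [hP'le i hin, ← hcomap i hin]
        rfl
    · rw [hP'last]

end Groth.Agent.R2.H96.ChainVal
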