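import Mathlib
import Groth.Prelude.Def_ProCons
import Groth.Prelude.Def_W4c2submetdescSubtr
import Groth.Agent.Lib.Helper5Closure
import Groth.Agent.Lib.Helper5Affine
import Groth.Agent.Lib.Helper10SubtrVal2
import Groth.Agent.R2.H96ChainVal
import Groth.Agent.S3398
import Groth.Agent.S4586

/-!
# Descent of locally closed retrocompact subsets along universally S-subtrusive morphisms

Helper library of helper68 (for S14783).

* `isProConstructible_of_isLocallyClosed_of_isRetrocompact`: locally closed retrocompact subsets of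
  a scheme are pro-constructible.
* `isRetrocompact_of_isProConstructible`: pro-constructible subsets of a scheme are retrocompact.
* `exists_chain_lift`: universally S-subtrusive morphisms lift chains `y0 ⤳ y1 ⤳ y2`.
* `isLocallyClosed_of_preimage`: for `f` quasi-compact universally S-subtrusive and `E`
  pro-constructible, `E` is locally closed as soon as `f ⁻¹' E` is.
-/

set_option autoImplicit false
universe u

open Topology AlgebraicGeometry CategoryTheory CategoryTheory.Limits

namespace Groth.Agent.R2.H68.Subtr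

section Top

/-- A compact locally closed subset of a quasi-separated prespectral space is an intersection of
constructible subsets. -/
theorem exists_sInter_constructible {Y : Type*} [TopologicalSpace Y]
    [QuasiSeparatedSpace Y] [PrespectralSpace Y] {F : Set Y} (hF : IsLocallyClosed F)
    (hFc : IsCompact F) :
    ∃ 𝒮 : Set (Set Y), (∀ T ∈ 𝒮, IsConstructible T) ∧ F = ⋂₀ 𝒮 := by
  obtain ⟨O, Z, hO, hZ, rfl⟩ := hF
  obtain ⟨W₀, hW₀c, hW₀o, hFW, hWO⟩ :=
    PrespectralSpace.exists_isCompact_and_isOpen_between hFc hO Set.inter_subset_left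
  refine ⟨insert W₀ {T | ∃ K, IsOpen K ∧ IsCompact K ∧ K ⊆ Zᶜ ∧ T = Kᶜ}, ?_, ?_⟩
  · rintro T (rfl | ⟨K, hKo, hKc, -, rfl⟩)
    · exact hW₀c.isConstructible hW₀o
    · exact (hKc.isConstructible hKo).compl
  · apply subset_antisymm
    · intro x hx T hT
      rcases hT with rfl | ⟨K, hKo, hKc, hKZ, rfl⟩
      · exact hFW hx
      · exact fun hxK => hKZ hxK hx.2
    · intro x hx
      have h1 : x ∈ W₀ := hx W₀ (Set.mem_insert _ _)
      refine ⟨hWO h1, ?_⟩
      by_contra hxZ
      obtain ⟨K, ⟨hKo, hKc⟩, hxK, hKZ⟩ :=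
        PrespectralSpace.isTopologicalBasis.exists_subset_of_mem_open
          (show x ∈ Zᶜ from hxZ) hZ.isOpen_compl
      exact hx Kᶜ (Set.mem_insert_of_mem _ ⟨K, hKo, hKc, hKZ, rfl⟩) hxK

end Top

/-- Locally closed retrocompact subsets of a scheme are pro-constructible. -/
theorem isProConstructible_of_isLocallyClosed_of_isRetrocompact (X : Scheme.{u}) {E : Set X}
    (h1 : IsLocallyClosed E) (h2 : IsRetrocompact E) : ProCons.IsProConstructible E := by
  intro x
  obtain ⟨V, hV, hxV, -⟩ :=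
    TopologicalSpace.Opens.isBasis_iff_nbhd.mp X.isBasis_affineOpens
      (show x ∈ (⊤ : X.Opens) from trivial)
  have : IsAffine (V : Scheme.{u}) := hV
  have : PrespectralSpace ↥(V : Set X) := inferInstanceAs (PrespectralSpace (V : Scheme.{u}))
  have : QuasiSeparatedSpace ↥(V : Set X) :=
    inferInstanceAs (QuasiSeparatedSpace (V : Scheme.{u}))
  have hF : IsLocallyClosed (Subtype.val ⁻¹' E : Set ↥(V : Set X)) :=
    h1.preimage continuous_subtype_val
  have hFc : IsCompact (Subtype.val ⁻¹' E : Set ↥(V : Set X)) := by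
    rw [Subtype.isCompact_iff, Subtype.image_preimage_coe, Set.inter_comm]
    exact h2 (IsAffineOpen.isCompact hV) V.isOpen
  obtain ⟨𝒮, h𝒮, hE𝒮⟩ := exists_sInter_constructible hF hFc
  exact ⟨(V : Set X), V.isOpen, hxV, 𝒮, fun T hT => (h𝒮 T hT).isLocallyConstructible, hE𝒮⟩

/-- Closed subsets of a scheme are pro-constructible. -/
theorem isProConstructible_of_isClosed (X : Scheme.{u}) {E : Set X} (h : IsClosed E) :
    ProCons.IsProConstructible E :=
  isProConstructible_of_isLocallyClosed_of_isRetrocompact X h.isLocallyClosed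
    (fun _ hK _ => hK.inter_left h)

/-- Pro-constructible subsets of a quasi-compact scheme are quasi-compact. -/
theorem isCompact_of_isProConstructible (X : Scheme.{u}) [CompactSpace X] {E : Set X}
    (hE : ProCons.IsProConstructible E) : IsCompact E := by
  obtain ⟨X', g, hX', rfl⟩ := Groth.Agent.Lib.Helper5.exists_affine_range_eq X E hE
  exact isCompact_range g.continuous

/-- Pro-constructible subsets of a scheme are retrocompact. -/
theorem isRetrocompact_of_isProConstructible (X : Scheme.{u}) {E : Set X}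
    (hE : ProCons.IsProConstructible E) : IsRetrocompact E := by
  intro K hKc hKo
  let U : X.Opens := ⟨K, hKo⟩
  haveI : CompactSpace (U : Scheme.{u}) := isCompact_iff_compactSpace.mp hKc
  have h := isCompact_of_isProConstructible (U : Scheme.{u})
    (Groth.Agent.Lib.Helper5.isProConstructible_preimage U.ι E hE)
  have h' := h.image U.ι.continuous
  convert h' using 1
  ext y
  constructor
  · rintro ⟨hyE, hyK⟩
    exact ⟨⟨y, hyK⟩, hyE, rfl⟩
  · rintro ⟨z, hz, rfl⟩
    exact ⟨hz, z.2⟩

/-- Going down along a surjective morphism from the spectrum of a valuation ring: the points of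
`Spec V'` are totally ordered. -/
theorem exists_specializes_lift {V V' : Type u} [CommRing V] [CommRing V'] [IsDomain V']
    [ValuationRing V'] (b : Spec (CommRingCat.of V') ⟶ Spec (CommRingCat.of V)) [Surjective b]
    {Pa Pb : Spec (CommRingCat.of V)} (hle : Pa ⤳ Pb) (Qb : Spec (CommRingCat.of V'))
    (hQb : b Qb = Pb) : ∃ Qa : Spec (CommRingCat.of V'), Qa ⤳ Qb ∧ b Qa = Pa := by
  obtain ⟨Q, hQ⟩ := b.surjective Pa
  have htot : (Q : PrimeSpectrum V').asIdeal ≤ (Qb : PrimeSpectrum V').asIdeal ∨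
      (Qb : PrimeSpectrum V').asIdeal ≤ (Q : PrimeSpectrum V').asIdeal :=
    (ValuationRing.iff_ideal_total.1 inferInstance).total _ _
  rcases htot with h | h
  · exact ⟨Q, (PrimeSpectrum.le_iff_specializes (Q : PrimeSpectrum V') Qb).1 h, hQ⟩
  · have h1 : Qb ⤳ Q := (PrimeSpectrum.le_iff_specializes (Qb : PrimeSpectrum V') Q).1 h
    have h2 : b Qb ⤳ b Q := h1.map b.continuous
    rw [hQb, hQ] at h2
    have heq : Pa = Pb := (hle.antisymm h2).eq
    exact ⟨Qb, specializes_rfl, by rw [hQb, heq]⟩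

/-- Universally S-subtrusive morphisms lift chains of specializations of length two. -/
theorem exists_chain_lift {X Y : Scheme.{u}} (f : X ⟶ Y) (hf : Subtr.UnivSSubtrusive f)
    {y0 y1 y2 : Y} (h01 : y0 ⤳ y1) (h12 : y1 ⤳ y2) :
    ∃ x0 x1 x2 : X, x0 ⤳ x1 ∧ x1 ⤳ x2 ∧ f x0 = y0 ∧ f x1 = y1 ∧ f x2 = y2 := by
  obtain ⟨U, hU, hy2U, -⟩ :=
    TopologicalSpace.Opens.isBasis_iff_nbhd.mp Y.isBasis_affineOpens
      (show y2 ∈ (⊤ : Y.Opens) from trivial)
  have hU' : IsAffineOpen U := hU
  have hy1U : y1 ∈ U := h12.mem_open U.isOpen hy2U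
  have hy0U : y0 ∈ U := h01.mem_open U.isOpen hy1U
  let e : Spec Γ(Y, U) ⟶ Y := hU'.fromSpec
  have hrange : Set.range e = U := hU'.range_fromSpec
  obtain ⟨p0, hp0⟩ : y0 ∈ Set.range e := by rw [hrange]; exact hy0U
  obtain ⟨p1, hp1⟩ : y1 ∈ Set.range e := by rw [hrange]; exact hy1U
  obtain ⟨p2, hp2⟩ : y2 ∈ Set.range e := by rw [hrange]; exact hy2U
  have hemb : Topology.IsOpenEmbedding e := e.isOpenEmbedding
  have h01' : p0 ⤳ p1 := by
    rw [← hemb.isInducing.specializes_iff, hp0, hp1]; exact h01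
  have h12' : p1 ⤳ p2 := by
    rw [← hemb.isInducing.specializes_iff, hp1, hp2]; exact h12
  let p : ℕ → PrimeSpectrum Γ(Y, U) := fun i =>
    match i with
    | 0 => p0
    | 1 => p1
    | _ => p2
  have hp : Monotone p := by
    refine monotone_nat_of_le_succ fun n => ?_
    match n with
    | 0 => exact (PrimeSpectrum.le_iff_specializes (p0 : PrimeSpectrum Γ(Y, U)) p1).2 h01'
    | 1 => exact (PrimeSpectrum.le_iff_specializes (p1 : PrimeSpectrum Γ(Y, U)) p2).2 h12'
    | (n + 2) => exact le_rfl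
  obtain ⟨V, _, _, _, φ, P, hP1, hP2, -⟩ :=
    Groth.Agent.R2.H96.ChainVal.exists_valuationRing_chain Γ(Y, U) p hp 2
  let g : Spec (CommRingCat.of V) ⟶ Y := Spec.map (CommRingCat.ofHom φ) ≫ e
  obtain ⟨V', _, _, _, a, b, hb, hab⟩ :=
    (Groth.Agent.Lib.Helper10.SubtrVal.main2 f).mp hf V g
  have hg : ∀ i, i ≤ 2 → g (P i : Spec (CommRingCat.of V)) = e (p i) := by
    intro i hi
    have := hP2 i hi
    change e (Spec.map (CommRingCat.ofHom φ) (P i)) = e (p i)
    congr 1
  have hfa : ∀ Q : Spec (CommRingCat.of V'), f (a Q) = g (b Q) := fun Q =>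
    congrArg (fun m : Spec (CommRingCat.of V') ⟶ Y => m Q) hab
  have hs01 : (P 0 : Spec (CommRingCat.of V)) ⤳ (P 1 : Spec (CommRingCat.of V)) :=
    (PrimeSpectrum.le_iff_specializes (P 0) (P 1)).1 (hP1 0 1 (by omega) (by omega))
  have hs12 : (P 1 : Spec (CommRingCat.of V)) ⤳ (P 2 : Spec (CommRingCat.of V)) :=
    (PrimeSpectrum.le_iff_specializes (P 1) (P 2)).1 (hP1 1 2 (by omega) (by omega))
  obtain ⟨Q2, hQ2⟩ := b.surjective (P 2 : Spec (CommRingCat.of V))
  obtain ⟨Q1, hQ12, hQ1⟩ := exists_specializes_lift b hs12 Q2 hQ2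
  obtain ⟨Q0, hQ01, hQ0⟩ := exists_specializes_lift b hs01 Q1 hQ1
  refine ⟨a Q0, a Q1, a Q2, hQ01.map a.continuous, hQ12.map a.continuous, ?_, ?_, ?_⟩
  · rw [hfa, hQ0, hg 0 (by omega)]; exact hp0
  · rw [hfa, hQ1, hg 1 (by omega)]; exact hp1
  · rw [hfa, hQ2, hg 2 (by omega)]; exact hp2

/-- The key descent statement: for `f` quasi-compact and universally S-subtrusive and `E`
pro-constructible, `E` is locally closed if `f ⁻¹' E` is. -/
theorem isLocallyClosed_of_preimage {S' S : Scheme.{u}} (f : S' ⟶ S) [QuasiCompact f]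
    (hf : Subtr.UnivSSubtrusive f) (E : Set S) (hE : ProCons.IsProConstructible E)
    (h : IsLocallyClosed (f ⁻¹' E)) : IsLocallyClosed E := by
  have hsub : Subtr.IsSSubtrusive f := hf (𝟙 S') (𝟙 S) f IsPullback.of_id_snd
  obtain ⟨O', Z', hO', hZ', hE'⟩ := id h
  -- the boundary of the preimage is closed
  have hB' : IsClosed (closure (f ⁻¹' E) \ f ⁻¹' E) := by
    have : closure (f ⁻¹' E) \ f ⁻¹' E = closure (f ⁻¹' E) \ O' := by
      ext x
      constructor
      · rintro ⟨hx1, hx2⟩
        refine ⟨hx1, fun hxO => hx2 ?_⟩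
        rw [hE']
        refine ⟨hxO, ?_⟩
        have : closure (f ⁻¹' E) ⊆ Z' := by
          rw [hE']; exact closure_minimal Set.inter_subset_right hZ'
        exact this hx1
      · rintro ⟨hx1, hx2⟩
        refine ⟨hx1, fun hxE => hx2 ?_⟩
        rw [hE'] at hxE
        exact hxE.1
    rw [this]
    exact isClosed_closure.sdiff hO'
  -- the boundary of E is the image of the boundary of the preimage
  have hT : closure E \ E = f '' (closure (f ⁻¹' E) \ f ⁻¹' E) := by
    apply subset_antisymm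
    · rintro t ⟨ht1, ht2⟩
      obtain ⟨e, heE, het⟩ :=
        Groth.Agent.Lib.Helper5.exists_specializes_of_mem_closure S E hE t ht1
      obtain ⟨x, x', hxx, hx, hx'⟩ := hsub het
      refine ⟨x, ⟨?_, ?_⟩, hx⟩
      · exact hxx.mem_closed isClosed_closure (subset_closure (show f x' ∈ E from hx' ▸ heE))
      · intro hxE
        exact ht2 (hx ▸ hxE)
    · rintro _ ⟨b', ⟨hb1, hb2⟩, rfl⟩
      refine ⟨?_, hb2⟩
      have h1 : f b' ∈ f '' closure (f ⁻¹' E) := ⟨b', hb1, rfl⟩
      have h2 := image_closure_subset_closure_image f.continuous h1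
      exact closure_mono (Set.image_preimage_subset _ _) h2
  -- hence the boundary of E is pro-constructible
  have hTpro : ProCons.IsProConstructible (closure E \ E) := by
    rw [hT]
    exact Groth.Agent.S3398.result f _ (isProConstructible_of_isClosed S' hB')
  -- and stable under specialization
  have hTspec : ∀ y y1 : S, y ∈ closure E \ E → y ⤳ y1 → y1 ∈ closure E \ E := by
    rintro y y1 ⟨hy1, hy2⟩ hyy
    refine ⟨hyy.mem_closed isClosed_closure hy1, fun hy1E => ?_⟩
    obtain ⟨e, heE, hey⟩ :=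
      Groth.Agent.Lib.Helper5.exists_specializes_of_mem_closure S E hE y hy1
    obtain ⟨x0, x1, x2, h01, h12, hx0, hx1, hx2⟩ := exists_chain_lift f hf hey hyy
    have hx0E : x0 ∈ f ⁻¹' E := show f x0 ∈ E from hx0 ▸ heE
    have hx2E : x2 ∈ f ⁻¹' E := show f x2 ∈ E from hx2 ▸ hy1E
    rw [hE'] at hx0E hx2E
    have hx1E : x1 ∈ f ⁻¹' E := by
      rw [hE']
      exact ⟨h12.mem_open hO' hx2E.1, h01.mem_closed hZ' hx0E.2⟩
    exact hy2 (hx1 ▸ hx1E)
  have hTcl : IsClosed (closure E \ E) := by
    rw [← closure_subset_iff_isClosed]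
    intro x hx
    obtain ⟨z, hz, hzx⟩ :=
      Groth.Agent.Lib.Helper5.exists_specializes_of_mem_closure S _ hTpro x hx
    exact hTspec z x hz hzx
  have hEeq : E = closure E ∩ (closure E \ E)ᶜ := by
    ext x
    constructor
    · intro hx
      exact ⟨subset_closure hx, fun hx' => hx'.2 hx⟩
    · rintro ⟨hx1, hx2⟩
      by_contra hxE
      exact hx2 ⟨hx1, hxE⟩
  rw [hEeq]
  exact isClosed_closure.isLocallyClosed.inter hTcl.isOpen_compl.isLocallyClosed

end Groth.Agent.R2.H68.Subtr
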