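import Mathlib
import Groth.Prelude.Def_ProCons
import Groth.Prelude.Def_W4c2submetdescSubtr
import Groth.Agent.R2.H68Subtr
import Groth.Agent.S4787

/-!
# S-subtrusive morphisms and cofiltered limits

Helper library of helper68 (for S14791, S14772, S14770, S14771).
-/

set_option autoImplicit false
universe u

open Topology AlgebraicGeometry CategoryTheory CategoryTheory.Limits

namespace Groth.Agent.R2.H68.SubtrLim

open Groth.Agent.R2.H68.Subtr

/-- The intersection of two pro-constructible sets is pro-constructible. -/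
theorem isProConstructible_inter {X : Type*} [TopologicalSpace X] {A B : Set X}
    (hA : ProCons.IsProConstructible A) (hB : ProCons.IsProConstructible B) :
    ProCons.IsProConstructible (A ∩ B) := by
  intro x
  obtain ⟨U₁, hU₁, hx₁, S₁, hS₁, hAS⟩ := hA x
  obtain ⟨U₂, hU₂, hx₂, S₂, hS₂, hBS⟩ := hB x
  have h₁ : U₁ ∩ U₂ ⊆ U₁ := Set.inter_subset_left
  have h₂ : U₁ ∩ U₂ ⊆ U₂ := Set.inter_subset_right
  have e₁ : IsOpenEmbedding (Set.inclusion h₁) :=
    IsOpenEmbedding.inclusion h₁ ((hU₁.inter hU₂).preimage continuous_subtype_val)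
  have e₂ : IsOpenEmbedding (Set.inclusion h₂) :=
    IsOpenEmbedding.inclusion h₂ ((hU₁.inter hU₂).preimage continuous_subtype_val)
  refine ⟨U₁ ∩ U₂, hU₁.inter hU₂, ⟨hx₁, hx₂⟩,
    (fun T => Set.inclusion h₁ ⁻¹' T) '' S₁ ∪ (fun T => Set.inclusion h₂ ⁻¹' T) '' S₂, ?_, ?_⟩
  · rintro T (⟨T', hT', rfl⟩ | ⟨T', hT', rfl⟩)
    · exact (hS₁ T' hT').preimage_of_isOpenEmbedding e₁
    · exact (hS₂ T' hT').preimage_of_isOpenEmbedding e₂
  · ext ⟨z, hz⟩
    have hA' : z ∈ A ↔ ∀ T ∈ S₁, (⟨z, hz.1⟩ : U₁) ∈ T := by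
      have := Set.ext_iff.1 hAS ⟨z, hz.1⟩
      simpa using this
    have hB' : z ∈ B ↔ ∀ T ∈ S₂, (⟨z, hz.2⟩ : U₂) ∈ T := by
      have := Set.ext_iff.1 hBS ⟨z, hz.2⟩
      simpa using this
    simp only [Set.mem_preimage, Set.mem_inter_iff, Set.mem_sInter, Set.mem_union, Set.mem_image]
    rw [hA', hB']
    constructor
    · rintro ⟨ha, hb⟩ T (⟨T', hT', rfl⟩ | ⟨T', hT', rfl⟩)
      · exact ha T' hT'
      · exact hb T' hT'
    · intro h
      exact ⟨fun T hT => h _ (Or.inl ⟨T, hT, rfl⟩), fun T hT => h _ (Or.inr ⟨T, hT, rfl⟩)⟩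

section Limit

variable {I : Type u} [SmallCategory I] [IsCofiltered I] (D : I ⥤ Scheme.{u}) (c : Cone D)
  (hc : IsLimit c) [∀ (i j : I) (f : i ⟶ j), IsAffineHom (D.map f)]

omit [IsCofiltered I] [∀ (i j : I) (f : i ⟶ j), IsAffineHom (D.map f)] in
theorem cone_w_apply {i j : I} (a : i ⟶ j) (z : c.pt) :
    D.map a (c.π.app i z) = c.π.app j z := by
  have := congrArg (fun m : c.pt ⟶ D.obj j => m z) (c.w a)
  exact this

include hc

/-- Points of the limit are determined by their components over the objects above `l`. -/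
theorem ext_point (l : I) {z z' : c.pt}
    (h : ∀ (k : I) (_ : k ⟶ l), c.π.app k z = c.π.app k z') : z = z' := by
  haveI : ∀ {i j : I} (f : i ⟶ j), IsAffineHom (D.map f) := fun f => inferInstance
  have hbasis := isBasis_preimage_isAffineOpen D c hc
  have key : ∀ (w w' : c.pt), (∀ (k : I) (_ : k ⟶ l), c.π.app k w = c.π.app k w') →
      ∀ s : Set c.pt, IsOpen s → w ∈ s → w' ∈ s := by
    intro w w' hww s hs hws
    obtain ⟨_, ⟨i, V, hV, rfl⟩, hwV, hVs⟩ :=
      TopologicalSpace.Opens.isBasis_iff_nbhd.mp hbasis (U := ⟨s, hs⟩) hws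
    apply hVs
    show c.π.app i w' ∈ V
    have hw : c.π.app i w ∈ V := hwV
    rw [← cone_w_apply D c (IsCofiltered.minToLeft i l), ← hww _ (IsCofiltered.minToRight i l),
      cone_w_apply D c (IsCofiltered.minToLeft i l)]
    exact hw
  have hins : Inseparable z z' := by
    rw [inseparable_iff_forall_isOpen]
    intro s hs
    exact ⟨key z z' h s hs, key z' z (fun k a => (h k a).symm) s hs⟩
  exact hins.eq

omit hc [IsCofiltered I] [∀ (i j : I) (f : i ⟶ j), IsAffineHom (D.map f)] in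
theorem isIndConstructible_empty {X : Type*} [TopologicalSpace X] :
    ProCons.IsIndConstructible (∅ : Set X) := by
  intro x
  exact ⟨Set.univ, isOpen_univ, trivial, ∅, by simp, by simp⟩

/-- A cofiltered system of nonempty pro-constructible subsets, living over a quasi-compact open
of one stage, has a point in the limit. -/
theorem exists_point_of_nonempty (j₀ : I) (U : (D.obj j₀).Opens)
    (hU : IsCompact (U : Set (D.obj j₀)))
    (G : ∀ i : I, Set (D.obj i)) (hG : ∀ i, ProCons.IsProConstructible (G i))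
    (hGm : ∀ (i j : I) (a : i ⟶ j), G i ⊆ D.map a ⁻¹' G j)
    (hne : ∀ (k : I) (a : k ⟶ j₀), (G k ∩ D.map a ⁻¹' U).Nonempty) :
    ∃ x : c.pt, c.π.app j₀ x ∈ U ∧ ∀ (k : I) (_ : k ⟶ j₀), c.π.app k x ∈ G k := by
  haveI : ∀ {i j : I} (f : i ⟶ j), IsAffineHom (D.map f) := fun f => inferInstance
  let D' := opensDiagram D j₀ U
  let c' := opensCone D c j₀ U
  have hc' : IsLimit c' := isLimitOpensCone D c hc j₀ U
  let E : ∀ k : Over j₀, Set (D'.obj k) := fun k =>
    (D.map k.hom ⁻¹ᵁ U).ι ⁻¹' G k.left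
  have hE : ∀ k, ProCons.IsProConstructible (E k) := fun k =>
    Groth.Agent.Lib.Helper5.isProConstructible_preimage _ _ (hG k.left)
  have hEm : ∀ (k k' : Over j₀) (φ : k ⟶ k'), E k ⊆ ⇑(D'.map φ) ⁻¹' E k' := by
    intro k k' φ x hx
    show (D.map k'.hom ⁻¹ᵁ U).ι (D'.map φ x) ∈ G k'.left
    have h1 : D'.map φ ≫ (D.map k'.hom ⁻¹ᵁ U).ι = (D.map k.hom ⁻¹ᵁ U).ι ≫ D.map φ.left :=
      Scheme.Hom.resLE_comp_ι _ _
    have h2 := congrArg (fun m : D'.obj k ⟶ D.obj k'.left => m x) h1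
    have h3 : (D.map k'.hom ⁻¹ᵁ U).ι (D'.map φ x) = D.map φ.left ((D.map k.hom ⁻¹ᵁ U).ι x) := h2
    rw [h3]
    exact hGm _ _ φ.left hx
  haveI : CompactSpace (D'.obj (Over.mk (𝟙 j₀))) := by
    have h : IsCompact
        ((D.map (Over.mk (𝟙 j₀)).hom ⁻¹ᵁ U : (D.obj j₀).Opens) : Set (D.obj j₀)) := by
      simpa using hU
    exact isCompact_iff_compactSpace.mp h
  have key := Groth.Agent.S4787.result D' c' hc' (Over.mk (𝟙 j₀)) E (fun _ => ∅) hE
    (fun _ => isIndConstructible_empty) hEm (fun _ _ _ => by simp)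
  have hR : ¬ ∃ (i : Over j₀) (_ : i ⟶ Over.mk (𝟙 j₀)), ∀ (j : Over j₀) (_ : j ⟶ i), E j ⊆ ∅ := by
    rintro ⟨i, -, hi⟩
    obtain ⟨y, hyG, hyU⟩ := hne i.left i.hom
    exact hi i (𝟙 i) (show (⟨y, hyU⟩ : D'.obj i) ∈ E i from hyG)
  have hne' : ¬ ((⋂ i, ⇑(c'.π.app i) ⁻¹' E i : Set c'.pt) ⊆
      ⋃ i, ⇑(c'.π.app i) ⁻¹' (∅ : Set (D'.obj i))) := fun h => hR (key.1 h)
  rw [Set.not_subset] at hne'
  obtain ⟨x', hx', -⟩ := hne'
  refine ⟨(c.π.app j₀ ⁻¹ᵁ U).ι x', x'.2, fun k a => ?_⟩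
  have hk := Set.mem_iInter.1 hx' (Over.mk a)
  have h1 : c'.π.app (Over.mk a) ≫ (D.map a ⁻¹ᵁ U).ι = (c.π.app j₀ ⁻¹ᵁ U).ι ≫ c.π.app k :=
    Scheme.Hom.resLE_comp_ι _ _
  have h2 := congrArg (fun m : c'.pt ⟶ D.obj k => m x') h1
  have h3 : (D.map a ⁻¹ᵁ U).ι (c'.π.app (Over.mk a) x') =
      c.π.app k ((c.π.app j₀ ⁻¹ᵁ U).ι x') := h2
  rw [← h3]
  exact hk

end Limit

section Main

variable {J : Type u} [SmallCategory J] [IsCofiltered J] (DX DY : J ⥤ Scheme.{u})
  [∀ (i j : J) (f : i ⟶ j), IsAffineHom (DX.map f)]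
  [∀ (i j : J) (f : i ⟶ j), IsAffineHom (DY.map f)]
  (α : DX ⟶ DY) (cX : Cone DX) (hcX : IsLimit cX) (cY : Cone DY) (hcY : IsLimit cY)
  (F : cX.pt ⟶ cY.pt) (hF : ∀ j, F ≫ cY.π.app j = cX.π.app j ≫ α.app j)
  [∀ j, QuasiCompact (α.app j)]

include hcX hcY hF

/-- **Limit theorem.** If the morphisms `α j : DX j ⟶ DY j` of a cofiltered system (with affine
transition morphisms) are quasi-compact and eventually S-subtrusive, the induced morphism of the
limits is S-subtrusive. -/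
theorem isSSubtrusive_of_limit (l₀ : J)
    (hα : ∀ (j : J) (_ : j ⟶ l₀), Subtr.IsSSubtrusive (α.app j)) : Subtr.IsSSubtrusive F := by
  haveI : ∀ {i j : J} (f : i ⟶ j), IsAffineHom (DX.map f) := fun f => inferInstance
  intro y y' hyy
  -- components
  have hnat : ∀ {i j : J} (a : i ⟶ j) (x : DX.obj i),
      α.app j (DX.map a x) = DY.map a (α.app i x) := by
    intro i j a x
    exact congrArg (fun m : DX.obj i ⟶ DY.obj j => m x) (α.naturality a)
  have hFpt : ∀ (j : J) (x : cX.pt), cY.π.app j (F x) = α.app j (cX.π.app j x) := by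
    intro j x
    exact congrArg (fun m : cX.pt ⟶ DY.obj j => m x) (hF j)
  have hspec : ∀ j, cY.π.app j y' ⤳ cY.π.app j y := fun j => hyy.map (cY.π.app j).continuous
  -- the pro-constructible sets of lifts
  let G : ∀ j : J, Set (DX.obj j) := fun j =>
    α.app j ⁻¹' {cY.π.app j y} ∩ closure (α.app j ⁻¹' {cY.π.app j y'})
  have hfib : ∀ (j : J) (z : cY.pt), ProCons.IsProConstructible (α.app j ⁻¹' {cY.π.app j z}) :=
    fun j z => Groth.Agent.Lib.Helper5.isProConstructible_preimage (α.app j) _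
      (Groth.Agent.Lib.Helper5.isProConstructible_singleton _ _)
  have hfibm : ∀ (i j : J) (a : i ⟶ j) (z : cY.pt),
      α.app i ⁻¹' {cY.π.app i z} ⊆ DX.map a ⁻¹' (α.app j ⁻¹' {cY.π.app j z}) := by
    intro i j a z x hx
    show α.app j (DX.map a x) = cY.π.app j z
    rw [hnat, show α.app i x = cY.π.app i z from hx, cone_w_apply]
  have hG : ∀ j, ProCons.IsProConstructible (G j) := fun j =>
    isProConstructible_inter (hfib j y) (isProConstructible_of_isClosed _ isClosed_closure)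
  have hGm : ∀ (i j : J) (a : i ⟶ j), G i ⊆ DX.map a ⁻¹' G j := by
    rintro i j a x ⟨hx1, hx2⟩
    exact ⟨hfibm i j a y hx1, map_mem_closure (DX.map a).continuous hx2 (hfibm i j a y')⟩
  -- a quasi-compact open of `DX l₀` containing everything
  obtain ⟨W, hW, hyW, -⟩ :=
    TopologicalSpace.Opens.isBasis_iff_nbhd.mp (DY.obj l₀).isBasis_affineOpens
      (show cY.π.app l₀ y ∈ (⊤ : (DY.obj l₀).Opens) from trivial)
  have hW' : IsAffineOpen W := hW
  have hUc : IsCompact ((α.app l₀ ⁻¹ᵁ W : (DX.obj l₀).Opens) : Set (DX.obj l₀)) :=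
    (α.app l₀).isCompact_preimage hW'.isCompact
  have hne : ∀ (k : J) (a : k ⟶ l₀),
      (G k ∩ DX.map a ⁻¹' ((α.app l₀ ⁻¹ᵁ W : (DX.obj l₀).Opens) : Set (DX.obj l₀))).Nonempty := by
    intro k a
    obtain ⟨x, x', hxx, hx, hx'⟩ := hα k a (hspec k)
    refine ⟨x, ⟨hx, ?_⟩, ?_⟩
    · exact closure_mono (Set.singleton_subset_iff.2 (show x' ∈ α.app k ⁻¹' {cY.π.app k y'} from hx'))
        (specializes_iff_mem_closure.1 hxx)
    · show α.app l₀ (DX.map a x) ∈ W
      rw [hnat, hx, cone_w_apply]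
      exact hyW
  obtain ⟨x, -, hxG⟩ := exists_point_of_nonempty DX cX hcX l₀ _ hUc G hG hGm hne
  have hFx : F x = y := by
    refine ext_point DY cY hcY l₀ fun k a => ?_
    rw [hFpt]
    exact (hxG k a).1
  -- `x` lies in the closure of the fibre over `y'`
  have hcl : x ∈ closure (F ⁻¹' {y'}) := by
    rw [mem_closure_iff]
    intro O hO hxO
    obtain ⟨_, ⟨i, V, hV, rfl⟩, hxV, hVO⟩ :=
      TopologicalSpace.Opens.isBasis_iff_nbhd.mp (isBasis_preimage_isAffineOpen DX cX hcX)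
        (U := ⟨O, hO⟩) hxO
    let l := IsCofiltered.min i l₀
    let a : l ⟶ i := IsCofiltered.minToLeft i l₀
    let b : l ⟶ l₀ := IsCofiltered.minToRight i l₀
    have hVl : IsAffineOpen (DX.map a ⁻¹ᵁ V) := hV.preimage (DX.map a)
    let G' : ∀ j : J, Set (DX.obj j) := fun j => α.app j ⁻¹' {cY.π.app j y'}
    have hne' : ∀ (k : J) (a' : k ⟶ l),
        (G' k ∩ DX.map a' ⁻¹' ((DX.map a ⁻¹ᵁ V : (DX.obj l).Opens) : Set (DX.obj l))).Nonempty := by
      intro k a'
      have h1 : cX.π.app k x ∈ closure (α.app k ⁻¹' {cY.π.app k y'}) := (hxG k (a' ≫ b)).2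
      have h2 : cX.π.app k x ∈
          DX.map a' ⁻¹' ((DX.map a ⁻¹ᵁ V : (DX.obj l).Opens) : Set (DX.obj l)) := by
        show DX.map a (DX.map a' (cX.π.app k x)) ∈ V
        rw [cone_w_apply, cone_w_apply]
        exact hxV
      have hopen : IsOpen
          (DX.map a' ⁻¹' ((DX.map a ⁻¹ᵁ V : (DX.obj l).Opens) : Set (DX.obj l))) :=
        (DX.map a ⁻¹ᵁ V).isOpen.preimage (DX.map a').continuous
      obtain ⟨z, hz1, hz2⟩ := mem_closure_iff.1 h1 _ hopen h2
      exact ⟨z, hz2, hz1⟩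
    obtain ⟨x'', hx''V, hx''G⟩ := exists_point_of_nonempty DX cX hcX l _ hVl.isCompact G'
      (fun j => hfib j y') (fun i j a => hfibm i j a y') hne'
    refine ⟨x'', hVO ?_, ?_⟩
    · show cX.π.app i x'' ∈ V
      rw [← cone_w_apply DX cX a]
      exact hx''V
    · show F x'' = y'
      refine ext_point DY cY hcY l fun k a' => ?_
      rw [hFpt]
      exact hx''G k a'
  obtain ⟨x', hx'F, hx'x⟩ := Groth.Agent.Lib.Helper5.exists_specializes_of_mem_closure cX.pt _
    (Groth.Agent.Lib.Helper5.isProConstructible_preimage F _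
      (Groth.Agent.Lib.Helper5.isProConstructible_singleton _ y')) x hcl
  exact ⟨x, x', hx'x, hFx, hx'F⟩

end Main

section ArrowIso

/-- S-subtrusiveness is invariant under isomorphisms of arrows. -/
theorem isSSubtrusive_of_arrow_iso {X Y X' Y' : Scheme.{u}} (f : X ⟶ Y) (f' : X' ⟶ Y')
    (eX : X ≅ X') (eY : Y ≅ Y') (h : eX.hom ≫ f' = f ≫ eY.hom)
    (hf : Subtr.IsSSubtrusive f) : Subtr.IsSSubtrusive f' := by
  intro y y' hyy
  obtain ⟨x, x', hxx, hx, hx'⟩ := hf (hyy.map eY.inv.continuous)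
  have hpt : ∀ z : X, f' (eX.hom z) = eY.hom (f z) := fun z =>
    congrArg (fun m : X ⟶ Y' => m z) h
  have hinv : ∀ w : Y', eY.hom (eY.inv w) = w := fun w =>
    congrArg (fun m : Y' ⟶ Y' => m w) eY.inv_hom_id
  refine ⟨eX.hom x, eX.hom x', hxx.map eX.hom.continuous, ?_, ?_⟩
  · rw [hpt, hx, hinv]
  · rw [hpt, hx', hinv]

end ArrowIso

section Pullback

variable {I : Type u} [SmallCategory I] [IsCofiltered I] (D : I ⥤ Scheme.{u}) (c : Cone D)
  (hc : IsLimit c) [∀ (i j : I) (a : i ⟶ j), IsAffineHom (D.map a)] (i₀ : I)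
  {X₀ Y₀ : Scheme.{u}} (f₀ : X₀ ⟶ Y₀) (g₀ : Y₀ ⟶ D.obj i₀)

/-- The projection `Z ×_{Y₀} X₀ ⟶ Z`, natural in `Z` over `Y₀`. -/
noncomputable def β : Over.pullback f₀ ⋙ Over.forget X₀ ⟶ Over.forget Y₀ where
  app Z := pullback.fst Z.hom f₀
  naturality Z Z' m := by
    simp only [Functor.comp_obj, Over.forget_obj, Functor.comp_map, Over.forget_map,
      Over.pullback_map_left]
    exact pullback.lift_fst _ _ _

/-- The diagram `j ↦ D j ×_{D i₀} Y₀`. -/
noncomputable def DY : Over i₀ ⥤ Scheme.{u} :=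
  Over.post D ⋙ Over.pullback g₀ ⋙ Over.forget _

/-- The diagram `j ↦ (D j ×_{D i₀} Y₀) ×_{Y₀} X₀`. -/
noncomputable def DX : Over i₀ ⥤ Scheme.{u} :=
  Over.post D ⋙ Over.pullback g₀ ⋙ Over.pullback f₀ ⋙ Over.forget _

/-- The natural transformation `DX ⟶ DY`. -/
noncomputable def αXY : DX D i₀ f₀ g₀ ⟶ DY D i₀ g₀ :=
  Functor.whiskerLeft (Over.post D ⋙ Over.pullback g₀) (β f₀)

/-- The limit cone of `DY`. -/
noncomputable def cY : Cone (DY D i₀ g₀) :=
  (Over.pullback g₀ ⋙ Over.forget _).mapCone ((Over.conePost D i₀).obj c)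

/-- The limit cone of `DX`. -/
noncomputable def cX : Cone (DX D i₀ f₀ g₀) :=
  (Over.pullback g₀ ⋙ Over.pullback f₀ ⋙ Over.forget _).mapCone ((Over.conePost D i₀).obj c)

attribute [local instance] IsCofiltered.isConnected in
/-- `cY` is a limit cone. -/
noncomputable def hcY : IsLimit (cY D c i₀ g₀) :=
  isLimitOfPreserves (Over.pullback g₀ ⋙ Over.forget _) (Over.isLimitConePost i₀ hc)

attribute [local instance] IsCofiltered.isConnected in
/-- `cX` is a limit cone. -/
noncomputable def hcX : IsLimit (cX D c i₀ f₀ g₀) :=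
  isLimitOfPreserves (Over.pullback g₀ ⋙ Over.pullback f₀ ⋙ Over.forget _)
    (Over.isLimitConePost i₀ hc)

omit [IsCofiltered I] [∀ (i j : I) (a : i ⟶ j), IsAffineHom (D.map a)] in
theorem isAffineHom_of_comp' {A B C : Scheme.{u}} (u : A ⟶ B) (v : B ⟶ C)
    (h1 : IsAffineHom (u ≫ v)) (h2 : IsAffineHom v) : IsAffineHom u := by
  haveI : IsSeparated v := IsSeparated.of_isAffineHom v
  exact IsAffineHom.of_comp u v

omit [IsCofiltered I] in
theorem isAffineHom_DY_map (j k : Over i₀) (φ : j ⟶ k) :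
    IsAffineHom ((DY D i₀ g₀).map φ) := by
  haveI hj : IsAffineHom (D.map j.hom) := inferInstanceAs (IsAffineHom (D.map (j.hom : j.left ⟶ i₀)))
  haveI hk : IsAffineHom (D.map k.hom) := inferInstanceAs (IsAffineHom (D.map (k.hom : k.left ⟶ i₀)))
  have h : (DY D i₀ g₀).map φ ≫ pullback.snd (D.map k.hom) g₀ =
      pullback.snd (D.map j.hom) g₀ := pullback.lift_snd _ _ _
  haveI h1 : IsAffineHom (pullback.snd (D.map j.hom) g₀) :=
    MorphismProperty.pullback_snd _ _ hj
  haveI h2 : IsAffineHom (pullback.snd (D.map k.hom) g₀) :=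
    MorphismProperty.pullback_snd _ _ hk
  exact isAffineHom_of_comp' _ (pullback.snd (D.map k.hom) g₀) (by rw [h]; exact h1) h2

omit [IsCofiltered I] in
theorem isAffineHom_DX_map (j k : Over i₀) (φ : j ⟶ k) :
    IsAffineHom ((DX D i₀ f₀ g₀).map φ) := by
  haveI hj : IsAffineHom (D.map j.hom) := inferInstanceAs (IsAffineHom (D.map (j.hom : j.left ⟶ i₀)))
  haveI hk : IsAffineHom (D.map k.hom) := inferInstanceAs (IsAffineHom (D.map (k.hom : k.left ⟶ i₀)))
  have h : (DX D i₀ f₀ g₀).map φ ≫ pullback.snd (pullback.snd (D.map k.hom) g₀) f₀ =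
      pullback.snd (pullback.snd (D.map j.hom) g₀) f₀ := pullback.lift_snd _ _ _
  haveI h1 : IsAffineHom (pullback.snd (D.map j.hom) g₀) :=
    MorphismProperty.pullback_snd _ _ hj
  haveI h2 : IsAffineHom (pullback.snd (D.map k.hom) g₀) :=
    MorphismProperty.pullback_snd _ _ hk
  haveI h3 : IsAffineHom (pullback.snd (pullback.snd (D.map j.hom) g₀) f₀) :=
    MorphismProperty.pullback_snd _ _ h1
  haveI h4 : IsAffineHom (pullback.snd (pullback.snd (D.map k.hom) g₀) f₀) :=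
    MorphismProperty.pullback_snd _ _ h2
  exact isAffineHom_of_comp' _ (pullback.snd (pullback.snd (D.map k.hom) g₀) f₀)
    (by rw [h]; exact h3) h4

omit [IsCofiltered I] [∀ (i j : I) (a : i ⟶ j), IsAffineHom (D.map a)] in
/-- The two ways of writing the base change of `f₀` along `Y₀ ×_{D i₀} T ⟶ Y₀` are isomorphic
arrows. -/
theorem isSSubtrusive_swap {T : Scheme.{u}} (h : T ⟶ D.obj i₀) :
    Subtr.IsSSubtrusive (pullback.snd f₀ (pullback.fst g₀ h)) ↔
      Subtr.IsSSubtrusive (pullback.fst (pullback.snd h g₀) f₀) := by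
  let eY : pullback g₀ h ≅ pullback h g₀ := pullbackSymmetry g₀ h
  have heY1 : eY.hom ≫ pullback.snd h g₀ = pullback.fst g₀ h := pullbackSymmetry_hom_comp_snd _ _
  have heY2 : eY.inv ≫ pullback.fst g₀ h = pullback.snd h g₀ := by
    rw [Iso.inv_comp_eq, heY1]
  let a : pullback f₀ (pullback.fst g₀ h) ⟶ pullback (pullback.snd h g₀) f₀ :=
    pullback.lift (pullback.snd _ _ ≫ eY.hom) (pullback.fst _ _)
      (by rw [Category.assoc, heY1, pullback.condition])
  let b : pullback (pullback.snd h g₀) f₀ ⟶ pullback f₀ (pullback.fst g₀ h) :=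
    pullback.lift (pullback.snd _ _) (pullback.fst _ _ ≫ eY.inv)
      (by rw [Category.assoc, heY2, pullback.condition])
  have hab : a ≫ b = 𝟙 _ := by
    apply pullback.hom_ext
    · rw [Category.assoc, pullback.lift_fst, pullback.lift_snd, Category.id_comp]
    · rw [Category.assoc, pullback.lift_snd, pullback.lift_fst_assoc, Category.assoc,
        Iso.hom_inv_id, Category.comp_id, Category.id_comp]
  have hba : b ≫ a = 𝟙 _ := by
    apply pullback.hom_ext
    · rw [Category.assoc, pullback.lift_fst, pullback.lift_snd_assoc, Category.assoc,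
        Iso.inv_hom_id, Category.comp_id, Category.id_comp]
    · rw [Category.assoc, pullback.lift_snd, pullback.lift_fst, Category.id_comp]
  let eX : pullback f₀ (pullback.fst g₀ h) ≅ pullback (pullback.snd h g₀) f₀ := ⟨a, b, hab, hba⟩
  have hsq : eX.hom ≫ pullback.fst (pullback.snd h g₀) f₀ =
      pullback.snd f₀ (pullback.fst g₀ h) ≫ eY.hom := pullback.lift_fst _ _ _
  constructor
  · exact isSSubtrusive_of_arrow_iso _ _ eX eY hsq
  · refine isSSubtrusive_of_arrow_iso _ _ eX.symm eY.symm ?_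
    show eX.inv ≫ _ = _ ≫ eY.inv
    rw [Iso.inv_comp_eq, ← Category.assoc, hsq, Category.assoc, Iso.hom_inv_id, Category.comp_id]

include hc in
/-- **S14791.** -/
theorem isSSubtrusive_pullback_limit [QuasiCompact f₀]
    (h : ∃ (i₁ : I) (ψ : i₁ ⟶ i₀), ∀ (i : I) (φ : i ⟶ i₁),
      Subtr.IsSSubtrusive (pullback.snd f₀ (pullback.fst g₀ (D.map (φ ≫ ψ))))) :
    Subtr.IsSSubtrusive (pullback.snd f₀ (pullback.fst g₀ (c.π.app i₀))) := by
  obtain ⟨i₁, ψ, h⟩ := h
  rw [isSSubtrusive_swap D i₀ f₀ g₀ (c.π.app i₀)]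
  haveI : ∀ (j k : Over i₀) (φ : j ⟶ k), IsAffineHom ((DX D i₀ f₀ g₀).map φ) :=
    isAffineHom_DX_map D i₀ f₀ g₀
  haveI : ∀ (j k : Over i₀) (φ : j ⟶ k), IsAffineHom ((DY D i₀ g₀).map φ) :=
    isAffineHom_DY_map D i₀ g₀
  haveI : ∀ j, QuasiCompact ((αXY D i₀ f₀ g₀).app j) := fun j =>
    MorphismProperty.pullback_fst (P := @QuasiCompact) _ _ ‹QuasiCompact f₀›
  refine isSSubtrusive_of_limit (DX D i₀ f₀ g₀) (DY D i₀ g₀) (αXY D i₀ f₀ g₀)
    (cX D c i₀ f₀ g₀) (hcX D c hc i₀ f₀ g₀) (cY D c i₀ g₀) (hcY D c hc i₀ g₀)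
    (pullback.fst (pullback.snd (c.π.app i₀) g₀) f₀) ?_ (Over.mk ψ) ?_
  · intro j
    exact ((β f₀).naturality
      ((Over.pullback g₀).map (((Over.conePost D i₀).obj c).π.app j))).symm
  · intro j m
    have e : m.left ≫ ψ = j.hom := Over.w m
    have h1 := (isSSubtrusive_swap D i₀ f₀ g₀ (D.map (m.left ≫ ψ))).1 (h j.left m.left)
    rw [e] at h1
    exact h1

end Pullback

section OverBase

variable {J : Type u} [SmallCategory J] [IsCofiltered J] {X Y : Scheme.{u}} (f : X ⟶ Y)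
  (D : J ⥤ Scheme.{u}) (s : D ⟶ (Functor.const J).obj Y)

/-- The diagram `j ↦ D j ×_Y X`. -/
noncomputable def DXover : J ⥤ Scheme.{u} :=
  Over.lift D s ⋙ Over.pullback f ⋙ Over.forget X

/-- The projections `D j ×_Y X ⟶ D j`. -/
noncomputable def αover : DXover f D s ⟶ D where
  app j := pullback.fst (s.app j) f
  naturality j k a := by
    simp only [DXover, Functor.comp_obj, Over.forget_obj, Functor.comp_map, Over.forget_map,
      Over.pullback_map_left]
    exact pullback.lift_fst _ _ _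

omit [IsCofiltered J] in
theorem isAffineHom_DXover_map [∀ (i j : J) (a : i ⟶ j), IsAffineHom (D.map a)]
    (j k : J) (a : j ⟶ k) : IsAffineHom ((DXover f D s).map a) := by
  have hw : D.map a ≫ s.app k = s.app j := by
    have := s.naturality a
    simp only [Functor.const_obj_obj, Functor.const_obj_map, Category.comp_id] at this
    exact this
  have hsnd : (DXover f D s).map a ≫ pullback.snd (s.app k) f = pullback.snd (s.app j) f :=
    pullback.lift_snd _ _ _
  have hfst : (DXover f D s).map a ≫ pullback.fst (s.app k) f =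
      pullback.fst (s.app j) f ≫ D.map a := pullback.lift_fst _ _ _
  have big : IsPullback ((DXover f D s).map a ≫ pullback.snd (s.app k) f)
      (pullback.fst (s.app j) f) f (D.map a ≫ s.app k) := by
    rw [hsnd, hw]
    exact (IsPullback.of_hasPullback (s.app j) f).flip
  have sq : IsPullback ((DXover f D s).map a) (pullback.fst (s.app j) f)
      (pullback.fst (s.app k) f) (D.map a) :=
    IsPullback.of_right big hfst (IsPullback.of_hasPullback (s.app k) f).flip
  exact MorphismProperty.of_isPullback (P := @IsAffineHom) sq.flip inferInstance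

attribute [local instance] IsCofiltered.isConnected in
/-- **Limit theorem over a base.** Let `f : X ⟶ Y` be quasi-compact and `T = lim D j` a cofiltered
limit of `Y`-schemes with affine transition morphisms. If the base changes of `f` to the `D j` are
eventually S-subtrusive, so is the base change of `f` to `T`. -/
theorem isSSubtrusive_of_limit_over [QuasiCompact f]
    [∀ (i j : J) (a : i ⟶ j), IsAffineHom (D.map a)]
    (c : Cone D) (hc : IsLimit c) (p : c.pt ⟶ Y) (hp : ∀ j, c.π.app j ≫ s.app j = p) (l₀ : J)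
    (h : ∀ (j : J) (_ : j ⟶ l₀), Subtr.IsSSubtrusive (pullback.fst (s.app j) f)) :
    Subtr.IsSSubtrusive (pullback.fst p f) := by
  haveI : ∀ (j k : J) (a : j ⟶ k), IsAffineHom ((DXover f D s).map a) :=
    isAffineHom_DXover_map f D s
  haveI : ∀ j, QuasiCompact ((αover f D s).app j) := fun j =>
    MorphismProperty.pullback_fst (P := @QuasiCompact) _ _ ‹QuasiCompact f›
  let cK := Over.liftCone D s c p hp
  have hcK : IsLimit cK := Over.isLimitLiftCone D s c p hp hc
  let cX : Cone (DXover f D s) := (Over.pullback f ⋙ Over.forget X).mapCone cK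
  have hcX : IsLimit cX := isLimitOfPreserves (Over.pullback f ⋙ Over.forget X) hcK
  refine isSSubtrusive_of_limit (DXover f D s) D (αover f D s) cX hcX c hc
    (pullback.fst p f) ?_ l₀ h
  intro j
  exact (pullback.lift_fst _ _ _).symm

end OverBase

end Groth.Agent.R2.H68.SubtrLim
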