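import Mathlib
import Groth.Agent.R2.H96ChevIntSpec
import Groth.Agent.R2.H68SubtrLim
import Groth.Agent.S0591
import Groth.Agent.S9187
import Groth.Agent.S2581

/-!
# helper68: PROJ:chev-int package [STAGE]

If `S = lim S_i` (cofiltered, affine transitions, qcqs stages) and `h : Z ⟶ S` is finite, of finite
presentation and surjective with `Z` affine, then for some stage there is a finite surjective
`h_k : Z_k ⟶ S_k` with `Z_k` affine: descend `h` (prior S0591), get affineness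
(`Scheme.exists_isAffine_of_isLimit`), finiteness (prior S9187) and surjectivity (S2581) at three
stages and move to a common one.
-/

set_option autoImplicit false
set_option linter.style.haveILetI false
universe u

open CategoryTheory CategoryTheory.Limits AlgebraicGeometry

namespace Groth.Agent.R2.H68.ChevStage

open Groth.Agent.R2.H68.SubtrLim Groth.Agent.R2.H96.ChevIntSpec

/-- moving a property of a model `u` of `h₀` over `φ : S₂ ⟶ S₀` to the canonical model over a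
further stage `ψ = m ≫ φ`. -/
theorem transfer (P : MorphismProperty Scheme.{u}) [P.IsStableUnderBaseChange]
    {S₀ S₂ Sk Z₀ X₂ : Scheme.{u}} (h₀ : Z₀ ⟶ S₀) (φ : S₂ ⟶ S₀) (m : Sk ⟶ S₂) (ψ : Sk ⟶ S₀)
    (hψ : m ≫ φ = ψ) {pX : X₂ ⟶ Z₀} {u : X₂ ⟶ S₂} (hu : IsPullback pX u h₀ φ) (hP : P u) :
    P (pullback.fst ψ h₀) := by
  subst hψ
  let t : pullback (m ≫ φ) h₀ ⟶ X₂ :=
    hu.lift (pullback.snd (m ≫ φ) h₀) (pullback.fst (m ≫ φ) h₀ ≫ m)
      (by rw [Category.assoc, ← pullback.condition])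
  have ht1 : t ≫ pX = pullback.snd (m ≫ φ) h₀ := hu.lift_fst _ _ _
  have ht2 : t ≫ u = pullback.fst (m ≫ φ) h₀ ≫ m := hu.lift_snd _ _ _
  have outer : IsPullback (t ≫ pX) (pullback.fst (m ≫ φ) h₀) h₀ (m ≫ φ) := by
    rw [ht1]
    exact (IsPullback.of_hasPullback (m ≫ φ) h₀).flip
  have hsq : IsPullback t (pullback.fst (m ≫ φ) h₀) u m := IsPullback.of_right outer ht2 hu
  exact P.of_isPullback hsq hP

/-- **[STAGE]** -/
theorem stage : StageStmt.{u} := by
  intro I _ _ D c hc _ _ _ Z h _ _ _ _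
  -- a model over some stage
  obtain ⟨i₀, Z₀, h₀, q, a1, a2, a3, hZ⟩ := Groth.Agent.S0591.result D c hc Z h
  haveI := a1; haveI := a2; haveI := a3
  haveI : CompactSpace Z₀ := QuasiCompact.compactSpace_of_compactSpace h₀
  haveI : QuasiSeparatedSpace Z₀ := quasiSeparatedSpace_of_quasiSeparated h₀
  -- an affine stage
  haveI : ∀ (j k : Over i₀) (φ : j ⟶ k), IsAffineHom ((DY D i₀ h₀).map φ) :=
    isAffineHom_DY_map D i₀ h₀
  haveI : ∀ j : Over i₀, CompactSpace ((DY D i₀ h₀).obj j) := fun j => by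
    haveI : QuasiCompact (pullback.fst (D.map j.hom) h₀) :=
      MorphismProperty.pullback_fst (P := @QuasiCompact) _ _ ‹QuasiCompact h₀›
    show CompactSpace ↥(pullback (D.map j.hom) h₀)
    exact QuasiCompact.compactSpace_of_compactSpace (pullback.fst (D.map j.hom) h₀)
  haveI : ∀ j : Over i₀, QuasiSeparatedSpace ((DY D i₀ h₀).obj j) := fun j => by
    haveI : QuasiSeparated (pullback.fst (D.map j.hom) h₀) :=
      MorphismProperty.pullback_fst (P := @QuasiSeparated) _ _ ‹QuasiSeparated h₀›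
    show QuasiSeparatedSpace ↥(pullback (D.map j.hom) h₀)
    exact quasiSeparatedSpace_of_quasiSeparated (pullback.fst (D.map j.hom) h₀)
  haveI : IsAffine (cY D c i₀ h₀).pt := by
    have e : Z ≅ pullback (c.π.app i₀) h₀ := hZ.flip.isoPullback
    exact IsAffine.of_isIso e.inv
  obtain ⟨j₁, hj₁⟩ := Scheme.exists_isAffine_of_isLimit (DY D i₀ h₀) (cY D c i₀ h₀)
    (hcY D c hc i₀ h₀)
  -- the trivial square over the base
  have hY : IsPullback (c.π.app i₀) (𝟙 c.pt) (𝟙 (D.obj i₀)) (c.π.app i₀) :=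
    IsPullback.id_vert (c.π.app i₀)
  -- a finite stage
  obtain ⟨i₂, φ₂, X₂, Y₂, f₂, g₂, pY₂, pX₂, hY₂, hX₂, hfin⟩ :=
    Groth.Agent.S9187.result D c hc i₀ h₀ (𝟙 (D.obj i₀)) h (𝟙 c.pt) (c.π.app i₀) q hY hZ
  -- a surjective stage
  haveI : LocallyOfFinitePresentation (h₀ ≫ 𝟙 (D.obj i₀)) := by
    rw [Category.comp_id]; infer_instance
  haveI : QuasiCompact (h₀ ≫ 𝟙 (D.obj i₀)) := by rw [Category.comp_id]; infer_instance
  haveI : QuasiSeparated (h₀ ≫ 𝟙 (D.obj i₀)) := by rw [Category.comp_id]; infer_instance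
  obtain ⟨i₃, φ₃, X₃, Y₃, f₃, g₃, pY₃, pX₃, hY₃, hX₃, hsurj⟩ :=
    Groth.Agent.S2581.result D c hc i₀ h₀ (𝟙 (D.obj i₀)) h (𝟙 c.pt) (c.π.app i₀) q hY hZ
  -- models over `i₂`, `i₃`
  haveI : IsIso g₂ := hY₂.isIso_snd_of_isIso
  haveI : IsIso g₃ := hY₃.isIso_snd_of_isIso
  have hu₂ : IsPullback pX₂ (f₂ ≫ g₂) h₀ (D.map φ₂) := by
    have := hX₂.paste_vert hY₂
    rwa [Category.comp_id] at this
  have hu₃ : IsPullback pX₃ (f₃ ≫ g₃) h₀ (D.map φ₃) := by
    have := hX₃.paste_vert hY₃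
    rwa [Category.comp_id] at this
  have hfin' : IsFinite (f₂ ≫ g₂) := inferInstance
  have hsurj' : Surjective (f₃ ≫ g₃) := inferInstance
  -- a common stage
  let k₀ : Over i₀ := IsCofiltered.min (Over.mk φ₂) (Over.mk φ₃)
  let k : Over i₀ := IsCofiltered.min j₁ k₀
  let m₁ : k ⟶ j₁ := IsCofiltered.minToLeft j₁ k₀
  let m₂ : k ⟶ Over.mk φ₂ := IsCofiltered.minToRight j₁ k₀ ≫ IsCofiltered.minToLeft _ _
  let m₃ : k ⟶ Over.mk φ₃ := IsCofiltered.minToRight j₁ k₀ ≫ IsCofiltered.minToRight _ _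
  refine ⟨k.left, (DY D i₀ h₀).obj k, pullback.fst (D.map k.hom) h₀, ?_, ?_, ?_⟩
  · haveI : IsAffineHom ((DY D i₀ h₀).map m₁) := isAffineHom_DY_map D i₀ h₀ _ _ m₁
    exact isAffine_of_isAffineHom ((DY D i₀ h₀).map m₁)
  · refine transfer @IsFinite h₀ (D.map φ₂) (D.map m₂.left) (D.map k.hom) ?_ hu₂ hfin'
    rw [← D.map_comp]
    exact congrArg D.map (Over.w m₂)
  · refine transfer @Surjective h₀ (D.map φ₃) (D.map m₃.left) (D.map k.hom) ?_ hu₃ hsurj'
    rw [← D.map_comp]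
    exact congrArg D.map (Over.w m₃)

end Groth.Agent.R2.H68.ChevStage
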