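import Mathlib
import Groth.Agent.R2.H68ChainIndep

/-!
# Domains algebraic over a finitely generated subring have finite Krull dimension (helper68)

* `ringKrullDim_lt_top_of_closure`: if every element `d` of the domain `D` satisfies `d * z = y` with
  `y, z ≠ 0` in the subring generated by a finite set `t`, then `dim D ≤ 2 |t| + 1 < ⊤`.
-/

set_option autoImplicit false

universe u

open Polynomial Cardinal

namespace Groth.Agent.R2.H68.DimFG

open Groth.Agent.R2.H68.ChainIndep

variable {D : Type u} [CommRing D]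

/-- The algebraicity hypothesis. -/
def AlgOver (t : Finset D) : Prop :=
  ∀ d : D, ∃ y ∈ Subring.closure (t : Set D), ∃ z ∈ Subring.closure (t : Set D), z ≠ 0 ∧ d * z = y

theorem isAlgebraic_adjoin (C : Type*) [CommRing C] [Algebra C D] (t : Finset D) (H : AlgOver t) :
    Algebra.IsAlgebraic (Algebra.adjoin C (t : Set D)) D := by
  refine ⟨fun d => ?_⟩
  obtain ⟨y, hy, z, hz, hz0, hdz⟩ := H d
  have hle : Subring.closure (t : Set D) ≤ (Algebra.adjoin C (t : Set D)).toSubring :=
    Subring.closure_le.2 Algebra.subset_adjoin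
  let y' : Algebra.adjoin C (t : Set D) := ⟨y, hle hy⟩
  let z' : Algebra.adjoin C (t : Set D) := ⟨z, hle hz⟩
  refine ⟨Polynomial.C z' * Polynomial.X - Polynomial.C y', ?_, ?_⟩
  · intro h
    have := congrArg (fun p => Polynomial.coeff p 1) h
    simp only [Polynomial.coeff_sub, Polynomial.coeff_C_mul, Polynomial.coeff_X_one,
      Polynomial.coeff_C, Polynomial.coeff_zero] at this
    simp only [one_ne_zero, if_false, mul_one, sub_zero] at this
    exact hz0 (congrArg Subtype.val this)
  · simp only [map_sub, map_mul, Polynomial.aeval_C, Polynomial.aeval_X]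
    show z * d - y = 0
    rw [mul_comm, hdz, sub_self]

theorem card_le_of_algebraicIndependent [IsDomain D] (C : Type*) [CommRing C] [Nontrivial C] [Algebra C D]
    (t : Finset D) (H : AlgOver t) {n : ℕ} (x : Fin n → D) (hx : AlgebraicIndependent C x) :
    n ≤ t.card := by
  have := isAlgebraic_adjoin C t H
  have h1 := hx.lift_cardinalMk_le_trdeg
  have h2 : Algebra.trdeg C D ≤ #(↥(t : Set D)) := Algebra.IsAlgebraic.trdeg_le_cardinalMk C (t : Set D)
  have h3 : #(↥(t : Set D)) = (t.card : Cardinal) := Cardinal.mk_coe_finset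
  rw [h3] at h2
  have h4 : (n : Cardinal.{u}) ≤ (t.card : Cardinal.{u}) := by
    refine le_trans ?_ h2
    simpa using h1
  exact_mod_cast h4

/-- The general statement extracted from a chain of primes. -/
theorem exists_elts (C : Type*) [CommRing C] [Algebra C D] (c : LTSeries (PrimeSpectrum D))
    (hC : ∀ a : C, algebraMap C D a ∈ c.head.asIdeal ∨ algebraMap C D a ∉ c.last.asIdeal) :
    ∃ x : Fin c.length → D, ∀ P : MvPolynomial (Fin c.length) C,
      (∃ m, algebraMap C D (P.coeff m) ∉ c.head.asIdeal) →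
        MvPolynomial.aeval x P ∉ c.head.asIdeal := by
  have hstep : ∀ i : Fin c.length, ∃ x : D, x ∈ (c i.succ).asIdeal ∧ x ∉ (c i.castSucc).asIdeal := by
    intro i
    have hlt : (c i.castSucc).asIdeal < (c i.succ).asIdeal :=
      (PrimeSpectrum.asIdeal_lt_asIdeal _ _).2 (c.step i)
    obtain ⟨x, hx, hx'⟩ := SetLike.exists_of_lt hlt
    exact ⟨x, hx, hx'⟩
  choose x hx hx' using hstep
  refine ⟨x, fun P ⟨m, hm⟩ => ?_⟩
  have hmono : Monotone (fun i : Fin (c.length + 1) => (c i).asIdeal) := fun a b hab =>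
    (PrimeSpectrum.asIdeal_le_asIdeal _ _).2 (c.strictMono.monotone hab)
  have := mv_eval_notMem c.length (fun i => (c i).asIdeal) (fun i => (c i).isPrime) hmono x hx hx'
    (MvPolynomial.map (algebraMap C D) P) (fun m' => ?_) ⟨m, ?_⟩
  · rwa [MvPolynomial.eval_map, ← MvPolynomial.aeval_def] at this
  · rw [MvPolynomial.coeff_map]
    exact hC _
  · rw [MvPolynomial.coeff_map]
    exact hm

/-- chains whose top prime contains no nonzero integer (characteristic zero) -/
theorem length_le_of_int_notMem [IsDomain D] [CharZero D] (t : Finset D) (H : AlgOver t)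
    (c : LTSeries (PrimeSpectrum D)) (h : ∀ a : ℤ, a ≠ 0 → (a : D) ∉ c.last.asIdeal) :
    c.length ≤ t.card := by
  obtain ⟨x, hx⟩ := exists_elts ℤ c (fun a => by
    by_cases ha : a = 0
    · left
      rw [ha, map_zero]
      exact Ideal.zero_mem _
    · right
      simpa using h a ha)
  refine card_le_of_algebraicIndependent ℤ t H x ?_
  rw [algebraicIndependent_iff]
  intro P hP
  by_contra hne
  obtain ⟨m, hm⟩ := MvPolynomial.ne_zero_iff.1 hne
  have hle : c.head.asIdeal ≤ c.last.asIdeal :=
    (PrimeSpectrum.asIdeal_le_asIdeal _ _).2 (c.strictMono.monotone (Fin.zero_le _))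
  have := hx P ⟨m, fun h' => h _ hm (by simpa using hle h')⟩
  rw [hP] at this
  exact this (Ideal.zero_mem _)

/-- chains all of whose primes contain a prime number `ℓ` (characteristic zero) -/
theorem length_le_of_prime_mem [IsDomain D] [CharZero D] (t : Finset D) (H : AlgOver t)
    (c : LTSeries (PrimeSpectrum D)) (ℓ : ℤ) (hℓ : Prime ℓ) (h : (ℓ : D) ∈ c.head.asIdeal) :
    c.length ≤ t.card := by
  have hle : c.head.asIdeal ≤ c.last.asIdeal :=
    (PrimeSpectrum.asIdeal_le_asIdeal _ _).2 (c.strictMono.monotone (Fin.zero_le _))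
  have hdvd : ∀ a : ℤ, ℓ ∣ a → (a : D) ∈ c.head.asIdeal := by
    rintro a ⟨b, rfl⟩
    push_cast
    exact Ideal.mul_mem_right _ _ h
  have hndvd : ∀ a : ℤ, ¬ ℓ ∣ a → (a : D) ∉ c.last.asIdeal := by
    intro a ha hmem
    have hcop : IsCoprime ℓ a := (Prime.coprime_iff_not_dvd hℓ).2 ha
    obtain ⟨u, v, huv⟩ := hcop
    have h1 : ((u * ℓ + v * a : ℤ) : D) ∈ c.last.asIdeal := by
      push_cast
      exact Ideal.add_mem _ (Ideal.mul_mem_left _ _ (hle h)) (Ideal.mul_mem_left _ _ hmem)
    rw [huv] at h1
    exact c.last.isPrime.ne_top ((Ideal.eq_top_iff_one _).2 (by simpa using h1))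
  obtain ⟨x, hx⟩ := exists_elts ℤ c (fun a => by
    by_cases ha : ℓ ∣ a
    · left; simpa using hdvd a ha
    · right; simpa using hndvd a ha)
  refine card_le_of_algebraicIndependent ℤ t H x ?_
  rw [algebraicIndependent_iff]
  -- descent
  have key : ∀ (N : ℕ) (P : MvPolynomial (Fin c.length) ℤ) (m₀ : Fin c.length →₀ ℕ),
      P.coeff m₀ ≠ 0 → (P.coeff m₀).natAbs ≤ N → MvPolynomial.aeval x P ≠ 0 := by
    intro N
    induction N with
    | zero =>
      intro P m₀ h0 hN
      exact absurd (Int.natAbs_eq_zero.1 (Nat.le_zero.1 hN)) h0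
    | succ N ih =>
      intro P m₀ h0 hN
      by_cases hall : ∀ m, ℓ ∣ P.coeff m
      · obtain ⟨P', rfl⟩ := (MvPolynomial.C_dvd_iff_dvd_coeff ℓ P).2 hall
        rw [map_mul, MvPolynomial.aeval_C]
        have hℓD : (algebraMap ℤ D ℓ) ≠ 0 := by
          simpa using hℓ.ne_zero
        refine mul_ne_zero hℓD ?_
        rw [MvPolynomial.coeff_C_mul] at h0 hN
        have h0' : P'.coeff m₀ ≠ 0 := right_ne_zero_of_mul h0
        refine ih P' m₀ h0' ?_
        rw [Int.natAbs_mul] at hN
        have h2 : 2 ≤ ℓ.natAbs := (Int.prime_iff_natAbs_prime.1 hℓ).two_le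
        have h1 : 1 ≤ (P'.coeff m₀).natAbs := Int.natAbs_pos.2 h0'
        nlinarith
      · push Not at hall
        obtain ⟨m, hm⟩ := hall
        intro hP
        have := hx P ⟨m, fun h' => hndvd _ hm (by simpa using hle h')⟩
        rw [hP] at this
        exact this (Ideal.zero_mem _)
  intro P hP
  by_contra hne
  obtain ⟨m, hm⟩ := MvPolynomial.ne_zero_iff.1 hne
  exact key _ P m hm le_rfl hP

/-- positive characteristic -/
theorem length_le_of_charP [IsDomain D] (q : ℕ) [Fact q.Prime] [CharP D q] (t : Finset D) (H : AlgOver t)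
    (c : LTSeries (PrimeSpectrum D)) : c.length ≤ t.card := by
  let _ : Algebra (ZMod q) D := ZMod.algebra D q
  obtain ⟨x, hx⟩ := exists_elts (ZMod q) c (fun a => by
    by_cases ha : a = 0
    · left
      rw [ha, map_zero]
      exact Ideal.zero_mem _
    · right
      intro hmem
      have hu : IsUnit (algebraMap (ZMod q) D a) := (IsUnit.mk0 a ha).map _
      exact c.last.isPrime.ne_top (Ideal.eq_top_of_isUnit_mem _ hmem hu))
  refine card_le_of_algebraicIndependent (ZMod q) t H x ?_
  rw [algebraicIndependent_iff]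
  intro P hP
  by_contra hne
  obtain ⟨m, hm⟩ := MvPolynomial.ne_zero_iff.1 hne
  have hu : IsUnit (algebraMap (ZMod q) D (P.coeff m)) := (IsUnit.mk0 _ hm).map _
  have := hx P ⟨m, fun h' => c.head.isPrime.ne_top (Ideal.eq_top_of_isUnit_mem _ h' hu)⟩
  rw [hP] at this
  exact this (Ideal.zero_mem _)

theorem length_le [IsDomain D] (t : Finset D) (H : AlgOver t) (c : LTSeries (PrimeSpectrum D)) :
    c.length ≤ 2 * t.card + 1 := by
  obtain ⟨q, hq⟩ := CharP.exists D
  rcases CharP.char_is_prime_or_zero D q with hprime | rfl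
  · have := Fact.mk hprime
    have := length_le_of_charP q t H c
    omega
  · have : CharZero D := CharP.charP_to_charZero D
    by_cases h : ∀ a : ℤ, a ≠ 0 → (a : D) ∉ c.last.asIdeal
    · have := length_le_of_int_notMem t H c h
      omega
    · push Not at h
      let Pr : ℕ → Prop := fun j =>
        ∃ hj : j < c.length + 1, ∃ a : ℤ, a ≠ 0 ∧ (a : D) ∈ (c ⟨j, hj⟩).asIdeal
      have hex : ∃ j, Pr j := ⟨c.length, Nat.lt_succ_self _, h⟩
      classical
      obtain ⟨hk, a, ha0, ha⟩ := Nat.find_spec hex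
      set k := Nat.find hex with hkdef
      -- a prime number in `c k`
      let J : Ideal ℤ := Ideal.comap (Int.castRingHom D) (c ⟨k, hk⟩).asIdeal
      have hJprime : J.IsPrime := Ideal.comap_isPrime _ _
      have hJne : J ≠ ⊥ := by
        intro hJ
        have : a ∈ J := by
          show (Int.castRingHom D) a ∈ (c ⟨k, hk⟩).asIdeal
          simpa using ha
        rw [hJ, Ideal.mem_bot] at this
        exact ha0 this
      have hℓ : Prime (Submodule.IsPrincipal.generator J) :=
        Submodule.IsPrincipal.prime_generator_of_isPrime J hJne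
      have hℓmem : ((Submodule.IsPrincipal.generator J : ℤ) : D) ∈ (c ⟨k, hk⟩).asIdeal := by
        have : Submodule.IsPrincipal.generator J ∈ J := Submodule.IsPrincipal.generator_mem J
        have h2 : (Int.castRingHom D) (Submodule.IsPrincipal.generator J) ∈ (c ⟨k, hk⟩).asIdeal :=
          this
        simpa using h2
      have hup := length_le_of_prime_mem t H (c.drop ⟨k, hk⟩) _ hℓ
        (by rw [RelSeries.head_drop]; exact hℓmem)
      rw [RelSeries.drop_length] at hup
      rcases Nat.eq_zero_or_pos k with hk0 | hkpos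
      · simp only [hk0] at hup
        omega
      · obtain ⟨j, hj⟩ : ∃ j, k = j + 1 := Nat.exists_eq_succ_of_ne_zero hkpos.ne'
        have hjlt : j < c.length + 1 := by omega
        have hmin : ¬ Pr j := Nat.find_min hex (by omega)
        have hlow := length_le_of_int_notMem t H (c.take ⟨j, hjlt⟩) (by
          rw [RelSeries.last_take]
          intro b hb hmem
          exact hmin ⟨hjlt, b, hb, hmem⟩)
        rw [RelSeries.take_length] at hlow
        simp only at hup hlow
        omega

theorem ringKrullDim_lt_top [IsDomain D] (t : Finset D) (H : AlgOver t) : ringKrullDim D < ⊤ := by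
  have h : ringKrullDim D < ((2 * t.card + 2 : ℕ) : WithBot ℕ∞) := by
    rw [ringKrullDim, Order.krullDim_lt_coe_iff]
    intro l
    have := length_le t H l
    omega
  exact lt_of_lt_of_le h le_top

theorem algOver_of_closure [IsDomain D] {L : Type*} [Field L] (ι : D →+* L)
    (hι : Function.Injective ι) (t : Finset D)
    (h : ∀ d : D, ι d ∈ Subfield.closure (ι '' (t : Set D))) : AlgOver t := by
  intro d
  obtain ⟨y, hy, z, hz, hyz⟩ := Subfield.mem_closure_iff.1 (h d)
  rw [← RingHom.map_closure] at hy hz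
  obtain ⟨y₀, hy₀, rfl⟩ := hy
  obtain ⟨z₀, hz₀, rfl⟩ := hz
  by_cases hz0 : z₀ = 0
  · refine ⟨0, zero_mem _, 1, one_mem _, one_ne_zero, ?_⟩
    rw [hz0, map_zero, div_zero] at hyz
    have : d = 0 := hι (by rw [← hyz, map_zero])
    rw [this, zero_mul]
  · refine ⟨y₀, hy₀, z₀, hz₀, hz0, hι ?_⟩
    rw [map_mul, ← hyz, div_mul_cancel₀]
    exact (map_ne_zero_iff ι hι).2 hz0

end Groth.Agent.R2.H68.DimFG
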