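import Mathlib
import Groth.Agent.R2.H70EdgeAb

/-!
# Injectivity of the Leray edge map in degree one (helper68)

For a continuous map `f : X ⟶ Y` and an abelian sheaf `F` on `X`, the edge map
`H¹(Y, f_* F) → H¹(X, F)` of `R2/H70EdgeAb` is injective (first map of the five-term exact sequence).
-/

set_option autoImplicit false
set_option linter.style.haveILetI false
universe u

open CategoryTheory CategoryTheory.Limits Abelian TopologicalSpace Opposite

namespace Groth.Agent.R2.H68.EdgeInj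

open CohPull Groth.Agent.R2.H70.Edge

variable {X Y : TopCat.{u}} (f : X ⟶ Y)

/-- Generalized edge map: for `G` on `Y` and `φ : f⁻¹ G ⟶ F`, the map `H^p(Y, G) → H^p(X, F)`. -/
noncomputable def gedge (G : CohTop.Ab Y) {F : CohTop.Ab X} (φ : (inv f).obj G ⟶ F) (p : ℕ) :
    Sheaf.H G p →+ Sheaf.H F p :=
  (Sheaf.H.map φ p).comp (pullAb f G p)

lemma gedge_apply (G : CohTop.Ab Y) {F : CohTop.Ab X} (φ : (inv f).obj G ⟶ F) (p : ℕ)
    (x : Sheaf.H G p) :
    gedge f G φ p x =
      ((Ext.mk₀ (oneTo f)).comp (x.mapExactFunctor (inv f)) (zero_add p)).comp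
        (Ext.mk₀ φ) (add_zero p) := rfl

lemma edge_eq_gedge (F : CohTop.Ab X) (p : ℕ) :
    edge f F p = gedge f ((CohTop.push f).obj F) ((invPushAdj f).counit.app F) p := rfl

/-- Compatibility of `gedge` with post-composition by a morphism on `Y`. -/
lemma gedge_comp_mk₀ {G' G : CohTop.Ab Y} (ψ : G' ⟶ G) {F : CohTop.Ab X}
    (φ : (inv f).obj G ⟶ F) (p : ℕ) (x : Sheaf.H G' p) :
    gedge f G φ p (x.comp (Ext.mk₀ ψ) (add_zero p)) =
      gedge f G' ((inv f).map ψ ≫ φ) p x := by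
  rw [gedge_apply, gedge_apply, Ext.mapExactFunctor_comp, Ext.mapExactFunctor_mk₀]
  simp only [Ext.comp_assoc_of_third_deg_zero, Ext.mk₀_comp_mk₀]

/-- Compatibility of `gedge` with post-composition by a morphism on `X`. -/
lemma gedge_comp_right (G : CohTop.Ab Y) {F F' : CohTop.Ab X}
    (φ : (inv f).obj G ⟶ F) (θ : F ⟶ F') (p : ℕ) (x : Sheaf.H G p) :
    (gedge f G φ p x).comp (Ext.mk₀ θ) (add_zero p) = gedge f G (φ ≫ θ) p x := by
  rw [gedge_apply, gedge_apply]
  simp only [Ext.comp_assoc_of_third_deg_zero, Ext.mk₀_comp_mk₀]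

lemma gedge_comp_aux {G₃ G₁ : CohTop.Ab Y} {A B : CohTop.Ab X} (p : ℕ) (x : Sheaf.H G₃ p)
    (y : Ext G₃ G₁ 1) (z : Ext A B 1) (φ₃ : (inv f).obj G₃ ⟶ A) (φ₁ : (inv f).obj G₁ ⟶ B)
    (h : (y.mapExactFunctor (inv f)).comp (Ext.mk₀ φ₁) (add_zero 1) =
      (Ext.mk₀ φ₃).comp z (zero_add 1)) :
    gedge f G₁ φ₁ (p + 1) (x.comp y rfl) = (gedge f G₃ φ₃ p x).comp z rfl := by
  rw [gedge_apply, gedge_apply, Ext.mapExactFunctor_comp]
  rw [Ext.comp_assoc (a₁ := 0) (a₂ := p + 1) (a₃ := 0) _ _ _ (zero_add _) (add_zero _)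
      (by omega),
    Ext.comp_assoc (a₁ := p) (a₂ := 1) (a₃ := 0) _ _ _ rfl (add_zero _) (by omega), h,
    Ext.comp_assoc (a₁ := 0) (a₂ := p) (a₃ := 0) _ _ _ (zero_add _) (add_zero _) (by omega),
    Ext.comp_assoc (a₁ := 0) (a₂ := p) (a₃ := 1) _ _ _ (zero_add _) rfl (by omega)]
  congr 1
  rw [Ext.comp_assoc (a₁ := p) (a₂ := 0) (a₃ := 1) _ _ _ (add_zero _) (zero_add _) (by omega)]

/-- Compatibility of `gedge` with connecting homomorphisms. -/
lemma gedge_extClass {S' : ShortComplex (CohTop.Ab Y)} (hS' : S'.ShortExact)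
    {S : ShortComplex (CohTop.Ab X)} (hS : S.ShortExact) (τ : S'.map (inv f) ⟶ S) (p : ℕ)
    (x : Sheaf.H S'.X₃ p) :
    gedge f S'.X₁ τ.τ₁ (p + 1) (x.comp hS'.extClass rfl) =
      (gedge f S'.X₃ τ.τ₃ p x).comp hS.extClass rfl := by
  refine gedge_comp_aux f p x hS'.extClass hS.extClass τ.τ₃ τ.τ₁ ?_
  have hnat := ShortComplex.ShortExact.extClass_naturality (hS'.map_of_exact (inv f)) hS τ
  have h2 := Ext.mapExactFunctor_extClass (inv f) hS'
  exact (congrArg (fun t => t.comp (Ext.mk₀ τ.τ₁) (add_zero 1)) h2).trans hnat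

/-- In degree `0`, post-composition with a monomorphism is injective on cohomology. -/
lemma comp_mk₀_injective_of_mono {G G' : CohTop.Ab Y} (m : G ⟶ G') [Mono m]
    (c : Sheaf.H G 0) (h : c.comp (Ext.mk₀ m) (add_zero 0) = 0) : c = 0 := by
  obtain ⟨ψ, rfl⟩ := (Ext.mk₀_bijective _ _).2 c
  rw [Ext.mk₀_comp_mk₀] at h
  have h0 : Ext.mk₀ (ψ ≫ m) = Ext.mk₀ (0 : _ ⟶ G') := by rw [h, Ext.mk₀_zero]
  have h1 : ψ ≫ m = 0 := (Ext.mk₀_bijective _ _).1 h0
  have h2 : ψ = 0 := zero_of_comp_mono m h1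
  rw [h2, Ext.mk₀_zero]

open Groth.Agent.Lib.Helper16.Flasque in
/-- **The edge map `H¹(Y, f_* F) → H¹(X, F)` is injective.** -/
theorem edge_one_injective (F : CohTop.Ab X) : Function.Injective (edge f F 1) := by
  have hpfl : PreservesFiniteLimits (CohTop.push f) := by
    have : PreservesLimitsOfSize.{0, 0} (CohTop.push f) :=
      (TopCat.Sheaf.pullbackPushforwardAdjunction AddCommGrpCat.{u} f).rightAdjoint_preservesLimits
    exact PreservesLimitsOfSize.preservesFiniteLimits _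
  -- injective embedding on `X`
  let J : CohTop.Ab X := Injective.under F
  let ι : F ⟶ J := Injective.ι F
  let S : ShortComplex (CohTop.Ab X) := ShortComplex.mk ι (cokernel.π ι) (cokernel.condition ι)
  have hS : S.ShortExact :=
    { exact := ShortComplex.exact_cokernel ι
      mono_f := by dsimp [S]; infer_instance
      epi_g := by dsimp [S]; infer_instance }
  -- push it to `Y`
  obtain ⟨hex, hmono⟩ :=
    (Functor.preservesFiniteLimits_iff_forall_exact_map_and_mono (CohTop.push f)).mp hpfl S hS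
  let i' : (CohTop.push f).obj F ⟶ (CohTop.push f).obj J := (CohTop.push f).map ι
  haveI : Mono i' := hmono
  let S' : ShortComplex (CohTop.Ab Y) :=
    ShortComplex.mk i' (cokernel.π i') (cokernel.condition i')
  have hS' : S'.ShortExact :=
    { exact := ShortComplex.exact_cokernel i'
      mono_f := by dsimp [S']; infer_instance
      epi_g := by dsimp [S']; infer_instance }
  let m : cokernel i' ⟶ (CohTop.push f).obj (cokernel ι) :=
    cokernel.desc i' ((CohTop.push f).map (cokernel.π ι)) (S.map (CohTop.push f)).zero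
  haveI hm : Mono m := hex.mono_cokernelDesc
  have hπm : cokernel.π i' ≫ m = (CohTop.push f).map (cokernel.π ι) := cokernel.π_desc _ _ _
  let τ₃ : (inv f).obj (cokernel i') ⟶ cokernel ι :=
    (inv f).map m ≫ (invPushAdj f).counit.app (cokernel ι)
  have hcomm : (inv f).map (cokernel.π i') ≫ τ₃ =
      (invPushAdj f).counit.app J ≫ cokernel.π ι := by
    dsimp only [τ₃]
    rw [← Category.assoc, ← Functor.map_comp, hπm]
    exact (invPushAdj f).counit.naturality (cokernel.π ι)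
  let τ : S'.map (inv f) ⟶ S :=
    { τ₁ := (invPushAdj f).counit.app F
      τ₂ := (invPushAdj f).counit.app J
      τ₃ := τ₃
      comm₁₂ := ((invPushAdj f).counit.naturality ι).symm
      comm₂₃ := hcomm.symm }
  -- flasqueness
  haveI : Injective J := Injective.injective_under F
  haveI : TopCat.Sheaf.IsFlasque J := injective_isFlasque _
  haveI : TopCat.Sheaf.IsFlasque ((CohTop.push f).obj J) :=
    TopCat.Sheaf.IsFlasque.pushforward_isFlasque _ f
  haveI v2 : Subsingleton (Sheaf.H ((CohTop.push f).obj J) 1) := H_subsingleton _ 0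
  rw [injective_iff_map_eq_zero]
  intro x hx
  obtain ⟨c, hc⟩ := Ext.covariant_sequence_exact₁ _ hS' x (Subsingleton.elim (α := Sheaf.H S'.X₂ 1) _ _)
    (n₀ := 0) rfl
  have h1 := gedge_extClass f hS' hS τ 0 c
  rw [hc] at h1
  have h2 : (gedge f S'.X₃ τ₃ 0 c).comp hS.extClass rfl = 0 := h1.symm.trans hx
  obtain ⟨w, hw⟩ := Ext.covariant_sequence_exact₃ _ hS (gedge f S'.X₃ τ₃ 0 c) (n₁ := 1) rfl h2
  obtain ⟨w', hw'⟩ := (edge_zero_bijective f J).surjective w
  -- the class of `w'` in `H⁰(Y, coker)` has the same image as `c`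
  have h3 : gedge f S'.X₃ τ₃ 0 (w'.comp (Ext.mk₀ S'.g) (add_zero 0)) = gedge f S'.X₃ τ₃ 0 c := by
    rw [gedge_comp_mk₀, hcomm, ← gedge_comp_right, ← edge_eq_gedge, hw']
    exact hw
  have h4 : gedge f S'.X₃ τ₃ 0 (c - w'.comp (Ext.mk₀ S'.g) (add_zero 0)) = 0 := by
    rw [map_sub, h3, sub_self]
  -- injectivity of `gedge τ₃ 0`
  have h5 : c - w'.comp (Ext.mk₀ S'.g) (add_zero 0) = 0 := by
    set c'' := c - w'.comp (Ext.mk₀ S'.g) (add_zero 0) with hc''
    have h6 : edge f (cokernel ι) 0 (c''.comp (Ext.mk₀ m) (add_zero 0)) = 0 := by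
      rw [edge_eq_gedge, gedge_comp_mk₀]
      exact h4
    have h7 : c''.comp (Ext.mk₀ m) (add_zero 0) = 0 := by
      apply (edge_zero_bijective f (cokernel ι)).injective
      rw [h6, map_zero]
    exact comp_mk₀_injective_of_mono m c'' h7
  have h8 : c = w'.comp (Ext.mk₀ S'.g) (add_zero 0) := sub_eq_zero.mp h5
  rw [← hc, h8, Ext.comp_assoc _ _ _ (add_zero 0) (zero_add 1) (by omega), hS'.comp_extClass,
    Ext.comp_zero]

end Groth.Agent.R2.H68.EdgeInj
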