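import Mathlib
import Groth.Agent.R2.H68EdgeInj
import Groth.Agent.R2.H70EdgeLin
import Groth.Agent.R2.H62CohLES
import Groth.Prelude.Def_ClSub2

/-!
# The edge map `H¹(Y, f_* G) → H¹(X, G)` for O-modules: injective and linear (helper68)

* `pushEdge_one_injective`: `CohPull.pushEdge f G 1` is injective, for every morphism of schemes `f` and
  every O_X-module `G`.
* `pushEdgeₗ`: `pushEdge` as an `A`-linear map for `X`, `Y` over `Spec A` and `f` an `A`-morphism.
* `isIso_unitToPush`: `O_Y ⟶ f_* O_X` is an isomorphism of O_Y-modules if all `f.app V` are.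
* `h1_structure_injective`: for a "fibration" (`O_Y ≅ f_* O_X`), an injective `A`-linear map
  `H¹(Y, O_Y) → H¹(X, O_X)`.
-/

set_option autoImplicit false
set_option linter.style.haveILetI false
universe u

open CategoryTheory CategoryTheory.Limits Abelian TopologicalSpace Opposite AlgebraicGeometry

namespace Groth.Agent.R2.H68.EdgeInjSch

open CohPull Groth.Agent.R2.H70.Edge Groth.Agent.R2.H62.CohLES

variable {X Y : Scheme.{u}} (f : X ⟶ Y)

/-- **The edge map `H¹(Y, f_* G) → H¹(X, G)` is injective.** -/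
theorem pushEdge_one_injective (G : X.Modules) : Function.Injective (pushEdge f G 1) := by
  have h : (pushEdge f G 1 : Coh.HH Y ((Scheme.Modules.pushforward f).obj G) 1 → Coh.HH X G 1) =
      edge f.base (Coh.toAb G) 1 := funext (pushEdge_apply f G 1)
  rw [h]
  exact Groth.Agent.R2.H68.EdgeInj.edge_one_injective f.base (Coh.toAb G)

/-- `pushEdge` as an `A`-linear map. -/
noncomputable def pushEdgeₗ (A : Type u) [CommRing A] [X.Over (Spec (CommRingCat.of A))]
    [Y.Over (Spec (CommRingCat.of A))]
    (hf : f ≫ (Y ↘ Spec (CommRingCat.of A)) = X ↘ Spec (CommRingCat.of A)) (G : X.Modules) (p : ℕ) :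
    Coh.HH Y ((Scheme.Modules.pushforward f).obj G) p →ₗ[A] Coh.HH X G p where
  toFun := pushEdge f G p
  map_add' := map_add _
  map_smul' a x := by
    change pushEdge f G p ((Coh.toGlobal (Y ↘ Spec (CommRingCat.of A)) a) • x) =
      (Coh.toGlobal (X ↘ Spec (CommRingCat.of A)) a) • pushEdge f G p x
    rw [pushEdge_smul]
    congr 1
    rw [← hf]
    exact (toGlobal_comp f (Y ↘ Spec (CommRingCat.of A)) a).symm

@[simp]
lemma pushEdgeₗ_apply (A : Type u) [CommRing A] [X.Over (Spec (CommRingCat.of A))]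
    [Y.Over (Spec (CommRingCat.of A))]
    (hf : f ≫ (Y ↘ Spec (CommRingCat.of A)) = X ↘ Spec (CommRingCat.of A)) (G : X.Modules) (p : ℕ)
    (x : Coh.HH Y ((Scheme.Modules.pushforward f).obj G) p) :
    pushEdgeₗ f A hf G p x = pushEdge f G p x := rfl

/-- `O_Y ⟶ f_* O_X` is an isomorphism when `f.app V` is an isomorphism for all opens `V`. -/
theorem isIso_unitToPush (hfib : ∀ V : Y.Opens, IsIso (f.app V)) : IsIso (ClSub.unitToPush f) := by
  rw [Scheme.Modules.Hom.isIso_iff_isIso_app]
  intro V
  rw [ConcreteCategory.isIso_iff_bijective]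
  exact ConcreteCategory.bijective_of_isIso (f.app V)

/-- `HHmap` of an isomorphism is injective. -/
lemma HHmap_injective_of_isIso {M N : Y.Modules} (φ : M ⟶ N) [IsIso φ] (n : ℕ) :
    Function.Injective (HHmap φ n) := by
  intro x y hxy
  have := congrArg (HHmap (inv φ) n) hxy
  rw [← HHmap_comp, ← HHmap_comp, IsIso.hom_inv_id, HHmap_id, HHmap_id] at this
  exact this

/-- For a fibration (`O_Y → f_* O_X` iso), an injective `A`-linear map `H¹(Y, O_Y) → H¹(X, O_X)`. -/
theorem h1_structure_injective (A : Type u) [CommRing A] [X.Over (Spec (CommRingCat.of A))]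
    [Y.Over (Spec (CommRingCat.of A))]
    (hf : f ≫ (Y ↘ Spec (CommRingCat.of A)) = X ↘ Spec (CommRingCat.of A))
    (hfib : ∀ V : Y.Opens, IsIso (f.app V)) :
    ∃ L : Coh.HH Y (Coh.structureModule Y) 1 →ₗ[A] Coh.HH X (Coh.structureModule X) 1,
      Function.Injective L := by
  haveI := isIso_unitToPush f hfib
  refine ⟨(pushEdgeₗ f A hf (Coh.structureModule X) 1).comp (HHmapA A (ClSub.unitToPush f) 1), ?_⟩
  intro x y hxy
  exact HHmap_injective_of_isIso (ClSub.unitToPush f) 1
    (pushEdge_one_injective f (Coh.structureModule X) hxy)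

end Groth.Agent.R2.H68.EdgeInjSch
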