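/-
helper68: fibrations `f_* O_X = O_Y` versus function fields.
* `eq_genericPoint_of_map_eq`: for integral schemes locally of finite type over a field, of the same
  dimension, the generic fibre of a `k`-morphism consists of the generic point only.
* `bijective_stalkToFunctionField`: a closed fibration with generic fibre `{η_X}` is birational.
* `mem_range_of_isIntegralElem`: for a fibration out of a normal integral scheme, `K(Y)` is
  algebraically closed in `K(X)`.
-/
import Groth.Agent.S2422
import Groth.Agent.Lib.Helper4VarDim11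
import Groth.Agent.Lib.Helper4VarDim4

set_option autoImplicit false
set_option linter.style.haveILetI false
universe u

open AlgebraicGeometry CategoryTheory TopologicalSpace

namespace Groth.Agent.R2.H68.FibBir

open Groth.Agent.Lib.Helper4.VarDim

attribute [local instance] sectionsAlgebra Curv2.resAlgebra

section Dim

variable (k : Type u) [Field k] {X Y : Scheme.{u}} [X.Over (Spec (CommRingCat.of k))]
  [Y.Over (Spec (CommRingCat.of k))]

theorem trdeg_eq_of_eq (y y' : Y) (h : y = y') :
    Algebra.trdeg k (Y.residueField y) = Algebra.trdeg k (Y.residueField y') := by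
  subst h; rfl

/-- Same dimension ⇒ the generic fibre is the generic point. -/
theorem eq_genericPoint_of_map_eq [IsIntegral X] [IsIntegral Y]
    [LocallyOfFiniteType (X ↘ Spec (CommRingCat.of k))]
    [LocallyOfFiniteType (Y ↘ Spec (CommRingCat.of k))] (f : X ⟶ Y)
    (hf : f ≫ (Y ↘ Spec (CommRingCat.of k)) = (X ↘ Spec (CommRingCat.of k)))
    (hdim : topologicalKrullDim ↥X = topologicalKrullDim ↥Y) (z : X)
    (hz : f.base z = genericPoint ↥Y) : z = genericPoint ↥X := by
  obtain ⟨nX, hnX, -⟩ := exists_dim_irreducible k X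
  obtain ⟨nY, hnY, -⟩ := exists_dim_irreducible k Y
  have dX := topologicalKrullDim_eq_of_irreducible k X nX hnX
  have dY := topologicalKrullDim_eq_of_irreducible k Y nY hnY
  have hXY : nX = nY := by
    have : (nX : WithBot ℕ∞) = nY := by rw [← dX, ← dY, hdim]
    exact_mod_cast this
  obtain ⟨m, n, hm, hn, hle, heq⟩ :=
    trdeg_le_of_specializes k X (genericPoint ↥X) z (genericPoint_specializes z)
  have hmX : m = nX := by
    have : (m : Cardinal.{u}) = nX := hm.symm.trans hnX
    exact_mod_cast this
  have hadd := trdeg_add_trdeg_residueFieldMap k f hf z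
  have h1 : Algebra.trdeg k (Y.residueField (f.base z)) = nY :=
    (trdeg_eq_of_eq k _ _ hz).trans hnY
  have h2 : (nY : Cardinal.{u}) ≤ n := by
    rw [← hn, ← hadd]
    exact le_trans h1.ge (self_le_add_right _ _)
  have h3 : nY ≤ n := by exact_mod_cast h2
  exact (heq (by omega)).symm

end Dim

section Top

variable {X Y : Scheme.{u}}

theorem exists_open_preimage_le (f : X ⟶ Y) (hcl : IsClosedMap f.base) (y : Y) (U : X.Opens)
    (hU : ∀ z : X, f.base z = y → z ∈ U) : ∃ V : Y.Opens, y ∈ V ∧ f ⁻¹ᵁ V ≤ U := by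
  refine ⟨⟨(f.base '' (U : Set X)ᶜ)ᶜ, (hcl _ U.isOpen.isClosed_compl).isOpen_compl⟩, ?_, ?_⟩
  · rintro ⟨z, hz, hzy⟩
    exact hz (hU z hzy)
  · intro z hz
    by_contra hzU
    exact hz ⟨z, hzU, rfl⟩

end Top

section Bir

variable {X Y : Scheme.{u}} [IsIntegral X] [IsIntegral Y]

/-- A closed fibration whose generic fibre is the generic point is birational. -/
theorem bijective_stalkToFunctionField (f : X ⟶ Y) (hcl : IsClosedMap f.base)
    (h : f.base (genericPoint ↥X) ⤳ genericPoint ↥Y)
    (hfib : ∀ z : X, f.base z = genericPoint ↥Y → z = genericPoint ↥X)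
    (hiso : ∀ U : Y.Opens, IsIso (f.app U)) :
    Function.Bijective (CohIII.stalkToFunctionField f (genericPoint ↥Y) h) := by
  refine ⟨(CohIII.stalkToFunctionField f (genericPoint ↥Y) h).injective, fun x => ?_⟩
  obtain ⟨U, hU, s, rfl⟩ := X.presheaf.exists_germ_eq (x := genericPoint ↥X) x
  obtain ⟨V, hV, hle⟩ := exists_open_preimage_le f hcl (genericPoint ↥Y) U
    (fun z hz => by rw [hfib z hz]; exact hU)
  haveI : Nonempty V := ⟨⟨_, hV⟩⟩
  have hηX : genericPoint ↥X ∈ f ⁻¹ᵁ V := by
    show f.base (genericPoint ↥X) ∈ V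
    rw [Groth.Agent.S2422.map_genericPoint_eq f h]
    exact hV
  haveI : Nonempty (f ⁻¹ᵁ V) := ⟨⟨_, hηX⟩⟩
  have hsurj := ((ConcreteCategory.isIso_iff_bijective (f.app V)).mp (hiso V)).2
  obtain ⟨t, ht⟩ := hsurj ((X.presheaf.map (homOfLE hle).op).hom s)
  refine ⟨(Y.germToFunctionField V).hom t, ?_⟩
  rw [Groth.Agent.S2422.germ_square f h V t]
  erw [ht]
  rw [← CommRingCat.comp_apply]
  unfold Scheme.germToFunctionField
  rw [X.presheaf.germ_res]

end Bir

end Groth.Agent.R2.H68.FibBir
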