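import Mathlib
import Groth.Prelude.Def_EGA4Misc

/-!
# helper88: interface (Spec) for the mini-project PROJ:fibcons

Targets (EGA IV 9.5-9.6, six mid rows): the set of `s ∈ S` such that the fibre map `f_s : X_s ⟶ Y_s` is
* separated (S3424), dominant (S3425), proper (S2577), an immersion (S3446),
* a closed immersion (S2576 = proper ∧ mono, mono = prior S3426),
* finite (S2585 = proper ∧ locally quasi-finite, lqf = prior S3445)
is locally constructible.  By prior S5880 (`ConsProp.IsConsMor P ⇒ locusMor P f g` locally
constructible) and Lib `Helper3ConsOfLocus.isFieldStableMor_of` (field-stability from base change +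
fpqc descent; Lib `Helper12Descent.descendsAlong_isSeparated / _isProper`,
`Helper12ImmersionDescent`) everything reduces to the GENERIC DICHOTOMY `Dich Q` below over an
integral Noetherian base.  All dichotomies come from ONE geometric input, `GenClosureStmt`
("closure commutes with passage to the fibres over a dense open", EGA IV 9.5.2), itself a consequence
of the priors S4781 (generic equidimensionality of fibres), S1332 (generic fibre dimension) and
Chevalley.

Every package is a closed `Prop`; a package file `Groth/Agent/R2/H<nn>FibCons<X>.lean` proves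
`theorem xxx : FibConsSpec.XxxStmt` (it may take other packages as hypotheses).
-/

set_option autoImplicit false
universe u
open CategoryTheory CategoryTheory.Limits AlgebraicGeometry Topology

namespace Groth.Agent.R2.H88.FibConsSpec

/-- the set of `s` such that `Z ∩ g⁻¹(s)` is closed in the (topological) fibre `g⁻¹(s)`. -/
def fibClosed {Y S : Scheme.{u}} (g : Y ⟶ S) (Z : Set Y) : Set S :=
  {s | closure (Z ∩ g ⁻¹' {s}) ∩ g ⁻¹' {s} ⊆ Z}

/-- the set of `s` such that `Z ∩ g⁻¹(s)` is dense in `Z' ∩ g⁻¹(s)`. -/
def fibDense {Y S : Scheme.{u}} (g : Y ⟶ S) (Z Z' : Set Y) : Set S :=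
  {s | Z' ∩ g ⁻¹' {s} ⊆ closure (Z ∩ g ⁻¹' {s})}

/-! ### T1: closure commutes with fibres generically -/

/-- [T1b] irreducible case: for `T` irreducible of finite type over an integral Noetherian `S` and a
nonempty open `V ⊆ T`, the open `V ∩ g⁻¹(s)` is dense in the fibre `g⁻¹(s)` for all `s` in a nonempty
open of `S`.  Route: if `g` is not dominant the fibres over the complement of the closure of the image
are empty.  Otherwise prior S4781 gives `U₁` over which all irreducible components of `g⁻¹(s)` have
dimension `d = dim g⁻¹(η)`; `W = T ∖ V` (reduced closed subscheme) has `W_η` a PROPER closed subset of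
the irreducible finite-dimensional `T_η`, so `dim W_η < d` (or `W_η = ∅`, then `g(W)` is a constructible
set missing `η`); prior S1332 gives `U₂` with `dim W_s = dim W_η` on `U₂`; on `U₁ ∩ U₂` no component of
`g⁻¹(s)` lies in `W`, so `V` meets every component. -/
def IrrDenseStmt : Prop :=
  ∀ {T S : Scheme.{u}} (g : T ⟶ S) [IsIntegral S] [IsNoetherian S] [LocallyOfFiniteType g]
    [QuasiCompact g] [IrreducibleSpace T] (V : T.Opens), (V : Set T).Nonempty →
    ∃ U : S.Opens, (U : Set S).Nonempty ∧ ∀ s ∈ U, g ⁻¹' {s} ⊆ closure ((V : Set T) ∩ g ⁻¹' {s})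

/-- [T1] EGA IV 9.5.2: for `Z` constructible in `Y` of finite type over integral Noetherian `S`,
`closure(Z) ∩ g⁻¹(s) = closure(Z ∩ g⁻¹(s)) ∩ g⁻¹(s)` for all `s` in a nonempty open of `S`
(only `⊆` is stated; `⊇` is trivial).  Route ([T1a], from `IrrDenseStmt`): `Y` is a Noetherian space,
so `Z = ⋃_{i<n} T_i ∩ V_i` with `T_i` irreducible closed, `V_i` open, `T_i ∩ V_i ≠ ∅`;
`closure Z = ⋃ T_i`; apply [T1b] to the reduced closed subscheme `T_i ↪ Y` and intersect the finitely
many opens (`S` irreducible). -/
def GenClosureStmt : Prop :=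
  ∀ {Y S : Scheme.{u}} (g : Y ⟶ S) [IsIntegral S] [IsNoetherian S] [LocallyOfFiniteType g]
    [QuasiCompact g] (Z : Set Y), IsConstructible Z →
    ∃ U : S.Opens, (U : Set S).Nonempty ∧
      ∀ s ∈ U, closure Z ∩ g ⁻¹' {s} ⊆ closure (Z ∩ g ⁻¹' {s})

/-! ### T2: topological dichotomies (EGA IV 9.5.3, 9.5.4 over an integral Noetherian base) -/

/-- [T2c] from `GenClosureStmt` + Chevalley: on the open `U` of T1, `s ∈ fibClosed g Z` iff
`s ∉ g '' (closure Z ∖ Z)`, a constructible set. -/
def ClosedDichStmt : Prop :=
  ∀ {Y S : Scheme.{u}} (g : Y ⟶ S) [IsIntegral S] [IsNoetherian S] [LocallyOfFiniteType g]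
    [QuasiCompact g] (Z : Set Y), IsConstructible Z →
    (interior (fibClosed g Z)).Nonempty ∨ (interior (fibClosed g Z)ᶜ).Nonempty

/-- [T2d] from `GenClosureStmt` + Chevalley: on `U`, `s ∈ fibDense g Z Z'` iff
`s ∉ g '' (Z' ∖ closure Z)`. -/
def DenseDichStmt : Prop :=
  ∀ {Y S : Scheme.{u}} (g : Y ⟶ S) [IsIntegral S] [IsNoetherian S] [LocallyOfFiniteType g]
    [QuasiCompact g] (Z Z' : Set Y), IsConstructible Z → IsConstructible Z' →
    (interior (fibDense g Z Z')).Nonempty ∨ (interior (fibDense g Z Z')ᶜ).Nonempty

/-! ### F: dictionary between the scheme-theoretic fibre map and the topological fibre -/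

/-- [F1] `range (h_s) = ι_s⁻¹(range h)` (cartesian square `isPullback_fiberMap`,
`Scheme.Pullback.range_snd`-type lemma) and `ι_s = g.fiberι s` is an embedding with range `g⁻¹(s)`
(`Scheme.Hom.range_fiberι`). -/
def RangeClosedIffStmt : Prop :=
  ∀ {X Y S : Scheme.{u}} (h : X ⟶ Y) (g : Y ⟶ S) (s : S),
    IsClosed (Set.range (MoreMor.fiberMap h g s)) ↔ s ∈ fibClosed g (Set.range h)

/-- [F2] same dictionary for dominance. -/
def DominantIffStmt : Prop :=
  ∀ {X Y S : Scheme.{u}} (h : X ⟶ Y) (g : Y ⟶ S) (s : S),
    IsDominant (MoreMor.fiberMap h g s) ↔ s ∈ fibDense g (Set.range h) Set.univ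

/-- [F3] the fibre map of the diagonal is (up to the canonical isomorphism
`X_s ×_{Y_s} X_s ≅ (X ×_Y X)_s`) the diagonal of the fibre map; both are immersions, so
`f_s` is separated iff the fibre map of `Δ_f` has closed range. -/
def SepIdStmt : Prop :=
  ∀ {X Y S : Scheme.{u}} (f : X ⟶ Y) (g : Y ⟶ S) (s : S),
    IsSeparated (MoreMor.fiberMap f g s) ↔
      IsClosed (Set.range (MoreMor.fiberMap (pullback.diagonal f) (pullback.fst f f ≫ f ≫ g) s))

/-- [FS-dom] field-stability of dominance (no `DescendsAlong` instance exists for `IsDominant`):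
for a morphism `T' ⟶ T` of one-point integral schemes, `eY : Y' ⟶ Y` is flat and surjective;
(⇒) generic points of `Y'` map to generic points of `Y` (flat maps are generalizing), which are in the
image of the quasi-compact dominant `f`; lift to the fibre product.  (⇐) `e(closure (range f')) ⊆
closure (range f)` and `e` is surjective. -/
def DomFieldStableStmt : Prop :=
  ConsProp.IsFieldStableMor.{u} (fun _ _ _ f _ => IsDominant f)

/-! ### D: the generic dichotomies -/

/-- the generic dichotomy for a property `Q` of morphisms (second half of `ConsProp.IsConsMor`). -/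
def Dich (Q : MorphismProperty Scheme.{u}) : Prop :=
  ∀ ⦃X Y S : Scheme.{u}⦄ (f : X ⟶ Y) (g : Y ⟶ S) [IsIntegral S] [IsNoetherian S]
    [LocallyOfFiniteType g] [QuasiCompact g] [LocallyOfFiniteType (f ≫ g)] [QuasiCompact (f ≫ g)],
    (interior (ConsProp.locusMor (fun _ _ _ f _ => Q f) f g)).Nonempty ∨
      (interior (ConsProp.locusMor (fun _ _ _ f _ => Q f) f g)ᶜ).Nonempty

/-- [D-sep] from `ClosedDichStmt` (for `Z = range Δ_f`, locally closed in the Noetherian `X ×_Y X`),
`RangeClosedIffStmt`, `SepIdStmt`. -/
def SepDichStmt : Prop := Dich.{u} @IsSeparated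

/-- [D-dom] from `DenseDichStmt` (`Z = range f` constructible by Chevalley, `Z' = univ`),
`DominantIffStmt`. -/
def DomDichStmt : Prop := Dich.{u} @IsDominant

/-- [D-prop] Route: if `f_η` is not separated, `SepDichStmt` gives a nonempty open where `f_s` is not
separated, hence not proper.  If `f_η` is separated, spread out (Lib
`Helper3IndCons.exists_stage` with prior `S5902.limDescends`) and restrict the base
(Lib `Helper3LocusBC.locusMor_eq_preimage`) so that `f` is separated; Chow (`R2/LeadChowK.chow_dense`
for `f : X ⟶ Y`) gives `π : X' ⟶ X` proper surjective and an immersion `j : X' ⟶ P^N_Y` over `Y`;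
then `f_s` is proper iff `(π ≫ f)_s = j_s ≫ (P^N_Y ⟶ Y)_s` is proper (`UniversallyClosed.of_comp_surjective`)
iff `j_s` is a closed immersion iff `range j_s` is closed; conclude by `RangeClosedIffStmt` +
`ClosedDichStmt` for `Z = range j`. -/
def PropDichStmt : Prop := Dich.{u} @IsProper

/-- [D-imm] Route in the docstring of the board post: positive direction by spreading out
(prior `S5900` `LimDescends IsImmersion`); negative direction: if `f_s` is an immersion for a dense
set of `s` then so is `f_η`, using the mono dichotomy (prior S3426), `ClosedDichStmt` for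
`B = closure(range f) ∖ range f`, `GenClosureStmt`, and `PropDichStmt` for `X ⟶ Y ∖ closure B`
(immersion with closed range = closed immersion = proper mono). -/
def ImmDichStmt : Prop := Dich.{u} @IsImmersion

end Groth.Agent.R2.H88.FibConsSpec
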