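/-
helper68: PROJ:fibcons package [T1b] `irrDense : FibConsSpec.IrrDenseStmt`
(for `T` irreducible of finite type over an integral Noetherian `S` and a nonempty open `V ⊆ T`,
`V ∩ g⁻¹(s)` is dense in `g⁻¹(s)` for all `s` in a nonempty open of `S`).
-/
import Mathlib
import Groth.Agent.R2.H88FibConsSpec
import Groth.Agent.S4781
import Groth.Agent.S1332
import Groth.Agent.Lib.Helper6DimEq
import Groth.Agent.R2.H62SnapDim

set_option autoImplicit false
set_option linter.style.haveILetI false
universe u

open CategoryTheory CategoryTheory.Limits AlgebraicGeometry Topology TopologicalSpace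

namespace Groth.Agent.R2.H68.FibConsIrr

section Top

/-- A nonempty relatively open subset of a preirreducible set is dense in it. -/
theorem subset_closure_inter_of_isPreirreducible {α : Type*} [TopologicalSpace α] {C : Set α}
    (hC : IsPreirreducible C) {U : Set α} (hU : IsOpen U) (hne : (C ∩ U).Nonempty) :
    C ⊆ closure (C ∩ U) := by
  intro x hx
  rw [mem_closure_iff]
  intro O hO hxO
  obtain ⟨z, hzC, hzO, hzU⟩ := hC O U hO hU ⟨x, hx, hxO⟩ hne
  exact ⟨z, hzO, hzC, hzU⟩

/-- A subset of the range of an embedding has dimension at most that of the source. -/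
theorem topologicalKrullDim_le_of_subset_range {B T : Type*} [TopologicalSpace B]
    [TopologicalSpace T] (ψ : B → T) (hψ : IsEmbedding ψ) (C : Set T) (hC : C ⊆ Set.range ψ) :
    topologicalKrullDim ↥C ≤ topologicalKrullDim B := by
  let φ : C → B := fun c => (hC c.2).choose
  have hφ : ∀ c : C, ψ (φ c) = c.1 := fun c => (hC c.2).choose_spec
  have hcomp : ψ ∘ φ = (Subtype.val : C → T) := funext hφ
  have hφc : Continuous φ := by
    rw [hψ.isInducing.continuous_iff, hcomp]
    exact continuous_subtype_val
  refine IsInducing.topologicalKrullDim_le (f := φ) (IsInducing.of_comp hφc hψ.continuous ?_)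
  rw [hcomp]
  exact IsInducing.subtypeVal

theorem exists_nat_of_nonneg_of_lt (x : WithBot ℕ∞) (n : ℕ) (h0 : 0 ≤ x)
    (hn : x < (n : WithBot ℕ∞)) : ∃ m : ℕ, x = (m : WithBot ℕ∞) ∧ m < n := by
  induction x using WithBot.recBotCoe with
  | bot => exact absurd h0 (by simp)
  | coe x =>
    induction x using ENat.recTopCoe with
    | top =>
      exfalso
      have h' : ((⊤ : ℕ∞) : WithBot ℕ∞) < (((n : ℕ) : ℕ∞) : WithBot ℕ∞) := hn
      rw [WithBot.coe_lt_coe] at h'
      exact not_top_lt h'
    | coe m =>
      refine ⟨m, rfl, ?_⟩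
      have h' : (((m : ℕ) : ℕ∞) : WithBot ℕ∞) < (((n : ℕ) : ℕ∞) : WithBot ℕ∞) := hn
      exact_mod_cast h'

end Top

section GenPt

/-- For a morphism from a Noetherian scheme to an irreducible one: if the generic point is not in
the range, it is not in the closure of the range. -/
theorem genericPoint_not_mem_closure_range {W S : Scheme.{u}} (h : W ⟶ S) [NoetherianSpace W]
    [IrreducibleSpace S] (hη : genericPoint ↥S ∉ Set.range h) :
    genericPoint ↥S ∉ closure (Set.range h) := by
  have hfin : (irreducibleComponents ↥W).Finite := NoetherianSpace.finite_irreducibleComponents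
  have hrange : Set.range h = ⋃ Y ∈ irreducibleComponents ↥W, h '' Y := by
    rw [← Set.image_iUnion₂, ← Set.sUnion_eq_biUnion, sUnion_irreducibleComponents,
      Set.image_univ]
  rw [hrange, hfin.closure_biUnion]
  simp only [Set.mem_iUnion, not_exists]
  intro Y hY hmem
  obtain ⟨y, hy⟩ := QuasiSober.sober hY.1 (isClosed_of_mem_irreducibleComponents Y hY)
  have h1 : IsGenericPoint (h y) (closure (h '' Y)) := hy.image h.continuous
  rw [← h1.def] at hmem
  have h2 : h y ⤳ genericPoint ↥S := specializes_iff_mem_closure.mpr hmem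
  have h3 : genericPoint ↥S ⤳ h y := genericPoint_specializes _
  exact hη ⟨y, (h2.antisymm h3).eq⟩

end GenPt

section Main

open Groth.Agent.Lib.Helper4.DimFormula Groth.Agent.R2.H88.FibConsSpec

variable {T S : Scheme.{u}}

/-- the dominant case -/
theorem irrDense_of_isDominant (g : T ⟶ S) [IsIntegral S] [IsNoetherian S] [LocallyOfFiniteType g]
    [QuasiCompact g] [IrreducibleSpace T] [IsDominant g] (V : T.Opens)
    (hV : (V : Set T).Nonempty) :
    ∃ U : S.Opens, (U : Set S).Nonempty ∧
      ∀ s ∈ U, g ⁻¹' {s} ⊆ closure ((V : Set T) ∩ g ⁻¹' {s}) := by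
  set η := genericPoint ↥S with hη
  set ξ := genericPoint ↥T with hξ
  have hgξ : g ξ = η := base_genericPoint_eq' g
  have hξV : ξ ∈ V :=
    ((genericPoint_spec ↥T).mem_open_set_iff V.isOpen).mpr (by simpa using hV)
  -- the generic fibre
  set n := genTrdeg g with hn
  have hdimη : topologicalKrullDim ↥(g ⁻¹' {η}) = (n : WithBot ℕ∞) := by
    rw [← Groth.Agent.Lib.Helper6.DimEq.topologicalKrullDim_fiber_genericPoint g]
    exact (IsHomeomorph.topologicalKrullDim_eq _ (g.fiberHomeo η).isHomeomorph).symm
  have hirrη : IsIrreducible (g ⁻¹' {η}) := by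
    refine ⟨⟨ξ, hgξ⟩, ?_⟩
    rw [← isPreirreducible_iff_closure]
    have h1 : closure (g ⁻¹' {η}) = Set.univ := by
      apply Set.eq_univ_of_univ_subset
      rw [← (genericPoint_spec ↥T).def]
      exact closure_mono (Set.singleton_subset_iff.mpr hgξ)
    rw [h1]
    exact (IrreducibleSpace.isIrreducible_univ ↥T).2
  haveI : IrreducibleSpace ↥(g ⁻¹' {η}) := Subtype.irreducibleSpace hirrη
  -- equidimensionality
  obtain ⟨U₁, hηU₁, hU₁⟩ := Groth.Agent.S4781.result g
  -- the closed complement as a scheme
  let Zc : Closeds T := ⟨(V : Set T)ᶜ, V.isOpen.isClosed_compl⟩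
  let I := Scheme.IdealSheafData.vanishingIdeal Zc
  let i : I.subscheme ⟶ T := I.subschemeι
  have hri : Set.range i = (V : Set T)ᶜ := by
    rw [Scheme.IdealSheafData.range_subschemeι]
    exact Scheme.IdealSheafData.coe_support_vanishingIdeal Zc
  set h : I.subscheme ⟶ S := i ≫ g with hh
  -- the embedding of the fibres of `h` into `T`
  have hψemb : ∀ s : S, IsEmbedding (fun x : h.fiber s => i (h.fiberι s x)) := fun s =>
    i.isEmbedding.comp (h.fiberι s).isEmbedding
  have hψrange : ∀ s : S, Set.range (fun x : h.fiber s => i (h.fiberι s x)) =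
      (V : Set T)ᶜ ∩ g ⁻¹' {s} := by
    intro s
    ext t
    constructor
    · rintro ⟨x, rfl⟩
      refine ⟨by rw [← hri]; exact ⟨_, rfl⟩, ?_⟩
      have hx : h.fiberι s x ∈ Set.range (h.fiberι s) := ⟨x, rfl⟩
      rw [Scheme.Hom.range_fiberι] at hx
      exact hx
    · rintro ⟨ht, hts⟩
      rw [← hri] at ht
      obtain ⟨w, rfl⟩ := ht
      have hw : w ∈ Set.range (h.fiberι s) := by
        rw [Scheme.Hom.range_fiberι]; exact hts
      obtain ⟨x, rfl⟩ := hw
      exact ⟨x, rfl⟩
  have hmem : ∀ (s : S) (x : h.fiber s), i (h.fiberι s x) ∈ (V : Set T)ᶜ ∩ g ⁻¹' {s} := by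
    intro s x
    rw [← hψrange s]
    exact ⟨x, rfl⟩
  -- dimension of the generic fibre of `h`
  have hlt : topologicalKrullDim ↥(h.fiber η) < (n : WithBot ℕ∞) := by
    let Z : Set ↥(g ⁻¹' {η}) := Subtype.val ⁻¹' ((V : Set T)ᶜ)
    have hZc : IsClosed Z := V.isOpen.isClosed_compl.preimage continuous_subtype_val
    have hZne : Z ≠ Set.univ := by
      intro h0
      have h1 : (⟨ξ, hgξ⟩ : ↥(g ⁻¹' {η})) ∈ Z := h0 ▸ Set.mem_univ _
      exact h1 hξV
    have h1 := Groth.Agent.R2.H62.Snapper.topologicalKrullDim_lt_of_isClosed_ne_univ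
      (X := ↥(g ⁻¹' {η})) n
      (by rw [hdimη]; exact_mod_cast Nat.lt_succ_self n) hZc hZne
    refine lt_of_le_of_lt ?_ h1
    let φ : h.fiber η → Z := fun x => ⟨⟨i (h.fiberι η x), (hmem η x).2⟩, (hmem η x).1⟩
    have hφc : Continuous φ :=
      Continuous.subtype_mk (Continuous.subtype_mk (hψemb η).continuous _) _
    refine IsInducing.topologicalKrullDim_le (f := φ)
      (IsInducing.of_comp hφc (continuous_subtype_val.comp continuous_subtype_val) ?_)
    exact (hψemb η).isInducing
  haveI : LocallyOfFiniteType h := by rw [hh]; infer_instance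
  haveI : QuasiCompact h := by rw [hh]; infer_instance
  by_cases hemp : IsEmpty (h.fiber η)
  · -- Case A: the complement of `V` misses the generic fibre
    haveI : IsLocallyNoetherian I.subscheme := LocallyOfFiniteType.isLocallyNoetherian h
    haveI : CompactSpace I.subscheme := QuasiCompact.compactSpace_of_compactSpace h
    haveI : IsNoetherian I.subscheme := {}
    have hηr : η ∉ Set.range h := by
      rintro ⟨w, hw⟩
      have hw' : w ∈ Set.range (h.fiberι η) := by
        rw [Scheme.Hom.range_fiberι]; exact hw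
      obtain ⟨x, -⟩ := hw'
      exact hemp.false x
    have hηc := genericPoint_not_mem_closure_range h hηr
    refine ⟨⟨(closure (Set.range h))ᶜ, isClosed_closure.isOpen_compl⟩, ⟨η, hηc⟩, ?_⟩
    intro s hs x hx
    apply subset_closure
    refine ⟨?_, hx⟩
    by_contra hxV
    have hxr : x ∈ Set.range i := by rw [hri]; exact hxV
    obtain ⟨w, rfl⟩ := hxr
    exact hs (subset_closure ⟨w, hx⟩)
  · -- Case B
    rw [not_isEmpty_iff] at hemp
    have h0 : 0 ≤ topologicalKrullDim ↥(h.fiber η) := by
      obtain ⟨x⟩ := hemp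
      haveI : Nonempty (IrreducibleCloseds ↥(h.fiber η)) :=
        ⟨⟨closure {x}, isIrreducible_singleton.closure, isClosed_closure⟩⟩
      exact Order.krullDim_nonneg
    obtain ⟨m, hm, hmn⟩ := exists_nat_of_nonneg_of_lt _ n h0 hlt
    obtain ⟨U₂, hU₂ne, hU₂⟩ := Groth.Agent.S1332.result h m hm
    refine ⟨U₁ ⊓ U₂, ?_, ?_⟩
    · exact nonempty_preirreducible_inter U₁.isOpen U₂.isOpen ⟨η, hηU₁⟩ hU₂ne
    · rintro s ⟨hs1, hs2⟩ x hx
      let x' : ↥(g ⁻¹' {s}) := ⟨x, hx⟩
      set C : Set ↥(g ⁻¹' {s}) := irreducibleComponent x' with hC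
      have hCmem : C ∈ irreducibleComponents ↥(g ⁻¹' {s}) :=
        irreducibleComponent_mem_irreducibleComponents x'
      have hCdim : topologicalKrullDim ↥C = (n : WithBot ℕ∞) := by
        rw [hU₁ s hs1 C hCmem, hdimη]
      -- `C` meets `V`
      have hCV : (C ∩ Subtype.val ⁻¹' (V : Set T)).Nonempty := by
        by_contra hcon
        rw [Set.not_nonempty_iff_eq_empty] at hcon
        have hsub : Subtype.val '' C ⊆ Set.range (fun x : h.fiber s => i (h.fiberι s x)) := by
          rw [hψrange s]
          rintro _ ⟨c, hc, rfl⟩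
          refine ⟨fun hcV => ?_, c.2⟩
          have : c ∈ C ∩ Subtype.val ⁻¹' (V : Set T) := ⟨hc, hcV⟩
          rw [hcon] at this
          exact this
        have h1 := topologicalKrullDim_le_of_subset_range _ (hψemb s) _ hsub
        have h2 : topologicalKrullDim ↥(Subtype.val '' C) = topologicalKrullDim ↥C := by
          have hemb : IsEmbedding (Subtype.val : ↥(g ⁻¹' {s}) → T) := IsEmbedding.subtypeVal
          exact (IsHomeomorph.topologicalKrullDim_eq _
            ((hemb.homeomorphImage C).isHomeomorph)).symm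
        rw [h2, hCdim, hU₂ s hs2] at h1
        have : n ≤ m := by exact_mod_cast h1
        omega
      have hCirr : IsPreirreducible C := isIrreducible_irreducibleComponent.2
      have hdense := subset_closure_inter_of_isPreirreducible hCirr
        (V.isOpen.preimage continuous_subtype_val) hCV
      have hx'C : x' ∈ C := mem_irreducibleComponent
      have hx'cl := hdense hx'C
      have h3 := image_closure_subset_closure_image (continuous_subtype_val (p := (· ∈ g ⁻¹' {s})))
        (Set.mem_image_of_mem Subtype.val hx'cl)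
      refine closure_mono ?_ h3
      rintro _ ⟨c, ⟨-, hcV⟩, rfl⟩
      exact ⟨hcV, c.2⟩

/-- **[T1b]** of PROJ:fibcons. -/
theorem irrDense : IrrDenseStmt.{u} := by
  intro T S g _ _ _ _ _ V hV
  by_cases hdom : IsDominant g
  · exact irrDense_of_isDominant g V hV
  · have hne : closure (Set.range g) ≠ Set.univ := by
      intro h0
      exact hdom (IsDominant.mk (dense_iff_closure_eq.mpr h0))
    refine ⟨⟨(closure (Set.range g))ᶜ, isClosed_closure.isOpen_compl⟩, ?_, ?_⟩
    · rw [TopologicalSpace.Opens.coe_mk, Set.nonempty_compl]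
      exact hne
    · intro s hs x hx
      have hsr : s ∈ Set.range g := ⟨x, hx⟩
      exact absurd (subset_closure hsr) hs

end Main

end Groth.Agent.R2.H68.FibConsIrr
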