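/-
helper68: PROJ:fibcons package [T1a] `genClosure : FibConsSpec.GenClosureStmt`
(EGA IV 9.5.2: for `Z` constructible in `Y` of finite type over an integral Noetherian `S`,
`closure Z ∩ g⁻¹(s) ⊆ closure (Z ∩ g⁻¹(s))` for all `s` in a nonempty open of `S`).
-/
import Mathlib
import Groth.Agent.R2.H68FibConsIrr
import Groth.Agent.Lib.Helper6Constructible

set_option autoImplicit false
set_option linter.style.haveILetI false
universe u

open CategoryTheory CategoryTheory.Limits AlgebraicGeometry Topology TopologicalSpace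

namespace Groth.Agent.R2.H68.FibConsGen

open Groth.Agent.R2.H88.FibConsSpec

variable {Y S : Scheme.{u}} (g : Y ⟶ S) [IsIntegral S] [IsNoetherian S] [LocallyOfFiniteType g]
  [QuasiCompact g]

/-- One irreducible closed subset `t` and an open `O` meeting it. -/
theorem exists_open_irr (t : Set Y) (ht : IsClosed t) (hirr : IsIrreducible t) (O : Set Y)
    (hO : IsOpen O) (hne : (t ∩ O).Nonempty) :
    ∃ U : S.Opens, (U : Set S).Nonempty ∧
      ∀ s ∈ U, t ∩ g ⁻¹' {s} ⊆ closure (t ∩ O ∩ g ⁻¹' {s}) := by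
  let I := Scheme.IdealSheafData.vanishingIdeal ⟨t, ht⟩
  let ι : I.subscheme ⟶ Y := I.subschemeι
  have hr : Set.range ι = t := by
    rw [Scheme.IdealSheafData.range_subschemeι]
    exact Scheme.IdealSheafData.coe_support_vanishingIdeal ⟨t, ht⟩
  haveI : IrreducibleSpace I.subscheme := by
    let e := ι.isEmbedding.toHomeomorph
    haveI : IrreducibleSpace ↥(Set.range ι) := Subtype.irreducibleSpace (hr ▸ hirr)
    rw [irreducibleSpace_def]
    have h1 := (IrreducibleSpace.isIrreducible_univ ↥(Set.range ι)).image e.symm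
      e.symm.continuous.continuousOn
    rwa [Set.image_univ, e.symm.surjective.range_eq] at h1
  let V' : I.subscheme.Opens := ι ⁻¹ᵁ ⟨O, hO⟩
  have hV' : (V' : Set I.subscheme).Nonempty := by
    obtain ⟨y, hyt, hyO⟩ := hne
    rw [← hr] at hyt
    obtain ⟨w, rfl⟩ := hyt
    exact ⟨w, hyO⟩
  obtain ⟨U, hUne, hU⟩ := Groth.Agent.R2.H68.FibConsIrr.irrDense (ι ≫ g) V' hV'
  refine ⟨U, hUne, fun s hs x hx => ?_⟩
  obtain ⟨hxt, hxs⟩ := hx
  rw [← hr] at hxt
  obtain ⟨w, rfl⟩ := hxt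
  have hw : w ∈ (ι ≫ g) ⁻¹' {s} := hxs
  have h1 := hU s hs hw
  have h2 := image_closure_subset_closure_image ι.continuous (Set.mem_image_of_mem ι h1)
  refine closure_mono ?_ h2
  rintro _ ⟨w', ⟨hw'V, hw's⟩, rfl⟩
  exact ⟨⟨hr ▸ ⟨w', rfl⟩, hw'V⟩, hw's⟩

/-- Finitely many irreducible closed subsets and one open. -/
theorem exists_open_irr_finite (𝒯 : Set (Set Y)) (h𝒯 : 𝒯.Finite) (O : Set Y) (hO : IsOpen O) :
    (∀ t ∈ 𝒯, IsClosed t) → (∀ t ∈ 𝒯, IsIrreducible t) →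
    ∃ U : S.Opens, (U : Set S).Nonempty ∧ ∀ s ∈ U, ∀ t ∈ 𝒯, (t ∩ O).Nonempty →
      t ∩ g ⁻¹' {s} ⊆ closure (t ∩ O ∩ g ⁻¹' {s}) := by
  induction 𝒯, h𝒯 using Set.Finite.induction_on with
  | empty =>
    intro _ _
    exact ⟨⊤, ⟨genericPoint ↥S, trivial⟩, fun s _ t ht => absurd ht (Set.notMem_empty t)⟩
  | @insert a 𝒯' ha hfin ih =>
    intro hc hi
    obtain ⟨U', hU'ne, hU'⟩ := ih (fun t ht => hc t (Set.mem_insert_of_mem a ht))
      (fun t ht => hi t (Set.mem_insert_of_mem a ht))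
    by_cases hne : (a ∩ O).Nonempty
    · obtain ⟨Ua, hUane, hUa⟩ := exists_open_irr g a (hc a (Set.mem_insert a 𝒯'))
        (hi a (Set.mem_insert a 𝒯')) O hO hne
      refine ⟨Ua ⊓ U', nonempty_preirreducible_inter Ua.isOpen U'.isOpen hUane hU'ne, ?_⟩
      rintro s ⟨hsa, hs'⟩ t ht htne
      rcases Set.mem_insert_iff.mp ht with rfl | ht'
      · exact hUa s hsa
      · exact hU' s hs' t ht' htne
    · refine ⟨U', hU'ne, ?_⟩
      intro s hs t ht htne
      rcases Set.mem_insert_iff.mp ht with rfl | ht'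
      · exact absurd htne hne
      · exact hU' s hs t ht' htne

/-- One locally closed subset. -/
theorem exists_open_locallyClosed (L : Set Y) (hL : IsLocallyClosed L) :
    ∃ U : S.Opens, (U : Set S).Nonempty ∧
      ∀ s ∈ U, closure L ∩ g ⁻¹' {s} ⊆ closure (L ∩ g ⁻¹' {s}) := by
  haveI : IsLocallyNoetherian Y := LocallyOfFiniteType.isLocallyNoetherian g
  haveI : CompactSpace Y := QuasiCompact.compactSpace_of_compactSpace g
  haveI : IsNoetherian Y := {}
  obtain ⟨O, A, hO, hA, rfl⟩ := hL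
  obtain ⟨𝒯, hfin, hc, hi, hAeq⟩ := NoetherianSpace.exists_finite_set_isClosed_irreducible hA
  obtain ⟨U, hUne, hU⟩ := exists_open_irr_finite g 𝒯 hfin O hO hc hi
  refine ⟨U, hUne, fun s hs x hx => ?_⟩
  obtain ⟨hxcl, hxs⟩ := hx
  -- the closed set of relevant components
  let 𝒯' : Set (Set Y) := {t ∈ 𝒯 | (t ∩ O).Nonempty}
  have hfin' : 𝒯'.Finite := hfin.subset (Set.sep_subset _ _)
  have hcl' : IsClosed (⋃₀ 𝒯') := by
    rw [Set.sUnion_eq_biUnion]
    exact hfin'.isClosed_biUnion fun t ht => hc t ht.1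
  have hsub : O ∩ A ⊆ ⋃₀ 𝒯' := by
    rintro y ⟨hyO, hyA⟩
    rw [hAeq] at hyA
    obtain ⟨t, ht, hyt⟩ := hyA
    exact ⟨t, ⟨ht, ⟨y, hyt, hyO⟩⟩, hyt⟩
  obtain ⟨t, ⟨ht, htne⟩, hxt⟩ := closure_minimal hsub hcl' hxcl
  have h1 := hU s hs t ht htne ⟨hxt, hxs⟩
  refine closure_mono ?_ h1
  rintro y ⟨⟨hyt, hyO⟩, hys⟩
  refine ⟨⟨hyO, ?_⟩, hys⟩
  rw [hAeq]
  exact ⟨t, ht, hyt⟩

/-- Finite unions of locally closed subsets. -/
theorem exists_open_sUnion (F : Set (Set Y)) (hF : F.Finite) :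
    (∀ L ∈ F, IsLocallyClosed L) →
    ∃ U : S.Opens, (U : Set S).Nonempty ∧
      ∀ s ∈ U, closure (⋃₀ F) ∩ g ⁻¹' {s} ⊆ closure (⋃₀ F ∩ g ⁻¹' {s}) := by
  induction F, hF using Set.Finite.induction_on with
  | empty =>
    intro _
    refine ⟨⊤, ⟨genericPoint ↥S, trivial⟩, fun s _ x hx => ?_⟩
    simp at hx
  | @insert L F' hL hfin ih =>
    intro hlc
    obtain ⟨U', hU'ne, hU'⟩ := ih (fun t ht => hlc t (Set.mem_insert_of_mem L ht))
    obtain ⟨UL, hULne, hUL⟩ := exists_open_locallyClosed g L (hlc L (Set.mem_insert L F'))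
    refine ⟨UL ⊓ U', nonempty_preirreducible_inter UL.isOpen U'.isOpen hULne hU'ne, ?_⟩
    rintro s ⟨hsL, hs'⟩ x ⟨hxcl, hxs⟩
    rw [Set.sUnion_insert, closure_union] at hxcl
    rw [Set.sUnion_insert]
    rcases hxcl with hx | hx
    · exact closure_mono (Set.inter_subset_inter_left _ Set.subset_union_left)
        (hUL s hsL ⟨hx, hxs⟩)
    · exact closure_mono (Set.inter_subset_inter_left _ Set.subset_union_right)
        (hU' s hs' ⟨hx, hxs⟩)

/-- **[T1a]** of PROJ:fibcons (EGA IV 9.5.2). -/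
theorem genClosure : GenClosureStmt.{u} := by
  intro Y S g _ _ _ _ Z hZ
  obtain ⟨F, hF, hlc, rfl⟩ := Groth.Agent.Lib.Helper6.IsConstructible.isFULC hZ
  exact exists_open_sUnion g F hF hlc

end Groth.Agent.R2.H68.FibConsGen
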