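import Groth.Agent.R2.H88FibConsSpec
import Groth.Agent.Lib.Helper3FibreConstr

/-!
# helper88: PROJ:fibcons packages [F1], [F2] (scheme-theoretic fibre map vs topological fibre)
-/

set_option autoImplicit false
universe u
open CategoryTheory CategoryTheory.Limits AlgebraicGeometry Topology TopologicalSpace

namespace Groth.Agent.R2.H88.FibConsF12

open Groth.Agent.R2.H88.FibConsSpec

/-- for an embedding `ι` with range `R`: `ι⁻¹(A)` is closed iff `A ∩ R` is closed in `R`. -/
theorem isClosed_preimage_iff_of_isEmbedding {F Y : Type*} [TopologicalSpace F] [TopologicalSpace Y]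
    {ι : F → Y} (hι : IsEmbedding ι) (A : Set Y) :
    IsClosed (ι ⁻¹' A) ↔ closure (A ∩ Set.range ι) ∩ Set.range ι ⊆ A := by
  rw [← closure_subset_iff_isClosed, hι.isInducing.closure_eq_preimage_closure_image,
    Set.image_preimage_eq_inter_range]
  constructor
  · rintro h _ ⟨hy, x, rfl⟩
    exact h hy
  · intro h x hx
    exact h ⟨hx, x, rfl⟩

/-- for an embedding `ι` with range `R`: `ι⁻¹(A)` is dense iff `A ∩ R` is dense in `R`. -/
theorem dense_preimage_iff_of_isEmbedding {F Y : Type*} [TopologicalSpace F] [TopologicalSpace Y]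
    {ι : F → Y} (hι : IsEmbedding ι) (A : Set Y) :
    Dense (ι ⁻¹' A) ↔ Set.range ι ⊆ closure (A ∩ Set.range ι) := by
  rw [dense_iff_closure_eq, hι.isInducing.closure_eq_preimage_closure_image,
    Set.image_preimage_eq_inter_range, Set.eq_univ_iff_forall]
  constructor
  · rintro h _ ⟨x, rfl⟩
    exact h x
  · intro h x
    exact h ⟨x, rfl⟩

theorem range_fiberMap {X Y S : Scheme.{u}} (h : X ⟶ Y) (g : Y ⟶ S) (s : S) :
    Set.range (MoreMor.fiberMap h g s) = (g.fiberι s) ⁻¹' Set.range h := by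
  have hsq : IsPullback ((h ≫ g).fiberι s) (MoreMor.fiberMap h g s) h (g.fiberι s) :=
    Groth.Agent.Lib.Helper3.FibreConstr.isPullback_fibreMap h g s
  rw [← Scheme.Pullback.range_snd]
  have hsurj : Function.Surjective hsq.isoPullback.hom :=
    (Scheme.homeoOfIso hsq.isoPullback).surjective
  ext y
  constructor
  · rintro ⟨x, rfl⟩
    exact ⟨hsq.isoPullback.hom x, by rw [← Scheme.Hom.comp_apply, hsq.isoPullback_hom_snd]⟩
  · rintro ⟨x, rfl⟩
    obtain ⟨x', rfl⟩ := hsurj x
    exact ⟨x', by rw [← Scheme.Hom.comp_apply, hsq.isoPullback_hom_snd]⟩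

theorem rangeClosedIff : RangeClosedIffStmt.{u} := by
  intro X Y S h g s
  rw [range_fiberMap, isClosed_preimage_iff_of_isEmbedding (g.fiberι s).isEmbedding,
    Scheme.Hom.range_fiberι]
  rfl

theorem dominantIff : DominantIffStmt.{u} := by
  intro X Y S h g s
  have h1 : IsDominant (MoreMor.fiberMap h g s) ↔ Dense (Set.range (MoreMor.fiberMap h g s)) :=
    ⟨fun hd => hd.denseRange, fun hd => ⟨hd⟩⟩
  rw [h1, range_fiberMap, dense_preimage_iff_of_isEmbedding (g.fiberι s).isEmbedding,
    Scheme.Hom.range_fiberι]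
  show _ ↔ Set.univ ∩ g ⁻¹' {s} ⊆ closure (Set.range h ∩ g ⁻¹' {s})
  rw [Set.univ_inter]

end Groth.Agent.R2.H88.FibConsF12
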