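import Groth.Agent.R2.H88FibConsSpec
import Groth.Agent.R2.H88FibConsF12

/-!
# helper68: PROJ:fibcons package [F3] (`SepIdStmt`)

The fibre map of the diagonal `Δ_f` over `s` is, up to the canonical isomorphism
`X_s ×_{Y_s} X_s ≅ (X ×_Y X)_s`, the diagonal of the fibre map `f_s`.  We do not identify the
morphisms; we identify their ranges (both are preimages of `range Δ_f`), which is all that is needed
since a diagonal is always an immersion.

Category-theoretic part (any category with pullbacks): for a cartesian square `a, F, f, b`
* `isPullback_map_fst` : `X' ×_{Y'} X' ⟶ X ×_Y X` is the base change of `a : X' ⟶ X`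
  (along first projections);
* `isPullback_map_base` : `X' ×_{Y'} X' ⟶ X ×_Y X` is the base change of `b : Y' ⟶ Y`;
* `isPullback_diagonal_map` : `Δ_F` is the base change of `Δ_f`.
-/

set_option autoImplicit false
universe u v
open CategoryTheory CategoryTheory.Limits AlgebraicGeometry Topology TopologicalSpace

namespace Groth.Agent.R2.H68.FibConsSepId

open Groth.Agent.R2.H88.FibConsSpec

section Cat

variable {C : Type u} [Category.{v} C] [HasPullbacks C]
variable {X' Y' X Y : C} {a : X' ⟶ X} {F : X' ⟶ Y'} {f : X ⟶ Y} {b : Y' ⟶ Y}

/-- for a cartesian square `a, F, f, b`, the square of first projections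
`X' ×_{Y'} X' ⟶ X'`, `X ×_Y X ⟶ X` is cartesian. -/
theorem isPullback_map_fst (h : IsPullback a F f b) :
    IsPullback (pullback.map F F f f a a b h.w.symm h.w.symm) (pullback.fst F F)
      (pullback.fst f f) a := by
  have e1 : pullback.map F F f f a a b h.w.symm h.w.symm ≫ pullback.snd f f =
      pullback.snd F F ≫ a := pullback.lift_snd _ _ _
  have e0 : pullback.map F F f f a a b h.w.symm h.w.symm ≫ pullback.fst f f =
      pullback.fst F F ≫ a := pullback.lift_fst _ _ _
  have step1 : IsPullback (pullback.fst F F) (pullback.snd F F ≫ a) (F ≫ b) f :=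
    (IsPullback.of_hasPullback F F).paste_vert h.flip
  have outer : IsPullback (pullback.fst F F)
      (pullback.map F F f f a a b h.w.symm h.w.symm ≫ pullback.snd f f) (a ≫ f) f := by
    rw [e1, h.w]; exact step1
  exact (IsPullback.of_bot outer e0.symm (IsPullback.of_hasPullback f f)).flip

/-- for a cartesian square `a, F, f, b`, `X' ×_{Y'} X' ⟶ X ×_Y X` is the base change of `b`. -/
theorem isPullback_map_base (h : IsPullback a F f b) :
    IsPullback (pullback.map F F f f a a b h.w.symm h.w.symm) (pullback.fst F F ≫ F)
      (pullback.fst f f ≫ f) b :=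
  (isPullback_map_fst h).paste_vert h

/-- for a cartesian square `a, F, f, b`, the diagonal of `F` is the base change of the diagonal
of `f`. -/
theorem isPullback_diagonal_map (h : IsPullback a F f b) :
    IsPullback (pullback.diagonal F) a (pullback.map F F f f a a b h.w.symm h.w.symm)
      (pullback.diagonal f) := by
  have comm : pullback.diagonal F ≫ pullback.map F F f f a a b h.w.symm h.w.symm =
      a ≫ pullback.diagonal f := by
    have e1 : pullback.map F F f f a a b h.w.symm h.w.symm ≫ pullback.snd f f =
        pullback.snd F F ≫ a := pullback.lift_snd _ _ _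
    have e0 : pullback.map F F f f a a b h.w.symm h.w.symm ≫ pullback.fst f f =
        pullback.fst F F ≫ a := pullback.lift_fst _ _ _
    apply pullback.hom_ext
    · rw [Category.assoc, e0, ← Category.assoc, pullback.diagonal_fst, Category.id_comp,
        Category.assoc, pullback.diagonal_fst, Category.comp_id]
    · rw [Category.assoc, e1, ← Category.assoc, pullback.diagonal_snd, Category.id_comp,
        Category.assoc, pullback.diagonal_snd, Category.comp_id]
  have outer : IsPullback (pullback.diagonal F ≫ pullback.fst F F) a a
      (pullback.diagonal f ≫ pullback.fst f f) := by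
    rw [pullback.diagonal_fst, pullback.diagonal_fst]
    exact IsPullback.of_horiz_isIso ⟨by simp⟩
  exact IsPullback.of_right outer comm (isPullback_map_fst h).flip

end Cat

/-- a morphism of schemes is separated iff the range of its diagonal is closed. -/
theorem isSeparated_iff_isClosed_range_diagonal {X Y : Scheme.{u}} (F : X ⟶ Y) :
    IsSeparated F ↔ IsClosed (Set.range (pullback.diagonal F)) := by
  constructor
  · intro h
    exact (pullback.diagonal F).isClosedEmbedding.isClosed_range
  · intro h
    exact ⟨IsClosedImmersion.of_isPreimmersion _ h⟩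

/-- **[F3]** -/
theorem sepId : SepIdStmt.{u} := by
  intro X Y S f g s
  have hsq : IsPullback ((f ≫ g).fiberι s) (MoreMor.fiberMap f g s) f (g.fiberι s) :=
    Groth.Agent.Lib.Helper3.FibreConstr.isPullback_fibreMap f g s
  -- `Δ_{f_s}` is a base change of `Δ_f`
  have hA := (isPullback_diagonal_map hsq).flip
  have hrA : Set.range (pullback.diagonal (MoreMor.fiberMap f g s)) =
      (pullback.map (MoreMor.fiberMap f g s) (MoreMor.fiberMap f g s) f f
        ((f ≫ g).fiberι s) ((f ≫ g).fiberι s) (g.fiberι s) hsq.w.symm hsq.w.symm) ⁻¹'
        Set.range (pullback.diagonal f) := by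
    have := Scheme.image_preimage_eq_of_isPullback hA Set.univ
    simpa [Set.image_univ] using this
  -- `X_s ×_{Y_s} X_s ≅ (X ×_Y X)_s`
  have hB0 := (isPullback_map_base hsq).paste_vert
    (IsPullback.of_hasPullback g (S.fromSpecResidueField s))
  have hB : IsPullback
      (pullback.map (MoreMor.fiberMap f g s) (MoreMor.fiberMap f g s) f f
        ((f ≫ g).fiberι s) ((f ≫ g).fiberι s) (g.fiberι s) hsq.w.symm hsq.w.symm)
      (pullback.fst (MoreMor.fiberMap f g s) (MoreMor.fiberMap f g s) ≫
        MoreMor.fiberMap f g s ≫ pullback.snd g (S.fromSpecResidueField s))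
      (pullback.fst f f ≫ f ≫ g) (S.fromSpecResidueField s) := by
    simpa only [Category.assoc] using hB0
  have hc : hB.isoPullback.hom ≫ (pullback.fst f f ≫ f ≫ g).fiberι s =
      pullback.map (MoreMor.fiberMap f g s) (MoreMor.fiberMap f g s) f f
        ((f ≫ g).fiberι s) ((f ≫ g).fiberι s) (g.fiberι s) hsq.w.symm hsq.w.symm :=
    hB.isoPullback_hom_fst
  rw [isSeparated_iff_isClosed_range_diagonal, hrA, ← hc,
    Groth.Agent.R2.H88.FibConsF12.range_fiberMap]
  rw [Scheme.Hom.comp_base, TopCat.coe_comp, Set.preimage_comp]
  exact (Scheme.homeoOfIso hB.isoPullback).isClosed_preimage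

end Groth.Agent.R2.H68.FibConsSepId
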