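/-
helper68: for a fibration `f_* O_X = O_Y` out of a normal integral scheme, the function field of `Y`
is algebraically closed in the function field of `X`.
-/
import Groth.Agent.S2422

set_option autoImplicit false
set_option linter.style.haveILetI false
universe u

open AlgebraicGeometry CategoryTheory TopologicalSpace

namespace Groth.Agent.R2.H68.FibNormal

/-- Sections over a nonempty open of a normal integral scheme are integrally closed in the
function field. -/
theorem exists_section_of_isIntegral (X : Scheme.{u}) [IsIntegral X] (hX : Pi1.IsNormalScheme X)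
    (W₀ : X.Opens) [Nonempty W₀] (x : X.functionField) (hx : IsIntegral Γ(X, W₀) x) :
    ∃ s : Γ(X, W₀), (X.germToFunctionField W₀).hom s = x := by
  -- local sections over the nonempty affine opens inside `W₀`
  have hloc : ∀ W : X.Opens, IsAffineOpen W → W ≤ W₀ → ∀ hW : Nonempty W,
      ∃ s : Γ(X, W), (X.germToFunctionField W).hom s = x := by
    intro W hWa hle hW
    haveI : IsDomain Γ(X, W) := IsIntegral.component_integral W
    haveI := Groth.Agent.S2422.isIntegrallyClosed_sections_of_normal hX W hWa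
    haveI := functionField_isFractionRing_of_isAffineOpen X W hWa
    have hx' : IsIntegral Γ(X, W) x := by
      letI : Algebra Γ(X, W₀) Γ(X, W) := (X.presheaf.map (homOfLE hle).op).hom.toAlgebra
      haveI : IsScalarTower Γ(X, W₀) Γ(X, W) X.functionField :=
        IsScalarTower.of_algebraMap_eq' (by
          simp only [RingHom.algebraMap_toAlgebra]
          rw [← CommRingCat.hom_comp, X.presheaf.germ_res])
      exact hx.tower_top
    exact (IsIntegrallyClosed.isIntegral_iff (R := Γ(X, W)) (K := X.functionField)).mp hx'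
  -- glue
  let ι := {W : X.affineOpens // W.1 ≤ W₀ ∧ Nonempty W.1}
  let U : ι → X.Opens := fun W => W.1.1
  choose! sf hsf using fun W : ι => hloc W.1.1 W.1.2 W.2.1 W.2.2
  have hcompat : TopCat.Presheaf.IsCompatible X.presheaf U sf := by
    intro i j
    by_cases hij : Nonempty (U i ⊓ U j : X.Opens)
    · apply X.germToFunctionField_injective (U i ⊓ U j)
      haveI := i.2.2
      haveI := j.2.2
      have h1 : (X.germToFunctionField (U i ⊓ U j)).hom
          ((X.presheaf.map (TopologicalSpace.Opens.infLELeft (U i) (U j)).op).hom (sf i)) =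
          (X.germToFunctionField (U i)).hom (sf i) := by
        rw [← CommRingCat.comp_apply, X.presheaf.germ_res]
      have h2 : (X.germToFunctionField (U i ⊓ U j)).hom
          ((X.presheaf.map (TopologicalSpace.Opens.infLERight (U i) (U j)).op).hom (sf j)) =
          (X.germToFunctionField (U j)).hom (sf j) := by
        rw [← CommRingCat.comp_apply, X.presheaf.germ_res]
      exact h1.trans ((hsf i).trans ((hsf j).symm.trans h2.symm))
    · have h0 : U i ⊓ U j = ⊥ := by
        ext y
        simp only [TopologicalSpace.Opens.coe_bot, Set.mem_empty_iff_false, iff_false]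
        exact fun hy => hij ⟨⟨y, hy⟩⟩
      haveI : Subsingleton Γ(X, U i ⊓ U j) := by
        rw [h0]; infer_instance
      exact Subsingleton.elim _ _
  have hcover : W₀ ≤ iSup U := by
    intro y hy
    obtain ⟨_, ⟨W, hW, rfl⟩, hyW, hWW₀⟩ := X.isBasis_affineOpens.exists_subset_of_mem_open
      hy W₀.isOpen
    exact TopologicalSpace.Opens.mem_iSup.mpr ⟨⟨⟨W, hW⟩, hWW₀, ⟨⟨y, hyW⟩⟩⟩, hyW⟩
  obtain ⟨s, hs, -⟩ := X.sheaf.existsUnique_gluing' U W₀ (fun i => homOfLE i.2.1) hcover sf hcompat
  refine ⟨s, ?_⟩
  obtain ⟨⟨y₀, hy₀⟩⟩ := (inferInstance : Nonempty W₀)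
  obtain ⟨_, ⟨W, hW, rfl⟩, hyW, hWW₀⟩ := X.isBasis_affineOpens.exists_subset_of_mem_open
    hy₀ W₀.isOpen
  let i : ι := ⟨⟨W, hW⟩, hWW₀, ⟨⟨_, hyW⟩⟩⟩
  haveI := i.2.2
  have h3 := hs i
  have h4 : (X.germToFunctionField W).hom ((X.presheaf.map (homOfLE i.2.1).op).hom s) =
      (X.germToFunctionField W₀).hom s := by
    rw [← CommRingCat.comp_apply, X.presheaf.germ_res]
  rw [← h4]
  have h5 : (X.presheaf.map (homOfLE i.2.1).op).hom s = sf i := h3
  rw [h5]
  exact hsf i

variable {X Y : Scheme.{u}} [IsIntegral X] [IsIntegral Y]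

/-- For a fibration out of a normal integral scheme, `K(Y)` is algebraically closed in `K(X)`. -/
theorem mem_range_of_isIntegralElem (f : X ⟶ Y) (hX : Pi1.IsNormalScheme X)
    (h : f.base (genericPoint ↥X) ⤳ genericPoint ↥Y)
    (hiso : ∀ U : Y.Opens, IsIso (f.app U)) (x : X.functionField)
    (hx : (CohIII.stalkToFunctionField f (genericPoint ↥Y) h).IsIntegralElem x) :
    x ∈ (CohIII.stalkToFunctionField f (genericPoint ↥Y) h).range := by
  set φ := CohIII.stalkToFunctionField f (genericPoint ↥Y) h with hφ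
  obtain ⟨_, ⟨V, hVa, rfl⟩, hηV, -⟩ := Y.isBasis_affineOpens.exists_subset_of_mem_open
    (Set.mem_univ (genericPoint ↥Y)) isOpen_univ
  haveI : Nonempty V := ⟨⟨_, hηV⟩⟩
  have hηX : genericPoint ↥X ∈ f ⁻¹ᵁ V := by
    show f.base (genericPoint ↥X) ∈ V
    rw [Groth.Agent.S2422.map_genericPoint_eq f h]
    exact hηV
  haveI : Nonempty (f ⁻¹ᵁ V) := ⟨⟨_, hηX⟩⟩
  haveI : IsDomain Γ(Y, V) := IsIntegral.component_integral V
  haveI := functionField_isFractionRing_of_isAffineOpen Y V hVa
  letI : Algebra Y.functionField X.functionField := φ.toAlgebra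
  letI : Algebra Γ(Y, V) X.functionField :=
    (φ.comp (algebraMap Γ(Y, V) Y.functionField)).toAlgebra
  haveI : IsScalarTower Γ(Y, V) Y.functionField X.functionField :=
    IsScalarTower.of_algebraMap_eq' rfl
  have hx' : IsIntegral Y.functionField x := hx
  obtain ⟨m, hm⟩ := IsIntegral.exists_multiple_integral_of_isLocalization
    (nonZeroDivisors Γ(Y, V)) x hx'
  -- integrality over the sections of `X` over `f⁻¹V`
  letI : Algebra Γ(Y, V) Γ(X, f ⁻¹ᵁ V) := (f.app V).hom.toAlgebra
  haveI : IsScalarTower Γ(Y, V) Γ(X, f ⁻¹ᵁ V) X.functionField :=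
    IsScalarTower.of_algebraMap_eq' (by
      ext r
      exact Groth.Agent.S2422.germ_square f h V r)
  have hm' : IsIntegral Γ(X, f ⁻¹ᵁ V) (m • x) := hm.tower_top
  obtain ⟨s, hs⟩ := exists_section_of_isIntegral X hX (f ⁻¹ᵁ V) (m • x) hm'
  have hsurj := ((ConcreteCategory.isIso_iff_bijective (f.app V)).mp (hiso V)).2
  obtain ⟨t, ht⟩ := hsurj s
  have h1 : φ ((Y.germToFunctionField V).hom t) = m • x := by
    rw [Groth.Agent.S2422.germ_square f h V t]
    erw [ht]
    exact hs
  have h2 : m • x = φ ((Y.germToFunctionField V).hom m.1) * x := by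
    rw [Submonoid.smul_def, Algebra.smul_def]
    rfl
  have hm0 : (Y.germToFunctionField V).hom m.1 ≠ 0 := by
    intro h0
    have := Y.germToFunctionField_injective V (h0.trans (map_zero _).symm)
    exact nonZeroDivisors.ne_zero m.2 this
  have hφm0 : φ ((Y.germToFunctionField V).hom m.1) ≠ 0 := by
    intro h0
    exact hm0 (φ.injective (h0.trans (map_zero φ).symm))
  refine ⟨(Y.germToFunctionField V).hom t / (Y.germToFunctionField V).hom m.1, ?_⟩
  rw [map_div₀, h1, h2, mul_div_assoc, mul_comm, div_mul_cancel₀ _ hφm0]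

end Groth.Agent.R2.H68.FibNormal
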