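import Mathlib

/-!
# helper69: interface for the "sets" follow-up of PROJ:fibcons (S3427, S3428)

`FibreOpenSurjStmt` ([bc-sets]): for a cartesian square `X' = X ×_S S'` and a point `s'` of `S'`, the
map induced by the projection on the topological fibres `f'⁻¹(s') ⟶ f⁻¹(a s')` (subspaces of `X'`, `X`)
is continuous, open and surjective (the scheme-theoretic fibre of `f'` is the base change of that of `f`
along the field extension `κ(a s') ⟶ κ(s')`, and base changes of field extensions are universally open
and surjective).
-/

set_option autoImplicit false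
universe u
open CategoryTheory CategoryTheory.Limits AlgebraicGeometry Topology

namespace Groth.Agent.R2.H69.FibSetSpec

/-- [bc-sets] the comparison map of topological fibres under base change is an open continuous
surjection. -/
def FibreOpenSurjStmt : Prop :=
  ∀ {X S X' S' : Scheme.{u}} (f : X ⟶ S) (f' : X' ⟶ S') (a : S' ⟶ S) (pX : X' ⟶ X),
    IsPullback pX f' f a → ∀ s' : S',
    ∃ q : ↥(f' ⁻¹' {s'}) → ↥(f ⁻¹' {a s'}),
      (∀ x, (q x).1 = pX x.1) ∧ Continuous q ∧ IsOpenMap q ∧ Function.Surjective q

end Groth.Agent.R2.H69.FibSetSpec
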