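import Mathlib
import Groth.Agent.Lib.Helper3LocusBC
import Groth.Agent.R2.H69FibSetSpec

/-!
# helper68: PROJ:fibcons sets follow-up, package [bc-sets]

For a cartesian square `X' ⟶ X` over `a : S' ⟶ S` and a point `s'` of `S'`, the induced map of
topological fibres `f'⁻¹(s') ⟶ f⁻¹(a s')` is continuous, open and surjective: it is the map on
underlying spaces of the base change of `Spec κ(s') ⟶ Spec κ(a s')`, which is universally open
and surjective.
-/

set_option autoImplicit false
set_option linter.style.haveILetI false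
universe u
open CategoryTheory CategoryTheory.Limits AlgebraicGeometry Topology

namespace Groth.Agent.R2.H68.FibSetBC

open Groth.Agent.Lib.Helper3.LocusBC

/-- local copy of helper69's closed form (`Groth.Agent.R2.H69.FibSetSpec.FibreOpenSurjStmt`). -/
def FibreOpenSurjStmt' : Prop :=
  ∀ {X S X' S' : Scheme.{u}} (f : X ⟶ S) (f' : X' ⟶ S') (a : S' ⟶ S) (pX : X' ⟶ X),
    IsPullback pX f' f a → ∀ s' : S', ∃ q : ↥(f' ⁻¹' {s'}) → ↥(f ⁻¹' {a s'}),
      (∀ x, (q x).1 = pX x.1) ∧ Continuous q ∧ IsOpenMap q ∧ Function.Surjective q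

theorem fibreOpenSurj' : FibreOpenSurjStmt'.{u} := by
  intro X S X' S' f f' a pX hX s'
  obtain ⟨e, he1, -, hpb⟩ := exists_fiber_lift hX s'
  -- `e` is universally open and surjective
  haveI : Surjective (Spec.map (a.residueFieldMap s')) := by
    constructor
    intro y
    obtain ⟨z⟩ : Nonempty ↥(Spec (S'.residueField s')) := inferInstance
    exact ⟨z, Subsingleton.elim _ _⟩
  haveI : UniversallyOpen (Spec.map (a.residueFieldMap s')) := inferInstance
  haveI : UniversallyOpen e :=
    MorphismProperty.of_isPullback (P := @UniversallyOpen) hpb.flip inferInstance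
  haveI : Surjective e :=
    MorphismProperty.of_isPullback (P := @Surjective) hpb.flip inferInstance
  have hmem : ∀ x : ↥(f' ⁻¹' {s'}), pX x.1 ∈ f ⁻¹' {a s'} := by
    intro x
    show f (pX x.1) = a s'
    have h1 : f (pX x.1) = a (f' x.1) := by
      rw [← Scheme.Hom.comp_apply, ← Scheme.Hom.comp_apply, hX.w]
    rw [h1]
    exact congrArg a x.2
  let q : ↥(f' ⁻¹' {s'}) → ↥(f ⁻¹' {a s'}) := fun x => ⟨pX x.1, hmem x⟩
  have hq : Continuous q :=
    Continuous.subtype_mk (pX.continuous.comp continuous_subtype_val) _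
  -- comparison with the scheme fibres
  have hcomm : ∀ z : f'.fiber s', q (f'.fiberHomeo s' z) = f.fiberHomeo (a s') (e z) := by
    intro z
    apply Subtype.ext
    show pX (f'.fiberι s' z) = f.fiberι (a s') (e z)
    rw [← Scheme.Hom.comp_apply, ← Scheme.Hom.comp_apply, he1]
  have hq' : q = (f.fiberHomeo (a s')) ∘ e ∘ (f'.fiberHomeo s').symm := by
    funext x
    obtain ⟨z, rfl⟩ := (f'.fiberHomeo s').surjective x
    rw [hcomm]
    simp
  refine ⟨q, fun x => rfl, hq, ?_, ?_⟩
  · rw [hq']
    exact (f.fiberHomeo (a s')).isOpenMap.comp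
      (e.isOpenMap.comp (f'.fiberHomeo s').symm.isOpenMap)
  · rw [hq']
    exact (f.fiberHomeo (a s')).surjective.comp
      (e.surjective.comp (f'.fiberHomeo s').symm.surjective)

/-- **[bc-sets]** in helper69's closed form. -/
theorem fibreOpenSurj : Groth.Agent.R2.H69.FibSetSpec.FibreOpenSurjStmt.{u} :=
  fun f f' a pX hX s' => fibreOpenSurj' f f' a pX hX s'

end Groth.Agent.R2.H68.FibSetBC
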