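import Mathlib
import Groth.Prelude.Def_W4c2submetdescSubtr
import Groth.Agent.R2.H68SubtrLim
import Groth.Agent.Lib.Helper10SubtrVal

/-!
# Universally S-subtrusive morphisms can be tested on affine spaces (S14772)

Helper library of helper68.
-/

set_option autoImplicit false
universe u

open Topology AlgebraicGeometry CategoryTheory CategoryTheory.Limits

namespace Groth.Agent.R2.H68.SubtrAff

open Groth.Agent.R2.H68.SubtrLim

/-- S-subtrusiveness restricts along immersions of the base. -/
theorem isSSubtrusive_pullback_fst_of_isImmersion {P Q Z : Scheme.{u}} (q : Q ⟶ P) (ι : Z ⟶ P)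
    [IsImmersion ι] (hq : Subtr.IsSSubtrusive q) : Subtr.IsSSubtrusive (pullback.fst ι q) := by
  intro z z' hzz
  obtain ⟨w, w', hww, hw, hw'⟩ := hq (hzz.map ι.continuous)
  obtain ⟨t, ht1, ht2⟩ := Scheme.Pullback.exists_preimage_pullback (f := ι) (g := q) z w hw.symm
  obtain ⟨t', ht1', ht2'⟩ :=
    Scheme.Pullback.exists_preimage_pullback (f := ι) (g := q) z' w' hw'.symm
  refine ⟨t, t', ?_, ht1, ht1'⟩
  have hemb : IsEmbedding (pullback.snd ι q) := (pullback.snd ι q).isEmbedding
  rw [← hemb.isInducing.specializes_iff, ht2, ht2']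
  exact hww

open AffineSpace in
/-- A morphism `Spec B ⟶ 𝔸ⁿ_Y` over an affine open `U = Spec A` of `Y` whose coordinates generate
`B` as an `A`-algebra is an immersion. -/
theorem isImmersion_homOfVector {Y : Scheme.{u}} {U : Y.Opens} (hU : IsAffineOpen U)
    {B : Type u} [CommRing B] (φ' : Γ(Y, U) →+* B) {n : Type u} (b : n → B)
    (hgen : Subring.closure (Set.range φ' ∪ Set.range b) = ⊤) :
    IsImmersion (homOfVector (Spec.map (CommRingCat.ofHom φ') ≫ hU.fromSpec)
      (fun i => (Scheme.ΓSpecIso (CommRingCat.of B)).inv (b i))) := by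
  set v : n → Γ(Spec (CommRingCat.of B), ⊤) :=
    fun i => (Scheme.ΓSpecIso (CommRingCat.of B)).inv (b i) with hv
  let τ : Spec (CommRingCat.of B) ⟶ 𝔸(n; Spec Γ(Y, U)) :=
    homOfVector (Spec.map (CommRingCat.ofHom φ')) v
  have hfac : homOfVector (Spec.map (CommRingCat.ofHom φ') ≫ hU.fromSpec) v =
      τ ≫ AffineSpace.map n hU.fromSpec := by
    apply AffineSpace.hom_ext
    · rw [homOfVector_over, Category.assoc, map_over, ← Category.assoc, homOfVector_over]
    · intro i
      rw [homOfVector_appTop_coord, Scheme.Hom.comp_appTop, CommRingCat.comp_apply,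
        map_appTop_coord, homOfVector_appTop_coord]
  haveI : IsOpenImmersion (AffineSpace.map n hU.fromSpec) :=
    MorphismProperty.of_isPullback (P := @IsOpenImmersion) (isPullback_map hU.fromSpec).flip
      inferInstance
  haveI : IsClosedImmersion τ := by
    apply IsClosedImmersion.of_surjective_of_isAffine
    let e := Scheme.ΓSpecIso (CommRingCat.of B)
    let R₀ : Subring B := (τ.appTop.hom.range).comap e.inv.hom
    have hR₀ : R₀ = ⊤ := by
      rw [eq_top_iff, ← hgen, Subring.closure_le]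
      rintro x (⟨a, rfl⟩ | ⟨i, rfl⟩)
      · show e.inv.hom (φ' a) ∈ τ.appTop.hom.range
        have h1 : CommRingCat.ofHom φ' ≫ e.inv =
            (Scheme.ΓSpecIso Γ(Y, U)).inv ≫ (Spec.map (CommRingCat.ofHom φ')).appTop :=
          Scheme.ΓSpecIso_inv_naturality _
        have h2 : Spec.map (CommRingCat.ofHom φ') = τ ≫ (𝔸(n; Spec Γ(Y, U)) ↘ Spec Γ(Y, U)) :=
          (homOfVector_over _ _).symm
        have h3 : e.inv.hom (φ' a) =
            (Spec.map (CommRingCat.ofHom φ')).appTop ((Scheme.ΓSpecIso Γ(Y, U)).inv a) :=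
          congrArg (fun m : Γ(Y, U) ⟶ Γ(Spec (CommRingCat.of B), ⊤) => m a) h1
        rw [h3, h2, Scheme.Hom.comp_appTop, CommRingCat.comp_apply]
        exact ⟨_, rfl⟩
      · show e.inv.hom (b i) ∈ τ.appTop.hom.range
        exact ⟨coord _ i, homOfVector_appTop_coord _ _ i⟩
    intro x
    have hx : e.hom.hom x ∈ R₀ := hR₀ ▸ Subring.mem_top _
    obtain ⟨y, hy⟩ := hx
    refine ⟨y, ?_⟩
    have h4 : e.inv.hom (e.hom.hom x) = x := by
      have := congrArg (fun m : Γ(Spec (CommRingCat.of B), ⊤) ⟶ Γ(Spec (CommRingCat.of B), ⊤) => m x)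
        e.hom_inv_id
      exact this
    rw [← h4]
    exact hy
  rw [hfac]
  infer_instance

/-- Restriction of S-subtrusiveness of `X ×_Y P ⟶ P` along an immersion `ι : Z ⟶ P`, expressed as a
statement about the base change of `f` along `u = ι ≫ π`. -/
theorem isSSubtrusive_fst_of_immersion_comp {X Y P Z : Scheme.{u}} (f : X ⟶ Y) (π : P ⟶ Y)
    (ι : Z ⟶ P) [IsImmersion ι] (w : Z ⟶ Y) (hw : ι ≫ π = w)
    (H : Subtr.IsSSubtrusive (pullback.snd f π)) : Subtr.IsSSubtrusive (pullback.fst w f) := by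
  subst hw
  have h1 := isSSubtrusive_pullback_fst_of_isImmersion (pullback.snd f π) ι H
  refine isSSubtrusive_of_arrow_iso (pullback.fst ι (pullback.snd f π)) (pullback.fst (ι ≫ π) f)
    (pullbackSymmetry ι (pullback.snd f π) ≪≫ pullbackLeftPullbackSndIso f π ι ≪≫
      pullbackSymmetry f (ι ≫ π)) (Iso.refl Z) ?_ h1
  rw [Iso.trans_hom, Iso.trans_hom, Category.assoc, Category.assoc, pullbackSymmetry_hom_comp_fst,
    pullbackLeftPullbackSndIso_hom_snd, pullbackSymmetry_hom_comp_snd, Iso.refl_hom,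
    Category.comp_id]

section Generic

variable {V : Type u} [CommRing V]

lemma incl_comp {S T W : Subring V} (h1 : S ≤ T) (h2 : T ≤ W) :
    (Subring.inclusion h2).comp (Subring.inclusion h1) = Subring.inclusion (h1.trans h2) := by
  apply RingHom.ext
  intro x
  apply Subtype.ext
  rfl

lemma subtype_comp_incl {S T : Subring V} (h : S ≤ T) :
    T.subtype.comp (Subring.inclusion h) = S.subtype := by
  apply RingHom.ext
  intro x
  rfl

lemma incl_comp_codRestrict {R : Type u} [CommRing R] (ψ : R →+* V) {S T : Subring V} (h : S ≤ T)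
    (hS : ∀ a, ψ a ∈ S) :
    (Subring.inclusion h).comp (ψ.codRestrict S hS) = ψ.codRestrict T (fun a => h (hS a)) := by
  apply RingHom.ext
  intro x
  apply Subtype.ext
  rfl

lemma subtype_comp_codRestrict {R : Type u} [CommRing R] (ψ : R →+* V) {S : Subring V}
    (hS : ∀ a, ψ a ∈ S) : S.subtype.comp (ψ.codRestrict S hS) = ψ := by
  apply RingHom.ext
  intro x
  rfl

end Generic

section Colimit

variable {A : CommRingCat.{u}} {V : Type u} [CommRing V] (φ : A ⟶ CommRingCat.of V)

/-- The subring of `V` generated by the image of `A` and a finite set `s`. -/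
def B (s : Finset V) : Subring V := Subring.closure (Set.range φ.hom ∪ (s : Set V))

lemma B_mono {s t : Finset V} (h : s ≤ t) : B φ s ≤ B φ t :=
  Subring.closure_mono (Set.union_subset_union_right _ (Finset.coe_subset.2 h))

/-- The diagram of the subrings `B φ s`. -/
noncomputable def F : Finset V ⥤ CommRingCat.{u} where
  obj s := CommRingCat.of (B φ s)
  map h := CommRingCat.ofHom (Subring.inclusion (B_mono φ h.le))
  map_id _ := rfl
  map_comp f g := by
    rw [← CommRingCat.ofHom_comp, incl_comp]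

/-- The cocone of inclusions into `V`. -/
noncomputable def t : Cocone (F φ) where
  pt := CommRingCat.of V
  ι := { app := fun s => CommRingCat.ofHom (B φ s).subtype
         naturality := fun i j a => by
          show CommRingCat.ofHom (Subring.inclusion (B_mono φ a.le)) ≫
            CommRingCat.ofHom (B φ j).subtype = CommRingCat.ofHom (B φ i).subtype ≫ 𝟙 _
          rw [Category.comp_id, ← CommRingCat.ofHom_comp, subtype_comp_incl] }

/-- `V` is the filtered colimit of the subrings `B φ s`. -/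
noncomputable def ht : IsColimit (t φ) := by
  haveI : ReflectsColimit (F φ) (forget CommRingCat.{u}) :=
    reflectsColimit_of_reflectsIsomorphisms _ _
  refine isColimitOfReflects (forget CommRingCat.{u}) ?_
  refine Types.FilteredColimit.isColimitOf' _ _ ?_ ?_
  · intro x
    change V at x
    refine ⟨{x}, ⟨x, Subring.subset_closure (Or.inr (Finset.mem_coe.2 (Finset.mem_singleton_self x)))⟩,
      rfl⟩
  · intro i x y hxy
    refine ⟨i, 𝟙 i, ?_⟩
    have : x = y := Subtype.ext hxy
    rw [this]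

/-- The structure map `A ⟶ B φ s`. -/
def φs' (s : Finset V) : A →+* B φ s :=
  φ.hom.codRestrict (B φ s) (fun a => Subring.subset_closure (Or.inl ⟨a, rfl⟩))

lemma φs'_incl {s t : Finset V} (h : s ≤ t) :
    (Subring.inclusion (B_mono φ h)).comp (φs' φ s) = φs' φ t :=
  incl_comp_codRestrict _ _ _

lemma φs'_subtype (s : Finset V) : (B φ s).subtype.comp (φs' φ s) = φ.hom :=
  subtype_comp_codRestrict _ _

/-- An enumeration of generators of `B φ s` by `ULift (Fin (s.card + 1))`. -/
noncomputable def gens (s : Finset V) : ULift.{u} (Fin (s.card + 1)) → B φ s :=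
  fun i => Fin.cons (α := fun _ => B φ s) 0
    (fun k => ⟨(s.equivFin.symm k : V),
      Subring.subset_closure (Or.inr (s.equivFin.symm k).2)⟩) i.down

lemma gens_closure (s : Finset V) :
    Subring.closure (Set.range (φs' φ s) ∪ Set.range (gens φ s)) = ⊤ := by
  rw [eq_top_iff]
  rintro ⟨x, hx⟩ -
  refine Subring.closure_induction
    (p := fun x hx => (⟨x, hx⟩ : B φ s) ∈
      Subring.closure (Set.range (φs' φ s) ∪ Set.range (gens φ s))) ?_ ?_ ?_ ?_ ?_ ?_ hx
  · rintro y (⟨a, rfl⟩ | hy)
    · exact Subring.subset_closure (Or.inl ⟨a, rfl⟩)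
    · refine Subring.subset_closure (Or.inr ⟨⟨(s.equivFin ⟨y, hy⟩).succ⟩, ?_⟩)
      apply Subtype.ext
      simp [gens]
  · exact Subring.zero_mem _
  · exact Subring.one_mem _
  · intro x y hx hy h1 h2
    exact Subring.add_mem _ h1 h2
  · intro x hx h1
    exact Subring.neg_mem _ h1
  · intro x y hx hy h1 h2
    exact Subring.mul_mem _ h1 h2


end Colimit

section Main

variable {X Y : Scheme.{u}} (f : X ⟶ Y) {U : Y.Opens} (hU : IsAffineOpen U)
  {V : Type u} [CommRing V] (φ : Γ(Y, U) ⟶ CommRingCat.of V)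

/-- The diagram `s ↦ Spec (B φ s)` of schemes. -/
noncomputable def D : (Finset V)ᵒᵖ ⥤ Scheme.{u} := (F φ).op ⋙ Scheme.Spec

/-- The structure morphisms `Spec (B φ s) ⟶ Y`. -/
noncomputable def sNat : D φ ⟶ (Functor.const (Finset V)ᵒᵖ).obj Y where
  app j := Spec.map (CommRingCat.ofHom (φs' φ j.unop)) ≫ hU.fromSpec
  naturality j k a := by
    show Spec.map (CommRingCat.ofHom (Subring.inclusion (B_mono φ a.unop.le))) ≫
        (Spec.map (CommRingCat.ofHom (φs' φ k.unop)) ≫ hU.fromSpec) =
      (Spec.map (CommRingCat.ofHom (φs' φ j.unop)) ≫ hU.fromSpec) ≫ 𝟙 Y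
    rw [Category.comp_id, ← Category.assoc, ← Spec.map_comp, ← CommRingCat.ofHom_comp,
      φs'_incl φ a.unop.le]

/-- The limit cone `Spec V`. -/
noncomputable def cD : Cone (D φ) := Scheme.Spec.mapCone (t φ).op

/-- `Spec V` is the limit of the `Spec (B φ s)`. -/
noncomputable def hcD : IsLimit (cD φ) := isLimitOfPreserves Scheme.Spec (ht φ).op

instance (i j : (Finset V)ᵒᵖ) (a : i ⟶ j) : IsAffineHom ((D φ).map a) := by
  show IsAffineHom (Spec.map ((F φ).map a.unop))
  infer_instance

lemma cD_π_sNat (j : (Finset V)ᵒᵖ) :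
    (cD φ).π.app j ≫ (sNat hU φ).app j = Spec.map φ ≫ hU.fromSpec := by
  have h1 : (cD φ).π.app j = Spec.map (CommRingCat.ofHom (B φ j.unop).subtype) := rfl
  have h2 : (sNat hU φ).app j = Spec.map (CommRingCat.ofHom (φs' φ j.unop)) ≫ hU.fromSpec := rfl
  have h3 : CommRingCat.ofHom (φs' φ j.unop) ≫ CommRingCat.ofHom (B φ j.unop).subtype = φ := by
    rw [← CommRingCat.ofHom_comp, φs'_subtype]
    rfl
  show (cD φ).π.app j ≫ (sNat hU φ).app j = _
  rw [h1, h2]
  show Spec.map (CommRingCat.ofHom (B φ j.unop).subtype) ≫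
    (Spec.map (CommRingCat.ofHom (φs' φ j.unop)) ≫ hU.fromSpec) = _
  rw [← Category.assoc, ← Spec.map_comp, h3]

open AffineSpace in
/-- Each base change of `f` to `Spec (B φ s)` is S-subtrusive if the base changes to the affine
spaces are. -/
theorem isSSubtrusive_fst_sNat
    (H : ∀ n : ℕ, 0 < n →
      Subtr.IsSSubtrusive (pullback.snd f (AffineSpace (ULift.{u} (Fin n)) Y ↘ Y)))
    (j : (Finset V)ᵒᵖ) : Subtr.IsSSubtrusive (pullback.fst ((sNat hU φ).app j) f) := by
  haveI := isImmersion_homOfVector hU (φs' φ j.unop) (gens φ j.unop) (gens_closure φ j.unop)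
  exact isSSubtrusive_fst_of_immersion_comp f (AffineSpace (ULift.{u} (Fin (j.unop.card + 1))) Y ↘ Y)
    (homOfVector (Spec.map (CommRingCat.ofHom (φs' φ j.unop)) ≫ hU.fromSpec)
      (fun i => (Scheme.ΓSpecIso (CommRingCat.of (B φ j.unop))).inv (gens φ j.unop i)))
    ((sNat hU φ).app j) (homOfVector_over _ _) (H _ (Nat.succ_pos _))

end Main

/-- **S14772, the nontrivial direction.** -/
theorem univSSubtrusive_of_affineSpace {X Y : Scheme.{u}} (f : X ⟶ Y) [QuasiCompact f]
    (H : ∀ n : ℕ, 0 < n →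
      Subtr.IsSSubtrusive (pullback.snd f (AffineSpace (ULift.{u} (Fin n)) Y ↘ Y))) :
    Subtr.UnivSSubtrusive f := by
  rw [Groth.Agent.Lib.Helper10.SubtrVal.main]
  intro V _ _ _ g
  obtain ⟨U, hU, hyU⟩ : ∃ U : Y.Opens, IsAffineOpen U ∧ g (IsLocalRing.closedPoint V) ∈ U := by
    obtain ⟨_, ⟨W, hW, rfl⟩, hyW, -⟩ :=
      (Y.isBasis_affineOpens).exists_subset_of_mem_open
        (Set.mem_univ (g (IsLocalRing.closedPoint V))) isOpen_univ
    exact ⟨W, hW, hyW⟩
  have hrange : Set.range g ⊆ Set.range hU.fromSpec := by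
    rw [hU.range_fromSpec]
    rintro _ ⟨x, rfl⟩
    have hx : x ⤳ IsLocalRing.closedPoint V := IsLocalRing.specializes_closedPoint x
    exact (hx.map g.continuous).mem_open U.isOpen hyU
  let g' := IsOpenImmersion.lift hU.fromSpec g hrange
  have hg' : g' ≫ hU.fromSpec = g := IsOpenImmersion.lift_fac _ _ _
  let φ : Γ(Y, U) ⟶ CommRingCat.of V := Spec.preimage g'
  have hφ : Spec.map φ = g' := Spec.map_preimage _
  have key := isSSubtrusive_of_limit_over f (D φ) (sNat hU φ) (cD φ) (hcD φ) g
    (fun j => by rw [cD_π_sNat, hφ, hg']) (Opposite.op ∅)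
    (fun j _ => isSSubtrusive_fst_sNat f hU φ H j)
  refine isSSubtrusive_of_arrow_iso (pullback.fst g f) (pullback.snd f g)
    (pullbackSymmetry g f) (Iso.refl _) ?_ key
  rw [pullbackSymmetry_hom_comp_snd, Iso.refl_hom, Category.comp_id]

end Groth.Agent.R2.H68.SubtrAff
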