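import Mathlib
import Groth.Prelude.Def_W4c2submetdescSubtr
import Groth.Prelude.Def_SGA1
import Groth.Agent.R2.H68SubtrAff
import Groth.Agent.Lib.Helper10QCClosed
import Groth.Agent.Lib.Helper10SubtrDVR
import Groth.Agent.Lib.Helper4DVRSch

/-!
# Universally submersive vs. universally S-subtrusive over locally Noetherian bases
(S14770, S14771)

Helper library of helper68.
-/

set_option autoImplicit false
universe u

open Topology AlgebraicGeometry CategoryTheory CategoryTheory.Limits IsLocalRing

namespace Groth.Agent.R2.H68.SubtrNoeth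

open Groth.Agent.R2.H68.SubtrLim Groth.Agent.R2.H68.SubtrAff

/-- A quasi-compact S-subtrusive morphism is submersive. -/
theorem isQuotientMap_of_isSSubtrusive {X Y : Scheme.{u}} (h : X ⟶ Y) [QuasiCompact h]
    (hh : Subtr.IsSSubtrusive h) : Topology.IsQuotientMap h := by
  have hsurj : Function.Surjective h := by
    intro y
    obtain ⟨x, _, _, hx, _⟩ := hh (specializes_refl y)
    exact ⟨x, hx⟩
  rw [Topology.isQuotientMap_iff_isClosed]
  refine ⟨hsurj, fun C => ⟨fun hC => hC.preimage h.continuous, fun hC => ?_⟩⟩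
  have himg : h '' (h ⁻¹' C) = C := Set.image_preimage_eq C hsurj
  rw [← himg]
  apply Groth.Agent.Lib.Helper10.QCClosed.isClosed_image_of_stableUnderSpecialization h _ hC
  rw [himg]
  intro y' y hyy hy'
  obtain ⟨x, x', hxx, hx, hx'⟩ := hh hyy
  have hx'C : x' ∈ h ⁻¹' C := by
    show h x' ∈ C
    rw [hx']
    exact hy'
  have hxC : x ∈ h ⁻¹' C := hxx.mem_closed hC hx'C
  rw [← hx]
  exact hxC

/-- For quasi-compact morphisms, universally S-subtrusive implies universally submersive. -/
theorem univSubmersive_of_univSSubtrusive {X Y : Scheme.{u}} (f : X ⟶ Y) [QuasiCompact f]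
    (hf : Subtr.UnivSSubtrusive f) : SGA1.UnivSubmersive f := by
  intro X' Y' i₁ i₂ f' hpb
  haveI : QuasiCompact f' := MorphismProperty.of_isPullback hpb.flip inferInstance
  exact isQuotientMap_of_isSSubtrusive f' (hf i₁ i₂ f' hpb)

/-- In a locally Noetherian scheme, a proper specialization is realized by a discrete valuation
ring. -/
theorem exists_dvr_of_specializes {Y : Scheme.{u}} [IsLocallyNoetherian Y] {y y' : Y}
    (h : y' ⤳ y) (hne : y' ≠ y) :
    ∃ (V : Type u) (_ : CommRing V) (_ : IsDomain V) (_ : IsDiscreteValuationRing V)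
      (g : Spec (CommRingCat.of V) ⟶ Y),
      g (closedPoint V) = y ∧ g (⟨⊥, Ideal.isPrime_bot⟩ : PrimeSpectrum V) = y' := by
  obtain ⟨V, hV, g, hg1, hg2⟩ := Groth.Agent.Lib.Helper4.DVRSch.exists_dvr_hom h hne
    (L := Y.residueField y') (𝟙 (Y.residueField y')) (by
      show (RingHom.id _).EssFiniteType
      exact (RingHom.FiniteType.id _).essFiniteType)
  haveI := hV
  refine ⟨V, inferInstance, inferInstance, hV, g, hg2, ?_⟩
  have h1 := congrArg (fun m : Spec (CommRingCat.of (Y.residueField y')) ⟶ Y =>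
    m (closedPoint (Y.residueField y'))) hg1
  have h2 : Spec.map (CommRingCat.ofHom V.subtype) (closedPoint (Y.residueField y')) =
      (⟨⊥, Ideal.isPrime_bot⟩ : PrimeSpectrum V) := by
    apply PrimeSpectrum.ext
    ext v
    show V.subtype v ∈ maximalIdeal (Y.residueField y') ↔ v ∈ (⊥ : Ideal V)
    rw [IsLocalRing.mem_maximalIdeal, mem_nonunits_iff, Ideal.mem_bot, isUnit_iff_ne_zero,
      not_not]
    exact ⟨fun hv => Subtype.ext hv, fun hv => by rw [hv]; rfl⟩
  change g (Spec.map (CommRingCat.ofHom V.subtype) (closedPoint (Y.residueField y'))) = _ at h1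
  rw [h2] at h1
  rw [h1]
  change Y.fromSpecResidueField y' (Spec.map (𝟙 (Y.residueField y')) _) = y'
  exact Scheme.fromSpecResidueField_apply y' _

/-- Pushing a lifted pair in a base change forward to the source. -/
theorem exists_pair_of_pullback {X Y T : Scheme.{u}} (f : X ⟶ Y) (g : T ⟶ Y) {t t' : T}
    {w w' : ↥(pullback f g)} (hww : w' ⤳ w) (hw : pullback.snd f g w = t)
    (hw' : pullback.snd f g w' = t') :
    ∃ x x' : X, x' ⤳ x ∧ f x = g t ∧ f x' = g t' := by
  have hpt : ∀ z : ↥(pullback f g), f (pullback.fst f g z) = g (pullback.snd f g z) := fun z =>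
    congrArg (fun m : pullback f g ⟶ Y => m z) (pullback.condition (f := f) (g := g))
  refine ⟨pullback.fst f g w, pullback.fst f g w', hww.map (pullback.fst f g).continuous, ?_, ?_⟩
  · rw [hpt, hw]
  · rw [hpt, hw']

/-- The generic point of a DVR specializes to the closed point. -/
theorem bot_specializes_closedPoint (V : Type u) [CommRing V] [IsDomain V] [IsLocalRing V] :
    (⟨⊥, Ideal.isPrime_bot⟩ : PrimeSpectrum V) ⤳ closedPoint V :=
  specializes_closedPoint (R := V) _

/-- Over a locally Noetherian base, a universally submersive morphism is S-subtrusive. -/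
theorem isSSubtrusive_of_univSubmersive {X Y : Scheme.{u}} [IsLocallyNoetherian Y] (f : X ⟶ Y)
    (hf : SGA1.UnivSubmersive f) : Subtr.IsSSubtrusive f := by
  intro y y' hyy
  by_cases hne : y' = y
  · subst hne
    have hq : Topology.IsQuotientMap f := hf (𝟙 X) (𝟙 Y) f (IsPullback.of_id_snd)
    obtain ⟨x, hx⟩ := hq.surjective y'
    exact ⟨x, x, specializes_rfl, hx, hx⟩
  obtain ⟨V, _, _, _, g, hg1, hg2⟩ := exists_dvr_of_specializes hyy hne
  have hq : Topology.IsQuotientMap (pullback.snd f g) :=
    hf (pullback.fst f g) g (pullback.snd f g) (IsPullback.of_hasPullback f g).flip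
  have hs : Subtr.IsSSubtrusive (pullback.snd f g) :=
    (Groth.Agent.Lib.Helper10.SubtrDVR.main V (pullback.snd f g)).1 hq
  obtain ⟨w, w', hww, hw, hw'⟩ := hs (bot_specializes_closedPoint V)
  obtain ⟨x, x', hxx, hx, hx'⟩ := exists_pair_of_pullback f g hww hw hw'
  exact ⟨x, x', hxx, hx.trans hg1, hx'.trans hg2⟩

/-- Universal submersiveness is stable under base change. -/
theorem univSubmersive_pullback_snd {X Y T : Scheme.{u}} (f : X ⟶ Y) (g : T ⟶ Y)
    (hf : SGA1.UnivSubmersive f) : SGA1.UnivSubmersive (pullback.snd f g) := by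
  intro X' Y' i₁ i₂ f' hpb
  exact hf (i₁ ≫ pullback.fst f g) (i₂ ≫ g) f'
    (hpb.paste_vert (IsPullback.of_hasPullback f g).flip)

/-- **S14770, (⇒).** -/
theorem univSSubtrusive_of_univSubmersive {X Y : Scheme.{u}} [IsLocallyNoetherian Y] (f : X ⟶ Y)
    [QuasiCompact f] (hf : SGA1.UnivSubmersive f) : Subtr.UnivSSubtrusive f := by
  apply univSSubtrusive_of_affineSpace
  intro n _
  haveI : IsLocallyNoetherian (AffineSpace (ULift.{u} (Fin n)) Y) :=
    LocallyOfFiniteType.isLocallyNoetherian (AffineSpace (ULift.{u} (Fin n)) Y ↘ Y)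
  exact isSSubtrusive_of_univSubmersive _ (univSubmersive_pullback_snd f _ hf)

end Groth.Agent.R2.H68.SubtrNoeth
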