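import Mathlib
import Groth.Prelude.Def_HTop
import Groth.Agent.R2.H33VCover
import Groth.Agent.R2.H33VSubm
import Groth.Agent.R2.H68SubtrNoeth

/-!
# Universally submersive finite families over Noetherian schemes are h coverings (S8977)

Helper library of helper68, on top of helper33's V-covering library.
-/

set_option autoImplicit false
set_option linter.style.haveILetI false
universe w u

open CategoryTheory CategoryTheory.Limits AlgebraicGeometry Opposite HTop IsLocalRing

namespace Groth.Agent.R2.H68.HCover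

open Groth.Agent.R2.H33.ValLift Groth.Agent.R2.H33.VCover

/-- Every point of a coproduct of schemes lies in a component. -/
theorem exists_sigmaι_eq {ι : Type u} (Z : ι → Scheme.{u}) (p : ↥(∐ Z)) :
    ∃ (i : ι) (z : Z i), (Sigma.ι Z i).base z = p :=
  (sigmaOpenCover Z).exists_eq p

/-- The morphism out of a finite coproduct of quasi-compact morphisms is quasi-compact. -/
theorem quasiCompact_sigmaDesc {X : Scheme.{u}} {ι : Type u} [Finite ι] (Z : ι → Scheme.{u})
    (f : ∀ i, Z i ⟶ X) [∀ i, QuasiCompact (f i)] : QuasiCompact (Sigma.desc f) := by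
  rw [quasiCompact_iff_forall_isAffineOpen]
  intro U hU
  have hcover : ((Sigma.desc f ⁻¹ᵁ U : (∐ Z).Opens) : Set ↥(∐ Z)) =
      ⋃ i, (Sigma.ι Z i).base '' ((f i ⁻¹ᵁ U : (Z i).Opens) : Set (Z i)) := by
    ext p
    simp only [Set.mem_iUnion, Set.mem_image]
    constructor
    · intro hp
      obtain ⟨i, z, rfl⟩ := exists_sigmaι_eq Z p
      refine ⟨i, z, ?_, rfl⟩
      have h1 : (Sigma.desc f).base ((Sigma.ι Z i).base z) = (f i).base z := by
        rw [← Scheme.Hom.comp_apply, Sigma.ι_desc]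
      show (f i).base z ∈ U
      rw [← h1]
      exact hp
    · rintro ⟨i, z, hz, rfl⟩
      have h1 : (Sigma.desc f).base ((Sigma.ι Z i).base z) = (f i).base z := by
        rw [← Scheme.Hom.comp_apply, Sigma.ι_desc]
      show (Sigma.desc f).base ((Sigma.ι Z i).base z) ∈ U
      rw [h1]
      exact hz
  rw [hcover]
  apply isCompact_iUnion
  intro i
  exact ((f i).isCompact_preimage hU.isCompact).image (Sigma.ι Z i).continuous

/-- A morphism from a local scheme to a coproduct factors through a component. -/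
theorem exists_factor_sigma {ι : Type u} (Z : ι → Scheme.{u}) (W : CommRingCat.{u}) [IsLocalRing W]
    (a : Spec W ⟶ ∐ Z) : ∃ (i : ι) (a' : Spec W ⟶ Z i), a' ≫ Sigma.ι Z i = a := by
  obtain ⟨i, z, hz⟩ := exists_sigmaι_eq Z (a.base (closedPoint W))
  have hmem : a.base (closedPoint W) ∈ (Sigma.ι Z i).opensRange := ⟨z, hz⟩
  have hrange : Set.range a.base ⊆ Set.range (Sigma.ι Z i).base := by
    rintro _ ⟨y, rfl⟩
    exact ((specializes_closedPoint (R := W) y).map a.continuous).mem_open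
      (Sigma.ι Z i).opensRange.isOpen hmem
  exact ⟨i, IsOpenImmersion.lift (Sigma.ι Z i) a hrange, IsOpenImmersion.lift_fac _ _ _⟩

/-- The lifting property of the coproduct morphism gives the lifting property of the family. -/
theorem hasValLift_of_sigmaDesc {X : Scheme.{u}} (E : PreZeroHypercover.{u} X)
    (h : HasValLift (PreZeroHypercover.singleton.{u} (Sigma.desc E.f))) : HasValLift E := by
  intro V _ _ g
  obtain ⟨W, hWd, hWv, φ, hφ, j, g', hg'⟩ := h V g
  let g'' : Spec W ⟶ ∐ E.X := g'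
  have hg'' : g'' ≫ Sigma.desc E.f = Spec.map φ ≫ g := hg'
  haveI : IsLocalRing W := ValuationRing.isLocalRing W
  obtain ⟨i, a', ha'⟩ := exists_factor_sigma E.X W g''
  refine ⟨W, hWd, hWv, φ, hφ, i, a', ?_⟩
  rw [← hg'', ← ha', Category.assoc, Sigma.ι_desc]

/-- For a finite family of quasi-compact morphisms, the lifting property implies that the family is a
V covering. -/
theorem isVCover_of_hasValLift {Y : Scheme.{u}} (E : PreZeroHypercover.{w} Y) [Finite E.I₀]
    [∀ i, QuasiCompact (E.f i)] (hE : HasValLift E) : IsVCover E := by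
  classical
  intro U
  have hc : ∀ i, IsCompact (X := E.X i) (E.f i ⁻¹ᵁ (U : Y.Opens)) := fun i =>
    (E.f i).isCompact_preimage U.2.isCompact
  have hex : ∀ i, ∃ s : Set (E.X i).affineOpens, s.Finite ∧
      (E.f i ⁻¹ᵁ (U : Y.Opens)) = ⨆ a ∈ s, (a : (E.X i).Opens) := fun i =>
    isCompact_iff_finite_and_eq_biUnion_affineOpens.mp (hc i)
  choose s hs hsU using hex
  haveI : ∀ i, Finite (s i) := fun i => hs i
  let m := Nat.card (Σ i, s i)
  let e : Fin m ≃ Σ i, s i := (Finite.equivFin (Σ i, s i)).symm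
  have hle : ∀ k : Fin m, (((e k).2 : (E.X (e k).1).affineOpens) : (E.X (e k).1).Opens) ≤
      E.f (e k).1 ⁻¹ᵁ (U : Y.Opens) := by
    intro k
    rw [hsU]
    exact le_iSup₂_of_le ((e k).2 : (E.X (e k).1).affineOpens) (e k).2.2 le_rfl
  let F : PreZeroHypercover.{0} ((U : Y.Opens) : Scheme.{u}) :=
    { I₀ := Fin m
      X := fun k => ((((e k).2 : (E.X (e k).1).affineOpens) : (E.X (e k).1).Opens) : Scheme.{u})
      f := fun k => (E.f (e k).1).resLE (U : Y.Opens)
        (((e k).2 : (E.X (e k).1).affineOpens) : (E.X (e k).1).Opens) (hle k) }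
  refine ⟨F, ⟨U.2, inferInstanceAs (Finite (Fin m)),
    fun k => ((e k).2 : (E.X (e k).1).affineOpens).2, ?_⟩, ?_⟩
  · intro V _ _ k
    obtain ⟨W, hWd, hWv, φ, hφ, j, g', hg'⟩ := hE V (k ≫ (U : Y.Opens).ι)
    haveI : IsLocalRing W := ValuationRing.isLocalRing W
    have hmem : g'.base (closedPoint W) ∈ E.f j ⁻¹ᵁ (U : Y.Opens) := by
      change (E.f j).base (g'.base (closedPoint W)) ∈ (U : Y.Opens)
      have : (E.f j).base (g'.base (closedPoint W)) =
          ((U : Y.Opens).ι).base ((Spec.map φ ≫ k).base (closedPoint W)) := by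
        change (g' ≫ E.f j).base _ = (((Spec.map φ ≫ k)) ≫ (U : Y.Opens).ι).base _
        rw [hg', Category.assoc]
      rw [this]
      exact ((Spec.map φ ≫ k).base (closedPoint W)).2
    rw [hsU] at hmem
    simp only [TopologicalSpace.Opens.mem_iSup] at hmem
    obtain ⟨a, ha, hmema⟩ := hmem
    obtain ⟨idx, hidx⟩ : ∃ idx, e idx = ⟨j, ⟨a, ha⟩⟩ := ⟨e.symm ⟨j, ⟨a, ha⟩⟩, by simp⟩
    -- transport along `hidx`
    have key : ∀ (t : Σ i, s i) (_ : t = ⟨j, ⟨a, ha⟩⟩),
        ∃ (l' : Spec W ⟶ (((t.2 : (E.X t.1).affineOpens) : (E.X t.1).Opens) : Scheme.{u})),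
          l' ≫ ((t.2 : (E.X t.1).affineOpens) : (E.X t.1).Opens).ι ≫ E.f t.1 =
            Spec.map φ ≫ k ≫ (U : Y.Opens).ι := by
      rintro t rfl
      obtain ⟨l', hl'⟩ := Groth.Agent.Lib.Helper10.exists_lift_of_closedPoint_mem W g'
        (a : (E.X j).Opens) hmema
      exact ⟨l', by rw [← Category.assoc, hl', hg']⟩
    obtain ⟨l', hl'⟩ := key (e idx) hidx
    refine ⟨W, hWd, hWv, φ, hφ, idx, l', ?_⟩
    change l' ≫ (E.f (e idx).1).resLE (U : Y.Opens)
      (((e idx).2 : (E.X (e idx).1).affineOpens) : (E.X (e idx).1).Opens) (hle idx) = _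
    rw [← cancel_mono (U : Y.Opens).ι, Category.assoc, Scheme.Hom.resLE_comp_ι, hl',
      Category.assoc]
  · intro k
    refine ⟨(e k).1, (((e k).2 : (E.X (e k).1).affineOpens) : (E.X (e k).1).Opens).ι, ?_⟩
    change (((e k).2 : (E.X (e k).1).affineOpens) : (E.X (e k).1).Opens).ι ≫ E.f (e k).1 =
      (E.f (e k).1).resLE (U : Y.Opens)
        (((e k).2 : (E.X (e k).1).affineOpens) : (E.X (e k).1).Opens) (hle k) ≫ (U : Y.Opens).ι
    rw [Scheme.Hom.resLE_comp_ι]

/-- **S8977, (⇒).** -/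
theorem isVCover_of_univSubmersive_sigmaDesc {X : Scheme.{u}} [IsLocallyNoetherian X]
    (E : PreZeroHypercover.{u} X) [Finite E.I₀] [∀ i, QuasiCompact (E.f i)]
    (h : SGA1.UnivSubmersive (Sigma.desc E.f)) : IsVCover E := by
  haveI : QuasiCompact (Sigma.desc E.f) := quasiCompact_sigmaDesc E.X E.f
  have h1 : Subtr.UnivSSubtrusive (Sigma.desc E.f) :=
    Groth.Agent.R2.H68.SubtrNoeth.univSSubtrusive_of_univSubmersive _ h
  apply isVCover_of_hasValLift
  apply hasValLift_of_sigmaDesc
  apply hasValLift_singleton_of_specializes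
  intro Z g z' z hz
  have h2 : Subtr.IsSSubtrusive (pullback.fst g (Sigma.desc E.f)) :=
    h1 (pullback.snd g (Sigma.desc E.f)) g (pullback.fst g (Sigma.desc E.f))
      (IsPullback.of_hasPullback g (Sigma.desc E.f))
  obtain ⟨w, w', hww, hw, hw'⟩ := h2 hz
  exact ⟨w', w, hww, hw', hw⟩

end Groth.Agent.R2.H68.HCover
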