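import Mathlib
import Groth.Agent.Lib.Helper3HenselE
import Groth.Agent.Lib.Helper12Submersive2
import Groth.Agent.R2.H3WLocSquareA

/-!
# Schemes over a henselian local base covered by finite open pieces (helper68)

* `universallyClosed_of_openCover`: a quasi-compact morphism `g : X ⟶ Y` such that every point of `X`
  lies in the range of an open immersion `τ : T ⟶ X` with `τ ≫ g` universally closed is universally
  closed (valuative criterion).
* `exists_open_finite`: over a henselian local ring, a morphism locally of finite type that is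
  quasi-finite at a point of the closed fibre is finite on an open neighbourhood of that point.
-/

set_option autoImplicit false
set_option linter.style.haveILetI false

universe u

open CategoryTheory CategoryTheory.Limits AlgebraicGeometry

namespace Groth.Agent.R2.H68.HensCover

theorem universallyClosed_of_openCover {X Y : Scheme.{u}} (g : X ⟶ Y) [QuasiCompact g]
    (H : ∀ x : X, ∃ (T : Scheme.{u}) (τ : T ⟶ X), IsOpenImmersion τ ∧ UniversallyClosed (τ ≫ g) ∧
      x ∈ Set.range τ) : UniversallyClosed g := by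
  apply UniversallyClosed.of_valuativeCriterion
  intro S
  let pt : Spec (.of S.K) := IsLocalRing.closedPoint S.K
  obtain ⟨T, τ, hτ, hcl, hx⟩ := H (S.i₁ pt)
  have hsub : Subsingleton (Spec (.of S.K)) :=
    inferInstanceAs (Subsingleton (PrimeSpectrum S.K))
  have hrange : Set.range S.i₁ ⊆ Set.range τ := by
    rintro _ ⟨y, rfl⟩
    rw [Subsingleton.elim y pt]
    exact hx
  let i₁' : Spec (.of S.K) ⟶ T := IsOpenImmersion.lift τ S.i₁ hrange
  have hi₁' : i₁' ≫ τ = S.i₁ := IsOpenImmersion.lift_fac τ S.i₁ hrange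
  have hex : ValuativeCriterion.Existence (τ ≫ g) := by
    have := hcl
    rw [UniversallyClosed.eq_valuativeCriterion] at this
    exact this.1
  have hc : CommSq i₁' (Spec.map (CommRingCat.ofHom (algebraMap S.R S.K))) (τ ≫ g) S.i₂ :=
    ⟨by rw [reassoc_of% hi₁', S.commSq.w]⟩
  let S' : ValuativeCommSq (τ ≫ g) := ⟨S.R, S.K, i₁', S.i₂, hc⟩
  obtain ⟨⟨l, hl₁, hl₂⟩⟩ := hex S'
  refine ⟨⟨⟨l ≫ τ, ?_, ?_⟩⟩⟩
  · rw [reassoc_of% hl₁, hi₁']
  · rw [Category.assoc]
    exact hl₂

open Groth.Agent.Lib.Helper3.Hensel Groth.Agent.R2.H3.WLocSquare in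
theorem exists_open_finite (A : Type u) [CommRing A] [HenselianLocalRing A] {S' : Scheme.{u}}
    (g : S' ⟶ Spec (CommRingCat.of A)) [LocallyOfFiniteType g] (s' : S')
    (hs' : g s' = IsLocalRing.closedPoint A) (hqf : g.QuasiFiniteAt s') :
    ∃ (T : Scheme.{u}) (τ : T ⟶ S'), IsOpenImmersion τ ∧ IsFinite (τ ≫ g) ∧ s' ∈ Set.range τ := by
  obtain ⟨_, ⟨V, hV : IsAffineOpen V, rfl⟩, hs'V, -⟩ :=
    S'.isBasis_affineOpens.exists_subset_of_mem_open (Set.mem_univ s') isOpen_univ
  have hU : IsAffineOpen (⊤ : (Spec (CommRingCat.of A)).Opens) := isAffineOpen_top _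
  have hVU : V ≤ g ⁻¹ᵁ (⊤ : (Spec (CommRingCat.of A)).Opens) := fun _ _ => trivial
  have hψqf := hqf.quasiFiniteAt hV hU hVU hs'V
  have hft : (g.appLE ⊤ V hVU).hom.FiniteType :=
    HasRingHomProperty.appLE (P := @LocallyOfFiniteType) g inferInstance ⟨⊤, hU⟩ ⟨V, hV⟩ hVU
  let eA : A ≃+* Γ(Spec (CommRingCat.of A), ⊤) :=
    (Scheme.ΓSpecIso (CommRingCat.of A)).symm.commRingCatIsoToRingEquiv
  haveI : HenselianLocalRing Γ(Spec (CommRingCat.of A), ⊤) := henselianLocalRing_of_ringEquiv eA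
  letI alg : Algebra Γ(Spec (CommRingCat.of A), ⊤) Γ(S', V) := (g.appLE ⊤ V hVU).hom.toAlgebra
  haveI : Algebra.FiniteType Γ(Spec (CommRingCat.of A), ⊤) Γ(S', V) :=
    RingHom.finiteType_algebraMap.1 hft
  let x₀ := hV.primeIdealOf ⟨s', hs'V⟩
  haveI : Algebra.QuasiFiniteAt Γ(Spec (CommRingCat.of A), ⊤) x₀.asIdeal := hψqf
  -- the image point in `Spec Γ(Spec A, ⊤)` is the closed point
  let p₀ : Spec Γ(Spec (CommRingCat.of A), ⊤) := (Spec.map (g.appLE ⊤ V hVU)) x₀
  have hp₀ : hU.fromSpec p₀ = IsLocalRing.closedPoint A := by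
    show (Spec.map (g.appLE ⊤ V hVU) ≫ hU.fromSpec) x₀ = _
    rw [IsAffineOpen.SpecMap_appLE_fromSpec g hU hV hVU, Scheme.Hom.comp_apply,
      hV.fromSpec_primeIdealOf ⟨s', hs'V⟩]
    exact hs'
  have hcl : IsClosed ({p₀} : Set (Spec Γ(Spec (CommRingCat.of A), ⊤))) := by
    have hpre : ({p₀} : Set _) = hU.fromSpec ⁻¹' {IsLocalRing.closedPoint A} := by
      ext y
      simp only [Set.mem_singleton_iff, Set.mem_preimage]
      constructor
      · rintro rfl
        exact hp₀
      · intro hy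
        exact hU.fromSpec.isOpenEmbedding.injective (hy.trans hp₀.symm)
    rw [hpre]
    exact (IsLocalRing.isClosed_singleton_closedPoint A).preimage hU.fromSpec.continuous
  have hmax : p₀.asIdeal.IsMaximal := (PrimeSpectrum.isClosed_singleton_iff_isMaximal p₀).1 hcl
  haveI : x₀.asIdeal.LiesOver (IsLocalRing.maximalIdeal Γ(Spec (CommRingCat.of A), ⊤)) := by
    constructor
    rw [← IsLocalRing.eq_maximalIdeal hmax]
    rfl
  obtain ⟨e, he, heq, hfin, -⟩ :=
    exists_idempotent_of_quasiFiniteAt (R := Γ(Spec (CommRingCat.of A), ⊤)) x₀.asIdeal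
  haveI := hfin
  haveI : IsLocalization.Away e (Γ(S', V) ⧸ Ideal.span {1 - e}) :=
    IsLocalization.Away.quotient_of_isIdempotentElem he
  let τ₀ : Spec (CommRingCat.of (Γ(S', V) ⧸ Ideal.span {1 - e})) ⟶ Spec Γ(S', V) :=
    Spec.map (CommRingCat.ofHom (algebraMap Γ(S', V) (Γ(S', V) ⧸ Ideal.span {1 - e})))
  haveI : IsOpenImmersion τ₀ := IsOpenImmersion.of_isLocalization e
  refine ⟨_, τ₀ ≫ hV.fromSpec, inferInstance, ?_, ?_⟩
  · rw [Category.assoc, ← IsAffineOpen.SpecMap_appLE_fromSpec g hU hV hVU, ← Category.assoc]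
    haveI : IsIso hU.fromSpec := by
      rw [IsAffineOpen.fromSpec_top]
      infer_instance
    haveI : IsFinite (τ₀ ≫ Spec.map (g.appLE ⊤ V hVU)) := by
      rw [← Spec.map_comp, IsFinite.SpecMap_iff]
      have : (g.appLE ⊤ V hVU ≫
          CommRingCat.ofHom (algebraMap Γ(S', V) (Γ(S', V) ⧸ Ideal.span {1 - e}))).hom =
          algebraMap Γ(Spec (CommRingCat.of A), ⊤) (Γ(S', V) ⧸ Ideal.span {1 - e}) := rfl
      rw [this]
      exact RingHom.finite_algebraMap.2 hfin
    infer_instance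
  · have h1e : 1 - e ∈ x₀.asIdeal := by
      have : e * (1 - e) ∈ x₀.asIdeal := by
        rw [mul_sub, mul_one, he.eq, sub_self]
        exact Ideal.zero_mem _
      exact (x₀.isPrime.mem_or_mem this).resolve_left heq
    have hx₀ : x₀ ∈ Set.range (PrimeSpectrum.comap
        (algebraMap Γ(S', V) (Γ(S', V) ⧸ Ideal.span {1 - e}))) := by
      rw [range_comap_of_surjective _ (algebraMap Γ(S', V) (Γ(S', V) ⧸ Ideal.span {1 - e}))
        Ideal.Quotient.mk_surjective]
      show x₀ ∈ PrimeSpectrum.zeroLocus _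
      rw [PrimeSpectrum.mem_zeroLocus]
      have : RingHom.ker (algebraMap Γ(S', V) (Γ(S', V) ⧸ Ideal.span {1 - e})) =
          Ideal.span {1 - e} := Ideal.mk_ker
      rw [this, SetLike.coe_subset_coe, Ideal.span_singleton_le_iff_mem]
      exact h1e
    obtain ⟨y, hy⟩ := hx₀
    refine ⟨y, ?_⟩
    rw [Scheme.Hom.comp_apply]
    have : τ₀ y = x₀ := hy
    rw [this]
    exact hV.fromSpec_primeIdealOf ⟨s', hs'V⟩

end Groth.Agent.R2.H68.HensCover
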