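import Mathlib
import Groth.Agent.S0002
import Groth.Agent.R2.H64RelSerreSteps
import Groth.Agent.R2.H5CohThick
import Groth.Agent.R2.H55AmpleRel

/-!
# Sections of a proper morphism over an affine open of a locally Noetherian base are finite (helper68)

* `finite_sections_push_of_isProper`: `f : X ⟶ Y` proper, `Y` locally Noetherian, `M` coherent on `X`,
  `U ⊆ Y` affine open: `Γ(f_* M, U)` is a finite `Γ(Y, U)`-module (`S0002` in degree `0`).
* `finite_app_of_isProper`: the ring map `Γ(Y, U) → Γ(X, f⁻¹U)` is finite.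
* `isFinite_fromNormalization_of_finite_app`, `isFinite_fromNormalization_of_isProper`: the relative
  normalization of `Y` in `X` is finite over `Y` (Stein factorization, Noetherian case).
-/

set_option autoImplicit false
set_option linter.style.haveILetI false
universe u

open CategoryTheory CategoryTheory.Limits AlgebraicGeometry TopologicalSpace Opposite

namespace Groth.Agent.R2.H68.ProperGamma

variable {X Y : Scheme.{u}} (f : X ⟶ Y)

theorem finite_sections_push_of_isProper [IsProper f] [IsLocallyNoetherian Y]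
    (M : X.Modules) (hM : Coh.IsCoh M) (U : Y.Opens) (hU : IsAffineOpen U) :
    Module.Finite Γ(Y, U) Γ((Coh.push f).obj M, U) := by
  haveI : IsNoetherianRing Γ(Y, U) := IsLocallyNoetherian.component_noetherian ⟨U, hU⟩
  refine Groth.Agent.R2.H64.RelSerreSteps.finite_sections_of_finite_HH f M U hU ?_
  letI inst : ((f ⁻¹ᵁ U : X.Opens) : Scheme.{u}).Over (Spec Γ(Y, U)) :=
    ⟨(f ∣_ U) ≫ hU.isoSpec.hom⟩
  haveI : IsProper (((f ⁻¹ᵁ U : X.Opens) : Scheme.{u}) ↘ Spec Γ(Y, U)) := by
    change IsProper ((f ∣_ U) ≫ hU.isoSpec.hom)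
    infer_instance
  exact Groth.Agent.S0002.result Γ(Y, U) ((f ⁻¹ᵁ U : X.Opens) : Scheme.{u})
    (M.restrict (f ⁻¹ᵁ U).ι) (Groth.Agent.R2.H55.AmpleRel.isCoh_restrict _ M hM) 0

theorem finite_app_of_finite_push (U : Y.Opens)
    (h : Module.Finite Γ(Y, U) Γ((Coh.push f).obj (Coh.structureModule X), U)) :
    (f.app U).hom.Finite := by
  letI := (f.app U).hom.toAlgebra
  change Module.Finite Γ(Y, U) Γ(X, f ⁻¹ᵁ U)
  let e : Γ((Coh.push f).obj (Coh.structureModule X), U) ≃ₗ[Γ(Y, U)] Γ(X, f ⁻¹ᵁ U) :=
    { toFun := fun x => x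
      invFun := fun x => x
      map_add' := fun _ _ => rfl
      map_smul' := fun _ _ => rfl
      left_inv := fun _ => rfl
      right_inv := fun _ => rfl }
  exact Module.Finite.equiv e

/-- `Γ(Y, U) → Γ(X, f⁻¹U)` is finite for `f` proper, `Y` locally Noetherian, `U` affine open. -/
theorem finite_app_of_isProper [IsProper f] [IsLocallyNoetherian Y]
    (U : Y.Opens) (hU : IsAffineOpen U) : (f.app U).hom.Finite :=
  finite_app_of_finite_push f U (finite_sections_push_of_isProper f (Coh.structureModule X)
    (Groth.Agent.R2.H5.CohThick.isCoh_structureModule X) U hU)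

/-- If `Γ(X, f⁻¹U)` is finite over the Noetherian ring `Γ(Y,U)` for every affine open `U`, then the
relative normalization of `Y` in `X` is finite over `Y`. -/
theorem isFinite_fromNormalization_of_finite_app [QuasiCompact f] [QuasiSeparated f]
    [IsLocallyNoetherian Y]
    (hfin : ∀ (U : Y.Opens), IsAffineOpen U → (f.app U).hom.Finite) :
    IsFinite f.fromNormalization := by
  haveI : IsAffineHom f.fromNormalization := inferInstance
  refine { finite_app := fun U hU => ?_ }
  rw [f.fromNormalization_app hU, CommRingCat.hom_comp]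
  refine RingHom.Finite.comp ?_ ?_
  · exact RingHom.Finite.of_surjective _
      (ConcreteCategory.bijective_of_isIso (f.normalizationObjIso hU).inv).surjective
  · haveI : IsNoetherianRing Γ(Y, U) := IsLocallyNoetherian.component_noetherian ⟨U, hU⟩
    letI := (f.app U).hom.toAlgebra
    have h1 : Module.Finite Γ(Y, U) Γ(X, f ⁻¹ᵁ U) := hfin U hU
    haveI : IsNoetherian Γ(Y, U) Γ(X, f ⁻¹ᵁ U) := isNoetherian_of_isNoetherianRing_of_finite _ _
    have h2 : Module.Finite Γ(Y, U) (integralClosure Γ(Y, U) Γ(X, f ⁻¹ᵁ U)) :=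
      Module.Finite.of_injective (integralClosure Γ(Y, U) Γ(X, f ⁻¹ᵁ U)).val.toLinearMap
        Subtype.val_injective
    exact RingHom.finite_algebraMap.mpr h2

/-- **Stein factorization, Noetherian case**: the normalization of `Y` in `X` is finite over `Y`. -/
theorem isFinite_fromNormalization_of_isProper [IsProper f] [IsLocallyNoetherian Y] :
    IsFinite f.fromNormalization :=
  isFinite_fromNormalization_of_finite_app f (finite_app_of_isProper f)

end Groth.Agent.R2.H68.ProperGamma
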