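import Mathlib

/-!
# Finite intersections of valuation rings of a field (Matsumura, Theorem 12.2)

Helper library of helper68.  Main results:

* `key` : for finitely many valuation subrings `V i` of a field `L` and `x : L` there is `s ≥ 2`
  such that `y = (1 + x + ⋯ + x^(s-1))⁻¹` satisfies `y ≠ 0`, `y ∈ V i`, `x * y ∈ V i` for all `i`.
* `main` : if `A = (⋂ V i) ∩ K` for a subfield `K`, then `A` is a semilocal Prüfer domain with
  fraction field `K`.
-/

set_option autoImplicit false

namespace Groth.Agent.R2.H68.ValInf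

open Finset

section Field

variable {k : Type*} [Field k]

/-- In a field, the geometric sums `1 + a + ⋯ + a^(s-1)` are nonzero for all `s ≡ 1 mod N`,
for a suitable `N > 0`. -/
theorem field_geom_ne_zero (a : k) :
    ∃ N : ℕ, 0 < N ∧ ∀ s : ℕ, 1 ≤ s → N ∣ (s - 1) → (∑ j ∈ range s, a ^ j) ≠ 0 := by
  classical
  set c : ℕ := if ringChar k = 0 then 1 else ringChar k with hc
  set o : ℕ := if orderOf a = 0 then 1 else orderOf a with ho
  have hc0 : 0 < c := by
    rw [hc]; split_ifs with h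
    · exact Nat.one_pos
    · exact Nat.pos_of_ne_zero h
  have ho0 : 0 < o := by
    rw [ho]; split_ifs with h
    · exact Nat.one_pos
    · exact Nat.pos_of_ne_zero h
  refine ⟨c * o, Nat.mul_pos hc0 ho0, ?_⟩
  intro s hs hN hsum
  have hs1 : s = (s - 1) + 1 := by omega
  by_cases ha : a = 1
  · subst ha
    simp only [one_pow, sum_const, card_range, nsmul_eq_mul, mul_one] at hsum
    have hdvd : ringChar k ∣ s := (ringChar.spec k s).1 hsum
    by_cases hr : ringChar k = 0
    · rw [hr, zero_dvd_iff] at hdvd; omega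
    · have hcN : ringChar k ∣ s - 1 := by
        have : ringChar k ∣ c * o := by
          rw [hc, if_neg hr]; exact dvd_mul_right _ _
        exact this.trans hN
      have h1 : ringChar k ∣ 1 := by
        have := (Nat.dvd_add_right hcN).1 (hs1 ▸ hdvd)
        exact this
      exact CharP.ringChar_ne_one (Nat.dvd_one.1 h1)
  · have hpow : a ^ s = 1 := by
      have := geom_sum_mul a s
      rw [hsum, zero_mul] at this
      exact (sub_eq_zero.1 this.symm)
    have hdvd : orderOf a ∣ s := orderOf_dvd_of_pow_eq_one hpow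
    by_cases hr : orderOf a = 0
    · rw [hr, zero_dvd_iff] at hdvd; omega
    · have hcN : orderOf a ∣ s - 1 := by
        have : orderOf a ∣ c * o := by
          rw [ho, if_neg hr]; exact dvd_mul_left _ _
        exact this.trans hN
      have h1 : orderOf a ∣ 1 := (Nat.dvd_add_right hcN).1 (hs1 ▸ hdvd)
      exact ha (orderOf_eq_one_iff.1 (Nat.dvd_one.1 h1))

end Field

section Local

variable {A : Type*} [CommRing A] [IsLocalRing A]

/-- In a local ring, the geometric sums `1 + a + ⋯ + a^(s-1)` are units for all `s ≡ 1 mod N`,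
for a suitable `N > 0`. -/
theorem local_geom_isUnit (a : A) :
    ∃ N : ℕ, 0 < N ∧ ∀ s : ℕ, 1 ≤ s → N ∣ (s - 1) → IsUnit (∑ j ∈ range s, a ^ j) := by
  obtain ⟨N, hN0, hN⟩ := field_geom_ne_zero (IsLocalRing.residue A a)
  refine ⟨N, hN0, fun s hs hd => ?_⟩
  have := hN s hs hd
  rw [← IsLocalRing.residue_ne_zero_iff_isUnit, map_sum]
  simpa only [map_pow] using this

/-- If `a` lies in the maximal ideal, every geometric sum with at least one term is a unit. -/
theorem local_geom_isUnit_of_mem {a : A} (ha : a ∈ IsLocalRing.maximalIdeal A) {s : ℕ}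
    (hs : 1 ≤ s) : IsUnit (∑ j ∈ range s, a ^ j) := by
  rw [← IsLocalRing.residue_ne_zero_iff_isUnit, map_sum]
  have h0 : IsLocalRing.residue A a = 0 := (IsLocalRing.residue_eq_zero_iff _).2 ha
  obtain ⟨t, rfl⟩ : ∃ t, s = t + 1 := ⟨s - 1, by omega⟩
  rw [sum_range_succ']
  simp [h0]

end Local

section ValSub

variable {L : Type*} [Field L]

theorem geom_reflect {x : L} (hx : x ≠ 0) (s : ℕ) :
    ∑ j ∈ range s, x ^ j = x ^ (s - 1) * ∑ j ∈ range s, (x⁻¹) ^ j := by
  rw [mul_sum, ← sum_range_reflect]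
  refine sum_congr rfl fun j hj => ?_
  have hj' : j < s := mem_range.1 hj
  have : s - 1 = (s - 1 - j) + j := by omega
  conv_rhs => rw [this, pow_add, mul_assoc, inv_pow, mul_inv_cancel₀ (pow_ne_zero _ hx), mul_one]

theorem key_single (V : ValuationSubring L) (x : L) :
    ∃ N : ℕ, 0 < N ∧ ∀ s : ℕ, 2 ≤ s → N ∣ (s - 1) →
      (∑ j ∈ range s, x ^ j) ≠ 0 ∧ (∑ j ∈ range s, x ^ j)⁻¹ ∈ V ∧
        x * (∑ j ∈ range s, x ^ j)⁻¹ ∈ V := by
  by_cases hx : x ∈ V
  · obtain ⟨N, hN0, hN⟩ := local_geom_isUnit (⟨x, hx⟩ : V)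
    refine ⟨N, hN0, fun s hs hd => ?_⟩
    obtain ⟨b, hb⟩ := (hN s (by omega) hd).exists_right_inv
    have hb' : (∑ j ∈ range s, x ^ j) * (b : L) = 1 := by
      have := congrArg (fun z : V => (z : L)) hb
      simpa using this
    have hne : (∑ j ∈ range s, x ^ j) ≠ 0 := left_ne_zero_of_mul_eq_one hb'
    have hinv : (∑ j ∈ range s, x ^ j)⁻¹ = b := (eq_inv_of_mul_eq_one_right hb').symm
    refine ⟨hne, ?_, ?_⟩
    · rw [hinv]; exact b.2
    · rw [hinv]; exact V.mul_mem _ _ hx b.2
  · have hz : x⁻¹ ∈ V := (V.mem_or_inv_mem x).resolve_left hx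
    have hx0 : x ≠ 0 := fun h => hx (h ▸ V.zero_mem)
    refine ⟨1, Nat.one_pos, fun s hs _ => ?_⟩
    have hzm : (⟨x⁻¹, hz⟩ : V) ∈ IsLocalRing.maximalIdeal V := by
      rw [IsLocalRing.mem_maximalIdeal, mem_nonunits_iff]
      rintro ⟨u, hu⟩
      apply hx
      have h1 : ((u⁻¹ : Vˣ) : V) * ⟨x⁻¹, hz⟩ = 1 := by rw [← hu]; exact u.inv_mul
      have h2 : (((u⁻¹ : Vˣ) : V) : L) * x⁻¹ = 1 := by
        simpa using congrArg (fun z : V => (z : L)) h1
      have h3 : (((u⁻¹ : Vˣ) : V) : L) = x := by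
        have := eq_inv_of_mul_eq_one_left h2
        simpa using this
      rw [← h3]; exact ((u⁻¹ : Vˣ) : V).2
    have hunit := local_geom_isUnit_of_mem hzm (s := s) (by omega)
    obtain ⟨b, hb⟩ := hunit.exists_right_inv
    have hb' : (∑ j ∈ range s, (x⁻¹) ^ j) * (b : L) = 1 := by
      have := congrArg (fun z : V => (z : L)) hb
      simpa using this
    have hne : (∑ j ∈ range s, (x⁻¹) ^ j) ≠ 0 := left_ne_zero_of_mul_eq_one hb'
    have hinv : (∑ j ∈ range s, (x⁻¹) ^ j)⁻¹ = b := (eq_inv_of_mul_eq_one_right hb').symm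
    rw [geom_reflect hx0 s]
    refine ⟨mul_ne_zero (pow_ne_zero _ hx0) hne, ?_, ?_⟩
    · rw [mul_inv, hinv, ← inv_pow]
      exact V.mul_mem _ _ (pow_mem hz _) b.2
    · rw [mul_inv, hinv, ← mul_assoc]
      refine V.mul_mem _ _ ?_ b.2
      have : x * (x ^ (s - 1))⁻¹ = (x⁻¹) ^ (s - 2) := by
        have h : s - 1 = (s - 2) + 1 := by omega
        rw [h, pow_succ, mul_inv, inv_pow]
        field_simp
      rw [this]
      exact pow_mem hz _

/-- **Key lemma** (Matsumura 12.2, step 1). -/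
theorem key {ι : Type*} [Finite ι] (V : ι → ValuationSubring L) (x : L) :
    ∃ s : ℕ, 2 ≤ s ∧ ∀ i, (∑ j ∈ range s, x ^ j) ≠ 0 ∧ (∑ j ∈ range s, x ^ j)⁻¹ ∈ V i ∧
        x * (∑ j ∈ range s, x ^ j)⁻¹ ∈ V i := by
  classical
  cases nonempty_fintype ι
  choose N hN0 hN using fun i => key_single (V i) x
  have hpos : 0 < ∏ i, N i := Finset.prod_pos fun i _ => hN0 i
  refine ⟨1 + ∏ i, N i, by omega, fun i => hN i _ (by omega) ?_⟩
  have : 1 + ∏ i, N i - 1 = ∏ i, N i := by omega
  rw [this]
  exact Finset.dvd_prod_of_mem N (Finset.mem_univ i)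

end ValSub

section Main

variable {L : Type*} [Field L] {ι : Type*} [Finite ι] [Nonempty ι] (V : ι → ValuationSubring L)
  (K : Subfield L) (A : Subring L) (hA : ∀ x, x ∈ A ↔ (∀ i, x ∈ V i) ∧ x ∈ K)

include hA

/-- Every element of `K` is a quotient of two elements of `A = (⋂ V i) ∩ K`. -/
theorem exists_div (x : L) (hx : x ∈ K) : ∃ a b : L, a ∈ A ∧ b ∈ A ∧ b ≠ 0 ∧ x = a / b := by
  obtain ⟨s, hs, h⟩ := key V x
  have hg : (∑ j ∈ range s, x ^ j) ∈ K := sum_mem fun j _ => pow_mem hx j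
  obtain ⟨i0⟩ := ‹Nonempty ι›
  have hne := (h i0).1
  refine ⟨x * (∑ j ∈ range s, x ^ j)⁻¹, (∑ j ∈ range s, x ^ j)⁻¹, ?_, ?_, inv_ne_zero hne, ?_⟩
  · exact (hA _).2 ⟨fun i => (h i).2.2, mul_mem hx (inv_mem hg)⟩
  · exact (hA _).2 ⟨fun i => (h i).2.1, inv_mem hg⟩
  · field_simp

/-- The centre of `V i` on `A`. -/
def P (i : ι) : Ideal A where
  carrier := {a | (V i).valuation (a : L) < 1}
  add_mem' := fun {a b} ha hb => lt_of_le_of_lt ((V i).valuation.map_add _ _) (max_lt ha hb)
  zero_mem' := by simp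
  smul_mem' := fun c a ha => by
    have hc : (V i).valuation (c : L) ≤ 1 :=
      ((V i).valuation_le_one_iff _).2 (((hA _).1 c.2).1 i)
    show (V i).valuation ((c * a : A) : L) < 1
    rw [Subring.coe_mul, map_mul]
    exact lt_of_le_of_lt (mul_le_mul_left hc _) (by rw [one_mul]; exact ha)

theorem mem_P {i : ι} {a : A} : a ∈ P V K A hA i ↔ (V i).valuation (a : L) < 1 := Iff.rfl

theorem P_isPrime (i : ι) : (P V K A hA i).IsPrime := by
  refine ⟨?_, ?_⟩
  · rw [Ideal.ne_top_iff_one, mem_P]; simp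
  · intro a b hab
    rw [mem_P, Subring.coe_mul, map_mul] at hab
    by_contra h
    push Not at h
    simp only [mem_P, not_lt] at h
    exact absurd hab (not_lt.2 (Left.one_le_mul h.1 h.2))

theorem isUnit_of_forall_notMem {a : A} (h : ∀ i, a ∉ P V K A hA i) : IsUnit a := by
  have hv : ∀ i, (V i).valuation (a : L) = 1 := fun i =>
    le_antisymm (((V i).valuation_le_one_iff _).2 (((hA _).1 a.2).1 i)) (not_lt.1 (h i))
  have hinv : (a : L)⁻¹ ∈ A := (hA _).2
    ⟨fun i => ((V i).valuation_le_one_iff _).1 (by rw [map_inv₀, hv i, inv_one]),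
      inv_mem ((hA _).1 a.2).2⟩
  have ha0 : (a : L) ≠ 0 := by
    obtain ⟨i0⟩ := ‹Nonempty ι›
    intro h0
    have := hv i0
    rw [h0, map_zero] at this
    exact zero_ne_one this
  exact IsUnit.of_mul_eq_one ⟨_, hinv⟩ (Subtype.ext (by simp [ha0]))

theorem exists_le_P (M : Ideal A) (hM : M ≠ ⊤) : ∃ i, M ≤ P V K A hA i := by
  classical
  cases nonempty_fintype ι
  by_contra hcon
  push Not at hcon
  have : ¬ ((M : Set A) ⊆ ⋃ i ∈ ((Finset.univ : Finset ι) : Set ι), (P V K A hA i : Set A)) := by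
    rw [Ideal.subset_union_prime (Classical.arbitrary ι) (Classical.arbitrary ι)
      (fun i _ _ _ => P_isPrime V K A hA i)]
    rintro ⟨i, _, hi⟩
    exact hcon i hi
  rw [Set.not_subset] at this
  obtain ⟨a, haM, ha⟩ := this
  apply hM
  refine Ideal.eq_top_of_isUnit_mem _ haM (isUnit_of_forall_notMem V K A hA fun i hi => ha ?_)
  simp only [Set.mem_iUnion]
  exact ⟨i, Finset.mem_coe.2 (Finset.mem_univ i), hi⟩

/-- `A` is semilocal. -/
theorem finite_maximalSpectrum : Finite (MaximalSpectrum A) := by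
  have h : ∀ M : MaximalSpectrum A, ∃ i, M.asIdeal = P V K A hA i := fun M => by
    obtain ⟨i, hi⟩ := exists_le_P V K A hA M.asIdeal M.isMaximal.ne_top
    exact ⟨i, M.isMaximal.eq_of_le (P_isPrime V K A hA i).ne_top hi⟩
  choose f hf using h
  refine Finite.of_injective f fun M N hMN => ?_
  ext1
  rw [hf M, hf N, hMN]

theorem exists_num_den (i : ι) {x : L} (hxK : x ∈ K) (hx : x ∈ V i) :
    ∃ n d : A, d ∉ P V K A hA i ∧ x * (d : L) = n := by
  obtain ⟨s, hs, h⟩ := key V x
  have hg : (∑ j ∈ range s, x ^ j) ∈ K := sum_mem fun j _ => pow_mem hxK j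
  refine ⟨⟨x * (∑ j ∈ range s, x ^ j)⁻¹,
      (hA _).2 ⟨fun i => (h i).2.2, mul_mem hxK (inv_mem hg)⟩⟩,
    ⟨(∑ j ∈ range s, x ^ j)⁻¹, (hA _).2 ⟨fun i => (h i).2.1, inv_mem hg⟩⟩, ?_, rfl⟩
  rw [mem_P, not_lt]
  show 1 ≤ (V i).valuation (∑ j ∈ range s, x ^ j)⁻¹
  have hgV : (∑ j ∈ range s, x ^ j) ∈ V i := sum_mem fun j _ => pow_mem hx j
  have := ((V i).valuation_le_one_iff _).2 hgV
  rw [map_inv₀]
  exact (one_le_inv₀ ((V i).valuation.pos_iff.2 (h i).1)).2 this

/-- `A` is a Prüfer domain: its localisations at primes are valuation rings. -/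
theorem valuationRing_atPrime (p : Ideal A) [p.IsPrime] :
    ValuationRing (Localization.AtPrime p) := by
  obtain ⟨i, hi⟩ := exists_le_P V K A hA p (Ideal.IsPrime.ne_top ‹_›)
  have hd : ∀ d : A, d ∉ P V K A hA i → d ∈ p.primeCompl := fun d hd hdp => hd (hi hdp)
  have claim : ∀ (a' b' : A) (s t : p.primeCompl), b' ≠ 0 → (a' : L) / (b' : L) ∈ V i →
      IsLocalization.mk' (Localization.AtPrime p) b' t ∣
        IsLocalization.mk' (Localization.AtPrime p) a' s := by
    intro a' b' s t hb' hx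
    have hxK : (a' : L) / (b' : L) ∈ K := div_mem ((hA _).1 a'.2).2 ((hA _).1 b'.2).2
    obtain ⟨n, d, hdP, hnd⟩ := exists_num_den V K A hA i hxK hx
    have hb0 : (b' : L) ≠ 0 := fun h => hb' (Subtype.ext h)
    have hAeq : a' * d = n * b' := by
      apply Subtype.ext
      rw [Subring.coe_mul, Subring.coe_mul, ← hnd]
      field_simp
    refine ⟨IsLocalization.mk' _ (n * t) (⟨d, hd d hdP⟩ * s), ?_⟩
    rw [← IsLocalization.mk'_mul]
    apply IsLocalization.mk'_eq_of_eq
    simp only [Submonoid.coe_mul]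
    linear_combination (-(t : A) * (s : A)) * hAeq
  rw [ValuationRing.iff_dvd_total]
  refine ⟨fun a b => ?_⟩
  obtain ⟨a', s, rfl⟩ := IsLocalization.exists_mk'_eq p.primeCompl a
  obtain ⟨b', t, rfl⟩ := IsLocalization.exists_mk'_eq p.primeCompl b
  by_cases hb' : b' = 0
  · left; rw [hb', IsLocalization.mk'_zero]; exact dvd_zero _
  by_cases ha' : a' = 0
  · right; rw [ha', IsLocalization.mk'_zero]; exact dvd_zero _
  rcases (V i).mem_or_inv_mem ((a' : L) / (b' : L)) with h | h
  · right; exact claim a' b' s t hb' h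
  · left; rw [inv_div] at h; exact claim b' a' t s ha' h

end Main

section Prufer

variable (R L : Type*) [CommRing R] [IsDomain R] [Field L] [Algebra R L] [IsFractionRing R L]

/-- The localisation of `R` at a prime `p` such that `R_p` is a valuation ring, viewed as a
valuation subring of the fraction field. -/
noncomputable def valSub (p : Ideal R) [p.IsPrime] (h : ValuationRing (Localization.AtPrime p)) :
    ValuationSubring L :=
  { (Localization.subalgebra.ofField L p.primeCompl p.primeCompl_le_nonZeroDivisors).toSubring with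
    mem_or_inv_mem' := fun x => by
      let B := Localization.subalgebra.ofField L p.primeCompl p.primeCompl_le_nonZeroDivisors
      let e : Localization.AtPrime p ≃ₐ[R] B := IsLocalization.algEquiv p.primeCompl _ _
      haveI : ValuationRing B :=
        Function.Surjective.valuationRing (e : Localization.AtPrime p →+* B) e.surjective
      rcases ValuationRing.isInteger_or_isInteger B x with ⟨b, hb⟩ | ⟨b, hb⟩
      · left; rw [← hb]; exact b.2
      · right; rw [← hb]; exact b.2 }

theorem mem_valSub {p : Ideal R} [p.IsPrime] {h : ValuationRing (Localization.AtPrime p)} {x : L} :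
    x ∈ valSub R L p h ↔
      x ∈ Localization.subalgebra.ofField L p.primeCompl p.primeCompl_le_nonZeroDivisors :=
  Iff.rfl

/-- A semilocal Prüfer domain intersected with a subfield of its fraction field is a semilocal
Prüfer domain whose fraction field is that subfield. -/
theorem prufer_inf
    (hR : ∀ (p : Ideal R) [p.IsPrime], ValuationRing (Localization.AtPrime p))
    (hfin : Finite (MaximalSpectrum R)) (K : Subfield L) :
    (∀ (p : Ideal ↥((algebraMap R L).range ⊓ K.toSubring)) [p.IsPrime],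
        ValuationRing (Localization.AtPrime p)) ∧
      Finite (MaximalSpectrum ↥((algebraMap R L).range ⊓ K.toSubring)) ∧
      ∀ x : L, x ∈ K → ∃ a b : L, a ∈ (algebraMap R L).range ⊓ K.toSubring ∧
        b ∈ (algebraMap R L).range ⊓ K.toSubring ∧ b ≠ 0 ∧ x = a / b := by
  haveI : Nonempty (MaximalSpectrum R) := by
    obtain ⟨m, hm⟩ := Ideal.exists_maximal R
    exact ⟨⟨m, hm⟩⟩
  let V : MaximalSpectrum R → ValuationSubring L := fun m =>
    haveI := m.isMaximal.isPrime
    valSub R L m.asIdeal (hR m.asIdeal)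
  have hA : ∀ x, x ∈ (algebraMap R L).range ⊓ K.toSubring ↔ (∀ m, x ∈ V m) ∧ x ∈ K := by
    intro x
    rw [Subring.mem_inf]
    refine and_congr ?_ Iff.rfl
    have h := MaximalSpectrum.iInf_localization_eq_bot R L
    have h2 : x ∈ (⨅ v : MaximalSpectrum R, Localization.subalgebra.ofField L _
        v.asIdeal.primeCompl_le_nonZeroDivisors) ↔ x ∈ (⊥ : Subalgebra R L) := by rw [h]
    rw [Algebra.mem_bot, Algebra.mem_iInf] at h2
    exact h2.symm
  exact ⟨fun p _ => valuationRing_atPrime V K _ hA p, finite_maximalSpectrum V K _ hA,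
    fun x hx => exists_div V K _ hA x hx⟩

end Prufer

end Groth.Agent.R2.H68.ValInf
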