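import Mathlib
import Groth.Agent.R2.H68DimFG
import Groth.Agent.R2.H68ValInf

/-!
# A semilocal Prüfer domain is a directed union of finite-dimensional semilocal Prüfer subrings
(helper68)
-/

set_option autoImplicit false

universe u

namespace Groth.Agent.R2.H68.PruferUnion

section Transport

variable {A A' : Type*} [CommRing A] [IsDomain A] [CommRing A'] [IsDomain A']

theorem prufer_of_equiv (e : A ≃+* A')
    (h : ∀ (q : Ideal A') [q.IsPrime], ValuationRing (Localization.AtPrime q))
    (p : Ideal A) [p.IsPrime] : ValuationRing (Localization.AtPrime p) := by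
  let q : Ideal A' := p.comap e.symm.toRingHom
  have hq : q.IsPrime := Ideal.comap_isPrime _ _
  have hmap : Submonoid.map e.toMonoidHom p.primeCompl = q.primeCompl := by
    ext x
    constructor
    · rintro ⟨y, hy, rfl⟩
      show e y ∉ q
      intro hmem
      apply hy
      have : e.symm (e y) ∈ p := hmem
      simpa using this
    · intro hx
      refine ⟨e.symm x, ?_, by simp⟩
      exact hx
  let f : Localization.AtPrime p ≃+* Localization.AtPrime q :=
    IsLocalization.ringEquivOfRingEquiv (Localization.AtPrime p) (Localization.AtPrime q) e hmap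
  have := h q
  exact Function.Surjective.valuationRing f.symm.toRingHom f.symm.surjective

omit [IsDomain A] [IsDomain A'] in
theorem finite_maximalSpectrum_of_equiv (e : A ≃+* A') (h : Finite (MaximalSpectrum A')) :
    Finite (MaximalSpectrum A) := by
  let g : MaximalSpectrum A → MaximalSpectrum A' := fun m =>
    ⟨m.asIdeal.comap e.symm.toRingHom,
      haveI := m.isMaximal
      Ideal.comap_isMaximal_of_surjective e.symm.toRingHom e.symm.surjective⟩
  refine Finite.of_injective g ?_
  intro m m' hmm
  have h1 : m.asIdeal.comap e.symm.toRingHom = m'.asIdeal.comap e.symm.toRingHom :=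
    congrArg MaximalSpectrum.asIdeal hmm
  have h2 := Ideal.comap_injective_of_surjective e.symm.toRingHom e.symm.surjective h1
  exact MaximalSpectrum.ext h2

end Transport

variable (R : Type u) [CommRing R] [IsDomain R]

theorem main
    (hR : ∀ (p : Ideal R) [p.IsPrime], ValuationRing (Localization.AtPrime p))
    (hfin : Finite (MaximalSpectrum R)) (s : Finset R) :
    ∃ R' : Subring R, (↑s : Set R) ⊆ R' ∧
      (∀ (p : Ideal R') [p.IsPrime], ValuationRing (Localization.AtPrime p)) ∧
      Finite (MaximalSpectrum R') ∧ ringKrullDim R' < ⊤ := by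
  let L := FractionRing R
  let K : Subfield L := Subfield.closure (algebraMap R L '' (s : Set R))
  let B : Subring L := (algebraMap R L).range ⊓ K.toSubring
  let R' : Subring R := B.comap (algebraMap R L)
  have hinj : Function.Injective (algebraMap R L) := IsFractionRing.injective R L
  obtain ⟨h1, h2, -⟩ := Groth.Agent.R2.H68.ValInf.prufer_inf R L hR hfin K
  have hs : (↑s : Set R) ⊆ R' := by
    intro a ha
    show algebraMap R L a ∈ B
    exact ⟨⟨a, rfl⟩, Subfield.subset_closure ⟨a, ha, rfl⟩⟩
  -- the ring isomorphism R' ≃ B
  let φ : R' →+* B := (algebraMap R L).restrict R' B (fun x hx => hx)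
  have hφ : Function.Bijective φ := by
    constructor
    · intro x y hxy
      apply Subtype.ext
      apply hinj
      exact congrArg Subtype.val hxy
    · rintro ⟨b, hb⟩
      obtain ⟨r, rfl⟩ := hb.1
      exact ⟨⟨r, hb⟩, rfl⟩
  let e : R' ≃+* B := RingEquiv.ofBijective φ hφ
  refine ⟨R', hs, fun p _ => prufer_of_equiv e h1 p, finite_maximalSpectrum_of_equiv e h2, ?_⟩
  -- finite dimension
  classical
  let t : Finset R' := s.attach.image (fun a => ⟨a.1, hs a.2⟩)
  let ι : R' →+* L := (algebraMap R L).comp R'.subtype
  have hι : Function.Injective ι := hinj.comp Subtype.val_injective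
  refine DimFG.ringKrullDim_lt_top t (DimFG.algOver_of_closure ι hι t ?_)
  intro d
  have hd : algebraMap R L d ∈ K := d.2.2
  have hsub : algebraMap R L '' (s : Set R) ⊆ ι '' (t : Set R') := by
    rintro _ ⟨a, ha, rfl⟩
    refine ⟨⟨a, hs ha⟩, ?_, rfl⟩
    simp only [t, Finset.coe_image, Set.mem_image, Finset.mem_coe, Finset.mem_attach, true_and]
    exact ⟨⟨a, ha⟩, rfl⟩
  exact Subfield.closure_mono hsub hd

end Groth.Agent.R2.H68.PruferUnion
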