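/-
helper68: Stein factorisation / Zariski connectedness WITHOUT Noetherian hypotheses, assembled from
the core statement `GenCore` (a proper scheme over a local ring whose ring of global functions is
local has connected closed fibre).  Everything else (helper34 `SteinFibre`/`SteinLoc`, helper60
`SteinBC`, helper40 `SteinGeom`) is already Noetherian-free.
-/
import Mathlib
import Groth.Agent.R2.H34SteinFibre
import Groth.Agent.R2.H34SteinLoc
import Groth.Agent.R2.H60SteinBC
import Groth.Agent.R2.H40SteinGeom
import Groth.Agent.S1340

set_option autoImplicit false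
set_option linter.style.haveILetI false

open CategoryTheory CategoryTheory.Limits AlgebraicGeometry IsLocalRing

universe u

namespace Groth.Agent.R2.H68.SteinGen

open Groth.Agent.R2.H34.SteinFibre

/-- The core statement: a proper scheme over a local ring with local ring of global functions has
connected closed fibre. -/
def GenCore : Prop :=
  ∀ (A : Type u) [CommRing A] [IsLocalRing A] {W : Scheme.{u}} (g : W ⟶ Spec (CommRingCat.of A))
    [IsProper g] [IsLocalRing Γ(W, ⊤)], _root_.IsConnected (g ⁻¹' {closedPoint A})

variable {X Y : Scheme.{u}}

/-- Zariski's connectedness theorem, geometric form at one point, general base. -/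
theorem geometricallyConnected_fiber_of_isIso_app (h0 : GenCore.{u}) (f : X ⟶ Y) [IsProper f]
    (y : Y) (V : Y.Opens) (hV : IsAffineOpen V) (hy : y ∈ V)
    (hf : IsIso (f.app V)) : GeometricallyConnected (f.fiberToSpecResidueField y) := by
  apply Groth.Agent.R2.H40.SteinGeom.geometricallyConnected_fiber
  intro A' _ _ _ _ _ _
  haveI : IsProper (locSnd f y) := MorphismProperty.pullback_snd _ _ inferInstance
  have hg : IsIso (locSnd f y).appTop := isIso_locSnd_appTop f y V hV hy hf
  have hflat : (CommRingCat.ofHom (algebraMap (Y.presheaf.stalk y) A')).hom.Flat := by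
    change (algebraMap (Y.presheaf.stalk y) A').Flat
    rw [RingHom.flat_algebraMap_iff]
    infer_instance
  haveI : IsLocalRing (CommRingCat.of A') := ‹IsLocalRing A'›
  haveI : IsLocalRing Γ(pullback (locSnd f y)
      (Spec.map (CommRingCat.ofHom (algebraMap (Y.presheaf.stalk y) A'))), ⊤) :=
    Groth.Agent.R2.H60.SteinBC.isLocalRing_Γ_pullback_spec (locSnd f y)
      (CommRingCat.ofHom (algebraMap (Y.presheaf.stalk y) A')) hflat hg
  haveI : IsProper (pullback.snd (locSnd f y)
      (Spec.map (CommRingCat.ofHom (algebraMap (Y.presheaf.stalk y) A')))) :=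
    MorphismProperty.pullback_snd _ _ inferInstance
  exact h0 A' _

/-- Zariski's connectedness theorem, geometric form, general base. -/
theorem geometricallyConnected_of_forall_isIso_app (h0 : GenCore.{u}) (f : X ⟶ Y) [IsProper f]
    (hf : ∀ U : Y.Opens, IsIso (f.app U)) : GeometricallyConnected f := by
  rw [GeometricallyConnected.iff_geometricallyConnected_fiber]
  intro y
  obtain ⟨_, ⟨V, hV, rfl⟩, hyV, -⟩ :=
    Y.isBasis_affineOpens.exists_subset_of_mem_open (Set.mem_univ y) isOpen_univ
  exact geometricallyConnected_fiber_of_isIso_app h0 f y V hV hyV (hf V)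

instance isProper_toNormalization (f : X ⟶ Y) [IsProper f] : IsProper f.toNormalization := by
  haveI : IsProper (f.toNormalization ≫ f.fromNormalization) := by
    rw [Scheme.Hom.toNormalization_fromNormalization]; infer_instance
  exact IsProper.of_comp f.toNormalization f.fromNormalization

/-- Stein factorisation, general form (the shape of S0388). -/
theorem stein_general (h0 : GenCore.{u}) (f : X ⟶ Y) [IsProper f] :
    GeometricallyConnected f.toNormalization ∧
      ∀ U : f.normalization.Opens, IsIso (f.toNormalization.app U) := by
  have h2 : ∀ U : f.normalization.Opens, IsIso (f.toNormalization.app U) :=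
    fun U => Groth.Agent.S1340.result f U
  exact ⟨geometricallyConnected_of_forall_isIso_app h0 f.toNormalization h2, h2⟩

end Groth.Agent.R2.H68.SteinGen
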