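/-
helper68: the core statement `SteinGen.GenCore` (a proper scheme over a local ring whose ring of
global functions is local has connected closed fibre) from helper23's separation statement
`FibreIdem.Sep` for proper morphisms.
-/
import Mathlib
import Groth.Agent.R2.H68SteinGen
import Groth.Agent.R2.H23FibreIdem

set_option autoImplicit false

open CategoryTheory CategoryTheory.Limits AlgebraicGeometry IsLocalRing

universe u

namespace Groth.Agent.R2.H68.SteinGenCore

open Groth.Agent.R2.H23.FibreIdem

/-- `GenCore` from `Sep` at closed points of local schemes. -/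
theorem genCore_of_sep
    (hsep : ∀ {X S : Scheme.{u}} (f : X ⟶ S) [IsProper f] (s : S), Sep f s) :
    SteinGen.GenCore.{u} := by
  intro A _ _ W g _ _
  -- the fibre is nonempty
  have hne : (g ⁻¹' {closedPoint A}).Nonempty := by
    haveI : Nonempty W := by
      by_contra hW
      rw [not_nonempty_iff] at hW
      exact not_subsingleton Γ(W, ⊤) inferInstance
    have hcl : IsClosed (Set.range g) := g.isClosedMap.isClosed_range
    by_contra hemp
    rw [Set.not_nonempty_iff_eq_empty] at hemp
    have hU : closedPoint A ∈ (⟨(Set.range g)ᶜ, hcl.isOpen_compl⟩ :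
        TopologicalSpace.Opens (PrimeSpectrum A)) := by
      rintro ⟨w, hw⟩
      have : w ∈ g ⁻¹' {closedPoint A} := hw
      rw [hemp] at this
      exact this
    rw [closedPoint_mem_iff] at hU
    obtain ⟨w⟩ := ‹Nonempty W›
    have h1 : g w ∈ (⟨(Set.range g)ᶜ, hcl.isOpen_compl⟩ :
        TopologicalSpace.Opens (PrimeSpectrum A)) := by
      rw [hU]; trivial
    exact h1 ⟨w, rfl⟩
  refine ⟨hne, ?_⟩
  rw [isPreconnected_closed_iff]
  intro C0 C1 hC0 hC1 hcov hn0 hn1
  by_contra hdis
  rw [Set.not_nonempty_iff_eq_empty] at hdis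
  obtain ⟨V, U, r, hsV, hVU, h1, h0⟩ := hsep g (closedPoint A)
    (C0 ∩ g ⁻¹' {closedPoint A}) (C1 ∩ g ⁻¹' {closedPoint A}) C0 C1 hC0 hC1 rfl rfl
    (by
      rw [Set.disjoint_iff_inter_eq_empty]
      rw [← hdis]
      ext x
      simp only [Set.mem_inter_iff]
      tauto)
    (by
      ext x
      simp only [Set.mem_union, Set.mem_inter_iff]
      constructor
      · rintro (⟨_, h⟩ | ⟨_, h⟩) <;> exact h
      · intro h
        rcases hcov h with h' | h'
        · exact Or.inl ⟨h', h⟩
        · exact Or.inr ⟨h', h⟩)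
  have hV : V = ⊤ := (closedPoint_mem_iff (R := A) V).mp hsV
  have hU : U = ⊤ := by
    rw [eq_top_iff]
    refine le_trans ?_ hVU
    rw [hV]
    exact le_of_eq rfl
  subst hU
  rcases IsLocalRing.isUnit_or_isUnit_one_sub_self r with hr | hr
  · obtain ⟨x, hx, hx0⟩ := hn0
    refine h0 x ⟨hx0, hx⟩ ?_
    rw [Scheme.basicOpen_of_isUnit _ hr]
    trivial
  · obtain ⟨x, hx, hx1⟩ := hn1
    refine h1 x ⟨hx1, hx⟩ ?_
    rw [Scheme.basicOpen_of_isUnit _ hr]
    trivial

end Groth.Agent.R2.H68.SteinGenCore
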