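/-
helper68: the number of geometric connected components of the fibres of a proper morphism equals
that of its Stein factor (S7838), assuming the core statement `SteinGen.GenCore`.
-/
import Mathlib
import Groth.Agent.R2.H68SteinGen
import Groth.Prelude.Def_MoreMor

set_option autoImplicit false
set_option linter.style.haveILetI false

open CategoryTheory CategoryTheory.Limits AlgebraicGeometry TopologicalSpace

universe u

namespace Groth.Agent.R2.H68.SteinPi0

open Groth.Agent.R2.H68.SteinGen

/-- A Noetherian space has finitely many connected components. -/
theorem finite_connectedComponents_of_noetherianSpace (α : Type*) [TopologicalSpace α]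
    [NoetherianSpace α] : Finite (ConnectedComponents α) := by
  haveI : Finite (irreducibleComponents α) :=
    (NoetherianSpace.finite_irreducibleComponents (α := α)).to_subtype
  have hne : ∀ Z : irreducibleComponents α, (Z : Set α).Nonempty := fun Z => Z.2.1.1
  let φ : irreducibleComponents α → ConnectedComponents α :=
    fun Z => ConnectedComponents.mk (hne Z).some
  refine Finite.of_surjective φ ?_
  intro c
  obtain ⟨x, rfl⟩ := ConnectedComponents.surjective_coe c
  refine ⟨⟨irreducibleComponent x, irreducibleComponent_mem_irreducibleComponents x⟩, ?_⟩
  show ConnectedComponents.mk _ = ConnectedComponents.mk x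
  rw [ConnectedComponents.coe_eq_coe']
  have hpre : IsPreconnected (irreducibleComponent x) :=
    isIrreducible_irreducibleComponent.isPreirreducible.isPreconnected
  exact hpre.subset_connectedComponent mem_irreducibleComponent
    (hne ⟨irreducibleComponent x, irreducibleComponent_mem_irreducibleComponents x⟩).some_mem

variable {X S : Scheme.{u}}

/-- The geometric fibre as a fibre product with `X`. -/
theorem isPullback_fiber_comp (f : X ⟶ S) (s : S) {Z : Scheme.{u}}
    (c : Z ⟶ Spec (S.residueField s)) :
    IsPullback (pullback.fst (f.fiberToSpecResidueField s) c ≫ f.fiberι s)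
      (pullback.snd (f.fiberToSpecResidueField s) c) f (c ≫ S.fromSpecResidueField s) :=
  (IsPullback.of_hasPullback (f.fiberToSpecResidueField s) c).paste_horiz
    (IsPullback.of_hasPullback f (S.fromSpecResidueField s))

/-- comparison of connected components of geometric fibres, for fibre products over any `c`. -/
theorem connectedComponents_fiber_comp (h0 : GenCore.{u}) (f : X ⟶ S) [IsProper f] (s : S)
    {Z : Scheme.{u}} (c : Z ⟶ Spec (S.residueField s)) [IsNoetherian Z] :
    Finite (_root_.ConnectedComponents ↥(pullback (f.fiberToSpecResidueField s) c)) ∧
    Nonempty (_root_.ConnectedComponents ↥(pullback (f.fiberToSpecResidueField s) c) ≃ₜ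
      _root_.ConnectedComponents
        ↥(pullback (f.fromNormalization.fiberToSpecResidueField s) c)) := by
  have hf := isPullback_fiber_comp f s c
  have hν := isPullback_fiber_comp f.fromNormalization s c
  -- finiteness
  have hfin : Finite (_root_.ConnectedComponents ↥(pullback (f.fiberToSpecResidueField s) c)) := by
    haveI : IsNoetherian (pullback (f.fiberToSpecResidueField s) c) := by
      haveI : LocallyOfFiniteType (pullback.snd (f.fiberToSpecResidueField s) c) :=
        MorphismProperty.of_isPullback (P := @LocallyOfFiniteType) hf
          (inferInstance : LocallyOfFiniteType f)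
      haveI : QuasiCompact (pullback.snd (f.fiberToSpecResidueField s) c) :=
        MorphismProperty.of_isPullback (P := @QuasiCompact) hf (inferInstance : QuasiCompact f)
      exact
        { toIsLocallyNoetherian :=
            LocallyOfFiniteType.isLocallyNoetherian
              (pullback.snd (f.fiberToSpecResidueField s) c)
          toCompactSpace :=
            QuasiCompact.compactSpace_of_compactSpace
              (pullback.snd (f.fiberToSpecResidueField s) c) }
    exact finite_connectedComponents_of_noetherianSpace _
  refine ⟨hfin, ?_⟩
  -- the comparison map
  have hw : (pullback.fst (f.fiberToSpecResidueField s) c ≫ f.fiberι s ≫ f.toNormalization) ≫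
      f.fromNormalization =
      pullback.snd (f.fiberToSpecResidueField s) c ≫ c ≫ S.fromSpecResidueField s := by
    rw [Category.assoc, Category.assoc, f.toNormalization_fromNormalization]
    simpa only [Category.assoc] using hf.w
  let m : pullback (f.fiberToSpecResidueField s) c ⟶
      pullback (f.fromNormalization.fiberToSpecResidueField s) c :=
    hν.lift (pullback.fst (f.fiberToSpecResidueField s) c ≫ f.fiberι s ≫ f.toNormalization)
      (pullback.snd (f.fiberToSpecResidueField s) c) hw
  have hm1 : m ≫ (pullback.fst (f.fromNormalization.fiberToSpecResidueField s) c ≫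
      f.fromNormalization.fiberι s) =
      pullback.fst (f.fiberToSpecResidueField s) c ≫ f.fiberι s ≫ f.toNormalization :=
    hν.lift_fst _ _ _
  have hm2 : m ≫ pullback.snd (f.fromNormalization.fiberToSpecResidueField s) c =
      pullback.snd (f.fiberToSpecResidueField s) c := hν.lift_snd _ _ _
  have hsq : IsPullback m (pullback.fst (f.fiberToSpecResidueField s) c ≫ f.fiberι s)
      (pullback.fst (f.fromNormalization.fiberToSpecResidueField s) c ≫
        f.fromNormalization.fiberι s) f.toNormalization := by
    refine IsPullback.of_right ?_ (by simpa only [Category.assoc] using hm1) hν.flip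
    rw [hm2, f.toNormalization_fromNormalization]
    exact hf.flip
  haveI : GeometricallyConnected f.toNormalization := (stein_general h0 f).1
  haveI : GeometricallyConnected m :=
    MorphismProperty.of_isPullback (P := @GeometricallyConnected) hsq.flip
      ‹GeometricallyConnected f.toNormalization›
  haveI : IsProper m :=
    MorphismProperty.of_isPullback (P := @IsProper) hsq.flip
      (inferInstance : IsProper f.toNormalization)
  have hq : Topology.IsQuotientMap m :=
    m.isClosedMap.isQuotientMap m.continuous m.surjective
  exact ⟨hq.isCoinducing.connectedComponentsHomeomorph m.isConnected_preimage_singleton⟩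

/-- S7838 given `GenCore`. -/
theorem nGeomConnComp_eq (h0 : GenCore.{u}) (f : X ⟶ S) [IsProper f] (s : S) :
    MoreMor.nGeomConnComp f s < ⊤ ∧
      MoreMor.nGeomConnComp f s = MoreMor.nGeomConnComp f.fromNormalization s := by
  obtain ⟨hfin, ⟨e⟩⟩ := connectedComponents_fiber_comp h0 f s
    (Spec.map (CommRingCat.ofHom
      (algebraMap (S.residueField s) (SeparableClosure (S.residueField s)))))
  exact ⟨ENat.card_lt_top.mpr hfin, ENat.card_congr e.toEquiv⟩

end Groth.Agent.R2.H68.SteinPi0
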