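/-
helper68: consequences of the general (non-Noetherian) Stein factorisation, assuming the core
statement `SteinGen.GenCore`:
* `isUnivHomeo_of_comp_geometricallyConnected`: an integral morphism `h` such that `p ≫ h` is
  geometrically connected for some surjective `p` is a universal homeomorphism (generalising
  helper34's `S7809`);
* `isUnivHomeo_normalizationPullback` (= S7845 given `GenCore`).
-/
import Mathlib
import Groth.Agent.R2.H68SteinGen
import Groth.Agent.S7809

set_option autoImplicit false
set_option linter.style.haveILetI false

open CategoryTheory CategoryTheory.Limits AlgebraicGeometry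

universe u

namespace Groth.Agent.R2.H68.SteinUH

open Groth.Agent.R2.H68.SteinGen

/-- An integral morphism `h` such that `p ≫ h` is geometrically connected for some surjective `p`
is a universal homeomorphism. -/
theorem isUnivHomeo_of_comp_geometricallyConnected {X N Z : Scheme.{u}} (p : X ⟶ N) (h : N ⟶ Z)
    [IsIntegralHom h] [Surjective p] [GeometricallyConnected (p ≫ h)] :
    FlatMor.IsUnivHomeo h := by
  haveI : Surjective (p ≫ h) := inferInstance
  haveI : Surjective h := Surjective.of_comp p h
  haveI : UniversallyInjective h := by
    refine ((tfae_universallyInjective h).out 0 1).2 ?_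
    intro K _ g₁ g₂ hg
    dsimp only at hg
    obtain ⟨s, hs⟩ : ∃ s, s = g₁ ≫ h := ⟨_, rfl⟩
    have hs₂ : s = g₂ ≫ h := hs.trans hg
    let σ₁ : Spec (CommRingCat.of K) ⟶ pullback h s :=
      pullback.lift g₁ (𝟙 _) (by rw [Category.id_comp, hs])
    let σ₂ : Spec (CommRingCat.of K) ⟶ pullback h s :=
      pullback.lift g₂ (𝟙 _) (by rw [Category.id_comp, hs₂])
    haveI : ConnectedSpace ↥(pullback (p ≫ h) s) :=
      pullback_of_geometrically
        (GeometricallyConnected.geometrically_connectedSpace (f := p ≫ h)) K s
    let r : pullback (p ≫ h) s ⟶ pullback h s :=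
      pullback.map (p ≫ h) s h s p (𝟙 _) (𝟙 _) (by simp) (by simp)
    have hbig : IsPullback (r ≫ pullback.snd h s) (pullback.fst (p ≫ h) s) s (p ≫ h) := by
      have h1 : r ≫ pullback.snd h s = pullback.snd (p ≫ h) s :=
        (pullback.lift_snd _ _ _).trans (Category.comp_id _)
      rw [h1]
      exact (IsPullback.of_hasPullback (p ≫ h) s).flip
    have hleft : IsPullback r (pullback.fst (p ≫ h) s) (pullback.fst h s) p :=
      IsPullback.of_right hbig (pullback.lift_fst _ _ _) (IsPullback.of_hasPullback h s).flip
    haveI : Surjective r :=
      MorphismProperty.of_isPullback (P := @Surjective) hleft.flip ‹Surjective p›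
    haveI : ConnectedSpace ↥(pullback h s) := r.surjective.connectedSpace r.continuous
    have key : σ₁ = σ₂ := Groth.Agent.S7809.section_eq_of_connected (pullback.snd h s) σ₁ σ₂
      (pullback.lift_snd _ _ _) (pullback.lift_snd _ _ _)
    have e₁ : σ₁ ≫ pullback.fst _ _ = g₁ := pullback.lift_fst _ _ _
    have e₂ : σ₂ ≫ pullback.fst _ _ = g₂ := pullback.lift_fst _ _ _
    rw [← e₁, ← e₂, key]
  exact Groth.Agent.Lib.Helper4.UnibranchSch.isUnivHomeo_of_isIntegralHom _

variable {X S T : Scheme.{u}}

/-- The base change `X ×_S T ⟶ S' ×_S T` of `f.toNormalization : X ⟶ S'`. -/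
theorem isPullback_map_toNormalization (f : X ⟶ S) [QuasiCompact f] [QuasiSeparated f]
    (g : T ⟶ S) :
    IsPullback (pullback.map f g f.fromNormalization g f.toNormalization (𝟙 _) (𝟙 _)
        (by simp) (by simp))
      (pullback.fst f g) (pullback.fst f.fromNormalization g) f.toNormalization := by
  have hbig : IsPullback (pullback.map f g f.fromNormalization g f.toNormalization (𝟙 _) (𝟙 _)
        (by simp) (by simp) ≫ pullback.snd f.fromNormalization g) (pullback.fst f g) g
      (f.toNormalization ≫ f.fromNormalization) := by
    have h1 : pullback.map f g f.fromNormalization g f.toNormalization (𝟙 _) (𝟙 _)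
        (by simp) (by simp) ≫ pullback.snd f.fromNormalization g = pullback.snd f g :=
      (pullback.lift_snd _ _ _).trans (Category.comp_id _)
    rw [h1, f.toNormalization_fromNormalization]
    exact (IsPullback.of_hasPullback f g).flip
  exact IsPullback.of_right hbig (pullback.lift_fst _ _ _)
    (IsPullback.of_hasPullback f.fromNormalization g).flip

/-- S7845 given `GenCore`. -/
theorem isUnivHomeo_normalizationPullback (h0 : GenCore.{u}) (f : X ⟶ S) [IsProper f]
    (g : T ⟶ S) : FlatMor.IsUnivHomeo (f.normalizationPullback g) := by
  haveI : GeometricallyConnected (pullback.snd f g).toNormalization :=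
    (stein_general h0 (pullback.snd f g)).1
  haveI : Surjective (pullback.snd f g).toNormalization := inferInstance
  haveI : GeometricallyConnected f.toNormalization := (stein_general h0 f).1
  have hcomp : (pullback.snd f g).toNormalization ≫ f.normalizationPullback g =
      pullback.map f g f.fromNormalization g f.toNormalization (𝟙 _) (𝟙 _)
        (by simp) (by simp) :=
    (pullback.snd f g).toNormalization_normalizationDesc _ _ _
  haveI : GeometricallyConnected
      ((pullback.snd f g).toNormalization ≫ f.normalizationPullback g) := by
    rw [hcomp]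
    exact MorphismProperty.of_isPullback (P := @GeometricallyConnected)
      (isPullback_map_toNormalization f g).flip ‹GeometricallyConnected f.toNormalization›
  exact isUnivHomeo_of_comp_geometricallyConnected (pullback.snd f g).toNormalization
    (f.normalizationPullback g)

end Groth.Agent.R2.H68.SteinUH
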