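/-
helper68: point-injectivity for integral extensions `R ⊆ C` of domains with "purely inseparable"
fraction field extension, over a base all of whose localisations are geometrically unibranch
(generalising helper4's `ptInj_of_isPurelyInseparable` from the full integral closure to any
integral sub-extension, via extension of field-valued points along integral maps).
-/
import Mathlib
import Groth.Agent.Lib.Helper4UnibranchPI

set_option autoImplicit false
set_option linter.style.haveILetI false

universe u

namespace Groth.Agent.R2.H68.UnibranchPI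

/-- Field-valued points with algebraically closed target extend along injective integral maps. -/
theorem exists_extend_ringHom {A B : Type*} [CommRing A] [CommRing B] (f : A →+* B)
    (hf : f.IsIntegral) (hinj : Function.Injective f) {Ω : Type*} [Field Ω] [IsAlgClosed Ω]
    (ψ : A →+* Ω) : ∃ ψ' : B →+* Ω, ψ'.comp f = ψ := by
  letI := f.toAlgebra
  haveI : Algebra.IsIntegral A B := ⟨hf⟩
  haveI : (RingHom.ker ψ).IsPrime := RingHom.ker_isPrime ψ
  obtain ⟨Q, -, hQp, hQ⟩ := Ideal.exists_ideal_over_prime_of_isIntegral (S := B) (RingHom.ker ψ)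
    (⊥ : Ideal B)
    (by
      have : RingHom.ker (algebraMap A B) = ⊥ := (RingHom.injective_iff_ker_eq_bot _).mp hinj
      rw [← RingHom.ker_eq_comap_bot, this]; exact bot_le)
  have hQ' : Q.comap f = RingHom.ker ψ := hQ
  let φ : A ⧸ Q.comap f →+* B ⧸ Q := Ideal.quotientMap Q f le_rfl
  have hφint : φ.IsIntegral := RingHom.IsIntegral.quotient f hf
  have hφinj : Function.Injective φ := Ideal.quotientMap_injective
  let ψ₀ : A ⧸ Q.comap f →+* Ω := Ideal.Quotient.lift _ ψ (by
    intro a ha
    rw [hQ'] at ha
    exact ha)
  have hψinj : Function.Injective ψ₀ := by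
    rw [injective_iff_map_eq_zero]
    intro a
    obtain ⟨a, rfl⟩ := Ideal.Quotient.mk_surjective a
    intro ha
    have h1 : ψ a = 0 := ha
    rw [Ideal.Quotient.eq_zero_iff_mem, hQ']
    exact h1
  letI : Algebra (A ⧸ Q.comap f) (B ⧸ Q) := φ.toAlgebra
  letI : Algebra (A ⧸ Q.comap f) Ω := ψ₀.toAlgebra
  haveI : Module.IsTorsionFree (A ⧸ Q.comap f) (B ⧸ Q) :=
    Module.isTorsionFree_iff_algebraMap_injective.mpr hφinj
  haveI : Module.IsTorsionFree (A ⧸ Q.comap f) Ω :=
    Module.isTorsionFree_iff_algebraMap_injective.mpr hψinj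
  haveI : Algebra.IsIntegral (A ⧸ Q.comap f) (B ⧸ Q) := ⟨hφint⟩
  haveI : Algebra.IsAlgebraic (A ⧸ Q.comap f) (B ⧸ Q) := Algebra.IsIntegral.isAlgebraic
  let lft : (B ⧸ Q) →ₐ[A ⧸ Q.comap f] Ω := IsAlgClosed.lift
  refine ⟨(lft : (B ⧸ Q) →+* Ω).comp (Ideal.Quotient.mk Q), ?_⟩
  ext a
  have h1 : lft (algebraMap (A ⧸ Q.comap f) (B ⧸ Q) (Ideal.Quotient.mk _ a)) =
      algebraMap (A ⧸ Q.comap f) Ω (Ideal.Quotient.mk _ a) := lft.commutes _
  exact h1

open IntermediateField in
/-- Point-injectivity for an integral extension `R ⊆ C` of domains in which every element of `C`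
has a `q`-power (`q` the characteristic exponent) in the fraction field of `R`, when all
localisations of `R` are geometrically unibranch. -/
theorem ptInj_of_pow_mem {R C : Type u} [CommRing R] [IsDomain R] [CommRing C] [IsDomain C]
    [Algebra R C] (hinj : Function.Injective (algebraMap R C)) [Algebra.IsIntegral R C]
    (q : ℕ) [ExpChar R q]
    (hpi : ∀ c : C, ∃ (n : ℕ) (a b : R), b ≠ 0 ∧
      algebraMap R C b * c ^ q ^ n = algebraMap R C a)
    (H : ∀ (p : Ideal R) [p.IsPrime], CAlg2.IsGeomUnibranch (Localization.AtPrime p))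
    (Ω : Type u) [Field Ω] :
    Function.Injective (fun g : C →+* Ω => g.comp (algebraMap R C)) := by
  -- the fields
  let F := FractionRing R
  let E := FractionRing C
  have hCE : Function.Injective (algebraMap C E) := IsFractionRing.injective C E
  have hRE : Function.Injective (algebraMap R E) := by
    rw [IsScalarTower.algebraMap_eq R C E]
    exact hCE.comp hinj
  haveI : FaithfulSMul R E := (faithfulSMul_iff_algebraMap_injective R E).mpr hRE
  letI : Algebra F E := FractionRing.liftAlgebra R E
  haveI : IsScalarTower R F E := FractionRing.isScalarTower_liftAlgebra R E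
  haveI : ExpChar F q := expChar_of_injective_algebraMap (IsFractionRing.injective R F) q
  -- the relative perfect closure
  let L : IntermediateField F E := perfectClosure F E
  have hmem : ∀ c : C, algebraMap C E c ∈ L := by
    intro c
    obtain ⟨n, a, b, hb, hab⟩ := hpi c
    rw [mem_perfectClosure_iff_pow_mem q]
    refine ⟨n, algebraMap R F a / algebraMap R F b, ?_⟩
    have hb' : algebraMap R E b ≠ 0 := fun h => hb (hRE (h.trans (map_zero _).symm))
    have h1 : algebraMap R E b * algebraMap C E c ^ q ^ n = algebraMap R E a := by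
      have := congrArg (algebraMap C E) hab
      rw [map_mul, map_pow, ← IsScalarTower.algebraMap_apply,
        ← IsScalarTower.algebraMap_apply] at this
      exact this
    rw [map_div₀, ← IsScalarTower.algebraMap_apply, ← IsScalarTower.algebraMap_apply,
      div_eq_iff hb', mul_comm]
    exact h1.symm
  -- `C` inside the integral closure of `R` in `L`
  let j₁ : C →+* L := (algebraMap C E).codRestrict L hmem
  have hj₁ : ∀ r : R, j₁ (algebraMap R C r) = algebraMap R L r := by
    intro r
    apply Subtype.ext
    show algebraMap C E (algebraMap R C r) = algebraMap R E r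
    rw [← IsScalarTower.algebraMap_apply]
  have hint : ∀ c : C, IsIntegral R (j₁ c) := by
    intro c
    obtain ⟨p, hp, hpc⟩ := Algebra.IsIntegral.isIntegral (R := R) c
    refine ⟨p, hp, ?_⟩
    have hcomp : (algebraMap R L) = j₁.comp (algebraMap R C) := by
      ext r; exact congrArg Subtype.val (hj₁ r).symm
    rw [hcomp, ← Polynomial.hom_eval₂, hpc, map_zero]
  let ι : C →+* integralClosure R L := j₁.codRestrict (integralClosure R L) hint
  have hι : ∀ r : R, ι (algebraMap R C r) = algebraMap R (integralClosure R L) r := by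
    intro r
    apply Subtype.ext
    exact hj₁ r
  have hιcomp : ι.comp (algebraMap R C) = algebraMap R (integralClosure R L) := by
    ext r; exact congrArg (fun d : integralClosure R L => ((d : L) : E)) (hι r)
  have hιinj : Function.Injective ι := by
    intro c c' hcc
    apply hCE
    have := congrArg (fun d : integralClosure R L => ((d : L) : E)) hcc
    exact this
  have hιint : ι.IsIntegral := by
    apply RingHom.IsIntegral.tower_top (algebraMap R C) ι
    rw [hιcomp]
    exact algebraMap_isIntegral_iff.mpr inferInstance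
  -- the argument
  intro τ₁ τ₂ h
  let Ωb := AlgebraicClosure Ω
  obtain ⟨σ₁, hσ₁⟩ := exists_extend_ringHom ι hιint hιinj ((algebraMap Ω Ωb).comp τ₁)
  obtain ⟨σ₂, hσ₂⟩ := exists_extend_ringHom ι hιint hιinj ((algebraMap Ω Ωb).comp τ₂)
  have hσ : σ₁ = σ₂ := by
    apply Groth.Agent.Lib.Helper4.UnibranchSch.ptInj_of_isPurelyInseparable R F L H Ωb
    show σ₁.comp (algebraMap R (integralClosure R L)) =
      σ₂.comp (algebraMap R (integralClosure R L))
    rw [← hιcomp, ← RingHom.comp_assoc, ← RingHom.comp_assoc, hσ₁, hσ₂,
      RingHom.comp_assoc, RingHom.comp_assoc]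
    exact congrArg _ h
  ext c
  apply (algebraMap Ω Ωb).injective
  have e1 := congrArg (fun g : C →+* Ωb => g c) hσ₁
  have e2 := congrArg (fun g : C →+* Ωb => g c) hσ₂
  simp only [RingHom.comp_apply] at e1 e2
  rw [← e1, ← e2, hσ]

end Groth.Agent.R2.H68.UnibranchPI
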