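import Mathlib
import Groth.Agent.R2.H68SubtrNoeth

/-!
# The DVR lifting criterion for universally S-subtrusive morphisms (S14771)

Helper library of helper68.
-/

set_option autoImplicit false
universe u

open Topology AlgebraicGeometry CategoryTheory CategoryTheory.Limits IsLocalRing

namespace Groth.Agent.R2.H68.SubtrDVRLift

open Groth.Agent.R2.H68.SubtrLim Groth.Agent.R2.H68.SubtrAff Groth.Agent.R2.H68.SubtrNoeth
open Groth.Agent.Lib.Helper10.SubtrDVR

/-- The DVR lifting condition. -/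
def DVRLift {X Y : Scheme.{u}} (f : X ⟶ Y) : Prop :=
  ∀ (D : Type u) [CommRing D] [IsDomain D] [IsDiscreteValuationRing D]
    (g : Spec (CommRingCat.of D) ⟶ Y),
    ∃ (D' : Type u) (_ : CommRing D') (_ : IsDomain D') (_ : IsDiscreteValuationRing D')
      (a : Spec (CommRingCat.of D') ⟶ X) (b : Spec (CommRingCat.of D') ⟶ Spec (CommRingCat.of D)),
      Surjective b ∧ a ≫ f = b ≫ g

/-- (ii) ⇒ (iii). -/
theorem dvrLift_of_univSSubtrusive {X Y : Scheme.{u}} (f : X ⟶ Y) [LocallyOfFiniteType f]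
    (hf : Subtr.UnivSSubtrusive f) : DVRLift f := by
  intro D _ _ _ g
  have hs : Subtr.IsSSubtrusive (pullback.snd f g) :=
    hf (pullback.fst f g) g (pullback.snd f g) (IsPullback.of_hasPullback f g).flip
  obtain ⟨w, w', hww, hw, hw'⟩ := hs (bot_specializes_closedPoint D)
  have hne : w' ≠ w := by
    intro h
    rw [h] at hw'
    exact (bot_ne_closedPoint D) (hw'.symm.trans hw)
  haveI : LocallyOfFiniteType (pullback.snd f g) :=
    MorphismProperty.pullback_snd _ _ inferInstance
  haveI : IsLocallyNoetherian (pullback f g) :=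
    LocallyOfFiniteType.isLocallyNoetherian (pullback.snd f g)
  obtain ⟨D', i1, i2, i3, a, ha1, ha2⟩ := exists_dvr_of_specializes hww hne
  refine ⟨D', i1, i2, i3, a ≫ pullback.fst f g, a ≫ pullback.snd f g, ⟨fun p => ?_⟩, ?_⟩
  · rcases eq_closedPoint_or_eq_bot D p with rfl | rfl
    · exact ⟨closedPoint D', by rw [Scheme.Hom.comp_apply, ha1, hw]⟩
    · exact ⟨⟨⊥, Ideal.isPrime_bot⟩, by rw [Scheme.Hom.comp_apply, ha2, hw']⟩
  · rw [Category.assoc, Category.assoc, pullback.condition]

/-- The DVR lifting condition is stable under base change. -/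
theorem dvrLift_pullback_snd {X Y T : Scheme.{u}} (f : X ⟶ Y) (g : T ⟶ Y) (h : DVRLift f) :
    DVRLift (pullback.snd f g) := by
  intro D _ _ _ k
  obtain ⟨D', i1, i2, i3, a, b, hb, hab⟩ := h D (k ≫ g)
  exact ⟨D', i1, i2, i3, pullback.lift a (b ≫ k) (by rw [hab, Category.assoc]), b, hb,
    pullback.lift_snd _ _ _⟩

/-- Over a locally Noetherian base, the DVR lifting condition implies S-subtrusiveness. -/
theorem isSSubtrusive_of_dvrLift {X Y : Scheme.{u}} [IsLocallyNoetherian Y] (f : X ⟶ Y)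
    (h : DVRLift f) : Subtr.IsSSubtrusive f := by
  intro y y' hyy
  by_cases hne : y' = y
  · subst hne
    obtain ⟨D', i1, i2, i3, a, b, hb, hab⟩ := h (PowerSeries (Y.residueField y'))
      (Spec.map (CommRingCat.ofHom (PowerSeries.C (R := Y.residueField y'))) ≫
        Y.fromSpecResidueField y')
    have h1 := congrArg (fun m : Spec (CommRingCat.of D') ⟶ Y => m (closedPoint D')) hab
    change f (a (closedPoint D')) = Y.fromSpecResidueField y' _ at h1
    rw [Scheme.fromSpecResidueField_apply] at h1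
    exact ⟨_, _, specializes_rfl, h1, h1⟩
  obtain ⟨V, _, _, _, g, hg1, hg2⟩ := exists_dvr_of_specializes hyy hne
  obtain ⟨D', i1, i2, i3, a, b, hb, hab⟩ := h V g
  have hbot : ∀ q : PrimeSpectrum V, q ⤳ (⟨⊥, Ideal.isPrime_bot⟩ : PrimeSpectrum V) →
      q = ⟨⊥, Ideal.isPrime_bot⟩ := by
    intro q hq
    rw [← PrimeSpectrum.le_iff_specializes] at hq
    exact PrimeSpectrum.ext (le_bot_iff.mp hq)
  have key1 : b (closedPoint D') = closedPoint V := by
    by_contra hc
    have hb0 : b (closedPoint D') = ⟨⊥, Ideal.isPrime_bot⟩ :=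
      (eq_closedPoint_or_eq_bot V _).resolve_left hc
    obtain ⟨p, hp⟩ := hb.surj (closedPoint V)
    have h2 : b p ⤳ b (closedPoint D') :=
      (specializes_closedPoint (R := D') p).map b.continuous
    rw [hp, hb0] at h2
    exact bot_ne_closedPoint V (hbot _ h2).symm
  have key2 : b (⟨⊥, Ideal.isPrime_bot⟩ : PrimeSpectrum D') = ⟨⊥, Ideal.isPrime_bot⟩ := by
    obtain ⟨p, hp⟩ := hb.surj (⟨⊥, Ideal.isPrime_bot⟩ : PrimeSpectrum V)
    rcases eq_closedPoint_or_eq_bot D' p with rfl | rfl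
    · rw [key1] at hp
      exact absurd hp.symm (bot_ne_closedPoint V)
    · exact hp
  have hpt : ∀ z : Spec (CommRingCat.of D'), f (a z) = g (b z) := fun z =>
    congrArg (fun m : Spec (CommRingCat.of D') ⟶ Y => m z) hab
  refine ⟨a (closedPoint D'), a ⟨⊥, Ideal.isPrime_bot⟩,
    (bot_specializes_closedPoint D').map a.continuous, ?_, ?_⟩
  · rw [hpt, key1, hg1]
  · rw [hpt, key2, hg2]

/-- (iii) ⇒ (ii). -/
theorem univSSubtrusive_of_dvrLift {X Y : Scheme.{u}} [IsLocallyNoetherian Y] (f : X ⟶ Y)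
    [QuasiCompact f] (h : DVRLift f) : Subtr.UnivSSubtrusive f := by
  apply univSSubtrusive_of_affineSpace
  intro n _
  haveI : IsLocallyNoetherian (AffineSpace (ULift.{u} (Fin n)) Y) :=
    LocallyOfFiniteType.isLocallyNoetherian (AffineSpace (ULift.{u} (Fin n)) Y ↘ Y)
  exact isSSubtrusive_of_dvrLift _ (dvrLift_pullback_snd f _ h)

end Groth.Agent.R2.H68.SubtrDVRLift
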