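import Mathlib
import Groth.Agent.Lib.Helper10SubtrVal

/-!
# Valuative criterion + finitely many irreducible components ⇒ quasi-compact (S19036)

Helper library of helper68.  The proof is an ultrafilter argument: for an ultrafilter `𝓕` on the
closure of a point `ξ`, the "ultralimit" `{a | {x | a ∈ V_x} ∈ 𝓕}` of valuation rings `V_x` of
`κ(ξ)` centred at `x` is again a valuation ring, and its centre is a limit of `𝓕`.
-/

set_option autoImplicit false
universe u

open Topology AlgebraicGeometry CategoryTheory CategoryTheory.Limits IsLocalRing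

namespace Groth.Agent.R2.H68.ValQC

section Affine

/-- A morphism from a local scheme whose closed point lands in an open set lands in it. -/
theorem range_subset_of_closedPoint_mem {Y : Scheme.{u}} {R : Type u} [CommRing R] [IsLocalRing R]
    (m : Spec (CommRingCat.of R) ⟶ Y) (U : Y.Opens) (h : m (closedPoint R) ∈ U) :
    Set.range m ⊆ (U : Set Y) := by
  rintro _ ⟨z, rfl⟩
  exact ((specializes_closedPoint (R := R) z).map m.continuous).mem_open U.isOpen h

/-- A morphism from an affine scheme landing in an affine open factors through it. -/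
theorem exists_factor {Y : Scheme.{u}} {U : Y.Opens} (hU : IsAffineOpen U) {R : CommRingCat.{u}}
    (m : Spec R ⟶ Y) (h : Set.range m ⊆ (U : Set Y)) :
    ∃ γ : Γ(Y, U) ⟶ R, Spec.map γ ≫ hU.fromSpec = m := by
  have h' : Set.range m ⊆ Set.range hU.fromSpec := by rwa [hU.range_fromSpec]
  refine ⟨Spec.preimage (IsOpenImmersion.lift hU.fromSpec m h'), ?_⟩
  rw [Spec.map_preimage, IsOpenImmersion.lift_fac]

/-- Ring maps out of the sections of an affine open are determined by the induced morphism. -/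
theorem eq_of_SpecMap_fromSpec {Y : Scheme.{u}} {U : Y.Opens} (hU : IsAffineOpen U)
    {R : CommRingCat.{u}} (γ₁ γ₂ : Γ(Y, U) ⟶ R)
    (h : Spec.map γ₁ ≫ hU.fromSpec = Spec.map γ₂ ≫ hU.fromSpec) : γ₁ = γ₂ := by
  have : Mono hU.fromSpec := inferInstance
  exact Spec.map_injective ((cancel_mono hU.fromSpec).1 h)

end Affine

section VPoint

variable {X Y : Scheme.{u}} (f : X ⟶ Y) (ξ : X)

/-- A valuation ring `V` of `κ(ξ)` together with a morphism `Spec V ⟶ X` extending the canonical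
point `Spec κ(ξ) ⟶ X`. -/
structure VPoint where
  /-- the valuation ring -/
  V : ValuationSubring (X.residueField ξ)
  /-- the morphism -/
  l : Spec (CommRingCat.of V) ⟶ X
  hl : Spec.map (CommRingCat.ofHom V.subtype) ≫ l = X.fromSpecResidueField ξ

variable {ξ}

/-- The centre of a `VPoint`. -/
noncomputable def VPoint.center (P : VPoint ξ) : X := P.l (closedPoint P.V)

theorem VPoint.specializes (P : VPoint ξ) : ξ ⤳ P.center := by
  let η : Spec (CommRingCat.of P.V) :=
    Spec.map (CommRingCat.ofHom P.V.subtype) (closedPoint (X.residueField ξ))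
  have h1 : η ⤳ closedPoint P.V := specializes_closedPoint (R := P.V) η
  have h2 : P.l η = ξ := by
    have := congrArg (fun m : Spec (X.residueField ξ) ⟶ X => m (closedPoint (X.residueField ξ)))
      P.hl
    change P.l η = _ at this
    rw [this]
    exact Scheme.fromSpecResidueField_apply ξ _
  have h3 : P.l η ⤳ P.l (closedPoint P.V) := h1.map P.l.continuous
  rw [h2] at h3
  exact h3

/-- The canonical map `Γ(X, W) ⟶ κ(ξ)` for an open `W ∋ ξ`. -/
noncomputable def rho {W : X.Opens} (hξ : ξ ∈ W) : Γ(X, W) ⟶ X.residueField ξ :=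
  X.presheaf.germ W ξ hξ ≫ X.residue ξ

theorem rho_spec {W : X.Opens} (hW : IsAffineOpen W) (hξ : ξ ∈ W) :
    Spec.map (rho hξ) ≫ hW.fromSpec = X.fromSpecResidueField ξ := by
  rw [rho, Spec.map_comp, Category.assoc]
  show Spec.map (X.residue ξ) ≫ hW.fromSpecStalk hξ = _
  rw [hW.fromSpecStalk_eq_fromSpecStalk]
  rfl

/-- **Fact A.** If the centre of `P` lies in the affine open `W`, then the image of `Γ(X, W)` in
`κ(ξ)` lies in the valuation ring. -/
theorem VPoint.rho_mem (P : VPoint ξ) {W : X.Opens} (hW : IsAffineOpen W) (hξ : ξ ∈ W)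
    (hc : P.center ∈ W) (b : Γ(X, W)) : (rho hξ) b ∈ P.V := by
  obtain ⟨β, hβ⟩ := exists_factor hW P.l (range_subset_of_closedPoint_mem P.l W hc)
  have h1 : β ≫ CommRingCat.ofHom P.V.subtype = rho hξ := by
    apply eq_of_SpecMap_fromSpec hW
    rw [Spec.map_comp, Category.assoc, hβ, P.hl, rho_spec hW hξ]
  have h2 : (rho hξ) b = P.V.subtype (β b) :=
    (congrArg (fun m : Γ(X, W) ⟶ X.residueField ξ => m b) h1).symm
  rw [h2]
  exact (β b).2

theorem range_fromSpecResidueField_comp_subset {U : Y.Opens} (hξ : f ξ ∈ U) :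
    Set.range (X.fromSpecResidueField ξ ≫ f) ⊆ (U : Set Y) := by
  rintro _ ⟨z, rfl⟩
  rw [Scheme.Hom.comp_apply, Scheme.fromSpecResidueField_apply]
  exact hξ

/-- The canonical map `Γ(Y, U) ⟶ κ(ξ)` for an affine open `U ∋ f ξ`. -/
noncomputable def rhoU {U : Y.Opens} (hU : IsAffineOpen U) (hξ : f ξ ∈ U) :
    Γ(Y, U) ⟶ X.residueField ξ :=
  (exists_factor hU (X.fromSpecResidueField ξ ≫ f)
    (range_fromSpecResidueField_comp_subset f hξ)).choose

theorem rhoU_spec {U : Y.Opens} (hU : IsAffineOpen U) (hξ : f ξ ∈ U) :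
    Spec.map (rhoU f hU hξ) ≫ hU.fromSpec = X.fromSpecResidueField ξ ≫ f :=
  (exists_factor hU (X.fromSpecResidueField ξ ≫ f)
    (range_fromSpecResidueField_comp_subset f hξ)).choose_spec

theorem appLE_rho {U : Y.Opens} (hU : IsAffineOpen U) (hξ : f ξ ∈ U) {W : X.Opens}
    (hW : IsAffineOpen W) (hξW : ξ ∈ W) (e : W ≤ f ⁻¹ᵁ U) :
    f.appLE U W e ≫ rho hξW = rhoU f hU hξ := by
  apply eq_of_SpecMap_fromSpec hU
  rw [Spec.map_comp, Category.assoc, IsAffineOpen.SpecMap_appLE_fromSpec f hU hW e,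
    ← Category.assoc, rho_spec hW hξW, rhoU_spec]

/-- **Fact C.** If the centre of `P` maps into the affine open `U`, the image of `Γ(Y, U)` in `κ(ξ)`
lies in the valuation ring, and the resulting map induces `P.l ≫ f`. -/
theorem VPoint.exists_gamma (P : VPoint ξ) {U : Y.Opens} (hU : IsAffineOpen U) (hξ : f ξ ∈ U)
    (hc : f P.center ∈ U) :
    ∃ γ : Γ(Y, U) ⟶ CommRingCat.of P.V, γ ≫ CommRingCat.ofHom P.V.subtype = rhoU f hU hξ ∧
      Spec.map γ ≫ hU.fromSpec = P.l ≫ f := by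
  obtain ⟨γ, hγ⟩ := exists_factor hU (P.l ≫ f)
    (range_subset_of_closedPoint_mem (P.l ≫ f) U (by rw [Scheme.Hom.comp_apply]; exact hc))
  refine ⟨γ, ?_, hγ⟩
  apply eq_of_SpecMap_fromSpec hU
  rw [Spec.map_comp, Category.assoc, hγ, ← Category.assoc, P.hl, rhoU_spec]

theorem VPoint.rhoU_mem (P : VPoint ξ) {U : Y.Opens} (hU : IsAffineOpen U) (hξ : f ξ ∈ U)
    (hc : f P.center ∈ U) (a : Γ(Y, U)) : (rhoU f hU hξ) a ∈ P.V := by
  obtain ⟨γ, h1, -⟩ := P.exists_gamma f hU hξ hc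
  have h2 : (rhoU f hU hξ) a = P.V.subtype (γ a) :=
    (congrArg (fun m : Γ(Y, U) ⟶ X.residueField ξ => m a) h1).symm
  rw [h2]
  exact (γ a).2

/-- The valuative square attached to a `VPoint`. -/
noncomputable def VPoint.sq (P : VPoint ξ) : ValuativeCommSq f where
  R := P.V
  K := X.residueField ξ
  i₁ := X.fromSpecResidueField ξ
  i₂ := P.l ≫ f
  commSq := ⟨by
    rw [← P.hl, Category.assoc]
    rfl⟩

/-- **Fact B.** If `f` satisfies the uniqueness part of the valuative criterion and the image of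
`Γ(X, W)` in `κ(ξ)` lies in the valuation ring of `P`, then the centre of `P` lies in `W`. -/
theorem VPoint.center_mem_of_rho_mem (hu : ValuativeCriterion.Uniqueness f) (P : VPoint ξ)
    {U : Y.Opens} (hU : IsAffineOpen U) (hξ : f ξ ∈ U) (hc : f P.center ∈ U) {W : X.Opens}
    (hW : IsAffineOpen W) (hξW : ξ ∈ W) (e : W ≤ f ⁻¹ᵁ U)
    (hmem : ∀ b : Γ(X, W), (rho hξW) b ∈ P.V) : P.center ∈ W := by
  let β' : Γ(X, W) ⟶ CommRingCat.of P.V :=
    CommRingCat.ofHom ((rho hξW).hom.codRestrict P.V hmem)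
  have hβ' : β' ≫ CommRingCat.ofHom P.V.subtype = rho hξW := by
    ext b
    rfl
  let l' : Spec (CommRingCat.of P.V) ⟶ X := Spec.map β' ≫ hW.fromSpec
  have hl' : Spec.map (CommRingCat.ofHom P.V.subtype) ≫ l' = X.fromSpecResidueField ξ := by
    rw [← Category.assoc, ← Spec.map_comp, hβ', rho_spec hW hξW]
  obtain ⟨γ, hγ1, hγ2⟩ := P.exists_gamma f hU hξ hc
  have hγ : f.appLE U W e ≫ β' = γ := by
    have h1 : (f.appLE U W e ≫ β') ≫ CommRingCat.ofHom P.V.subtype =
        γ ≫ CommRingCat.ofHom P.V.subtype := by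
      rw [Category.assoc, hβ', appLE_rho f hU hξ hW hξW e, hγ1]
    ext a
    exact congrArg (fun m : Γ(Y, U) ⟶ X.residueField ξ => m a) h1
  have hl'f : l' ≫ f = P.l ≫ f := by
    rw [Category.assoc, ← IsAffineOpen.SpecMap_appLE_fromSpec f hU hW e, ← Category.assoc,
      ← Spec.map_comp, hγ, hγ2]
  have hsub := hu (P.sq f)
  let L₁ : (P.sq f).commSq.LiftStruct := ⟨P.l, P.hl, rfl⟩
  let L₂ : (P.sq f).commSq.LiftStruct := ⟨l', hl', hl'f⟩
  have hL : L₁ = L₂ := Subsingleton.elim _ _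
  have hll : P.l = l' := congrArg CommSq.LiftStruct.l hL
  have hcen : P.center = hW.fromSpec (Spec.map β' (closedPoint P.V)) := by
    show P.l (closedPoint P.V) = _
    rw [hll]
    rfl
  rw [hcen]
  have : hW.fromSpec (Spec.map β' (closedPoint P.V)) ∈ Set.range hW.fromSpec := ⟨_, rfl⟩
  rwa [hW.range_fromSpec] at this

end VPoint

section Ultra

variable {X Y : Scheme.{u}} (f : X ⟶ Y) (ξ : X)

theorem exists_vpoint {x : X} (h : ξ ⤳ x) : ∃ P : VPoint ξ, P.center = x := by
  obtain ⟨A, s, hs1, hs2⟩ :=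
    Groth.Agent.Lib.Helper10.SubtrVal.exists_valuationRing_of_specializes h
  exact ⟨⟨A, s, hs2⟩, hs1⟩

/-- A chosen `VPoint` centred at each specialization of `ξ`. -/
noncomputable def chosen (x : {x : X // ξ ⤳ x}) : VPoint ξ := (exists_vpoint ξ x.2).choose

theorem chosen_center (x : {x : X // ξ ⤳ x}) : (chosen ξ x).center = x.1 :=
  (exists_vpoint ξ x.2).choose_spec

/-- The set of specializations `x` of `ξ` such that `a` lies in the chosen valuation ring at `x`. -/
def memSet (a : X.residueField ξ) : Set X := {x | ∃ h : ξ ⤳ x, a ∈ (chosen ξ ⟨x, h⟩).V}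

variable (𝓕 : Ultrafilter X) (h𝓕 : {x | ξ ⤳ x} ∈ 𝓕)

/-- The ultralimit of the chosen valuation rings along `𝓕`. -/
noncomputable def ultraV : ValuationSubring (X.residueField ξ) where
  carrier := {a | memSet ξ a ∈ 𝓕}
  mul_mem' {a b} ha hb := by
    refine Filter.mem_of_superset (Filter.inter_mem ha hb) ?_
    rintro x ⟨⟨h, h1⟩, ⟨h', h2⟩⟩
    exact ⟨h, mul_mem h1 h2⟩
  one_mem' := Filter.mem_of_superset h𝓕 fun x h => ⟨h, one_mem _⟩
  add_mem' {a b} ha hb := by
    refine Filter.mem_of_superset (Filter.inter_mem ha hb) ?_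
    rintro x ⟨⟨h, h1⟩, ⟨h', h2⟩⟩
    exact ⟨h, add_mem h1 h2⟩
  zero_mem' := Filter.mem_of_superset h𝓕 fun x h => ⟨h, zero_mem _⟩
  neg_mem' {a} ha := by
    refine Filter.mem_of_superset ha ?_
    rintro x ⟨h, h1⟩
    exact ⟨h, neg_mem h1⟩
  mem_or_inv_mem' a := by
    have h1 : memSet ξ a ∪ memSet ξ a⁻¹ ∈ 𝓕 := by
      refine Filter.mem_of_superset h𝓕 ?_
      intro x h
      rcases (chosen ξ ⟨x, h⟩).V.mem_or_inv_mem a with h2 | h2
      · exact Or.inl ⟨h, h2⟩
      · exact Or.inr ⟨h, h2⟩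
    exact Ultrafilter.union_mem_iff.1 h1

theorem mem_ultraV (a : X.residueField ξ) : a ∈ ultraV ξ 𝓕 h𝓕 ↔ memSet ξ a ∈ 𝓕 := Iff.rfl

variable {ξ} in
/-- The existence part of the valuative criterion gives a centre for the ultralimit. -/
theorem exists_ultra_vpoint (he : ValuativeCriterion.Existence f) {U : Y.Opens}
    (hU : IsAffineOpen U) (hξ : f ξ ∈ U) (hT : {x | ξ ⤳ x} ∩ f ⁻¹' U ∈ 𝓕) :
    ∃ P : VPoint ξ, (∀ a, a ∈ P.V ↔ memSet ξ a ∈ 𝓕) ∧ f P.center ∈ U := by
  have h𝓕 : {x | ξ ⤳ x} ∈ 𝓕 := Filter.mem_of_superset hT Set.inter_subset_left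
  have hmem : ∀ a : Γ(Y, U), (rhoU f hU hξ) a ∈ ultraV ξ 𝓕 h𝓕 := by
    intro a
    refine Filter.mem_of_superset hT ?_
    rintro x ⟨h, hx⟩
    refine ⟨h, (chosen ξ ⟨x, h⟩).rhoU_mem f hU hξ ?_ a⟩
    rw [chosen_center]
    exact hx
  let γ : Γ(Y, U) ⟶ CommRingCat.of (ultraV ξ 𝓕 h𝓕) :=
    CommRingCat.ofHom ((rhoU f hU hξ).hom.codRestrict (ultraV ξ 𝓕 h𝓕) hmem)
  have hγ : γ ≫ CommRingCat.ofHom (ultraV ξ 𝓕 h𝓕).subtype = rhoU f hU hξ := by
    ext a
    rfl
  let S : ValuativeCommSq f :=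
    { R := ultraV ξ 𝓕 h𝓕
      K := X.residueField ξ
      i₁ := X.fromSpecResidueField ξ
      i₂ := Spec.map γ ≫ hU.fromSpec
      commSq := ⟨by
        rw [← rhoU_spec f hU hξ, ← hγ, Spec.map_comp, Category.assoc]
        rfl⟩ }
  obtain ⟨L⟩ := (he S).exists_lift
  refine ⟨⟨ultraV ξ 𝓕 h𝓕, L.l, L.fac_left⟩, fun a => Iff.rfl, ?_⟩
  have h1 : f (L.l (closedPoint (ultraV ξ 𝓕 h𝓕))) =
      hU.fromSpec (Spec.map γ (closedPoint (ultraV ξ 𝓕 h𝓕))) :=
    congrArg (fun m : Spec (CommRingCat.of (ultraV ξ 𝓕 h𝓕)) ⟶ Y =>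
      m (closedPoint (ultraV ξ 𝓕 h𝓕))) L.fac_right
  show f (L.l (closedPoint (ultraV ξ 𝓕 h𝓕))) ∈ U
  rw [h1]
  have : hU.fromSpec (Spec.map γ (closedPoint (ultraV ξ 𝓕 h𝓕))) ∈ Set.range hU.fromSpec :=
    ⟨_, rfl⟩
  rwa [hU.range_fromSpec] at this

end Ultra

section Main

/-- For a ring map of finite type there are finitely many elements of the target such that a subring
of any ring receiving the target contains the whole image as soon as it contains the image of the
source and of these elements. -/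
theorem exists_finset_forall_mem {A B K : Type*} [CommRing A] [CommRing B] [CommRing K]
    (φ : A →+* B) (hφ : φ.FiniteType) :
    ∃ s : Finset B, ∀ (ρ : B →+* K) (V : Subring K), (∀ a, ρ (φ a) ∈ V) → (∀ b ∈ s, ρ b ∈ V) →
      ∀ b, ρ b ∈ V := by
  algebraize [φ]
  obtain ⟨s, hs⟩ := (inferInstance : Algebra.FiniteType A B).out
  refine ⟨s, fun ρ V h1 h2 b => ?_⟩
  have hb : b ∈ Algebra.adjoin A (s : Set B) := by rw [hs]; trivial
  induction hb using Algebra.adjoin_induction with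
  | mem x hx => exact h2 x hx
  | algebraMap r => exact h1 r
  | add x y _ _ hx hy => rw [map_add]; exact V.add_mem hx hy
  | mul x y _ _ hx hy => rw [map_mul]; exact V.mul_mem hx hy

variable {X Y : Scheme.{u}} (f : X ⟶ Y)

/-- The set of specializations of a point lying over an affine open is compact, for a morphism
locally of finite type satisfying the valuative criterion. -/
theorem isCompact_specializations_inter [LocallyOfFiniteType f]
    (he : ValuativeCriterion.Existence f) (hu : ValuativeCriterion.Uniqueness f) {U : Y.Opens}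
    (hU : IsAffineOpen U) (ξ : X) : IsCompact ({x | ξ ⤳ x} ∩ f ⁻¹' U) := by
  by_cases hξ : f ξ ∈ U
  swap
  · have : {x | ξ ⤳ x} ∩ f ⁻¹' U = ∅ := by
      ext x
      simp only [Set.mem_inter_iff, Set.mem_ofPred_eq, Set.mem_preimage, Set.mem_empty_iff_false,
        iff_false, not_and]
      intro h hx
      exact hξ ((h.map f.continuous).mem_open U.isOpen hx)
    rw [this]
    exact isCompact_empty
  rw [isCompact_iff_ultrafilter_le_nhds']
  intro 𝓕 hT
  obtain ⟨P, hPV, hPc⟩ := exists_ultra_vpoint f 𝓕 he hU hξ hT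
  refine ⟨P.center, ⟨P.specializes, hPc⟩, ?_⟩
  intro N hN
  obtain ⟨N', hN'N, hN'o, hcN'⟩ := mem_nhds_iff.1 hN
  have hO : IsOpen (N' ∩ f ⁻¹' U) := hN'o.inter (U.isOpen.preimage f.continuous)
  obtain ⟨_, ⟨W, hW : IsAffineOpen W, rfl⟩, hcW, hWO⟩ :=
    X.isBasis_affineOpens.exists_subset_of_mem_open
      (show P.center ∈ N' ∩ f ⁻¹' U from ⟨hcN', hPc⟩) hO
  have hξW : ξ ∈ W := P.specializes.mem_open W.isOpen hcW
  have e : W ≤ f ⁻¹ᵁ U := fun x hx => (hWO hx).2
  obtain ⟨s, hs⟩ := exists_finset_forall_mem (K := X.residueField ξ) (f.appLE U W e).hom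
    (f.finiteType_appLE hU hW e)
  have hmemW : ∀ b : Γ(X, W), memSet ξ ((rho hξW) b) ∈ 𝓕 := fun b =>
    (hPV _).1 (P.rho_mem hW hξW hcW b)
  have hM : (⋂ b ∈ s, memSet ξ ((rho hξW) b)) ∩ ({x | ξ ⤳ x} ∩ f ⁻¹' U) ∈ 𝓕 := by
    refine Filter.inter_mem ?_ hT
    rw [Filter.biInter_finset_mem]
    exact fun b _ => hmemW b
  refine Filter.mem_of_superset hM ?_
  rintro x ⟨hx1, hx2, hx3⟩
  have hcx : (chosen ξ ⟨x, hx2⟩).center = x := chosen_center ξ ⟨x, hx2⟩
  have hcU : f (chosen ξ ⟨x, hx2⟩).center ∈ U := by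
    rw [hcx]
    exact hx3
  suffices h : (chosen ξ ⟨x, hx2⟩).center ∈ W by
    rw [hcx] at h
    exact hN'N (hWO h).1
  apply (chosen ξ ⟨x, hx2⟩).center_mem_of_rho_mem f hu hU hξ hcU hW hξW e
  apply hs (rho hξW).hom (chosen ξ ⟨x, hx2⟩).V.toSubring
  · intro a
    have h1 : (rho hξW) ((f.appLE U W e) a) = (rhoU f hU hξ) a :=
      congrArg (fun m : Γ(Y, U) ⟶ X.residueField ξ => m a) (appLE_rho f hU hξ hW hξW e)
    show (rho hξW) ((f.appLE U W e) a) ∈ (chosen ξ ⟨x, hx2⟩).V
    rw [h1]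
    exact (chosen ξ ⟨x, hx2⟩).rhoU_mem f hU hξ hcU a
  · intro b hb
    have h2 : x ∈ memSet ξ ((rho hξW) b) := by
      have := Set.mem_iInter.1 hx1 b
      exact Set.mem_iInter.1 this hb
    obtain ⟨h', h3⟩ := h2
    exact h3

/-- **S19036.** -/
theorem quasiCompact_of_valuativeCriterion [LocallyOfFiniteType f] (hf : ValuativeCriterion f)
    (hX : (irreducibleComponents ↥X).Finite) : QuasiCompact f := by
  rw [quasiCompact_iff_forall_isAffineOpen]
  intro U hU
  have hcover : ((f ⁻¹ᵁ U : X.Opens) : Set X) =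
      ⋃ Z ∈ irreducibleComponents ↥X, (Z ∩ f ⁻¹' U) := by
    ext x
    simp only [Set.mem_iUnion, Set.mem_inter_iff, exists_prop]
    constructor
    · intro hx
      exact ⟨irreducibleComponent x, irreducibleComponent_mem_irreducibleComponents x,
        mem_irreducibleComponent, hx⟩
    · rintro ⟨Z, -, -, hx⟩
      exact hx
  rw [hcover]
  apply hX.isCompact_biUnion
  intro Z hZ
  obtain ⟨ξ, hξ⟩ := QuasiSober.sober hZ.prop (isClosed_of_mem_irreducibleComponents Z hZ)
  have hZeq : Z = {x | ξ ⤳ x} := by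
    ext x
    rw [← hξ.def]
    exact specializes_iff_mem_closure.symm
  rw [hZeq]
  exact isCompact_specializations_inter f hf.existence hf.uniqueness hU ξ

end Main

end Groth.Agent.R2.H68.ValQC
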