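import Groth.Prelude.Def_Flat
import Mathlib

/-!
Helper library (helper68): weak subintegral closure, universal homeomorphisms of affine schemes.
-/

set_option autoImplicit false
universe u
open CategoryTheory CategoryTheory.Limits AlgebraicGeometry TensorProduct

namespace Groth.Agent.R2.H68.WSC

/-- universal homeomorphism implies universally injective -/
theorem universallyInjective_of_isUnivHomeo {X Y : Scheme.{u}} (f : X ⟶ Y)
    (h : FlatMor.IsUnivHomeo f) : UniversallyInjective f := by
  rw [universallyInjective_iff]
  refine MorphismProperty.universally_mono ?_ _ h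
  intro X' Y' g hg
  exact hg.injective

/-- If `Spec S ⟶ Spec R` is universally injective then the kernel of the multiplication
`S ⊗[R] S → S` consists of nilpotent elements. -/
theorem isNilpotent_of_mem_ker_lmul' (R S : Type u) [CommRing R] [CommRing S] [Algebra R S]
    (h : UniversallyInjective (Spec.map (CommRingCat.ofHom (algebraMap R S))))
    (x : S ⊗[R] S) (hx : Algebra.TensorProduct.lmul' R (S := S) x = 0) : IsNilpotent x := by
  have hd : Surjective (pullback.diagonal (Spec.map (CommRingCat.ofHom (algebraMap R S)))) :=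
    (UniversallyInjective.iff_diagonal _).mp h
  rw [diagonal_SpecMap] at hd
  have hs : Surjective (Spec.map (CommRingCat.ofHom
      (Algebra.TensorProduct.lmul' R : S ⊗[R] S →ₐ[R] S).toRingHom)) :=
    (MorphismProperty.cancel_right_of_respectsIso @Surjective _ _).mp hd
  rw [← mem_nilradical, nilradical_eq_sInf, Ideal.mem_sInf]
  intro p hp
  have hp' : p.IsPrime := hp
  obtain ⟨q, hq⟩ := hs.surj (⟨p, hp'⟩ : PrimeSpectrum (S ⊗[R] S))
  have : p = Ideal.comap (Algebra.TensorProduct.lmul' R : S ⊗[R] S →ₐ[R] S).toRingHom q.asIdeal := by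
    have := congrArg PrimeSpectrum.asIdeal hq
    exact this.symm
  rw [this, Ideal.mem_comap]
  change (Algebra.TensorProduct.lmul' R (S := S)) x ∈ _
  rw [hx]
  exact zero_mem _


/-- Extension of a ring homomorphism into an algebraically closed field along an injective integral
ring extension. -/
theorem exists_ringHom_extension {D B : Type u} [CommRing D] [CommRing B] [Algebra D B]
    [Algebra.IsIntegral D B] (hinj : Function.Injective (algebraMap D B))
    (L : Type u) [Field L] [IsAlgClosed L] (φ : D →+* L) :
    ∃ ψ : B →+* L, ψ.comp (algebraMap D B) = φ := by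
  classical
  let p : Ideal D := RingHom.ker φ
  have hp : p.IsPrime := RingHom.ker_isPrime φ
  have hker : (⊥ : Ideal B).comap (algebraMap D B) ≤ p := by
    intro x hx
    rw [Ideal.mem_comap, Ideal.mem_bot] at hx
    have : x = 0 := hinj (by rw [hx, map_zero])
    rw [this]; exact zero_mem _
  obtain ⟨q, -, hq, hqp⟩ := Ideal.exists_ideal_over_prime_of_isIntegral p (⊥ : Ideal B) hker
  have hlo : q.LiesOver p := (Ideal.liesOver_iff _ _).mpr hqp.symm
  let _ : Algebra (D ⧸ p) L := (RingHom.kerLift φ).toAlgebra
  have hinjL : Function.Injective (algebraMap (D ⧸ p) L) := RingHom.kerLift_injective φ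
  have : IsDomain (D ⧸ p) := Ideal.Quotient.isDomain p
  have : IsDomain (B ⧸ q) := Ideal.Quotient.isDomain q
  have : Module.IsTorsionFree (D ⧸ p) L := Module.isTorsionFree_iff_algebraMap_injective.mpr hinjL
  have : FaithfulSMul (D ⧸ p) (B ⧸ q) := Ideal.Quotient.instFaithfulSMul q p
  have : Module.IsTorsionFree (D ⧸ p) (B ⧸ q) := FaithfulSMul.to_isTorsionFree _ _
  have : Algebra.IsAlgebraic (D ⧸ p) (B ⧸ q) := Algebra.IsIntegral.isAlgebraic
  let f : (B ⧸ q) →ₐ[D ⧸ p] L := IsAlgClosed.lift
  refine ⟨f.toRingHom.comp (Ideal.Quotient.mk q), ?_⟩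
  ext d
  simp only [RingHom.comp_apply]
  have : (Ideal.Quotient.mk q) (algebraMap D B d) = algebraMap (D ⧸ p) (B ⧸ q) (Ideal.Quotient.mk p d) := rfl
  rw [this]
  change f (algebraMap (D ⧸ p) (B ⧸ q) (Ideal.Quotient.mk p d)) = φ d
  rw [f.commutes]
  rfl


/-- An injective integral ring map such that ring homomorphisms to fields are determined by their
restriction induces a universal homeomorphism on spectra. -/
theorem isUnivHomeo_SpecMap_of_isIntegral (R S : Type u) [CommRing R] [CommRing S] [Algebra R S]
    [Algebra.IsIntegral R S] (hinj : Function.Injective (algebraMap R S))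
    (hrad : ∀ (K : Type u) [Field K] (φ ψ : S →+* K),
      φ.comp (algebraMap R S) = ψ.comp (algebraMap R S) → φ = ψ) :
    FlatMor.IsUnivHomeo (Spec.map (CommRingCat.ofHom (algebraMap R S))) := by
  set f := Spec.map (CommRingCat.ofHom (algebraMap R S)) with hf
  have hI : IsIntegralHom f := by
    rw [hf, IsIntegralHom.SpecMap_iff]
    exact algebraMap_isIntegral_iff.mpr inferInstance
  have hUC : UniversallyClosed f := inferInstance
  have hS : Surjective f := by
    constructor
    intro x
    have hker : (⊥ : Ideal S).comap (algebraMap R S) ≤ x.asIdeal := by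
      intro y hy
      rw [Ideal.mem_comap, Ideal.mem_bot] at hy
      have : y = 0 := hinj (by rw [hy, map_zero])
      rw [this]; exact zero_mem _
    obtain ⟨q, -, hq, hqp⟩ := Ideal.exists_ideal_over_prime_of_isIntegral x.asIdeal (⊥ : Ideal S) hker
    refine ⟨(⟨q, hq⟩ : PrimeSpectrum S), ?_⟩
    exact PrimeSpectrum.ext hqp
  have hUI : UniversallyInjective f := by
    refine ((tfae_universallyInjective f).out 0 1).mpr ?_
    intro K _ g₁ g₂ h
    obtain ⟨φ₁, rfl⟩ := Spec.map_surjective g₁
    obtain ⟨φ₂, rfl⟩ := Spec.map_surjective g₂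
    simp only [hf, ← Spec.map_comp] at h
    have h' := Spec.map_injective h
    have h'' : φ₁.hom.comp (algebraMap R S) = φ₂.hom.comp (algebraMap R S) := by
      have := congrArg CommRingCat.Hom.hom h'
      simpa using this
    have := hrad K φ₁.hom φ₂.hom h''
    congr 1
    exact CommRingCat.hom_ext this
  intro X' Y' i₁ i₂ f' hpb
  have h1 : UniversallyInjective f' := MorphismProperty.of_isPullback hpb.flip hUI
  have h2 : UniversallyClosed f' := MorphismProperty.of_isPullback hpb.flip hUC
  have h3 : Surjective f' := MorphismProperty.of_isPullback hpb.flip hS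
  change IsHomeomorph f'.base
  rw [isHomeomorph_iff_continuous_isClosedMap_bijective]
  exact ⟨f'.continuous, f'.isClosedMap, f'.injective, f'.surjective⟩

end Groth.Agent.R2.H68.WSC
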