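import Groth.Agent.R2.H68WSC
import Groth.Agent.Lib.Helper3EtRed
import Groth.Agent.S14795

/-!
Helper library (helper68): weak subintegral closure and flat base change (localization / etale).
-/

set_option autoImplicit false
universe u
open CategoryTheory CategoryTheory.Limits AlgebraicGeometry TensorProduct

namespace Groth.Agent.R2.H68.WSCb

open Groth.Agent.R2.H68.WSC

/-- universal homeomorphism implies universally closed -/
theorem universallyClosed_of_isUnivHomeo {X Y : Scheme.{u}} (f : X ⟶ Y)
    (h : FlatMor.IsUnivHomeo f) : UniversallyClosed f := by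
  rw [universallyClosed_iff]
  refine MorphismProperty.universally_mono ?_ _ h
  intro X' Y' g hg
  exact hg.isClosedMap

/-- A ring map inducing a universal homeomorphism on spectra is integral. -/
theorem isIntegral_of_isUnivHomeo (R S : Type u) [CommRing R] [CommRing S] [Algebra R S]
    (h : FlatMor.IsUnivHomeo (Spec.map (CommRingCat.ofHom (algebraMap R S)))) :
    Algebra.IsIntegral R S := by
  have h1 := universallyClosed_of_isUnivHomeo _ h
  have h2 : IsIntegralHom (Spec.map (CommRingCat.ofHom (algebraMap R S))) :=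
    IsIntegralHom.iff_universallyClosed_and_isAffineHom.mpr ⟨h1, inferInstance⟩
  rw [IsIntegralHom.SpecMap_iff] at h2
  exact algebraMap_isIntegral_iff.mp h2

theorem isStableUnderBaseChange_isUnivHomeo :
    MorphismProperty.IsStableUnderBaseChange FlatMor.IsUnivHomeo.{u} := by
  unfold FlatMor.IsUnivHomeo
  infer_instance

theorem respectsIso_isUnivHomeo : MorphismProperty.RespectsIso FlatMor.IsUnivHomeo.{u} := by
  have := isStableUnderBaseChange_isUnivHomeo.{u}
  infer_instance

/-- universal homeomorphisms are stable under base change -/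
theorem isUnivHomeo_of_isPullback {X Y X' Y' : Scheme.{u}} {f : X ⟶ Y} {f' : X' ⟶ Y'}
    {i₁ : X' ⟶ X} {i₂ : Y' ⟶ Y} (sq : IsPullback i₁ f' f i₂) (h : FlatMor.IsUnivHomeo f) :
    FlatMor.IsUnivHomeo f' :=
  have := isStableUnderBaseChange_isUnivHomeo.{u}
  MorphismProperty.of_isPullback (P := FlatMor.IsUnivHomeo) sq h

/-- transport of universal homeomorphisms along an isomorphism of algebras -/
theorem isUnivHomeo_of_algEquiv (R S S' : Type u) [CommRing R] [CommRing S] [CommRing S']
    [Algebra R S] [Algebra R S'] (e : S ≃ₐ[R] S')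
    (h : FlatMor.IsUnivHomeo (Spec.map (CommRingCat.ofHom (algebraMap R S)))) :
    FlatMor.IsUnivHomeo (Spec.map (CommRingCat.ofHom (algebraMap R S'))) := by
  have heq : Spec.map (CommRingCat.ofHom (algebraMap R S')) =
      Spec.map (CommRingCat.ofHom (e : S →+* S')) ≫ Spec.map (CommRingCat.ofHom (algebraMap R S)) := by
    rw [← Spec.map_comp]
    congr 1
    ext x
    simp
  have hiso : IsIso (Spec.map (CommRingCat.ofHom (e : S →+* S'))) := by
    have : IsIso (CommRingCat.ofHom (e : S →+* S')) :=
      (e.toRingEquiv.toCommRingCatIso).isIso_hom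
    infer_instance
  rw [heq]
  have := respectsIso_isUnivHomeo.{u}
  exact (MorphismProperty.cancel_left_of_respectsIso FlatMor.IsUnivHomeo _ _).mpr h


/-- base change of a universal homeomorphism of affine schemes, in tensor product form -/
theorem isUnivHomeo_tensorProduct (A A' C : Type u) [CommRing A] [CommRing A'] [CommRing C]
    [Algebra A A'] [Algebra A C]
    (h : FlatMor.IsUnivHomeo (Spec.map (CommRingCat.ofHom (algebraMap A C)))) :
    FlatMor.IsUnivHomeo (Spec.map (CommRingCat.ofHom (algebraMap A' (A' ⊗[A] C)))) := by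
  have sq := isPullback_SpecMap_of_isPushout _ _ _ _ (CommRingCat.isPushout_tensorProduct A A' C)
  exact isUnivHomeo_of_isPullback sq.flip h


theorem map_id_val_injective (A B A' : Type u) [CommRing A] [CommRing B] [CommRing A']
    [Algebra A B] [Algebra A A'] [Module.Flat A A'] (C : Subalgebra A B) :
    Function.Injective (Algebra.TensorProduct.map (AlgHom.id A' A') C.val) :=
  Module.Flat.lTensor_preserves_injective_linearMap (M := A') C.val.toLinearMap
    Subtype.val_injective

/-- For flat `A → A'`, the image of `A' ⊗ C` in `A' ⊗ B` is universally homeomorphic to `A'`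
when `C` is so over `A`. -/
theorem isUnivHomeo_range_map (A B A' : Type u) [CommRing A] [CommRing B] [CommRing A']
    [Algebra A B] [Algebra A A'] [Module.Flat A A'] (C : Subalgebra A B)
    (hC : FlatMor.IsUnivHomeo (Spec.map (CommRingCat.ofHom (algebraMap A C)))) :
    FlatMor.IsUnivHomeo (Spec.map (CommRingCat.ofHom (algebraMap A'
      (Algebra.TensorProduct.map (AlgHom.id A' A') C.val).range))) := by
  let e : (A' ⊗[A] C) ≃ₐ[A'] (Algebra.TensorProduct.map (AlgHom.id A' A') C.val).range :=
    AlgEquiv.ofInjective _ (map_id_val_injective A B A' C)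
  exact isUnivHomeo_of_algEquiv A' _ _ e (isUnivHomeo_tensorProduct A A' C hC)


/-- An element `k` of the integral closure of `A` in `B` such that `k ⊗ 1 - 1 ⊗ k` is nilpotent lies
in the weak subintegral closure. -/
theorem mem_of_isNilpotent_integralClosure {A B : Type u} [CommRing A] [CommRing B] [Algebra A B]
    (hinj : Function.Injective (algebraMap A B)) (C : Subalgebra A B)
    (hmax : ∀ D : Subalgebra A B,
      FlatMor.IsUnivHomeo (Spec.map (CommRingCat.ofHom (algebraMap A D))) → D ≤ C)
    (k : integralClosure A B)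
    (hk : IsNilpotent (k ⊗ₜ[A] (1 : integralClosure A B) - (1 : integralClosure A B) ⊗ₜ[A] k)) :
    (k : B) ∈ C := by
  have hinj' : Function.Injective (algebraMap A (integralClosure A B)) := by
    intro x y hxy
    apply hinj
    have := congrArg (integralClosure A B).val hxy
    simpa using this
  have h1 := Groth.Agent.S14795.aux_backward hinj' k hk
  let e := Subalgebra.equivMapOfInjective (Algebra.adjoin A {k}) (integralClosure A B).val
    Subtype.val_injective
  have h2 := isUnivHomeo_of_algEquiv A _ _ e h1
  have h3 := hmax _ h2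
  apply h3
  exact ⟨k, Algebra.subset_adjoin rfl, rfl⟩



section Diff

variable (A E : Type u) [CommRing A] [CommRing E] [Algebra A E]

/-- the reduction of `E ⊗[A] E` -/
abbrev RdT : Type u := (E ⊗[A] E) ⧸ nilradical (E ⊗[A] E)

instance : IsReduced (RdT A E) := (Ideal.isRadical_iff_quotient_reduced _).mp
    (show ((0 : Ideal (E ⊗[A] E)).radical).IsRadical from Ideal.radical_isRadical _)

/-- `e ↦ e ⊗ 1` modulo nilpotents -/
noncomputable def gL : E →ₐ[A] RdT A E :=
  (Ideal.Quotient.mkₐ A (nilradical (E ⊗[A] E))).comp Algebra.TensorProduct.includeLeft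

/-- `e ↦ 1 ⊗ e` modulo nilpotents -/
noncomputable def gR : E →ₐ[A] RdT A E :=
  (Ideal.Quotient.mkₐ A (nilradical (E ⊗[A] E))).comp Algebra.TensorProduct.includeRight

/-- `e ↦ e ⊗ 1 - 1 ⊗ e` modulo nilpotents -/
noncomputable def gD : E →ₗ[A] RdT A E := (gL A E).toLinearMap - (gR A E).toLinearMap

theorem isNilpotent_of_mem_ker_gD (k : LinearMap.ker (gD A E)) :
    IsNilpotent ((k : E) ⊗ₜ[A] (1 : E) - (1 : E) ⊗ₜ[A] (k : E)) := by
  have h1 : gD A E k = 0 := k.2
  have h1' : gL A E (k : E) - gR A E (k : E) = 0 := h1
  have h2 : (Ideal.Quotient.mkₐ A (nilradical (E ⊗[A] E)))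
      ((k : E) ⊗ₜ[A] (1 : E) - (1 : E) ⊗ₜ[A] (k : E)) = 0 := by
    rw [map_sub]; exact h1'
  have h3 : ((k : E) ⊗ₜ[A] (1 : E) - (1 : E) ⊗ₜ[A] (k : E)) ∈ nilradical (E ⊗[A] E) :=
    Ideal.Quotient.eq_zero_iff_mem.mp h2
  exact mem_nilradical.mp h3

variable (A' : Type u) [CommRing A'] [Algebra A A']

theorem lTensor_gD_apply (x : A' ⊗[A] E) :
    ((gD A E).lTensor A') x =
      Algebra.TensorProduct.map (AlgHom.id A' A') (gL A E) x -
        Algebra.TensorProduct.map (AlgHom.id A' A') (gR A E) x := by
  induction x using TensorProduct.induction_on with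
  | zero => simp
  | tmul a b => simp [gD]
  | add x y hx hy => simp only [map_add, hx, hy]; abel

/-- an element of a universally homeomorphic subalgebra of `A' ⊗ E` is killed by `1 ⊗ gD` as soon
as `A' ⊗ (E ⊗ E)_red` is reduced -/
theorem lTensor_gD_eq_zero (hred : IsReduced (A' ⊗[A] RdT A E))
    (C'' : Subalgebra A' (A' ⊗[A] E))
    (hC'' : FlatMor.IsUnivHomeo (Spec.map (CommRingCat.ofHom (algebraMap A' C''))))
    (x : A' ⊗[A] E) (hx : x ∈ C'') : ((gD A E).lTensor A') x = 0 := by
  have hnil := Groth.Agent.S14795.aux_forward C'' hC'' x hx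
  have h2 := hnil.map (Algebra.TensorProduct.productMap (S := A' ⊗[A] RdT A E)
    (Algebra.TensorProduct.map (AlgHom.id A' A') (gL A E))
    (Algebra.TensorProduct.map (AlgHom.id A' A') (gR A E)))
  rw [lTensor_gD_apply]
  have h3 : IsNilpotent (Algebra.TensorProduct.map (AlgHom.id A' A') (gL A E) x -
        Algebra.TensorProduct.map (AlgHom.id A' A') (gR A E) x) := by simpa using h2
  exact h3.eq_zero

end Diff


/-- Key inclusion: elements of the weak subintegral closure of `A'` in `A' ⊗ B` come from
`A' ⊗ C`, provided `A'` is flat over `A`, base change along `A → A'` commutes with integral closure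
and preserves reducedness. -/
theorem mem_range_of_mem (A B A' : Type u) [CommRing A] [CommRing B] [CommRing A']
    [Algebra A B] [Algebra A A'] [Module.Flat A A']
    (hic : Function.Surjective (TensorProduct.toIntegralClosure A A' B))
    (hred : ∀ (R : Type u) [CommRing R] [Algebra A R] [IsReduced R], IsReduced (A' ⊗[A] R))
    (hinj : Function.Injective (algebraMap A B)) (C : Subalgebra A B)
    (hmax : ∀ D : Subalgebra A B,
      FlatMor.IsUnivHomeo (Spec.map (CommRingCat.ofHom (algebraMap A D))) → D ≤ C)
    (C' : Subalgebra A' (A' ⊗[A] B))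
    (hC' : FlatMor.IsUnivHomeo (Spec.map (CommRingCat.ofHom (algebraMap A' C'))))
    (c' : A' ⊗[A] B) (hc' : c' ∈ C') :
    c' ∈ Set.range (Algebra.TensorProduct.map (AlgHom.id A A') C.val) := by
  classical
  let J : A' ⊗[A] (integralClosure A B) →ₐ[A'] A' ⊗[A] B :=
    Algebra.TensorProduct.map (AlgHom.id A' A') (integralClosure A B).val
  have hJinj : Function.Injective J := map_id_val_injective A B A' (integralClosure A B)
  have hintC' : Algebra.IsIntegral A' C' := isIntegral_of_isUnivHomeo A' C' hC'
  have hrange : ∀ z ∈ C', ∃ x, J x = z := by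
    intro z hz
    have hz' : IsIntegral A' z := by
      have := Algebra.IsIntegral.isIntegral (R := A') (⟨z, hz⟩ : C')
      exact (isIntegral_algHom_iff C'.val Subtype.val_injective).mpr this
    obtain ⟨x, hx⟩ := hic ⟨z, hz'⟩
    exact ⟨x, congrArg Subtype.val hx⟩
  let C'' : Subalgebra A' (A' ⊗[A] (integralClosure A B)) := C'.comap J
  let e0 : C'' →ₐ[A'] C' := (J.comp C''.val).codRestrict C' (fun x => x.2)
  have he0 : Function.Bijective e0 := by
    constructor
    · intro x y hxy
      apply Subtype.ext
      apply hJinj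
      exact congrArg Subtype.val hxy
    · intro z
      obtain ⟨x, hx⟩ := hrange z.1 z.2
      refine ⟨⟨x, ?_⟩, Subtype.ext hx⟩
      change J x ∈ C'
      rw [hx]; exact z.2
  let e : C'' ≃ₐ[A'] C' := AlgEquiv.ofBijective e0 he0
  have hC'' := isUnivHomeo_of_algEquiv A' ↥C' ↥C'' e.symm hC'
  have hex : Function.Exact ((LinearMap.ker (gD A (integralClosure A B))).subtype.lTensor A')
      ((gD A (integralClosure A B)).lTensor A') :=
    Module.Flat.lTensor_exact A' (LinearMap.exact_subtype_ker_map (gD A (integralClosure A B)))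
  obtain ⟨x, hx⟩ := hrange c' hc'
  have hxC'' : x ∈ C'' := by
    change J x ∈ C'
    rw [hx]; exact hc'
  have hx0 := lTensor_gD_eq_zero A (integralClosure A B) A' (hred _) C'' hC'' x hxC''
  obtain ⟨y, hy⟩ := (hex x).mp hx0
  have hker : ∀ k : LinearMap.ker (gD A (integralClosure A B)),
      ((k : integralClosure A B) : B) ∈ C := by
    intro k
    exact mem_of_isNilpotent_integralClosure hinj C hmax k
      (isNilpotent_of_mem_ker_gD A (integralClosure A B) k)
  let κ : LinearMap.ker (gD A (integralClosure A B)) →ₗ[A] C :=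
    LinearMap.codRestrict (Subalgebra.toSubmodule C)
      ((integralClosure A B).val.toLinearMap ∘ₗ
        (LinearMap.ker (gD A (integralClosure A B))).subtype) (fun k => hker k)
  have hcomp : ∀ y : A' ⊗[A] (LinearMap.ker (gD A (integralClosure A B))),
      (Algebra.TensorProduct.map (AlgHom.id A A') C.val) ((κ.lTensor A') y) =
        J (((LinearMap.ker (gD A (integralClosure A B))).subtype.lTensor A') y) := by
    intro y
    induction y using TensorProduct.induction_on with
    | zero => simp
    | tmul a b => rfl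
    | add y z hy hz => simp only [map_add, hy, hz]
  refine ⟨(κ.lTensor A') y, ?_⟩
  rw [hcomp, hy, hx]

end Groth.Agent.R2.H68.WSCb
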