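import Groth.Agent.S14856
import Mathlib.RingTheory.WittVector.Truncated
import Mathlib.RingTheory.AdicCompletion.Basic

/-!
Helper library (helper68): the ideals `Km m I = {x ∈ W(R) | x_i ∈ I for i < m}` of the ring of
Witt vectors, division by `p^u` in them over `p`-torsion-free rings, and `p`-adic limits.
-/

set_option autoImplicit false
universe u

namespace Groth.Agent.R2.H68.WittTr

open WittVector

variable (p : ℕ) [Fact p.Prime] (R : Type u) [CommRing R]

/-- Witt vectors whose first `m` components lie in the ideal `I` -/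
noncomputable def Km (m : ℕ) (I : Ideal R) : Ideal (WittVector p R) :=
  RingHom.ker ((truncate m).comp (WittVector.map (Ideal.Quotient.mk I)) :
    WittVector p R →+* TruncatedWittVector p m (R ⧸ I))

variable {p R}

theorem sub_mem_Km_iff (m : ℕ) (I : Ideal R) (x y : WittVector p R) :
    x - y ∈ Km p R m I ↔ ∀ i < m, x.coeff i - y.coeff i ∈ I := by
  rw [Km, RingHom.mem_ker, map_sub, sub_eq_zero]
  constructor
  · intro h i hi
    have h1 := congrArg (fun w => TruncatedWittVector.coeff ⟨i, hi⟩ w) h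
    simp only [RingHom.comp_apply, coeff_truncate, WittVector.map_coeff] at h1
    exact Ideal.Quotient.eq.mp h1
  · intro h
    ext i
    simp only [RingHom.comp_apply, coeff_truncate, WittVector.map_coeff]
    exact Ideal.Quotient.eq.mpr (h i i.2)

theorem mem_Km_iff (m : ℕ) (I : Ideal R) (x : WittVector p R) :
    x ∈ Km p R m I ↔ ∀ i < m, x.coeff i ∈ I := by
  have := sub_mem_Km_iff m I x 0
  simpa using this

theorem Km_mono (m : ℕ) {I J : Ideal R} (h : I ≤ J) : Km p R m I ≤ Km p R m J := by
  intro x hx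
  rw [mem_Km_iff] at hx ⊢
  exact fun i hi => h (hx i hi)

theorem Km_anti {m m' : ℕ} (h : m ≤ m') (I : Ideal R) : Km p R m' I ≤ Km p R m I := by
  intro x hx
  rw [mem_Km_iff] at hx ⊢
  exact fun i hi => hx i (lt_of_lt_of_le hi h)

omit [Fact p.Prime] in
theorem span_pow_le {s t : ℕ} (h : s ≤ t) :
    Ideal.span {(p : R) ^ t} ≤ Ideal.span {(p : R) ^ s} :=
  Ideal.span_singleton_le_span_singleton.mpr (pow_dvd_pow _ h)

theorem pow_mul_cancel' (q : R)
    (hS : ∀ y : R, q * y = 0 → y = 0) (i : ℕ) (y : R) (h : q ^ i * y = 0) : y = 0 := by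
  induction i with
  | zero => simpa using h
  | succ i ih =>
    apply ih
    apply hS
    rw [← mul_assoc, ← pow_succ']
    exact h

/-- division by `p^u` in the ideals `Km`, over a `p`-torsion-free ring -/
theorem mem_Km_of_pow_mul_mem (hR : ∀ y : R, (p : R) * y = 0 → y = 0) (m u t : ℕ)
    (ht : u + 1 ≤ t) (d : WittVector p R)
    (h : (p : WittVector p R) ^ u * d ∈ Km p R m (Ideal.span {(p : R) ^ t})) :
    d ∈ Km p R m (Ideal.span {(p : R) ^ (t - u)}) := by
  rw [mem_Km_iff] at h ⊢
  cases m with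
  | zero => intro i hi; omega
  | succ m' =>
    have h1 : ∀ i ≤ m', (p : R) ^ t ∣ ((p : WittVector p R) ^ u * d).coeff i := by
      intro i hi
      exact Ideal.mem_span_singleton.mp (h i (by omega))
    have h2 := (Groth.Agent.S14856.result p R hR _ m' t (by omega)).mp h1
    have h3 : ∀ n ≤ m', (p : R) ^ (n + (t - u)) ∣ WittVector.ghostComponent n d := by
      intro n hn
      obtain ⟨c, hc⟩ := h2 n hn
      rw [map_mul, map_pow, map_natCast] at hc
      refine ⟨c, ?_⟩
      have : (p : R) ^ u * (WittVector.ghostComponent n d - (p : R) ^ (n + (t - u)) * c) = 0 := by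
        rw [mul_sub, hc, ← mul_assoc, ← pow_add]
        have : u + (n + (t - u)) = n + t := by omega
        rw [this, sub_self]
      exact sub_eq_zero.mp (pow_mul_cancel' (p : R) hR u _ this)
    have h4 := (Groth.Agent.S14856.result p R hR d m' (t - u) (by omega)).mpr h3
    intro i hi
    exact Ideal.mem_span_singleton.mpr (h4 i (by omega))


/-- `p`-adic limits in the ideals `Km` -/
theorem exists_limit_Km [IsPrecomplete (Ideal.span {(p : R)}) R] (m : ℕ) (ζ : ℕ → WittVector p R)
    (hζ : ∀ n n', n ≤ n' → ζ n - ζ n' ∈ Km p R m (Ideal.span {(p : R) ^ n})) :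
    ∃ x : WittVector p R, ∀ n, x - ζ n ∈ Km p R m (Ideal.span {(p : R) ^ n}) := by
  have hlim : ∀ i, i < m → ∃ L : R, ∀ n, L - (ζ n).coeff i ∈ Ideal.span {(p : R) ^ n} := by
    intro i hi
    obtain ⟨L, hL⟩ := IsPrecomplete.prec (I := Ideal.span {(p : R)}) (M := R) inferInstance
      (f := fun n => (ζ n).coeff i) (by
      intro a b hab
      rw [SModEq.sub_mem, smul_eq_mul, Ideal.mul_top, Ideal.span_singleton_pow]
      exact (sub_mem_Km_iff m _ _ _).mp (hζ a b hab) i hi)
    refine ⟨L, fun n => ?_⟩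
    have h1 := hL n
    rw [SModEq.sub_mem, smul_eq_mul, Ideal.mul_top, Ideal.span_singleton_pow] at h1
    rw [← neg_sub]
    exact neg_mem h1
  classical
  refine ⟨WittVector.mk p (fun i => if h : i < m then (hlim i h).choose else 0), fun n => ?_⟩
  rw [sub_mem_Km_iff]
  intro i hi
  change (if h : i < m then (hlim i h).choose else 0) - (ζ n).coeff i ∈ _
  rw [dif_pos hi]
  exact (hlim i hi).choose_spec n

theorem coeff_eq_zero_of_forall_mem_Km [IsHausdorff (Ideal.span {(p : R)}) R] (m : ℕ)
    (y : WittVector p R) (hy : ∀ n, y ∈ Km p R m (Ideal.span {(p : R) ^ n})) :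
    ∀ i < m, y.coeff i = 0 := by
  intro i hi
  apply IsHausdorff.haus (I := Ideal.span {(p : R)}) (M := R) inferInstance
  intro n
  rw [SModEq.sub_mem, sub_zero, smul_eq_mul, Ideal.mul_top, Ideal.span_singleton_pow]
  exact (mem_Km_iff m _ y).mp (hy n) i hi

/-- the statement of S14861 in terms of the ideals `Km` -/
theorem exists_solution (hR : ∀ y : R, (p : R) * y = 0 → y = 0)
    [IsAdicComplete (Ideal.span {(p : R)}) R] (a : WittVector p R) (m u : ℕ)
    (h : ∀ s : ℕ, ∃ z : WittVector p R,
      (p : WittVector p R) ^ u * z - a ∈ Km p R m (Ideal.span {(p : R) ^ s})) :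
    ∃ x : WittVector p R, ∀ n, (p : WittVector p R) ^ u * x - a ∈
      Km p R m (Ideal.span {(p : R) ^ n}) := by
  choose z hz using h
  let ζ : ℕ → WittVector p R := fun n => z (n + u + 1)
  have hζ : ∀ n n', n ≤ n' → ζ n - ζ n' ∈ Km p R m (Ideal.span {(p : R) ^ n}) := by
    intro n n' hnn'
    have h1 : (p : WittVector p R) ^ u * (ζ n - ζ n') ∈
        Km p R m (Ideal.span {(p : R) ^ (n + u + 1)}) := by
      have e : (p : WittVector p R) ^ u * (ζ n - ζ n') =
          ((p : WittVector p R) ^ u * z (n + u + 1) - a) -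
            ((p : WittVector p R) ^ u * z (n' + u + 1) - a) := by ring
      rw [e]
      refine Ideal.sub_mem _ (hz _) ?_
      exact Km_mono m (span_pow_le (by omega)) (hz (n' + u + 1))
    have h2 := mem_Km_of_pow_mul_mem hR m u (n + u + 1) (by omega) _ h1
    exact Km_mono m (span_pow_le (by omega)) h2
  obtain ⟨x, hx⟩ := exists_limit_Km m ζ hζ
  refine ⟨x, fun n => ?_⟩
  have e : (p : WittVector p R) ^ u * x - a =
      (p : WittVector p R) ^ u * (x - ζ n) + ((p : WittVector p R) ^ u * ζ n - a) := by ring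
  rw [e]
  refine Ideal.add_mem _ (Ideal.mul_mem_left _ _ (hx n)) ?_
  exact Km_mono m (span_pow_le (by omega)) (hz (n + u + 1))

end Groth.Agent.R2.H68.WittTr
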