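import Groth.Agent.R2.H68WittTr

/-!
Helper library (helper68): closedness of `p^u W(S)` for the topology defined by the ideals
`ker (truncate r) + W(p^s S)`.
-/

set_option autoImplicit false
universe u

namespace Groth.Agent.R2.H68.WittTr

open WittVector

variable {p : ℕ} [Fact p.Prime] {R : Type u} [CommRing R]

theorem sub_mem_ker_truncate_iff' (n : ℕ) (x y : WittVector p R) :
    x - y ∈ RingHom.ker (truncate (p := p) (R := R) n) ↔ ∀ i < n, x.coeff i = y.coeff i := by
  rw [RingHom.mem_ker, map_sub, sub_eq_zero]
  constructor
  · intro h i hi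
    have := congrArg (fun w => TruncatedWittVector.coeff ⟨i, hi⟩ w) h
    simpa using this
  · intro h
    ext i
    rw [coeff_truncate, coeff_truncate]
    exact h i i.2

theorem ker_truncate_le_Km (m : ℕ) (I : Ideal R) :
    RingHom.ker (truncate (p := p) (R := R) m) ≤ Km p R m I := by
  intro x hx
  rw [WittVector.mem_ker_truncate] at hx
  rw [mem_Km_iff]
  intro i hi
  rw [hx i hi]
  exact zero_mem _

theorem ker_map_le_Km (m : ℕ) (I : Ideal R) :
    RingHom.ker (WittVector.map (p := p) (Ideal.Quotient.mk I)) ≤ Km p R m I := by
  intro x hx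
  rw [RingHom.mem_ker] at hx
  rw [mem_Km_iff]
  intro i _
  have := congrArg (fun w => WittVector.coeff w i) hx
  simp only [WittVector.map_coeff, WittVector.zero_coeff] at this
  exact Ideal.Quotient.eq_zero_iff_mem.mp this

/-- over a `p`-torsion-free `p`-adically separated ring, division by `p^u` preserves the kernels
of the truncation maps -/
theorem mem_ker_truncate_of_pow_mul_mem (hR : ∀ y : R, (p : R) * y = 0 → y = 0)
    [IsHausdorff (Ideal.span {(p : R)}) R] (r u : ℕ) (d : WittVector p R)
    (h : (p : WittVector p R) ^ u * d ∈ RingHom.ker (truncate (p := p) (R := R) r)) :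
    d ∈ RingHom.ker (truncate (p := p) (R := R) r) := by
  rw [WittVector.mem_ker_truncate]
  apply coeff_eq_zero_of_forall_mem_Km r d
  intro n
  have h1 := ker_truncate_le_Km r (Ideal.span {(p : R) ^ (n + u + 1)}) h
  have h2 := mem_Km_of_pow_mul_mem hR r u (n + u + 1) (by omega) d h1
  exact Km_mono r (span_pow_le (by omega)) h2

/-- the statement of S14862 -/
theorem iInf_eq (hS : ∀ y : R, (p : R) * y = 0 → y = 0)
    [IsAdicComplete (Ideal.span {(p : R)}) R] (u : ℕ) :
    (⨅ r : ℕ, ⨅ s : ℕ,
        Ideal.span {(p : WittVector p R) ^ u} ⊔ RingHom.ker (WittVector.truncate (p := p) (R := R) r) ⊔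
          RingHom.ker (WittVector.map (p := p) (Ideal.Quotient.mk (Ideal.span {(p : R) ^ s})))) =
      Ideal.span {(p : WittVector p R) ^ u} := by
  apply le_antisymm
  · intro y hy
    simp only [Ideal.mem_iInf] at hy
    -- step 1: for each r a solution modulo `ker (truncate r)`
    have h1 : ∀ r : ℕ, ∃ x : WittVector p R,
        (p : WittVector p R) ^ u * x - y ∈ RingHom.ker (truncate (p := p) (R := R) r) := by
      intro r
      have h' : ∀ s : ℕ, ∃ z : WittVector p R,
          (p : WittVector p R) ^ u * z - y ∈ Km p R r (Ideal.span {(p : R) ^ s}) := by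
        intro s
        have hrs := hy r s
        rw [sup_assoc, Submodule.mem_sup] at hrs
        obtain ⟨a, ha, b, hb, hab⟩ := hrs
        rw [Ideal.mem_span_singleton'] at ha
        obtain ⟨z, rfl⟩ := ha
        refine ⟨z, ?_⟩
        have e : (p : WittVector p R) ^ u * z - y = -b := by rw [← hab]; ring
        rw [e]
        apply neg_mem
        exact (sup_le (ker_truncate_le_Km r _) (ker_map_le_Km r _)) hb
      obtain ⟨x, hx⟩ := exists_solution hS y r u h'
      refine ⟨x, ?_⟩
      rw [WittVector.mem_ker_truncate]
      exact coeff_eq_zero_of_forall_mem_Km r _ hx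
    choose x hx using h1
    -- step 2: the solutions are compatible
    have h2 : ∀ r r', r ≤ r' → x r - x r' ∈ RingHom.ker (truncate (p := p) (R := R) r) := by
      intro r r' hrr'
      apply mem_ker_truncate_of_pow_mul_mem hS r u
      have e : (p : WittVector p R) ^ u * (x r - x r') =
          ((p : WittVector p R) ^ u * x r - y) - ((p : WittVector p R) ^ u * x r' - y) := by ring
      rw [e]
      refine Ideal.sub_mem _ (hx r) ?_
      have := hx r'
      rw [WittVector.mem_ker_truncate] at this ⊢
      exact fun i hi => this i (lt_of_lt_of_le hi hrr')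
    -- step 3: glue
    let X : WittVector p R := WittVector.mk p (fun i => (x (i + 1)).coeff i)
    have h3 : ∀ r, X - x r ∈ RingHom.ker (truncate (p := p) (R := R) r) := by
      intro r
      rw [sub_mem_ker_truncate_iff']
      intro i hi
      change (x (i + 1)).coeff i = (x r).coeff i
      exact (sub_mem_ker_truncate_iff' (i + 1) _ _).mp (h2 (i + 1) r (by omega)) i (by omega)
    have h4 : (p : WittVector p R) ^ u * X - y = 0 := by
      ext i
      rw [WittVector.zero_coeff]
      have e : (p : WittVector p R) ^ u * X - y =
          (p : WittVector p R) ^ u * (X - x (i + 1)) + ((p : WittVector p R) ^ u * x (i + 1) - y) := by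
        ring
      have h5 : (p : WittVector p R) ^ u * X - y ∈
          RingHom.ker (truncate (p := p) (R := R) (i + 1)) := by
        rw [e]
        exact Ideal.add_mem _ (Ideal.mul_mem_left _ _ (h3 (i + 1))) (hx (i + 1))
      rw [WittVector.mem_ker_truncate] at h5
      exact h5 i (by omega)
    rw [Ideal.mem_span_singleton']
    exact ⟨X, by rw [mul_comm]; exact sub_eq_zero.mp h4⟩
  · refine le_iInf fun r => le_iInf fun s => ?_
    exact le_sup_of_le_left le_sup_left

end Groth.Agent.R2.H68.WittTr
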