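import Mathlib
import Groth.Agent.R2.H55TorLoc
import Groth.Agent.Lib.Helper1TorDim
import Groth.Agent.Lib.Helper13TorBC3
import Groth.Agent.Lib.Helper13Tor
import Groth.Agent.Lib.Helper13Devissage

/-!
# Locality properties of tor dimension of modules (helper69)

* `hasTorDimLE_of_linearEquiv`: invariance under linear equivalences;
* `hasTorDimLE_restrict_of_flat`: along a flat ring map `A → A'`, an `A'`-module of tor dimension `≤ d`
  over `A'` has tor dimension `≤ d` over `A`;
* `hasTorDimLE_of_isLocalization`: if `A'` is a localisation of `A`, an `A'`-module of tor dimension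
  `≤ d` over `A` has tor dimension `≤ d` over `A'`;
* `hasTorDimLE_iff_of_concentrated`: complexes concentrated in degree `0`;
* `hasTorDimLE_of_forall_maximal`: for `A → B` and a `B`-module `M`, tor dimension `≤ d` over `A` may
  be checked on the localisations of `M` at the maximal ideals of `B`;
* `hasTorDimLE_succ_iff_of_exact`: dimension shifting along `0 → X₁ → X₂ → X₃ → 0`, `X₂` flat.
-/
set_option autoImplicit false
set_option maxHeartbeats 400000
set_option linter.style.haveILetI false
universe u
open CategoryTheory CategoryTheory.Limits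
attribute [local instance] HasDerivedCategory.standard

namespace Groth.Agent.R2.H69.TorDimLoc

open DerivedCategory Groth.Agent.Lib.Helper1.Tor Groth.Agent.Lib.Helper1.TorDim

section T1
variable {R : Type u} [CommRing R]

theorem hasTorDimLE_of_linearEquiv {M M' : Type u} [AddCommGroup M] [Module R M] [AddCommGroup M']
    [Module R M'] (e : M ≃ₗ[R] M') (d : ℕ) (h : DRing.HasTorDimLE R d M) :
    DRing.HasTorDimLE R d M' := by
  intro N _ _ p hp
  have hz : IsZero (((Tor (ModuleCat.{u} R) p).obj (ModuleCat.of R M)).obj (ModuleCat.of R N)) :=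
    @ModuleCat.isZero_of_subsingleton _ _ _ (h N p hp)
  have e' : ((Tor (ModuleCat.{u} R) p).obj (ModuleCat.of R M)).obj (ModuleCat.of R N) ≅
      ((Tor (ModuleCat.{u} R) p).obj (ModuleCat.of R M')).obj (ModuleCat.of R N) :=
    ((Tor (ModuleCat.{u} R) p).mapIso e.toModuleIso).app (ModuleCat.of R N)
  exact ModuleCat.subsingleton_of_isZero (hz.of_iso e'.symm)

theorem hasTorDimLE_mono {M : Type u} [AddCommGroup M] [Module R M] {d d' : ℕ} (hdd : d ≤ d')
    (h : DRing.HasTorDimLE R d M) : DRing.HasTorDimLE R d' M :=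
  fun N _ _ p hp => h N p (lt_of_le_of_lt hdd hp)

theorem hasTorDimLE_of_subsingleton (M : Type u) [AddCommGroup M] [Module R M] [Subsingleton M]
    (d : ℕ) : DRing.HasTorDimLE R d M :=
  hasTorDimLE_mono (Nat.zero_le d) ((hasTorDimLE_zero_iff_flat M).2 inferInstance)

end T1

section T2
open Groth.Agent.Helper13TorBC

variable {A A' : Type u} [CommRing A] [CommRing A'] [Algebra A A']

/-- restriction of scalars along a flat ring map does not increase tor dimension -/
theorem hasTorDimLE_restrict_of_flat [Module.Flat A A'] (M : Type u) [AddCommGroup M] [Module A' M]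
    [Module A M] [IsScalarTower A A' M] (d : ℕ) (h : DRing.HasTorDimLE A' d M) :
    DRing.HasTorDimLE A d M := by
  intro N _ _ p hp
  obtain ⟨e⟩ := nonempty_restrict_tor_iso_left A' M (ModuleCat.of A N) p
  have h1 : Subsingleton (((Tor (ModuleCat.{u} A') p).obj (ModuleCat.of A' M)).obj
      ((E A A').obj (ModuleCat.of A N))) := h ((E A A').obj (ModuleCat.of A N)) p hp
  have hz : IsZero ((ρ A A').obj (((Tor (ModuleCat.{u} A') p).obj (ModuleCat.of A' M)).obj
      ((E A A').obj (ModuleCat.of A N)))) :=
    (ρ A A').map_isZero (ModuleCat.isZero_of_subsingleton _)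
  exact ModuleCat.subsingleton_of_isZero (hz.of_iso e.symm)

/-- if `A'` is a localisation of `A`, an `A'`-module has the same tor dimension over `A'` as over `A` -/
theorem hasTorDimLE_of_isLocalization (S : Submonoid A) [IsLocalization S A'] (M : Type u)
    [AddCommGroup M] [Module A' M] [Module A M] [IsScalarTower A A' M] (d : ℕ)
    (h : DRing.HasTorDimLE A d M) : DRing.HasTorDimLE A' d M := by
  have hflat : Module.Flat A A' := IsLocalization.flat A' S
  intro N _ _ p hp
  -- `N ≅ A' ⊗_A N`
  let N₀ : ModuleCat.{u} A := (ρ A A').obj (ModuleCat.of A' N)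
  have hloc : IsLocalizedModule S (LinearMap.id : N₀ →ₗ[A] N₀) := by
    letI : Module A' N₀ := inferInstanceAs (Module A' N)
    haveI : IsScalarTower A A' N₀ := IsScalarTower.of_algebraMap_smul (fun r m => rfl)
    exact isLocalizedModule_id S N₀ A'
  letI : Module A' N₀ := inferInstanceAs (Module A' N)
  haveI : IsScalarTower A A' N₀ := IsScalarTower.of_algebraMap_smul (fun r m => rfl)
  have hbc : IsBaseChange A' (LinearMap.id : N₀ →ₗ[A] N₀) :=
    IsLocalizedModule.isBaseChange S A' LinearMap.id
  let e1 : ((E A A').obj N₀) ≃ₗ[A'] TensorProduct A A' N₀ := Groth.Agent.S2380.bridge A A' N₀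
  let e2 : TensorProduct A A' N₀ ≃ₗ[A'] N := hbc.equiv
  let eN : (E A A').obj N₀ ≅ ModuleCat.of A' N := (e1.trans e2).toModuleIso
  obtain ⟨e⟩ := nonempty_restrict_tor_iso_left A' M N₀ p
  have h1 : Subsingleton (((Tor (ModuleCat.{u} A) p).obj (ModuleCat.of A M)).obj N₀) := h N₀ p hp
  have hz : IsZero ((ρ A A').obj (((Tor (ModuleCat.{u} A') p).obj (ModuleCat.of A' M)).obj
      ((E A A').obj N₀))) := (ModuleCat.isZero_of_subsingleton _).of_iso e
  have hs : Subsingleton (((Tor (ModuleCat.{u} A') p).obj (ModuleCat.of A' M)).obj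
      ((E A A').obj N₀)) := by
    have hs' := ModuleCat.subsingleton_of_isZero hz
    exact hs'
  have hz' : IsZero (((Tor (ModuleCat.{u} A') p).obj (ModuleCat.of A' M)).obj ((E A A').obj N₀)) :=
    ModuleCat.isZero_of_subsingleton _
  exact ModuleCat.subsingleton_of_isZero
    (hz'.of_iso (((Tor (ModuleCat.{u} A') p).obj (ModuleCat.of A' M)).mapIso eN).symm)

end T2

section H1
variable {A : Type u} [CommRing A]

/-- for a complex concentrated in degree `0`, tor amplitude in `[-d, 0]` is tor dimension `≤ d` of the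
degree-`0` term -/
theorem hasTorAmp_iff_of_concentrated (L : DRing.Cx A) (hL : ∀ i : ℤ, i ≠ 0 → IsZero (L.X i))
    (d : ℕ) :
    DRing.HasTorAmplitudeIn A (-(d : ℤ)) 0 (DRing.toD L) ↔ DRing.HasTorDimLE A d (L.X 0) := by
  have h1 : L.IsStrictlyGE 0 := by
    rw [CochainComplex.isStrictlyGE_iff]
    intro i hi
    exact hL i (by omega)
  have h2 : L.IsStrictlyLE 0 := by
    rw [CochainComplex.isStrictlyLE_iff]
    intro i hi
    exact hL i (by omega)
  obtain ⟨M, ⟨e⟩⟩ := CochainComplex.exists_iso_single L 0
  have e' : DRing.toD L ≅ Dual.inD A M :=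
    Q.mapIso e ≪≫ ((singleFunctorIsoCompQ (ModuleCat.{u} A) 0).app M).symm
  have e0 : L.X 0 ≅ M :=
    (show L.X 0 ≅ ((HomologicalComplex.single (ModuleCat.{u} A) (ComplexShape.up ℤ) 0).obj M).X 0
      from (HomologicalComplex.eval _ _ 0).mapIso e) ≪≫
      HomologicalComplex.singleObjXSelf (ComplexShape.up ℤ) 0 M
  constructor
  · intro h
    exact hasTorDimLE_of_linearEquiv e0.symm.toLinearEquiv d
      ((hasTorDimLE_iff_hasTorAmp M d).2 (hasTorAmp_of_iso e' h))
  · intro h
    exact hasTorAmp_of_iso e'.symm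
      ((hasTorDimLE_iff_hasTorAmp M d).1 (hasTorDimLE_of_linearEquiv e0.toLinearEquiv d h))

end H1

section T4
open Groth.Agent.Helper13TorBC Groth.Agent.R2.H55.TorLoc Groth.Agent.Lib.Helper1.Extend

variable {A B : Type u} [CommRing A] [CommRing B] [Algebra A B]

/-- an `A`-linear equivalence out of a restriction of scalars from `C` to `A`, from a `B`-linear one
out of the restriction of scalars to `B` -/
noncomputable def restrictEquiv₂ {C : Type u} [CommRing C] [Algebra B C] [Algebra A C]
    [IsScalarTower A B C] (N : ModuleCat.{u} C) (N' : Type u) [AddCommGroup N'] [Module B N']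
    [Module A N'] [IsScalarTower A B N']
    (e : ((ModuleCat.restrictScalars.{u} (algebraMap B C)).obj N) ≃ₗ[B] N') :
    ((ModuleCat.restrictScalars.{u} (algebraMap A C)).obj N) ≃ₗ[A] N' where
  toFun x := e x
  invFun y := e.symm y
  left_inv x := e.symm_apply_apply x
  right_inv y := e.apply_symm_apply y
  map_add' x y := e.map_add x y
  map_smul' r x := by
    let x' : ((ModuleCat.restrictScalars.{u} (algebraMap B C)).obj N) := x
    have h := e.map_smul (algebraMap A B r) x'
    have h2 : algebraMap A B r • e x' = r • e x' := algebraMap_smul B r _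
    have h3 : algebraMap A B r • x' =
        (show ((ModuleCat.restrictScalars.{u} (algebraMap B C)).obj N) from (r • x)) := by
      show algebraMap B C (algebraMap A B r) • (show N from x) = algebraMap A C r • (show N from x)
      rw [← IsScalarTower.algebraMap_apply]
    exact (congrArg e h3.symm).trans (h.trans h2)

/-- tor dimension `≤ d` over `A` of a `B`-module may be checked on its localisations at the maximal
ideals of `B` -/
theorem hasTorDimLE_of_forall_maximal (M : Type u) [AddCommGroup M] [Module B M] [Module A M]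
    [IsScalarTower A B M] (d : ℕ)
    (h : ∀ (m : Ideal B) [m.IsMaximal], ∃ (M' : Type u) (_ : AddCommGroup M') (_ : Module B M')
      (_ : Module A M') (_ : IsScalarTower A B M') (f : M →ₗ[B] M'),
      IsLocalizedModule m.primeCompl f ∧ DRing.HasTorDimLE A d M') :
    DRing.HasTorDimLE A d M := by
  let K : DRing.Cx B :=
    (HomologicalComplex.single (ModuleCat.{u} B) (ComplexShape.up ℤ) 0).obj (ModuleCat.of B M)
  have hK : ∀ i : ℤ, i ≠ 0 → IsZero (K.X i) := fun i hi =>
    HomologicalComplex.isZero_single_obj_X (ComplexShape.up ℤ) 0 (ModuleCat.of B M) i hi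
  let eX : K.X 0 ≃ₗ[B] M :=
    (HomologicalComplex.singleObjXSelf (ComplexShape.up ℤ) 0 (ModuleCat.of B M)).toLinearEquiv
  have key := hasTorAmp_of_forall_maximal (A := A) K (-(d : ℤ)) 0 (fun m hm => by
    obtain ⟨M', _, _, _, _, f, hf, hM'⟩ := h m
    rw [hasTorAmp_iff_of_concentrated _ (fun i hi =>
      (ModuleCat.restrictScalars.{u} _).map_isZero
        ((ModuleCat.extendScalars.{u, u, u} _).map_isZero (hK i hi)))]
    -- the degree `0` term is the localisation of `M` at `m`
    let u := ((ModuleCat.extendRestrictScalarsAdj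
      (algebraMap B (Localization.AtPrime m))).unit.app (K.X 0)).hom
    have hu : IsLocalizedModule m.primeCompl u := isLocalizedModule_unit m (K.X 0)
    have hf' : IsLocalizedModule m.primeCompl (f ∘ₗ eX.toLinearMap) :=
      IsLocalizedModule.of_linearEquiv_right m.primeCompl f eX
    let e1 := IsLocalizedModule.linearEquiv m.primeCompl u (f ∘ₗ eX.toLinearMap)
    exact hasTorDimLE_of_linearEquiv
      (restrictEquiv₂ (A := A) (B := B) (C := Localization.AtPrime m)
        ((ModuleCat.extendScalars (algebraMap B (Localization.AtPrime m))).obj (K.X 0)) M' e1).symm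
      d hM')
  rw [hasTorAmp_iff_of_concentrated _ (fun i hi =>
    (ModuleCat.restrictScalars.{u} _).map_isZero (hK i hi))] at key
  exact hasTorDimLE_of_linearEquiv (restrictEquiv (A := A) (B := B) (K.X 0) M eX) d key

end T4

section T8
open Groth.Agent.Helper13Tor

variable {A : Type u} [CommRing A]

/-- dimension shifting: for `0 → X₁ → X₂ → X₃ → 0` exact with `X₂` flat, `X₃` has tor dimension
`≤ d + 1` iff `X₁` has tor dimension `≤ d` -/
theorem hasTorDimLE_succ_iff_of_exact {X₁ X₂ X₃ : Type u} [AddCommGroup X₁] [Module A X₁]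
    [AddCommGroup X₂] [Module A X₂] [AddCommGroup X₃] [Module A X₃] (f : X₁ →ₗ[A] X₂)
    (g : X₂ →ₗ[A] X₃) (hf : Function.Injective f) (hg : Function.Surjective g)
    (hfg : Function.Exact f g) [Module.Flat A X₂] (d : ℕ) :
    DRing.HasTorDimLE A (d + 1) X₃ ↔ DRing.HasTorDimLE A d X₁ := by
  have hS := Groth.Agent.Helper13Devissage.shortExact_mk f g hf hg hfg
  set S := ShortComplex.mk (ModuleCat.ofHom f) (ModuleCat.ofHom g)
      (by ext x; exact hfg.apply_apply_eq_zero x) with hSdef
  have hflat : Module.Flat A S.X₂ := inferInstanceAs (Module.Flat A X₂)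
  constructor
  · intro h N _ _ p hp
    have h3 : IsZero (((Tor (ModuleCat.{u} A) (p + 1)).obj S.X₃).obj (ModuleCat.of A N)) :=
      @ModuleCat.isZero_of_subsingleton _ _ _ (h N (p + 1) (by omega))
    have h2 : IsZero (((Tor (ModuleCat.{u} A) p).obj S.X₂).obj (ModuleCat.of A N)) :=
      isZero_tor_of_flat (ModuleCat.of A N) S.X₂ p (by omega)
    exact ModuleCat.subsingleton_of_isZero (isZero_tor_X₁ S hS (ModuleCat.of A N) p h3 h2)
  · intro h N _ _ p hp
    obtain ⟨q, rfl⟩ : ∃ q, p = q + 1 := ⟨p - 1, by omega⟩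
    have h1 : IsZero (((Tor (ModuleCat.{u} A) q).obj S.X₁).obj (ModuleCat.of A N)) :=
      @ModuleCat.isZero_of_subsingleton _ _ _ (h N q (by omega))
    have h2 : IsZero (((Tor (ModuleCat.{u} A) (q + 1)).obj S.X₂).obj (ModuleCat.of A N)) :=
      isZero_tor_of_flat (ModuleCat.of A N) S.X₂ (q + 1) (by omega)
    exact ModuleCat.subsingleton_of_isZero (isZero_tor_X₃ S hS (ModuleCat.of A N) q h2 h1)

end T8

end Groth.Agent.R2.H69.TorDimLoc
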