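import Mathlib
import Groth.Agent.R2.H69TorDimLoc
import Groth.Agent.R2.H31PCFP
import Groth.Agent.S7017
import Groth.Agent.Lib.Helper3FlatOpenFP
import Groth.Agent.Lib.Helper1PCTower

/-!
# Finite tor dimension of a pseudo-coherent module over a polynomial ring is detected pointwise
(helper69)

`A` a ring, `P = A[x_1, …, x_n]`, `M` a pseudo-coherent `P`-module.  If every localisation `M_q`
(`q ∈ Spec P`) has finite tor dimension over `A`, then `M` has finite tor dimension over `A`
(`exists_hasTorDimLE`).  The proof: the locus where `M_q` has tor dimension `≤ d` over `A` is the `A`-flat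
locus of a `d`-th syzygy of `M` (a finitely presented `P`-module), hence open (helper3's openness of the
flat locus); quasi-compactness of `Spec P` gives a uniform `d`, and tor dimension `≤ d` is local on
`Spec P` (`H69TorDimLoc.hasTorDimLE_of_forall_maximal`).
-/
set_option autoImplicit false
set_option maxHeartbeats 400000
set_option linter.style.haveILetI false
universe u
open CategoryTheory CategoryTheory.Limits
attribute [local instance] HasDerivedCategory.standard

namespace Groth.Agent.R2.H69.TorDimSyz

open DerivedCategory Groth.Agent.Lib.Helper1.Tor Groth.Agent.Lib.Helper1.TorDim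
open Groth.Agent.Lib.Helper1.PC Groth.Agent.Lib.Helper1.PCTower
open Groth.Agent.R2.H69.TorDimLoc

section Syz
variable {P : Type u} [CommRing P]

lemma isPC'_finite_free (r : ℕ) : DRing.IsPseudoCoherentModule' P (Fin r → P) :=
  isPseudoCoherent'_of_forall _ (fun _ => isPC_of_rep _
    (rep_single (ModuleCat.of P (Fin r → P))
      ⟨inferInstanceAs (Module.Finite P (Fin r → P)),
        inferInstanceAs (Module.Free P (Fin r → P))⟩ 0))

/-- a pseudo-coherent module is a quotient of a finite free module by a pseudo-coherent submodule -/
theorem exists_syzygy (M : Type u) [AddCommGroup M] [Module P M]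
    (h : DRing.IsPseudoCoherentModule' P M) :
    ∃ (r : ℕ) (π : (Fin r → P) →ₗ[P] M), Function.Surjective π ∧
      DRing.IsPseudoCoherentModule' P (LinearMap.ker π) := by
  have hfp := Groth.Agent.R2.H31.PCFP.finitePresentation_of_isPseudoCoherentModule' P M h
  have : Module.Finite P M := inferInstance
  obtain ⟨r, π, hπ⟩ := Module.Finite.exists_fin' P M
  refine ⟨r, π, hπ, ?_⟩
  have hS := Groth.Agent.Helper13Devissage.shortExact_mk (LinearMap.ker π).subtype π
    Subtype.val_injective hπ (LinearMap.exact_subtype_ker_map π)
  have hT := hS.singleTriangle_distinguished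
  exact (Groth.Agent.S7017.result P _ hT).2.2 (isPC'_finite_free r) h

end Syz

section Main
variable {A : Type u} [CommRing A] {n : ℕ}

/-- the locus in `Spec A[x_1, …, x_n]` where a pseudo-coherent module has tor dimension `≤ d` over `A`
is open -/
theorem isOpen_torDimLE (d : ℕ) : ∀ (M : Type u) [AddCommGroup M]
    [Module (MvPolynomial (Fin n) A) M] [Module A M] [IsScalarTower A (MvPolynomial (Fin n) A) M],
    DRing.IsPseudoCoherentModule' (MvPolynomial (Fin n) A) M →
    IsOpen {q : PrimeSpectrum (MvPolynomial (Fin n) A) |
      DRing.HasTorDimLE A d (LocalizedModule q.asIdeal.primeCompl M)} := by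
  induction d with
  | zero =>
    intro M _ _ _ _ h
    have hfp := Groth.Agent.R2.H31.PCFP.finitePresentation_of_isPseudoCoherentModule' _ M h
    have hopen := Groth.Agent.Lib.Helper3.FlatOpen.isOpen_flatLocus_mvPolynomial
      (R := A) (n := n) (M := M)
    convert hopen using 2
    ext q
    exact hasTorDimLE_zero_iff_flat _
  | succ d ih =>
    intro M _ _ _ _ h
    obtain ⟨r, π, hπ, hZ⟩ := exists_syzygy M h
    have hopen := ih (LinearMap.ker π) hZ
    convert hopen using 2
    ext q
    let S := q.asIdeal.primeCompl
    have hflat : Module.Flat A (LocalizedModule S (Fin r → MvPolynomial (Fin n) A)) := by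
      have h1 : Module.Flat (Localization S) (LocalizedModule S (Fin r → MvPolynomial (Fin n) A)) :=
        Module.Flat.of_isLocalizedModule (Localization S) S (LocalizedModule.mkLinearMap S _)
      have h2 : Module.Flat A (Localization S) := inferInstance
      exact Module.Flat.trans A (Localization S) _
    exact hasTorDimLE_succ_iff_of_exact
      ((LocalizedModule.map S (LinearMap.ker π).subtype).restrictScalars A)
      ((LocalizedModule.map S π).restrictScalars A)
      (LocalizedModule.map_injective S _ Subtype.val_injective)
      (LocalizedModule.map_surjective S _ hπ)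
      (LocalizedModule.map_exact S _ _ (LinearMap.exact_subtype_ker_map π)) d

/-- uniformity from openness and quasi-compactness -/
theorem exists_uniform (M : Type u) [AddCommGroup M] [Module (MvPolynomial (Fin n) A) M]
    [Module A M] [IsScalarTower A (MvPolynomial (Fin n) A) M]
    (hopen : ∀ d, IsOpen {q : PrimeSpectrum (MvPolynomial (Fin n) A) |
      DRing.HasTorDimLE A d (LocalizedModule q.asIdeal.primeCompl M)})
    (hloc : ∀ q : PrimeSpectrum (MvPolynomial (Fin n) A),
      ∃ d : ℕ, DRing.HasTorDimLE A d (LocalizedModule q.asIdeal.primeCompl M)) :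
    ∃ d : ℕ, ∀ q : PrimeSpectrum (MvPolynomial (Fin n) A),
      DRing.HasTorDimLE A d (LocalizedModule q.asIdeal.primeCompl M) := by
  let W : ℕ → Set (PrimeSpectrum (MvPolynomial (Fin n) A)) := fun d =>
    {q | DRing.HasTorDimLE A d (LocalizedModule q.asIdeal.primeCompl M)}
  have hcov : (Set.univ : Set (PrimeSpectrum (MvPolynomial (Fin n) A))) ⊆ ⋃ d, W d :=
    fun q _ => Set.mem_iUnion.2 (hloc q)
  have hmono : Monotone W := fun d d' hdd q hq => hasTorDimLE_mono hdd hq
  obtain ⟨d, hd⟩ := isCompact_univ.elim_directed_cover W hopen hcov hmono.directed_le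
  exact ⟨d, fun q => hd (Set.mem_univ q)⟩

/-- tor dimension `≤ d` over `A` of a module over the polynomial ring is local on the spectrum of the
polynomial ring -/
theorem hasTorDimLE_of_forall_prime (M : Type u) [AddCommGroup M]
    [Module (MvPolynomial (Fin n) A) M] [Module A M] [IsScalarTower A (MvPolynomial (Fin n) A) M]
    (d : ℕ) (hd : ∀ q : PrimeSpectrum (MvPolynomial (Fin n) A),
      DRing.HasTorDimLE A d (LocalizedModule q.asIdeal.primeCompl M)) :
    DRing.HasTorDimLE A d M := by
  refine hasTorDimLE_of_forall_maximal (A := A) (B := MvPolynomial (Fin n) A) M d ?_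
  intro m hm
  have hq : DRing.HasTorDimLE A d (LocalizedModule m.primeCompl M) :=
    hd (⟨m, hm.isPrime⟩ : PrimeSpectrum (MvPolynomial (Fin n) A))
  have hloc' : IsLocalizedModule m.primeCompl (LocalizedModule.mkLinearMap m.primeCompl M) :=
    inferInstance
  have hst : IsScalarTower A (MvPolynomial (Fin n) A) (LocalizedModule m.primeCompl M) :=
    inferInstance
  exact ⟨LocalizedModule m.primeCompl M, inferInstance, inferInstance, inferInstance, hst,
    LocalizedModule.mkLinearMap m.primeCompl M, hloc', hq⟩

/-- **finite tor dimension of a pseudo-coherent module over a polynomial ring is pointwise** -/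
theorem exists_hasTorDimLE (M : Type u) [AddCommGroup M] [Module (MvPolynomial (Fin n) A) M]
    [Module A M] [IsScalarTower A (MvPolynomial (Fin n) A) M]
    (h : DRing.IsPseudoCoherentModule' (MvPolynomial (Fin n) A) M)
    (hloc : ∀ q : PrimeSpectrum (MvPolynomial (Fin n) A),
      ∃ d : ℕ, DRing.HasTorDimLE A d (LocalizedModule q.asIdeal.primeCompl M)) :
    ∃ d : ℕ, DRing.HasTorDimLE A d M := by
  obtain ⟨d, hd⟩ := exists_uniform M (fun d => isOpen_torDimLE d M h) hloc
  exact ⟨d, hasTorDimLE_of_forall_prime M d hd⟩

end Main

end Groth.Agent.R2.H69.TorDimSyz
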