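import Mathlib
import Groth.Agent.R2.H69TorDimLoc
import Groth.Agent.R2.H69TorDimSyz

/-!
# Tor dimension of affine pieces of a morphism of schemes versus tor dimension of its stalks (helper69)

For `f : X ⟶ S`, affine opens `U ≤ f ⁻¹ᵁ V`, `A = Γ(S, V)`, `B = Γ(X, U)`:

* `hasTorDimLE_stalk_of_appLE`: if `B` has tor dimension `≤ d` over `A`, so has `O_{X,x}` over
  `O_{S,f x}` for `x ∈ U`;
* `hasTorDimLE_of_stalk`: if `O_{X,x}` has tor dimension `≤ d` over `O_{S,f x}`, it has tor dimension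
  `≤ d` over `A`;
* `hasTorDimLE_appLE_of_stalks`: if all `O_{X,x}`, `x ∈ U`, have tor dimension `≤ d` over `O_{S,f x}`,
  then `B` has tor dimension `≤ d` over `A`;
* `exists_hasTorDimLE_appLE_of_pc`: if `A → B` is pseudo-coherent and every `O_{X,x}`, `x ∈ U`, has
  finite tor dimension over `O_{S,f x}`, then `B` has finite tor dimension over `A`.
-/
set_option autoImplicit false
set_option maxHeartbeats 400000
set_option linter.style.haveILetI false
universe u
open CategoryTheory CategoryTheory.Limits AlgebraicGeometry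
attribute [local instance] HasDerivedCategory.standard

namespace Groth.Agent.R2.H69.StalkTor

open Groth.Agent.Lib.Helper1.TorDim Groth.Agent.R2.H69.TorDimLoc Groth.Agent.R2.H69.TorDimSyz

variable {X S : Scheme.{u}} (f : X ⟶ S)

theorem germ_stalkMap_eq {U : X.Opens} {V : S.Opens} (hUV : U ≤ f ⁻¹ᵁ V) (x : X) (hx : x ∈ U) :
    S.presheaf.germ V (f x) (hUV hx) ≫ f.stalkMap x =
      f.appLE V U hUV ≫ X.presheaf.germ U x hx := by
  refine (Scheme.Hom.germ_stalkMap f V x (hUV hx)).trans ?_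
  rw [Scheme.Hom.appLE, Category.assoc, TopCat.Presheaf.germ_res]

/-- the stalk condition at `x` -/
def StalkTorLE (d : ℕ) (x : X) : Prop :=
  letI := (f.stalkMap x).hom.toAlgebra
  DRing.HasTorDimLE (S.presheaf.stalk (f x)) d (X.presheaf.stalk x)

theorem hasTorDimLE_stalk_of_appLE {U : X.Opens} {V : S.Opens} (hU : IsAffineOpen U)
    (hV : IsAffineOpen V) (hUV : U ≤ f ⁻¹ᵁ V) (x : X) (hx : x ∈ U) (d : ℕ)
    (h : letI := (f.appLE V U hUV).hom.toAlgebra
      DRing.HasTorDimLE Γ(S, V) d Γ(X, U)) : StalkTorLE f d x := by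
  letI iAB : Algebra Γ(S, V) Γ(X, U) := (f.appLE V U hUV).hom.toAlgebra
  letI iOO : Algebra (S.presheaf.stalk (f x)) (X.presheaf.stalk x) := (f.stalkMap x).hom.toAlgebra
  letI iBO : Algebra Γ(X, U) (X.presheaf.stalk x) := X.presheaf.algebra_section_stalk ⟨x, hx⟩
  letI iAOs : Algebra Γ(S, V) (S.presheaf.stalk (f x)) :=
    S.presheaf.algebra_section_stalk ⟨f x, hUV hx⟩
  letI iAO : Algebra Γ(S, V) (X.presheaf.stalk x) :=
    ((f.appLE V U hUV) ≫ X.presheaf.germ U x hx).hom.toAlgebra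
  have t1 : IsScalarTower Γ(S, V) Γ(X, U) (X.presheaf.stalk x) :=
    IsScalarTower.of_algebraMap_eq (fun _ => rfl)
  have t2 : IsScalarTower Γ(S, V) (S.presheaf.stalk (f x)) (X.presheaf.stalk x) :=
    IsScalarTower.of_algebraMap_eq
      (fun a => (congrArg (fun φ => φ.hom a) (germ_stalkMap_eq f hUV x hx)).symm)
  have hlocX := hU.isLocalization_stalk ⟨x, hx⟩
  have hlocS := hV.isLocalization_stalk ⟨f x, hUV hx⟩
  have hflat : Module.Flat Γ(X, U) (X.presheaf.stalk x) :=
    IsLocalization.flat _ (hU.primeIdealOf ⟨x, hx⟩).asIdeal.primeCompl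
  have h1 : DRing.HasTorDimLE Γ(S, V) d (X.presheaf.stalk x) :=
    hasTorDimLE_of_flat_algebra d h (X.presheaf.stalk x)
  exact hasTorDimLE_of_isLocalization (hV.primeIdealOf ⟨f x, hUV hx⟩).asIdeal.primeCompl
    (X.presheaf.stalk x) d h1

theorem hasTorDimLE_of_stalk {U : X.Opens} {V : S.Opens} (hV : IsAffineOpen V)
    (hUV : U ≤ f ⁻¹ᵁ V) (x : X) (hx : x ∈ U) (d : ℕ) (h : StalkTorLE f d x) :
    letI := ((f.appLE V U hUV) ≫ X.presheaf.germ U x hx).hom.toAlgebra
    DRing.HasTorDimLE Γ(S, V) d (X.presheaf.stalk x) := by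
  letI iOO : Algebra (S.presheaf.stalk (f x)) (X.presheaf.stalk x) := (f.stalkMap x).hom.toAlgebra
  letI iAOs : Algebra Γ(S, V) (S.presheaf.stalk (f x)) :=
    S.presheaf.algebra_section_stalk ⟨f x, hUV hx⟩
  letI iAO : Algebra Γ(S, V) (X.presheaf.stalk x) :=
    ((f.appLE V U hUV) ≫ X.presheaf.germ U x hx).hom.toAlgebra
  have t2 : IsScalarTower Γ(S, V) (S.presheaf.stalk (f x)) (X.presheaf.stalk x) :=
    IsScalarTower.of_algebraMap_eq
      (fun a => (congrArg (fun φ => φ.hom a) (germ_stalkMap_eq f hUV x hx)).symm)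
  have hlocS := hV.isLocalization_stalk ⟨f x, hUV hx⟩
  have hflat : Module.Flat Γ(S, V) (S.presheaf.stalk (f x)) :=
    IsLocalization.flat _ (hV.primeIdealOf ⟨f x, hUV hx⟩).asIdeal.primeCompl
  exact hasTorDimLE_restrict_of_flat (A := Γ(S, V)) (A' := S.presheaf.stalk (f x))
    (X.presheaf.stalk x) d h

theorem hasTorDimLE_appLE_of_stalks {U : X.Opens} {V : S.Opens} (hU : IsAffineOpen U)
    (hV : IsAffineOpen V) (hUV : U ≤ f ⁻¹ᵁ V) (d : ℕ) (h : ∀ x ∈ U, StalkTorLE f d x) :
    letI := (f.appLE V U hUV).hom.toAlgebra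
    DRing.HasTorDimLE Γ(S, V) d Γ(X, U) := by
  letI iAB : Algebra Γ(S, V) Γ(X, U) := (f.appLE V U hUV).hom.toAlgebra
  refine hasTorDimLE_of_forall_maximal (A := Γ(S, V)) (B := Γ(X, U)) Γ(X, U) d ?_
  intro m hm
  let y : PrimeSpectrum Γ(X, U) := ⟨m, hm.isPrime⟩
  have hx : hU.fromSpec y ∈ U := hU.opensRange_fromSpec.le ⟨y, rfl⟩
  set x := hU.fromSpec y with hxdef
  letI iBO : Algebra Γ(X, U) (X.presheaf.stalk x) := X.presheaf.algebra_section_stalk ⟨x, hx⟩
  letI iAO : Algebra Γ(S, V) (X.presheaf.stalk x) :=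
    ((f.appLE V U hUV) ≫ X.presheaf.germ U x hx).hom.toAlgebra
  have t1 : IsScalarTower Γ(S, V) Γ(X, U) (X.presheaf.stalk x) :=
    IsScalarTower.of_algebraMap_eq (fun _ => rfl)
  have hloc : IsLocalization m.primeCompl (X.presheaf.stalk x) := hU.isLocalization_stalk' y hx
  have hlm : IsLocalizedModule m.primeCompl (Algebra.linearMap Γ(X, U) (X.presheaf.stalk x)) :=
    (isLocalizedModule_iff_isLocalization' _ _).mpr hloc
  exact ⟨X.presheaf.stalk x, inferInstance, inferInstance, inferInstance, t1,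
    Algebra.linearMap Γ(X, U) (X.presheaf.stalk x), hlm,
    hasTorDimLE_of_stalk f hV hUV x hx d (h x hx)⟩

/-- pseudo-coherent affine piece with stalkwise finite tor dimension has finite tor dimension -/
theorem exists_hasTorDimLE_appLE_of_pc {U : X.Opens} {V : S.Opens} (hU : IsAffineOpen U)
    (hV : IsAffineOpen V) (hUV : U ≤ f ⁻¹ᵁ V)
    (hpc : letI := (f.appLE V U hUV).hom.toAlgebra
      MoreMor.IsPseudoCoherentHom Γ(S, V) Γ(X, U))
    (h : ∀ x ∈ U, ∃ d : ℕ, StalkTorLE f d x) :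
    letI := (f.appLE V U hUV).hom.toAlgebra
    ∃ d : ℕ, DRing.HasTorDimLE Γ(S, V) d Γ(X, U) := by
  letI iAB : Algebra Γ(S, V) Γ(X, U) := (f.appLE V U hUV).hom.toAlgebra
  obtain ⟨n, φ, hφ, hpcM⟩ := hpc
  letI iPB : Algebra (MvPolynomial (Fin n) Γ(S, V)) Γ(X, U) := φ.toRingHom.toAlgebra
  have tAPB : IsScalarTower Γ(S, V) (MvPolynomial (Fin n) Γ(S, V)) Γ(X, U) :=
    IsScalarTower.of_algebraMap_eq (fun a => (φ.commutes a).symm)
  refine exists_hasTorDimLE (A := Γ(S, V)) (n := n) Γ(X, U) hpcM (fun q => ?_)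
  by_cases hker : RingHom.ker φ.toRingHom ≤ q.asIdeal
  · -- `q` comes from a point of `U`
    have hq'prime : (q.asIdeal.map φ.toRingHom).IsPrime :=
      Ideal.map_isPrime_of_surjective hφ hker
    have hcomap : (q.asIdeal.map φ.toRingHom).comap φ.toRingHom = q.asIdeal := by
      rw [Ideal.comap_map_of_surjective' φ.toRingHom hφ]
      exact sup_eq_left.2 hker
    let y : PrimeSpectrum Γ(X, U) := ⟨q.asIdeal.map φ.toRingHom, hq'prime⟩
    have hx : hU.fromSpec y ∈ U := hU.opensRange_fromSpec.le ⟨y, rfl⟩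
    set x := hU.fromSpec y with hxdef
    obtain ⟨d, hd⟩ := h x hx
    refine ⟨d, ?_⟩
    letI iBO : Algebra Γ(X, U) (X.presheaf.stalk x) := X.presheaf.algebra_section_stalk ⟨x, hx⟩
    letI iAO : Algebra Γ(S, V) (X.presheaf.stalk x) :=
      ((f.appLE V U hUV) ≫ X.presheaf.germ U x hx).hom.toAlgebra
    letI iPO : Algebra (MvPolynomial (Fin n) Γ(S, V)) (X.presheaf.stalk x) :=
      ((algebraMap Γ(X, U) (X.presheaf.stalk x)).comp φ.toRingHom).toAlgebra
    have t1 : IsScalarTower Γ(S, V) Γ(X, U) (X.presheaf.stalk x) :=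
      IsScalarTower.of_algebraMap_eq (fun _ => rfl)
    have t2 : IsScalarTower (MvPolynomial (Fin n) Γ(S, V)) Γ(X, U) (X.presheaf.stalk x) :=
      IsScalarTower.of_algebraMap_eq (fun _ => rfl)
    have t3 : IsScalarTower Γ(S, V) (MvPolynomial (Fin n) Γ(S, V)) (X.presheaf.stalk x) :=
      IsScalarTower.of_algebraMap_eq (fun a => by
        show algebraMap Γ(X, U) (X.presheaf.stalk x) (algebraMap Γ(S, V) Γ(X, U) a) =
          algebraMap Γ(X, U) (X.presheaf.stalk x) (φ (algebraMap _ _ a))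
        rw [φ.commutes])
    have hloc : IsLocalization (q.asIdeal.map φ.toRingHom).primeCompl (X.presheaf.stalk x) :=
      hU.isLocalization_stalk' y hx
    have hsub : Algebra.algebraMapSubmonoid Γ(X, U) q.asIdeal.primeCompl =
        (q.asIdeal.map φ.toRingHom).primeCompl := by
      ext b
      constructor
      · rintro ⟨p, hp, rfl⟩
        intro hb
        have : p ∈ (q.asIdeal.map φ.toRingHom).comap φ.toRingHom := hb
        rw [hcomap] at this
        exact hp this
      · intro hb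
        obtain ⟨p, rfl⟩ := hφ b
        exact ⟨p, fun hp => hb (Ideal.mem_map_of_mem _ hp), rfl⟩
    have hloc' : IsLocalization (Algebra.algebraMapSubmonoid Γ(X, U) q.asIdeal.primeCompl)
        (X.presheaf.stalk x) := hsub ▸ hloc
    have hlm : IsLocalizedModule q.asIdeal.primeCompl
        (IsScalarTower.toAlgHom (MvPolynomial (Fin n) Γ(S, V)) Γ(X, U)
          (X.presheaf.stalk x)).toLinearMap :=
      isLocalizedModule_iff_isLocalization.mpr hloc'
    let e := IsLocalizedModule.iso q.asIdeal.primeCompl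
      (IsScalarTower.toAlgHom (MvPolynomial (Fin n) Γ(S, V)) Γ(X, U)
          (X.presheaf.stalk x)).toLinearMap
    exact hasTorDimLE_of_linearEquiv (e.restrictScalars Γ(S, V)).symm d
      (hasTorDimLE_of_stalk f hV hUV x hx d hd)
  · -- the localisation of `B` at `q` vanishes
    obtain ⟨s, hsker, hsq⟩ := Set.not_subset.1 hker
    have hsub : Subsingleton (LocalizedModule q.asIdeal.primeCompl Γ(X, U)) :=
      Groth.Agent.R2.H55.TorLoc.subsingleton_of_isLocalizedModule q.asIdeal.primeCompl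
        (LocalizedModule.mkLinearMap q.asIdeal.primeCompl Γ(X, U)) ⟨s, hsq⟩ (fun b => by
          show φ s * b = 0
          rw [show φ s = 0 from hsker, zero_mul])
    exact ⟨0, hasTorDimLE_of_subsingleton _ 0⟩

end Groth.Agent.R2.H69.StalkTor
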