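import Mathlib
import Groth.Agent.R2.H69StalkTor
import Groth.Agent.R2.H27TorComp
import Groth.Agent.R2.H31PolyTorDim

/-!
# `DerSch` tor dimension of morphisms versus tor dimension of stalks / affine pieces (helper69)

* `hasTorDimLE_of_hasTorAmp`: a module whose `M[0]` has tor amplitude in `[a, b]` with `-d ≤ a` has tor
  dimension `≤ d`;
* `hasTorAmplitudeAt_unit_iff`, `stalkTorLE_of_hasTorAmplitudeAt`: bridge between
  `DerSch.HasTorAmplitudeAt f a b (unitCx X) x` and `StalkTor.StalkTorLE f d x`;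
* `hasTorDimLE_of_ringEquivs`: transport of tor dimension of an algebra along ring isomorphisms.
-/
set_option autoImplicit false
set_option maxHeartbeats 400000
set_option linter.style.haveILetI false
universe u
open CategoryTheory CategoryTheory.Limits AlgebraicGeometry
attribute [local instance] HasDerivedCategory.standard

namespace Groth.Agent.R2.H69.DerSchTor

open DerivedCategory Groth.Agent.Lib.Helper1.Tor Groth.Agent.Lib.Helper1.TorDim
open Groth.Agent.R2.H69.TorDimLoc Groth.Agent.R2.H69.StalkTor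

section Ring
variable {R : Type u} [CommRing R]

theorem hasTorDimLE_of_hasTorAmp (M : Type u) [AddCommGroup M] [Module R M] (a b : ℤ) (d : ℕ)
    (hd : -(d : ℤ) ≤ a) (h : DRing.HasTorAmplitudeIn R a b (Dual.inD R M)) :
    DRing.HasTorDimLE R d M := by
  let P := ProjectiveResolution.of (ModuleCat.of R M)
  set G := P.cochainComplex with hG
  have e : Q.obj G ≅ Dual.inD R M := resIso M P
  have hGb : DRing.VanishesAbove G 0 := fun i hi => G.isZero_of_isStrictlyLE 0 i hi
  have hGf : DRing.TermwiseFlat G := termwiseFlat_of_projective G (fun k => inferInstance)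
  obtain ⟨E, hE, hEf, ⟨e'⟩⟩ := h
  intro N _ _ p hp
  have htv : TorVan G a b := torVan_of_iso G E 0 hGb hGf a b hE hEf (e' ≪≫ e.symm)
  obtain ⟨q, rfl⟩ : ∃ q, p = q + 1 := ⟨p - 1, by omega⟩
  exact (exactAt_TC_iff_subsingleton_tor M N P q).1
    (htv (ModuleCat.of R N) _ (Or.inl (by push_cast; omega)))

/-- transport of the tor dimension of an algebra along ring isomorphisms -/
theorem hasTorDimLE_of_ringEquivs {R' S S' : Type u} [CommRing R'] [CommRing S] [CommRing S']
    [Algebra R S] [Algebra R' S'] (σ₁ : R ≃+* R') (σ₂ : S ≃+* S')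
    (hσ : ∀ r : R, σ₂ (algebraMap R S r) = algebraMap R' S' (σ₁ r)) (d : ℕ)
    (h : DRing.HasTorDimLE R d S) : DRing.HasTorDimLE R' d S' := by
  refine Groth.Agent.R2.H31.PolyTorDim.hasTorDimLE_of_ringEquiv σ₁ (ModuleCat.of R' S') d ?_
  let e : S ≃ₗ[R] ((ModuleCat.restrictScalars σ₁.toRingHom).obj (ModuleCat.of R' S')) :=
    { toFun := fun s => σ₂ s
      invFun := fun s' => σ₂.symm s'
      left_inv := fun s => σ₂.symm_apply_apply s
      right_inv := fun s' => σ₂.apply_symm_apply s'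
      map_add' := fun s t => map_add σ₂ s t
      map_smul' := fun r s => by
        change σ₂ (r • s) = σ₁ r • (σ₂ s : S')
        rw [Algebra.smul_def, Algebra.smul_def, map_mul, hσ] }
  exact hasTorDimLE_of_linearEquiv e d h

end Ring

section Scheme
variable {X Y : Scheme.{u}} (f : X ⟶ Y)

theorem hasTorAmplitudeAt_unit_iff (x : X) (d : ℕ) :
    DerSch.HasTorAmplitudeAt f (-(d : ℤ)) 0 (DerSch.unitCx X) x ↔ StalkTorLE f d x := by
  letI := (f.stalkMap x).hom.toAlgebra
  unfold DerSch.HasTorAmplitudeAt StalkTorLE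
  rw [hasTorDimLE_iff_hasTorAmp]
  exact ⟨fun h => hasTorAmp_of_iso (Groth.Agent.R2.H27.TorComp.toDUnitIso f x) h,
    fun h => hasTorAmp_of_iso (Groth.Agent.R2.H27.TorComp.toDUnitIso f x).symm h⟩

theorem stalkTorLE_of_hasTorAmplitudeAt (x : X) (a b : ℤ) (d : ℕ) (hd : -(d : ℤ) ≤ a)
    (h : DerSch.HasTorAmplitudeAt f a b (DerSch.unitCx X) x) : StalkTorLE f d x := by
  letI := (f.stalkMap x).hom.toAlgebra
  unfold DerSch.HasTorAmplitudeAt at h
  exact hasTorDimLE_of_hasTorAmp _ a b d hd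
    (hasTorAmp_of_iso (Groth.Agent.R2.H27.TorComp.toDUnitIso f x) h)

theorem exists_stalkTorLE_of_hasFiniteTorDim (hf : DerSch.HasFiniteTorDim f) :
    ∃ d : ℕ, ∀ x : X, StalkTorLE f d x := by
  obtain ⟨a, b, h⟩ := hf
  refine ⟨(-a).toNat, fun x => stalkTorLE_of_hasTorAmplitudeAt f x a b _ ?_ (h x)⟩
  have := Int.self_le_toNat (-a)
  omega

theorem hasFiniteTorDim_of_stalkTorLE (d : ℕ) (h : ∀ x : X, StalkTorLE f d x) :
    DerSch.HasFiniteTorDim f :=
  ⟨-(d : ℤ), 0, fun x => (hasTorAmplitudeAt_unit_iff f x d).2 (h x)⟩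

end Scheme

end Groth.Agent.R2.H69.DerSchTor
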