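import Groth.Agent.R2.H69WittFrobNilp
import Mathlib.LinearAlgebra.Basis.Basic
import Mathlib.LinearAlgebra.Basis.Defs
import Mathlib.RingTheory.Ideal.Maps
import Mathlib.RingTheory.Ideal.Operations

/-!
# Lifting Frobenius-compatible linear maps (abstract fixed point argument)

`W` a commutative ring with an endomorphism `σ`, `P₁`, `P₂` modules with `σ`-semilinear
endomorphisms `F₁`, `F₂`, where `F₁` carries a basis `b` to a basis `b'`.  The operator
`U ω := (b' i ↦ F₂ (ω (b i)))` satisfies `U ω ∘ F₁ = F₂ ∘ ω`; a linear map `α` commutes with the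
`F`'s iff `U α = α`.  If some iterate of `σ` kills an ideal `𝔠`, `U` is nilpotent on maps with values
in `𝔠 P₂`, which gives existence and uniqueness of fixed points in a congruence class.
-/

set_option autoImplicit false

namespace Groth.Agent.R2.H69.DispLift

open Module

variable {W : Type*} [CommRing W] {σ : W →+* W}
variable {P₁ P₂ : Type*} [AddCommGroup P₁] [Module W P₁] [AddCommGroup P₂] [Module W P₂]
variable {ι₁ : Type*} (b b' : Basis ι₁ W P₁)
variable (F₁ : P₁ →ₛₗ[σ] P₁) (F₂ : P₂ →ₛₗ[σ] P₂)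

/-- The operator `U`. -/
noncomputable def U : (P₁ →ₗ[W] P₂) →+ (P₁ →ₗ[W] P₂) where
  toFun ω := b'.constr W (fun i => F₂ (ω (b i)))
  map_zero' := by
    apply b'.ext
    intro i
    simp
  map_add' ω ω' := by
    apply b'.ext
    intro i
    simp

theorem U_basis (ω : P₁ →ₗ[W] P₂) (i : ι₁) : U b b' F₂ ω (b' i) = F₂ (ω (b i)) := by
  simp [U]

variable {b b' F₁}

theorem U_apply_F₁ (hb' : ∀ i, b' i = F₁ (b i)) (ω : P₁ →ₗ[W] P₂) (x : P₁) :
    U b b' F₂ ω (F₁ x) = F₂ (ω x) := by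
  have h : ((U b b' F₂ ω).comp F₁ : P₁ →ₛₗ[σ] P₂) = F₂.comp ω := by
    apply b.ext
    intro i
    simp only [LinearMap.comp_apply]
    rw [← hb', U_basis]
  exact LinearMap.congr_fun h x

theorem U_eq_self_iff (hb' : ∀ i, b' i = F₁ (b i)) (α : P₁ →ₗ[W] P₂) :
    U b b' F₂ α = α ↔ ∀ x, F₂ (α x) = α (F₁ x) := by
  constructor
  · intro h x
    rw [← U_apply_F₁ F₂ hb' α x, h]
  · intro h
    apply b'.ext
    intro i
    rw [U_basis, h, hb']

/-- `ω` has values in `I • ⊤`. -/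
def Vals (I : Ideal W) (ω : P₁ →ₗ[W] P₂) : Prop := ∀ x, ω x ∈ I • (⊤ : Submodule W P₂)

theorem Vals.mono {I I' : Ideal W} (h : I ≤ I') {ω : P₁ →ₗ[W] P₂} (hω : Vals I ω) : Vals I' ω :=
  fun x => Submodule.smul_mono_left h (hω x)

theorem Vals.add {I : Ideal W} {ω ω' : P₁ →ₗ[W] P₂} (h : Vals I ω) (h' : Vals I ω') :
    Vals I (ω + ω') := fun x => by
  rw [LinearMap.add_apply]; exact Submodule.add_mem _ (h x) (h' x)

theorem Vals.sub {I : Ideal W} {ω ω' : P₁ →ₗ[W] P₂} (h : Vals I ω) (h' : Vals I ω') :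
    Vals I (ω - ω') := fun x => by
  rw [LinearMap.sub_apply]; exact Submodule.sub_mem _ (h x) (h' x)

theorem Vals.zero (I : Ideal W) : Vals I (0 : P₁ →ₗ[W] P₂) := fun x => by
  rw [LinearMap.zero_apply]; exact Submodule.zero_mem _

theorem Vals.sum {I : Ideal W} {κ : Type*} (s : Finset κ) (ω : κ → (P₁ →ₗ[W] P₂))
    (h : ∀ k ∈ s, Vals I (ω k)) : Vals I (∑ k ∈ s, ω k) := by
  classical
  induction s using Finset.induction_on with
  | empty => simpa using Vals.zero I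
  | insert a s ha ih =>
    rw [Finset.sum_insert ha]
    exact (h a (Finset.mem_insert_self a s)).add
      (ih fun k hk => h k (Finset.mem_insert_of_mem hk))

theorem eq_zero_of_vals_bot {ω : P₁ →ₗ[W] P₂} (h : Vals (⊥ : Ideal W) ω) : ω = 0 := by
  ext x
  have := h x
  rw [Submodule.bot_smul, Submodule.mem_bot] at this
  simpa using this

theorem semilinear_mem (I : Ideal W) (y : P₂) (hy : y ∈ I • (⊤ : Submodule W P₂)) :
    F₂ y ∈ (Ideal.map σ I) • (⊤ : Submodule W P₂) := by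
  refine Submodule.smul_induction_on hy (fun r hr n _ => ?_) (fun x y hx hy => ?_)
  · rw [F₂.map_smulₛₗ]
    exact Submodule.smul_mem_smul (Ideal.mem_map_of_mem σ hr) trivial
  · rw [map_add]
    exact Submodule.add_mem _ hx hy

theorem U_vals (I : Ideal W) (ω : P₁ →ₗ[W] P₂) (h : Vals I ω) :
    Vals (Ideal.map σ I) (U b b' F₂ ω) := by
  intro x
  change b'.constr W (fun i => F₂ (ω (b i))) x ∈ _
  rw [Basis.constr_apply]
  refine Submodule.sum_mem _ fun i _ => ?_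
  exact Submodule.smul_mem _ _ (semilinear_mem F₂ I _ (h (b i)))

theorem iterate_map_eq_span (I : Ideal W) (k : ℕ) :
    (Ideal.map σ)^[k] I = Ideal.span ((σ^[k]) '' (I : Set W)) := by
  induction k with
  | zero => simp
  | succ k ih =>
    rw [Function.iterate_succ_apply', ih, Ideal.map_span, Set.image_image]
    congr 2
    funext x
    rw [Function.iterate_succ_apply']

theorem iterate_map_eq_bot (I : Ideal W) (M : ℕ) (hM : ∀ x ∈ I, σ^[M] x = 0) :
    (Ideal.map σ)^[M] I = ⊥ := by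
  rw [iterate_map_eq_span, eq_bot_iff, Ideal.span_le]
  rintro _ ⟨x, hx, rfl⟩
  simpa using hM x hx

theorem iterate_U_vals (I : Ideal W) (ω : P₁ →ₗ[W] P₂) (h : Vals I ω) (k : ℕ) :
    Vals ((Ideal.map σ)^[k] I) ((U b b' F₂)^[k] ω) := by
  induction k with
  | zero => simpa using h
  | succ k ih =>
    rw [Function.iterate_succ_apply', Function.iterate_succ_apply']
    exact U_vals F₂ _ _ ih

theorem iterate_U_vals_of_stable (I : Ideal W) (hI : ∀ x ∈ I, σ x ∈ I) (ω : P₁ →ₗ[W] P₂)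
    (h : Vals I ω) (k : ℕ) : Vals I ((U b b' F₂)^[k] ω) := by
  induction k with
  | zero => simpa using h
  | succ k ih =>
    rw [Function.iterate_succ_apply']
    refine (U_vals F₂ _ _ ih).mono ?_
    rw [Ideal.map_le_iff_le_comap]
    intro x hx
    exact hI x hx

/-- Existence. -/
theorem exists_fixed (hb' : ∀ i, b' i = F₁ (b i)) (𝔠 : Ideal W) (h𝔠 : ∀ x ∈ 𝔠, σ x ∈ 𝔠) (M : ℕ)
    (hM : ∀ x ∈ 𝔠, σ^[M] x = 0) (α₀ : P₁ →ₗ[W] P₂)
    (hα₀ : ∀ x : P₁, F₂ (α₀ x) - α₀ (F₁ x) ∈ 𝔠 • (⊤ : Submodule W P₂)) :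
    ∃ α : P₁ →ₗ[W] P₂, (∀ x : P₁, α x - α₀ x ∈ 𝔠 • (⊤ : Submodule W P₂)) ∧
      ∀ x : P₁, F₂ (α x) = α (F₁ x) := by
  set ω₀ : P₁ →ₗ[W] P₂ := U b b' F₂ α₀ - α₀ with hω₀
  have hω₀v : Vals 𝔠 ω₀ := by
    intro y
    have hle : (⊤ : Submodule W P₁) ≤ Submodule.comap ω₀ (𝔠 • (⊤ : Submodule W P₂)) := by
      rw [← b'.span_eq, Submodule.span_le]
      rintro _ ⟨i, rfl⟩
      change ω₀ (b' i) ∈ 𝔠 • (⊤ : Submodule W P₂)
      rw [hω₀, LinearMap.sub_apply, U_basis, hb']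
      exact hα₀ (b i)
    exact hle trivial
  refine ⟨α₀ + ∑ k ∈ Finset.range M, (U b b' F₂)^[k] ω₀, ?_, ?_⟩
  · intro x
    have : Vals 𝔠 (∑ k ∈ Finset.range M, (U b b' F₂)^[k] ω₀) :=
      Vals.sum _ _ fun k _ => iterate_U_vals_of_stable F₂ 𝔠 h𝔠 ω₀ hω₀v k
    have h2 := this x
    simpa using h2
  · rw [← U_eq_self_iff F₂ hb']
    have hUM : (U b b' F₂)^[M] ω₀ = 0 := by
      apply eq_zero_of_vals_bot
      have := iterate_U_vals F₂ 𝔠 ω₀ hω₀v M (b := b) (b' := b')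
      rwa [iterate_map_eq_bot 𝔠 M hM] at this
    have hUα₀ : U b b' F₂ α₀ = α₀ + ω₀ := by rw [hω₀]; abel
    rw [map_add, map_sum, hUα₀]
    have h1 : ∑ k ∈ Finset.range M, U b b' F₂ ((U b b' F₂)^[k] ω₀) =
        ∑ k ∈ Finset.range M, (U b b' F₂)^[k + 1] ω₀ :=
      Finset.sum_congr rfl fun k _ => by rw [Function.iterate_succ_apply']
    rw [h1, add_assoc]
    congr 1
    have h2 := Finset.sum_range_succ' (fun k => (U b b' F₂)^[k] ω₀) M
    have h3 := Finset.sum_range_succ (fun k => (U b b' F₂)^[k] ω₀) M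
    simp only [Function.iterate_zero, id_eq] at h2
    rw [add_comm, ← h2, h3, hUM, add_zero]

/-- Uniqueness. -/
theorem fixed_unique (hb' : ∀ i, b' i = F₁ (b i)) (𝔠 : Ideal W) (M : ℕ)
    (hM : ∀ x ∈ 𝔠, σ^[M] x = 0) (α₀ α α' : P₁ →ₗ[W] P₂)
    (hα : ∀ x : P₁, α x - α₀ x ∈ 𝔠 • (⊤ : Submodule W P₂))
    (hα' : ∀ x : P₁, α' x - α₀ x ∈ 𝔠 • (⊤ : Submodule W P₂))
    (hF : ∀ x : P₁, F₂ (α x) = α (F₁ x)) (hF' : ∀ x : P₁, F₂ (α' x) = α' (F₁ x)) :
    α = α' := by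
  have hv : Vals 𝔠 (α - α') := by
    intro x
    have := Submodule.sub_mem _ (hα x) (hα' x)
    simpa using this
  have hU : U b b' F₂ (α - α') = α - α' := by
    rw [map_sub, (U_eq_self_iff F₂ hb' α).mpr hF, (U_eq_self_iff F₂ hb' α').mpr hF']
  have hiter : ∀ k, (U b b' F₂)^[k] (α - α') = α - α' := by
    intro k
    induction k with
    | zero => rfl
    | succ k ih => rw [Function.iterate_succ_apply', ih, hU]
  have := iterate_U_vals F₂ 𝔠 (α - α') hv M (b := b) (b' := b')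
  rw [iterate_map_eq_bot 𝔠 M hM, hiter] at this
  exact sub_eq_zero.mp (eq_zero_of_vals_bot this)

end Groth.Agent.R2.H69.DispLift
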