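import Mathlib
import Groth.Prelude.Def_EtRam

/-!
# Eisenstein-type extensions of the fraction field of a DVR are totally ramified (helper69)

`A` a DVR with uniformizer `π`, `K = Frac A`, `L/K` a finite field extension with a power basis
`1, x, …, x^(q-1)` such that `x^q = π (1 + c' x)` with `c' ∈ m_A`.  Then every valuation subring of `L`
dominating `A` is `{ ∑ a_i x^i | a_i ∈ A }`; hence there is exactly one, and its residue field is that of
`A` (`isTotallyRamified_of_eisenstein`).
-/
set_option autoImplicit false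
set_option maxHeartbeats 800000
set_option linter.style.haveILetI false
universe u
open IsLocalRing

namespace Groth.Agent.R2.H69.EisRam

/-- a ring map into a field with values of valuation `≤ 1` sends units to elements of valuation `1` -/
lemma val_eq_one_of_isUnit {A F Γ : Type*} [CommRing A] [Field F] [LinearOrderedCommGroupWithZero Γ]
    (w : Valuation F Γ) (φ : A →+* F) (h : ∀ a, w (φ a) ≤ 1) {a : A} (ha : IsUnit a) :
    w (φ a) = 1 := by
  obtain ⟨b, hb⟩ := ha.exists_right_inv
  have h1 : w (φ a) * w (φ b) = 1 := by rw [← map_mul, ← map_mul, hb, map_one, map_one]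
  refine le_antisymm (h a) ?_
  calc (1 : Γ) = w (φ a) * w (φ b) := h1.symm
    _ ≤ w (φ a) * 1 := mul_le_mul_right (h b) _
    _ = w (φ a) := mul_one _

variable {A K L : Type u} [CommRing A] [IsDomain A] [IsDiscreteValuationRing A] [Field K]
  [Algebra A K] [IsFractionRing A K] [Field L] [Algebra K L] [Algebra A L] [IsScalarTower A K L]

/-- the description of a dominating valuation subring -/
theorem dominating_eq (π c' : A) (hπ : maximalIdeal A = Ideal.span {π}) (hc' : c' ∈ maximalIdeal A)
    (pb : PowerBasis K L)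
    (hx : pb.gen ^ pb.dim = algebraMap A L π * (1 + algebraMap A L c' * pb.gen))
    (V : ValuationSubring L) (hV : EtRam.Dominates A (algebraMap A L) V) :
    (∀ z : L, z ∈ V ↔ ∀ i, pb.basis.repr z i ∈ Set.range (algebraMap A K)) ∧
      (∀ z : L, z ∈ V → ∃ a : A, V.valuation (z - algebraMap A L a) < 1) ∧
      V.valuation (1 + algebraMap A L c' * pb.gen) = 1 := by
  classical
  have hq : 0 < pb.dim := pb.dim_pos
  have hirr : Irreducible π := (IsDiscreteValuationRing.irreducible_iff_uniformizer π).2 hπ
  have hπ0 : π ≠ 0 := hirr.ne_zero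
  have hinj : Function.Injective (algebraMap A L) := by
    rw [IsScalarTower.algebraMap_eq A K L]
    exact (algebraMap K L).injective.comp (IsFractionRing.injective A K)
  have hπm : π ∈ maximalIdeal A := by rw [hπ]; exact Ideal.mem_span_singleton_self π
  set v := V.valuation with hv
  -- basic valuation facts
  have h1 : ∀ a : A, v (algebraMap A L a) ≤ 1 := fun a => (V.valuation_le_one_iff _).2 (hV.1 a)
  have h2 : ∀ a : A, a ∈ maximalIdeal A → v (algebraMap A L a) < 1 := hV.2
  have h3 : ∀ a : A, a ∉ maximalIdeal A → v (algebraMap A L a) = 1 := fun a ha =>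
    val_eq_one_of_isUnit v (algebraMap A L) h1 (by
      by_contra hu
      exact ha ((mem_maximalIdeal a).2 hu))
  have h4 : ∀ a : A, a ∈ maximalIdeal A → v (algebraMap A L a) ≤ v (algebraMap A L π) := by
    intro a ha
    rw [hπ, Ideal.mem_span_singleton'] at ha
    obtain ⟨b, rfl⟩ := ha
    rw [map_mul, map_mul]
    calc v (algebraMap A L b) * v (algebraMap A L π) ≤ 1 * v (algebraMap A L π) :=
          mul_le_mul_left (h1 b) _
      _ = v (algebraMap A L π) := one_mul _
  have hvπ0 : v (algebraMap A L π) ≠ 0 := by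
    rw [Ne, Valuation.zero_iff]
    exact fun h => hπ0 (hinj (h.trans (map_zero _).symm))
  have hvπ1 : v (algebraMap A L π) < 1 := h2 π hπm
  -- the generator
  have hx1 : v pb.gen ≤ 1 := by
    by_contra hgt
    push Not at hgt
    have hpow : v pb.gen ≤ v pb.gen ^ pb.dim := by
      calc v pb.gen = v pb.gen ^ 1 := (pow_one _).symm
        _ ≤ v pb.gen ^ pb.dim := pow_le_pow_right₀ hgt.le hq
    have e : pb.gen ^ pb.dim =
        algebraMap A L π + algebraMap A L π * algebraMap A L c' * pb.gen := by
      rw [hx]; ring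
    have hA : v (algebraMap A L π) < v pb.gen ^ pb.dim := hvπ1.trans (hgt.trans_le hpow)
    have hB : v (algebraMap A L π * algebraMap A L c' * pb.gen) < v pb.gen ^ pb.dim := by
      rw [map_mul, map_mul]
      have h5 : v (algebraMap A L π) * v (algebraMap A L c') < 1 :=
        mul_lt_one_of_lt_of_le hvπ1 (h1 c')
      calc v (algebraMap A L π) * v (algebraMap A L c') * v pb.gen < 1 * v pb.gen :=
            mul_lt_mul_of_pos_right h5 (lt_trans zero_lt_one hgt)
        _ = v pb.gen := one_mul _
        _ ≤ v pb.gen ^ pb.dim := hpow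
    have hlt : v (pb.gen ^ pb.dim) < v pb.gen ^ pb.dim := by
      rw [e]
      exact lt_of_le_of_lt (Valuation.map_add _ _ _) (max_lt hA hB)
    rw [map_pow] at hlt
    exact lt_irrefl _ hlt
  have hxq : v pb.gen ^ pb.dim = v (algebraMap A L π) := by
    rw [← map_pow, hx, map_mul]
    have h5 : v (algebraMap A L c' * pb.gen) < 1 := by
      rw [map_mul]
      exact mul_lt_one_of_lt_of_le (h2 c' hc') hx1
    rw [Valuation.map_one_add_of_lt _ h5, mul_one]
  have hx0 : v pb.gen ≠ 0 := by
    intro h0
    rw [h0, zero_pow hq.ne'] at hxq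
    exact hvπ0 hxq.symm
  have hxpos : 0 < v pb.gen := zero_lt_iff.2 hx0
  have hxlt : v pb.gen < 1 := by
    have : v pb.gen ^ pb.dim < 1 := hxq ▸ hvπ1
    exact (pow_lt_one_iff_of_nonneg zero_le hq.ne').1 this
  -- valuation of a sum with `A`-coefficients
  have hsum : ∀ (a : Fin pb.dim → A) (i₀ : Fin pb.dim), a i₀ ∉ maximalIdeal A →
      (∀ i, i < i₀ → a i ∈ maximalIdeal A) →
      v (∑ i, algebraMap A L (a i) * pb.gen ^ (i : ℕ)) = v pb.gen ^ (i₀ : ℕ) := by
    intro a i₀ hi₀ hlow
    rw [← Finset.add_sum_erase Finset.univ _ (Finset.mem_univ i₀)]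
    have ht0 : v (algebraMap A L (a i₀) * pb.gen ^ (i₀ : ℕ)) = v pb.gen ^ (i₀ : ℕ) := by
      rw [map_mul, map_pow, h3 _ hi₀, one_mul]
    have hrest : v (∑ i ∈ Finset.univ.erase i₀, algebraMap A L (a i) * pb.gen ^ (i : ℕ)) <
        v pb.gen ^ (i₀ : ℕ) := by
      refine Valuation.map_sum_lt v (pow_ne_zero _ hx0) ?_
      intro i hi
      have hne : i ≠ i₀ := Finset.ne_of_mem_erase hi
      rw [map_mul, map_pow]
      rcases lt_or_gt_of_ne hne with hlt | hgt
      · calc v (algebraMap A L (a i)) * v pb.gen ^ (i : ℕ)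
            ≤ v (algebraMap A L (a i)) * 1 :=
              mul_le_mul_right (pow_le_one₀ zero_le hx1) _
          _ = v (algebraMap A L (a i)) := mul_one _
          _ ≤ v (algebraMap A L π) := h4 _ (hlow i hlt)
          _ = v pb.gen ^ pb.dim := hxq.symm
          _ < v pb.gen ^ (i₀ : ℕ) := pow_lt_pow_right_of_lt_one₀ hxpos hxlt i₀.2
      · calc v (algebraMap A L (a i)) * v pb.gen ^ (i : ℕ)
            ≤ 1 * v pb.gen ^ (i : ℕ) := mul_le_mul_left (h1 _) _
          _ = v pb.gen ^ (i : ℕ) := one_mul _
          _ < v pb.gen ^ (i₀ : ℕ) := pow_lt_pow_right_of_lt_one₀ hxpos hxlt hgt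
    rw [Valuation.map_add_eq_of_lt_left v (ht0.symm ▸ hrest), ht0]
  -- expansion in the power basis
  have hexp : ∀ z : L, z = ∑ i, algebraMap K L (pb.basis.repr z i) * pb.gen ^ (i : ℕ) := by
    intro z
    conv_lhs => rw [← pb.basis.sum_repr z]
    refine Finset.sum_congr rfl (fun i _ => ?_)
    rw [PowerBasis.coe_basis, Algebra.smul_def]
  -- membership in `V` for `A`-coefficients
  have hmemV : ∀ a : Fin pb.dim → A, (∑ i, algebraMap A L (a i) * pb.gen ^ (i : ℕ)) ∈ V := by
    intro a
    refine Subring.sum_mem V.toSubring (fun i _ => ?_)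
    exact V.mul_mem _ _ (hV.1 _) (V.pow_mem ((V.valuation_le_one_iff _).1 hx1) _)
  have hK1 : ∀ z : L, z ∈ V ↔ ∀ i, pb.basis.repr z i ∈ Set.range (algebraMap A K) := by
    intro z
    constructor
    · intro hz
      by_contra hnot
      push Not at hnot
      obtain ⟨j, hj⟩ := hnot
      set vA := ValuationRing.valuation A K with hvA
      have hint : ∀ c : K, vA c ≤ 1 ↔ c ∈ Set.range (algebraMap A K) := fun c =>
        (Valuation.mem_integer_iff _ _).symm.trans (ValuationRing.mem_integer_iff A K c)
      obtain ⟨i₁, -, hmax⟩ := Finset.exists_max_image Finset.univ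
        (fun i => vA (pb.basis.repr z i)) ⟨j, Finset.mem_univ j⟩
      have hbig : 1 < vA (pb.basis.repr z i₁) := by
        have hj' : ¬ vA (pb.basis.repr z j) ≤ 1 := fun h => hj ((hint _).1 h)
        exact (not_le.1 hj').trans_le (hmax j (Finset.mem_univ j))
      have hc0 : pb.basis.repr z i₁ ≠ 0 := by
        intro h0
        rw [h0, map_zero] at hbig
        exact not_lt.2 zero_le hbig
      have hvc0 : vA (pb.basis.repr z i₁) ≠ 0 := (Valuation.ne_zero_iff _).2 hc0
      set d : K := (pb.basis.repr z i₁)⁻¹ with hd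
      have hvd : vA d < 1 := by
        rw [hd, map_inv₀]
        exact inv_lt_one_of_one_lt₀ hbig
      obtain ⟨δ, hδ⟩ := (hint d).1 hvd.le
      have hδm : δ ∈ maximalIdeal A := by
        by_contra hnm
        have hu : IsUnit δ := by
          by_contra hu
          exact hnm ((mem_maximalIdeal δ).2 hu)
        have := val_eq_one_of_isUnit vA (algebraMap A K)
          (fun a => (hint _).2 ⟨a, rfl⟩) hu
        rw [hδ] at this
        exact (ne_of_lt hvd) this
      have hcoef : ∀ i, ∃ a : A, algebraMap A K a = d * pb.basis.repr z i := by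
        intro i
        apply (hint _).1
        rw [map_mul, hd, map_inv₀]
        calc (vA (pb.basis.repr z i₁))⁻¹ * vA (pb.basis.repr z i)
            ≤ (vA (pb.basis.repr z i₁))⁻¹ * vA (pb.basis.repr z i₁) :=
              mul_le_mul_right (hmax i (Finset.mem_univ i)) _
          _ = 1 := inv_mul_cancel₀ hvc0
      choose a ha using hcoef
      have ha1 : a i₁ ∉ maximalIdeal A := by
        have : a i₁ = 1 := by
          apply IsFractionRing.injective A K
          rw [ha, hd, inv_mul_cancel₀ hc0, map_one]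
        rw [this]
        exact fun h => (Ideal.ne_top_iff_one _).1 (maximalIdeal.isMaximal A).ne_top h
      have hz' : algebraMap A L δ * z = ∑ i, algebraMap A L (a i) * pb.gen ^ (i : ℕ) := by
        conv_lhs => rw [hexp z, Finset.mul_sum]
        refine Finset.sum_congr rfl (fun i _ => ?_)
        rw [IsScalarTower.algebraMap_apply A K L δ, hδ, IsScalarTower.algebraMap_apply A K L (a i),
          ha i, map_mul, mul_assoc]
      obtain ⟨i₀, hi₀, hmin⟩ := Finset.exists_min_image
        (Finset.univ.filter (fun i => a i ∉ maximalIdeal A)) (fun i => (i : ℕ))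
        ⟨i₁, Finset.mem_filter.2 ⟨Finset.mem_univ _, ha1⟩⟩
      have hi₀' : a i₀ ∉ maximalIdeal A := (Finset.mem_filter.1 hi₀).2
      have hlow : ∀ i, i < i₀ → a i ∈ maximalIdeal A := by
        intro i hi
        by_contra hni
        have := hmin i (Finset.mem_filter.2 ⟨Finset.mem_univ _, hni⟩)
        exact absurd (Fin.lt_def.1 hi) (not_lt.2 this)
      have hval := hsum a i₀ hi₀' hlow
      rw [← hz', map_mul] at hval
      have hle : v (algebraMap A L δ) * v z ≤ v (algebraMap A L π) := by
        calc v (algebraMap A L δ) * v z ≤ v (algebraMap A L δ) * 1 :=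
              mul_le_mul_right ((V.valuation_le_one_iff _).2 hz) _
          _ = v (algebraMap A L δ) := mul_one _
          _ ≤ v (algebraMap A L π) := h4 δ hδm
      have hgt : v (algebraMap A L π) < v pb.gen ^ (i₀ : ℕ) := by
        rw [← hxq]
        exact pow_lt_pow_right_of_lt_one₀ hxpos hxlt i₀.2
      rw [hval] at hle
      exact lt_irrefl _ (hgt.trans_le hle)
    · intro hz
      choose a ha using hz
      rw [hexp z]
      have : (∑ i, algebraMap K L (pb.basis.repr z i) * pb.gen ^ (i : ℕ)) =
          ∑ i, algebraMap A L (a i) * pb.gen ^ (i : ℕ) :=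
        Finset.sum_congr rfl (fun i _ => by
          rw [IsScalarTower.algebraMap_apply A K L (a i), ha i])
      rw [this]
      exact hmemV a
  have hK3 : v (1 + algebraMap A L c' * pb.gen) = 1 := by
    have h5 : v (algebraMap A L c' * pb.gen) < 1 := by
      rw [map_mul]
      exact mul_lt_one_of_lt_of_le (h2 c' hc') hx1
    exact Valuation.map_one_add_of_lt _ h5
  refine ⟨hK1, ?_, hK3⟩
  intro z hz
  have hcoef := (hK1 z).1 hz
  choose a ha using hcoef
  let i0 : Fin pb.dim := ⟨0, hq⟩
  refine ⟨a i0, ?_⟩
  have hzsum : z = ∑ i, algebraMap A L (a i) * pb.gen ^ (i : ℕ) := by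
    conv_lhs => rw [hexp z]
    exact Finset.sum_congr rfl (fun i _ => by
      rw [IsScalarTower.algebraMap_apply A K L (a i), ha i])
  have hsub : z - algebraMap A L (a i0) =
      ∑ i ∈ Finset.univ.erase i0, algebraMap A L (a i) * pb.gen ^ (i : ℕ) := by
    conv_lhs => rw [hzsum, ← Finset.add_sum_erase Finset.univ _ (Finset.mem_univ i0)]
    simp [i0]
  rw [hsub]
  refine Valuation.map_sum_lt v one_ne_zero ?_
  intro i hi
  have hne : i ≠ i0 := Finset.ne_of_mem_erase hi
  have hipos : 0 < (i : ℕ) := by
    rcases Nat.eq_zero_or_pos (i : ℕ) with h | h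
    · exact absurd (Fin.ext h) hne
    · exact h
  rw [map_mul, map_pow]
  calc v (algebraMap A L (a i)) * v pb.gen ^ (i : ℕ) ≤ 1 * v pb.gen ^ (i : ℕ) :=
        mul_le_mul_left (h1 _) _
    _ = v pb.gen ^ (i : ℕ) := one_mul _
    _ < 1 := pow_lt_one₀ zero_le hxlt hipos.ne'

/-- **Eisenstein-type extensions are totally ramified.** -/
theorem isTotallyRamified_of_eisenstein (π c' : A) (hπ : maximalIdeal A = Ideal.span {π})
    (hc' : c' ∈ maximalIdeal A) (pb : PowerBasis K L)
    (hx : pb.gen ^ pb.dim = algebraMap A L π * (1 + algebraMap A L c' * pb.gen)) :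
    EtRam.IsTotallyRamified A (algebraMap A L) := by
  refine ⟨?_, ?_, ?_⟩
  · obtain ⟨V, h, hloc⟩ := IsLocalRing.exists_factor_valuationRing (algebraMap A L)
    refine ⟨V, h, fun a ha => ?_⟩
    have hnu : ¬ IsUnit ((algebraMap A L).codRestrict V.toSubring h a) := fun hu =>
      ((mem_maximalIdeal a).1 ha) (hloc.map_nonunit a hu)
    exact (V.valuation_lt_one_iff ⟨algebraMap A L a, h a⟩).1 ((mem_maximalIdeal _).2 hnu)
  · intro V V' hV hV'
    ext z
    exact ((dominating_eq π c' hπ hc' pb hx V hV).1 z).trans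
      ((dominating_eq π c' hπ hc' pb hx V' hV').1 z).symm
  · intro V hV r
    obtain ⟨⟨z, hz⟩, rfl⟩ := IsLocalRing.residue_surjective r
    obtain ⟨a, ha⟩ := (dominating_eq π c' hπ hc' pb hx V hV).2.1 z hz
    refine ⟨a, ?_⟩
    show IsLocalRing.residue V ((algebraMap A L).codRestrict V hV.1 a) =
      IsLocalRing.residue V ⟨z, hz⟩
    refine Ideal.Quotient.eq.2 ?_
    rw [V.valuation_lt_one_iff]
    have : ((((algebraMap A L).codRestrict V hV.1 a) - ⟨z, hz⟩ : V) : L) =
        algebraMap A L a - z := rfl
    rw [this, Valuation.map_sub_swap]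
    exact ha

section Assembly
open Polynomial

variable (A K)

/-- the Eisenstein polynomial `X^q - (π c' X + π)` -/
noncomputable def eisPoly (π c' : A) (q : ℕ) : A[X] := X ^ q - (C (π * c') * X + C π)

theorem exists_totallyRamified (π : A) (hπ : maximalIdeal A = Ideal.span {π})
    (n : ℕ) (hn : 1 < n) (q : ℕ) (hq : 0 < q) :
    ∃ (L : Type u) (_ : Field L) (_ : Algebra K L) (_ : Algebra A L) (_ : IsScalarTower A K L),
      Module.finrank K L = q ∧ Algebra.IsSeparable K L ∧
      EtRam.IsTotallyRamified A (algebraMap A L) ∧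
      ∃ πB b b' : L, πB ∈ integralClosure A L ∧ b ∈ integralClosure A L ∧
        b' ∈ integralClosure A L ∧
        πB ^ q = algebraMap A L π + algebraMap A L π ^ n * b ∧
        πB ^ q = algebraMap A L π + πB ^ (n * q) * b' := by
  classical
  have hirrπ : Irreducible π := (IsDiscreteValuationRing.irreducible_iff_uniformizer π).2 hπ
  have hπ0 : π ≠ 0 := hirrπ.ne_zero
  have hπm : π ∈ maximalIdeal A := by rw [hπ]; exact Ideal.mem_span_singleton_self π
  -- the auxiliary coefficient
  set ε : A := if q = 1 then 0 else 1 with hε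
  set c' : A := ε * π ^ (n - 1) with hc'
  have hc'm : c' ∈ maximalIdeal A := by
    rw [hc']
    refine Ideal.mul_mem_left _ _ ?_
    have : n - 1 = (n - 2) + 1 := by omega
    rw [this, pow_succ]
    exact Ideal.mul_mem_left _ _ hπm
  have hcπ : π * c' = ε * π ^ n := by
    rw [hc']
    have : n = (n - 1) + 1 := by omega
    conv_rhs => rw [this, pow_succ]
    ring
  set f : A[X] := eisPoly A π c' q with hf
  have hdeg : (C (π * c') * X + C π : A[X]).degree < (q : WithBot ℕ) := by
    by_cases hq1 : q = 1
    · have : c' = 0 := by rw [hc', hε, if_pos hq1, zero_mul]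
      rw [this, mul_zero, C_0, zero_mul, zero_add, hq1]
      exact lt_of_le_of_lt degree_C_le (by exact_mod_cast zero_lt_one)
    · have h2 : 2 ≤ q := by omega
      refine lt_of_le_of_lt degree_linear_le ?_
      exact_mod_cast h2
  have hmonic : f.Monic := monic_X_pow_sub hdeg
  have hfdeg : f.degree = (q : WithBot ℕ) := by
    rw [hf, eisPoly, degree_sub_eq_left_of_degree_lt (by rwa [degree_X_pow]), degree_X_pow]
  have hfnat : f.natDegree = q := natDegree_eq_of_degree_eq_some hfdeg
  have hcoeff : ∀ m : ℕ, f.coeff m = (if m = q then 1 else 0) -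
      ((if m = 1 then π * c' else 0) + (if m = 0 then π else 0)) := by
    intro m
    rw [hf, eisPoly, coeff_sub, coeff_add, coeff_X_pow, coeff_C_mul_X, coeff_C]
  -- irreducibility over `A`
  have hPprime : (maximalIdeal A).IsPrime := (maximalIdeal.isMaximal A).isPrime
  have hirrA : Irreducible f := by
    refine irreducible_of_eisenstein_criterion hPprime ?_ ?_ ?_ ?_ hmonic.isPrimitive
    · rw [hmonic.leadingCoeff]
      exact fun h => (Ideal.ne_top_iff_one _).1 (maximalIdeal.isMaximal A).ne_top h
    · intro m hm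
      rw [hfdeg] at hm
      have hmq : m < q := by exact_mod_cast hm
      rw [hcoeff m, if_neg hmq.ne, zero_sub, neg_mem_iff]
      refine Ideal.add_mem _ ?_ ?_
      · split_ifs
        · exact Ideal.mul_mem_right _ _ hπm
        · exact Ideal.zero_mem _
      · split_ifs
        · exact hπm
        · exact Ideal.zero_mem _
    · rw [hfdeg]
      exact_mod_cast hq
    · rw [hcoeff 0, if_neg hq.ne, if_neg (by omega), if_pos rfl, zero_add, zero_sub, neg_mem_iff,
        hπ, Ideal.span_singleton_pow, Ideal.mem_span_singleton']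
      rintro ⟨t, ht⟩
      have h1 : π * (t * π) = π * 1 := by rw [mul_one]; nth_rewrite 3 [← ht]; ring
      have h2 : t * π = 1 := mul_left_cancel₀ hπ0 h1
      exact hirrπ.not_isUnit (IsUnit.of_mul_eq_one t (by rw [mul_comm]; exact h2))
  set g : K[X] := f.map (algebraMap A K) with hg
  have hgirr : Irreducible g := (hmonic.irreducible_iff_irreducible_map_fraction_map).1 hirrA
  have hgmonic : g.Monic := hmonic.map _
  have hg0 : g ≠ 0 := hgmonic.ne_zero
  have hgnat : g.natDegree = q := by rw [hg, hmonic.natDegree_map, hfnat]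
  haveI : Fact (Irreducible g) := ⟨hgirr⟩
  let L := AdjoinRoot g
  let pb : PowerBasis K L := AdjoinRoot.powerBasis hg0
  have hpbdim : pb.dim = q := (AdjoinRoot.powerBasis_dim hg0).trans hgnat
  have hpbgen : pb.gen = AdjoinRoot.root g := AdjoinRoot.powerBasis_gen hg0
  set x : L := AdjoinRoot.root g with hx
  -- the defining relation
  have hroot : Polynomial.eval₂ (algebraMap A L) x f = 0 := by
    have h1 : Polynomial.eval₂ (AdjoinRoot.of g) x (f.map (algebraMap A K)) = 0 :=
      AdjoinRoot.eval₂_root g
    rw [Polynomial.eval₂_map] at h1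
    have h2 : (AdjoinRoot.of g).comp (algebraMap A K) = algebraMap A L := by
      ext a
      rfl
    rw [h2] at h1
    exact h1
  have hrel : x ^ q = algebraMap A L π * (1 + algebraMap A L c' * x) := by
    have h1 := hroot
    rw [hf, eisPoly, eval₂_sub, eval₂_add, eval₂_mul, eval₂_X_pow, eval₂_C, eval₂_C, eval₂_X,
      sub_eq_zero] at h1
    rw [h1, map_mul]
    ring
  have hrel' : pb.gen ^ pb.dim = algebraMap A L π * (1 + algebraMap A L c' * pb.gen) := by
    rw [hpbgen, hpbdim]
    exact hrel
  have hxint : IsIntegral A x := ⟨f, hmonic, hroot⟩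
  have hTR := isTotallyRamified_of_eisenstein (A := A) (K := K) (L := L) π c' hπ hc'm pb hrel'
  -- separability
  have hsep : Algebra.IsSeparable K L := by
    have hder : derivative g ≠ 0 := by
      intro h0
      have h1 : (derivative g).coeff 0 = 0 := by rw [h0, coeff_zero]
      rw [coeff_derivative, hg, coeff_map, hcoeff 1, if_pos rfl, if_neg one_ne_zero, add_zero]
        at h1
      simp only [Nat.cast_zero, zero_add, mul_one] at h1
      by_cases hq1 : q = 1
      · have : c' = 0 := by rw [hc', hε, if_pos hq1, zero_mul]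
        rw [if_pos hq1.symm, this, mul_zero, sub_zero, map_one] at h1
        exact one_ne_zero h1
      · have hq1' : ¬ (1 = q) := fun h => hq1 h.symm
        rw [if_neg hq1', zero_sub, map_neg, neg_eq_zero, hcπ, hε, if_neg hq1, one_mul] at h1
        have : (π ^ n : A) = 0 := IsFractionRing.injective A K (by rw [h1, map_zero])
        exact hπ0 (pow_eq_zero_iff (by omega) |>.1 this)
    have hgsep : g.Separable := (separable_iff_derivative_ne_zero hgirr).2 hder
    have hxsep : IsSeparable K x := by
      unfold IsSeparable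
      rw [AdjoinRoot.minpoly_root hg0, hgmonic.leadingCoeff, inv_one, C_1, mul_one]
      exact hgsep
    have htop : IntermediateField.adjoin K {x} = ⊤ := by
      apply IntermediateField.adjoin_eq_top_of_algebra
      have h2 := pb.adjoin_gen_eq_top
      rw [hpbgen] at h2
      exact h2
    have h1 : Algebra.IsSeparable K (IntermediateField.adjoin K {x}) :=
      (IntermediateField.isSeparable_adjoin_simple_iff_isSeparable K L).2 hxsep
    rw [htop] at h1
    exact Algebra.IsSeparable.of_algHom K (⊤ : IntermediateField K L)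
      (IntermediateField.topEquiv (F := K) (E := L)).symm.toAlgHom
  refine ⟨L, inferInstance, inferInstance, inferInstance, inferInstance, ?_, hsep, hTR, ?_⟩
  · rw [pb.finrank, hpbdim]
  -- the elements
  obtain ⟨⟨V, hV⟩, -, -⟩ := hTR
  obtain ⟨hK1, -, hK3⟩ := dominating_eq (A := A) (K := K) (L := L) π c' hπ hc'm pb hrel' V hV
  rw [hpbgen] at hK3
  set u : L := 1 + algebraMap A L c' * x with hu
  have hu0 : u ≠ 0 := by
    intro h0
    rw [h0, map_zero] at hK3
    exact zero_ne_one hK3
  have huinvV : u⁻¹ ∈ V := by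
    rw [← V.valuation_le_one_iff, map_inv₀, hK3, inv_one]
  have hintV : ∀ z : L, z ∈ V → z ∈ integralClosure A L := by
    intro z hz
    have hcoef := (hK1 z).1 hz
    choose a ha using hcoef
    have hzsum : z = ∑ i, algebraMap A L (a i) * pb.gen ^ (i : ℕ) := by
      conv_lhs => rw [← pb.basis.sum_repr z]
      refine Finset.sum_congr rfl (fun i _ => ?_)
      rw [PowerBasis.coe_basis, Algebra.smul_def, IsScalarTower.algebraMap_apply A K L (a i), ha i]
    rw [hzsum]
    refine Subalgebra.sum_mem _ (fun i _ => ?_)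
    refine Subalgebra.mul_mem _ (Subalgebra.algebraMap_mem _ _) (Subalgebra.pow_mem _ ?_ _)
    rw [hpbgen]
    exact hxint
  have huinv : u⁻¹ ∈ integralClosure A L := hintV _ huinvV
  have hxq : x ^ q = algebraMap A L π * u := hrel
  have e1 : algebraMap A L π * algebraMap A L c' = algebraMap A L ε * algebraMap A L π ^ n := by
    rw [← map_mul, hcπ, map_mul, map_pow]
  have h3 : x ^ q = algebraMap A L π + algebraMap A L π ^ n * (algebraMap A L ε * x) := by
    rw [hxq, hu]
    linear_combination x * e1
  have e2 : u ^ n * u⁻¹ ^ n = 1 := by rw [← mul_pow, mul_inv_cancel₀ hu0, one_pow]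
  have h1 : x ^ (n * q) = algebraMap A L π ^ n * u ^ n := by
    rw [mul_comm n q, pow_mul, hxq, mul_pow]
  have e3 : x ^ (n * q) * (algebraMap A L ε * x * u⁻¹ ^ n) =
      algebraMap A L π ^ n * (algebraMap A L ε * x) := by
    rw [h1]
    linear_combination (algebraMap A L π ^ n * algebraMap A L ε * x) * e2
  refine ⟨x, algebraMap A L ε * x, algebraMap A L ε * x * (u⁻¹) ^ n, hxint, ?_, ?_, h3, ?_⟩
  · exact Subalgebra.mul_mem _ (Subalgebra.algebraMap_mem _ _) hxint
  · exact Subalgebra.mul_mem _ (Subalgebra.mul_mem _ (Subalgebra.algebraMap_mem _ _) hxint)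
      (Subalgebra.pow_mem _ huinv _)
  · rw [e3]
    exact h3

end Assembly

end Groth.Agent.R2.H69.EisRam
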