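import Groth.Agent.R2.LeadChowJ
import Groth.Agent.R2.LeadChowH
import Groth.Agent.R2.H65PnSegre4

/-!
# Chow's lemma, refined forms (lead, PROJ:relproj)

* `chow_dense` : `S` qcqs, `X` with finitely many irreducible components: the EGA II 5.6.1 output (closed immersion
  into `P^N_X`, dense open `U` with `π⁻¹ U` dense, reduced / irreducible inherited).
* `chow_nonempty` : `S` qcqs, `X` nonempty, no hypothesis on irreducible components: `U` is only nonempty.
-/

set_option autoImplicit false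
set_option linter.unusedSectionVars false
universe u
open CategoryTheory CategoryTheory.Limits AlgebraicGeometry TopologicalSpace

namespace Groth.Agent.R2.Lead.ChowK

open Groth.Agent.R2.Lead.ChowJ Groth.Agent.R2.Lead.ChowG Groth.Agent.R2.Lead.ChowF
  Groth.Agent.R2.Lead.PnProd Groth.Agent.R2.Lead.SegreBC CohB1

theorem segreStmt (S : Scheme.{u}) (n m : ℕ) : SegreStmt S n m :=
  segre_of_univ n m (Groth.Agent.R2.H65.PnSegre.univSegre n m (ULift.{u} ℤ)) S

/-- Chow's lemma, dense form with the refined output. -/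
theorem chow_dense {X S : Scheme.{u}} (f : X ⟶ S) [CompactSpace S] [QuasiSeparatedSpace S]
    [IsSeparated f] [LocallyOfFiniteType f] [QuasiCompact f]
    (hirr : (irreducibleComponents (X : Type u)).Finite) :
    ∃ (N : ℕ) (X' : Scheme.{u}) (π : X' ⟶ X) (j : X' ⟶ ProjSpaceOver N S)
      (j' : X' ⟶ ProjSpaceOver N X),
      IsImmersion j ∧ j ≫ ProjSpaceOver.toBase N S = π ≫ f ∧
      IsClosedImmersion j' ∧ j' ≫ ProjSpaceOver.toBase N X = π ∧ IsProper π ∧ Surjective π ∧
      ∃ U : X.Opens, Dense (U : Set X) ∧ Dense ((π ⁻¹ᵁ U : X'.Opens) : Set X') ∧ IsIso (π ∣_ U) ∧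
        (IsReduced X → IsReduced X') ∧ (IrreducibleSpace X → IrreducibleSpace X') := by
  obtain ⟨r, Ui, hcov, hdense, hdec⟩ := Groth.Agent.R2.H16.GoodCover.exists_good_cover f hirr
  obtain ⟨N, X', π, j, j', h1, h2, h3, h4, h5, h6, h7, h8, h9, h10⟩ :=
    chow_refined_of_toolkit f (segreStmt S) r Ui
      (fun x _ => by
        have hx : x ∈ (⨆ i, Ui i : X.Opens) := by rw [hcov]; trivial
        exact Opens.mem_iSup.1 hx)
      (fun i => by
        obtain ⟨s, C, hUi, -, hC⟩ := hdec i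
        rw [hUi]
        exact isCompact_iSup_fin s C fun a => (hC a).1)
      (fun i => by
        obtain ⟨s, C, hUi, hdisj, hC⟩ := hdec i
        obtain ⟨n, j, hj1, hj2⟩ :=
          Groth.Agent.R2.H64.PnDisjAff.exists_immersion_of_disjoint_affines f s C hdisj hC
        refine ⟨n, (X.isoOfEq hUi).hom ≫ j, inferInstance, ?_⟩
        rw [Category.assoc, hj2, Scheme.isoOfEq_hom_ι_assoc])
  refine ⟨N, X', π, j, j', h1, h2, h3, h4, h5, h8 hdense, ⨅ i, Ui i, hdense, h6, h7, h9, fun hX => ?_⟩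
  exact h10 hX hdense.nonempty

section subfamily

/-- a maximal subfamily with nonempty intersection. -/
theorem exists_max_subfamily {α : Type*} [DecidableEq α] {T : Type*} [TopologicalSpace T] [Nonempty T]
    (t : Finset α) (B : α → Opens T) :
    ∃ I ⊆ t, (⨅ x ∈ I, B x) ≠ ⊥ ∧ ∀ y ∈ t, (⨅ x ∈ I, B x) ⊓ B y ≠ ⊥ → y ∈ I := by
  induction t using Finset.induction_on with
  | empty =>
    refine ⟨∅, subset_rfl, ?_, fun y hy => absurd hy (Finset.notMem_empty y)⟩
    simp only [Finset.notMem_empty, iInf_false, iInf_top]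
    intro h
    have : (Classical.arbitrary T) ∈ (⊤ : Opens T) := trivial
    rw [h] at this
    exact this
  | insert a t' ha ih =>
    obtain ⟨I, hI, hne, hmax⟩ := ih
    by_cases hW : (⨅ x ∈ I, B x) ⊓ B a = ⊥
    · refine ⟨I, hI.trans (Finset.subset_insert _ _), hne, fun y hy hy' => ?_⟩
      rcases Finset.mem_insert.1 hy with rfl | hy
      · exact absurd hW hy'
      · exact hmax y hy hy'
    · have hins : (⨅ x ∈ insert a I, B x) = B a ⊓ ⨅ x ∈ I, B x := Finset.iInf_insert a I B
      refine ⟨insert a I, Finset.insert_subset_insert a hI, ?_, fun y hy hy' => ?_⟩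
      · rw [hins, inf_comm]; exact hW
      · rcases Finset.mem_insert.1 hy with rfl | hy
        · exact Finset.mem_insert_self _ _
        · refine Finset.mem_insert_of_mem (hmax y hy fun h => hy' ?_)
          rw [hins, eq_bot_iff]
          calc B a ⊓ (⨅ x ∈ I, B x) ⊓ B y ≤ (⨅ x ∈ I, B x) ⊓ B y :=
                inf_le_inf_right _ inf_le_right
            _ = ⊥ := h

end subfamily

/-- Chow's lemma without irreducibility hypotheses: `U` is only nonempty. -/
theorem chow_nonempty {X S : Scheme.{u}} (f : X ⟶ S) [CompactSpace S] [QuasiSeparatedSpace S]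
    [IsSeparated f] [LocallyOfFiniteType f] [QuasiCompact f] [Nonempty X] :
    ∃ (N : ℕ) (X' : Scheme.{u}) (π : X' ⟶ X) (j : X' ⟶ ProjSpaceOver N S)
      (j' : X' ⟶ ProjSpaceOver N X),
      IsImmersion j ∧ j ≫ ProjSpaceOver.toBase N S = π ≫ f ∧
      IsClosedImmersion j' ∧ j' ≫ ProjSpaceOver.toBase N X = π ∧ IsProper π ∧
      ∃ U : X.Opens, (U : Set X).Nonempty ∧ IsIso (π ∣_ U) := by
  classical
  have : CompactSpace X := QuasiCompact.compactSpace_of_compactSpace f
  have hB : ∀ x : X, ∃ B : X.Opens, Groth.Agent.R2.H16.GoodCover.IsGood f B ∧ x ∈ B := fun x => by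
    obtain ⟨B, hB, hxB, -⟩ := Groth.Agent.R2.H16.GoodCover.exists_good_mem_le f (x := x) (W := ⊤) trivial
    exact ⟨B, hB, hxB⟩
  choose B hBgood hxB using hB
  obtain ⟨t, ht⟩ := CompactSpace.elim_nhds_subcover (fun x => (B x : Set X))
    (fun x => (B x).isOpen.mem_nhds (hxB x))
  obtain ⟨I, hIt, hne, hmax⟩ := exists_max_subfamily t B
  -- reindex by `Fin r`
  let e : I ≃ Fin I.card := I.equivFin
  let Ui : Fin I.card → X.Opens := fun k => B (e.symm k).1
  have hU : (⨅ k, Ui k) = ⨅ x ∈ I, B x := by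
    rw [iInf_subtype']
    exact e.symm.iInf_comp (g := fun x : I => B x.1)
  have hcov : ∀ x ∈ closure ((⨅ k, Ui k : X.Opens) : Set X), ∃ k, x ∈ Ui k := by
    intro x hx
    rw [hU] at hx
    have hxt : x ∈ ⋃ y ∈ t, (B y : Set X) := by rw [ht]; trivial
    obtain ⟨y, hyt, hxy⟩ := Set.mem_iUnion₂.1 hxt
    have hmeet : ((B y : Set X) ∩ ((⨅ x ∈ I, B x : X.Opens) : Set X)).Nonempty :=
      mem_closure_iff.1 hx _ (B y).isOpen hxy
    have hyI : y ∈ I := hmax y hyt (by
      intro h
      obtain ⟨z, hz1, hz2⟩ := hmeet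
      have : z ∈ ((⨅ x ∈ I, B x) ⊓ B y : X.Opens) := ⟨hz2, hz1⟩
      rw [h] at this
      exact this)
    exact ⟨e ⟨y, hyI⟩, by simpa [Ui] using hxy⟩
  obtain ⟨N, X', π, j, j', h1, h2, h3, h4, h5, -, h7, -, -, -⟩ :=
    chow_refined_of_toolkit f (segreStmt S) I.card Ui hcov
      (fun k => (hBgood _).1.isCompact)
      (fun k => by
        obtain ⟨n, j, hj1, hj2⟩ :=
          Groth.Agent.R2.H64.PnDisjAff.exists_immersion_of_disjoint_affines f 1 (fun _ => Ui k)
            (fun a b hab => absurd (Subsingleton.elim a b) hab) (fun _ => hBgood _)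
        have hUk : Ui k = ⨆ _ : Fin 1, Ui k := (iSup_const).symm
        refine ⟨n, (X.isoOfEq hUk).hom ≫ j, inferInstance, ?_⟩
        rw [Category.assoc, hj2, Scheme.isoOfEq_hom_ι_assoc])
  refine ⟨N, X', π, j, j', h1, h2, h3, h4, h5, ⨅ k, Ui k, ?_, h7⟩
  rw [hU]
  by_contra hcon
  apply hne
  ext z
  simp only [Opens.coe_bot, Set.mem_empty_iff_false, iff_false]
  intro hz
  exact hcon ⟨z, hz⟩

end Groth.Agent.R2.Lead.ChowK
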