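import Mathlib
import Groth.Agent.R2.H88FibConsSpec
import Groth.Agent.R2.LeadChowK
import Groth.Agent.S5902
import Groth.Agent.S9705
import Groth.Agent.Lib.Helper3IndCons
import Groth.Agent.Lib.Helper3LocusBC
import Groth.Agent.Lib.Helper3ConsOfLocus
import Groth.Agent.Lib.Helper5FibMorLoci
import Groth.Agent.Lib.Helper12Descent

/-!
# helper69: PROJ:fibcons package [D-prop]

`propDich (sep : SepDichStmt) (cd : ClosedDichStmt) (r : RangeClosedIffStmt) : PropDichStmt`:
the generic dichotomy for properness of the fibre maps `f_s : X_s ⟶ Y_s` over an integral Noetherian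
base (EGA IV 9.6.1 (ii)).

* `isProper_iff_isClosed_range` : Chow-type base change lemma (pure Mathlib): with `π : X' ⟶ X` proper
  surjective, `p : P ⟶ Y` proper, `j : X' ⟶ P` an immersion with `j ≫ p = π ≫ f` and `f` separated of
  finite type, for every base change along `T ⟶ Y`: `f_T` proper iff `j_T` has closed range.
* `dich_of_isSeparated` : the dichotomy when `f` is separated (Chow `LeadChowK.chow_dense` + the
  lemma above + `RangeClosedIffStmt` + `ClosedDichStmt` for `Z = range j ⊆ P^N_Y`).
* `isOpenImmersion_toS` : at the generic point of an integral scheme the stages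
  `Spec (R_h / I R_h)` of `Lib/Helper3ResFieldLim` are open subschemes (`I = 0`).
* `propDich` : if `f_η` is not separated use `SepDichStmt`; otherwise spread out separatedness to a
  stage (`Helper3IndCons.exists_stage`, `S5902.limDescends_isSeparated`), restrict the base
  (`Helper3LocusBC.locusMor_eq_preimage`) and apply `dich_of_isSeparated`.
-/

set_option autoImplicit false
set_option linter.style.haveILetI false
universe u
open CategoryTheory CategoryTheory.Limits AlgebraicGeometry Topology

namespace Groth.Agent.R2.H69.FibConsProp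

open Groth.Agent.R2.H88.FibConsSpec
open Groth.Agent.Lib.Helper3.ResFieldColim Groth.Agent.Lib.Helper3.ResFieldLim
  Groth.Agent.Lib.Helper3.BaseMap

/-- base change lemma: with `π` proper surjective, `p` proper, `j` an immersion with `j ≫ p = π ≫ f`,
`f` separated of finite type: for any base change along `ι : T ⟶ Y`, `f_T` is proper iff `j_T` has
closed range. -/
theorem isProper_iff_isClosed_range
    {X Y X' P T XT PT X'T : Scheme.{u}}
    (f : X ⟶ Y) [IsSeparated f] [LocallyOfFiniteType f] [QuasiCompact f]
    (π : X' ⟶ X) [IsProper π] [Surjective π]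
    (p : P ⟶ Y) [IsProper p]
    (j : X' ⟶ P) [IsImmersion j] (hj : j ≫ p = π ≫ f)
    (ι : T ⟶ Y)
    {xT : XT ⟶ X} {fT : XT ⟶ T} (hf : IsPullback xT fT f ι)
    {pT' : PT ⟶ P} {pT : PT ⟶ T} (hp : IsPullback pT' pT p ι)
    {x'T : X'T ⟶ X'} {jT : X'T ⟶ PT} (hjT : IsPullback x'T jT j pT') :
    IsProper fT ↔ IsClosed (Set.range jT) := by
  have hw : (x'T ≫ π) ≫ f = (jT ≫ pT) ≫ ι := by
    rw [Category.assoc, ← hj, ← Category.assoc, hjT.w, Category.assoc, hp.w, Category.assoc]
  let πT : X'T ⟶ XT := hf.lift (x'T ≫ π) (jT ≫ pT) hw
  have hπ1 : πT ≫ xT = x'T ≫ π := hf.lift_fst _ _ _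
  have hπ2 : πT ≫ fT = jT ≫ pT := hf.lift_snd _ _ _
  have hbig : IsPullback x'T (πT ≫ fT) (π ≫ f) ι := by
    rw [hπ2, ← hj]
    exact hjT.paste_vert hp
  have hπ : IsPullback x'T πT π xT := IsPullback.of_bot hbig hπ1.symm hf
  haveI : IsProper πT := MorphismProperty.of_isPullback hπ inferInstance
  haveI : Surjective πT := MorphismProperty.of_isPullback hπ inferInstance
  haveI : IsProper pT := MorphismProperty.of_isPullback hp inferInstance
  haveI : IsImmersion jT := MorphismProperty.of_isPullback hjT inferInstance
  haveI : IsSeparated fT := MorphismProperty.of_isPullback hf inferInstance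
  haveI : LocallyOfFiniteType fT := MorphismProperty.of_isPullback hf inferInstance
  haveI : QuasiCompact fT := MorphismProperty.of_isPullback hf inferInstance
  constructor
  · intro h
    haveI : IsProper (jT ≫ pT) := by rw [← hπ2]; infer_instance
    haveI : IsProper jT := IsProper.of_comp jT pT
    exact jT.isClosedMap.isClosed_range
  · intro h
    haveI : IsClosedImmersion jT := .of_isPreimmersion _ h
    haveI : IsProper (πT ≫ fT) := by rw [hπ2]; infer_instance
    haveI : UniversallyClosed fT := .of_comp_surjective πT fT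
    exact {}

lemma lfp_of_lft {X Y : Scheme.{u}} (f : X ⟶ Y) [LocallyOfFiniteType f]
    [IsLocallyNoetherian Y] : LocallyOfFinitePresentation f := by
  rw [HasRingHomProperty.iff_appLE (P := @LocallyOfFinitePresentation)]
  intro U V e
  have h : (f.appLE U.1 V.1 e).hom.FiniteType :=
    HasRingHomProperty.appLE (P := @LocallyOfFiniteType) f inferInstance U V e
  haveI : IsNoetherianRing Γ(Y, U.1) := IsLocallyNoetherian.component_noetherian U
  exact RingHom.FinitePresentation.of_finiteType.1 h

/-- the core case: `f` separated. -/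
theorem dich_of_isSeparated (cd : ClosedDichStmt.{u}) (r : RangeClosedIffStmt.{u})
    {X Y S : Scheme.{u}} (f : X ⟶ Y) (g : Y ⟶ S) [IsIntegral S] [IsNoetherian S]
    [LocallyOfFiniteType g] [QuasiCompact g] [LocallyOfFiniteType (f ≫ g)] [QuasiCompact (f ≫ g)]
    [IsSeparated f] :
    (interior (ConsProp.locusMor (fun _ _ _ f _ => IsProper f) f g)).Nonempty ∨
      (interior (ConsProp.locusMor (fun _ _ _ f _ => IsProper f) f g)ᶜ).Nonempty := by
  haveI : IsLocallyNoetherian Y := LocallyOfFiniteType.isLocallyNoetherian g
  haveI : CompactSpace Y := QuasiCompact.compactSpace_of_compactSpace g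
  haveI : IsNoetherian Y := {}
  haveI : IsLocallyNoetherian X := LocallyOfFiniteType.isLocallyNoetherian (f ≫ g)
  haveI : CompactSpace X := QuasiCompact.compactSpace_of_compactSpace (f ≫ g)
  haveI : IsNoetherian X := {}
  haveI : LocallyOfFiniteType f := locallyOfFiniteType_of_comp f g
  haveI : QuasiCompact f := inferInstance
  have hirr : (irreducibleComponents (X : Type u)).Finite :=
    TopologicalSpace.NoetherianSpace.finite_irreducibleComponents
  obtain ⟨N, X', π, j, j', hjimm, hjcomp, -, -, hπ, hπs, -⟩ :=
    Groth.Agent.R2.Lead.ChowK.chow_dense f hirr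
  haveI := hjimm
  haveI := hπ
  haveI := hπs
  let p := CohB1.ProjSpaceOver.toBase N Y
  haveI : IsProper p := Groth.Agent.S9705.isProper_toBase N Y
  have key : ConsProp.locusMor (fun _ _ _ f _ => IsProper f) f g =
      fibClosed (p ≫ g) (Set.range j) := by
    ext s
    show IsProper (MoreMor.fiberMap f g s) ↔ _
    rw [← r j (p ≫ g) s]
    exact isProper_iff_isClosed_range f π p j hjcomp (g.fiberι s)
      (Groth.Agent.Lib.Helper5.FibMorLoci.isPullback_fiberMap f g s)
      (Groth.Agent.Lib.Helper5.FibMorLoci.isPullback_fiberMap p g s)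
      (Groth.Agent.Lib.Helper5.FibMorLoci.isPullback_fiberMap j (p ≫ g) s)
  rw [key]
  haveI : IsLocallyNoetherian (CohB1.ProjSpaceOver N Y) :=
    LocallyOfFiniteType.isLocallyNoetherian p
  haveI : CompactSpace (CohB1.ProjSpaceOver N Y) := QuasiCompact.compactSpace_of_compactSpace p
  haveI : IsNoetherian (CohB1.ProjSpaceOver N Y) := {}
  haveI : LocallyOfFiniteType (j ≫ p) := by rw [hjcomp]; infer_instance
  haveI : LocallyOfFiniteType j := locallyOfFiniteType_of_comp j p
  haveI : LocallyOfFinitePresentation j := lfp_of_lft j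
  haveI : CompactSpace X' := QuasiCompact.compactSpace_of_compactSpace π
  haveI : QuasiCompact j := inferInstance
  refine cd (p ≫ g) (Set.range j) ?_
  rw [← Set.image_univ]
  exact j.isConstructible_image IsConstructible.univ

theorem ev_injective {S : Scheme.{u}} [IsIntegral S] {U : S.Opens} (hη : genericPoint S ∈ U) :
    Function.Injective (ev (genericPoint S) hη) := by
  have h1 : Function.Injective (S.presheaf.germ U (genericPoint S) hη) :=
    germ_injective_of_isIntegral S (genericPoint S) hη
  have h2 : Function.Injective (S.residue (genericPoint S)).hom := by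
    letI : Field (S.presheaf.stalk (genericPoint S)) :=
      inferInstanceAs (Field S.functionField)
    exact RingHom.injective _
  exact h2.comp h1

theorem isOpenImmersion_toS {S : Scheme.{u}} [IsIntegral S] {U : S.Opens} (hU : IsAffineOpen U)
    (hη : genericPoint S ∈ U) (j : Idx (ev (genericPoint S) hη)) :
    IsOpenImmersion (toS hU (genericPoint S) hη j) := by
  have hI : j.I = ⊥ := by
    rw [eq_bot_iff]
    intro x hx
    have h1 := j.le hx
    rw [RingHom.mem_ker] at h1
    exact ev_injective hη (h1.trans (map_zero _).symm)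
  rw [toS_eq]
  have hbij : Function.Bijective (Ideal.Quotient.mk
      (j.I.map (algebraMap Γ(S, U) (Localization.Away j.h)))) := by
    refine ⟨?_, Ideal.Quotient.mk_surjective⟩
    rw [RingHom.injective_iff_ker_eq_bot, Ideal.mk_ker, hI, Ideal.map_bot]
  haveI : IsIso (CommRingCat.ofHom (Ideal.Quotient.mk
      (j.I.map (algebraMap Γ(S, U) (Localization.Away j.h))))) :=
    (ConcreteCategory.isIso_iff_bijective _).mpr hbij
  haveI : IsOpenImmersion (Spec.map (CommRingCat.ofHom (toA j))) := by
    have : CommRingCat.ofHom (toA j) =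
        CommRingCat.ofHom (algebraMap Γ(S, U) (Localization.Away j.h)) ≫
          CommRingCat.ofHom (Ideal.Quotient.mk
            (j.I.map (algebraMap Γ(S, U) (Localization.Away j.h)))) := rfl
    rw [this, Spec.map_comp]
    haveI : IsOpenImmersion (Spec.map (CommRingCat.ofHom
        (algebraMap Γ(S, U) (Localization.Away j.h)))) :=
      IsOpenImmersion.of_isLocalization j.h
    infer_instance
  exact IsOpenImmersion.comp (Y := Spec Γ(S, U)) (Spec.map (CommRingCat.ofHom (toA j))) hU.fromSpec

theorem interior_nonempty_of_preimage {S' S : Scheme.{u}} (a : S' ⟶ S) [IsOpenImmersion a]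
    {L : Set S} (h : (interior (a ⁻¹' L)).Nonempty) : (interior L).Nonempty := by
  obtain ⟨s', hs'⟩ := h
  refine ⟨a s', ?_⟩
  rw [mem_interior]
  refine ⟨a '' interior (a ⁻¹' L), ?_, a.isOpenEmbedding.isOpenMap _ isOpen_interior,
    ⟨s', hs', rfl⟩⟩
  rintro _ ⟨t, ht, rfl⟩
  exact (interior_subset ht : t ∈ a ⁻¹' L)

theorem isFieldStableMor_isProper :
    ConsProp.IsFieldStableMor.{u} (fun _ _ _ f _ => IsProper f) := by
  haveI := Groth.Agent.Lib.Helper12.descendsAlong_isProper.{u}
  exact Groth.Agent.Lib.Helper3.ConsOfLocus.isFieldStableMor_of @IsProper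

/-- **[D-prop]** the generic dichotomy for properness of the fibre maps. -/
theorem propDich (sep : SepDichStmt.{u}) (cd : ClosedDichStmt.{u}) (r : RangeClosedIffStmt.{u}) :
    PropDichStmt.{u} := by
  intro X Y S f g _ _ _ _ _ _
  by_cases hη : IsSeparated (MoreMor.fiberMap f g (genericPoint S))
  · haveI : IsLocallyNoetherian Y := LocallyOfFiniteType.isLocallyNoetherian g
    haveI : IsLocallyNoetherian X := LocallyOfFiniteType.isLocallyNoetherian (f ≫ g)
    haveI : LocallyOfFinitePresentation g := lfp_of_lft g
    haveI : LocallyOfFinitePresentation (f ≫ g) := lfp_of_lft (f ≫ g)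
    obtain ⟨_, ⟨U : S.Opens, hU, rfl⟩, hηU, -⟩ := S.isBasis_affineOpens.exists_subset_of_mem_open
      (Set.mem_univ (genericPoint S)) isOpen_univ
    have hη' : IsSeparated (baseMap f g (S.fromSpecResidueField (genericPoint S))) := hη
    obtain ⟨j, hj⟩ := Groth.Agent.Lib.Helper3.IndCons.exists_stage @IsSeparated
      Groth.Agent.S5902.limDescends_isSeparated f g hU (genericPoint S) hηU hη'
    haveI := isOpenImmersion_toS hU hηU j
    haveI : Nonempty (Groth.Agent.Lib.Helper3.ResFieldLim.c (genericPoint S) hηU).pt :=
      inferInstanceAs (Nonempty (PrimeSpectrum (S.residueField (genericPoint S))))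
    let pt : (Groth.Agent.Lib.Helper3.ResFieldLim.c (genericPoint S) hηU).pt :=
      Classical.arbitrary _
    haveI : Nonempty ↥((D (genericPoint S) hηU).obj (Opposite.op j)) :=
      ⟨(Groth.Agent.Lib.Helper3.ResFieldLim.c (genericPoint S) hηU).π.app (Opposite.op j) pt⟩
    haveI : IsIntegral ((D (genericPoint S) hηU).obj (Opposite.op j)) :=
      isIntegral_of_isOpenImmersion (toS hU (genericPoint S) hηU j)
    haveI : IsLocallyNoetherian ((D (genericPoint S) hηU).obj (Opposite.op j)) :=
      isLocallyNoetherian_of_isOpenImmersion (toS hU (genericPoint S) hηU j)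
    haveI : IsNoetherian ((D (genericPoint S) hηU).obj (Opposite.op j)) := {}
    haveI : IsSeparated (baseMap f g (toS hU (genericPoint S) hηU j)) := hj
    haveI : LocallyOfFiniteType (baseMap f g (toS hU (genericPoint S) hηU j) ≫
        pullback.snd g (toS hU (genericPoint S) hηU j)) := by
      rw [baseMap_snd]; infer_instance
    haveI : QuasiCompact (baseMap f g (toS hU (genericPoint S) hηU j) ≫
        pullback.snd g (toS hU (genericPoint S) hηU j)) := by
      rw [baseMap_snd]; infer_instance
    have hL := Groth.Agent.Lib.Helper3.LocusBC.locusMor_eq_preimage isFieldStableMor_isProper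
      (IsPullback.of_hasPullback g (toS hU (genericPoint S) hηU j))
      (isPullback_baseMap f g (toS hU (genericPoint S) hηU j))
    rcases dich_of_isSeparated cd r (baseMap f g (toS hU (genericPoint S) hηU j))
      (pullback.snd g (toS hU (genericPoint S) hηU j)) with h | h
    · left
      rw [hL] at h
      exact interior_nonempty_of_preimage _ h
    · right
      rw [hL, ← Set.preimage_compl] at h
      exact interior_nonempty_of_preimage _ h
  · right
    rcases sep f g with h | h
    · exfalso
      apply hη
      have h1 : genericPoint S ∈ interior (ConsProp.locusMor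
          (fun _ _ _ f _ => IsSeparated f) f g) := by
        rw [(genericPoint_spec S).mem_open_set_iff isOpen_interior]
        simpa using h
      exact (interior_subset h1 : genericPoint S ∈ ConsProp.locusMor
          (fun _ _ _ f _ => IsSeparated f) f g)
    · refine h.mono (interior_mono ?_)
      intro s hs hprop
      apply hs
      have : IsProper (MoreMor.fiberMap f g s) := hprop
      show IsSeparated (MoreMor.fiberMap f g s)
      infer_instance

end Groth.Agent.R2.H69.FibConsProp
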