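import Mathlib
import Groth.Agent.R2.H69FibConsProp
import Groth.Agent.S3426
import Groth.Agent.Lib.Helper12ImmersionDescent

/-!
# helper69: PROJ:fibcons package [D-imm]

`immDich (gc : GenClosureStmt) (cd : ClosedDichStmt) (pd : PropDichStmt) : ImmDichStmt`:
the generic dichotomy for the fibre maps `f_s : X_s ⟶ Y_s` being immersions over an integral Noetherian
base (EGA IV 9.6.1 (viii)).

* `isImmersion_iff_of_isClosed_range` (pure Mathlib): if `f = fV ≫ V.ι` with `V` open and `range fV`
  closed in `V`, then for every base change along `T ⟶ Y`: `f_T` is an immersion iff `f_T` is mono and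
  `(fV)_T` is proper.
* `monoDich` : the mono dichotomy (prior S3426).
* `dich_of_isLocallyClosed_range` : the dichotomy when `range f` is locally closed
  (`V = coborder (range f)`, `monoDich` + `PropDichStmt` for `fV`).
* `isLocallyNoetherian_of_onePoint`, `isFieldStableMor_isImmersion` : field stability of `IsImmersion`
  (fpqc descent of quasi-compact immersions, `Lib/Helper12ImmersionDescent`; quasi-compactness is
  automatic over a one-point base).
* `closure_preimage_fiberι`, `isClosed_preimage_fiberι_iff` : dictionary between subsets of `Y` and of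
  the fibre `Y_s` (`fibClosed`).
* `immDich` : with `Z = range f`, `B = closure Z ∖ Z`: `ClosedDichStmt` for `B`; if `B_s` is not closed
  on a nonempty open then (with `GenClosureStmt` for `Z`) `range f_s` is not locally closed there;
  otherwise (with `GenClosureStmt` for `B`) `Z ∩ closure B = ∅` over a nonempty open `U'`; restrict
  the base to `U'` and apply `dich_of_isLocallyClosed_range`.
-/

set_option autoImplicit false
set_option linter.style.haveILetI false
universe u
open CategoryTheory CategoryTheory.Limits AlgebraicGeometry Topology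

namespace Groth.Agent.R2.H69.FibConsImm

open Groth.Agent.R2.H88.FibConsSpec Groth.Agent.R2.H69.FibConsProp
open Groth.Agent.Lib.Helper5.FibMorLoci Groth.Agent.Lib.Helper3.BaseMap

theorem range_snd_of_isPullback {P X Y Z : Scheme.{u}} {fst : P ⟶ X} {snd : P ⟶ Y} {f : X ⟶ Z}
    {g : Y ⟶ Z} (h : IsPullback fst snd f g) : Set.range snd = g ⁻¹' Set.range f := by
  rw [← Scheme.Pullback.range_snd, ← h.isoPullback_hom_snd, Scheme.Hom.comp_base,
    TopCat.coe_comp, Set.range_comp, Set.range_eq_univ.mpr, Set.image_univ]
  exact (Scheme.homeoOfIso h.isoPullback).surjective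

theorem isImmersion_iff_of_isClosed_range
    {X Y T XT VT X'T : Scheme.{u}} (f : X ⟶ Y) (V : Y.Opens) (fV : X ⟶ V) (hfV : fV ≫ V.ι = f)
    (hcl : IsClosed (Set.range fV))
    (ι : T ⟶ Y)
    {xT : XT ⟶ X} {fT : XT ⟶ T} (hf : IsPullback xT fT f ι)
    {vT' : VT ⟶ V} {vT : VT ⟶ T} (hV : IsPullback vT' vT V.ι ι)
    {x'T : X'T ⟶ X} {fVT : X'T ⟶ VT} (hfVT : IsPullback x'T fVT fV vT') :
    IsImmersion fT ↔ Mono fT ∧ IsProper fVT := by
  have hbig : IsPullback x'T (fVT ≫ vT) f ι := by
    rw [← hfV]
    exact hfVT.paste_vert hV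
  let e : X'T ≅ XT := hbig.isoIsPullback _ _ hf
  have he : e.hom ≫ fT = fVT ≫ vT := hbig.isoIsPullback_hom_snd _ _ hf
  haveI : IsOpenImmersion vT := MorphismProperty.of_isPullback hV inferInstance
  have hrange : IsClosed (Set.range fVT) := by
    rw [range_snd_of_isPullback hfVT]
    exact hcl.preimage vT'.continuous
  have h1 : IsImmersion fT ↔ IsImmersion (fVT ≫ vT) := by
    rw [← he]
    constructor
    · intro h
      infer_instance
    · intro h
      have : fT = e.inv ≫ e.hom ≫ fT := by rw [Iso.inv_hom_id_assoc]
      rw [this]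
      infer_instance
  have h2 : Mono fT ↔ Mono (fVT ≫ vT) := by
    rw [← he]
    exact ((MorphismProperty.monomorphisms Scheme.{u}).cancel_left_of_respectsIso
      e.hom fT).symm
  rw [h1, h2]
  constructor
  · intro h
    haveI : IsImmersion fVT := IsImmersion.of_comp fVT vT
    haveI : IsClosedImmersion fVT := .of_isPreimmersion _ hrange
    exact ⟨inferInstance, inferInstance⟩
  · rintro ⟨hm, hp⟩
    haveI : Mono fVT := mono_of_mono fVT vT
    haveI : IsClosedImmersion fVT := (IsClosedImmersion.iff_isProper_and_mono fVT).mpr ⟨hp, inferInstance⟩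
    infer_instance

/-- the mono dichotomy (from prior S3426). -/
theorem monoDich {X Y S : Scheme.{u}} (f : X ⟶ Y) (g : Y ⟶ S) [IsIntegral S] [IsNoetherian S]
    [LocallyOfFiniteType g] [QuasiCompact g] [LocallyOfFiniteType (f ≫ g)] [QuasiCompact (f ≫ g)] :
    (interior {s : S | Mono (MoreMor.fiberMap f g s)}).Nonempty ∨
      (interior {s : S | Mono (MoreMor.fiberMap f g s)}ᶜ).Nonempty := by
  haveI : IsLocallyNoetherian Y := LocallyOfFiniteType.isLocallyNoetherian g
  haveI : IsLocallyNoetherian X := LocallyOfFiniteType.isLocallyNoetherian (f ≫ g)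
  haveI : LocallyOfFinitePresentation g := lfp_of_lft g
  haveI : LocallyOfFinitePresentation (f ≫ g) := lfp_of_lft (f ≫ g)
  have h1 : IsLocallyConstructible {s : S | Mono (MoreMor.fiberMap f g s)} :=
    Groth.Agent.S3426.result f g
  exact Groth.Agent.Lib.Helper3.ConsOfLocus.interior_nonempty_or_of_isConstructible
    h1.isConstructible

/-- the core case: `range f` locally closed. -/
theorem dich_of_isLocallyClosed_range (pd : PropDichStmt.{u})
    {X Y S : Scheme.{u}} (f : X ⟶ Y) (g : Y ⟶ S) [IsIntegral S] [IsNoetherian S]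
    [LocallyOfFiniteType g] [QuasiCompact g] [LocallyOfFiniteType (f ≫ g)] [QuasiCompact (f ≫ g)]
    (hlc : IsLocallyClosed (Set.range f)) :
    (interior (ConsProp.locusMor (fun _ _ _ f _ => IsImmersion f) f g)).Nonempty ∨
      (interior (ConsProp.locusMor (fun _ _ _ f _ => IsImmersion f) f g)ᶜ).Nonempty := by
  haveI : IsLocallyNoetherian Y := LocallyOfFiniteType.isLocallyNoetherian g
  haveI : CompactSpace Y := QuasiCompact.compactSpace_of_compactSpace g
  haveI : IsNoetherian Y := {}
  let V : Y.Opens := ⟨coborder (Set.range f), hlc.isOpen_coborder⟩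
  have hsub : Set.range f ⊆ Set.range V.ι := by
    rw [Scheme.Opens.range_ι]
    exact subset_coborder
  let fV : X ⟶ V := IsOpenImmersion.lift V.ι f hsub
  have hfV : fV ≫ V.ι = f := IsOpenImmersion.lift_fac _ _ _
  have hrange : Set.range fV = V.ι ⁻¹' Set.range f := by
    ext v
    constructor
    · rintro ⟨x, rfl⟩
      exact ⟨x, by rw [← hfV]; rfl⟩
    · rintro ⟨x, hx⟩
      refine ⟨x, V.ι.isEmbedding.injective ?_⟩
      rw [← hx, ← hfV]; rfl
  have hcl : IsClosed (Set.range fV) := by
    rw [hrange, V.ι.isEmbedding.isInducing.isClosed_iff]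
    refine ⟨closure (Set.range f), isClosed_closure, ?_⟩
    ext v
    have hv : V.ι v ∈ coborder (Set.range f) := by
      have : V.ι v ∈ Set.range V.ι := ⟨v, rfl⟩
      rw [Scheme.Opens.range_ι] at this
      exact this
    constructor
    · intro h
      have : V.ι v ∈ coborder (Set.range f) ∩ closure (Set.range f) := ⟨hv, h⟩
      rw [coborder_inter_closure] at this
      exact this
    · intro h
      exact subset_closure h
  haveI : LocallyOfFiniteType (fV ≫ V.ι ≫ g) := by
    rw [← Category.assoc, hfV]; infer_instance
  haveI : QuasiCompact (fV ≫ V.ι ≫ g) := by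
    rw [← Category.assoc, hfV]; infer_instance
  have key : ConsProp.locusMor (fun _ _ _ f _ => IsImmersion f) f g =
      {s : S | Mono (MoreMor.fiberMap f g s)} ∩
        ConsProp.locusMor (fun _ _ _ f _ => IsProper f) fV (V.ι ≫ g) := by
    ext s
    exact isImmersion_iff_of_isClosed_range f V fV hfV hcl (g.fiberι s)
      (isPullback_fiberMap f g s) (isPullback_fiberMap V.ι g s)
      (isPullback_fiberMap fV (V.ι ≫ g) s)
  rw [key]
  rcases monoDich f g with h1 | h1
  · rcases pd fV (V.ι ≫ g) with h2 | h2
    · left
      rw [interior_inter]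
      exact nonempty_preirreducible_inter isOpen_interior isOpen_interior h1 h2
    · right
      exact h2.mono (interior_mono (Set.compl_subset_compl.mpr Set.inter_subset_right))
  · right
    exact h1.mono (interior_mono (Set.compl_subset_compl.mpr Set.inter_subset_left))

/-- a one-point integral scheme is locally Noetherian. -/
theorem isLocallyNoetherian_of_onePoint (T : Scheme.{u}) [IsIntegral T] [Subsingleton T] :
    IsLocallyNoetherian T := by
  refine ⟨fun U => ?_⟩
  by_cases hU : Nonempty U.1
  · haveI := hU
    haveI : IsDomain Γ(T, U.1) := inferInstance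
    have hU' : IsAffineOpen U.1 := U.2
    haveI : Subsingleton (PrimeSpectrum Γ(T, U.1)) :=
      (hU'.fromSpec.isOpenEmbedding.injective).subsingleton
    have hf : IsField Γ(T, U.1) :=
      PrimeSpectrum.subsingleton_iff_isField_of_isReduced.mp inferInstance
    letI := hf.toField
    infer_instance
  · have : U.1 = ⊥ := by
      rw [eq_bot_iff]
      intro x hx
      exact (hU ⟨⟨x, hx⟩⟩).elim
    rw [this]
    infer_instance

set_option backward.isDefEq.respectTransparency.types false in
/-- field stability of `IsImmersion` (quasi-compactness is automatic over a one-point base). -/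
theorem isFieldStableMor_isImmersion :
    ConsProp.IsFieldStableMor.{u} (fun _ _ _ f _ => IsImmersion f) := by
  intro X X' Y Y' T T' f g f' g' eX eY h _ _ _ _ _ _ _ _ hY hX
  have hfpqc : (@Surjective ⊓ @Flat ⊓ @QuasiCompact : MorphismProperty Scheme.{u}) eY :=
    MorphismProperty.of_isPullback hY.flip (Groth.Agent.Lib.Helper3.ConsOfLocus.fpqc_of_onePoint h)
  refine ⟨fun hf => MorphismProperty.of_isPullback hX hf, fun hf' => ?_⟩
  haveI : IsLocallyNoetherian T := isLocallyNoetherian_of_onePoint T
  haveI : IsLocallyNoetherian Y := LocallyOfFiniteType.isLocallyNoetherian g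
  haveI : QuasiCompact f := QuasiCompact.of_comp f g
  have hqc : QuasiCompact f' := MorphismProperty.of_isPullback hX inferInstance
  haveI := Groth.Agent.Lib.Helper12.descendsAlong_isImmersion_inf_quasiCompact.{u}
  exact (MorphismProperty.of_isPullback_of_descendsAlong
    (P := (@IsImmersion ⊓ @QuasiCompact : MorphismProperty Scheme.{u}))
    (Q := (@Surjective ⊓ @Flat ⊓ @QuasiCompact : MorphismProperty Scheme.{u}))
    hX.flip hfpqc ⟨hf', hqc⟩).1

section Dictionary

variable {Y S : Scheme.{u}} (g : Y ⟶ S) (s : S)

theorem closure_preimage_fiberι (A : Set Y) :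
    closure ((g.fiberι s) ⁻¹' A) = (g.fiberι s) ⁻¹' closure (A ∩ g ⁻¹' {s}) := by
  rw [(g.fiberι s).isEmbedding.isInducing.closure_eq_preimage_closure_image,
    Set.image_preimage_eq_inter_range, Scheme.Hom.range_fiberι]

theorem fiberι_mem (w : g.fiber s) : g.fiberι s w ∈ g ⁻¹' {s} := by
  have : g.fiberι s w ∈ Set.range (g.fiberι s) := ⟨w, rfl⟩
  rwa [Scheme.Hom.range_fiberι] at this

theorem isClosed_preimage_fiberι_iff (A : Set Y) :
    IsClosed ((g.fiberι s) ⁻¹' A) ↔ s ∈ fibClosed g A := by
  rw [← closure_subset_iff_isClosed, closure_preimage_fiberι]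
  constructor
  · rintro h y ⟨hy1, hy2⟩
    have : y ∈ Set.range (g.fiberι s) := by rw [Scheme.Hom.range_fiberι]; exact hy2
    obtain ⟨w, rfl⟩ := this
    exact h hy1
  · intro h w hw
    exact h ⟨hw, fiberι_mem g s w⟩

end Dictionary

/-- if closure commutes with the fibre at `s` for `Z = range f` and `B_s = (closure Z ∖ Z)_s` is not
closed in `Y_s`, then `f_s` is not an immersion. -/
theorem not_isImmersion_of_not_mem_fibClosed {X Y S : Scheme.{u}} (f : X ⟶ Y) (g : Y ⟶ S) (s : S)
    (hgc : closure (Set.range f) ∩ g ⁻¹' {s} ⊆ closure (Set.range f ∩ g ⁻¹' {s}))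
    (hs : s ∉ fibClosed g (closure (Set.range f) \ Set.range f)) :
    ¬ IsImmersion (MoreMor.fiberMap f g s) := by
  intro him
  apply hs
  rw [← isClosed_preimage_fiberι_iff]
  have hr : Set.range (MoreMor.fiberMap f g s) = (g.fiberι s) ⁻¹' Set.range f :=
    range_snd_of_isPullback (isPullback_fiberMap f g s)
  have hlc : IsLocallyClosed ((g.fiberι s) ⁻¹' Set.range f) :=
    hr ▸ (MoreMor.fiberMap f g s).isLocallyClosed_range
  have hcl : closure ((g.fiberι s) ⁻¹' Set.range f) =
      (g.fiberι s) ⁻¹' closure (Set.range f) := by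
    rw [closure_preimage_fiberι]
    ext w
    constructor
    · intro h
      exact closure_mono Set.inter_subset_left h
    · intro h
      exact hgc ⟨h, fiberι_mem g s w⟩
  have : (g.fiberι s) ⁻¹' (closure (Set.range f) \ Set.range f) =
      (coborder ((g.fiberι s) ⁻¹' Set.range f))ᶜ := by
    rw [coborder, compl_compl, hcl]
    rfl
  rw [this]
  exact (isLocallyClosed_iff_isOpen_coborder.mp hlc).isClosed_compl

/-- **[D-imm]** the generic dichotomy for the fibre maps being immersions. -/
theorem immDich (gc : GenClosureStmt.{u}) (cd : ClosedDichStmt.{u}) (pd : PropDichStmt.{u}) :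
    ImmDichStmt.{u} := by
  intro X Y S f g _ _ _ _ _ _
  haveI : IsLocallyNoetherian Y := LocallyOfFiniteType.isLocallyNoetherian g
  haveI : CompactSpace Y := QuasiCompact.compactSpace_of_compactSpace g
  haveI : IsNoetherian Y := {}
  haveI : IsLocallyNoetherian X := LocallyOfFiniteType.isLocallyNoetherian (f ≫ g)
  haveI : CompactSpace X := QuasiCompact.compactSpace_of_compactSpace (f ≫ g)
  haveI : LocallyOfFiniteType f := locallyOfFiniteType_of_comp f g
  haveI : LocallyOfFinitePresentation f := lfp_of_lft f
  haveI : QuasiCompact f := inferInstance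
  have hZ : IsConstructible (Set.range f) := by
    rw [← Set.image_univ]
    exact f.isConstructible_image IsConstructible.univ
  have hcZ : IsConstructible (closure (Set.range f)) :=
    isConstructible_compl.mp ((TopologicalSpace.NoetherianSpace.isCompact _).isConstructible
      isClosed_closure.isOpen_compl)
  have hB : IsConstructible (closure (Set.range f) \ Set.range f) := hcZ.sdiff hZ
  obtain ⟨U₂, hU₂ne, hU₂⟩ := gc g (Set.range f) hZ
  obtain ⟨U₄, hU₄ne, hU₄⟩ := gc g (closure (Set.range f) \ Set.range f) hB
  rcases cd g (closure (Set.range f) \ Set.range f) hB with h3 | h3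
  · let U' : S.Opens :=
      ⟨interior (fibClosed g (closure (Set.range f) \ Set.range f)), isOpen_interior⟩ ⊓ U₄
    have hU'ne : (U' : Set S).Nonempty :=
      nonempty_preirreducible_inter isOpen_interior U₄.2 h3 hU₄ne
    have hdisj : ∀ y ∈ Set.range f, g y ∈ U' →
        y ∉ closure (closure (Set.range f) \ Set.range f) := by
      intro y hyZ hyU hyB
      have hs3 : g y ∈ fibClosed g (closure (Set.range f) \ Set.range f) := interior_subset hyU.1
      have h1 : y ∈ closure ((closure (Set.range f) \ Set.range f) ∩ g ⁻¹' {g y}) :=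
        hU₄ (g y) hyU.2 ⟨hyB, rfl⟩
      have h2 : y ∈ closure (Set.range f) \ Set.range f := hs3 ⟨h1, rfl⟩
      exact h2.2 hyZ
    haveI : Nonempty U' := hU'ne.to_subtype
    haveI : IsIntegral (U' : Scheme.{u}) := inferInstance
    haveI : CompactSpace (U' : Scheme.{u}) :=
      isCompact_iff_compactSpace.mp (TopologicalSpace.NoetherianSpace.isCompact _)
    haveI : IsNoetherian (U' : Scheme.{u}) := {}
    have hlc : IsLocallyClosed (Set.range (baseMap f g U'.ι)) := by
      rw [range_snd_of_isPullback (isPullback_baseMap f g U'.ι)]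
      have : (pullback.fst g U'.ι) ⁻¹' Set.range f = (pullback.fst g U'.ι) ⁻¹'
          (closure (Set.range f) ∩ (closure (closure (Set.range f) \ Set.range f))ᶜ) := by
        ext y'
        have hy' : g (pullback.fst g U'.ι y') ∈ U' := by
          have h1 : g (pullback.fst g U'.ι y') = U'.ι (pullback.snd g U'.ι y') := by
            rw [← Scheme.Hom.comp_apply, ← Scheme.Hom.comp_apply, pullback.condition]
          rw [h1]
          exact (pullback.snd g U'.ι y').2
        constructor
        · intro h
          exact ⟨subset_closure h, hdisj _ h hy'⟩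
        · rintro ⟨h1, h2⟩
          by_contra h
          exact h2 (subset_closure ⟨h1, h⟩)
      rw [this]
      exact (isClosed_closure.isLocallyClosed.inter
        isClosed_closure.isOpen_compl.isLocallyClosed).preimage (pullback.fst g U'.ι).continuous
    haveI : LocallyOfFiniteType (baseMap f g U'.ι ≫ pullback.snd g U'.ι) := by
      rw [baseMap_snd]; infer_instance
    haveI : QuasiCompact (baseMap f g U'.ι ≫ pullback.snd g U'.ι) := by
      rw [baseMap_snd]; infer_instance
    have hL := Groth.Agent.Lib.Helper3.LocusBC.locusMor_eq_preimage isFieldStableMor_isImmersion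
      (IsPullback.of_hasPullback g U'.ι) (isPullback_baseMap f g U'.ι)
    rcases dich_of_isLocallyClosed_range pd (baseMap f g U'.ι) (pullback.snd g U'.ι) hlc with h | h
    · left
      rw [hL] at h
      exact interior_nonempty_of_preimage _ h
    · right
      rw [hL, ← Set.preimage_compl] at h
      exact interior_nonempty_of_preimage _ h
  · right
    have hne : (interior (fibClosed g (closure (Set.range f) \ Set.range f))ᶜ ∩
        (U₂ : Set S)).Nonempty :=
      nonempty_preirreducible_inter isOpen_interior U₂.2 h3 hU₂ne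
    refine hne.mono (interior_maximal (fun s hs => ?_) (isOpen_interior.inter U₂.2))
    exact not_isImmersion_of_not_mem_fibClosed f g s (hU₂ s hs.2) (interior_subset hs.1)

end Groth.Agent.R2.H69.FibConsImm
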