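import Groth.Agent.R2.H88FibConsSpec
import Groth.Agent.Lib.Helper3ConsOfLocus

/-!
# helper88: PROJ:fibcons packages [T2c], [T2d] (topological dichotomies from `GenClosureStmt`)
-/

set_option autoImplicit false
universe u
open CategoryTheory CategoryTheory.Limits AlgebraicGeometry Topology TopologicalSpace

namespace Groth.Agent.R2.H88.FibConsT2

open Groth.Agent.R2.H88.FibConsSpec

/-- a scheme of finite type over a Noetherian scheme is Noetherian. -/
theorem isNoetherian_of_finiteType {Y S : Scheme.{u}} (g : Y ⟶ S) [IsNoetherian S]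
    [LocallyOfFiniteType g] [QuasiCompact g] : IsNoetherian Y :=
  { toIsLocallyNoetherian := LocallyOfFiniteType.isLocallyNoetherian g
    toCompactSpace := QuasiCompact.compactSpace_of_compactSpace g }

/-- in a Noetherian space every closed set is constructible. -/
theorem isConstructible_of_isClosed_noeth {X : Type*} [TopologicalSpace X] [NoetherianSpace X]
    {s : Set X} (hs : IsClosed s) : IsConstructible s := by
  have hr : IsRetrocompact sᶜ := fun _ _ _ => NoetherianSpace.isCompact _
  have h : IsConstructible sᶜ := hr.isConstructible hs.isOpen_compl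
  simpa using h.compl

/-- the abstract pattern: if on a nonempty open `U` of an irreducible space membership in `E` is
the same as non-membership in a constructible set `E₀`, then `E` or its complement has nonempty
interior. -/
theorem dich_of_compl_constructible {S : Type*} [TopologicalSpace S] [IrreducibleSpace S]
    {E E₀ U : Set S} (hU : IsOpen U) (hUne : U.Nonempty) (hE₀ : IsConstructible E₀)
    (h : ∀ s ∈ U, s ∈ E ↔ s ∉ E₀) :
    (interior E).Nonempty ∨ (interior Eᶜ).Nonempty := by
  rcases Groth.Agent.Lib.Helper3.ConsOfLocus.interior_nonempty_or_of_isConstructible hE₀ with h1 | h1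
  · right
    obtain ⟨x, hx1, hx2⟩ := nonempty_preirreducible_inter isOpen_interior hU h1 hUne
    refine ⟨x, ?_⟩
    rw [mem_interior]
    refine ⟨interior E₀ ∩ U, ?_, isOpen_interior.inter hU, hx1, hx2⟩
    rintro s ⟨hs1, hs2⟩ hsE
    exact (h s hs2).mp hsE (interior_subset hs1)
  · left
    obtain ⟨x, hx1, hx2⟩ := nonempty_preirreducible_inter isOpen_interior hU h1 hUne
    refine ⟨x, ?_⟩
    rw [mem_interior]
    refine ⟨interior E₀ᶜ ∩ U, ?_, isOpen_interior.inter hU, hx1, hx2⟩
    rintro s ⟨hs1, hs2⟩
    exact (h s hs2).mpr (interior_subset hs1)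

theorem closedDich (gc : GenClosureStmt.{u}) : ClosedDichStmt.{u} := by
  intro Y S g _ _ _ _ Z hZ
  have : IsNoetherian Y := isNoetherian_of_finiteType g
  obtain ⟨U, hUne, hU⟩ := gc g Z hZ
  have hB : IsConstructible (closure Z \ Z) :=
    (isConstructible_of_isClosed_noeth isClosed_closure).sdiff hZ
  have hE₀ : IsConstructible (g '' (closure Z \ Z)) := g.isConstructible_image hB
  refine dich_of_compl_constructible U.2 hUne hE₀ (fun s hs => ?_)
  have hs' := hU s hs
  constructor
  · rintro hsE ⟨y, ⟨hy1, hy2⟩, rfl⟩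
    exact hy2 (hsE ⟨hs' ⟨hy1, rfl⟩, rfl⟩)
  · intro hsE y hy
    by_contra hyZ
    exact hsE ⟨y, ⟨closure_mono Set.inter_subset_left hy.1, hyZ⟩, hy.2⟩

theorem denseDich (gc : GenClosureStmt.{u}) : DenseDichStmt.{u} := by
  intro Y S g _ _ _ _ Z Z' hZ hZ'
  have : IsNoetherian Y := isNoetherian_of_finiteType g
  obtain ⟨U, hUne, hU⟩ := gc g Z hZ
  have hB : IsConstructible (Z' \ closure Z) :=
    hZ'.sdiff (isConstructible_of_isClosed_noeth isClosed_closure)
  have hE₀ : IsConstructible (g '' (Z' \ closure Z)) := g.isConstructible_image hB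
  refine dich_of_compl_constructible U.2 hUne hE₀ (fun s hs => ?_)
  have hs' := hU s hs
  constructor
  · rintro hsE ⟨y, ⟨hy1, hy2⟩, rfl⟩
    exact hy2 (closure_mono Set.inter_subset_left (hsE ⟨hy1, rfl⟩))
  · intro hsE y hy
    by_contra hyZ
    refine hsE ⟨y, ⟨hy.1, fun hc => hyZ (hs' ⟨hc, hy.2⟩)⟩, hy.2⟩

end Groth.Agent.R2.H88.FibConsT2
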