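import Mathlib
import Groth.Agent.R2.H69FibSetSpec
import Groth.Agent.R2.H88FibConsSpec
import Groth.Agent.R2.H88FibConsT2
import Groth.Agent.Lib.Helper3LocusFam
import Groth.Agent.Lib.Helper5ProCons
import Groth.Agent.Lib.Helper5Compl

/-!
# helper69: the "sets" follow-up of PROJ:fibcons (S3427, S3428), topological part

* invariance of "closed / open / locally closed / dense in" under open continuous surjections;
* the family `FamTop P` of loci `{s | P (f⁻¹(s)) (Z ∩ f⁻¹(s)) (Z' ∩ f⁻¹(s))}` and its base change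
  property (from `FibreOpenSurjStmt`);
* the dichotomies over an integral Noetherian base (from `GenClosureStmt`).
-/

set_option autoImplicit false
set_option linter.style.haveILetI false
universe u
open CategoryTheory CategoryTheory.Limits AlgebraicGeometry Topology TopologicalSpace

namespace Groth.Agent.R2.H69.FibSetTop

open Groth.Agent.R2.H69.FibSetSpec Groth.Agent.R2.H88.FibConsSpec Groth.Agent.R2.H88.FibConsT2

/-! ### invariance under open continuous surjections -/

/-- a property of pairs of subsets of a topological space which is invariant under open continuous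
surjections. -/
def IsOpenSurjInvariant (P : ∀ (T : Type u) [TopologicalSpace T], Set T → Set T → Prop) : Prop :=
  ∀ {T' T : Type u} [TopologicalSpace T'] [TopologicalSpace T] (q : T' → T), Continuous q →
    IsOpenMap q → Function.Surjective q → ∀ A B : Set T, P T' (q ⁻¹' A) (q ⁻¹' B) ↔ P T A B

/-- `B ⊆ closure A`. -/
def PDense (T : Type u) [TopologicalSpace T] (A B : Set T) : Prop := B ⊆ closure A

/-- `A` is closed. -/
def PClosed (T : Type u) [TopologicalSpace T] (A _B : Set T) : Prop := IsClosed A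

/-- `A` is locally closed. -/
def PLC (T : Type u) [TopologicalSpace T] (A _B : Set T) : Prop := IsLocallyClosed A

theorem isOpenSurjInvariant_pDense : IsOpenSurjInvariant.{u} PDense := by
  intro T' T _ _ q hc ho hs A B
  show q ⁻¹' B ⊆ closure (q ⁻¹' A) ↔ B ⊆ closure A
  rw [← ho.preimage_closure_eq_closure_preimage hc, hs.preimage_subset_preimage_iff]

theorem isOpenSurjInvariant_pClosed : IsOpenSurjInvariant.{u} PClosed := by
  intro T' T _ _ q hc ho hs A B
  exact (ho.isQuotientMap hc hs).isClosed_preimage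

theorem isOpenSurjInvariant_pLC : IsOpenSurjInvariant.{u} PLC := by
  intro T' T _ _ q hc ho hs A B
  show IsLocallyClosed (q ⁻¹' A) ↔ IsLocallyClosed A
  rw [isLocallyClosed_iff_isOpen_coborder, isLocallyClosed_iff_isOpen_coborder,
    coborder_preimage ho hc]
  exact (ho.isQuotientMap hc hs).isOpen_preimage

/-! ### the family of loci -/

/-- the locus of `s` such that `P` holds for the traces of `Z`, `Z'` on the topological fibre. -/
def fibLocus (P : ∀ (T : Type u) [TopologicalSpace T], Set T → Set T → Prop) {X S : Scheme.{u}}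
    (f : X ⟶ S) (Z Z' : Set X) : Set S :=
  {s | P ↥(f ⁻¹' {s}) (Subtype.val ⁻¹' Z) (Subtype.val ⁻¹' Z')}

/-- the family of loci `fibLocus P f Z Z'`, `f` of finite presentation, `Z`, `Z'` locally
constructible. -/
def FamTop (P : ∀ (T : Type u) [TopologicalSpace T], Set T → Set T → Prop) (S : Scheme.{u})
    (E : Set S) : Prop :=
  ∃ (X : Scheme.{u}) (f : X ⟶ S) (Z Z' : Set X), LocallyOfFinitePresentation f ∧ QuasiCompact f ∧
    QuasiSeparated f ∧ IsLocallyConstructible Z ∧ IsLocallyConstructible Z' ∧ E = fibLocus P f Z Z'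

/-- **base change** of the loci. -/
theorem fibLocus_eq_preimage (bc : FibreOpenSurjStmt.{u})
    {P : ∀ (T : Type u) [TopologicalSpace T], Set T → Set T → Prop} (hP : IsOpenSurjInvariant P)
    {X S X' S' : Scheme.{u}} {f : X ⟶ S} {f' : X' ⟶ S'} {a : S' ⟶ S} {pX : X' ⟶ X}
    (sq : IsPullback pX f' f a) (Z Z' : Set X) :
    fibLocus P f' (pX ⁻¹' Z) (pX ⁻¹' Z') = a ⁻¹' fibLocus P f Z Z' := by
  ext s'
  obtain ⟨q, hq, hqc, hqo, hqs⟩ := bc f f' a pX sq s'
  show P _ _ _ ↔ P _ _ _
  rw [← hP q hqc hqo hqs]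
  have h1 : ∀ W : Set X, (Subtype.val ⁻¹' (pX ⁻¹' W) : Set ↥(f' ⁻¹' {s'})) =
      q ⁻¹' (Subtype.val ⁻¹' W) := by
    intro W
    ext x
    simp only [Set.mem_preimage]
    rw [hq x]
  rw [h1 Z, h1 Z']

theorem famTop_bc (bc : FibreOpenSurjStmt.{u})
    {P : ∀ (T : Type u) [TopologicalSpace T], Set T → Set T → Prop} (hP : IsOpenSurjInvariant P)
    {S S' : Scheme.{u}} (a : S' ⟶ S) {E : Set S} (h : FamTop P S E) : FamTop P S' (a ⁻¹' E) := by
  obtain ⟨X, f, Z, Z', h1, h2, h3, hZ, hZ', rfl⟩ := h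
  refine ⟨pullback f a, pullback.snd f a, pullback.fst f a ⁻¹' Z, pullback.fst f a ⁻¹' Z',
    inferInstance, inferInstance, inferInstance,
    Groth.Agent.Lib.Helper5.isLocallyConstructible_preimage _ hZ,
    Groth.Agent.Lib.Helper5.isLocallyConstructible_preimage _ hZ', ?_⟩
  exact (fibLocus_eq_preimage bc hP (IsPullback.of_hasPullback f a) Z Z').symm

/-! ### dictionary with the closure-in-`X` forms -/

theorem closure_subtype_preimage {X : Type*} [TopologicalSpace X] (F Z : Set X) :
    closure (Subtype.val ⁻¹' Z : Set ↥F) = Subtype.val ⁻¹' closure (Z ∩ F) := by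
  rw [Topology.IsInducing.subtypeVal.closure_eq_preimage_closure_image, Subtype.image_preimage_coe,
    Set.inter_comm]

theorem fibLocus_pDense {X S : Scheme.{u}} (f : X ⟶ S) (Z Z' : Set X) :
    fibLocus PDense f Z Z' = fibDense f Z Z' := by
  ext s
  show (Subtype.val ⁻¹' Z' : Set ↥(f ⁻¹' {s})) ⊆ closure (Subtype.val ⁻¹' Z) ↔
    Z' ∩ f ⁻¹' {s} ⊆ closure (Z ∩ f ⁻¹' {s})
  rw [closure_subtype_preimage]
  constructor
  · rintro h x ⟨hx1, hx2⟩
    exact h (a := ⟨x, hx2⟩) hx1
  · rintro h ⟨x, hx2⟩ hx1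
    exact h ⟨hx1, hx2⟩

theorem fibLocus_pClosed {X S : Scheme.{u}} (f : X ⟶ S) (Z Z' : Set X) :
    fibLocus PClosed f Z Z' = fibClosed f Z := by
  ext s
  show IsClosed (Subtype.val ⁻¹' Z : Set ↥(f ⁻¹' {s})) ↔
    closure (Z ∩ f ⁻¹' {s}) ∩ f ⁻¹' {s} ⊆ Z
  rw [← closure_subset_iff_isClosed, closure_subtype_preimage]
  constructor
  · rintro h x ⟨hx1, hx2⟩
    exact h (a := ⟨x, hx2⟩) hx1
  · rintro h ⟨x, hx2⟩ hx1
    exact h ⟨hx1, hx2⟩

/-! ### dichotomies over an integral Noetherian base -/

/-- [T2-lc] the locally closed dichotomy: on the open of `GenClosureStmt` for `Z`, the trace of `Z`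
on the fibre is locally closed iff the trace of `closure Z ∖ Z` is closed. -/
theorem lcDich (gc : GenClosureStmt.{u}) {Y S : Scheme.{u}} (g : Y ⟶ S) [IsIntegral S]
    [IsNoetherian S] [LocallyOfFiniteType g] [QuasiCompact g] (Z Z' : Set Y)
    (hZ : IsConstructible Z) :
    (interior (fibLocus PLC g Z Z')).Nonempty ∨ (interior (fibLocus PLC g Z Z')ᶜ).Nonempty := by
  have : IsNoetherian Y := isNoetherian_of_finiteType g
  obtain ⟨U, hUne, hU⟩ := gc g Z hZ
  have hB : IsConstructible (closure Z \ Z) :=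
    (isConstructible_of_isClosed_noeth isClosed_closure).sdiff hZ
  -- on `U`, the locus is `fibClosed g (closure Z \ Z)`
  have key : ∀ s ∈ U, s ∈ fibLocus PLC g Z Z' ↔ s ∈ fibClosed g (closure Z \ Z) := by
    intro s hs
    rw [← fibLocus_pClosed g (closure Z \ Z) Z']
    show IsLocallyClosed (Subtype.val ⁻¹' Z : Set ↥(g ⁻¹' {s})) ↔
      IsClosed (Subtype.val ⁻¹' (closure Z \ Z) : Set ↥(g ⁻¹' {s}))
    rw [isLocallyClosed_iff_isOpen_coborder, coborder, isOpen_compl_iff,
      closure_subtype_preimage]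
    have : (Subtype.val ⁻¹' closure (Z ∩ g ⁻¹' {s}) : Set ↥(g ⁻¹' {s})) =
        Subtype.val ⁻¹' closure Z := by
      ext x
      constructor
      · intro hx
        exact closure_mono Set.inter_subset_left hx
      · intro hx
        exact hU s hs ⟨hx, x.2⟩
    rw [this]
    rfl
  rcases closedDich gc g (closure Z \ Z) hB with h1 | h1
  · left
    obtain ⟨x, hx1, hx2⟩ := nonempty_preirreducible_inter isOpen_interior U.2 h1 hUne
    refine ⟨x, ?_⟩
    rw [mem_interior]
    refine ⟨interior (fibClosed g (closure Z \ Z)) ∩ U, ?_, isOpen_interior.inter U.2, hx1, hx2⟩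
    rintro s ⟨hs1, hs2⟩
    exact (key s hs2).mpr (interior_subset hs1)
  · right
    obtain ⟨x, hx1, hx2⟩ := nonempty_preirreducible_inter isOpen_interior U.2 h1 hUne
    refine ⟨x, ?_⟩
    rw [mem_interior]
    refine ⟨interior (fibClosed g (closure Z \ Z))ᶜ ∩ U, ?_, isOpen_interior.inter U.2, hx1, hx2⟩
    rintro s ⟨hs1, hs2⟩ hsE
    exact (interior_subset hs1 : s ∈ (fibClosed g (closure Z \ Z))ᶜ) ((key s hs2).mp hsE)

/-- over a Noetherian base, the data of `FamTop` are constructible. -/
theorem famTop_dich {P : ∀ (T : Type u) [TopologicalSpace T], Set T → Set T → Prop}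
    (hD : ∀ {Y S : Scheme.{u}} (g : Y ⟶ S) [IsIntegral S] [IsNoetherian S]
      [LocallyOfFiniteType g] [QuasiCompact g] (Z Z' : Set Y), IsConstructible Z →
      IsConstructible Z' →
      (interior (fibLocus P g Z Z')).Nonempty ∨ (interior (fibLocus P g Z Z')ᶜ).Nonempty)
    (S : Scheme.{u}) [IsIntegral S] [IsNoetherian S] (E : Set S) (h : FamTop P S E) :
    (interior E).Nonempty ∨ (interior Eᶜ).Nonempty := by
  obtain ⟨X, f, Z, Z', h1, h2, h3, hZ, hZ', rfl⟩ := h
  haveI : LocallyOfFiniteType f := inferInstance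
  haveI : IsNoetherian X := isNoetherian_of_finiteType f
  exact hD f Z Z' hZ.isConstructible hZ'.isConstructible

end Groth.Agent.R2.H69.FibSetTop
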