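import Mathlib
import Groth.Agent.R2.H69FibSetTop
import Groth.Agent.Lib.Helper26FGZ
import Groth.Agent.Lib.Helper3LocusPair
import Groth.Agent.S0591
import Groth.Agent.S4759

/-!
# helper69: the "sets" follow-up of PROJ:fibcons (S3427, S3428), Noetherian approximation

A morphism of finite presentation `f : X ⟶ lim Sᵢ` together with two constructible subsets of `X`
descends to a stage: `X = Xⱼ ×_{Sⱼ} S` and the sets are preimages of constructible subsets of `Xⱼ`
(prior S0591 for the model, Mathlib's `Over.pullback` pattern for `X = lim (Xᵢ ×_{Sᵢ} Sⱼ)`, prior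
S4759 for the constructible sets).  Consequences: `FamTop P` is a locus family and its loci are
locally constructible as soon as the generic dichotomy holds.
-/

set_option autoImplicit false
set_option linter.style.haveILetI false
set_option linter.unusedSectionVars false
universe u
open CategoryTheory CategoryTheory.Limits AlgebraicGeometry Topology TopologicalSpace

namespace Groth.Agent.R2.H69.FibSetApprox

open Groth.Agent.R2.H69.FibSetSpec Groth.Agent.R2.H69.FibSetTop
open Groth.Agent.Lib.Helper3.LocusFam Groth.Agent.Lib.Helper26.FGZ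

section Diagram

variable {I : Type u} [SmallCategory I] [IsCofiltered I]
    (D : I ⥤ Scheme.{u}) (c : Cone D) (hc : IsLimit c)

/-- the base-changed diagram `j ↦ Dⱼ ×_{Dᵢ} Xᵢ` on `Over i`. -/
noncomputable def D' {i : I} {Xi : Scheme.{u}} (fi : Xi ⟶ D.obj i) : Over i ⥤ Scheme.{u} :=
  Over.post D ⋙ Over.pullback fi ⋙ Over.forget _

/-- the base-changed cone, with vertex `lim D ×_{Dᵢ} Xᵢ`. -/
noncomputable def c' {i : I} {Xi : Scheme.{u}} (fi : Xi ⟶ D.obj i) : Cone (D' D fi) :=
  (Over.pullback fi ⋙ Over.forget _).mapCone ((Over.conePost _ _).obj c)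

attribute [local instance] IsCofiltered.isConnected in
/-- the base-changed cone is a limit cone. -/
noncomputable def hc' {i : I} {Xi : Scheme.{u}} (fi : Xi ⟶ D.obj i) : IsLimit (c' D c fi) :=
  isLimitOfPreserves (Over.pullback fi ⋙ Over.forget _) (Over.isLimitConePost _ hc)

theorem c'_snd {i : I} {Xi : Scheme.{u}} (fi : Xi ⟶ D.obj i) (j : Over i) :
    (c' D c fi).π.app j ≫ pullback.snd (D.map j.hom) fi = pullback.snd (c.π.app i) fi :=
  pullback.lift_snd _ _ _

theorem c'_fst {i : I} {Xi : Scheme.{u}} (fi : Xi ⟶ D.obj i) (j : Over i) :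
    (c' D c fi).π.app j ≫ pullback.fst (D.map j.hom) fi =
      pullback.fst (c.π.app i) fi ≫ c.π.app j.left :=
  pullback.lift_fst _ _ _

theorem D'_fst {i : I} {Xi : Scheme.{u}} (fi : Xi ⟶ D.obj i) {j k : Over i} (a : j ⟶ k) :
    (D' D fi).map a ≫ pullback.fst (D.map k.hom) fi =
      pullback.fst (D.map j.hom) fi ≫ D.map a.left :=
  pullback.lift_fst _ _ _

theorem D'_snd {i : I} {Xi : Scheme.{u}} (fi : Xi ⟶ D.obj i) {j k : Over i} (a : j ⟶ k) :
    (D' D fi).map a ≫ pullback.snd (D.map k.hom) fi = pullback.snd (D.map j.hom) fi :=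
  pullback.lift_snd _ _ _

theorem isPullback_D'_map {i : I} {Xi : Scheme.{u}} (fi : Xi ⟶ D.obj i) {j k : Over i}
    (a : j ⟶ k) :
    IsPullback ((D' D fi).map a) (pullback.fst (D.map j.hom) fi) (pullback.fst (D.map k.hom) fi)
      (D.map a.left) := by
  refine IsPullback.of_right ?_ (D'_fst D fi a)
    (IsPullback.of_hasPullback (D.map k.hom) fi).flip
  rw [D'_snd, ← D.map_comp, Over.w a]
  exact (IsPullback.of_hasPullback (D.map j.hom) fi).flip

theorem isAffineHom_D'_map [∀ (i j : I) (f : i ⟶ j), IsAffineHom (D.map f)] {i : I}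
    {Xi : Scheme.{u}} (fi : Xi ⟶ D.obj i) {j k : Over i} (a : j ⟶ k) :
    IsAffineHom ((D' D fi).map a) :=
  MorphismProperty.of_isPullback (P := @IsAffineHom) (isPullback_D'_map D fi a).flip inferInstance

include hc in
/-- **descent of a finitely presented scheme with two constructible subsets** to a stage of a
cofiltered limit. -/
theorem exists_model_sets
    [∀ (i j : I) (f : i ⟶ j), IsAffineHom (D.map f)] [∀ i, CompactSpace (D.obj i)]
    [∀ i, QuasiSeparatedSpace (D.obj i)] {X : Scheme.{u}} (f : X ⟶ c.pt)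
    [LocallyOfFinitePresentation f] [QuasiCompact f] [QuasiSeparated f] (Z Z' : Set X)
    (hZ : IsConstructible Z) (hZ' : IsConstructible Z') :
    ∃ (j : I) (Xj : Scheme.{u}) (fj : Xj ⟶ D.obj j) (pX : X ⟶ Xj) (Zj Zj' : Set Xj),
      LocallyOfFinitePresentation fj ∧ QuasiCompact fj ∧ QuasiSeparated fj ∧
      IsPullback pX f fj (c.π.app j) ∧ IsConstructible Zj ∧ IsConstructible Zj' ∧
      Z = pX ⁻¹' Zj ∧ Z' = pX ⁻¹' Zj' := by
  obtain ⟨i, Xi, fi, g, a1, a2, a3, sq⟩ := Groth.Agent.S0591.result D c hc X f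
  haveI := a1
  haveI := a2
  haveI := a3
  let e : X ≅ (c' D c fi).pt := sq.flip.isoPullback
  have he1 : e.hom ≫ pullback.fst (c.π.app i) fi = f := sq.flip.isoPullback_hom_fst
  have he2 : e.hom ≫ pullback.snd (c.π.app i) fi = g := sq.flip.isoPullback_hom_snd
  haveI : ∀ (j k : Over i) (a : j ⟶ k), IsAffineHom ((D' D fi).map a) :=
    fun j k a => isAffineHom_D'_map D fi a
  let i₀ : Over i := Over.mk (𝟙 i)
  have b1 : ∀ l : Over i, LocallyOfFinitePresentation (pullback.fst (D.map l.hom) fi) :=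
    fun l => MorphismProperty.pullback_fst _ _ a1
  have b2 : ∀ l : Over i, QuasiCompact (pullback.fst (D.map l.hom) fi) :=
    fun l => MorphismProperty.pullback_fst _ _ a2
  have b3 : ∀ l : Over i, QuasiSeparated (pullback.fst (D.map l.hom) fi) :=
    fun l => MorphismProperty.pullback_fst _ _ a3
  haveI : CompactSpace ((D' D fi).obj i₀) :=
    @QuasiCompact.compactSpace_of_compactSpace _ _ (pullback.fst (D.map i₀.hom) fi) (b2 i₀)
      (inferInstanceAs (CompactSpace (D.obj i)))
  haveI : QuasiSeparatedSpace ((D' D fi).obj i₀) :=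
    @quasiSeparatedSpace_of_quasiSeparated _ _ (pullback.fst (D.map i₀.hom) fi)
      (inferInstanceAs (QuasiSeparatedSpace (D.obj i))) (b3 i₀)
  obtain ⟨j, -, Zj, hZj, hj⟩ := Groth.Agent.S4759.result (D' D fi) (c' D c fi) (hc' D c hc fi) i₀
    (e.inv ⁻¹' Z) (e.inv.isConstructible_preimage hZ)
  obtain ⟨j', -, Zj', hZj', hj'⟩ := Groth.Agent.S4759.result (D' D fi) (c' D c fi)
    (hc' D c hc fi) i₀ (e.inv ⁻¹' Z') (e.inv.isConstructible_preimage hZ')
  let k : Over i := IsCofiltered.min j j'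
  let α : k ⟶ j := IsCofiltered.minToLeft j j'
  let β : k ⟶ j' := IsCofiltered.minToRight j j'
  have hpre : ∀ (l : Over i) (γ : k ⟶ l) (W : Set ((D' D fi).obj l)) (T : Set X),
      (c' D c fi).π.app l ⁻¹' W = e.inv ⁻¹' T →
      T = (e.hom ≫ (c' D c fi).π.app k) ⁻¹' ((D' D fi).map γ ⁻¹' W) := by
    intro l γ W T h
    ext x
    have h1 : (D' D fi).map γ ((c' D c fi).π.app k (e.hom x)) = (c' D c fi).π.app l (e.hom x) := by
      rw [← Scheme.Hom.comp_apply, (c' D c fi).w γ]
    have h2 : e.hom x ∈ (c' D c fi).π.app l ⁻¹' W ↔ e.hom x ∈ e.inv ⁻¹' T := by rw [h]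
    simp only [Set.mem_preimage, Scheme.Hom.comp_apply] at h2 ⊢
    rw [h1, h2, ← Scheme.Hom.comp_apply, e.hom_inv_id]
    rfl
  refine ⟨k.left, (D' D fi).obj k, pullback.fst (D.map k.hom) fi, e.hom ≫ (c' D c fi).π.app k,
    (D' D fi).map α ⁻¹' Zj, (D' D fi).map β ⁻¹' Zj', b1 k, b2 k, b3 k,
    ?_, ((D' D fi).map α).isConstructible_preimage hZj,
    ((D' D fi).map β).isConstructible_preimage hZj', hpre j α Zj Z hj, hpre j' β Zj' Z' hj'⟩
  have e1 : (e.hom ≫ (c' D c fi).π.app k) ≫ pullback.snd (D.map k.hom) fi = g :=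
    calc _ = e.hom ≫ ((c' D c fi).π.app k ≫ pullback.snd (D.map k.hom) fi) := Category.assoc _ _ _
      _ = e.hom ≫ pullback.snd (c.π.app i) fi := congrArg (e.hom ≫ ·) (c'_snd D c fi k)
      _ = g := he2
  have e2 : (e.hom ≫ (c' D c fi).π.app k) ≫ pullback.fst (D.map k.hom) fi =
      f ≫ c.π.app k.left :=
    calc _ = e.hom ≫ ((c' D c fi).π.app k ≫ pullback.fst (D.map k.hom) fi) := Category.assoc _ _ _
      _ = e.hom ≫ (pullback.fst (c.π.app i) fi ≫ c.π.app k.left) :=
        congrArg (e.hom ≫ ·) (c'_fst D c fi k)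
      _ = (e.hom ≫ pullback.fst (c.π.app i) fi) ≫ c.π.app k.left := (Category.assoc _ _ _).symm
      _ = f ≫ c.π.app k.left := congrArg (· ≫ c.π.app k.left) he1
  refine IsPullback.of_right ?_ e2 (IsPullback.of_hasPullback (D.map k.hom) fi).flip
  rw [e1, c.w]
  exact sq

end Diagram

/-- `FamTop P` is a locus family. -/
theorem isLocusFam_famTop (bc : FibreOpenSurjStmt.{u})
    {P : ∀ (T : Type u) [TopologicalSpace T], Set T → Set T → Prop} (hP : IsOpenSurjInvariant P) :
    IsLocusFam (FamTop P) where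
  bc := fun a _ h => famTop_bc bc hP a h
  approx := by
    rintro A E ⟨X, f, Z, Z', h1, h2, h3, hZ, hZ', rfl⟩
    haveI := h1
    haveI := h2
    haveI := h3
    haveI : CompactSpace X := QuasiCompact.compactSpace_of_compactSpace f
    haveI : QuasiSeparatedSpace X := quasiSeparatedSpace_of_quasiSeparated f
    obtain ⟨j, Xj, fj, pX, Zj, Zj', c1, c2, c3, sq, hZj, hZj', rfl, rfl⟩ :=
      @exists_model_sets _ _ _ (specDiagram A) (specCone A) (specIsLimit A) _ _ _ X f h1 h2 h3
        Z Z' hZ.isConstructible hZ'.isConstructible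
    refine ⟨CommRingCat.of j.unop.1, CommRingCat.ofHom (algebraMap j.unop.1 A),
      fibLocus P fj Zj Zj', Groth.Agent.Lib.Helper3.LocusPair.noeth_fgSub A j.unop,
      ⟨Xj, fj, Zj, Zj', c1, c2, c3, hZj.isLocallyConstructible, hZj'.isLocallyConstructible, rfl⟩,
      ?_⟩
    exact fibLocus_eq_preimage bc hP sq Zj Zj'

/-- **local constructibility of the loci** `fibLocus P f Z Z'`, given the generic dichotomy. -/
theorem isLocallyConstructible_fibLocus (bc : FibreOpenSurjStmt.{u})
    {P : ∀ (T : Type u) [TopologicalSpace T], Set T → Set T → Prop} (hP : IsOpenSurjInvariant P)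
    (hD : ∀ {Y S : Scheme.{u}} (g : Y ⟶ S) [IsIntegral S] [IsNoetherian S]
      [LocallyOfFiniteType g] [QuasiCompact g] (Z Z' : Set Y), IsConstructible Z →
      IsConstructible Z' →
      (interior (fibLocus P g Z Z')).Nonempty ∨ (interior (fibLocus P g Z Z')ᶜ).Nonempty)
    {X S : Scheme.{u}} (f : X ⟶ S) [LocallyOfFinitePresentation f] [QuasiCompact f]
    [QuasiSeparated f] (Z Z' : Set X) (hZ : IsLocallyConstructible Z)
    (hZ' : IsLocallyConstructible Z') : IsLocallyConstructible (fibLocus P f Z Z') :=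
  isLocallyConstructible (isLocusFam_famTop bc hP) (fun S _ _ E h => famTop_dich hD S E h)
    ⟨X, f, Z, Z', inferInstance, inferInstance, inferInstance, hZ, hZ', rfl⟩

end Groth.Agent.R2.H69.FibSetApprox
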