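import Mathlib
import Groth.Agent.R2.H41GenFreeRed
import Groth.Agent.Lib.Helper2GenFree
import Groth.Agent.Lib.Helper4GenFinite2

/-!
# Generic flatness over a reduced base, scheme level (helper69)

* `exists_awayMap_flat_fp`: ring level (from helper41's `exists_basisAway`): `R` reduced, `R → B` of
  finite type, `g₀ ≠ 0`; there is a nonzero multiple `g` of `g₀` such that `R_{gc} → B_{gc}` is flat
  and finitely presented for all `c`.
* `morphismRestrict_of_exists_appLE`: pointwise criterion for `P (f ∣_ U)`.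
* `generic_flatness_reduced`: `f : X ⟶ S` of finite type and quasi-compact, `S` reduced; then `f` is
  flat and locally of finite presentation over a dense open of `S`.
-/

set_option autoImplicit false
set_option linter.style.haveILetI false
universe u
open CategoryTheory AlgebraicGeometry TopologicalSpace

namespace Groth.Agent.R2.H69.GenFlatRed

open Groth.Agent.R2.H41.GenFreeRed



/-- A localization of an algebra at an element of the base is a localized module over the base. -/
theorem isLocalizedModule_of_away {R B B' : Type*} [CommRing R] [CommRing B] [CommRing B']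
    [Algebra R B] [Algebra B B'] [Algebra R B'] [IsScalarTower R B B'] (g : R)
    [IsLocalization.Away (algebraMap R B g) B'] :
    IsLocalizedModule (Submonoid.powers g) (IsScalarTower.toAlgHom R B B').toLinearMap := by
  rw [isLocalizedModule_iff_isLocalization]
  have hsub : Algebra.algebraMapSubmonoid B (Submonoid.powers g) =
      Submonoid.powers (algebraMap R B g) := Submonoid.map_powers _ _
  rw [hsub]
  infer_instance

/-- Generic flatness and finite presentation over a reduced ring, in terms of `awayMap`; the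
conclusion holds for all multiples of the element found. -/
theorem exists_awayMap_flat_fp {R B : Type u} [CommRing R] [IsReduced R] [CommRing B]
    (φ : R →+* B) (hφ : φ.FiniteType) (g₀ : R) (hg₀ : g₀ ≠ 0) :
    ∃ g : R, g ≠ 0 ∧ g₀ ∣ g ∧ ∀ c : R, (Localization.awayMap φ (g * c)).Flat ∧
      (Localization.awayMap φ (g * c)).FinitePresentation := by
  letI := φ.toAlgebra
  haveI : Algebra.FiniteType R B := hφ
  obtain ⟨g, hg, hg₀g, ⟨ι₁, v₁, hS⟩, -, ⟨n, ψ, G, hψ, hG0, hker⟩, -⟩ :=
    exists_basisAway R B B g₀ hg₀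
  refine ⟨g, hg, hg₀g, fun c => ⟨?_, ?_⟩⟩
  · change (Localization.awayMap (algebraMap R B) (g * c)).Flat
    letI : Algebra (Localization.Away (g * c)) (Localization.Away (algebraMap R B (g * c))) :=
      (Localization.awayMap (algebraMap R B) (g * c)).toAlgebra
    haveI : IsScalarTower R (Localization.Away (g * c))
        (Localization.Away (algebraMap R B (g * c))) := by
      refine .of_algebraMap_eq' ?_
      ext x
      simp only [RingHom.algebraMap_toAlgebra, RingHom.comp_apply, Localization.awayMap,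
        IsLocalization.Away.map, IsLocalization.map_eq]
      exact IsScalarTower.algebraMap_apply R B _ x
    haveI := isLocalizedModule_of_away (R := R) (B := B)
      (B' := Localization.Away (algebraMap R B (g * c))) (g * c)
    have : Module.Free (Localization.Away (g * c))
        (Localization.Away (algebraMap R B (g * c))) :=
      (hS.of_dvd (Dvd.intro c rfl)).free _
        (IsScalarTower.toAlgHom R B (Localization.Away (algebraMap R B (g * c)))).toLinearMap
    change Module.Flat _ _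
    infer_instance
  · change (Localization.awayMap (algebraMap R B) (g * c)).FinitePresentation
    refine awayMap_finitePresentation (g * c)
      (Groth.Agent.Lib.Helper2.GenFree.finitePresentation_tensor ψ hψ (g * c) G hG0
        (fun p hp => ?_) (Localization.Away (g * c)))
    obtain ⟨k, hk⟩ := hker p hp
    refine ⟨k, ?_⟩
    rw [mul_pow, mul_comm, mul_smul, MvPolynomial.smul_eq_C_mul (a := c ^ k)]
    exact Ideal.mul_mem_left _ _ hk



/-- Transport of a property of `Localization.awayMap` to an arbitrary model of the localizations. -/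
theorem away_map_of_awayMap {Q : ∀ {R S : Type u} [CommRing R] [CommRing S], (R →+* S) → Prop}
    (hQ : RingHom.RespectsIso Q) {R S : Type u} [CommRing R] [CommRing S] (φ : R →+* S) (g : R)
    (R' S' : Type u) [CommRing R'] [CommRing S'] [Algebra R R'] [Algebra S S']
    [IsLocalization.Away g R'] [IsLocalization.Away (φ g) S']
    (h : Q (Localization.awayMap φ g)) : Q (IsLocalization.Away.map R' S' φ g) := by
  let eR : Localization.Away g ≃ₐ[R] R' := IsLocalization.algEquiv (Submonoid.powers g) _ _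
  let eS : Localization.Away (φ g) ≃ₐ[S] S' :=
    IsLocalization.algEquiv (Submonoid.powers (φ g)) _ _
  have key : IsLocalization.Away.map R' S' φ g =
      ((eS.toRingEquiv.toRingHom).comp (Localization.awayMap φ g)).comp
        eR.symm.toRingEquiv.toRingHom := by
    apply IsLocalization.ringHom_ext (Submonoid.powers g)
    ext x
    simp [IsLocalization.Away.map, Localization.awayMap, IsLocalization.map_eq, eR, eS]
  rw [key]
  exact hQ.2 _ _ (hQ.1 _ _ h)



/-- Pointwise criterion for a property of ring homomorphisms to hold for a restriction `f ∣_ U`. -/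
theorem morphismRestrict_of_exists_appLE {P : MorphismProperty Scheme.{u}}
    {Q : ∀ {R S : Type u} [CommRing R] [CommRing S], (R →+* S) → Prop}
    [HasRingHomProperty P Q] (hQ : RingHom.StableUnderCompositionWithLocalizationAwaySource Q)
    {X S : Scheme.{u}} (f : X ⟶ S) (U : S.Opens)
    (H : ∀ y ∈ f ⁻¹ᵁ U, ∃ (V : S.affineOpens) (_ : V.1 ≤ U) (W : X.affineOpens) (_ : y ∈ W.1)
      (e : W.1 ≤ f ⁻¹ᵁ V.1), Q (f.appLE V.1 W.1 e).hom) :
    P (f ∣_ U) := by
  rw [HasRingHomProperty.iff_exists_appLE (P := P) hQ]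
  intro y'
  obtain ⟨V, hVU, W, hyW, e, hq⟩ := H ((f ⁻¹ᵁ U).ι y') y'.2
  have hWle : W.1 ≤ f ⁻¹ᵁ U := e.trans (f.preimage_mono hVU)
  have hV' : IsAffineOpen (U.ι ⁻¹ᵁ V.1) :=
    V.2.preimage_of_isOpenImmersion U.ι (by rw [Scheme.Opens.opensRange_ι]; exact hVU)
  have hW' : IsAffineOpen ((f ⁻¹ᵁ U).ι ⁻¹ᵁ W.1) :=
    W.2.preimage_of_isOpenImmersion (f ⁻¹ᵁ U).ι (by rw [Scheme.Opens.opensRange_ι]; exact hWle)
  have e1 : U.ι ''ᵁ (U.ι ⁻¹ᵁ V.1) = V.1 := by
    rw [Scheme.Hom.image_preimage_eq_opensRange_inf, Scheme.Opens.opensRange_ι,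
      inf_eq_right.mpr hVU]
  have e2 : (f ⁻¹ᵁ U).ι ''ᵁ ((f ⁻¹ᵁ U).ι ⁻¹ᵁ W.1) = W.1 := by
    rw [Scheme.Hom.image_preimage_eq_opensRange_inf, Scheme.Opens.opensRange_ι,
      inf_eq_right.mpr hWle]
  have e' : (f ⁻¹ᵁ U).ι ⁻¹ᵁ W.1 ≤ (f ∣_ U) ⁻¹ᵁ (U.ι ⁻¹ᵁ V.1) := by
    intro z hz
    change U.ι ((f ∣_ U) z) ∈ V.1
    rw [← Scheme.Hom.comp_apply, morphismRestrict_ι, Scheme.Hom.comp_apply]
    exact e hz
  refine ⟨⟨U.ι ⁻¹ᵁ V.1, hV'⟩, ⟨(f ⁻¹ᵁ U).ι ⁻¹ᵁ W.1, hW'⟩, hyW, e', ?_⟩
  rw [morphismRestrict_appLE]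
  exact (Scheme.Hom.appLE_congr f _ e1 e2 (fun φ => Q φ.hom)).mpr hq


/-- A common nonzero element of the base over which finitely many affine charts become flat and
finitely presented. -/
theorem exists_common_good {X S : Scheme.{u}} (f : X ⟶ S) [IsReduced S] [LocallyOfFiniteType f]
    {V : S.Opens} (hV : IsAffineOpen V) (s : Finset X.affineOpens) (g₀ : Γ(S, V)) (hg₀ : g₀ ≠ 0) :
    ∃ r : Γ(S, V), r ≠ 0 ∧ g₀ ∣ r ∧ ∀ W ∈ s, ∀ (e : W.1 ≤ f ⁻¹ᵁ V) (c : Γ(S, V)),
      (Localization.awayMap (f.appLE V W.1 e).hom (r * c)).Flat ∧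
        (Localization.awayMap (f.appLE V W.1 e).hom (r * c)).FinitePresentation := by
  classical
  induction s using Finset.induction_on generalizing g₀ with
  | empty => exact ⟨g₀, hg₀, dvd_rfl, by simp⟩
  | insert W s _ ih =>
    obtain ⟨r₁, hr₁, hg₀r₁, h₁⟩ := ih g₀ hg₀
    by_cases e : W.1 ≤ f ⁻¹ᵁ V
    · obtain ⟨r₂, hr₂, ⟨d, rfl⟩, h₂⟩ := exists_awayMap_flat_fp (f.appLE V W.1 e).hom
        (f.finiteType_appLE hV W.2 e) r₁ hr₁
      refine ⟨r₁ * d, hr₂, hg₀r₁.trans (Dvd.intro d rfl), fun W' hW' e' c => ?_⟩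
      rcases Finset.mem_insert.mp hW' with rfl | hW'
      · exact h₂ c
      · rw [mul_assoc]
        exact h₁ W' hW' e' (d * c)
    · refine ⟨r₁, hr₁, hg₀r₁, fun W' hW' e' c => ?_⟩
      rcases Finset.mem_insert.mp hW' with rfl | hW'
      · exact (e e').elim
      · exact h₁ W' hW' e' c


/-- **Generic flatness over a reduced base.** -/
theorem generic_flatness_reduced {X S : Scheme.{u}} (f : X ⟶ S) [IsReduced S]
    [LocallyOfFiniteType f] [QuasiCompact f] :
    ∃ U : S.Opens, Dense (U : Set ↑S) ∧ Flat (f ∣_ U) ∧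
      LocallyOfFinitePresentation (f ∣_ U) := by
  classical
  let crit : S.Opens → Prop := fun O => ∀ y ∈ f ⁻¹ᵁ O, ∃ (V : S.affineOpens) (_ : V.1 ≤ O)
    (W : X.affineOpens) (_ : y ∈ W.1) (e : W.1 ≤ f ⁻¹ᵁ V.1),
    (f.appLE V.1 W.1 e).hom.Flat ∧ (f.appLE V.1 W.1 e).hom.FinitePresentation
  let U : S.Opens := sSup {O | crit O}
  have hU : crit U := by
    intro y hy
    have hyU : f y ∈ U := hy
    obtain ⟨O, hO, hyO⟩ := TopologicalSpace.Opens.mem_sSup.mp hyU
    obtain ⟨V, hVO, W, hyW, e, hq⟩ := hO y hyO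
    exact ⟨V, hVO.trans (le_sSup hO), W, hyW, e, hq⟩
  refine ⟨U, ?_, ?_, ?_⟩
  · rw [dense_iff_inter_open]
    intro O' hO' hne
    obtain ⟨x, hx⟩ := hne
    obtain ⟨_, ⟨V, hV : IsAffineOpen V, rfl⟩, hxV, hVO'⟩ :=
      S.isBasis_affineOpens.exists_subset_of_mem_open hx hO'
    haveI : Nonempty V := ⟨⟨x, hxV⟩⟩
    haveI : Nontrivial Γ(S, V) := inferInstance
    have hcpt : IsCompact ((f ⁻¹ᵁ V : X.Opens) : Set X) :=
      QuasiCompact.isCompact_preimage (f := f) V V.isOpen hV.isCompact
    obtain ⟨s, hs, hsU⟩ := isCompact_iff_finite_and_eq_biUnion_affineOpens.mp hcpt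
    have hsV : ∀ W ∈ s, W.1 ≤ f ⁻¹ᵁ V := fun W hW =>
      hsU ▸ le_iSup₂ (f := fun (i : X.affineOpens) (_ : i ∈ s) => (i : X.Opens)) W hW
    obtain ⟨r, hr, -, hgood⟩ := exists_common_good f hV hs.toFinset 1 one_ne_zero
    have hne : (S.basicOpen r : Set S).Nonempty := by
      rw [Set.nonempty_iff_ne_empty]
      intro hemp
      have hbot : S.basicOpen r = ⊥ := TopologicalSpace.Opens.ext hemp
      exact hr ((AlgebraicGeometry.basicOpen_eq_bot_iff r).mp hbot)
    obtain ⟨z, hz⟩ := hne
    refine ⟨z, hVO' (S.basicOpen_le r hz), ?_⟩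
    have hcr : crit (S.basicOpen r) := by
      intro y hy
      have hyV : y ∈ f ⁻¹ᵁ V := S.basicOpen_le r hy
      rw [hsU] at hyV
      obtain ⟨W, hWs, hyW⟩ : ∃ W ∈ s, y ∈ W.1 := by simpa using hyV
      have e := hsV W hWs
      obtain ⟨hfl, hfp⟩ := hgood W (hs.mem_toFinset.mpr hWs) e 1
      rw [mul_one] at hfl hfp
      refine ⟨⟨S.basicOpen r, hV.basicOpen r⟩, le_rfl,
        ⟨X.basicOpen (f.appLE V W.1 e r), W.2.basicOpen _⟩, ?_, by simp [Scheme.Hom.appLE], ?_⟩
      · change y ∈ X.basicOpen (f.appLE V W.1 e r)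
        rw [Groth.Agent.Lib.Helper4.GenFinite.basicOpen_appLE_eq]
        exact ⟨hyW, hy⟩
      · change (f.appLE (S.basicOpen r) (X.basicOpen (f.appLE V W.1 e r)) _).hom.Flat ∧
          (f.appLE (S.basicOpen r) (X.basicOpen (f.appLE V W.1 e r)) _).hom.FinitePresentation
        rw [IsAffineOpen.appLE_eq_away_map f hV W.2 e r]
        letI := hV.isLocalization_basicOpen r
        letI := W.2.isLocalization_basicOpen (f.appLE V W.1 e r)
        exact ⟨away_map_of_awayMap RingHom.Flat.respectsIso _ _ _ _ hfl,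
          away_map_of_awayMap RingHom.finitePresentation_respectsIso _ _ _ _ hfp⟩
    exact (le_sSup hcr : S.basicOpen r ≤ U) hz
  · refine morphismRestrict_of_exists_appLE (P := @Flat)
      (RingHom.Flat.stableUnderComposition.stableUnderCompositionWithLocalizationAway
        RingHom.Flat.holdsForLocalizationAway).left f U fun y hy => ?_
    obtain ⟨V, hVU, W, hyW, e, hq⟩ := hU y hy
    exact ⟨V, hVU, W, hyW, e, hq.1⟩
  · refine morphismRestrict_of_exists_appLE (P := @LocallyOfFinitePresentation)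
      (RingHom.finitePresentation_stableUnderComposition.stableUnderCompositionWithLocalizationAway
        RingHom.finitePresentation_holdsForLocalizationAway).left f U fun y hy => ?_
    obtain ⟨V, hVU, W, hyW, e, hq⟩ := hU y hy
    exact ⟨V, hVU, W, hyW, e, hq.2⟩

end Groth.Agent.R2.H69.GenFlatRed
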