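import Mathlib
import Groth.Agent.R2.H41GenFreeRed
import Groth.Agent.R2.H69GenFlatRed

/-!
# Nowhere dense fibres near the generic point (helper69)

`FND π Z U y`: the closed set `Z` is nowhere dense in the fibre of `π` over `y`, within the open `U`.

* topology: `FND_univ_of_cover`, `FND_transport`, `isNowhereDense_preimage_iff`;
* algebra: `nzd_tensor_of_exact_flat`, `mem_image_basicOpen_mul_of_nzd`,
  `exists_mem_nzd_localization`, `mulLeft_injective_away`, `fnd_near_generic_of_domain`
  (`A` domain, `B` reduced of finite type), `fnd_near_generic` (any `A` with a generic point);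
* schemes: `fnd_chart`, `nowhereDense_fibres_near_generic` (= S1298).
-/

set_option autoImplicit false
set_option linter.unusedSectionVars false
set_option linter.style.haveILetI false
universe u
open TensorProduct PrimeSpectrum

namespace Groth.Agent.R2.H69.FibreND

/-- `Z` is fibrewise nowhere dense at `y` within the open set `U` (`Z` closed): no open subset
of `U` meets the fibre over `y` in a nonempty subset of `Z`. -/
def FND {S T : Type*} [TopologicalSpace S] (π : S → T) (Z U : Set S) (y : T) : Prop :=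
  ∀ W : Set S, IsOpen W → W ⊆ U → W ∩ π ⁻¹' {y} ⊆ Z → W ∩ π ⁻¹' {y} = ∅

section top

variable {S T S' T' : Type*} [TopologicalSpace S] [TopologicalSpace S']

lemma FND.mono {π : S → T} {Z U U' : Set S} {y : T} (h : FND π Z U y) (hU : U' ⊆ U) :
    FND π Z U' y := fun W hW hWU hWZ => h W hW (hWU.trans hU) hWZ

/-- fibrewise nowhere density can be checked on an open cover of the fibre -/
lemma FND_univ_of_cover {π : S → T} {Z : Set S} {y : T} {ι : Type*} (U : ι → Set S)
    (hU : ∀ i, IsOpen (U i)) (hcov : π ⁻¹' {y} ⊆ ⋃ i, U i) (h : ∀ i, FND π Z (U i) y) :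
    FND π Z Set.univ y := by
  intro W hW _ hWZ
  rw [Set.eq_empty_iff_forall_notMem]
  rintro x ⟨hxW, hxy⟩
  obtain ⟨i, hi⟩ := Set.mem_iUnion.mp (hcov hxy)
  have h1 := h i (W ∩ U i) (hW.inter (hU i)) Set.inter_subset_right
    (fun z hz => hWZ ⟨hz.1.1, hz.2⟩)
  exact (Set.eq_empty_iff_forall_notMem.mp h1 x) ⟨⟨hxW, hi⟩, hxy⟩

/-- transport of fibrewise nowhere density along an open embedding of the source and an
injection of the target -/
lemma FND_transport (π : S → T) (π' : S' → T') (jS : S' → S) (jT : T' → T)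
    (hjS : Topology.IsOpenEmbedding jS) (hjT : Function.Injective jT)
    (hcomm : ∀ s, π (jS s) = jT (π' s)) (Z : Set S) (y' : T') :
    FND π Z (Set.range jS) (jT y') ↔ FND π' (jS ⁻¹' Z) Set.univ y' := by
  constructor
  · intro h W' hW' _ hW'Z
    have h1 := h (jS '' W') (hjS.isOpenMap _ hW') (Set.image_subset_range _ _) (by
      rintro _ ⟨⟨s, hs, rfl⟩, hsy⟩
      have : π' s = y' := hjT (by rw [← hcomm]; exact hsy)
      exact hW'Z ⟨hs, this⟩)
    rw [Set.eq_empty_iff_forall_notMem] at h1 ⊢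
    rintro s ⟨hs, hsy⟩
    refine h1 (jS s) ⟨⟨s, hs, rfl⟩, ?_⟩
    change π (jS s) = jT y'
    rw [hcomm, show π' s = y' from hsy]
  · intro h W hW hWU hWZ
    have h1 := h (jS ⁻¹' W) (hW.preimage hjS.continuous) (Set.subset_univ _) (by
      rintro s ⟨hs, hsy⟩
      refine hWZ ⟨hs, ?_⟩
      change π (jS s) = jT y'
      rw [hcomm, show π' s = y' from hsy])
    rw [Set.eq_empty_iff_forall_notMem] at h1 ⊢
    rintro x ⟨hxW, hxy⟩
    obtain ⟨s, rfl⟩ := hWU hxW
    refine h1 s ⟨hxW, ?_⟩
    exact hjT (by rw [← hcomm]; exact hxy)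

/-- nowhere density in a fibre, for an embedding `ι` of the fibre -/
lemma isNowhereDense_preimage_iff {F : Type*} [TopologicalSpace F] (π : S → T) (y : T)
    (ι : F → S) (hι : Topology.IsEmbedding ι) (hrange : Set.range ι = π ⁻¹' {y})
    (Z : Set S) (hZ : IsClosed Z) :
    IsNowhereDense (ι ⁻¹' Z) ↔ FND π Z Set.univ y := by
  rw [(hZ.preimage hι.continuous).isNowhereDense_iff]
  constructor
  · intro h W hW _ hWZ
    have h1 : ι ⁻¹' W ⊆ interior (ι ⁻¹' Z) := by
      apply interior_maximal _ (hW.preimage hι.continuous)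
      intro s hs
      exact hWZ ⟨hs, by rw [← hrange]; exact ⟨s, rfl⟩⟩
    rw [h] at h1
    rw [Set.eq_empty_iff_forall_notMem]
    rintro x ⟨hxW, hxy⟩
    rw [← hrange] at hxy
    obtain ⟨s, rfl⟩ := hxy
    exact h1 hxW
  · intro h
    obtain ⟨W, hW, hWeq⟩ := hι.isInducing.isOpen_iff.mp (isOpen_interior (s := ι ⁻¹' Z))
    have h1 := h W hW (Set.subset_univ _) (by
      rintro x ⟨hxW, hxy⟩
      rw [← hrange] at hxy
      obtain ⟨s, rfl⟩ := hxy
      have : s ∈ ι ⁻¹' W := hxW
      rw [hWeq] at this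
      exact (interior_subset this : s ∈ ι ⁻¹' Z))
    rw [Set.eq_empty_iff_forall_notMem] at h1 ⊢
    intro s hs
    rw [← hWeq] at hs
    exact h1 (ι s) ⟨hs, by rw [← hrange]; exact ⟨s, rfl⟩⟩

end top

section nzd

variable {A : Type*} [CommRing A]

/-- If `0 → B' --h--> B' → P → 0` is exact with `P` flat then `h ⊗ 1` is a nonzerodivisor on
`B' ⊗ κ`. -/
lemma nzd_tensor_of_exact_flat {B' P : Type*} [CommRing B'] [Algebra A B'] [AddCommGroup P]
    [Module A P] [Module.Flat A P] (h : B') (θ : B' →ₗ[A] P) (hθ : Function.Surjective θ)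
    (hinj : Function.Injective (LinearMap.mulLeft A h))
    (hex : Function.Exact (LinearMap.mulLeft A h) θ) (κ : Type*) [CommRing κ] [Algebra A κ] :
    algebraMap B' (B' ⊗[A] κ) h ∈ nonZeroDivisors (B' ⊗[A] κ) := by
  have h1 : Function.Injective ((LinearMap.mulLeft A h).lTensor κ) :=
    LinearMap.lTensor_injective_of_exact_of_flat θ hθ (LinearMap.mulLeft A h) hinj hex κ
  rw [LinearMap.lTensor_inj_iff_rTensor_inj] at h1
  have key : ∀ x : B' ⊗[A] κ, (LinearMap.mulLeft A h).rTensor κ x =
      x * algebraMap B' (B' ⊗[A] κ) h := by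
    intro x
    induction x using TensorProduct.induction_on with
    | zero => simp
    | tmul b k =>
      simp [Algebra.TensorProduct.algebraMap_apply, Algebra.TensorProduct.tmul_mul_tmul, mul_comm]
    | add x y hx hy => rw [map_add, hx, hy, add_mul]
  rw [mem_nonZeroDivisors_iff_right]
  intro x hx
  apply h1
  rw [map_zero, key, hx]

end nzd

section fibre

variable {A B : Type*} [CommRing A] [CommRing B] [Algebra A B]

/-- if `h` is a nonzerodivisor on the fibre ring over `q` and `D(b)` meets the fibre over `q`,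
then so does `D(b h)`. -/
lemma mem_image_basicOpen_mul_of_nzd (q : PrimeSpectrum A) (h b : B)
    (hh : algebraMap B (B ⊗[A] q.asIdeal.ResidueField) h ∈
      nonZeroDivisors (B ⊗[A] q.asIdeal.ResidueField))
    (hb : q ∈ comap (algebraMap A B) '' (basicOpen b : Set (PrimeSpectrum B))) :
    q ∈ comap (algebraMap A B) '' (basicOpen (b * h) : Set (PrimeSpectrum B)) := by
  rw [mem_image_comap_basicOpen] at hb ⊢
  rintro ⟨n, hn⟩
  apply hb
  refine ⟨n, ?_⟩
  rw [map_mul, mul_pow] at hn
  exact (mem_nonZeroDivisors_iff_right.mp (pow_mem hh n)) _ hn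

end fibre

section domain

variable {A B : Type u} [CommRing A] [IsDomain A] [CommRing B] [IsReduced B] [Algebra A B]
  [Algebra.FiniteType A B]

/-- the generic point of the spectrum of a domain -/
abbrev gen (A : Type*) [CommRing A] [IsDomain A] : PrimeSpectrum A := ⟨⊥, Ideal.isPrime_bot⟩

instance isNoetherianRing_localization_nonZeroDivisors :
    IsNoetherianRing (Localization (Algebra.algebraMapSubmonoid B (nonZeroDivisors A))) := by
  have h1 : (algebraMap A B).FiniteType := RingHom.finiteType_algebraMap.mpr inferInstance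
  have : IsLocalization (Submonoid.map (algebraMap A B) (nonZeroDivisors A))
      (Localization (Algebra.algebraMapSubmonoid B (nonZeroDivisors A))) :=
    inferInstanceAs (IsLocalization (Algebra.algebraMapSubmonoid B (nonZeroDivisors A))
      (Localization (Algebra.algebraMapSubmonoid B (nonZeroDivisors A))))
  have h2 := RingHom.finiteType_localizationPreserves (algebraMap A B) (nonZeroDivisors A)
    (FractionRing A) (Localization (Algebra.algebraMapSubmonoid B (nonZeroDivisors A))) h1
  have h2' : (algebraMap (FractionRing A)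
      (Localization (Algebra.algebraMapSubmonoid B (nonZeroDivisors A)))).FiniteType := h2
  have h3 : Algebra.FiniteType (FractionRing A)
      (Localization (Algebra.algebraMapSubmonoid B (nonZeroDivisors A))) :=
    RingHom.finiteType_algebraMap.mp h2'
  exact Algebra.FiniteType.isNoetherianRing (FractionRing A) _

/-- If `V(I)` is nowhere dense in the generic fibre, then `I` contains an element which is a
nonzerodivisor on the generic fibre ring. -/
theorem exists_mem_nzd_localization (I : Ideal B)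
    (H : FND (comap (algebraMap A B)) (zeroLocus (I : Set B)) Set.univ (gen A)) :
    ∃ h ∈ I, algebraMap B (Localization (Algebra.algebraMapSubmonoid B (nonZeroDivisors A))) h ∈
      nonZeroDivisors (Localization (Algebra.algebraMapSubmonoid B (nonZeroDivisors A))) := by
  set M := Algebra.algebraMapSubmonoid B (nonZeroDivisors A) with hM
  set C := Localization M with hC
  by_contra hcon
  push Not at hcon
  have hunit : ∀ s : M, algebraMap B C s ∈ nonZeroDivisors C := fun s =>
    (IsLocalization.map_units C s).mem_nonZeroDivisors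
  have hdisj : Disjoint ((I.map (algebraMap B C) : Ideal C) : Set C) (nonZeroDivisors C) := by
    rw [Set.disjoint_left]
    intro j hj hjn
    obtain ⟨⟨a, s⟩, hjs⟩ := (IsLocalization.mem_map_algebraMap_iff M C).mp hj
    exact hcon a a.2 (hjs ▸ mul_mem hjn (hunit s))
  obtain ⟨-, c, hcann, hc0⟩ := SetLike.lt_iff_le_and_exists.mp
    (Ideal.bot_lt_annihilator_of_disjoint_nonZeroDivisors hdisj)
  have hc0' : c ≠ 0 := fun h => hc0 (by rw [h]; exact Submodule.zero_mem _)
  rw [Module.mem_annihilator] at hcann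
  obtain ⟨⟨b, s⟩, rfl⟩ := IsLocalization.mk'_surjective M c
  -- `ι b ≠ 0`
  have hb0 : algebraMap B C b ≠ 0 := by
    intro hb
    apply hc0'
    rw [IsLocalization.mk'_eq_zero_iff]
    obtain ⟨m, hm⟩ := (IsLocalization.map_eq_zero_iff M C b).mp hb
    exact ⟨m, hm⟩
  -- `ι (a b) = 0` for `a ∈ I`
  have hab : ∀ a ∈ I, ∃ t : A, t ≠ 0 ∧ algebraMap A B t * (a * b) = 0 := by
    intro a ha
    have h1 : IsLocalization.mk' C b s * algebraMap B C a = 0 := by
      have := hcann ⟨algebraMap B C a, Ideal.mem_map_of_mem _ ha⟩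
      simpa [Subtype.ext_iff] using this
    have h2 : algebraMap B C (a * b) = 0 := by
      have : algebraMap B C b = IsLocalization.mk' C b s * algebraMap B C s :=
        (IsLocalization.mk'_spec C b s).symm
      rw [map_mul, this, mul_comm, mul_assoc, mul_comm (algebraMap B C s), ← mul_assoc, h1,
        zero_mul]
    obtain ⟨⟨m, t, ht, rfl⟩, hm⟩ := (IsLocalization.map_eq_zero_iff M C (a * b)).mp h2
    exact ⟨t, nonZeroDivisors.ne_zero ht, hm⟩
  -- `D(b)` meets the generic fibre inside `V(I)`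
  have hsub : (basicOpen b : Set (PrimeSpectrum B)) ∩ comap (algebraMap A B) ⁻¹' {gen A} ⊆
      zeroLocus (I : Set B) := by
    rintro q ⟨hqb, hq⟩ a ha
    obtain ⟨t, ht0, htab⟩ := hab a ha
    have h1 : algebraMap A B t * (a * b) ∈ q.asIdeal := htab ▸ q.asIdeal.zero_mem
    rcases q.2.mem_or_mem h1 with h2 | h2
    · exfalso
      apply ht0
      have : t ∈ (comap (algebraMap A B) q).asIdeal := h2
      rw [show comap (algebraMap A B) q = gen A from hq] at this
      exact this
    · rcases q.2.mem_or_mem h2 with h3 | h3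
      · exact h3
      · exact absurd h3 hqb
  have hempty := H _ (basicOpen b).2 (Set.subset_univ _) hsub
  -- but `ι b` is not nilpotent
  have hnil : ¬ IsNilpotent (algebraMap B C b) := by
    rintro ⟨n, hn⟩
    rw [← map_pow] at hn
    obtain ⟨⟨m, t, ht, rfl⟩, hm⟩ := (IsLocalization.map_eq_zero_iff M C (b ^ n)).mp hn
    have h1 : (algebraMap A B t * b) ^ n = 0 := by
      rcases n with _ | n
      · exfalso
        simp only [pow_zero, mul_one] at hm
        apply hb0
        have h2 : algebraMap B C (algebraMap A B t) = 0 := by rw [hm, map_zero]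
        have h3 := hunit ⟨algebraMap A B t, t, ht, rfl⟩
        have : (1 : C) = 0 := by
          have := (mem_nonZeroDivisors_iff_right.mp h3) 1 (by rw [one_mul]; exact h2)
          exact this
        calc algebraMap B C b = algebraMap B C b * 1 := (mul_one _).symm
          _ = 0 := by rw [this, mul_zero]
      · rw [mul_pow, pow_succ (algebraMap A B t), mul_assoc, hm, mul_zero]
    have h2 : algebraMap A B t * b = 0 := IsReduced.eq_zero _ ⟨n, h1⟩
    apply hb0
    have h3 := hunit ⟨algebraMap A B t, t, ht, rfl⟩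
    refine (mem_nonZeroDivisors_iff_right.mp h3) _ ?_
    rw [← map_mul, mul_comm, h2, map_zero]
  obtain ⟨Q, hQ, hbQ⟩ : ∃ Q : Ideal C, Q.IsPrime ∧ algebraMap B C b ∉ Q := by
    by_contra hall
    push Not at hall
    apply hnil
    rw [← mem_nilradical, nilradical_eq_sInf, Ideal.mem_sInf]
    intro Q hQ
    exact hall Q hQ
  have hmem : comap (algebraMap B C) ⟨Q, hQ⟩ ∈
      (basicOpen b : Set (PrimeSpectrum B)) ∩ comap (algebraMap A B) ⁻¹' {gen A} := by
    refine ⟨hbQ, ?_⟩
    ext x
    constructor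
    · intro hx
      by_contra hx0
      have hx0' : x ≠ 0 := hx0
      have h3 := IsLocalization.map_units C
        (⟨algebraMap A B x, x, mem_nonZeroDivisors_of_ne_zero hx0', rfl⟩ : M)
      exact hQ.ne_top (Ideal.eq_top_of_isUnit_mem _ hx h3)
    · intro hx
      have : x = 0 := hx
      rw [this]
      exact Ideal.zero_mem _
  exact (Set.eq_empty_iff_forall_notMem.mp hempty _) hmem

open Groth.Agent.R2.H41.GenFreeRed Groth.Agent.R2.H69.GenFlatRed in
/-- multiplication by `h` is injective on `B_f` when `B` has a basis away from `f` and `h` is a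
nonzerodivisor on the generic fibre ring. -/
lemma mulLeft_injective_away (h : B)
    (hnzd : algebraMap B (Localization (Algebra.algebraMapSubmonoid B (nonZeroDivisors A))) h ∈
      nonZeroDivisors (Localization (Algebra.algebraMapSubmonoid B (nonZeroDivisors A))))
    (f : A) (hf : f ≠ 0) {ι₁ : Type*} (v₁ : ι₁ → B) (hB : IsBasisAway A f v₁) :
    Function.Injective (LinearMap.mulLeft A
      (algebraMap B (Localization.Away (algebraMap A B f)) h)) := by
  set M := Algebra.algebraMapSubmonoid B (nonZeroDivisors A) with hM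
  set C := Localization M with hC
  set Bf := Localization.Away (algebraMap A B f) with hBf
  rw [injective_iff_map_eq_zero]
  intro x hx
  obtain ⟨⟨y, s⟩, rfl⟩ := IsLocalization.mk'_surjective (Submonoid.powers (algebraMap A B f)) x
  have h1 : algebraMap B Bf (h * y) = 0 := by
    have h2 : algebraMap B Bf h * IsLocalization.mk' Bf y s = 0 := hx
    have h3 : algebraMap B Bf y = IsLocalization.mk' Bf y s * algebraMap B Bf s :=
      (IsLocalization.mk'_spec Bf y s).symm
    rw [map_mul, h3, ← mul_assoc, h2, zero_mul]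
  obtain ⟨⟨_, k, rfl⟩, hk⟩ :=
    (IsLocalization.map_eq_zero_iff (Submonoid.powers (algebraMap A B f)) Bf (h * y)).mp h1
  have h4 : algebraMap B C ((algebraMap A B f) ^ k * y) = 0 := by
    refine (mem_nonZeroDivisors_iff_right.mp hnzd) _ ?_
    rw [← map_mul]
    have : (algebraMap A B f) ^ k * y * h = (algebraMap A B f) ^ k * (h * y) := by ring
    rw [this, hk, map_zero]
  obtain ⟨⟨_, t, ht, rfl⟩, htk⟩ :=
    (IsLocalization.map_eq_zero_iff M C ((algebraMap A B f) ^ k * y)).mp h4
  have ht0 : t ≠ 0 := nonZeroDivisors.ne_zero ht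
  obtain ⟨N, hN⟩ := hB.2 y
  obtain ⟨l, hl⟩ := (Finsupp.mem_span_range_iff_exists_finsupp).mp hN
  have hl' : Finsupp.linearCombination A v₁ l = f ^ N • y := hl
  have h5 : Finsupp.linearCombination A v₁ ((t * f ^ k) • l) = 0 := by
    rw [map_smul, hl', smul_smul, Algebra.smul_def, map_mul, map_mul, map_pow, map_pow]
    have : algebraMap A B t * (algebraMap A B f) ^ k * (algebraMap A B f) ^ N * y =
        (algebraMap A B f) ^ N * (algebraMap A B t * ((algebraMap A B f) ^ k * y)) := by ring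
    rw [this, htk, mul_zero]
  have hl0 : l = 0 := by
    ext i
    obtain ⟨j, hj⟩ := hB.1 _ h5 i
    simp only [Finsupp.smul_apply, smul_eq_mul, Finsupp.coe_zero, Pi.zero_apply] at hj ⊢
    rcases mul_eq_zero.mp hj with h6 | h6
    · exact absurd (pow_eq_zero_iff (M₀ := A) (n := j) (by
        intro hj0; subst hj0; simp at h6) |>.mp h6) hf
    · rcases mul_eq_zero.mp h6 with h7 | h7
      · rcases mul_eq_zero.mp h7 with h8 | h8
        · exact absurd h8 ht0
        · exact absurd (pow_eq_zero_iff (M₀ := A) (n := k) (by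
            intro hk0; subst hk0; simp at h8) |>.mp h8) hf
      · exact h7
  have h6 : (algebraMap A B f) ^ N * y = 0 := by
    rw [← map_pow, ← Algebra.smul_def, ← hl', hl0, map_zero]
  rw [IsLocalization.mk'_eq_zero_iff]
  exact ⟨⟨_, N, rfl⟩, h6⟩

open Groth.Agent.R2.H41.GenFreeRed Groth.Agent.R2.H69.GenFlatRed in
/-- `A` a domain, `B` a reduced `A`-algebra of finite type, `V(I)` nowhere dense in the generic
fibre: then `V(I)` is nowhere dense in the fibres over a nonempty open of `Spec A`. -/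
theorem fnd_near_generic_of_domain (I : Ideal B)
    (H : FND (comap (algebraMap A B)) (zeroLocus (I : Set B)) Set.univ (gen A)) :
    ∃ f : A, f ≠ 0 ∧ ∀ q : PrimeSpectrum A, f ∉ q.asIdeal →
      FND (comap (algebraMap A B)) (zeroLocus (I : Set B)) Set.univ q := by
  obtain ⟨h, hI, hnzd⟩ := exists_mem_nzd_localization I H
  obtain ⟨f, hf0, -, ⟨ι₁, v₁, hB⟩, ⟨ι₂, v₂, hM⟩, -, -⟩ :=
    exists_basisAway A B (B ⧸ Ideal.span {h}) 1 one_ne_zero
  refine ⟨f, hf0, fun q hfq => ?_⟩
  set Bf := Localization.Away (algebraMap A B f) with hBf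
  set P := LocalizedModule (Submonoid.powers f) (B ⧸ Ideal.span {h}) with hP
  have hinj := mulLeft_injective_away h hnzd f hf0 v₁ hB
  haveI : Module.Free (Localization.Away f) P :=
    hM.free (Localization.Away f) (LocalizedModule.mkLinearMap (Submonoid.powers f) _)
  haveI : Module.Flat A P := Module.Flat.trans A (Localization.Away f) P
  haveI := isLocalizedModule_of_away (R := A) (B := B) (B' := Bf) f
  let φB : B →ₗ[A] Bf := (IsScalarTower.toAlgHom A B Bf).toLinearMap
  let qmap : B →ₗ[A] B ⧸ Ideal.span {h} := (Ideal.Quotient.mkₐ A (Ideal.span {h})).toLinearMap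
  let θ : Bf →ₗ[A] P := IsLocalizedModule.map (Submonoid.powers f) φB
    (LocalizedModule.mkLinearMap (Submonoid.powers f) _) qmap
  have hθ : Function.Surjective θ :=
    IsLocalizedModule.map_surjective _ _ _ _ (Ideal.Quotient.mkₐ_surjective A _)
  have hex0 : Function.Exact (LinearMap.mulLeft A h) qmap := by
    intro y
    change Ideal.Quotient.mk _ y = 0 ↔ _
    rw [Ideal.Quotient.eq_zero_iff_mem, Ideal.mem_span_singleton']
    constructor
    · rintro ⟨a, rfl⟩
      exact ⟨a, mul_comm _ _⟩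
    · rintro ⟨a, rfl⟩
      exact ⟨a, mul_comm _ _⟩
  have hmap : IsLocalizedModule.map (Submonoid.powers f) φB φB (LinearMap.mulLeft A h) =
      LinearMap.mulLeft A (algebraMap B Bf h) := by
    apply IsLocalizedModule.linearMap_ext (Submonoid.powers f) φB φB
    rw [IsLocalizedModule.map_comp]
    ext y
    change algebraMap B Bf (h * y) = algebraMap B Bf h * algebraMap B Bf y
    rw [map_mul]
  have hex : Function.Exact (LinearMap.mulLeft A (algebraMap B Bf h)) θ := by
    rw [← hmap]
    exact IsLocalizedModule.map_exact (Submonoid.powers f) φB φB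
      (LocalizedModule.mkLinearMap (Submonoid.powers f) _) _ _ hex0
  have hnz := nzd_tensor_of_exact_flat (algebraMap B Bf h) θ hθ hinj hex q.asIdeal.ResidueField
  -- the conclusion
  intro W hW _ hWZ
  by_contra hne
  obtain ⟨x, hxW, hxq⟩ := Set.nonempty_iff_ne_empty.mpr hne
  obtain ⟨_, ⟨b, rfl⟩, hxb, hbW⟩ :=
    (PrimeSpectrum.isTopologicalBasis_basic_opens (R := B)).exists_subset_of_mem_open hxW hW
  have hxq' : comap (algebraMap A B) x = q := hxq
  have hxf : x ∈ (basicOpen (algebraMap A B f) : Set (PrimeSpectrum B)) := by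
    change algebraMap A B f ∉ x.asIdeal
    intro hmem
    apply hfq
    rw [← hxq']
    exact hmem
  rw [← PrimeSpectrum.localization_away_comap_range Bf (algebraMap A B f)] at hxf
  obtain ⟨xf, rfl⟩ := hxf
  have hcomp : ∀ z : PrimeSpectrum Bf, comap (algebraMap A Bf) z =
      comap (algebraMap A B) (comap (algebraMap B Bf) z) := by
    intro z
    rw [IsScalarTower.algebraMap_eq A B Bf]
    rfl
  have h1 : q ∈ comap (algebraMap A Bf) '' (basicOpen (algebraMap B Bf b) : Set _) :=
    ⟨xf, hxb, (hcomp xf).trans hxq'⟩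
  obtain ⟨x', hx'bh, hx'q⟩ := mem_image_basicOpen_mul_of_nzd q (algebraMap B Bf h)
    (algebraMap B Bf b) hnz h1
  have h2 : algebraMap B Bf (b * h) ∉ x'.asIdeal := by
    rw [map_mul]; exact hx'bh
  have hb' : b ∉ (comap (algebraMap B Bf) x').asIdeal := fun hb =>
    h2 (by rw [map_mul]; exact Ideal.mul_mem_right _ _ hb)
  have hh' : h ∉ (comap (algebraMap B Bf) x').asIdeal := fun hh =>
    h2 (by rw [map_mul]; exact Ideal.mul_mem_left _ _ hh)
  have h3 : comap (algebraMap B Bf) x' ∈ W ∩ comap (algebraMap A B) ⁻¹' {q} :=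
    ⟨hbW hb', ((hcomp x').symm.trans hx'q)⟩
  exact hh' (hWZ h3 hI)

end domain

section general

variable {A B : Type u} [CommRing A] [CommRing B] [Algebra A B] [Algebra.FiniteType A B]

/-- `A` any ring with a generic point `η`, `B` an `A`-algebra of finite type, `Z ⊆ Spec B` closed
and nowhere dense in the generic fibre: then `Z` is nowhere dense in the fibres over a
neighbourhood `D(a)` of `η`. -/
theorem fnd_near_generic (η : PrimeSpectrum A) (hη : ∀ q : PrimeSpectrum A, η ⤳ q)
    (Z : Set (PrimeSpectrum B)) (hZ : IsClosed Z)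
    (H : FND (comap (algebraMap A B)) Z Set.univ η) :
    ∃ a : A, a ∉ η.asIdeal ∧ ∀ q : PrimeSpectrum A, a ∉ q.asIdeal →
      FND (comap (algebraMap A B)) Z Set.univ q := by
  set p := η.asIdeal with hp
  have hple : ∀ q : PrimeSpectrum A, p ≤ q.asIdeal := fun q =>
    (PrimeSpectrum.le_iff_specializes η q).mpr (hη q)
  have hpnil : p ≤ nilradical A := by
    rw [nilradical_eq_sInf]
    exact le_sInf (fun J hJ => hple ⟨J, hJ⟩)
  have hle : p ≤ (nilradical B).comap (algebraMap A B) := by
    intro x hx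
    exact IsNilpotent.map (mem_nilradical.mp (hpnil hx)) (algebraMap A B)
  letI : Algebra (A ⧸ p) (B ⧸ nilradical B) := Ideal.Quotient.algebraQuotientOfLEComap hle
  haveI : IsScalarTower A (A ⧸ p) (B ⧸ nilradical B) := IsScalarTower.of_algebraMap_eq (fun x => rfl)
  haveI : Algebra.FiniteType (A ⧸ p) (B ⧸ nilradical B) :=
    Algebra.FiniteType.of_restrictScalars_finiteType A (A ⧸ p) (B ⧸ nilradical B)
  haveI : IsReduced (B ⧸ nilradical B) := by
    rw [← Ideal.isRadical_iff_quotient_reduced]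
    exact Ideal.radical_isRadical _
  -- the comparison maps
  let jS : PrimeSpectrum (B ⧸ nilradical B) → PrimeSpectrum B :=
    comap (Ideal.Quotient.mk (nilradical B))
  let jT : PrimeSpectrum (A ⧸ p) → PrimeSpectrum A := comap (Ideal.Quotient.mk p)
  have hjSh : IsHomeomorph jS := PrimeSpectrum.isHomeomorph_comap _
    (fun x => ⟨1, one_pos, by rw [pow_one]; exact Ideal.Quotient.mk_surjective x⟩)
    (by rw [Ideal.mk_ker])
  have hjS : Topology.IsOpenEmbedding jS :=
    Topology.IsOpenEmbedding.of_continuous_injective_isOpenMap hjSh.continuous hjSh.injective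
      hjSh.isOpenMap
  have hjSr : Set.range jS = Set.univ := hjSh.surjective.range_eq
  have hjT : Function.Injective jT :=
    comap_injective_of_surjective _ Ideal.Quotient.mk_surjective
  have hjTr : ∀ q : PrimeSpectrum A, ∃ q', jT q' = q := by
    intro q
    have : q ∈ Set.range jT := by
      rw [range_comap_of_surjective _ _ Ideal.Quotient.mk_surjective, Ideal.mk_ker]
      exact hple q
    exact this
  have hcomm : ∀ s, comap (algebraMap A B) (jS s) = jT (comap (algebraMap (A ⧸ p) (B ⧸ nilradical B)) s) := by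
    intro s
    rfl
  have hgen : jT (gen (A ⧸ p)) = η := by
    ext x
    change Ideal.Quotient.mk p x ∈ (⊥ : Ideal (A ⧸ p)) ↔ x ∈ p
    rw [Ideal.mem_bot, Ideal.Quotient.eq_zero_iff_mem]
  have hZ' : IsClosed (jS ⁻¹' Z) := hZ.preimage hjSh.continuous
  obtain ⟨I, hI⟩ := (isClosed_iff_zeroLocus_ideal _).mp hZ'
  have H' : FND (comap (algebraMap (A ⧸ p) (B ⧸ nilradical B))) (zeroLocus (I : Set _)) Set.univ
      (gen (A ⧸ p)) := by
    rw [← hI, ← FND_transport (comap (algebraMap A B)) _ jS jT hjS hjT hcomm Z, hjSr, hgen]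
    exact H
  obtain ⟨f', hf'0, hf'⟩ := fnd_near_generic_of_domain I H'
  obtain ⟨a, rfl⟩ := Ideal.Quotient.mk_surjective f'
  refine ⟨a, fun ha => hf'0 (Ideal.Quotient.eq_zero_iff_mem.mpr ha), fun q haq => ?_⟩
  obtain ⟨q', rfl⟩ := hjTr q
  have h1 := hf' q' (fun h => haq h)
  rw [← hI, ← FND_transport (comap (algebraMap A B)) _ jS jT hjS hjT hcomm Z, hjSr] at h1
  exact h1

end general

section scheme

open AlgebraicGeometry CategoryTheory TopologicalSpace

/-- the affine chart version of the theorem -/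
theorem fnd_chart {X Y : Scheme.{u}} (f : X ⟶ Y) [LocallyOfFiniteType f] {V₀ : Y.Opens}
    (hV₀ : IsAffineOpen V₀) {U : X.Opens} (hU : IsAffineOpen U) (e : U ≤ f ⁻¹ᵁ V₀)
    (η' : PrimeSpectrum Γ(Y, V₀)) (hη' : ∀ q : PrimeSpectrum Γ(Y, V₀), η' ⤳ q)
    (Z : Set ↑X) (hZ : IsClosed Z) (H : FND f Z U (hV₀.fromSpec η')) :
    ∃ a : Γ(Y, V₀), a ∉ η'.asIdeal ∧ ∀ q : PrimeSpectrum Γ(Y, V₀), a ∉ q.asIdeal →
      FND f Z U (hV₀.fromSpec q) := by
  letI : Algebra Γ(Y, V₀) Γ(X, U) := (f.appLE V₀ U e).hom.toAlgebra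
  haveI : Algebra.FiniteType Γ(Y, V₀) Γ(X, U) := f.finiteType_appLE hV₀ hU e
  have hjS : Topology.IsOpenEmbedding hU.fromSpec := hU.fromSpec.isOpenEmbedding
  have hjT : Function.Injective hV₀.fromSpec := hV₀.fromSpec.isOpenEmbedding.injective
  have hcomm : ∀ s : PrimeSpectrum Γ(X, U),
      f (hU.fromSpec s) = hV₀.fromSpec (PrimeSpectrum.comap (algebraMap Γ(Y, V₀) Γ(X, U)) s) := by
    intro s
    have h1 := IsAffineOpen.SpecMap_appLE_fromSpec f hV₀ hU e
    have h2 := congrArg (fun g : Spec Γ(X, U) ⟶ Y => g s) h1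
    exact h2.symm
  have hr : Set.range hU.fromSpec = U := hU.range_fromSpec
  have key : ∀ q, FND f Z U (hV₀.fromSpec q) ↔
      FND (PrimeSpectrum.comap (algebraMap Γ(Y, V₀) Γ(X, U))) (hU.fromSpec ⁻¹' Z) Set.univ q := by
    intro q
    rw [← hr]
    exact FND_transport (f : X → Y)
      (PrimeSpectrum.comap (algebraMap Γ(Y, V₀) Γ(X, U))) hU.fromSpec hV₀.fromSpec hjS hjT hcomm Z q
  obtain ⟨a, ha, h⟩ := fnd_near_generic η' hη' (hU.fromSpec ⁻¹' Z)
    (hZ.preimage hU.fromSpec.continuous) ((key η').mp H)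
  exact ⟨a, ha, fun q hq => (key q).mpr (h q hq)⟩

/-- Let `f` be of finite type with irreducible target and `Z` a closed subset of the source
whose trace on the generic fibre is nowhere dense. Then over a nonempty open of the target every
fibre of `Z` is nowhere dense in the fibre of `f`. -/
theorem nowhereDense_fibres_near_generic {X Y : Scheme.{u}} (f : X ⟶ Y) [IrreducibleSpace ↑Y]
    [LocallyOfFiniteType f] [QuasiCompact f] (Z : Set ↑X) (hZ : IsClosed Z)
    (h : IsNowhereDense ((f.fiberι (genericPoint ↑Y)) ⁻¹' Z)) :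
    ∃ V : Y.Opens, (V : Set ↑Y).Nonempty ∧ ∀ y ∈ V, IsNowhereDense ((f.fiberι y) ⁻¹' Z) := by
  classical
  have hiff : ∀ y : Y, IsNowhereDense ((f.fiberι y) ⁻¹' Z) ↔ FND f Z Set.univ y := fun y =>
    isNowhereDense_preimage_iff f y (f.fiberι y) (f.fiberι y).isEmbedding (f.range_fiberι y) Z hZ
  simp only [hiff] at h ⊢
  obtain ⟨V₀, hV₀, hηV₀⟩ : ∃ V₀ : Y.Opens, IsAffineOpen V₀ ∧ genericPoint Y ∈ V₀ := by
    obtain ⟨_, ⟨V, hV, rfl⟩, hη, -⟩ := Y.isBasis_affineOpens.exists_subset_of_mem_open
      (Set.mem_univ (genericPoint Y)) isOpen_univ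
    exact ⟨V, hV, hη⟩
  set η' : PrimeSpectrum Γ(Y, V₀) := hV₀.primeIdealOf ⟨genericPoint Y, hηV₀⟩ with hη'def
  have hη'η : hV₀.fromSpec η' = genericPoint Y := hV₀.fromSpec_primeIdealOf ⟨genericPoint Y, hηV₀⟩
  have hη' : ∀ q : PrimeSpectrum Γ(Y, V₀), η' ⤳ q := by
    intro q
    have h1 : hV₀.fromSpec η' ⤳ hV₀.fromSpec q := by
      rw [hη'η]; exact genericPoint_specializes _
    exact (hV₀.fromSpec.isOpenEmbedding.isInducing.specializes_iff).mp h1
  have hcomp : IsCompact ((f ⁻¹ᵁ V₀ : X.Opens) : Set X) :=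
    QuasiCompact.isCompact_preimage (f := f) _ V₀.2 hV₀.isCompact
  obtain ⟨s, hs, hcov⟩ := (isCompact_and_isOpen_iff_finite_and_eq_biUnion_affineOpens
    (X := X) (U := ((f ⁻¹ᵁ V₀ : X.Opens) : Set X))).mp ⟨hcomp, (f ⁻¹ᵁ V₀).2⟩
  have hle : ∀ W ∈ s, W.1 ≤ f ⁻¹ᵁ V₀ := by
    intro W hW x hx
    have : x ∈ ((f ⁻¹ᵁ V₀ : X.Opens) : Set X) := by
      rw [hcov]; exact Set.mem_biUnion hW hx
    exact this
  have hchart : ∀ W : X.affineOpens, ∃ a : Γ(Y, V₀), a ∉ η'.asIdeal ∧
      (W ∈ s → ∀ q : PrimeSpectrum Γ(Y, V₀), a ∉ q.asIdeal → FND f Z W.1 (hV₀.fromSpec q)) := by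
    intro W
    by_cases hW : W ∈ s
    · obtain ⟨a, ha, h1⟩ := fnd_chart f hV₀ W.2 (hle W hW) η' hη' Z hZ
        ((hη'η ▸ h).mono (Set.subset_univ _))
      exact ⟨a, ha, fun _ => h1⟩
    · exact ⟨1, fun h1 => η'.2.ne_top ((Ideal.eq_top_iff_one _).mpr h1), fun h1 => absurd h1 hW⟩
  choose a ha hG using hchart
  have hprod : ∏ W ∈ hs.toFinset, a W ∉ η'.asIdeal := by
    intro hmem
    obtain ⟨W, -, hW⟩ := (η'.2.prod_mem_iff).mp hmem
    exact ha W hW
  refine ⟨hV₀.fromSpec ''ᵁ (PrimeSpectrum.basicOpen (∏ W ∈ hs.toFinset, a W)),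
    ⟨hV₀.fromSpec η', η', hprod, rfl⟩, ?_⟩
  rintro y ⟨q, hq, rfl⟩
  have hq' : ∏ W ∈ hs.toFinset, a W ∉ q.asIdeal := hq
  refine FND_univ_of_cover (fun W : s => ((W.1.1 : X.Opens) : Set X)) (fun W => W.1.1.2) ?_ ?_
  · intro x hx
    have hx' : x ∈ ((f ⁻¹ᵁ V₀ : X.Opens) : Set X) := by
      change f x ∈ (V₀ : Set Y)
      rw [show f x = hV₀.fromSpec q from hx, ← hV₀.range_fromSpec]
      exact ⟨q, rfl⟩
    rw [hcov] at hx'
    obtain ⟨W, hW, hxW⟩ := Set.mem_iUnion₂.mp hx'
    exact Set.mem_iUnion.mpr ⟨⟨W, hW⟩, hxW⟩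
  · rintro ⟨W, hW⟩
    refine hG W hW q (fun hmem => hq' ?_)
    exact Ideal.prod_mem q.asIdeal (hs.mem_toFinset.mpr hW) hmem

end scheme

end Groth.Agent.R2.H69.FibreND
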