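import Mathlib
import Groth.Agent.R2.H41GenFreeRed
import Groth.Agent.R2.H69GenFlatRed
import Groth.Agent.R2.H69FibreND

/-!
# Scheme theoretically dense fibres near the generic point (helper69)

* algebra over a domain: `exists_mem_nzd` (an ideal which is "scheme theoretically dense" on the
  generic fibre ring contains a nonzerodivisor there), `nzd_tensor_near_generic` (a
  nonzerodivisor on the generic fibre ring stays one on the fibre rings `κ ⊗[A] B` near the generic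
  point);
* general base: `exists_nzd_fibres_near_generic`;
* schemes: the chart isomorphism `Γ(X_y, ι⁻¹ W) ≃ Γ(X, W) ⊗ κ(y)` and the theorem
  `schemeTheoreticallyDense_fibres_near_generic` (= S1300).
-/

set_option autoImplicit false
set_option linter.unusedSectionVars false
set_option linter.style.haveILetI false
universe u
open TensorProduct

namespace Groth.Agent.R2.H69.FibreSTD

open Groth.Agent.R2.H69.FibreND

section domain

variable {A B : Type u} [CommRing A] [IsDomain A] [CommRing B] [Algebra A B]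
  [Algebra.FiniteType A B]
variable (C : Type u) [CommRing C] [Algebra B C]
  [hloc : IsLocalization (Algebra.algebraMapSubmonoid B (nonZeroDivisors A)) C]

include hloc in
/-- If no nonzero element of the (Noetherian) generic fibre ring `C` is killed by powers of all
elements of `I`, then `I` contains an element which is a nonzerodivisor on `C`. -/
theorem exists_mem_nzd [IsNoetherianRing C] (I : Ideal B)
    (H : ∀ c : C, (∀ h ∈ I, ∃ n : ℕ, (algebraMap B C h) ^ n * c = 0) → c = 0) :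
    ∃ h ∈ I, algebraMap B C h ∈ nonZeroDivisors C := by
  set M := Algebra.algebraMapSubmonoid B (nonZeroDivisors A) with hM
  by_contra hcon
  push Not at hcon
  have hunit : ∀ s : M, algebraMap B C s ∈ nonZeroDivisors C := fun s =>
    (IsLocalization.map_units C s).mem_nonZeroDivisors
  have hdisj : Disjoint ((I.map (algebraMap B C) : Ideal C) : Set C) (nonZeroDivisors C) := by
    rw [Set.disjoint_left]
    intro j hj hjn
    obtain ⟨⟨a, s⟩, hjs⟩ := (IsLocalization.mem_map_algebraMap_iff M C).mp hj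
    exact hcon a a.2 (hjs ▸ mul_mem hjn (hunit s))
  obtain ⟨-, c, hcann, hc0⟩ := SetLike.lt_iff_le_and_exists.mp
    (Ideal.bot_lt_annihilator_of_disjoint_nonZeroDivisors hdisj)
  have hc0' : c ≠ 0 := fun h => hc0 (by rw [h]; exact Submodule.zero_mem _)
  rw [Module.mem_annihilator] at hcann
  apply hc0'
  apply H
  intro h hh
  refine ⟨1, ?_⟩
  have := hcann ⟨algebraMap B C h, Ideal.mem_map_of_mem _ hh⟩
  rw [pow_one, mul_comm]
  simpa [Subtype.ext_iff] using this

open Groth.Agent.R2.H41.GenFreeRed Groth.Agent.R2.H69.GenFlatRed in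
/-- multiplication by `h` is injective on `B_f` when `B` has a basis away from `f` and `h` is a
nonzerodivisor on the generic fibre ring. -/
lemma mulLeft_injective_away' (h : B) (hnzd : algebraMap B C h ∈ nonZeroDivisors C)
    (f : A) (hf : f ≠ 0) {ι₁ : Type*} (v₁ : ι₁ → B) (hB : IsBasisAway A f v₁) :
    Function.Injective (LinearMap.mulLeft A
      (algebraMap B (Localization.Away (algebraMap A B f)) h)) := by
  set M := Algebra.algebraMapSubmonoid B (nonZeroDivisors A) with hM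
  set Bf := Localization.Away (algebraMap A B f) with hBf
  rw [injective_iff_map_eq_zero]
  intro x hx
  obtain ⟨⟨y, s⟩, rfl⟩ := IsLocalization.mk'_surjective (Submonoid.powers (algebraMap A B f)) x
  have h1 : algebraMap B Bf (h * y) = 0 := by
    have h2 : algebraMap B Bf h * IsLocalization.mk' Bf y s = 0 := hx
    have h3 : algebraMap B Bf y = IsLocalization.mk' Bf y s * algebraMap B Bf s :=
      (IsLocalization.mk'_spec Bf y s).symm
    rw [map_mul, h3, ← mul_assoc, h2, zero_mul]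
  obtain ⟨⟨_, k, rfl⟩, hk⟩ :=
    (IsLocalization.map_eq_zero_iff (Submonoid.powers (algebraMap A B f)) Bf (h * y)).mp h1
  have h4 : algebraMap B C ((algebraMap A B f) ^ k * y) = 0 := by
    refine (mem_nonZeroDivisors_iff_right.mp hnzd) _ ?_
    rw [← map_mul]
    have : (algebraMap A B f) ^ k * y * h = (algebraMap A B f) ^ k * (h * y) := by ring
    rw [this, hk, map_zero]
  obtain ⟨⟨_, t, ht, rfl⟩, htk⟩ :=
    (IsLocalization.map_eq_zero_iff M C ((algebraMap A B f) ^ k * y)).mp h4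
  have ht0 : t ≠ 0 := nonZeroDivisors.ne_zero ht
  obtain ⟨N, hN⟩ := hB.2 y
  obtain ⟨l, hl⟩ := (Finsupp.mem_span_range_iff_exists_finsupp).mp hN
  have hl' : Finsupp.linearCombination A v₁ l = f ^ N • y := hl
  have h5 : Finsupp.linearCombination A v₁ ((t * f ^ k) • l) = 0 := by
    rw [map_smul, hl', smul_smul, Algebra.smul_def, map_mul, map_mul, map_pow, map_pow]
    have : algebraMap A B t * (algebraMap A B f) ^ k * (algebraMap A B f) ^ N * y =
        (algebraMap A B f) ^ N * (algebraMap A B t * ((algebraMap A B f) ^ k * y)) := by ring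
    rw [this, htk, mul_zero]
  have hl0 : l = 0 := by
    ext i
    obtain ⟨j, hj⟩ := hB.1 _ h5 i
    simp only [Finsupp.smul_apply, smul_eq_mul, Finsupp.coe_zero, Pi.zero_apply] at hj ⊢
    rcases mul_eq_zero.mp hj with h6 | h6
    · exact absurd (pow_eq_zero_iff (M₀ := A) (n := j) (by
        intro hj0; subst hj0; simp at h6) |>.mp h6) hf
    · rcases mul_eq_zero.mp h6 with h7 | h7
      · rcases mul_eq_zero.mp h7 with h8 | h8
        · exact absurd h8 ht0
        · exact absurd (pow_eq_zero_iff (M₀ := A) (n := k) (by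
            intro hk0; subst hk0; simp at h8) |>.mp h8) hf
      · exact h7
  have h6 : (algebraMap A B f) ^ N * y = 0 := by
    rw [← map_pow, ← Algebra.smul_def, ← hl', hl0, map_zero]
  rw [IsLocalization.mk'_eq_zero_iff]
  exact ⟨⟨_, N, rfl⟩, h6⟩

/-- If `f` is invertible in `κ` then `B ⊗ κ → B_f ⊗ κ` is injective. -/
lemma tensor_away_injective (f : A) (κ : Type u) [CommRing κ] [Algebra A κ]
    (hf : IsUnit (algebraMap A κ f)) :
    Function.Injective (Algebra.TensorProduct.map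
      (IsScalarTower.toAlgHom A B (Localization.Away (algebraMap A B f))) (AlgHom.id A κ)) := by
  set Bf := Localization.Away (algebraMap A B f) with hBf
  haveI := Groth.Agent.R2.H69.GenFlatRed.isLocalizedModule_of_away (R := A) (B := B) (B' := Bf) f
  let φB : B →ₗ[A] Bf := (IsScalarTower.toAlgHom A B Bf).toLinearMap
  have hrT : ∀ z : B ⊗[A] κ, Algebra.TensorProduct.map (IsScalarTower.toAlgHom A B Bf)
      (AlgHom.id A κ) z = TensorProduct.AlgebraTensorModule.rTensor A κ φB z := by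
    intro z
    induction z using TensorProduct.induction_on with
    | zero => simp
    | tmul b k => rfl
    | add x y hx hy => rw [map_add, map_add, hx, hy]
  rw [injective_iff_map_eq_zero]
  intro z hz
  rw [hrT] at hz
  obtain ⟨⟨_, n, rfl⟩, hn⟩ := (IsLocalizedModule.eq_zero_iff (Submonoid.powers f)
    (TensorProduct.AlgebraTensorModule.rTensor A κ φB)).mp hz
  have hn' : (f ^ n) • z = 0 := hn
  have hu : IsUnit (algebraMap A (B ⊗[A] κ) (f ^ n)) := by
    have h1 : algebraMap A (B ⊗[A] κ) (f ^ n) =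
        (Algebra.TensorProduct.includeRight : κ →ₐ[A] B ⊗[A] κ) (algebraMap A κ (f ^ n)) :=
      ((Algebra.TensorProduct.includeRight : κ →ₐ[A] B ⊗[A] κ).commutes (f ^ n)).symm
    rw [h1, map_pow]
    exact (hf.pow n).map _
  rw [Algebra.smul_def] at hn'
  exact (hu.mul_right_eq_zero).mp hn'

include hloc in
open Groth.Agent.R2.H41.GenFreeRed Groth.Agent.R2.H69.GenFlatRed in
/-- `A` a domain, `B` an `A`-algebra of finite type, `h : B` a nonzerodivisor on the generic
fibre ring `C`: then `1 ⊗ h` is a nonzerodivisor on `κ ⊗[A] B` for every `A`-algebra `κ` in which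
a certain nonzero `f : A` is invertible. -/
theorem nzd_tensor_near_generic (h : B) (hnzd : algebraMap B C h ∈ nonZeroDivisors C) :
    ∃ f : A, f ≠ 0 ∧ ∀ (κ : Type u) [CommRing κ] [Algebra A κ], IsUnit (algebraMap A κ f) →
      (1 : κ) ⊗ₜ[A] h ∈ nonZeroDivisors (κ ⊗[A] B) := by
  obtain ⟨f, hf0, -, ⟨ι₁, v₁, hB⟩, ⟨ι₂, v₂, hM⟩, -, -⟩ :=
    exists_basisAway A B (B ⧸ Ideal.span {h}) 1 one_ne_zero
  refine ⟨f, hf0, fun κ _ _ hfκ => ?_⟩
  set Bf := Localization.Away (algebraMap A B f) with hBf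
  set P := LocalizedModule (Submonoid.powers f) (B ⧸ Ideal.span {h}) with hP
  have hinj := mulLeft_injective_away' C h hnzd f hf0 v₁ hB
  haveI : Module.Free (Localization.Away f) P :=
    hM.free (Localization.Away f) (LocalizedModule.mkLinearMap (Submonoid.powers f) _)
  haveI : Module.Flat A P := Module.Flat.trans A (Localization.Away f) P
  haveI := isLocalizedModule_of_away (R := A) (B := B) (B' := Bf) f
  let φB : B →ₗ[A] Bf := (IsScalarTower.toAlgHom A B Bf).toLinearMap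
  let qmap : B →ₗ[A] B ⧸ Ideal.span {h} := (Ideal.Quotient.mkₐ A (Ideal.span {h})).toLinearMap
  let θ : Bf →ₗ[A] P := IsLocalizedModule.map (Submonoid.powers f) φB
    (LocalizedModule.mkLinearMap (Submonoid.powers f) _) qmap
  have hθ : Function.Surjective θ :=
    IsLocalizedModule.map_surjective _ _ _ _ (Ideal.Quotient.mkₐ_surjective A _)
  have hex0 : Function.Exact (LinearMap.mulLeft A h) qmap := by
    intro y
    change Ideal.Quotient.mk _ y = 0 ↔ _
    rw [Ideal.Quotient.eq_zero_iff_mem, Ideal.mem_span_singleton']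
    constructor
    · rintro ⟨a, rfl⟩
      exact ⟨a, mul_comm _ _⟩
    · rintro ⟨a, rfl⟩
      exact ⟨a, mul_comm _ _⟩
  have hmap : IsLocalizedModule.map (Submonoid.powers f) φB φB (LinearMap.mulLeft A h) =
      LinearMap.mulLeft A (algebraMap B Bf h) := by
    apply IsLocalizedModule.linearMap_ext (Submonoid.powers f) φB φB
    rw [IsLocalizedModule.map_comp]
    ext y
    change algebraMap B Bf (h * y) = algebraMap B Bf h * algebraMap B Bf y
    rw [map_mul]
  have hex : Function.Exact (LinearMap.mulLeft A (algebraMap B Bf h)) θ := by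
    rw [← hmap]
    exact IsLocalizedModule.map_exact (Submonoid.powers f) φB φB
      (LocalizedModule.mkLinearMap (Submonoid.powers f) _) _ _ hex0
  have hnz := nzd_tensor_of_exact_flat (algebraMap B Bf h) θ hθ hinj hex κ
  -- transfer to `B ⊗ κ`
  have h1 : algebraMap B (B ⊗[A] κ) h ∈ nonZeroDivisors (B ⊗[A] κ) := by
    refine mem_nonZeroDivisors_of_injective (f := (Algebra.TensorProduct.map
      (IsScalarTower.toAlgHom A B Bf) (AlgHom.id A κ))) (tensor_away_injective f κ hfκ) ?_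
    exact hnz
  -- and to `κ ⊗ B`
  refine mem_nonZeroDivisors_of_injective (f := (Algebra.TensorProduct.comm A κ B))
    (Algebra.TensorProduct.comm A κ B).injective ?_
  exact h1

end domain

section general

variable {A B K : Type u} [CommRing A] [CommRing B] [Algebra A B] [Algebra.FiniteType A B]
  [Field K] [Algebra A K]

/-- `A` any ring, `K` a field over `A` which is the fraction field of the image of `A`, `B` an
`A`-algebra of finite type and `I` an ideal of `B` such that no nonzero element of the generic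
fibre ring `K ⊗[A] B` is killed by powers of all elements of `I`. Then some `h ∈ I` is a
nonzerodivisor on all fibre rings `κ ⊗[A] B` near the generic point. -/
theorem exists_nzd_fibres_near_generic
    (hK : ∀ x : K, ∃ a s : A, x = algebraMap A K a / algebraMap A K s) (I : Ideal B)
    (hI : ∀ c : K ⊗[A] B, (∀ h ∈ I, ∃ n : ℕ, ((1 : K) ⊗ₜ[A] h) ^ n * c = 0) → c = 0) :
    ∃ a₀ : A, algebraMap A K a₀ ≠ 0 ∧ ∃ h ∈ I, ∀ (κ : Type u) [Field κ] [Algebra A κ],
      (∀ a, algebraMap A K a = 0 → algebraMap A κ a = 0) → algebraMap A κ a₀ ≠ 0 →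
        (1 : κ) ⊗ₜ[A] h ∈ nonZeroDivisors (κ ⊗[A] B) := by
  set p := RingHom.ker (algebraMap A K) with hp
  haveI : p.IsPrime := RingHom.ker_isPrime _
  letI algA'K : Algebra (A ⧸ p) K := (RingHom.kerLift (algebraMap A K)).toAlgebra
  haveI : IsScalarTower A (A ⧸ p) K := IsScalarTower.of_algebraMap_eq (fun x => rfl)
  have hinj : Function.Injective (algebraMap (A ⧸ p) K) := RingHom.kerLift_injective _
  haveI : FaithfulSMul (A ⧸ p) K := (faithfulSMul_iff_algebraMap_injective _ _).mpr hinj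
  haveI : IsFractionRing (A ⧸ p) K := IsFractionRing.of_field (A ⧸ p) K (fun z => by
    obtain ⟨a, s, rfl⟩ := hK z
    exact ⟨Ideal.Quotient.mk p a, Ideal.Quotient.mk p s, rfl⟩)
  letI algB'C' : Algebra ((A ⧸ p) ⊗[A] B) (K ⊗[A ⧸ p] ((A ⧸ p) ⊗[A] B)) :=
    Algebra.TensorProduct.rightAlgebra
  haveI : IsLocalization (Algebra.algebraMapSubmonoid ((A ⧸ p) ⊗[A] B) (nonZeroDivisors (A ⧸ p)))
      (K ⊗[A ⧸ p] ((A ⧸ p) ⊗[A] B)) := IsLocalization.tensorRight K (nonZeroDivisors (A ⧸ p))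
  haveI : IsNoetherianRing (K ⊗[A ⧸ p] ((A ⧸ p) ⊗[A] B)) := by
    have h0 := Algebra.FiniteType.isNoetherianRing K (K ⊗[A ⧸ p] ((A ⧸ p) ⊗[A] B))
    exact h0
  let Φ := Algebra.TensorProduct.cancelBaseChange A (A ⧸ p) K K B
  let inc : B →ₐ[A] (A ⧸ p) ⊗[A] B := Algebra.TensorProduct.includeRight
  have hsurj : Function.Surjective inc := by
    intro z
    induction z using TensorProduct.induction_on with
    | zero => exact ⟨0, map_zero _⟩
    | tmul a' b =>
      obtain ⟨a, rfl⟩ := Ideal.Quotient.mk_surjective a'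
      refine ⟨a • b, ?_⟩
      change (1 : A ⧸ p) ⊗ₜ[A] (a • b) = (Ideal.Quotient.mk p a) ⊗ₜ[A] b
      rw [← TensorProduct.smul_tmul]
      congr 1
      rw [Algebra.smul_def, mul_one]
      rfl
    | add x y hx hy =>
      obtain ⟨x', rfl⟩ := hx
      obtain ⟨y', rfl⟩ := hy
      exact ⟨x' + y', map_add _ _ _⟩
  let am := @algebraMap ((A ⧸ p) ⊗[A] B) (K ⊗[A ⧸ p] ((A ⧸ p) ⊗[A] B)) _ _ algB'C'
  have hΦ : ∀ h : B, Φ (am (inc h)) = (1 : K) ⊗ₜ[A] h := by
    intro h
    change Φ ((1 : K) ⊗ₜ[A ⧸ p] ((1 : A ⧸ p) ⊗ₜ[A] h)) = _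
    rw [Algebra.TensorProduct.cancelBaseChange_tmul, one_smul]
  have H' : ∀ c : K ⊗[A ⧸ p] ((A ⧸ p) ⊗[A] B), (∀ h' ∈ I.map inc, ∃ n : ℕ,
      (am h') ^ n * c = 0) → c = 0 := by
    intro c hc
    apply Φ.injective
    rw [map_zero]
    apply hI
    intro h hh
    obtain ⟨n, hn⟩ := hc (inc h) (Ideal.mem_map_of_mem _ hh)
    refine ⟨n, ?_⟩
    have := congrArg Φ hn
    rw [map_mul, map_pow, map_zero, hΦ] at this
    exact this
  obtain ⟨h', hh', hnzd⟩ := exists_mem_nzd (A := A ⧸ p) (K ⊗[A ⧸ p] ((A ⧸ p) ⊗[A] B)) (I.map inc) H'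
  obtain ⟨h, hh, rfl⟩ := (Ideal.mem_map_iff_of_surjective inc hsurj).mp hh'
  obtain ⟨f', hf'0, hf'⟩ := nzd_tensor_near_generic (A := A ⧸ p)
    (K ⊗[A ⧸ p] ((A ⧸ p) ⊗[A] B)) (inc h) hnzd
  obtain ⟨a₀, rfl⟩ := Ideal.Quotient.mk_surjective f'
  refine ⟨a₀, ?_, h, hh, ?_⟩
  · intro h0
    exact hf'0 (Ideal.Quotient.eq_zero_iff_mem.mpr h0)
  · intro κ _ _ hκ ha₀
    letI : Algebra (A ⧸ p) κ :=
      (Ideal.Quotient.lift p (algebraMap A κ) (fun a ha => hκ a ha)).toAlgebra
    haveI : IsScalarTower A (A ⧸ p) κ := IsScalarTower.of_algebraMap_eq (fun x => rfl)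
    have hu : IsUnit (algebraMap (A ⧸ p) κ (Ideal.Quotient.mk p a₀)) := by
      have : algebraMap (A ⧸ p) κ (Ideal.Quotient.mk p a₀) = algebraMap A κ a₀ := rfl
      rw [this]
      exact ha₀.isUnit
    have h1 := hf' κ hu
    let Φκ := Algebra.TensorProduct.cancelBaseChange A (A ⧸ p) κ κ B
    refine mem_nonZeroDivisors_of_injective (f := Φκ.symm) Φκ.symm.injective ?_
    rw [Algebra.TensorProduct.cancelBaseChange_symm_tmul]
    exact h1

end general

section scheme

open AlgebraicGeometry CategoryTheory Limits TopologicalSpace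

/-! ### open immersions -/

section opens

variable {F : Scheme.{u}} (O : F.Opens)

lemma le_image_preimage {V V' : F.Opens} (h1 : V' ≤ O) (h2 : V' ≤ V) :
    V' ≤ O.ι ''ᵁ O.ι ⁻¹ᵁ V := by
  intro x hx
  exact ⟨⟨x, h1 hx⟩, h2 hx, rfl⟩

lemma image_preimage_le (V : F.Opens) : O.ι ''ᵁ O.ι ⁻¹ᵁ V ≤ V := by
  rintro _ ⟨z, hz, rfl⟩
  exact hz

lemma image_preimage_le' (V : F.Opens) : O.ι ''ᵁ O.ι ⁻¹ᵁ V ≤ O := by
  rintro _ ⟨z, -, rfl⟩
  exact z.2

/-- conclusion side: a nonzerodivisor whose basic open lies in `O` forces the kernel of `O.ι` to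
vanish on the affine open `V`. -/
theorem ker_ideal_eq_bot_of_nzd {V : F.Opens} (hV : IsAffineOpen V) (h' : Γ(F, V))
    (hnzd : h' ∈ nonZeroDivisors Γ(F, V)) (hle : F.basicOpen h' ≤ O) :
    O.ι.ker.ideal ⟨V, hV⟩ = ⊥ := by
  rw [eq_bot_iff]
  intro x hx
  have h1 : (F.presheaf.map (homOfLE (image_preimage_le O V)).op).hom x =
      (0 : Γ(F, O.ι ''ᵁ O.ι ⁻¹ᵁ V)) := O.ι.ideal_ker_le ⟨V, hV⟩ hx
  have hle' : F.basicOpen h' ≤ O.ι ''ᵁ O.ι ⁻¹ᵁ V := le_image_preimage O hle (F.basicOpen_le h')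
  have h2 : (F.presheaf.map (homOfLE (F.basicOpen_le h')).op).hom x = 0 := by
    have h3 : F.presheaf.map (homOfLE (F.basicOpen_le h')).op =
        F.presheaf.map (homOfLE (image_preimage_le O V)).op ≫
          F.presheaf.map (homOfLE hle').op := by
      rw [← F.presheaf.map_comp]; rfl
    rw [h3, CommRingCat.hom_comp, RingHom.comp_apply, h1, map_zero]
  obtain ⟨n, hn⟩ := exists_pow_mul_eq_zero_of_res_basicOpen_eq_zero_of_isAffineOpen F hV x h' h2
  have h4 : x * h' ^ n = 0 := by rw [mul_comm]; exact hn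
  exact (mem_nonZeroDivisors_iff_right.mp (pow_mem hnzd n)) x h4

/-- hypothesis side: if `O` is scheme theoretically dense, a section killed by powers of
sections whose basic opens cover `O ⊓ V` vanishes. -/
theorem eq_zero_of_forall_pow_mul_eq_zero [QuasiCompact O.ι] [IsSchemeTheoreticallyDominant O.ι]
    {V : F.Opens} (c : Γ(F, V)) (S : Set Γ(F, V))
    (hS : ∀ x ∈ O ⊓ V, ∃ h' ∈ S, x ∈ F.basicOpen h')
    (hc : ∀ h' ∈ S, ∃ n : ℕ, h' ^ n * c = 0) : c = 0 := by
  apply O.ι.app_injective V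
  rw [map_zero]
  change (F.presheaf.map (homOfLE (image_preimage_le O V)).op).hom c =
      (0 : Γ(F, O.ι ''ᵁ O.ι ⁻¹ᵁ V))
  refine F.IsSheaf.section_ext (U := Opposite.op (O.ι ''ᵁ O.ι ⁻¹ᵁ V)) fun x hx => ?_
  have hxO : x ∈ O := image_preimage_le' O V hx
  have hxV : x ∈ V := image_preimage_le O V hx
  obtain ⟨h', hh'S, hxh'⟩ := hS x ⟨hxO, hxV⟩
  obtain ⟨n, hn⟩ := hc h' hh'S
  have hle : F.basicOpen h' ⊓ O ≤ O.ι ''ᵁ O.ι ⁻¹ᵁ V :=
    le_image_preimage O inf_le_right (inf_le_left.trans (F.basicOpen_le h'))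
  refine ⟨F.basicOpen h' ⊓ O, hle, ⟨hxh', hxO⟩, ?_⟩
  have hleV : F.basicOpen h' ⊓ O ≤ V := inf_le_left.trans (F.basicOpen_le h')
  have h3 : F.presheaf.map (homOfLE hleV).op =
      F.presheaf.map (homOfLE (image_preimage_le O V)).op ≫
        F.presheaf.map (homOfLE hle).op := by
    rw [← F.presheaf.map_comp]; rfl
  have h3' : F.presheaf.map (homOfLE hleV).op =
      F.presheaf.map (homOfLE (F.basicOpen_le h')).op ≫
        F.presheaf.map (homOfLE (inf_le_left : F.basicOpen h' ⊓ O ≤ F.basicOpen h')).op := by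
    rw [← F.presheaf.map_comp]; rfl
  change (F.presheaf.map (homOfLE hle).op).hom
    ((F.presheaf.map (homOfLE (image_preimage_le O V)).op).hom c) =
      (F.presheaf.map (homOfLE hle).op).hom 0
  rw [map_zero, ← RingHom.comp_apply, ← CommRingCat.hom_comp, ← h3]
  have hu : IsUnit ((F.presheaf.map (homOfLE hleV).op).hom h') := by
    rw [h3', CommRingCat.hom_comp, RingHom.comp_apply]
    exact (RingedSpace.isUnit_res_basicOpen F.toRingedSpace h').map _
  have h5 := congrArg (F.presheaf.map (homOfLE hleV).op).hom hn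
  rw [map_mul, map_pow, map_zero] at h5
  exact ((hu.pow n).mul_right_eq_zero).mp h5

end opens

/-! ### charts of the fibres -/

section chart

variable {X Y : Scheme.{u}} (f : X ⟶ Y) (y : Y)

lemma isPullback_fiber : IsPullback (f.fiberι y) (f.fiberToSpecResidueField y) f
    (Y.fromSpecResidueField y) := IsPullback.of_hasPullback _ _

lemma top_le_preimage {V₀ : Y.Opens} (hy : y ∈ V₀) :
    (⊤ : (Spec (Y.residueField y)).Opens) ≤ (Y.fromSpecResidueField y) ⁻¹ᵁ V₀ := by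
  intro s _
  change (Y.fromSpecResidueField y) s ∈ V₀
  rw [Scheme.fromSpecResidueField_apply]
  exact hy

lemma preimage_eq {W : X.Opens} :
    (f.fiberι y) ⁻¹ᵁ W = (f.fiberι y) ⁻¹ᵁ W ⊓ (f.fiberToSpecResidueField y) ⁻¹ᵁ ⊤ := by
  simp

theorem isPushout_chart {V₀ : Y.Opens} (hV₀ : IsAffineOpen V₀) (hy : y ∈ V₀) {W : X.Opens}
    (hW : IsAffineOpen W) (e : W ≤ f ⁻¹ᵁ V₀) :
    IsPushout (f.appLE V₀ W e) ((Y.fromSpecResidueField y).appLE V₀ ⊤ (top_le_preimage y hy))
      ((f.fiberι y).appLE W ((f.fiberι y) ⁻¹ᵁ W) le_rfl)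
      ((f.fiberToSpecResidueField y).appLE ⊤ ((f.fiberι y) ⁻¹ᵁ W) (by simp)) := by
  have := isIso_pushoutSection_of_isAffineOpen (isPullback_fiber f y) (top_le_preimage y hy) e
    (preimage_eq f y (W := W)) hV₀ (isAffineOpen_top _) hW
  exact (isIso_pushoutSection_iff (isPullback_fiber f y) (top_le_preimage y hy) e
    (preimage_eq f y (W := W))).mp this

theorem isAffineOpen_chart {V₀ : Y.Opens} (hV₀ : IsAffineOpen V₀) (hy : y ∈ V₀) {W : X.Opens}
    (hW : IsAffineOpen W) (e : W ≤ f ⁻¹ᵁ V₀) : IsAffineOpen ((f.fiberι y) ⁻¹ᵁ W) := by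
  have : IsAffine V₀ := hV₀
  have : IsAffine W := hW
  have : IsAffine (⊤ : (Spec (Y.residueField y)).Opens) := isAffineOpen_top _
  exact .of_isIso (Scheme.Hom.isPullback_resLE (isPullback_fiber f y) (top_le_preimage y hy) e
    (preimage_eq f y (W := W))).isoPullback.hom

theorem fromSpecResidueField_appLE {V₀ : Y.Opens} (hy : y ∈ V₀) :
    (Y.fromSpecResidueField y).appLE V₀ ⊤ (top_le_preimage y hy) =
      Y.evaluation V₀ y hy ≫ (Scheme.ΓSpecIso (Y.residueField y)).inv := by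
  have key : ∀ (g : Spec (Y.residueField y) ⟶ Y)
      (hg : g = Spec.map (Y.residue y) ≫ Y.fromSpecStalk y) (e : ⊤ ≤ g ⁻¹ᵁ V₀),
      g.appLE V₀ ⊤ e = Y.evaluation V₀ y hy ≫ (Scheme.ΓSpecIso (Y.residueField y)).inv := by
    intro g hg e
    subst hg
    rw [Scheme.Hom.comp_appLE, Scheme.fromSpecStalk_app hy, ← Scheme.germ_residue]
    simp only [Category.assoc]
    congr 1
    rw [Scheme.ΓSpecIso_inv_naturality]
    congr 1
  exact key _ rfl _

/-- the chart pushout square with the residue field itself in the corner -/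
theorem isPushout_chart' {V₀ : Y.Opens} (hV₀ : IsAffineOpen V₀) (hy : y ∈ V₀) {W : X.Opens}
    (hW : IsAffineOpen W) (e : W ≤ f ⁻¹ᵁ V₀) :
    IsPushout (Y.evaluation V₀ y hy) (f.appLE V₀ W e)
      ((Scheme.ΓSpecIso (Y.residueField y)).inv ≫
        (f.fiberToSpecResidueField y).appLE ⊤ ((f.fiberι y) ⁻¹ᵁ W) (by simp))
      ((f.fiberι y).appLE W ((f.fiberι y) ⁻¹ᵁ W) le_rfl) := by
  refine ((isPushout_chart f y hV₀ hy hW e).of_iso (Iso.refl _) (Iso.refl _)
    (Scheme.ΓSpecIso (Y.residueField y)) (Iso.refl _) ?_ ?_ ?_ ?_).flip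
  · simp
  · rw [fromSpecResidueField_appLE y hy]; simp
  · simp
  · simp

/-- A pushout square of commutative rings identifies the pushout with the tensor product. -/
theorem exists_equiv_of_isPushout {A K B T : Type u} [CommRing A] [CommRing K] [CommRing B]
    [CommRing T] [Algebra A K] [Algebra A B] (inl : K →+* T) (inr : B →+* T)
    (h : IsPushout (CommRingCat.ofHom (algebraMap A K)) (CommRingCat.ofHom (algebraMap A B))
      (CommRingCat.ofHom inl) (CommRingCat.ofHom inr)) :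
    ∃ e : K ⊗[A] B ≃+* T, ∀ b : B, e ((1 : K) ⊗ₜ[A] b) = inr b := by
  let i := (CommRingCat.isPushout_tensorProduct A K B).isoIsPushout _ _ h
  refine ⟨i.commRingCatIsoToRingEquiv, fun b => ?_⟩
  have h1 := (CommRingCat.isPushout_tensorProduct A K B).inr_isoIsPushout_hom _ _ h
  have h2 := congrArg (fun φ => φ.hom b) h1
  exact h2

/-- the ring of the chart `ι⁻¹ W` of the fibre over `y` is `κ(y) ⊗ Γ(X, W)`. -/
theorem exists_chart_equiv {V₀ : Y.Opens} (hV₀ : IsAffineOpen V₀) (hy : y ∈ V₀) {W : X.Opens}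
    (hW : IsAffineOpen W) (e : W ≤ f ⁻¹ᵁ V₀) :
    letI : Algebra Γ(Y, V₀) Γ(X, W) := (f.appLE V₀ W e).hom.toAlgebra
    letI : Algebra Γ(Y, V₀) (Y.residueField y) := (Y.evaluation V₀ y hy).hom.toAlgebra
    ∃ ε : (Y.residueField y) ⊗[Γ(Y, V₀)] Γ(X, W) ≃+* Γ(f.fiber y, (f.fiberι y) ⁻¹ᵁ W),
      ∀ b : Γ(X, W), ε (1 ⊗ₜ b) = ((f.fiberι y).app W).hom b := by
  letI : Algebra Γ(Y, V₀) Γ(X, W) := (f.appLE V₀ W e).hom.toAlgebra
  letI : Algebra Γ(Y, V₀) (Y.residueField y) := (Y.evaluation V₀ y hy).hom.toAlgebra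
  obtain ⟨ε, hε⟩ := exists_equiv_of_isPushout (A := Γ(Y, V₀)) (K := Y.residueField y)
    (B := Γ(X, W)) (T := Γ(f.fiber y, (f.fiberι y) ⁻¹ᵁ W))
    ((Scheme.ΓSpecIso (Y.residueField y)).inv ≫
        (f.fiberToSpecResidueField y).appLE ⊤ ((f.fiberι y) ⁻¹ᵁ W) (by simp)).hom
    ((f.fiberι y).appLE W ((f.fiberι y) ⁻¹ᵁ W) le_rfl).hom (isPushout_chart' f y hV₀ hy hW e)
  refine ⟨ε, fun b => ?_⟩
  rw [hε b, Scheme.Hom.app_eq_appLE]

theorem exists_eq_evaluation_div {V₀ : Y.Opens} (hV₀ : IsAffineOpen V₀) (hy : y ∈ V₀)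
    (z : Y.residueField y) :
    ∃ a s : Γ(Y, V₀), z = (Y.evaluation V₀ y hy).hom a / (Y.evaluation V₀ y hy).hom s := by
  obtain ⟨σ, rfl⟩ := Y.residue_surjective y z
  letI := Y.presheaf.algebra_section_stalk (⟨y, hy⟩ : V₀)
  haveI := hV₀.isLocalization_stalk ⟨y, hy⟩
  obtain ⟨⟨a, s⟩, has⟩ := IsLocalization.surj (hV₀.primeIdealOf ⟨y, hy⟩).asIdeal.primeCompl σ
  have hs : IsUnit (algebraMap Γ(Y, V₀) (Y.presheaf.stalk y) s) :=
    IsLocalization.map_units (Y.presheaf.stalk y) s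
  refine ⟨a, s, ?_⟩
  have h1 : (Y.evaluation V₀ y hy).hom (s : Γ(Y, V₀)) =
      (Y.residue y).hom (algebraMap Γ(Y, V₀) (Y.presheaf.stalk y) s) := rfl
  have h2 : (Y.evaluation V₀ y hy).hom a =
      (Y.residue y).hom (algebraMap Γ(Y, V₀) (Y.presheaf.stalk y) a) := rfl
  have hs' : (Y.evaluation V₀ y hy).hom (s : Γ(Y, V₀)) ≠ 0 := by
    rw [h1]
    exact (hs.map (Y.residue y).hom).ne_zero
  rw [eq_div_iff hs', h1, h2, ← map_mul, has]

end chart

/-! ### the theorem -/

section main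

variable {X Y : Scheme.{u}}

/-- the ideal of sections of `W` whose basic open lies in `U`. -/
def basicOpenIdeal (U W : X.Opens) : Ideal Γ(X, W) where
  carrier := {h | X.basicOpen h ≤ U}
  add_mem' := fun ha hb => (X.basicOpen_add_le _ _).trans (sup_le ha hb)
  zero_mem' := by
    change X.basicOpen (0 : Γ(X, W)) ≤ U
    rw [Scheme.basicOpen_zero]
    exact bot_le
  smul_mem' := fun c x hx => by
    change X.basicOpen (c * x) ≤ U
    rw [Scheme.basicOpen_mul]
    exact inf_le_right.trans hx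

lemma mem_basicOpenIdeal {U W : X.Opens} {h : Γ(X, W)} :
    h ∈ basicOpenIdeal U W ↔ X.basicOpen h ≤ U := Iff.rfl

set_option backward.isDefEq.respectTransparency.types false in
instance isLocallyNoetherian_fiber (f : X ⟶ Y) [LocallyOfFiniteType f] (y : Y) :
    IsLocallyNoetherian (f.fiber y) :=
  have : LocallyOfFiniteType (f.fiberToSpecResidueField y) :=
    MorphismProperty.pullback_snd _ _ inferInstance
  LocallyOfFiniteType.isLocallyNoetherian (f.fiberToSpecResidueField y)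

/-- the chart version of the theorem. -/
theorem chart_nzd (f : X ⟶ Y) [IrreducibleSpace ↑Y] [LocallyOfFiniteType f] (U : X.Opens)
    (h : IsSchemeTheoreticallyDominant (f.fiberι (genericPoint ↑Y) ⁻¹ᵁ U).ι)
    {V₀ : Y.Opens} (hV₀ : IsAffineOpen V₀) (hη : genericPoint Y ∈ V₀) {W : X.Opens}
    (hW : IsAffineOpen W) (e : W ≤ f ⁻¹ᵁ V₀) :
    ∃ a₀ : Γ(Y, V₀), (Y.evaluation V₀ (genericPoint Y) hη).hom a₀ ≠ 0 ∧
      ∃ hh : Γ(X, W), X.basicOpen hh ≤ U ∧
        ∀ (y : Y) (hy : y ∈ V₀), (Y.evaluation V₀ y hy).hom a₀ ≠ 0 →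
          ((f.fiberι y).app W).hom hh ∈ nonZeroDivisors Γ(f.fiber y, f.fiberι y ⁻¹ᵁ W) := by
  set η := genericPoint Y with hηdef
  letI algAB : Algebra Γ(Y, V₀) Γ(X, W) := (f.appLE V₀ W e).hom.toAlgebra
  haveI : Algebra.FiniteType Γ(Y, V₀) Γ(X, W) := f.finiteType_appLE hV₀ hW e
  letI algAK : Algebra Γ(Y, V₀) (Y.residueField η) := (Y.evaluation V₀ η hη).hom.toAlgebra
  obtain ⟨ε, hε⟩ := exists_chart_equiv f η hV₀ hη hW e
  have hK : ∀ x : Y.residueField η, ∃ a s : Γ(Y, V₀),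
      x = algebraMap Γ(Y, V₀) (Y.residueField η) a / algebraMap Γ(Y, V₀) (Y.residueField η) s :=
    fun x => exists_eq_evaluation_div η hV₀ hη x
  have hI : ∀ c : (Y.residueField η) ⊗[Γ(Y, V₀)] Γ(X, W), (∀ h ∈ basicOpenIdeal U W, ∃ n : ℕ,
      ((1 : Y.residueField η) ⊗ₜ[Γ(Y, V₀)] h) ^ n * c = 0) → c = 0 := by
    intro c hc
    apply ε.injective
    rw [map_zero]
    haveI := h
    refine eq_zero_of_forall_pow_mul_eq_zero (f.fiberι η ⁻¹ᵁ U) (V := f.fiberι η ⁻¹ᵁ W) (ε c)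
      (((f.fiberι η).app W).hom '' (basicOpenIdeal U W : Set Γ(X, W))) ?_ ?_
    · rintro x ⟨hxU, hxW⟩
      obtain ⟨g, hgU, hxg⟩ := hW.exists_basicOpen_le (V := U) ⟨f.fiberι η x, hxU⟩ hxW
      refine ⟨_, ⟨g, hgU, rfl⟩, ?_⟩
      have : x ∈ (f.fiberι η) ⁻¹ᵁ (X.basicOpen g) := hxg
      rw [Scheme.preimage_basicOpen] at this
      exact this
    · rintro _ ⟨g, hg, rfl⟩
      obtain ⟨n, hn⟩ := hc g hg
      refine ⟨n, ?_⟩
      have h1 := congrArg ε hn
      rw [map_mul, map_pow, map_zero, hε] at h1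
      exact h1
  obtain ⟨a₀, ha₀, hh, hhI, hall⟩ := exists_nzd_fibres_near_generic hK (basicOpenIdeal U W) hI
  refine ⟨a₀, ha₀, hh, hhI, fun y hy hya₀ => ?_⟩
  letI algAκ : Algebra Γ(Y, V₀) (Y.residueField y) := (Y.evaluation V₀ y hy).hom.toAlgebra
  obtain ⟨εy, hεy⟩ := exists_chart_equiv f y hV₀ hy hW e
  have hspec : ∀ a : Γ(Y, V₀), algebraMap Γ(Y, V₀) (Y.residueField η) a = 0 →
      algebraMap Γ(Y, V₀) (Y.residueField y) a = 0 := by
    intro a ha
    by_contra hne
    have h1 : y ∈ Y.basicOpen a := (Y.evaluation_ne_zero_iff_mem_basicOpen y hy a).mp hne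
    have h2 : η ∈ Y.basicOpen a :=
      (genericPoint_specializes y).mem_open (Y.basicOpen a).2 h1
    exact (Y.evaluation_ne_zero_iff_mem_basicOpen η hη a).mpr h2 ha
  have h1 := hall (Y.residueField y) hspec hya₀
  have h2 : εy ((1 : Y.residueField y) ⊗ₜ[Γ(Y, V₀)] hh) ∈
      nonZeroDivisors Γ(f.fiber y, f.fiberι y ⁻¹ᵁ W) := by
    refine mem_nonZeroDivisors_of_injective (f := εy.symm) εy.symm.injective ?_
    rw [RingEquiv.symm_apply_apply]
    exact h1
  rw [hεy] at h2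
  exact h2

/-- Let `f` be of finite type with irreducible target and `U` an open of the source whose trace
on the generic fibre is scheme theoretically dense. Then over a nonempty open of the target the
trace of `U` on every fibre is scheme theoretically dense. -/
theorem schemeTheoreticallyDense_fibres_near_generic (f : X ⟶ Y) [IrreducibleSpace ↑Y]
    [LocallyOfFiniteType f] [QuasiCompact f] (U : X.Opens)
    (h : IsSchemeTheoreticallyDominant (f.fiberι (genericPoint ↑Y) ⁻¹ᵁ U).ι) :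
    ∃ V : Y.Opens, (V : Set ↑Y).Nonempty ∧
      ∀ y ∈ V, IsSchemeTheoreticallyDominant (f.fiberι y ⁻¹ᵁ U).ι := by
  classical
  obtain ⟨V₀, hV₀, hηV₀⟩ : ∃ V₀ : Y.Opens, IsAffineOpen V₀ ∧ genericPoint Y ∈ V₀ := by
    obtain ⟨_, ⟨V, hV, rfl⟩, hη, -⟩ := Y.isBasis_affineOpens.exists_subset_of_mem_open
      (Set.mem_univ (genericPoint Y)) isOpen_univ
    exact ⟨V, hV, hη⟩
  have hcomp : IsCompact ((f ⁻¹ᵁ V₀ : X.Opens) : Set X) :=
    QuasiCompact.isCompact_preimage (f := f) _ V₀.2 hV₀.isCompact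
  obtain ⟨s, hs, hcov⟩ := (isCompact_and_isOpen_iff_finite_and_eq_biUnion_affineOpens
    (X := X) (U := ((f ⁻¹ᵁ V₀ : X.Opens) : Set X))).mp ⟨hcomp, (f ⁻¹ᵁ V₀).2⟩
  have hle : ∀ W ∈ s, W.1 ≤ f ⁻¹ᵁ V₀ := by
    intro W hW x hx
    have : x ∈ ((f ⁻¹ᵁ V₀ : X.Opens) : Set X) := by
      rw [hcov]; exact Set.mem_biUnion hW hx
    exact this
  have hchart : ∀ W : X.affineOpens, ∃ a : Γ(Y, V₀),
      (Y.evaluation V₀ (genericPoint Y) hηV₀).hom a ≠ 0 ∧
      (∀ hWs : W ∈ s, ∃ hh : Γ(X, W.1), X.basicOpen hh ≤ U ∧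
        ∀ (y : Y) (hy : y ∈ V₀), (Y.evaluation V₀ y hy).hom a ≠ 0 →
          ((f.fiberι y).app W.1).hom hh ∈
            nonZeroDivisors Γ(f.fiber y, f.fiberι y ⁻¹ᵁ W.1)) := by
    intro W
    by_cases hW : W ∈ s
    · obtain ⟨a, ha, hh, hhU, hall⟩ := chart_nzd f U h hV₀ hηV₀ W.2 (hle W hW)
      exact ⟨a, ha, fun _ => ⟨hh, hhU, hall⟩⟩
    · exact ⟨1, by rw [map_one]; exact one_ne_zero, fun h1 => absurd h1 hW⟩
  choose a ha hG using hchart
  set a₀ := ∏ W ∈ hs.toFinset, a W with ha₀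
  have hprod : (Y.evaluation V₀ (genericPoint Y) hηV₀).hom a₀ ≠ 0 := by
    rw [ha₀, map_prod]
    exact Finset.prod_ne_zero_iff.mpr fun W _ => ha W
  refine ⟨Y.basicOpen a₀, ⟨genericPoint Y,
    (Y.evaluation_ne_zero_iff_mem_basicOpen (genericPoint Y) hηV₀ a₀).mp hprod⟩, ?_⟩
  intro y hyV
  have hy : y ∈ V₀ := Y.basicOpen_le a₀ hyV
  have hya₀ : (Y.evaluation V₀ y hy).hom a₀ ≠ 0 :=
    (Y.evaluation_ne_zero_iff_mem_basicOpen y hy a₀).mpr hyV
  have hyaW : ∀ W ∈ s, (Y.evaluation V₀ y hy).hom (a W) ≠ 0 := by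
    intro W hW
    rw [ha₀, map_prod] at hya₀
    exact (Finset.prod_ne_zero_iff.mp hya₀) W (hs.mem_toFinset.mpr hW)
  rw [isSchemeTheoreticallyDominant_iff]
  refine Scheme.IdealSheafData.ext_of_iSup_eq_top (ι := s)
    (fun W => ⟨f.fiberι y ⁻¹ᵁ W.1.1, isAffineOpen_chart f y hV₀ hy W.1.2 (hle W.1 W.2)⟩) ?_ ?_
  · rw [eq_top_iff]
    intro x _
    have hx' : f.fiberι y x ∈ ((f ⁻¹ᵁ V₀ : X.Opens) : Set X) := by
      change f (f.fiberι y x) ∈ V₀
      have : f.fiberι y x ∈ f ⁻¹' {y} := by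
        rw [← f.range_fiberι y]; exact ⟨x, rfl⟩
      rw [show f (f.fiberι y x) = y from this]
      exact hy
    rw [hcov] at hx'
    obtain ⟨W, hW, hxW⟩ := Set.mem_iUnion₂.mp hx'
    exact Opens.mem_iSup.mpr ⟨⟨W, hW⟩, hxW⟩
  · rintro ⟨W, hW⟩
    obtain ⟨hh, hhU, hall⟩ := hG W hW
    rw [Scheme.IdealSheafData.ideal_bot]
    refine ker_ideal_eq_bot_of_nzd (f.fiberι y ⁻¹ᵁ U) _ (((f.fiberι y).app W.1).hom hh)
      (hall y hy (hyaW W hW)) ?_
    rw [← Scheme.preimage_basicOpen]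
    exact (Scheme.Hom.preimage_mono _ hhU)

end main

end scheme

end Groth.Agent.R2.H69.FibreSTD
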