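import Mathlib
import Groth.Agent.Lib.Helper22MilnorFlat
import Groth.Agent.Lib.Helper20PureFlat
import Groth.Agent.Lib.Helper5NilFlat
import Groth.Agent.Lib.Helper5InfFlat

/-!
# Descent of flatness along finite injective maps of Noetherian rings (helper69)

Stacks 0533: if `R → S` is a finite injective map of Noetherian rings and `S ⊗ M` is `S`-flat then
`M` is `R`-flat.  Route: Noetherian induction on contracted ideals; non-reduced case via the local
criterion for a square-zero ideal; reduced non-domain case via `M/(I₁ ∩ I₂)M`; domain case via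
Ferrand's theorem on the Milnor square `R'' = R + gS = S ×_{S/gS} R/(R ∩ gS)` and descent of
flatness along the split injection `R → R''`.
-/

set_option autoImplicit false
universe u

open TensorProduct

namespace Groth.Agent.R2.H69.FlatFinDesc

section Transport

variable {A : Type u} [CommRing A] (M : Type u) [AddCommGroup M] [Module A M]

/-- If `M/𝔞M` is flat over `A/𝔞` and `A → C` kills `𝔞`, then `C ⊗ M` is flat over `C`. -/
theorem flat_of_flat_quot (𝔞 : Ideal A) (C : Type u) [CommRing C] [Algebra A C]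
    (h𝔞 : 𝔞 ≤ RingHom.ker (algebraMap A C))
    (h : Module.Flat (A ⧸ 𝔞) ((A ⧸ 𝔞) ⊗[A] M)) : Module.Flat C (C ⊗[A] M) := by
  let _ : Algebra (A ⧸ 𝔞) C :=
    (Ideal.Quotient.lift 𝔞 (algebraMap A C) (fun a ha => h𝔞 ha)).toAlgebra
  have : IsScalarTower A (A ⧸ 𝔞) C := IsScalarTower.of_algebraMap_eq (fun a => rfl)
  exact Module.Flat.of_linearEquiv
    (AlgebraTensorModule.cancelBaseChange A (A ⧸ 𝔞) C C M).symm

/-- Tower: `C ⊗_A M` flat over `C` implies `C ⊗_B (B ⊗_A M)` flat over `C`. -/
theorem flat_tower (B C : Type u) [CommRing B] [CommRing C] [Algebra A B] [Algebra B C]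
    [Algebra A C] [IsScalarTower A B C] (h : Module.Flat C (C ⊗[A] M)) :
    Module.Flat C (C ⊗[B] (B ⊗[A] M)) :=
  Module.Flat.of_linearEquiv (AlgebraTensorModule.cancelBaseChange A B C C M)

/-- Tower, converse direction. -/
theorem flat_tower' (B C : Type u) [CommRing B] [CommRing C] [Algebra A B] [Algebra B C]
    [Algebra A C] [IsScalarTower A B C] (h : Module.Flat C (C ⊗[B] (B ⊗[A] M))) :
    Module.Flat C (C ⊗[A] M) :=
  Module.Flat.of_linearEquiv (AlgebraTensorModule.cancelBaseChange A B C C M).symm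

/-- Base change in a tower. -/
theorem flat_baseChange_tower (B C : Type u) [CommRing B] [CommRing C] [Algebra A B] [Algebra B C]
    [Algebra A C] [IsScalarTower A B C] (h : Module.Flat B (B ⊗[A] M)) :
    Module.Flat C (C ⊗[A] M) :=
  flat_tower' M B C inferInstance

end Transport

/-- A ring map with a linear retraction is universally injective. -/
theorem isPure_of_retraction {R S : Type u} [CommRing R] [CommRing S] [Algebra R S]
    (τ : S →ₗ[R] R) (hτ : ∀ r, τ (algebraMap R S r) = r) :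
    Groth.Agent.Lib.Helper20.Pure.IsPure R S := by
  intro P _ _
  have h1 : τ ∘ₗ Algebra.linearMap R S = LinearMap.id := by
    ext
    simpa using hτ 1
  have h2 : (LinearMap.lTensor P τ) ∘ₗ (LinearMap.lTensor P (Algebra.linearMap R S)) =
      LinearMap.id := by
    rw [← LinearMap.lTensor_comp, h1, LinearMap.lTensor_id]
  exact Function.LeftInverse.injective (g := LinearMap.lTensor P τ)
    (fun x => by simpa using LinearMap.congr_fun h2 x)



section Domain

variable {R S : Type u} [CommRing R] [IsDomain R] [CommRing S] [Algebra R S] [Module.Finite R S]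

/-- There is an `R`-linear map `τ₀ : S → K = Frac R` with `τ₀ r = r` and a common denominator. -/
theorem exists_functional (hinj : Function.Injective (algebraMap R S)) :
    ∃ (τ₀ : S →ₗ[R] FractionRing R) (g : R), g ≠ 0 ∧
      (∀ r, τ₀ (algebraMap R S r) = algebraMap R (FractionRing R) r) ∧
      ∀ s, ∃ r, τ₀ (g • s) = algebraMap R (FractionRing R) r := by
  let f : FractionRing R →ₗ[FractionRing R] FractionRing R ⊗[R] S :=
    (Algebra.TensorProduct.includeLeft :
      FractionRing R →ₐ[FractionRing R] FractionRing R ⊗[R] S).toLinearMap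
  have hf : LinearMap.ker f = ⊥ :=
    LinearMap.ker_eq_bot.mpr
      (Algebra.TensorProduct.includeLeft_injective (S := FractionRing R) hinj)
  obtain ⟨φ, hφ⟩ := f.exists_leftInverse_of_injective hf
  let τ₀ : S →ₗ[R] FractionRing R :=
    (φ.restrictScalars R) ∘ₗ (TensorProduct.mk R (FractionRing R) S 1)
  have hτ₀ : ∀ r, τ₀ (algebraMap R S r) = algebraMap R (FractionRing R) r := by
    intro r
    show φ ((1 : FractionRing R) ⊗ₜ[R] algebraMap R S r) = _
    have h1 : ((1 : FractionRing R) ⊗ₜ[R] algebraMap R S r) =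
        f (algebraMap R (FractionRing R) r) := by
      simp only [f, AlgHom.toLinearMap_apply, Algebra.TensorProduct.includeLeft_apply]
      rw [Algebra.algebraMap_eq_smul_one, Algebra.algebraMap_eq_smul_one, TensorProduct.smul_tmul]
    rw [h1]
    exact LinearMap.congr_fun hφ _
  classical
  obtain ⟨s, hs⟩ := (Module.finite_def (R := R) (M := S)).mp inferInstance
  obtain ⟨b, hb⟩ := IsLocalization.exist_integer_multiples_of_finset (nonZeroDivisors R)
    (s.image τ₀)
  refine ⟨τ₀, b, nonZeroDivisors.coe_ne_zero b, hτ₀, ?_⟩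
  let P : Submodule R S :=
    Submodule.comap ((b : R) • τ₀) (LinearMap.range (Algebra.linearMap R (FractionRing R)))
  have hP : P = ⊤ := by
    rw [eq_top_iff, ← hs, Submodule.span_le]
    intro x hx
    obtain ⟨r, hr⟩ := hb (τ₀ x) (Finset.mem_image_of_mem _ hx)
    exact ⟨r, hr⟩
  intro x
  have hx : x ∈ P := hP ▸ Submodule.mem_top
  obtain ⟨r, hr⟩ := hx
  refine ⟨r, ?_⟩
  rw [map_smul]
  exact hr.symm

end Domain


section Pinch

variable (R : Type u) {S : Type u} [CommRing R] [CommRing S] [Algebra R S]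

/-- The subalgebra `R + 𝔧` of `S` (the pinching of `S` along `Spec S/𝔧 → Spec R/(R ∩ 𝔧)`). -/
def pinch (𝔧 : Ideal S) : Subalgebra R S :=
  Subalgebra.comap (Ideal.Quotient.mkₐ R 𝔧) ⊥

variable {R}

theorem mem_pinch {𝔧 : Ideal S} {x : S} :
    x ∈ pinch R 𝔧 ↔ ∃ r : R, x - algebraMap R S r ∈ 𝔧 := by
  rw [pinch, Subalgebra.mem_comap, Algebra.mem_bot]
  constructor
  · rintro ⟨r, hr⟩
    refine ⟨r, ?_⟩
    rw [← Ideal.Quotient.eq]
    exact hr.symm
  · rintro ⟨r, hr⟩
    refine ⟨r, ?_⟩
    rw [← Ideal.Quotient.eq] at hr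
    exact hr.symm

theorem isPure_pinch [IsDomain R] (g : R) (τ₀ : S →ₗ[R] FractionRing R)
    (h1 : ∀ r, τ₀ (algebraMap R S r) = algebraMap R (FractionRing R) r)
    (h2 : ∀ s, ∃ r, τ₀ (g • s) = algebraMap R (FractionRing R) r) :
    Groth.Agent.Lib.Helper20.Pure.IsPure R ↥(pinch R (Ideal.span {algebraMap R S g})) := by
  have hrange : ∀ x : ↥(pinch R (Ideal.span {algebraMap R S g})),
      (τ₀ ∘ₗ (pinch R (Ideal.span {algebraMap R S g})).val.toLinearMap) x ∈
        LinearMap.range (Algebra.linearMap R (FractionRing R)) := by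
    rintro ⟨x, hx⟩
    obtain ⟨r, hr⟩ := mem_pinch.mp hx
    obtain ⟨s, hs⟩ := Ideal.mem_span_singleton'.mp hr
    obtain ⟨r', hr'⟩ := h2 s
    refine ⟨r + r', ?_⟩
    have hx' : x = algebraMap R S r + g • s := by
      rw [Algebra.smul_def, mul_comm, hs]
      ring
    show _ = τ₀ x
    rw [hx', map_add τ₀, h1, hr', map_add]
    rfl
  let τ₁ : ↥(pinch R (Ideal.span {algebraMap R S g})) →ₗ[R]
      LinearMap.range (Algebra.linearMap R (FractionRing R)) :=
    (τ₀ ∘ₗ (pinch R (Ideal.span {algebraMap R S g})).val.toLinearMap).codRestrict _ hrange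
  let e := LinearEquiv.ofInjective (Algebra.linearMap R (FractionRing R))
    (IsFractionRing.injective R (FractionRing R))
  refine isPure_of_retraction (e.symm.toLinearMap ∘ₗ τ₁) ?_
  intro r
  apply e.injective
  rw [LinearMap.comp_apply, LinearEquiv.coe_coe, LinearEquiv.apply_symm_apply]
  apply Subtype.ext
  show τ₀ (algebraMap R S r) = algebraMap R (FractionRing R) r
  exact h1 r

variable (R)

/-- The map `R + 𝔧 → image of R in S/𝔧`. -/
noncomputable def pinchToBot (𝔧 : Ideal S) : ↥(pinch R 𝔧) →ₐ[R] ↥(⊥ : Subalgebra R (S ⧸ 𝔧)) :=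
  ((Ideal.Quotient.mkₐ R 𝔧).comp (pinch R 𝔧).val).codRestrict ⊥ (fun x => x.2)

theorem pinch_isFibreSquare (𝔧 : Ideal S) :
    letI : Algebra ↥(pinch R 𝔧) ↥(⊥ : Subalgebra R (S ⧸ 𝔧)) := (pinchToBot R 𝔧).toRingHom.toAlgebra
    haveI : IsScalarTower ↥(pinch R 𝔧) ↥(⊥ : Subalgebra R (S ⧸ 𝔧)) (S ⧸ 𝔧) :=
      IsScalarTower.of_algebraMap_eq (fun x => rfl)
    haveI : IsScalarTower ↥(pinch R 𝔧) S (S ⧸ 𝔧) :=
      IsScalarTower.of_algebraMap_eq (fun x => rfl)
    EtMil.IsFibreSquare ↥(pinch R 𝔧) ↥(⊥ : Subalgebra R (S ⧸ 𝔧)) S (S ⧸ 𝔧) := by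

  refine ⟨Ideal.Quotient.mk_surjective, ?_⟩
  intro b a' hba
  have hmem : a' ∈ pinch R 𝔧 := by
    rw [pinch, Subalgebra.mem_comap]
    have : (Ideal.Quotient.mkₐ R 𝔧) a' = (b : S ⧸ 𝔧) := hba.symm
    rw [this]
    exact b.2
  refine ⟨⟨a', hmem⟩, ⟨?_, rfl⟩, ?_⟩
  · apply Subtype.ext
    exact hba.symm
  · rintro y ⟨_, hy⟩
    apply Subtype.ext
    exact hy

end Pinch

section DomainCase

variable {R S : Type u} [CommRing R] [IsDomain R] [CommRing S] [Algebra R S] [Module.Finite R S]

/-- Domain case of the induction step. -/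
theorem flat_of_domain (hinj : Function.Injective (algebraMap R S))
    (M : Type u) [AddCommGroup M] [Module R M] (hS : Module.Flat S (S ⊗[R] M))
    (IH : ∀ 𝔧 : Ideal S, 𝔧.comap (algebraMap R S) ≠ ⊥ →
      Module.Flat (R ⧸ 𝔧.comap (algebraMap R S)) ((R ⧸ 𝔧.comap (algebraMap R S)) ⊗[R] M)) :
    Module.Flat R M := by
  obtain ⟨τ₀, g, hg, h1, h2⟩ := exists_functional hinj
  have hpure := isPure_pinch g τ₀ h1 h2
  have hJ : (Ideal.span {algebraMap R S g}).comap (algebraMap R S) ≠ ⊥ := by
    intro h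
    have : g ∈ (Ideal.span {algebraMap R S g}).comap (algebraMap R S) :=
      Ideal.mem_comap.mpr (Ideal.subset_span rfl)
    rw [h] at this
    exact hg this
  have hIH := IH _ hJ
  generalize Ideal.span {algebraMap R S g} = 𝔧 at hpure hIH
  let _ : Algebra ↥(pinch R 𝔧) ↥(⊥ : Subalgebra R (S ⧸ 𝔧)) :=
    (pinchToBot R 𝔧).toRingHom.toAlgebra
  have : IsScalarTower ↥(pinch R 𝔧) ↥(⊥ : Subalgebra R (S ⧸ 𝔧)) (S ⧸ 𝔧) :=
    IsScalarTower.of_algebraMap_eq (fun x => rfl)
  have : IsScalarTower ↥(pinch R 𝔧) S (S ⧸ 𝔧) :=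
    IsScalarTower.of_algebraMap_eq (fun x => rfl)
  have hsq := pinch_isFibreSquare R 𝔧
  have : IsScalarTower R ↥(pinch R 𝔧) ↥(⊥ : Subalgebra R (S ⧸ 𝔧)) :=
    IsScalarTower.of_algebraMap_eq (fun x => rfl)
  have hB : Module.Flat ↥(⊥ : Subalgebra R (S ⧸ 𝔧)) (↥(⊥ : Subalgebra R (S ⧸ 𝔧)) ⊗[R] M) := by
    refine flat_of_flat_quot M (𝔧.comap (algebraMap R S)) _ ?_ hIH
    intro a ha
    rw [RingHom.mem_ker]
    apply Subtype.ext
    show algebraMap R (S ⧸ 𝔧) a = 0
    rw [IsScalarTower.algebraMap_apply R S (S ⧸ 𝔧)]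
    exact Ideal.Quotient.eq_zero_iff_mem.mpr ha
  have := flat_tower M ↥(pinch R 𝔧) ↥(⊥ : Subalgebra R (S ⧸ 𝔧)) hB
  have := flat_tower M ↥(pinch R 𝔧) S hS
  have : Module.Flat ↥(pinch R 𝔧) (↥(pinch R 𝔧) ⊗[R] M) := Groth.Agent.Lib.Helper22.fs_flat hsq
  exact Groth.Agent.Lib.Helper20.Pure.flat_of_baseChange hpure M

end DomainCase



section NilCase

variable {R S : Type u} [CommRing R] [CommRing S] [Algebra R S]

/-- Key injectivity: if `J * J = 0`, `M/JM` is flat over `R/J`, `S ⊗ M` is `S`-flat and `R → S` is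
injective, then `M ⊗ J → M` is injective. -/
theorem lTensor_subtype_injective_of_sq_zero (hinj : Function.Injective (algebraMap R S))
    (M : Type u) [AddCommGroup M] [Module R M] (hS : Module.Flat S (S ⊗[R] M))
    (J : Ideal R) (hJ2 : J * J = ⊥) (hJ : Module.Flat (R ⧸ J) ((R ⧸ J) ⊗[R] M)) :
    Function.Injective (J.subtype.lTensor M) := by
  have hJmap : ∀ a ∈ J, ∀ x ∈ J.map (algebraMap R S), algebraMap R S a * x = 0 := by
    intro a ha x hx
    have h1 : algebraMap R S a * x ∈ J.map (algebraMap R S) * J.map (algebraMap R S) :=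
      Ideal.mul_mem_mul (Ideal.mem_map_of_mem _ ha) hx
    rw [← Ideal.map_mul, hJ2, Ideal.map_bot] at h1
    exact h1
  have tX : Module.IsTorsionBySet R ↥(J.map (algebraMap R S)) (J : Set R) := by
    rintro ⟨x, hx⟩ ⟨a, ha⟩
    apply Subtype.ext
    show a • x = 0
    rw [Algebra.smul_def]
    exact hJmap a ha x hx
  let _ : Module (R ⧸ J) ↥(J.map (algebraMap R S)) := tX.module
  have : IsScalarTower R (R ⧸ J) ↥(J.map (algebraMap R S)) := tX.isScalarTower
  let ι' : J →ₗ[R] ↥(J.map (algebraMap R S)) :=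
    { toFun := fun a => ⟨algebraMap R S a, Ideal.mem_map_of_mem _ a.2⟩
      map_add' := fun a b => Subtype.ext (map_add _ _ _)
      map_smul' := fun r a => Subtype.ext (by simp [Algebra.smul_def]) }
  have hι' : Function.Injective ι' := by
    intro a b hab
    apply Subtype.ext
    exact hinj (congrArg Subtype.val hab)
  have ha : Function.Injective ((LinearMap.range ι').subtype.rTensor M) :=
    Groth.Agent.Lib.Helper22.rTensor_subtype_injective_of_surjective (R := R) (S := R ⧸ J)
      (M := M) Ideal.Quotient.mk_surjective (LinearMap.range ι')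
  have hb : Function.Injective
      (((J.map (algebraMap R S)).subtype.restrictScalars R).rTensor M) :=
    Groth.Agent.Lib.Helper22.rTensor_restrictScalars_injective (R := R) (S := S) (M := M)
      (J.map (algebraMap R S)).subtype Subtype.val_injective
  let e := LinearEquiv.ofInjective ι' hι'
  have hcomp : ((J.map (algebraMap R S)).subtype.restrictScalars R) ∘ₗ
      (LinearMap.range ι').subtype ∘ₗ e.toLinearMap = (Algebra.linearMap R S) ∘ₗ J.subtype := by
    ext a
    rfl
  have h3 : Function.Injective (((Algebra.linearMap R S) ∘ₗ J.subtype).rTensor M) := by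
    rw [← hcomp, LinearMap.rTensor_comp, LinearMap.rTensor_comp]
    exact hb.comp (ha.comp (LinearEquiv.rTensor M e).injective)
  rw [LinearMap.lTensor_inj_iff_rTensor_inj]
  rw [LinearMap.rTensor_comp] at h3
  exact Function.Injective.of_comp h3

end NilCase


section NilCase2

variable {R S : Type u} [CommRing R] [CommRing S] [Algebra R S]

/-- Non-reduced case of the induction step. -/
theorem flat_of_not_reduced [IsNoetherianRing S] (hinj : Function.Injective (algebraMap R S))
    (hred : ¬ IsReduced R)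
    (M : Type u) [AddCommGroup M] [Module R M] (hS : Module.Flat S (S ⊗[R] M))
    (IH : ∀ 𝔧 : Ideal S, 𝔧.comap (algebraMap R S) ≠ ⊥ →
      Module.Flat (R ⧸ 𝔧.comap (algebraMap R S)) ((R ⧸ 𝔧.comap (algebraMap R S)) ⊗[R] M)) :
    Module.Flat R M := by
  classical
  obtain ⟨n, hn⟩ := IsNoetherianRing.isNilpotent_nilradical S
  let I : ℕ → Ideal R := fun k => ((nilradical S) ^ k).comap (algebraMap R S)
  have hIn : I n = ⊥ := by
    show ((nilradical S) ^ n).comap (algebraMap R S) = ⊥
    rw [hn, Ideal.zero_eq_bot, ← RingHom.ker_eq_comap_bot]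
    exact (RingHom.injective_iff_ker_eq_bot _).mp hinj
  have hanti : ∀ {a b : ℕ}, a ≤ b → I b ≤ I a := by
    intro a b hab
    exact Ideal.comap_mono (Ideal.pow_le_pow_right hab)
  have hI1 : I 1 ≠ ⊥ := by
    intro h
    apply hred
    rw [← nilradical_eq_bot_iff]
    rw [eq_bot_iff, ← h]
    intro x hx
    show algebraMap R S x ∈ (nilradical S) ^ 1
    rw [pow_one, mem_nilradical]
    exact (mem_nilradical.mp hx).map _
  have hex : ∃ k, I k = ⊥ := ⟨n, hIn⟩
  obtain ⟨k₀, hk₀, hmin⟩ : ∃ k₀, I k₀ = ⊥ ∧ ∀ m < k₀, I m ≠ ⊥ :=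
    ⟨Nat.find hex, Nat.find_spec hex, fun m hm => Nat.find_min hex hm⟩
  have h2 : 2 ≤ k₀ := by
    by_contra hlt
    push Not at hlt
    apply hI1
    rw [eq_bot_iff]
    exact le_trans (hanti (by omega)) hk₀.le
  have hJ : I (k₀ - 1) ≠ ⊥ := hmin _ (by omega)
  have hJ2 : I (k₀ - 1) * I (k₀ - 1) = ⊥ := by
    rw [eq_bot_iff]
    refine le_trans ?_ hk₀.le
    refine (Ideal.le_comap_mul _).trans ?_
    refine Ideal.comap_mono ?_
    rw [← pow_add]
    exact Ideal.pow_le_pow_right (by omega)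
  have hflatJ := IH _ hJ
  have H1 := lTensor_subtype_injective_of_sq_zero hinj M hS _ hJ2 hflatJ
  refine Groth.Agent.Lib.Helper5.flat_of_isNilpotent (I (k₀ - 1)) ⟨2, ?_⟩ H1 hflatJ
  rw [pow_two, hJ2, Ideal.zero_eq_bot]

end NilCase2


section RedCase

variable {R : Type u} [CommRing R]

/-- Flatness modulo a finite intersection of ideals. -/
theorem flat_quot_finset_inf (M : Type u) [AddCommGroup M] [Module R M] (s : Finset (Ideal R))
    (h : ∀ p ∈ s, Module.Flat (R ⧸ p) ((R ⧸ p) ⊗[R] M)) :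
    Module.Flat (R ⧸ s.inf id) ((R ⧸ s.inf id) ⊗[R] M) := by
  classical
  induction s using Finset.induction_on with
  | empty =>
    rw [Finset.inf_empty]
    have : Subsingleton (R ⧸ (⊤ : Ideal R)) := Ideal.Quotient.subsingleton_iff.mpr rfl
    have : Subsingleton ((R ⧸ (⊤ : Ideal R)) ⊗[R] M) :=
      Module.subsingleton (R ⧸ (⊤ : Ideal R)) _
    infer_instance
  | insert a s ha ih =>
    rw [Finset.inf_insert, id]
    exact Groth.Agent.Lib.Helper5.flat_quotient_inf_of_flat_quotient M a (s.inf id)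
      (h a (Finset.mem_insert_self a s))
      (ih (fun p hp => h p (Finset.mem_insert_of_mem hp)))

/-- Flatness over `R/⊥` gives flatness over `R`. -/
theorem flat_of_flat_quot_bot (M : Type u) [AddCommGroup M] [Module R M]
    (h : Module.Flat (R ⧸ (⊥ : Ideal R)) ((R ⧸ (⊥ : Ideal R)) ⊗[R] M)) : Module.Flat R M := by
  have h1 : Module.Flat R (R ⊗[R] M) := flat_of_flat_quot M ⊥ R bot_le h
  exact Module.Flat.of_linearEquiv (TensorProduct.lid R M).symm

variable {S : Type u} [CommRing S] [Algebra R S] [Module.Finite R S] [IsNoetherianRing R]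

/-- Reduced non-domain case of the induction step. -/
theorem flat_of_reduced (hinj : Function.Injective (algebraMap R S)) [IsReduced R]
    (hdom : ¬ IsDomain R)
    (M : Type u) [AddCommGroup M] [Module R M]
    (IH : ∀ 𝔧 : Ideal S, 𝔧.comap (algebraMap R S) ≠ ⊥ →
      Module.Flat (R ⧸ 𝔧.comap (algebraMap R S)) ((R ⧸ 𝔧.comap (algebraMap R S)) ⊗[R] M)) :
    Module.Flat R M := by
  have hfin := minimalPrimes.finite_of_isNoetherianRing R
  have hp : ∀ p ∈ hfin.toFinset, Module.Flat (R ⧸ p) ((R ⧸ p) ⊗[R] M) := by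
    intro p hp
    rw [Set.Finite.mem_toFinset] at hp
    have hpp : p.IsPrime := Ideal.IsMinimalPrime.isPrime hp
    have hp0 : p ≠ ⊥ := by
      rintro rfl
      exact hdom (IsDomain.of_bot_isPrime R)
    obtain ⟨Q, -, -, hQ⟩ := Ideal.exists_ideal_over_prime_of_isIntegral p (⊥ : Ideal S) (by
      rw [← RingHom.ker_eq_comap_bot, (RingHom.injective_iff_ker_eq_bot _).mp hinj]
      exact bot_le)
    subst hQ
    exact IH Q hp0
  have h1 := flat_quot_finset_inf M hfin.toFinset hp
  have h2 : hfin.toFinset.inf id = ⊥ := by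
    rw [Finset.inf_id_eq_sInf, Set.Finite.coe_toFinset]
    show sInf (⊥ : Ideal R).minimalPrimes = ⊥
    rw [Ideal.sInf_minimalPrimes]
    exact nilradical_eq_zero R
  rw [h2] at h1
  exact flat_of_flat_quot_bot M h1

end RedCase

section Main

/-- The induction step: flatness descends if it descends modulo all nonzero contracted ideals. -/
theorem core (R : Type u) [CommRing R] [IsNoetherianRing R] (S : Type u) [CommRing S]
    [Algebra R S] [Module.Finite R S] (hinj : Function.Injective (algebraMap R S))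
    (M : Type u) [AddCommGroup M] [Module R M] (hS : Module.Flat S (S ⊗[R] M))
    (IH : ∀ 𝔧 : Ideal S, 𝔧.comap (algebraMap R S) ≠ ⊥ →
      Module.Flat (R ⧸ 𝔧.comap (algebraMap R S)) ((R ⧸ 𝔧.comap (algebraMap R S)) ⊗[R] M)) :
    Module.Flat R M := by
  have : IsNoetherianRing S := IsNoetherianRing.of_finite R S
  by_cases hred : IsReduced R
  · by_cases hdom : IsDomain R
    · exact flat_of_domain hinj M hS IH
    · exact flat_of_reduced hinj hdom M IH
  · exact flat_of_not_reduced hinj hred M hS IH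

/-- Noetherian induction on the kernel. -/
theorem main (R : Type u) [CommRing R] [IsNoetherianRing R] (I : Ideal R) :
    ∀ (S : Type u) [CommRing S] [Algebra R S] [Module.Finite R S],
      RingHom.ker (algebraMap R S) = I → ∀ (M : Type u) [AddCommGroup M] [Module R M],
      Module.Flat S (S ⊗[R] M) → Module.Flat (R ⧸ I) ((R ⧸ I) ⊗[R] M) := by
  induction I using IsNoetherian.induction with
  | hgt I ih =>
  intro S _ _ _ hker M _ _ hS
  let _ : Algebra (R ⧸ I) S :=
    (Ideal.Quotient.lift I (algebraMap R S) (fun a ha => by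
      rw [← hker] at ha
      exact ha)).toAlgebra
  have : IsScalarTower R (R ⧸ I) S := IsScalarTower.of_algebraMap_eq (fun a => rfl)
  have : Module.Finite (R ⧸ I) S := Module.Finite.of_restrictScalars_finite R (R ⧸ I) S
  have hinj : Function.Injective (algebraMap (R ⧸ I) S) := by
    rw [injective_iff_map_eq_zero]
    intro x hx
    obtain ⟨a, rfl⟩ := Ideal.Quotient.mk_surjective x
    have h0 : algebraMap R S a = 0 := hx
    rw [Ideal.Quotient.eq_zero_iff_mem, ← hker]
    exact h0
  have hS' : Module.Flat S (S ⊗[R ⧸ I] ((R ⧸ I) ⊗[R] M)) := flat_tower M (R ⧸ I) S hS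
  refine core (R ⧸ I) S hinj ((R ⧸ I) ⊗[R] M) hS' ?_
  intro 𝔧 h𝔧
  have hIJ : I < 𝔧.comap (algebraMap R S) := by
    refine lt_of_le_of_ne ?_ ?_
    · intro a ha
      rw [← hker] at ha
      rw [Ideal.mem_comap, (RingHom.mem_ker).mp ha]
      exact 𝔧.zero_mem
    · intro heq
      apply h𝔧
      rw [eq_bot_iff]
      intro x hx
      obtain ⟨a, rfl⟩ := Ideal.Quotient.mk_surjective x
      have ha : a ∈ 𝔧.comap (algebraMap R S) := hx
      rw [← heq] at ha
      exact (Ideal.Quotient.eq_zero_iff_mem.mpr ha)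
  have hflat : Module.Flat (R ⧸ 𝔧.comap (algebraMap R S))
      ((R ⧸ 𝔧.comap (algebraMap R S)) ⊗[R] M) := by
    refine ih _ hIJ (S ⧸ 𝔧) ?_ M ?_
    · ext a
      rw [RingHom.mem_ker, IsScalarTower.algebraMap_apply R S (S ⧸ 𝔧),
        Ideal.Quotient.algebraMap_eq, Ideal.Quotient.eq_zero_iff_mem, Ideal.mem_comap]
    · exact flat_baseChange_tower M S (S ⧸ 𝔧) hS
  have h1 : Module.Flat ((R ⧸ I) ⧸ 𝔧.comap (algebraMap (R ⧸ I) S))
      (((R ⧸ I) ⧸ 𝔧.comap (algebraMap (R ⧸ I) S)) ⊗[R] M) := by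
    refine flat_of_flat_quot M (𝔧.comap (algebraMap R S)) _ ?_ hflat
    intro a ha
    rw [RingHom.mem_ker, IsScalarTower.algebraMap_apply R (R ⧸ I)
      ((R ⧸ I) ⧸ 𝔧.comap (algebraMap (R ⧸ I) S)), Ideal.Quotient.algebraMap_eq,
      Ideal.Quotient.algebraMap_eq, Ideal.Quotient.eq_zero_iff_mem, Ideal.mem_comap]
    exact ha
  exact flat_tower M (R ⧸ I) _ h1

/-- **Stacks 0533**: flatness descends along finite injective maps of Noetherian rings. -/
theorem flat_of_flat_baseChange_finite_injective (R S : Type u) [CommRing R] [IsNoetherianRing R]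
    [CommRing S] [Algebra R S] [Module.Finite R S]
    (hinj : Function.Injective (algebraMap R S))
    (M : Type u) [AddCommGroup M] [Module R M] [Module.Flat S (S ⊗[R] M)] : Module.Flat R M := by
  have h := main R ⊥ S ((RingHom.injective_iff_ker_eq_bot _).mp hinj) M inferInstance
  exact flat_of_flat_quot_bot M h

end Main

end Groth.Agent.R2.H69.FlatFinDesc
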