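import Mathlib
import Groth.Agent.R2.H69FlatFinDesc
import Groth.Agent.Lib.Helper3FlatDescE

/-!
# Descent of flatness along injective integral maps for finitely presented modules over
polynomial rings (helper69)

Stacks 0531-type statement: `R → S` injective integral, `M` finitely presented over
`R[x_1, …, x_n]`, `S ⊗ M` flat over `S` implies `M` flat over `R`.  Reduction to the Noetherian
finite case (`R2/H69FlatFinDesc`) through the models of helper3's `FlatDesc` library.
-/

set_option autoImplicit false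
set_option linter.style.haveILetI false
universe u

open TensorProduct MvPolynomial Groth.Agent.Lib.Helper3.FlatDesc Groth.Agent.Lib.Helper3.FlatOpen

namespace Groth.Agent.R2.H69.FlatIntDesc

attribute [local instance] MvPolynomial.algebraMvPolynomial

/-- An element integral over `R` whose monic polynomial has coefficients in a subalgebra `R₁` is
integral over `R₁`. -/
theorem isIntegral_subalgebra_of_coeffs {Λ R S : Type u} [CommRing Λ] [CommRing R] [CommRing S]
    [Algebra Λ R] [Algebra R S] (R₁ : Subalgebra Λ R) (s : S) (p : Polynomial R) (hp : p.Monic)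
    (hps : Polynomial.eval₂ (algebraMap R S) s p = 0) (hc : (p.coeffs : Set R) ⊆ R₁) :
    IsIntegral ↥R₁ s := by
  cases subsingleton_or_nontrivial R with
  | inl h =>
    have : Subsingleton S := (algebraMap R S).codomain_trivial
    exact ⟨1, Polynomial.monic_one, Subsingleton.elim _ _⟩
  | inr h =>
    have hl : p ∈ Polynomial.lifts (algebraMap ↥R₁ R) := by
      rw [Polynomial.lifts_iff_coeffs_subset_range]
      intro c hcc
      exact ⟨⟨c, hc hcc⟩, rfl⟩
    obtain ⟨q, hq, -, hqm⟩ := Polynomial.lifts_and_degree_eq_and_monic hl hp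
    refine ⟨q, hqm, ?_⟩
    rw [← hq, Polynomial.eval₂_map] at hps
    exact hps

/-- Descent of flatness of a model along a finite injective map of Noetherian rings. -/
theorem flat_model_of_finite_injective {Λ : Type u} [CommRing Λ] {n k m : ℕ}
    (w : Fin m → Fin k → MvPolynomial (Fin n) Λ)
    (R₁ S₁ : Type u) [CommRing R₁] [CommRing S₁] [Algebra Λ R₁] [Algebra Λ S₁] [Algebra R₁ S₁]
    [IsScalarTower Λ R₁ S₁] [IsNoetherianRing R₁] [Module.Finite R₁ S₁]
    (hinj : Function.Injective (algebraMap R₁ S₁))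
    (h : Module.Flat S₁ ((Fin k → MvPolynomial (Fin n) S₁) ⧸ KT w (MvPolynomial (Fin n) S₁))) :
    Module.Flat R₁ ((Fin k → MvPolynomial (Fin n) R₁) ⧸ KT w (MvPolynomial (Fin n) R₁)) := by
  obtain ⟨e₁⟩ := nonempty_tensor_equiv_model (Λ := Λ) (A₀ := R₁) (T := S₁) w
    (LinearEquiv.refl (MvPolynomial (Fin n) R₁)
      ((Fin k → MvPolynomial (Fin n) R₁) ⧸ KT w (MvPolynomial (Fin n) R₁)))
  haveI : Module.Flat S₁ (S₁ ⊗[R₁]
      ((Fin k → MvPolynomial (Fin n) R₁) ⧸ KT w (MvPolynomial (Fin n) R₁))) :=
    Module.Flat.of_linearEquiv e₁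
  exact Groth.Agent.R2.H69.FlatFinDesc.flat_of_flat_baseChange_finite_injective R₁ S₁ hinj _

set_option maxSynthPendingDepth 3 in
/-- Descent of flatness of a model along an injective integral map. -/
theorem flat_model_of_integral_injective {Λ : Type u} [CommRing Λ] [IsNoetherianRing Λ]
    {n k m : ℕ} (w : Fin m → Fin k → MvPolynomial (Fin n) Λ)
    (R S : Type u) [CommRing R] [CommRing S] [Algebra Λ R] [Algebra Λ S] [Algebra R S]
    [IsScalarTower Λ R S] [Algebra.IsIntegral R S]
    (hinj : Function.Injective (algebraMap R S))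
    (hflatS : Module.Flat S ((Fin k → MvPolynomial (Fin n) S) ⧸ KT w (MvPolynomial (Fin n) S))) :
    Module.Flat R ((Fin k → MvPolynomial (Fin n) R) ⧸ KT w (MvPolynomial (Fin n) R)) := by
  classical
  obtain ⟨A, hAfg, -, hAflat⟩ := exists_fg_subalgebra_flat_global w hflatS ∅
  obtain ⟨t, ht⟩ := hAfg
  have hint : ∀ s : S, ∃ p : Polynomial R, p.Monic ∧ Polynomial.eval₂ (algebraMap R S) s p = 0 :=
    fun s => Algebra.IsIntegral.isIntegral s
  choose p hpm hps using hint
  obtain ⟨R₁, hR₁fg, hCR₁⟩ : ∃ R₁ : Subalgebra Λ R, R₁.FG ∧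
      ((t.biUnion (fun s => (p s).coeffs) : Finset R) : Set R) ⊆ R₁ :=
    ⟨Algebra.adjoin Λ _, Subalgebra.fg_adjoin_finset _, Algebra.subset_adjoin⟩
  haveI : Algebra.FiniteType Λ R₁ := (Subalgebra.fg_iff_finiteType R₁).mp hR₁fg
  haveI : IsNoetherianRing R₁ := Algebra.FiniteType.isNoetherianRing Λ R₁
  haveI : IsScalarTower Λ ↥R₁ S := IsScalarTower.of_algebraMap_eq (fun x => by
    rw [IsScalarTower.algebraMap_apply Λ R S]; rfl)
  have hintS : ∀ s ∈ (t : Set S), IsIntegral ↥R₁ s := by
    intro s hs
    refine isIntegral_subalgebra_of_coeffs R₁ s (p s) (hpm s) (hps s) ?_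
    intro c hc
    apply hCR₁
    exact Finset.mem_coe.mpr (Finset.mem_biUnion.mpr ⟨s, hs, hc⟩)
  obtain ⟨S₁, hS₁fg, htS₁⟩ : ∃ S₁ : Subalgebra ↥R₁ S, S₁.toSubmodule.FG ∧ (t : Set S) ⊆ S₁ :=
    ⟨Algebra.adjoin ↥R₁ (t : Set S), fg_adjoin_of_finite t.finite_toSet hintS,
      Algebra.subset_adjoin⟩
  haveI : Module.Finite ↥R₁ ↥S₁ := Module.Finite.iff_fg.mpr hS₁fg
  have hinj₁ : Function.Injective (algebraMap ↥R₁ ↥S₁) := by
    intro x y hxy
    have h1 : algebraMap R S (x : R) = algebraMap R S (y : R) := congrArg Subtype.val hxy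
    exact Subtype.ext (hinj h1)
  have hle : ∀ a : S, a ∈ A → a ∈ S₁ := by
    intro a ha
    rw [← ht] at ha
    have h2 : Algebra.adjoin Λ (t : Set S) ≤ S₁.restrictScalars Λ :=
      Algebra.adjoin_le htS₁
    exact h2 ha
  let ψ : ↥A →ₐ[Λ] ↥S₁ :=
    { toFun := fun a => ⟨a.1, hle a.1 a.2⟩
      map_one' := rfl
      map_mul' := fun _ _ => rfl
      map_zero' := rfl
      map_add' := fun _ _ => rfl
      commutes' := fun r => rfl }
  have hflatS₁ : Module.Flat ↥S₁
      ((Fin k → MvPolynomial (Fin n) ↥S₁) ⧸ KT w (MvPolynomial (Fin n) ↥S₁)) :=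
    flat_model_of_algHom w ψ hAflat
  have hflatR₁ : Module.Flat ↥R₁
      ((Fin k → MvPolynomial (Fin n) ↥R₁) ⧸ KT w (MvPolynomial (Fin n) ↥R₁)) :=
    flat_model_of_finite_injective w ↥R₁ ↥S₁ hinj₁ hflatS₁
  exact flat_model_of_algHom w R₁.val hflatR₁

/-- **Stacks 0531-type descent**: for an injective integral ring map `R → S` and a module `M` of
finite presentation over `R[x_1, …, x_n]`, flatness of `S ⊗ M` over `S` implies flatness of `M`
over `R`. -/
theorem flat_of_flat_baseChange_integral (R S : Type u) [CommRing R] [CommRing S] [Algebra R S]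
    [Algebra.IsIntegral R S] (hinj : Function.Injective (algebraMap R S)) (n : ℕ)
    (M : Type u) [AddCommGroup M] [Module (MvPolynomial (Fin n) R) M] [Module R M]
    [IsScalarTower R (MvPolynomial (Fin n) R) M]
    [Module.FinitePresentation (MvPolynomial (Fin n) R) M]
    [Module.Flat S (S ⊗[R] M)] : Module.Flat R M := by
  obtain ⟨k, m, Λ, hΛ, w, ⟨e⟩⟩ := exists_model_equiv (R := R) (n := n) (M := M)
  haveI : Algebra.FiniteType ℤ Λ := (Subalgebra.fg_iff_finiteType Λ).mp hΛ
  haveI : IsNoetherianRing Λ := Algebra.FiniteType.isNoetherianRing ℤ Λ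
  obtain ⟨eS⟩ := nonempty_tensor_equiv_model (Λ := Λ) (A₀ := R) (T := S) w e
  have hflatS : Module.Flat S
      ((Fin k → MvPolynomial (Fin n) S) ⧸ KT w (MvPolynomial (Fin n) S)) :=
    Module.Flat.of_linearEquiv eS.symm
  have hflatR : Module.Flat R
      ((Fin k → MvPolynomial (Fin n) R) ⧸ KT w (MvPolynomial (Fin n) R)) :=
    flat_model_of_integral_injective w R S hinj hflatS
  exact Module.Flat.of_linearEquiv (e.symm.restrictScalars R)

/-- Descent of flatness along an injective integral map for a finitely presented module over a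
finitely presented algebra. -/
theorem flat_of_flat_baseChange_integral_fp (A A' : Type u) [CommRing A] [CommRing A']
    [Algebra A A'] [Algebra.IsIntegral A A'] (hinj : Function.Injective (algebraMap A A'))
    (B : Type u) [CommRing B] [Algebra A B] [Algebra.FinitePresentation A B]
    (M : Type u) [AddCommGroup M] [Module B M] [Module A M] [IsScalarTower A B M]
    [Module.FinitePresentation B M] [Module.Flat A' (A' ⊗[A] M)] : Module.Flat A M := by
  obtain ⟨n, f, hf, hker⟩ := Algebra.FinitePresentation.out (R := A) (A := B)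
  letI : Algebra (MvPolynomial (Fin n) A) B := f.toRingHom.toAlgebra
  haveI : IsScalarTower A (MvPolynomial (Fin n) A) B :=
    .of_algebraMap_eq' f.comp_algebraMap.symm
  letI : Module (MvPolynomial (Fin n) A) M := Module.compHom M f.toRingHom
  haveI : IsScalarTower (MvPolynomial (Fin n) A) B M :=
    ⟨fun p s m => by
      change (f p * s) • m = f p • (s • m)
      rw [mul_smul]⟩
  haveI : IsScalarTower A (MvPolynomial (Fin n) A) M :=
    ⟨fun r p m => by
      change f (r • p) • m = r • (f p • m)
      rw [map_smul, smul_assoc]⟩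
  haveI : Module.FinitePresentation (MvPolynomial (Fin n) A) B :=
    Module.finitePresentation_of_surjective (Algebra.linearMap (MvPolynomial (Fin n) A) B) hf
      hker
  haveI : Module.FinitePresentation (MvPolynomial (Fin n) A) M :=
    Module.FinitePresentation.trans (MvPolynomial (Fin n) A) M B
  exact flat_of_flat_baseChange_integral A A' hinj n M

end Groth.Agent.R2.H69.FlatIntDesc
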