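import Mathlib
import Groth.Agent.Lib.Helper3FlatDescE
import Groth.Agent.Lib.Helper2GenFree
import Groth.Agent.Lib.Helper7LeastIdeal
import Groth.Agent.Lib.Helper26ModLocFree

/-!
# Generic freeness at a minimal prime for flat finitely presented modules (helper69)

* `free_model_of_algHom`: freeness of helper3's presented modules passes along algebra maps.
* `free_of_flat_of_free_quot_nilpotent`: flat + free modulo a nilpotent ideal implies free
  (from helper7's `LeastIdeal`).
* `sys_atPrime`: `A_p` is the (helper18) `Sys`-colimit of the `A_t`, `t ∉ p`.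
* `exists_free_away_model`: over a Noetherian ring with prime nilradical a flat presented module
  becomes free after inverting a non-nilpotent element.
* `exists_free_localization_away`: EGA IV 11.2.6.1-type statement: `A` with a minimal prime `p`,
  `M` f.p. over a f.p. `A`-algebra with `M_p` flat over `A_p`; then `M_t` is free over `A_t` for
  some `t ∉ p`.
-/

set_option autoImplicit false
set_option linter.style.haveILetI false
universe u

open TensorProduct MvPolynomial Groth.Agent.Lib.Helper3.FlatDesc Groth.Agent.Lib.Helper3.FlatOpen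
  Groth.Agent.Lib.Helper3.FlatLoc Groth.Agent.Lib.Helper18ColimSys

namespace Groth.Agent.R2.H69.GenFreeNil

attribute [local instance] MvPolynomial.algebraMvPolynomial

section model

variable {Λ : Type u} [CommRing Λ]
  {σ ι κ : Type} [Finite σ] [Fintype ι] [DecidableEq ι] [Fintype κ]
  (w : κ → ι → MvPolynomial σ Λ)

omit [Finite σ] [DecidableEq ι] in
/-- Freeness of the presented module passes along an algebra homomorphism. -/
theorem free_model_of_algHom {A R : Type u} [CommRing A] [CommRing R] [Algebra Λ A] [Algebra Λ R]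
    (ψ : A →ₐ[Λ] R)
    (h : Module.Free A ((ι → MvPolynomial σ A) ⧸ KT w (MvPolynomial σ A))) :
    Module.Free R ((ι → MvPolynomial σ R) ⧸ KT w (MvPolynomial σ R)) := by
  letI := ψ.toRingHom.toAlgebra
  haveI : IsScalarTower Λ A R := IsScalarTower.of_algebraMap_eq' ψ.comp_algebraMap.symm
  haveI := isScalarTower_mvPolynomial (σ := σ) Λ A R
  have hb : IsBaseChange R ((Mmap w (MvPolynomial σ A) (MvPolynomial σ R)).restrictScalars A) :=
    isBaseChange_restrictScalars_of_isPushout _ (isBaseChange_Mmap w _ _)
  exact hb.free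

end model

/-- A flat module which is free modulo a nilpotent ideal is free. -/
theorem free_of_flat_of_free_quot_nilpotent {A : Type u} [CommRing A] (M : Type u)
    [AddCommGroup M] [Module A M] (J : Ideal A) (hJ : IsNilpotent J) [Module.Flat A M]
    (hfree : Module.Free (A ⧸ J) ((A ⧸ J) ⊗[A] M)) : Module.Free A M := by
  obtain ⟨R₀, -, -, h⟩ := Groth.Agent.Lib.Helper7.LeastIdeal.exists_least_ideal M J hJ hfree
  obtain ⟨h1, h2⟩ := h A
  have hfl : Module.Flat A (A ⊗[A] M) := Module.Flat.of_linearEquiv (TensorProduct.lid A M)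
  have := h1.mpr (h2.mp hfl)
  exact Module.Free.of_equiv (TensorProduct.lid A M)

section sys

variable {A : Type u} [CommRing A] (p : Ideal A) [p.IsPrime]

/-- The canonical map `A_t → A_p` for `t ∉ p`. -/
noncomputable def toAtPrime (t : p.primeCompl) :
    Localization.Away (t : A) →ₐ[A] Localization.AtPrime p :=
  IsLocalization.liftAlgHom (M := Submonoid.powers (t : A))
    (f := Algebra.ofId A (Localization.AtPrime p)) (by
      rintro ⟨_, j, rfl⟩
      change IsUnit (algebraMap A (Localization.AtPrime p) ((t : A) ^ j))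
      rw [map_pow]
      exact IsUnit.pow j (IsLocalization.map_units (Localization.AtPrime p) t))

/-- The canonical map `A_t → A_{t'}` for `t ∣ t'`. -/
noncomputable def awayHom {t t' : A} (h : t ∣ t') :
    Localization.Away t →ₐ[A] Localization.Away t' :=
  IsLocalization.liftAlgHom (M := Submonoid.powers t)
    (f := Algebra.ofId A (Localization.Away t')) (by
      rintro ⟨_, j, rfl⟩
      change IsUnit (algebraMap A (Localization.Away t') (t ^ j))
      rw [map_pow]
      exact IsUnit.pow j
        (isUnit_of_dvd_unit (map_dvd _ h) (IsLocalization.Away.algebraMap_isUnit t')))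


theorem isUnit_algebraMap_away_of_dvd {t t' : A} (h : t ∣ t') :
    IsUnit (algebraMap A (Localization.Away t') t) :=
  isUnit_of_dvd_unit (map_dvd _ h) (IsLocalization.Away.algebraMap_isUnit t')

theorem algHom_mk'_mul {t : A} {P : Type u} [CommRing P] [Algebra A P]
    (φ : Localization.Away t →ₐ[A] P) (a : A) (s : Submonoid.powers t) :
    φ (IsLocalization.mk' (Localization.Away t) a s) * algebraMap A P s = algebraMap A P a := by
  rw [← AlgHom.commutes φ, ← map_mul, IsLocalization.mk'_spec, AlgHom.commutes]

theorem sys_atPrime : Sys A (fun t : p.primeCompl => Localization.Away (t : A))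
    (Localization.AtPrime p) (toAtPrime p) where
  nonempty := ⟨1⟩
  surj a := by
    obtain ⟨x, s, rfl⟩ := IsLocalization.exists_mk'_eq p.primeCompl a
    refine ⟨s, IsLocalization.mk' (Localization.Away (s : A)) x
      (⟨s, Submonoid.mem_powers _⟩ : Submonoid.powers (s : A)), ?_⟩
    rw [IsLocalization.eq_mk'_iff_mul_eq]
    exact algHom_mk'_mul (toAtPrime p s) x ⟨s, Submonoid.mem_powers _⟩
  dir i j := by
    refine ⟨i * j, awayHom (Dvd.intro _ rfl), awayHom (Dvd.intro_left _ rfl), ?_, ?_⟩
    · exact (IsLocalization.algHom_subsingleton (Submonoid.powers (i : A))).elim _ _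
    · exact (IsLocalization.algHom_subsingleton (Submonoid.powers (j : A))).elim _ _
  ker i x hx := by
    obtain ⟨a, s, rfl⟩ := IsLocalization.exists_mk'_eq (Submonoid.powers (i : A)) x
    have h1 := algHom_mk'_mul (toAtPrime p i) a s
    rw [hx, zero_mul] at h1
    obtain ⟨c, hc⟩ := (IsLocalization.map_eq_zero_iff p.primeCompl (Localization.AtPrime p) a).mp
      h1.symm
    have hd1 : (i : A) ∣ ((i * c : p.primeCompl) : A) := ⟨c, rfl⟩
    have hd2 : (c : A) ∣ ((i * c : p.primeCompl) : A) := ⟨i, mul_comm _ _⟩
    refine ⟨i * c, awayHom hd1,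
      (IsLocalization.algHom_subsingleton (Submonoid.powers (i : A))).elim _ _, ?_⟩
    have h2 := algHom_mk'_mul (awayHom hd1) a s
    have hcu := isUnit_algebraMap_away_of_dvd hd2
    have hsu : IsUnit (algebraMap A (Localization.Away ((i * c : p.primeCompl) : A)) (s : A)) := by
      obtain ⟨_, e, rfl⟩ := s
      change IsUnit (algebraMap A _ ((i : A) ^ e))
      rw [map_pow]
      exact IsUnit.pow e (isUnit_algebraMap_away_of_dvd hd1)
    have h3 : algebraMap A (Localization.Away ((i * c : p.primeCompl) : A)) a = 0 := by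
      apply hcu.mul_right_injective
      change algebraMap A _ (c : A) * algebraMap A _ a = algebraMap A _ (c : A) * 0
      rw [← map_mul, hc, map_zero, mul_zero]
    rw [h3] at h2
    exact (hsu.mul_left_eq_zero).mp h2

end sys


section core

variable {Λ : Type u} [CommRing Λ] [IsNoetherianRing Λ]
  {n k m : ℕ} (w : Fin m → Fin k → MvPolynomial (Fin n) Λ)

/-- Generic freeness for a flat presented module over a Noetherian ring whose nilradical is
prime. -/
theorem exists_free_away_model (R₀ : Type u) [CommRing R₀] [Algebra Λ R₀]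
    [Algebra.FiniteType Λ R₀] (hprime : (nilradical R₀).IsPrime)
    (hflat : Module.Flat R₀
      ((Fin k → MvPolynomial (Fin n) R₀) ⧸ KT w (MvPolynomial (Fin n) R₀))) :
    ∃ h : R₀, ¬ IsNilpotent h ∧ Module.Free (Localization.Away h)
      ((Fin k → MvPolynomial (Fin n) (Localization.Away h)) ⧸
        KT w (MvPolynomial (Fin n) (Localization.Away h))) := by
  classical
  haveI : IsNoetherianRing R₀ := Algebra.FiniteType.isNoetherianRing Λ R₀
  let D₀ := R₀ ⧸ nilradical R₀
  haveI : IsDomain D₀ := Ideal.Quotient.isDomain _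
  obtain ⟨hbar, hne, -, hfa, -, -⟩ := Groth.Agent.Lib.Helper2.GenFree.exists_freeAway D₀
    (MvPolynomial (Fin n) D₀)
    ((Fin k → MvPolynomial (Fin n) D₀) ⧸ KT w (MvPolynomial (Fin n) D₀))
  obtain ⟨h, rfl⟩ := Ideal.Quotient.mk_surjective hbar
  have hnil : ¬ IsNilpotent h := fun hn =>
    hne (Ideal.Quotient.eq_zero_iff_mem.mpr (mem_nilradical.mpr hn))
  refine ⟨h, hnil, ?_⟩
  -- the localization `D₁` of the domain `D₀`, over which the model is free
  let D₁ := Localization.Away (Ideal.Quotient.mk (nilradical R₀) h)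
  haveI := isScalarTower_mvPolynomial (σ := Fin n) Λ D₀ D₁
  have hb1 : IsBaseChange D₁
      ((Mmap w (MvPolynomial (Fin n) D₀) (MvPolynomial (Fin n) D₁)).restrictScalars D₀) :=
    isBaseChange_restrictScalars_of_isPushout _ (isBaseChange_Mmap w _ _)
  haveI : IsLocalizedModule (Submonoid.powers (Ideal.Quotient.mk (nilradical R₀) h))
      ((Mmap w (MvPolynomial (Fin n) D₀) (MvPolynomial (Fin n) D₁)).restrictScalars D₀) :=
    (isLocalizedModule_iff_isBaseChange _ D₁ _).mpr hb1
  have hfree1 : Module.Free D₁
      ((Fin k → MvPolynomial (Fin n) D₁) ⧸ KT w (MvPolynomial (Fin n) D₁)) :=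
    hfa.free D₁ ((Mmap w (MvPolynomial (Fin n) D₀) (MvPolynomial (Fin n) D₁)).restrictScalars D₀)
  -- the localization `T` of `R₀` and its reduction `D`
  let T := Localization.Away h
  haveI : IsNoetherianRing T := IsLocalization.isNoetherianRing (Submonoid.powers h) T inferInstance
  have hJ : IsNilpotent (nilradical T) := IsNoetherianRing.isNilpotent_nilradical T
  let D := T ⧸ nilradical T
  let φ : R₀ →ₐ[Λ] D := (Ideal.Quotient.mkₐ Λ (nilradical T)).comp (IsScalarTower.toAlgHom Λ R₀ T)
  have hφ : ∀ a ∈ nilradical R₀, φ a = 0 := by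
    intro a ha
    change Ideal.Quotient.mk (nilradical T) (algebraMap R₀ T a) = 0
    rw [Ideal.Quotient.eq_zero_iff_mem, mem_nilradical]
    exact (mem_nilradical.mp ha).map _
  let ψ₀ : D₀ →ₐ[Λ] D := Ideal.Quotient.liftₐ (nilradical R₀) φ hφ
  have hψ₀ : ∀ y : Submonoid.powers (Ideal.Quotient.mk (nilradical R₀) h), IsUnit (ψ₀ y) := by
    rintro ⟨_, j, rfl⟩
    change IsUnit (ψ₀ ((Ideal.Quotient.mk (nilradical R₀) h) ^ j))
    rw [map_pow]
    apply IsUnit.pow
    change IsUnit (Ideal.Quotient.mk (nilradical T) (algebraMap R₀ T h))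
    exact (IsLocalization.Away.algebraMap_isUnit h).map _
  let ψ : D₁ →ₐ[Λ] D := IsLocalization.liftAlgHom
    (M := Submonoid.powers (Ideal.Quotient.mk (nilradical R₀) h)) (f := ψ₀) hψ₀
  have hfreeD : Module.Free D ((Fin k → MvPolynomial (Fin n) D) ⧸ KT w (MvPolynomial (Fin n) D)) :=
    free_model_of_algHom w ψ hfree1
  have hflatT : Module.Flat T ((Fin k → MvPolynomial (Fin n) T) ⧸ KT w (MvPolynomial (Fin n) T)) :=
    flat_model_of_algHom w (IsScalarTower.toAlgHom Λ R₀ T) hflat
  haveI := isScalarTower_mvPolynomial (σ := Fin n) Λ T D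
  have hb2 : IsBaseChange D
      ((Mmap w (MvPolynomial (Fin n) T) (MvPolynomial (Fin n) D)).restrictScalars T) :=
    isBaseChange_restrictScalars_of_isPushout _ (isBaseChange_Mmap w _ _)
  have hfreeq : Module.Free (T ⧸ nilradical T) ((T ⧸ nilradical T) ⊗[T]
      ((Fin k → MvPolynomial (Fin n) T) ⧸ KT w (MvPolynomial (Fin n) T))) :=
    Module.Free.of_equiv hb2.equiv.symm
  exact free_of_flat_of_free_quot_nilpotent _ (nilradical T) hJ hfreeq

end core

section main

/-- Let `A` be a ring with unique minimal prime `p`, `B` a finitely presented `A`-algebra and `M` a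
finitely presented `B`-module with `M_p` flat over `A_p`.  Then `M_t` is free over `A_t` for some
`t ∉ p`. -/
theorem exists_free_localization_away {A B : Type u} [CommRing A] [CommRing B] [Algebra A B]
    [Algebra.FinitePresentation A B] (p : Ideal A) [p.IsPrime] (hp : p ∈ minimalPrimes A)
    (M : Type u) [AddCommGroup M] [Module B M] [Module A M] [IsScalarTower A B M]
    [Module.FinitePresentation B M]
    (hflat : Module.Flat (Localization.AtPrime p) (LocalizedModule p.primeCompl M)) :
    ∃ t : A, t ∉ p ∧
      Module.Free (Localization.Away t) (LocalizedModule (Submonoid.powers t) M) := by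
  classical
  obtain ⟨n, k, m, Λ, hΛ, w, hT⟩ := exists_model_tensor A B M
  haveI : Algebra.FiniteType ℤ Λ := (Subalgebra.fg_iff_finiteType Λ).mp hΛ
  haveI : IsNoetherianRing Λ := Algebra.FiniteType.isNoetherianRing ℤ Λ
  obtain ⟨eP⟩ := hT (Localization.AtPrime p)
  have hbc : IsBaseChange (Localization.AtPrime p) (LocalizedModule.mkLinearMap p.primeCompl M) :=
    IsLocalizedModule.isBaseChange p.primeCompl (Localization.AtPrime p) _
  have hflat1 : Module.Flat (Localization.AtPrime p) (Localization.AtPrime p ⊗[A] M) :=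
    Module.Flat.of_linearEquiv hbc.equiv
  have hflat' : Module.Flat (Localization.AtPrime p)
      ((Fin k → MvPolynomial (Fin n) (Localization.AtPrime p)) ⧸
        KT w (MvPolynomial (Fin n) (Localization.AtPrime p))) :=
    Module.Flat.of_linearEquiv eP.symm
  obtain ⟨R₀, hR₀fg, -, hR₀flat⟩ := exists_fg_subalgebra_flat_global w hflat' ∅
  haveI : Algebra.FiniteType Λ R₀ := (Subalgebra.fg_iff_finiteType R₀).mp hR₀fg
  -- `A_p` is a zero-dimensional local ring
  haveI : Ring.KrullDimLE 0 (Localization.AtPrime p) :=
    Ring.KrullDimLE.of_isLocalization p hp (Localization.AtPrime p)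
  have hnu : ∀ x : Localization.AtPrime p, ¬ IsNilpotent x → IsUnit x := fun x hx => by
    by_contra hxu
    exact hx (Ring.KrullDimLE.isNilpotent_iff_mem_nonunits.mpr hxu)
  have hnilR₀ : ∀ x : R₀, IsNilpotent (x : Localization.AtPrime p) → IsNilpotent x := by
    rintro x ⟨e, he⟩
    exact ⟨e, Subtype.ext (by simpa using he)⟩
  have hprime : (nilradical R₀).IsPrime := by
    refine ⟨?_, ?_⟩
    · intro htop
      have h1 : (1 : R₀) ∈ nilradical R₀ := htop ▸ Submodule.mem_top
      exact not_isNilpotent_one (mem_nilradical.mp h1)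
    · intro x y hxy
      by_contra hcon
      push Not at hcon
      have hx : IsUnit (x : Localization.AtPrime p) :=
        hnu _ fun hn => hcon.1 (mem_nilradical.mpr (hnilR₀ x hn))
      have hy : IsUnit (y : Localization.AtPrime p) :=
        hnu _ fun hn => hcon.2 (mem_nilradical.mpr (hnilR₀ y hn))
      have hxy' : IsNilpotent ((x * y : R₀) : Localization.AtPrime p) :=
        (mem_nilradical.mp hxy).map R₀.val
      have hu : IsUnit ((x * y : R₀) : Localization.AtPrime p) := by
        rw [Subalgebra.coe_mul]
        exact hx.mul hy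
      exact hu.not_isNilpotent hxy'
  obtain ⟨h, hnil, hfree⟩ := exists_free_away_model w R₀ hprime hR₀flat
  have hunit : IsUnit (h : Localization.AtPrime p) := hnu _ fun hn => hnil (hnilR₀ h hn)
  have hρ : ∀ y : Submonoid.powers h, IsUnit (R₀.val y) := by
    rintro ⟨_, j, rfl⟩
    change IsUnit (R₀.val (h ^ j))
    rw [map_pow]
    exact hunit.pow j
  let ρ : Localization.Away h →ₐ[Λ] Localization.AtPrime p :=
    IsLocalization.liftAlgHom (M := Submonoid.powers h) (f := R₀.val) hρ
  haveI : Algebra.FiniteType Λ (Localization.Away h) :=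
    Algebra.FiniteType.trans (S := R₀) inferInstance inferInstance
  haveI : Algebra.FinitePresentation Λ (Localization.Away h) :=
    Algebra.FinitePresentation.of_finiteType.mp inferInstance
  obtain ⟨t, ρ', -⟩ := (Groth.Agent.Lib.Helper26.ModLocFree.Sys.restrictScalars (sys_atPrime p) Λ).lift_algHom (Localization.Away h) ρ
  have hfreet := free_model_of_algHom w ρ' hfree
  obtain ⟨eT⟩ := hT (Localization.Away (t : A))
  refine ⟨t, t.2, ?_⟩
  have hbt : IsBaseChange (Localization.Away (t : A))
      (LocalizedModule.mkLinearMap (Submonoid.powers (t : A)) M) :=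
    IsLocalizedModule.isBaseChange (Submonoid.powers (t : A)) (Localization.Away (t : A)) _
  exact Module.Free.of_equiv (eT.symm ≪≫ₗ hbt.equiv)

end main

end Groth.Agent.R2.H69.GenFreeNil
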