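import Mathlib
import Groth.Agent.Lib.Helper13TorMore

/-!
# Graded freeness criterion over a polynomial ring

Let `S = k[x_σ]` with `σ` finite, `𝔪 = ker (constantCoeff)`, and `M` a finite `ℕ`-graded `S`-module.
If `M ⊗ 𝔪 → M ⊗ S` is injective (e.g. if `Tor_1(M, S/𝔪) = 0`), then `M` has a basis of homogeneous
elements.
-/

set_option autoImplicit false
set_option linter.unusedSectionVars false
set_option linter.style.haveILetI false
universe u
open CategoryTheory CategoryTheory.Limits
open scoped TensorProduct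

namespace Groth.Agent.R2.H69.GrFree

section Graded

open Classical

variable {k : Type u} [Field k] {σ : Type} [Finite σ]

/-- the irrelevant ideal -/
noncomputable abbrev irr (k : Type u) [Field k] (σ : Type) : Ideal (MvPolynomial σ k) :=
  RingHom.ker (MvPolynomial.constantCoeff : MvPolynomial σ k →+* k)

theorem irr_isMaximal : (irr k σ).IsMaximal :=
  RingHom.ker_isMaximal_of_surjective _ fun a => ⟨MvPolynomial.C a, MvPolynomial.constantCoeff_C _ a⟩

theorem irr_ne_top : irr k σ ≠ ⊤ := irr_isMaximal.ne_top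

variable {M : Type u} [AddCommGroup M] [Module (MvPolynomial σ k) M] (ℳ : ℕ → AddSubgroup M)
  [SetLike.GradedSMul (MvPolynomial.homogeneousSubmodule σ k) ℳ] [DirectSum.Decomposition ℳ]

/-- the degree `d` component of `x`. -/
noncomputable def p (d : ℕ) (x : M) : M := ((DirectSum.decompose ℳ x) d : M)

theorem p_mem (d : ℕ) (x : M) : p ℳ d x ∈ ℳ d := ((DirectSum.decompose ℳ x) d).2

theorem p_add (d : ℕ) (x y : M) : p ℳ d (x + y) = p ℳ d x + p ℳ d y := by
  simp [p, DirectSum.decompose_add]

theorem p_zero (d : ℕ) : p ℳ d (0 : M) = 0 := by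
  simp [p, DirectSum.decompose_zero]

theorem p_sum {α : Type*} (s : Finset α) (f : α → M) (d : ℕ) :
    p ℳ d (∑ a ∈ s, f a) = ∑ a ∈ s, p ℳ d (f a) := by
  induction s using Finset.induction_on with
  | empty => simp [p_zero]
  | insert a s ha ih => rw [Finset.sum_insert ha, Finset.sum_insert ha, p_add, ih]

theorem p_of_mem_same {d : ℕ} {x : M} (hx : x ∈ ℳ d) : p ℳ d x = x :=
  DirectSum.decompose_of_mem_same ℳ hx

theorem p_of_mem_ne {d j : ℕ} {x : M} (hx : x ∈ ℳ j) (h : j ≠ d) : p ℳ d x = 0 :=
  DirectSum.decompose_of_mem_ne ℳ hx h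

theorem sum_p (x : M) : ∑ j ∈ (DirectSum.decompose ℳ x).support, p ℳ j x = x :=
  DirectSum.sum_support_decompose ℳ x

theorem smul_mem_graded {e j : ℕ} {s : MvPolynomial σ k}
    (hs : s ∈ MvPolynomial.homogeneousSubmodule σ k e) {x : M} (hx : x ∈ ℳ j) :
    s • x ∈ ℳ (e + j) := by
  have := SetLike.GradedSMul.smul_mem (A := MvPolynomial.homogeneousSubmodule σ k) (B := ℳ) hs hx
  simpa [vadd_eq_add] using this

/-- components of multiples of a homogeneous element of a submodule stay in the submodule. -/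
theorem p_smul_mem_of_homogeneous (P : Submodule (MvPolynomial σ k) M) {j : ℕ} {x : M}
    (hx : x ∈ ℳ j) (hxP : x ∈ P) (s : MvPolynomial σ k) (d : ℕ) : p ℳ d (s • x) ∈ P := by
  rw [← MvPolynomial.sum_homogeneousComponent s, Finset.sum_smul, p_sum]
  refine Submodule.sum_mem _ fun e _ => ?_
  have hmem := smul_mem_graded ℳ (MvPolynomial.homogeneousComponent_mem e s) hx
  by_cases hd : e + j = d
  · rw [p_of_mem_same ℳ (hd ▸ hmem)]
    exact P.smul_mem _ hxP
  · rw [p_of_mem_ne ℳ hmem hd]
    exact P.zero_mem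

/-- components of `s • z`, `s` homogeneous of positive degree, only involve lower degree
components of `z`. -/
theorem p_smul_mem_of_lower (P : Submodule (MvPolynomial σ k) M) (d : ℕ)
    (IH : ∀ e < d, ∀ x ∈ ℳ e, x ∈ P) {e : ℕ} (he : e ≠ 0) {s : MvPolynomial σ k}
    (hs : s ∈ MvPolynomial.homogeneousSubmodule σ k e) (z : M) : p ℳ d (s • z) ∈ P := by
  rw [← sum_p ℳ z, Finset.smul_sum, p_sum]
  refine Submodule.sum_mem _ fun j _ => ?_
  have hmem := smul_mem_graded ℳ hs (p_mem ℳ j z)
  by_cases hd : e + j = d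
  · rw [p_of_mem_same ℳ (hd ▸ hmem)]
    exact P.smul_mem _ (IH j (by omega) _ (p_mem ℳ j z))
  · rw [p_of_mem_ne ℳ hmem hd]
    exact P.zero_mem

theorem p_irr_smul_mem_of_lower (P : Submodule (MvPolynomial σ k) M) (d : ℕ)
    (IH : ∀ e < d, ∀ x ∈ ℳ e, x ∈ P) {r : MvPolynomial σ k} (hr : r ∈ irr k σ) (z : M) :
    p ℳ d (r • z) ∈ P := by
  rw [← MvPolynomial.sum_homogeneousComponent r, Finset.sum_smul, p_sum]
  refine Submodule.sum_mem _ fun e _ => ?_
  by_cases he : e = 0
  · subst he
    have : MvPolynomial.homogeneousComponent 0 r = 0 := by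
      rw [MvPolynomial.homogeneousComponent_zero]
      have h0 : MvPolynomial.constantCoeff r = 0 := hr
      rw [MvPolynomial.constantCoeff_eq] at h0
      rw [h0, map_zero]
    rw [this, zero_smul, p_zero]
    exact P.zero_mem
  · exact p_smul_mem_of_lower ℳ P d IH he (MvPolynomial.homogeneousComponent_mem e r) z

/-- Graded Nakayama. -/
theorem eq_top_of_sup_irr_smul (N : Submodule (MvPolynomial σ k) M)
    (hN : ∀ d, ∀ y ∈ N, p ℳ d y ∈ N)
    (hsup : N ⊔ irr k σ • (⊤ : Submodule (MvPolynomial σ k) M) = ⊤) : N = ⊤ := by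
  have key : ∀ d, ∀ x ∈ ℳ d, x ∈ N := by
    intro d
    induction d using Nat.strong_induction_on with
    | _ d IH =>
      intro x hx
      have hxt : x ∈ N ⊔ irr k σ • (⊤ : Submodule (MvPolynomial σ k) M) := by
        rw [hsup]; exact Submodule.mem_top
      obtain ⟨y, hy, z, hz, rfl⟩ := Submodule.mem_sup.mp hxt
      rw [← p_of_mem_same ℳ hx, p_add]
      refine N.add_mem (hN d y hy) ?_
      refine Submodule.smul_induction_on hz (fun r hr n _ => ?_) (fun a b ha hb => ?_)
      · exact p_irr_smul_mem_of_lower ℳ N d IH hr n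
      · rw [p_add]; exact N.add_mem ha hb
  rw [eq_top_iff]
  intro x _
  rw [← sum_p ℳ x]
  exact Submodule.sum_mem _ fun j _ => key j _ (p_mem ℳ j x)

/-- the span of homogeneous elements is a homogeneous submodule. -/
theorem p_mem_span_of_homogeneous (G : Set M) (hG : ∀ x ∈ G, SetLike.IsHomogeneousElem ℳ x)
    (d : ℕ) (y : M) (hy : y ∈ Submodule.span (MvPolynomial σ k) G) :
    p ℳ d y ∈ Submodule.span (MvPolynomial σ k) G := by
  induction hy using Submodule.closure_induction with
  | zero => rw [p_zero]; exact Submodule.zero_mem _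
  | add x y _ _ hx hy => rw [p_add]; exact Submodule.add_mem _ hx hy
  | smul_mem r x hx =>
    obtain ⟨j, hj⟩ := hG x hx
    exact p_smul_mem_of_homogeneous ℳ _ hj (Submodule.subset_span hx) r d

end Graded

section Free

variable {k : Type u} [Field k] {σ : Type} [Finite σ]
variable {M : Type u} [AddCommGroup M] [Module (MvPolynomial σ k) M]

local notation "S" => MvPolynomial σ k
local notation "𝔪" => irr k σ

/-- Relations between generators which are independent modulo `𝔪` have coefficients in `𝔪`. -/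
theorem coeff_mem_irr_of_rel {ι : Type*} [Fintype ι] (g : ι → M)
    (hli : haveI := irr_isMaximal (k := k) (σ := σ)
      LinearIndependent (S ⧸ 𝔪)
        (fun i => (Submodule.Quotient.mk (g i) : M ⧸ 𝔪 • (⊤ : Submodule S M))))
    (c : ι → S) (hc : ∑ i, c i • g i = 0) (i : ι) : c i ∈ 𝔪 := by
  haveI := irr_isMaximal (k := k) (σ := σ)
  rw [Fintype.linearIndependent_iff] at hli
  have := hli (fun i => Ideal.Quotient.mk 𝔪 (c i)) (by
    have h1 : ∀ i, Ideal.Quotient.mk 𝔪 (c i) •
        (Submodule.Quotient.mk (g i) : M ⧸ 𝔪 • (⊤ : Submodule S M)) =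
        Submodule.Quotient.mk (c i • g i) := fun i => rfl
    simp_rw [h1]
    have h2 := congrArg (Submodule.mkQ (𝔪 • (⊤ : Submodule S M))) hc
    rw [map_sum, map_zero] at h2
    exact h2) i
  exact Ideal.Quotient.eq_zero_iff_mem.mp this

/-- The key step: if `M ⊗ 𝔪 → M ⊗ S` is injective, relations between generators that are
independent modulo `𝔪` have coefficients in every power of `𝔪`. -/
theorem coeff_mem_pow_of_rel {ι : Type*} [Fintype ι] (g : ι → M)
    (hsp : Submodule.span S (Set.range g) = ⊤)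
    (hli : haveI := irr_isMaximal (k := k) (σ := σ)
      LinearIndependent (S ⧸ 𝔪)
        (fun i => (Submodule.Quotient.mk (g i) : M ⧸ 𝔪 • (⊤ : Submodule S M))))
    (hinj : Function.Injective (LinearMap.lTensor M (Submodule.subtype 𝔪)))
    (t : ℕ) : ∀ (c : ι → S), ∑ i, c i • g i = 0 → ∀ i, c i ∈ 𝔪 ^ t := by
  induction t with
  | zero => intro c _ i; simp
  | succ t IH =>
    intro c hc i
    have hcm : ∀ i, c i ∈ 𝔪 := coeff_mem_irr_of_rel g hli c hc
    have hten : ∑ i, g i ⊗ₜ[S] (⟨c i, hcm i⟩ : 𝔪) = 0 := by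
      apply hinj
      rw [map_sum, map_zero]
      simp only [LinearMap.lTensor_tmul, Submodule.subtype_apply]
      apply (TensorProduct.rid S M).injective
      rw [map_sum, map_zero]
      simpa using hc
    obtain ⟨κ, a, y, hay, ham⟩ :=
      TensorProduct.vanishesTrivially_of_sum_tmul_eq_zero S hsp hten
    have hci : c i = ∑ j, a i j * (y j : S) := by
      have := congrArg Subtype.val (hay i)
      simpa using this
    rw [hci, pow_succ]
    refine Ideal.sum_mem _ fun j _ => Ideal.mul_mem_mul ?_ (y j).2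
    exact IH (fun i => a i j) (ham j) i

theorem linearIndependent_of_lTensor_injective {ι : Type*} [Fintype ι] (g : ι → M)
    (hsp : Submodule.span S (Set.range g) = ⊤)
    (hli : haveI := irr_isMaximal (k := k) (σ := σ)
      LinearIndependent (S ⧸ 𝔪)
        (fun i => (Submodule.Quotient.mk (g i) : M ⧸ 𝔪 • (⊤ : Submodule S M))))
    (hinj : Function.Injective (LinearMap.lTensor M (Submodule.subtype 𝔪))) :
    LinearIndependent S g := by
  rw [Fintype.linearIndependent_iff]
  intro c hc i
  have h1 : c i ∈ ⨅ t : ℕ, 𝔪 ^ t :=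
    (Submodule.mem_iInf _).mpr fun t => coeff_mem_pow_of_rel g hsp hli hinj t c hc i
  rw [Ideal.iInf_pow_eq_bot_of_isDomain _ irr_ne_top] at h1
  exact h1

end Free

section Main

open Classical

variable {k : Type u} [Field k] {σ : Type} [Finite σ]
variable {M : Type u} [AddCommGroup M] [Module (MvPolynomial σ k) M]
  [Module.Finite (MvPolynomial σ k) M] (ℳ : ℕ → AddSubgroup M)
  [SetLike.GradedSMul (MvPolynomial.homogeneousSubmodule σ k) ℳ] [DirectSum.Decomposition ℳ]

local notation "S" => MvPolynomial σ k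
local notation "𝔪" => irr k σ

/-- Graded freeness: if `M ⊗ 𝔪 → M ⊗ S` is injective then `M` has a homogeneous basis. -/
theorem exists_homogeneous_basis_of_lTensor_injective
    (hinj : Function.Injective (LinearMap.lTensor M (Submodule.subtype 𝔪))) :
    ∃ (ι : Type u) (b : Module.Basis ι S M), ∀ i, SetLike.IsHomogeneousElem ℳ (b i) := by
  haveI := irr_isMaximal (k := k) (σ := σ)
  let V := M ⧸ 𝔪 • (⊤ : Submodule S M)
  letI : Field (S ⧸ 𝔪) := Ideal.Quotient.field 𝔪
  let mk : M →ₗ[S] V := Submodule.mkQ (𝔪 • (⊤ : Submodule S M))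
  let H : Set M := {x | SetLike.IsHomogeneousElem ℳ x}
  -- images of homogeneous elements span `V` over `K`
  have hspanH : Submodule.span (S ⧸ 𝔪) (mk '' H) = ⊤ := by
    rw [eq_top_iff]
    intro v _
    obtain ⟨x, rfl⟩ := Submodule.mkQ_surjective _ v
    rw [← sum_p ℳ x, map_sum]
    refine Submodule.sum_mem _ fun j _ => Submodule.subset_span ?_
    exact ⟨p ℳ j x, ⟨j, p_mem ℳ j x⟩, rfl⟩
  obtain ⟨b, hbs, hbspan, hbli⟩ := exists_linearIndependent (S ⧸ 𝔪) (mk '' H)
  haveI : Module.Finite (S ⧸ 𝔪) V := Module.Finite.of_restrictScalars_finite S (S ⧸ 𝔪) V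
  have hbfin : b.Finite := hbli.setFinite
  haveI : Fintype b := hbfin.fintype
  -- choose homogeneous lifts
  have hlift : ∀ i : b, ∃ x : M, SetLike.IsHomogeneousElem ℳ x ∧ mk x = i.1 := fun i => by
    obtain ⟨x, hx, hxi⟩ := hbs i.2
    exact ⟨x, hx, hxi⟩
  choose g hgH hgmk using hlift
  have hli : LinearIndependent (S ⧸ 𝔪) (fun i : b => (Submodule.Quotient.mk (g i) : V)) := by
    have : (fun i : b => (Submodule.Quotient.mk (g i) : V)) = Subtype.val := by
      funext i; exact hgmk i
    rw [this]; exact hbli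
  -- the lifts generate `M`
  have hsp : Submodule.span S (Set.range g) = ⊤ := by
    apply eq_top_of_sup_irr_smul ℳ
    · intro d y hy
      exact p_mem_span_of_homogeneous ℳ _ (by rintro _ ⟨i, rfl⟩; exact hgH i) d y hy
    · have h1 : Submodule.map mk (Submodule.span S (Set.range g)) = ⊤ := by
        rw [Submodule.map_span]
        have h2 : mk '' Set.range g = b := by
          ext v
          constructor
          · rintro ⟨_, ⟨i, rfl⟩, rfl⟩
            rw [hgmk i]; exact i.2
          · intro hv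
            exact ⟨g ⟨v, hv⟩, ⟨⟨v, hv⟩, rfl⟩, hgmk ⟨v, hv⟩⟩
        rw [h2]
        have h3 : Submodule.restrictScalars S (Submodule.span (S ⧸ 𝔪) b) = Submodule.span S b :=
          Submodule.restrictScalars_span S (S ⧸ 𝔪) Ideal.Quotient.mk_surjective b
        rw [← h3, hbspan, hspanH]
        rfl
      have h4 := Submodule.comap_map_eq mk (Submodule.span S (Set.range g))
      rw [h1, Submodule.comap_top, Submodule.ker_mkQ] at h4
      exact h4.symm
  have hindep : LinearIndependent S g :=
    linearIndependent_of_lTensor_injective g hsp hli hinj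
  refine ⟨b, Module.Basis.mk hindep hsp.ge, fun i => ?_⟩
  rw [Module.Basis.mk_apply]
  exact hgH i

end Main

section Tor

open Groth.Agent.Helper13Tor

variable {R : Type u} [CommRing R] (I : Ideal R)

/-- the short complex `I → R → R/I`. -/
noncomputable def sesI : ShortComplex (ModuleCat.{u} R) :=
  ShortComplex.mk (ModuleCat.ofHom (Submodule.subtype I) : ModuleCat.of R I ⟶ ModuleCat.of R R)
    (ModuleCat.ofHom (Submodule.mkQ I) : ModuleCat.of R R ⟶ ModuleCat.of R (R ⧸ I)) (by
    apply ModuleCat.hom_ext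
    apply LinearMap.ext
    intro y
    show Submodule.mkQ I (y : R) = 0
    rw [Submodule.mkQ_apply, Submodule.Quotient.mk_eq_zero]
    exact y.2)

theorem sesI_shortExact : (sesI I).ShortExact where
  exact := by
    rw [ShortComplex.ShortExact.moduleCat_exact_iff_function_exact]
    intro y
    change R at y
    show Submodule.mkQ I y = 0 ↔ y ∈ Set.range (Submodule.subtype I)
    rw [Submodule.mkQ_apply, Submodule.Quotient.mk_eq_zero]
    constructor
    · intro hy; exact ⟨⟨y, hy⟩, rfl⟩
    · rintro ⟨z, rfl⟩; exact z.2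
  mono_f := by
    rw [ModuleCat.mono_iff_injective]
    exact Submodule.injective_subtype I
  epi_g := by
    rw [ModuleCat.epi_iff_surjective]
    exact Submodule.mkQ_surjective _

/-- `Tor_1(M, R/I) = 0` (derived in the second variable) iff `M ⊗ I → M ⊗ R` is injective. -/
theorem isZero_tor_one_quot_iff (M : Type u) [AddCommGroup M] [Module R M] :
    IsZero (((Tor (ModuleCat.{u} R) 1).obj (ModuleCat.of R M)).obj (ModuleCat.of R (R ⧸ I))) ↔
      Function.Injective (LinearMap.lTensor M (Submodule.subtype I)) := by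
  have h₂ : IsZero (((Tor (ModuleCat.{u} R) 1).obj (ModuleCat.of R M)).obj (sesI I).X₂) :=
    isZero_tor_of_flat_right (ModuleCat.of R M) (ModuleCat.of R R) 1 Nat.one_pos
  exact isZero_tor_one_iff_lTensor_injective (ModuleCat.of R M) (sesI I) (sesI_shortExact I) h₂

end Tor

section Final

variable {k : Type u} [Field k] {σ : Type} [Finite σ]
variable {M : Type u} [AddCommGroup M] [Module (MvPolynomial σ k) M]
  [Module.Finite (MvPolynomial σ k) M] (ℳ : ℕ → AddSubgroup M)
  [SetLike.GradedSMul (MvPolynomial.homogeneousSubmodule σ k) ℳ] [DirectSum.Decomposition ℳ]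

/-- Graded freeness criterion: `Tor_1(M, S/S_+) = 0` implies `M` has a homogeneous basis. -/
theorem exists_homogeneous_basis_of_isZero_tor
    (h : IsZero (((Tor (ModuleCat.{u} (MvPolynomial σ k)) 1).obj
      (ModuleCat.of (MvPolynomial σ k) M)).obj
      (ModuleCat.of (MvPolynomial σ k) (MvPolynomial σ k ⧸ irr k σ)))) :
    ∃ (ι : Type u) (b : Module.Basis ι (MvPolynomial σ k) M),
      ∀ i, SetLike.IsHomogeneousElem ℳ (b i) :=
  exists_homogeneous_basis_of_lTensor_injective ℳ ((isZero_tor_one_quot_iff (irr k σ) M).mp h)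

end Final

end Groth.Agent.R2.H69.GrFree
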