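import Groth.Agent.Lib.Helper20LocProj
import Groth.Agent.Lib.Helper1LBC
import Groth.Agent.R2.H63MultProj

/-!
# H69: local projectivity of quasi-coherent modules glues over affine opens

For a quasi-coherent module `F` on a scheme `X` and an affine open `U`: if every point of `U` has an
affine open neighbourhood `W` with `Γ(F, W)` projective over `Γ(X, W)`, then `Γ(F, U)` is projective
over `Γ(X, U)` (no finiteness assumption; uses Raynaud–Gruson descent of projectivity).
-/

set_option autoImplicit false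
set_option linter.unusedSectionVars false
set_option linter.style.haveILetI false
universe u
open CategoryTheory AlgebraicGeometry Limits TensorProduct Opposite TopologicalSpace
open Groth.Agent.Lib.Helper20.Thickening Groth.Agent.Lib.Helper20.PullbackAff

namespace Groth.Agent.R2.H69.LocProjGlue

variable {X : Scheme.{u}} (F : X.Modules) [F.IsQuasicoherent]

/-- base change of sections from an affine open `V` to a smaller affine open `W`: projectivity of
`Γ(F, W)` gives projectivity of `Γ(X, W) ⊗ Γ(F, V)`. -/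
theorem projective_tensor_of_le {V W : X.Opens} (hV : IsAffineOpen V) (hW : IsAffineOpen W)
    (hWV : W ≤ (𝟙 X) ⁻¹ᵁ V) [Module.Projective Γ(X, W) Γ(F, W)] :
    letI := ((𝟙 X : X ⟶ X).appLE V W hWV).hom.toAlgebra
    Module.Projective Γ(X, W) (Γ(X, W) ⊗[Γ(X, V)] Γ(F, V)) := by
  letI := ((𝟙 X : X ⟶ X).appLE V W hWV).hom.toAlgebra
  haveI h1 : Module.Projective Γ(X, W) ((ΓUF hW).obj F) :=
    Module.Projective.of_equiv' (ΓUEquiv hW F)
  haveI h1' : Module.Projective Γ(X, W) ((ΓUF hW).obj ((𝟭 X.Modules).obj F)) := h1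
  haveI h2 : Module.Projective Γ(X, W) ((ΓUF hW).obj ((Scheme.Modules.pullback (𝟙 X)).obj F)) :=
    Module.Projective.of_equiv'
      ((ΓUF hW).mapIso ((Scheme.Modules.pullbackId X).app F)).toLinearEquiv.symm
  haveI h3 : Module.Projective Γ(X, W)
      ((ModuleCat.extendScalars ((𝟙 X : X ⟶ X).appLE V W hWV).hom).obj ((ΓUF hV).obj F)) :=
    Module.Projective.of_equiv' (ΓUFPullbackIso (𝟙 X) hV hW hWV F).toLinearEquiv
  haveI h4 : Module.Projective Γ(X, W) (Γ(X, W) ⊗[Γ(X, V)] ((ΓUF hV).obj F)) :=
    Module.Projective.of_equiv'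
      (Groth.Agent.Lib.Helper1.LDer.bcEquiv ((𝟙 X : X ⟶ X).appLE V W hWV).hom ((ΓUF hV).obj F))
  exact Module.Projective.of_equiv'
    (LinearEquiv.baseChange Γ(X, V) Γ(X, W) _ _ (ΓUEquiv hV F).symm)

/-- variant of `projective_tensor_of_le` for an arbitrary algebra instance inducing the
restriction map. -/
theorem projective_tensor_of_le' {V W : X.Opens} (hV : IsAffineOpen V) (hW : IsAffineOpen W)
    (hWV : W ≤ V) [inst : Algebra Γ(X, V) Γ(X, W)]
    (halg : algebraMap Γ(X, V) Γ(X, W) = (X.presheaf.map (homOfLE hWV).op).hom)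
    [Module.Projective Γ(X, W) Γ(F, W)] :
    Module.Projective Γ(X, W) (Γ(X, W) ⊗[Γ(X, V)] Γ(F, V)) := by
  have hWV' : W ≤ (𝟙 X) ⁻¹ᵁ V := by simpa using hWV
  have key := projective_tensor_of_le F hV hW hWV'
  have e : inst = ((𝟙 X : X ⟶ X).appLE V W hWV').hom.toAlgebra := by
    apply Algebra.algebra_ext
    intro r
    rw [halg, RingHom.algebraMap_toAlgebra]
    simp only [Scheme.Hom.appLE, Scheme.Hom.id_app]
    rfl
  subst e
  exact key

/-- projectivity of sections over an affine open can be checked on a family of basic opens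
generating the unit ideal. -/
theorem projective_of_span {U : X.Opens} (hU : IsAffineOpen U) (s : Set Γ(X, U))
    (hs : Ideal.span s = ⊤)
    (h : ∀ f ∈ s, Module.Projective Γ(X, X.basicOpen f) Γ(F, X.basicOpen f)) :
    Module.Projective Γ(X, U) Γ(F, U) := by
  classical
  obtain ⟨s', hs's, hs'⟩ := (Ideal.span_eq_top_iff_finite s).1 hs
  let B : (↥s') → Type u := fun g => Γ(X, X.basicOpen g.1)
  haveI hloc : ∀ g : ↥s', IsLocalization.Away g.1 (B g) := fun g =>
    hU.isLocalization_basicOpen g.1
  haveI : ∀ g : ↥s', Module.Flat Γ(X, U) (B g) := fun g =>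
    IsLocalization.flat (B g) (Submonoid.powers g.1)
  refine Groth.Agent.R2.H63.MultProj.projective_of_finite_flat_cover B ?_ Γ(F, U) ?_
  · intro m hm
    have hex : ∃ g : ↥s', g.1 ∉ m := by
      by_contra hcon
      push Not at hcon
      have : Ideal.span (s' : Set Γ(X, U)) ≤ m := Ideal.span_le.2 (fun g hg => hcon ⟨g, hg⟩)
      rw [hs'] at this
      exact hm.ne_top (top_le_iff.1 this)
    obtain ⟨g, hg⟩ := hex
    refine ⟨g, ?_⟩
    have hdisj : Disjoint (Submonoid.powers g.1 : Set Γ(X, U)) (m : Set Γ(X, U)) := by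
      rw [Set.disjoint_left]
      rintro x ⟨n, rfl⟩ hx
      exact hg (hm.isPrime.mem_of_pow_mem n hx)
    have hprime : (Ideal.map (algebraMap Γ(X, U) (B g)) m).IsPrime :=
      IsLocalization.isPrime_of_isPrime_disjoint (Submonoid.powers g.1) (B g) m hm.isPrime hdisj
    exact hprime.ne_top
  · intro g
    haveI := h g.1 (hs's g.2)
    exact projective_tensor_of_le' F hU (hU.basicOpen g.1) (X.basicOpen_le g.1) rfl

/-- local-to-global: projectivity of sections over an affine open is local on that open. -/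
theorem projective_of_forall_exists {U : X.Opens} (hU : IsAffineOpen U)
    (h : ∀ x ∈ U, ∃ W : X.Opens, IsAffineOpen W ∧ x ∈ W ∧
      Module.Projective Γ(X, W) Γ(F, W)) :
    Module.Projective Γ(X, U) Γ(F, U) := by
  let s : Set Γ(X, U) := {f | Module.Projective Γ(X, X.basicOpen f) Γ(F, X.basicOpen f)}
  refine projective_of_span F hU s ?_ (fun f hf => hf)
  rw [← hU.self_le_iSup_basicOpen_iff]
  intro x hx
  obtain ⟨W, hW, hxW, hproj⟩ := h x hx
  obtain ⟨f, hfW, hxf⟩ := hU.exists_basicOpen_le ⟨x, hxW⟩ hx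
  haveI := hproj
  have hf : f ∈ s :=
    Groth.Agent.Lib.Helper20.LocProj.projective_of_le hW F (hU.basicOpen f) hfW
  exact Opens.mem_iSup.2 ⟨⟨f, hf⟩, hxf⟩

end Groth.Agent.R2.H69.LocProjGlue
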