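import Mathlib

/-!
# Submodules of `k⟦X⟧` over a closed subalgebra containing a non-constant element are closed
(helper69)
-/

set_option autoImplicit false
universe u

namespace Groth.Agent.R2.H69.PSClosed

open PowerSeries

variable {k : Type u} [Field k]

theorem le_order_sub {a b : k⟦X⟧} {j : ℕ∞} (ha : j ≤ order a) (hb : j ≤ order b) :
    j ≤ order (a - b) := by
  rw [sub_eq_add_neg]
  exact le_trans (le_min ha (by rwa [order_neg])) (min_order_le_order_add _ _)

theorem le_order_add {a b : k⟦X⟧} {j : ℕ∞} (ha : j ≤ order a) (hb : j ≤ order b) :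
    j ≤ order (a + b) :=
  le_trans (le_min ha hb) (min_order_le_order_add _ _)

theorem le_order_sum {ι : Type*} (s : Finset ι) (f : ι → k⟦X⟧) (j : ℕ∞)
    (h : ∀ i ∈ s, j ≤ order (f i)) : j ≤ order (∑ i ∈ s, f i) := by
  classical
  induction s using Finset.induction_on with
  | empty => simp
  | insert a s ha ih =>
    rw [Finset.sum_insert ha]
    exact le_order_add (h a (Finset.mem_insert_self a s))
      (ih (fun i hi => h i (Finset.mem_insert_of_mem hi)))

theorem eq_zero_of_forall_le_order (a : k⟦X⟧) (h : ∀ j : ℕ, (j : ℕ∞) ≤ order a) : a = 0 := by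
  by_contra hne
  have hfin := order_finite_iff_ne_zero.mpr hne
  obtain ⟨n, hn⟩ := ENat.ne_top_iff_exists.mp (ne_of_lt hfin)
  have := h (n + 1)
  rw [← hn] at this
  have h2 : n + 1 ≤ n := by exact_mod_cast this
  omega

/-- closed subalgebras are sequentially complete -/
theorem exists_limit (A : Subalgebra k k⟦X⟧)
    (hcl : ∀ f : k⟦X⟧, (∀ n : ℕ, ∃ g ∈ A, (n : ℕ∞) ≤ order (f - g)) → f ∈ A)
    (s : ℕ → k⟦X⟧) (hs : ∀ j, s j ∈ A) (hc : ∀ j : ℕ, (j : ℕ∞) ≤ order (s (j + 1) - s j)) :
    ∃ S ∈ A, ∀ j : ℕ, (j : ℕ∞) ≤ order (S - s j) := by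
  have tel : ∀ i d : ℕ, (i : ℕ∞) ≤ order (s (i + d) - s i) := by
    intro i d
    induction d with
    | zero => simp
    | succ d ih =>
      have e : s (i + (d + 1)) - s i = (s (i + d + 1) - s (i + d)) + (s (i + d) - s i) := by
        rw [← add_assoc]; ring
      rw [e]
      refine le_order_add (le_trans ?_ (hc (i + d))) ih
      exact_mod_cast Nat.le_add_right i d
  let S : k⟦X⟧ := PowerSeries.mk fun i => coeff i (s (i + 1))
  have hS : ∀ j : ℕ, (j : ℕ∞) ≤ order (S - s j) := by
    intro j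
    apply nat_le_order
    intro i hi
    obtain ⟨d, rfl⟩ : ∃ d, j = (i + 1) + d := ⟨j - (i + 1), by omega⟩
    have h1 := tel (i + 1) d
    have h2 : coeff i (s (i + 1 + d) - s (i + 1)) = 0 :=
      coeff_of_lt_order i (lt_of_lt_of_le (by exact_mod_cast Nat.lt_succ_self i) h1)
    rw [map_sub] at h2 ⊢
    rw [coeff_mk]
    rw [sub_eq_zero] at h2 ⊢
    exact h2.symm
  exact ⟨S, hcl S (fun n => ⟨s n, hs n, hS n⟩), hS⟩

/-- **Closedness**: a submodule of `k⟦X⟧` over a closed subalgebra `A` containing an element of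
positive finite order is closed for the `X`-adic topology. -/
theorem mem_of_forall_approx (A : Subalgebra k k⟦X⟧)
    (hcl : ∀ f : k⟦X⟧, (∀ n : ℕ, ∃ g ∈ A, (n : ℕ∞) ≤ order (f - g)) → f ∈ A)
    (x : k⟦X⟧) (hxA : x ∈ A) (m : ℕ) (hm : 0 < m) (hx : order x = m)
    (N : Submodule ↥A k⟦X⟧) (F : k⟦X⟧)
    (hF : ∀ j : ℕ, ∃ g ∈ N, (j : ℕ∞) ≤ order (F - g)) : F ∈ N := by
  classical
  -- membership of products
  have hmulN : ∀ a ∈ A, ∀ g ∈ N, a * g ∈ N := fun a ha g hg => N.smul_mem ⟨a, ha⟩ hg
  -- Step 1: minimal elements in each residue class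
  have key : ∀ r : ℕ, ∃ (fr : k⟦X⟧) (er : ℕ), fr ∈ N ∧ ∀ g ∈ N, ∀ n : ℕ, order g = n →
      n % m = r → (order fr = er ∧ er ≤ n ∧ er % m = r) := by
    intro r
    by_cases h : ∃ n : ℕ, ∃ g ∈ N, order g = n ∧ n % m = r
    · obtain ⟨g₀, hg₀N, hg₀, hg₀r⟩ := Nat.find_spec h
      refine ⟨g₀, Nat.find h, hg₀N, fun g hg n hn hnr => ⟨hg₀, ?_, hg₀r⟩⟩
      exact Nat.find_min' h ⟨g, hg, hn, hnr⟩
    · refine ⟨0, 0, N.zero_mem, fun g hg n hn hnr => ?_⟩
      exact absurd ⟨n, g, hg, hn, hnr⟩ h
  choose f e hfN hfe using key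
  set E : ℕ := ∑ r ∈ Finset.range m, e r with hE
  have heE : ∀ r, r < m → e r ≤ E := fun r hr =>
    Finset.single_le_sum (f := e) (fun _ _ => Nat.zero_le _) (Finset.mem_range.mpr hr)
  -- Step 2: the approximation step
  have step : ∀ (j : ℕ) (c : ℕ → k⟦X⟧), ((∀ r, c r ∈ A) ∧
      (j : ℕ∞) ≤ order (F - ∑ r ∈ Finset.range m, c r * f r)) →
      ∃ c' : ℕ → k⟦X⟧, ((∀ r, c' r ∈ A) ∧
        ((j + 1 : ℕ) : ℕ∞) ≤ order (F - ∑ r ∈ Finset.range m, c' r * f r)) ∧
        ∀ r, ((j - E : ℕ) : ℕ∞) ≤ order (c' r - c r) := by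
    rintro j c ⟨hcA, hcj⟩
    set G : k⟦X⟧ := F - ∑ r ∈ Finset.range m, c r * f r with hG
    have hsumN : ∑ r ∈ Finset.range m, c r * f r ∈ N :=
      N.sum_mem (fun r _ => hmulN _ (hcA r) _ (hfN r))
    have hGcl : ∀ i : ℕ, ∃ g ∈ N, (i : ℕ∞) ≤ order (G - g) := by
      intro i
      obtain ⟨g₀, hg₀, hg₀i⟩ := hF i
      refine ⟨g₀ - ∑ r ∈ Finset.range m, c r * f r, N.sub_mem hg₀ hsumN, ?_⟩
      have : G - (g₀ - ∑ r ∈ Finset.range m, c r * f r) = F - g₀ := by rw [hG]; ring
      rw [this]
      exact hg₀i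
    by_cases hlt : ((j + 1 : ℕ) : ℕ∞) ≤ order G
    · exact ⟨c, ⟨hcA, hlt⟩, fun r => by simp⟩
    · -- order G = j
      have hGj : order G = j := by
        refine le_antisymm ?_ hcj
        have := not_le.mp hlt
        exact Order.le_of_lt_succ (by simpa using this)
      obtain ⟨g, hgN, hg⟩ := hGcl (j + 1)
      have hGj' := order_eq_nat.mp hGj
      have hgj : order g = j := by
        rw [order_eq_nat]
        have hcoef : ∀ i : ℕ, i ≤ j → coeff i g = coeff i G := by
          intro i hi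
          have h0 : coeff i (G - g) = 0 :=
            coeff_of_lt_order i (lt_of_lt_of_le (by exact_mod_cast Nat.lt_succ_of_le hi) hg)
          rw [map_sub, sub_eq_zero] at h0
          exact h0.symm
        refine ⟨by rw [hcoef j le_rfl]; exact hGj'.1, fun i hi => ?_⟩
        rw [hcoef i hi.le]
        exact hGj'.2 i hi
      obtain ⟨hfr, herj, hemod⟩ := hfe (j % m) g hgN j hgj rfl
      set r₀ := j % m with hr₀
      have hr₀m : r₀ < m := Nat.mod_lt _ hm
      set q := (j - e r₀) / m with hq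
      have hqm : q * m + e r₀ = j := by
        have h1 : (j - e r₀) % m = 0 := Nat.sub_mod_eq_zero_of_mod_eq hemod.symm
        have h2 : q * m = j - e r₀ := Nat.div_mul_cancel (Nat.dvd_of_mod_eq_zero h1)
        omega
      set y : k⟦X⟧ := x ^ q * f r₀ with hy
      have hyord : order y = j := by
        rw [hy, order_mul, order_pow, hx, hfr, nsmul_eq_mul]
        exact_mod_cast hqm
      have hy' := order_eq_nat.mp hyord
      set lam : k := coeff j G / coeff j y with hlam
      refine ⟨fun r => c r + (if r = r₀ then lam • x ^ q else 0), ⟨fun r => ?_, ?_⟩, fun r => ?_⟩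
      · refine A.add_mem (hcA r) ?_
        split_ifs
        · exact A.smul_mem (A.pow_mem hxA q) lam
        · exact A.zero_mem
      · have hsum : ∑ r ∈ Finset.range m, (c r + (if r = r₀ then lam • x ^ q else 0)) * f r =
            ∑ r ∈ Finset.range m, c r * f r + lam • y := by
          simp only [add_mul, Finset.sum_add_distrib, ite_mul, zero_mul]
          rw [Finset.sum_ite_eq' (Finset.range m) r₀, if_pos (Finset.mem_range.mpr hr₀m), hy,
            smul_mul_assoc]
        rw [hsum]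
        have e1 : F - (∑ r ∈ Finset.range m, c r * f r + lam • y) = G - lam • y := by
          rw [hG]; ring
        rw [e1]
        apply nat_le_order
        intro i hi
        rw [map_sub, coeff_smul]
        rcases Nat.lt_succ_iff_lt_or_eq.mp hi with hlt' | heq
        · rw [hGj'.2 i hlt', hy'.2 i hlt', smul_zero, sub_zero]
        · subst heq
          rw [hlam, smul_eq_mul, div_mul_cancel₀ _ hy'.1, sub_self]
      · have : c r + (if r = r₀ then lam • x ^ q else 0) - c r =
            (if r = r₀ then lam • x ^ q else 0) := by ring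
        rw [this]
        split_ifs
        · refine le_trans ?_ (le_order_smul (a := lam) (φ := x ^ q))
          rw [order_pow, hx, nsmul_eq_mul]
          have h3 : j - E ≤ q * m := by
            have := heE r₀ hr₀m
            omega
          exact_mod_cast h3
        · simp
  -- Step 3: the sequence of approximants
  choose! next hnext using step
  let cs : ℕ → ℕ → k⟦X⟧ := fun j => Nat.rec (fun _ => 0) (fun j c => next j c) j
  have hcs0 : cs 0 = fun _ => 0 := rfl
  have hcsS : ∀ j, cs (j + 1) = next j (cs j) := fun j => rfl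
  have hgood : ∀ j : ℕ, (∀ r, cs j r ∈ A) ∧
      (j : ℕ∞) ≤ order (F - ∑ r ∈ Finset.range m, cs j r * f r) := by
    intro j
    induction j with
    | zero => exact ⟨fun r => by rw [hcs0]; exact A.zero_mem, by simp⟩
    | succ j ih => rw [hcsS]; exact (hnext j _ ih).1
  have hcauchy : ∀ j r : ℕ, ((j - E : ℕ) : ℕ∞) ≤ order (cs (j + 1) r - cs j r) := by
    intro j r
    rw [hcsS]
    exact (hnext j _ (hgood j)).2 r
  -- Step 4: limits
  have hlim : ∀ r : ℕ, ∃ S ∈ A, ∀ j : ℕ, (j : ℕ∞) ≤ order (S - cs (j + E) r) := by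
    intro r
    refine exists_limit A hcl (fun j => cs (j + E) r) (fun j => (hgood (j + E)).1 r) (fun j => ?_)
    have := hcauchy (j + E) r
    rw [Nat.add_sub_cancel] at this
    have e1 : j + 1 + E = j + E + 1 := by ring
    simp only [e1]
    exact this
  choose S hSA hS using hlim
  -- Step 5: `F = ∑ S r * f r`
  have hzero : F - ∑ r ∈ Finset.range m, S r * f r = 0 := by
    apply eq_zero_of_forall_le_order
    intro j
    have e1 : F - ∑ r ∈ Finset.range m, S r * f r =
        (F - ∑ r ∈ Finset.range m, cs (j + E) r * f r) -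
          ∑ r ∈ Finset.range m, (S r - cs (j + E) r) * f r := by
      simp only [sub_mul, Finset.sum_sub_distrib]
      ring
    rw [e1]
    refine le_order_sub (le_trans ?_ (hgood (j + E)).2) (le_order_sum _ _ _ (fun r _ => ?_))
    · exact_mod_cast Nat.le_add_right j E
    · exact le_trans (le_trans (hS r j) le_self_add) (le_order_mul _ _)
  rw [sub_eq_zero] at hzero
  rw [hzero]
  exact N.sum_mem (fun r _ => hmulN _ (hSA r) _ (hfN r))

/-- a subalgebra over which `k⟦X⟧` is finite contains an element of positive finite order -/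
theorem exists_pos_order (A : Subalgebra k k⟦X⟧) (hA : Module.Finite ↥A k⟦X⟧) :
    ∃ x ∈ A, ∃ m : ℕ, 0 < m ∧ order x = m := by
  by_contra hne
  push Not at hne
  have hbot : A = ⊥ := by
    rw [eq_bot_iff]
    intro a ha
    rw [Algebra.mem_bot]
    refine ⟨constantCoeff a, ?_⟩
    have h1 : a - C (constantCoeff a) ∈ A := A.sub_mem ha (A.algebraMap_mem _)
    by_contra hne'
    have hne0 : a - C (constantCoeff a) ≠ 0 := fun h => hne' (sub_eq_zero.mp h).symm
    have hfin := order_finite_iff_ne_zero.mpr hne0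
    obtain ⟨n, hn⟩ := ENat.ne_top_iff_exists.mp (ne_of_lt hfin)
    have hn0 : 0 < n := by
      rcases Nat.eq_zero_or_pos n with h0 | h0
      · exfalso
        subst h0
        have := (order_eq_nat.mp hn.symm).1
        simp at this
      · exact h0
    exact hne _ h1 n hn0 hn.symm
  subst hbot
  haveI : Module.Finite k k⟦X⟧ := Module.Finite.trans (⊥ : Subalgebra k k⟦X⟧) k⟦X⟧
  have hfield : IsField k⟦X⟧ := by
    haveI : IsArtinianRing k⟦X⟧ := IsArtinianRing.of_finite k k⟦X⟧
    exact IsArtinianRing.isField_of_isDomain k⟦X⟧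
  obtain ⟨y, hy⟩ := hfield.mul_inv_cancel (X_ne_zero (R := k))
  have := congrArg constantCoeff hy
  simp at this

/-- if every `n ≥ c` is the order of an element of `N`, every series of order `≥ c` is a limit of
elements of `N` -/
theorem approx_of_orders (A : Subalgebra k k⟦X⟧) (N : Submodule ↥A k⟦X⟧) (c : ℕ)
    (hc : ∀ n : ℕ, c ≤ n → ∃ g ∈ N, order g = n) (F : k⟦X⟧) (hF : (c : ℕ∞) ≤ order F) :
    ∀ n : ℕ, ∃ g ∈ N, (n : ℕ∞) ≤ order (F - g) := by
  intro n
  induction n with
  | zero => exact ⟨0, N.zero_mem, by simp⟩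
  | succ n ih =>
    obtain ⟨g, hgN, hg⟩ := ih
    by_cases hnc : n < c
    · refine ⟨0, N.zero_mem, ?_⟩
      rw [sub_zero]
      refine le_trans ?_ hF
      exact_mod_cast hnc
    · push Not at hnc
      obtain ⟨h, hhN, hh⟩ := hc n hnc
      have hh' := order_eq_nat.mp hh
      set a := coeff n (F - g) with ha
      set b := coeff n h with hbdef
      have hsm : (a / b) • h ∈ N := by
        have := N.smul_mem (algebraMap k ↥A (a / b)) hhN
        rwa [algebraMap_smul] at this
      refine ⟨g + (a / b) • h, N.add_mem hgN hsm, ?_⟩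
      apply nat_le_order
      intro i hi
      have e : F - (g + (a / b) • h) = (F - g) - (a / b) • h := by ring
      rw [e, map_sub, coeff_smul]
      rcases Nat.lt_succ_iff_lt_or_eq.mp hi with hlt | heq
      · rw [coeff_of_lt_order i (lt_of_lt_of_le (by exact_mod_cast hlt) hg), hh'.2 i hlt]
        simp
      · subst heq
        rw [← ha, ← hbdef, smul_eq_mul, div_mul_cancel₀ a hh'.1, sub_self]

/-- **Conductor for modules**: if `N` realises all orders `≥ c`, it contains every series of order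
`≥ c`. -/
theorem mem_of_order_ge (A : Subalgebra k k⟦X⟧) (hA : Module.Finite ↥A k⟦X⟧)
    (hcl : ∀ f : k⟦X⟧, (∀ n : ℕ, ∃ g ∈ A, (n : ℕ∞) ≤ order (f - g)) → f ∈ A)
    (N : Submodule ↥A k⟦X⟧) (c : ℕ) (hc : ∀ n : ℕ, c ≤ n → ∃ g ∈ N, order g = n) (F : k⟦X⟧)
    (hF : (c : ℕ∞) ≤ order F) : F ∈ N := by
  obtain ⟨x, hxA, m, hm, hx⟩ := exists_pos_order A hA
  exact mem_of_forall_approx A hcl x hxA m hm hx N F (approx_of_orders A N c hc F hF)

end Groth.Agent.R2.H69.PSClosed
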