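import Groth.Agent.Lib.Helper20Perfection

/-!
# A scheme whose perfection is affine is affine (helper69)

`π : XP ⟶ X` a perfection in characteristic `p`.  On quasi-compact opens the kernel of
`Γ(X, W) → Γ(XP, π⁻¹W)` is `p`-power nilpotent (`KN`), and on quasi-compact opens of a
quasi-separated `X` every section of `XP` has a `p`-power coming from `X` (`PR`).  If `XP` is affine
this gives enough global sections on `X` to apply the affineness criterion.
-/

set_option autoImplicit false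

universe u

namespace Groth.Agent.R2.H69.PerfAffine

open AlgebraicGeometry CategoryTheory FrobSch Opposite TopologicalSpace
open Groth.Agent.Lib.Helper20.Perfection Groth.Agent.Lib.Helper20.AWN

section Ring

variable (p : ℕ) [Fact p.Prime]

theorem iterate_powHom_apply (R : Type u) [CommRing R] (h : (p : R) = 0) (n : ℕ) (x : R) :
    (powHom p R h)^[n] x = x ^ p ^ n := by
  induction n with
  | zero => simp
  | succ n ih => rw [Function.iterate_succ_apply', ih, powHom_apply, ← pow_mul, pow_succ]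

theorem sub_pow_pow (R : Type u) [CommRing R] (h : (p : R) = 0) (n : ℕ) (x y : R) :
    (x - y) ^ p ^ n = x ^ p ^ n - y ^ p ^ n := by
  rw [← iterate_powHom_apply p R h, ← iterate_powHom_apply p R h, ← iterate_powHom_apply p R h]
  exact iterate_map_sub _ _ _ _

theorem add_pow_pow (R : Type u) [CommRing R] (h : (p : R) = 0) (n : ℕ) (x y : R) :
    (x + y) ^ p ^ n = x ^ p ^ n + y ^ p ^ n := by
  rw [← iterate_powHom_apply p R h, ← iterate_powHom_apply p R h, ← iterate_powHom_apply p R h]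
  exact iterate_map_add _ _ _ _

end Ring

section Res

variable {X Y : Scheme.{u}}

/-- restriction of sections -/
noncomputable abbrev res (X : Scheme.{u}) {V U : X.Opens} (hle : V ≤ U) : Γ(X, U) →+* Γ(X, V) :=
  (X.presheaf.map (homOfLE hle).op).hom

theorem res_res (X : Scheme.{u}) {W V U : X.Opens} (h₁ : W ≤ V) (h₂ : V ≤ U) (a : Γ(X, U)) :
    res X h₁ (res X h₂ a) = res X (h₁.trans h₂) a := by
  change ((X.presheaf.map (homOfLE h₂).op) ≫ (X.presheaf.map (homOfLE h₁).op)).hom a = _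
  rw [← Functor.map_comp]
  rfl

theorem app_res (f : X ⟶ Y) {V U : Y.Opens} (hle : V ≤ U) (a : Γ(Y, U)) :
    (f.app V).hom (res Y hle a) =
      res X (show f ⁻¹ᵁ V ≤ f ⁻¹ᵁ U from fun _ hx => hle hx) ((f.app U).hom a) := by
  have := f.naturality (homOfLE hle).op
  exact congrArg (fun φ => φ.hom a) this

theorem eq_of_res_eq₂ (X : Scheme.{u}) {U₁ U₂ V : X.Opens} (h₁ : U₁ ≤ V) (h₂ : U₂ ≤ V)
    (hcover : V ≤ U₁ ⊔ U₂) (s t : Γ(X, V)) (e₁ : res X h₁ s = res X h₁ t)
    (e₂ : res X h₂ s = res X h₂ t) : s = t :=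
  X.sheaf.eq_of_locally_eq₂ (homOfLE h₁) (homOfLE h₂) hcover s t e₁ e₂

theorem exists_glue₂ (X : Scheme.{u}) (U V : X.Opens) (x : Γ(X, U)) (y : Γ(X, V))
    (h : res X (inf_le_left : U ⊓ V ≤ U) x = res X (inf_le_right : U ⊓ V ≤ V) y) :
    ∃ s : Γ(X, U ⊔ V), res X (le_sup_left : U ≤ U ⊔ V) s = x ∧
      res X (le_sup_right : V ≤ U ⊔ V) s = y := by
  let z : (RingHom.eqLocus
      (RingHom.comp (X.sheaf.obj.map (homOfLE inf_le_left : U ⊓ V ⟶ U).op).hom
        (RingHom.fst (X.sheaf.obj.obj <| op U) (X.sheaf.obj.obj <| op V)))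
      (RingHom.comp (X.sheaf.obj.map (homOfLE inf_le_right : U ⊓ V ⟶ V).op).hom
        (RingHom.snd (X.sheaf.obj.obj <| op U) (X.sheaf.obj.obj <| op V)))) := ⟨(x, y), h⟩
  refine ⟨(X.sheaf.objSupIsoProdEqLocus U V).inv z, ?_, ?_⟩
  · exact X.sheaf.objSupIsoProdEqLocus_inv_fst U V z
  · exact X.sheaf.objSupIsoProdEqLocus_inv_snd U V z

end Res

section Main

variable (p : ℕ) [Fact p.Prime] {XP X : Scheme.{u}} (π : XP ⟶ X) [IsCharP XP p] [IsCharP X p]

/-- the kernel of `Γ(X, W) → Γ(XP, π⁻¹W)` is `p`-power nilpotent -/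
def KN (W : X.Opens) : Prop := ∀ a : Γ(X, W), (π.app W).hom a = 0 → ∃ n : ℕ, a ^ p ^ n = 0

/-- every section over `π⁻¹W` has a `p`-power coming from `W` -/
def PR (W : X.Opens) : Prop :=
  ∀ t : Γ(XP, π ⁻¹ᵁ W), ∃ (n : ℕ) (a : Γ(X, W)), (π.app W).hom a = t ^ p ^ n

variable {π}

theorem KN_of_isAffineOpen (hπ : IsPerfection π p) (U : X.Opens) (hU : IsAffineOpen U) :
    KN p π U := by
  intro a ha
  obtain ⟨h1, h2, h3⟩ := props_of_isPerfection p π hπ
  have : IsAffineHom π := inferInstance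
  have hUH : UH (π.app U).hom := by
    have := Groth.Agent.Lib.Helper20.PerfSch.isUnivHomeo_SpecMap_app π
      (isUnivHomeo_of_isPerfection p π hπ) U hU
    rwa [← isUnivHomeo_iff_UH]
  have hnil : a ∈ nilradical Γ(X, U) := UH.ker_le_nilradical _ hUH (RingHom.mem_ker.mpr ha)
  obtain ⟨m, hm⟩ := hnil
  exact ⟨m, pow_eq_zero_of_le (Nat.lt_pow_self (Fact.out : p.Prime).one_lt).le hm⟩

theorem PR_of_isAffineOpen (hπ : IsPerfection π p) (U : X.Opens) (hU : IsAffineOpen U) :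
    PR p π U := by
  intro t
  obtain ⟨n, a, ha⟩ := exists_pow_eq_app_of_isPerfection p π hπ U hU t
  exact ⟨n, a, ha⟩

theorem KN_bot : KN p π ⊥ := fun a _ => ⟨0, Subsingleton.elim _ _⟩

theorem PR_bot : PR p π ⊥ := fun t => ⟨0, 0, by
  have : Subsingleton Γ(XP, π ⁻¹ᵁ ⊥) := inferInstanceAs (Subsingleton Γ(XP, ⊥))
  exact Subsingleton.elim _ _⟩

theorem KN_sup (S U : X.Opens) (hS : KN p π S) (hU : KN p π U) : KN p π (S ⊔ U) := by
  intro a ha
  have hS' : (π.app S).hom (res X (le_sup_left : S ≤ S ⊔ U) a) = 0 := by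
    rw [app_res, ha, map_zero]
  have hU' : (π.app U).hom (res X (le_sup_right : U ≤ S ⊔ U) a) = 0 := by
    rw [app_res, ha, map_zero]
  obtain ⟨n₁, h₁⟩ := hS _ hS'
  obtain ⟨n₂, h₂⟩ := hU _ hU'
  refine ⟨n₁ + n₂, ?_⟩
  apply eq_of_res_eq₂ X (le_sup_left : S ≤ S ⊔ U) (le_sup_right : U ≤ S ⊔ U) le_rfl
  · rw [map_pow, map_zero, pow_add, pow_mul, h₁, zero_pow (pow_pos (Fact.out : p.Prime).pos _).ne']
  · rw [map_pow, map_zero, pow_add, mul_comm, pow_mul, h₂,
      zero_pow (pow_pos (Fact.out : p.Prime).pos _).ne']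

theorem KN_of_isCompact (hπ : IsPerfection π p) (S : X.Opens) (hS : IsCompact (S : Set X)) :
    KN p π S := by
  refine compact_open_induction_on (P := fun S => KN p π S) S hS (KN_bot p) ?_
  intro S _ U hSK
  exact KN_sup p S U.1 hSK (KN_of_isAffineOpen p hπ U.1 U.2)

theorem PR_sup (S U : X.Opens) (hS : PR p π S) (hU : PR p π U) (hSU : KN p π (S ⊓ U)) :
    PR p π (S ⊔ U) := by
  intro t
  have hp0 : ∀ W : XP.Opens, (p : Γ(XP, W)) = 0 := fun W => natCast_eq_zero_app XP p W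
  have hpX : ∀ W : X.Opens, (p : Γ(X, W)) = 0 := fun W => natCast_eq_zero_app X p W
  have leS : π ⁻¹ᵁ S ≤ π ⁻¹ᵁ (S ⊔ U) := fun _ hx => (le_sup_left : S ≤ S ⊔ U) hx
  have leU : π ⁻¹ᵁ U ≤ π ⁻¹ᵁ (S ⊔ U) := fun _ hx => (le_sup_right : U ≤ S ⊔ U) hx
  obtain ⟨n₁, s, hs⟩ := hS (res XP leS t)
  obtain ⟨n₂, u, hu⟩ := hU (res XP leU t)
  -- common exponent
  have hs' : (π.app S).hom (s ^ p ^ n₂) = (res XP leS t) ^ p ^ (n₁ + n₂) := by
    rw [map_pow, hs, ← pow_mul, ← pow_add]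
  have hu' : (π.app U).hom (u ^ p ^ n₁) = (res XP leU t) ^ p ^ (n₁ + n₂) := by
    rw [map_pow, hu, ← pow_mul, ← pow_add, add_comm]
  -- difference on the intersection
  have hd : (π.app (S ⊓ U)).hom (res X (inf_le_left : S ⊓ U ≤ S) (s ^ p ^ n₂) -
      res X (inf_le_right : S ⊓ U ≤ U) (u ^ p ^ n₁)) = 0 := by
    rw [map_sub, app_res, app_res, hs', hu', map_pow, map_pow, res_res, res_res, sub_self]
  obtain ⟨l, hl⟩ := hSU _ hd
  rw [sub_pow_pow p _ (hpX _), sub_eq_zero, ← map_pow, ← map_pow] at hl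
  obtain ⟨g, hg₁, hg₂⟩ := exists_glue₂ X S U _ _ hl
  refine ⟨n₁ + n₂ + l, g, ?_⟩
  apply eq_of_res_eq₂ XP leS leU le_rfl
  · have e := app_res π (le_sup_left : S ≤ S ⊔ U) g
    rw [hg₁] at e
    rw [← e, map_pow, hs', map_pow, ← pow_mul, ← pow_add]
  · have e := app_res π (le_sup_right : U ≤ S ⊔ U) g
    rw [hg₂] at e
    rw [← e, map_pow, hu', map_pow, ← pow_mul, ← pow_add]

theorem PR_of_isCompact [QuasiSeparatedSpace X] (hπ : IsPerfection π p) (S : X.Opens)
    (hS : IsCompact (S : Set X)) : PR p π S := by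
  refine compact_open_induction_on (P := fun S => PR p π S) S hS (PR_bot p) ?_
  intro S hSc U hSP
  refine PR_sup p S U.1 hSP (PR_of_isAffineOpen p hπ U.1 U.2) ?_
  apply KN_of_isCompact p hπ
  exact QuasiSeparatedSpace.inter_isCompact _ _ S.2 hSc U.1.2 U.2.isCompact

/-- **Key**: a scheme whose perfection is affine is affine. -/
theorem isAffine_of_isPerfection_of_isAffine (hπ : IsPerfection π p) [IsAffine XP] :
    IsAffine X := by
  have hhomeo := isHomeomorph_of_isPerfection p π hπ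
  obtain ⟨hint, hinj, hsurj⟩ := props_of_isPerfection p π hπ
  haveI : CompactSpace X := hhomeo.homeomorph.compactSpace
  haveI : QuasiSeparatedSpace X :=
    (hhomeo.homeomorph.symm.isOpenEmbedding).quasiSeparatedSpace
  have hKN : KN p π ⊤ := KN_of_isCompact p hπ ⊤ isCompact_univ
  have hPR : PR p π ⊤ := PR_of_isCompact p hπ ⊤ isCompact_univ
  -- the ring map on global sections is integral with nil kernel
  have hψint : (π.app ⊤).hom.IsIntegral := by
    intro t
    obtain ⟨n, a, ha⟩ := hPR t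
    refine ⟨Polynomial.X ^ p ^ n - Polynomial.C a,
      Polynomial.monic_X_pow_sub_C a (pow_pos (Fact.out : p.Prime).pos _).ne', ?_⟩
    rw [Polynomial.eval₂_sub, Polynomial.eval₂_pow, Polynomial.eval₂_X, Polynomial.eval₂_C, ha,
      sub_self]
  have hψker : RingHom.ker (π.app ⊤).hom ≤ nilradical Γ(X, ⊤) := by
    intro a ha
    obtain ⟨n, hn⟩ := hKN a (RingHom.mem_ker.mp ha)
    exact ⟨p ^ n, hn⟩
  have hspec := comap_surjective_of_isIntegral_of_ker_le (π.app ⊤).hom hψint hψker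
  apply isAffine_of_isAffineOpen_basicOpen {h : Γ(X, ⊤) | IsAffineOpen (X.basicOpen h)}
  · by_contra hne
    obtain ⟨m, hm, hle⟩ := Ideal.exists_le_maximal _ hne
    obtain ⟨Q, hQ⟩ := hspec ⟨m, hm.isPrime⟩
    obtain ⟨y, hy⟩ := XP.toSpecΓ.surjective Q
    obtain ⟨_, ⟨U, hU, rfl⟩, hxU, -⟩ :=
      X.isBasis_affineOpens.exists_subset_of_mem_open (Set.mem_univ (π y)) isOpen_univ
    obtain ⟨g, hgle, hyg⟩ :=
      (isAffineOpen_top XP).exists_basicOpen_le (V := π ⁻¹ᵁ U) ⟨y, hxU⟩ trivial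
    obtain ⟨n, h, hh⟩ := hPR g
    have e1 : π ⁻¹ᵁ (X.basicOpen h) = XP.basicOpen g := by
      rw [Scheme.preimage_basicOpen]
      change XP.basicOpen ((π.app ⊤).hom h) = _
      rw [hh]
      exact Scheme.basicOpen_pow (X := XP) (U := ⊤) g (pow_pos (Fact.out : p.Prime).pos _)
    have hhU : X.basicOpen h ≤ U := by
      intro z hz
      obtain ⟨w, rfl⟩ := π.surjective z
      have hw : w ∈ π ⁻¹ᵁ (X.basicOpen h) := hz
      rw [e1] at hw
      exact hgle hw
    have haff : IsAffineOpen (X.basicOpen h) := by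
      have h3 := hU.basicOpen (res X (le_top : U ≤ ⊤) h)
      rwa [Scheme.basicOpen_res, inf_eq_right.mpr hhU] at h3
    have hm' : h ∈ m := hle (Ideal.subset_span haff)
    have hQ' : (π.app ⊤).hom h ∈ Q.asIdeal := by
      have : h ∈ (PrimeSpectrum.comap (π.app ⊤).hom Q).asIdeal := by rw [hQ]; exact hm'
      exact this
    rw [hh] at hQ'
    have hgQ : g ∈ Q.asIdeal := Q.2.mem_of_pow_mem _ hQ'
    have hyg' : y ∈ XP.toSpecΓ ⁻¹ᵁ (PrimeSpectrum.basicOpen g) := by
      rw [Scheme.toSpecΓ_preimage_basicOpen]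
      exact hyg
    have : XP.toSpecΓ y ∈ PrimeSpectrum.basicOpen g := hyg'
    rw [hy] at this
    exact this hgQ
  · intro i hi
    exact hi

end Main

end Groth.Agent.R2.H69.PerfAffine
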