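import Groth.Agent.Lib.Helper14ML
import Mathlib.RingTheory.Flat.Basic
import Mathlib.Algebra.Module.Torsion.Basic
import Mathlib.LinearAlgebra.TensorProduct.Tower

/-!
# H69: Mittag-Leffler modules and a trace element

If `σ : S →ₗ[A] A` has `σ 1 = g`, then for a flat `A`-module `W` the Mittag-Leffler property
of `W` follows from that of `S ⊗ W` over `S` and of `W/gW` over `A/g`.
-/

set_option autoImplicit false
set_option linter.unusedSectionVars false
set_option linter.style.haveILetI false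

open TensorProduct

universe u

namespace Groth.Agent.R2.H69.ProjFinDescA

open Groth.Agent.Lib.Helper14.ML

section BaseChange

variable (A B : Type u) [CommRing A] [CommRing B] [Algebra A B]
variable (W : Type u) [AddCommGroup W] [Module A W]

/-- `W ⊗[A] P ≃ (B ⊗[A] W) ⊗[B] P` for a `B`-module `P`. -/
noncomputable def bcEquiv (P : Type u) [AddCommGroup P] [Module A P] [Module B P]
    [IsScalarTower A B P] : W ⊗[A] P ≃ₗ[A] (B ⊗[A] W) ⊗[B] P :=
  (TensorProduct.comm A W P) ≪≫ₗ
    ((AlgebraTensorModule.cancelBaseChange A B B P W).symm.restrictScalars A) ≪≫ₗ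
    ((TensorProduct.comm B P (B ⊗[A] W)).restrictScalars A)

theorem bcEquiv_tmul (P : Type u) [AddCommGroup P] [Module A P] [Module B P]
    [IsScalarTower A B P] (w : W) (p : P) :
    bcEquiv A B W P (w ⊗ₜ p) = ((1 : B) ⊗ₜ[A] w) ⊗ₜ[B] p := rfl

theorem bcEquiv_natural {P P' : Type u} [AddCommGroup P] [Module A P] [Module B P]
    [IsScalarTower A B P] [AddCommGroup P'] [Module A P'] [Module B P']
    [IsScalarTower A B P'] (f : P →ₗ[B] P') (z : W ⊗[A] P) :
    f.lTensor (B ⊗[A] W) (bcEquiv A B W P z) =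
      bcEquiv A B W P' ((f.restrictScalars A).lTensor W z) := by
  induction z using TensorProduct.induction_on with
  | zero => simp
  | tmul w p => simp [bcEquiv_tmul]
  | add x y hx hy => simp only [map_add, hx, hy]

/-- If `B ⊗[A] W` is Mittag-Leffler over `B`, then `W ⊗[A] -` commutes injectively with products
of families of `B`-modules. -/
theorem eq_zero_of_isMittagLeffler_baseChange
    (hML : CAlg.IsMittagLeffler B (B ⊗[A] W))
    (ι : Type u) (P : ι → Type u) [∀ i, AddCommGroup (P i)] [∀ i, Module A (P i)]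
    [∀ i, Module B (P i)] [∀ i, IsScalarTower A B (P i)]
    (z : W ⊗[A] (∀ i, P i))
    (hz : ∀ i, (LinearMap.proj i : (∀ i, P i) →ₗ[A] P i).lTensor W z = 0) : z = 0 := by
  rw [isMittagLeffler_iff] at hML
  have h1 : bcEquiv A B W (∀ i, P i) z = 0 := by
    apply hML ι P
    intro i
    rw [bcEquiv_natural]
    have : (LinearMap.proj i : (∀ i, P i) →ₗ[B] P i).restrictScalars A =
        (LinearMap.proj i : (∀ i, P i) →ₗ[A] P i) := rfl
    rw [this, hz i, map_zero]
  exact (bcEquiv A B W (∀ i, P i)).map_eq_zero_iff.mp h1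

end BaseChange

section Trace

variable (A S : Type u) [CommRing A] [CommRing S] [Algebra A S]
variable (W : Type u) [AddCommGroup W] [Module A W]

/-- Multiplication by `σ 1` on `Q` factors through `S ⊗ Q`. -/
theorem trace_comp (σ : S →ₗ[A] A) (Q : Type u) [AddCommGroup Q] [Module A Q] (q : Q) :
    ((TensorProduct.lid A Q).toLinearMap ∘ₗ σ.rTensor Q) (TensorProduct.mk A S Q 1 q) =
      σ 1 • q := by
  simp

theorem isMittagLeffler_of_trace [Module.Flat A W] (σ : S →ₗ[A] A) (g : A) (hg : σ 1 = g)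
    (hS : CAlg.IsMittagLeffler S (S ⊗[A] W))
    (hq : CAlg.IsMittagLeffler (A ⧸ Ideal.span {g}) ((A ⧸ Ideal.span {g}) ⊗[A] W)) :
    CAlg.IsMittagLeffler A W := by
  rw [isMittagLeffler_iff]
  intro ι Q _ _ z hz
  -- Step 1: `g • z = 0`
  let Ι : (∀ i, Q i) →ₗ[A] (∀ i, S ⊗[A] Q i) :=
    LinearMap.pi fun i => (TensorProduct.mk A S (Q i) 1) ∘ₗ LinearMap.proj i
  let Ρ : (∀ i, S ⊗[A] Q i) →ₗ[A] (∀ i, Q i) :=
    LinearMap.pi fun i => ((TensorProduct.lid A (Q i)).toLinearMap ∘ₗ σ.rTensor (Q i)) ∘ₗ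
      LinearMap.proj i
  have hΡΙ : Ρ ∘ₗ Ι = g • LinearMap.id := by
    apply LinearMap.ext
    intro x
    funext i
    simp [Ρ, Ι, hg]
  have hz1 : Ι.lTensor W z = 0 := by
    apply eq_zero_of_isMittagLeffler_baseChange A S W hS ι (fun i => S ⊗[A] Q i)
    intro i
    rw [← LinearMap.comp_apply, ← LinearMap.lTensor_comp]
    have : (LinearMap.proj i : (∀ i, S ⊗[A] Q i) →ₗ[A] S ⊗[A] Q i) ∘ₗ Ι =
        (TensorProduct.mk A S (Q i) 1) ∘ₗ LinearMap.proj i := by
      apply LinearMap.ext
      intro x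
      rfl
    rw [this, LinearMap.lTensor_comp, LinearMap.comp_apply, hz i, map_zero]
  have hgz : g • z = 0 := by
    have h1 : (Ρ ∘ₗ Ι).lTensor W z = 0 := by
      rw [LinearMap.lTensor_comp, LinearMap.comp_apply, hz1, map_zero]
    rw [hΡΙ] at h1
    rw [LinearMap.lTensor_smul, LinearMap.lTensor_id] at h1
    simpa using h1
  -- Step 2: `z` comes from the `g`-torsion
  let T : ι → Type u := fun i => Submodule.torsionBy A (Q i) g
  let j : (∀ i, T i) →ₗ[A] (∀ i, Q i) :=
    LinearMap.pi fun i => (Submodule.torsionBy A (Q i) g).subtype ∘ₗ LinearMap.proj i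
  let mult : (∀ i, Q i) →ₗ[A] (∀ i, Q i) := g • LinearMap.id
  have hex : Function.Exact j mult := by
    intro x
    constructor
    · intro hx
      have hx' : ∀ i, g • x i = 0 := fun i => congrFun hx i
      refine ⟨fun i => ⟨x i, (Submodule.mem_torsionBy_iff _ _).mpr (hx' i)⟩, ?_⟩
      funext i
      rfl
    · rintro ⟨y, rfl⟩
      funext i
      exact (y i).2
  have hex' : Function.Exact (j.lTensor W) (mult.lTensor W) :=
    Module.Flat.lTensor_exact W hex
  have hmz : mult.lTensor W z = 0 := by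
    show (g • LinearMap.id : (∀ i, Q i) →ₗ[A] (∀ i, Q i)).lTensor W z = 0
    rw [LinearMap.lTensor_smul, LinearMap.lTensor_id]
    simpa using hgz
  obtain ⟨z₀, hz₀⟩ := (hex' z).mp hmz
  -- Step 3: `z₀ = 0`
  have hz₀0 : z₀ = 0 := by
    apply eq_zero_of_isMittagLeffler_baseChange A (A ⧸ Ideal.span {g}) W hq ι T
    intro i
    have hinj : Function.Injective ((Submodule.torsionBy A (Q i) g).subtype.lTensor W) :=
      Module.Flat.lTensor_preserves_injective_linearMap _ (Submodule.injective_subtype _)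
    apply hinj
    rw [map_zero, ← LinearMap.comp_apply, ← LinearMap.lTensor_comp]
    have : (Submodule.torsionBy A (Q i) g).subtype ∘ₗ
        (LinearMap.proj i : (∀ i, T i) →ₗ[A] T i) =
        (LinearMap.proj i : (∀ i, Q i) →ₗ[A] Q i) ∘ₗ j := by
      apply LinearMap.ext
      intro x
      rfl
    rw [this, LinearMap.lTensor_comp, LinearMap.comp_apply, hz₀, hz i]
  rw [← hz₀, hz₀0, map_zero]

end Trace

end Groth.Agent.R2.H69.ProjFinDescA
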