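import Groth.Agent.Lib.Helper14Descent2

/-!
# H69: Kaplansky dévissage descent without flatness of the ring map

A variant of `Groth.Agent.Lib.Helper14.Descent.exists_decomposition` where faithful flatness of
`R → S` is replaced by two hypotheses: quotients of `M` with projective base change are flat, and
countably generated modules with projective base change are projective.
-/

set_option autoImplicit false
set_option linter.unusedSectionVars false
set_option linter.style.haveILetI false

namespace Groth.Agent.R2.H69.ProjFinDescB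

open TensorProduct Groth.Agent.Lib.Helper14.Kaplansky Groth.Agent.Lib.Helper14.BC
open Groth.Agent.Lib.Helper14.Descent

universe u

variable {R : Type u} [CommRing R] {S : Type u} [CommRing S] [Algebra R S]
variable {M : Type u} [AddCommGroup M] [Module R M]

/-- The base change of a submodule `W` which is adapted to a direct summand is projective,
assuming injectivity of the base-changed inclusion. -/
theorem projective_baseChange_of_adapted' {A : Type u} [AddCommGroup A]
    [Module R A] (W : Submodule R A) {D : Type u} [AddCommGroup D] [Module S D]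
    [Module.Projective S D] (β : D →ₗ[S] S ⊗[R] A) (hβ : Function.Injective β)
    (hα : Function.Injective (W.subtype.baseChange S))
    (hrange : W.baseChange S = LinearMap.range β) : Module.Projective S (S ⊗[R] W) := by
  let α : S ⊗[R] W →ₗ[S] S ⊗[R] A := W.subtype.baseChange S
  have hr : LinearMap.range α = LinearMap.range β := hrange
  let e : (S ⊗[R] W) ≃ₗ[S] D :=
    (LinearEquiv.ofInjective α hα).trans
      ((LinearEquiv.ofEq _ _ hr).trans (LinearEquiv.ofInjective β hβ).symm)
  exact Module.Projective.of_equiv e.symm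

/-- The quotient of `M` by a submodule whose base change is a partial sum has projective base
change. -/
theorem projective_baseChange_quotient [Module.Projective S (S ⊗[R] M)]
    {I : Type u} (Q : I → Submodule S (S ⊗[R] M))
    (hind : iSupIndep Q) (htop : ⨆ i, Q i = ⊤) (N : Submodule R M) (J : Set I)
    (hN : N.baseChange S = MJ Q J) : Module.Projective S (S ⊗[R] (M ⧸ N)) := by
  let q : S ⊗[R] M →ₗ[S] S ⊗[R] (M ⧸ N) := N.mkQ.baseChange S
  have hq : Function.Surjective q := by
    have := LinearMap.lTensor_surjective S N.mkQ_surjective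
    exact this
  have hkerq : LinearMap.ker q = MJ Q J := (ker_baseChange_mkQ S N).trans hN
  have hc := isCompl_MJ Q hind htop J
  have hCproj : Module.Projective S (MJ Q Jᶜ) :=
    Module.Projective.of_split (MJ Q Jᶜ).subtype ((MJ Q Jᶜ).projectionOnto _ hc.symm)
      (Submodule.projectionOnto_comp_subtype hc.symm)
  let e : (S ⊗[R] (M ⧸ N)) ≃ₗ[S] MJ Q Jᶜ :=
    (LinearMap.quotKerEquivOfSurjective q hq).symm ≪≫ₗ
      (Submodule.quotEquivOfEq _ _ hkerq) ≪≫ₗ Submodule.quotientEquivOfIsCompl _ _ hc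
  exact Module.Projective.of_equiv e.symm

set_option maxHeartbeats 800000 in
/-- The splitting step. -/
theorem exists_complement' [Module.Projective S (S ⊗[R] M)]
    (hflatQ : ∀ N₂ : Submodule R M, Module.Projective S (S ⊗[R] (M ⧸ N₂)) →
      Module.Flat R (M ⧸ N₂))
    (hcount : ∀ (W : Type u) [AddCommGroup W] [Module R W],
      Module.Projective S (S ⊗[R] W) → CAlg.IsCountablyGenerated R W → Module.Projective R W)
    {I : Type u} (Q : I → Submodule S (S ⊗[R] M))
    (hind : iSupIndep Q) (htop : ⨆ i, Q i = ⊤)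
    (N N₁ : Submodule R M) (I' I₁ : Set I)
    (hN : N.baseChange S = ⨆ i ∈ I', Q i) (hN₁ : N₁.baseChange S = ⨆ i ∈ I₁, Q i)
    (hN₁c : ∃ s : Set M, s.Countable ∧ Submodule.span R s = N₁) :
    ∃ C : Submodule R M, Disjoint N C ∧ N ⊔ C = N ⊔ N₁ ∧
      ∃ s : Set M, s.Countable ∧ Submodule.span R s = C := by
  classical
  -- the quotient and the image `W` of `N ⊔ N₁`
  let W : Submodule R (M ⧸ N) := (N ⊔ N₁).map N.mkQ
  have hW₁ : W = N₁.map N.mkQ := by
    show (N ⊔ N₁).map N.mkQ = _
    rw [Submodule.map_sup, Submodule.mkQ_map_self, bot_sup_eq]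
  let q : S ⊗[R] M →ₗ[S] S ⊗[R] (M ⧸ N) := N.mkQ.baseChange S
  have hkerq : LinearMap.ker q = MJ Q I' := (ker_baseChange_mkQ S N).trans hN
  let D : Submodule S (S ⊗[R] M) := MJ Q ((I' ∪ I₁) \ I')
  have hWbc : W.baseChange S = D.map q := by
    show ((N ⊔ N₁).map N.mkQ).baseChange S = _
    rw [← map_baseChange, baseChange_sup, hN, hN₁]
    have h1 : (⨆ i ∈ I', Q i) ⊔ (⨆ i ∈ I₁, Q i) = MJ Q I' ⊔ D := by
      show MJ Q I' ⊔ MJ Q I₁ = MJ Q I' ⊔ MJ Q ((I' ∪ I₁) \ I')
      rw [← MJ_union, ← MJ_union, Set.union_sdiff_self, ← Set.union_assoc, Set.union_self]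
    rw [h1, Submodule.map_sup]
    have h2 : (MJ Q I').map q = ⊥ := by
      rw [← LinearMap.le_ker_iff_map, hkerq]
    rw [h2, bot_sup_eq]
  -- `D` is projective
  have hDc := isCompl_MJ Q hind htop ((I' ∪ I₁) \ I')
  have hDproj : Module.Projective S D :=
    Module.Projective.of_split D.subtype (D.projectionOnto _ hDc)
      (Submodule.projectionOnto_comp_subtype hDc)
  -- `q` is injective on `D`
  have hβ : Function.Injective (q ∘ₗ D.subtype) := by
    rw [injective_iff_map_eq_zero]
    intro x hx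
    have hx1 : (x : S ⊗[R] M) ∈ LinearMap.ker q := hx
    rw [hkerq] at hx1
    have hdisj : Disjoint (MJ Q I') D :=
      hind.disjoint_biSup_biSup (Set.disjoint_sdiff_right)
    have := (Submodule.disjoint_def.mp hdisj) _ hx1 x.2
    exact Subtype.ext this
  have hrange : W.baseChange S = LinearMap.range (q ∘ₗ D.subtype) := by
    rw [hWbc, LinearMap.range_comp, Submodule.range_subtype]
  -- flatness of `M ⧸ (N ⊔ N₁)` gives injectivity of the base-changed inclusion of `W`
  have hN₂ : (N ⊔ N₁).baseChange S = MJ Q (I' ∪ I₁) := by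
    rw [baseChange_sup, hN, hN₁, MJ_union]
    rfl
  have hflat₂ : Module.Flat R (M ⧸ (N ⊔ N₁)) :=
    hflatQ _ (projective_baseChange_quotient Q hind htop (N ⊔ N₁) (I' ∪ I₁) hN₂)
  let fac : (M ⧸ N) →ₗ[R] (M ⧸ (N ⊔ N₁)) := Submodule.factor (le_sup_left : N ≤ N ⊔ N₁)
  have hfac : Function.Surjective fac := Submodule.factor_surjective _
  have hexW : Function.Exact W.subtype fac := by
    intro y
    constructor
    · intro hy
      obtain ⟨m, rfl⟩ := N.mkQ_surjective y
      have hm : m ∈ N ⊔ N₁ := by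
        have : (N ⊔ N₁).mkQ m = 0 := hy
        rwa [Submodule.mkQ_apply, Submodule.Quotient.mk_eq_zero] at this
      exact ⟨⟨N.mkQ m, ⟨m, hm, rfl⟩⟩, rfl⟩
    · rintro ⟨⟨_, ⟨m, hm, rfl⟩⟩, rfl⟩
      show (N ⊔ N₁).mkQ m = 0
      rw [Submodule.mkQ_apply, Submodule.Quotient.mk_eq_zero]
      exact hm
  have hα : Function.Injective (W.subtype.baseChange S) := by
    have := LinearMap.lTensor_injective_of_exact_of_flat fac hfac W.subtype
      W.injective_subtype hexW S
    exact this
  have hWproj : Module.Projective S (S ⊗[R] W) :=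
    projective_baseChange_of_adapted' (D := D) W (q ∘ₗ D.subtype) hβ hα hrange
  -- `W` is countably generated
  obtain ⟨s₁, hs₁, hspan₁⟩ := hN₁c
  have hWc : CAlg.IsCountablyGenerated R W := by
    apply isCountablyGenerated_of_span
    refine ⟨N.mkQ '' s₁, hs₁.image _, ?_⟩
    rw [hW₁, ← hspan₁, Submodule.map_span]
  have hWp : Module.Projective R W := hcount W hWproj hWc
  -- split the surjection `N ⊔ N₁ → W`
  let g : ↥(N ⊔ N₁) →ₗ[R] W := N.mkQ.submoduleMap (N ⊔ N₁)
  have hg : Function.Surjective g := N.mkQ.submoduleMap_surjective (N ⊔ N₁)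
  obtain ⟨σ, hσ⟩ := Module.projective_lifting_property g LinearMap.id hg
  have hσ' : ∀ w : W, N.mkQ ((σ w : ↥(N ⊔ N₁)) : M) = (w : M ⧸ N) := by
    intro w
    have := LinearMap.congr_fun hσ w
    exact congrArg Subtype.val this
  refine ⟨LinearMap.range ((N ⊔ N₁).subtype ∘ₗ σ), ?_, ?_, ?_⟩
  · rw [Submodule.disjoint_def]
    rintro x hxN ⟨w, rfl⟩
    have h1 := hσ' w
    have h2 : N.mkQ (((N ⊔ N₁).subtype ∘ₗ σ) w) = 0 := by
      rw [Submodule.mkQ_apply, Submodule.Quotient.mk_eq_zero]; exact hxN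
    have h3 : (w : M ⧸ N) = 0 := by rw [← h1]; exact h2
    have h4 : w = 0 := Subtype.ext h3
    rw [h4, map_zero]
  · apply le_antisymm
    · apply sup_le le_sup_left
      rintro _ ⟨w, rfl⟩
      exact (σ w).2
    · intro n' hn'
      let w : W := g ⟨n', hn'⟩
      have hw : (w : M ⧸ N) = N.mkQ n' := rfl
      have hc : ((N ⊔ N₁).subtype ∘ₗ σ) w ∈ LinearMap.range ((N ⊔ N₁).subtype ∘ₗ σ) := ⟨w, rfl⟩
      have hdiff : n' - ((N ⊔ N₁).subtype ∘ₗ σ) w ∈ N := by
        rw [← Submodule.Quotient.mk_eq_zero, ← Submodule.mkQ_apply, map_sub, sub_eq_zero]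
        exact (hσ' w).symm.trans rfl |>.symm.trans rfl |>.symm
      have : n' = (n' - ((N ⊔ N₁).subtype ∘ₗ σ) w) + ((N ⊔ N₁).subtype ∘ₗ σ) w := by abel
      rw [this]
      exact Submodule.add_mem _ (Submodule.mem_sup_left hdiff) (Submodule.mem_sup_right hc)
  · obtain ⟨tW, htW, htWspan⟩ := hWc
    refine ⟨((N ⊔ N₁).subtype ∘ₗ σ) '' tW, htW.image _, ?_⟩
    rw [← Submodule.map_span, htWspan, Submodule.map_top]

set_option maxHeartbeats 800000 in
/-- Descent of the decomposition into countably generated submodules. -/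
theorem exists_decomposition' [Module.Projective S (S ⊗[R] M)]
    (hflatQ : ∀ N₂ : Submodule R M, Module.Projective S (S ⊗[R] (M ⧸ N₂)) →
      Module.Flat R (M ⧸ N₂))
    (hcount : ∀ (W : Type u) [AddCommGroup W] [Module R W],
      Module.Projective S (S ⊗[R] W) → CAlg.IsCountablyGenerated R W → Module.Projective R W) :
    ∃ 𝒞 : Set (Submodule R M), sSupIndep 𝒞 ∧ sSup 𝒞 = ⊤ ∧
      ∀ C ∈ 𝒞, ∃ s : Set M, s.Countable ∧ Submodule.span R s = C := by
  classical
  obtain ⟨I, Q, hQ, hQc⟩ := Groth.Agent.S0584.exists_internal_of_projective S (S ⊗[R] M)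
  obtain ⟨hind, htop⟩ := (DirectSum.isInternal_submodule_iff_iSupIndep_and_iSup_eq_top Q).mp hQ
  have hQc' : ∀ i, ∃ t : Set (S ⊗[R] M), t.Countable ∧ Submodule.span S t = Q i := fun i =>
    exists_span_of_isCountablyGenerated (Q i) (hQc i)
  let 𝒮 : Set (Set I × Set (Submodule R M)) := {x |
    sSupIndep x.2 ∧ (∀ C ∈ x.2, ∃ s : Set M, s.Countable ∧ Submodule.span R s = C) ∧
    (sSup x.2).baseChange S = MJ Q x.1}
  obtain ⟨m, hmS, hmax⟩ := zorn_le₀ 𝒮 (by
    intro c hcS hchain
    refine ⟨(⋃ x : c, x.1.1, ⋃ x : c, x.1.2), ⟨?_, ?_, ?_⟩, ?_⟩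
    · show sSupIndep (⋃ x : c, x.1.2)
      apply sSupIndep_iUnion_of_directed
      · intro x y
        rcases hchain.total x.2 y.2 with h | h
        · exact ⟨y, h.2, le_refl _⟩
        · exact ⟨x, le_refl _, h.2⟩
      · exact fun x => (hcS x.2).1
    · intro C hC
      obtain ⟨x, hx⟩ := Set.mem_iUnion.mp hC
      exact (hcS x.2).2.1 C hx
    · show (sSup (⋃ x : c, x.1.2)).baseChange S = MJ Q (⋃ x : c, x.1.1)
      rw [sSup_iUnion, baseChange_iSup, MJ_iUnion]
      exact iSup_congr fun x => (hcS x.2).2.2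
    · intro z hz
      exact ⟨Set.subset_iUnion (fun x : c => x.1.1) ⟨z, hz⟩,
        Set.subset_iUnion (fun x : c => x.1.2) ⟨z, hz⟩⟩)
  obtain ⟨hm1, hm2, hm3⟩ := hmS
  refine ⟨m.2, hm1, ?_, hm2⟩
  by_contra hne
  obtain ⟨x, hx⟩ : ∃ x : M, x ∉ sSup m.2 := by
    by_contra hall
    push Not at hall
    exact hne (eq_top_iff.mpr fun y _ => hall y)
  obtain ⟨s, I₁, hxs, hs, hsbc⟩ := exists_adapted Q htop hQc' {x} (Set.countable_singleton x)
  obtain ⟨C, hC1, hC2, hC3⟩ := exists_complement' hflatQ hcount Q hind htop (sSup m.2)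
    (Submodule.span R s) m.1 I₁ hm3 hsbc ⟨s, hs, rfl⟩
  have hx'S : (m.1 ∪ I₁, insert C m.2) ∈ 𝒮 := by
    refine ⟨sSupIndep_insert hm1 hC1.symm, ?_, ?_⟩
    · intro C' hC'
      rcases hC' with rfl | hC'
      · exact hC3
      · exact hm2 C' hC'
    · show (sSup (insert C m.2)).baseChange S = MJ Q (m.1 ∪ I₁)
      rw [sSup_insert, sup_comm, hC2, baseChange_sup, hm3, hsbc, MJ_union]
      rfl
  have hle : m ≤ (m.1 ∪ I₁, insert C m.2) := ⟨Set.subset_union_left, Set.subset_insert _ _⟩
  have hge := hmax hx'S hle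
  have hCm : C ∈ m.2 := hge.2 (Set.mem_insert _ _)
  have hCle : C ≤ sSup m.2 := le_sSup hCm
  have : sSup m.2 ⊔ Submodule.span R s = sSup m.2 := by
    rw [← hC2]; exact sup_eq_left.mpr hCle
  have hsle : Submodule.span R s ≤ sSup m.2 := sup_eq_left.mp this
  exact hx (hsle (Submodule.subset_span (hxs rfl)))

/-- Projectivity from the decomposition, flatness and the Mittag-Leffler property. -/
theorem projective_of_decomposition [Module.Projective S (S ⊗[R] M)] [Module.Flat R M]
    (hML : CAlg.IsMittagLeffler R M)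
    (hflatQ : ∀ N₂ : Submodule R M, Module.Projective S (S ⊗[R] (M ⧸ N₂)) →
      Module.Flat R (M ⧸ N₂))
    (hcount : ∀ (W : Type u) [AddCommGroup W] [Module R W],
      Module.Projective S (S ⊗[R] W) → CAlg.IsCountablyGenerated R W → Module.Projective R W) :
    Module.Projective R M := by
  classical
  obtain ⟨𝒞, h1, h2, h3⟩ := exists_decomposition' (R := R) (S := S) (M := M) hflatQ hcount
  have key := (DirectSum.isInternal_submodule_iff_iSupIndep_and_iSup_eq_top
    (fun C : 𝒞 => C.1)).mpr ⟨(sSupIndep_iff 𝒞).mp h1, by rw [← sSup_eq_iSup']; exact h2⟩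
  refine Groth.Agent.S0584.projective_of R M hML 𝒞 (fun C => C.1) ?_
    fun C => isCountablyGenerated_of_span C.1 (h3 C.1 C.2)
  convert key

end Groth.Agent.R2.H69.ProjFinDescB
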