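import Groth.Agent.R2.H69ProjFinDescA
import Groth.Agent.R2.H69ProjFinDescB
import Groth.Agent.R2.H69FlatFinDesc
import Groth.Agent.Lib.Helper5NilProj

/-!
# H69: descent of projectivity along finite injective maps of Noetherian rings

For a finite ring map `R → S` of Noetherian rings with nilpotent kernel and a flat `R`-module `W`,
if `S ⊗ W` is projective over `S` then `W` is projective over `R`.
-/

set_option autoImplicit false
set_option linter.unusedSectionVars false
set_option linter.style.haveILetI false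

open TensorProduct

universe u

namespace Groth.Agent.R2.H69.ProjFinDescC

/-- The property proven by Noetherian induction. -/
def T (B : Type u) [CommRing B] : Prop :=
  ∀ (S : Type u) [CommRing S] [Algebra B S] [Module.Finite B S],
    RingHom.ker (algebraMap B S) ≤ nilradical B →
    ∀ (W : Type u) [AddCommGroup W] [Module B W] [Module.Flat B W],
      Module.Projective S (S ⊗[B] W) → Module.Projective B W

section Trace

/-- For a finite injective extension of a nontrivial reduced Noetherian ring there is a linear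
form on `S` not vanishing at `1`. -/
theorem exists_trace_ne_zero (B S : Type u) [CommRing B] [CommRing S] [Algebra B S]
    [IsNoetherianRing B] [IsReduced B] [Nontrivial B] [Module.Finite B S]
    (hinj : Function.Injective (algebraMap B S)) :
    ∃ σ : S →ₗ[B] B, σ 1 ≠ 0 := by
  obtain ⟨⟨p, hp⟩⟩ := Ideal.nonempty_minimalPrimes (I := (⊥ : Ideal B)) (by
    exact bot_ne_top)
  have hp' : p ∈ minimalPrimes B := hp
  have := hp'.1.1
  have : Ring.KrullDimLE 0 (Localization.AtPrime p) := .of_isLocalization _ hp' _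
  let _ : Field (Localization.AtPrime p) := Ring.KrullDimLE.isField_of_isReduced.toField
  let K := Localization.AtPrime p
  -- `1 ⊗ 1 ≠ 0` in `K ⊗ S`
  have hv : ((1 : K) ⊗ₜ[B] (1 : S)) ≠ 0 := by
    have hinj' : Function.Injective ((Algebra.linearMap B S).lTensor K) :=
      Module.Flat.lTensor_preserves_injective_linearMap _ hinj
    intro h0
    have h1 : (Algebra.linearMap B S).lTensor K ((1 : K) ⊗ₜ[B] (1 : B)) = 0 := by
      rw [LinearMap.lTensor_tmul]
      simpa using h0
    have h2 := hinj' (h1.trans (map_zero _).symm)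
    have h3 := congrArg (TensorProduct.rid B K) h2
    rw [TensorProduct.rid_tmul, map_zero, one_smul] at h3
    exact one_ne_zero h3
  obtain ⟨φ, hφ⟩ := Module.Projective.exists_dual_ne_zero K hv
  let g' : S →ₗ[B] K := (φ.restrictScalars B) ∘ₗ (TensorProduct.mk B K S 1)
  have hg' : g' 1 ≠ 0 := hφ
  haveI : Module.FinitePresentation B S := Module.finitePresentation_of_finite B S
  obtain ⟨h, s, hs⟩ := Module.FinitePresentation.exists_lift_of_isLocalizedModule p.primeCompl
    (Algebra.linearMap B K) g'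
  refine ⟨h, fun h0 => ?_⟩
  have h1 := LinearMap.congr_fun hs 1
  rw [LinearMap.comp_apply, h0, map_zero, LinearMap.smul_apply] at h1
  have h2 : (s : B) • g' 1 = 0 := h1.symm
  rw [Algebra.smul_def] at h2
  rcases mul_eq_zero.mp h2 with h3 | h3
  · have hu : IsUnit (algebraMap B K (s : B)) := IsLocalization.map_units K s
    exact hu.ne_zero h3
  · exact hg' h3

end Trace

section Quotient

variable {B : Type u} [CommRing B] {S : Type u} [CommRing S] [Algebra B S] [Module.Finite B S]

/-- The kernel of `B/𝔟 → S/𝔟S` is nil. -/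
theorem ker_quotient_le_nilradical (hker : RingHom.ker (algebraMap B S) ≤ nilradical B)
    (𝔟 : Ideal B) :
    RingHom.ker (algebraMap (B ⧸ 𝔟) (S ⧸ 𝔟.map (algebraMap B S))) ≤ nilradical (B ⧸ 𝔟) := by
  intro x' hx'
  obtain ⟨x, rfl⟩ := Ideal.Quotient.mk_surjective x'
  rw [RingHom.mem_ker, Ideal.Quotient.algebraMap_quotient_map_quotient,
    Ideal.Quotient.eq_zero_iff_mem] at hx'
  -- `x ∈ radical 𝔟`
  have hx : x ∈ 𝔟.radical := by
    rw [Ideal.radical_eq_sInf, Ideal.mem_sInf]
    rintro 𝔭 ⟨h𝔟𝔭, h𝔭⟩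
    haveI := h𝔭
    haveI : Algebra.IsIntegral B S := Algebra.IsIntegral.of_finite B S
    obtain ⟨𝔮, -, h𝔮, h𝔮𝔭⟩ := Ideal.exists_ideal_over_prime_of_isIntegral 𝔭 (⊥ : Ideal S) (by
      rw [← RingHom.ker_eq_comap_bot]
      exact hker.trans (nilradical_le_prime 𝔭))
    have hle : 𝔟.map (algebraMap B S) ≤ 𝔮 := by
      rw [Ideal.map_le_iff_le_comap, h𝔮𝔭]
      exact h𝔟𝔭
    have : x ∈ 𝔮.comap (algebraMap B S) := hle hx'
    rwa [h𝔮𝔭] at this
  obtain ⟨n, hn⟩ := hx
  rw [mem_nilradical]
  refine ⟨n, ?_⟩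
  rw [← map_pow, Ideal.Quotient.eq_zero_iff_mem]
  exact hn

/-- Transfer of projectivity of the base change to the quotient situation. -/
theorem projective_quotient_baseChange (𝔟 : Ideal B)
    (W : Type u) [AddCommGroup W] [Module B W] [Module.Projective S (S ⊗[B] W)] :
    Module.Projective (S ⧸ 𝔟.map (algebraMap B S))
      ((S ⧸ 𝔟.map (algebraMap B S)) ⊗[B ⧸ 𝔟] ((B ⧸ 𝔟) ⊗[B] W)) := by
  let S' := S ⧸ 𝔟.map (algebraMap B S)
  let B' := B ⧸ 𝔟
  have h1 : Module.Projective S' (S' ⊗[S] (S ⊗[B] W)) := inferInstance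
  let e₂ : S' ⊗[S] (S ⊗[B] W) ≃ₗ[S'] S' ⊗[B] W :=
    AlgebraTensorModule.cancelBaseChange B S S' S' W
  let e₃ : S' ⊗[B'] (B' ⊗[B] W) ≃ₗ[S'] S' ⊗[B] W :=
    AlgebraTensorModule.cancelBaseChange B B' S' S' W
  exact Module.Projective.of_equiv (e₃ ≪≫ₗ e₂.symm).symm

/-- The quotient step. -/
theorem projective_quotient_of_T (hker : RingHom.ker (algebraMap B S) ≤ nilradical B)
    (𝔟 : Ideal B) (hT : T (B ⧸ 𝔟))
    (W : Type u) [AddCommGroup W] [Module B W] [Module.Flat B W]
    [Module.Projective S (S ⊗[B] W)] :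
    Module.Projective (B ⧸ 𝔟) ((B ⧸ 𝔟) ⊗[B] W) := by
  haveI : Module.Finite B (S ⧸ 𝔟.map (algebraMap B S)) := inferInstance
  haveI : Module.Finite (B ⧸ 𝔟) (S ⧸ 𝔟.map (algebraMap B S)) :=
    Module.Finite.of_restrictScalars_finite B (B ⧸ 𝔟) (S ⧸ 𝔟.map (algebraMap B S))
  exact hT (S ⧸ 𝔟.map (algebraMap B S)) (ker_quotient_le_nilradical hker 𝔟)
    ((B ⧸ 𝔟) ⊗[B] W) (projective_quotient_baseChange 𝔟 W)

end Quotient

section Step

variable {B : Type u} [CommRing B] [IsNoetherianRing B]

/-- The non-reduced case. -/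
theorem T_of_nilradical_ne_bot (hIH : ∀ 𝔟 : Ideal B, 𝔟 ≠ ⊥ → T (B ⧸ 𝔟))
    (hN : nilradical B ≠ ⊥) : T B := by
  intro S _ _ _ hker W _ _ _ hproj
  have hnil : IsNilpotent (nilradical B) := IsNoetherianRing.isNilpotent_nilradical B
  have h1 := projective_quotient_of_T hker (nilradical B) (hIH _ hN) W
  exact Groth.Agent.Lib.Helper5.projective_of_flat_of_projective_quotient_of_isNilpotent
    hnil W h1

/-- The reduced case. -/
theorem T_of_nilradical_eq_bot (hIH : ∀ 𝔟 : Ideal B, 𝔟 ≠ ⊥ → T (B ⧸ 𝔟))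
    (hN : nilradical B = ⊥) : T B := by
  intro S _ _ _ hker W _ _ _ hproj
  rcases subsingleton_or_nontrivial B with hB | hB
  · haveI : Subsingleton W := Module.subsingleton B W
    infer_instance
  haveI : IsReduced B := nilradical_eq_bot_iff.mp hN
  have hinj : Function.Injective (algebraMap B S) := by
    rw [RingHom.injective_iff_ker_eq_bot, eq_bot_iff]
    exact hker.trans hN.le
  obtain ⟨σ, hσ⟩ := exists_trace_ne_zero B S hinj
  have hg : Ideal.span {σ 1} ≠ ⊥ := by
    rw [Ne, Ideal.span_singleton_eq_bot]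
    exact hσ
  have hTg := hIH _ hg
  -- the Mittag-Leffler property
  have hMLgen : ∀ (W' : Type u) [AddCommGroup W'] [Module B W'] [Module.Flat B W'],
      Module.Projective S (S ⊗[B] W') → CAlg.IsMittagLeffler B W' := by
    intro W' _ _ _ hp
    have hS : CAlg.IsMittagLeffler S (S ⊗[B] W') :=
      ((Groth.Agent.S0584.result S (S ⊗[B] W')).mp hp).2.1
    have hq0 := projective_quotient_of_T hker (Ideal.span {σ 1}) hTg W'
    have hq : CAlg.IsMittagLeffler (B ⧸ Ideal.span {σ 1}) ((B ⧸ Ideal.span {σ 1}) ⊗[B] W') :=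
      ((Groth.Agent.S0584.result _ _).mp hq0).2.1
    exact Groth.Agent.R2.H69.ProjFinDescA.isMittagLeffler_of_trace B S W' σ (σ 1) rfl hS hq
  have hflat : ∀ (W' : Type u) [AddCommGroup W'] [Module B W'],
      Module.Projective S (S ⊗[B] W') → Module.Flat B W' := by
    intro W' _ _ hp
    exact Groth.Agent.R2.H69.FlatFinDesc.flat_of_flat_baseChange_finite_injective B S hinj W'
  have hcount : ∀ (W' : Type u) [AddCommGroup W'] [Module B W'],
      Module.Projective S (S ⊗[B] W') → CAlg.IsCountablyGenerated B W' →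
        Module.Projective B W' := by
    intro W' _ _ hp hc
    haveI := hflat W' hp
    exact Groth.Agent.Lib.Helper14.ML.projective_of_flat_of_isMittagLeffler_of_isCountablyGenerated
      B W' (hMLgen W' hp) hc
  exact Groth.Agent.R2.H69.ProjFinDescB.projective_of_decomposition (S := S) (hMLgen W hproj)
    (fun N₂ hp => hflat _ hp) hcount

theorem T_of_forall_quotient (hIH : ∀ 𝔟 : Ideal B, 𝔟 ≠ ⊥ → T (B ⧸ 𝔟)) : T B := by
  by_cases hN : nilradical B = ⊥
  · exact T_of_nilradical_eq_bot hIH hN
  · exact T_of_nilradical_ne_bot hIH hN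

end Step

section Induction

/-- Noetherian induction. -/
theorem T_of_surjective (A₀ : Type u) [CommRing A₀] [IsNoetherianRing A₀] :
    ∀ I : Ideal A₀, ∀ (B : Type u) [CommRing B] (φ : A₀ →+* B),
      Function.Surjective φ → RingHom.ker φ = I → T B := by
  intro I
  induction I using IsNoetherian.induction with
  | hgt I IH =>
    intro B _ φ hφ hker
    haveI : IsNoetherianRing B := isNoetherianRing_of_surjective A₀ B φ hφ
    apply T_of_forall_quotient
    intro 𝔟 h𝔟
    refine IH (𝔟.comap φ) ?_ (B ⧸ 𝔟) ((Ideal.Quotient.mk 𝔟).comp φ)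
      (Ideal.Quotient.mk_surjective.comp hφ) ?_
    · rw [← hker, RingHom.ker_eq_comap_bot]
      refine lt_of_le_of_ne (Ideal.comap_mono bot_le) fun heq => h𝔟 ?_
      have h1 := congrArg (Ideal.map φ) heq
      rw [Ideal.map_comap_of_surjective φ hφ, Ideal.map_comap_of_surjective φ hφ] at h1
      exact h1.symm
    · rw [← RingHom.comap_ker, Ideal.mk_ker]

theorem T_of_isNoetherianRing (A : Type u) [CommRing A] [IsNoetherianRing A] : T A :=
  T_of_surjective A ⊥ A (RingHom.id A) Function.surjective_id (by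
    rw [RingHom.ker_eq_comap_bot]
    exact Ideal.comap_id ⊥)

end Induction

/-- Projectivity descends along finite injective maps of Noetherian rings. -/
theorem projective_of_projective_baseChange_finite_injective (R S : Type u) [CommRing R]
    [IsNoetherianRing R] [CommRing S] [Algebra R S] [Module.Finite R S]
    (hinj : Function.Injective (algebraMap R S)) (P : Type u) [AddCommGroup P] [Module R P]
    [Module.Projective S (S ⊗[R] P)] : Module.Projective R P := by
  haveI : Module.Flat R P :=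
    Groth.Agent.R2.H69.FlatFinDesc.flat_of_flat_baseChange_finite_injective R S hinj P
  refine T_of_isNoetherianRing R S ?_ P inferInstance
  rw [(RingHom.injective_iff_ker_eq_bot _).mp hinj]
  exact bot_le

end Groth.Agent.R2.H69.ProjFinDescC
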