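import Mathlib
import Groth.Agent.R2.H27ProjPerfSpec
import Groth.Agent.R2.H28ProjPkg1
import Groth.Agent.Lib.Helper1BKF4b
import Groth.Agent.Lib.Helper1BKF15
import Groth.Agent.Lib.Helper17FilKInj1
set_option backward.isDefEq.respectTransparency.types false

/-!
# `Tot(I ⊗ G)` is K-injective for `I` K-injective and `G` bounded finite free (helper69)

Package `Pkg4` of helper27's mini-project `PROJ:proj-perf` (S0961).

General part (abelian categories, additive bifunctor `F`):
* `isKInjective_of_degreewiseSplit`: K-injectives are closed under degreewise split extensions.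
* `isKInjective_of_sum`, `isKInjective_map_of_sum`: a "finite sum of copies of the identity"
  preserves K-injectives.
* `TL_nonempty_splitting`, `isKInjective_TL_of_split`: `Tot(I ⊗ -)` preserves degreewise split
  short exact sequences, with splittings.
* `truncSC`, `truncSCSplitting`: the brutal truncation sequence `0 → σ_{≥ a+1} G → G → G^a[-a] → 0`.
* `concIso`, `SumId`, `isKInjective_TL_conc`, `isKInjective_TL_of_bounded`.

Scheme part: `rho_naturality`, `sumId_freeMod`, `pkg4`.
-/

set_option autoImplicit false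
set_option linter.style.haveILetI false
set_option linter.unusedSectionVars false
universe u
open CategoryTheory CategoryTheory.Limits HomologicalComplex CochainComplex

namespace Groth.Agent.R2.H69.ProjPkg4

open Groth.Agent.Lib.Helper1.BKF Groth.Agent.Lib.Helper17.KInj

section General
variable {C : Type*} [Category C] [Abelian C]

lemma isKInjective_of_isZero {L : CochainComplex C ℤ} (h : IsZero L) : L.IsKInjective :=
  ⟨fun _ _ => ⟨Homotopy.ofEq (h.eq_of_tgt _ _)⟩⟩

lemma isKInjective_of_degreewiseSplit (S : ShortComplex (CochainComplex C ℤ))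
    (σ : ∀ n, (S.map (HomologicalComplex.eval C (ComplexShape.up ℤ) n)).Splitting)
    [S.X₁.IsKInjective] [S.X₃.IsKInjective] : S.X₂.IsKInjective := by
  have hT : CochainComplex.trianglehOfDegreewiseSplit S σ ∈
      distTriang (HomotopyCategory C (ComplexShape.up ℤ)) :=
    (HomotopyCategory.distinguished_iff_iso_trianglehOfDegreewiseSplit _).2 ⟨S, σ, ⟨Iso.refl _⟩⟩
  rw [isKInjective_iff_rightOrthogonal]
  exact (HomotopyCategory.subcategoryAcyclic C).rightOrthogonal.ext_of_isTriangulatedClosed₂ _ hT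
    (IsKInjective.rightOrthogonal S.X₁) (IsKInjective.rightOrthogonal S.X₃)

lemma isKInjective_of_sum {L I : CochainComplex C ℤ} [I.IsKInjective] {J : Type*} [Fintype J]
    (π : J → (L ⟶ I)) (ι : J → (I ⟶ L)) (h : ∑ j, π j ≫ ι j = 𝟙 L) : L.IsKInjective := by
  rw [isKInjective_iff_rightOrthogonal]
  intro K f hK
  have hI := IsKInjective.rightOrthogonal I
  have h1 : f = f ≫ (HomotopyCategory.quotient _ _).map (𝟙 L) := by simp
  rw [h1, ← h, Functor.map_sum, Preadditive.comp_sum]
  apply Finset.sum_eq_zero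
  intro j _
  rw [Functor.map_comp, ← Category.assoc, hI (f ≫ (HomotopyCategory.quotient _ _).map (π j)) hK,
    zero_comp]

/-- If an additive endofunctor `Φ` is a "finite sum of copies of the identity" then it preserves
K-injective complexes (termwise). -/
lemma isKInjective_map_of_sum (Φ : C ⥤ C) [Φ.Additive] {J : Type*} [Fintype J]
    (p : J → (Φ ⟶ 𝟭 C)) (i : J → (𝟭 C ⟶ Φ))
    (h : ∀ N : C, ∑ j, (p j).app N ≫ (i j).app N = 𝟙 (Φ.obj N))
    (I : CochainComplex C ℤ) [I.IsKInjective] :
    CochainComplex.IsKInjective ((Φ.mapHomologicalComplex (ComplexShape.up ℤ)).obj I) := by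
  let π : J → (((Φ.mapHomologicalComplex (ComplexShape.up ℤ)).obj I) ⟶ I) := fun j =>
    { f := fun n => (p j).app (I.X n)
      comm' := fun n n' _ => ((p j).naturality (I.d n n')).symm }
  let ι : J → (I ⟶ ((Φ.mapHomologicalComplex (ComplexShape.up ℤ)).obj I)) := fun j =>
    { f := fun n => (i j).app (I.X n)
      comm' := fun n n' _ => ((i j).naturality (I.d n n')).symm }
  refine isKInjective_of_sum π ι ?_
  ext n
  have := map_sum (HomologicalComplex.Hom.fAddMonoidHom
    (C₁ := (Φ.mapHomologicalComplex (ComplexShape.up ℤ)).obj I)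
    (C₂ := (Φ.mapHomologicalComplex (ComplexShape.up ℤ)).obj I) n)
    (fun j => π j ≫ ι j) Finset.univ
  exact this.trans (h (I.X n))

end General

section bifunctor

variable {C₁ C₂ D : Type*} [Category C₁] [Category C₂] [Category D]
  [Abelian C₁] [Abelian C₂] [Abelian D]
  (F : C₁ ⥤ C₂ ⥤ D) [F.Additive] [∀ X, (F.obj X).Additive]
  [∀ (K₁ : CochainComplex C₁ ℤ) (K₂ : CochainComplex C₂ ℤ),
    HasMapBifunctor K₁ K₂ F (ComplexShape.up ℤ)]
  [∀ ι : Type, HasColimitsOfShape (Discrete ι) D]
  [∀ ι : Type, HasExactColimitsOfShape (Discrete ι) D]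

/-- `Tot(L ⊗ -)` sends a degreewise split short exact sequence to a degreewise split short
exact sequence. -/
lemma TL_nonempty_splitting (L : CochainComplex C₁ ℤ) (S : ShortComplex (CochainComplex C₂ ℤ))
    (σ : ∀ n, (S.map (eval _ _ n)).Splitting) (n : ℤ) :
    Nonempty ((S.map (TL F L)).map (eval _ _ n)).Splitting := by
  have hSE : (S.map (TL F L)).ShortExact := TL_shortExact_of_splitting F L S (fun n => ⟨σ n⟩)
  have hn : ((S.map (TL F L)).map (eval _ _ n)).ShortExact := hSE.map_of_exact _
  let r : (mapBifunctor L S.X₂ F (ComplexShape.up ℤ)).X n ⟶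
      (mapBifunctor L S.X₁ F (ComplexShape.up ℤ)).X n :=
    mapBifunctorDesc (fun p q h => (F.obj (L.X p)).map (σ q).r ≫
      ιMapBifunctor L S.X₁ F (ComplexShape.up ℤ) p q n h)
  have key : (mapBifunctorMap (𝟙 L) S.f F (ComplexShape.up ℤ)).f n ≫ r =
      𝟙 ((mapBifunctor L S.X₁ F (ComplexShape.up ℤ)).X n) := by
    apply mapBifunctor.hom_ext
    intro p q h
    have h1 : S.f.f q ≫ (σ q).r = 𝟙 (S.X₁.X q) := (σ q).f_r
    rw [ι_mapBifunctorMap_assoc, ι_mapBifunctorDesc, ← Functor.map_comp_assoc, h1]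
    erw [HomologicalComplex.id_f, CategoryTheory.Functor.map_id, CategoryTheory.Functor.map_id,
      NatTrans.id_app, Category.id_comp, Category.id_comp]
    exact (Category.comp_id _).symm
  exact ⟨ShortComplex.Splitting.ofExactOfRetraction _ hn.exact r key hn.epi_g⟩

lemma isKInjective_TL_of_split (I : CochainComplex C₁ ℤ) (S : ShortComplex (CochainComplex C₂ ℤ))
    (σ : ∀ n, (S.map (eval _ _ n)).Splitting)
    (h₁ : CochainComplex.IsKInjective ((TL F I).obj S.X₁))
    (h₃ : CochainComplex.IsKInjective ((TL F I).obj S.X₃)) :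
    CochainComplex.IsKInjective ((TL F I).obj S.X₂) :=
  @isKInjective_of_degreewiseSplit _ _ _ (S.map (TL F I))
    (fun n => (TL_nonempty_splitting F I S σ n).some) h₁ h₃

end bifunctor

section trunc
variable {A : Type*} [Category A] [Abelian A] (G : CochainComplex A ℤ) (a : ℤ)

/-- the short exact sequence `0 → σ_{≥ a+1} G → G → Q → 0`. -/
noncomputable abbrev truncSC : ShortComplex (CochainComplex A ℤ) :=
  ShortComplex.mk (sigmaGEι G (a + 1)) (cokernel.π _) (cokernel.condition _)

lemma truncSC_shortExact : (truncSC G a).ShortExact := shortExact_of_mono _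

lemma truncSC_shortExact_eval (n : ℤ) :
    ((truncSC G a).map (eval A (ComplexShape.up ℤ) n)).ShortExact :=
  (truncSC_shortExact G a).map_of_exact _

/-- the degreewise splitting of the brutal truncation sequence -/
noncomputable def truncSCSplitting (n : ℤ) :
    ((truncSC G a).map (eval A (ComplexShape.up ℤ) n)).Splitting :=
  ShortComplex.Splitting.ofExactOfRetraction _ (truncSC_shortExact_eval G a n).exact
    (if h : a + 1 ≤ n then
      @inv _ _ _ _ ((sigmaGEι G (a + 1)).f n) (isIso_sigmaGEι_f G (a + 1) h) else 0)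
    (by
      by_cases h : a + 1 ≤ n
      · rw [dif_pos h]
        exact @IsIso.hom_inv_id _ _ _ _ ((sigmaGEι G (a + 1)).f n) (isIso_sigmaGEι_f G (a + 1) h)
      · exact (isZero_sigmaGE_X G (a + 1) (by omega)).eq_of_src _ _)
    (truncSC_shortExact_eval G a n).epi_g

lemma isZero_truncQ_X (hG : ∀ q, q < a → IsZero (G.X q)) (q : ℤ) (hq : q ≠ a) :
    IsZero ((truncSC G a).X₃.X q) := by
  have hS := truncSC_shortExact_eval G a q
  by_cases h : a + 1 ≤ q
  · have hiso : IsIso ((sigmaGEι G (a + 1)).f q) := isIso_sigmaGEι_f G (a + 1) h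
    have hg0 : ((truncSC G a).map (eval A (ComplexShape.up ℤ) q)).g = 0 :=
      (cancel_epi ((sigmaGEι G (a + 1)).f q)).1
        ((((truncSC G a).map (eval A (ComplexShape.up ℤ) q)).zero).trans comp_zero.symm)
    exact @IsZero.of_epi_eq_zero _ _ _ _ _
      ((truncSC G a).map (eval A (ComplexShape.up ℤ) q)).g hS.epi_g hg0
  · exact @IsZero.of_epi _ _ _ _ _ ((truncSC G a).map (eval A (ComplexShape.up ℤ) q)).g hS.epi_g
      (hG q (by omega))

lemma isIso_truncQ_π : IsIso ((truncSC G a).g.f a) := by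
  have hS := truncSC_shortExact_eval G a a
  have h1 : Mono ((truncSC G a).map (eval A (ComplexShape.up ℤ) a)).g :=
    hS.exact.mono_g ((isZero_sigmaGE_X G (a + 1) (by omega)).eq_of_src _ _)
  exact @isIso_of_mono_of_epi _ _ _ _ _ ((truncSC G a).map (eval A (ComplexShape.up ℤ) a)).g
    h1 hS.epi_g

end trunc

section main

variable {C C₂ : Type*} [Category C] [Category C₂] [Abelian C] [Abelian C₂]
  (F : C ⥤ C₂ ⥤ C) [F.Additive] [∀ X, (F.obj X).Additive]
  [∀ (K₁ : CochainComplex C ℤ) (K₂ : CochainComplex C₂ ℤ),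
    HasMapBifunctor K₁ K₂ F (ComplexShape.up ℤ)]
  [∀ ι : Type, HasColimitsOfShape (Discrete ι) C]
  [∀ ι : Type, HasExactColimitsOfShape (Discrete ι) C]

/-- `Tot(L ⊗ R) ≅ L ⊗ R⁰` (termwise) for `R` concentrated in degree `0`. -/
noncomputable def concIso (L : CochainComplex C ℤ) (R : CochainComplex C₂ ℤ)
    (hR : ∀ q : ℤ, q ≠ 0 → IsZero (R.X q)) :
    ((F.flip.obj (R.X 0)).mapHomologicalComplex (ComplexShape.up ℤ)).obj L ≅
      mapBifunctor L R F (ComplexShape.up ℤ) :=
  Hom.isoOfComponents (fun n => cIso F L R 0 hR n n (add_zero n)) (by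
    rintro n n' (rfl : n + 1 = n')
    exact cι_comm F L R 0 hR n n (n + 1) (n + 1) (add_zero n) rfl rfl)

/-- `- ⊗ M` is a finite sum of copies of the identity functor. -/
def SumId (M : C₂) : Prop :=
  ∃ (n : ℕ) (p : Fin n → (F.flip.obj M ⟶ 𝟭 C)) (i : Fin n → (𝟭 C ⟶ F.flip.obj M)),
    ∀ N : C, ∑ j, (p j).app N ≫ (i j).app N = 𝟙 ((F.flip.obj M).obj N)

variable {F} in
lemma SumId.of_iso {M M' : C₂} (e : M ≅ M') (h : SumId F M) : SumId F M' := by
  obtain ⟨n, p, i, h⟩ := h
  refine ⟨n, fun j => F.flip.map e.inv ≫ p j, fun j => i j ≫ F.flip.map e.hom, fun N => ?_⟩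
  have h1 : ∀ j, ((F.flip.map e.inv ≫ p j).app N ≫ (i j ≫ F.flip.map e.hom).app N) =
      (F.flip.map e.inv).app N ≫ ((p j).app N ≫ (i j).app N) ≫ (F.flip.map e.hom).app N := by
    intro j
    simp only [NatTrans.comp_app, Category.assoc]
  simp_rw [h1]
  rw [← Preadditive.comp_sum, ← Preadditive.sum_comp, h N, Category.id_comp,
    ← NatTrans.comp_app, ← Functor.map_comp, e.inv_hom_id, CategoryTheory.Functor.map_id]
  rfl

lemma isKInjective_TL_conc_zero (I : CochainComplex C ℤ) [I.IsKInjective]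
    (R : CochainComplex C₂ ℤ) (hR : ∀ q : ℤ, q ≠ 0 → IsZero (R.X q)) (hM : SumId F (R.X 0)) :
    CochainComplex.IsKInjective ((TL F I).obj R) := by
  obtain ⟨n, p, i, h⟩ := hM
  have : CochainComplex.IsKInjective
      (((F.flip.obj (R.X 0)).mapHomologicalComplex (ComplexShape.up ℤ)).obj I) :=
    isKInjective_map_of_sum (F.flip.obj (R.X 0)) p i h I
  exact isKInjective_of_iso (concIso F I R hR)

lemma isKInjective_TL_conc (I : CochainComplex C ℤ) [I.IsKInjective]
    (R : CochainComplex C₂ ℤ) (m : ℤ) (hR : ∀ q : ℤ, q ≠ m → IsZero (R.X q))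
    (hM : SumId F (R.X m)) :
    CochainComplex.IsKInjective ((TL F I).obj R) := by
  have h0 : ∀ q : ℤ, q ≠ 0 → IsZero ((R⟦m⟧).X q) := fun q hq => hR (q + m) (by omega)
  have hM' : SumId F ((R⟦m⟧).X 0) := hM.of_iso (R.XIsoOfEq (zero_add m).symm)
  have h1 : CochainComplex.IsKInjective (mapBifunctor I (R⟦m⟧) F (ComplexShape.up ℤ)) :=
    isKInjective_TL_conc_zero F I (R⟦m⟧) h0 hM'
  have h2 : CochainComplex.IsKInjective ((mapBifunctor I R F (ComplexShape.up ℤ))⟦m⟧) :=
    isKInjective_of_iso (CochainComplex.mapBifunctorShift₂Iso I R F m)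
  exact (isKInjective_shift_iff _ m).1 h2

/-- `Tot(I ⊗ G)` is K-injective for `I` K-injective and `G` a bounded complex whose terms `M`
are such that `- ⊗ M` is a finite sum of copies of the identity. -/
theorem isKInjective_TL_of_bounded (I : CochainComplex C ℤ) [I.IsKInjective] :
    ∀ (N : ℕ) (G : CochainComplex C₂ ℤ) (a : ℤ),
      (∀ q : ℤ, q < a ∨ a + N ≤ q → IsZero (G.X q)) →
      (∀ q : ℤ, a ≤ q → q < a + N → SumId F (G.X q)) →
      CochainComplex.IsKInjective ((TL F I).obj G) := by
  intro N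
  induction N with
  | zero =>
    intro G a hG _
    apply isKInjective_of_isZero
    apply (TL F I).map_isZero
    rw [IsZero.iff_id_eq_zero]
    ext q
    exact (hG q (by omega)).eq_of_src _ _
  | succ N ih =>
    intro G a hG hF
    let S := truncSC G a
    have h1 : CochainComplex.IsKInjective ((TL F I).obj S.X₁) := by
      apply ih (sigmaGE G (a + 1)) (a + 1)
      · intro q hq
        by_cases h : q < a + 1
        · exact isZero_sigmaGE_X G (a + 1) h
        · have := isIso_sigmaGEι_f G (a + 1) (show a + 1 ≤ q by omega)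
          exact (hG q (Or.inr (by push_cast; omega))).of_iso (asIso ((sigmaGEι G (a + 1)).f q))
      · intro q h1 h2
        have := isIso_sigmaGEι_f G (a + 1) h1
        exact (hF q (by omega) (by push_cast; omega)).of_iso
          (asIso ((sigmaGEι G (a + 1)).f q)).symm
    have h3 : CochainComplex.IsKInjective ((TL F I).obj S.X₃) := by
      apply isKInjective_TL_conc F I S.X₃ a
      · exact isZero_truncQ_X G a (fun q hq => hG q (Or.inl hq))
      · have := isIso_truncQ_π G a
        exact (hF a le_rfl (by push_cast; omega)).of_iso (asIso ((truncSC G a).g.f a))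
    exact isKInjective_TL_of_split F I S (truncSCSplitting G a) h1 h3

end main

section scheme

open AlgebraicGeometry MonoidalCategory
open Groth.Agent.R2.H28.ProjPkg1 Groth.Agent.Lib.Helper1.PT Groth.Agent.Lib.Helper1.StalkTensor
  Groth.Agent.Lib.Helper21.ModTensor2 Groth.Agent.R2.H27.ProjPerfSpec

variable {X : Scheme.{u}}

lemma rho_naturality {M M' : X.Modules} (g : M ⟶ M') :
    (DCoh.tensorBi.map g).app (Coh.structureModule X) ≫ (rho M').hom = (rho M).hom ≫ g := by
  have h4 : shX.map (toPMMap g) ≫ (adj X.sheaf).counit.app M' =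
      (adj X.sheaf).counit.app M ≫ g := (adj X.sheaf).counit.naturality g
  have h5 : (toPMMap g ▷ toPM (Coh.structureModule X)) ≫ (ρ_ (toPM M')).hom =
      (ρ_ (toPM M)).hom ≫ toPMMap g := rightUnitor_naturality (toPMMap g)
  calc shX.map (toPMMap g ▷ toPM (Coh.structureModule X)) ≫
        (shX.map (ρ_ (toPM M')).hom ≫ (adj X.sheaf).counit.app M')
      = (shX.map (toPMMap g ▷ toPM (Coh.structureModule X)) ≫ shX.map (ρ_ (toPM M')).hom) ≫
          (adj X.sheaf).counit.app M' := (Category.assoc _ _ _).symm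
    _ = shX.map ((toPMMap g ▷ toPM (Coh.structureModule X)) ≫ (ρ_ (toPM M')).hom) ≫
          (adj X.sheaf).counit.app M' :=
        congrArg (· ≫ (adj X.sheaf).counit.app M') (shX.map_comp _ _).symm
    _ = shX.map ((ρ_ (toPM M)).hom ≫ toPMMap g) ≫ (adj X.sheaf).counit.app M' :=
        congrArg (fun t => shX.map t ≫ (adj X.sheaf).counit.app M') h5
    _ = (shX.map (ρ_ (toPM M)).hom ≫ shX.map (toPMMap g)) ≫ (adj X.sheaf).counit.app M' :=
        congrArg (· ≫ (adj X.sheaf).counit.app M') (shX.map_comp _ _)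
    _ = shX.map (ρ_ (toPM M)).hom ≫ (shX.map (toPMMap g) ≫ (adj X.sheaf).counit.app M') :=
        Category.assoc _ _ _
    _ = shX.map (ρ_ (toPM M)).hom ≫ ((adj X.sheaf).counit.app M ≫ g) :=
        congrArg (shX.map (ρ_ (toPM M)).hom ≫ ·) h4
    _ = (shX.map (ρ_ (toPM M)).hom ≫ (adj X.sheaf).counit.app M) ≫ g :=
        (Category.assoc _ _ _).symm

/-- the right unitor as a natural transformation `- ⊗ O_X ⟶ 𝟭` -/
noncomputable def rhoNat : (DCoh.tensorBi (X := X)).flip.obj (Coh.structureModule X) ⟶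
    𝟭 X.Modules where
  app N := (rho N).hom
  naturality _ _ g := rho_naturality g

/-- the inverse of the right unitor as a natural transformation `𝟭 ⟶ - ⊗ O_X` -/
noncomputable def rhoNatInv : 𝟭 X.Modules ⟶
    (DCoh.tensorBi (X := X)).flip.obj (Coh.structureModule X) where
  app N := (rho N).inv
  naturality N N' g := by
    have h := rho_naturality g
    change g ≫ (rho N').inv = (rho N).inv ≫ (DCoh.tensorBi.map g).app (Coh.structureModule X)
    rw [← cancel_mono (rho N').hom, Category.assoc, Category.assoc, h, Iso.inv_hom_id,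
      Iso.inv_hom_id_assoc, Category.comp_id]

lemma sumId_freeMod (n : ℕ) : SumId (DCoh.tensorBi (X := X)) (FlatMod.freeMod X n) := by
  classical
  let im : Fin n → (Coh.structureModule X ⟶ FlatMod.freeMod X n) := fun j =>
    Sigma.ι (fun _ : Fin n => Coh.structureModule X) j
  let pm : Fin n → (FlatMod.freeMod X n ⟶ Coh.structureModule X) := fun j =>
    Sigma.desc (fun k => if k = j then 𝟙 (Coh.structureModule X) else 0)
  have hpm : ∀ k j, im k ≫ pm j = if k = j then 𝟙 (Coh.structureModule X) else 0 := by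
    intro k j
    exact Sigma.ι_desc _ _
  have hsum : ∑ j, pm j ≫ im j = 𝟙 (FlatMod.freeMod X n) := by
    apply Sigma.hom_ext
    intro k
    change im k ≫ _ = im k ≫ _
    rw [Preadditive.comp_sum, Category.comp_id, Finset.sum_eq_single k]
    · rw [← Category.assoc, hpm, if_pos rfl, Category.id_comp]
    · intro j _ hjk
      rw [← Category.assoc, hpm, if_neg (Ne.symm hjk), zero_comp]
    · intro h
      exact absurd (Finset.mem_univ k) h
  refine ⟨n, fun j => (DCoh.tensorBi (X := X)).flip.map (pm j) ≫ rhoNat,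
    fun j => rhoNatInv ≫ (DCoh.tensorBi (X := X)).flip.map (im j), fun N => ?_⟩
  have h1 : ∀ j, ((DCoh.tensorBi (X := X)).flip.map (pm j) ≫ rhoNat).app N ≫
      (rhoNatInv ≫ (DCoh.tensorBi (X := X)).flip.map (im j)).app N =
      (DCoh.tensorBi.obj N).map (pm j ≫ im j) := by
    intro j
    change ((DCoh.tensorBi.obj N).map (pm j) ≫ (rho N).hom) ≫
      ((rho N).inv ≫ (DCoh.tensorBi.obj N).map (im j)) = _
    rw [Category.assoc, Iso.hom_inv_id_assoc, Functor.map_comp]
  simp_rw [h1]
  rw [← Functor.map_sum, hsum, CategoryTheory.Functor.map_id]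
  rfl

theorem pkg4 : Pkg4.{u} := by
  intro U I G _ a b hvan hfree
  refine isKInjective_TL_of_bounded (DCoh.tensorBi (X := U)) I (b + 1 - a).toNat G a ?_ ?_
  · intro q hq
    apply hvan
    rcases hq with h | h
    · exact Or.inl h
    · have := Int.self_le_toNat (b + 1 - a)
      exact Or.inr (by omega)
  · intro q _ _
    obtain ⟨n, ⟨e⟩⟩ := hfree q
    exact (sumId_freeMod n).of_iso e.symm

end scheme

end Groth.Agent.R2.H69.ProjPkg4
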