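import Mathlib
import Groth.Agent.R2.H48QCTSpec

/-!
# helper69: PROJ:qcoh-et, package P (sections of a sheafification over "good" objects)
-/

set_option autoImplicit false
universe w v u

open CategoryTheory Limits Opposite

namespace Groth.Agent.R2.H69.QCT

open Groth.Agent.R2.H48.QCTSpec

/-- the morphism `ℤ ⟶ G` attached to an element of an abelian group. -/
noncomputable def elemHom (G : AddCommGrpCat.{w}) (a : G) :
    AddCommGrpCat.of (ULift.{w} ℤ) ⟶ G :=
  AddCommGrpCat.ofHom ((zmultiplesHom G a).comp AddEquiv.ulift.toAddMonoidHom)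

theorem elemHom_apply_one (G : AddCommGrpCat.{w}) (a : G) :
    (elemHom G a).hom (ULift.up 1) = a := by
  show (zmultiplesHom G a) (AddEquiv.ulift (ULift.up (1 : ℤ))) = a
  exact one_zsmul a

theorem elemHom_comp {G H : AddCommGrpCat.{w}} (f : G ⟶ H) (a : G) :
    elemHom G a ≫ f = elemHom H (f.hom a) := by
  ext
  simp [elemHom]

theorem elemHom_injective (G : AddCommGrpCat.{w}) {a b : G} (h : elemHom G a = elemHom G b) :
    a = b := by
  rw [← elemHom_apply_one G a, ← elemHom_apply_one G b, h]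

/-- separatedness of a sheaf of abelian groups for a covering family, elementwise. -/
theorem eq_of_isSheaf {C : Type u} [Category.{v} C] {J : GrothendieckTopology C}
    {F : Cᵒᵖ ⥤ AddCommGrpCat.{w}} (hF : Presheaf.IsSheaf J F) {I : Type*} {S : C} {X : I → C}
    (f : ∀ i, X i ⟶ S) (hf : Sieve.ofArrows _ f ∈ J S) {a b : F.obj (op S)}
    (h : ∀ i, (F.map (f i).op).hom a = (F.map (f i).op).hom b) : a = b := by
  apply elemHom_injective
  apply hF.hom_ext_ofArrows f hf
  intro i
  rw [elemHom_comp, elemHom_comp, h i]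

/-- **Package P** of PROJ:qcoh-et. -/
theorem pkgP : PkgP.{w, v, u} := by
  intro C _ J B K hK hB P F hF φ _ _ hsep hglue
  -- injectivity on good objects
  have hinj : ∀ U : C, B U → ∀ x : P.obj (op U), (φ.app (op U)).hom x = 0 → x = 0 := by
    intro U hU x hx
    have hmem : Presheaf.equalizerSieve (F := P) (X := op U) x 0 ∈ J U := by
      apply Presheaf.equalizerSieve_mem J φ
      show (φ.app (op U)).hom x = (φ.app (op U)).hom 0
      rw [hx, map_zero]
    obtain ⟨𝒱, h𝒱, hj⟩ := hB U hU _ hmem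
    refine hsep U hU 𝒱 h𝒱 x (fun j => ?_)
    have := hj j
    change (P.map (𝒱.g j).op).hom x = (P.map (𝒱.g j).op).hom 0 at this
    rw [this, map_zero]
  intro U hU
  constructor
  · intro x y hxy
    have h0 : x - y = 0 := by
      apply hinj U hU
      have : (φ.app (op U)).hom x = (φ.app (op U)).hom y := hxy
      rw [map_sub, this, sub_self]
    exact sub_eq_zero.mp h0
  · intro y
    have hmem : Presheaf.imageSieve φ y ∈ J U := Presheaf.imageSieve_mem J φ (U := op U) y
    obtain ⟨𝒱, h𝒱, hj⟩ := hB U hU _ hmem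
    obtain ⟨hBV, hBW, hcov⟩ := hK U 𝒱 h𝒱
    choose x hx using hj
    -- compatibility on the overlaps
    have hcompat : ∀ j k, P.map (𝒱.p₁ j k).op (x j) = P.map (𝒱.p₂ j k).op (x k) := by
      intro j k
      have h0 : (P.map (𝒱.p₁ j k).op).hom (x j) - (P.map (𝒱.p₂ j k).op).hom (x k) = 0 := by
        apply hinj _ (hBW j k)
        have n1 := NatTrans.naturality_apply φ (𝒱.p₁ j k).op (x j)
        have n2 := NatTrans.naturality_apply φ (𝒱.p₂ j k).op (x k)
        have e1 : (φ.app (op (𝒱.W j k))).hom ((P.map (𝒱.p₁ j k).op).hom (x j)) =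
            (F.map (𝒱.p₁ j k).op).hom ((F.map (𝒱.g j).op).hom y) := by
          rw [← hx j]; exact n1
        have e2 : (φ.app (op (𝒱.W j k))).hom ((P.map (𝒱.p₂ j k).op).hom (x k)) =
            (F.map (𝒱.p₂ j k).op).hom ((F.map (𝒱.g k).op).hom y) := by
          rw [← hx k]; exact n2
        have e3 : (F.map (𝒱.p₁ j k).op).hom ((F.map (𝒱.g j).op).hom y) =
            (F.map (𝒱.p₂ j k).op).hom ((F.map (𝒱.g k).op).hom y) := by
          have := congrArg (fun f => (F.map f.op).hom y) (𝒱.w j k)
          simpa using this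
        rw [map_sub, e1, e2, e3, sub_self]
      exact sub_eq_zero.mp h0
    obtain ⟨z, hz⟩ := hglue U hU 𝒱 h𝒱 x hcompat
    refine ⟨z, ?_⟩
    apply eq_of_isSheaf hF 𝒱.g hcov
    intro j
    have n1 := NatTrans.naturality_apply φ (𝒱.g j).op z
    have : (F.map (𝒱.g j).op).hom ((φ.app (op U)).hom z) =
        (φ.app (op (𝒱.V j))).hom ((P.map (𝒱.g j).op).hom z) := n1.symm
    rw [this]
    have hz' : (P.map (𝒱.g j).op).hom z = x j := hz j
    rw [hz']
    exact hx j

end Groth.Agent.R2.H69.QCT
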