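import Mathlib
import Groth.Prelude.Def_MoreMor
import Groth.Agent.Lib.Helper3FibreConstr

/-!
# helper69: maximal points, irreducible components and generizations in fibre products

* `closure_singleton_mem_irreducibleComponents`, `exists_isGenericPoint_of_mem_irreducibleComponents`,
  `eq_of_specializes_of_closure_mem`: dictionary between irreducible components and maximal points of
  a quasi-sober T0 space;
* `flat_fiberMap_snd`: for `X' = X ×_Y Y'`, the map of fibres over `y ∈ Y` of `X' ⟶ Y'` is flat (it
  is a base change of `X_y ⟶ Spec κ(y)`);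
* `exists_generization_snd`: generizations inside a fibre of `Y' ⟶ Y` lift along `X ×_Y Y' ⟶ Y'`.
-/

set_option autoImplicit false
set_option linter.style.haveILetI false
universe u
open CategoryTheory CategoryTheory.Limits AlgebraicGeometry Topology TopologicalSpace

namespace Groth.Agent.R2.H69.QuasiFlatTop

section Top

variable {T : Type*} [TopologicalSpace T] [QuasiSober T] [T0Space T]

/-- the closure of a maximal point is an irreducible component. -/
theorem closure_singleton_mem_irreducibleComponents {y : T} (hy : ∀ y₁ : T, y₁ ⤳ y → y₁ = y) :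
    closure {y} ∈ irreducibleComponents T := by
  refine ⟨isIrreducible_singleton.closure, fun W hW hle => ?_⟩
  have hWc : IsIrreducible (closure W) := hW.closure
  obtain ⟨t, ht⟩ := QuasiSober.sober hWc isClosed_closure
  have hty : t ⤳ y := ht.specializes (subset_closure (hle (subset_closure rfl)))
  have := hy t hty
  subst this
  rw [ht.def]
  exact subset_closure

/-- an irreducible component has a generic point, which is a maximal point. -/
theorem exists_isGenericPoint_of_mem_irreducibleComponents {Z : Set T}
    (hZ : Z ∈ irreducibleComponents T) :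
    ∃ z : T, IsGenericPoint z Z ∧ ∀ z₁ : T, z₁ ⤳ z → z₁ = z := by
  have hZcl : IsClosed Z := isClosed_of_mem_irreducibleComponents Z hZ
  obtain ⟨z, hz⟩ := QuasiSober.sober hZ.1 hZcl
  refine ⟨z, hz, fun z₁ h1 => ?_⟩
  have h1' : Z ⊆ closure {z₁} := by
    rw [← hz.def]
    exact closure_minimal (Set.singleton_subset_iff.mpr (specializes_iff_mem_closure.mp h1))
      isClosed_closure
  have h2 : closure {z₁} ⊆ Z := hZ.2 isIrreducible_singleton.closure h1'
  have h3 : z ⤳ z₁ := hz.specializes (h2 (subset_closure rfl))
  exact (h1.antisymm h3).eq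

/-- if the closure of a point is an irreducible component, the point is maximal. -/
theorem eq_of_specializes_of_closure_mem {y y₁ : T} (hy : closure {y} ∈ irreducibleComponents T)
    (h : y₁ ⤳ y) : y₁ = y := by
  obtain ⟨z, hz, hmax⟩ := exists_isGenericPoint_of_mem_irreducibleComponents hy
  have hzy : z = y := hz.eq isGenericPoint_closure
  subst hzy
  exact hmax y₁ h

end Top

variable {X Y Y' : Scheme.{u}}

/-- for `X' = X ×_Y Y'`, the map of fibres over `y ∈ Y` of the projection `X' ⟶ Y'` is flat. -/
theorem flat_fiberMap_snd (f : X ⟶ Y) (g : Y' ⟶ Y) (y : Y) :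
    Flat (MoreMor.fiberMap (pullback.snd f g) g y) := by
  have sq1 : IsPullback ((pullback.snd f g ≫ g).fiberι y)
      (MoreMor.fiberMap (pullback.snd f g) g y) (pullback.snd f g) (g.fiberι y) :=
    Groth.Agent.Lib.Helper3.FibreConstr.isPullback_fibreMap (pullback.snd f g) g y
  have sq2 : IsPullback (pullback.fst f g) (pullback.snd f g) f g := IsPullback.of_hasPullback f g
  have big := sq1.paste_horiz sq2
  have sq3 : IsPullback (f.fiberι y) (f.fiberToSpecResidueField y) f (Y.fromSpecResidueField y) :=
    IsPullback.of_hasPullback f (Y.fromSpecResidueField y)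
  have hcomm : g.fiberι y ≫ g = g.fiberToSpecResidueField y ≫ Y.fromSpecResidueField y :=
    pullback.condition
  rw [hcomm] at big
  have hw : ((pullback.snd f g ≫ g).fiberι y ≫ pullback.fst f g) ≫ f =
      (MoreMor.fiberMap (pullback.snd f g) g y ≫ g.fiberToSpecResidueField y) ≫
        Y.fromSpecResidueField y := by
    rw [Category.assoc]
    exact big.w
  have sq4 : IsPullback (sq3.lift _ _ hw) (MoreMor.fiberMap (pullback.snd f g) g y)
      (f.fiberToSpecResidueField y) (g.fiberToSpecResidueField y) := by
    refine IsPullback.of_right ?_ (sq3.lift_snd _ _ hw) sq3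
    rw [sq3.lift_fst]
    exact big
  exact MorphismProperty.of_isPullback (P := @Flat) sq4 inferInstance

/-- generizations inside a fibre of `g : Y' ⟶ Y` lift along the projection `X ×_Y Y' ⟶ Y'`. -/
theorem exists_generization_snd (f : X ⟶ Y) (g : Y' ⟶ Y) (z' : ↥(pullback f g)) (y'' : Y')
    (hsp : y'' ⤳ pullback.snd f g z') (hy : g y'' = g (pullback.snd f g z')) :
    ∃ z'' : ↥(pullback f g), z'' ⤳ z' ∧ pullback.snd f g z'' = y'' := by
  set q := pullback.snd f g with hq
  set y : Y := g (q z') with hydef
  have sq1 : IsPullback ((q ≫ g).fiberι y) (MoreMor.fiberMap q g y) q (g.fiberι y) :=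
    Groth.Agent.Lib.Helper3.FibreConstr.isPullback_fibreMap q g y
  haveI : Flat (MoreMor.fiberMap q g y) := flat_fiberMap_snd f g y
  -- `z'` comes from the fibre of `q ≫ g`
  have hz' : z' ∈ Set.range ((q ≫ g).fiberι y) := by
    rw [Scheme.Hom.range_fiberι]
    show (q ≫ g) z' = y
    rw [Scheme.Hom.comp_apply]
  obtain ⟨w', hw'⟩ := hz'
  -- `y''` comes from the fibre of `g`
  have hy'' : y'' ∈ Set.range (g.fiberι y) := by
    rw [Scheme.Hom.range_fiberι]
    exact hy
  obtain ⟨v'', hv''⟩ := hy''
  have hv' : g.fiberι y (MoreMor.fiberMap q g y w') = q z' := by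
    rw [← Scheme.Hom.comp_apply, ← sq1.w, Scheme.Hom.comp_apply, hw']
  have hspv : v'' ⤳ MoreMor.fiberMap q g y w' := by
    rw [← (g.fiberι y).isEmbedding.isInducing.specializes_iff, hv'', hv']
    exact hsp
  obtain ⟨w'', hw''sp, hw''⟩ := Flat.generalizingMap (MoreMor.fiberMap q g y) hspv
  refine ⟨(q ≫ g).fiberι y w'', ?_, ?_⟩
  · rw [← hw']
    exact hw''sp.map ((q ≫ g).fiberι y).continuous
  · rw [← Scheme.Hom.comp_apply, sq1.w, Scheme.Hom.comp_apply, hw'', hv'']

end Groth.Agent.R2.H69.QuasiFlatTop
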