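import Mathlib
import Groth.Agent.R2.H55TorLoc
import Groth.Agent.Lib.Helper1TorDim
import Groth.Agent.R2.H26PdTor
import Groth.Agent.S0563

/-!
# Tor dimension over regular rings of finite Krull dimension (helper69)

* `hasTorDimLE_of_isRegularLocalRing`: over a regular local ring of Krull dimension `≤ d` every module has
  tor dimension `≤ d`.
* `hasTorDimLE_of_forall_maximal`: tor dimension `≤ d` of an `A`-module may be checked after
  localising at the maximal ideals of `A` (via helper55's `H55TorLoc`), in the form "every module over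
  each localisation has tor dimension `≤ d`".
* `hasTorDimLE_of_regular`: over a ring all of whose localisations at primes are regular local of
  Krull dimension `≤ d`, every module has tor dimension `≤ d`.
-/
set_option autoImplicit false
set_option maxHeartbeats 400000
universe u
open CategoryTheory CategoryTheory.Limits
attribute [local instance] HasDerivedCategory.standard

namespace Groth.Agent.R2.H69.RegTorDim

open DerivedCategory Groth.Agent.Lib.Helper1.Tor Groth.Agent.Lib.Helper1.TorDim

/-- over a regular local ring of Krull dimension `≤ d` every module has tor dimension `≤ d` -/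
theorem hasTorDimLE_of_isRegularLocalRing (R : Type u) [CommRing R] [IsRegularLocalRing R] (d : ℕ)
    (hd : ringKrullDim R ≤ (d : WithBot ℕ∞)) (M : Type u) [AddCommGroup M] [Module R M] :
    DRing.HasTorDimLE R d M := by
  have h0 : 0 ≤ ringKrullDim R := ringKrullDim_nonneg_of_nontrivial
  obtain ⟨n, hn, hnd⟩ : ∃ n : ℕ, ringKrullDim R = n ∧ n ≤ d := by
    obtain ⟨k, hk⟩ : ∃ k : ℕ∞, ringKrullDim R = k := by
      cases hR : ringKrullDim R with
      | bot => rw [hR] at h0; simp at h0
      | coe k => exact ⟨k, rfl⟩
    rw [hk] at hd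
    have hk' : k ≤ (d : ℕ∞) := by exact_mod_cast hd
    obtain ⟨n, rfl⟩ : ∃ n : ℕ, k = n := by
      cases k with
      | top => simp at hk'
      | coe n => exact ⟨n, rfl⟩
    exact ⟨n, hk, by exact_mod_cast hk'⟩
  have h1 : HasProjectiveDimensionLT (ModuleCat.of R M) (n + 1) := Groth.Agent.S0563.result R n hn M
  have h2 : HasProjectiveDimensionLT (ModuleCat.of R M) (d + 1) :=
    hasProjectiveDimensionLT_of_ge _ (n + 1) _ (by omega)
  intro N _ _ p hp
  exact ModuleCat.subsingleton_of_isZero
    (Groth.Agent.R2.H26.PdFlat.isZero_tor_of_hasProjectiveDimensionLT d _ h2 p hp (ModuleCat.of R N))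

/-- a complex concentrated in degree `0` over a ring all of whose modules have tor dimension `≤ d` has
tor amplitude in `[-d, 0]` -/
theorem hasTorAmp_of_concentrated (R : Type u) [CommRing R] (d : ℕ)
    (hgl : ∀ (M : Type u) [AddCommGroup M] [Module R M], DRing.HasTorDimLE R d M)
    (L : DRing.Cx R) (hL : ∀ i : ℤ, i ≠ 0 → IsZero (L.X i)) :
    DRing.HasTorAmplitudeIn R (-(d : ℤ)) 0 (DRing.toD L) := by
  have h1 : L.IsStrictlyGE 0 := by
    rw [CochainComplex.isStrictlyGE_iff]
    intro i hi
    exact hL i (by omega)
  have h2 : L.IsStrictlyLE 0 := by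
    rw [CochainComplex.isStrictlyLE_iff]
    intro i hi
    exact hL i (by omega)
  obtain ⟨M, ⟨e⟩⟩ := CochainComplex.exists_iso_single L 0
  have e' : DRing.toD L ≅ Dual.inD R M :=
    Q.mapIso e ≪≫ ((singleFunctorIsoCompQ (ModuleCat.{u} R) 0).app M).symm
  exact hasTorAmp_of_iso e'.symm ((hasTorDimLE_iff_hasTorAmp M d).1 (hgl M))

/-- tor dimension `≤ d` of every module may be checked on the localisations at maximal ideals -/
theorem hasTorDimLE_of_forall_maximal (A : Type u) [CommRing A] (d : ℕ)
    (hloc : ∀ (p : Ideal A) [p.IsPrime] (M' : Type u) [AddCommGroup M']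
      [Module (Localization.AtPrime p) M'], DRing.HasTorDimLE (Localization.AtPrime p) d M')
    (M : Type u) [AddCommGroup M] [Module A M] : DRing.HasTorDimLE A d M := by
  rw [hasTorDimLE_iff_hasTorAmp]
  let K : DRing.Cx A :=
    (HomologicalComplex.single (ModuleCat.{u} A) (ComplexShape.up ℤ) 0).obj (ModuleCat.of A M)
  have hK : ∀ i : ℤ, i ≠ 0 → IsZero (K.X i) := fun i hi =>
    HomologicalComplex.isZero_single_obj_X (ComplexShape.up ℤ) 0 (ModuleCat.of A M) i hi
  have key := Groth.Agent.R2.H55.TorLoc.hasTorAmp_restrict_of_forall_maximal_localization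
    (A := A) (B := A) K (-(d : ℤ)) 0 (fun m hm => by
      have : (m.comap (algebraMap A A)).IsPrime := Ideal.comap_isPrime _ _
      refine hasTorAmp_of_concentrated _ d (fun M' _ _ => hloc _ M') _ (fun i hi => ?_)
      exact (ModuleCat.restrictScalars.{u} _).map_isZero
        ((ModuleCat.extendScalars.{u, u, u} _).map_isZero (hK i hi)))
  -- identify the restriction along the identity with `M[0]`
  have e1 : (DRing.restrictCx (algebraMap A A)).obj K ≅ K :=
    ((Functor.mapHomologicalComplex (ModuleCat.restrictScalars.{u} (algebraMap A A))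
        (ComplexShape.up ℤ)).mapIso (Iso.refl K)) ≪≫
      (NatIso.mapHomologicalComplex (ModuleCat.restrictScalarsId' (algebraMap A A) rfl)
        (ComplexShape.up ℤ)).app K ≪≫ (Functor.mapHomologicalComplexIdIso _ _).app K
  have e2 : DRing.toD K ≅ Dual.inD A M :=
    ((singleFunctorIsoCompQ (ModuleCat.{u} A) 0).app (ModuleCat.of A M)).symm
  exact hasTorAmp_of_iso (Q.mapIso e1 ≪≫ e2) key

/-- over a ring whose localisations at primes are regular local of Krull dimension `≤ d`, every module
has tor dimension `≤ d` -/
theorem hasTorDimLE_of_regular (A : Type u) [CommRing A] (d : ℕ)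
    (hreg : ∀ (p : Ideal A) [p.IsPrime], IsRegularLocalRing (Localization.AtPrime p))
    (hdim : ∀ (p : Ideal A) [p.IsPrime], ringKrullDim (Localization.AtPrime p) ≤ (d : WithBot ℕ∞))
    (M : Type u) [AddCommGroup M] [Module A M] : DRing.HasTorDimLE A d M :=
  hasTorDimLE_of_forall_maximal A d (fun p _ M' _ _ =>
    haveI := hreg p
    hasTorDimLE_of_isRegularLocalRing _ d (hdim p) M') M

end Groth.Agent.R2.H69.RegTorDim
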