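import Mathlib.RingTheory.Localization.BaseChange
import Mathlib.RingTheory.Localization.Integer
import Mathlib.RingTheory.Localization.FractionRing
import Mathlib.LinearAlgebra.FreeModule.Finite.Basic
import Mathlib.LinearAlgebra.Dimension.Free
import Mathlib.LinearAlgebra.Basis.VectorSpace
import Mathlib.RingTheory.Finiteness.Basic
import Mathlib.RingTheory.TensorProduct.Finite

/-!
# A finitely generated torsion-free module over a domain embeds into a finite free module
-/

set_option autoImplicit false

universe u

namespace Groth.Agent.R2.H69.TorsionFreeEmbed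

open scoped TensorProduct

theorem mk_injective (O : Type u) [CommRing O] [IsDomain O] (K : Type u) [Field K] [Algebra O K]
    [IsFractionRing O K] (M : Type u) [AddCommGroup M] [Module O M] [NoZeroSMulDivisors O M] :
    Function.Injective (TensorProduct.mk O K M 1) := by
  rw [injective_iff_map_eq_zero]
  intro m hm
  rw [IsLocalizedModule.eq_zero_iff (nonZeroDivisors O) (TensorProduct.mk O K M 1)] at hm
  obtain ⟨s, hs⟩ := hm
  have hs0 : (s : O) ≠ 0 := nonZeroDivisors.coe_ne_zero s
  rcases smul_eq_zero.mp (show (s : O) • m = 0 from hs) with h | h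
  · exact absurd h hs0
  · exact h

theorem exists_injective_to_free (O : Type u) [CommRing O] [IsDomain O]
    (M : Type u) [AddCommGroup M] [Module O M] [Module.Finite O M] [NoZeroSMulDivisors O M] :
    ∃ (n : ℕ) (g : M →ₗ[O] (Fin n → O)), Function.Injective g := by
  classical
  let K := FractionRing O
  let V := K ⊗[O] M
  let ι : M →ₗ[O] V := TensorProduct.mk O K M 1
  have hι : Function.Injective ι := mk_injective O K M
  have : Module.Finite K V := Module.Finite.base_change O K M
  let n := Module.finrank K V
  let b : Module.Basis (Fin n) K V := Module.finBasis K V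
  obtain ⟨s, hs⟩ := (Module.finite_def.mp (inferInstance : Module.Finite O M))
  let T : Finset K := (s ×ˢ (Finset.univ : Finset (Fin n))).image
    (fun mi => b.repr (ι mi.1) mi.2)
  obtain ⟨d, hd⟩ := IsLocalization.exist_integer_multiples_of_finset (nonZeroDivisors O) T
  have hd0 : (d : O) ≠ 0 := nonZeroDivisors.coe_ne_zero d
  let φ : M →ₗ[O] (Fin n → K) :=
    (d : O) • ((b.equivFun.toLinearMap.restrictScalars O).comp ι)
  let j : (Fin n → O) →ₗ[O] (Fin n → K) := (Algebra.linearMap O K).compLeft (Fin n)
  have hj : Function.Injective j := by
    intro x y hxy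
    funext i
    have := congrFun hxy i
    exact IsFractionRing.injective O K this
  have hφ : Function.Injective φ := by
    rw [injective_iff_map_eq_zero]
    intro m hm
    have h1 : (d : O) • (b.equivFun (ι m)) = 0 := hm
    have h2 : (algebraMap O K (d : O)) • (b.equivFun (ι m)) = 0 := by
      rw [← h1, algebraMap_smul]
    have h3 : algebraMap O K (d : O) ≠ 0 := by
      intro h
      exact hd0 (IsFractionRing.injective O K (by rw [h, map_zero]))
    have h4 : b.equivFun (ι m) = 0 := (smul_eq_zero.mp h2).resolve_left h3
    have h5 : ι m = 0 := by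
      have := b.equivFun.injective (a₁ := ι m) (a₂ := 0) (by rw [h4, map_zero])
      exact this
    exact hι (by rw [h5, map_zero])
  have hrange : ∀ m : M, φ m ∈ LinearMap.range j := by
    have hle : (⊤ : Submodule O M) ≤ Submodule.comap φ (LinearMap.range j) := by
      rw [← hs, Submodule.span_le]
      intro m hm
      change φ m ∈ LinearMap.range j
      have hint : ∀ i : Fin n, ∃ y : O, algebraMap O K y = (d : O) • (b.repr (ι m) i) := by
        intro i
        have hmem : b.repr (ι m) i ∈ T :=
          Finset.mem_image.mpr ⟨(m, i), Finset.mem_product.mpr ⟨hm, Finset.mem_univ i⟩, rfl⟩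
        exact hd _ hmem
      choose y hy using hint
      refine ⟨y, ?_⟩
      funext i
      change algebraMap O K (y i) = (d : O) • (b.equivFun (ι m)) i
      rw [hy i, Module.Basis.equivFun_apply]
    intro m
    exact hle trivial
  refine ⟨n, (LinearEquiv.ofInjective j hj).symm.toLinearMap.comp
    (φ.codRestrict (LinearMap.range j) hrange), ?_⟩
  intro x y hxy
  apply hφ
  have h1 := (LinearEquiv.ofInjective j hj).symm.injective hxy
  exact congrArg Subtype.val h1

end Groth.Agent.R2.H69.TorsionFreeEmbed
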