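import Mathlib.RingTheory.WittVector.Frobenius
import Mathlib.RingTheory.WittVector.Identities
import Mathlib.Algebra.CharP.Quotient
import Mathlib.RingTheory.Ideal.Maps
import Mathlib.RingTheory.Nilpotent.Basic

/-!
# Nilpotence of the Witt vector Frobenius on `W(𝔞)`

If `p` is nilpotent in `S` and every element of `𝔞 = ker (S → R)` is killed by one exponent `N`,
then a fixed iterate of the Frobenius of `W(S)` kills `W(𝔞) = ker (W(S) → W(R))`.
-/

set_option autoImplicit false

namespace Groth.Agent.R2.H69.WittFrobNilp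

open MvPolynomial

variable {p : ℕ} [hp : Fact p.Prime]

theorem constantCoeff_frobeniusPoly (n : ℕ) :
    constantCoeff (WittVector.frobeniusPoly p n) = 0 := by
  have h := WittVector.coeff_frobenius (p := p) (0 : WittVector p ℤ) n
  have h0 : (0 : WittVector p ℤ).coeff = (0 : ℕ → ℤ) := by
    funext k; exact WittVector.zero_coeff p ℤ k
  rw [map_zero, WittVector.zero_coeff, h0, MvPolynomial.aeval_zero] at h
  simpa using h.symm

theorem constantCoeff_frobeniusPolyAux (n : ℕ) :
    constantCoeff (WittVector.frobeniusPolyAux p n) = 0 := by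
  have h := constantCoeff_frobeniusPoly (p := p) n
  rw [WittVector.frobeniusPoly, map_add, map_pow, constantCoeff_X, map_mul, constantCoeff_C,
    zero_pow hp.out.ne_zero, zero_add] at h
  rcases mul_eq_zero.mp h with h | h
  · exact absurd (by exact_mod_cast h) hp.out.ne_zero
  · exact h

theorem aeval_mem_of_constantCoeff_eq_zero {S : Type*} [CommRing S] (I : Ideal S) (f : ℕ → S)
    (hf : ∀ i, f i ∈ I) (q : MvPolynomial ℕ ℤ) (hq : constantCoeff q = 0) :
    aeval f q ∈ I := by
  rw [MvPolynomial.aeval_def, MvPolynomial.eval₂_eq]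
  refine Ideal.sum_mem _ fun d hd => ?_
  have hd0 : d ≠ 0 := by
    rintro rfl
    exact (MvPolynomial.mem_support_iff.mp hd) (by simpa [constantCoeff_eq] using hq)
  obtain ⟨i, hi⟩ : ∃ i, d i ≠ 0 := by
    by_contra h
    exact hd0 (Finsupp.ext fun i => by_contra fun hi => h ⟨i, hi⟩)
  apply Ideal.mul_mem_left
  have hi' : i ∈ d.support := Finsupp.mem_support_iff.mpr hi
  rw [← Finset.mul_prod_erase _ _ hi']
  apply Ideal.mul_mem_right
  exact Ideal.pow_mem_of_mem _ (hf i) _ (Nat.pos_of_ne_zero hi)

theorem coeff_frobenius_mem_pow_succ {S : Type*} [CommRing S] (j : ℕ) (hj : 1 ≤ j)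
    (x : WittVector p S) (hx : ∀ n, x.coeff n ∈ (Ideal.span {(p : S)}) ^ j) (n : ℕ) :
    (WittVector.frobenius x).coeff n ∈ (Ideal.span {(p : S)}) ^ (j + 1) := by
  rw [WittVector.coeff_frobenius, WittVector.frobeniusPoly, map_add, map_pow, aeval_X, map_mul,
    aeval_C]
  apply Ideal.add_mem
  · have h1 : x.coeff n ^ p ∈ ((Ideal.span {(p : S)}) ^ j) ^ p := Ideal.pow_mem_pow (hx n) p
    rw [← pow_mul] at h1
    have h2 : j + 1 ≤ j * p := by nlinarith [hp.out.two_le]
    exact Ideal.pow_le_pow_right h2 h1
  · rw [pow_succ']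
    apply Ideal.mul_mem_mul
    · have : (algebraMap ℤ S) (p : ℤ) = (p : S) := by simp
      rw [this]
      exact Ideal.mem_span_singleton_self (p : S)
    · exact aeval_mem_of_constantCoeff_eq_zero _ _ hx _ (constantCoeff_frobeniusPolyAux n)

theorem coeff_iterate_frobenius_mem_pow {S : Type*} [CommRing S] (j : ℕ) (hj : 1 ≤ j) (i : ℕ)
    (x : WittVector p S) (hx : ∀ n, x.coeff n ∈ (Ideal.span {(p : S)}) ^ j) (n : ℕ) :
    ((WittVector.frobenius (p := p) (R := S))^[i] x).coeff n ∈ (Ideal.span {(p : S)}) ^ (j + i) := by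
  induction i generalizing n with
  | zero => simpa using hx n
  | succ i ih =>
    rw [Function.iterate_succ_apply', ← add_assoc]
    exact coeff_frobenius_mem_pow_succ (j + i) (by omega) _ ih n

theorem map_frobenius {S T : Type*} [CommRing S] [CommRing T] (g : S →+* T) (x : WittVector p S) :
    WittVector.map g (WittVector.frobenius x) = WittVector.frobenius (WittVector.map g x) := by
  ext n
  simp only [WittVector.map_coeff, WittVector.coeff_frobenius]
  rw [MvPolynomial.aeval_def, MvPolynomial.aeval_def, MvPolynomial.hom_eval₂]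
  congr 1
  exact RingHom.ext_int _ _

theorem map_iterate_frobenius {S T : Type*} [CommRing S] [CommRing T] (g : S →+* T) (i : ℕ)
    (x : WittVector p S) :
    WittVector.map g ((WittVector.frobenius (p := p) (R := S))^[i] x) =
      (WittVector.frobenius (p := p) (R := T))^[i] (WittVector.map g x) := by
  induction i with
  | zero => rfl
  | succ i ih => rw [Function.iterate_succ_apply', Function.iterate_succ_apply', map_frobenius, ih]

/-- **Key**: a fixed iterate of Frobenius kills `ker (W(S) → W(R))`. -/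
theorem exists_iterate_frobenius_eq_zero {S R : Type*} [CommRing S] [CommRing R] (φ : S →+* R)
    (hpn : IsNilpotent (p : S)) (N : ℕ) (hN : ∀ a : S, φ a = 0 → a ^ N = 0) :
    ∃ M : ℕ, ∀ x : WittVector p S, WittVector.map φ x = 0 →
      (WittVector.frobenius (p := p) (R := S))^[M] x = 0 := by
  rcases subsingleton_or_nontrivial S with hS | hS
  · refine ⟨0, fun x _ => ?_⟩
    ext n
    exact Subsingleton.elim _ _
  obtain ⟨e, he⟩ := hpn
  refine ⟨e + N, fun x hx => ?_⟩
  have hnu : (p : S) ∈ nonunits S := by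
    intro hu
    have : IsUnit ((p : S) ^ e) := hu.pow e
    rw [he] at this
    exact not_isUnit_zero this
  have : CharP (S ⧸ Ideal.span {(p : S)}) p := CharP.quotient S p hnu
  -- Step 1
  have h1 : ∀ n, ((WittVector.frobenius (p := p) (R := S))^[N] x).coeff n ∈
      (Ideal.span {(p : S)}) ^ 1 := by
    intro n
    rw [pow_one, ← Ideal.Quotient.eq_zero_iff_mem, ← WittVector.map_coeff, map_iterate_frobenius,
      WittVector.iterate_frobenius_coeff, WittVector.map_coeff, ← map_pow]
    have hxn : φ (x.coeff n) = 0 := by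
      have := congrArg (fun y => WittVector.coeff y n) hx
      simpa [WittVector.map_coeff] using this
    have h2 : x.coeff n ^ N = 0 := hN _ hxn
    have h3 : N ≤ p ^ N := (Nat.lt_pow_self hp.out.one_lt).le
    rw [pow_eq_zero_of_le h3 h2, map_zero]
  -- Step 2
  rw [Function.iterate_add_apply]
  ext n
  have h4 := coeff_iterate_frobenius_mem_pow (p := p) 1 le_rfl e _ h1 n
  have h5 : (Ideal.span {(p : S)}) ^ (1 + e) ≤ ⊥ := by
    rw [Ideal.span_singleton_pow, pow_add, he, mul_zero]
    simp
  simpa using h5 h4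

end Groth.Agent.R2.H69.WittFrobNilp
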