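import Mathlib
import Groth.Agent.Lib.Helper6Tower

/-!
# Étale coordinates adapted to a smooth closed subscheme (ring level)

`B` f.p. over `A`, `J` a f.g. ideal, `q ⊇ J` a prime with `B` smooth at `q` and `B/J` smooth at the
image of `q`.  Minimal generators `g_i` of `J_q` can be completed, after localizing at some
`f ∉ q`, to étale coordinates `A[X, Y] → B_f`, and `J B_f = (g_i)`.
-/

set_option autoImplicit false
universe u

namespace Groth.Agent.R2.H6.AdaptedCoord

open TensorProduct KaehlerDifferential IsLocalRing

/-- Extend a linearly independent family to a basis by vectors from a spanning set. -/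
theorem exists_extension {K V ι : Type*} [Field K] [AddCommGroup V] [Module K V]
    [Module.Finite K V] (v : ι → V) (hv : LinearIndependent K v) (T : Set V)
    (hT : ⊤ ≤ Submodule.span K T) :
    ∃ (m : ℕ) (w : Fin m → V), (∀ j, w j ∈ T) ∧ LinearIndependent K (Sum.elim v w) ∧
      Submodule.span K (Set.range (Sum.elim v w)) = ⊤ := by
  classical
  obtain ⟨b, hbt, hsb, htb, hli⟩ := exists_linearIndepOn_id_extension hv.linearIndepOn_id
    (Set.subset_union_left (s := Set.range v) (t := T))
  have hbf : b.Finite := Set.finite_coe_iff.mp hli.finite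
  have hfin : (b \ Set.range v).Finite := hbf.subset Set.sdiff_subset
  have : Fintype ↥(b \ Set.range v) := hfin.fintype
  let e : Fin (Fintype.card ↥(b \ Set.range v)) ≃ ↥(b \ Set.range v) :=
    (Fintype.equivFin _).symm
  let ψ : ι ⊕ Fin (Fintype.card ↥(b \ Set.range v)) ≃ ↥b :=
    (Equiv.sumCongr (Equiv.ofInjective v hv.injective) e).trans (Equiv.Set.sumDiffSubset hsb)
  refine ⟨_, fun j => (e j : V), fun j => ?_, ?_, ?_⟩
  · have h1 := (e j).2
    rcases hbt h1.1 with h | h
    · exact absurd h h1.2
    · exact h
  · have heq : Sum.elim v (fun j => (e j : V)) = (fun x : ↥b => (x : V)) ∘ ψ := by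
      funext x
      rcases x with i | j
      · simp [ψ, Equiv.Set.sumDiffSubset]
      · simp [ψ, Equiv.Set.sumDiffSubset]
    rw [heq]
    exact (linearIndependent_equiv ψ).mpr hli
  · have heq : Set.range (Sum.elim v (fun j => (e j : V))) = b := by
      ext x
      constructor
      · rintro ⟨y, rfl⟩
        rcases y with i | j
        · exact hsb ⟨i, rfl⟩
        · exact (e j).2.1
      · intro hx
        by_cases hxs : x ∈ Set.range v
        · obtain ⟨i, rfl⟩ := hxs
          exact ⟨Sum.inl i, rfl⟩
        · refine ⟨Sum.inr (e.symm ⟨x, hx, hxs⟩), ?_⟩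
          simp
    rw [heq, eq_top_iff]
    refine hT.trans (Submodule.span_le.mpr ?_)
    exact fun x hx => htb (Or.inr hx)

/-- Base change to an algebra over the localization does not see the localization of the
module. -/
noncomputable def tensorEquivOfIsLocalizedModule
    {B O κ M N : Type*} [CommRing B] [CommRing O] [CommRing κ] [Algebra B O] [Algebra O κ]
    [Algebra B κ] [IsScalarTower B O κ]
    (S : Submonoid B) [IsLocalization S O]
    [AddCommGroup M] [Module B M] [AddCommGroup N] [Module B N] [Module O N]
    [IsScalarTower B O N]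
    (ℓ : M →ₗ[B] N) [IsLocalizedModule S ℓ] : κ ⊗[B] M ≃ₗ[κ] κ ⊗[O] N :=
  (AlgebraTensorModule.cancelBaseChange B O κ κ M).symm ≪≫ₗ
    AlgebraTensorModule.congr (LinearEquiv.refl κ κ)
      (IsLocalizedModule.isBaseChange S O ℓ).equiv

/-- span over the residue field of the images of a generating family. -/
theorem span_tmul_eq_top {O M ι : Type*} [CommRing O] [IsLocalRing O] [AddCommGroup M]
    [Module O M] [Module.Finite O M] (v : ι → M) (hv : Submodule.span O (Set.range v) = ⊤) :
    Submodule.span (ResidueField O)
      (Set.range (TensorProduct.mk O (ResidueField O) M 1 ∘ v)) = ⊤ := by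
  have := (map_tensorProduct_mk_eq_top (N := Submodule.span O (Set.range v))).mpr hv
  rw [← Submodule.span_image, ← Set.range_comp, eq_top_iff, ← SetLike.coe_subset_coe,
    Submodule.top_coe] at this
  rw [eq_top_iff]
  exact Set.Subset.trans this (Submodule.span_subset_span _ _ _)

/-- A generating family of an ideal of a local ring with the minimal number of elements is
linearly independent modulo the maximal ideal. -/
theorem linearIndependent_tmul_of_finrank {O : Type*} [CommRing O] [IsLocalRing O] (I : Ideal O)
    (r : ℕ) (g : Fin r → I) (hspan : I = Ideal.span (Set.range fun i => (g i : O)))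
    (hr : r = Module.finrank (ResidueField O) ((ResidueField O) ⊗[O] I)) :
    LinearIndependent (ResidueField O) (fun i => (1 : ResidueField O) ⊗ₜ[O] g i) := by
  have hsp : Submodule.span O (Set.range g) = ⊤ := by
    apply Submodule.map_injective_of_injective I.subtype_injective
    rw [Submodule.map_span, ← Set.range_comp, Submodule.map_subtype_top]
    exact hspan.symm
  have hfin : Module.Finite O I := ⟨hsp ▸ Submodule.fg_span (Set.finite_range g)⟩
  have h2 := span_tmul_eq_top g hsp
  exact linearIndependent_of_top_le_span_of_card_eq_finrank h2.ge (by simpa using hr)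

/-- Jacobian criterion: if `O` and `O/I` are formally smooth over `A` (`O` local, essentially of
finite type), then `κ ⊗ I → κ ⊗ Ω[O/A]` is injective; here in the form: a family of `I` that is
independent in `κ ⊗ I` has independent differentials in `κ ⊗ Ω[O/A]`. -/
theorem linearIndependent_tmul_D
    {A O : Type u} [CommRing A] [CommRing O] [Algebra A O] [IsLocalRing O]
    [Algebra.FormallySmooth A O] [Module.Finite O Ω[O⁄A]]
    (I : Ideal O) (hI : I.FG) (hIm : I ≤ maximalIdeal O)
    [Algebra.FormallySmooth A (O ⧸ I)]
    {ι : Type*} (g : ι → I)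
    (h : LinearIndependent (ResidueField O) (fun i => (1 : ResidueField O) ⊗ₜ[O] g i)) :
    LinearIndependent (ResidueField O)
      (fun i => (1 : ResidueField O) ⊗ₜ[O] D A O (g i : O)) := by
  have hne : I ≠ ⊤ := fun h => (maximalIdeal.isMaximal O).ne_top (top_le_iff.mp (h ▸ hIm))
  have : Nontrivial (O ⧸ I) := Ideal.Quotient.nontrivial_iff.mpr hne
  have : IsLocalRing (O ⧸ I) :=
    IsLocalRing.of_surjective' (Ideal.Quotient.mk I) Ideal.Quotient.mk_surjective
  let alg : Algebra (O ⧸ I) (ResidueField O) :=
    (Ideal.Quotient.lift I (residue O)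
      (fun a ha => (residue_eq_zero_iff a).mpr (hIm ha))).toAlgebra
  have : IsScalarTower O (O ⧸ I) (ResidueField O) := IsScalarTower.of_algebraMap_eq (fun x => rfl)
  have : Module.Projective O Ω[O⁄A] :=
    (Algebra.formallySmooth_iff (R := A) (A := O)).mp inferInstance |>.1
  have : Module.Free O Ω[O⁄A] := Module.free_of_flat_of_isLocalRing
  have h₁ : Function.Surjective (algebraMap O (O ⧸ I)) := Ideal.Quotient.mk_surjective
  have hker : RingHom.ker (algebraMap O (O ⧸ I)) = I := Ideal.mk_ker
  have h₂ : (RingHom.ker (algebraMap O (O ⧸ I))).FG := hker.symm ▸ hI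
  have h₃ : maximalIdeal (O ⧸ I) ≤ RingHom.ker (algebraMap (O ⧸ I) (ResidueField O)) := by
    intro x hx
    obtain ⟨y, rfl⟩ := Ideal.Quotient.mk_surjective x
    have hy : y ∈ maximalIdeal O := by
      by_contra hy
      have hu : IsUnit y := by simpa [mem_maximalIdeal] using hy
      exact (mem_maximalIdeal _).mp hx (hu.map (Ideal.Quotient.mk I))
    rw [RingHom.mem_ker]
    exact (residue_eq_zero_iff y).mpr hy
  have hinj := (Algebra.FormallySmooth.iff_injective_cotangentComplexBaseChange
    (R := A) (S := O ⧸ I) O (ResidueField O) h₁ h₂ h₃).mp inferInstance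
  let e : (ResidueField O) ⊗[O] I ≃ₗ[ResidueField O]
      (ResidueField O) ⊗[O] (RingHom.ker (algebraMap O (O ⧸ I))) :=
    AlgebraTensorModule.congr (LinearEquiv.refl (ResidueField O) (ResidueField O))
      (LinearEquiv.ofEq I (RingHom.ker (algebraMap O (O ⧸ I))) hker.symm)
  have h2 := (h.map' e.toLinearMap e.ker).map'
    (cotangentComplexBaseChange A (O ⧸ I) O (ResidueField O)) (LinearMap.ker_eq_bot.mpr hinj)
  have heq : (fun i => (1 : ResidueField O) ⊗ₜ[O] D A O (g i : O)) =
      ⇑(cotangentComplexBaseChange A (O ⧸ I) O (ResidueField O)) ∘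
        (⇑e.toLinearMap ∘ fun i => (1 : ResidueField O) ⊗ₜ[O] g i) := by
    funext i
    simp only [Function.comp_apply, e, LinearEquiv.coe_coe, AlgebraTensorModule.congr_tmul,
      LinearEquiv.refl_apply]
    rw [cotangentComplexBaseChange_tmul, one_smul, kerToTensor_apply]
    rfl
  rw [heq]
  exact h2

/-- The local ring of `B/J` at the prime induced by `q` is `B_q / J B_q`; so the latter is
formally smooth when `B/J` is smooth at that prime. -/
theorem formallySmooth_quotient_map
    (A B : Type u) [CommRing A] [CommRing B] [Algebra A B] (J : Ideal B) (q : Ideal B) [q.IsPrime]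
    (Q : Ideal (B ⧸ J)) [Q.IsPrime] (hQ : Q.comap (Ideal.Quotient.mk J) = q)
    [Algebra.IsSmoothAt A Q] :
    Algebra.FormallySmooth A
      (Localization.AtPrime q ⧸ J.map (algebraMap B (Localization.AtPrime q))) := by
  have hsub : Algebra.algebraMapSubmonoid (B ⧸ J) q.primeCompl = Q.primeCompl := by
    ext x
    constructor
    · rintro ⟨b, hb, rfl⟩
      intro hx
      apply hb
      rw [← hQ]
      exact hx
    · intro hx
      obtain ⟨b, rfl⟩ := Ideal.Quotient.mk_surjective x
      refine ⟨b, ?_, rfl⟩
      intro hb
      apply hx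
      rw [← hQ] at hb
      exact hb
  have hloc : IsLocalization Q.primeCompl
      (Localization.AtPrime q ⧸ J.map (algebraMap B (Localization.AtPrime q))) := by
    rw [← hsub]
    infer_instance
  let e := IsLocalization.algEquiv Q.primeCompl (Localization.AtPrime Q)
    (Localization.AtPrime q ⧸ J.map (algebraMap B (Localization.AtPrime q)))
  have hfs : Algebra.FormallySmooth A (Localization.AtPrime Q) := ‹Algebra.IsSmoothAt A Q›
  have : IsScalarTower A (B ⧸ J)
      (Localization.AtPrime q ⧸ J.map (algebraMap B (Localization.AtPrime q))) := by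
    refine IsScalarTower.of_algebraMap_eq (fun a => ?_)
    rw [IsScalarTower.algebraMap_apply A (Localization.AtPrime q)
      (Localization.AtPrime q ⧸ J.map (algebraMap B (Localization.AtPrime q))),
      IsScalarTower.algebraMap_apply A B (Localization.AtPrime q),
      IsScalarTower.algebraMap_apply A B (B ⧸ J)]
    rfl
  exact Algebra.FormallySmooth.of_equiv (e.restrictScalars A)

/-- If the differentials of `x_i ∈ B` form a basis of `Ω[B_q/A]` (with `B_q` formally smooth
over `A`), then `A[X_i] → B_f` is étale for some `f ∉ q`; `f` may be taken to be a multiple of any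
given `f₂`. -/
theorem exists_etale_of_basis
    (A B : Type u) [CommRing A] [CommRing B] [Algebra A B] [Algebra.FinitePresentation A B]
    (q : Ideal B) [q.IsPrime] [Algebra.FormallySmooth A (Localization.AtPrime q)]
    {σ : Type} [Finite σ] (x : σ → B)
    (hli : LinearIndependent (Localization.AtPrime q)
      (fun i => D A (Localization.AtPrime q) (algebraMap B (Localization.AtPrime q) (x i))))
    (hsp : Submodule.span (Localization.AtPrime q)
      (Set.range fun i => D A (Localization.AtPrime q)
        (algebraMap B (Localization.AtPrime q) (x i))) = ⊤)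
    (f₂ : B) :
    ∃ f₁ : B, f₁ ∉ q ∧
      (MvPolynomial.aeval (fun i => algebraMap B (Localization.Away (f₁ * f₂)) (x i)) :
        MvPolynomial σ A →ₐ[A] Localization.Away (f₁ * f₂)).toRingHom.Etale := by
  let φ : MvPolynomial σ A →ₐ[A] B := MvPolynomial.aeval x
  let alg : Algebra (MvPolynomial σ A) B := φ.toRingHom.toAlgebra
  have tower : IsScalarTower A (MvPolynomial σ A) B :=
    IsScalarTower.of_algebraMap_eq (fun a => (φ.commutes a).symm)
  have tower2 : IsScalarTower A (MvPolynomial σ A) (Localization.AtPrime q) := by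
    refine IsScalarTower.of_algebraMap_eq (fun a => ?_)
    rw [IsScalarTower.algebraMap_apply A B (Localization.AtPrime q),
      IsScalarTower.algebraMap_apply (MvPolynomial σ A) B (Localization.AtPrime q),
      ← IsScalarTower.algebraMap_apply A (MvPolynomial σ A) B]
  have fp : Algebra.FinitePresentation (MvPolynomial σ A) B :=
    Algebra.FinitePresentation.of_restrict_scalars_finitePresentation A _ _
  have het : Algebra.IsEtaleAt (MvPolynomial σ A) q := by
    rw [show Algebra.IsEtaleAt (MvPolynomial σ A) q =
      Algebra.FormallyEtale (MvPolynomial σ A) (Localization.AtPrime q) from rfl,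
      Groth.Agent.Lib.Helper6.Tower.formallyEtale_iff_bijective A (MvPolynomial σ A)
        (Localization.AtPrime q)]
    let b := (KaehlerDifferential.mvPolynomialBasis A σ).baseChange (Localization.AtPrime q)
    have hb : ∀ i, mapBaseChange A (MvPolynomial σ A) (Localization.AtPrime q) (b i) =
        D A (Localization.AtPrime q) (algebraMap B (Localization.AtPrime q) (x i)) := by
      intro i
      simp only [b, Module.Basis.baseChange_apply, KaehlerDifferential.mvPolynomialBasis_apply,
        mapBaseChange_tmul, KaehlerDifferential.map_D, one_smul]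
      rw [IsScalarTower.algebraMap_apply (MvPolynomial σ A) B (Localization.AtPrime q)]
      congr 2
      exact MvPolynomial.aeval_X x i
    let b' := Module.Basis.mk hli (by rw [hsp])
    let e := b.equiv b' (Equiv.refl _)
    have : mapBaseChange A (MvPolynomial σ A) (Localization.AtPrime q) = e.toLinearMap := by
      apply b.ext
      intro i
      rw [hb i, LinearEquiv.coe_coe, Module.Basis.equiv_apply, Equiv.refl_apply,
        Module.Basis.mk_apply]
    rw [this]
    exact e.bijective
  obtain ⟨_, ⟨_, ⟨f₁, rfl⟩, rfl⟩, hq1, hsub⟩ :=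
    PrimeSpectrum.isBasis_basic_opens.exists_subset_of_mem_open
      (show (⟨q, ‹_›⟩ : PrimeSpectrum B) ∈ Algebra.etaleLocus (MvPolynomial σ A) B from het)
      Algebra.isOpen_etaleLocus
  refine ⟨f₁, hq1, ?_⟩
  have hsub2 : (↑(PrimeSpectrum.basicOpen (f₁ * f₂)) : Set (PrimeSpectrum B)) ⊆
      Algebra.etaleLocus (MvPolynomial σ A) B :=
    fun y hy => hsub (PrimeSpectrum.basicOpen_mul_le_left f₁ f₂ hy)
  have het2 : Algebra.Etale (MvPolynomial σ A) (Localization.Away (f₁ * f₂)) :=
    Algebra.basicOpen_subset_etaleLocus_iff_etale.mp hsub2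
  have heq : (MvPolynomial.aeval (fun i => algebraMap B (Localization.Away (f₁ * f₂)) (x i)) :
      MvPolynomial σ A →ₐ[A] Localization.Away (f₁ * f₂)).toRingHom =
      algebraMap (MvPolynomial σ A) (Localization.Away (f₁ * f₂)) := by
    apply MvPolynomial.ringHom_ext
    · intro a
      simp only [AlgHom.toRingHom_eq_coe, RingHom.coe_coe, MvPolynomial.aeval_C]
      rw [IsScalarTower.algebraMap_apply (MvPolynomial σ A) B (Localization.Away (f₁ * f₂)),
        IsScalarTower.algebraMap_apply A B (Localization.Away (f₁ * f₂))]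
      congr 1
      exact (φ.commutes a).symm
    · intro i
      simp only [AlgHom.toRingHom_eq_coe, RingHom.coe_coe, MvPolynomial.aeval_X]
      rw [IsScalarTower.algebraMap_apply (MvPolynomial σ A) B (Localization.Away (f₁ * f₂))]
      congr 1
      exact (MvPolynomial.aeval_X x i).symm
  rw [heq]
  exact RingHom.etale_algebraMap.mpr het2

theorem exists_basis_D (A B : Type u) [CommRing A] [CommRing B]
    [Algebra A B] [Algebra.FinitePresentation A B] (J : Ideal B) (hJ : J.FG) (q : Ideal B)
    [q.IsPrime] (hJq : J ≤ q)
    [Algebra.IsSmoothAt A q] (Q : Ideal (B ⧸ J)) [Q.IsPrime]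
    (hQ : Q.comap (Ideal.Quotient.mk J) = q)
    [Algebra.IsSmoothAt A Q] (r : ℕ) (g : Fin r → B) (hg : ∀ i, g i ∈ J)
    (hgen : J.map (algebraMap B (Localization.AtPrime q)) =
      Ideal.span (Set.range fun i => algebraMap B (Localization.AtPrime q) (g i)))
    (hmin : r = Module.finrank q.ResidueField (q.ResidueField ⊗[B] J)) :
    ∃ (m : ℕ) (b' : Fin m → B),
      LinearIndependent (Localization.AtPrime q)
        (fun s : Fin r ⊕ Fin m => D A (Localization.AtPrime q)
          (algebraMap B (Localization.AtPrime q) (Sum.elim g b' s))) ∧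
      Submodule.span (Localization.AtPrime q)
        (Set.range fun s : Fin r ⊕ Fin m => D A (Localization.AtPrime q)
          (algebraMap B (Localization.AtPrime q) (Sum.elim g b' s))) = ⊤ := by
  have hfsO : Algebra.FormallySmooth A (Localization.AtPrime q) := ‹Algebra.IsSmoothAt A q›
  have hfsQ : Algebra.FormallySmooth A
      (Localization.AtPrime q ⧸ J.map (algebraMap B (Localization.AtPrime q))) :=
    formallySmooth_quotient_map A B J q Q hQ
  have hIm : J.map (algebraMap B (Localization.AtPrime q)) ≤
      maximalIdeal (Localization.AtPrime q) := by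
    rw [Ideal.map_le_iff_le_comap]
    exact hJq.trans (IsLocalization.AtPrime.under_maximalIdeal
      (Localization.AtPrime q) q).ge
  have hIfg : (J.map (algebraMap B (Localization.AtPrime q))).FG := hJ.map _
  let g' : Fin r → J.map (algebraMap B (Localization.AtPrime q)) :=
    fun i => Algebra.idealMap (Localization.AtPrime q) J ⟨g i, hg i⟩
  have hspan : J.map (algebraMap B (Localization.AtPrime q)) =
      Ideal.span (Set.range fun i => (g' i : Localization.AtPrime q)) := hgen
  have hr : r = Module.finrank (ResidueField (Localization.AtPrime q))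
      ((ResidueField (Localization.AtPrime q)) ⊗[Localization.AtPrime q]
        (J.map (algebraMap B (Localization.AtPrime q)))) := by
    rw [hmin]
    exact LinearEquiv.finrank_eq (tensorEquivOfIsLocalizedModule q.primeCompl
      (Algebra.idealMap (Localization.AtPrime q) J))
  have hli1 := linearIndependent_tmul_of_finrank _ r g' hspan hr
  have hli2 := linearIndependent_tmul_D (A := A) _ hIfg hIm g' hli1
  -- the spanning set
  have hT : ⊤ ≤ Submodule.span (ResidueField (Localization.AtPrime q))
      (Set.range fun b : B => (1 : ResidueField (Localization.AtPrime q))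
        ⊗ₜ[Localization.AtPrime q] D A (Localization.AtPrime q)
          (algebraMap B (Localization.AtPrime q) b)) := by
    have h1 := span_range_map_derivation_of_isLocalization A B (Localization.AtPrime q)
      q.primeCompl
    have h2 := span_tmul_eq_top _ h1
    rw [← h2]
    apply Submodule.span_mono
    rintro _ ⟨b, rfl⟩
    exact ⟨b, by simp⟩
  obtain ⟨m, w, hwT, hli3, hsp3⟩ := exists_extension _ hli2 _ hT
  choose b' hb' using hwT
  refine ⟨m, b', ?_⟩
  have hcomp : (TensorProduct.mk (Localization.AtPrime q) (ResidueField (Localization.AtPrime q))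
      Ω[Localization.AtPrime q⁄A] 1 ∘ fun s : Fin r ⊕ Fin m => D A (Localization.AtPrime q)
          (algebraMap B (Localization.AtPrime q) (Sum.elim g b' s))) =
      Sum.elim (fun i => (1 : ResidueField (Localization.AtPrime q))
        ⊗ₜ[Localization.AtPrime q] D A (Localization.AtPrime q) (g' i : Localization.AtPrime q))
        w := by
    funext s
    rcases s with i | j
    · rfl
    · exact hb' j
  have : Module.Projective (Localization.AtPrime q) Ω[Localization.AtPrime q⁄A] :=
    (Algebra.formallySmooth_iff (R := A) (A := Localization.AtPrime q)).mp inferInstance |>.1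
  constructor
  · apply Module.IsLocalRing.linearIndependent_of_flat
    rw [hcomp]
    exact hli3
  · refine IsLocalRing.span_eq_top_of_tmul_eq_basis _ (Module.Basis.mk hli3 hsp3.ge) (fun s => ?_)
    rw [Module.Basis.mk_apply]
    exact congrFun hcomp s


theorem exists_mul_mem_of_map_le {B : Type*} [CommRing B] (q : Ideal B) [q.IsPrime]
    (J G : Ideal B) (hJ : J.FG)
    (h : J.map (algebraMap B (Localization.AtPrime q)) ≤
      G.map (algebraMap B (Localization.AtPrime q))) :
    ∃ f : B, f ∉ q ∧ ∀ x ∈ J, f * x ∈ G := by
  classical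
  have key : ∀ x : B, ∃ f : B, f ∉ q ∧ (x ∈ J → f * x ∈ G) := by
    intro x
    by_cases hx : x ∈ J
    · have h1 : algebraMap B (Localization.AtPrime q) x ∈
          G.map (algebraMap B (Localization.AtPrime q)) := h (Ideal.mem_map_of_mem _ hx)
      obtain ⟨⟨y, s⟩, hys⟩ := (IsLocalization.mem_map_algebraMap_iff q.primeCompl
        (Localization.AtPrime q)).mp h1
      rw [← map_mul] at hys
      obtain ⟨t, ht⟩ := (IsLocalization.eq_iff_exists q.primeCompl (Localization.AtPrime q)).mp hys
      refine ⟨(t : B) * (s : B), (t * s).2, fun _ => ?_⟩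
      have : (t : B) * (s : B) * x = (t : B) * (x * (s : B)) := by ring
      rw [this, ht]
      exact G.mul_mem_left _ y.2
    · exact ⟨1, fun h1 => (Ideal.ne_top_iff_one q).mp (Ideal.IsPrime.ne_top ‹_›) h1,
        fun h => absurd h hx⟩
  choose F hF1 hF2 using key
  obtain ⟨s, hs⟩ := hJ
  refine ⟨∏ x ∈ s, F x, ?_, ?_⟩
  · intro hmem
    obtain ⟨x, -, hx⟩ := (Ideal.IsPrime.prod_mem_iff (hp := ‹q.IsPrime›)).mp hmem
    exact hF1 x hx
  · intro x hx
    rw [← hs] at hx
    induction hx using Submodule.span_induction with
    | mem x hxs =>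
      obtain ⟨c, hc⟩ := Finset.dvd_prod_of_mem F hxs
      rw [hc, mul_comm (F x) c, mul_assoc]
      refine G.mul_mem_left _ (hF2 x ?_)
      rw [← hs]
      exact Ideal.subset_span hxs
    | zero => simp
    | add x y _ _ hx hy => rw [mul_add]; exact G.add_mem hx hy
    | smul a x _ hx =>
      rw [smul_eq_mul, mul_left_comm]
      exact G.mul_mem_left _ hx

theorem map_away_eq_span {B : Type*} [CommRing B] (J : Ideal B) {ι : Type*} (g : ι → B)
    (hg : ∀ i, g i ∈ J) (f₁ f₂ : B) (hf₂ : ∀ x ∈ J, f₂ * x ∈ Ideal.span (Set.range g)) :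
    J.map (algebraMap B (Localization.Away (f₁ * f₂))) =
      Ideal.span (Set.range fun i => algebraMap B (Localization.Away (f₁ * f₂)) (g i)) := by
  have hG : Ideal.span (Set.range fun i => algebraMap B (Localization.Away (f₁ * f₂)) (g i)) =
      (Ideal.span (Set.range g)).map (algebraMap B (Localization.Away (f₁ * f₂))) := by
    rw [Ideal.map_span, ← Set.range_comp]
    rfl
  rw [hG]
  apply le_antisymm
  · rw [Ideal.map_le_iff_le_comap]
    intro x hx
    rw [Ideal.mem_comap]
    have hu : IsUnit (algebraMap B (Localization.Away (f₁ * f₂)) f₂) := by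
      have h1 : IsUnit (algebraMap B (Localization.Away (f₁ * f₂)) (f₁ * f₂)) :=
        IsLocalization.Away.algebraMap_isUnit (f₁ * f₂)
      rw [map_mul] at h1
      exact isUnit_of_mul_isUnit_right h1
    rw [← Ideal.unit_mul_mem_iff_mem _ hu, ← map_mul]
    exact Ideal.mem_map_of_mem _ (hf₂ x hx)
  · apply Ideal.map_mono
    rw [Ideal.span_le]
    rintro _ ⟨i, rfl⟩
    exact hg i


/-- **Étale coordinates adapted to a smooth closed subscheme** (ring level). -/
theorem main (A B : Type u) [CommRing A] [CommRing B]
    [Algebra A B] [Algebra.FinitePresentation A B] (J : Ideal B) (hJ : J.FG) (q : Ideal B)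
    [q.IsPrime] (hJq : J ≤ q)
    [Algebra.IsSmoothAt A q] (Q : Ideal (B ⧸ J)) [Q.IsPrime]
    (hQ : Q.comap (Ideal.Quotient.mk J) = q)
    [Algebra.IsSmoothAt A Q] (r : ℕ) (g : Fin r → B) (hg : ∀ i, g i ∈ J)
    (hgen : J.map (algebraMap B (Localization.AtPrime q)) =
      Ideal.span (Set.range fun i => algebraMap B (Localization.AtPrime q) (g i)))
    (hmin : r = Module.finrank q.ResidueField (q.ResidueField ⊗[B] J)) :
    ∃ (f : B) (_ : f ∉ q) (m : ℕ) (g' : Fin m → Localization.Away f),
      (MvPolynomial.aeval (Sum.elim (fun i => algebraMap B (Localization.Away f) (g i)) g') :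
          MvPolynomial (Fin r ⊕ Fin m) A →ₐ[A] Localization.Away f).toRingHom.Etale ∧
      J.map (algebraMap B (Localization.Away f)) =
        Ideal.span (Set.range fun i => algebraMap B (Localization.Away f) (g i)) := by
  have hfsO : Algebra.FormallySmooth A (Localization.AtPrime q) := ‹Algebra.IsSmoothAt A q›
  obtain ⟨m, b', hli, hsp⟩ := exists_basis_D A B J hJ q hJq Q hQ r g hg hgen hmin
  have hle : J.map (algebraMap B (Localization.AtPrime q)) ≤
      (Ideal.span (Set.range g)).map (algebraMap B (Localization.AtPrime q)) := by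
    rw [hgen, Ideal.map_span, ← Set.range_comp]
    exact le_of_eq rfl
  obtain ⟨f₂, hf₂q, hf₂⟩ := exists_mul_mem_of_map_le q J (Ideal.span (Set.range g)) hJ hle
  obtain ⟨f₁, hf₁q, het⟩ := exists_etale_of_basis A B q (Sum.elim g b') hli hsp f₂
  refine ⟨f₁ * f₂, q.primeCompl.mul_mem hf₁q hf₂q, m,
    fun j => algebraMap B (Localization.Away (f₁ * f₂)) (b' j), ?_,
    map_away_eq_span J g hg f₁ f₂ hf₂⟩
  have heq : Sum.elim (fun i => algebraMap B (Localization.Away (f₁ * f₂)) (g i))
      (fun j => algebraMap B (Localization.Away (f₁ * f₂)) (b' j)) =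
      fun s => algebraMap B (Localization.Away (f₁ * f₂)) (Sum.elim g b' s) := by
    funext s
    rcases s with i | j <;> rfl
  rw [heq]
  exact het

end Groth.Agent.R2.H6.AdaptedCoord
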