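import Mathlib
import Groth.Agent.R2.H6AdaptedCoord
import Groth.Agent.R2.H16EtaleChart

/-!
# Étale local structure of a smooth closed subscheme (scheme level)

`X`, `Y` smooth over `S`, `i : Y ⟶ X` a closed immersion over `S`.  Around every point of `Y` there
is an open `U ⊆ X` and an étale `π : U ⟶ 𝔸^{m+n}_S` such that `Y ∩ U = π⁻¹(𝔸^m_S)`.
The ring-level core is `Groth.Agent.R2.H6.AdaptedCoord` (S2818).
-/

set_option autoImplicit false
universe u

namespace Groth.Agent.R2.H6.AdaptedCoordSch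

open TensorProduct KaehlerDifferential IsLocalRing Groth.Agent.R2.H6.AdaptedCoord

theorem tensorEquivOfIsLocalizedModule_tmul
    {B O κ M N : Type*} [CommRing B] [CommRing O] [CommRing κ] [Algebra B O] [Algebra O κ]
    [Algebra B κ] [IsScalarTower B O κ]
    (S : Submonoid B) [IsLocalization S O]
    [AddCommGroup M] [Module B M] [AddCommGroup N] [Module B N] [Module O N]
    [IsScalarTower B O N]
    (ℓ : M →ₗ[B] N) [IsLocalizedModule S ℓ] (a : κ) (x : M) :
    tensorEquivOfIsLocalizedModule S ℓ (a ⊗ₜ[B] x) = a ⊗ₜ[O] ℓ x := by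
  simp [tensorEquivOfIsLocalizedModule, IsBaseChange.equiv_tmul]

/-- Minimal generators of a finitely generated ideal at a prime, chosen inside the ideal. -/
theorem exists_minimal_generators {B : Type u} [CommRing B] (J : Ideal B) (hJ : J.FG)
    (q : Ideal B) [q.IsPrime] :
    ∃ (r : ℕ) (g : Fin r → B), (∀ i, g i ∈ J) ∧
      J.map (algebraMap B (Localization.AtPrime q)) =
        Ideal.span (Set.range fun i => algebraMap B (Localization.AtPrime q) (g i)) ∧
      r = Module.finrank q.ResidueField (q.ResidueField ⊗[B] J) := by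
  have hfinJ : Module.Finite B J := Module.Finite.iff_fg.mpr hJ
  have hT : ⊤ ≤ Submodule.span q.ResidueField
      (Set.range fun x : J => (1 : q.ResidueField) ⊗ₜ[B] x) := by
    intro z _
    clear * -
    induction z using TensorProduct.induction_on with
    | zero => exact zero_mem _
    | tmul a x =>
      have : a ⊗ₜ[B] x = a • ((1 : q.ResidueField) ⊗ₜ[B] x) := by
        rw [TensorProduct.smul_tmul', smul_eq_mul, mul_one]
      rw [this]
      exact Submodule.smul_mem _ _ (Submodule.subset_span ⟨x, rfl⟩)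
    | add x y hx hy => exact add_mem hx hy
  obtain ⟨r, w, hwT, hli, hsp⟩ := exists_extension (K := q.ResidueField)
    (fun i : Fin 0 => (Fin.elim0 i : q.ResidueField ⊗[B] J)) linearIndependent_empty_type _ hT
  have hli' : LinearIndependent q.ResidueField w := hli.comp Sum.inr Sum.inr_injective
  have hsp' : Submodule.span q.ResidueField (Set.range w) = ⊤ := by
    rw [← hsp, Set.Sum.elim_range, Set.range_eq_empty (fun i : Fin 0 => (Fin.elim0 i :
      q.ResidueField ⊗[B] J)), Set.empty_union]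
  choose g hg using hwT
  refine ⟨r, fun i => (g i : B), fun i => (g i).2, ?_, ?_⟩
  · -- Nakayama
    let b : Module.Basis (Fin r) q.ResidueField (q.ResidueField ⊗[B] J) :=
      Module.Basis.mk hli' hsp'.ge
    let b' := b.map (tensorEquivOfIsLocalizedModule (O := Localization.AtPrime q)
      (κ := q.ResidueField) q.primeCompl (Algebra.idealMap (Localization.AtPrime q) J))
    have hfin : Module.Finite (Localization.AtPrime q)
        (J.map (algebraMap B (Localization.AtPrime q))) :=
      Module.Finite.iff_fg.mpr (hJ.map _)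
    have h1 := IsLocalRing.span_eq_top_of_tmul_eq_basis (R := Localization.AtPrime q)
      (fun i => Algebra.idealMap (Localization.AtPrime q) J (g i)) b' (fun i => by
        rw [Module.Basis.map_apply, Module.Basis.mk_apply, ← hg i,
          tensorEquivOfIsLocalizedModule_tmul])
    have h2 := congrArg (Submodule.map (J.map (algebraMap B (Localization.AtPrime q))).subtype) h1
    rw [Submodule.map_span, ← Set.range_comp, Submodule.map_subtype_top] at h2
    exact h2.symm
  · rw [Module.finrank_eq_card_basis (Module.Basis.mk hli' hsp'.ge), Fintype.card_fin]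

theorem ring_main (A B C : Type u) [CommRing A] [CommRing B] [CommRing C] [Algebra A B]
    [Algebra A C] [Algebra.Smooth A B] [Algebra.Smooth A C] (ψ : B →ₐ[A] C)
    (hψ : Function.Surjective ψ) (q : Ideal B) [q.IsPrime] (hq : RingHom.ker ψ ≤ q) :
    ∃ f : B, f ∉ q ∧ ∃ (m n : ℕ) (v : Fin m ⊕ Fin n → Localization.Away f),
      (MvPolynomial.aeval v :
        MvPolynomial (Fin m ⊕ Fin n) A →ₐ[A] Localization.Away f).toRingHom.Etale ∧
      (RingHom.ker ψ).map (algebraMap B (Localization.Away f)) =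
        Ideal.span (Set.range (v ∘ Sum.inr)) := by
  have hJ : (RingHom.ker ψ).FG := Algebra.FinitePresentation.ker_fG_of_surjective ψ hψ
  have hQprime : ((q.map (Ideal.Quotient.mk (RingHom.ker ψ)))).IsPrime :=
    Ideal.map_isPrime_of_surjective Ideal.Quotient.mk_surjective (by rwa [Ideal.mk_ker])
  have hQ : (q.map (Ideal.Quotient.mk (RingHom.ker ψ))).comap
      (Ideal.Quotient.mk (RingHom.ker ψ)) = q := by
    rw [Ideal.comap_map_of_surjective _ Ideal.Quotient.mk_surjective, ← RingHom.ker_eq_comap_bot,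
      Ideal.mk_ker, sup_eq_left]
    exact hq
  have hsmB : Algebra.IsSmoothAt A q :=
    have : Algebra.FormallySmooth B (Localization.AtPrime q) :=
      Algebra.FormallySmooth.of_isLocalization q.primeCompl
    Algebra.FormallySmooth.comp A B (Localization.AtPrime q)
  have hsmC : Algebra.Smooth A (B ⧸ RingHom.ker ψ) :=
    Algebra.Smooth.of_equiv (Ideal.quotientKerAlgEquivOfSurjective hψ).symm
  have hsmQ : Algebra.IsSmoothAt A (q.map (Ideal.Quotient.mk (RingHom.ker ψ))) :=
    have : Algebra.FormallySmooth (B ⧸ RingHom.ker ψ)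
        (Localization.AtPrime (q.map (Ideal.Quotient.mk (RingHom.ker ψ)))) :=
      Algebra.FormallySmooth.of_isLocalization
        (q.map (Ideal.Quotient.mk (RingHom.ker ψ))).primeCompl
    Algebra.FormallySmooth.comp A (B ⧸ RingHom.ker ψ) _
  obtain ⟨r, g, hg, hgen, hmin⟩ := exists_minimal_generators (RingHom.ker ψ) hJ q
  obtain ⟨m, b', hli, hsp⟩ := exists_basis_D A B (RingHom.ker ψ) hJ q hq
    (q.map (Ideal.Quotient.mk (RingHom.ker ψ))) hQ r g hg hgen hmin
  have hswap : (fun s : Fin m ⊕ Fin r => D A (Localization.AtPrime q)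
      (algebraMap B (Localization.AtPrime q) (Sum.elim b' g s))) =
      (fun s : Fin r ⊕ Fin m => D A (Localization.AtPrime q)
        (algebraMap B (Localization.AtPrime q) (Sum.elim g b' s))) ∘ Sum.swap := by
    funext s
    rcases s with i | j <;> rfl
  have hli' : LinearIndependent (Localization.AtPrime q)
      (fun s : Fin m ⊕ Fin r => D A (Localization.AtPrime q)
        (algebraMap B (Localization.AtPrime q) (Sum.elim b' g s))) := by
    rw [hswap]
    exact hli.comp _ (Equiv.sumComm (Fin m) (Fin r)).injective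
  have hsp' : Submodule.span (Localization.AtPrime q)
      (Set.range fun s : Fin m ⊕ Fin r => D A (Localization.AtPrime q)
        (algebraMap B (Localization.AtPrime q) (Sum.elim b' g s))) = ⊤ := by
    rw [hswap, Function.Surjective.range_comp (f := Sum.swap)
      (Equiv.sumComm (Fin m) (Fin r)).surjective]
    exact hsp
  have hle : (RingHom.ker ψ).map (algebraMap B (Localization.AtPrime q)) ≤
      (Ideal.span (Set.range g)).map (algebraMap B (Localization.AtPrime q)) := by
    rw [hgen, Ideal.map_span, ← Set.range_comp]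
    exact le_of_eq rfl
  obtain ⟨f₂, hf₂q, hf₂⟩ := exists_mul_mem_of_map_le q (RingHom.ker ψ)
    (Ideal.span (Set.range g)) hJ hle
  obtain ⟨f₁, hf₁q, het⟩ := exists_etale_of_basis A B q (Sum.elim b' g) hli' hsp' f₂
  refine ⟨f₁ * f₂, q.primeCompl.mul_mem hf₁q hf₂q, m, r,
    fun s => algebraMap B (Localization.Away (f₁ * f₂)) (Sum.elim b' g s), het, ?_⟩
  exact map_away_eq_span (RingHom.ker ψ) g hg f₁ f₂ hf₂

/-- ring-hom form, with an arbitrary model of the localization and `ULift`ed variables. -/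
theorem ring_main_hom {A B C : Type u} [CommRing A] [CommRing B] [CommRing C] (φ : A →+* B)
    (ψ : B →+* C) (hφ : φ.Smooth) (hψφ : (ψ.comp φ).Smooth) (hψ : Function.Surjective ψ)
    (q : Ideal B) [q.IsPrime] (hq : RingHom.ker ψ ≤ q) :
    ∃ f : B, f ∉ q ∧ ∃ m n : ℕ, ∀ (B' : Type u) [CommRing B'] (ρ : B →+* B')
      (_ : @IsLocalization.Away B _ f B' _ ρ.toAlgebra),
      ∃ v : ULift.{u} (Fin m ⊕ Fin n) → B',
        (MvPolynomial.eval₂Hom (ρ.comp φ) v).Etale ∧
        (RingHom.ker ψ).map ρ = Ideal.span (Set.range fun k : Fin n => v ⟨Sum.inr k⟩) := by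
  let algAB : Algebra A B := φ.toAlgebra
  let algAC : Algebra A C := (ψ.comp φ).toAlgebra
  have smB : Algebra.Smooth A B := hφ
  have smC : Algebra.Smooth A C := hψφ
  let ψ' : B →ₐ[A] C := { ψ with commutes' := fun a => rfl }
  obtain ⟨f, hfq, m, n, v, het, hker⟩ := ring_main A B C ψ' hψ q hq
  refine ⟨f, hfq, m, n, ?_⟩
  intro B' _ ρ hloc
  let algBB' : Algebra B B' := ρ.toAlgebra
  let algAB' : Algebra A B' := (ρ.comp φ).toAlgebra
  have tower : IsScalarTower A B B' := IsScalarTower.of_algebraMap_eq (fun a => rfl)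
  have hloc' : IsLocalization.Away f B' := hloc
  let e : Localization.Away f ≃ₐ[B] B' := IsLocalization.algEquiv (Submonoid.powers f) _ _
  refine ⟨fun j => e (v j.down), ?_, ?_⟩
  · have heq : MvPolynomial.eval₂Hom (ρ.comp φ) (fun j : ULift.{u} (Fin m ⊕ Fin n) =>
        e (v j.down)) =
        ((e : Localization.Away f →+* B').comp (MvPolynomial.aeval v :
          MvPolynomial (Fin m ⊕ Fin n) A →ₐ[A] Localization.Away f).toRingHom).comp
          (MvPolynomial.rename (R := A) (ULift.down : ULift.{u} (Fin m ⊕ Fin n) → _)).toRingHom := by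
      apply MvPolynomial.ringHom_ext
      · intro a
        simp only [MvPolynomial.coe_eval₂Hom, MvPolynomial.eval₂_C, RingHom.comp_apply,
          AlgHom.toRingHom_eq_coe, RingHom.coe_coe, MvPolynomial.rename_C, MvPolynomial.aeval_C]
        rw [IsScalarTower.algebraMap_apply A B (Localization.Away f)]
        exact (e.commutes (φ a)).symm
      · intro j
        simp only [MvPolynomial.coe_eval₂Hom, MvPolynomial.eval₂_X, RingHom.comp_apply,
          AlgHom.toRingHom_eq_coe, RingHom.coe_coe, MvPolynomial.rename_X, MvPolynomial.aeval_X]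
    rw [heq]
    refine RingHom.Etale.stableUnderComposition _ _ ?_
      (RingHom.Etale.stableUnderComposition _ _ het ?_)
    · exact RingHom.Etale.of_bijective
        (MvPolynomial.renameEquiv A (Equiv.ulift.{u} (α := Fin m ⊕ Fin n))).bijective
    · exact RingHom.Etale.of_bijective e.bijective
  · have h1 : (RingHom.ker ψ).map ρ =
        ((RingHom.ker ψ).map (algebraMap B (Localization.Away f))).map
          (e : Localization.Away f →+* B') := by
      rw [Ideal.map_map]
      congr 1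
      ext b
      exact (e.commutes b).symm
    rw [h1, show RingHom.ker ψ = RingHom.ker ψ' from rfl, hker, Ideal.map_span, ← Set.range_comp]
    rfl

/-- kernel of a localized map is the extension of the kernel. -/
theorem ker_le_map_of_isLocalization {B C B' C' : Type*} [CommRing B] [CommRing C] [CommRing B']
    [CommRing C'] (ψ : B →+* C) (ρB : B →+* B') (ρC : C →+* C') (ψ' : B' →+* C')
    (hsq : ψ'.comp ρB = ρC.comp ψ) (f : B)
    (hB : @IsLocalization.Away B _ f B' _ ρB.toAlgebra)
    (hC : @IsLocalization.Away C _ (ψ f) C' _ ρC.toAlgebra) :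
    RingHom.ker ψ' ≤ (RingHom.ker ψ).map ρB := by
  let algB : Algebra B B' := ρB.toAlgebra
  let algC : Algebra C C' := ρC.toAlgebra
  have hB' : IsLocalization.Away f B' := hB
  have hC' : IsLocalization.Away (ψ f) C' := hC
  intro x hx
  obtain ⟨k, b, hb⟩ := IsLocalization.Away.surj f x
  have hb' : x * ρB f ^ k = ρB b := hb
  have h1 : ρC (ψ b) = 0 := by
    have := congrArg ψ' hb'
    rw [map_mul, RingHom.mem_ker.mp hx, zero_mul] at this
    rw [← RingHom.comp_apply, ← hsq, RingHom.comp_apply, ← this]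
  have h2 : algebraMap C C' (ψ b) = 0 := h1
  rw [IsLocalization.map_eq_zero_iff (Submonoid.powers (ψ f))] at h2
  obtain ⟨⟨_, l, rfl⟩, hl⟩ := h2
  have h3 : f ^ l * b ∈ RingHom.ker ψ := by
    rw [RingHom.mem_ker, map_mul, map_pow]
    exact hl
  have hu : IsUnit (ρB f) := IsLocalization.Away.algebraMap_isUnit (S := B') f
  have h4 : ρB (f ^ l * b) ∈ (RingHom.ker ψ).map ρB := Ideal.mem_map_of_mem _ h3
  rw [map_mul, map_pow, ← hb', mul_comm x, ← mul_assoc, ← pow_add] at h4
  exact (Ideal.unit_mul_mem_iff_mem _ (hu.pow _)).mp h4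

open AlgebraicGeometry CategoryTheory CategoryTheory.Limits

/-- Abstract pullback criterion: a closed subscheme `j : Z ⟶ U'` of an affine scheme is the pullback
of a monomorphism `c` along `π` as soon as the ideal of `Z` is generated by functions that vanish
on every test object of the pullback. -/
theorem isPullback_of_ker_le_span {Z U' P₁ P₂ : Scheme.{u}} [IsAffine U'] (j : Z ⟶ U')
    [IsClosedImmersion j] (π : U' ⟶ P₂) (c : P₁ ⟶ P₂) [Mono c] (ρ : Z ⟶ P₁)
    (hcomm : ρ ≫ c = j ≫ π) {ι : Type*} (gens : ι → Γ(U', ⊤))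
    (hker : RingHom.ker j.appTop.hom ≤ Ideal.span (Set.range gens))
    (hgens : ∀ (T : Scheme.{u}) (a : T ⟶ P₁) (b : T ⟶ U'), a ≫ c = b ≫ π →
      ∀ k, b.appTop.hom (gens k) = 0) :
    IsPullback ρ j c π := by
  have hle : ∀ (T : Scheme.{u}) (a : T ⟶ P₁) (b : T ⟶ U'), a ≫ c = b ≫ π → j.ker ≤ b.ker := by
    intro T a b hab
    rw [Scheme.ker_of_isAffine j, Scheme.ker_of_isAffine b]
    refine (map_le_map_iff (Scheme.IdealSheafData.equivOfIsAffine (X := U')).symm).mpr ?_
    refine hker.trans ?_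
    rw [Ideal.span_le]
    rintro _ ⟨k, rfl⟩
    exact hgens T a b hab k
  have : Mono j := inferInstance
  refine ⟨⟨hcomm⟩, ⟨PullbackCone.IsLimit.mk _
    (fun s => IsClosedImmersion.lift j s.snd (hle _ s.fst s.snd s.condition))
    (fun s => ?_) (fun s => ?_) (fun s l h1 h2 => ?_)⟩⟩
  · rw [← cancel_mono c, Category.assoc, hcomm, IsClosedImmersion.lift_fac_assoc, s.condition]
  · exact IsClosedImmersion.lift_fac _ _ _
  · rw [← cancel_mono j, h2, IsClosedImmersion.lift_fac]

/-- the linear subspace `𝔸^m ⊆ 𝔸^{m+n}` given by the vanishing of the last `n` coordinates. -/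
noncomputable abbrev zeroSec (S : Scheme.{u}) (m n : ℕ) :
    𝔸(ULift.{u} (Fin m); S) ⟶ 𝔸(ULift.{u} (Fin m ⊕ Fin n); S) :=
  AffineSpace.homOfVector (𝔸(ULift.{u} (Fin m); S) ↘ S)
    (fun j : ULift.{u} (Fin m ⊕ Fin n) =>
      Sum.elim (fun a => AffineSpace.coord S (ULift.up a)) (fun _ => 0) j.down)

instance mono_zeroSec (S : Scheme.{u}) (m n : ℕ) : Mono (zeroSec S m n) := by
  have h : zeroSec S m n ≫ AffineSpace.homOfVector (𝔸(ULift.{u} (Fin m ⊕ Fin n); S) ↘ S)
      (fun a : ULift.{u} (Fin m) => AffineSpace.coord S (ULift.up (Sum.inl a.down))) = 𝟙 _ := by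
    apply AffineSpace.hom_ext
    · simp
    · intro a
      rw [Scheme.Hom.comp_appTop, CommRingCat.comp_apply, AffineSpace.homOfVector_appTop_coord,
        AffineSpace.homOfVector_appTop_coord]
      rfl
  exact mono_of_mono_fac h

theorem isPullback_affineSpace {S Z U' : Scheme.{u}} [IsAffine U'] (m n : ℕ) (j : Z ⟶ U')
    [IsClosedImmersion j] (p : U' ⟶ S) (v : ULift.{u} (Fin m ⊕ Fin n) → Γ(U', ⊤))
    (hv : ∀ k : Fin n, j.appTop.hom (v ⟨Sum.inr k⟩) = 0)
    (hker : RingHom.ker j.appTop.hom ≤ Ideal.span (Set.range fun k : Fin n => v ⟨Sum.inr k⟩)) :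
    IsPullback (AffineSpace.homOfVector (j ≫ p)
        (fun a : ULift.{u} (Fin m) => j.appTop.hom (v ⟨Sum.inl a.down⟩))) j
      (zeroSec S m n) (AffineSpace.homOfVector p v) := by
  apply isPullback_of_ker_le_span j _ _ _ ?_ (fun k : Fin n => v ⟨Sum.inr k⟩) hker
  · intro T a b hab k
    have h1 : v ⟨Sum.inr k⟩ = (AffineSpace.homOfVector p v).appTop
        (AffineSpace.coord S ⟨Sum.inr k⟩) := (AffineSpace.homOfVector_appTop_coord _ _ _).symm
    rw [h1]
    change (b.appTop) ((AffineSpace.homOfVector p v).appTop (AffineSpace.coord S ⟨Sum.inr k⟩)) = 0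
    rw [← CommRingCat.comp_apply, ← Scheme.Hom.comp_appTop, ← hab, Scheme.Hom.comp_appTop,
      CommRingCat.comp_apply, AffineSpace.homOfVector_appTop_coord]
    exact map_zero _
  · apply AffineSpace.hom_ext
    · simp
    · intro i
      rw [Scheme.Hom.comp_appTop, CommRingCat.comp_apply, AffineSpace.homOfVector_appTop_coord,
        Scheme.Hom.comp_appTop, CommRingCat.comp_apply, AffineSpace.homOfVector_appTop_coord]
      obtain ⟨i | k⟩ := i
      · exact AffineSpace.homOfVector_appTop_coord _ _ _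
      · change (AffineSpace.homOfVector (j ≫ p) _).appTop 0 = _
        rw [map_zero]
        exact (hv k).symm

lemma isOpenImmersion_affineSpace_map (σ : Type u) {S T : Scheme.{u}} (i : S ⟶ T)
    [IsOpenImmersion i] : IsOpenImmersion (AffineSpace.map σ i) :=
  MorphismProperty.of_isPullback (P := @IsOpenImmersion)
    (AffineSpace.isPullback_map (n := σ) i).flip inferInstance

theorem etale_homOfVector_of_le {X S : Scheme.{u}} (pX : X ⟶ S) {V : S.Opens}
    (hV : IsAffineOpen V) {U : X.Opens} (hU : IsAffineOpen U) (hUV : U ≤ pX ⁻¹ᵁ V)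
    {σ : Type u} (v' : σ → Γ(X, U))
    (h : (MvPolynomial.eval₂Hom (pX.appLE V U hUV).hom v').Etale) :
    Etale (AffineSpace.homOfVector (U.ι ≫ pX) (fun j => U.topIso.inv.hom (v' j))) := by
  have : IsAffine (U : Scheme.{u}) := hU
  have : IsAffine (V : Scheme.{u}) := hV
  have hfac : AffineSpace.homOfVector (U.ι ≫ pX) (fun j => U.topIso.inv.hom (v' j)) =
      AffineSpace.homOfVector (pX.resLE V U hUV) (fun j => U.topIso.inv.hom (v' j)) ≫
        AffineSpace.map σ V.ι := by
    apply AffineSpace.hom_ext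
    · simp
    · intro j
      rw [Scheme.Hom.comp_appTop, CommRingCat.comp_apply, AffineSpace.map_appTop_coord,
        AffineSpace.homOfVector_appTop_coord, AffineSpace.homOfVector_appTop_coord]
  rw [hfac]
  have hθ : Function.Bijective V.topIso.hom.hom :=
    ConcreteCategory.bijective_of_isIso V.topIso.hom
  have hθ' : Function.Bijective U.topIso.inv.hom :=
    ConcreteCategory.bijective_of_isIso U.topIso.inv
  have heq : MvPolynomial.eval₂Hom (pX.resLE V U hUV).appTop.hom
      (fun j => U.topIso.inv.hom (v' j)) =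
      (U.topIso.inv.hom.comp (MvPolynomial.eval₂Hom (pX.appLE V U hUV).hom v')).comp
        (MvPolynomial.map V.topIso.hom.hom) := by
    apply MvPolynomial.ringHom_ext
    · intro r
      simp only [MvPolynomial.coe_eval₂Hom, MvPolynomial.eval₂_C, RingHom.comp_apply,
        MvPolynomial.map_C]
      rw [Scheme.Hom.appTop, Scheme.Hom.resLE_app_top]
      rfl
    · intro j
      simp only [MvPolynomial.coe_eval₂Hom, MvPolynomial.eval₂_X, RingHom.comp_apply,
        MvPolynomial.map_X]
  have het : (MvPolynomial.eval₂Hom (pX.resLE V U hUV).appTop.hom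
      (fun j => U.topIso.inv.hom (v' j))).Etale := by
    rw [heq]
    refine RingHom.Etale.stableUnderComposition _ _ ?_
      (RingHom.Etale.stableUnderComposition _ _ h ?_)
    · exact RingHom.Etale.of_bijective
        ⟨MvPolynomial.map_injective _ hθ.1, MvPolynomial.map_surjective _ hθ.2⟩
    · exact RingHom.Etale.of_bijective hθ'
  have h1 := Groth.Agent.R2.H16.EtaleChart.etale_homOfVector_of_isAffine
    (pX.resLE V U hUV) (fun j => U.topIso.inv.hom (v' j)) het
  have h2 : IsOpenImmersion (AffineSpace.map σ V.ι) := isOpenImmersion_affineSpace_map σ V.ι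
  infer_instance

lemma hom_inv_apply {A B : CommRingCat.{u}} (e : A ≅ B) (z : A) :
    e.inv.hom (e.hom.hom z) = z := by
  rw [← RingHom.comp_apply, ← CommRingCat.hom_comp, e.hom_inv_id]
  rfl

lemma inv_hom_apply {A B : CommRingCat.{u}} (e : A ≅ B) (z : B) :
    e.hom.hom (e.inv.hom z) = z := by
  rw [← RingHom.comp_apply, ← CommRingCat.hom_comp, e.inv_hom_id]
  rfl

lemma mem_basicOpen_iff_notMem_primeIdealOf {X : Scheme.{u}} {U : X.Opens} (hU : IsAffineOpen U)
    (x : X) (hx : x ∈ U) (f : Γ(X, U)) :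
    x ∈ X.basicOpen f ↔ f ∉ (hU.primeIdealOf ⟨x, hx⟩).asIdeal := by
  have e : hU.fromSpec (hU.primeIdealOf ⟨x, hx⟩) = x := hU.fromSpec_primeIdealOf ⟨x, hx⟩
  have h1 : hU.primeIdealOf ⟨x, hx⟩ ∈ hU.fromSpec ⁻¹ᵁ X.basicOpen f ↔
      f ∉ (hU.primeIdealOf ⟨x, hx⟩).asIdeal := by
    rw [hU.fromSpec_preimage_basicOpen]
    rfl
  rw [← h1]
  change _ ↔ hU.fromSpec (hU.primeIdealOf ⟨x, hx⟩) ∈ X.basicOpen f
  rw [e]

theorem main {S X Y : Scheme.{u}} (pX : X ⟶ S) (pY : Y ⟶ S) [Smooth pX] [Smooth pY]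
    (i : Y ⟶ X) [IsClosedImmersion i] (w : i ≫ pX = pY) (y : Y) :
    ∃ (U : X.Opens) (m n : ℕ) (π : (U : Scheme.{u}) ⟶ 𝔸(ULift.{u} (Fin m ⊕ Fin n); S))
      (ρ : (↑(i ⁻¹ᵁ U) : Scheme.{u}) ⟶ 𝔸(ULift.{u} (Fin m); S)),
      i y ∈ U ∧ Etale π ∧ π ≫ (𝔸(ULift.{u} (Fin m ⊕ Fin n); S) ↘ S) = U.ι ≫ pX ∧
      IsPullback ρ (i ∣_ U)
        (AffineSpace.homOfVector (𝔸(ULift.{u} (Fin m); S) ↘ S)
          (fun j : ULift.{u} (Fin m ⊕ Fin n) =>
            Sum.elim (fun a => AffineSpace.coord S (ULift.up a)) (fun _ => 0) j.down))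
        π := by
  -- affine charts
  obtain ⟨_, ⟨V : S.Opens, hV, rfl⟩, hsV, -⟩ :=
    S.isBasis_affineOpens.exists_subset_of_mem_open (Set.mem_univ (pX (i y))) isOpen_univ
  replace hV : IsAffineOpen V := hV
  obtain ⟨_, ⟨U₀ : X.Opens, hU₀, rfl⟩, hxU₀, hU₀V⟩ :=
    X.isBasis_affineOpens.exists_subset_of_mem_open (show i y ∈ (pX ⁻¹ᵁ V : Set X) from hsV)
      (pX ⁻¹ᵁ V).2
  replace hU₀ : IsAffineOpen U₀ := hU₀
  replace hU₀V : U₀ ≤ pX ⁻¹ᵁ V := hU₀V
  have hW₀ : IsAffineOpen (i ⁻¹ᵁ U₀) := hU₀.preimage i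
  have hW₀V : i ⁻¹ᵁ U₀ ≤ pY ⁻¹ᵁ V := by
    intro z hz
    have : pX (i z) ∈ V := hU₀V hz
    rw [← w]
    exact this
  have hφ : (pX.appLE V U₀ hU₀V).hom.Smooth := pX.smooth_appLE hV hU₀ hU₀V
  have hcomp : (i.app U₀).hom.comp (pX.appLE V U₀ hU₀V).hom = (pY.appLE V (i ⁻¹ᵁ U₀) hW₀V).hom := by
    rw [← CommRingCat.hom_comp, ← Scheme.Hom.appLE_eq_app, Scheme.Hom.appLE_comp_appLE]
    simp only [w]
  have hψφ : ((i.app U₀).hom.comp (pX.appLE V U₀ hU₀V).hom).Smooth := by
    rw [hcomp]
    exact pY.smooth_appLE hV hW₀ hW₀V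
  have hψ : Function.Surjective (i.app U₀).hom := i.app_surjective U₀ hU₀
  have hq : RingHom.ker (i.app U₀).hom ≤ (hU₀.primeIdealOf ⟨i y, hxU₀⟩).asIdeal := by
    intro b hb
    by_contra hbq
    have h1 : i y ∈ X.basicOpen b := (mem_basicOpen_iff_notMem_primeIdealOf hU₀ _ hxU₀ b).mpr hbq
    have h2 : y ∈ i ⁻¹ᵁ X.basicOpen b := h1
    rw [Scheme.preimage_basicOpen, RingHom.mem_ker.mp hb, Scheme.basicOpen_zero] at h2
    exact h2
  obtain ⟨f, hfq, m, n, H⟩ := ring_main_hom _ _ hφ hψφ hψ _ hq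
  have hxU : i y ∈ X.basicOpen f := (mem_basicOpen_iff_notMem_primeIdealOf hU₀ _ hxU₀ f).mpr hfq
  have hU : IsAffineOpen (X.basicOpen f) := hU₀.basicOpen f
  have hUle : X.basicOpen f ≤ U₀ := X.basicOpen_le f
  have hloc := hU₀.isLocalization_basicOpen f
  obtain ⟨v', het, hkerv⟩ := H Γ(X, X.basicOpen f) (X.presheaf.map (homOfLE hUle).op).hom hloc
  have hρφ : (X.presheaf.map (homOfLE hUle).op).hom.comp (pX.appLE V U₀ hU₀V).hom =
      (pX.appLE V (X.basicOpen f) (hUle.trans hU₀V)).hom := by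
    rw [← CommRingCat.hom_comp, Scheme.Hom.appLE_map]
  rw [hρφ] at het
  have hetπ := etale_homOfVector_of_le pX hV hU (hUle.trans hU₀V) v' het
  have : IsAffine (X.basicOpen f : Scheme.{u}) := hU
  -- the kernel of `i.app U`
  have hWle : i ⁻¹ᵁ X.basicOpen f ≤ i ⁻¹ᵁ U₀ := fun z hz => hUle hz
  have hsq : (i.app (X.basicOpen f)).hom.comp (X.presheaf.map (homOfLE hUle).op).hom =
      (Y.presheaf.map (homOfLE hWle).op).hom.comp (i.app U₀).hom := by
    rw [← CommRingCat.hom_comp, ← CommRingCat.hom_comp]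
    congr 1
    exact i.naturality (homOfLE hUle).op
  have hlocC := hW₀.isLocalization_of_eq_basicOpen ((i.app U₀).hom f) (homOfLE hWle)
    (Scheme.preimage_basicOpen i f)
  have hK2 := ker_le_map_of_isLocalization (i.app U₀).hom (X.presheaf.map (homOfLE hUle).op).hom
    (Y.presheaf.map (homOfLE hWle).op).hom (i.app (X.basicOpen f)).hom hsq f hloc hlocC
  have hK1 : (RingHom.ker (i.app U₀).hom).map (X.presheaf.map (homOfLE hUle).op).hom ≤
      RingHom.ker (i.app (X.basicOpen f)).hom := by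
    rw [Ideal.map_le_iff_le_comap]
    intro b hb
    rw [Ideal.mem_comap, RingHom.mem_ker, ← RingHom.comp_apply, hsq, RingHom.comp_apply,
      RingHom.mem_ker.mp hb, map_zero]
  have happ : (i ∣_ X.basicOpen f).appTop = (X.basicOpen f).topIso.hom ≫ i.app (X.basicOpen f) ≫
      (i ⁻¹ᵁ X.basicOpen f).topIso.inv := by
    rw [← Scheme.Hom.resLE_eq_morphismRestrict, Scheme.Hom.appTop, Scheme.Hom.resLE_app_top,
      Scheme.Hom.appLE_eq_app]
  refine ⟨X.basicOpen f, m, n,
    AffineSpace.homOfVector ((X.basicOpen f).ι ≫ pX)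
      (fun j => (X.basicOpen f).topIso.inv.hom (v' j)),
    AffineSpace.homOfVector ((i ∣_ X.basicOpen f) ≫ (X.basicOpen f).ι ≫ pX)
      (fun a : ULift.{u} (Fin m) => (i ∣_ X.basicOpen f).appTop.hom
        ((X.basicOpen f).topIso.inv.hom (v' ⟨Sum.inl a.down⟩))),
    hxU, hetπ, AffineSpace.homOfVector_over _ _, ?_⟩
  have happ' : ∀ z : Γ(X, X.basicOpen f), (i ∣_ X.basicOpen f).appTop.hom
      ((X.basicOpen f).topIso.inv.hom z) =
      (i ⁻¹ᵁ X.basicOpen f).topIso.inv.hom ((i.app (X.basicOpen f)).hom z) := by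
    intro z
    rw [happ]
    simp only [CommRingCat.hom_comp, RingHom.comp_apply]
    rw [inv_hom_apply]
  refine isPullback_affineSpace m n (i ∣_ X.basicOpen f) ((X.basicOpen f).ι ≫ pX)
    (fun j => (X.basicOpen f).topIso.inv.hom (v' j)) ?_ ?_
  · intro k
    rw [happ']
    have h1 : v' ⟨Sum.inr k⟩ ∈ RingHom.ker (i.app (X.basicOpen f)).hom := by
      apply hK1
      rw [hkerv]
      exact Ideal.subset_span ⟨k, rfl⟩
    rw [RingHom.mem_ker.mp h1, map_zero]
  · intro z hz
    have hz' : z = (X.basicOpen f).topIso.inv.hom ((X.basicOpen f).topIso.hom.hom z) :=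
      (hom_inv_apply _ z).symm
    rw [hz', RingHom.mem_ker, happ'] at hz
    have hinj : Function.Injective (i ⁻¹ᵁ X.basicOpen f).topIso.inv.hom :=
      (ConcreteCategory.bijective_of_isIso (i ⁻¹ᵁ X.basicOpen f).topIso.inv).1
    have h1 : (X.basicOpen f).topIso.hom.hom z ∈ RingHom.ker (i.app (X.basicOpen f)).hom :=
      hinj (hz.trans (map_zero _).symm)
    have h2 := hK2 h1
    rw [hkerv] at h2
    have h3 := Ideal.mem_map_of_mem (X.basicOpen f).topIso.inv.hom h2
    rw [Ideal.map_span, ← Set.range_comp, ← hz'] at h3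
    exact h3

end Groth.Agent.R2.H6.AdaptedCoordSch
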