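import Mathlib
import Groth.Agent.R2.H56Glue
import Groth.Agent.Lib.Helper22PoMap

/-!
# PROJ:defx (helper6): base change of rings of sections on affine charts of a pullback over affine bases

* `isBC_of_isPushout`: a pushout square of rings gives `Glue.IsBC`.
* `isBC_of_isPullback`: for a pullback square `T' = T ×_{Spec A₀} Spec A'`, an affine open `U ⊆ T` and its
  (affine) preimage `W ⊆ T'`: `Γ(T', W) = A' ⊗_{A₀} Γ(T, U)` in the form `Glue.IsBC`.
-/

set_option autoImplicit false
set_option linter.style.haveILetI false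
universe u
open CategoryTheory Limits AlgebraicGeometry

namespace Groth.Agent.R2.H6.DefxChartBC

open Groth.Agent.Lib.Helper22.SpPO Groth.Agent.Lib.Helper22.Ferrand Groth.Agent.R2.H56.Glue

section Ring

variable {A A' R R' : Type u} [CommRing A] [CommRing A'] [CommRing R] [CommRing R']

theorem isBC_of_isPushout (f : A →+* A') (φ : A →+* R) (φ' : A' →+* R') (ψ : R →+* R')
    (h : IsPushout (CommRingCat.ofHom f) (CommRingCat.ofHom φ) (CommRingCat.ofHom φ')
      (CommRingCat.ofHom ψ)) : IsBC f φ φ' ψ := by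
  have hcomm : ∀ a, ψ (φ a) = φ' (f a) := fun a => (congr($(h.w).hom a)).symm
  refine ⟨hcomm, ?_⟩
  letI := f.toAlgebra
  letI := φ.toAlgebra
  letI := φ'.toAlgebra
  letI : Algebra A R' := (φ'.comp f).toAlgebra
  letI : Algebra R R' := ψ.toAlgebra
  haveI : IsScalarTower A A' R' := IsScalarTower.of_algebraMap_eq (fun _ => rfl)
  haveI : IsScalarTower A R R' := IsScalarTower.of_algebraMap_eq (fun a => (hcomm a).symm)
  have hp : Algebra.IsPushout A A' R R' := CommRingCat.isPushout_iff_isPushout.mp h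
  exact hp.out

end Ring

section Scheme

variable {T T' : Scheme.{u}} {A₀ A' : Type u} [CommRing A₀] [CommRing A']

/-- The structure map `A₀ → Γ(T, U)` of an affine open of a scheme over `Spec A₀`. -/
noncomputable def secMap (q : T ⟶ Spec (CommRingCat.of A₀)) {U : T.Opens} (hU : IsAffineOpen U) :
    A₀ →+* Γ(T, U) := (Spec.preimage (hU.fromSpec ≫ q)).hom

theorem sp_secMap (q : T ⟶ Spec (CommRingCat.of A₀)) {U : T.Opens} (hU : IsAffineOpen U) :
    sp (secMap q hU) = hU.fromSpec ≫ q := Spec.map_preimage _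

theorem isBC_of_isPullback (f : A₀ →+* A') (u : T' ⟶ T) (q : T ⟶ Spec (CommRingCat.of A₀))
    (q' : T' ⟶ Spec (CommRingCat.of A')) (hpb : IsPullback u q' q (sp f))
    {U : T.Opens} (hU : IsAffineOpen U) {W : T'.Opens} (hW : IsAffineOpen W) (hWU : W = u ⁻¹ᵁ U) :
    IsBC f (secMap q hU) (secMap q' hW) (u.appLE U W hWU.le).hom := by
  apply isBC_of_isPushout
  apply isPushout_of_isPullback_Spec
  -- the chart square
  have hc : hW.fromSpec ≫ u = sp (u.appLE U W hWU.le).hom ≫ hU.fromSpec :=
    (IsAffineOpen.SpecMap_appLE_fromSpec u hU hW hWU.le).symm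
  have S1 : IsPullback (sp (u.appLE U W hWU.le).hom) hW.fromSpec hU.fromSpec u := by
    refine IsOpenImmersion.isPullback _ _ _ _ hc ?_
    rw [hU.opensRange_fromSpec, hW.opensRange_fromSpec, hWU]
  have S2 := S1.paste_vert hpb
  have e1 : Spec.map (CommRingCat.ofHom (secMap q' hW)) = hW.fromSpec ≫ q' := sp_secMap q' hW
  have e2 : Spec.map (CommRingCat.ofHom (secMap q hU)) = hU.fromSpec ≫ q := sp_secMap q hU
  rw [e1, e2]
  exact S2.flip

end Scheme

end Groth.Agent.R2.H6.DefxChartBC
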