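import Mathlib
import Groth.Agent.Lib.Helper26LimFP1
import Groth.Agent.Lib.Helper22FerrandFT

/-!
# PROJ:defx, package PkgGluePb, part A (helper6): generic tools

* `isPullback_of_cover'`: helper26's `isPullback_of_cover` with an index type in `Type u`.
* `isPushout_of_surjective`: a commutative square of rings `B → R`, `B → A₁` (surjective), `R → S` (surjective),
  `A₁ → S` is a pushout as soon as `ker (R → S) ≤ ker (B → A₁) · R`.
* `isPullback_sp_of_surjective`: the same after `Spec`.
-/

set_option autoImplicit false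
universe u
open CategoryTheory Limits AlgebraicGeometry

namespace Groth.Agent.R2.H6.DefxGluePb

open Groth.Agent.Lib.Helper26.LimFP Groth.Agent.Lib.Helper22.SpPO

/-- A commutative square is a pullback square if it is so over an open cover of the
top right corner (index type in `Type u`). -/
theorem isPullback_of_cover' {X Y S S' : Scheme.{u}} {G : X ⟶ Y} {f : X ⟶ S} {h : Y ⟶ S'}
    {π : S ⟶ S'} (w : G ≫ h = f ≫ π) {κ : Type u} (Xa Ya : κ → Scheme.{u})
    (ua : ∀ a, Xa a ⟶ X) (ja : ∀ a, Ya a ⟶ Y)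
    [∀ a, IsOpenImmersion (ua a)] [∀ a, IsOpenImmersion (ja a)] (Ga : ∀ a, Xa a ⟶ Ya a)
    (hcomm : ∀ a, ua a ≫ G = Ga a ≫ ja a)
    (hrange : ∀ a, G ⁻¹ᵁ (ja a).opensRange = (ua a).opensRange)
    (hcov : ∀ y : Y, ∃ a, y ∈ Set.range (ja a))
    (hpb : ∀ a, IsPullback (Ga a) (ua a ≫ f) (ja a ≫ h) π) : IsPullback G f h π := by
  suffices hiso : IsIso (pullback.lift G f w) from
    IsPullback.of_iso_pullback ⟨w⟩ (asIso (pullback.lift G f w)) (pullback.lift_fst _ _ _)
      (pullback.lift_snd _ _ _)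
  let 𝒰Y : Y.OpenCover := Scheme.Cover.mkOfCovers κ Ya ja (fun y => by
    obtain ⟨a, x, hx⟩ := hcov y
    exact ⟨a, x, hx⟩)
  let 𝒰T := Scheme.Pullback.openCoverOfLeft 𝒰Y h π
  have := isLocalTgt_iso.{u}
  refine (IsZariskiLocalAtTarget.iff_of_openCover (P := MorphismProperty.isomorphisms Scheme.{u})
    𝒰T).mpr ?_
  intro a
  change κ at a
  show IsIso (pullback.snd (pullback.lift G f w) (tmap (ja a) h π))
  have hsq : IsPullback ((hpb a).isoPullback.hom) (ua a) (tmap (ja a) h π)
      (pullback.lift G f w) := by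
    refine IsPullback.of_right ?_ ?_ (isPullback_tmap (ja a) h π)
    · rw [IsPullback.isoPullback_hom_fst, pullback.lift_fst]
      exact IsOpenImmersion.isPullback (Ga a) (ua a) (ja a) G (hcomm a) (hrange a)
    · apply pullback.hom_ext
      · rw [Category.assoc, Category.assoc, tmap_fst, IsPullback.isoPullback_hom_fst_assoc,
          pullback.lift_fst, hcomm]
      · rw [Category.assoc, Category.assoc, tmap_snd, IsPullback.isoPullback_hom_snd,
          pullback.lift_snd]
  have e := hsq.flip.isoPullback_hom_snd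
  have e' : pullback.snd (pullback.lift G f w) (tmap (ja a) h π) =
      hsq.flip.isoPullback.inv ≫ (hpb a).isoPullback.hom := by
    rw [Iso.eq_inv_comp]
    exact e
  rw [e']
  infer_instance

section Ring

variable {B A₁ R S : Type u} [CommRing B] [CommRing A₁] [CommRing R] [CommRing S]

/-- A square of rings with two surjective parallel sides is a pushout as soon as the kernel of the
second is generated by the kernel of the first. -/
theorem isPushout_of_surjective (p₁ : B →+* A₁) (l : B →+* R) (φ : R →+* S) (m : A₁ →+* S)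
    (hw : φ.comp l = m.comp p₁) (hp₁ : Function.Surjective p₁) (hφ : Function.Surjective φ)
    (hker : RingHom.ker φ ≤ Ideal.map l (RingHom.ker p₁)) :
    IsPushout (CommRingCat.ofHom l) (CommRingCat.ofHom p₁) (CommRingCat.ofHom φ)
      (CommRingCat.ofHom m) := by
  have hwc : CommRingCat.ofHom l ≫ CommRingCat.ofHom φ =
      CommRingCat.ofHom p₁ ≫ CommRingCat.ofHom m := by
    rw [← CommRingCat.ofHom_comp, ← CommRingCat.ofHom_comp, hw]
  have hkill : ∀ (T : CommRingCat.{u}) (α : CommRingCat.of R ⟶ T) (β : CommRingCat.of A₁ ⟶ T),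
      CommRingCat.ofHom l ≫ α = CommRingCat.ofHom p₁ ≫ β → RingHom.ker φ ≤ RingHom.ker α.hom := by
    intro T α β hc
    refine hker.trans ?_
    rw [Ideal.map_le_iff_le_comap]
    intro b hb
    rw [Ideal.mem_comap, RingHom.mem_ker]
    have h1 : α.hom (l b) = β.hom (p₁ b) := congr($(hc).hom b)
    rw [h1, (RingHom.mem_ker).mp hb, map_zero]
  refine ⟨⟨hwc⟩, ⟨PushoutCocone.IsColimit.mk _
    (fun s => CommRingCat.ofHom (RingHom.liftOfSurjective φ hφ
      ⟨s.inl.hom, hkill _ s.inl s.inr s.condition⟩)) ?_ ?_ ?_⟩⟩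
  · intro s
    ext r
    exact RingHom.liftOfSurjective_comp_apply φ hφ
      ⟨s.inl.hom, hkill _ s.inl s.inr s.condition⟩ r
  · intro s
    ext a
    obtain ⟨b, rfl⟩ := hp₁ a
    have h1 : m (p₁ b) = φ (l b) := (congr($hw b)).symm
    change (RingHom.liftOfSurjective φ hφ ⟨s.inl.hom, _⟩) (m (p₁ b)) = s.inr.hom (p₁ b)
    rw [h1]
    have h2 := RingHom.liftOfSurjective_comp_apply φ hφ
      ⟨s.inl.hom, hkill _ s.inl s.inr s.condition⟩ (l b)
    refine h2.trans ?_
    exact congr($(s.condition).hom b)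
  · intro s t h1 _
    ext x
    obtain ⟨r, rfl⟩ := hφ x
    have h2 := RingHom.liftOfSurjective_comp_apply φ hφ
      ⟨s.inl.hom, hkill _ s.inl s.inr s.condition⟩ r
    change t.hom (φ r) = (RingHom.liftOfSurjective φ hφ ⟨s.inl.hom, _⟩) (φ r)
    rw [show (RingHom.liftOfSurjective φ hφ ⟨s.inl.hom, hkill _ s.inl s.inr s.condition⟩) (φ r) =
      s.inl.hom r from h2]
    exact congr($(h1).hom r)

/-- `Spec` form. -/
theorem isPullback_sp_of_surjective (p₁ : B →+* A₁) (l : B →+* R) (φ : R →+* S) (m : A₁ →+* S)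
    (hw : φ.comp l = m.comp p₁) (hp₁ : Function.Surjective p₁) (hφ : Function.Surjective φ)
    (hker : RingHom.ker φ ≤ Ideal.map l (RingHom.ker p₁)) :
    IsPullback (sp φ) (sp m) (sp l) (sp p₁) :=
  isPullback_SpecMap_of_isPushout _ _ _ _ (isPushout_of_surjective p₁ l φ m hw hp₁ hφ hker)

end Ring

end Groth.Agent.R2.H6.DefxGluePb
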