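import Mathlib
import Groth.Agent.R2.H6DefxGluePbA

/-!
# PROJ:defx, package PkgGluePb, part B (helper6): globalisation over the charts of a Ferrand pushout

`isPullback_of_charts`: for a Ferrand pushout `P` of `X ⟵ Z ⟶ Y` with charts, a morphism `g : P ⟶ Spec B₀`,
a surjection `p₁ : B₀ → A₁` and `fY : Y ⟶ Spec A₁` over it: if on every chart the kernel of `R_k → B_k`
is generated by `ker p₁`, then `Y = P ×_{Spec B₀} Spec A₁`.
-/

set_option autoImplicit false
universe u
open CategoryTheory Limits AlgebraicGeometry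

namespace Groth.Agent.R2.H6.DefxGluePb

open Groth.Agent.Lib.Helper22.SpPO Groth.Agent.Lib.Helper22.Ferrand

theorem range_fst_of_isPullback {P X Y Z : Scheme.{u}} {fst : P ⟶ X} {snd : P ⟶ Y} {f : X ⟶ Z}
    {g : Y ⟶ Z} (hp : IsPullback fst snd f g) : Set.range fst = f ⁻¹' Set.range g := by
  rw [← Scheme.Pullback.range_fst f g, ← hp.isoPullback_hom_fst]
  ext x
  constructor
  · rintro ⟨y, rfl⟩
    exact ⟨hp.isoPullback.hom y, rfl⟩
  · rintro ⟨y, rfl⟩
    refine ⟨hp.isoPullback.inv y, ?_⟩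
    rw [← Scheme.Hom.comp_apply, ← Category.assoc, Iso.inv_hom_id, Category.id_comp]

variable {X Y Z : Scheme.{u}} {i : Z ⟶ X} {j : Z ⟶ Y} [IsClosedImmersion i]
variable {P : Scheme.{u}} {a : X ⟶ P} {b : Y ⟶ P} (ch : Charts i j a b)
variable {B₀ A₁ : Type u} [CommRing B₀] [CommRing A₁]

/-- The ring map `B₀ → R_k` of the chart `k` over `Spec B₀`. -/
noncomputable def chartMap (g : P ⟶ Spec (CommRingCat.of B₀)) (k : AdPair i j) : B₀ →+* k.R :=
  (Spec.preimage (ch.c k ≫ g)).hom

theorem sp_chartMap (g : P ⟶ Spec (CommRingCat.of B₀)) (k : AdPair i j) :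
    sp (chartMap ch g k) = ch.c k ≫ g := Spec.map_preimage _

/-- The ring map `A₁ → B_k` of the chart `k` of `Y` over `Spec A₁`. -/
noncomputable def chartMapY (fY : Y ⟶ Spec (CommRingCat.of A₁)) (k : AdPair i j) : A₁ →+* k.B :=
  (Spec.preimage (k.cY ≫ fY)).hom

theorem sp_chartMapY (fY : Y ⟶ Spec (CommRingCat.of A₁)) (k : AdPair i j) :
    sp (chartMapY fY k) = k.cY ≫ fY := Spec.map_preimage _

include ch in
theorem chartMap_comm (g : P ⟶ Spec (CommRingCat.of B₀)) (p₁ : B₀ →+* A₁)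
    (fY : Y ⟶ Spec (CommRingCat.of A₁)) (hw : b ≫ g = fY ≫ sp p₁) (k : AdPair i j) :
    k.φB.comp (chartMap ch g k) = (chartMapY fY k).comp p₁ := by
  have h1 : sp (k.φB.comp (chartMap ch g k)) = sp ((chartMapY fY k).comp p₁) := by
    rw [← sp_comp, ← sp_comp, sp_chartMap, sp_chartMapY, ← Category.assoc, ← ch.cY_b k,
      Category.assoc, hw, Category.assoc]
  have h2 := Spec.map_injective h1
  exact congrArg CommRingCat.Hom.hom h2

include ch in
/-- **Globalisation.** -/
theorem isPullback_of_charts (g : P ⟶ Spec (CommRingCat.of B₀)) (p₁ : B₀ →+* A₁)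
    (hp₁ : Function.Surjective p₁) (fY : Y ⟶ Spec (CommRingCat.of A₁)) (hw : b ≫ g = fY ≫ sp p₁)
    (hker : ∀ k : AdPair i j, RingHom.ker k.φB ≤ Ideal.map (chartMap ch g k) (RingHom.ker p₁)) :
    IsPullback b fY g (sp p₁) := by
  refine isPullback_of_cover' hw (κ := AdPair i j) (fun k => Spec (CommRingCat.of k.B))
    (fun k => Spec (CommRingCat.of k.R)) (fun k => k.cY) (fun k => ch.c k) (fun k => sp k.φB)
    (fun k => ch.cY_b k) ?_ ch.cover ?_
  · intro k
    ext y
    have h1 := range_fst_of_isPullback (ch.pbY k)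
    change b y ∈ Set.range (ch.c k) ↔ y ∈ Set.range k.cY
    rw [h1]
    rfl
  · intro k
    have h1 := isPullback_sp_of_surjective p₁ (chartMap ch g k) k.φB (chartMapY fY k)
      (chartMap_comm ch g p₁ fY hw k) hp₁ (k.fs.surjective_fst k.p_surjective) (hker k)
    rw [sp_chartMap, sp_chartMapY] at h1
    exact h1

end Groth.Agent.R2.H6.DefxGluePb
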