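import Mathlib
import Groth.Agent.R2.H56DefxSpec
import Groth.Agent.Lib.Helper22SpecPushout
import Groth.Agent.Lib.Helper22FerrandBC3

/-!
# PROJ:defx, package PkgUnglue (helper6)

A deformation over `B = A₁ ×_A A₂` (`A₂ → A` surjective) is the pushout of its restrictions to `A₁` and `A₂`
along its restriction to `A`: flat base change of the Ferrand pushout `Spec B = Spec A₁ ⊔_{Spec A} Spec A₂`.
-/

set_option autoImplicit false
universe u
open CategoryTheory Limits AlgebraicGeometry ArtFun ArtFun.Art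

namespace Groth.Agent.R2.H6.DefxUnglue

open Groth.Agent.Lib.Helper22.SpPO Groth.Agent.Lib.Helper22.Ferrand Groth.Agent.R2.H56.DefxSpec

variable {Λ k : Type u} [CommRing Λ] [Field k] [Algebra Λ k]
variable {B A A₁ A₂ : Art Λ k}

/-- The elementwise fibre square of rings attached to `IsFibreProd`. -/
theorem fs_of_isFibreProd (p₁ : B ⟶ A₁) (p₂ : B ⟶ A₂) (f₁ : A₁ ⟶ A) (f₂ : A₂ ⟶ A)
    (h : IsFibreProd p₁ p₂ f₁ f₂) :
    FS f₂.toAlgHom.toRingHom f₁.toAlgHom.toRingHom p₁.toAlgHom.toRingHom p₂.toAlgHom.toRingHom where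
  comm r := h.w_apply r
  inj r h1 h2 := by
    apply h.inj r 0
    · rw [map_zero]; exact h1
    · rw [map_zero]; exact h2
  ex b a hab := by
    obtain ⟨r, h1, h2⟩ := h.surj b a hab
    exact ⟨r, h1, h2⟩

/-- `Spec B` is the pushout of `Spec A₂ ⟵ Spec A ⟶ Spec A₁`. -/
theorem isPushout_spec (p₁ : B ⟶ A₁) (p₂ : B ⟶ A₂) (f₁ : A₁ ⟶ A) (f₂ : A₂ ⟶ A)
    (h : IsFibreProd p₁ p₂ f₁ f₂) (hf₂ : Function.Surjective f₂) :
    IsPushout (specMap f₂) (specMap f₁) (specMap p₂) (specMap p₁) :=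
  isPushout_of_FS (fs_of_isFibreProd p₁ p₂ f₁ f₂ h) hf₂

/-- **PKG-UNGLUE.** -/
theorem pkgUnglue : Groth.Agent.R2.H56.DefxSpec.PkgUnglue.{u} := by
  intro Λ k _ _ _ X x B A A₁ A₂ p₁ p₂ f₁ f₂ h hf₂ ξ
  have hP := isPushout_spec p₁ p₂ f₁ f₂ h hf₂
  have hci : IsClosedImmersion (specMap f₂) := IsClosedImmersion.spec_of_surjective _ hf₂
  have hY : ∀ y : spec A₁, ∃ k : AdPair (specMap f₂) (specMap f₁), y ∈ k.V := fun y =>
    ⟨⟨⊤, ⊤, isAffineOpen_top _, isAffineOpen_top _, rfl⟩, trivial⟩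
  have hFX : IsPullback (pullback.snd ξ.f (specMap p₂)) (pullback.fst ξ.f (specMap p₂))
      (specMap p₂) ξ.f := (IsPullback.of_hasPullback ξ.f (specMap p₂)).flip
  have hFY : IsPullback (pullback.snd ξ.f (specMap p₁)) (pullback.fst ξ.f (specMap p₁))
      (specMap p₁) ξ.f := (IsPullback.of_hasPullback ξ.f (specMap p₁)).flip
  have hz2f : z₂ ξ p₁ p₂ f₁ f₂ h.w ≫ pullback.fst ξ.f (specMap p₂) =
      pullback.fst ξ.f (specMap (p₁ ≫ f₁)) := by
    unfold z₂; exact pullback.lift_fst _ _ _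
  have hz2s : z₂ ξ p₁ p₂ f₁ f₂ h.w ≫ pullback.snd ξ.f (specMap p₂) =
      pullback.snd ξ.f (specMap (p₁ ≫ f₁)) ≫ specMap f₂ := by
    unfold z₂; exact pullback.lift_snd _ _ _
  have hz1f : z₁ ξ p₁ f₁ ≫ pullback.fst ξ.f (specMap p₁) =
      pullback.fst ξ.f (specMap (p₁ ≫ f₁)) := by
    unfold z₁; exact pullback.lift_fst _ _ _
  have hz1s : z₁ ξ p₁ f₁ ≫ pullback.snd ξ.f (specMap p₁) =
      pullback.snd ξ.f (specMap (p₁ ≫ f₁)) ≫ specMap f₁ := by
    unfold z₁; exact pullback.lift_snd _ _ _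
  have hFZ : IsPullback (pullback.snd ξ.f (specMap (p₁ ≫ f₁))) (z₂ ξ p₁ p₂ f₁ f₂ h.w)
      (specMap f₂) (pullback.snd ξ.f (specMap p₂)) := by
    have hbig : IsPullback (z₂ ξ p₁ p₂ f₁ f₂ h.w ≫ pullback.fst ξ.f (specMap p₂))
        (pullback.snd ξ.f (specMap (p₁ ≫ f₁))) ξ.f (specMap f₂ ≫ specMap p₂) := by
      rw [hz2f, ← specMap_comp, ← h.w]
      exact IsPullback.of_hasPullback ξ.f (specMap (p₁ ≫ f₁))
    have hright : IsPullback (pullback.fst ξ.f (specMap p₂)) (pullback.snd ξ.f (specMap p₂))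
        ξ.f (specMap p₂) := IsPullback.of_hasPullback ξ.f (specMap p₂)
    exact (IsPullback.of_right hbig hz2s hright).flip
  have key := isPushout_of_flat (specMap f₂) (specMap f₁) hY hP ξ.f hFX hFY hFZ hz1s
    (hz1f.trans hz2f.symm)
  exact key.flip

end Groth.Agent.R2.H6.DefxUnglue
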