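import Mathlib
import Groth.Agent.R2.H6DefxGluePbB
import Groth.Agent.R2.H6DefxChartBC
import Groth.Agent.R2.H6DefxUnglue
import Groth.Agent.R2.H56DefxMain

/-!
# PROJ:defx, package PkgGluePb (helper6)

In the gluing situation `P = ξ₂ ⊔_{ξ₂|A} ξ₁` over `Spec B`, `B = A₁ ×_A A₂`: `ξ₁ = P ×_{Spec B} Spec A₁`.
-/

set_option autoImplicit false
set_option linter.style.haveILetI false
universe u
open CategoryTheory Limits AlgebraicGeometry ArtFun ArtFun.Art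

namespace Groth.Agent.R2.H6.DefxGluePb

open Groth.Agent.Lib.Helper22.SpPO Groth.Agent.Lib.Helper22.Ferrand Groth.Agent.R2.H56.Glue
  Groth.Agent.R2.H56.DefxSpec Groth.Agent.R2.H56.DefxMain Groth.Agent.R2.H6.DefxChartBC
  Groth.Agent.R2.H56

section X

variable {X Y Z : Scheme.{u}} {i : Z ⟶ X} {j : Z ⟶ Y} [IsClosedImmersion i]
variable {P : Scheme.{u}} {a : X ⟶ P} {b : Y ⟶ P} (ch : Charts i j a b)
variable {B₀ A₂ : Type u} [CommRing B₀] [CommRing A₂]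

include ch in
theorem chartMap_commX (g : P ⟶ Spec (CommRingCat.of B₀)) (p₂ : B₀ →+* A₂)
    (fX : X ⟶ Spec (CommRingCat.of A₂)) (hw : a ≫ g = fX ≫ sp p₂) (k : AdPair i j) :
    k.φA.comp (chartMap ch g k) = (secMap fX k.hU).comp p₂ := by
  have h1 : sp (k.φA.comp (chartMap ch g k)) = sp ((secMap fX k.hU).comp p₂) := by
    rw [← sp_comp, ← sp_comp, sp_chartMap, sp_secMap, ← Category.assoc, ← ch.cX_a k,
      Category.assoc, hw, Category.assoc]
    rfl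
  have h2 := Spec.map_injective h1
  exact congrArg CommRingCat.Hom.hom h2

end X

/-- **PKG-GLUE-PB.** -/
theorem pkgGluePb : Groth.Agent.R2.H56.DefxSpec.PkgGluePb.{u} := by
  intro Λ k _ _ _ X x B A A₁ A₂ p₁ p₂ f₁ f₂ h hf₂ ξ₁ ξ₂ θ P a₂ a₁ hP g hg₁ hg₂
  haveI := isClosedImmersion_specMap f₂ hf₂
  haveI := surjective_specMap f₂
  haveI : IsClosedImmersion (cornerI ξ₂ f₂) := by unfold cornerI; infer_instance
  haveI : Surjective (cornerI ξ₂ f₂) := by unfold cornerI; infer_instance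
  haveI : IsAffineHom (pullback.fst ξ₁.f (specMap f₁)) :=
    MorphismProperty.of_isPullback (P := @IsAffineHom) (IsPullback.of_hasPullback _ _).flip
      inferInstance
  haveI : IsAffineHom (cornerJ ξ₁ ξ₂ f₁ f₂ θ) := by unfold cornerJ; infer_instance
  have hY : ∀ y : ξ₁.total, ∃ k : AdPair (cornerI ξ₂ f₂) (cornerJ ξ₁ ξ₂ f₁ f₂ θ), y ∈ k.V :=
    fun y => Groth.Agent.S0431.exists_adPair _ Surjective.surj _ y
  obtain ⟨ch⟩ := exists_charts_of_isPushout _ _ hY a₂ a₁ hP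
  have hfs := Groth.Agent.R2.H6.DefxUnglue.fs_of_isFibreProd p₁ p₂ f₁ f₂ h
  have hp₁ : Function.Surjective p₁.toAlgHom.toRingHom := hfs.surjective_fst hf₂
  refine isPullback_of_charts ch g p₁.toAlgHom.toRingHom hp₁ ξ₁.f hg₁ ?_
  intro k
  -- the two pullback squares over `Spec A`
  have hpb₂ : IsPullback (cornerI ξ₂ f₂) (pullback.snd ξ₂.f (specMap f₂)) ξ₂.f (specMap f₂) :=
    IsPullback.of_hasPullback ξ₂.f (specMap f₂)
  have hθ : θ.iso.inv ≫ pullback.snd ξ₁.f (specMap f₁) = pullback.snd ξ₂.f (specMap f₂) :=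
    θ.symm.hom_f
  have hpb₁ : IsPullback (cornerJ ξ₁ ξ₂ f₁ f₂ θ) (pullback.snd ξ₂.f (specMap f₂)) ξ₁.f
      (specMap f₁) := by
    refine (IsPullback.of_hasPullback ξ₁.f (specMap f₁)).of_iso θ.iso (Iso.refl _) (Iso.refl _)
      (Iso.refl _) ?_ ?_ ?_ ?_
    · simp [cornerJ]
    · rw [Iso.refl_hom, Category.comp_id, ← hθ, Iso.hom_inv_id_assoc]
    · simp
    · simp
  have hc₂ := isBC_of_isPullback f₂.toAlgHom.toRingHom (cornerI ξ₂ f₂) ξ₂.f
    (pullback.snd ξ₂.f (specMap f₂)) hpb₂ k.hU k.hW rfl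
  have hc₁ := isBC_of_isPullback f₁.toAlgHom.toRingHom (cornerJ ξ₁ ξ₂ f₁ f₂ θ) ξ₁.f
    (pullback.snd ξ₂.f (specMap f₂)) hpb₁ k.hV k.hW k.eq
  -- flatness
  have hφ₁ : (secMap ξ₁.f k.hV).Flat := by
    have : Flat (sp (secMap ξ₁.f k.hV)) := by rw [sp_secMap]; infer_instance
    exact (HasRingHomProperty.Spec_iff (P := @Flat)).mp this
  have hφ₂ : (secMap ξ₂.f k.hU).Flat := by
    have : Flat (sp (secMap ξ₂.f k.hU)) := by rw [sp_secMap]; infer_instance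
    exact (HasRingHomProperty.Spec_iff (P := @Flat)).mp this
  have key := (glue_flat_and_ker p₁.toAlgHom.toRingHom p₂.toAlgHom.toRingHom
    f₁.toAlgHom.toRingHom f₂.toAlgHom.toRingHom (secMap ξ₁.f k.hV) (secMap ξ₂.f k.hU)
    (secMap (pullback.snd ξ₂.f (specMap f₂)) k.hW) k.q k.p
    (fun b => h.w_apply b) (fun b b' => h.inj b b') (fun a₁ a₂ => h.surj a₁ a₂) hf₂ hφ₁ hφ₂
    hc₁ hc₂).2
  -- identify the chart map with the glue map
  have hmap : chartMap ch g k = glueMap p₁.toAlgHom.toRingHom p₂.toAlgHom.toRingHom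
      f₁.toAlgHom.toRingHom f₂.toAlgHom.toRingHom (secMap ξ₁.f k.hV) (secMap ξ₂.f k.hU)
      (secMap (pullback.snd ξ₂.f (specMap f₂)) k.hW) k.q k.p
      (fun b => h.w_apply b) hc₁.1 hc₂.1 := by
    refine RingHom.ext fun b => k.R_ext ?_ ?_
    · exact congr($(chartMap_comm ch g p₁.toAlgHom.toRingHom ξ₁.f hg₁ k) b)
    · exact congr($(chartMap_commX ch g p₂.toAlgHom.toRingHom ξ₂.f hg₂ k) b)
  intro x hx
  rw [hmap]
  exact key x hx

end Groth.Agent.R2.H6.DefxGluePb
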