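import Mathlib
import Groth.Agent.R2.H56DefxSpec
import Groth.Agent.Lib.Helper2Deform

/-!
# PROJ:defx, package PkgIso (helper6): a morphism of deformations is an isomorphism
-/

set_option autoImplicit false
universe u
open CategoryTheory Limits AlgebraicGeometry ArtFun ArtFun.Art

namespace Groth.Agent.R2.H6.DefxIso

section Thick

variable {k : Type u} [Field k] {A : Type u} [CommRing A] [IsLocalRing A] [IsArtinianRing A]
  (e : A →+* k)

theorem isNilpotent_ker : IsNilpotent (RingHom.ker e) := by
  have hle : RingHom.ker e ≤ IsLocalRing.maximalIdeal A :=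
    IsLocalRing.le_maximalIdeal (RingHom.ker_ne_top _)
  obtain ⟨n, hn⟩ := IsArtinianRing.isNilpotent_jacobson_bot (R := A)
  rw [IsLocalRing.jacobson_eq_maximalIdeal ⊥ bot_ne_top] at hn
  refine ⟨n, ?_⟩
  have h1 := Ideal.pow_right_mono hle n
  rw [hn] at h1
  exact le_bot_iff.mp h1

/-- `Spec k ⟶ Spec A` is a finite order thickening for a surjection from a local Artinian ring onto a
field. -/
theorem isFiniteOrderThickening (he : Function.Surjective e) :
    MoreMor.IsFiniteOrderThickening (Spec.map (CommRingCat.ofHom e)) := by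
  refine ⟨⟨IsClosedImmersion.spec_of_surjective _ he, ⟨fun x => ?_⟩⟩, ?_⟩
  · haveI : Subsingleton (Spec (CommRingCat.of A)) :=
      inferInstanceAs (Subsingleton (PrimeSpectrum A))
    have : Inhabited (Spec (CommRingCat.of k)) := inferInstanceAs (Inhabited (PrimeSpectrum k))
    exact ⟨default, Subsingleton.elim _ _⟩
  · rw [Scheme.ker_of_isAffine, ← Scheme.IdealSheafData.equivOfIsAffine_symm_apply]
    apply IsNilpotent.map
    obtain ⟨n, hn⟩ := isNilpotent_ker e
    refine ⟨n, ?_⟩
    rw [Ideal.zero_eq_bot] at hn ⊢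
    have hinjk : Function.Injective (Scheme.ΓSpecIso (CommRingCat.of k)).hom.hom :=
      (ConcreteCategory.bijective_of_isIso (Scheme.ΓSpecIso (CommRingCat.of k)).hom).1
    have hinjA : Function.Injective (Scheme.ΓSpecIso (CommRingCat.of A)).hom.hom :=
      (ConcreteCategory.bijective_of_isIso (Scheme.ΓSpecIso (CommRingCat.of A)).hom).1
    have hker : RingHom.ker (Spec.map (CommRingCat.ofHom e)).appTop.hom =
        Ideal.comap (Scheme.ΓSpecIso (CommRingCat.of A)).hom.hom (RingHom.ker e) := by
      ext x
      rw [RingHom.mem_ker, Ideal.mem_comap, RingHom.mem_ker]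
      have hnat := Scheme.ΓSpecIso_naturality (CommRingCat.ofHom e)
      have h1 := congrArg (fun f => f.hom x) hnat
      simp only [CommRingCat.hom_comp, RingHom.comp_apply] at h1
      constructor
      · intro h
        rw [h, map_zero] at h1
        exact h1.symm
      · intro h
        apply hinjk
        rw [map_zero, h1]
        exact h
    rw [hker, eq_bot_iff]
    calc Ideal.comap (Scheme.ΓSpecIso (CommRingCat.of A)).hom.hom (RingHom.ker e) ^ n
        ≤ Ideal.comap (Scheme.ΓSpecIso (CommRingCat.of A)).hom.hom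
            (RingHom.ker e ^ n) := Ideal.le_comap_pow _ n
      _ = ⊥ := by
        rw [hn, ← RingHom.ker_eq_comap_bot]
        exact (RingHom.injective_iff_ker_eq_bot _).mp hinjA

end Thick

/-- the augmentation point of an object of `Art Λ k` is a finite order thickening. -/
theorem isFiniteOrderThickening_specRes {Λ k : Type u} [CommRing Λ] [Field k] [Algebra Λ k]
    (A : Art Λ k) : MoreMor.IsFiniteOrderThickening (specRes A) :=
  isFiniteOrderThickening A.res.toRingHom A.res_surjective

/-- **PKG-ISO.** -/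
theorem pkgIso : Groth.Agent.R2.H56.DefxSpec.PkgIso.{u} := by
  intro Λ k _ _ _ X x A ξ ξ' φ h1 h2
  have hS := isFiniteOrderThickening_specRes A
  have hcX : IsPullback ξ.i (𝟙 X ≫ x) (φ ≫ ξ'.f) (specRes A) := by
    rw [h1, Category.id_comp]
    exact ξ.isPullback
  have hcY : IsPullback ξ'.i x ξ'.f (specRes A) := ξ'.isPullback
  have w : ξ.i ≫ φ = 𝟙 X ≫ ξ'.i := by rw [h2, Category.id_comp]
  have : Flat (φ ≫ ξ'.f) := by rw [h1]; exact ξ.flat
  exact Groth.Agent.Lib.Helper2.Deform.isIso_of_deform ξ.i ξ'.i (specRes A) (𝟙 X) φ x ξ'.f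
    hS hcX hcY w

end Groth.Agent.R2.H6.DefxIso
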