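import Mathlib
import Groth.Prelude.Def_CAlg
import Groth.Agent.R2.H6NzdSliceSch
import Groth.Agent.Lib.Helper10FibStalk

/-!
# A flat effective Cartier divisor through a point where the fibre has positive depth (helper6)
-/

set_option autoImplicit false
universe u

open AlgebraicGeometry CategoryTheory Limits

namespace Groth.Agent.R2.H6.DepthSlice

/-- positive depth gives a regular element in the maximal ideal -/
theorem exists_regular_of_one_le_depth (L : Type u) [CommRing L] [IsLocalRing L]
    (h : 1 ≤ LocCoh.depth L L) :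
    ∃ r ∈ IsLocalRing.maximalIdeal L, IsSMulRegular L r := by
  unfold LocCoh.depth LocCoh.idealDepth at h
  have hne : IsLocalRing.maximalIdeal L • (⊤ : Submodule L L) ≠ ⊤ := by
    rw [smul_eq_mul, Ideal.mul_top]
    exact (IsLocalRing.maximalIdeal.isMaximal L).ne_top
  rw [if_neg hne] at h
  by_contra hcon
  push Not at hcon
  have hle : (⨆ (rs : List L) (_ : RingTheory.Sequence.IsWeaklyRegular L rs ∧
      ∀ r ∈ rs, r ∈ IsLocalRing.maximalIdeal L), (rs.length : ℕ∞)) ≤ 0 := by
    refine iSup₂_le fun rs hrs => ?_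
    cases rs with
    | nil => simp
    | cons r tl =>
      exfalso
      have hr := (RingTheory.Sequence.isWeaklyRegular_cons_iff L r tl).mp hrs.1
      exact hcon r (hrs.2 r List.mem_cons_self) hr.1
  have := h.trans hle
  simp at this

variable {X S : Scheme.{u}}

theorem main_fiber (f : X ⟶ S) [LocallyOfFinitePresentation f] (s : S) (y : f.fiber s)
    (hflat : (f.stalkMap (f.fiberι s y)).hom.Flat)
    (hdepth : 1 ≤ LocCoh.depth ((f.fiber s).presheaf.stalk y) ((f.fiber s).presheaf.stalk y)) :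
    ∃ (U : X.Opens) (hU : IsAffineOpen U) (hx : f.fiberι s y ∈ U) (h' : Γ(X, U)),
      h' ∈ nonZeroDivisors Γ(X, U) ∧
      X.presheaf.germ U (f.fiberι s y) hx h' ∈
        IsLocalRing.maximalIdeal (X.presheaf.stalk (f.fiberι s y)) ∧
      Flat (Spec.map (CommRingCat.ofHom (Ideal.Quotient.mk (Ideal.span {h'}))) ≫
        hU.fromSpec ≫ f) ∧
      LocallyOfFinitePresentation
        (Spec.map (CommRingCat.ofHom (Ideal.Quotient.mk (Ideal.span {h'}))) ≫
          hU.fromSpec ≫ f) := by
  obtain ⟨r, hr, hrreg⟩ := exists_regular_of_one_le_depth _ hdepth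
  set φ := ((f.fiberι s).stalkMap y).hom with hφ
  obtain ⟨h, hh⟩ := (f.fiberι s).stalkMap_surjective y r
  have hh' : φ h = r := hh
  have hker := Groth.Agent.Lib.Helper10.FibStalk.ker_eq_map f s y
  have hm : h ∈ IsLocalRing.maximalIdeal (X.presheaf.stalk (f.fiberι s y)) := by
    by_contra hnot
    have hu : IsUnit h := by
      rwa [IsLocalRing.mem_maximalIdeal, mem_nonunits_iff, not_not] at hnot
    have := hu.map φ
    rw [hh'] at this
    exact hr this
  have hreg : Ideal.Quotient.mk (Ideal.map (f.stalkMap (f.fiberι s y)).hom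
        (IsLocalRing.maximalIdeal (S.presheaf.stalk (f (f.fiberι s y))))) h ∈
      nonZeroDivisors (X.presheaf.stalk (f.fiberι s y) ⧸ Ideal.map (f.stalkMap (f.fiberι s y)).hom
        (IsLocalRing.maximalIdeal (S.presheaf.stalk (f (f.fiberι s y))))) := by
    rw [mem_nonZeroDivisors_iff_right]
    intro z hz
    obtain ⟨z, rfl⟩ := Ideal.Quotient.mk_surjective z
    rw [← map_mul, Ideal.Quotient.eq_zero_iff_mem, ← hker, RingHom.mem_ker, map_mul] at hz
    have hz' : φ z * r = 0 := by rw [← hh']; exact hz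
    have h0 : φ z = 0 := by
      apply hrreg
      change r • φ z = r • 0
      rw [smul_eq_mul, smul_eq_mul, mul_zero, mul_comm]
      exact hz'
    rw [Ideal.Quotient.eq_zero_iff_mem, ← hker, RingHom.mem_ker]
    exact h0
  obtain ⟨U, hU, hx, h', hgerm, hnzd, hfl, hfp⟩ :=
    Groth.Agent.R2.H6.NzdSliceSch.main f _ hflat h hm hreg
  exact ⟨U, hU, hx, h', hnzd, hgerm ▸ hm, hfl, hfp⟩

theorem main (f : X ⟶ S) [LocallyOfFinitePresentation f] (x : X)
    (hflat : (f.stalkMap x).hom.Flat)
    (hdepth : 1 ≤ LocCoh.depth ((f.fiber (f x)).presheaf.stalk (f.asFiber x))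
      ((f.fiber (f x)).presheaf.stalk (f.asFiber x))) :
    ∃ (U : X.Opens) (hU : IsAffineOpen U) (hx : x ∈ U) (h' : Γ(X, U)),
      h' ∈ nonZeroDivisors Γ(X, U) ∧
      X.presheaf.germ U x hx h' ∈ IsLocalRing.maximalIdeal (X.presheaf.stalk x) ∧
      Flat (Spec.map (CommRingCat.ofHom (Ideal.Quotient.mk (Ideal.span {h'}))) ≫
        hU.fromSpec ≫ f) ∧
      LocallyOfFinitePresentation
        (Spec.map (CommRingCat.ofHom (Ideal.Quotient.mk (Ideal.span {h'}))) ≫
          hU.fromSpec ≫ f) := by
  have e := f.fiberι_asFiber x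
  have key := main_fiber f (f x) (f.asFiber x) (e.symm ▸ hflat) hdepth
  generalize hx' : (f.fiberι (f x)) (f.asFiber x) = x' at key e
  subst e
  exact key

end Groth.Agent.R2.H6.DepthSlice
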