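import Mathlib

/-!
# Splitting off the diagonal for a finite algebra étale away from an element (helper6, round 2)

Let `C` be a finite `A`-algebra, `h ∈ C`, `S = C_h` formally unramified (ess. of finite type) over
`A`. Then the multiplication map `μ : S ⊗_A C → S` has a section as a module map over `S ⊗_A C`:
there is `ε` with `μ(ε) = 1`, `(1 ⊗ c - c ⊗ 1) ε = 0` (`exists_eps`). Consequently for every ideal
`J` of `C` the `S`-module `S ⊗_A (C ⧸ J)` splits as `(S ⧸ J S) × N` with `N` finite
(`exists_prod_decomposition`).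
-/

set_option autoImplicit false
universe u

namespace Groth.Agent.R2.H6.DiagSplit

open TensorProduct

section Eps

variable {A C S : Type u} [CommRing A] [CommRing C] [CommRing S] [Algebra A C] [Algebra A S]
  [Algebra C S] [IsScalarTower A C S]

/-- the multiplication map `S ⊗ C → S` -/
noncomputable def muD : S ⊗[A] C →ₐ[S] S :=
  Algebra.TensorProduct.lift (Algebra.ofId S S) (IsScalarTower.toAlgHom A C S)
    (fun _ _ => Commute.all _ _)

@[simp] theorem muD_tmul (s : S) (c : C) : muD (A := A) (s ⊗ₜ[A] c) = s * algebraMap C S c := by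
  simp [muD]

/-- the map `S ⊗ C → S ⊗ S` -/
noncomputable def psi : S ⊗[A] C →ₐ[S] S ⊗[A] S :=
  Algebra.TensorProduct.map (AlgHom.id S S) (IsScalarTower.toAlgHom A C S)

@[simp] theorem psi_tmul (s : S) (c : C) :
    psi (A := A) (s ⊗ₜ[A] c) = s ⊗ₜ[A] algebraMap C S c := by
  simp [psi]

theorem lmul'_psi (d : S ⊗[A] C) :
    Algebra.TensorProduct.lmul' A (psi (A := A) d) = muD (A := A) d := by
  induction d using TensorProduct.induction_on with
  | zero => simp
  | tmul s c => simp
  | add x y hx hy => simp only [map_add, hx, hy]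

/-- the element `1 ⊗ c - c ⊗ 1` of `S ⊗ C` -/
noncomputable def kap (c : C) : S ⊗[A] C := (1 : S) ⊗ₜ[A] c - (algebraMap C S c) ⊗ₜ[A] (1 : C)

omit [IsScalarTower A C S] in
theorem kap_add (c c' : C) : kap (A := A) (S := S) (c + c') = kap c + kap c' := by
  simp only [kap, tmul_add, map_add, add_tmul]; abel

theorem kap_smul (a : A) (c : C) : kap (A := A) (S := S) (a • c) = a • kap c := by
  have h : algebraMap C S (a • c) = a • algebraMap C S c :=
    map_smul (IsScalarTower.toAlgHom A C S) a c
  simp only [kap, tmul_smul, smul_sub, h, smul_tmul']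

omit [IsScalarTower A C S] in
theorem kap_zero : kap (A := A) (S := S) (0 : C) = 0 := by
  simp [kap]

theorem psi_kap (c : C) : psi (A := A) (kap (A := A) (S := S) c) =
    (1 : S) ⊗ₜ[A] algebraMap C S c - algebraMap C S c ⊗ₜ[A] (1 : S) := by
  simp [kap]

variable (A) in
/-- For `C` finite over `A`, `h ∈ C` with `S = C_h` formally unramified (essentially of finite type)
over `A`: there is `ε ∈ S ⊗ C` with `μ(ε) = 1` and `(1 ⊗ c - c ⊗ 1) ε = 0` for all `c`. -/
theorem exists_eps [Module.Finite A C] (h : C) [IsLocalization.Away h S]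
    [Algebra.FormallyUnramified A S] [Algebra.EssFiniteType A S] :
    ∃ ε : S ⊗[A] C, muD (A := A) ε = 1 ∧ ∀ c : C, kap (A := A) (S := S) c * ε = 0 := by
  classical
  obtain ⟨t, ht1, ht2⟩ := Algebra.FormallyUnramified.iff_exists_tensorProduct.mp
    (inferInstance : Algebra.FormallyUnramified A S)
  let _alg : Algebra (S ⊗[A] C) (S ⊗[A] S) := (psi (A := A) (C := C) (S := S)).toRingHom.toAlgebra
  have htower : IsScalarTower S (S ⊗[A] C) (S ⊗[A] S) :=
    IsScalarTower.of_algebraMap_eq (fun s => ((psi (A := A) (C := C) (S := S)).commutes s).symm)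
  have hloc : IsLocalization ((Submonoid.powers h).map
      (Algebra.TensorProduct.includeRight (R := A) (A := S))) (S ⊗[A] S) :=
    IsLocalization.tensorProduct_tensorProduct_right A S (Submonoid.powers h) S (by
      ext c
      change psi (A := A) ((1 : S) ⊗ₜ[A] c) = _
      simp)
  set M' := (Submonoid.powers h).map (Algebra.TensorProduct.includeRight (R := A) (A := S))
    with hM'
  have halg : ∀ d : S ⊗[A] C, algebraMap (S ⊗[A] C) (S ⊗[A] S) d = psi (A := A) d := fun _ => rfl
  -- elements of `M'` map to units under `muD`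
  have hunit : ∀ m ∈ M', IsUnit (muD (A := A) m) := by
    rintro _ ⟨_, ⟨k, rfl⟩, rfl⟩
    simp only [Algebra.TensorProduct.includeRight_apply, muD_tmul, one_mul, map_pow]
    exact (IsLocalization.Away.algebraMap_isUnit (S := S) h).pow k
  obtain ⟨⟨t', m⟩, hm⟩ := IsLocalization.surj M' t
  simp only [halg] at hm
  -- killing the generators
  have hkill : ∀ c : C, ∃ mc ∈ M', mc * (kap (A := A) (S := S) c * t') = 0 := by
    intro c
    have h0 : algebraMap (S ⊗[A] C) (S ⊗[A] S) (kap (A := A) (S := S) c * t') = 0 := by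
      rw [halg, map_mul, psi_kap, ← hm, ← mul_assoc, ht1, zero_mul]
    obtain ⟨mc, hmc⟩ := (IsLocalization.map_eq_zero_iff M' (S ⊗[A] S) _).mp h0
    exact ⟨mc, mc.2, hmc⟩
  choose mc hmcM hmc using hkill
  obtain ⟨G, hG⟩ := (Module.Finite.fg_top : (⊤ : Submodule A C).FG)
  let mG : S ⊗[A] C := ∏ c ∈ G, mc c
  have hmGM : mG ∈ M' := Submonoid.prod_mem _ (fun c _ => hmcM c)
  have hmG : ∀ c : C, mG * (kap (A := A) (S := S) c * t') = 0 := by
    intro c
    have hc : c ∈ Submodule.span A (G : Set C) := by rw [hG]; trivial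
    induction hc using Submodule.span_induction with
    | mem c hc =>
      have : mG = (∏ c' ∈ G.erase c, mc c') * mc c := by
        rw [Finset.prod_erase_mul _ _ hc]
      rw [this, mul_assoc, hmc, mul_zero]
    | zero => rw [kap_zero, zero_mul, mul_zero]
    | add u v _ _ hu hv => rw [kap_add, add_mul, mul_add, hu, hv, add_zero]
    | smul a u _ hu => rw [kap_smul, smul_mul_assoc, mul_smul_comm, hu, smul_zero]
  -- the unit
  have hu : IsUnit (muD (A := A) (mG * t')) := by
    rw [map_mul]
    refine (hunit mG hmGM).mul ?_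
    have : muD (A := A) t' = muD (A := A) (m : S ⊗[A] C) := by
      rw [← lmul'_psi, ← hm, map_mul, ht2, one_mul, lmul'_psi]
    rw [this]
    exact hunit m m.2
  obtain ⟨u, hu'⟩ := hu
  refine ⟨((↑u⁻¹ : S) ⊗ₜ[A] (1 : C)) * (mG * t'), ?_, ?_⟩
  · rw [map_mul, ← hu', muD_tmul, map_one, mul_one, Units.inv_mul]
  · intro c
    rw [mul_left_comm, mul_left_comm _ mG, hmG, mul_zero]

end Eps

section Split

variable {A C S : Type u} [CommRing A] [CommRing C] [CommRing S] [Algebra A C] [Algebra A S]
  [Algebra C S] [IsScalarTower A C S] (J : Ideal C)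

theorem le_comap_aux :
    J ≤ (J.map (algebraMap C S)).comap (IsScalarTower.toAlgHom A C S) :=
  fun _ hx => Ideal.mem_map_of_mem (algebraMap C S) hx

/-- the `A`-linear map `C ⧸ J → S ⧸ J S` -/
noncomputable def quotMap : C ⧸ J →ₗ[A] S ⧸ J.map (algebraMap C S) :=
  (Ideal.quotientMapₐ (J.map (algebraMap C S)) (IsScalarTower.toAlgHom A C S)
    (le_comap_aux J)).toLinearMap

@[simp] theorem quotMap_mk (c : C) :
    quotMap (A := A) (S := S) J (Ideal.Quotient.mk J c) =
      Ideal.Quotient.mk (J.map (algebraMap C S)) (algebraMap C S c) := by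
  rfl

/-- the projection `S ⊗ (C ⧸ J) → S ⧸ J S` -/
noncomputable def piMap : S ⊗[A] (C ⧸ J) →ₗ[S] S ⧸ J.map (algebraMap C S) :=
  LinearMap.liftBaseChange S (quotMap (A := A) (S := S) J)

/-- the quotient map `S ⊗ C → S ⊗ (C ⧸ J)` -/
noncomputable def rhoMap : S ⊗[A] C →ₗ[S] S ⊗[A] (C ⧸ J) :=
  LinearMap.baseChange S (Ideal.Quotient.mkₐ A J).toLinearMap

omit [Algebra C S] [IsScalarTower A C S] in
@[simp] theorem rhoMap_tmul (s : S) (c : C) :
    rhoMap (A := A) J (s ⊗ₜ[A] c) = s ⊗ₜ[A] Ideal.Quotient.mk J c := by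
  simp [rhoMap]

theorem piMap_rhoMap (d : S ⊗[A] C) :
    piMap (A := A) J (rhoMap (A := A) J d) =
      Ideal.Quotient.mk (J.map (algebraMap C S)) (muD (A := A) d) := by
  induction d using TensorProduct.induction_on with
  | zero => simp
  | tmul s c =>
    simp only [rhoMap_tmul, piMap, LinearMap.liftBaseChange_tmul, quotMap_mk, muD_tmul, map_mul]
    rfl
  | add x y hx hy => simp only [map_add, hx, hy]

omit [Algebra C S] [IsScalarTower A C S] in
theorem rhoMap_one_tmul_mul (j : C) (hj : j ∈ J) (d : S ⊗[A] C) :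
    rhoMap (A := A) J (((1 : S) ⊗ₜ[A] j) * d) = 0 := by
  induction d using TensorProduct.induction_on with
  | zero => simp
  | tmul s c =>
    rw [Algebra.TensorProduct.tmul_mul_tmul, rhoMap_tmul,
      Ideal.Quotient.eq_zero_iff_mem.mpr (J.mul_mem_right c hj), tmul_zero]
  | add x y hx hy => rw [mul_add, map_add, hx, hy, add_zero]

omit [Algebra C S] [IsScalarTower A C S] in
theorem rhoMap_tmul_one_mul (s : S) (d : S ⊗[A] C) :
    rhoMap (A := A) J ((s ⊗ₜ[A] (1 : C)) * d) = s • rhoMap (A := A) J d := by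
  rw [← map_smul, Algebra.smul_def, Algebra.TensorProduct.algebraMap_apply]
  rfl

/-- the split projection onto `S ⧸ J S` -/
theorem exists_split [Module.Finite A C] (h : C) [IsLocalization.Away h S]
    [Algebra.FormallyUnramified A S] [Algebra.EssFiniteType A S] :
    ∃ σ : (S ⧸ J.map (algebraMap C S)) →ₗ[S] S ⊗[A] (C ⧸ J),
      (piMap (A := A) J) ∘ₗ σ = LinearMap.id := by
  obtain ⟨ε, hε1, hε2⟩ := exists_eps A (C := C) (S := S) h
  have hkill : ∀ x ∈ J.map (algebraMap C S), x • rhoMap (A := A) J ε = 0 := by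
    intro x hx
    unfold Ideal.map at hx
    induction hx using Submodule.span_induction with
    | mem x hx =>
      obtain ⟨j, hj, rfl⟩ := hx
      have h1 := hε2 j
      rw [kap, sub_mul, sub_eq_zero] at h1
      rw [← rhoMap_tmul_one_mul, ← h1, rhoMap_one_tmul_mul J j hj]
    | zero => simp
    | add u v _ _ hu hv => rw [add_smul, hu, hv, add_zero]
    | smul r u _ hu => rw [smul_eq_mul, mul_smul, hu, smul_zero]
  let σ : (S ⧸ J.map (algebraMap C S)) →ₗ[S] S ⊗[A] (C ⧸ J) :=
    Submodule.liftQ (J.map (algebraMap C S))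
      (LinearMap.toSpanSingleton S (S ⊗[A] (C ⧸ J)) (rhoMap (A := A) J ε)) (by
        intro x hx
        rw [LinearMap.mem_ker, LinearMap.toSpanSingleton_apply]
        exact hkill x hx)
  refine ⟨σ, ?_⟩
  apply LinearMap.ext
  intro y
  obtain ⟨s, rfl⟩ := Ideal.Quotient.mk_surjective y
  have h1 : σ (Ideal.Quotient.mk _ s) = s • rhoMap (A := A) J ε := by
    have h2 : σ (Submodule.Quotient.mk s) = s • rhoMap (A := A) J ε := by
      simp only [σ, Submodule.liftQ_apply, LinearMap.toSpanSingleton_apply]
    exact h2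
  rw [LinearMap.comp_apply, h1, map_smul, piMap_rhoMap, hε1, LinearMap.id_apply]
  rw [← Ideal.Quotient.mkₐ_eq_mk S, ← map_smul, smul_eq_mul, mul_one]

end Split

section SplitEquiv

variable {R M Q : Type u} [CommRing R] [AddCommGroup M] [AddCommGroup Q] [Module R M] [Module R Q]
  (π : M →ₗ[R] Q) (σ : Q →ₗ[R] M)

/-- the projection onto the kernel of a split surjection -/
noncomputable def kerProj (h : π ∘ₗ σ = LinearMap.id) : M →ₗ[R] LinearMap.ker π :=
  LinearMap.codRestrict (LinearMap.ker π) (LinearMap.id - σ ∘ₗ π) (fun m => by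
    have := LinearMap.congr_fun h (π m)
    simp only [LinearMap.comp_apply, LinearMap.id_apply] at this
    simp [LinearMap.mem_ker, this])

theorem kerProj_apply (h : π ∘ₗ σ = LinearMap.id) (m : M) :
    (kerProj π σ h m : M) = m - σ (π m) := rfl

theorem kerProj_surjective (h : π ∘ₗ σ = LinearMap.id) : Function.Surjective (kerProj π σ h) := by
  intro k
  refine ⟨k, Subtype.ext ?_⟩
  rw [kerProj_apply, LinearMap.mem_ker.mp k.2, map_zero, sub_zero]

theorem ker_kerProj (h : π ∘ₗ σ = LinearMap.id) :
    LinearMap.ker (kerProj π σ h) = LinearMap.range σ := by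
  ext m
  rw [LinearMap.mem_ker, LinearMap.mem_range]
  constructor
  · intro hm
    have := congrArg Subtype.val hm
    rw [kerProj_apply, ZeroMemClass.coe_zero, sub_eq_zero] at this
    exact ⟨π m, this.symm⟩
  · rintro ⟨a, rfl⟩
    apply Subtype.ext
    have := LinearMap.congr_fun h a
    simp only [LinearMap.comp_apply, LinearMap.id_apply] at this
    rw [kerProj_apply, this, sub_self, ZeroMemClass.coe_zero]

/-- a split surjection decomposes the source as a product -/
noncomputable def splitEquiv (h : π ∘ₗ σ = LinearMap.id) : M ≃ₗ[R] Q × LinearMap.ker π :=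
  LinearEquiv.ofLinearMap (LinearMap.prod π (kerProj π σ h))
    (LinearMap.coprod σ (LinearMap.ker π).subtype)
    (by
      apply LinearMap.ext
      rintro ⟨a, k⟩
      have h1 := LinearMap.congr_fun h a
      simp only [LinearMap.comp_apply, LinearMap.id_apply] at h1
      have h2 : π (k : M) = 0 := LinearMap.mem_ker.mp k.2
      refine Prod.ext ?_ (Subtype.ext ?_)
      · simp [h1, h2]
      · simp [kerProj_apply, h1, h2])
    (by
      apply LinearMap.ext
      intro m
      simp [kerProj_apply])

end SplitEquiv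

section Main

variable {A C S : Type u} [CommRing A] [CommRing C] [CommRing S] [Algebra A C] [Algebra A S]
  [Algebra C S] [IsScalarTower A C S]

/-- For `C` finite over `A`, `S = C_h` formally unramified over `A`, and an ideal `J` of `C`: the
`S`-module `S ⊗_A (C ⧸ J)` is the product of `S ⧸ J S` and a finite `S`-module `N`, which is
finitely presented when `S ⊗_A (C ⧸ J)` is. -/
theorem exists_prod_decomposition [Module.Finite A C] (h : C) [IsLocalization.Away h S]
    [Algebra.FormallyUnramified A S] [Algebra.EssFiniteType A S] (J : Ideal C) :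
    ∃ (N : Type u) (_ : AddCommGroup N) (_ : Module S N), Module.Finite S N ∧
      Nonempty (S ⊗[A] (C ⧸ J) ≃ₗ[S] (S ⧸ J.map (algebraMap C S)) × N) ∧
      (Module.FinitePresentation S (S ⊗[A] (C ⧸ J)) → Module.FinitePresentation S N) := by
  obtain ⟨σ, hσ⟩ := exists_split (A := A) (S := S) J h
  refine ⟨LinearMap.ker (piMap (A := A) (S := S) J), inferInstance, inferInstance, ?_,
    ⟨splitEquiv _ σ hσ⟩, ?_⟩
  · exact Module.Finite.of_surjective (kerProj _ σ hσ) (kerProj_surjective _ σ hσ)
  · intro hfp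
    refine Module.finitePresentation_of_surjective (kerProj _ σ hσ) (kerProj_surjective _ σ hσ) ?_
    rw [ker_kerProj, LinearMap.range_eq_map]
    exact Submodule.FG.map _ Module.Finite.fg_top

end Main

end Groth.Agent.R2.H6.DiagSplit
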