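import Mathlib
import Groth.Agent.S2043
import Groth.Agent.R2.H6AdaptedCoordSch

/-!
# Étale neighbourhoods extending a morphism to a smooth scheme (for S14069)
-/

set_option autoImplicit false
universe u

open CategoryTheory CategoryTheory.Limits AlgebraicGeometry TensorProduct

namespace Groth.Agent.R2.H6.EtLiftSmooth

open Groth.Agent.R2.H6.AdaptedCoordSch

/-- `Spec (A'/K) ⟶ Spec A'` is the pullback of a monomorphism `c` along `π` as soon as a
generating set of `K` dies on every test object. -/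
theorem isPullback_Spec_quotient {A' : Type u} [CommRing A'] (K : Ideal A') {P₁ P₂ : Scheme.{u}}
    (π : Spec (.of A') ⟶ P₂) (c : P₁ ⟶ P₂) [Mono c] (ρ : Spec (.of (A' ⧸ K)) ⟶ P₁)
    (hcomm : ρ ≫ c = Spec.map (CommRingCat.ofHom (Ideal.Quotient.mk K)) ≫ π)
    (G : Set A') (hG : K ≤ Ideal.span G)
    (hgens : ∀ (T : Scheme.{u}) (a : T ⟶ P₁) (b : T ⟶ Spec (.of A')), a ≫ c = b ≫ π →
      ∀ g ∈ G, b.appTop.hom ((Scheme.ΓSpecIso (.of A')).inv.hom g) = 0) :
    IsPullback ρ (Spec.map (CommRingCat.ofHom (Ideal.Quotient.mk K))) c π := by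
  have hci : IsClosedImmersion (Spec.map (CommRingCat.ofHom (Ideal.Quotient.mk K))) :=
    IsClosedImmersion.spec_of_surjective _ Ideal.Quotient.mk_surjective
  refine isPullback_of_ker_le_span _ π c ρ hcomm
    (fun g : G => (Scheme.ΓSpecIso (.of A')).inv.hom g.1) ?_ ?_
  · intro z hz
    have hnat := Scheme.ΓSpecIso_naturality (CommRingCat.ofHom (Ideal.Quotient.mk K))
    have h1 : Ideal.Quotient.mk K ((Scheme.ΓSpecIso (.of A')).hom.hom z) = 0 := by
      have h2 := congr($(hnat).hom z)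
      simp only [CommRingCat.hom_comp, RingHom.comp_apply, CommRingCat.hom_ofHom] at h2
      rw [← h2, RingHom.mem_ker.mp hz, map_zero]
    rw [Ideal.Quotient.eq_zero_iff_mem] at h1
    have h3 := Ideal.mem_map_of_mem (Scheme.ΓSpecIso (.of A')).inv.hom (hG h1)
    rw [Ideal.map_span, hom_inv_apply, Set.image_eq_range] at h3
    exact h3
  · intro T a b hab k
    exact hgens T a b hab k.1 k.2

set_option maxHeartbeats 1600000 in
theorem main {S S₀ X Y : Scheme.{u}} (i : S₀ ⟶ S) [IsClosedImmersion i]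
    (p : X ⟶ S) (q : Y ⟶ S) [Smooth q] (f₀ : pullback p i ⟶ Y)
    (hf₀ : f₀ ≫ q = pullback.fst p i ≫ p) (x₀ : ↥(pullback p i)) :
    ∃ (U : Scheme.{u}) (e : U ⟶ X) (f : U ⟶ Y), Etale e ∧ f ≫ q = e ≫ p ∧
      IsOpenImmersion (pullback.snd e (pullback.fst p i)) ∧
      x₀ ∈ Set.range (pullback.snd e (pullback.fst p i)).base ∧
      pullback.snd e (pullback.fst p i) ≫ f₀ =
        pullback.fst e (pullback.fst p i) ≫ f := by
  -- notation
  set c : pullback p i ⟶ X := pullback.fst p i with hc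
  have hcci : IsClosedImmersion c := inferInstance
  have hcmono : Mono c := inferInstance
  -- affine charts
  obtain ⟨_, ⟨W : S.Opens, hW, rfl⟩, hsW, -⟩ :=
    S.isBasis_affineOpens.exists_subset_of_mem_open (Set.mem_univ (p (c x₀))) isOpen_univ
  replace hW : IsAffineOpen W := hW
  have hqy : q (f₀ x₀) = p (c x₀) := by
    rw [← Scheme.Hom.comp_apply, ← Scheme.Hom.comp_apply, hf₀]
  obtain ⟨_, ⟨V : Y.Opens, hV, rfl⟩, hyV, hVW⟩ :=
    Y.isBasis_affineOpens.exists_subset_of_mem_open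
      (show f₀ x₀ ∈ (q ⁻¹ᵁ W : Set Y) from by
        change q (f₀ x₀) ∈ W
        rw [hqy]; exact hsW) (q ⁻¹ᵁ W).2
  replace hV : IsAffineOpen V := hV
  replace hVW : V ≤ q ⁻¹ᵁ W := hVW
  -- an open of `X` inducing `f₀⁻¹ V`
  obtain ⟨O, hOopen, hO⟩ := c.isEmbedding.isInducing.isOpen_iff.mp (f₀ ⁻¹ᵁ V).2
  obtain ⟨_, ⟨U₁ : X.Opens, hU₁, rfl⟩, hxU₁, hU₁le⟩ :=
    X.isBasis_affineOpens.exists_subset_of_mem_open
      (show c x₀ ∈ O ∩ (p ⁻¹ᵁ W : Set X) from ⟨by
        have : x₀ ∈ c ⁻¹' O := by rw [hO]; exact hyV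
        exact this, hsW⟩) (hOopen.inter (p ⁻¹ᵁ W).2)
  replace hU₁ : IsAffineOpen U₁ := hU₁
  have hU₁W : U₁ ≤ p ⁻¹ᵁ W := fun z hz => (hU₁le hz).2
  have hU₀ : IsAffineOpen (c ⁻¹ᵁ U₁) := hU₁.preimage c
  have hU₀V : c ⁻¹ᵁ U₁ ≤ f₀ ⁻¹ᵁ V := by
    intro z hz
    have h1 : z ∈ c ⁻¹' O := (hU₁le hz).1
    rw [hO] at h1
    exact h1
  have hx₀ : x₀ ∈ c ⁻¹ᵁ U₁ := hxU₁
  -- ring maps
  let φ : Γ(X, U₁) →+* Γ(pullback p i, c ⁻¹ᵁ U₁) := (c.app U₁).hom
  have hφ : Function.Surjective φ := c.app_surjective U₁ hU₁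
  let ψ : Γ(Y, V) →+* Γ(pullback p i, c ⁻¹ᵁ U₁) := (f₀.appLE V (c ⁻¹ᵁ U₁) hU₀V).hom
  let α : Γ(S, W) →+* Γ(X, U₁) := (p.appLE W U₁ hU₁W).hom
  let δ : Γ(S, W) →+* Γ(Y, V) := (q.appLE W V hVW).hom
  have hδ : δ.Smooth := q.smooth_appLE hW hV hVW
  have hcompat : φ.comp α = ψ.comp δ := by
    simp only [φ, ψ, α, δ]
    rw [← CommRingCat.hom_comp, ← CommRingCat.hom_comp, ← Scheme.Hom.appLE_eq_app,
      Scheme.Hom.appLE_comp_appLE, Scheme.Hom.appLE_comp_appLE]
    simp only [hf₀, hc]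
  let algA : Algebra Γ(S, W) Γ(X, U₁) := α.toAlgebra
  let algD : Algebra Γ(S, W) Γ(Y, V) := δ.toAlgebra
  have hsm : Algebra.Smooth Γ(S, W) Γ(Y, V) := by
    rw [← RingHom.smooth_algebraMap]; exact hδ
  have hsmB : Algebra.Smooth Γ(X, U₁) (Γ(X, U₁) ⊗[Γ(S, W)] Γ(Y, V)) := inferInstance
  let κ := RingHom.quotientKerEquivOfSurjective hφ
  let gD : Γ(Y, V) →ₐ[Γ(S, W)] (Γ(X, U₁) ⧸ RingHom.ker φ) :=
    { toRingHom := κ.symm.toRingHom.comp ψ
      commutes' := by
        intro r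
        change κ.symm (ψ (δ r)) = _
        rw [← RingHom.comp_apply ψ δ, ← hcompat, RingHom.comp_apply,
          RingHom.quotientKerEquivOfSurjective_symm_apply]
        rfl }
  let σ : (Γ(X, U₁) ⊗[Γ(S, W)] Γ(Y, V)) →ₐ[Γ(X, U₁)] (Γ(X, U₁) ⧸ RingHom.ker φ) :=
    Algebra.TensorProduct.lift (Algebra.ofId _ _) gD (fun _ _ => Commute.all _ _)
  obtain ⟨A', instCR, instAlg, hA'et, hbij, τ, hτ⟩ := Groth.Agent.S2043.result (RingHom.ker φ) σ
  -- abbreviations for ring homs into `A'`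
  let a' : Γ(X, U₁) →+* A' := algebraMap Γ(X, U₁) A'
  let K : Ideal A' := (RingHom.ker φ).map a'
  let β : (Γ(X, U₁) ⧸ RingHom.ker φ) →+* (A' ⧸ K) := algebraMap _ _
  let tD : Γ(Y, V) →+* A' :=
    τ.toRingHom.comp (Algebra.TensorProduct.includeRight (R := Γ(S, W)) (A := Γ(X, U₁))
      (B := Γ(Y, V))).toRingHom
  -- the schemes
  let e : Spec (.of A') ⟶ X := Spec.map (CommRingCat.ofHom a') ≫ hU₁.fromSpec
  let f : Spec (.of A') ⟶ Y := Spec.map (CommRingCat.ofHom tD) ≫ hV.fromSpec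
  have he : Etale e := by
    have h1 : Etale (Spec.map (CommRingCat.ofHom a')) := by
      rw [HasRingHomProperty.Spec_iff (P := @Etale), CommRingCat.hom_ofHom]
      exact RingHom.etale_algebraMap.mpr hA'et
    have : IsOpenImmersion hU₁.fromSpec := hU₁.isOpenImmersion_fromSpec
    infer_instance
  have hfq : f ≫ q = e ≫ p := by
    simp only [e, f, Category.assoc]
    rw [← IsAffineOpen.SpecMap_appLE_fromSpec q hW hV hVW,
      ← IsAffineOpen.SpecMap_appLE_fromSpec p hW hU₁ hU₁W, ← Spec.map_comp_assoc,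
      ← Spec.map_comp_assoc]
    congr 2
    ext r
    change tD (δ r) = a' (α r)
    change τ ((Algebra.TensorProduct.includeRight (R := Γ(S, W)) (A := Γ(X, U₁))
      (B := Γ(Y, V))) (algebraMap Γ(S, W) Γ(Y, V) r)) = _
    rw [AlgHom.commutes, IsScalarTower.algebraMap_apply Γ(S, W) Γ(X, U₁), τ.commutes]
    rfl
  -- the closed subscheme `Z = Spec (A'/K)` and its open immersion into `X₀`
  let j : Spec (.of (A' ⧸ K)) ⟶ Spec (.of A') :=
    Spec.map (CommRingCat.ofHom (Ideal.Quotient.mk K))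
  let γ : Γ(pullback p i, c ⁻¹ᵁ U₁) →+* (A' ⧸ K) := β.comp κ.symm.toRingHom
  have hγ : Function.Bijective γ := hbij.comp κ.symm.bijective
  let ρ : Spec (.of (A' ⧸ K)) ⟶ pullback p i := Spec.map (CommRingCat.ofHom γ) ≫ hU₀.fromSpec
  have hisoγ : IsIso (Spec.map (CommRingCat.ofHom γ)) := by
    have : IsIso (CommRingCat.ofHom γ) := (ConcreteCategory.isIso_iff_bijective _).mpr hγ
    infer_instance
  have hρoi : IsOpenImmersion ρ := by
    have : IsOpenImmersion hU₀.fromSpec := hU₀.isOpenImmersion_fromSpec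
    infer_instance
  have hρrange : x₀ ∈ Set.range ρ := by
    have h1 : Set.range ρ = (c ⁻¹ᵁ U₁ : Set _) := by
      simp only [ρ, Scheme.Hom.comp_base, TopCat.coe_comp]
      rw [Set.range_comp, Set.range_eq_univ.mpr (Spec.map (CommRingCat.ofHom γ)).surjective,
        Set.image_univ, hU₀.range_fromSpec]
    rw [h1]; exact hx₀
  have hγφ : ∀ a, γ (φ a) = Ideal.Quotient.mk K (a' a) := by
    intro a
    change β (κ.symm (φ a)) = _
    rw [RingHom.quotientKerEquivOfSurjective_symm_apply]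
    rfl
  have hcomm : ρ ≫ c = j ≫ e := by
    simp only [ρ, j, e, Category.assoc]
    rw [← IsAffineOpen.SpecMap_appLE_fromSpec c hU₁ hU₀ le_rfl, ← Spec.map_comp_assoc,
      ← Spec.map_comp_assoc]
    congr 2
    ext a
    rw [Scheme.Hom.appLE_eq_app]
    exact hγφ a
  have hpb : IsPullback ρ j c e := by
    refine isPullback_Spec_quotient K e c ρ hcomm (a' '' (RingHom.ker φ : Set Γ(X, U₁)))
      le_rfl ?_
    rintro T a b hab _ ⟨g₀, hg₀, rfl⟩
    have hrange : Set.range a ⊆ Set.range hU₀.fromSpec := by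
      rw [hU₀.range_fromSpec]
      rintro _ ⟨t, rfl⟩
      change c (a t) ∈ U₁
      rw [← Scheme.Hom.comp_apply, hab]
      change hU₁.fromSpec _ ∈ (U₁ : Set X)
      rw [← hU₁.range_fromSpec]
      exact ⟨_, rfl⟩
    have : IsOpenImmersion hU₀.fromSpec := hU₀.isOpenImmersion_fromSpec
    have : IsOpenImmersion hU₁.fromSpec := hU₁.isOpenImmersion_fromSpec
    have h1 : IsOpenImmersion.lift hU₀.fromSpec a hrange ≫ Spec.map (c.app U₁) =
        b ≫ Spec.map (CommRingCat.ofHom a') := by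
      rw [← cancel_mono hU₁.fromSpec, Category.assoc, Category.assoc,
        ← Scheme.Hom.appLE_eq_app, IsAffineOpen.SpecMap_appLE_fromSpec c hU₁ hU₀ le_rfl,
        IsOpenImmersion.lift_fac_assoc]
      exact hab
    have h2 := congr($(h1).appTop.hom ((Scheme.ΓSpecIso Γ(X, U₁)).inv.hom g₀))
    simp only [Scheme.Hom.comp_appTop, CommRingCat.hom_comp, RingHom.comp_apply] at h2
    have h3 : (Spec.map (c.app U₁)).appTop.hom ((Scheme.ΓSpecIso Γ(X, U₁)).inv.hom g₀) = 0 := by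
      have := congr($(Scheme.ΓSpecIso_inv_naturality (c.app U₁)).hom g₀)
      simp only [CommRingCat.hom_comp, RingHom.comp_apply] at this
      rw [← this]
      have hz : (c.app U₁).hom g₀ = 0 := hg₀
      rw [hz, map_zero]
    have h4 : (Spec.map (CommRingCat.ofHom a')).appTop.hom
        ((Scheme.ΓSpecIso Γ(X, U₁)).inv.hom g₀) =
        (Scheme.ΓSpecIso (.of A')).inv.hom (a' g₀) := by
      have := congr($(Scheme.ΓSpecIso_inv_naturality (CommRingCat.ofHom a')).hom g₀)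
      simp only [CommRingCat.hom_comp, RingHom.comp_apply] at this
      exact this.symm
    rw [h3, map_zero, h4] at h2
    exact h2.symm
  -- conclusion
  have hpb' : IsPullback j ρ e c := hpb.flip
  have h1 : pullback.snd e c = hpb'.isoPullback.inv ≫ ρ := by
    rw [Iso.eq_inv_comp]; exact hpb'.isoPullback_hom_snd
  have h2 : pullback.fst e c = hpb'.isoPullback.inv ≫ j := by
    rw [Iso.eq_inv_comp]; exact hpb'.isoPullback_hom_fst
  have hfin : ρ ≫ f₀ = j ≫ f := by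
    simp only [ρ, j, f, Category.assoc]
    rw [← IsAffineOpen.SpecMap_appLE_fromSpec f₀ hV hU₀ hU₀V, ← Spec.map_comp_assoc,
      ← Spec.map_comp_assoc]
    congr 2
    ext d
    change γ (ψ d) = Ideal.Quotient.mk K (tD d)
    have h5 := hτ ((1 : Γ(X, U₁)) ⊗ₜ[Γ(S, W)] d)
    have h6 : σ ((1 : Γ(X, U₁)) ⊗ₜ[Γ(S, W)] d) = κ.symm (ψ d) := by
      simp only [σ, Algebra.TensorProduct.lift_tmul, map_one, one_mul]
      rfl
    rw [h6] at h5
    exact h5.symm
  refine ⟨Spec (.of A'), e, f, he, hfq, ?_, ?_, ?_⟩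
  · rw [h1]; infer_instance
  · rw [h1]
    simp only [Scheme.Hom.comp_base, TopCat.coe_comp]
    rw [Set.range_comp, Set.range_eq_univ.mpr hpb'.isoPullback.inv.surjective, Set.image_univ]
    exact hρrange
  · rw [h1, h2]
    exact (Category.assoc _ _ _).trans
      ((congrArg (hpb'.isoPullback.inv ≫ ·) hfin).trans (Category.assoc _ _ _).symm)

end Groth.Agent.R2.H6.EtLiftSmooth
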