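import Mathlib
import Groth.Agent.Lib.Helper18StdEtaleCover
import Groth.Agent.R2.H6CMSliceB

/-!
# Étale neighbourhoods are dominated by finite locally free covers, Zariski locally (helper6)

Scheme version of `Groth.Agent.Lib.Helper18StdEtaleCover.main` (Stacks 02LK).
-/

set_option autoImplicit false
universe u

open AlgebraicGeometry CategoryTheory Limits

namespace Groth.Agent.R2.H6.EtNbhd

/-- Ring-level input: an étale algebra is standard étale near a given prime, and a standard étale
algebra is dominated by a finite free one. -/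
theorem exists_finite_cover_ring (A B : Type u) [CommRing A] [CommRing B] [Algebra A B]
    [Algebra.Etale A B] (q : Ideal B) [q.IsPrime] :
    ∃ (A' : Type u) (_ : CommRing A') (_ : Algebra A A'),
      Module.Finite A A' ∧ Algebra.FinitePresentation A A' ∧ Module.Flat A A' ∧
        Function.Surjective (PrimeSpectrum.comap (algebraMap A A')) ∧
        ∀ (q' : Ideal A') [q'.IsPrime], q'.under A = q.under A →
          ∃ (g' : A') (_ : g' ∉ q') (χ : B →ₐ[A] Localization.Away g'),
            (q'.map (algebraMap A' (Localization.Away g'))).comap χ = q := by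
  obtain ⟨b, hb, hstd⟩ := Algebra.IsEtaleAt.exists_isStandardEtale (R := A) q
  obtain ⟨A', _, _, h1, h2, h3, h4, h5⟩ :=
    Groth.Agent.Lib.Helper18StdEtaleCover.main A (Localization.Away b)
  refine ⟨A', inferInstance, inferInstance, h1, h2, h3, h4, ?_⟩
  intro q' _ hq'
  have hdisj : Disjoint (Submonoid.powers b : Set B) (q : Set B) :=
    (Ideal.disjoint_powers_iff_notMem_of_isPrime _).mpr hb
  have hqb : (q.map (algebraMap B (Localization.Away b))).IsPrime :=
    IsLocalization.isPrime_of_isPrime_disjoint (.powers b) _ _ ‹_› hdisj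
  have hcomap : (q.map (algebraMap B (Localization.Away b))).comap
      (algebraMap B (Localization.Away b)) = q :=
    IsLocalization.under_map_of_isPrime_disjoint (.powers b) _ ‹_› hdisj
  have hunder : (q.map (algebraMap B (Localization.Away b))).under A = q.under A := by
    rw [Ideal.under, IsScalarTower.algebraMap_eq A B (Localization.Away b), ← Ideal.comap_comap,
      hcomap]
  obtain ⟨g', hg', φ, hφ⟩ := h5 (q.map (algebraMap B (Localization.Away b))) q' (hq'.trans hunder.symm)
  refine ⟨g', hg', φ.comp (IsScalarTower.toAlgHom A B (Localization.Away b)), ?_⟩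
  have : (Ideal.map (algebraMap A' (Localization.Away g')) q').comap
      ((φ.comp (IsScalarTower.toAlgHom A B (Localization.Away b)) : B →ₐ[A] _) : B →+* _) =
      ((Ideal.map (algebraMap A' (Localization.Away g')) q').comap (φ : _ →+* _)).comap
        (algebraMap B (Localization.Away b)) := by
    rw [Ideal.comap_comap]
    rfl
  erw [this, hφ, hcomap]

/-- **Stacks 02LK**: an étale neighbourhood is dominated, Zariski locally on a finite flat finitely
presented cover of an affine neighbourhood of the base point. -/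
theorem main {U S : Scheme.{u}} (e : U ⟶ S) [Etale e] (u : U) (s : S) (hu : e u = s) :
    ∃ (V : S.Opens) (T : Scheme.{u}) (π : T ⟶ (V : Scheme.{u})), s ∈ V ∧ IsAffineOpen V ∧
      Surjective π ∧ IsFinite π ∧ Flat π ∧ LocallyOfFinitePresentation π ∧
      ∀ t : T, V.ι (π t) = s → ∃ (W : T.Opens) (h : (W : Scheme.{u}) ⟶ U), t ∈ W ∧
        h ≫ e = W.ι ≫ π ≫ V.ι ∧ ∀ ht : t ∈ W, h ⟨t, ht⟩ = u := by
  subst hu
  obtain ⟨V, hV, hsV, -⟩ :=
    exists_isAffineOpen_mem_and_subset (x := e u) (U := (⊤ : S.Opens)) trivial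
  obtain ⟨W₀, hW₀, huW₀, hW₀V⟩ :=
    exists_isAffineOpen_mem_and_subset (x := u) (U := e ⁻¹ᵁ V) hsV
  have hle : W₀ ≤ e ⁻¹ᵁ V := hW₀V
  have het : (e.appLE V W₀ hle).hom.Etale := e.etale_appLE hV hW₀ hle
  algebraize [(e.appLE V W₀ hle).hom]
  let qu : Ideal Γ(U, W₀) := (hW₀.primeIdealOf ⟨u, huW₀⟩).asIdeal
  obtain ⟨A', _, _, h1, h2, h3, h4, h5⟩ := exists_finite_cover_ring Γ(S, V) Γ(U, W₀) qu
  let α : Γ(S, V) ⟶ CommRingCat.of A' := CommRingCat.ofHom (algebraMap Γ(S, V) A')
  have hsurj : Surjective (Spec.map α) := ⟨fun x => h4 x⟩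
  have hfin : IsFinite (Spec.map α) :=
    (IsFinite.SpecMap_iff α).mpr (RingHom.finite_algebraMap.mpr h1)
  have hflat : Flat (Spec.map α) := Flat.SpecMap_iff.mpr (RingHom.flat_algebraMap_iff.mpr h3)
  have hfp : LocallyOfFinitePresentation (Spec.map α) :=
    (LocallyOfFinitePresentation.SpecMap_iff α).mpr (RingHom.finitePresentation_algebraMap.mpr h2)
  refine ⟨V, Spec (CommRingCat.of A'), Spec.map α ≫ hV.isoSpec.inv, hsV, hV, inferInstance,
    inferInstance, inferInstance, inferInstance, ?_⟩
  intro t ht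
  -- the prime of `A'` lies over the prime of `e u`
  have hπt : (Spec.map α ≫ hV.isoSpec.inv) t = ⟨e u, hsV⟩ := Subtype.ext ht
  have hcomap : Spec.map α t = hV.primeIdealOf ⟨e u, hsV⟩ := by
    rw [IsAffineOpen.primeIdealOf, ← hπt, Scheme.Hom.comp_apply, ← Scheme.Hom.comp_apply,
      Iso.inv_hom_id]
    rfl
  have hunder : t.asIdeal.under Γ(S, V) = qu.under Γ(S, V) := by
    have h1 := congrArg PrimeSpectrum.asIdeal hcomap
    have h2 := congrArg PrimeSpectrum.asIdeal
      (IsAffineOpen.comap_primeIdealOf_appLE (f := e) V hV W₀ hW₀ hle huW₀)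
    exact h1.trans h2.symm
  obtain ⟨g', hg', χ, hχ⟩ := h5 t.asIdeal hunder
  let W : (Spec (CommRingCat.of A')).Opens := PrimeSpectrum.basicOpen g'
  let χ' : Γ(U, W₀) ⟶ CommRingCat.of (Localization.Away g') := CommRingCat.ofHom χ.toRingHom
  let ι' : CommRingCat.of A' ⟶ CommRingCat.of (Localization.Away g') :=
    CommRingCat.ofHom (algebraMap A' (Localization.Away g'))
  have hι' : (basicOpenIsoSpecAway (R := CommRingCat.of A') g').hom ≫ Spec.map ι' = W.ι :=
    basicOpenIsoSpecAway_hom_SpecMap (R := CommRingCat.of A') g'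
  have hcomm : e.appLE V W₀ hle ≫ χ' = α ≫ ι' := by
    ext a
    change χ (algebraMap Γ(S, V) Γ(U, W₀) a) = algebraMap A' _ (algebraMap Γ(S, V) A' a)
    rw [χ.commutes, ← IsScalarTower.algebraMap_apply]
  refine ⟨W, (basicOpenIsoSpecAway (R := CommRingCat.of A') g').hom ≫ Spec.map χ' ≫ hW₀.fromSpec,
    hg', ?_, ?_⟩
  · rw [Category.assoc, Category.assoc, ← IsAffineOpen.SpecMap_appLE_fromSpec e hV hW₀ hle,
      ← Spec.map_comp_assoc, hcomm, Spec.map_comp_assoc, reassoc_of% hι', Category.assoc,
      IsAffineOpen.isoSpec_inv_ι]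
  · intro htW
    set p := (basicOpenIsoSpecAway (R := CommRingCat.of A') g').hom ⟨t, htW⟩ with hp
    have hp1 : Spec.map ι' p = t := by
      rw [hp, ← Scheme.Hom.comp_apply, hι']
      rfl
    have hp2 : p.asIdeal = t.asIdeal.map (algebraMap A' (Localization.Away g')) := by
      have := congrArg PrimeSpectrum.asIdeal hp1
      rw [← this]
      exact (IsLocalization.map_under (Submonoid.powers g') (Localization.Away g') p.asIdeal).symm
    have hp3 : Spec.map χ' p = hW₀.primeIdealOf ⟨u, huW₀⟩ := by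
      apply PrimeSpectrum.ext
      change p.asIdeal.comap χ.toRingHom = qu
      rw [hp2]
      exact hχ
    rw [Scheme.Hom.comp_apply, Scheme.Hom.comp_apply, hp3]
    exact hW₀.fromSpec_primeIdealOf ⟨u, huW₀⟩

end Groth.Agent.R2.H6.EtNbhd
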