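import Mathlib
import Groth.Agent.R2.H6NzdSlice
import Groth.Agent.Lib.Helper6SmReg
import Groth.Agent.Lib.Helper5RLR

/-!
# Smooth hypersurface slices (helper6)

If `f : X ⟶ S` is smooth near `x` and `h ∈ m_x` has `dh ≠ 0` in `Ω_{X/S} ⊗ κ(x)`, then `V(h)` is a
smooth effective Cartier divisor through `x` (EGA IV 17.12.1-type slicing), via the Jacobi–Zariski
split-injection criterion.
-/

set_option autoImplicit false
universe u

open TensorProduct KaehlerDifferential

namespace Groth.Agent.R2.H6.SmoothSlice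

section functional

variable {B M : Type u} [CommRing B] [AddCommGroup M] [Module B M]

/-- In a projective module, an element outside `q M` is detected by a linear functional. -/
theorem exists_functional_notMem [Module.Projective B M] (q : Ideal B) (v : M)
    (hv : v ∉ (q • ⊤ : Submodule B M)) : ∃ l : M →ₗ[B] B, l v ∉ q := by
  classical
  obtain ⟨s, hs⟩ := (Module.projective_def' (R := B) (P := M)).mp inferInstance
  by_contra hcon
  push Not at hcon
  apply hv
  have h1 : v = Finsupp.linearCombination B id (s v) := by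
    have := LinearMap.congr_fun hs v
    simpa using this.symm
  rw [h1, Finsupp.linearCombination_apply]
  refine Submodule.sum_mem _ (fun m _ => ?_)
  have h2 : (s v) m ∈ q := hcon ((Finsupp.lapply m).comp s)
  exact Submodule.smul_mem_smul h2 Submodule.mem_top

end functional

section quotient

variable {A P : Type u} [CommRing A] [CommRing P] [Algebra A P]

/-- Jacobian criterion for a hypersurface: if some functional on `Ω[P⁄A]` takes a unit value on
`dh`, then `P/(h)` is formally smooth over `A` as soon as `P` is. -/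
theorem formallySmooth_quotient_of_functional [Algebra.FormallySmooth A P] (h : P)
    (μ : Ω[P⁄A] →ₗ[P] P) (hu : IsUnit (μ (D A P h))) :
    Algebra.FormallySmooth A (P ⧸ Ideal.span {h}) := by
  have hsurj : Function.Surjective (algebraMap P (P ⧸ Ideal.span {h})) :=
    Ideal.Quotient.mk_surjective
  rw [Algebra.FormallySmooth.iff_split_injection (P := P) hsurj]
  have hker : RingHom.ker (algebraMap P (P ⧸ Ideal.span {h})) = Ideal.span {h} := Ideal.mk_ker
  set I := RingHom.ker (algebraMap P (P ⧸ Ideal.span {h})) with hI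
  have hhI : h ∈ I := by rw [hker]; exact Ideal.subset_span rfl
  obtain ⟨u, hu⟩ := hu
  let c : I.Cotangent := (↑u⁻¹ : P) • I.toCotangent ⟨h, hhI⟩
  let ν0 : P →ₗ[P] I.Cotangent := LinearMap.toSpanSingleton P _ c
  have hν0 : (Ideal.span {h} : Submodule P P) ≤ LinearMap.ker ν0 := by
    intro z hz
    rw [LinearMap.mem_ker, LinearMap.toSpanSingleton_apply]
    exact Ideal.Cotangent.smul_eq_zero_of_mem (hker ▸ hz) c
  let ν : (P ⧸ Ideal.span {h}) →ₗ[P] I.Cotangent := Submodule.liftQ (Ideal.span {h}) ν0 hν0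
  let μ' : (P ⧸ Ideal.span {h}) ⊗[P] Ω[P⁄A] →ₗ[P] (P ⧸ Ideal.span {h}) :=
    (TensorProduct.rid P (P ⧸ Ideal.span {h})).toLinearMap ∘ₗ (LinearMap.lTensor _ μ)
  refine ⟨ν ∘ₗ μ', ?_⟩
  ext x
  obtain ⟨⟨y, hy⟩, rfl⟩ := Ideal.toCotangent_surjective I x
  have hy' : y ∈ Ideal.span {h} := hker ▸ hy
  obtain ⟨p, rfl⟩ := Ideal.mem_span_singleton'.mp hy'
  simp only [LinearMap.coe_comp, Function.comp_apply, LinearMap.id_coe, id_eq]
  have e1 : kerCotangentToTensor A P (P ⧸ Ideal.span {h}) (I.toCotangent ⟨p * h, hy⟩) =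
      (1 : P ⧸ Ideal.span {h}) ⊗ₜ[P] D A P (p * h) := rfl
  have e2 : μ' ((1 : P ⧸ Ideal.span {h}) ⊗ₜ[P] D A P (p * h)) =
      Ideal.Quotient.mk (Ideal.span {h}) (p * ↑u) := by
    simp only [μ', LinearMap.coe_comp, LinearEquiv.coe_coe, Function.comp_apply,
      LinearMap.lTensor_tmul, TensorProduct.rid_tmul, Derivation.leibniz, map_add, map_smul,
      smul_eq_mul, ← hu]
    rw [Algebra.smul_def, mul_one]
    change Ideal.Quotient.mk (Ideal.span {h}) _ = _
    rw [Ideal.Quotient.eq]
    have : p * ↑u + h * μ ((D A P) p) - p * ↑u = h * μ ((D A P) p) := by ring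
    rw [this]
    exact Ideal.mul_mem_right _ _ (Ideal.subset_span rfl)
  have e3 : ν (Ideal.Quotient.mk (Ideal.span {h}) (p * ↑u)) = (p * ↑u) • c := rfl
  rw [e1, e2, e3]
  simp only [c]
  rw [smul_smul, mul_assoc, Units.mul_inv, mul_one, ← map_smul]
  rfl

end quotient

section away

variable {A B : Type u} [CommRing A] [CommRing B] [Algebra A B]

/-- functionals on differentials extend along formally étale maps -/
theorem exists_functional_of_formallyEtale {P : Type u} [CommRing P] [Algebra A P] [Algebra B P]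
    [IsScalarTower A B P] [Algebra.FormallyEtale B P] (l : Ω[B⁄A] →ₗ[B] B) :
    ∃ μ : Ω[P⁄A] →ₗ[P] P, ∀ b : B,
      μ (D A P (algebraMap B P b)) = algebraMap B P (l (D A B b)) := by
  refine ⟨(TensorProduct.AlgebraTensorModule.rid B P P).toLinearMap ∘ₗ (l.baseChange P) ∘ₗ
    (tensorKaehlerEquivOfFormallyEtale A B P).symm.toLinearMap, fun b => ?_⟩
  simp only [LinearMap.coe_comp, LinearEquiv.coe_coe, Function.comp_apply,
    tensorKaehlerEquivOfFormallyEtale_symm_D_algebraMap, LinearMap.baseChange_tmul,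
    TensorProduct.AlgebraTensorModule.rid_tmul]
  rw [Algebra.smul_def, mul_one]

/-- **Smooth hypersurface slice**, ring level: if a functional `l` on `Ω[B⁄A]` takes the value
`r` on `dh`, then `B_{rg}/(h)` is smooth over `A` for all `g`. -/
theorem smooth_slice_of_functional [Algebra.Smooth A B] (h : B) (l : Ω[B⁄A] →ₗ[B] B) (g : B)
    (C' : Type u) [CommRing C'] [Algebra B C'] [IsLocalization.Away (l (D A B h) * g) C'] :
    ((Ideal.Quotient.mk (Ideal.span {algebraMap B C' h})).comp
      ((algebraMap B C').comp (algebraMap A B))).Smooth := by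
  set r := l (D A B h) with hr
  let _ : Algebra A C' := ((algebraMap B C').comp (algebraMap A B)).toAlgebra
  have : IsScalarTower A B C' := IsScalarTower.of_algebraMap_eq (fun _ => rfl)
  have hsmBC : Algebra.Smooth B C' := Algebra.Smooth.of_isLocalization_Away (r * g)
  have hetBC : Algebra.FormallyEtale B C' :=
    Algebra.FormallyEtale.of_isLocalization (Submonoid.powers (r * g))
  have hsm : Algebra.Smooth A C' := Algebra.Smooth.comp A B C'
  obtain ⟨μ, hμ⟩ := exists_functional_of_formallyEtale (A := A) (B := B) (P := C') l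
  have hunit : IsUnit (μ (D A C' (algebraMap B C' h))) := by
    rw [hμ]
    have h1 : IsUnit (algebraMap B C' (r * g)) := IsLocalization.Away.algebraMap_isUnit (r * g)
    rw [map_mul] at h1
    exact isUnit_of_mul_isUnit_left h1
  have hfs : Algebra.FormallySmooth A (C' ⧸ Ideal.span {algebraMap B C' h}) :=
    formallySmooth_quotient_of_functional (algebraMap B C' h) μ hunit
  have hfp : Algebra.FinitePresentation A (C' ⧸ Ideal.span {algebraMap B C' h}) :=
    Algebra.FinitePresentation.quotient (Submodule.fg_span (Set.finite_singleton _))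
  have hS : Algebra.Smooth A (C' ⧸ Ideal.span {algebraMap B C' h}) := ⟨hfs, hfp⟩
  exact RingHom.smooth_algebraMap.mpr hS

/-- **Smooth hypersurface slice**, ring level, spread out: if `dh ∉ q Ω` then `B_{rg}/(h)` is
smooth over `A` for a suitable `r ∉ q` and all `g`. -/
theorem exists_away_smooth_slice [Algebra.Smooth A B] (q : Ideal B) [q.IsPrime] (h : B)
    (hD : D A B h ∉ (q • ⊤ : Submodule B Ω[B⁄A])) :
    ∃ r ∉ q, ∀ (g : B) (C' : Type u) [CommRing C'] [Algebra B C']
      [IsLocalization.Away (r * g) C'],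
      ((Ideal.Quotient.mk (Ideal.span {algebraMap B C' h})).comp
        ((algebraMap B C').comp (algebraMap A B))).Smooth := by
  obtain ⟨l, hl⟩ := exists_functional_notMem q (D A B h) hD
  exact ⟨l (D A B h), hl, fun g C' _ _ _ => smooth_slice_of_functional h l g C'⟩

end away

section nzd

open Groth.Agent.R2.H6.NzdSlice Groth.Agent.R2.H42.FibReg

variable {A B : Type u} [CommRing A] [CommRing B] [Algebra A B]

/-- differentials of elements of `pB` lie in `pΩ` -/
theorem D_mem_smul_of_mem_map (p : Ideal A) (x : B) (hx : x ∈ p.map (algebraMap A B)) :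
    D A B x ∈ (p.map (algebraMap A B) • ⊤ : Submodule B Ω[B⁄A]) := by
  rw [Ideal.map] at hx
  induction hx using Submodule.span_induction with
  | mem y hy =>
    obtain ⟨a, ha, rfl⟩ := hy
    simp
  | zero => simp
  | add y z _ _ hy hz => rw [map_add]; exact add_mem hy hz
  | smul b y hy ih =>
    rw [smul_eq_mul, Derivation.leibniz]
    refine add_mem (Submodule.smul_mem _ _ ih) ?_
    exact Submodule.smul_mem_smul (Ideal.span_le.mpr (fun _ h => Ideal.subset_span h) hy)
      Submodule.mem_top

/-- The fibrewise nonzerodivisor condition for `h` with `dh ∉ qΩ` on a smooth algebra. -/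
theorem fibre_condition_of_functional [Algebra.Smooth A B] (q : Ideal B) [q.IsPrime] (h : B)
    (hq : h ∈ q) (l : Ω[B⁄A] →ₗ[B] B) (hl : l (D A B h) ∉ q) (c : B)
    (hc : ∃ t ∉ q, t * (h * c) ∈ (q.under A).map (algebraMap A B)) :
    ∃ t ∉ q, t * c ∈ (q.under A).map (algebraMap A B) := by
  classical
  set p := q.under A with hp
  set κ := p.ResidueField
  obtain ⟨Q, hQprime, hQ⟩ : ∃ Q : Ideal (p.Fiber B), ∃ _ : Q.IsPrime,
      Q.comap (Algebra.TensorProduct.includeRight : B →ₐ[A] p.Fiber B) = q := by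
    let q' := PrimeSpectrum.primesOverOrderIsoFiber A B p ⟨q, ⟨inferInstance, ⟨rfl⟩⟩⟩
    refine ⟨q'.asIdeal, q'.isPrime, ?_⟩
    have h := PrimeSpectrum.coe_primesOverOrderIsoFiber_symm_apply p q'
    rw [← h]
    simp [q']
  have hple : p.map (algebraMap A B) ≤ q := Ideal.map_le_iff_le_comap.mpr le_rfl
  -- the key zero-test
  have hzero : ∀ b : B, algebraMap (p.Fiber B) (Localization.AtPrime Q) ((1 : κ) ⊗ₜ[A] b) = 0 →
      ∃ t ∉ q, t * b ∈ p.map (algebraMap A B) := by
    intro b hb
    rw [IsLocalization.map_eq_zero_iff Q.primeCompl] at hb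
    obtain ⟨⟨s, hs⟩, hsb⟩ := hb
    obtain ⟨a, ha, g, hag⟩ := Ideal.Fiber.exists_smul_eq_one_tmul p s
    have hunit : IsUnit (algebraMap A (p.Fiber B) a) := by
      rw [IsScalarTower.algebraMap_apply A κ (p.Fiber B)]
      apply IsUnit.map
      rw [isUnit_iff_ne_zero, Ne, Ideal.algebraMap_residueField_eq_zero]
      exact ha
    have hg : g ∉ q := by
      intro hgq
      have h2 : (1 : κ) ⊗ₜ[A] g ∈ Q := (one_tmul_mem_iff q Q hQ g).mpr hgq
      rw [← hag, Algebra.smul_def, Ideal.unit_mul_mem_iff_mem _ hunit] at h2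
      exact hs h2
    have h1 : (1 : κ) ⊗ₜ[A] (g * b) = 0 := by
      have : (1 : κ) ⊗ₜ[A] (g * b) = ((1 : κ) ⊗ₜ[A] g) * ((1 : κ) ⊗ₜ[A] b) := by
        rw [Algebra.TensorProduct.tmul_mul_tmul, mul_one]
      rw [this, ← hag, smul_mul_assoc]
      simp only at hsb
      rw [hsb, smul_zero]
    obtain ⟨a', ha', hmem⟩ := exists_mul_mem_of_one_tmul_eq_zero p (g * b) h1
    refine ⟨algebraMap A B a' * g, ?_, by rwa [mul_assoc]⟩
    exact q.primeCompl.mul_mem (fun hmem' => ha' hmem') hg
  -- the local ring of the fibre is a domain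
  have hsm : Algebra.Smooth κ (p.Fiber B) := inferInstance
  have hregloc : IsRegularLocalRing (Localization.AtPrime Q) :=
    Groth.Agent.Lib.Helper6.SmReg.isRegularLocalRing_of_isSmoothAt (R := κ) Q
  have hdom' := Groth.Agent.Lib.Helper5.isDomain_of_isRegularLocalRing (Localization.AtPrime Q)
  have hnzd : ∀ a b : Localization.AtPrime Q, a * b = 0 → a = 0 ∨ b = 0 := fun a b hab =>
    (@IsDomain.to_noZeroDivisors _ _ hdom').eq_zero_or_eq_zero_of_mul_eq_zero hab
  obtain ⟨t, ht, htc⟩ := hc
  have h0 : (1 : κ) ⊗ₜ[A] (t * (h * c)) = 0 := one_tmul_eq_zero_of_mem p _ htc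
  have h1 : ((1 : κ) ⊗ₜ[A] t) * (((1 : κ) ⊗ₜ[A] h) * ((1 : κ) ⊗ₜ[A] c)) = 0 := by
    rw [Algebra.TensorProduct.tmul_mul_tmul, Algebra.TensorProduct.tmul_mul_tmul, mul_one,
      mul_one]
    exact h0
  have h2 := congrArg (algebraMap (p.Fiber B) (Localization.AtPrime Q)) h1
  rw [map_mul, map_mul, map_zero] at h2
  have htQ : (1 : κ) ⊗ₜ[A] t ∉ Q := fun hmem => ht ((one_tmul_mem_iff q Q hQ t).mp hmem)
  have htu : IsUnit (algebraMap (p.Fiber B) (Localization.AtPrime Q) ((1 : κ) ⊗ₜ[A] t)) :=
    IsLocalization.map_units (M := Q.primeCompl) _ ⟨_, htQ⟩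
  have h3 := (htu.mul_right_eq_zero).mp h2
  rcases hnzd _ _ h3 with h4 | h4
  · -- impossible: h ≠ 0 in the fibre local ring
    exfalso
    obtain ⟨t', ht', hmem⟩ := hzero h h4
    have hDm := D_mem_smul_of_mem_map p (t' * h) hmem
    have hlm : l (D A B (t' * h)) ∈ q := by
      have : (p.map (algebraMap A B) • ⊤ : Submodule B Ω[B⁄A]) ≤
          Submodule.comap l (q : Submodule B B) := by
        rw [Submodule.smul_le]
        intro r hr n _
        rw [Submodule.mem_comap, map_smul, smul_eq_mul]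
        exact Ideal.mul_mem_right _ _ (hple hr)
      exact this hDm
    rw [Derivation.leibniz, map_add, map_smul, map_smul, smul_eq_mul, smul_eq_mul] at hlm
    have h5 : t' * l (D A B h) ∈ q := by
      have := (Ideal.add_mem_iff_left q (Ideal.mul_mem_right _ _ hq)).mp (by rwa [add_comm] at hlm)
      exact this
    rcases (Ideal.IsPrime.mem_or_mem inferInstance h5) with h6 | h6
    · exact ht' h6
    · exact hl h6
  · exact hzero c h4

/-- **Smooth effective Cartier slice**, ring level, spread out. -/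
theorem exists_away_smooth_nzd_slice [Algebra.Smooth A B] (q : Ideal B) [q.IsPrime] (h : B)
    (hq : h ∈ q) (hD : D A B h ∉ (q • ⊤ : Submodule B Ω[B⁄A])) :
    ∃ r ∉ q, ∀ (g : B) (C' : Type u) [CommRing C'] [Algebra B C']
      [IsLocalization.Away (r * g) C'],
      algebraMap B C' h ∈ nonZeroDivisors C' ∧
      ((Ideal.Quotient.mk (Ideal.span {algebraMap B C' h})).comp
        ((algebraMap B C').comp (algebraMap A B))).Smooth := by
  obtain ⟨l, hl⟩ := exists_functional_notMem q (D A B h) hD
  have : Algebra.FinitePresentation A B := inferInstance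
  have : Module.Flat A B := inferInstance
  obtain ⟨g0, hg0, H⟩ := exists_away_flat_slice_mul q h hq
    (fun c hc => fibre_condition_of_functional q h hq l hl c hc)
  refine ⟨l (D A B h) * g0, q.primeCompl.mul_mem hl hg0, ?_⟩
  intro g C' _ _ hloc
  constructor
  · have e : l (D A B h) * g0 * g = g0 * (l (D A B h) * g) := by ring
    rw [e] at hloc
    exact (H (l (D A B h) * g) C').1
  · rw [mul_assoc] at hloc
    exact smooth_slice_of_functional h l (g0 * g) C'

end nzd

end Groth.Agent.R2.H6.SmoothSlice
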