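import Mathlib
import Groth.Agent.R2.H6SmoothSlice

set_option autoImplicit false
universe u

open AlgebraicGeometry CategoryTheory Limits TensorProduct KaehlerDifferential

namespace Groth.Agent.R2.H6.EtaleSlice

section span

variable {A B B₁ : Type u} [CommRing A] [CommRing B] [CommRing B₁] [Algebra A B] [Algebra A B₁]
  [Algebra B B₁] [IsScalarTower A B B₁]

/-- generators of `Ω[B/A]` map to generators of `Ω[B₁/A]` when `B → B₁` is formally unramified -/
theorem span_map_eq_top [Algebra.FormallyUnramified B B₁] (G : Set Ω[B⁄A])
    (hG : Submodule.span B G = ⊤) :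
    Submodule.span B₁ (KaehlerDifferential.map A A B B₁ '' G) = ⊤ := by
  rw [eq_top_iff]
  have hr : LinearMap.range (mapBaseChange A B B₁) = ⊤ := by
    rw [range_mapBaseChange, eq_top_iff]
    intro x _
    exact Subsingleton.elim _ _
  rw [← hr]
  rintro _ ⟨z, rfl⟩
  induction z with
  | zero => simp
  | add x y hx hy => rw [map_add]; exact add_mem hx hy
  | tmul b ω =>
    rw [mapBaseChange_tmul]
    refine Submodule.smul_mem _ _ ?_
    have hω : ω ∈ Submodule.span B G := hG ▸ Submodule.mem_top
    refine Submodule.span_induction (p := fun ω _ => KaehlerDifferential.map A A B B₁ ω ∈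
      Submodule.span B₁ (KaehlerDifferential.map A A B B₁ '' G)) ?_ ?_ ?_ ?_ hω
    · intro x hx
      exact Submodule.subset_span ⟨x, hx, rfl⟩
    · simp
    · intro x y _ _ hx hy
      rw [map_add]
      exact add_mem hx hy
    · intro a x _ hx
      rw [map_smul, ← algebraMap_smul B₁ a]
      exact Submodule.smul_mem _ _ hx

theorem span_D_image_eq_top [Algebra.FormallyUnramified B B₁] (T : Set B)
    (hT : Submodule.span B (D A B '' T) = ⊤) :
    Submodule.span B₁ (D A B₁ '' (algebraMap B B₁ '' T)) = ⊤ := by
  have := span_map_eq_top (A := A) (B₁ := B₁) _ hT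
  rw [← this]
  congr 1
  ext ω
  constructor
  · rintro ⟨_, ⟨t, ht, rfl⟩, rfl⟩
    exact ⟨_, ⟨t, ht, rfl⟩, by rw [map_D]⟩
  · rintro ⟨_, ⟨t, ht, rfl⟩, rfl⟩
    exact ⟨_, ⟨t, ht, rfl⟩, by rw [map_D]⟩

end span

section induction

variable {A B : Type u} [CommRing A] [CommRing B] [Algebra A B]

/-- localization at an element outside `q`: packaging -/
theorem exists_of_away (q : Ideal B) [q.IsPrime] (r : B) (hr : r ∉ q)
    (het : Algebra.Etale A (Localization.Away r)) :
    ∃ (B' : Type u) (_ : CommRing B') (φ : B →+* B'),
      (φ.comp (algebraMap A B)).Etale ∧ IsImmersion (Spec.map (CommRingCat.ofHom φ)) ∧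
      ∃ q' : Ideal B', q'.IsPrime ∧ q'.comap φ = q := by
  have hdisj : Disjoint (Submonoid.powers r : Set B) q := by
    rw [Set.disjoint_left]
    rintro _ ⟨n, rfl⟩ hn
    exact hr (Ideal.IsPrime.mem_of_pow_mem inferInstance n hn)
  refine ⟨Localization.Away r, inferInstance, algebraMap B (Localization.Away r), ?_, ?_,
    q.map (algebraMap B (Localization.Away r)), ?_, ?_⟩
  · rw [← IsScalarTower.algebraMap_eq, RingHom.etale_algebraMap]
    exact het
  · infer_instance
  · exact IsLocalization.isPrime_of_isPrime_disjoint (.powers r) _ q inferInstance hdisj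
  · exact IsLocalization.under_map_of_isPrime_disjoint (.powers r) _ inferInstance hdisj

/-- if all the generating differentials vanish at `q`, then `B` is étale near `q` -/
theorem exists_away_etale_of_forall_mem_smul [Algebra.Smooth A B] (q : Ideal B) [q.IsPrime]
    (T : Set B) (hall : ∀ t ∈ T, D A B t ∈ (q • ⊤ : Submodule B Ω[B⁄A]))
    (hspan : Submodule.span B (D A B '' T) = ⊤) :
    ∃ r ∉ q, Algebra.Etale A (Localization.Away r) := by
  have hle : (⊤ : Submodule B Ω[B⁄A]) ≤ q • ⊤ := by
    refine hspan.symm.le.trans (Submodule.span_le.mpr ?_)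
    rintro _ ⟨t, ht, rfl⟩
    exact hall t ht
  have hfg : (⊤ : Submodule B Ω[B⁄A]).FG := Module.finite_def.mp inferInstance
  obtain ⟨r, hr1, hr0⟩ :=
    Submodule.exists_sub_one_mem_and_smul_eq_zero_of_fg_of_le_smul q ⊤ hfg hle
  have hrq : r ∉ q := by
    intro hr
    have : (1 : B) ∈ q := by
      have := q.sub_mem hr hr1
      simpa using this
    exact (Ideal.IsPrime.ne_top inferInstance) ((Ideal.eq_top_iff_one q).mpr this)
  have hmem : (⟨q, inferInstance⟩ : PrimeSpectrum B) ∈ Algebra.unramifiedLocus A B := by
    rw [Algebra.unramifiedLocus_eq_compl_support, Set.mem_compl_iff, Module.notMem_support_iff']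
    intro m
    exact ⟨r, hrq, hr0 m trivial⟩
  have : Algebra.IsUnramifiedAt A q := hmem
  obtain ⟨g, hg, hunr⟩ := Algebra.exists_formallyUnramified_of_isUnramifiedAt (R := A) q
  refine ⟨g, hg, ?_⟩
  have : Algebra.Smooth B (Localization.Away g) := Algebra.Smooth.of_isLocalization_Away g
  have : Algebra.Smooth A (Localization.Away g) := Algebra.Smooth.comp A B _
  exact Algebra.Etale.iff_formallyUnramified_and_smooth.mpr ⟨hunr, this⟩

open Classical in
/-- **Multi-slice**: if `Ω[B/A]` is generated by `D t`, `t ∈ T ⊆ q`, then a locally closed
subscheme of `Spec B` through `q` is étale over `A`. -/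
theorem exists_etale_of_span (n : ℕ) : ∀ {A B : Type u} [CommRing A] [CommRing B] [Algebra A B]
    [Algebra.Smooth A B] (q : Ideal B) [q.IsPrime] (T : Finset B) (_ : ∀ t ∈ T, t ∈ q)
    (_ : T.card ≤ n) (_ : Submodule.span B (D A B '' (T : Set B)) = ⊤),
    ∃ (B' : Type u) (_ : CommRing B') (φ : B →+* B'),
      (φ.comp (algebraMap A B)).Etale ∧ IsImmersion (Spec.map (CommRingCat.ofHom φ)) ∧
      ∃ q' : Ideal B', q'.IsPrime ∧ q'.comap φ = q := by
  induction n with
  | zero =>
    intro A B _ _ _ _ q _ T hTq hcard hspan
    have hT : T = ∅ := Finset.card_eq_zero.mp (Nat.le_zero.mp hcard)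
    obtain ⟨r, hr, het⟩ := exists_away_etale_of_forall_mem_smul q (T : Set B)
      (by intro t ht; rw [hT] at ht; simp at ht) hspan
    exact exists_of_away q r hr het
  | succ n ih =>
    intro A B _ _ _ _ q _ T hTq hcard hspan
    by_cases hall : ∀ t ∈ (T : Set B), D A B t ∈ (q • ⊤ : Submodule B Ω[B⁄A])
    · obtain ⟨r, hr, het⟩ := exists_away_etale_of_forall_mem_smul q (T : Set B) hall hspan
      exact exists_of_away q r hr het
    · push Not at hall
      obtain ⟨t, htT, hDt⟩ := hall
      obtain ⟨r, hr, H⟩ := SmoothSlice.exists_away_smooth_slice q t hDt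
      have hloc : IsLocalization.Away (r * 1) (Localization.Away r) := by
        rw [mul_one]
        infer_instance
      have hsm := H 1 (Localization.Away r)
      have hA : algebraMap A (Localization.Away r ⧸
          Ideal.span {algebraMap B (Localization.Away r) t}) =
          ((Ideal.Quotient.mk (Ideal.span {algebraMap B (Localization.Away r) t})).comp
            (algebraMap B (Localization.Away r))).comp (algebraMap A B) := by
        ext a
        simp [IsScalarTower.algebraMap_apply A B (Localization.Away r),
          IsScalarTower.algebraMap_apply A (Localization.Away r)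
            (Localization.Away r ⧸ Ideal.span {algebraMap B (Localization.Away r) t})]
      have hsm' : Algebra.Smooth A (Localization.Away r ⧸
          Ideal.span {algebraMap B (Localization.Away r) t}) := by
        rw [← RingHom.smooth_algebraMap, hA]
        exact hsm
      have hdisj : Disjoint (Submonoid.powers r : Set B) q := by
        rw [Set.disjoint_left]
        rintro _ ⟨n, rfl⟩ hn
        exact hr (Ideal.IsPrime.mem_of_pow_mem inferInstance n hn)
      have hqC : (q.map (algebraMap B (Localization.Away r))).IsPrime :=
        IsLocalization.isPrime_of_isPrime_disjoint (.powers r) _ q inferInstance hdisj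
      have hqCcomap : (q.map (algebraMap B (Localization.Away r))).comap
          (algebraMap B (Localization.Away r)) = q :=
        IsLocalization.under_map_of_isPrime_disjoint (.powers r) _ inferInstance hdisj
      have hIq : Ideal.span {algebraMap B (Localization.Away r) t} ≤
          q.map (algebraMap B (Localization.Away r)) := by
        rw [Ideal.span_le, Set.singleton_subset_iff]
        exact Ideal.mem_map_of_mem _ (hTq t htT)
      have hq₁ : ((q.map (algebraMap B (Localization.Away r))).map (Ideal.Quotient.mk
          (Ideal.span {algebraMap B (Localization.Away r) t}))).IsPrime :=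
        Ideal.map_isPrime_of_surjective Ideal.Quotient.mk_surjective (by rwa [Ideal.mk_ker])
      have hq₁comap : ((q.map (algebraMap B (Localization.Away r))).map (Ideal.Quotient.mk
          (Ideal.span {algebraMap B (Localization.Away r) t}))).comap (Ideal.Quotient.mk
          (Ideal.span {algebraMap B (Localization.Away r) t})) =
          q.map (algebraMap B (Localization.Away r)) := by
        rw [Ideal.comap_map_of_surjective _ Ideal.Quotient.mk_surjective,
          ← RingHom.ker_eq_comap_bot, Ideal.mk_ker, sup_eq_left.mpr hIq]
      have hunr : Algebra.FormallyUnramified B (Localization.Away r ⧸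
          Ideal.span {algebraMap B (Localization.Away r) t}) := by
        have : Algebra.FormallyUnramified B (Localization.Away r) :=
          Algebra.FormallyUnramified.of_isLocalization (.powers r)
        have : Algebra.FormallyUnramified (Localization.Away r) (Localization.Away r ⧸
            Ideal.span {algebraMap B (Localization.Away r) t}) :=
          Algebra.FormallyUnramified.of_surjective (Algebra.ofId _ _) Ideal.Quotient.mk_surjective
        exact Algebra.FormallyUnramified.comp B (Localization.Away r) _
      have hspan₁ := span_D_image_eq_top (A := A) (B₁ := Localization.Away r ⧸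
          Ideal.span {algebraMap B (Localization.Away r) t}) (T : Set B) hspan
      have ht0 : algebraMap B (Localization.Away r ⧸
          Ideal.span {algebraMap B (Localization.Away r) t}) t = 0 := by
        change Ideal.Quotient.mk _ (algebraMap B (Localization.Away r) t) = 0
        rw [Ideal.Quotient.eq_zero_iff_mem]
        exact Ideal.subset_span rfl
      obtain ⟨B', _, φ₁, het, him, q', hq', hq'comap⟩ := ih (A := A)
        (B := Localization.Away r ⧸ Ideal.span {algebraMap B (Localization.Away r) t})
        ((q.map (algebraMap B (Localization.Away r))).map (Ideal.Quotient.mk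
          (Ideal.span {algebraMap B (Localization.Away r) t})))
        ((T.image (algebraMap B (Localization.Away r ⧸
          Ideal.span {algebraMap B (Localization.Away r) t}))).erase 0)
        (by
          intro x hx
          obtain ⟨-, hx⟩ := Finset.mem_erase.mp hx
          obtain ⟨y, hy, rfl⟩ := Finset.mem_image.mp hx
          change Ideal.Quotient.mk _ (algebraMap B (Localization.Away r) y) ∈ _
          exact Ideal.mem_map_of_mem _ (Ideal.mem_map_of_mem _ (hTq y hy)))
        (by
          have h0 : (0 : Localization.Away r ⧸
              Ideal.span {algebraMap B (Localization.Away r) t}) ∈ T.image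
                (algebraMap B (Localization.Away r ⧸
                  Ideal.span {algebraMap B (Localization.Away r) t})) :=
            Finset.mem_image.mpr ⟨t, htT, ht0⟩
          have h1 := Finset.card_erase_of_mem h0
          have h2 := Finset.card_image_le (s := T) (f := algebraMap B (Localization.Away r ⧸
              Ideal.span {algebraMap B (Localization.Away r) t}))
          omega)
        (by
          rw [eq_top_iff, ← hspan₁, Submodule.span_le]
          rintro _ ⟨x, hx, rfl⟩
          by_cases hx0 : x = 0
          · rw [hx0, map_zero]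
            exact zero_mem _
          · refine Submodule.subset_span ⟨x, ?_, rfl⟩
            rw [Finset.coe_erase, Finset.coe_image]
            exact ⟨hx, hx0⟩)
      refine ⟨B', inferInstance, φ₁.comp ((Ideal.Quotient.mk
        (Ideal.span {algebraMap B (Localization.Away r) t})).comp
          (algebraMap B (Localization.Away r))), ?_, ?_, q', hq', ?_⟩
      · rw [RingHom.comp_assoc, ← hA]
        exact het
      · rw [CommRingCat.ofHom_comp, CommRingCat.ofHom_comp, Spec.map_comp, Spec.map_comp]
        have h1 : IsClosedImmersion (Spec.map (CommRingCat.ofHom (Ideal.Quotient.mk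
            (Ideal.span {algebraMap B (Localization.Away r) t})))) :=
          IsClosedImmersion.spec_of_surjective _ Ideal.Quotient.mk_surjective
        have h2 : IsOpenImmersion (Spec.map (CommRingCat.ofHom
            (algebraMap B (Localization.Away r)))) := inferInstance
        infer_instance
      · rw [← Ideal.comap_comap, hq'comap, ← Ideal.comap_comap, hq₁comap, hqCcomap]

end induction

section start

variable {A B O : Type u} [CommRing A] [CommRing B] [CommRing O] [Algebra A B] [Algebra B O]
  [Algebra A O] [IsScalarTower A B O]

open IsLocalRing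

/-- stalk-level: differentials of elements of `q` generate `Ω[O/A]` -/
theorem span_D_image_prime_eq_top [Algebra.FiniteType A B] (q : Ideal B) [q.IsPrime]
    [IsLocalization.AtPrime O q] [IsLocalRing O]
    [Algebra.FormallyUnramified A (ResidueField O)] :
    Submodule.span O (D A O '' (algebraMap B O '' (q : Set B))) = ⊤ := by
  have : Algebra.EssFiniteType B O := Algebra.EssFiniteType.of_isLocalization O q.primeCompl
  have : Algebra.EssFiniteType A O := Algebra.EssFiniteType.comp A B O
  rw [← IsLocalRing.map_tensorProduct_mk_eq_top, eq_top_iff]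
  rintro z -
  induction z with
  | zero => exact zero_mem _
  | add x y hx hy => exact add_mem hx hy
  | tmul c ω =>
    obtain ⟨c, rfl⟩ := residue_surjective c
    have hc : (residue O c) ⊗ₜ[O] ω = c • ((1 : ResidueField O) ⊗ₜ[O] ω) := by
      rw [TensorProduct.smul_tmul', Algebra.smul_def, mul_one]
      rfl
    rw [hc]
    refine Submodule.smul_mem _ _ ?_
    have hsurj : Function.Surjective (algebraMap O (ResidueField O)) := residue_surjective
    have hrange := KaehlerDifferential.range_kerCotangentToTensor A O (ResidueField O) hsurj
    have hmem : (1 : ResidueField O) ⊗ₜ[O] ω ∈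
        LinearMap.range (kerCotangentToTensor A O (ResidueField O)) := by
      have : (1 : ResidueField O) ⊗ₜ[O] ω ∈
          (LinearMap.ker (mapBaseChange A O (ResidueField O))).restrictScalars O := by
        rw [Submodule.restrictScalars_mem, LinearMap.mem_ker]
        exact Subsingleton.elim _ _
      rwa [← hrange] at this
    obtain ⟨y, hy⟩ := hmem
    obtain ⟨⟨h, hh⟩, rfl⟩ := Ideal.toCotangent_surjective _ y
    rw [kerCotangentToTensor_toCotangent] at hy
    rw [← hy]
    obtain ⟨b, s, hbs⟩ := IsLocalization.exists_mk'_eq q.primeCompl h
    have hspec : h * algebraMap B O s = algebraMap B O b := by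
      rw [← hbs]
      exact IsLocalization.mk'_spec O b s
    obtain ⟨u, hu⟩ := IsLocalization.map_units O s
    have hres : algebraMap O (ResidueField O) h = 0 := hh
    have hhm : h ∈ maximalIdeal O := (residue_eq_zero_iff h).mp hres
    have hbq : b ∈ q := by
      rw [← IsLocalization.AtPrime.to_map_mem_maximal_iff O q b, ← hspec]
      exact Ideal.mul_mem_right _ _ hhm
    have key : (u : O) • ((1 : ResidueField O) ⊗ₜ[O] D A O h) =
        (1 : ResidueField O) ⊗ₜ[O] D A O (algebraMap B O b) := by
      rw [← hspec, ← hu, Derivation.leibniz, TensorProduct.tmul_add, TensorProduct.tmul_smul,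
        TensorProduct.tmul_smul, TensorProduct.smul_tmul' (h), Algebra.smul_def h, hres, zero_mul,
        TensorProduct.zero_tmul, zero_add]
    have : (1 : ResidueField O) ⊗ₜ[O] D A O h =
        ((u⁻¹ : Oˣ) : O) • ((1 : ResidueField O) ⊗ₜ[O] D A O (algebraMap B O b)) := by
      rw [← key, smul_smul, Units.inv_mul, one_smul]
    rw [this]
    refine Submodule.smul_mem _ _ ?_
    exact ⟨_, Submodule.subset_span ⟨_, ⟨b, hbq, rfl⟩, rfl⟩, rfl⟩

open Classical in
/-- chart-level: after localizing away from `q`, finitely many differentials of elements of `q`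
generate `Ω` -/
theorem exists_finset_away_span [Algebra.FiniteType A B] (q : Ideal B) [q.IsPrime]
    [IsLocalization.AtPrime O q] [IsLocalRing O]
    [Algebra.FormallyUnramified A (ResidueField O)] :
    ∃ (T : Finset B) (g : B), (∀ t ∈ T, t ∈ q) ∧ g ∉ q ∧
      Submodule.span (Localization.Away g) (D A (Localization.Away g) ''
        (algebraMap B (Localization.Away g) '' (T : Set B))) = ⊤ := by
  have : Algebra.EssFiniteType B O := Algebra.EssFiniteType.of_isLocalization O q.primeCompl
  have : Algebra.EssFiniteType A O := Algebra.EssFiniteType.comp A B O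
  have hN := span_D_image_prime_eq_top (A := A) (O := O) q
  rw [Set.image_image] at hN
  have hfg : (Submodule.span O ((fun b => D A O (algebraMap B O b)) '' (q : Set B))).FG := by
    rw [hN]
    exact Module.finite_def.mp inferInstance
  obtain ⟨s', hs'sub, hs'span⟩ := (Submodule.fg_span_iff_fg_span_finset_subset _).mp hfg
  obtain ⟨T, hTq, hTs'⟩ := Finset.subset_set_image_iff.mp hs'sub
  have hTspan : Submodule.span O ((fun b => D A O (algebraMap B O b)) '' (T : Set B)) = ⊤ := by
    rw [← hN, hs'span, ← hTs', Finset.coe_image]
  -- localized module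
  have hloc : IsLocalizedModule q.primeCompl (KaehlerDifferential.map A A B O) :=
    KaehlerDifferential.isLocalizedModule_map A B O q.primeCompl
  have hloc' : (Submodule.span B (D A B '' (T : Set B))).localized' O q.primeCompl
      (KaehlerDifferential.map A A B O) = ⊤ := by
    rw [Submodule.localized'_span, Set.image_image, ← hTspan]
    congr 2
    ext b
    rw [map_D]
  have hlocal : ∀ ω : Ω[B⁄A], ∃ s ∉ q, s • ω ∈ Submodule.span B (D A B '' (T : Set B)) := by
    intro ω
    have hω : KaehlerDifferential.map A A B O ω ∈
        (Submodule.span B (D A B '' (T : Set B))).localized' O q.primeCompl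
          (KaehlerDifferential.map A A B O) := by
      rw [hloc']
      trivial
    obtain ⟨m, hm, s, hms⟩ := hω
    rw [IsLocalizedModule.mk'_eq_iff, Submonoid.smul_def, ← map_smul] at hms
    obtain ⟨c, hc⟩ := (IsLocalizedModule.eq_iff_exists q.primeCompl
      (KaehlerDifferential.map A A B O)).mp hms
    refine ⟨(c : B) * (s : B), (c * s).2, ?_⟩
    have : ((c : B) * (s : B)) • ω = (c : B) • m := by
      rw [mul_smul]
      exact hc.symm
    rw [this]
    exact Submodule.smul_mem _ _ hm
  -- the quotient module is killed by some g ∉ q
  have hsupp : (⟨q, inferInstance⟩ : PrimeSpectrum B) ∉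
      Module.support B (Ω[B⁄A] ⧸ Submodule.span B (D A B '' (T : Set B))) := by
    rw [Module.notMem_support_iff']
    intro m
    obtain ⟨ω, rfl⟩ := Submodule.Quotient.mk_surjective _ m
    obtain ⟨s, hs, hsω⟩ := hlocal ω
    refine ⟨s, hs, ?_⟩
    rw [← Submodule.Quotient.mk_smul, Submodule.Quotient.mk_eq_zero]
    exact hsω
  rw [Module.support_eq_zeroLocus, PrimeSpectrum.mem_zeroLocus, SetLike.coe_subset_coe,
    SetLike.not_le_iff_exists] at hsupp
  obtain ⟨g, hgann, hgq⟩ := hsupp
  have hg : ∀ ω : Ω[B⁄A], g • ω ∈ Submodule.span B (D A B '' (T : Set B)) := by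
    intro ω
    have := Module.mem_annihilator.mp hgann (Submodule.Quotient.mk ω)
    rwa [← Submodule.Quotient.mk_smul, Submodule.Quotient.mk_eq_zero] at this
  refine ⟨T, g, fun t ht => hTq ht, hgq, ?_⟩
  -- generation in the localization
  have hle : Submodule.span B (D A B '' (T : Set B)) ≤
      ((Submodule.span (Localization.Away g) (D A (Localization.Away g) ''
        (algebraMap B (Localization.Away g) '' (T : Set B)))).restrictScalars B).comap
          (KaehlerDifferential.map A A B (Localization.Away g)) := by
    rw [Submodule.span_le]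
    rintro _ ⟨t, ht, rfl⟩
    rw [SetLike.mem_coe, Submodule.mem_comap, Submodule.restrictScalars_mem, map_D]
    exact Submodule.subset_span ⟨_, ⟨t, ht, rfl⟩, rfl⟩
  have htop := span_map_eq_top (A := A) (B := B) (B₁ := Localization.Away g) Set.univ Submodule.span_univ
  rw [eq_top_iff, ← htop, Submodule.span_le]
  rintro _ ⟨ω, -, rfl⟩
  have h1 := hle (hg ω)
  rw [Submodule.mem_comap, Submodule.restrictScalars_mem, map_smul,
    ← algebraMap_smul (Localization.Away g) g] at h1
  obtain ⟨u, hu⟩ := IsLocalization.Away.algebraMap_isUnit (S := Localization.Away g) g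
  have : KaehlerDifferential.map A A B (Localization.Away g) ω =
      ((u⁻¹ : (Localization.Away g)ˣ) : Localization.Away g) •
        (algebraMap B (Localization.Away g) g •
          KaehlerDifferential.map A A B (Localization.Away g) ω) := by
    rw [← hu, smul_smul, Units.inv_mul, one_smul]
  rw [SetLike.mem_coe, this]
  exact Submodule.smul_mem _ _ h1

end start

section final

variable {A B O : Type u} [CommRing A] [CommRing B] [CommRing O] [Algebra A B] [Algebra B O]
  [Algebra A O] [IsScalarTower A B O]

open IsLocalRing

open Classical in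
/-- **Étale slice, ring level**: `B` smooth over `A`, `q` a prime of `B` with local ring `O` whose
residue field is formally unramified over `A`.  Then some locally closed subscheme of `Spec B`
through `q` is étale over `A`. -/
theorem exists_etale_immersion [Algebra.Smooth A B] (q : Ideal B) [q.IsPrime]
    [IsLocalization.AtPrime O q] [IsLocalRing O]
    [Algebra.FormallyUnramified A (ResidueField O)] :
    ∃ (B' : Type u) (_ : CommRing B') (φ : B →+* B'),
      (φ.comp (algebraMap A B)).Etale ∧ IsImmersion (Spec.map (CommRingCat.ofHom φ)) ∧
      ∃ q' : Ideal B', q'.IsPrime ∧ q'.comap φ = q := by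
  obtain ⟨T, g, hTq, hg, hspan⟩ := exists_finset_away_span (A := A) (O := O) q
  have hdisj : Disjoint (Submonoid.powers g : Set B) q := by
    rw [Set.disjoint_left]
    rintro _ ⟨n, rfl⟩ hn
    exact hg (Ideal.IsPrime.mem_of_pow_mem inferInstance n hn)
  have hqC : (q.map (algebraMap B (Localization.Away g))).IsPrime :=
    IsLocalization.isPrime_of_isPrime_disjoint (.powers g) _ q inferInstance hdisj
  have hqCcomap : (q.map (algebraMap B (Localization.Away g))).comap
      (algebraMap B (Localization.Away g)) = q :=
    IsLocalization.under_map_of_isPrime_disjoint (.powers g) _ inferInstance hdisj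
  have : Algebra.Smooth B (Localization.Away g) := Algebra.Smooth.of_isLocalization_Away g
  have : Algebra.Smooth A (Localization.Away g) := Algebra.Smooth.comp A B _
  obtain ⟨B', _, φ₁, het, him, q', hq', hq'comap⟩ :=
    exists_etale_of_span (T.image (algebraMap B (Localization.Away g))).card (A := A)
      (B := Localization.Away g) (q.map (algebraMap B (Localization.Away g)))
      (T.image (algebraMap B (Localization.Away g)))
      (by
        intro x hx
        obtain ⟨y, hy, rfl⟩ := Finset.mem_image.mp hx
        exact Ideal.mem_map_of_mem _ (hTq y hy))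
      le_rfl
      (by rw [Finset.coe_image]; exact hspan)
  refine ⟨B', inferInstance, φ₁.comp (algebraMap B (Localization.Away g)), ?_, ?_, q', hq', ?_⟩
  · rw [RingHom.comp_assoc, ← IsScalarTower.algebraMap_eq]
    exact het
  · rw [CommRingCat.ofHom_comp, Spec.map_comp]
    infer_instance
  · rw [← Ideal.comap_comap, hq'comap, hqCcomap]

end final

end Groth.Agent.R2.H6.EtaleSlice
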