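import Mathlib
import Groth.Agent.R2.H6EtaleSlice
import Groth.Agent.R2.H45Dim

set_option autoImplicit false
universe u

open AlgebraicGeometry CategoryTheory Limits TensorProduct

namespace Groth.Agent.R2.H6.EtaleSliceSch

variable {X S : Scheme.{u}}

theorem main (f : X ⟶ S) [Smooth f] (x : X)
    (hsep : @Algebra.IsSeparable (S.residueField (f x)) (X.residueField x) _ _
      (f.residueFieldMap x).hom.toAlgebra) :
    ∃ (Z : Scheme.{u}) (i : Z ⟶ X) (z : Z), IsImmersion i ∧ Etale (i ≫ f) ∧ i z = x ∧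
      ∀ z' : ↑Z, f (i z') = f x → z' = z := by
  obtain ⟨V, hV, hfxV, -⟩ :=
    exists_isAffineOpen_mem_and_subset (x := f x)
      (U := (⊤ : S.Opens)) trivial
  obtain ⟨U, hU, hxU, hsub⟩ :=
    exists_isAffineOpen_mem_and_subset (x := x)
      (U := f ⁻¹ᵁ V) hfxV
  have e : U ≤ f ⁻¹ᵁ V := hsub
  let ρ := (f.appLE V U e).hom
  let _ : Algebra Γ(S, V) Γ(X, U) := ρ.toAlgebra
  have hsm : Algebra.Smooth Γ(S, V) Γ(X, U) := f.smooth_appLE hV hU e
  let gX := (X.presheaf.germ U x hxU).hom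
  let gS := (S.presheaf.germ V (f x) (e hxU)).hom
  let _ : Algebra (S.presheaf.stalk (f x)) (X.presheaf.stalk x) := (f.stalkMap x).hom.toAlgebra
  let _ : Algebra Γ(S, V) (S.presheaf.stalk (f x)) := gS.toAlgebra
  let _ : Algebra Γ(X, U) (X.presheaf.stalk x) := gX.toAlgebra
  let _ : Algebra Γ(S, V) (X.presheaf.stalk x) := (gX.comp ρ).toAlgebra
  have : IsScalarTower Γ(S, V) Γ(X, U) (X.presheaf.stalk x) :=
    .of_algebraMap_eq (fun _ => rfl)
  have hnat : gX.comp ρ = (f.stalkMap x).hom.comp gS := by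
    have : f.appLE V U e ≫ X.presheaf.germ U x hxU =
        S.presheaf.germ V (f x) (e hxU) ≫ f.stalkMap x := by
      rw [Scheme.Hom.appLE, Category.assoc, X.presheaf.germ_res', Scheme.Hom.germ_stalkMap]
    exact congrArg CommRingCat.Hom.hom this
  have : IsScalarTower Γ(S, V) (S.presheaf.stalk (f x)) (X.presheaf.stalk x) :=
    .of_algebraMap_eq (fun a => RingHom.congr_fun hnat a)
  have hlocX : IsLocalization.AtPrime (X.presheaf.stalk x) (hU.primeIdealOf ⟨x, hxU⟩).asIdeal :=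
    hU.isLocalization_stalk ⟨x, hxU⟩
  have hlocS : IsLocalization.AtPrime (S.presheaf.stalk (f x))
      (hV.primeIdealOf ⟨f x, e hxU⟩).asIdeal :=
    hV.isLocalization_stalk ⟨f x, e hxU⟩
  have : IsLocalHom (algebraMap (S.presheaf.stalk (f x)) (X.presheaf.stalk x)) :=
    inferInstanceAs (IsLocalHom (f.stalkMap x).hom)
  have hsep' : Algebra.IsSeparable (IsLocalRing.ResidueField (S.presheaf.stalk (f x)))
      (IsLocalRing.ResidueField (X.presheaf.stalk x)) := by
    have halg : (IsLocalRing.ResidueField.instAlgebra :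
        Algebra (IsLocalRing.ResidueField (S.presheaf.stalk (f x)))
          (IsLocalRing.ResidueField (X.presheaf.stalk x))) =
        (f.residueFieldMap x).hom.toAlgebra := by
      refine Algebra.algebra_ext _ _ fun r => ?_
      obtain ⟨r, rfl⟩ := IsLocalRing.residue_surjective r
      rfl
    rw [halg]
    exact hsep
  have hunr1 : Algebra.FormallyUnramified (IsLocalRing.ResidueField (S.presheaf.stalk (f x)))
      (IsLocalRing.ResidueField (X.presheaf.stalk x)) := .of_isSeparable _ _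
  have hunr2 : Algebra.FormallyUnramified (S.presheaf.stalk (f x))
      (IsLocalRing.ResidueField (S.presheaf.stalk (f x))) :=
    .of_surjective (Algebra.ofId _ _) IsLocalRing.residue_surjective
  have hunr3 : Algebra.FormallyUnramified Γ(S, V) (S.presheaf.stalk (f x)) :=
    Algebra.FormallyUnramified.of_isLocalization (hV.primeIdealOf ⟨f x, e hxU⟩).asIdeal.primeCompl
  have hunr4 : Algebra.FormallyUnramified Γ(S, V)
      (IsLocalRing.ResidueField (S.presheaf.stalk (f x))) :=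
    Algebra.FormallyUnramified.comp Γ(S, V) (S.presheaf.stalk (f x)) _
  have : IsScalarTower Γ(S, V) (IsLocalRing.ResidueField (S.presheaf.stalk (f x)))
      (IsLocalRing.ResidueField (X.presheaf.stalk x)) := inferInstance
  have hunr : Algebra.FormallyUnramified Γ(S, V)
      (IsLocalRing.ResidueField (X.presheaf.stalk x)) :=
    Algebra.FormallyUnramified.comp Γ(S, V)
      (IsLocalRing.ResidueField (S.presheaf.stalk (f x))) _
  obtain ⟨B', _, φ, het, him, q', hq', hcomap⟩ :=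
    Groth.Agent.R2.H6.EtaleSlice.exists_etale_immersion (A := Γ(S, V)) (B := Γ(X, U))
      (O := X.presheaf.stalk x) (hU.primeIdealOf ⟨x, hxU⟩).asIdeal
  let i₀ : Spec (CommRingCat.of B') ⟶ X := Spec.map (CommRingCat.ofHom φ) ≫ hU.fromSpec
  let z₀ : Spec (CommRingCat.of B') := (⟨q', hq'⟩ : PrimeSpectrum B')
  have hi₀z₀ : i₀ z₀ = x := by
    have h1 : (Spec.map (CommRingCat.ofHom φ)) z₀ = hU.primeIdealOf ⟨x, hxU⟩ := by
      apply PrimeSpectrum.ext
      exact hcomap
    rw [Scheme.Hom.comp_apply, h1]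
    exact hU.fromSpec_primeIdealOf ⟨x, hxU⟩
  have hcomp : i₀ ≫ f = Spec.map (f.appLE V U e ≫ CommRingCat.ofHom φ) ≫ hV.fromSpec := by
    rw [Category.assoc, ← IsAffineOpen.SpecMap_appLE_fromSpec f hV hU e, ← Category.assoc,
      ← Spec.map_comp]
  have het' : Etale (i₀ ≫ f) := by
    rw [hcomp]
    have : Etale (Spec.map (f.appLE V U e ≫ CommRingCat.ofHom φ)) := by
      rw [HasRingHomProperty.Spec_iff (P := @Etale)]
      exact het
    infer_instance
  have hlqf : LocallyQuasiFinite (i₀ ≫ f) :=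
    Groth.Agent.R2.H45.Dim.locallyQuasiFinite_of_etale _
  have hdisc := (i₀ ≫ f).isDiscrete_preimage_singleton (f x)
  rw [isDiscrete_iff_forall_mem_exists_isOpen] at hdisc
  have hz₀mem : z₀ ∈ (i₀ ≫ f) ⁻¹' {f x} := by
    change (i₀ ≫ f) z₀ = f x
    rw [Scheme.Hom.comp_apply, hi₀z₀]
  obtain ⟨u, hu, hu1⟩ := hdisc z₀ hz₀mem
  let Z' : (Spec (CommRingCat.of B')).Opens := ⟨u, hu⟩
  have hz₀u : z₀ ∈ Z' := by
    have : z₀ ∈ u ∩ (i₀ ≫ f) ⁻¹' {f x} := by
      rw [hu1]
      rfl
    exact this.1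
  have him' : IsImmersion i₀ := inferInstance
  refine ⟨Z', Z'.ι ≫ i₀, ⟨z₀, hz₀u⟩, inferInstance, ?_, ?_, ?_⟩
  · rw [Category.assoc]
    infer_instance
  · rw [Scheme.Hom.comp_apply]
    exact hi₀z₀
  · intro z' hz'
    have : (Z'.ι z') ∈ u ∩ (i₀ ≫ f) ⁻¹' {f x} := by
      refine ⟨z'.2, ?_⟩
      change (i₀ ≫ f) (Z'.ι z') = f x
      rw [Scheme.Hom.comp_apply, ← Scheme.Hom.comp_apply]
      exact hz'
    rw [hu1] at this
    exact Subtype.ext this

end Groth.Agent.R2.H6.EtaleSliceSch
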