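import Mathlib
import Groth.Prelude.Def_FlatCA
import Groth.Agent.Lib.Helper18Fitt11

/-!
# Zeroth Fitting ideals: small additions (helper6, round 2)

* `fittingZero_eq`: `FlatCA.fittingZero = Fitt.ideal _ _ 0`.
* `pow_mem_fittingZero`: `Ann(M)^n ⊆ Fit₀(M)` for `M` generated by `n` elements.
* `fitt_zero_prod`: `Fit₀((R ⧸ J) × N) = J · Fit₀(N)`.
-/

set_option autoImplicit false
universe u

namespace Groth.Agent.R2.H6.Fitt

open Groth.Agent.Helper18Fitt Matrix

/-- The two definitions of the zeroth Fitting ideal agree. -/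
theorem fittingZero_eq (R : Type u) [CommRing R] (M : Type u) [AddCommGroup M] [Module R M] :
    FlatCA.fittingZero R M = Fitt.ideal R M 0 := by
  unfold FlatCA.fittingZero Fitt.ideal
  congr 1
  ext d
  constructor
  · rintro ⟨n, x, a, hx, ha, rfl⟩
    exact ⟨n, x, a, hx, fun i _ => ha i, rfl⟩
  · rintro ⟨n, x, a, hx, ha, rfl⟩
    exact ⟨n, x, a, hx, fun i => ha i (by simp), rfl⟩

/-- A power of an element annihilating a module generated by `n` elements lies in the zeroth Fitting
ideal. -/
theorem pow_mem_fittingZero {R : Type u} [CommRing R] {M : Type u} [AddCommGroup M] [Module R M]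
    {n : ℕ} (x : Fin n → M) (hx : Submodule.span R (Set.range x) = ⊤) (c : R)
    (hc : ∀ m : M, c • m = 0) : c ^ n ∈ FlatCA.fittingZero R M := by
  classical
  apply Ideal.subset_span
  refine ⟨n, x, c • (1 : Matrix (Fin n) (Fin n) R), hx, ?_, ?_⟩
  · intro i
    simp only [Matrix.smul_apply, Matrix.one_apply, smul_eq_mul, mul_ite, mul_one, mul_zero,
      ite_smul, zero_smul, Finset.sum_ite_eq, Finset.mem_univ, if_true]
    exact hc _
  · rw [Matrix.det_smul, Matrix.det_one, mul_one, Fintype.card_fin]

section Prod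

variable {R : Type u} [CommRing R] (J : Ideal R) {N : Type u} [AddCommGroup N] [Module R N]

/-- generators of `(R ⧸ J) × N` from generators of `N` -/
def prodGen {m : ℕ} (y : Fin m → N) : Fin (m + 1) → (R ⧸ J) × N :=
  Fin.cons ((1 : R ⧸ J), (0 : N)) (fun i => ((0 : R ⧸ J), y i))

theorem prodGen_span {m : ℕ} (y : Fin m → N) (hy : Submodule.span R (Set.range y) = ⊤) :
    Submodule.span R (Set.range (prodGen J y)) = ⊤ := by
  rw [eq_top_iff]
  rintro ⟨a, n⟩ -
  have h1 : ((a, 0) : (R ⧸ J) × N) ∈ Submodule.span R (Set.range (prodGen J y)) := by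
    obtain ⟨r, rfl⟩ := Ideal.Quotient.mk_surjective a
    have : ((Ideal.Quotient.mk J r, 0) : (R ⧸ J) × N) = r • prodGen J y 0 := by
      simp [prodGen, Prod.smul_mk, Algebra.smul_def]
    rw [this]
    exact Submodule.smul_mem _ _ (Submodule.subset_span ⟨0, rfl⟩)
  have h2 : ((0, n) : (R ⧸ J) × N) ∈ Submodule.span R (Set.range (prodGen J y)) := by
    have hn : n ∈ Submodule.span R (Set.range y) := by rw [hy]; trivial
    induction hn using Submodule.span_induction with
    | mem z hz =>
      obtain ⟨i, rfl⟩ := hz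
      exact Submodule.subset_span ⟨i.succ, by simp [prodGen]⟩
    | zero => exact Submodule.zero_mem _
    | add u v _ _ hu hv =>
      have : ((0, u + v) : (R ⧸ J) × N) = (0, u) + (0, v) := by simp
      rw [this]
      exact Submodule.add_mem _ hu hv
    | smul r u _ hu =>
      have : ((0, r • u) : (R ⧸ J) × N) = r • (0, u) := by simp
      rw [this]
      exact Submodule.smul_mem _ _ hu
  have : ((a, n) : (R ⧸ J) × N) = (a, 0) + (0, n) := by simp
  rw [this]
  exact Submodule.add_mem _ h1 h2

theorem sum_prodGen {m : ℕ} (y : Fin m → N) (c : Fin (m + 1) → R) :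
    ∑ j, c j • prodGen J y j =
      (Ideal.Quotient.mk J (c 0), ∑ j : Fin m, c j.succ • y j) := by
  rw [Fin.sum_univ_succ]
  simp only [prodGen, Fin.cons_zero, Fin.cons_succ, Prod.smul_mk, smul_zero]
  rw [Prod.ext_iff]
  constructor
  · simp [Prod.fst_sum, Algebra.smul_def]
  · simp [Prod.snd_sum]

/-- `Fit₀((R ⧸ J) × N) = J · Fit₀(N)` for a finite module `N`. -/
theorem fitt_zero_prod [Module.Finite R N] :
    Fitt.ideal R ((R ⧸ J) × N) 0 = J * Fitt.ideal R N 0 := by
  classical
  obtain ⟨m, y, hy⟩ := Module.Finite.exists_fin (R := R) (M := N)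
  rw [fitt_eq_T (prodGen J y) (prodGen_span J y hy) 0, fitt_eq_T y hy 0]
  apply le_antisymm
  · unfold T
    rw [Ideal.span_le]
    rintro d ⟨a, S, hS, ha, rfl⟩
    have hS' : S = ∅ := Finset.card_eq_zero.mp (Nat.le_zero.mp hS)
    subst hS'
    have hrel : ∀ i, a i 0 ∈ J ∧ ∑ j : Fin m, a i j.succ • y j = 0 := by
      intro i
      have := ha i (Finset.notMem_empty i)
      rw [sum_prodGen, Prod.mk_eq_zero] at this
      exact ⟨Ideal.Quotient.eq_zero_iff_mem.mp this.1, this.2⟩
    rw [Matrix.det_succ_column_zero]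
    refine Ideal.sum_mem _ fun i _ => ?_
    rw [mul_assoc]
    refine Ideal.mul_mem_left _ _ (Ideal.mul_mem_mul (hrel i).1 ?_)
    refine mem_T_of (a.submatrix i.succAbove Fin.succ) ∅ (by simp) ?_
    intro i' _
    simp only [Matrix.submatrix_apply]
    exact (hrel (i.succAbove i')).2
  · rw [Ideal.mul_le]
    intro j hj s hs
    unfold T at hs
    induction hs using Submodule.span_induction with
    | mem s hs =>
      obtain ⟨a', S, hS, ha', rfl⟩ := hs
      have hS' : S = ∅ := Finset.card_eq_zero.mp (Nat.le_zero.mp hS)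
      subst hS'
      let A : Matrix (Fin (m + 1)) (Fin (m + 1)) R :=
        Matrix.of (Fin.cons (Fin.cons j 0) (fun i => Fin.cons 0 (a' i)))
      have hdet : A.det = j * a'.det := by
        rw [Matrix.det_succ_column_zero, Fin.sum_univ_succ]
        have h0 : A.submatrix (Fin.succAbove 0) Fin.succ = a' := by
          ext i k
          simp [A]
        have hrest : ∀ i : Fin m, A i.succ 0 = 0 := fun i => by simp [A]
        simp only [hrest, mul_zero, zero_mul, Finset.sum_const_zero, add_zero, h0]
        simp [A]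
      rw [← hdet]
      refine mem_T_of A ∅ (by simp) ?_
      intro i _
      rw [sum_prodGen, Prod.mk_eq_zero]
      refine Fin.cases ?_ (fun i' => ?_) i
      · constructor
        · simp only [A, Matrix.of_apply, Fin.cons_zero]
          exact Ideal.Quotient.eq_zero_iff_mem.mpr hj
        · simp [A]
      · constructor
        · simp [A]
        · have := ha' i' (Finset.notMem_empty i')
          simpa [A] using this
    | zero => simp
    | add u v _ _ hu hv => rw [mul_add]; exact Ideal.add_mem _ hu hv
    | smul r u _ hu =>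
      rw [smul_eq_mul, mul_left_comm]
      exact Ideal.mul_mem_left _ _ hu

end Prod

end Groth.Agent.R2.H6.Fitt
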