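import Mathlib
import Groth.Prelude.Def_FlatCA
import Groth.Agent.R2.H6FlatAt

/-!
# Transfer of flatness through an elementary dévissage (helper6, round 2)

Lemmas about the elementwise flatness criterion `TorsionKer` (see `H6FlatAt`):

* `flat_of_flat_of_formallyUnramified`: a module over a formally unramified (ess. finite type)
  `R`-algebra `R'` which is `R`-flat is `R'`-flat (diagonal idempotent).
* `torsionKer_of_formallyUnramified`, `torsionKer_restrictScalars_of_flat`: change of base ring.
* `torsionKer_iff_of_linearEquiv`, `torsionKer_mono`, `torsionKer_of_map`, `torsionKer_powers_of_mul`.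
* `torsionKer_comap_of_isIntegral`, `exists_notMem_comap_mul`: integral extension, a prime which is the
  only one over its contraction.
* `torsionKer_powers_of_forall_prime`: flat at all primes of `D(g)` implies `M_g` flat.
* `exists_torsionKer_powers_of_isBaseChange`: descent of flatness on a basic open along a flat finitely
  presented ring map (using openness of the map on spectra).
-/

set_option autoImplicit false
universe u

namespace Groth.Agent.R2.H6.FlatDev

open TensorProduct Groth.Agent.R2.H6.FlatAt


section Unramified

variable {R R' : Type u} [CommRing R] [CommRing R'] [Algebra R R']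
  {M : Type u} [AddCommGroup M] [Module R' M] [Module R M] [IsScalarTower R R' M]

/-- For `t ∈ R' ⊗ R'`, the map `m ↦ t · (1 ⊗ m)` into `R' ⊗ M` (as an additive map). -/
noncomputable def diagMap (t : R' ⊗[R] R') (m : M) : R' ⊗[R] M :=
  (LinearMap.lTensor R' ((LinearMap.toSpanSingleton R' M m).restrictScalars R)) t

theorem diagMap_tmul (a b : R') (m : M) : diagMap (R := R) (a ⊗ₜ[R] b) m = a ⊗ₜ[R] (b • m) := by
  simp [diagMap]

theorem diagMap_add_left (t t' : R' ⊗[R] R') (m : M) :
    diagMap (t + t') m = diagMap t m + diagMap t' m := by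
  simp [diagMap]

theorem diagMap_zero_left (m : M) : diagMap (0 : R' ⊗[R] R') m = 0 := by
  simp [diagMap]

theorem diagMap_add_right (t : R' ⊗[R] R') (m m' : M) :
    diagMap t (m + m') = diagMap t m + diagMap t m' := by
  induction t using TensorProduct.induction_on with
  | zero => simp [diagMap_zero_left]
  | tmul a b => simp [diagMap_tmul, smul_add, tmul_add]
  | add x y hx hy => rw [diagMap_add_left, diagMap_add_left, diagMap_add_left, hx, hy]; abel

theorem diagMap_mul_one_tmul (t : R' ⊗[R] R') (r : R') (m : M) :
    diagMap (t * ((1 : R') ⊗ₜ[R] r)) m = diagMap t (r • m) := by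
  induction t using TensorProduct.induction_on with
  | zero => simp [diagMap_zero_left]
  | tmul a b => simp [diagMap_tmul, mul_smul]
  | add x y hx hy => rw [add_mul, diagMap_add_left, diagMap_add_left, hx, hy]

theorem diagMap_mul_tmul_one (t : R' ⊗[R] R') (r : R') (m : M) :
    diagMap (t * (r ⊗ₜ[R] (1 : R'))) m = r • diagMap t m := by
  induction t using TensorProduct.induction_on with
  | zero => simp [diagMap_zero_left]
  | tmul a b => simp [diagMap_tmul, smul_tmul', mul_comm]
  | add x y hx hy => rw [add_mul, diagMap_add_left, diagMap_add_left, hx, hy, smul_add]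

theorem liftBaseChange_diagMap (t : R' ⊗[R] R') (m : M) :
    (LinearMap.liftBaseChange R' (LinearMap.id : M →ₗ[R] M)) (diagMap t m) =
      (Algebra.TensorProduct.lmul' R t) • m := by
  induction t using TensorProduct.induction_on with
  | zero => simp [diagMap_zero_left]
  | tmul a b => simp [diagMap_tmul, mul_smul]
  | add x y hx hy => rw [diagMap_add_left, map_add, hx, hy, map_add, add_smul]

/-- A module over a formally unramified, essentially finite type `R`-algebra `R'` which is flat over
`R` is flat over `R'`. -/
theorem flat_of_flat_of_formallyUnramified [Algebra.FormallyUnramified R R']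
    [Algebra.EssFiniteType R R'] [Module.Flat R M] : Module.Flat R' M := by
  obtain ⟨t, ht1, ht2⟩ := Algebra.FormallyUnramified.iff_exists_tensorProduct.mp
    (inferInstance : Algebra.FormallyUnramified R R')
  let i : M →ₗ[R'] R' ⊗[R] M :=
    { toFun := fun m => diagMap t m
      map_add' := fun m m' => diagMap_add_right t m m'
      map_smul' := fun r m => by
        simp only [RingHom.id_apply]
        rw [← diagMap_mul_one_tmul, ← diagMap_mul_tmul_one]
        congr 1
        have := ht1 r
        rw [sub_mul, sub_eq_zero] at this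
        rw [mul_comm t, this, mul_comm] }
  refine Module.Flat.of_retract (M := R' ⊗[R] M) i
    (LinearMap.liftBaseChange R' (LinearMap.id : M →ₗ[R] M)) ?_
  ext m
  simp only [LinearMap.coe_comp, Function.comp_apply, LinearMap.id_coe, id_eq]
  change (LinearMap.liftBaseChange R' (LinearMap.id : M →ₗ[R] M)) (diagMap t m) = m
  rw [liftBaseChange_diagMap, ht2, one_smul]

end Unramified



section Equiv

variable {A B : Type u} [CommRing A] [CommRing B] [Algebra A B]
  {M M' : Type u} [AddCommGroup M] [Module B M] [Module A M] [IsScalarTower A B M]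
  [AddCommGroup M'] [Module B M'] [Module A M'] [IsScalarTower A B M']

theorem torsionKer_iff_of_linearEquiv (S : Submonoid B) (e : M ≃ₗ[B] M') :
    TorsionKer A S M ↔ TorsionKer A S M' :=
  (flat_iff_torsionKer (A := A) S
      ((LocalizedModule.mkLinearMap S M') ∘ₗ e.toLinearMap)).symm.trans
    (flat_iff_torsionKer (A := A) S (LocalizedModule.mkLinearMap S M'))

end Equiv

section ChangeBase

variable {R R' B : Type u} [CommRing R] [CommRing R'] [CommRing B] [Algebra R R'] [Algebra R' B]
  [Algebra R B]
  {M : Type u} [AddCommGroup M] [Module B M] [Module R' M] [Module R M] [IsScalarTower R' B M]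
  [IsScalarTower R B M] [IsScalarTower R R' M]

theorem isScalarTower_localizedModule (S : Submonoid B) :
    IsScalarTower R R' (LocalizedModule S M) :=
  ⟨fun r r' x => by
    induction x using LocalizedModule.induction_on with
    | h m s => rw [LocalizedModule.smul'_mk, LocalizedModule.smul'_mk, LocalizedModule.smul'_mk,
        smul_assoc]⟩

/-- Change of the base ring along a flat map. -/
theorem torsionKer_restrictScalars_of_flat [Module.Flat R R'] (S : Submonoid B)
    (H : TorsionKer R' S M) : TorsionKer R S M := by
  have := isScalarTower_localizedModule (R := R) (R' := R') (M := M) S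
  have h1 : Module.Flat R' (LocalizedModule S M) :=
    (flat_iff_torsionKer S (LocalizedModule.mkLinearMap S M)).mpr H
  have h2 : Module.Flat R (LocalizedModule S M) := Module.Flat.trans R R' _
  exact (flat_iff_torsionKer S (LocalizedModule.mkLinearMap S M)).mp h2

/-- Change of the base ring along a formally unramified map of essentially finite type. -/
theorem torsionKer_of_formallyUnramified [Algebra.FormallyUnramified R R']
    [Algebra.EssFiniteType R R'] (S : Submonoid B) (H : TorsionKer R S M) : TorsionKer R' S M := by
  have := isScalarTower_localizedModule (R := R) (R' := R') (M := M) S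
  have h1 : Module.Flat R (LocalizedModule S M) :=
    (flat_iff_torsionKer S (LocalizedModule.mkLinearMap S M)).mpr H
  have h2 : Module.Flat R' (LocalizedModule S M) := flat_of_flat_of_formallyUnramified (R := R)
  exact (flat_iff_torsionKer S (LocalizedModule.mkLinearMap S M)).mp h2

end ChangeBase



section Mono

variable {A B : Type u} [CommRing A] [CommRing B] [Algebra A B]
  {M : Type u} [AddCommGroup M] [Module B M] [Module A M] [IsScalarTower A B M]

theorem torsionKer_mono {S1 S2 : Submonoid B} (h : S1 ≤ S2) (H : TorsionKer A S1 M) :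
    TorsionKer A S2 M := by
  intro X P _ _ _ _ f hf k hk
  obtain ⟨b, hb, hbk⟩ := H X P f hf k hk
  exact ⟨b, h hb, hbk⟩

/-- Flatness of the localization away from `g` in terms of `TorsionKer`. -/
theorem flat_powers_iff_torsionKer (g : B) :
    Module.Flat A (LocalizedModule (Submonoid.powers g) M) ↔ TorsionKer A (Submonoid.powers g) M :=
  flat_iff_torsionKer (Submonoid.powers g) (LocalizedModule.mkLinearMap (Submonoid.powers g) M)

/-- If `M` is flat over `A` at all primes of the basic open `D(g)`, then `M_g` is flat over `A`. -/
theorem torsionKer_powers_of_forall_prime (g : B)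
    (H : ∀ (P : Ideal B) [P.IsPrime], g ∉ P → TorsionKer A P.primeCompl M) :
    TorsionKer A (Submonoid.powers g) M := by
  intro X Q _ _ _ _ f hf k hk
  let J : Ideal B := (Submodule.span B {k}).annihilator
  have hg : g ∈ J.radical := by
    rw [Ideal.radical_eq_sInf, Ideal.mem_sInf]
    rintro P ⟨hJP, hP⟩
    by_contra hgP
    obtain ⟨s, hs, hsk⟩ := H P hgP X Q f hf k hk
    exact hs (hJP ((Groth.Agent.R2.H6.WeakAss.mem_ann_iff k s).mpr hsk))
  obtain ⟨n, hn⟩ := hg
  exact ⟨g ^ n, ⟨n, rfl⟩, (Groth.Agent.R2.H6.WeakAss.mem_ann_iff k (g ^ n)).mp hn⟩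

end Mono

section TwoAlgebras

variable {A B C : Type u} [CommRing A] [CommRing B] [CommRing C] [Algebra A B] [Algebra B C]
  [Algebra A C]
  {N : Type u} [AddCommGroup N] [Module C N] [Module B N] [Module A N] [IsScalarTower B C N]
  [IsScalarTower A C N] [IsScalarTower A B N]

/-- Same module, two algebras: transfer along `B → C` when `SB` maps into `SC`. -/
theorem torsionKer_of_map (SB : Submonoid B) (SC : Submonoid C)
    (hS : ∀ b ∈ SB, algebraMap B C b ∈ SC) (H : TorsionKer A SB N) : TorsionKer A SC N := by
  intro X P _ _ _ _ f hf k hk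
  obtain ⟨b, hb, hbk⟩ := H X P f hf k hk
  refine ⟨algebraMap B C b, hS b hb, ?_⟩
  rw [algebraMap_smul]
  exact hbk

/-- Same module, two algebras: if `algebraMap d = c * c'` then killing by powers of `c` implies killing
by powers of `d`. -/
theorem torsionKer_powers_of_mul (c c' : C) (d : B) (hd : algebraMap B C d = c * c')
    (H : TorsionKer A (Submonoid.powers c) N) : TorsionKer A (Submonoid.powers d) N := by
  intro X P _ _ _ _ f hf k hk
  obtain ⟨_, ⟨n, rfl⟩, hbk⟩ := H X P f hf k hk
  refine ⟨d ^ n, ⟨n, rfl⟩, ?_⟩
  rw [← algebraMap_smul C (d ^ n) k, map_pow, hd, mul_pow, mul_comm, mul_smul, hbk, smul_zero]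

variable [Algebra.IsIntegral B C]

/-- For an integral extension and a prime `r` of `C` which is the only prime over its contraction:
every element outside `r` divides the image of an element outside the contraction. -/
theorem exists_notMem_comap_mul (r : Ideal C) [r.IsPrime]
    (huniq : ∀ r' : Ideal C, r'.IsPrime → r'.comap (algebraMap B C) = r.comap (algebraMap B C) →
      r' = r) (c : C) (hc : c ∉ r) :
    ∃ d : B, d ∉ r.comap (algebraMap B C) ∧ ∃ c' : C, algebraMap B C d = c * c' := by
  by_contra hcon
  push Not at hcon
  have hle : (Ideal.span {c}).comap (algebraMap B C) ≤ r.comap (algebraMap B C) := by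
    intro d hd
    by_contra hdr
    obtain ⟨c', hc'⟩ := Ideal.mem_span_singleton'.mp (Ideal.mem_comap.mp hd)
    exact hcon d hdr c' (by rw [← hc', mul_comm])
  obtain ⟨r', hJr', hr', hr'q⟩ := Ideal.exists_ideal_over_prime_of_isIntegral
    (r.comap (algebraMap B C)) (Ideal.span {c}) hle
  have := huniq r' hr' hr'q
  exact hc (this ▸ hJr' (Ideal.mem_span_singleton_self c))

/-- Same module, two algebras, integral extension, `r` the only prime over its contraction. -/
theorem torsionKer_comap_of_isIntegral (r : Ideal C) [r.IsPrime]
    (huniq : ∀ r' : Ideal C, r'.IsPrime → r'.comap (algebraMap B C) = r.comap (algebraMap B C) →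
      r' = r) (H : TorsionKer A r.primeCompl N) :
    TorsionKer A (r.comap (algebraMap B C)).primeCompl N := by
  intro X P _ _ _ _ f hf k hk
  by_contra hcon
  push Not at hcon
  let J : Ideal C := (Submodule.span C {k}).annihilator
  have hJq : J.comap (algebraMap B C) ≤ r.comap (algebraMap B C) := by
    intro b hb
    by_contra hbq
    apply hcon b hbq
    have := (Groth.Agent.R2.H6.WeakAss.mem_ann_iff k (algebraMap B C b)).mp hb
    rwa [algebraMap_smul] at this
  obtain ⟨r', hJr', hr', hr'q⟩ := Ideal.exists_ideal_over_prime_of_isIntegral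
    (r.comap (algebraMap B C)) J hJq
  obtain rfl := huniq r' hr' hr'q
  obtain ⟨c, hc, hck⟩ := H X P f hf k hk
  exact hc (hJr' ((Groth.Agent.R2.H6.WeakAss.mem_ann_iff k c).mpr hck))

end TwoAlgebras

section Open

variable {R S S' : Type u} [CommRing R] [CommRing S] [CommRing S'] [Algebra R S] [Algebra S S']
  [Algebra R S'] [IsScalarTower R S S'] [Module.Flat S S'] [Algebra.FinitePresentation S S']
  {N N' : Type u} [AddCommGroup N] [Module S N] [Module R N] [IsScalarTower R S N]
  [AddCommGroup N'] [Module S' N'] [Module S N'] [Module R N'] [IsScalarTower S S' N']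
  [IsScalarTower R S' N'] [IsScalarTower R S N']

/-- Descent of flatness on a basic open along a flat finitely presented ring map (open image). -/
theorem exists_torsionKer_powers_of_isBaseChange (h : N →ₗ[S] N') (hh : IsBaseChange S' h)
    (g' : S') (q' : Ideal S') [q'.IsPrime] (hg' : g' ∉ q')
    (H : TorsionKer R (Submonoid.powers g') N') :
    ∃ g : S, g ∉ q'.comap (algebraMap S S') ∧ TorsionKer R (Submonoid.powers g) N := by
  have hopen : IsOpen ((PrimeSpectrum.comap (algebraMap S S')) '' (PrimeSpectrum.basicOpen g' : Set _)) :=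
    PrimeSpectrum.isOpenMap_comap_of_hasGoingDown_of_finitePresentation _
      (PrimeSpectrum.basicOpen g').isOpen
  have hmem : (PrimeSpectrum.comap (algebraMap S S') ⟨q', inferInstance⟩) ∈
      (PrimeSpectrum.comap (algebraMap S S')) '' (PrimeSpectrum.basicOpen g' : Set _) :=
    ⟨⟨q', inferInstance⟩, hg', rfl⟩
  obtain ⟨_, ⟨g, rfl⟩, hqg, hsub⟩ :=
    PrimeSpectrum.isTopologicalBasis_basic_opens.exists_subset_of_mem_open hmem hopen
  refine ⟨g, hqg, torsionKer_powers_of_forall_prime g ?_⟩
  intro P hP hgP
  obtain ⟨⟨P', hP'⟩, hg'P', hPP'⟩ := hsub (show (⟨P, hP⟩ : PrimeSpectrum S) ∈ _ from hgP)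
  have hPeq : P = P'.comap (algebraMap S S') := by
    have := congrArg PrimeSpectrum.asIdeal hPP'
    simpa using this.symm
  subst hPeq
  refine torsionKer_of_isBaseChange_of_comap h hh P' (torsionKer_mono ?_ H)
  rintro _ ⟨n, rfl⟩
  exact fun hmem => hg'P' (hP'.mem_of_pow_mem n hmem)

end Open

end Groth.Agent.R2.H6.FlatDev
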