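import Mathlib
import Groth.Agent.S1375
import Groth.Agent.S1353

/-!
# fppf coverings are refined by (étale with trivial residue field extension) ∘ (finite flat)
(helper6)
-/

set_option autoImplicit false
universe u

open AlgebraicGeometry CategoryTheory Limits

namespace Groth.Agent.R2.H6.FppfNis

/-- Pointwise form of S1379 with a global factorisation and trivial residue field extension. -/
theorem exists_etale_nbhd_finite_flat_factor {S₁ S : Scheme.{u}} (g : S₁ ⟶ S) [Flat g]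
    [LocallyOfFinitePresentation g] (s : S) (hs : s ∈ Set.range ⇑g) :
    ∃ (S' V : Scheme.{u}) (e : S' ⟶ S) (π : V ⟶ S') (r : V ⟶ S₁) (s' : S'), Etale e ∧ e s' = s ∧
      IsIso (e.residueFieldMap s') ∧
      Surjective π ∧ IsFinite π ∧ Flat π ∧ LocallyOfFinitePresentation π ∧ r ≫ g = π ≫ e := by
  obtain ⟨Z, j, hfl, hfp, hqf, z, hz⟩ := Groth.Agent.S1375.exists_slice_at g s hs
  have hlft : LocallyOfFiniteType (j ≫ g) := inferInstance
  obtain ⟨U, g', u, hnb, Vo, v, hvV, hfin, hvu, -, -, -⟩ :=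
    Groth.Agent.S1353.result (j ≫ g) z ((j ≫ g).quasiFiniteAt z)
  have hetale : Etale g' := hnb.etale
  let φ : (Vo : Scheme.{u}) ⟶ U := Vo.ι ≫ pullback.snd (j ≫ g) g'
  have hφfin : IsFinite φ := hfin
  have hφfl : Flat φ := inferInstance
  have hφfp : LocallyOfFinitePresentation φ := inferInstance
  let U' : U.Opens := ⟨Set.range ⇑φ, φ.isOpenMap.isOpen_range⟩
  have hpre : φ ⁻¹ᵁ U' = ⊤ := by
    ext w
    simp only [TopologicalSpace.Opens.coe_top, Set.mem_univ, iff_true]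
    exact ⟨w, rfl⟩
  have huU' : u ∈ U' := ⟨⟨v, hvV⟩, hvu⟩
  have hres : IsIso (g'.residueFieldMap u) :=
    (ConcreteCategory.isIso_iff_bijective _).mpr hnb.residue_bijective
  refine ⟨U', ↑(φ ⁻¹ᵁ U'), U'.ι ≫ g', φ ∣_ U',
    (φ ⁻¹ᵁ U').ι ≫ Vo.ι ≫ pullback.fst (j ≫ g) g' ≫ j, ⟨u, huU'⟩,
    inferInstance, ?_, ?_, ?_, inferInstance, inferInstance, inferInstance, ?_⟩
  · rw [Scheme.Hom.comp_apply]
    show g' u = s
    rw [hnb.base_eq, hz]
  · rw [Scheme.residueFieldMap_comp]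
    have h1 : IsIso (g'.residueFieldMap (U'.ι ⟨u, huU'⟩)) := hres
    have h2 : IsIso (U'.ι.residueFieldMap ⟨u, huU'⟩) := inferInstance
    exact IsIso.comp_isIso' h1 h2
  · refine ⟨fun y => ?_⟩
    obtain ⟨w, hw⟩ := y.2
    have hwmem : w ∈ φ ⁻¹ᵁ U' := by rw [hpre]; trivial
    refine ⟨⟨w, hwmem⟩, ?_⟩
    apply U'.ι.isOpenEmbedding.injective
    rw [← Scheme.Hom.comp_apply, morphismRestrict_ι, Scheme.Hom.comp_apply]
    exact hw
  · simp only [Category.assoc]
    rw [← Category.assoc (φ ∣_ U'), morphismRestrict_ι, Category.assoc]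
    congr 1
    show Vo.ι ≫ pullback.fst (j ≫ g) g' ≫ j ≫ g = (Vo.ι ≫ pullback.snd (j ≫ g) g') ≫ g'
    rw [Category.assoc, ← pullback.condition]

theorem main {X : Scheme.{u}} {ι : Type u} (W : ι → Scheme.{u}) (w : ∀ j, W j ⟶ X)
    (hw : Presieve.ofArrows W w ∈
      Scheme.precoverage (@Flat ⊓ @LocallyOfFinitePresentation ⊓ @QuasiCompact ⊓
        @QuasiSeparated) X) :
    ∃ (κ : Type u) (U V : κ → Scheme.{u}) (u : ∀ k, U k ⟶ X) (v : ∀ k, V k ⟶ U k),
      (∀ k, Etale (u k)) ∧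
        (∀ x : X, ∃ (k : κ) (y : U k), (u k).base y = x ∧ IsIso ((u k).residueFieldMap y)) ∧
        (∀ k, IsFinite (v k) ∧ Flat (v k) ∧ Surjective (v k)) ∧
        ∀ k, ∃ (j : ι) (r : V k ⟶ W j), r ≫ w j = v k ≫ u k := by
  classical
  rw [Scheme.ofArrows_mem_precoverage_iff] at hw
  obtain ⟨hsurj, hP⟩ := hw
  have hfl : ∀ j, Flat (w j) := fun j => (hP j).1.1.1
  have hfp : ∀ j, LocallyOfFinitePresentation (w j) := fun j => (hP j).1.1.2
  choose jx hjx using hsurj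
  have key : ∀ x : X, ∃ (S' V : Scheme.{u}) (e : S' ⟶ X) (π : V ⟶ S') (r : V ⟶ W (jx x))
      (s' : S'), Etale e ∧ e s' = x ∧ IsIso (e.residueFieldMap s') ∧
      Surjective π ∧ IsFinite π ∧ Flat π ∧ LocallyOfFinitePresentation π ∧
      r ≫ w (jx x) = π ≫ e := fun x => by
    have := hfl (jx x)
    have := hfp (jx x)
    exact exists_etale_nbhd_finite_flat_factor (w (jx x)) x (hjx x)
  choose S' V e π r s' het hes hres hπs hπfin hπfl hπfp hfac using key
  refine ⟨X, S', V, e, π, het, fun x => ⟨x, s' x, hes x, hres x⟩,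
    fun k => ⟨hπfin k, hπfl k, hπs k⟩, fun k => ⟨jx k, r k, hfac k⟩⟩

end Groth.Agent.R2.H6.FppfNis
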