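import Mathlib
import Groth.Prelude.Def_Mor2
import Groth.Agent.S1375
import Groth.Agent.S1353
import Groth.Agent.R2.H6EtNbhd

/-!
# Refining fppf coverings by towers Zariski / finite locally free / Zariski / finite locally free
(helper6)
-/

set_option autoImplicit false
universe w u

open AlgebraicGeometry CategoryTheory Limits

namespace Groth.Agent.R2.H6.FppfTower

/-- Pointwise form of S1379 with a global factorisation: a flat l.f.p. morphism `g : S₁ ⟶ S` is,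
étale locally around every point of its image, dominated by a finite locally free cover. -/
theorem exists_etale_finite_flat_factor {S₁ S : Scheme.{u}} (g : S₁ ⟶ S) [Flat g]
    [LocallyOfFinitePresentation g] (s : S) (hs : s ∈ Set.range ⇑g) :
    ∃ (S' V : Scheme.{u}) (e : S' ⟶ S) (π : V ⟶ S') (r : V ⟶ S₁) (s' : S'), Etale e ∧ e s' = s ∧
      Surjective π ∧ IsFinite π ∧ Flat π ∧ LocallyOfFinitePresentation π ∧ r ≫ g = π ≫ e := by
  obtain ⟨Z, j, hfl, hfp, hqf, z, hz⟩ := Groth.Agent.S1375.exists_slice_at g s hs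
  have hlft : LocallyOfFiniteType (j ≫ g) := inferInstance
  obtain ⟨U, g', u, hnb, Vo, v, hvV, hfin, hvu, -, -, -⟩ :=
    Groth.Agent.S1353.result (j ≫ g) z ((j ≫ g).quasiFiniteAt z)
  have hetale : Etale g' := hnb.etale
  let φ : (Vo : Scheme.{u}) ⟶ U := Vo.ι ≫ pullback.snd (j ≫ g) g'
  have hφfin : IsFinite φ := hfin
  have hφfl : Flat φ := inferInstance
  have hφfp : LocallyOfFinitePresentation φ := inferInstance
  let U' : U.Opens := ⟨Set.range ⇑φ, φ.isOpenMap.isOpen_range⟩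
  have hpre : φ ⁻¹ᵁ U' = ⊤ := by
    ext w
    simp only [TopologicalSpace.Opens.coe_top, Set.mem_univ, iff_true]
    exact ⟨w, rfl⟩
  have huU' : u ∈ U' := ⟨⟨v, hvV⟩, hvu⟩
  refine ⟨U', ↑(φ ⁻¹ᵁ U'), U'.ι ≫ g', φ ∣_ U',
    (φ ⁻¹ᵁ U').ι ≫ Vo.ι ≫ pullback.fst (j ≫ g) g' ≫ j, ⟨u, huU'⟩,
    inferInstance, ?_, ?_, inferInstance, inferInstance, inferInstance, ?_⟩
  · rw [Scheme.Hom.comp_apply]
    show g' u = s
    rw [hnb.base_eq, hz]
  · refine ⟨fun y => ?_⟩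
    obtain ⟨w, hw⟩ := y.2
    have hwmem : w ∈ φ ⁻¹ᵁ U' := by rw [hpre]; trivial
    refine ⟨⟨w, hwmem⟩, ?_⟩
    apply U'.ι.isOpenEmbedding.injective
    rw [← Scheme.Hom.comp_apply, morphismRestrict_ι, Scheme.Hom.comp_apply]
    exact hw
  · simp only [Category.assoc]
    rw [← Category.assoc (φ ∣_ U'), morphismRestrict_ι, Category.assoc]
    congr 1
    show Vo.ι ≫ pullback.fst (j ≫ g) g' ≫ j ≫ g = (Vo.ι ≫ pullback.snd (j ≫ g) g') ≫ g'
    rw [Category.assoc, ← pullback.condition]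

/-- **Refinement of fppf coverings by towers** (Zariski, finite locally free, Zariski, finite
locally free), pointwise form. -/
theorem main {S : Scheme.{u}} (E : PreZeroHypercover.{w} S)
    (hflat : ∀ i, Flat (E.f i)) (hfp : ∀ i, LocallyOfFinitePresentation (E.f i))
    (hsurj : ∀ s : S, ∃ (i : E.I₀) (x : E.X i), E.f i x = s) (s : S) :
    ∃ (U : S.Opens) (W : Scheme.{u}) (π : W ⟶ U.toScheme), s ∈ U ∧ Mor2.IsFinLocFree π ∧
      Surjective π ∧
      ∀ w : W, ∃ (W' : W.Opens) (T : Scheme.{u}) (ρ : T ⟶ W'.toScheme) (i : E.I₀)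
        (r : T ⟶ E.X i),
        w ∈ W' ∧ Mor2.IsFinLocFree ρ ∧ Surjective ρ ∧ r ≫ E.f i = ρ ≫ W'.ι ≫ π ≫ U.ι := by
  classical
  obtain ⟨i, x, hx⟩ := hsurj s
  have := hflat i
  have := hfp i
  obtain ⟨S', V, e, πV, rV, s', het, hes', hπVs, hπVfin, hπVfl, hπVfp, hfac⟩ :=
    exists_etale_finite_flat_factor (E.f i) s ⟨x, hx⟩
  obtain ⟨U, W, π, hsU, hUaff, hπs, hπfin, hπfl, hπfp, hloc⟩ :=
    Groth.Agent.R2.H6.EtNbhd.main e s' s hes'
  choose Wt ht hmem hcomm _ using fun t : {t : W // U.ι (π t) = s} => hloc t.1 t.2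
  let O : W.Opens := ⨆ t, Wt t
  have hπclosed : IsClosedMap π := π.isClosedMap
  let C : Set W := (O : Set W)ᶜ
  have hC : IsClosed C := O.isOpen.isClosed_compl
  let U₁ : (U : Scheme.{u}).Opens := ⟨(π '' C)ᶜ, (hπclosed C hC).isOpen_compl⟩
  have hsU₁ : (⟨s, hsU⟩ : U) ∈ U₁ := by
    rintro ⟨c, hcC, hc⟩
    apply hcC
    have hcs : U.ι (π c) = s := by rw [hc]; rfl
    exact TopologicalSpace.Opens.mem_iSup.mpr ⟨⟨c, hcs⟩, hmem ⟨c, hcs⟩⟩
  let U' : S.Opens := U.ι ''ᵁ U₁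
  let π' : (↑(π ⁻¹ᵁ U₁) : Scheme.{u}) ⟶ (U' : Scheme.{u}) := (π ∣_ U₁) ≫ (U.ι.isoImage U₁).hom
  have hπ'ι : π' ≫ U'.ι = (π ⁻¹ᵁ U₁).ι ≫ π ≫ U.ι := by
    simp only [π', U', Category.assoc, Scheme.Hom.isoImage_hom_ι]
    rw [← Category.assoc, morphismRestrict_ι, Category.assoc]
  have hres : Surjective (π ∣_ U₁) := IsZariskiLocalAtTarget.restrict ‹Surjective π› U₁
  have hπ's : Surjective π' := inferInstance
  refine ⟨U', ↑(π ⁻¹ᵁ U₁), π', ?_, ⟨inferInstance, inferInstance, inferInstance⟩,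
    hπ's, ?_⟩
  · exact ⟨⟨s, hsU⟩, hsU₁, rfl⟩
  · intro w
    have hwO : w.1 ∈ O := by
      by_contra hnot
      exact w.2 ⟨w.1, hnot, rfl⟩
    obtain ⟨t, hwt⟩ := TopologicalSpace.Opens.mem_iSup.mp hwO
    let ι₁ := (π ⁻¹ᵁ U₁).ι
    let W'' : (↑(π ⁻¹ᵁ U₁) : Scheme.{u}).Opens := ι₁ ⁻¹ᵁ (Wt t)
    let ψ : (W'' : Scheme.{u}) ⟶ S' := (ι₁ ∣_ (Wt t)) ≫ ht t
    refine ⟨W'', pullback πV ψ, pullback.snd πV ψ, i, pullback.fst πV ψ ≫ rV, hwt,
      ⟨inferInstance, inferInstance, inferInstance⟩, inferInstance, ?_⟩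
    rw [Category.assoc, hfac, ← Category.assoc, pullback.condition, Category.assoc]
    congr 1
    show ((ι₁ ∣_ (Wt t)) ≫ ht t) ≫ e = _
    rw [Category.assoc, hcomm t, ← Category.assoc, morphismRestrict_ι, Category.assoc, hπ'ι]

end Groth.Agent.R2.H6.FppfTower
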