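import Mathlib
import Groth.Agent.Lib.Helper6GenCompSch

/-!
# Spreading out from the generic fibre (helper6, round 2)

Generic going-down for a finite type morphism to an irreducible scheme: over a nonempty open of the
target every point is a specialization of a point of the generic fibre.
-/

set_option autoImplicit false
universe u

namespace Groth.Agent.R2.H6.GenFibre

open AlgebraicGeometry CategoryTheory CategoryTheory.Limits TopologicalSpace
open Groth.Agent.Lib.Helper6.GenCompSch Groth.Agent.Lib.Helper10.DVRFibre

/-- Generic going-down: for `f` of finite type with irreducible target, over some nonempty open of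
the target every point of the source is a specialization of a point of the generic fibre. -/
theorem exists_open_forall_exists_specializes {X Y : Scheme.{u}} (f : X ⟶ Y) [IrreducibleSpace ↑Y]
    [LocallyOfFiniteType f] [QuasiCompact f] :
    ∃ V : Y.Opens, (V : Set ↑Y).Nonempty ∧
      ∀ x : X, f x ∈ V → ∃ x' : X, x' ⤳ x ∧ f x' = genericPoint ↑Y := by
  obtain ⟨V₀, hV₀, hηV₀⟩ := exists_affineOpen_mem (genericPoint Y)
  let g : Spec (CommRingCat.of Γ(Y, V₀)) ⟶ Y := hV₀.fromSpec
  let f' : pullback f g ⟶ Spec (CommRingCat.of Γ(Y, V₀)) := pullback.snd f g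
  obtain ⟨η', hη'⟩ : ∃ η' : Spec (CommRingCat.of Γ(Y, V₀)), g η' = genericPoint Y := by
    have : genericPoint Y ∈ Set.range g := by
      rw [hV₀.range_fromSpec]; exact hηV₀
    exact this
  have hgen : ∀ q : PrimeSpectrum Γ(Y, V₀), η' ⤳ q := by
    intro q
    have : g η' ⤳ g q := by
      rw [hη']; exact genericPoint_specializes _
    exact (g.isOpenEmbedding.isInducing.specializes_iff).mp this
  obtain ⟨a, ha, hall⟩ := exists_notMem_forall_exists_specializes' f' η' hgen
  refine ⟨g ''ᵁ (PrimeSpectrum.basicOpen a), ⟨g η', η', ha, rfl⟩, ?_⟩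
  rintro x ⟨q, hq, hqx⟩
  obtain ⟨z, hz1, hz2⟩ := Scheme.Pullback.exists_preimage_pullback (f := f) (g := g) x q hqx.symm
  obtain ⟨z', hz', hfz'⟩ := hall z (by
    show a ∉ (f' z : PrimeSpectrum _).asIdeal
    rw [show f' z = q from hz2]
    exact hq)
  refine ⟨pullback.fst f g z', ?_, ?_⟩
  · rw [← hz1]
    exact hz'.map (pullback.fst f g).continuous
  · have h1 : f (pullback.fst f g z') = g (f' z') := by
      rw [← Scheme.Hom.comp_apply, ← Scheme.Hom.comp_apply, pullback.condition]
    rw [h1, hfz', hη']

end Groth.Agent.R2.H6.GenFibre
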