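import Mathlib
import Groth.Agent.Lib.Helper6FinLevel
import Groth.Agent.S9734

/-!
# Geometric connectedness of a fibre, tested on étale neighbourhoods of the base point
-/

set_option autoImplicit false
universe u

namespace Groth.Agent.R2.H6.GeomConnEt

open AlgebraicGeometry CategoryTheory CategoryTheory.Limits

theorem connectedSpace_fiber_of_geometricallyConnected {X S U : Scheme.{u}} (f : X ⟶ S)
    (g : U ⟶ S) (u : U) (hgc : GeometricallyConnected (f.fiberToSpecResidueField (g u))) :
    ConnectedSpace ↑((pullback.snd f g).fiber u) := by
  have hpb := isPullback_fiberToSpecResidueField_of_isPullback (IsPullback.of_hasPullback f g) u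
  have : GeometricallyConnected ((pullback.snd f g).fiberToSpecResidueField u) :=
    MorphismProperty.of_isPullback (P := @GeometricallyConnected) hpb hgc
  exact GeometricallyConnected.connectedSpace_of_subsingleton
    (f := (pullback.snd f g).fiberToSpecResidueField u)

theorem geometricallyConnected_of_forall_etale {X S : Scheme.{u}} (f : X ⟶ S) (s : S)
    (H : ∀ (U : Scheme.{u}) (g : U ⟶ S) (u : U), Etale g → g u = s →
      ConnectedSpace ↑((pullback.snd f g).fiber u)) :
    GeometricallyConnected (f.fiberToSpecResidueField s) := by
  let : (f.fiber s).Over (Spec (CommRingCat.of (S.residueField s))) :=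
    ⟨f.fiberToSpecResidueField s⟩
  apply Groth.Agent.Lib.Helper6.FinLevel.geometricallyConnected_of_forall_finite_separable
    (S.residueField s) (f.fiber s)
  intro K _ _ _ _
  obtain ⟨U, g, u, hu, hg, ⟨e⟩⟩ := Groth.Agent.S9734.result S s K
  subst hu
  have hconn := H U g u hg rfl
  have hpb := isPullback_fiberToSpecResidueField_of_isPullback (IsPullback.of_hasPullback f g) u
  let algK : Algebra (S.residueField (g u)) (U.residueField u) :=
    ((S.residueFieldCongr (rfl : g u = g u)).inv ≫ g.residueFieldMap u).hom.toAlgebra
  have hr : g.residueFieldMap u =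
      CommRingCat.ofHom (algebraMap (S.residueField (g u)) K) ≫
        CommRingCat.ofHom (e : K →+* U.residueField u) := by
    ext x
    change _ = e (algebraMap (S.residueField (g u)) K x)
    rw [e.commutes]
    change _ = ((S.residueFieldCongr (rfl : g u = g u)).inv ≫ g.residueFieldMap u).hom x
    rw [Scheme.residueFieldCongr_refl]
    rfl
  have hiso : IsIso (Spec.map (CommRingCat.ofHom (e : K →+* U.residueField u))) := by
    have : IsIso (CommRingCat.ofHom (e : K →+* U.residueField u)) :=
      (ConcreteCategory.isIso_iff_bijective _).mpr e.bijective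
    infer_instance
  have hpb2 : IsPullback (pullback.map _ _ _ _ (pullback.fst f g) (Spec.map (g.residueFieldMap u)) g
      (IsPullback.of_hasPullback f g).w.symm (by simp))
      ((pullback.snd f g).fiberToSpecResidueField u ≫
        Spec.map (CommRingCat.ofHom (e : K →+* U.residueField u)))
      (f.fiberToSpecResidueField (g u))
      (Spec.map (CommRingCat.ofHom (algebraMap (S.residueField (g u)) K))) := by
    refine IsPullback.of_iso hpb (Iso.refl _) (Iso.refl _)
      (@asIso _ _ _ _ (Spec.map (CommRingCat.ofHom (e : K →+* U.residueField u))) hiso)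
      (Iso.refl _) (by simp) (by simp) (by simp) ?_
    rw [Iso.refl_hom, Category.comp_id, asIso_hom, ← Spec.map_comp]
    exact congrArg Spec.map hr
  have hhomeo := hpb2.isoPullback.hom.homeomorph
  exact hhomeo.connectedSpace_iff.mp hconn

end Groth.Agent.R2.H6.GeomConnEt
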