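import Mathlib
import Groth.Agent.R2.H96GrpdFitt3Spec

/-!
# PROJ:grpd-fitt round 3: packages [GENFIN] and [DIM2]

Both via the topological embedding `X.fromSpecStalk z : Spec 𝒪_{X,z} ⟶ X` with range the
generizations of `z`.
-/

set_option autoImplicit false
universe u

open CategoryTheory AlgebraicGeometry TopologicalSpace

namespace Groth.Agent.R2.H6.GrpdFitt3Top

open Groth.Agent.R2.H96.GrpdFitt3Spec

/-- `X.fromSpecStalk z` reflects and preserves specialization. -/
lemma specializes_iff {X : Scheme.{u}} (z : X) (p q : Spec (X.presheaf.stalk z)) :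
    X.fromSpecStalk z p ⤳ X.fromSpecStalk z q ↔ p ⤳ q :=
  (X.fromSpecStalk z).isEmbedding.isInducing.specializes_iff

lemma exists_of_specializes {X : Scheme.{u}} {z y : X} (h : y ⤳ z) :
    ∃ p : Spec (X.presheaf.stalk z), X.fromSpecStalk z p = y := by
  have : y ∈ Set.range (X.fromSpecStalk z) := by
    rw [Scheme.range_fromSpecStalk]
    exact h
  exact this

theorem genFinStmt : GenFinStmt.{u} := by
  intro X z hN
  have hfin : {p : PrimeSpectrum (X.presheaf.stalk z) | IsMin p}.Finite :=
    PrimeSpectrum.finite_setOfPred_isMin _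
  refine (hfin.image (fun p => X.fromSpecStalk z p)).subset ?_
  rintro ξ ⟨hξz, hξ⟩
  obtain ⟨p, rfl⟩ := exists_of_specializes hξz
  refine ⟨p, ?_, rfl⟩
  intro q hqp
  have h1 : q ⤳ (p : PrimeSpectrum (X.presheaf.stalk z)) :=
    (PrimeSpectrum.le_iff_specializes q p).mp hqp
  have h2 : X.fromSpecStalk z q ⤳ X.fromSpecStalk z p := (specializes_iff z q p).mpr h1
  have h3 := hξ _ h2
  have h4 : q = p := (X.fromSpecStalk z).isEmbedding.injective h3
  exact h4 ▸ le_refl _

theorem dim2Stmt : Dim2Stmt.{u} := by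
  intro X x y z hyx hne1 hxz hne2 hdim
  obtain ⟨qx, rfl⟩ := exists_of_specializes hxz
  obtain ⟨qy, rfl⟩ := exists_of_specializes (hyx.trans hxz)
  obtain ⟨qz, hqz⟩ := exists_of_specializes (specializes_rfl (x := z))
  have h1 : qy ⤳ qx := (specializes_iff z qy qx).mp hyx
  have h2 : qx ⤳ qz := (specializes_iff z qx qz).mp (by
    refine hxz.trans (specializes_of_eq hqz.symm))
  let px : PrimeSpectrum (X.presheaf.stalk z) := qx
  let py : PrimeSpectrum (X.presheaf.stalk z) := qy
  let pz : PrimeSpectrum (X.presheaf.stalk z) := qz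
  have l1 : py < px :=
    lt_of_le_of_ne ((PrimeSpectrum.le_iff_specializes py px).mpr h1)
      (fun e => hne1 (congrArg (X.fromSpecStalk z) e))
  have l2 : px < pz :=
    lt_of_le_of_ne ((PrimeSpectrum.le_iff_specializes px pz).mpr h2)
      (fun e => hne2 ((congrArg (X.fromSpecStalk z) e).trans hqz))
  let s : LTSeries (PrimeSpectrum (X.presheaf.stalk z)) := LTSeries.mk 2 ![py, px, pz] (by
    rw [Fin.strictMono_iff_lt_succ]
    intro i
    fin_cases i
    · exact l1
    · exact l2)
  have h3 : ((2 : ℕ) : WithBot ℕ∞) ≤ ringKrullDim (X.presheaf.stalk z) :=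
    Order.LTSeries.length_le_krullDim s
  have h4 := h3.trans hdim
  norm_num at h4

end Groth.Agent.R2.H6.GrpdFitt3Top
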