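import Mathlib
import Groth.Agent.Lib.Helper6Constructible

/-!
# Subfields of finitely generated domains are algebraic; `σ = τ`

* `isAlgebraic_of_field_hom`: if `A` is a domain of finite type over a field `k` and `τ : F →+* A` is a
  ring homomorphism from a field, then every `τ y` is algebraic over `k`.
* `sigma_eq_tau`: if `σ τ : k →+* A` with `A` a domain of finite type over `k` through `σ`, and
  `ε : A →+* k` is a common retraction, then `σ = τ`.
-/

set_option autoImplicit false

open Polynomial Topology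

namespace Groth.Agent.R2.H6.SigmaTau

open Groth.Agent.Lib.Helper6

/-- a constructible set containing a dense point contains an open neighbourhood of it -/
lemma exists_isOpen_of_isConstructible {X : Type*} [TopologicalSpace X] {s : Set X}
    (hs : IsConstructible s) (η : X) (hη : closure {η} = Set.univ) (hηs : η ∈ s) :
    ∃ U : Set X, IsOpen U ∧ η ∈ U ∧ U ⊆ s := by
  obtain ⟨F, -, hF', rfl⟩ := IsConstructible.isFULC hs
  obtain ⟨t, ht, hηt⟩ := hηs
  obtain ⟨U, Z, hU, hZ, rfl⟩ := hF' t ht
  have hZu : Z = Set.univ := by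
    apply Set.eq_univ_of_univ_subset
    rw [← hη]
    exact hZ.closure_subset_iff.mpr (by simpa using hηt.2)
  refine ⟨U, hU, hηt.1, ?_⟩
  intro x hx
  exact ⟨U ∩ Z, ht, hx, by rw [hZu]; trivial⟩

/-- a natural number `N > d` which is nonzero in the field `k` -/
lemma exists_gt_natCast_ne_zero (k : Type*) [Field k] (d : ℕ) : ∃ N : ℕ, d < N ∧ (N : k) ≠ 0 := by
  by_cases h : ((d + 1 : ℕ) : k) = 0
  · refine ⟨d + 2, by omega, ?_⟩
    intro h2
    have : ((d + 2 : ℕ) : k) = ((d + 1 : ℕ) : k) + 1 := by push_cast; ring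
    rw [this, h, zero_add] at h2
    exact one_ne_zero h2
  · exact ⟨d + 1, by omega, h⟩

/-- Every subfield of a domain of finite type over a field `k` is algebraic over `k`. -/
theorem isAlgebraic_of_field_hom {k A F : Type*} [Field k] [CommRing A] [IsDomain A] [Algebra k A]
    [Algebra.FiniteType k A] [Field F] (τ : F →+* A) (y : F) : IsAlgebraic k (τ y) := by
  by_contra htr
  set x : A := τ y with hxdef
  have hinj : Function.Injective (aeval (R := k) x) := transcendental_iff_injective.mp htr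
  -- units
  have hunit : ∀ N : ℕ, 0 < N → IsUnit (x ^ N - 1) := by
    intro N hN
    have hne : y ^ N - 1 ≠ 0 := by
      intro h0
      apply htr
      refine ⟨X ^ N - 1, ?_, ?_⟩
      · have := X_pow_sub_C_ne_zero (R := k) hN 1
        simpa using this
      · have : x ^ N - 1 = τ (y ^ N - 1) := by simp [hxdef]
        simp [this, h0]
    have : x ^ N - 1 = τ (y ^ N - 1) := by simp [hxdef]
    rw [this]
    exact (IsUnit.mk0 _ hne).map τ
  -- Chevalley
  let φ : k[X] →+* A := (aeval (R := k) x : k[X] →ₐ[k] A).toRingHom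
  have hφft : φ.FiniteType := by
    have h1 : (φ.comp (C : k →+* k[X])).FiniteType := by
      have : φ.comp (C : k →+* k[X]) = algebraMap k A := by
        ext a
        simp [φ]
      rw [this]
      exact (RingHom.finiteType_algebraMap).mpr inferInstance
    exact RingHom.FiniteType.of_comp_finiteType h1
  have hφfp : φ.FinitePresentation := RingHom.FinitePresentation.of_finiteType.mp hφft
  have hcons := PrimeSpectrum.isConstructible_range_comap hφfp
  have hbot : (⊥ : PrimeSpectrum k[X]) ∈ Set.range (PrimeSpectrum.comap φ) := by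
    refine ⟨⊥, ?_⟩
    ext1
    show Ideal.comap φ ⊥ = ⊥
    rw [← RingHom.ker_eq_comap_bot]
    exact (RingHom.injective_iff_ker_eq_bot φ).mp hinj
  have hdense : closure {(⊥ : PrimeSpectrum k[X])} = Set.univ := by
    rw [PrimeSpectrum.closure_singleton]
    ext p
    simp
  obtain ⟨U, hUo, hbotU, hUs⟩ := exists_isOpen_of_isConstructible hcons ⊥ hdense hbot
  obtain ⟨_, ⟨g, rfl⟩, hbg, hgU⟩ :=
    PrimeSpectrum.isTopologicalBasis_basic_opens.exists_subset_of_mem_open hbotU hUo
  have hg0 : g ≠ 0 := by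
    intro h
    rw [h] at hbg
    simp at hbg
  obtain ⟨N, hNd, hNk⟩ := exists_gt_natCast_ne_zero k g.natDegree
  have hNpos : 0 < N := by omega
  have hsep : (X ^ N - 1 : k[X]).Separable := X_pow_sub_one_separable_iff.mpr hNk
  have hsq : Squarefree (X ^ N - 1 : k[X]) := hsep.squarefree
  have hnotrad : g ∉ (Ideal.span {(X ^ N - 1 : k[X])}).radical := by
    intro hmem
    obtain ⟨n, hn⟩ := hmem
    rw [Ideal.mem_span_singleton] at hn
    have hn0 : n ≠ 0 := by
      rintro rfl
      rw [pow_zero] at hn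
      have hu : IsUnit (X ^ N - 1 : k[X]) := isUnit_of_dvd_one hn
      have := natDegree_eq_zero_of_isUnit hu
      rw [show (X ^ N - 1 : k[X]) = X ^ N - C 1 by simp, natDegree_X_pow_sub_C] at this
      omega
    have hdvd : (X ^ N - 1 : k[X]) ∣ g := (hsq.dvd_pow_iff_dvd hn0).mp hn
    have := natDegree_le_of_dvd hdvd hg0
    rw [show (X ^ N - 1 : k[X]) = X ^ N - C 1 by simp, natDegree_X_pow_sub_C] at this
    omega
  rw [Ideal.radical_eq_sInf, Ideal.mem_sInf] at hnotrad
  push Not at hnotrad
  obtain ⟨𝔮, ⟨h𝔮le, h𝔮prime⟩, hg𝔮⟩ := hnotrad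
  have hmem : (⟨𝔮, h𝔮prime⟩ : PrimeSpectrum k[X]) ∈ Set.range (PrimeSpectrum.comap φ) :=
    hUs (hgU (by simpa using hg𝔮))
  obtain ⟨𝔔, h𝔔⟩ := hmem
  have hp𝔮 : (X ^ N - 1 : k[X]) ∈ 𝔮 := h𝔮le (Ideal.subset_span rfl)
  have hp𝔔 : φ (X ^ N - 1) ∈ 𝔔.asIdeal := by
    have : 𝔮 = Ideal.comap φ 𝔔.asIdeal := by
      have := congrArg PrimeSpectrum.asIdeal h𝔔
      exact this.symm
    rw [this] at hp𝔮
    exact hp𝔮
  have hφp : φ (X ^ N - 1) = x ^ N - 1 := by simp [φ]
  rw [hφp] at hp𝔔
  exact 𝔔.isPrime.ne_top (Ideal.eq_top_of_isUnit_mem _ hp𝔔 (hunit N hNpos))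

/-- Let `A` be a domain, `σ τ : k →+* A` ring homomorphisms from a field with `A` of finite type over
`k` through `σ`, and `ε : A →+* k` a common retraction. Then `σ = τ`. -/
theorem sigma_eq_tau {k A : Type*} [Field k] [CommRing A] [IsDomain A] (σ τ : k →+* A)
    (hσ : σ.FiniteType) (ε : A →+* k) (hεσ : ∀ a, ε (σ a) = a) (hετ : ∀ a, ε (τ a) = a) :
    σ = τ := by
  let _ : Algebra k A := σ.toAlgebra
  have : Algebra.FiniteType k A := hσ
  ext y
  have halg : IsAlgebraic k (τ y) := isAlgebraic_of_field_hom τ y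
  have hint : IsIntegral k (τ y) := halg.isIntegral
  have hroot : (minpoly k (τ y)).IsRoot y := by
    have h0 : aeval (τ y) (minpoly k (τ y)) = 0 := minpoly.aeval k (τ y)
    have h1 := congrArg ε h0
    rw [map_zero, aeval_def, hom_eval₂] at h1
    have h2 : ε.comp (algebraMap k A) = RingHom.id k := by
      ext a
      exact hεσ a
    rw [h2, hετ] at h1
    simpa [IsRoot, eval₂_id] using h1
  have hdeg : (minpoly k (τ y)).degree = 1 :=
    degree_eq_one_of_irreducible_of_root (minpoly.irreducible hint) hroot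
  obtain ⟨c, hc⟩ := minpoly.mem_range_of_degree_eq_one k (τ y) hdeg
  have hc' : σ c = τ y := hc
  have : c = y := by
    have := congrArg ε hc'
    rwa [hεσ, hετ] at this
  rw [← this] at hc' ⊢
  exact hc'

end Groth.Agent.R2.H6.SigmaTau
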