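import Mathlib
import Groth.Prelude.Def_Grpd
import Groth.Prelude.Def_Flat
import Groth.Agent.R2.H6SigmaTau

/-!
# Scheme-level consequences of `σ = τ`
-/

set_option autoImplicit false

universe u

open CategoryTheory CategoryTheory.Limits AlgebraicGeometry Topology

namespace Groth.Agent.R2.H6.GrpdSigmaTau

open Groth.Agent.R2.H6.SigmaTau

/-- Scheme-level `σ = τ`: two morphisms `Spec D ⟶ Spec K` (`D` a domain, `K` a field), the first
locally of finite type, with a common section, are equal. -/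
theorem spec_hom_eq_of_section {K D : Type u} [Field K] [CommRing D] [IsDomain D]
    (σ' τ' : Spec (CommRingCat.of D) ⟶ Spec (CommRingCat.of K)) [hσ : LocallyOfFiniteType σ']
    (ebar : Spec (CommRingCat.of K) ⟶ Spec (CommRingCat.of D)) (h1 : ebar ≫ σ' = 𝟙 _)
    (h2 : ebar ≫ τ' = 𝟙 _) : σ' = τ' := by
  rw [← Spec.map_preimage σ', ← Spec.map_preimage τ']
  rw [← Spec.map_preimage σ'] at hσ h1
  rw [← Spec.map_preimage τ'] at h2
  rw [← Spec.map_preimage ebar] at h1 h2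
  set a := Spec.preimage σ'
  set b := Spec.preimage τ'
  set c := Spec.preimage ebar
  have hft : a.hom.FiniteType := (HasRingHomProperty.Spec_iff (P := @LocallyOfFiniteType)).mp hσ
  have h1' : a ≫ c = 𝟙 _ := by
    apply Spec.map_injective
    rw [Spec.map_comp, h1, Spec.map_id]
  have h2' : b ≫ c = 𝟙 _ := by
    apply Spec.map_injective
    rw [Spec.map_comp, h2, Spec.map_id]
  have key : a.hom = b.hom := by
    refine sigma_eq_tau a.hom b.hom hft c.hom ?_ ?_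
    · intro x
      exact congrArg (fun f => f.hom x) h1'
    · intro x
      exact congrArg (fun f => f.hom x) h2'
  congr 1
  ext x
  exact congrArg (fun f => f x) key

/-- a subset of the range of an inducing map has dimension at most that of the source -/
lemma topologicalKrullDim_le_of_subset_range {X Y : Type*} [TopologicalSpace X]
    [TopologicalSpace Y] (c : Y → X) (hc : IsInducing c) (T : Set X) (hT : T ⊆ Set.range c) :
    topologicalKrullDim T ≤ topologicalKrullDim Y := by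
  classical
  let g : T → Y := fun t => (hT t.2).choose
  have hg : ∀ t, c (g t) = t := fun t => (hT t.2).choose_spec
  have hgi : IsInducing g := by
    rw [← hc.of_comp_iff]
    have : c ∘ g = Subtype.val := funext hg
    rw [this]
    exact IsInducing.subtypeVal
  exact hgi.topologicalKrullDim_le

/-- For a minimal prime `𝔭` of the Noetherian ring of sections of an affine open `W ⊆ X`, the local
dimension of `X` at the generic point of `V(𝔭)` is at most `dim Spec (Γ(X, W) ⧸ 𝔭)`. -/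
theorem localDim_le_of_minimalPrimes (X : Scheme.{u}) (W : X.Opens) (hW : IsAffineOpen W)
    [IsNoetherianRing Γ(X, W)] (𝔭 : Ideal Γ(X, W)) (h𝔭 : 𝔭 ∈ minimalPrimes Γ(X, W)) :
    haveI : 𝔭.IsPrime := h𝔭.1.1
    FlatMor.localDim X (hW.fromSpec ⟨𝔭, h𝔭.1.1⟩) ≤
      topologicalKrullDim (Spec (CommRingCat.of (Γ(X, W) ⧸ 𝔭))) := by
  classical
  have h𝔭p : 𝔭.IsPrime := h𝔭.1.1
  -- choose f in all other minimal primes, not in 𝔭
  have hfin : (minimalPrimes Γ(X, W)).Finite := minimalPrimes.finite_of_isNoetherianRing Γ(X, W)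
  obtain ⟨f, hfJ, hf𝔭⟩ : ∃ f : Γ(X, W), (∀ 𝔮 ∈ minimalPrimes Γ(X, W), 𝔮 ≠ 𝔭 → f ∈ 𝔮) ∧ f ∉ 𝔭 := by
    let s : Finset (Ideal Γ(X, W)) := hfin.toFinset.erase 𝔭
    have hnot : ¬ (s.inf id ≤ 𝔭) := by
      intro hle
      obtain ⟨𝔮, h𝔮s, h𝔮le⟩ := (Ideal.IsPrime.inf_le' h𝔭p).mp hle
      rw [Finset.mem_erase, Set.Finite.mem_toFinset] at h𝔮s
      have h𝔮min : 𝔮 ∈ (⊥ : Ideal Γ(X, W)).minimalPrimes := h𝔮s.2
      have : 𝔭 ≤ 𝔮 := h𝔭.2 h𝔮min.1 h𝔮le
      exact h𝔮s.1 (le_antisymm h𝔮le this)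
    obtain ⟨f, hfs, hf𝔭⟩ := SetLike.not_le_iff_exists.mp hnot
    refine ⟨f, ?_, hf𝔭⟩
    intro 𝔮 h𝔮 hne
    have : s.inf id ≤ 𝔮 := Finset.inf_le (f := id) (by
      rw [Finset.mem_erase, Set.Finite.mem_toFinset]; exact ⟨hne, h𝔮⟩)
    exact this hfs
  -- the open neighbourhood
  let N : X.Opens := hW.fromSpec ''ᵁ (PrimeSpectrum.basicOpen f)
  have hrN : hW.fromSpec ⟨𝔭, h𝔭p⟩ ∈ N := ⟨⟨𝔭, h𝔭p⟩, hf𝔭, rfl⟩
  have h1 : FlatMor.localDim X (hW.fromSpec ⟨𝔭, h𝔭p⟩) ≤ topologicalKrullDim (N : Set X) := by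
    unfold FlatMor.localDim
    exact iInf_le (fun U : {U : TopologicalSpace.Opens X // hW.fromSpec ⟨𝔭, h𝔭p⟩ ∈ U} =>
      topologicalKrullDim (U.1 : Set X)) ⟨N, hrN⟩
  refine h1.trans ?_
  let ι : Spec (CommRingCat.of (Γ(X, W) ⧸ 𝔭)) ⟶ X :=
    Spec.map (CommRingCat.ofHom (Ideal.Quotient.mk 𝔭)) ≫ hW.fromSpec
  refine topologicalKrullDim_le_of_subset_range ι ι.isEmbedding.isInducing _ ?_
  rintro _ ⟨y, hy, rfl⟩
  -- y ∈ D(f) ⇒ 𝔭 ≤ y
  have hy𝔭 : 𝔭 ≤ y.asIdeal := by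
    obtain ⟨𝔮, h𝔮min, h𝔮le⟩ := Ideal.exists_minimalPrimes_le (bot_le : (⊥ : Ideal Γ(X, W)) ≤ y.asIdeal)
    by_cases hq : 𝔮 = 𝔭
    · rw [← hq]; exact h𝔮le
    · exact absurd (h𝔮le (hfJ 𝔮 h𝔮min hq)) hy
  have hyr : y ∈ Set.range (PrimeSpectrum.comap (Ideal.Quotient.mk 𝔭)) := by
    rw [range_comap_of_surjective _ _ Ideal.Quotient.mk_surjective]
    rw [Ideal.mk_ker]
    exact hy𝔭
  obtain ⟨z, rfl⟩ := hyr
  exact ⟨z, rfl⟩

end Groth.Agent.R2.H6.GrpdSigmaTau
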