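import Mathlib

/-!
# Descent of the Jacobson property along quasi-finite faithfully flat maps (helper6)

* `bot_isMaximal_of_isMaximal_under_eq_bot`: `A` a domain, `T` a faithfully flat, finitely presented,
  quasi-finite `A`-algebra which is a Jacobson ring; if some maximal ideal of `T` lies over `⊥`
  then `A` is a field.
* `isMaximal_under_of_isMaximal`: maximal ideals of such a `T` lie over maximal ideals.
* `isJacobsonRing_of_quasiFinite_faithfullyFlat`.
-/

set_option autoImplicit false
universe u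

open PrimeSpectrum TensorProduct

namespace Groth.Agent.R2.H6.JacDesc

section Domain

variable {A T : Type u} [CommRing A] [IsDomain A] [CommRing T] [Algebra A T]
  [Module.FaithfullyFlat A T] [Algebra.FinitePresentation A T] [Algebra.QuasiFinite A T]
  [IsJacobsonRing T]

/-- In the spectrum of a domain every non-empty open set contains the generic point. -/
theorem bot_mem_of_isOpen_of_nonempty {U : Set (PrimeSpectrum A)} (hU : IsOpen U)
    (hne : U.Nonempty) : (⟨⊥, Ideal.isPrime_bot⟩ : PrimeSpectrum A) ∈ U := by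
  obtain ⟨x, hx⟩ := hne
  have hspec : (⟨⊥, Ideal.isPrime_bot⟩ : PrimeSpectrum A) ⤳ x := by
    rw [← PrimeSpectrum.le_iff_specializes]
    exact bot_le (a := x.asIdeal)
  exact hspec.mem_open hU hx

theorem bot_isMaximal_of_isMaximal_under_eq_bot (n : Ideal T) [hn : n.IsMaximal]
    (hn0 : n.under A = ⊥) : (⊥ : Ideal A).IsMaximal := by
  classical
  let f : PrimeSpectrum T → PrimeSpectrum A := comap (algebraMap A T)
  have hf : Continuous f := PrimeSpectrum.continuous_comap (algebraMap A T)
  have hopen : IsOpenMap f :=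
    PrimeSpectrum.isOpenMap_comap_of_hasGoingDown_of_finitePresentation
  let η : PrimeSpectrum A := ⟨⊥, Ideal.isPrime_bot⟩
  have hdisc : IsDiscrete (f ⁻¹' {η}) :=
    Algebra.QuasiFinite.isDiscrete_comap_preimage_singleton η
  have hjac : JacobsonSpace (PrimeSpectrum T) :=
    PrimeSpectrum.isJacobsonRing_iff_jacobsonSpace.mp inferInstance
  let nT : PrimeSpectrum T := ⟨n, hn.isPrime⟩
  have hnT : nT ∈ f ⁻¹' {η} := PrimeSpectrum.ext hn0
  -- Step α: `{η}` is open
  obtain ⟨W, hWo, hW⟩ := (isDiscrete_iff_forall_mem_exists_isOpen.mp hdisc) nT hnT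
  have hnTW : nT ∈ W := by
    have : nT ∈ W ∩ f ⁻¹' {η} := by rw [hW]; rfl
    exact this.1
  have hncl : IsClosed ({nT} : Set (PrimeSpectrum T)) :=
    (PrimeSpectrum.isClosed_singleton_iff_isMaximal nT).mpr hn
  have hW'o : IsOpen (W ∩ ({nT} : Set (PrimeSpectrum T))ᶜ) := hWo.inter hncl.isOpen_compl
  have hW'empty : W ∩ ({nT} : Set (PrimeSpectrum T))ᶜ = ∅ := by
    by_contra hne
    have hne' : (f '' (W ∩ ({nT} : Set (PrimeSpectrum T))ᶜ)).Nonempty :=
      (Set.nonempty_iff_ne_empty.mpr hne).image f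
    obtain ⟨w, ⟨hwW, hwn⟩, hwη⟩ := bot_mem_of_isOpen_of_nonempty (hopen _ hW'o) hne'
    have : w ∈ W ∩ f ⁻¹' {η} := ⟨hwW, hwη⟩
    rw [hW] at this
    exact hwn this
  have hWeq : W = {nT} := by
    apply Set.Subset.antisymm
    · intro w hw
      by_contra hwn
      have : w ∈ W ∩ ({nT} : Set (PrimeSpectrum T))ᶜ := ⟨hw, hwn⟩
      rw [hW'empty] at this
      exact this
    · exact Set.singleton_subset_iff.mpr hnTW
  have hηopen : IsOpen ({η} : Set (PrimeSpectrum A)) := by
    have := hopen W hWo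
    rw [hWeq, Set.image_singleton] at this
    have hfn : f nT = η := hnT
    rwa [hfn] at this
  have hF₀open : IsOpen (f ⁻¹' {η}) := hηopen.preimage hf
  -- Step β
  by_contra hnotmax
  obtain ⟨m, hm⟩ := Ideal.exists_maximal A
  have hmne : m ≠ ⊥ := fun h => hnotmax (h ▸ hm)
  let mpt : PrimeSpectrum A := ⟨m, hm.isPrime⟩
  obtain ⟨n', hn'⟩ := PrimeSpectrum.comap_surjective_of_faithfullyFlat (B := T) mpt
  have hover : n'.asIdeal.LiesOver m := ⟨by
    have := congrArg PrimeSpectrum.asIdeal hn'
    exact this.symm⟩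
  have hbotprime : (⊥ : Ideal A).IsPrime := Ideal.isPrime_bot
  obtain ⟨P, hPle, hPprime, hPover⟩ :=
    Ideal.exists_ideal_le_liesOver_of_le (p := (⊥ : Ideal A)) (q := m) n'.asIdeal bot_le
  let n'' : PrimeSpectrum T := ⟨P, hPprime⟩
  have hn''mem : n'' ∈ f ⁻¹' {η} := PrimeSpectrum.ext (hPover.over).symm
  obtain ⟨W₂, hW₂o, hW₂⟩ := (isDiscrete_iff_forall_mem_exists_isOpen.mp hdisc) n'' hn''mem
  have hsing : IsOpen ({n''} : Set (PrimeSpectrum T)) := by
    rw [← hW₂]; exact hW₂o.inter hF₀open
  have hclosed : IsClosed ({n''} : Set (PrimeSpectrum T)) :=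
    isClosed_singleton_of_isLocallyClosed_singleton hsing.isLocallyClosed
  have hPmax : P.IsMaximal := (PrimeSpectrum.isClosed_singleton_iff_isMaximal n'').mp hclosed
  have hPeq : P = n'.asIdeal := hPmax.eq_of_le n'.isPrime.ne_top hPle
  apply hmne
  have h1 : P.under A = ⊥ := (hPover.over).symm
  have h2 : n'.asIdeal.under A = m := (hover.over).symm
  rw [← h2, ← hPeq, h1]

end Domain


section General

variable {A T : Type u} [CommRing A] [CommRing T] [Algebra A T]
  [Module.FaithfullyFlat A T] [Algebra.FinitePresentation A T] [Algebra.QuasiFinite A T]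
  [IsJacobsonRing T]

/-- Maximal ideals of a quasi-finite, faithfully flat, finitely presented Jacobson algebra lie over
maximal ideals. -/
theorem isMaximal_under_of_isMaximal (n : Ideal T) [hn : n.IsMaximal] :
    (n.under A).IsMaximal := by
  set m : Ideal A := n.under A with hm
  have hmprime : m.IsPrime := Ideal.comap_isPrime _ n
  let I : Ideal T := m.map (algebraMap A T)
  have hIn : I ≤ n := Ideal.map_comap_le
  let e := Algebra.TensorProduct.quotIdealMapEquivQuotTensor T m
  have h0 : Module.FaithfullyFlat (A ⧸ m) ((A ⧸ m) ⊗[A] T) := inferInstance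
  have h1 : Module.FaithfullyFlat (A ⧸ m) (T ⧸ I) :=
    Module.FaithfullyFlat.of_linearEquiv (R := A ⧸ m) (M := (A ⧸ m) ⊗[A] T) e.toLinearEquiv
  have h2 : Algebra.FinitePresentation (A ⧸ m) (T ⧸ I) :=
    Algebra.FinitePresentation.equiv e.symm
  have h3 : Algebra.QuasiFinite (A ⧸ m) (T ⧸ I) :=
    Algebra.QuasiFinite.of_surjective_algHom e.symm.toAlgHom e.symm.surjective
  have h4 : IsJacobsonRing (T ⧸ I) :=
    isJacobsonRing_of_surjective ⟨Ideal.Quotient.mk I, Ideal.Quotient.mk_surjective⟩
  have hn₁ : (n.map (Ideal.Quotient.mk I)).IsMaximal :=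
    Ideal.IsMaximal.map_of_surjective_of_ker_le Ideal.Quotient.mk_surjective
      (by rw [Ideal.mk_ker]; exact hIn)
  have hunder : (n.map (Ideal.Quotient.mk I)).under (A ⧸ m) = ⊥ := by
    rw [eq_bot_iff]
    intro x hx
    obtain ⟨a, rfl⟩ := Ideal.Quotient.mk_surjective x
    rw [Ideal.mem_bot, Ideal.Quotient.eq_zero_iff_mem]
    have hx' : Ideal.Quotient.mk I (algebraMap A T a) ∈ n.map (Ideal.Quotient.mk I) := hx
    rw [Ideal.mem_quotient_iff_mem hIn] at hx'
    exact hx'
  have hbot := bot_isMaximal_of_isMaximal_under_eq_bot (A := A ⧸ m) (T := T ⧸ I)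
    (n.map (Ideal.Quotient.mk I)) hunder
  have := Ideal.comap_isMaximal_of_surjective (Ideal.Quotient.mk m) Ideal.Quotient.mk_surjective
    (K := ⊥)
  rwa [← RingHom.ker_eq_comap_bot, Ideal.mk_ker] at this

/-- **Descent of the Jacobson property** along a quasi-finite, faithfully flat, finitely presented
ring map. -/
theorem isJacobsonRing_of_quasiFinite_faithfullyFlat (A T : Type u) [CommRing A] [CommRing T]
    [Algebra A T] [Module.FaithfullyFlat A T] [Algebra.FinitePresentation A T]
    [Algebra.QuasiFinite A T] [IsJacobsonRing T] : IsJacobsonRing A := by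
  rw [isJacobsonRing_iff_prime_eq]
  intro p hp
  refine le_antisymm ?_ Ideal.le_jacobson
  intro a ha
  by_contra hap
  -- a prime of `T` over `p`
  obtain ⟨q, hq⟩ := PrimeSpectrum.comap_surjective_of_faithfullyFlat (B := T) ⟨p, hp⟩
  have hqp : q.asIdeal.under A = p := congrArg PrimeSpectrum.asIdeal hq
  have haq : algebraMap A T a ∉ q.asIdeal := by
    intro h
    apply hap
    rw [← hqp]
    exact h
  -- `q` is an intersection of maximal ideals
  have hqjac : q.asIdeal.jacobson = q.asIdeal :=
    (isJacobsonRing_iff_prime_eq.mp inferInstance) q.asIdeal q.isPrime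
  have hnot : algebraMap A T a ∉ q.asIdeal.jacobson := by rw [hqjac]; exact haq
  rw [Ideal.jacobson, Ideal.mem_sInf] at hnot
  push Not at hnot
  obtain ⟨n, ⟨hqn, hnmax⟩, han⟩ := hnot
  have hmmax : (n.under A).IsMaximal := isMaximal_under_of_isMaximal n
  have hpm : p ≤ n.under A := by
    rw [← hqp]
    exact Ideal.comap_mono hqn
  have ham : a ∈ n.under A := by
    rw [Ideal.jacobson, Ideal.mem_sInf] at ha
    exact ha ⟨hpm, hmmax⟩
  exact han ham

end General

end Groth.Agent.R2.H6.JacDesc
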