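import Mathlib
import Groth.Agent.R2.H7KosBasic

/-!
# Descent of Koszul-regular sequences along a flat family (helper7)

`exact_of_flat_family`: exactness of a complex of modules can be tested after tensoring with a family
of flat modules such that every maximal ideal `𝔪` has a member `T` with `𝔪 T ≠ T`.

`kr_of_flat_family`: a sequence `l` in `S` is Koszul-regular as soon as for every maximal ideal `𝔪` of
`S` there is a flat ring map `ψ : S → T` with `𝔪 T ≠ T` and `ψ(l)` Koszul-regular.  This contains both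
faithfully flat descent and Zariski-locality of Koszul-regularity of a sequence.
-/

set_option autoImplicit false
universe u

namespace Groth.Agent.R2.H7.KosFam

open CategoryTheory CategoryTheory.Limits CochainComplex CohIII
open Groth.Agent.Helper13Kz Groth.Agent.Helper13KzLift
open Groth.Agent.R2.H7.KosBasic
open scoped TensorProduct

theorem smul_top_of_tmul_zero {R : Type u} [CommRing R] (a : Ideal R) (T : Type u) [AddCommGroup T]
    [Module R T] (key : ∀ t : T, ((1 : R ⧸ a) ⊗ₜ[R] t) = 0) : a • (⊤ : Submodule R T) = ⊤ := by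
  rw [eq_top_iff]
  rintro t -
  have h1 := TensorProduct.quotTensorEquivQuotSMul_mk_one_tmul (M := T) a t
  rw [key t, map_zero] at h1
  exact (Submodule.Quotient.mk_eq_zero _).1 h1.symm

/-- if `n ∈ N` has annihilator-type ideal `a ≠ ⊤`-free: for flat `T`, `n ⊗ t = 0` for all `t` forces
`a T = T` where `a = Ann n` -/
theorem smul_top_of_tmul_eq_zero {R : Type u} [CommRing R] {N : Type u} [AddCommGroup N] [Module R N]
    (n : N) (T : Type u) [AddCommGroup T] [Module R T] [Module.Flat R T]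
    (h : ∀ t : T, n ⊗ₜ[R] t = 0) :
    (LinearMap.ker (LinearMap.toSpanSingleton R N n)) • (⊤ : Submodule R T) = ⊤ := by
  obtain ⟨ρ, hρ⟩ : ∃ ρ : R →ₗ[R] N, ρ = LinearMap.toSpanSingleton R N n := ⟨_, rfl⟩
  have hρ1 : ρ 1 = n := by
    rw [hρ]
    change (1 : R) • n = n
    exact one_smul _ _
  rw [← hρ]
  obtain ⟨a, ha⟩ : ∃ a : Ideal R, a = LinearMap.ker ρ := ⟨_, rfl⟩
  rw [← ha]
  let ι : (R ⧸ a) →ₗ[R] N := Submodule.liftQ a ρ ha.le
  have hι : Function.Injective ι := by
    rw [← LinearMap.ker_eq_bot]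
    exact Submodule.ker_liftQ_eq_bot _ _ _ ha.ge
  have hιT : Function.Injective (ι.rTensor T) :=
    Module.Flat.rTensor_preserves_injective_linearMap ι hι
  have h1' : ι (1 : R ⧸ a) = n := by
    change ι (Submodule.Quotient.mk (1 : R)) = n
    rw [Submodule.liftQ_apply]
    exact hρ1
  apply smul_top_of_tmul_zero
  intro t
  apply hιT
  rw [map_zero, LinearMap.rTensor_tmul, h1']
  exact h t

theorem exact_of_flat_family {R : Type u} [CommRing R] {M₁ M₂ M₃ : Type u}
    [AddCommGroup M₁] [Module R M₁] [AddCommGroup M₂] [Module R M₂] [AddCommGroup M₃] [Module R M₃]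
    (f : M₁ →ₗ[R] M₂) (g : M₂ →ₗ[R] M₃) (hgf : ∀ x, g (f x) = 0)
    (H : ∀ 𝔪 : Ideal R, 𝔪.IsMaximal → ∃ (T : Type u) (_ : AddCommGroup T) (_ : Module R T),
      Module.Flat R T ∧ 𝔪 • (⊤ : Submodule R T) ≠ ⊤ ∧
        Function.Exact (f.rTensor T) (g.rTensor T)) :
    Function.Exact f g := by
  intro y
  constructor
  swap
  · rintro ⟨x, rfl⟩
    exact hgf x
  intro hy
  by_contra hne
  obtain ⟨π, hπ⟩ : ∃ π : M₂ →ₗ[R] (M₂ ⧸ LinearMap.range f), π = (LinearMap.range f).mkQ :=
    ⟨_, rfl⟩
  have hπf : π ∘ₗ f = 0 := by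
    rw [hπ]
    ext x
    exact (Submodule.Quotient.mk_eq_zero _).2 ⟨x, rfl⟩
  have hπy : π y ≠ 0 := by
    rw [hπ]
    intro h
    exact hne ((Submodule.Quotient.mk_eq_zero _).1 h)
  have ha : LinearMap.ker (LinearMap.toSpanSingleton R _ (π y)) ≠ ⊤ := by
    intro h
    have h1 : (1 : R) ∈ LinearMap.ker (LinearMap.toSpanSingleton R _ (π y)) := by
      rw [h]; exact Submodule.mem_top
    rw [LinearMap.mem_ker] at h1
    apply hπy
    rw [← h1]
    change π y = (1 : R) • π y
    rw [one_smul]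
  obtain ⟨𝔪, h𝔪, ham⟩ := Ideal.exists_le_maximal _ ha
  obtain ⟨T, _, _, hflat, hmT, hex⟩ := H 𝔪 h𝔪
  apply hmT
  have key : ∀ t : T, (π y) ⊗ₜ[R] t = 0 := by
    intro t
    have h2 : y ⊗ₜ[R] t ∈ LinearMap.range (f.rTensor T) := by
      rw [← LinearMap.exact_iff.1 hex, LinearMap.mem_ker, LinearMap.rTensor_tmul, hy,
        TensorProduct.zero_tmul]
    obtain ⟨z, hz⟩ := h2
    have h3 : (π.rTensor T) (y ⊗ₜ[R] t) = π y ⊗ₜ[R] t := LinearMap.rTensor_tmul _ _ _ _
    rw [← h3, ← hz, ← LinearMap.comp_apply, ← LinearMap.rTensor_comp, hπf, LinearMap.rTensor_zero,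
      LinearMap.zero_apply]
  have htop := smul_top_of_tmul_eq_zero (π y) T key
  exact le_antisymm le_top (htop.symm.le.trans (Submodule.smul_mono_left ham))

/-- the tensored Koszul short complexes are exact when the image sequence is Koszul-regular -/
theorem exact_rTensor_of_kr {S T : Type u} [CommRing S] [CommRing T] (ψ : S →+* T) (l : List S)
    (h : LCI.IsKoszulRegularSeq T (l.map ψ)) (i : ℤ) (hi : i ≠ 0) :
    letI := ψ.toAlgebra
    Function.Exact
      ((ModuleCat.Hom.hom ((koszulCx (ModuleCat.of S S) l).sc i).f).rTensor T)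
      ((ModuleCat.Hom.hom ((koszulCx (ModuleCat.of S S) l).sc i).g).rTensor T) := by
  let _ : Algebra S T := ψ.toAlgebra
  rw [kr_iff_acyc] at h
  have h1 := (isZero_restrict_iff ψ (ModuleCat.of T T) l i).1 (h i hi)
  have e : ((ModuleCat.restrictScalars ψ).obj (ModuleCat.of T T)) ≅
      (MonoidalCategory.tensorObj (ModuleCat.of S S) (ModuleCat.of S T)) :=
    ((restrictSelfEquiv ψ).symm ≪≫ₗ (TensorProduct.lid S T).symm).toModuleIso
  have h2 := (isZero_iff_of_iso e l i).1 h1
  have h3 : IsZero ((((MonoidalCategory.tensorRight (ModuleCat.of S T)).mapHomologicalComplex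
      (ComplexShape.up ℤ)).obj (koszulCx (ModuleCat.of S S) l)).homology i) :=
    IsZero.of_iso h2 ((HomologicalComplex.homologyFunctor _ _ i).mapIso
      (tensIso (ModuleCat.of S T) (ModuleCat.of S S) l))
  rw [← HomologicalComplex.exactAt_iff_isZero_homology] at h3
  have h4 : (((koszulCx (ModuleCat.of S S) l).sc i).map
      (MonoidalCategory.tensorRight (ModuleCat.of S T))).Exact := h3
  rw [ShortComplex.ShortExact.moduleCat_exact_iff_function_exact] at h4
  exact h4

/-- **Descent of Koszul-regular sequences along a flat family hitting all maximal ideals.** -/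
theorem kr_of_flat_family {S : Type u} [CommRing S] (l : List S)
    (H : ∀ 𝔪 : Ideal S, 𝔪.IsMaximal → ∃ (T : Type u) (_ : CommRing T) (ψ : S →+* T),
      ψ.Flat ∧ 𝔪.map ψ ≠ ⊤ ∧ LCI.IsKoszulRegularSeq T (l.map ψ)) :
    LCI.IsKoszulRegularSeq S l := by
  rw [kr_iff_acyc]
  intro i hi
  rw [← HomologicalComplex.exactAt_iff_isZero_homology, HomologicalComplex.exactAt_iff,
    ShortComplex.ShortExact.moduleCat_exact_iff_function_exact]
  apply exact_of_flat_family
  · intro x
    have h0 := ((koszulCx (ModuleCat.of S S) l).sc i).zero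
    have h1 := congrArg (fun φ => (ModuleCat.Hom.hom φ) x) h0
    simpa using h1
  · intro 𝔪 h𝔪
    obtain ⟨T, _, ψ, hψ, hne, hkr⟩ := H 𝔪 h𝔪
    let _ : Algebra S T := ψ.toAlgebra
    have : Module.Flat S T := hψ
    refine ⟨T, inferInstance, inferInstance, inferInstance, ?_, exact_rTensor_of_kr ψ l hkr i hi⟩
    intro htop
    apply hne
    rw [Ideal.smul_top_eq_map] at htop
    have h1 : (1 : T) ∈ (Ideal.map (algebraMap S T) 𝔪).restrictScalars S := htop ▸ Submodule.mem_top
    exact (Ideal.eq_top_iff_one _).2 h1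

end Groth.Agent.R2.H7.KosFam
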