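import Mathlib
import Groth.Agent.R2.H7KosCG
import Groth.Agent.R2.H7KosK2
import Groth.Agent.R2.H7KosExch
import Groth.Agent.S18939
import Groth.Agent.S15821

/-!
# Lengths of Koszul-regular generating sequences (helper7)

* `coeff_mem`: relations among a Koszul-regular sequence have coefficients in the ideal it generates.
* `length_le_of_span_eq`: a Koszul-regular generating family of a proper ideal is at most as long as
  any other generating family.
* `exists_kr_away_of_span_eq`: a generating family of the same length as a Koszul-regular generating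
  family is Koszul-regular near every prime containing the ideal.
* `kr_of_isUnit`: a sequence containing a unit is Koszul-regular.
-/

set_option autoImplicit false
universe u

namespace Groth.Agent.R2.H7.KosLen

open Groth.Agent.R2.H7.KosBasic Groth.Agent.R2.H7.KosCG Groth.Agent.R2.H7.KosK2
open Groth.Agent.R2.H7.KosExch

variable {T : Type u} [CommRing T]

/-- relations among a Koszul-regular sequence have coefficients in the ideal it generates -/
theorem coeff_mem {a : ℕ} (w : Fin a → T) (hw : LCI.IsKoszulRegularSeq T (List.ofFn w))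
    (c : Fin a → T) (hc : ∑ i, c i * w i = 0) (i : Fin a) : c i ∈ Ideal.span (Set.range w) :=
  Groth.Agent.S18939.relation_mem (I := Ideal.span (Set.range w)) a
    (fun i => ⟨w i, Ideal.subset_span ⟨i, rfl⟩⟩) hw rfl c hc i

theorem entry_sub_one_mem {a : ℕ} (w : Fin a → T) (hw : LCI.IsKoszulRegularSeq T (List.ofFn w))
    (M : Matrix (Fin a) (Fin a) T) (hM : M.mulVec w = w) (i k : Fin a) :
    M i k - (1 : Matrix (Fin a) (Fin a) T) i k ∈ Ideal.span (Set.range w) := by
  refine coeff_mem w hw (fun k => M i k - (1 : Matrix (Fin a) (Fin a) T) i k) ?_ k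
  have h1 : ∑ k, M i k * w k = w i := congrFun hM i
  have h2 : ∑ k, (1 : Matrix (Fin a) (Fin a) T) i k * w k = w i := by
    have := congrFun (Matrix.one_mulVec w) i
    exact this
  simp only [sub_mul, Finset.sum_sub_distrib, h1, h2, sub_self]

theorem exists_matrix {a b : ℕ} (w : Fin a → T) (v : Fin b → T)
    (h : ∀ i, w i ∈ Ideal.span (Set.range v)) :
    ∃ B : Matrix (Fin a) (Fin b) T, B.mulVec v = w := by
  choose B hB using fun i => (Ideal.mem_span_range_iff_exists_fun.1 (h i))
  exact ⟨Matrix.of B, funext fun i => hB i⟩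

/-- a Koszul-regular generating family of a proper ideal is a shortest generating family -/
theorem length_le_of_span_eq {a b : ℕ} (w : Fin a → T)
    (hw : LCI.IsKoszulRegularSeq T (List.ofFn w)) (v : Fin b → T)
    (hspan : Ideal.span (Set.range v) = Ideal.span (Set.range w))
    (hne : Ideal.span (Set.range w) ≠ ⊤) : a ≤ b := by
  obtain ⟨J, hJ⟩ : ∃ J : Ideal T, J = Ideal.span (Set.range w) := ⟨_, rfl⟩
  obtain ⟨B, hB⟩ := exists_matrix w v (fun i => by rw [hspan]; exact Ideal.subset_span ⟨i, rfl⟩)
  obtain ⟨A, hA⟩ := exists_matrix v w (fun j => by rw [← hspan]; exact Ideal.subset_span ⟨j, rfl⟩)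
  have hBA : (B * A).mulVec w = w := by rw [← Matrix.mulVec_mulVec, hA, hB]
  have hent := entry_sub_one_mem w hw (B * A) hBA
  rw [← hJ] at hent hne
  haveI : Nontrivial (T ⧸ J) := Ideal.Quotient.nontrivial_iff.2 hne
  have hone : (B.map (Ideal.Quotient.mk J)) * (A.map (Ideal.Quotient.mk J)) = 1 := by
    rw [← Matrix.map_mul]
    ext i k
    rw [Matrix.map_apply]
    have h1 := hent i k
    rw [← Ideal.Quotient.eq_zero_iff_mem, map_sub, sub_eq_zero] at h1
    rw [h1, Matrix.one_apply, Matrix.one_apply]
    split_ifs <;> simp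
  have hinj : Function.Injective ((A.map (Ideal.Quotient.mk J)).mulVecLin) := by
    intro x y hxy
    have h1 := congrArg ((B.map (Ideal.Quotient.mk J)).mulVec) hxy
    simp only [Matrix.mulVecLin_apply, Matrix.mulVec_mulVec, hone, Matrix.one_mulVec] at h1
    exact h1
  exact le_of_fin_injective (T ⧸ J) _ hinj

/-- a generating family of the same length as a Koszul-regular generating family is Koszul-regular
near every prime containing the ideal -/
theorem exists_kr_away_of_span_eq {N : ℕ} (w v : Fin N → T)
    (hw : LCI.IsKoszulRegularSeq T (List.ofFn w))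
    (hspan : Ideal.span (Set.range v) = Ideal.span (Set.range w))
    (𝔮 : Ideal T) [h𝔮 : 𝔮.IsPrime] (hle : Ideal.span (Set.range w) ≤ 𝔮) :
    ∃ h : T, h ∉ 𝔮 ∧ LCI.IsKoszulRegularSeq (Localization.Away h)
      (List.ofFn (fun i => algebraMap T (Localization.Away h) (v i))) := by
  obtain ⟨B, hB⟩ := exists_matrix w v (fun i => by rw [hspan]; exact Ideal.subset_span ⟨i, rfl⟩)
  obtain ⟨A, hA⟩ := exists_matrix v w (fun j => by rw [← hspan]; exact Ideal.subset_span ⟨j, rfl⟩)
  have hBA : (B * A).mulVec w = w := by rw [← Matrix.mulVec_mulVec, hA, hB]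
  have hent := entry_sub_one_mem w hw (B * A) hBA
  have hone : ((B * A).map (Ideal.Quotient.mk 𝔮)) = 1 := by
    ext i k
    rw [Matrix.map_apply]
    have h1 := hle (hent i k)
    rw [← Ideal.Quotient.eq_zero_iff_mem, map_sub, sub_eq_zero] at h1
    rw [h1, Matrix.one_apply, Matrix.one_apply]
    split_ifs <;> simp
  have hdet : Ideal.Quotient.mk 𝔮 ((B * A).det) = 1 := by
    rw [RingHom.map_det, RingHom.mapMatrix_apply, hone, Matrix.det_one]
  have hA𝔮 : A.det ∉ 𝔮 := by
    intro hmem
    have h1 : (B * A).det ∈ 𝔮 := by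
      rw [Matrix.det_mul]
      exact Ideal.mul_mem_left _ _ hmem
    rw [← Ideal.Quotient.eq_zero_iff_mem, hdet] at h1
    have : Nontrivial (T ⧸ 𝔮) := Ideal.Quotient.nontrivial_iff.2 h𝔮.ne_top
    exact one_ne_zero h1
  refine ⟨A.det, hA𝔮, ?_⟩
  let φ : T →+* Localization.Away A.det := algebraMap T (Localization.Away A.det)
  have hφ : φ.Flat := (RingHom.flat_algebraMap_iff).2 (IsLocalization.flat _ (Submonoid.powers A.det))
  have hw' : LCI.IsKoszulRegularSeq (Localization.Away A.det) (List.ofFn (fun i => φ (w i))) := by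
    have := kr_map_of_flat φ hφ _ hw
    rwa [List.map_ofFn] at this
  let A' : Matrix (Fin N) (Fin N) (Localization.Away A.det) := A.map φ
  have hA'det : IsUnit A'.det := by
    have h1 : A'.det = φ A.det := by
      change (φ.mapMatrix A).det = _
      rw [← RingHom.map_det]
    rw [h1]
    exact IsLocalization.Away.algebraMap_isUnit A.det
  have h2 := (kr_mulVec_iff (fun i => φ (w i)) A' A'⁻¹ (Matrix.mul_nonsing_inv A' hA'det)
    (Matrix.nonsing_inv_mul A' hA'det)).2 hw'
  have h3 : A'.mulVec (fun i => φ (w i)) = fun i => φ (v i) := by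
    funext j
    rw [← hA]
    simp only [Matrix.mulVec, dotProduct, map_sum, map_mul, A', Matrix.map_apply]
  rw [h3] at h2
  exact h2

/-- Koszul-regularity over the zero ring -/
theorem kr_of_subsingleton [Subsingleton T] (l : List T) : LCI.IsKoszulRegularSeq T l := by
  rw [kr_iff_acyc]
  intro i _
  have : Subsingleton ((CohIII.koszulCx (ModuleCat.of T T) l).homology i) :=
    Module.subsingleton T _
  exact ModuleCat.isZero_of_subsingleton _

/-- a sequence containing a unit is Koszul-regular -/
theorem kr_of_isUnit {N : ℕ} (v : Fin N → T) (i₀ : Fin N) (h : IsUnit (v i₀)) :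
    LCI.IsKoszulRegularSeq T (List.ofFn v) := by
  obtain ⟨N', rfl⟩ : ∃ N', N = N' + 1 := ⟨N - 1, by have := i₀.pos; omega⟩
  -- move `i₀` to the last position
  let σ : Equiv.Perm (Fin (N' + 1)) := Equiv.swap i₀ (Fin.last N')
  rw [← kr_comp_perm_iff v σ]
  have hlast : (v ∘ σ) (Fin.last N') = v i₀ := by
    simp [σ]
  rw [List.ofFn_succ', List.concat_eq_append]
  have hunit : IsUnit ((v ∘ σ) (Fin.last N')) := hlast ▸ h
  have hp : LCI.IsKoszulRegularSeq T [(v ∘ σ) (Fin.last N')] := by
    refine (Groth.Agent.S15821.result _ _ ?_).1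
    refine RingTheory.Sequence.IsWeaklyRegular.cons ?_ (RingTheory.Sequence.IsWeaklyRegular.nil _ _)
    exact hunit.isSMulRegular T
  rw [kr_append_iff _ _ hp]
  have htop : Ideal.ofList [(v ∘ σ) (Fin.last N')] = ⊤ := by
    rw [Ideal.ofList_singleton]
    exact Ideal.span_singleton_eq_top.2 hunit
  haveI : Subsingleton (T ⧸ Ideal.ofList [(v ∘ σ) (Fin.last N')]) :=
    Ideal.Quotient.subsingleton_iff.2 htop
  exact kr_of_subsingleton _

end Groth.Agent.R2.H7.KosLen
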