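import Mathlib
import Groth.Agent.R2.H7KosLen

/-!
# Number of generators of an ideal near a prime (helper7)

`LocGen I 𝔮 n`: the ideal `I` is generated by `n` of its elements after inverting some `s ∉ 𝔮`
(formulated without localisations).  Main result `locGen_of_flat`: if `ψ : R → T` is flat, `𝔮T` is a
prime of `T` and `I T` is generated by `b` elements, then `I` is generated by `b` elements near
`ψ⁻¹ 𝔮T` (number of generators of a finitely generated ideal at a prime is insensitive to flat base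
change).
-/

set_option autoImplicit false
universe u

namespace Groth.Agent.R2.H7.KosMu

open Groth.Agent.R2.H7.KosLen

variable {R : Type u} [CommRing R]

/-- `I` is generated by `n` of its elements near the prime `𝔮` -/
def LocGen (I 𝔮 : Ideal R) (n : ℕ) : Prop :=
  ∃ (s : R) (v : Fin n → R), s ∉ 𝔮 ∧ (∀ i, v i ∈ I) ∧ ∀ x ∈ I, s * x ∈ Ideal.span (Set.range v)

theorem LocGen.mono {I 𝔮 : Ideal R} {n m : ℕ} (h : LocGen I 𝔮 n) (hnm : n ≤ m) :
    LocGen I 𝔮 m := by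
  obtain ⟨s, v, hs, hv, hx⟩ := h
  refine ⟨s, fun i => if h : (i : ℕ) < n then v ⟨i, h⟩ else 0, hs, ?_, ?_⟩
  · intro i
    by_cases h : (i : ℕ) < n
    · simp only [h, dite_true]
      exact hv _
    · simp only [h, dite_false]
      exact I.zero_mem
  · intro x hxI
    refine Ideal.span_mono ?_ (hx x hxI)
    rintro _ ⟨i, rfl⟩
    exact ⟨⟨i, lt_of_lt_of_le i.2 hnm⟩, by simp [i.2]⟩

theorem locGen_of_fg {I : Ideal R} (hI : I.FG) (𝔮 : Ideal R) (h𝔮 : 𝔮 ≠ ⊤) :
    ∃ n, LocGen I 𝔮 n := by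
  obtain ⟨n, v, hv⟩ := Submodule.fg_iff_exists_fin_generating_family.1 hI
  refine ⟨n, 1, v, ?_, ?_, ?_⟩
  · exact fun h => h𝔮 ((Ideal.eq_top_iff_one _).2 h)
  · intro i
    rw [← hv]
    exact Submodule.subset_span ⟨i, rfl⟩
  · intro x hx
    rw [one_mul]
    change x ∈ Submodule.span R _
    rw [hv]
    exact hx

theorem LocGen.pred {I 𝔮 : Ideal R} [h𝔮 : 𝔮.IsPrime] {m : ℕ} (s : R) (v : Fin (m + 1) → R)
    (hs : s ∉ 𝔮) (hv : ∀ i, v i ∈ I) (hx : ∀ x ∈ I, s * x ∈ Ideal.span (Set.range v))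
    (a : Fin (m + 1) → R) (ha : ∑ i, a i * v i = 0) (i₀ : Fin (m + 1)) (hi₀ : a i₀ ∉ 𝔮) :
    LocGen I 𝔮 m := by
  refine ⟨a i₀ * s, fun i => v (i₀.succAbove i), ?_, fun i => hv _, ?_⟩
  · exact fun h => (h𝔮.mem_or_mem h).elim hi₀ hs
  · intro x hxI
    obtain ⟨c, hc⟩ := Ideal.mem_span_range_iff_exists_fun.1 (hx x hxI)
    rw [Ideal.mem_span_range_iff_exists_fun]
    refine ⟨fun i => c (i₀.succAbove i) * a i₀ - c i₀ * a (i₀.succAbove i), ?_⟩
    rw [Fin.sum_univ_succAbove _ i₀] at hc ha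
    have h1 : ∑ i, (c (i₀.succAbove i) * a i₀ - c i₀ * a (i₀.succAbove i)) * v (i₀.succAbove i) =
        a i₀ * ∑ i, c (i₀.succAbove i) * v (i₀.succAbove i) -
          c i₀ * ∑ i, a (i₀.succAbove i) * v (i₀.succAbove i) := by
      rw [Finset.mul_sum, Finset.mul_sum, ← Finset.sum_sub_distrib]
      refine Finset.sum_congr rfl fun i _ => ?_
      ring
    rw [h1]
    linear_combination a i₀ * hc - c i₀ * ha

/-- a minimal local generating family: all relations have coefficients in `𝔮` -/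
theorem exists_min {I : Ideal R} (hI : I.FG) (𝔮 : Ideal R) [h𝔮 : 𝔮.IsPrime] :
    ∃ (m : ℕ) (s : R) (v : Fin m → R), s ∉ 𝔮 ∧ (∀ i, v i ∈ I) ∧
      (∀ x ∈ I, s * x ∈ Ideal.span (Set.range v)) ∧ (∀ n, LocGen I 𝔮 n → m ≤ n) ∧
      ∀ a : Fin m → R, ∑ i, a i * v i = 0 → ∀ i, a i ∈ 𝔮 := by
  classical
  have hex := locGen_of_fg hI 𝔮 h𝔮.ne_top
  have key : ∀ m, LocGen I 𝔮 m → (∀ n, LocGen I 𝔮 n → m ≤ n) →
      ∃ (s : R) (v : Fin m → R), s ∉ 𝔮 ∧ (∀ i, v i ∈ I) ∧
      (∀ x ∈ I, s * x ∈ Ideal.span (Set.range v)) ∧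
      ∀ a : Fin m → R, ∑ i, a i * v i = 0 → ∀ i, a i ∈ 𝔮 := by
    intro m hm hmin
    obtain ⟨s, v, hs, hv, hx⟩ := hm
    refine ⟨s, v, hs, hv, hx, ?_⟩
    intro a ha i
    by_contra hi
    cases m with
    | zero => exact i.elim0
    | succ m' =>
      have := hmin m' (LocGen.pred s v hs hv hx a ha i hi)
      omega
  obtain ⟨s, v, h1, h2, h3, h4⟩ := key (Nat.find hex) (Nat.find_spec hex)
    (fun n hn => Nat.find_min' hex hn)
  exact ⟨_, s, v, h1, h2, h3, fun n hn => Nat.find_min' hex hn, h4⟩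

/-- **Number of local generators and flat base change.** -/
theorem locGen_of_flat {T : Type u} [CommRing T] (ψ : R →+* T) (hψ : ψ.Flat) {I : Ideal R}
    (hI : I.FG) (𝔮T : Ideal T) [h𝔮T : 𝔮T.IsPrime] {b : ℕ} (z : Fin b → T)
    (hz : Ideal.span (Set.range z) = I.map ψ) :
    LocGen I (𝔮T.comap ψ) b := by
  classical
  obtain ⟨m, s, v, hs, hv, hx, hmin, hrel⟩ := exists_min hI (𝔮T.comap ψ)
  refine LocGen.mono ⟨s, v, hs, hv, hx⟩ ?_
  let _ : Algebra R T := ψ.toAlgebra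
  have hflat : Module.Flat R T := hψ
  -- relations among `ψ ∘ v` over `T` have coefficients in `𝔮T`
  have hrelT : ∀ ρ : Fin m → T, ∑ i, ρ i * ψ (v i) = 0 → ∀ i, ρ i ∈ 𝔮T := by
    intro ρ hρ i
    have h0 : ∑ i, v i • ρ i = 0 := by
      rw [← hρ]
      refine Finset.sum_congr rfl fun i _ => ?_
      rw [Algebra.smul_def, mul_comm]
      rfl
    obtain ⟨k, a, y, hxy, haj⟩ :=
      Module.Flat.isTrivialRelation_of_sum_smul_eq_zero (R := R) (M := T) (f := v) (x := ρ) h0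
    rw [hxy i]
    refine Ideal.sum_mem _ fun j _ => ?_
    rw [Algebra.smul_def]
    refine Ideal.mul_mem_right _ _ ?_
    have h1 : a i j ∈ 𝔮T.comap ψ :=
      hrel (fun i => a i j) (by rw [← haj j]; exact Finset.sum_congr rfl fun i _ => mul_comm _ _) i
    exact h1
  -- `ψ s • (I T) ⊆ (ψ ∘ v)`
  have hsT : ∀ y ∈ I.map ψ, ψ s * y ∈ Ideal.span (Set.range (fun i => ψ (v i))) := by
    intro y hy
    refine Submodule.span_induction (p := fun y _ => ψ s * y ∈
      Ideal.span (Set.range (fun i => ψ (v i)))) ?_ ?_ ?_ ?_ hy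
    · rintro _ ⟨x, hxI, rfl⟩
      rw [← map_mul]
      have h1 : ψ (s * x) ∈ (Ideal.span (Set.range v)).map ψ := Ideal.mem_map_of_mem ψ (hx x hxI)
      rwa [Ideal.map_span, ← Set.range_comp] at h1
    · simp
    · intro x y _ _ hx' hy'
      rw [mul_add]
      exact Ideal.add_mem _ hx' hy'
    · intro c x _ hx'
      rw [smul_eq_mul, mul_left_comm]
      exact Ideal.mul_mem_left _ _ hx'
  obtain ⟨B, hB⟩ := exists_matrix (fun j => ψ s * z j) (fun i => ψ (v i))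
    (fun j => hsT _ (by rw [← hz]; exact Ideal.subset_span ⟨j, rfl⟩))
  obtain ⟨A, hA⟩ := exists_matrix (fun i => ψ (v i)) z
    (fun i => by rw [hz]; exact Ideal.mem_map_of_mem ψ (hv i))
  -- `(A B - ψ s) (ψ ∘ v) = 0`
  have hAB : ∀ i l, (A * B) i l - ψ s * (1 : Matrix (Fin m) (Fin m) T) i l ∈ 𝔮T := by
    intro i
    refine hrelT (fun l => (A * B) i l - ψ s * (1 : Matrix (Fin m) (Fin m) T) i l) ?_
    have h1 : ∑ l, (A * B) i l * ψ (v l) = ψ s * ψ (v i) := by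
      have h2 : (A * B).mulVec (fun i => ψ (v i)) = fun i => ψ s * ψ (v i) := by
        rw [← Matrix.mulVec_mulVec, hB]
        have h3 : (fun j => ψ s * z j) = ψ s • z := rfl
        rw [h3, Matrix.mulVec_smul, hA]
        rfl
      exact congrFun h2 i
    have h2 : ∑ l, (1 : Matrix (Fin m) (Fin m) T) i l * ψ (v l) = ψ (v i) :=
      congrFun (Matrix.one_mulVec (fun i => ψ (v i))) i
    simp only [sub_mul, Finset.sum_sub_distrib, h1, mul_assoc, ← Finset.mul_sum, h2, sub_self]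
  -- pass to the domain `T ⧸ 𝔮T`
  haveI : IsDomain (T ⧸ 𝔮T) := Ideal.Quotient.isDomain 𝔮T
  have hone : (A.map (Ideal.Quotient.mk 𝔮T)) * (B.map (Ideal.Quotient.mk 𝔮T)) =
      (Ideal.Quotient.mk 𝔮T (ψ s)) • (1 : Matrix (Fin m) (Fin m) (T ⧸ 𝔮T)) := by
    rw [← Matrix.map_mul]
    ext i l
    rw [Matrix.map_apply, Matrix.smul_apply, smul_eq_mul]
    have h1 := hAB i l
    rw [← Ideal.Quotient.eq_zero_iff_mem, map_sub, sub_eq_zero, map_mul] at h1
    rw [h1, Matrix.one_apply, Matrix.one_apply]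
    split_ifs <;> simp
  have hc : Ideal.Quotient.mk 𝔮T (ψ s) ≠ 0 := by
    intro h
    exact hs (Ideal.mem_comap.2 (Ideal.Quotient.eq_zero_iff_mem.1 h))
  have hinj : Function.Injective ((B.map (Ideal.Quotient.mk 𝔮T)).mulVecLin) := by
    rw [← LinearMap.ker_eq_bot, LinearMap.ker_eq_bot']
    intro x hx0
    have h1 := congrArg ((A.map (Ideal.Quotient.mk 𝔮T)).mulVec) hx0
    simp only [Matrix.mulVecLin_apply, Matrix.mulVec_mulVec, hone, Matrix.mulVec_zero,
      Matrix.smul_mulVec, Matrix.one_mulVec] at h1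
    funext i
    have h2 := congrFun h1 i
    simp only [Pi.smul_apply, smul_eq_mul, Pi.zero_apply, mul_eq_zero] at h2
    exact h2.resolve_left hc
  exact le_of_fin_injective (T ⧸ 𝔮T) _ hinj

end Groth.Agent.R2.H7.KosMu
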