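import Mathlib
import Groth.Agent.R2.H7KosIdeal
import Groth.Agent.R2.H7KosFam
import Groth.Agent.R2.H7KosMu

/-!
# Faithfully flat descent of Koszul-regular ideals (helper7)

Main result `isKRI_of_map_faithfullyFlat`: if `φ : R → R'` is faithfully flat and `I R'` is a
Koszul-regular ideal then so is `I` (Stacks 068N for Koszul-regular ideals, without Noetherian
hypotheses).  The proof: `I` is finitely generated by descent; near a prime `𝔭 ⊇ I` choose a minimal
local generating family `u` (`N` elements).  The set of primes of `V(I)` at which fewer than `N`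
generators suffice is closed because its preimage in `Spec R'` is (local generating numbers are read
off from the lengths of Koszul-regular generating sequences upstairs, `Chart`) and `Spec R' → Spec R`
is a quotient map.  Away from that set all local Koszul-regular generating sequences upstairs have
length `N`, so `u` is Koszul-regular locally upstairs, and descends by `KosFam.kr_of_flat_family`.
-/

set_option autoImplicit false
universe u

namespace Groth.Agent.R2.H7.KosDesc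

open Groth.Agent.R2.H7.KosBasic Groth.Agent.R2.H7.KosIdeal Groth.Agent.R2.H7.KosFam
open Groth.Agent.R2.H7.KosLen Groth.Agent.R2.H7.KosMu Groth.Agent.R2.H7.KosExch

variable {R : Type u} [CommRing R]

/-- a Koszul-regular ideal is finitely generated -/
theorem fg_of_isKRI {J : Ideal R} (hJ : LCI.IsKoszulRegularIdeal J) : J.FG := by
  rw [isKRI_iff] at hJ
  let t : Set R := {f | (J.map (algebraMap R (Localization.Away f))).FG}
  refine Ideal.fg_of_localizationSpan t ?_ (fun g => g.2)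
  by_contra hne
  obtain ⟨𝔪, h𝔪, hle⟩ := Ideal.exists_le_maximal _ hne
  have ht𝔪 : ∀ f ∈ t, f ∈ 𝔪 := fun f hf => hle (Ideal.subset_span hf)
  by_cases hJ𝔪 : J ≤ 𝔪
  · obtain ⟨f, hf, l, -, hl⟩ := hJ 𝔪 h𝔪.isPrime hJ𝔪
    apply hf
    apply ht𝔪
    change (J.map (algebraMap R (Localization.Away f))).FG
    rw [hl]
    classical
    refine ⟨l.toFinset, ?_⟩
    change Ideal.span _ = Ideal.span _
    congr 1
    ext r
    simp
  · obtain ⟨x, hxJ, hx𝔪⟩ := Set.not_subset.1 hJ𝔪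
    apply hx𝔪
    apply ht𝔪
    change (J.map (algebraMap R (Localization.Away x))).FG
    have : J.map (algebraMap R (Localization.Away x)) = ⊤ :=
      Ideal.eq_top_of_isUnit_mem _ (Ideal.mem_map_of_mem _ hxJ)
        (IsLocalization.Away.algebraMap_isUnit x)
    rw [this]
    exact ⟨{1}, by simp⟩

/-- generation after a flat extension in which `g` becomes a unit -/
theorem span_map_of_isUnit {T : Type u} [CommRing T] (ψ : R →+* T) {I : Ideal R} {g : R}
    (hg : IsUnit (ψ g)) {m : ℕ} (u : Fin m → R) (hu : ∀ i, u i ∈ I)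
    (hx : ∀ x ∈ I, g * x ∈ Ideal.span (Set.range u)) :
    Ideal.span (Set.range (fun i => ψ (u i))) = I.map ψ := by
  apply le_antisymm
  · rw [Ideal.span_le]
    rintro _ ⟨i, rfl⟩
    exact Ideal.mem_map_of_mem ψ (hu i)
  · rw [Ideal.map_le_iff_le_comap]
    intro x hxI
    rw [Ideal.mem_comap]
    have h1 : ψ (g * x) ∈ (Ideal.span (Set.range u)).map ψ := Ideal.mem_map_of_mem ψ (hx x hxI)
    rw [Ideal.map_span, ← Set.range_comp, map_mul] at h1
    obtain ⟨c, hc⟩ := hg.exists_left_inv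
    have h2 := Ideal.mul_mem_left _ c h1
    rwa [← mul_assoc, hc, one_mul] at h2

/-- localising a flat algebra with a marked prime -/
theorem away_data {T : Type u} [CommRing T] (ψ : R →+* T) (hψ : ψ.Flat) (𝔮T : Ideal T)
    [h𝔮T : 𝔮T.IsPrime] (t : T) (ht : t ∉ 𝔮T) :
    (algebraMap T (Localization.Away t)).Flat ∧
    ((algebraMap T (Localization.Away t)).comp ψ).Flat ∧
    (𝔮T.map (algebraMap T (Localization.Away t))).IsPrime ∧
    (𝔮T.map (algebraMap T (Localization.Away t))).comap (algebraMap T (Localization.Away t)) =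
      𝔮T := by
  have hα : (algebraMap T (Localization.Away t)).Flat :=
    (RingHom.flat_algebraMap_iff).2 (IsLocalization.flat _ (Submonoid.powers t))
  have hd : Disjoint (Submonoid.powers t : Set T) (𝔮T : Set T) := by
    rw [Set.disjoint_left]
    rintro _ ⟨k, rfl⟩ hk
    exact ht (h𝔮T.mem_of_pow_mem k hk)
  exact ⟨hα, RingHom.Flat.comp hψ hα,
    IsLocalization.isPrime_of_isPrime_disjoint (Submonoid.powers t) _ 𝔮T h𝔮T hd,
    IsLocalization.under_map_of_isPrime_disjoint (Submonoid.powers t) _ h𝔮T hd⟩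

/-- a flat chart of `I` at the prime `𝔮`: a flat `R`-algebra `T` with a prime over `𝔮` in which `I T`
is generated by a Koszul-regular sequence of length `n` -/
def Chart (I 𝔮 : Ideal R) (n : ℕ) : Prop :=
  ∃ (T : Type u) (_ : CommRing T) (ψ : R →+* T) (𝔮T : Ideal T) (l : List T),
    ψ.Flat ∧ 𝔮T.IsPrime ∧ 𝔮T.comap ψ = 𝔮 ∧ LCI.IsKoszulRegularSeq T l ∧
      I.map ψ = Ideal.ofList l ∧ l.length = n

theorem ofFn_map_get {T T' : Type u} (α : T → T') (l : List T) :
    List.ofFn (fun i : Fin l.length => α (l.get i)) = l.map α := by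
  have h : List.map α (List.ofFn (fun i : Fin l.length => l.get i)) =
      List.ofFn (α ∘ fun i : Fin l.length => l.get i) := List.map_ofFn
  rw [List.ofFn_get] at h
  exact h.symm

theorem Chart.locGen {I 𝔮 : Ideal R} {n : ℕ} (h : Chart I 𝔮 n) (hI : I.FG) : LocGen I 𝔮 n := by
  obtain ⟨T, _, ψ, 𝔮T, l, hψ, h𝔮T, hcomap, hl, hIl, rfl⟩ := h
  haveI := h𝔮T
  have h1 := locGen_of_flat ψ hψ hI 𝔮T (fun i : Fin l.length => l.get i)
    (by rw [← ofList_ofFn, List.ofFn_get, hIl])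
  rwa [hcomap] at h1

theorem Chart.le_of_locGen {I 𝔮 : Ideal R} {n m : ℕ} (h : Chart I 𝔮 n) (hI𝔮 : I ≤ 𝔮)
    (hm : LocGen I 𝔮 m) : n ≤ m := by
  obtain ⟨T, _, ψ, 𝔮T, l, hψ, h𝔮T, hcomap, hl, hIl, rfl⟩ := h
  obtain ⟨s, v, hs, hv, hx⟩ := hm
  haveI := h𝔮T
  have hst : ψ s ∉ 𝔮T := by
    rw [← hcomap] at hs
    exact hs
  obtain ⟨hα, hflat', hprime', hcm⟩ := away_data ψ hψ 𝔮T (ψ s) hst
  obtain ⟨α, hαdef⟩ : ∃ α : T →+* Localization.Away (ψ s), α = algebraMap T _ := ⟨_, rfl⟩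
  rw [← hαdef] at hα hflat' hprime' hcm
  have hl' := kr_map_of_flat α hα l hl
  have hIl' : I.map (α.comp ψ) = Ideal.ofList (l.map α) := by
    rw [← Ideal.map_map, hIl, Ideal.map_ofList]
  have hunit : IsUnit ((α.comp ψ) s) := by
    rw [hαdef]
    exact IsLocalization.Away.algebraMap_isUnit (ψ s)
  have hspan := span_map_of_isUnit (α.comp ψ) hunit v hv hx
  have hne : I.map (α.comp ψ) ≠ ⊤ := by
    intro htop
    have hle : I.map (α.comp ψ) ≤ 𝔮T.map α := by
      rw [Ideal.map_le_iff_le_comap, ← Ideal.comap_comap, hcm, hcomap]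
      exact hI𝔮
    exact hprime'.ne_top (top_le_iff.1 (htop ▸ hle))
  have hw : List.ofFn (fun i : Fin l.length => α (l.get i)) = l.map α := ofFn_map_get α l
  have hspanw : Ideal.span (Set.range (fun i : Fin l.length => α (l.get i))) =
      I.map (α.comp ψ) := by
    rw [← ofList_ofFn, hw, hIl']
  exact length_le_of_span_eq (fun i : Fin l.length => α (l.get i)) (by rw [hw]; exact hl')
    (fun i => (α.comp ψ) (v i)) (by rw [hspan, hspanw]) (by rw [hspanw]; exact hne)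

theorem Chart.exists_kr {I 𝔮 : Ideal R} {N : ℕ} (h : Chart I 𝔮 N) (hI𝔮 : I ≤ 𝔮) (u : Fin N → R)
    (hu : ∀ i, u i ∈ I) (g : R) (hg : g ∉ 𝔮) (hx : ∀ x ∈ I, g * x ∈ Ideal.span (Set.range u)) :
    ∃ (T : Type u) (_ : CommRing T) (ψ : R →+* T) (𝔮T : Ideal T), ψ.Flat ∧ 𝔮T.IsPrime ∧
      𝔮T.comap ψ = 𝔮 ∧ IsUnit (ψ g) ∧
      LCI.IsKoszulRegularSeq T (List.ofFn (fun i => ψ (u i))) := by
  obtain ⟨T, _, ψ, 𝔮T, l, hψ, h𝔮T, hcomap, hl, hIl, rfl⟩ := h
  haveI := h𝔮T
  have hgt : ψ g ∉ 𝔮T := by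
    rw [← hcomap] at hg
    exact hg
  obtain ⟨hα, hflat', hprime', hcm⟩ := away_data ψ hψ 𝔮T (ψ g) hgt
  obtain ⟨α, hαdef⟩ : ∃ α : T →+* Localization.Away (ψ g), α = algebraMap T _ := ⟨_, rfl⟩
  rw [← hαdef] at hα hflat' hprime' hcm
  have hl' := kr_map_of_flat α hα l hl
  have hIl' : I.map (α.comp ψ) = Ideal.ofList (l.map α) := by
    rw [← Ideal.map_map, hIl, Ideal.map_ofList]
  have hunit : IsUnit ((α.comp ψ) g) := by
    rw [hαdef]
    exact IsLocalization.Away.algebraMap_isUnit (ψ g)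
  have hspan := span_map_of_isUnit (α.comp ψ) hunit u hu hx
  have hw : List.ofFn (fun i : Fin l.length => α (l.get i)) = l.map α := ofFn_map_get α l
  have hspanw : Ideal.span (Set.range (fun i : Fin l.length => α (l.get i))) =
      I.map (α.comp ψ) := by
    rw [← ofList_ofFn, hw, hIl']
  have hle : Ideal.span (Set.range (fun i : Fin l.length => α (l.get i))) ≤ 𝔮T.map α := by
    rw [hspanw, Ideal.map_le_iff_le_comap, ← Ideal.comap_comap, hcm, hcomap]
    exact hI𝔮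
  haveI := hprime'
  obtain ⟨h, hh, hkr⟩ := exists_kr_away_of_span_eq (fun i : Fin l.length => α (l.get i))
    (fun i => (α.comp ψ) (u i)) (by rw [hw]; exact hl') (by rw [hspan, hspanw]) (𝔮T.map α) hle
  obtain ⟨hβ, hflat'', hprime'', hcm'⟩ := away_data (α.comp ψ) hflat' (𝔮T.map α) h hh
  refine ⟨Localization.Away h, inferInstance,
    (algebraMap _ (Localization.Away h)).comp (α.comp ψ), _, hflat'', hprime'', ?_, ?_, hkr⟩
  · rw [← Ideal.comap_comap, hcm', ← Ideal.comap_comap, hcm, hcomap]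
  · exact hunit.map (algebraMap (Localization.Away (ψ g)) (Localization.Away h))

/-- charts from a Koszul-regular extension, uniformly on a basic open -/
theorem exists_chart {R' : Type u} [CommRing R'] (φ : R →+* R') (hφ : φ.Flat) {I : Ideal R}
    (hK : LCI.IsKoszulRegularIdeal (I.map φ)) (𝔮' : Ideal R') (h𝔮' : 𝔮'.IsPrime)
    (hle : I.map φ ≤ 𝔮') :
    ∃ (n : ℕ) (f : R'), f ∉ 𝔮' ∧
      ∀ (𝔮'' : Ideal R'), 𝔮''.IsPrime → f ∉ 𝔮'' → Chart I (𝔮''.comap φ) n := by
  rw [isKRI_iff] at hK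
  obtain ⟨f, hf, l, hl, hIl⟩ := hK 𝔮' h𝔮' hle
  refine ⟨l.length, f, hf, ?_⟩
  intro 𝔮'' h𝔮'' hf''
  haveI := h𝔮''
  obtain ⟨hα, hflat, hprime, hcm⟩ := away_data φ hφ 𝔮'' f hf''
  exact ⟨Localization.Away f, inferInstance, (algebraMap R' _).comp φ, _, l, hflat, hprime,
    by rw [← Ideal.comap_comap, hcm], hl, by rw [← Ideal.map_map, hIl], rfl⟩

/-- **Faithfully flat descent of Koszul-regular ideals.** -/
theorem isKRI_of_map_faithfullyFlat {R' : Type u} [CommRing R'] (φ : R →+* R')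
    (hφ : φ.FaithfullyFlat) (I : Ideal R) (hK : LCI.IsKoszulRegularIdeal (I.map φ)) :
    LCI.IsKoszulRegularIdeal I := by
  classical
  have hflat : φ.Flat := hφ.flat
  have hsurj : Function.Surjective (PrimeSpectrum.comap φ) :=
    (RingHom.FaithfullyFlat.iff_flat_and_comap_surjective.1 hφ).2
  have hIfg : I.FG := by
    have h1 := fg_of_isKRI hK
    let _ : Algebra R R' := φ.toAlgebra
    have : Module.FaithfullyFlat R R' := hφ
    exact Ideal.FG.of_FG_map_of_faithfullyFlat (S := R') h1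
  rw [isKRI_iff]
  intro 𝔭 h𝔭 hI𝔭
  haveI := h𝔭
  obtain ⟨N, s, u, hs, hu, hx, hmin, -⟩ := exists_min hIfg 𝔭
  -- the bad set
  obtain ⟨B, hBdef⟩ : ∃ B : Set (PrimeSpectrum R),
      B = {𝔮 | I ≤ 𝔮.asIdeal ∧ ∃ n, n < N ∧ LocGen I 𝔮.asIdeal n} := ⟨_, rfl⟩
  have hq : Topology.IsQuotientMap (PrimeSpectrum.comap φ) :=
    PrimeSpectrum.isQuotientMap_of_generalizingMap hsurj hflat.generalizingMap_comap
  have hBclosed : IsClosed B := by
    rw [← hq.isClosed_preimage, ← isOpen_compl_iff, isOpen_iff_forall_mem_open]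
    intro 𝔮' h𝔮'
    have h𝔮'B : ¬ (I ≤ 𝔮'.asIdeal.comap φ ∧ ∃ n, n < N ∧ LocGen I (𝔮'.asIdeal.comap φ) n) := by
      intro h
      apply h𝔮'
      change PrimeSpectrum.comap φ 𝔮' ∈ B
      rw [hBdef]
      exact h
    by_cases hle : I.map φ ≤ 𝔮'.asIdeal
    · obtain ⟨n, f, hf, hchart⟩ := exists_chart φ hflat hK 𝔮'.asIdeal 𝔮'.2 hle
      have hc := hchart 𝔮'.asIdeal 𝔮'.2 hf
      have hnN : N ≤ n := by
        by_contra hlt
        push Not at hlt
        exact h𝔮'B ⟨Ideal.map_le_iff_le_comap.1 hle, n, hlt, hc.locGen hIfg⟩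
      refine ⟨PrimeSpectrum.basicOpen f, ?_, (PrimeSpectrum.basicOpen f).2, hf⟩
      intro 𝔮'' hf'' hB
      have hB' : PrimeSpectrum.comap φ 𝔮'' ∈ B := hB
      rw [hBdef] at hB'
      obtain ⟨hI'', m, hm, hloc⟩ := hB'
      have := (hchart 𝔮''.asIdeal 𝔮''.2 hf'').le_of_locGen hI'' hloc
      omega
    · have hex : ∃ x ∈ I, φ x ∉ 𝔮'.asIdeal := by
        by_contra hcon
        push Not at hcon
        exact hle (Ideal.map_le_iff_le_comap.2 (fun x hx => hcon x hx))
      obtain ⟨x, hxI, hx'⟩ := hex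
      refine ⟨PrimeSpectrum.basicOpen (φ x), ?_, (PrimeSpectrum.basicOpen (φ x)).2, hx'⟩
      intro 𝔮'' hx'' hB
      have hB' : PrimeSpectrum.comap φ 𝔮'' ∈ B := hB
      rw [hBdef] at hB'
      exact hx'' (hB'.1 hxI)
  have h𝔭B : (⟨𝔭, h𝔭⟩ : PrimeSpectrum R) ∉ B := by
    rw [hBdef]
    rintro ⟨-, n, hn, hloc⟩
    have := hmin n hloc
    omega
  obtain ⟨g₂, hg₂, hg₂B⟩ : ∃ g₂ : R, g₂ ∉ 𝔭 ∧
      ∀ 𝔮 : PrimeSpectrum R, g₂ ∉ 𝔮.asIdeal → 𝔮 ∉ B := by
    obtain ⟨_, ⟨g₂, rfl⟩, hmem, hsub⟩ :=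
      PrimeSpectrum.isTopologicalBasis_basic_opens.exists_subset_of_mem_open
        (show (⟨𝔭, h𝔭⟩ : PrimeSpectrum R) ∈ Bᶜ from h𝔭B) hBclosed.isOpen_compl
    exact ⟨g₂, hmem, fun 𝔮 h𝔮 => hsub h𝔮⟩
  obtain ⟨g, hgdef⟩ : ∃ g : R, g = s * g₂ := ⟨_, rfl⟩
  have hg : g ∉ 𝔭 := by
    rw [hgdef]
    exact fun h => (h𝔭.mem_or_mem h).elim hs hg₂
  have hxg : ∀ x ∈ I, g * x ∈ Ideal.span (Set.range u) := fun x hxI => by
    have h1 := Ideal.mul_mem_left _ g₂ (hx x hxI)
    rw [← mul_assoc, mul_comm g₂ s, ← hgdef] at h1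
    exact h1
  obtain ⟨α, hαdef⟩ : ∃ α : R →+* Localization.Away g, α = algebraMap R _ := ⟨_, rfl⟩
  have hαg : IsUnit (α g) := by
    rw [hαdef]
    exact IsLocalization.Away.algebraMap_isUnit g
  refine ⟨g, hg, (List.ofFn u).map α, ?_, ?_⟩
  · apply kr_of_flat_family
    intro 𝔪 h𝔪
    have h𝔪p : 𝔪.IsPrime := h𝔪.isPrime
    obtain ⟨𝔮, h𝔮def⟩ : ∃ 𝔮 : Ideal R, 𝔮 = 𝔪.comap α := ⟨_, rfl⟩
    have h𝔮 : 𝔮.IsPrime := by
      rw [h𝔮def]
      exact Ideal.comap_isPrime α 𝔪
    have hg𝔮 : g ∉ 𝔮 := by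
      rw [h𝔮def, Ideal.mem_comap]
      intro h
      exact h𝔪p.ne_top (Ideal.eq_top_of_isUnit_mem _ h hαg)
    have hs𝔮 : g₂ ∉ 𝔮 := by
      intro h
      apply hg𝔮
      rw [hgdef]
      exact Ideal.mul_mem_left _ _ h
    have h𝔪eq : 𝔮.map α = 𝔪 := by
      rw [h𝔮def, hαdef]
      exact IsLocalization.map_under (Submonoid.powers g) _ 𝔪
    by_cases hI𝔮 : I ≤ 𝔮
    · obtain ⟨𝔮', h𝔮'comap⟩ := hsurj ⟨𝔮, h𝔮⟩
      have hcm : 𝔮'.asIdeal.comap φ = 𝔮 := congrArg PrimeSpectrum.asIdeal h𝔮'comap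
      have hle' : I.map φ ≤ 𝔮'.asIdeal := by
        rw [Ideal.map_le_iff_le_comap, hcm]
        exact hI𝔮
      obtain ⟨n, f, hf, hchart⟩ := exists_chart φ hflat hK 𝔮'.asIdeal 𝔮'.2 hle'
      have hc : Chart I 𝔮 n := by
        have := hchart 𝔮'.asIdeal 𝔮'.2 hf
        rwa [hcm] at this
      have hn : n = N := by
        apply le_antisymm
        · exact hc.le_of_locGen hI𝔮 ⟨g, u, hg𝔮, hu, hxg⟩
        · by_contra hlt
          push Not at hlt
          apply hg₂B ⟨𝔮, h𝔮⟩ hs𝔮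
          rw [hBdef]
          exact ⟨hI𝔮, n, hlt, hc.locGen hIfg⟩
      subst hn
      obtain ⟨T, _, ψ, 𝔮T, hψ, h𝔮T, hcomap, hunit, hkr⟩ := hc.exists_kr hI𝔮 u hu g hg𝔮 hxg
      let ψ' : Localization.Away g →+* T := IsLocalization.Away.lift g hunit
      have hψ'α : ψ'.comp α = ψ := by
        rw [hαdef]
        exact IsLocalization.Away.lift_comp g hunit
      refine ⟨T, inferInstance, ψ', ?_, ?_, ?_⟩
      · let _ : Algebra R T := ψ.toAlgebra
        let _ : Algebra (Localization.Away g) T := ψ'.toAlgebra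
        have : IsScalarTower R (Localization.Away g) T :=
          IsScalarTower.of_algebraMap_eq (fun r => by
            change ψ r = ψ' (algebraMap R _ r)
            rw [← hψ'α, hαdef]
            rfl)
        have hflatR : Module.Flat R T := hψ
        exact (Module.flat_iff_of_isLocalization (Localization.Away g) (Submonoid.powers g) T).2
          hflatR
      · intro htop
        have h1 : 𝔪 ≤ 𝔮T.comap ψ' := by
          rw [← h𝔪eq, Ideal.map_le_iff_le_comap, Ideal.comap_comap, hψ'α, hcomap]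
        have h2 : 𝔪.map ψ' ≤ 𝔮T := Ideal.map_le_iff_le_comap.2 h1
        exact h𝔮T.ne_top (top_le_iff.1 (htop ▸ h2))
      · rw [List.map_map, List.map_ofFn]
        have h3 : ((ψ' ∘ α) ∘ u) = fun i => ψ (u i) := by
          funext i
          change (ψ'.comp α) (u i) = _
          rw [hψ'α]
        rw [h3]
        exact hkr
    · -- some `u i` is a unit near `𝔪`
      obtain ⟨x, hxI, hx𝔮⟩ := Set.not_subset.1 hI𝔮
      have hgx : g * x ∉ 𝔮 := fun h => (h𝔮.mem_or_mem h).elim hg𝔮 hx𝔮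
      have hex : ∃ i, u i ∉ 𝔮 := by
        by_contra hcon
        push Not at hcon
        apply hgx
        have : Ideal.span (Set.range u) ≤ 𝔮 := by
          rw [Ideal.span_le]
          rintro _ ⟨i, rfl⟩
          exact hcon i
        exact this (hxg x hxI)
      obtain ⟨i₀, hi₀⟩ := hex
      have hαi₀ : α (u i₀) ∉ 𝔮.map α := by
        rw [h𝔪eq]
        intro h
        apply hi₀
        rw [h𝔮def]
        exact h
      rw [h𝔪eq] at hαi₀
      obtain ⟨hβ, -, hprime, hcm⟩ := away_data (RingHom.id (Localization.Away g))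
        (RingHom.Flat.of_bijective Function.bijective_id) 𝔪 (α (u i₀)) hαi₀
      refine ⟨Localization.Away (α (u i₀)), inferInstance, algebraMap _ _, hβ, hprime.ne_top, ?_⟩
      rw [List.map_map, List.map_ofFn]
      exact kr_of_isUnit _ i₀ (IsLocalization.Away.algebraMap_isUnit (α (u i₀)))
  · rw [← Ideal.map_ofList, ofList_ofFn, Ideal.map_span, ← Set.range_comp, ← hαdef]
    exact (span_map_of_isUnit α hαg u hu hxg).symm

end Groth.Agent.R2.H7.KosDesc
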