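import Mathlib
import Groth.Agent.R2.H32LciL
import Groth.Agent.R2.H7KosDesc

/-!
# The conormal module of a Koszul-regular ideal is finite projective (no Noetherian hypothesis)

helper32's `R2/H32LciL` proves flatness in general and projectivity over a Noetherian ring.  Here
we add finite presentation (locally free of finite rank on a finite basic open cover), hence
projectivity in general.

* `finite_free_baseChange_cotangent`
* `finitePresentation_cotangent`, `projective_cotangent`, `finite_cotangent`
* `Extension` forms: `finite_extension_cotangent`, `projective_extension_cotangent`.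
-/

set_option autoImplicit false

universe u

open TensorProduct

namespace Groth.Agent.R2.H6.KRCot

variable {R : Type u} [CommRing R] (I : Ideal R)

/-- after inverting `g`, if `I` becomes generated by a Koszul-regular sequence then the base change
of the conormal module is finitely presented. -/
theorem finitePresentation_baseChange_cotangent (g : R) (l : List (Localization.Away g))
    (hl : LCI.IsKoszulRegularSeq (Localization.Away g) l)
    (hspan : I.map (algebraMap R (Localization.Away g)) = Ideal.span {x | x ∈ l}) :
    Module.FinitePresentation (Localization.Away g ⧸ I.map (algebraMap R (Localization.Away g)))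
      ((Localization.Away g ⧸ I.map (algebraMap R (Localization.Away g))) ⊗[R ⧸ I] I.Cotangent) := by
  obtain ⟨e⟩ := (Groth.Agent.Lib.Helper19.CotBC.cotangent_baseChange (R' := Localization.Away g) I).1
  suffices h : Module.FinitePresentation
      (Localization.Away g ⧸ I.map (algebraMap R (Localization.Away g)))
      (I.map (algebraMap R (Localization.Away g))).Cotangent from
    Module.FinitePresentation.of_equiv e.symm
  by_cases htop : I.map (algebraMap R (Localization.Away g)) = ⊤
  · have : Subsingleton (Localization.Away g ⧸ I.map (algebraMap R (Localization.Away g))) :=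
      Ideal.Quotient.subsingleton_iff.mpr htop
    have : Subsingleton (I.map (algebraMap R (Localization.Away g))).Cotangent :=
      Module.subsingleton (Localization.Away g ⧸ I.map (algebraMap R (Localization.Away g))) _
    infer_instance
  · have hmem : ∀ i : Fin l.length, l.get i ∈ I.map (algebraMap R (Localization.Away g)) := by
      intro i
      rw [hspan]
      exact Ideal.subset_span (List.get_mem l i)
    obtain ⟨b, -⟩ := Groth.Agent.S18939.result htop l.length (fun i => ⟨l.get i, hmem i⟩)
      (by simpa [List.ofFn_get] using hl)
      (by
        refine Eq.trans ?_ hspan.symm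
        congr 1
        ext x
        simp only [Set.mem_range, Set.mem_ofPred_eq]
        constructor
        · rintro ⟨i, rfl⟩; exact List.get_mem l i
        · intro hx
          obtain ⟨i, hi⟩ := List.get_of_mem hx
          exact ⟨i, hi⟩)
    have : Module.Free (Localization.Away g ⧸ I.map (algebraMap R (Localization.Away g)))
        (I.map (algebraMap R (Localization.Away g))).Cotangent := Module.Free.of_basis b
    have : Module.Finite (Localization.Away g ⧸ I.map (algebraMap R (Localization.Away g)))
        (I.map (algebraMap R (Localization.Away g))).Cotangent := Module.Finite.of_basis b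
    exact Module.finitePresentation_of_projective _ _

/-- **The conormal module of a Koszul-regular ideal is finitely presented.** -/
theorem finitePresentation_cotangent (hI : LCI.IsKoszulRegularIdeal I) :
    Module.FinitePresentation (R ⧸ I) I.Cotangent := by
  classical
  let good : R → Prop := fun g => ∃ l : List (Localization.Away g),
    LCI.IsKoszulRegularSeq (Localization.Away g) l ∧
      I.map (algebraMap R (Localization.Away g)) = Ideal.span {x | x ∈ l}
  let s : Set (R ⧸ I) := {r | ∃ g, good g ∧ Ideal.Quotient.mk I g = r}
  have hs : Ideal.span s = ⊤ := by
    by_contra hne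
    obtain ⟨m, hm, hsm⟩ := Ideal.exists_le_maximal _ hne
    have hmp : m.IsPrime := hm.isPrime
    let p : Ideal R := m.comap (Ideal.Quotient.mk I)
    have hpp : p.IsPrime := Ideal.comap_isPrime _ m
    have hIp : I ≤ p := by
      intro x hx
      change Ideal.Quotient.mk I x ∈ m
      rw [Ideal.Quotient.eq_zero_iff_mem.mpr hx]
      exact m.zero_mem
    obtain ⟨g, hg, l, hl, hspan⟩ := hI ⟨p, hpp⟩ hIp
    apply hg
    change Ideal.Quotient.mk I g ∈ m
    apply hsm
    apply Ideal.subset_span
    exact ⟨g, ⟨l, hl, hspan⟩, rfl⟩
  choose g hg hgr using fun r : s => r.2
  have hloc : ∀ r : s, IsLocalization.Away r.1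
      (Localization.Away (g r) ⧸ I.map (algebraMap R (Localization.Away (g r)))) := by
    intro r
    have h := (inferInstance : IsLocalization
      (Algebra.algebraMapSubmonoid (R ⧸ I) (Submonoid.powers (g r)))
      (Localization.Away (g r) ⧸ I.map (algebraMap R (Localization.Away (g r)))))
    rw [Algebra.algebraMapSubmonoid, Submonoid.map_powers] at h
    have h2 : (algebraMap R (R ⧸ I)) (g r) = r.1 := hgr r
    rw [h2] at h
    exact h
  have hlm : ∀ r : s, IsLocalizedModule (Submonoid.powers r.1)
      (TensorProduct.mk (R ⧸ I)
        (Localization.Away (g r) ⧸ I.map (algebraMap R (Localization.Away (g r)))) I.Cotangent 1) := by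
    intro r
    have := hloc r
    exact (isLocalizedModule_iff_isBaseChange (Submonoid.powers r.1)
      (Localization.Away (g r) ⧸ I.map (algebraMap R (Localization.Away (g r)))) _).mpr
      (TensorProduct.isBaseChange (R ⧸ I) I.Cotangent _)
  exact Module.FinitePresentation.of_localizationSpan' s hs
    (Rₚ := fun r => Localization.Away (g r) ⧸ I.map (algebraMap R (Localization.Away (g r))))
    (Mₚ := fun r => (Localization.Away (g r) ⧸ I.map (algebraMap R (Localization.Away (g r))))
      ⊗[R ⧸ I] I.Cotangent)
    (fun r => TensorProduct.mk (R ⧸ I) _ I.Cotangent 1)
    (fun r => by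
      obtain ⟨l, hl, hspan⟩ := hg r
      exact finitePresentation_baseChange_cotangent I (g r) l hl hspan)

/-- **The conormal module of a Koszul-regular ideal is projective.** -/
theorem projective_cotangent (hI : LCI.IsKoszulRegularIdeal I) :
    Module.Projective (R ⧸ I) I.Cotangent := by
  have hflat := Groth.Agent.R2.H32.LciL.flat_cotangent I hI
  have hfp := finitePresentation_cotangent I hI
  exact Module.Flat.projective_of_finitePresentation

/-- ... and finite. -/
theorem finite_cotangent (hI : LCI.IsKoszulRegularIdeal I) :
    Module.Finite (R ⧸ I) I.Cotangent := by
  have hfp := finitePresentation_cotangent I hI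
  infer_instance

end Groth.Agent.R2.H6.KRCot
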