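import Mathlib
import Groth.Prelude.Def_RegImm
import Groth.Agent.R2.H6RegBCSch
import Groth.Agent.R2.H7KosIdeal

/-!
# Composition of Koszul-regular immersions (S8654, S8655)
-/

set_option autoImplicit false
universe u

open CategoryTheory CategoryTheory.Limits AlgebraicGeometry TensorProduct

namespace Groth.Agent.R2.H6.RegComp

open Groth.Agent.R2.H6.RegBCSch

/-- shrinking a chart: if `i ∣_ U` is a closed immersion and `U' ≤ U` are affine opens, then
`i ∣_ U'` is a closed immersion and the kernel over `U'` is the extension of the kernel over `U`. -/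
theorem ker_app_of_le {Z X : Scheme.{u}} (i : Z ⟶ X) {U : X.Opens} (hU : IsAffineOpen U)
    (hci : IsClosedImmersion (i ∣_ U)) {U' : X.Opens} (hU' : IsAffineOpen U') (hle : U' ≤ U) :
    IsClosedImmersion (i ∣_ U') ∧ RingHom.ker (i.app U').hom =
      (RingHom.ker (i.app U).hom).map (X.presheaf.map (homOfLE hle).op).hom := by
  have sq : IsPullback (𝟙 Z) i i (𝟙 X) := IsPullback.id_horiz i
  have hle' : U' ≤ (𝟙 X) ⁻¹ᵁ U := hle
  obtain ⟨h1, h2⟩ := ker_app_of_isPullback sq hU hci hU' hle'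
  refine ⟨h1, ?_⟩
  rw [h2]
  congr 2

lemma app_surjective_of_restrict {Z X : Scheme.{u}} (i : Z ⟶ X) {U : X.Opens}
    (hU : IsAffineOpen U) (hci : IsClosedImmersion (i ∣_ U)) :
    Function.Surjective (i.app U).hom := by
  have : IsAffine (U : Scheme.{u}) := hU
  have h1 : Function.Surjective (i ∣_ U).appTop.hom :=
    (i ∣_ U).app_surjective ⊤ (isAffineOpen_top _)
  rw [morphismRestrict_appTop'] at h1
  simp only [CommRingCat.hom_comp] at h1
  have hb1 : Function.Bijective U.topIso.hom.hom :=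
    ConcreteCategory.bijective_of_isIso U.topIso.hom
  have hb2 : Function.Bijective (i ⁻¹ᵁ U).topIso.inv.hom :=
    ConcreteCategory.bijective_of_isIso (i ⁻¹ᵁ U).topIso.inv
  intro y
  obtain ⟨x, hx⟩ := h1 ((i ⁻¹ᵁ U).topIso.inv.hom y)
  exact ⟨U.topIso.hom.hom x, hb2.1 hx⟩

lemma flat_restrict {X : Scheme.{u}} {U U' : X.Opens} (hU : IsAffineOpen U)
    (hU' : IsAffineOpen U') (hle : U' ≤ U) : (X.presheaf.map (homOfLE hle).op).hom.Flat := by
  have h1 := Scheme.Hom.flat_appLE (𝟙 X) hU hU' hle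
  have h2 : Scheme.Hom.appLE (𝟙 X) U U' hle = X.presheaf.map (homOfLE hle).op := by
    simp only [Scheme.Hom.appLE, Scheme.Hom.id_app]
    exact Category.id_comp _
  rwa [h2] at h1

open Groth.Agent.R2.H7.KosBasic Groth.Agent.R2.H7.KosIdeal in
/-- a common chart for the composite of two Koszul-regular immersions. -/
theorem comp_chart {X Y Z : Scheme.{u}} (i : Y ⟶ X) (j : Z ⟶ Y) (z : Z)
    {U : X.Opens} (hU : IsAffineOpen U) (hzU : i (j z) ∈ U) (hciU : IsClosedImmersion (i ∣_ U))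
    (as : List Γ(X, U)) (has : LCI.IsKoszulRegularSeq Γ(X, U) as)
    (hkerU : RingHom.ker (i.app U).hom = Ideal.ofList as)
    {V : Y.Opens} (hV : IsAffineOpen V) (hzV : j z ∈ V) (hciV : IsClosedImmersion (j ∣_ V))
    (bs : List Γ(Y, V)) (hbs : LCI.IsKoszulRegularSeq Γ(Y, V) bs)
    (hkerV : RingHom.ker (j.app V).hom = Ideal.ofList bs) :
    ∃ U' : X.affineOpens, (j ≫ i) z ∈ U'.1 ∧ IsClosedImmersion ((j ≫ i) ∣_ U'.1) ∧
      ∃ rs : List Γ(X, U'.1), rs.length = bs.length + as.length ∧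
        LCI.IsKoszulRegularSeq Γ(X, U'.1) rs ∧
        RingHom.ker ((j ≫ i).app U'.1).hom = Ideal.ofList rs := by
  have : IsAffine (U : Scheme.{u}) := hU
  have hYU : IsAffineOpen (i ⁻¹ᵁ U) := isAffine_of_isAffineHom (i ∣_ U)
  obtain ⟨f', hf'V, hyf'⟩ := hYU.exists_basicOpen_le (V := V) ⟨j z, hzV⟩ hzU
  obtain ⟨h, rfl⟩ := app_surjective_of_restrict i hU hciU f'
  have hU' : IsAffineOpen (X.basicOpen h) := hU.basicOpen h
  have hle : X.basicOpen h ≤ U := X.basicOpen_le h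
  have hpre : i ⁻¹ᵁ X.basicOpen h = Y.basicOpen ((i.app U).hom h) := Scheme.preimage_basicOpen i h
  have hW_le_V : i ⁻¹ᵁ X.basicOpen h ≤ V := hpre ▸ hf'V
  have hzU' : i (j z) ∈ X.basicOpen h := by
    change j z ∈ i ⁻¹ᵁ X.basicOpen h
    rw [hpre]
    exact hyf'
  obtain ⟨hciU', hkerU'⟩ := ker_app_of_le i hU hciU hU' hle
  have : IsAffine (X.basicOpen h : Scheme.{u}) := hU'
  have hW : IsAffineOpen (i ⁻¹ᵁ X.basicOpen h) := isAffine_of_isAffineHom (i ∣_ X.basicOpen h)
  obtain ⟨hciW, hkerW⟩ := ker_app_of_le j hV hciV hW hW_le_V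
  have hcomp : IsClosedImmersion ((j ≫ i) ∣_ X.basicOpen h) := by
    rw [morphismRestrict_comp]
    exact @IsClosedImmersion.comp _ _ _ _ _ hciW hciU'
  -- the sequences
  have hp : LCI.IsKoszulRegularSeq Γ(X, X.basicOpen h)
      (as.map (X.presheaf.map (homOfLE hle).op).hom) :=
    kr_map_of_flat _ (flat_restrict hU hU' hle) as has
  have hq' : LCI.IsKoszulRegularSeq Γ(Y, i ⁻¹ᵁ X.basicOpen h)
      (bs.map (Y.presheaf.map (homOfLE hW_le_V).op).hom) :=
    kr_map_of_flat _ (flat_restrict hV hW hW_le_V) bs hbs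
  have hπ : Function.Surjective (i.app (X.basicOpen h)).hom :=
    app_surjective_of_restrict i hU' hciU'
  have hkerπ : RingHom.ker (i.app (X.basicOpen h)).hom =
      Ideal.ofList (as.map (X.presheaf.map (homOfLE hle).op).hom) := by
    rw [hkerU', hkerU, Ideal.map_ofList]
  obtain ⟨q, hq⟩ : ∃ q : List Γ(X, X.basicOpen h), q.map (i.app (X.basicOpen h)).hom =
      bs.map (Y.presheaf.map (homOfLE hW_le_V).op).hom :=
    List.map_surjective_iff.mpr hπ _
  have hkr : LCI.IsKoszulRegularSeq Γ(X, X.basicOpen h)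
      (q ++ as.map (X.presheaf.map (homOfLE hle).op).hom) := by
    rw [kr_append_iff_of_surjective _ hπ _ q hp hkerπ, hq]
    exact hq'
  refine ⟨⟨X.basicOpen h, (show X.basicOpen h ∈ X.affineOpens from hU')⟩, hzU', hcomp, _, ?_, hkr, ?_⟩
  · rw [List.length_append, List.length_map]
    congr 1
    have := congrArg List.length hq
    rw [List.length_map, List.length_map] at this
    exact this
  · have h1 : RingHom.ker ((j ≫ i).app (X.basicOpen h)).hom =
        (RingHom.ker (j.app (i ⁻¹ᵁ X.basicOpen h)).hom).comap (i.app (X.basicOpen h)).hom := by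
      ext x
      rw [Ideal.mem_comap, RingHom.mem_ker, RingHom.mem_ker, Scheme.Hom.comp_app]
      rfl
    rw [h1, hkerW, hkerV, Ideal.map_ofList, ← hq, ← Ideal.map_ofList,
      Ideal.comap_map_of_surjective _ hπ, ← RingHom.ker_eq_comap_bot, hkerπ, Ideal.ofList_append]

/-- composition of Koszul-regular immersions. -/
theorem koszul_comp {X Y Z : Scheme.{u}} (i : Y ⟶ X) (j : Z ⟶ Y)
    (hi : RegImm.IsRegularImmersion .koszul i) (hj : RegImm.IsRegularImmersion .koszul j) :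
    RegImm.IsRegularImmersion .koszul (j ≫ i) := by
  obtain ⟨himm, hiloc⟩ := hi
  obtain ⟨hjmm, hjloc⟩ := hj
  refine ⟨inferInstance, fun z => ?_⟩
  obtain ⟨⟨U, hU⟩, hzU, hciU, as, has, hkerU⟩ := hiloc (j z)
  obtain ⟨⟨V, hV⟩, hzV, hciV, bs, hbs, hkerV⟩ := hjloc z
  obtain ⟨U', hzU', hci', rs, -, hrs, hker'⟩ :=
    comp_chart i j z hU hzU hciU as has hkerU hV hzV hciV bs hbs hkerV
  exact ⟨U', hzU', hci', rs, hrs, hker'⟩

/-- composition of Koszul-regular immersions of constant codimension. -/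
theorem koszul_comp_ofCodim {X Y Z : Scheme.{u}} (n m : ℕ) (i : Y ⟶ X) (j : Z ⟶ Y)
    (hi : RegImm.IsRegularImmersionOfCodim .koszul n i)
    (hj : RegImm.IsRegularImmersionOfCodim .koszul m j) :
    RegImm.IsRegularImmersionOfCodim .koszul (m + n) (j ≫ i) := by
  obtain ⟨himm, hiloc⟩ := hi
  obtain ⟨hjmm, hjloc⟩ := hj
  refine ⟨inferInstance, fun z => ?_⟩
  obtain ⟨⟨U, hU⟩, hzU, hciU, as, hasl, has, hkerU⟩ := hiloc (j z)
  obtain ⟨⟨V, hV⟩, hzV, hciV, bs, hbsl, hbs, hkerV⟩ := hjloc z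
  obtain ⟨U', hzU', hci', rs, hlen, hrs, hker'⟩ :=
    comp_chart i j z hU hzU hciU as has hkerU hV hzV hciV bs hbs hkerV
  exact ⟨U', hzU', hci', rs, by rw [hlen, hasl, hbsl], hrs, hker'⟩

end Groth.Agent.R2.H6.RegComp
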