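import Mathlib
import Groth.Prelude.Def_Mor2
import Groth.Agent.R2.H6AdaptedCoordSch

/-!
# A section of a smooth morphism is a regular closed immersion (for S1676)
-/

set_option autoImplicit false
universe u

open CategoryTheory CategoryTheory.Limits AlgebraicGeometry TensorProduct

namespace Groth.Agent.R2.H6.SecReg

open Groth.Agent.R2.H6.AdaptedCoordSch RingTheory.Sequence

/-- distinct variables of a polynomial ring form a weakly regular sequence. -/
theorem isWeaklyRegular_X {σ : Type*} (A : Type*) [CommRing A] {n : ℕ} (s : Fin n → σ)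
    (hs : Function.Injective s) :
    IsWeaklyRegular (MvPolynomial σ A)
      (List.ofFn (fun k : Fin n => (MvPolynomial.X (s k) : MvPolynomial σ A))) := by
  classical
  rw [isWeaklyRegular_iff]
  intro i hi
  have hi' : i < n := by simpa using hi
  have hI : Ideal.ofList ((List.ofFn
      (fun k : Fin n => (MvPolynomial.X (s k) : MvPolynomial σ A))).take i) =
      Ideal.span (MvPolynomial.X '' (s '' {l : Fin n | l.val < i})) := by
    unfold Ideal.ofList
    congr 1
    ext p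
    simp only [Set.mem_ofPred_eq, List.mem_take_iff_getElem, List.length_ofFn, List.getElem_ofFn,
      Set.mem_image]
    constructor
    · rintro ⟨j, hj, rfl⟩
      have hj' : j < i ∧ j < n := by
        rw [lt_min_iff] at hj
        exact hj
      exact ⟨s ⟨j, hj'.2⟩, ⟨⟨j, hj'.2⟩, hj'.1, rfl⟩, rfl⟩
    · rintro ⟨_, ⟨l, hl, rfl⟩, rfl⟩
      exact ⟨l.val, lt_min hl l.2, rfl⟩
  rw [isSMulRegular_iff_right_eq_zero_of_smul]
  intro y hy
  obtain ⟨p, rfl⟩ := Submodule.Quotient.mk_surjective _ y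
  rw [← Submodule.Quotient.mk_smul, Submodule.Quotient.mk_eq_zero] at hy
  rw [Submodule.Quotient.mk_eq_zero]
  rw [hI, smul_eq_mul, Ideal.mul_top] at hy ⊢
  rw [List.getElem_ofFn, smul_eq_mul] at hy
  rw [MvPolynomial.mem_ideal_span_X_image] at hy ⊢
  intro m hm
  have hm' : m + Finsupp.single (s ⟨i, hi'⟩) 1 ∈
      (MvPolynomial.X (s ⟨i, hi'⟩) * p).support := by
    rw [mul_comm, MvPolynomial.support_mul_X]
    exact Finset.mem_map.mpr ⟨m, hm, rfl⟩
  obtain ⟨_, ⟨l, hl, rfl⟩, hne⟩ := hy _ hm'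
  refine ⟨s l, ⟨l, hl, rfl⟩, ?_⟩
  have hne' : s ⟨i, hi'⟩ ≠ s l := by
    intro h
    have := hs h
    rw [← this] at hl
    exact lt_irrefl i hl
  simpa [Finsupp.single_apply, hne'] using hne

/-- ring-level: the kernel of a surjection of smooth algebras is locally generated by a
(weakly) regular sequence. -/
theorem ring_regular {A B C : Type u} [CommRing A] [CommRing B] [CommRing C] (φ : A →+* B)
    (ψ : B →+* C) (hφ : φ.Smooth) (hψφ : (ψ.comp φ).Smooth) (hψ : Function.Surjective ψ)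
    (q : Ideal B) [q.IsPrime] (hq : RingHom.ker ψ ≤ q) :
    ∃ f : B, f ∉ q ∧ ∀ (B' : Type u) [CommRing B'] (ρ : B →+* B')
      (_ : @IsLocalization.Away B _ f B' _ ρ.toAlgebra),
      ∃ rs : List B', IsWeaklyRegular B' rs ∧ (RingHom.ker ψ).map ρ = Ideal.ofList rs := by
  obtain ⟨f, hfq, m, n, H⟩ := ring_main_hom φ ψ hφ hψφ hψ q hq
  refine ⟨f, hfq, fun B' _ ρ hloc => ?_⟩
  obtain ⟨v, het, hker⟩ := H B' ρ hloc
  let algE : Algebra (MvPolynomial (ULift.{u} (Fin m ⊕ Fin n)) A) B' :=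
    (MvPolynomial.eval₂Hom (ρ.comp φ) v).toAlgebra
  have hEt : Algebra.Etale (MvPolynomial (ULift.{u} (Fin m ⊕ Fin n)) A) B' :=
    RingHom.etale_algebraMap.mp het
  have hflat : Module.Flat (MvPolynomial (ULift.{u} (Fin m ⊕ Fin n)) A) B' := inferInstance
  have hX := isWeaklyRegular_X A (fun k : Fin n => (⟨Sum.inr k⟩ : ULift.{u} (Fin m ⊕ Fin n)))
    (by intro a b h; simpa using h)
  have hreg := IsWeaklyRegular.of_flat (S := B') hX
  rw [List.map_ofFn] at hreg
  refine ⟨List.ofFn (fun k : Fin n => v ⟨Sum.inr k⟩), ?_, ?_⟩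
  · convert hreg using 2
    funext k
    simp [RingHom.algebraMap_toAlgebra]
  · rw [hker]
    unfold Ideal.ofList
    congr 1
    ext x
    simp [List.mem_ofFn]

/-- a closed immersion of smooth `S`-schemes is a regular closed immersion. -/
theorem isRegularClosedImmersion_of_smooth {S X Y : Scheme.{u}} (pX : X ⟶ S) (pY : Y ⟶ S)
    [Smooth pX] [Smooth pY] (i : Y ⟶ X) [IsClosedImmersion i] (w : i ≫ pX = pY) :
    Mor2.IsRegularClosedImmersion i := by
  refine ⟨inferInstance, fun y => ?_⟩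
  -- affine charts
  obtain ⟨_, ⟨V : S.Opens, hV, rfl⟩, hsV, -⟩ :=
    S.isBasis_affineOpens.exists_subset_of_mem_open (Set.mem_univ (pX (i y))) isOpen_univ
  replace hV : IsAffineOpen V := hV
  obtain ⟨_, ⟨U₀ : X.Opens, hU₀, rfl⟩, hxU₀, hU₀V⟩ :=
    X.isBasis_affineOpens.exists_subset_of_mem_open (show i y ∈ (pX ⁻¹ᵁ V : Set X) from hsV)
      (pX ⁻¹ᵁ V).2
  replace hU₀ : IsAffineOpen U₀ := hU₀
  replace hU₀V : U₀ ≤ pX ⁻¹ᵁ V := hU₀V
  have hW₀ : IsAffineOpen (i ⁻¹ᵁ U₀) := hU₀.preimage i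
  have hW₀V : i ⁻¹ᵁ U₀ ≤ pY ⁻¹ᵁ V := by
    intro z hz
    have : pX (i z) ∈ V := hU₀V hz
    rw [← w]
    exact this
  have hφ : (pX.appLE V U₀ hU₀V).hom.Smooth := pX.smooth_appLE hV hU₀ hU₀V
  have hcomp : (i.app U₀).hom.comp (pX.appLE V U₀ hU₀V).hom = (pY.appLE V (i ⁻¹ᵁ U₀) hW₀V).hom := by
    rw [← CommRingCat.hom_comp, ← Scheme.Hom.appLE_eq_app, Scheme.Hom.appLE_comp_appLE]
    simp only [w]
  have hψφ : ((i.app U₀).hom.comp (pX.appLE V U₀ hU₀V).hom).Smooth := by
    rw [hcomp]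
    exact pY.smooth_appLE hV hW₀ hW₀V
  have hψ : Function.Surjective (i.app U₀).hom := i.app_surjective U₀ hU₀
  have hq : RingHom.ker (i.app U₀).hom ≤ (hU₀.primeIdealOf ⟨i y, hxU₀⟩).asIdeal := by
    intro b hb
    by_contra hbq
    have h1 : i y ∈ X.basicOpen b := (mem_basicOpen_iff_notMem_primeIdealOf hU₀ _ hxU₀ b).mpr hbq
    have h2 : y ∈ i ⁻¹ᵁ X.basicOpen b := h1
    rw [Scheme.preimage_basicOpen, RingHom.mem_ker.mp hb, Scheme.basicOpen_zero] at h2
    exact h2
  obtain ⟨f, hfq, H⟩ := ring_regular _ _ hφ hψφ hψ _ hq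
  have hxU : i y ∈ X.basicOpen f := (mem_basicOpen_iff_notMem_primeIdealOf hU₀ _ hxU₀ f).mpr hfq
  have hU : IsAffineOpen (X.basicOpen f) := hU₀.basicOpen f
  have hUle : X.basicOpen f ≤ U₀ := X.basicOpen_le f
  have hloc := hU₀.isLocalization_basicOpen f
  obtain ⟨rs, hreg, hkerv⟩ := H Γ(X, X.basicOpen f) (X.presheaf.map (homOfLE hUle).op).hom hloc
  -- the kernel of `i.app U`
  have hWle : i ⁻¹ᵁ X.basicOpen f ≤ i ⁻¹ᵁ U₀ := fun z hz => hUle hz
  have hsq : (i.app (X.basicOpen f)).hom.comp (X.presheaf.map (homOfLE hUle).op).hom =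
      (Y.presheaf.map (homOfLE hWle).op).hom.comp (i.app U₀).hom := by
    rw [← CommRingCat.hom_comp, ← CommRingCat.hom_comp]
    congr 1
    exact i.naturality (homOfLE hUle).op
  have hlocC := hW₀.isLocalization_of_eq_basicOpen ((i.app U₀).hom f) (homOfLE hWle)
    (Scheme.preimage_basicOpen i f)
  have hK2 := ker_le_map_of_isLocalization (i.app U₀).hom (X.presheaf.map (homOfLE hUle).op).hom
    (Y.presheaf.map (homOfLE hWle).op).hom (i.app (X.basicOpen f)).hom hsq f hloc hlocC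
  have hK1 : (RingHom.ker (i.app U₀).hom).map (X.presheaf.map (homOfLE hUle).op).hom ≤
      RingHom.ker (i.app (X.basicOpen f)).hom := by
    rw [Ideal.map_le_iff_le_comap]
    intro b hb
    rw [Ideal.mem_comap, RingHom.mem_ker, ← RingHom.comp_apply, hsq, RingHom.comp_apply,
      RingHom.mem_ker.mp hb, map_zero]
  have hker : RingHom.ker (i.app (X.basicOpen f)).hom = Ideal.ofList rs := by
    rw [← hkerv]
    exact le_antisymm hK2 hK1
  refine ⟨X.basicOpen f, hU, hxU, rs, ⟨hreg, ?_⟩, ?_⟩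
  · -- properness of the ideal
    rw [← hker, smul_eq_mul, Ideal.mul_top]
    intro htop
    have h1 : (1 : Γ(X, X.basicOpen f)) ∈ RingHom.ker (i.app (X.basicOpen f)).hom := by
      rw [← htop]; trivial
    rw [RingHom.mem_ker, map_one] at h1
    have h2 : y ∈ Y.basicOpen (1 : Γ(Y, i ⁻¹ᵁ X.basicOpen f)) := by
      rw [Scheme.basicOpen_of_isUnit _ isUnit_one]
      exact hxU
    rw [h1, Scheme.basicOpen_zero] at h2
    exact h2
  · rw [Scheme.Hom.ker_apply]
    exact hker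

end Groth.Agent.R2.H6.SecReg
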