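import Mathlib
import Groth.Prelude.Def_RegImm
import Groth.Agent.S15821
import Groth.Agent.R2.H6SecReg
import Groth.Agent.R2.H6RegBCSch
import Groth.Agent.R2.H6RegComp
import Groth.Agent.Lib.Helper13RegImm

/-!
# Koszul-regular immersions and smooth lifts, easy direction (helper6)

* `koszul_of_isOpenImmersion`: an open immersion is a Koszul-regular immersion.
* `koszul_of_smooth`: an immersion between smooth `S`-schemes is a Koszul-regular immersion.
* `koszul_lift`: `i : X ⟶ V` Koszul-regular, `p : V' ⟶ V` smooth, `j : X ⟶ V'` an immersion with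
  `j ≫ p = i`; then `j` is Koszul-regular.
-/

set_option autoImplicit false
universe u

open CategoryTheory CategoryTheory.Limits AlgebraicGeometry TopologicalSpace

namespace Groth.Agent.R2.H6.KosLiftA

open Groth.Agent.R2.H6.RegBCSch Groth.Agent.R2.H6.RegComp Groth.Agent.R2.H6.SecReg

lemma kr_nil (R : Type u) [CommRing R] : LCI.IsKoszulRegularSeq R [] :=
  (Groth.Agent.S15821.result R [] (RingTheory.Sequence.IsWeaklyRegular.nil R R)).1

/-- an open immersion is a Koszul-regular immersion -/
theorem koszul_of_isOpenImmersion {Z X : Scheme.{u}} (i : Z ⟶ X) [IsOpenImmersion i] :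
    RegImm.IsRegularImmersion .koszul i := by
  refine ⟨inferInstance, fun z => ?_⟩
  obtain ⟨_, ⟨U₀, hU₀, rfl⟩, hzU₀, -⟩ :=
    Z.isBasis_affineOpens.exists_subset_of_mem_open (Set.mem_univ z) isOpen_univ
  have hU : IsAffineOpen (i ''ᵁ U₀) := hU₀.image_of_isOpenImmersion i
  have hle : i ''ᵁ U₀ ≤ i.opensRange := by
    rintro _ ⟨a, -, rfl⟩
    exact ⟨a, rfl⟩
  have hiso : IsIso (i ∣_ (i ''ᵁ U₀)) := by
    rw [isIso_iff_isOpenImmersion_and_surjective]
    refine ⟨inferInstance, ⟨fun u => ?_⟩⟩
    obtain ⟨a, ha, hau⟩ := u.2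
    refine ⟨⟨a, ?_⟩, ?_⟩
    · show i a ∈ i ''ᵁ U₀
      exact ⟨a, ha, rfl⟩
    · apply Subtype.ext
      rw [← hau]
      exact morphismRestrict_base_coe i (i ''ᵁ U₀) _
  refine ⟨⟨i ''ᵁ U₀, hU⟩, ⟨z, hzU₀, rfl⟩, inferInstance, [], kr_nil _, ?_⟩
  have : IsIso (i.app (i ''ᵁ U₀)) := i.isIso_app _ hle
  rw [Ideal.ofList_nil]
  exact (RingHom.injective_iff_ker_eq_bot _).mp
    (ConcreteCategory.bijective_of_isIso (i.app (i ''ᵁ U₀))).injective

/-- an immersion between smooth `S`-schemes is a Koszul-regular immersion -/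
theorem koszul_of_smooth {S X Y : Scheme.{u}} (pX : X ⟶ S) (pY : Y ⟶ S) [Smooth pX] [Smooth pY]
    (i : Y ⟶ X) [IsImmersion i] (w : i ≫ pX = pY) : RegImm.IsRegularImmersion .koszul i := by
  have h1 : Mor2.IsRegularClosedImmersion i.liftCoborder :=
    isRegularClosedImmersion_of_smooth (i.coborderRange.ι ≫ pX) pY i.liftCoborder (by
      rw [← Category.assoc, Scheme.Hom.liftCoborder_ι, w])
  have h2 := ((mor2_iff_regImm _).mp h1).2
  have h3 := Groth.Agent.Helper13RegImm.isRegularImmersion_koszul_of_kind _ _ (Or.inl rfl) h2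
  have h4 := koszul_comp i.coborderRange.ι i.liftCoborder
    (koszul_of_isOpenImmersion _) h3
  rwa [Scheme.Hom.liftCoborder_ι] at h4

/-- **easy direction**: lifting a Koszul-regular immersion along a smooth morphism. -/
theorem koszul_lift {X V V' : Scheme.{u}} (i : X ⟶ V) (j : X ⟶ V') [IsImmersion j]
    (p : V' ⟶ V) [Smooth p] (h : j ≫ p = i) (hi : RegImm.IsRegularImmersion .koszul i) :
    RegImm.IsRegularImmersion .koszul j := by
  have : IsImmersion i := hi.1
  -- the base change of `i` along `p`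
  have h1 : RegImm.IsRegularImmersion .koszul (pullback.snd i p) :=
    isRegularImmersion_of_isPullback_flat .koszul (IsPullback.of_hasPullback i p) hi
  have : IsImmersion (pullback.snd i p) := h1.1
  let s : X ⟶ pullback i p := pullback.lift (𝟙 X) j (by rw [Category.id_comp, h])
  have hs1 : s ≫ pullback.fst i p = 𝟙 X := pullback.lift_fst _ _ _
  have hs2 : s ≫ pullback.snd i p = j := pullback.lift_snd _ _ _
  have : IsImmersion (s ≫ pullback.snd i p) := by rw [hs2]; infer_instance
  have : IsImmersion s := IsImmersion.of_comp s (pullback.snd i p)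
  have h2 : RegImm.IsRegularImmersion .koszul s :=
    koszul_of_smooth (pullback.fst i p) (𝟙 X) s hs1
  have h3 := koszul_comp (pullback.snd i p) s h1 h2
  rwa [hs2] at h3

end Groth.Agent.R2.H6.KosLiftA
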