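import Mathlib
import Groth.Agent.R2.H7KosExch

/-!
# Adding and removing a polynomial variable (helper7)

For `π = evalRingHom f : P[X] → P` and an ideal `I` of `P`: `I` is Koszul-regular iff its preimage
`I.comap π` is Koszul-regular.
-/

set_option autoImplicit false
set_option linter.style.haveILetI false
universe u

namespace Groth.Agent.R2.H7.KosAdd

open Polynomial
open Groth.Agent.R2.H7.KosBasic Groth.Agent.R2.H7.KosCG Groth.Agent.R2.H7.KosK2
open Groth.Agent.R2.H7.KosIdeal Groth.Agent.R2.H7.KosExch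

variable {P : Type u} [CommRing P]

lemma kr_X_sub_C (f : P) : LCI.IsKoszulRegularSeq P[X] [X - C f] := by
  refine (Groth.Agent.S15821.result _ _ ?_).1
  refine RingTheory.Sequence.IsWeaklyRegular.cons ?_ (RingTheory.Sequence.IsWeaklyRegular.nil _ _)
  exact (monic_X_sub_C f).isRegular.left.isSMulRegular

lemma isKRI_ker_evalRingHom (f : P) :
    LCI.IsKoszulRegularIdeal (RingHom.ker (evalRingHom f)) := by
  apply isKRI_of_genKR
  refine ⟨[X - C f], kr_X_sub_C f, ?_⟩
  rw [ker_evalRingHom, Ideal.ofList_singleton]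
  simp

/-- adding a variable -/
theorem isKRI_comap_evalRingHom (f : P) {I : Ideal P} (hI : LCI.IsKoszulRegularIdeal I) :
    LCI.IsKoszulRegularIdeal (I.comap (evalRingHom f)) :=
  isKRI_comap_of_surjective (evalRingHom f) (fun p => ⟨C p, eval_C⟩) (isKRI_ker_evalRingHom f) hI

/-- the dual number argument: a combination of elements of `K` that maps to `ε` must have a
coefficient that does not vanish at the point -/
lemma exists_unit_coeff {R : Type u} [CommRing R] {κ : Type u} [Field κ]
    (τ : R →+* TrivSqZeroExt κ κ) (K : Ideal R) (hK : ∀ k ∈ K, (τ k).fst = 0) (h : R)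
    (hh : (τ h).fst ≠ 0) (ζ : R) (hζ : τ ζ = TrivSqZeroExt.inr 1) {N : ℕ}
    (u c : Fin N → Localization.Away h)
    (hu : ∀ i, u i ∈ K.map (algebraMap R (Localization.Away h)))
    (hc : ∑ i, c i * u i = algebraMap R (Localization.Away h) ζ) :
    ∃ (i₀ : Fin N) (e : ℕ) (c₀ : R), (τ c₀).fst ≠ 0 ∧
      c i₀ * algebraMap R (Localization.Away h) h ^ e = algebraMap R (Localization.Away h) c₀ := by
  have hτh : IsUnit (τ h) := by
    rw [TrivSqZeroExt.isUnit_iff_isUnit_fst]
    exact IsUnit.mk0 _ hh
  let τS : Localization.Away h →+* TrivSqZeroExt κ κ := IsLocalization.Away.lift h hτh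
  have hτS : ∀ p, τS (algebraMap _ _ p) = τ p := IsLocalization.Away.lift_eq h hτh
  have hfstK : ∀ x ∈ K.map (algebraMap R (Localization.Away h)), (τS x).fst = 0 := by
    intro x hx
    have hle : K.map (algebraMap R (Localization.Away h)) ≤
        (RingHom.ker ((TrivSqZeroExt.fstHom κ κ κ : TrivSqZeroExt κ κ →+* κ).comp τS)) := by
      rw [Ideal.map_le_iff_le_comap]
      intro k hk
      rw [Ideal.mem_comap, RingHom.mem_ker, RingHom.comp_apply, hτS]
      exact hK k hk
    exact hle hx
  have hfstu : ∀ i, (τS (u i)).fst = 0 := fun i => hfstK _ (hu i)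
  have hτζ : τS (algebraMap _ _ ζ) = TrivSqZeroExt.inr 1 := by
    rw [hτS, hζ]
  have hsum : ∑ i, (τS (c i)).fst * (τS (u i)).snd = 1 := by
    have h1 := congrArg (fun x => TrivSqZeroExt.sndHom κ κ (τS x)) hc
    simp only [map_sum, map_mul, hτζ, TrivSqZeroExt.sndHom_apply, TrivSqZeroExt.snd_mul, hfstu,
      TrivSqZeroExt.snd_inr, MulOpposite.op_zero, zero_smul, add_zero, smul_eq_mul] at h1
    exact h1
  obtain ⟨i₀, hi₀⟩ : ∃ i₀, (τS (c i₀)).fst ≠ 0 := by
    by_contra hcon
    push Not at hcon
    simp [hcon] at hsum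
  obtain ⟨e, c₀, hc₀⟩ := IsLocalization.Away.surj h (c i₀)
  refine ⟨i₀, e, c₀, ?_, hc₀⟩
  intro h1
  have h2 : (τS (algebraMap _ _ c₀)).fst = 0 := by rw [hτS]; exact h1
  rw [← hc₀, map_mul, TrivSqZeroExt.fst_mul, map_pow, TrivSqZeroExt.fst_pow, hτS] at h2
  rcases mul_eq_zero.1 h2 with h3 | h3
  · exact hi₀ h3
  · exact hh (eq_zero_of_pow_eq_zero h3)

/-- removing a variable -/
theorem isKRI_of_comap_evalRingHom (f : P) {I : Ideal P}
    (hK : LCI.IsKoszulRegularIdeal (I.comap (evalRingHom f))) : LCI.IsKoszulRegularIdeal I := by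
  classical
  set π : P[X] →+* P := evalRingHom f with hπdef
  have hπ : Function.Surjective π := fun p => ⟨C p, eval_C⟩
  rw [isKRI_iff] at hK ⊢
  intro 𝔭 h𝔭 hI𝔭
  haveI := h𝔭
  obtain ⟨h, hh, l, hl, hKl⟩ := hK (𝔭.comap π) inferInstance (Ideal.comap_mono hI𝔭)
  obtain ⟨N, u, rfl⟩ : ∃ (N : ℕ) (u : Fin N → Localization.Away h), List.ofFn u = l :=
    ⟨l.length, l.get, List.ofFn_get l⟩
  have hζmem : algebraMap P[X] (Localization.Away h) (X - C f) ∈ Ideal.span (Set.range u) := by
    rw [← ofList_ofFn, ← hKl]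
    apply Ideal.mem_map_of_mem
    change π (X - C f) ∈ I
    simp [π]
  obtain ⟨c, hc⟩ := Ideal.mem_span_range_iff_exists_fun.1 hζmem
  -- dual numbers over the residue field
  let τ : P[X] →+* TrivSqZeroExt 𝔭.ResidueField 𝔭.ResidueField :=
    eval₂RingHom ((TrivSqZeroExt.inlHom 𝔭.ResidueField 𝔭.ResidueField).comp
      (algebraMap P 𝔭.ResidueField))
    (TrivSqZeroExt.inl (algebraMap P 𝔭.ResidueField f) + TrivSqZeroExt.inr 1)
  have hfst : ∀ p, (τ p).fst = algebraMap P 𝔭.ResidueField (π p) := by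
    intro p
    have : (TrivSqZeroExt.fstHom 𝔭.ResidueField 𝔭.ResidueField 𝔭.ResidueField :
        TrivSqZeroExt 𝔭.ResidueField 𝔭.ResidueField →+* 𝔭.ResidueField).comp τ =
        (algebraMap P 𝔭.ResidueField).comp π := by
      apply Polynomial.ringHom_ext
      · intro a
        simp [τ, π]
      · simp [τ, π]
    exact congrArg (fun φ => φ p) this
  have hτζ : τ (X - C f) = TrivSqZeroExt.inr 1 := by
    simp [τ]
  obtain ⟨i₀, e, c₀, hc₀ne, hc₀⟩ := exists_unit_coeff τ (I.comap π)
    (fun k hk => by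
      rw [hfst, Ideal.algebraMap_residueField_eq_zero]
      exact hI𝔭 hk) h
    (by
      rw [hfst, Ne, Ideal.algebraMap_residueField_eq_zero]
      exact hh) (X - C f) hτζ u c
    (fun i => by rw [hKl, ofList_ofFn]; exact Ideal.subset_span ⟨i, rfl⟩) hc
  have hc₀𝔭 : π c₀ ∉ 𝔭 := by
    rw [hfst, Ne, Ideal.algebraMap_residueField_eq_zero] at hc₀ne
    exact hc₀ne
  -- the refined localisation `T` of `S = P[X]_h` at `c₀`
  let T := Localization.Away (algebraMap P[X] (Localization.Away h) c₀)
  haveI hT : IsLocalization.Away (h * c₀) T := inferInstance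
  set u' : Fin N → T := fun i => algebraMap (Localization.Away h) T (u i) with hu'
  set c' : Fin N → T := fun i => algebraMap (Localization.Away h) T (c i) with hc'
  have hflatST : (algebraMap (Localization.Away h) T).Flat :=
    (RingHom.flat_algebraMap_iff).2
      (IsLocalization.flat T (Submonoid.powers (algebraMap P[X] (Localization.Away h) c₀)))
  have hkru' : LCI.IsKoszulRegularSeq T (List.ofFn u') := by
    have := kr_map_of_flat (algebraMap (Localization.Away h) T) hflatST (List.ofFn u) hl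
    rwa [List.map_ofFn] at this
  have hc'unit : IsUnit (c' i₀) := by
    have h1 : c' i₀ * (algebraMap (Localization.Away h) T (algebraMap _ _ h)) ^ e =
        algebraMap (Localization.Away h) T (algebraMap _ _ c₀) := by
      rw [← map_pow, ← map_mul, hc₀]
    have h2 : IsUnit (algebraMap (Localization.Away h) T (algebraMap _ _ c₀)) :=
      IsLocalization.Away.algebraMap_isUnit _
    rw [← h1] at h2
    exact isUnit_of_mul_isUnit_left h2
  obtain ⟨q, hq, hqspan⟩ := exists_kr_concat u' hkru' c' i₀ hc'unit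
  have hζ' : ∑ i, c' i * u' i = algebraMap P[X] T (X - C f) := by
    rw [IsScalarTower.algebraMap_apply P[X] (Localization.Away h) T, ← hc, map_sum]
    simp [hu', hc', map_mul]
  rw [hζ'] at hq hqspan
  -- the quotient map
  let π' : T →+* Localization.Away (π (h * c₀)) :=
    IsLocalization.Away.map T (Localization.Away (π (h * c₀))) π (h * c₀)
  have hπ'surj : Function.Surjective π' := awayMap_surjective' π hπ (h * c₀) T _
  have hkerπ' : RingHom.ker π' = Ideal.ofList [algebraMap P[X] T (X - C f)] := by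
    rw [ker_awayMap', ker_evalRingHom, Ideal.map_span, Set.image_singleton,
      Ideal.ofList_singleton]
  have hflatT : (algebraMap P[X] T).Flat :=
    (RingHom.flat_algebraMap_iff).2 (IsLocalization.flat T (Submonoid.powers (h * c₀)))
  have hkrζ : LCI.IsKoszulRegularSeq T [algebraMap P[X] T (X - C f)] :=
    kr_map_of_flat (algebraMap P[X] T) hflatT [X - C f] (kr_X_sub_C f)
  have hkrq : LCI.IsKoszulRegularSeq (Localization.Away (π (h * c₀))) (q.map π') :=
    (kr_append_iff_of_surjective π' hπ'surj _ q hkrζ hkerπ').1 hq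
  refine ⟨π (h * c₀), ?_, q.map π', hkrq, ?_⟩
  · rw [map_mul]
    exact fun hm => (h𝔭.mem_or_mem hm).elim hh hc₀𝔭
  have h1 : (I.comap π).map (algebraMap P[X] T) =
      Ideal.ofList (q ++ [algebraMap P[X] T (X - C f)]) := by
    rw [hqspan, IsScalarTower.algebraMap_eq P[X] (Localization.Away h) T, ← Ideal.map_map, hKl,
      ofList_ofFn, Ideal.map_span, ← Set.range_comp]
    rfl
  have h2 := map_comap_awayMap' π hπ (h * c₀) T (Localization.Away (π (h * c₀))) I
  have h3 : I.map (algebraMap P (Localization.Away (π (h * c₀)))) =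
      ((I.comap π).map (algebraMap P[X] T)).map π' := by
    rw [h2, Ideal.map_comap_of_surjective π' hπ'surj]
  have h4 : π' (algebraMap P[X] T (X - C f)) = 0 := by
    rw [← RingHom.mem_ker, hkerπ', Ideal.ofList_singleton]
    exact Ideal.mem_span_singleton_self _
  rw [h3, h1, Ideal.map_ofList, List.map_append, Ideal.ofList_append, List.map_singleton,
    Ideal.ofList_singleton, h4]
  simp

end Groth.Agent.R2.H7.KosAdd
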