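import Mathlib
import Groth.Agent.R2.H7KosAdd

/-!
# Independence of the presentation for local complete intersection ring maps (Stacks 07D1) (helper7)

* `isKRI_comap_ringEquiv`: Koszul-regular ideals transport along ring isomorphisms.
* `isKRI_comap_eval_iff`: for `eval f : P[X_1..X_m] → P`, an ideal of `P` is Koszul-regular iff its
  preimage is.
* `isKRI_ker_of_isKRI_ker`: if one presentation `A[x_1..x_n] → B` has Koszul-regular kernel, so has any
  other.
-/

set_option autoImplicit false
set_option linter.style.haveILetI false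
universe u

namespace Groth.Agent.R2.H7.KosIndep

open MvPolynomial
open Groth.Agent.R2.H7.KosBasic Groth.Agent.R2.H7.KosIdeal Groth.Agent.R2.H7.KosAdd

theorem isKRI_comap_ringEquiv {R R' : Type u} [CommRing R] [CommRing R'] (e : R ≃+* R')
    (I : Ideal R') :
    LCI.IsKoszulRegularIdeal (I.comap (e : R →+* R')) ↔ LCI.IsKoszulRegularIdeal I := by
  constructor
  · intro h
    have h1 := isKRI_map_of_flat (e : R →+* R') (RingHom.Flat.of_bijective e.bijective) h
    rwa [Ideal.map_comap_of_surjective (e : R →+* R') e.surjective] at h1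
  · intro h
    let ei : R' →+* R := e.symm.toRingHom
    have hei : ei.Flat := RingHom.Flat.of_bijective e.symm.bijective
    have h1 := isKRI_map_of_flat ei hei h
    have h2 : I.map ei = I.comap (e : R →+* R') := Ideal.map_symm e
    rwa [h2] at h1

lemma eval_succ_eq {P : Type u} [CommRing P] (m : ℕ) (f : Fin (m + 1) → P) :
    (MvPolynomial.eval f : MvPolynomial (Fin (m + 1)) P →+* P) =
      (MvPolynomial.eval (Fin.tail f)).comp
        ((Polynomial.evalRingHom (C (f 0) : MvPolynomial (Fin m) P)).comp
          ((MvPolynomial.finSuccEquiv P m : MvPolynomial (Fin (m + 1)) P →+*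
            Polynomial (MvPolynomial (Fin m) P)))) := by
  apply MvPolynomial.ringHom_ext
  · intro a
    simp [MvPolynomial.finSuccEquiv_apply]
  · intro i
    refine Fin.cases ?_ (fun j => ?_) i
    · simp [MvPolynomial.finSuccEquiv_X_zero]
    · simp [MvPolynomial.finSuccEquiv_X_succ, Fin.tail]

/-- adding / removing finitely many variables -/
theorem isKRI_comap_eval_iff : ∀ (m : ℕ) {P : Type u} [CommRing P] (f : Fin m → P) (I : Ideal P),
    LCI.IsKoszulRegularIdeal (I.comap (MvPolynomial.eval f)) ↔ LCI.IsKoszulRegularIdeal I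
  | 0, P, _, f, I => by
    have h : (MvPolynomial.eval f : MvPolynomial (Fin 0) P →+* P) =
        ((MvPolynomial.isEmptyRingEquiv P (Fin 0) : MvPolynomial (Fin 0) P ≃+* P) :
          MvPolynomial (Fin 0) P →+* P) := by
      apply MvPolynomial.ringHom_ext
      · intro a
        simp
        exact (MvPolynomial.coeff_zero_C a).symm
      · intro i; exact i.elim0
    rw [h]
    exact isKRI_comap_ringEquiv _ I
  | m + 1, P, _, f, I => by
    rw [eval_succ_eq, ← Ideal.comap_comap, ← Ideal.comap_comap]
    rw [show ((MvPolynomial.finSuccEquiv P m : MvPolynomial (Fin (m + 1)) P →+*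
        Polynomial (MvPolynomial (Fin m) P))) =
        (((MvPolynomial.finSuccEquiv P m).toRingEquiv : MvPolynomial (Fin (m + 1)) P ≃+*
          Polynomial (MvPolynomial (Fin m) P)) : _ →+* _) from rfl]
    rw [isKRI_comap_ringEquiv]
    constructor
    · intro h
      exact (isKRI_comap_eval_iff m (Fin.tail f) I).1 (isKRI_of_comap_evalRingHom _ h)
    · intro h
      exact isKRI_comap_evalRingHom _ ((isKRI_comap_eval_iff m (Fin.tail f) I).2 h)

/-- **Independence of the presentation** (Stacks 07D1). -/
theorem isKRI_ker_of_isKRI_ker {A B : Type u} [CommRing A] [CommRing B] [Algebra A B] {n m : ℕ}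
    (α : MvPolynomial (Fin n) A →ₐ[A] B) (hα : Function.Surjective α)
    (β : MvPolynomial (Fin m) A →ₐ[A] B) (hβ : Function.Surjective β)
    (h : LCI.IsKoszulRegularIdeal (RingHom.ker α.toRingHom)) :
    LCI.IsKoszulRegularIdeal (RingHom.ker β.toRingHom) := by
  choose f hf using fun j : Fin m => hα (β (X j))
  choose g hg using fun i : Fin n => hβ (α (X i))
  let cE : MvPolynomial (Fin m) (MvPolynomial (Fin n) A) ≃+*
      MvPolynomial (Fin n) (MvPolynomial (Fin m) A) :=
    (MvPolynomial.commAlgEquiv A (Fin m) (Fin n)).toRingEquiv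
  let cR : MvPolynomial (Fin m) (MvPolynomial (Fin n) A) →+*
      MvPolynomial (Fin n) (MvPolynomial (Fin m) A) := (cE : _ →+* _)
  have hcomm : (β.toRingHom.comp (MvPolynomial.eval g)).comp cR =
      α.toRingHom.comp (MvPolynomial.eval f) := by
    apply MvPolynomial.ringHom_ext
    · intro p
      have : ((β.toRingHom.comp (MvPolynomial.eval g)).comp cR).comp C =
          (α.toRingHom.comp (MvPolynomial.eval f)).comp C := by
        apply MvPolynomial.ringHom_ext
        · intro a
          simp [cE, cR]
        · intro i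
          simp [cE, cR, hg]
      exact congrArg (fun φ => φ p) this
    · intro j
      simp [cE, cR, hf]
  have h1 : (RingHom.ker α.toRingHom).comap (MvPolynomial.eval f) =
      ((RingHom.ker β.toRingHom).comap (MvPolynomial.eval g)).comap cR := by
    rw [RingHom.comap_ker, RingHom.comap_ker, RingHom.comap_ker, hcomm]
  have h2 := (isKRI_comap_eval_iff m f _).2 h
  rw [h1] at h2
  have h3 := (isKRI_comap_ringEquiv cE _).1 h2
  exact (isKRI_comap_eval_iff n g _).1 h3

end Groth.Agent.R2.H7.KosIndep
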