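import Mathlib
import Groth.Agent.S15821
import Groth.Agent.R2.H6SecReg
import Groth.Agent.R2.H7KosIndep

/-!
# Koszul-regular ideals and smooth ring maps (helper6)

* `isKRI_ker_of_smooth`: the kernel of a surjection between smooth algebras is a Koszul-regular ideal.
* `isKRI_comap_of_smooth`: `φ : B → C` smooth, `J ⊆ C` a Koszul-regular ideal with `B → C/J` surjective;
  then `φ⁻¹ J` is a Koszul-regular ideal of `B` (descent of Koszul-regularity along a smooth map with a
  lift).  Proof: `C = B[x]/K₀` with `K₀` Koszul-regular, so `B[x] → C/J` is a presentation with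
  Koszul-regular kernel; independence of the presentation (helper7, Stacks 07D1) applied to the
  presentation `B → C/J` in zero variables.
-/

set_option autoImplicit false
universe u

namespace Groth.Agent.R2.H6.KosLiftB

open Groth.Agent.R2.H7.KosIdeal Groth.Agent.R2.H7.KosIndep Groth.Agent.R2.H6.SecReg

/-- the kernel of a surjection between smooth algebras is a Koszul-regular ideal -/
theorem isKRI_ker_of_smooth {A B C : Type u} [CommRing A] [CommRing B] [CommRing C] (φ : A →+* B)
    (ψ : B →+* C) (hφ : φ.Smooth) (hψφ : (ψ.comp φ).Smooth) (hψ : Function.Surjective ψ) :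
    LCI.IsKoszulRegularIdeal (RingHom.ker ψ) := by
  rw [isKRI_iff]
  intro q hq hle
  obtain ⟨f, hfq, H⟩ := ring_regular φ ψ hφ hψφ hψ q hle
  refine ⟨f, hfq, ?_⟩
  have hloc : @IsLocalization.Away B _ f (Localization.Away f) _
      (algebraMap B (Localization.Away f)).toAlgebra := by
    have e : (algebraMap B (Localization.Away f)).toAlgebra =
        (inferInstance : Algebra B (Localization.Away f)) :=
      Algebra.algebra_ext _ _ (fun r => rfl)
    rw [e]
    infer_instance
  obtain ⟨rs, hreg, hker⟩ := H (Localization.Away f) (algebraMap B (Localization.Away f)) hloc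
  exact ⟨rs, (Groth.Agent.S15821.result _ rs hreg).1, hker⟩

/-- **descent of Koszul-regularity along a smooth ring map with a lift** -/
theorem isKRI_comap_of_smooth {B C : Type u} [CommRing B] [CommRing C] (φ : B →+* C)
    (hφ : φ.Smooth) (J : Ideal C) (hJ : LCI.IsKoszulRegularIdeal J)
    (hsurj : ∀ c : C, ∃ b : B, c - φ b ∈ J) : LCI.IsKoszulRegularIdeal (J.comap φ) := by
  let algBC : Algebra B C := φ.toAlgebra
  have hsm : Algebra.Smooth B C := hφ
  have hft : Algebra.FiniteType B C := inferInstance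
  obtain ⟨m, α₀, hα₀⟩ := Algebra.FiniteType.iff_quotient_mvPolynomial''.mp hft
  -- the kernel of the presentation of `C`
  have hcompφ : α₀.toRingHom.comp (algebraMap B (MvPolynomial (Fin m) B)) = φ := by
    ext b
    exact α₀.commutes b
  have hK₀ : LCI.IsKoszulRegularIdeal (RingHom.ker α₀.toRingHom) := by
    refine isKRI_ker_of_smooth (algebraMap B (MvPolynomial (Fin m) B)) α₀.toRingHom
      (RingHom.smooth_algebraMap.mpr ⟨inferInstance, inferInstance⟩) ?_ hα₀
    rw [hcompφ]
    exact hφ
  -- the presentation of `C ⧸ J` in `m` variables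
  let α : MvPolynomial (Fin m) B →ₐ[B] C ⧸ J := (Ideal.Quotient.mkₐ B J).comp α₀
  have hα : Function.Surjective α :=
    (Ideal.Quotient.mkₐ_surjective B J).comp hα₀
  have hkerα : RingHom.ker α.toRingHom = J.comap α₀.toRingHom := by
    ext x
    rw [RingHom.mem_ker, Ideal.mem_comap]
    change Ideal.Quotient.mk J (α₀ x) = 0 ↔ _
    rw [Ideal.Quotient.eq_zero_iff_mem]
    rfl
  have hKα : LCI.IsKoszulRegularIdeal (RingHom.ker α.toRingHom) := by
    rw [hkerα]
    exact isKRI_comap_of_surjective α₀.toRingHom hα₀ hK₀ hJ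
  -- the presentation in zero variables
  let β : MvPolynomial (Fin 0) B →ₐ[B] C ⧸ J :=
    (Algebra.ofId B (C ⧸ J)).comp (MvPolynomial.isEmptyAlgEquiv B (Fin 0)).toAlgHom
  have hβ : Function.Surjective β := by
    intro z
    obtain ⟨c, rfl⟩ := Ideal.Quotient.mk_surjective z
    obtain ⟨b, hb⟩ := hsurj c
    refine ⟨MvPolynomial.C b, ?_⟩
    change algebraMap B (C ⧸ J) (MvPolynomial.isEmptyAlgEquiv B (Fin 0) (MvPolynomial.C b)) = _
    have hCb : MvPolynomial.isEmptyAlgEquiv B (Fin 0) (MvPolynomial.C b) = b := by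
      have h1 := (MvPolynomial.isEmptyAlgEquiv B (Fin 0)).commutes b
      rwa [MvPolynomial.algebraMap_eq] at h1
    rw [hCb]
    change Ideal.Quotient.mk J (φ b) = Ideal.Quotient.mk J c
    rw [eq_comm, Ideal.Quotient.eq]
    exact hb
  have hKβ := isKRI_ker_of_isKRI_ker α hα β hβ hKα
  have hkerβ : RingHom.ker β.toRingHom =
      (J.comap φ).comap ((MvPolynomial.isEmptyRingEquiv B (Fin 0) :
        MvPolynomial (Fin 0) B ≃+* B) : MvPolynomial (Fin 0) B →+* B) := by
    ext x
    rw [RingHom.mem_ker, Ideal.mem_comap, Ideal.mem_comap]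
    change Ideal.Quotient.mk J (φ (MvPolynomial.isEmptyAlgEquiv B (Fin 0) x)) = 0 ↔ _
    rw [Ideal.Quotient.eq_zero_iff_mem]
    rfl
  rw [hkerβ] at hKβ
  exact (isKRI_comap_ringEquiv _ _).1 hKβ

end Groth.Agent.R2.H6.KosLiftB
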