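import Mathlib
import Groth.Prelude.Def_RegImm
import Groth.Agent.R2.H6KosLiftA
import Groth.Agent.R2.H6KosLiftB
import Groth.Agent.R2.H40RelReg
import Groth.Agent.Lib.Helper5RegImm2

/-!
# Koszul-regular immersions and smooth lifts, hard direction (helper6)

`koszul_descend`: `i : X ⟶ V`, `j : X ⟶ V'` immersions, `p : V' ⟶ V` smooth with `j ≫ p = i`; if `j` is
Koszul-regular then so is `i`.  Together with `KosLiftA.koszul_lift` this gives the independence of
the smooth factorisation (`koszul_iff`).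
-/

set_option autoImplicit false
universe u

open CategoryTheory CategoryTheory.Limits AlgebraicGeometry TopologicalSpace

namespace Groth.Agent.R2.H6.KosLiftC

open Groth.Agent.R2.H6.RegBCSch Groth.Agent.R2.H6.RegComp Groth.Agent.R2.H6.KosLiftA
open Groth.Agent.R2.H6.KosLiftB Groth.Agent.R2.H7.KosIdeal Groth.Agent.R2.H40.RelReg
open Groth.Agent.R2.H6.AdaptedCoordSch

/-- pointwise form of the descent -/
theorem koszul_descend_at {X V V' : Scheme.{u}} (i : X ⟶ V) [IsImmersion i] (j : X ⟶ V')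
    (p : V' ⟶ V) [Smooth p] (h : j ≫ p = i) (x : X)
    (hj : RegImm.IsRegularImmersionAt .koszul j x) : RegImm.IsRegularImmersionAt .koszul i x := by
  -- 1. a chart for `i`
  have hxcb : i x ∈ (i.coborderRange : Set V) := subset_coborder ⟨x, rfl⟩
  obtain ⟨_, ⟨U₀, hU₀, rfl⟩, hxU₀, hU₀cb⟩ :=
    V.isBasis_affineOpens.exists_subset_of_mem_open hxcb i.coborderRange.2
  replace hU₀ : IsAffineOpen U₀ := hU₀
  have hci₀ : IsClosedImmersion (i ∣_ U₀) :=
    Groth.Agent.Lib.Helper5.RegImm.isClosedImmersion_morphismRestrict_of_le_coborderRange i U₀ hU₀cb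
  -- 2. a Koszul-regular chart for `j` inside `p⁻¹ U₀`
  have hpj : ∀ z : X, p (j z) = i z := fun z => by
    rw [← Scheme.Hom.comp_apply, h]
  have hjx : j x ∈ p ⁻¹ᵁ U₀ := by
    change p (j x) ∈ U₀
    rw [hpj]
    exact hxU₀
  obtain ⟨U'₀, hU'₀, hU'₀le, hjxU'₀, hcj₀, rs, hrs, hkerj₀⟩ :=
    exists_affine_le_of_isRegularImmersionAt .koszul hj (p ⁻¹ᵁ U₀) hjx
  -- 3. shrinking
  obtain ⟨O, hO, hOeq⟩ := i.isEmbedding.isInducing.isOpen_iff.mp (j ⁻¹ᵁ U'₀).2
  have hxO : i x ∈ O := by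
    have : x ∈ i ⁻¹' O := by rw [hOeq]; exact hjxU'₀
    exact this
  obtain ⟨b, hbO, hxb⟩ := hU₀.exists_basicOpen_le (V := ⟨O, hO⟩) ⟨i x, hxO⟩ hxU₀
  have hU : IsAffineOpen (V.basicOpen b) := hU₀.basicOpen b
  have hUle : V.basicOpen b ≤ U₀ := V.basicOpen_le b
  set c : Γ(V', U'₀) := (p.appLE U₀ U'₀ hU'₀le).hom b with hc
  have hU' : IsAffineOpen (V'.basicOpen c) := hU'₀.basicOpen c
  have hU'le₀ : V'.basicOpen c ≤ U'₀ := V'.basicOpen_le c
  have hU'eq : V'.basicOpen c = U'₀ ⊓ p ⁻¹ᵁ (V.basicOpen b) :=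
    Scheme.basicOpen_appLE p U'₀ U₀ hU'₀le b
  have hU'le : V'.basicOpen c ≤ p ⁻¹ᵁ (V.basicOpen b) := by
    rw [hU'eq]; exact inf_le_right
  have hjxU' : j x ∈ V'.basicOpen c := by
    rw [hU'eq]
    refine ⟨hjxU'₀, ?_⟩
    change p (j x) ∈ V.basicOpen b
    rw [hpj]
    exact hxb
  have hWW' : j ⁻¹ᵁ (V'.basicOpen c) = i ⁻¹ᵁ (V.basicOpen b) := by
    ext z
    constructor
    · intro hz
      have hz' : j z ∈ U'₀ ⊓ p ⁻¹ᵁ (V.basicOpen b) := by rw [← hU'eq]; exact hz
      have : p (j z) ∈ V.basicOpen b := hz'.2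
      rw [hpj] at this
      exact this
    · intro hz
      change j z ∈ V'.basicOpen c
      rw [hU'eq]
      refine ⟨?_, ?_⟩
      · have : z ∈ i ⁻¹' O := hbO hz
        rw [hOeq] at this
        exact this
      · change p (j z) ∈ V.basicOpen b
        rw [hpj]
        exact hz
  -- 4. the charts
  obtain ⟨hciU, -⟩ := ker_app_of_le i hU₀ hci₀ hU hUle
  have sqj : IsPullback (𝟙 X) j j (𝟙 V') := IsPullback.id_horiz j
  have hle' : V'.basicOpen c ≤ (𝟙 V') ⁻¹ᵁ U'₀ := hU'le₀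
  obtain ⟨hcjU', hrs', hkerj⟩ :=
    data_of_isPullback_of_flat sqj .koszul hU'₀ hU' hle' rs hrs hkerj₀ x hjxU'
  -- 5. the ring data
  have hφ : (p.appLE (V.basicOpen b) (V'.basicOpen c) hU'le).hom.Smooth :=
    p.smooth_appLE hU hU' hU'le
  have hJ : LCI.IsKoszulRegularIdeal (RingHom.ker (j.app (V'.basicOpen c)).hom) := by
    apply isKRI_of_genKR
    refine ⟨_, hrs', ?_⟩
    rw [Algebra.algebraMap_self, Ideal.map_id]
    exact hkerj
  have hle : j ⁻¹ᵁ (V'.basicOpen c) ≤ i ⁻¹ᵁ (V.basicOpen b) := hWW'.le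
  have hiso : IsIso (homOfLE hle) :=
    ⟨⟨homOfLE hWW'.ge, Subsingleton.elim _ _, Subsingleton.elim _ _⟩⟩
  have hres : Function.Bijective (X.presheaf.map (homOfLE hle).op).hom :=
    ConcreteCategory.bijective_of_isIso (X.presheaf.map (homOfLE hle).op)
  have hcomm : (j.app (V'.basicOpen c)).hom.comp
      (p.appLE (V.basicOpen b) (V'.basicOpen c) hU'le).hom =
      (X.presheaf.map (homOfLE hle).op).hom.comp (i.app (V.basicOpen b)).hom := by
    rw [← CommRingCat.hom_comp, ← CommRingCat.hom_comp]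
    congr 1
    rw [← Scheme.Hom.appLE_eq_app, Scheme.Hom.appLE_comp_appLE]
    simp only [h]
    rfl
  have hsurj : ∀ c' : Γ(V', V'.basicOpen c), ∃ b' : Γ(V, V.basicOpen b),
      c' - (p.appLE (V.basicOpen b) (V'.basicOpen c) hU'le).hom b' ∈
        RingHom.ker (j.app (V'.basicOpen c)).hom := by
    intro c'
    obtain ⟨y₀, hy₀⟩ := hres.2 ((j.app (V'.basicOpen c)).hom c')
    obtain ⟨b', hb'⟩ := app_surjective_of_restrict i hU hciU y₀
    refine ⟨b', ?_⟩
    rw [RingHom.mem_ker, map_sub, ← RingHom.comp_apply, hcomm, RingHom.comp_apply, hb', hy₀,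
      sub_self]
  have hcomap : (RingHom.ker (j.app (V'.basicOpen c)).hom).comap
      (p.appLE (V.basicOpen b) (V'.basicOpen c) hU'le).hom =
      RingHom.ker (i.app (V.basicOpen b)).hom := by
    ext y
    rw [Ideal.mem_comap, RingHom.mem_ker, RingHom.mem_ker, ← RingHom.comp_apply, hcomm,
      RingHom.comp_apply]
    constructor
    · intro hy
      exact hres.1 (hy.trans (map_zero _).symm)
    · intro hy
      rw [hy, map_zero]
  -- 6. the ring-level theorem
  have hKR := isKRI_comap_of_smooth _ hφ _ hJ hsurj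
  rw [hcomap, isKRI_iff] at hKR
  have hq : RingHom.ker (i.app (V.basicOpen b)).hom ≤ (hU.primeIdealOf ⟨i x, hxb⟩).asIdeal := by
    intro y hy
    by_contra hyq
    have h1 : i x ∈ V.basicOpen y := (mem_basicOpen_iff_notMem_primeIdealOf hU _ hxb y).mpr hyq
    have h2 : x ∈ i ⁻¹ᵁ V.basicOpen y := h1
    rw [Scheme.preimage_basicOpen, RingHom.mem_ker.mp hy, Scheme.basicOpen_zero] at h2
    exact h2
  obtain ⟨f, hfq, hgen⟩ := hKR _ (hU.primeIdealOf ⟨i x, hxb⟩).2 hq
  -- 7. the final chart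
  have hxf : i x ∈ V.basicOpen f := (mem_basicOpen_iff_notMem_primeIdealOf hU _ hxb f).mpr hfq
  have hUf : IsAffineOpen (V.basicOpen f) := hU.basicOpen f
  have hUfle : V.basicOpen f ≤ V.basicOpen b := V.basicOpen_le f
  obtain ⟨hciUf, hkerUf⟩ := ker_app_of_le i hU hciU hUf hUfle
  let algf : Algebra Γ(V, V.basicOpen b) Γ(V, V.basicOpen f) :=
    (V.presheaf.map (homOfLE hUfle).op).hom.toAlgebra
  have hloc : IsLocalization.Away f Γ(V, V.basicOpen f) := hU.isLocalization_basicOpen f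
  obtain ⟨l, hl, hIl⟩ := hgen.of_away f (S' := Γ(V, V.basicOpen f))
  refine ⟨⟨V.basicOpen f, hUf⟩, hxf, hciUf, l, hl, ?_⟩
  rw [hkerUf]
  exact hIl

/-- **hard direction**: descent of Koszul-regularity of an immersion along a smooth morphism. -/
theorem koszul_descend {X V V' : Scheme.{u}} (i : X ⟶ V) [IsImmersion i] (j : X ⟶ V')
    (p : V' ⟶ V) [Smooth p] (h : j ≫ p = i) (hj : RegImm.IsRegularImmersion .koszul j) :
    RegImm.IsRegularImmersion .koszul i :=
  ⟨inferInstance, fun x => koszul_descend_at i j p h x (hj.2 x)⟩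

/-- independence of the smooth factorisation -/
theorem koszul_iff {X V V' : Scheme.{u}} (i : X ⟶ V) [IsImmersion i] (j : X ⟶ V') [IsImmersion j]
    (p : V' ⟶ V) [Smooth p] (h : j ≫ p = i) :
    RegImm.IsRegularImmersion .koszul i ↔ RegImm.IsRegularImmersion .koszul j :=
  ⟨koszul_lift i j p h, koszul_descend i j p h⟩

end Groth.Agent.R2.H6.KosLiftC
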