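import Mathlib
import Groth.Prelude.Def_RegImm
import Groth.Agent.R2.H6KosLiftC

/-!
# Consequences of the independence of the smooth factorisation (helper6)

* `regAt_of_open_source`: `IsRegularImmersionAt` is local on the source.
* `koszul_of_two_immersions`: S9728 (one direction).
* `koszul_of_isKoszulAt`: S8656.
-/

set_option autoImplicit false
universe u

open CategoryTheory CategoryTheory.Limits AlgebraicGeometry TopologicalSpace

namespace Groth.Agent.R2.H6.KosLiftD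

open Groth.Agent.R2.H6.KosLiftA Groth.Agent.R2.H6.KosLiftC Groth.Agent.R2.H40.RelReg

/-- `IsRegularImmersionAt` is local on the source (for an immersion). -/
theorem regAt_of_open_source {X Z : Scheme.{u}} (k : RegImm.Kind) (i : X ⟶ Z) [IsImmersion i]
    (U : X.Opens) (x : X) (hx : x ∈ U)
    (h : RegImm.IsRegularImmersionAt k (U.ι ≫ i) ⟨x, hx⟩) : RegImm.IsRegularImmersionAt k i x := by
  obtain ⟨O, hO, hOeq⟩ := i.isEmbedding.isInducing.isOpen_iff.mp U.2
  have hxO : (U.ι ≫ i) ⟨x, hx⟩ ∈ (⟨O, hO⟩ : Z.Opens) := by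
    change i x ∈ O
    have : x ∈ i ⁻¹' O := by rw [hOeq]; exact hx
    exact this
  obtain ⟨W, hW, hWle, hxW, hcl, rs, hrs, hker⟩ :=
    exists_affine_le_of_isRegularImmersionAt k h ⟨O, hO⟩ hxO
  have hle : i ⁻¹ᵁ W ≤ U := by
    intro z hz
    have : z ∈ i ⁻¹' O := hWle hz
    rw [hOeq] at this
    exact this
  have hleR : i ⁻¹ᵁ W ≤ U.ι.opensRange := by
    rw [Scheme.Opens.opensRange_ι]; exact hle
  -- the restriction of `U.ι` over `i⁻¹ W` is an isomorphism
  have hiso : IsIso (U.ι ∣_ (i ⁻¹ᵁ W)) := by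
    rw [isIso_iff_isOpenImmersion_and_surjective]
    refine ⟨inferInstance, ⟨fun z => ?_⟩⟩
    refine ⟨⟨⟨z.1, hle z.2⟩, z.2⟩, ?_⟩
    apply Subtype.ext
    exact morphismRestrict_base_coe U.ι (i ⁻¹ᵁ W) _
  have hcomp : (U.ι ≫ i) ∣_ W = (U.ι ∣_ (i ⁻¹ᵁ W)) ≫ (i ∣_ W) := morphismRestrict_comp U.ι i W
  have hcl' : IsClosedImmersion (i ∣_ W) := by
    have h1 : i ∣_ W = inv (U.ι ∣_ (i ⁻¹ᵁ W)) ≫ ((U.ι ≫ i) ∣_ W) := by
      rw [hcomp, IsIso.inv_hom_id_assoc]
    rw [h1]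
    exact @IsClosedImmersion.comp _ _ _ (inv (U.ι ∣_ (i ⁻¹ᵁ W))) ((U.ι ≫ i) ∣_ W) inferInstance hcl
  have hisoapp : IsIso (U.ι.app (i ⁻¹ᵁ W)) := U.ι.isIso_app _ hleR
  have happ : (U.ι ≫ i).app W = i.app W ≫ U.ι.app (i ⁻¹ᵁ W) := Scheme.Hom.comp_app U.ι i W
  have hkeri : RingHom.ker (i.app W).hom = Ideal.ofList rs := by
    rw [← hker]
    ext y
    rw [RingHom.mem_ker, RingHom.mem_ker]
    have hy : ((U.ι ≫ i).app W).hom y = (U.ι.app (i ⁻¹ᵁ W)).hom ((i.app W).hom y) := by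
      rw [happ]; rfl
    rw [hy]
    constructor
    · intro h0
      rw [h0]
      exact map_zero _
    · intro h0
      exact (ConcreteCategory.bijective_of_isIso (U.ι.app (i ⁻¹ᵁ W))).injective
        (h0.trans (map_zero _).symm)
  exact ⟨⟨W, hW⟩, hxW, hcl', rs, hrs, hkeri⟩

/-- one direction of S9728 -/
theorem koszul_of_two_immersions {S U P P' : Scheme.{u}} (q : U ⟶ S)
    (p : P ⟶ S) (p' : P' ⟶ S) [Smooth p] [Smooth p'] (i : U ⟶ P) (i' : U ⟶ P') [IsImmersion i]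
    [IsImmersion i'] (hi : i ≫ p = q) (hi' : i' ≫ p' = q) (V : U.Opens)
    (hV : RegImm.IsRegularImmersion .koszul (V.ι ≫ i)) :
    RegImm.IsRegularImmersion .koszul (V.ι ≫ i') := by
  let k : (V : Scheme.{u}) ⟶ pullback p p' :=
    pullback.lift (V.ι ≫ i) (V.ι ≫ i') (by rw [Category.assoc, Category.assoc, hi, hi'])
  have hfst : k ≫ pullback.fst p p' = V.ι ≫ i := pullback.lift_fst _ _ _
  have hsnd : k ≫ pullback.snd p p' = V.ι ≫ i' := pullback.lift_snd _ _ _
  have : IsImmersion (k ≫ pullback.fst p p') := by rw [hfst]; infer_instance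
  have : IsImmersion k := IsImmersion.of_comp k (pullback.fst p p')
  have hk : RegImm.IsRegularImmersion .koszul k := koszul_lift (V.ι ≫ i) k (pullback.fst p p') hfst hV
  exact koszul_descend (V.ι ≫ i') k (pullback.snd p p') hsnd hk

/-- S8656 -/
theorem koszul_of_isKoszulAt {X Y Z : Scheme.{u}} (f : X ⟶ Y) (hf : ∀ x : X, Synt.IsKoszulAt f x)
    (p : Z ⟶ Y) [Smooth p] (i : X ⟶ Z) [IsImmersion i] (h : i ≫ p = f) :
    RegImm.IsRegularImmersion .koszul i := by
  refine ⟨inferInstance, fun x => ?_⟩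
  obtain ⟨U, P, i₀, π, hxU, -, hi₀, hπ, hcomm⟩ := hf x
  have : IsImmersion i₀ := hi₀.1
  let k : (U : Scheme.{u}) ⟶ pullback π p :=
    pullback.lift i₀ (U.ι ≫ i) (by rw [hcomm, Category.assoc, h])
  have hfst : k ≫ pullback.fst π p = i₀ := pullback.lift_fst _ _ _
  have hsnd : k ≫ pullback.snd π p = U.ι ≫ i := pullback.lift_snd _ _ _
  have : IsImmersion (k ≫ pullback.fst π p) := by rw [hfst]; infer_instance
  have : IsImmersion k := IsImmersion.of_comp k (pullback.fst π p)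
  have hk : RegImm.IsRegularImmersion .koszul k := koszul_lift i₀ k (pullback.fst π p) hfst hi₀
  have h1 : RegImm.IsRegularImmersion .koszul (U.ι ≫ i) :=
    koszul_descend (U.ι ≫ i) k (pullback.snd π p) hsnd hk
  exact regAt_of_open_source .koszul i U x hxU (h1.2 ⟨x, hxU⟩)

end Groth.Agent.R2.H6.KosLiftD
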