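import Mathlib
import Groth.Prelude.Def_SheafNL
import Groth.Agent.R2.H6NLBase
import Groth.Agent.R2.H6KRCot
import Groth.Agent.R2.H7KosIndep

/-!
# The kernel of `H^{-1}(NL_{B/A} ⊗ B') → H^{-1}(NL_{B'/A'})` for local complete intersections

* `bcH1Map_eq`: `NLCx.bcH1Map f` does not depend on the morphism of extensions `f`.
* `bcH1Trans`, `bcH1Equiv`: functoriality / invariance of `NLCx.bcH1 P S'` in the presentation `P`.
* `nonempty_ker_equiv`: the kernel of `bcH1Map` does not depend on the presentations.
* `ker_sameVars`: for the base-changed presentation, the kernel is finite projective as soon as the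
  conormal modules are.
-/

set_option autoImplicit false

universe u

open TensorProduct Algebra Algebra.Extension CategoryTheory

namespace Groth.Agent.R2.H6.NLKer

open Groth.Agent.R2.H6.NLBase

section Indep
variable {R S R' S' : Type u} [CommRing R] [CommRing S] [CommRing R'] [CommRing S'] [Algebra R S]
  [Algebra R' S'] [Algebra R R'] [Algebra S S'] [Algebra R S'] [IsScalarTower R R' S']
  [IsScalarTower R S S']
variable {P : Algebra.Extension.{u} R S} {P' : Algebra.Extension.{u} R' S'}

lemma liftBaseChange_sub_eq (f g : P.Hom P') :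
    LinearMap.liftBaseChange S' (Cotangent.map f) - LinearMap.liftBaseChange S' (Cotangent.map g) =
      LinearMap.liftBaseChange S' (f.sub g) ∘ₗ P.cotangentComplex.baseChange S' := by
  ext y
  have := congrArg Extension.Cotangent.val congr($(Cotangent.map_sub_map f g) y)
  simpa using this

/-- `bcH1Map` is independent of the morphism of extensions. -/
lemma bcH1Map_eq (f g : P.Hom P') : NLCx.bcH1Map (S' := S') f = NLCx.bcH1Map g := by
  refine LinearMap.ext fun x => Subtype.ext ?_
  rw [bcH1Map_apply_coe, bcH1Map_apply_coe, ← sub_eq_zero, ← LinearMap.sub_apply,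
    liftBaseChange_sub_eq, LinearMap.comp_apply]
  have hx : P.cotangentComplex.baseChange S' x.1 = 0 := x.2
  rw [hx, map_zero]

end Indep

section Trans
variable {R S : Type u} [CommRing R] [CommRing S] [Algebra R S]
variable (S' : Type u) [CommRing S'] [Algebra S S']
variable {P Q Q₂ : Algebra.Extension.{u} R S}

lemma baseChange_comm (a : P.Hom Q) :
    Q.cotangentComplex.baseChange S' ∘ₗ (Cotangent.map a).baseChange S' =
      (CotangentSpace.map a).baseChange S' ∘ₗ P.cotangentComplex.baseChange S' := by
  rw [← LinearMap.baseChange_comp, ← LinearMap.baseChange_comp]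
  congr 1
  ext y
  exact (CotangentSpace.map_cotangentComplex a y).symm

/-- Functoriality of `H^{-1}(NL(P) ⊗_S S')` in the extension `P` (morphisms of extensions of the same
ring `S` over the same base). -/
noncomputable def bcH1Trans (a : P.Hom Q) : NLCx.bcH1 P S' →ₗ[S'] NLCx.bcH1 Q S' :=
  ((Cotangent.map a).baseChange S').restrict (p := NLCx.bcH1 P S') (q := NLCx.bcH1 Q S')
    (fun x hx => by
      simp only [NLCx.bcH1, LinearMap.mem_ker] at hx ⊢
      have := congr($(baseChange_comm S' a) x)
      simp only [LinearMap.coe_comp, Function.comp_apply, hx, map_zero] at this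
      exact this)

lemma bcH1Trans_apply_coe (a : P.Hom Q) (x : NLCx.bcH1 P S') :
    (bcH1Trans S' a x).1 = (Cotangent.map a).baseChange S' x.1 := rfl

lemma baseChange_sub_eq (a b : P.Hom Q) :
    (Cotangent.map a).baseChange S' - (Cotangent.map b).baseChange S' =
      (a.sub b).baseChange S' ∘ₗ P.cotangentComplex.baseChange S' := by
  rw [← LinearMap.baseChange_comp, ← LinearMap.baseChange_sub]
  congr 1
  exact Cotangent.map_sub_map a b

/-- `bcH1Trans` is independent of the morphism of extensions. -/
lemma bcH1Trans_eq (a b : P.Hom Q) : bcH1Trans S' a = bcH1Trans S' b := by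
  refine LinearMap.ext fun x => Subtype.ext ?_
  rw [bcH1Trans_apply_coe, bcH1Trans_apply_coe, ← sub_eq_zero, ← LinearMap.sub_apply,
    baseChange_sub_eq, LinearMap.comp_apply]
  have hx : P.cotangentComplex.baseChange S' x.1 = 0 := x.2
  rw [hx, map_zero]

lemma bcH1Trans_id : bcH1Trans S' (Hom.id P) = LinearMap.id := by
  refine LinearMap.ext fun x => Subtype.ext ?_
  rw [bcH1Trans_apply_coe, Cotangent.map_id]
  simp

lemma bcH1Trans_comp (a : P.Hom Q) (b : Q.Hom Q₂) :
    bcH1Trans S' (b.comp a) = bcH1Trans S' b ∘ₗ bcH1Trans S' a := by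
  refine LinearMap.ext fun x => Subtype.ext ?_
  rw [LinearMap.comp_apply, bcH1Trans_apply_coe, bcH1Trans_apply_coe, bcH1Trans_apply_coe,
    Cotangent.map_comp]
  change _ = ((Cotangent.map b).baseChange S' ∘ₗ (Cotangent.map a).baseChange S') x.1
  rw [← LinearMap.baseChange_comp]
  rfl

/-- Two extensions of `S` with morphisms both ways have the same `H^{-1}(NL ⊗ S')`. -/
noncomputable def bcH1Equiv (a : P.Hom Q) (b : Q.Hom P) : NLCx.bcH1 P S' ≃ₗ[S'] NLCx.bcH1 Q S' :=
  LinearEquiv.ofLinear (bcH1Trans S' a) (bcH1Trans S' b)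
    (by rw [← bcH1Trans_comp, bcH1Trans_eq S' _ (Hom.id Q), bcH1Trans_id])
    (by rw [← bcH1Trans_comp, bcH1Trans_eq S' _ (Hom.id P), bcH1Trans_id])

lemma bcH1Equiv_apply (a : P.Hom Q) (b : Q.Hom P) (x : NLCx.bcH1 P S') :
    bcH1Equiv S' a b x = bcH1Trans S' a x := rfl

end Trans

section Mixed
variable {R S R' S' : Type u} [CommRing R] [CommRing S] [CommRing R'] [CommRing S'] [Algebra R S]
  [Algebra R' S'] [Algebra R R'] [Algebra S S'] [Algebra R S'] [IsScalarTower R R' S']
  [IsScalarTower R S S']
variable {P Q : Algebra.Extension.{u} R S} {P' Q' : Algebra.Extension.{u} R' S'}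

lemma bcH1Map_comp_trans (a : P.Hom Q) (f : Q.Hom Q') (x : NLCx.bcH1 P S') :
    NLCx.bcH1Map (S' := S') (f.comp a) x = NLCx.bcH1Map f (bcH1Trans S' a x) := by
  apply Subtype.ext
  rw [bcH1Map_apply_coe, bcH1Map_apply_coe, bcH1Trans_apply_coe]
  have key : LinearMap.liftBaseChange S' (Cotangent.map (f.comp a)) =
      LinearMap.liftBaseChange S' (Cotangent.map f) ∘ₗ (Cotangent.map a).baseChange S' := by
    ext y
    simp [Cotangent.map_comp]
  rw [key]
  rfl

/-- The square of `H^{-1}`-maps attached to a (not necessarily commutative) square of morphisms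
of extensions commutes. -/
lemma bcH1Map_square (f : P.Hom P') (f₂ : Q.Hom Q') (a : P.Hom Q) (a' : P'.Hom Q')
    (x : NLCx.bcH1 P S') :
    NLCx.bcH1Map f₂ (bcH1Trans S' a x) = H1Cotangent.map a' (NLCx.bcH1Map f x) := by
  rw [← bcH1Map_comp_trans, ← bcH1Map_comp, bcH1Map_eq (f₂.comp a) (a'.comp f)]

/-- **The kernel of `bcH1Map` does not depend on the presentations.** -/
theorem nonempty_ker_equiv (f : P.Hom P') (f₂ : Q.Hom Q') (a : P.Hom Q) (b : Q.Hom P)
    (a' : P'.Hom Q') (b' : Q'.Hom P') :
    Nonempty (LinearMap.ker (NLCx.bcH1Map (S' := S') f) ≃ₗ[S']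
      LinearMap.ker (NLCx.bcH1Map (S' := S') f₂)) := by
  refine ⟨LinearEquiv.ofSubmodules (bcH1Equiv S' a b) _ _ ?_⟩
  have hinj : Function.Injective (H1Cotangent.map a') :=
    (H1Cotangent.equiv a' b').injective
  ext y
  simp only [Submodule.mem_map, LinearMap.mem_ker]
  constructor
  · rintro ⟨x, hx, rfl⟩
    change NLCx.bcH1Map f₂ (bcH1Trans S' a x) = 0
    rw [bcH1Map_square f f₂ a a', hx, map_zero]
  · intro hy
    refine ⟨(bcH1Equiv S' a b).symm y, ?_, LinearEquiv.apply_symm_apply _ _⟩
    apply hinj
    rw [← bcH1Map_square f f₂ a a', map_zero, ← bcH1Equiv_apply S' a b,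
      LinearEquiv.apply_symm_apply]
    exact hy

end Mixed

section Retract
variable {R S R' S' : Type u} [CommRing R] [CommRing S] [CommRing R'] [CommRing S'] [Algebra R S]
  [Algebra R' S'] [Algebra R R'] [Algebra S S'] [Algebra R S'] [IsScalarTower R R' S']
  [IsScalarTower R S S']
variable {P : Algebra.Extension.{u} R S} {P' : Algebra.Extension.{u} R' S'}

/-- If `S' ⊗ I/I² → I'/I'²` is surjective onto a projective module and `S' ⊗ (S ⊗ Ω) → S' ⊗ Ω'` is
injective, then the kernel of `bcH1Map f` is a retract of `S' ⊗ I/I²`. -/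
theorem ker_bcH1Map_retract (f : P.Hom P') [Module.Projective S' P'.Cotangent]
    (h₀ : Function.Surjective ((Cotangent.map f).liftBaseChange S'))
    (h₁ : Function.Injective ((CotangentSpace.map f).liftBaseChange S')) :
    ∃ (i : LinearMap.ker (NLCx.bcH1Map (S' := S') f) →ₗ[S'] S' ⊗[S] P.Cotangent)
      (r : S' ⊗[S] P.Cotangent →ₗ[S'] LinearMap.ker (NLCx.bcH1Map (S' := S') f)),
      r ∘ₗ i = LinearMap.id := by
  obtain ⟨σ, hσ⟩ := Module.projective_lifting_property
    ((Cotangent.map f).liftBaseChange S') LinearMap.id h₀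
  have hσ' : ∀ z, (Cotangent.map f).liftBaseChange S' (σ z) = z := fun z => congr($hσ z)
  let π : S' ⊗[S] P.Cotangent →ₗ[S'] S' ⊗[S] P.Cotangent :=
    LinearMap.id - σ ∘ₗ (Cotangent.map f).liftBaseChange S'
  have hπ : ∀ y, (Cotangent.map f).liftBaseChange S' (π y) = 0 := by
    intro y
    simp only [π, LinearMap.sub_apply, LinearMap.id_apply, LinearMap.comp_apply, map_sub, hσ',
      sub_self]
  have hd : ∀ y, (Cotangent.map f).liftBaseChange S' y = 0 → y ∈ NLCx.bcH1 P S' := by
    intro y hy
    change P.cotangentComplex.baseChange S' y = 0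
    apply h₁
    have := congr($(bcMap_comm (S' := S') f) y)
    simp only [LinearMap.coe_comp, Function.comp_apply] at this
    rw [← this, hy, map_zero, map_zero]
  let r : S' ⊗[S] P.Cotangent →ₗ[S'] LinearMap.ker (NLCx.bcH1Map (S' := S') f) :=
    LinearMap.codRestrict _ (LinearMap.codRestrict (NLCx.bcH1 P S') π (fun y => hd _ (hπ y)))
      (fun y => by
        rw [LinearMap.mem_ker]
        apply Subtype.ext
        rw [bcH1Map_apply_coe]
        exact hπ y)
  refine ⟨(NLCx.bcH1 P S').subtype ∘ₗ (LinearMap.ker (NLCx.bcH1Map (S' := S') f)).subtype, r, ?_⟩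
  refine LinearMap.ext fun x => Subtype.ext (Subtype.ext ?_)
  change π x.1.1 = x.1.1
  have hx : (Cotangent.map f).liftBaseChange S' x.1.1 = 0 := by
    have := x.2
    rw [LinearMap.mem_ker] at this
    have h2 := congrArg Subtype.val this
    rw [bcH1Map_apply_coe] at h2
    exact h2
  simp only [π, LinearMap.sub_apply, LinearMap.id_apply, LinearMap.comp_apply, hx, map_zero,
    sub_zero]

theorem ker_bcH1Map_finite_projective (f : P.Hom P') [Module.Projective S' P'.Cotangent]
    [Module.Finite S P.Cotangent] [Module.Projective S P.Cotangent]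
    (h₀ : Function.Surjective ((Cotangent.map f).liftBaseChange S'))
    (h₁ : Function.Injective ((CotangentSpace.map f).liftBaseChange S')) :
    Module.Finite S' (LinearMap.ker (NLCx.bcH1Map (S' := S') f)) ∧
      Module.Projective S' (LinearMap.ker (NLCx.bcH1Map (S' := S') f)) := by
  obtain ⟨i, r, hri⟩ := ker_bcH1Map_retract f h₀ h₁
  have hr : Function.Surjective r := fun y => ⟨i y, congr($hri y)⟩
  exact ⟨Module.Finite.of_surjective r hr, Module.Projective.of_split i r hri⟩

end Retract

section Assemble
variable (A B A' B' : Type u) [CommRing A] [CommRing B] [CommRing A'] [CommRing B'] [Algebra A B]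
  [Algebra A' B'] [Algebra A A'] [Algebra B B'] [Algebra A B'] [IsScalarTower A A' B']
  [IsScalarTower A B B']

/-- In a pushout square the images of generators of `B` over `A` generate `B'` over `A'`. -/
lemma aeval_baseChange_surjective [Algebra.IsPushout A A' B B'] {ι : Type*} (v : ι → B)
    (hv : Function.Surjective (MvPolynomial.aeval (R := A) v)) :
    Function.Surjective (MvPolynomial.aeval (R := A') (fun i => algebraMap B B' (v i))) := by
  intro y
  have hS : IsBaseChange A' (IsScalarTower.toAlgHom A B B').toLinearMap := Algebra.IsPushout.out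
  refine hS.inductionOn y (fun y => ∃ p, MvPolynomial.aeval (R := A')
    (fun i => algebraMap B B' (v i)) p = y) ⟨0, map_zero _⟩ ?_ ?_ ?_
  · intro b
    obtain ⟨p, rfl⟩ := hv b
    refine ⟨MvPolynomial.map (algebraMap A A') p, ?_⟩
    rw [MvPolynomial.aeval_map_algebraMap]
    exact (MvPolynomial.comp_aeval_apply v (IsScalarTower.toAlgHom A B B') p).symm
  · rintro r _ ⟨p, rfl⟩
    exact ⟨r • p, by simp⟩
  · rintro _ _ ⟨p, rfl⟩ ⟨q, rfl⟩
    exact ⟨p + q, by simp⟩

omit [Algebra A' B'] [Algebra A A'] [Algebra B B'] [Algebra A B'] [IsScalarTower A A' B']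
  [IsScalarTower A B B'] [CommRing A'] [CommRing B'] in
/-- Koszul-regularity of the kernel of a presentation on an index type equivalent to `Fin n`. -/
lemma isKRI_ker_generators {ι : Type u} {n : ℕ} (e : ι ≃ Fin n) (G : Generators A B ι)
    (β : MvPolynomial (Fin n) A →ₐ[A] B) (hβ : ∀ i, β (MvPolynomial.X (e i)) = G.val i)
    (h : LCI.IsKoszulRegularIdeal (RingHom.ker β.toRingHom)) :
    LCI.IsKoszulRegularIdeal G.toExtension.ker := by
  let E : MvPolynomial ι A ≃+* MvPolynomial (Fin n) A := (MvPolynomial.renameEquiv A e).toRingEquiv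
  have hcomp : (MvPolynomial.aeval (R := A) G.val) = β.comp (MvPolynomial.rename e) := by
    apply MvPolynomial.algHom_ext
    intro i
    simp [hβ]
  have hker : G.toExtension.ker = (RingHom.ker β.toRingHom).comap (E : MvPolynomial ι A →+* _) := by
    have e1 : G.toExtension.ker = RingHom.ker (MvPolynomial.aeval G.val) := G.ker_eq_ker_aeval_val
    rw [e1]
    ext p
    simp only [RingHom.mem_ker, Ideal.mem_comap]
    rw [hcomp]
    rfl
  rw [hker]
  exact (Groth.Agent.R2.H7.KosIndep.isKRI_comap_ringEquiv E _).2 h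

attribute [local instance] MvPolynomial.algebraMvPolynomial in
/-- **The kernel of `H^{-1}(NL_{B/A} ⊗_B B') → H^{-1}(NL_{B'/A'})` is finite projective when both
`A → B` and `A' → B'` are local complete intersections** (presentations on all elements). -/
theorem ker_self_finite_projective [Algebra.IsPushout A A' B B']
    (hB : LCI.IsLCI A B) (hB' : LCI.IsLCI A' B') :
    Module.Finite B' (LinearMap.ker (NLCx.bcH1Map (S' := B')
        ((Algebra.Generators.self A B).defaultHom (Algebra.Generators.self A' B')).toExtensionHom)) ∧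
      Module.Projective B' (LinearMap.ker (NLCx.bcH1Map (S' := B')
        ((Algebra.Generators.self A B).defaultHom (Algebra.Generators.self A' B')).toExtensionHom)) := by
  obtain ⟨-, n, φ, hφ, hKφ⟩ := hB
  obtain ⟨-, m, ψ, hψ, hKψ⟩ := hB'
  let ι : Type u := ULift.{u} (Fin n)
  let e : ι ≃ Fin n := Equiv.ulift
  let v : ι → B := fun i => φ (MvPolynomial.X (e i))
  have hv : Function.Surjective (MvPolynomial.aeval (R := A) v) := by
    have h1 : (MvPolynomial.aeval (R := A) v) = φ.comp (MvPolynomial.rename e) := by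
      apply MvPolynomial.algHom_ext
      intro i
      simp [v]
    rw [h1]
    exact hφ.comp (MvPolynomial.rename_surjective e e.surjective)
  let G : Generators A B ι := Generators.ofSurjective v hv
  let G' : Generators A' B' ι := Generators.ofSurjective (fun i => algebraMap B B' (v i))
    (aeval_baseChange_surjective A B A' B' v hv)
  have h : ∀ i, G'.val i = algebraMap B B' (G.val i) := fun i => rfl
  have hKG : LCI.IsKoszulRegularIdeal G.toExtension.ker :=
    isKRI_ker_generators A B e G φ (fun i => rfl) hKφ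
  let w : Fin n → B := fun j => φ (MvPolynomial.X j)
  have hw : Function.Surjective (MvPolynomial.aeval (R := A) w) := by
    have h1 : (MvPolynomial.aeval (R := A) w) = φ := by
      apply MvPolynomial.algHom_ext
      intro i
      simp [w]
    rw [h1]
    exact hφ
  let β : MvPolynomial (Fin n) A' →ₐ[A'] B' := MvPolynomial.aeval (fun j => algebraMap B B' (w j))
  have hβ : Function.Surjective β := aeval_baseChange_surjective A B A' B' w hw
  have hKβ : LCI.IsKoszulRegularIdeal (RingHom.ker β.toRingHom) :=
    Groth.Agent.R2.H7.KosIndep.isKRI_ker_of_isKRI_ker ψ hψ β hβ hKψ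
  have hKG' : LCI.IsKoszulRegularIdeal G'.toExtension.ker :=
    isKRI_ker_generators A' B' e G' β (fun i => by simp [β, w, v, G', Generators.ofSurjective]) hKβ
  have : Module.Finite B G.toExtension.Cotangent :=
    Extension.Cotangent.finite (Groth.Agent.R2.H7.KosDesc.fg_of_isKRI hKG)
  have : Module.Projective B G.toExtension.Cotangent :=
    Groth.Agent.R2.H32.LciL.projective_extension_cotangent _
      (Groth.Agent.R2.H6.KRCot.projective_cotangent _ hKG)
  have : Module.Projective B' G'.toExtension.Cotangent :=
    Groth.Agent.R2.H32.LciL.projective_extension_cotangent _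
      (Groth.Agent.R2.H6.KRCot.projective_cotangent _ hKG')
  have key := ker_bcH1Map_finite_projective (S' := B') (NLCx.sameVarsHom G G' h).toExtensionHom
    (sameVars_cotangent_surjective G G' h) (cotangentSpace_sameVars_bijective G G' h).injective
  obtain ⟨E⟩ := nonempty_ker_equiv (S' := B')
    ((Algebra.Generators.self A B).defaultHom (Algebra.Generators.self A' B')).toExtensionHom
    (NLCx.sameVarsHom G G' h).toExtensionHom
    ((Algebra.Generators.self A B).defaultHom G).toExtensionHom
    (G.defaultHom (Algebra.Generators.self A B)).toExtensionHom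
    ((Algebra.Generators.self A' B').defaultHom G').toExtensionHom
    (G'.defaultHom (Algebra.Generators.self A' B')).toExtensionHom
  have := key.1
  have := key.2
  exact ⟨Module.Finite.equiv E.symm, Module.Projective.of_equiv E.symm⟩

end Assemble

end Groth.Agent.R2.H6.NLKer
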