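import Mathlib
import Groth.Prelude.Def_FlatCA

/-!
# Limits of inverse systems of rings with nilpotent transition kernels (helper6, round 2)

Ring-theoretic facts about `FlatCA.IsRingLimit` when the transition maps are surjective with kernels
consisting of nilpotent elements: `1 + ker (π 0)` consists of units, and compatible families of ring maps
into the system lift uniquely to the limit.
-/

set_option autoImplicit false
universe u

namespace Groth.Agent.R2.H6.NilLimit

variable {A : Type u} [CommRing A] {A' : ℕ → Type u} [∀ n, CommRing (A' n)]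
  {φ : ∀ n, A' (n + 1) →+* A' n} {π : ∀ n, A →+* A' n}

/-- the composite transition map `A' n → A' 0` -/
def toZero (φ : ∀ n, A' (n + 1) →+* A' n) : ∀ n, A' n →+* A' 0
  | 0 => RingHom.id _
  | n + 1 => (toZero φ n).comp (φ n)

theorem toZero_surjective (hsurj : ∀ n, Function.Surjective (φ n)) :
    ∀ n, Function.Surjective (toZero φ n)
  | 0 => Function.surjective_id
  | n + 1 => (toZero_surjective hsurj n).comp (hsurj n)

theorem isNilpotent_of_mem_ker_toZero (hnil : ∀ n, ∀ x ∈ RingHom.ker (φ n), IsNilpotent x) :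
    ∀ n, ∀ x ∈ RingHom.ker (toZero φ n), IsNilpotent x
  | 0, x, hx => by
    have : x = 0 := hx
    rw [this]; exact IsNilpotent.zero
  | n + 1, x, hx => by
    have h1 : φ n x ∈ RingHom.ker (toZero φ n) := hx
    obtain ⟨k, hk⟩ := isNilpotent_of_mem_ker_toZero hnil n _ h1
    have h2 : x ^ k ∈ RingHom.ker (φ n) := by rw [RingHom.mem_ker, map_pow, hk]
    obtain ⟨l, hl⟩ := hnil n _ h2
    exact ⟨k * l, by rw [pow_mul, hl]⟩

theorem toZero_comp_pi (hlim : FlatCA.IsRingLimit A A' φ π) :
    ∀ n, (toZero φ n).comp (π n) = π 0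
  | 0 => RingHom.id_comp _
  | n + 1 => by
    change ((toZero φ n).comp (φ n)).comp (π (n + 1)) = π 0
    rw [RingHom.comp_assoc, hlim.1 n, toZero_comp_pi hlim n]

/-- elements of `1 + ker (π 0)` are units of the limit -/
theorem isUnit_one_sub_of_mem_ker (hlim : FlatCA.IsRingLimit A A' φ π)
    (hnil : ∀ n, ∀ x ∈ RingHom.ker (φ n), IsNilpotent x) (k : A) (hk : k ∈ RingHom.ker (π 0)) :
    IsUnit (1 - k) := by
  have hu : ∀ n, IsUnit (π n (1 - k)) := by
    intro n
    rw [map_sub, map_one]
    apply IsNilpotent.isUnit_one_sub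
    apply isNilpotent_of_mem_ker_toZero hnil n
    rw [RingHom.mem_ker, ← RingHom.comp_apply, toZero_comp_pi hlim n]
    exact hk
  choose u hu' using fun n => (hu n)
  have hcompat : ∀ n, φ n (↑(u (n + 1))⁻¹ : A' (n + 1)) = (↑(u n)⁻¹ : A' n) := by
    intro n
    have h1 : φ n (u (n + 1) : A' (n + 1)) = (u n : A' n) := by
      rw [hu', hu', ← RingHom.comp_apply, hlim.1 n]
    have h2 : φ n (↑(u (n + 1))⁻¹ : A' (n + 1)) * (u n : A' n) = 1 := by
      rw [← h1, ← map_mul, Units.inv_mul, map_one]
    exact (Units.eq_inv_of_mul_eq_one_left (by rw [mul_comm]; exact h2))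
  obtain ⟨a, ha⟩ := hlim.2.2 (fun n => (↑(u n)⁻¹ : A' n)) hcompat
  refine IsUnit.of_mul_eq_one a ?_
  apply hlim.2.1
  intro n
  rw [map_mul, ha, ← hu', map_one, Units.mul_inv]

/-- a compatible family of ring maps into the system lifts to the limit -/
theorem exists_ringHom_of_compatible (hlim : FlatCA.IsRingLimit A A' φ π) {B : Type u} [CommRing B]
    (β : ∀ n, B →+* A' n) (hβ : ∀ n, (φ n).comp (β (n + 1)) = β n) :
    ∃ β' : B →+* A, ∀ n, (π n).comp β' = β n := by
  have hex : ∀ b : B, ∃ a : A, ∀ n, π n a = β n b := fun b =>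
    hlim.2.2 (fun n => β n b) (fun n => by rw [← RingHom.comp_apply, hβ])
  choose f hf using hex
  refine ⟨{ toFun := f, map_one' := ?_, map_mul' := ?_, map_zero' := ?_, map_add' := ?_ }, ?_⟩
  · apply hlim.2.1; intro n; rw [hf, map_one, map_one]
  · intro x y; apply hlim.2.1; intro n; rw [hf, map_mul, map_mul, hf, hf]
  · apply hlim.2.1; intro n; rw [hf, map_zero, map_zero]
  · intro x y; apply hlim.2.1; intro n; rw [hf, map_add, map_add, hf, hf]
  · intro n
    ext b
    exact hf b n

end Groth.Agent.R2.H6.NilLimit
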