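import Mathlib
import Groth.Agent.Lib.Helper20FlatAtDesc

/-!
# PROJ:smooth-boot, PKG-A: étaleness at a point descends along flat base change

Thin wrapper around helper20's `exists_etale_nbhd_of_baseChange_flatAt` (which is stated for the
chosen pullback `pullback f g`): transport along `IsPullback.isoPullback`.
-/

set_option autoImplicit false
universe u

open CategoryTheory CategoryTheory.Limits AlgebraicGeometry TensorProduct

namespace Groth.Agent.R2.H6.SBA

theorem pkgA {X' X T' T : Scheme.{u}} {g' : X' ⟶ X} {π' : X' ⟶ T'} {π : X ⟶ T} {g : T' ⟶ T}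
    (sq : IsPullback g' π' π g) [Flat g] [LocallyOfFinitePresentation π] (x' : X')
    (U' : X'.Opens) (hx' : x' ∈ U') (hU' : Etale (U'.ι ≫ π')) :
    ∃ U : X.Opens, g' x' ∈ U ∧ Etale (U.ι ≫ π) := by
  let e : X' ≅ pullback π g := sq.isoPullback
  have he1 : e.hom ≫ pullback.fst π g = g' := sq.isoPullback_hom_fst
  have he2 : e.inv ≫ π' = pullback.snd π g := sq.isoPullback_inv_snd
  let w : ↑(pullback π g) := e.hom x'
  let U'' : (pullback π g).Opens := e.inv ⁻¹ᵁ U'
  have hw : w ∈ U'' := by
    change e.inv (e.hom x') ∈ U'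
    rw [← Scheme.Hom.comp_apply, e.hom_inv_id]
    exact hx'
  have hE : Etale (U''.ι ≫ pullback.snd π g) := by
    have h1 : U''.ι ≫ pullback.snd π g = (e.inv ∣_ U') ≫ (U'.ι ≫ π') := by
      rw [← he2, ← Category.assoc, ← Category.assoc, morphismRestrict_ι]
    rw [h1]
    infer_instance
  have hfl : (g.stalkMap (pullback.snd π g w)).hom.Flat := Flat.stalkMap g _
  obtain ⟨U, hU, hUe⟩ := Groth.Agent.Lib.Helper20.FlatDesc.exists_etale_nbhd_of_baseChange_flatAt
    π g w hfl U'' hw
  refine ⟨U, ?_, hUe⟩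
  have : pullback.fst π g w = g' x' := by
    change pullback.fst π g (e.hom x') = _
    rw [← Scheme.Hom.comp_apply, he1]
  rwa [this] at hU

end Groth.Agent.R2.H6.SBA
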