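import Mathlib
import Groth.Prelude.Def_Mor2
import Groth.Agent.R2.H6SecReg

/-!
# Lifting a regular closed immersion into a smooth scheme (for S1678)
-/

set_option autoImplicit false
universe u

open CategoryTheory CategoryTheory.Limits AlgebraicGeometry TensorProduct

namespace Groth.Agent.R2.H6.SecReg

open Groth.Agent.R2.H6.AdaptedCoordSch RingTheory.Sequence

/-- ring-level: `A → B` smooth, `θ : A ↠ C` with kernel generated by a weakly regular sequence,
`ψ : B ↠ C₀`, `res : C → C₀` smooth with `ψ ∘ φ = res ∘ θ`. Then `ker ψ` is locally generated by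
a weakly regular sequence. -/
theorem ring_regular_lift {A B C C₀ : Type u} [CommRing A] [CommRing B] [CommRing C] [CommRing C₀]
    (φ : A →+* B) (θ : A →+* C) (ψ : B →+* C₀) (res : C →+* C₀)
    (hφ : φ.Smooth) (hθ : Function.Surjective θ) (hψ : Function.Surjective ψ) (hres : res.Smooth)
    (hcomm : ψ.comp φ = res.comp θ)
    (as : List A) (has : IsWeaklyRegular A as) (hker : RingHom.ker θ = Ideal.ofList as)
    (q : Ideal B) [q.IsPrime] (hq : RingHom.ker ψ ≤ q) :
    ∃ f : B, f ∉ q ∧ ∀ (B' : Type u) [CommRing B'] (ρ : B →+* B')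
      (_ : @IsLocalization.Away B _ f B' _ ρ.toAlgebra),
      ∃ rs : List B', IsWeaklyRegular B' rs ∧ (RingHom.ker ψ).map ρ = Ideal.ofList rs := by
  let algAB : Algebra A B := φ.toAlgebra
  have smAB : Algebra.Smooth A B := hφ
  set J : Ideal A := RingHom.ker θ with hJ
  set I : Ideal B := J.map (algebraMap A B) with hI
  -- the base change to `A/J`
  have smQ : Algebra.Smooth (A ⧸ J) (B ⧸ I) :=
    Algebra.Smooth.of_equiv (Algebra.TensorProduct.quotIdealMapEquivQuotTensor B J).symm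
  have hIψ : ∀ b ∈ I, ψ b = 0 := by
    intro b hb
    have : I ≤ RingHom.ker ψ := by
      rw [hI, Ideal.map_le_iff_le_comap]
      intro a ha
      rw [Ideal.mem_comap, RingHom.mem_ker]
      change ψ (φ a) = 0
      rw [← RingHom.comp_apply, hcomm, RingHom.comp_apply, RingHom.mem_ker.mp ha, map_zero]
    exact this hb
  let ψ₁ : B ⧸ I →+* C₀ := Ideal.Quotient.lift I ψ hIψ
  have hψ₁ : Function.Surjective ψ₁ := Ideal.Quotient.lift_surjective_of_surjective I hIψ hψ
  let κ : A ⧸ J ≃+* C := RingHom.quotientKerEquivOfSurjective hθ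
  have hcomp₁ : ψ₁.comp (algebraMap (A ⧸ J) (B ⧸ I)) = res.comp κ.toRingHom := by
    apply Ideal.Quotient.ringHom_ext
    ext a
    change ψ (φ a) = res (κ (Ideal.Quotient.mk J a))
    rw [RingHom.quotientKerEquivOfSurjective_apply_mk, ← RingHom.comp_apply, hcomm]
    rfl
  have hsm₁ : (ψ₁.comp (algebraMap (A ⧸ J) (B ⧸ I))).Smooth := by
    rw [hcomp₁]
    exact RingHom.Smooth.comp (RingHom.Smooth.of_bijective κ.bijective) hres
  have hφ₁ : (algebraMap (A ⧸ J) (B ⧸ I)).Smooth := RingHom.smooth_algebraMap.mpr smQ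
  -- the prime
  have hIq : I ≤ q := fun b hb => hq (RingHom.mem_ker.mpr (hIψ b hb))
  have hkermk : RingHom.ker (Ideal.Quotient.mk I) ≤ q := by rw [Ideal.mk_ker]; exact hIq
  have hq₁ : (q.map (Ideal.Quotient.mk I)).IsPrime :=
    Ideal.map_isPrime_of_surjective Ideal.Quotient.mk_surjective hkermk
  have hq₁c : (q.map (Ideal.Quotient.mk I)).comap (Ideal.Quotient.mk I) = q := by
    rw [Ideal.comap_map_of_surjective _ Ideal.Quotient.mk_surjective, ← RingHom.ker_eq_comap_bot]
    exact sup_eq_left.mpr hkermk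
  have hkerψ₁ : RingHom.ker ψ₁ = (RingHom.ker ψ).map (Ideal.Quotient.mk I) := by
    apply le_antisymm
    · intro x hx
      obtain ⟨b, rfl⟩ := Ideal.Quotient.mk_surjective x
      exact Ideal.mem_map_of_mem _ (RingHom.mem_ker.mpr (by simpa [ψ₁] using hx))
    · rw [Ideal.map_le_iff_le_comap]
      intro b hb
      rw [Ideal.mem_comap, RingHom.mem_ker]
      change ψ b = 0
      exact hb
  have hq₁' : RingHom.ker ψ₁ ≤ q.map (Ideal.Quotient.mk I) := by
    rw [hkerψ₁]
    exact Ideal.map_mono hq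
  obtain ⟨f₁, hf₁, H₁⟩ := ring_regular _ ψ₁ hφ₁ hsm₁ hψ₁ _ hq₁'
  obtain ⟨f, rfl⟩ := Ideal.Quotient.mk_surjective f₁
  have hfq : f ∉ q := fun h => hf₁ (Ideal.mem_map_of_mem _ h)
  refine ⟨f, hfq, fun B' _ ρ hloc => ?_⟩
  let algBB' : Algebra B B' := ρ.toAlgebra
  have hloc' : IsLocalization.Away f B' := hloc
  let algAB' : Algebra A B' := (ρ.comp φ).toAlgebra
  have tower : IsScalarTower A B B' := IsScalarTower.of_algebraMap_eq (fun a => rfl)
  set I' : Ideal B' := I.map (algebraMap B B') with hI'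
  -- localization of the quotient
  have hlocQ : IsLocalization (Algebra.algebraMapSubmonoid (B ⧸ I) (Submonoid.powers f))
      (B' ⧸ I') := inferInstance
  have hsub : Algebra.algebraMapSubmonoid (B ⧸ I) (Submonoid.powers f) =
      Submonoid.powers (Ideal.Quotient.mk I f) := by
    simp [Algebra.algebraMapSubmonoid, Submonoid.map_powers]
  have hlocQ' : IsLocalization.Away (Ideal.Quotient.mk I f) (B' ⧸ I') := by
    unfold IsLocalization.Away
    rw [← hsub]
    exact hlocQ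
  let ρ₁ : B ⧸ I →+* B' ⧸ I' := algebraMap _ _
  have halg : ρ₁.toAlgebra = (inferInstance : Algebra (B ⧸ I) (B' ⧸ I')) :=
    Algebra.algebra_ext _ _ (fun _ => rfl)
  obtain ⟨rs₁, hrs₁, hk₁⟩ := H₁ (B' ⧸ I') ρ₁ (by rw [halg]; exact hlocQ')
  obtain ⟨rs₂, rfl⟩ : ∃ rs₂ : List B', rs₂.map (Ideal.Quotient.mk I') = rs₁ :=
    List.map_surjective_iff.mpr Ideal.Quotient.mk_surjective rs₁
  -- the regular sequence coming from `A`
  have flatAB : Module.Flat A B := inferInstance
  have flatBB' : Module.Flat B B' := IsLocalization.flat B' (Submonoid.powers f)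
  have flatAB' : Module.Flat A B' := Module.Flat.trans A B B'
  have has' : IsWeaklyRegular B' (as.map (algebraMap A B')) := has.of_flat
  have hofas' : Ideal.ofList (as.map (algebraMap A B')) = I' := by
    rw [← Ideal.map_ofList, ← hker, hI', hI, Ideal.map_map]
    rfl
  have hreg2 : IsWeaklyRegular
      (B' ⧸ (Ideal.ofList (as.map (algebraMap A B')) • ⊤ : Submodule B' B')) rs₂ := by
    have e : (B' ⧸ (Ideal.ofList (as.map (algebraMap A B')) • ⊤ : Submodule B' B')) ≃ₗ[B']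
        (B' ⧸ I') :=
      Submodule.quotEquivOfEq _ _ (by rw [hofas', smul_eq_mul, Ideal.mul_top])
    rw [e.isWeaklyRegular_congr]
    exact (isWeaklyRegular_map_algebraMap_iff (B' ⧸ I') (B' ⧸ I') rs₂).mp hrs₁
  refine ⟨as.map (algebraMap A B') ++ rs₂,
    (isWeaklyRegular_append_iff B' _ _).mpr ⟨has', hreg2⟩, ?_⟩
  rw [Ideal.ofList_append, hofas']
  -- the kernel
  have hI'K : I' ≤ (RingHom.ker ψ).map ρ := by
    rw [hI']
    exact Ideal.map_mono (fun b hb => RingHom.mem_ker.mpr (hIψ b hb))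
  have hsq : ρ₁.comp (Ideal.Quotient.mk I) = (Ideal.Quotient.mk I').comp ρ := by
    ext b
    rfl
  have h1 : ((RingHom.ker ψ).map ρ).map (Ideal.Quotient.mk I') =
      (Ideal.ofList rs₂).map (Ideal.Quotient.mk I') := by
    rw [Ideal.map_ofList, ← hk₁, hkerψ₁, Ideal.map_map, Ideal.map_map, hsq]
  have h2 := congrArg (Ideal.comap (Ideal.Quotient.mk I')) h1
  rw [Ideal.comap_map_of_surjective _ Ideal.Quotient.mk_surjective,
    Ideal.comap_map_of_surjective _ Ideal.Quotient.mk_surjective, ← RingHom.ker_eq_comap_bot,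
    Ideal.mk_ker, sup_eq_left.mpr hI'K] at h2
  rw [h2, sup_comm]

/-- If `X → S` is smooth, `i : Y → X` and `j = i ≫ p : Y → S` are closed immersions and `j` is a
regular closed immersion, then so is `i`. -/
theorem isRegularClosedImmersion_lift {X Y S : Scheme.{u}} (p : X ⟶ S) [Smooth p] (i : Y ⟶ X)
    (j : Y ⟶ S) [IsClosedImmersion i] [IsClosedImmersion j] (h : i ≫ p = j)
    (hj : Mor2.IsRegularClosedImmersion j) : Mor2.IsRegularClosedImmersion i := by
  refine ⟨inferInstance, fun y => ?_⟩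
  obtain ⟨US, hUS, hyUS, as, has, hkerj⟩ := hj.2 y
  rw [Scheme.Hom.ker_apply] at hkerj
  have hpiy : p (i y) ∈ US := by
    rw [← Scheme.Hom.comp_apply, h]; exact hyUS
  obtain ⟨_, ⟨U₀ : X.Opens, hU₀, rfl⟩, hxU₀, hU₀V⟩ :=
    X.isBasis_affineOpens.exists_subset_of_mem_open (show i y ∈ (p ⁻¹ᵁ US : Set X) from hpiy)
      (p ⁻¹ᵁ US).2
  replace hU₀ : IsAffineOpen U₀ := hU₀
  replace hU₀V : U₀ ≤ p ⁻¹ᵁ US := hU₀V
  have hW₀ : IsAffineOpen (i ⁻¹ᵁ U₀) := hU₀.preimage i
  have hWS : IsAffineOpen (j ⁻¹ᵁ US) := hUS.preimage j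
  have hW₀le : i ⁻¹ᵁ U₀ ≤ j ⁻¹ᵁ US := by
    intro z hz
    have : p (i z) ∈ US := hU₀V hz
    rw [← h]
    exact this
  have hφ : (p.appLE US U₀ hU₀V).hom.Smooth := p.smooth_appLE hUS hU₀ hU₀V
  have hθ : Function.Surjective (j.app US).hom := j.app_surjective US hUS
  have hψ : Function.Surjective (i.app U₀).hom := i.app_surjective U₀ hU₀
  have hres : (Y.presheaf.map (homOfLE hW₀le).op).hom.Smooth := by
    have h1 := Scheme.Hom.smooth_appLE (𝟙 Y) hWS hW₀ hW₀le
    have h2 : Scheme.Hom.appLE (𝟙 Y) (j ⁻¹ᵁ US) (i ⁻¹ᵁ U₀) hW₀le =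
        Y.presheaf.map (homOfLE hW₀le).op := by
      simp only [Scheme.Hom.appLE, Scheme.Hom.id_app]
      exact Category.id_comp _
    rwa [h2] at h1
  have hcomm : (i.app U₀).hom.comp (p.appLE US U₀ hU₀V).hom =
      (Y.presheaf.map (homOfLE hW₀le).op).hom.comp (j.app US).hom := by
    rw [← CommRingCat.hom_comp, ← CommRingCat.hom_comp, ← Scheme.Hom.appLE_eq_app,
      Scheme.Hom.appLE_comp_appLE]
    simp only [h]
    rfl
  have hq : RingHom.ker (i.app U₀).hom ≤ (hU₀.primeIdealOf ⟨i y, hxU₀⟩).asIdeal := by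
    intro b hb
    by_contra hbq
    have h1 : i y ∈ X.basicOpen b := (mem_basicOpen_iff_notMem_primeIdealOf hU₀ _ hxU₀ b).mpr hbq
    have h2 : y ∈ i ⁻¹ᵁ X.basicOpen b := h1
    rw [Scheme.preimage_basicOpen, RingHom.mem_ker.mp hb, Scheme.basicOpen_zero] at h2
    exact h2
  obtain ⟨f, hfq, H⟩ := ring_regular_lift _ _ _ _ hφ hθ hψ hres hcomm as has.toIsWeaklyRegular
    hkerj _ hq
  have hxU : i y ∈ X.basicOpen f := (mem_basicOpen_iff_notMem_primeIdealOf hU₀ _ hxU₀ f).mpr hfq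
  have hU : IsAffineOpen (X.basicOpen f) := hU₀.basicOpen f
  have hUle : X.basicOpen f ≤ U₀ := X.basicOpen_le f
  have hloc := hU₀.isLocalization_basicOpen f
  obtain ⟨rs, hreg, hkerv⟩ := H Γ(X, X.basicOpen f) (X.presheaf.map (homOfLE hUle).op).hom hloc
  -- the kernel of `i.app U`
  have hWle : i ⁻¹ᵁ X.basicOpen f ≤ i ⁻¹ᵁ U₀ := fun z hz => hUle hz
  have hsq : (i.app (X.basicOpen f)).hom.comp (X.presheaf.map (homOfLE hUle).op).hom =
      (Y.presheaf.map (homOfLE hWle).op).hom.comp (i.app U₀).hom := by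
    rw [← CommRingCat.hom_comp, ← CommRingCat.hom_comp]
    congr 1
    exact i.naturality (homOfLE hUle).op
  have hlocC := hW₀.isLocalization_of_eq_basicOpen ((i.app U₀).hom f) (homOfLE hWle)
    (Scheme.preimage_basicOpen i f)
  have hK2 := ker_le_map_of_isLocalization (i.app U₀).hom (X.presheaf.map (homOfLE hUle).op).hom
    (Y.presheaf.map (homOfLE hWle).op).hom (i.app (X.basicOpen f)).hom hsq f hloc hlocC
  have hK1 : (RingHom.ker (i.app U₀).hom).map (X.presheaf.map (homOfLE hUle).op).hom ≤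
      RingHom.ker (i.app (X.basicOpen f)).hom := by
    rw [Ideal.map_le_iff_le_comap]
    intro b hb
    rw [Ideal.mem_comap, RingHom.mem_ker, ← RingHom.comp_apply, hsq, RingHom.comp_apply,
      RingHom.mem_ker.mp hb, map_zero]
  have hker : RingHom.ker (i.app (X.basicOpen f)).hom = Ideal.ofList rs := by
    rw [← hkerv]
    exact le_antisymm hK2 hK1
  refine ⟨X.basicOpen f, hU, hxU, rs, ⟨hreg, ?_⟩, ?_⟩
  · rw [← hker, smul_eq_mul, Ideal.mul_top]
    intro htop
    have h1 : (1 : Γ(X, X.basicOpen f)) ∈ RingHom.ker (i.app (X.basicOpen f)).hom := by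
      rw [← htop]; trivial
    rw [RingHom.mem_ker, map_one] at h1
    have h2 : y ∈ Y.basicOpen (1 : Γ(Y, i ⁻¹ᵁ X.basicOpen f)) := by
      rw [Scheme.basicOpen_of_isUnit _ isUnit_one]
      exact hxU
    rw [h1, Scheme.basicOpen_zero] at h2
    exact h2
  · rw [Scheme.Hom.ker_apply]
    exact hker

end Groth.Agent.R2.H6.SecReg
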