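import Mathlib

/-!
# Slicing a flat finitely presented algebra down to a quasi-finite one: commutative algebra

Helper library (helper6) for `S9432`.  Pure Mathlib, no Prelude definitions.

* `exists_notMem_minimal_mem_associated`, `associatedPrimes_away`, `isPrime_map_away`,
  `map_le_of_isPrime_away`: in a noetherian ring `F` with minimal prime `q₀` choose `g ∉ q₀` lying in
  all other associated primes; then `F_g` has `q₀ F_g` as its only associated prime, and it is
  contained in every prime.
* `flat_of_pid`: a ring map from a PID to a noetherian ring is flat if some element maps outside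
  every associated prime `P'` but inside a proper ideal containing `P'`.
* `ringKrullDim_le_of_isLocalization`, arithmetic on `WithBot ℕ∞`.
* `exists_slice_quotient`: for a flat f.p. `R[X]`-algebra `B`, `R ⊗[R[X]] B` (i.e. `B/XB`) is a flat
  f.p. `R`-algebra and a quotient of `B`; primes of `B` containing `X` descend.
* `fiberHom`, `fiberAlg`, `isLocalization_fiber`: functoriality of the fibre `p.Fiber C` and its
  compatibility with localization away from an element.
* `Good p C`, `good_of_quasiFiniteAt`: the target of the slicing procedure, and the final step via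
  Zariski's main theorem.
-/

set_option autoImplicit false
universe u

open TensorProduct Polynomial

namespace Groth.Agent.R2.H6.Slice

section AssChoice

variable {F : Type u} [CommRing F] [IsNoetherianRing F]

/-- Choice of an element avoiding a minimal prime but lying in all other associated primes. -/
theorem exists_notMem_minimal_mem_associated (q₀ : Ideal F) (hq₀ : q₀ ∈ minimalPrimes F) :
    ∃ g : F, g ∉ q₀ ∧ ∀ P ∈ associatedPrimes F F, P ≠ q₀ → g ∈ P := by
  classical
  have hfin : (associatedPrimes F F).Finite := associatedPrimes.finite F F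
  have hq₀p : q₀.IsPrime := hq₀.1.1
  let s : Finset (Ideal F) := hfin.toFinset.erase q₀
  have hnot : ¬ (s.prod (fun P => P) ≤ q₀) := by
    intro hle
    obtain ⟨P, hPs, hPq⟩ := (Ideal.IsPrime.prod_le hq₀p).mp hle
    have hP : P ∈ associatedPrimes F F := by
      have := Finset.mem_of_mem_erase hPs
      simpa using this
    have hPne : P ≠ q₀ := Finset.ne_of_mem_erase hPs
    have hPp : P.IsPrime := hP.isPrime
    exact hPne (le_antisymm hPq (hq₀.2 ⟨hPp, bot_le⟩ hPq))
  obtain ⟨g, hg, hgq⟩ := SetLike.not_le_iff_exists.mp hnot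
  refine ⟨g, hgq, fun P hP hne => ?_⟩
  have hPs : P ∈ s := Finset.mem_erase.mpr ⟨hne, by simpa using hP⟩
  exact (Ideal.prod_le_inf.trans (Finset.inf_le hPs)) hg

end AssChoice

section AssLoc

variable {F : Type u} [CommRing F]
  {F₁ : Type u} [CommRing F₁] [Algebra F F₁]

theorem disjoint_powers_of_notMem (g : F) (q₀ : Ideal F) [q₀.IsPrime] (hgq : g ∉ q₀) :
    Disjoint (Submonoid.powers g : Set F) (q₀ : Set F) := by
  rw [Set.disjoint_left]
  rintro x ⟨n, rfl⟩ hx
  exact hgq (Ideal.IsPrime.mem_of_pow_mem inferInstance n hx)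

theorem isPrime_map_away (g : F) [IsLocalization.Away g F₁] (q₀ : Ideal F) [q₀.IsPrime]
    (hgq : g ∉ q₀) : (q₀.map (algebraMap F F₁)).IsPrime ∧
      (q₀.map (algebraMap F F₁)).comap (algebraMap F F₁) = q₀ :=
  ⟨IsLocalization.isPrime_of_isPrime_disjoint (Submonoid.powers g) F₁ q₀ inferInstance
      (disjoint_powers_of_notMem g q₀ hgq),
    IsLocalization.under_map_of_isPrime_disjoint (Submonoid.powers g) F₁ inferInstance
      (disjoint_powers_of_notMem g q₀ hgq)⟩

variable [IsNoetherianRing F]

/-- After inverting `g`, the only associated prime is the extension of `q₀`. -/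
theorem associatedPrimes_away (g : F) [IsLocalization.Away g F₁] (q₀ : Ideal F) [q₀.IsPrime]
    (hg : ∀ P ∈ associatedPrimes F F, P ≠ q₀ → g ∈ P)
    (P' : Ideal F₁) (hP' : P' ∈ associatedPrimes F₁ F₁) :
    P' = q₀.map (algebraMap F F₁) := by
  have hloc : IsLocalizedModule (Submonoid.powers g) (Algebra.linearMap F F₁) :=
    (isLocalizedModule_iff_isLocalization).mpr inferInstance
  have hP'p : P'.IsPrime := hP'.isPrime
  have h1 : P'.comap (algebraMap F F₁) ∈ associatedPrimes F F := by
    have := Module.associatedPrimes.preimage_comap_associatedPrimes_eq_associatedPrimes_of_isLocalizedModule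
      (Submonoid.powers g) F₁ (Algebra.linearMap F F₁)
    rw [← this] at hP'
    exact hP'
  have h2 : g ∉ P'.comap (algebraMap F F₁) := by
    intro hmem
    have hu : IsUnit (algebraMap F F₁ g) := IsLocalization.Away.algebraMap_isUnit g
    exact hP'p.ne_top (Ideal.eq_top_of_isUnit_mem _ hmem hu)
  have h3 : P'.comap (algebraMap F F₁) = q₀ := by
    by_contra hne
    exact h2 (hg _ h1 hne)
  rw [← h3]
  exact (IsLocalization.map_under (Submonoid.powers g) F₁ P').symm

theorem map_le_of_isPrime_away (g : F) [IsLocalization.Away g F₁] (q₀ : Ideal F) [q₀.IsPrime]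
    (hg : ∀ P ∈ associatedPrimes F F, P ≠ q₀ → g ∈ P)
    (P' : Ideal F₁) [P'.IsPrime] : q₀.map (algebraMap F F₁) ≤ P' := by
  have : IsNoetherianRing F₁ :=
    IsLocalization.isNoetherianRing (Submonoid.powers g) F₁ inferInstance
  obtain ⟨P₀, hP₀, hle⟩ := Ideal.exists_minimalPrimes_le (I := (⊥ : Ideal F₁)) (J := P') bot_le
  have hass : P₀ ∈ associatedPrimes F₁ F₁ := by
    apply Module.associatedPrimes.minimalPrimes_annihilator_subset_associatedPrimes F₁ F₁
    rwa [Module.annihilator_eq_bot.mpr inferInstance]
  rw [← associatedPrimes_away g q₀ hg P₀ hass]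
  exact hle

end AssLoc

section PID

variable {T : Type u} [CommRing T] [IsDomain T] [IsPrincipalIdealRing T]
  {F₁ : Type u} [CommRing F₁] [IsNoetherianRing F₁]

/-- A ring map from a PID to a noetherian ring is flat as soon as some element of the PID maps
outside every associated prime but inside a proper ideal containing it. -/
theorem flat_of_pid (ψ : T →+* F₁) (x : T)
    (H : ∀ P' ∈ associatedPrimes F₁ F₁, ψ x ∉ P' ∧ ∃ n₁ : Ideal F₁, n₁ ≠ ⊤ ∧ P' ≤ n₁ ∧ ψ x ∈ n₁) :
    ψ.Flat := by
  let _ := ψ.toAlgebra
  show Module.Flat T F₁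
  rw [Module.Flat.flat_iff_torsion_eq_bot_of_isBezout]
  rw [eq_bot_iff]
  intro m hm
  rw [Submodule.mem_torsion_iff] at hm
  obtain ⟨⟨t, ht⟩, htm⟩ := hm
  rw [Submodule.mem_bot]
  by_contra hm0
  have ht0 : t ≠ 0 := nonZeroDivisors.ne_zero ht
  have hzd : ψ t ∈ {r : F₁ | ∃ y : F₁, y ≠ 0 ∧ r • y = 0} := by
    refine ⟨m, hm0, ?_⟩
    have : t • m = 0 := htm
    rwa [Algebra.smul_def] at this
  rw [← biUnion_associatedPrimes_eq_zero_divisors F₁ F₁] at hzd
  simp only [Set.mem_iUnion, SetLike.mem_coe] at hzd
  obtain ⟨P', hP', htP'⟩ := hzd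
  obtain ⟨hx, n₁, hn₁, hPn, hxn⟩ := H P' hP'
  have hP'p : P'.IsPrime := hP'.isPrime
  have hpp : (P'.comap ψ).IsPrime := Ideal.comap_isPrime ψ P'
  have hne : P'.comap ψ ≠ ⊥ := by
    intro h
    have : t ∈ P'.comap ψ := htP'
    rw [h] at this
    exact ht0 this
  have hmax : (P'.comap ψ).IsMaximal := hpp.isMaximal hne
  have hle : P'.comap ψ ≤ n₁.comap ψ := Ideal.comap_mono hPn
  have hne' : n₁.comap ψ ≠ ⊤ := by
    rw [Ne, Ideal.comap_eq_top_iff]
    exact hn₁
  have heq : P'.comap ψ = n₁.comap ψ := hmax.eq_of_le hne' hle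
  have : x ∈ P'.comap ψ := by
    rw [heq]
    exact hxn
  exact hx this

end PID

section Dim

theorem ringKrullDim_le_of_isLocalization {F F₁ : Type*} [CommRing F] [CommRing F₁] [Algebra F F₁]
    (M : Submonoid F) [IsLocalization M F₁] : ringKrullDim F₁ ≤ ringKrullDim F := by
  apply Order.krullDim_le_of_strictMono (f := PrimeSpectrum.comap (algebraMap F F₁))
  apply Monotone.strictMono_of_injective
  · intro a b hab
    exact Ideal.comap_mono hab
  · exact PrimeSpectrum.localization_comap_injective F₁ M

theorem withBot_enat_le_of_add_one_le (a : WithBot ℕ∞) (n : ℕ)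
    (h : a + 1 ≤ ((n + 1 : ℕ) : WithBot ℕ∞)) : a ≤ (n : WithBot ℕ∞) := by
  induction a with
  | bot => exact bot_le
  | coe e =>
    have h' : ((e + 1 : ℕ∞) : WithBot ℕ∞) ≤ (((n + 1 : ℕ) : ℕ∞) : WithBot ℕ∞) := by
      simpa using h
    rw [WithBot.coe_le_coe] at h'
    have : e ≤ (n : ℕ∞) := by
      induction e with
      | top => simp at h'
      | coe k =>
        norm_cast at h' ⊢
        omega
    exact_mod_cast this

theorem not_add_one_le_zero_of_nonneg (a : WithBot ℕ∞) (ha : 0 ≤ a)
    (h : a + 1 ≤ ((0 : ℕ) : WithBot ℕ∞)) : False := by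
  induction a with
  | bot => simp at ha
  | coe e =>
    have h' : ((e + 1 : ℕ∞) : WithBot ℕ∞) ≤ ((0 : ℕ∞) : WithBot ℕ∞) := by
      simp at h
    rw [WithBot.coe_le_coe] at h'
    simp at h'

end Dim

section Quot

variable {R B : Type u} [CommRing R] [CommRing B] [Algebra R B] [Algebra R[X] B]
  [IsScalarTower R R[X] B]

/-- Setting `X = 0` in a flat finitely presented `R[X]`-algebra `B` gives a flat finitely
presented `R`-algebra, which is a quotient of `B`. -/
theorem exists_slice_quotient [Module.Flat R[X] B] [Algebra.FinitePresentation R[X] B] :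
    ∃ (B' : Type u) (_ : CommRing B') (_ : Algebra R B') (φ : B →ₐ[R] B'),
      Algebra.FinitePresentation R B' ∧ Module.Flat R B' ∧ Function.Surjective φ ∧
      φ (algebraMap R[X] B X) = 0 ∧
      ∀ (N : Ideal B) [N.IsPrime], algebraMap R[X] B X ∈ N →
        ∃ N' : Ideal B', N'.IsPrime ∧ N'.comap φ.toRingHom = N := by
  let algRX : Algebra R[X] R := (Polynomial.aeval (0 : R)).toRingHom.toAlgebra
  have halg : ∀ P : R[X], algebraMap R[X] R P = P.eval 0 := by
    intro P
    show (Polynomial.aeval (0 : R)) P = _
    simp [Polynomial.aeval_def, Polynomial.eval₂_eq_eval_map]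
  have hsurj : Function.Surjective (algebraMap R[X] R) := by
    intro r
    exact ⟨C r, by simp [halg]⟩
  let B' := R ⊗[R[X]] B
  have hcomm : ∀ r : R, (Algebra.TensorProduct.includeRight : B →ₐ[R[X]] B') (algebraMap R B r) =
      algebraMap R B' r := by
    intro r
    rw [IsScalarTower.algebraMap_apply R R[X] B, Algebra.TensorProduct.includeRight_apply,
      Algebra.TensorProduct.algebraMap_apply,
      Algebra.algebraMap_eq_smul_one ((algebraMap R R[X]) r),
      ← TensorProduct.smul_tmul, Algebra.smul_def, halg]
    simp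
  let φ : B →ₐ[R] B' :=
    { toRingHom := (Algebra.TensorProduct.includeRight : B →ₐ[R[X]] B').toRingHom
      commutes' := hcomm }
  have hφ : ∀ b, φ b = (1 : R) ⊗ₜ[R[X]] b := fun b => rfl
  refine ⟨B', inferInstance, inferInstance, φ, inferInstance, inferInstance, ?_, ?_, ?_⟩
  · exact Algebra.TensorProduct.includeRight_surjective B hsurj
  · rw [hφ, Algebra.algebraMap_eq_smul_one, ← TensorProduct.smul_tmul, Algebra.smul_def, halg]
    simp
  · intro N _ hN
    have key : ∀ P : R[X], algebraMap R N.ResidueField (algebraMap R[X] R P) =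
        algebraMap R[X] N.ResidueField P := by
      intro P
      have : (algebraMap R N.ResidueField).comp (algebraMap R[X] R) =
          algebraMap R[X] N.ResidueField := by
        apply Polynomial.ringHom_ext
        · intro a
          simp only [RingHom.comp_apply, halg, eval_C]
          rw [IsScalarTower.algebraMap_apply R[X] B N.ResidueField,
            IsScalarTower.algebraMap_apply R B N.ResidueField,
            IsScalarTower.algebraMap_apply R R[X] B]
          rfl
        · simp only [RingHom.comp_apply, halg, eval_X, map_zero]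
          rw [IsScalarTower.algebraMap_apply R[X] B N.ResidueField]
          exact ((Ideal.algebraMap_residueField_eq_zero).mpr hN).symm
      exact congrArg (fun h => h P) this
    let f : R →ₐ[R[X]] N.ResidueField :=
      { toRingHom := algebraMap R N.ResidueField
        commutes' := key }
    let g : B →ₐ[R[X]] N.ResidueField := IsScalarTower.toAlgHom R[X] B N.ResidueField
    let χ : B' →ₐ[R[X]] N.ResidueField :=
      Algebra.TensorProduct.lift f g (fun _ _ => Commute.all _ _)
    refine ⟨RingHom.ker χ.toRingHom, RingHom.ker_isPrime _, ?_⟩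
    ext b
    rw [Ideal.mem_comap, RingHom.mem_ker]
    show χ (φ b) = 0 ↔ _
    rw [hφ, Algebra.TensorProduct.lift_tmul, map_one, one_mul]
    show algebraMap B N.ResidueField b = 0 ↔ _
    exact Ideal.algebraMap_residueField_eq_zero

end Quot

section FibreLoc

variable {R : Type u} [CommRing R] (p : Ideal R) [p.IsPrime]
  {C C' : Type u} [CommRing C] [CommRing C'] [Algebra R C] [Algebra R C']

/-- The map induced on fibres over `p`. -/
noncomputable abbrev fiberHom (φ : C →ₐ[R] C') : p.Fiber C →ₐ[p.ResidueField] p.Fiber C' :=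
  Algebra.TensorProduct.map (AlgHom.id _ _) φ

theorem fiberHom_tmul (φ : C →ₐ[R] C') (k : p.ResidueField) (c : C) :
    fiberHom p φ (k ⊗ₜ c) = k ⊗ₜ φ c := by
  simp [fiberHom]

theorem fiberHom_surjective (φ : C →ₐ[R] C') (hφ : Function.Surjective φ) :
    Function.Surjective (fiberHom p φ) := by
  have : (fiberHom p φ : p.Fiber C → p.Fiber C') = (φ.toLinearMap.lTensor p.ResidueField) := by
    ext x
    induction x using TensorProduct.induction_on with
    | zero => simp
    | tmul k c => simp [fiberHom]
    | add a b ha hb => simp only [map_add, ha, hb]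
  rw [this]
  exact LinearMap.lTensor_surjective _ hφ

variable [Algebra C C'] [IsScalarTower R C C']

/-- The algebra structure of the fibre of `C'` over the fibre of `C`. -/
@[reducible] noncomputable def fiberAlg : Algebra (p.Fiber C) (p.Fiber C') :=
  (fiberHom p (IsScalarTower.toAlgHom R C C')).toRingHom.toAlgebra

theorem fiberAlg_algebraMap :
    @algebraMap (p.Fiber C) (p.Fiber C') _ _ (fiberAlg p) =
      (fiberHom p (IsScalarTower.toAlgHom R C C')).toRingHom := rfl

theorem isLocalization_fiber (a : C) [IsLocalization.Away a C'] :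
    @IsLocalization.Away (p.Fiber C) _ ((1 : p.ResidueField) ⊗ₜ[R] a) (p.Fiber C') _
      (fiberAlg p) := by
  let _ := fiberAlg p (C := C) (C' := C')
  have hst : IsScalarTower p.ResidueField (p.Fiber C) (p.Fiber C') :=
    IsScalarTower.of_algebraMap_eq (R := p.ResidueField) (S := p.Fiber C) (A := p.Fiber C') <| by
      intro x
      have : algebraMap (p.Fiber C) (p.Fiber C') =
        (fiberHom p (IsScalarTower.toAlgHom R C C')).toRingHom := rfl
      rw [this]
      simp
  have := IsLocalization.tensorProduct_tensorProduct_right R p.ResidueField (Submonoid.powers a) C'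
    (by
      have : algebraMap (p.Fiber C) (p.Fiber C') =
        (fiberHom p (IsScalarTower.toAlgHom R C C')).toRingHom := rfl
      rw [this]
      ext c
      simp)
  simp only [Submonoid.map_powers, Algebra.TensorProduct.includeRight_apply] at this
  exact this

end FibreLoc

section Good

variable {R : Type u} [CommRing R] (p : Ideal R) [p.IsPrime]

/-- The output of the slicing procedure over the prime `p`: a flat, finitely presented,
quasi-finite `R`-algebra with non-empty fibre over `p`, receiving a map from `C`. -/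
def Good (C : Type u) [CommRing C] [Algebra R C] : Prop :=
  ∃ (C' : Type u) (_ : CommRing C') (_ : Algebra R C'),
    Algebra.FinitePresentation R C' ∧ Module.Flat R C' ∧ Algebra.QuasiFinite R C' ∧
      Nontrivial (p.Fiber C') ∧ Nonempty (C →ₐ[R] C')

variable {p}

theorem Good.of_algHom {C D : Type u} [CommRing C] [Algebra R C] [CommRing D] [Algebra R D]
    (φ : C →ₐ[R] D) (h : Good p D) : Good p C := by
  obtain ⟨C', i1, i2, h1, h2, h3, h4, ⟨ψ⟩⟩ := h
  exact ⟨C', i1, i2, h1, h2, h3, h4, ⟨ψ.comp φ⟩⟩

theorem nontrivial_fiber_of_liesOver {C : Type u} [CommRing C] [Algebra R C]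
    (Q : Ideal C) [Q.IsPrime] [Q.LiesOver p] : Nontrivial (p.Fiber C) :=
  (PrimeSpectrum.nonempty_iff_nontrivial).mp
    ⟨PrimeSpectrum.primesOverOrderIsoFiber R C p ⟨Q, ⟨inferInstance, inferInstance⟩⟩⟩

theorem isPrime_liesOver_comap_fiber {C : Type u} [CommRing C] [Algebra R C]
    (Q : Ideal (p.Fiber C)) [Q.IsPrime] :
    (Q.comap (Algebra.TensorProduct.includeRight : C →ₐ[R] p.Fiber C).toRingHom).IsPrime ∧
    (Q.comap (Algebra.TensorProduct.includeRight : C →ₐ[R] p.Fiber C).toRingHom).LiesOver p := by
  have h := ((PrimeSpectrum.primesOverOrderIsoFiber R C p).symm ⟨Q, inferInstance⟩).2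
  exact h

/-- Final step: if the fibre is quasi-finite at some prime, Zariski's main theorem produces a
principal open of `Spec C` which is quasi-finite over `R`. -/
theorem good_of_quasiFiniteAt {C : Type u} [CommRing C] [Algebra R C]
    [Algebra.FinitePresentation R C] [Module.Flat R C]
    (Q : Ideal (p.Fiber C)) [Q.IsPrime] [Algebra.QuasiFiniteAt p.ResidueField Q] : Good p C := by
  let q : Ideal C := Q.comap (Algebra.TensorProduct.includeRight : C →ₐ[R] p.Fiber C).toRingHom
  have hq := isPrime_liesOver_comap_fiber Q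
  have hq1 : q.IsPrime := hq.1
  have hq2 : q.LiesOver p := hq.2
  have hqf : Algebra.QuasiFiniteAt R q :=
    Algebra.QuasiFiniteAt.of_quasiFiniteAt_residueField p q Q rfl
  obtain ⟨S', hS', r, hrq, H⟩ :=
    Algebra.QuasiFiniteAt.exists_fg_and_exists_notMem_and_awayMap_bijective (R := R) q
  have : Module.Finite R S' := ⟨(Submodule.fg_top _).mpr hS'⟩
  have : Algebra.QuasiFinite R (Localization.Away r) := .trans _ S' _
  have hQF : Algebra.QuasiFinite R (Localization.Away r.1) :=
    .of_surjective_algHom (Localization.awayMapₐ S'.val r) H.2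
  have hFPloc : Algebra.FinitePresentation C (Localization.Away r.1) :=
    IsLocalization.Away.finitePresentation r.1
  have hFP : Algebra.FinitePresentation R (Localization.Away r.1) :=
    Algebra.FinitePresentation.trans R C (Localization.Away r.1)
  have hflat : Module.Flat R (Localization.Away r.1) := by
    have : Module.Flat C (Localization.Away r.1) := IsLocalization.flat _ (Submonoid.powers r.1)
    exact Module.Flat.trans R C (Localization.Away r.1)
  refine ⟨Localization.Away r.1, inferInstance, inferInstance, hFP, hflat, hQF, ?_,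
    ⟨IsScalarTower.toAlgHom R C _⟩⟩
  -- the prime `q` extends to the localization
  have hdisj := disjoint_powers_of_notMem r.1 q hrq
  let q' : Ideal (Localization.Away r.1) := q.map (algebraMap C _)
  have hq'1 : q'.IsPrime :=
    IsLocalization.isPrime_of_isPrime_disjoint (Submonoid.powers r.1) _ q inferInstance hdisj
  have hq'c : q'.comap (algebraMap C _) = q :=
    IsLocalization.under_map_of_isPrime_disjoint (Submonoid.powers r.1) _ inferInstance hdisj
  have hq'2 : q'.LiesOver p := by
    constructor
    rw [Ideal.under, IsScalarTower.algebraMap_eq R C (Localization.Away r.1), ← Ideal.comap_comap,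
      hq'c]
    exact hq2.over
  exact nontrivial_fiber_of_liesOver q'

end Good

end Groth.Agent.R2.H6.Slice
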