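import Mathlib
import Groth.Prelude.Def_CAlg
import Groth.Agent.R2.H50CMReg
import Groth.Agent.Lib.Helper28PolyCM

/-!
# Ring-level lemmas for slicing groupoids (helper6)

* `loc_ker_of_surjective`: localizing a surjection at a prime: surjective, kernel = extended kernel.
* `exists_mem_nonZeroDivisors_of_not_le`: prime avoidance against the associated primes.
* `cm_slice`: quotient of the closed fibre ring by a fibrewise regular element.
-/

set_option autoImplicit false

universe u

open IsLocalRing

namespace Groth.Agent.R2.H6.SliceAlg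

/-- Localizing a surjective ring homomorphism `φ : B → C` at a prime `q̄` of `C` (and its
contraction): any ring map `ψ : Bq → Cq` compatible with `φ` is surjective, with kernel the
extension of `ker φ`. -/
theorem loc_ker_of_surjective {B C Bq Cq : Type*} [CommRing B] [CommRing C] [CommRing Bq]
    [CommRing Cq] [Algebra B Bq] [Algebra C Cq] (φ : B →+* C) (hφ : Function.Surjective φ)
    (qbar : Ideal C) [qbar.IsPrime] (q : Ideal B) [q.IsPrime] (hq : q = qbar.comap φ)
    [IsLocalization.AtPrime Bq q] [IsLocalization.AtPrime Cq qbar] (ψ : Bq →+* Cq)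
    (hψ : ∀ b, ψ (algebraMap B Bq b) = algebraMap C Cq (φ b)) :
    Function.Surjective ψ ∧ RingHom.ker ψ = (RingHom.ker φ).map (algebraMap B Bq) := by
  subst hq
  constructor
  · intro y
    obtain ⟨c, s, rfl⟩ := IsLocalization.exists_mk'_eq qbar.primeCompl y
    obtain ⟨b, rfl⟩ := hφ c
    obtain ⟨s', hs'⟩ := hφ s.1
    have hs'q : s' ∈ (qbar.comap φ).primeCompl := by
      show s' ∉ qbar.comap φ
      rw [Ideal.mem_comap, hs']
      exact s.2
    refine ⟨IsLocalization.mk' Bq b ⟨s', hs'q⟩, ?_⟩
    rw [IsLocalization.eq_mk'_iff_mul_eq, ← hs', ← hψ, ← map_mul, IsLocalization.mk'_spec]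
    exact hψ b
  · ext y
    obtain ⟨b, s, rfl⟩ := IsLocalization.exists_mk'_eq (qbar.comap φ).primeCompl y
    rw [RingHom.mem_ker]
    have hunit : IsUnit (ψ (algebraMap B Bq s.1)) :=
      (IsLocalization.map_units Bq s).map ψ
    have h1 : ψ (IsLocalization.mk' Bq b s) = 0 ↔ algebraMap C Cq (φ b) = 0 := by
      rw [← hψ, ← IsLocalization.mk'_spec Bq b s, map_mul]
      constructor
      · intro h; rw [h, zero_mul]
      · intro h; exact (hunit.mul_left_eq_zero).mp h
    rw [h1, IsLocalization.map_eq_zero_iff qbar.primeCompl]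
    constructor
    · rintro ⟨c', hc'⟩
      obtain ⟨b', hb'⟩ := hφ c'.1
      have hb'q : b' ∈ (qbar.comap φ).primeCompl := by
        show b' ∉ qbar.comap φ
        rw [Ideal.mem_comap, hb']
        exact c'.2
      have hk : b' * b ∈ RingHom.ker φ := by
        rw [RingHom.mem_ker, map_mul, hb']
        exact hc'
      have : IsLocalization.mk' Bq b s =
          algebraMap B Bq (b * b') * IsLocalization.mk' Bq 1 (s * ⟨b', hb'q⟩) := by
        rw [← IsLocalization.mk'_eq_mul_mk'_one]
        exact (IsLocalization.mk'_cancel b s ⟨b', hb'q⟩).symm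
      rw [this, mul_comm b b']
      exact Ideal.mul_mem_right _ _ (Ideal.mem_map_of_mem _ hk)
    · intro hmem
      rw [IsLocalization.mk'_mem_map_algebraMap_iff] at hmem
      obtain ⟨s', hs', hmem'⟩ := hmem
      refine ⟨⟨φ s', ?_⟩, ?_⟩
      · show φ s' ∉ qbar
        exact hs'
      · show φ s' * φ b = 0
        rw [← map_mul]
        exact hmem'

/-- Prime avoidance against the associated primes of a Noetherian ring. -/
theorem exists_mem_nonZeroDivisors_of_not_le {A O : Type*} [CommRing A] [CommRing O]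
    [IsNoetherianRing O] (θ : A →+* O) (m : Ideal A)
    (h : ∀ n ∈ associatedPrimes O O, ¬ m ≤ n.comap θ) :
    ∃ f ∈ m, θ f ∈ nonZeroDivisors O := by
  classical
  have hfin : (associatedPrimes O O).Finite := associatedPrimes.finite O O
  by_contra hcon
  push Not at hcon
  have hsub : (m : Set A) ⊆ ⋃ n ∈ (hfin.toFinset : Set (Ideal O)), (n.comap θ : Set A) := by
    intro f hf
    have hnz := hcon f hf
    have : θ f ∈ (nonZeroDivisors O : Set O)ᶜ := hnz
    rw [← biUnion_associatedPrimes_eq_compl_nonZeroDivisors] at this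
    simp only [Set.mem_iUnion] at this
    obtain ⟨n, hn, hfn⟩ := this
    simp only [Set.mem_iUnion]
    exact ⟨n, by simpa using hn, hfn⟩
  rw [Ideal.subset_union_prime (R := A) (f := fun n : Ideal O => n.comap θ) ⊥ ⊥] at hsub
  · obtain ⟨n, hn, hle⟩ := hsub
    exact h n (by simpa using hn) hle
  · intro n hn _ _
    have hn' : n ∈ associatedPrimes O O := by simpa using hn
    haveI : n.IsPrime := hn'.isPrime
    exact Ideal.comap_isPrime θ n

/-- **Slicing the closed fibre.** `α : A₀ → B₀` a homomorphism of local rings whose closed fibre ring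
`B₀/𝔪B₀` is Cohen–Macaulay, `π : B₀ → C₀` a surjection of local rings with kernel `(b)` where `b`
is a nonzerodivisor on `B₀/𝔪B₀`. Then `C₀/𝔪C₀` is Cohen–Macaulay of dimension one less. -/
theorem cm_slice {A₀ B₀ C₀ : Type u} [CommRing A₀] [CommRing B₀] [CommRing C₀] [IsLocalRing A₀]
    [IsLocalRing B₀] [IsLocalRing C₀] (α : A₀ →+* B₀) (π : B₀ →+* C₀)
    (hπ : Function.Surjective π) (b : B₀) (hker : RingHom.ker π = Ideal.span {b})
    (hcm : LocCoh.IsCohenMacaulayLocalRing (B₀ ⧸ (maximalIdeal A₀).map α))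
    (hreg : Ideal.Quotient.mk ((maximalIdeal A₀).map α) b ∈
      nonZeroDivisors (B₀ ⧸ (maximalIdeal A₀).map α)) :
    LocCoh.IsCohenMacaulayLocalRing (C₀ ⧸ (maximalIdeal A₀).map (π.comp α)) ∧
      ringKrullDim (C₀ ⧸ (maximalIdeal A₀).map (π.comp α)) + 1 =
        ringKrullDim (B₀ ⧸ (maximalIdeal A₀).map α) := by
  set I : Ideal B₀ := (maximalIdeal A₀).map α with hI
  set J : Ideal C₀ := (maximalIdeal A₀).map (π.comp α) with hJ
  have hJI : J = I.map π := by rw [hJ, hI, Ideal.map_map]
  haveI := hcm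
  haveI : IsNoetherianRing (B₀ ⧸ I) := inferInstance
  haveI : IsLocalRing (B₀ ⧸ I) := inferInstance
  -- b is in the maximal ideal
  have hbm : b ∈ maximalIdeal B₀ := by
    by_contra hb
    have hu : IsUnit b := by
      rw [mem_maximalIdeal, mem_nonunits_iff, not_not] at hb
      exact hb
    have h0 : π b = 0 := by
      rw [← RingHom.mem_ker, hker]
      exact Ideal.mem_span_singleton_self b
    have h1 : IsUnit (π b) := hu.map π
    rw [h0] at h1
    exact not_isUnit_zero h1
  set bbar : B₀ ⧸ I := Ideal.Quotient.mk I b with hbbar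
  have hbbarm : bbar ∈ maximalIdeal (B₀ ⧸ I) := by
    rw [mem_maximalIdeal, mem_nonunits_iff]
    intro hu
    haveI : IsLocalHom (Ideal.Quotient.mk I) :=
      IsLocalHom.of_surjective _ Ideal.Quotient.mk_surjective
    exact hbm (isUnit_of_map_unit (Ideal.Quotient.mk I) b hu)
  have hsreg : IsSMulRegular (B₀ ⧸ I) bbar :=
    Module.Flat.isSMulRegular_of_nonZeroDivisors hreg
  -- the comparison map
  have hle : I ≤ RingHom.ker ((Ideal.Quotient.mk J).comp π) := by
    intro x hx
    rw [RingHom.mem_ker, RingHom.comp_apply, Ideal.Quotient.eq_zero_iff_mem, hJI]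
    exact Ideal.mem_map_of_mem π hx
  let ψ : (B₀ ⧸ I) →+* (C₀ ⧸ J) := Ideal.Quotient.lift I ((Ideal.Quotient.mk J).comp π)
    (fun x hx => RingHom.mem_ker.mp (hle hx))
  have hψsurj : Function.Surjective ψ :=
    Ideal.Quotient.lift_surjective_of_surjective _ _
      (Ideal.Quotient.mk_surjective.comp hπ)
  have hψker : RingHom.ker ψ = Ideal.span {bbar} := by
    apply le_antisymm
    · intro y hy
      obtain ⟨x, rfl⟩ := Ideal.Quotient.mk_surjective y
      rw [RingHom.mem_ker] at hy
      have hy' : Ideal.Quotient.mk J (π x) = 0 := hy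
      rw [Ideal.Quotient.eq_zero_iff_mem, hJI,
        Ideal.mem_map_iff_of_surjective π hπ] at hy'
      obtain ⟨y', hy'I, hy'x⟩ := hy'
      have hk : x - y' ∈ RingHom.ker π := by
        rw [RingHom.mem_ker, map_sub, hy'x, sub_self]
      rw [hker, Ideal.mem_span_singleton] at hk
      obtain ⟨c, hc⟩ := hk
      have : Ideal.Quotient.mk I x = bbar * Ideal.Quotient.mk I c := by
        rw [hbbar, ← map_mul, ← hc, map_sub, (Ideal.Quotient.eq_zero_iff_mem).mpr hy'I, sub_zero]
      rw [this]
      exact Ideal.mul_mem_right _ _ (Ideal.mem_span_singleton_self bbar)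
    · rw [Ideal.span_singleton_le_iff_mem, RingHom.mem_ker]
      show Ideal.Quotient.mk J (π b) = 0
      have h0 : π b = 0 := by
        rw [← RingHom.mem_ker, hker]
        exact Ideal.mem_span_singleton_self b
      rw [h0, map_zero]
  let E : ((B₀ ⧸ I) ⧸ Ideal.span {bbar}) ≃+* (C₀ ⧸ J) :=
    (Ideal.quotEquivOfEq hψker.symm).trans (RingHom.quotientKerEquivOfSurjective hψsurj)
  haveI hcmq : LocCoh.IsCohenMacaulayLocalRing ((B₀ ⧸ I) ⧸ Ideal.span {bbar}) :=
    Groth.Agent.R2.H50.CM.cmLocal_quotient_of_regular bbar hbbarm hsreg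
  refine ⟨Groth.Agent.Lib.Helper28.isCohenMacaulayLocalRing_of_ringEquiv E, ?_⟩
  rw [← ringKrullDim_eq_of_ringEquiv E]
  exact ringKrullDim_quotient_span_singleton_succ_eq_ringKrullDim hsreg hbbarm

end Groth.Agent.R2.H6.SliceAlg
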