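import Mathlib
import Groth.Agent.Lib.Helper3FibCritD
import Groth.Agent.Lib.Helper3FlatOpenFP
import Groth.Agent.R2.H6FlatDev
import Groth.Agent.R2.H6SliceA

/-!
# Slicing a flat finitely presented algebra down to a quasi-finite one: the induction

Helper library (helper6) for `S9432`.

* `fiberMap_flat`, `exists_flat_away`, `exists_slice`: the slicing step.  If the fibre `F₁` of a
  flat f.p. `R`-algebra `C₁` over `p` has a single associated prime `q₁`, and `1 ⊗ f ∈ n₁ \ q₁` for
  a prime `n₁ ⊇ q₁`, then `κ(p)[X] → F₁` (`X ↦ f`) is flat, so by the fibrewise flatness criterion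
  and openness of the flat locus `C₁[1/h]` is flat over `R[X]` for some `h ∉ n₁`, and
  `C₃ = C₁[1/h]/(f)` is flat f.p. over `R` with fibre of strictly smaller dimension.
* `good_or_slice`: either we are done by Zariski's main theorem, or we can slice.
* `good_of_finitePresentation_flat`: the result of the induction on the fibre dimension.
-/

set_option autoImplicit false
universe u

open TensorProduct Polynomial

namespace Groth.Agent.R2.H6.Slice

open Groth.Agent.Lib.Helper3.FibCritA (fiberMap fiberMap_one_tmul)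
open Groth.Agent.R2.H6.FlatAt (TorsionKer flat_iff_torsionKer)

section Step

variable {R : Type u} [CommRing R] {p : Ideal R} [p.IsPrime]
  {C₁ : Type u} [CommRing C₁] [Algebra R C₁]

theorem isDomain_fiber_polynomial : IsDomain (p.Fiber R[X]) :=
  MulEquiv.isDomain (p.ResidueField[X])
    (polyEquivTensor' R p.ResidueField).symm.toRingEquiv.toMulEquiv

theorem isPrincipalIdealRing_fiber_polynomial : IsPrincipalIdealRing (p.Fiber R[X]) :=
  IsPrincipalIdealRing.of_surjective (polyEquivTensor' R p.ResidueField).toRingEquiv.toRingHom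
    (polyEquivTensor' R p.ResidueField).surjective

theorem flat_localizedModule_of_flat [Module.Flat R C₁] (S : Submonoid C₁) :
    Module.Flat R (LocalizedModule S C₁) := by
  have h1 : Module.Flat C₁ (Localization S) := IsLocalization.flat _ S
  have h2 : Module.Flat (Localization S) (LocalizedModule S C₁) := inferInstance
  have h3 : Module.Flat C₁ (LocalizedModule S C₁) := Module.Flat.trans C₁ (Localization S) _
  exact Module.Flat.trans R C₁ _

/-- In the fibre over `p`, multiplication by an element of `R ∖ p` does not affect membership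
in a prime ideal. -/
theorem mem_of_smul_mem_fiber (J : Ideal (p.Fiber C₁)) [J.IsPrime] (r : R) (hr : r ∉ p)
    (x : p.Fiber C₁) (h : r • x ∈ J) : x ∈ J := by
  rw [Algebra.smul_def] at h
  rcases Ideal.IsPrime.mem_or_mem inferInstance h with h1 | h1
  · exfalso
    apply hr
    rw [Ideal.over_def J p]
    exact h1
  · exact h1

section WithX
variable [Algebra R[X] C₁] [IsScalarTower R R[X] C₁]

theorem fiberMap_flat [Algebra.FiniteType R C₁]
    (q₁ n₁ : Ideal (p.Fiber C₁)) (hn₁ : n₁ ≠ ⊤) (hle : q₁ ≤ n₁)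
    (hass : ∀ P' ∈ associatedPrimes (p.Fiber C₁) (p.Fiber C₁), P' = q₁)
    (hfq : (1 : p.ResidueField) ⊗ₜ[R] (algebraMap R[X] C₁ X) ∉ q₁)
    (hfn : (1 : p.ResidueField) ⊗ₜ[R] (algebraMap R[X] C₁ X) ∈ n₁) :
    (fiberMap (B := R[X]) (C := C₁) p).toRingHom.Flat := by
  have : IsNoetherianRing (p.Fiber C₁) :=
    Algebra.FiniteType.isNoetherianRing p.ResidueField (p.Fiber C₁)
  have := isDomain_fiber_polynomial (R := R) (p := p)
  have := isPrincipalIdealRing_fiber_polynomial (R := R) (p := p)
  have hψ : (fiberMap (B := R[X]) (C := C₁) p).toRingHom ((1 : p.ResidueField) ⊗ₜ[R] (X : R[X])) =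
      (1 : p.ResidueField) ⊗ₜ[R] (algebraMap R[X] C₁ X) :=
    fiberMap_one_tmul p X
  refine flat_of_pid _ ((1 : p.ResidueField) ⊗ₜ[R] (X : R[X])) (fun P' hP' => ?_)
  rw [hass P' hP', hψ]
  exact ⟨hfq, n₁, hn₁, hle, hfn⟩

theorem exists_flat_away [Algebra.FinitePresentation R C₁] [Module.Flat R C₁]
    (hflat : (fiberMap (B := R[X]) (C := C₁) p).toRingHom.Flat)
    (N₁ : Ideal C₁) [N₁.IsPrime] (hN₁ : N₁.under R = p) :
    ∃ h : C₁, h ∉ N₁ ∧ Module.Flat R[X] (Localization.Away h) := by
  have hFP : Algebra.FinitePresentation R[X] C₁ :=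
    Algebra.FinitePresentation.of_restrict_scalars_finitePresentation R R[X] C₁
  let U : Set (PrimeSpectrum C₁) :=
    {q | Module.Flat R[X] (LocalizedModule q.asIdeal.primeCompl C₁)}
  have hU : IsOpen U :=
    Groth.Agent.Lib.Helper3.FlatOpen.isOpen_flatLocus_of_finitePresentation
      (R := R[X]) (S := C₁) (M := C₁)
  have hmem : (⟨N₁, inferInstance⟩ : PrimeSpectrum C₁) ∈ U :=
    Groth.Agent.Lib.Helper3.FibCritD.flat_of_fiberMap_flat p N₁ hN₁ hflat
      (flat_localizedModule_of_flat _)
  obtain ⟨_, ⟨h, rfl⟩, hNh, hsub⟩ :=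
    PrimeSpectrum.isTopologicalBasis_basic_opens.exists_subset_of_mem_open hmem hU
  refine ⟨h, hNh, ?_⟩
  have tk : TorsionKer R[X] (Submonoid.powers h) C₁ := by
    apply Groth.Agent.R2.H6.FlatDev.torsionKer_powers_of_forall_prime h
    intro P _ hP
    have hPU : (⟨P, inferInstance⟩ : PrimeSpectrum C₁) ∈ U := hsub hP
    exact (flat_iff_torsionKer P.primeCompl (LocalizedModule.mkLinearMap P.primeCompl C₁)).mp hPU
  exact (flat_iff_torsionKer (Submonoid.powers h)
    (Algebra.linearMap C₁ (Localization.Away h))).mpr tk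

/-- Slicing, with the `R[X]`-algebra structure given. -/
theorem exists_slice_aux [Algebra.FinitePresentation R C₁] [Module.Flat R C₁]
    (q₁ n₁ : Ideal (p.Fiber C₁)) [n₁.IsPrime] (hle : q₁ ≤ n₁)
    (hass : ∀ P' ∈ associatedPrimes (p.Fiber C₁) (p.Fiber C₁), P' = q₁)
    (hfq : (1 : p.ResidueField) ⊗ₜ[R] (algebraMap R[X] C₁ X) ∉ q₁)
    (hfn : (1 : p.ResidueField) ⊗ₜ[R] (algebraMap R[X] C₁ X) ∈ n₁) :
    ∃ (C₃ : Type u) (_ : CommRing C₃) (_ : Algebra R C₃), Nonempty (C₁ →ₐ[R] C₃) ∧
      Algebra.FinitePresentation R C₃ ∧ Module.Flat R C₃ ∧ Nontrivial (p.Fiber C₃) ∧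
      ringKrullDim (p.Fiber C₃) + 1 ≤ ringKrullDim (p.Fiber C₁) := by
  have hflat := fiberMap_flat q₁ n₁ (Ideal.IsPrime.ne_top inferInstance) hle hass hfq hfn
  -- the prime of `C₁` corresponding to `n₁`
  let N₁ : Ideal C₁ := n₁.comap (Algebra.TensorProduct.includeRight : C₁ →ₐ[R] p.Fiber C₁).toRingHom
  have hN := isPrime_liesOver_comap_fiber n₁
  have hN1 : N₁.IsPrime := hN.1
  have hN2 : N₁.LiesOver p := hN.2
  have hfN : algebraMap R[X] C₁ X ∈ N₁ := hfn
  obtain ⟨h, hh, hflat2⟩ := exists_flat_away hflat N₁ hN2.over.symm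
  -- the localization
  have hFP1 : Algebra.FinitePresentation R[X] C₁ :=
    Algebra.FinitePresentation.of_restrict_scalars_finitePresentation R R[X] C₁
  have hFPloc : Algebra.FinitePresentation C₁ (Localization.Away h) :=
    IsLocalization.Away.finitePresentation h
  have hFP2 : Algebra.FinitePresentation R[X] (Localization.Away h) :=
    Algebra.FinitePresentation.trans R[X] C₁ (Localization.Away h)
  obtain ⟨C₃, i1, i2, φ₂, hFP, hFl, hsurj, hzero, hprime⟩ :=
    exists_slice_quotient (R := R) (B := Localization.Away h)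
  refine ⟨C₃, i1, i2, ⟨φ₂.comp (IsScalarTower.toAlgHom R C₁ (Localization.Away h))⟩, hFP, hFl,
    ?_, ?_⟩
  · -- nontrivial fibre
    have hdisj := disjoint_powers_of_notMem h N₁ hh
    let N₂ : Ideal (Localization.Away h) := N₁.map (algebraMap C₁ _)
    have hN₂1 : N₂.IsPrime :=
      IsLocalization.isPrime_of_isPrime_disjoint (Submonoid.powers h) _ N₁ inferInstance hdisj
    have hN₂c : N₂.comap (algebraMap C₁ _) = N₁ :=
      IsLocalization.under_map_of_isPrime_disjoint (Submonoid.powers h) _ inferInstance hdisj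
    have hXN₂ : algebraMap R[X] (Localization.Away h) X ∈ N₂ := by
      rw [IsScalarTower.algebraMap_apply R[X] C₁ (Localization.Away h)]
      exact Ideal.mem_map_of_mem _ hfN
    obtain ⟨N₃, hN₃, hN₃c⟩ := hprime N₂ hXN₂
    have hN₃2 : N₃.LiesOver p := by
      constructor
      have e1 : algebraMap R C₃ = φ₂.toRingHom.comp (algebraMap R (Localization.Away h)) := by
        ext r
        simp
      rw [Ideal.under, e1, ← Ideal.comap_comap, hN₃c,
        IsScalarTower.algebraMap_eq R C₁ (Localization.Away h), ← Ideal.comap_comap, hN₂c]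
      exact hN2.over
    exact nontrivial_fiber_of_liesOver N₃
  · -- dimension drop
    have hnoeth : IsNoetherianRing (p.Fiber C₁) :=
      Algebra.FiniteType.isNoetherianRing p.ResidueField (p.Fiber C₁)
    let _ := fiberAlg p (C := C₁) (C' := Localization.Away h)
    have hloc := isLocalization_fiber p h (C' := Localization.Away h)
    have d1 : ringKrullDim (p.Fiber (Localization.Away h)) ≤ ringKrullDim (p.Fiber C₁) :=
      ringKrullDim_le_of_isLocalization (Submonoid.powers ((1 : p.ResidueField) ⊗ₜ[R] h))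
    have hf1 : (1 : p.ResidueField) ⊗ₜ[R] (algebraMap R[X] C₁ X) ∈ nonZeroDivisors (p.Fiber C₁) := by
      by_contra hcon
      have : (1 : p.ResidueField) ⊗ₜ[R] (algebraMap R[X] C₁ X) ∈
          ((nonZeroDivisors (p.Fiber C₁) : Set (p.Fiber C₁)))ᶜ := hcon
      rw [← biUnion_associatedPrimes_eq_compl_nonZeroDivisors] at this
      simp only [Set.mem_iUnion, SetLike.mem_coe] at this
      obtain ⟨P', hP', hmem⟩ := this
      rw [hass P' hP'] at hmem
      exact hfq hmem
    have hf2 : algebraMap (p.Fiber C₁) (p.Fiber (Localization.Away h))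
        ((1 : p.ResidueField) ⊗ₜ[R] (algebraMap R[X] C₁ X)) ∈
          nonZeroDivisors (p.Fiber (Localization.Away h)) :=
      IsLocalization.map_nonZeroDivisors_le (Submonoid.powers ((1 : p.ResidueField) ⊗ₜ[R] h)) _
        ⟨_, hf1, rfl⟩
    have hval : algebraMap (p.Fiber C₁) (p.Fiber (Localization.Away h))
        ((1 : p.ResidueField) ⊗ₜ[R] (algebraMap R[X] C₁ X)) =
        (1 : p.ResidueField) ⊗ₜ[R] (algebraMap R[X] (Localization.Away h) X) := by
      rw [fiberAlg_algebraMap]
      show fiberHom p _ _ = _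
      rw [fiberHom_tmul, IsScalarTower.algebraMap_apply R[X] C₁ (Localization.Away h)]
      rfl
    rw [hval] at hf2
    have d2 : ringKrullDim (p.Fiber C₃) + 1 ≤ ringKrullDim (p.Fiber (Localization.Away h)) := by
      refine ringKrullDim_succ_le_of_surjective (fiberHom p φ₂).toRingHom
        (fiberHom_surjective p φ₂ hsurj) hf2 ?_
      show fiberHom p φ₂ _ = 0
      rw [fiberHom_tmul, hzero, TensorProduct.tmul_zero]
    exact d2.trans d1

end WithX

/-- **Slicing step.** -/
theorem exists_slice [Algebra.FinitePresentation R C₁] [Module.Flat R C₁] (f : C₁)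
    (q₁ n₁ : Ideal (p.Fiber C₁)) [n₁.IsPrime] (hle : q₁ ≤ n₁)
    (hass : ∀ P' ∈ associatedPrimes (p.Fiber C₁) (p.Fiber C₁), P' = q₁)
    (hfq : (1 : p.ResidueField) ⊗ₜ[R] f ∉ q₁)
    (hfn : (1 : p.ResidueField) ⊗ₜ[R] f ∈ n₁) :
    ∃ (C₃ : Type u) (_ : CommRing C₃) (_ : Algebra R C₃), Nonempty (C₁ →ₐ[R] C₃) ∧
      Algebra.FinitePresentation R C₃ ∧ Module.Flat R C₃ ∧ Nontrivial (p.Fiber C₃) ∧
      ringKrullDim (p.Fiber C₃) + 1 ≤ ringKrullDim (p.Fiber C₁) := by
  let alg : Algebra R[X] C₁ := (Polynomial.aeval f).toRingHom.toAlgebra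
  have tower : IsScalarTower R R[X] C₁ :=
    IsScalarTower.of_algebraMap_eq (fun r => by
      show _ = Polynomial.aeval f (C r)
      simp)
  have hX : algebraMap R[X] C₁ X = f := Polynomial.aeval_X f
  exact exists_slice_aux q₁ n₁ hle hass (by rwa [hX]) (by rwa [hX])

end Step

section Induction

variable {R : Type u} [CommRing R] {p : Ideal R} [p.IsPrime]

/-- Either Zariski's main theorem applies after a localization, or we can slice. -/
theorem good_or_slice (C : Type u) [CommRing C] [Algebra R C] [Algebra.FinitePresentation R C]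
    [Module.Flat R C] [Nontrivial (p.Fiber C)] :
    Good p C ∨ ∃ (C₃ : Type u) (_ : CommRing C₃) (_ : Algebra R C₃), Nonempty (C →ₐ[R] C₃) ∧
      Algebra.FinitePresentation R C₃ ∧ Module.Flat R C₃ ∧ Nontrivial (p.Fiber C₃) ∧
      ringKrullDim (p.Fiber C₃) + 1 ≤ ringKrullDim (p.Fiber C) := by
  have hnoeth : IsNoetherianRing (p.Fiber C) :=
    Algebra.FiniteType.isNoetherianRing p.ResidueField (p.Fiber C)
  -- a minimal prime of the fibre
  obtain ⟨P⟩ := (PrimeSpectrum.nonempty_iff_nontrivial (R := p.Fiber C)).mpr inferInstance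
  obtain ⟨q₀, hq₀, -⟩ := Ideal.exists_minimalPrimes_le (I := (⊥ : Ideal (p.Fiber C)))
    (J := P.asIdeal) bot_le
  have hq₀p : q₀.IsPrime := hq₀.1.1
  obtain ⟨g, hg1, hg2⟩ := exists_notMem_minimal_mem_associated q₀ hq₀
  obtain ⟨r, hr, g', hrg⟩ := Ideal.Fiber.exists_smul_eq_one_tmul p g
  have hg'1 : (1 : p.ResidueField) ⊗ₜ[R] g' ∉ q₀ := by
    rw [← hrg]
    exact fun h => hg1 (mem_of_smul_mem_fiber q₀ r hr g h)
  have hg'2 : ∀ P ∈ associatedPrimes (p.Fiber C) (p.Fiber C), P ≠ q₀ →
      (1 : p.ResidueField) ⊗ₜ[R] g' ∈ P := by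
    intro P hP hne
    rw [← hrg]
    exact Submodule.smul_of_tower_mem P r (hg2 P hP hne)
  -- localize
  have hFPloc : Algebra.FinitePresentation C (Localization.Away g') :=
    IsLocalization.Away.finitePresentation g'
  have hFP1 : Algebra.FinitePresentation R (Localization.Away g') :=
    Algebra.FinitePresentation.trans R C (Localization.Away g')
  have hflat1 : Module.Flat R (Localization.Away g') := by
    have : Module.Flat C (Localization.Away g') := IsLocalization.flat _ (Submonoid.powers g')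
    exact Module.Flat.trans R C (Localization.Away g')
  let _ := fiberAlg p (C := C) (C' := Localization.Away g')
  have hloc := isLocalization_fiber p g' (C' := Localization.Away g')
  let q₁ : Ideal (p.Fiber (Localization.Away g')) :=
    q₀.map (algebraMap (p.Fiber C) (p.Fiber (Localization.Away g')))
  have hq₁ : q₁.IsPrime := (isPrime_map_away ((1 : p.ResidueField) ⊗ₜ[R] g') q₀ hg'1).1
  have hass : ∀ P' ∈ associatedPrimes (p.Fiber (Localization.Away g'))
      (p.Fiber (Localization.Away g')), P' = q₁ :=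
    associatedPrimes_away ((1 : p.ResidueField) ⊗ₜ[R] g') q₀ hg'2
  have hmin : ∀ (P' : Ideal (p.Fiber (Localization.Away g'))) [P'.IsPrime], q₁ ≤ P' :=
    fun P' _ => map_le_of_isPrime_away ((1 : p.ResidueField) ⊗ₜ[R] g') q₀ hg'2 P'
  have d1 : ringKrullDim (p.Fiber (Localization.Away g')) ≤ ringKrullDim (p.Fiber C) :=
    ringKrullDim_le_of_isLocalization (Submonoid.powers ((1 : p.ResidueField) ⊗ₜ[R] g'))
  by_cases hmax : q₁.IsMaximal
  · left
    have hopen : IsOpen ({⟨q₁, hq₁⟩} : Set (PrimeSpectrum (p.Fiber (Localization.Away g')))) := by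
      have : ({⟨q₁, hq₁⟩} : Set (PrimeSpectrum (p.Fiber (Localization.Away g')))) = Set.univ := by
        ext x
        simp only [Set.mem_singleton_iff, Set.mem_univ, iff_true]
        ext1
        exact (hmax.eq_of_le x.2.ne_top (hmin x.asIdeal)).symm
      rw [this]
      exact isOpen_univ
    have hqf : Algebra.QuasiFiniteAt p.ResidueField q₁ :=
      Algebra.QuasiFiniteAt.of_isOpen_singleton (R := p.ResidueField) ⟨q₁, hq₁⟩ hopen
    exact Good.of_algHom (IsScalarTower.toAlgHom R C (Localization.Away g'))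
      (good_of_quasiFiniteAt q₁)
  · right
    obtain ⟨n₁, hn₁, hle⟩ := Ideal.exists_le_maximal q₁ hq₁.ne_top
    have hn₁p : n₁.IsPrime := hn₁.isPrime
    have hlt : q₁ < n₁ := lt_of_le_of_ne hle (fun h => hmax (h ▸ hn₁))
    obtain ⟨f₁, hf₁n, hf₁q⟩ := SetLike.exists_of_lt hlt
    obtain ⟨r', hr', f, hrf⟩ := Ideal.Fiber.exists_smul_eq_one_tmul p f₁
    have hfq : (1 : p.ResidueField) ⊗ₜ[R] f ∉ q₁ := by
      rw [← hrf]
      exact fun h => hf₁q (mem_of_smul_mem_fiber q₁ r' hr' f₁ h)
    have hfn : (1 : p.ResidueField) ⊗ₜ[R] f ∈ n₁ := by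
      rw [← hrf]
      exact Submodule.smul_of_tower_mem n₁ r' hf₁n
    obtain ⟨C₃, i1, i2, ⟨φ⟩, hFP, hFl, hnt, hd⟩ := exists_slice f q₁ n₁ hle hass hfq hfn
    exact ⟨C₃, i1, i2, ⟨φ.comp (IsScalarTower.toAlgHom R C (Localization.Away g'))⟩, hFP, hFl,
      hnt, hd.trans d1⟩

theorem good_of_dim_le (n : ℕ) : ∀ (C : Type u) [CommRing C] [Algebra R C]
    [Algebra.FinitePresentation R C] [Module.Flat R C] [Nontrivial (p.Fiber C)],
    ringKrullDim (p.Fiber C) ≤ (n : WithBot ℕ∞) → Good p C := by
  induction n with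
  | zero =>
    intro C _ _ _ _ _ hdim
    rcases good_or_slice (p := p) C with h | ⟨C₃, i1, i2, ⟨φ⟩, hFP, hFl, hnt, hd⟩
    · exact h
    · exfalso
      exact not_add_one_le_zero_of_nonneg _ ringKrullDim_nonneg_of_nontrivial (hd.trans hdim)
  | succ n ih =>
    intro C _ _ _ _ _ hdim
    rcases good_or_slice (p := p) C with h | ⟨C₃, i1, i2, ⟨φ⟩, hFP, hFl, hnt, hd⟩
    · exact h
    · exact Good.of_algHom φ (ih C₃ (withBot_enat_le_of_add_one_le _ n (hd.trans hdim)))

theorem exists_nat_dim_fiber_le (C : Type u) [CommRing C] [Algebra R C] [Algebra.FiniteType R C] :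
    ∃ n : ℕ, ringKrullDim (p.Fiber C) ≤ (n : WithBot ℕ∞) := by
  obtain ⟨n, f, hf⟩ := Algebra.FiniteType.iff_quotient_mvPolynomial''.mp
    (inferInstance : Algebra.FiniteType p.ResidueField (p.Fiber C))
  refine ⟨n, (ringKrullDim_le_of_surjective f.toRingHom hf).trans ?_⟩
  rw [MvPolynomial.ringKrullDim_of_isNoetherianRing, ringKrullDim_eq_zero_of_field]
  simp

/-- **Quasi-finite flat slice through a prime.**  For a flat finitely presented `R`-algebra `C`
with non-empty fibre over `p` there is a flat, finitely presented, quasi-finite `R`-algebra `C'`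
with non-empty fibre over `p` and an `R`-algebra map `C → C'`. -/
theorem good_of_finitePresentation_flat (C : Type u) [CommRing C] [Algebra R C]
    [Algebra.FinitePresentation R C] [Module.Flat R C] [Nontrivial (p.Fiber C)] : Good p C := by
  obtain ⟨n, hn⟩ := exists_nat_dim_fiber_le (p := p) C
  exact good_of_dim_le n C hn

end Induction

end Groth.Agent.R2.H6.Slice
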