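import Mathlib
import Groth.Agent.R2.H6SliceB

/-!
# Quasi-finite flat covers dominating a faithfully flat finitely presented algebra

Helper library (helper6) for `S9432`: finite products (`flat_pi`, `quasiFinite_pi`,
`comap_surjective_pi`) and the globalization `exists_quasiFinite_faithfullyFlat_dominating`
of the slicing procedure of `H6SliceB` over the quasi-compact space `Spec R`.
-/

set_option autoImplicit false
universe u

open TensorProduct

namespace Groth.Agent.R2.H6.Slice

section Pi

variable {R : Type u} [CommRing R] {ι : Type u} [Finite ι] (A : ι → Type u)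
  [∀ i, CommRing (A i)] [∀ i, Algebra R (A i)]

theorem flat_pi [∀ i, Module.Flat R (A i)] : Module.Flat R (Π i, A i) := by
  classical
  have := Fintype.ofFinite ι
  exact Module.Flat.of_linearEquiv (DirectSum.linearEquivFunOnFintype R ι A).symm

theorem quasiFinite_pi [∀ i, Algebra.QuasiFinite R (A i)] : Algebra.QuasiFinite R (Π i, A i) := by
  classical
  have := Fintype.ofFinite ι
  refine ⟨fun P _ => ?_⟩
  exact Module.Finite.equiv
    (Algebra.TensorProduct.piRight R P.ResidueField P.ResidueField A).symm.toLinearEquiv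

omit [Finite ι] in
theorem mem_range_comap_pi (i : ι) (x : PrimeSpectrum R)
    (hx : x ∈ Set.range (PrimeSpectrum.comap (algebraMap R (A i)))) :
    x ∈ Set.range (PrimeSpectrum.comap (algebraMap R (Π i, A i))) := by
  obtain ⟨y, rfl⟩ := hx
  refine ⟨PrimeSpectrum.comap (Pi.evalRingHom A i) y, ?_⟩
  rw [← PrimeSpectrum.comap_comp_apply]
  rfl

end Pi

section Global

variable (R : Type u) [CommRing R] (S : Type u) [CommRing S] [Algebra R S]

/-- **Quasi-finite flat cover dominating a given flat cover.** -/
theorem exists_quasiFinite_faithfullyFlat_dominating [Module.FaithfullyFlat R S]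
    [Algebra.FinitePresentation R S] :
    ∃ (S' : Type u) (_ : CommRing S') (_ : Algebra R S'),
      Algebra.QuasiFinite R S' ∧ Algebra.FiniteType R S' ∧ Module.FaithfullyFlat R S' ∧
        Algebra.FinitePresentation R S' ∧ Nonempty (S →ₐ[R] S') := by
  have hgood : ∀ x : PrimeSpectrum R, ∃ (C' : Type u) (_ : CommRing C') (_ : Algebra R C'),
      Algebra.FinitePresentation R C' ∧ Module.Flat R C' ∧ Algebra.QuasiFinite R C' ∧
        Nontrivial (x.asIdeal.Fiber C') ∧ Nonempty (S →ₐ[R] C') := by
    intro x
    have : Nontrivial (x.asIdeal.Fiber S) :=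
      (Module.FaithfullyFlat.nontrivial_tensorProduct_iff_left R x.asIdeal.ResidueField).mpr
        inferInstance
    exact good_of_finitePresentation_flat (p := x.asIdeal) S
  choose A iCR iAlg hFP hFl hQF hNT hHom using hgood
  let U : PrimeSpectrum R → Set (PrimeSpectrum R) :=
    fun x => Set.range (PrimeSpectrum.comap (algebraMap R (A x)))
  have hUo : ∀ x, IsOpen (U x) := fun x =>
    (PrimeSpectrum.isOpenMap_comap_of_hasGoingDown_of_finitePresentation
      (R := R) (S := A x)).isOpen_range
  have hxU : ∀ x, x ∈ U x := by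
    intro x
    obtain ⟨Q⟩ := (PrimeSpectrum.nonempty_iff_nontrivial (R := x.asIdeal.Fiber (A x))).mpr (hNT x)
    have hq := isPrime_liesOver_comap_fiber (p := x.asIdeal) Q.asIdeal
    refine ⟨⟨_, hq.1⟩, ?_⟩
    ext1
    exact hq.2.over.symm
  obtain ⟨t, ht⟩ := isCompact_univ.elim_finite_subcover U hUo
    (fun x _ => Set.mem_iUnion.mpr ⟨x, hxU x⟩)
  let B : t → Type u := fun i => A i.1
  have hflat : Module.Flat R (Π i, B i) := flat_pi B
  have hqf : Algebra.QuasiFinite R (Π i, B i) := quasiFinite_pi B
  have hfp : Algebra.FinitePresentation R (Π i, B i) := inferInstance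
  have hsurj : Function.Surjective (PrimeSpectrum.comap (algebraMap R (Π i, B i))) := by
    intro x
    have hx := ht (Set.mem_univ x)
    simp only [Set.mem_iUnion] at hx
    obtain ⟨i, hi, hxi⟩ := hx
    exact mem_range_comap_pi B ⟨i, hi⟩ x hxi
  have hff : Module.FaithfullyFlat R (Π i, B i) := Module.FaithfullyFlat.of_comap_surjective hsurj
  exact ⟨Π i, B i, inferInstance, inferInstance, hqf, inferInstance, hff, hfp,
    ⟨AlgHom.pi (fun i => (hHom i.1).some)⟩⟩

end Global

end Groth.Agent.R2.H6.Slice
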