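import Mathlib

/-!
# An affine chart of the pullback of `V(f₀) ⊆ V ⊆ U` along `t : R ⟶ U` (helper6)

For `t : R ⟶ U`, affine opens `V ⊆ U`, `W ⊆ R` with `W ≤ t⁻¹V` and `f₀ ∈ Γ(U, V)`, the scheme
`Spec (Γ(R, W) ⧸ (t♯ f₀))` is an open subscheme of `pullback g t`, `g : Spec (Γ(U, V) ⧸ (f₀)) ⟶ U`.
-/

set_option autoImplicit false
universe u
open CategoryTheory Limits AlgebraicGeometry

namespace Groth.Agent.R2.H6.SliceChart

section Ring

variable {B A₁ R S : Type u} [CommRing B] [CommRing A₁] [CommRing R] [CommRing S]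

/-- A square of rings with two surjective parallel sides is a pushout as soon as the kernel of the
second is generated by the kernel of the first. -/
theorem isPushout_of_surjective (p₁ : B →+* A₁) (l : B →+* R) (φ : R →+* S) (m : A₁ →+* S)
    (hw : φ.comp l = m.comp p₁) (hp₁ : Function.Surjective p₁) (hφ : Function.Surjective φ)
    (hker : RingHom.ker φ ≤ Ideal.map l (RingHom.ker p₁)) :
    IsPushout (CommRingCat.ofHom l) (CommRingCat.ofHom p₁) (CommRingCat.ofHom φ)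
      (CommRingCat.ofHom m) := by
  have hwc : CommRingCat.ofHom l ≫ CommRingCat.ofHom φ =
      CommRingCat.ofHom p₁ ≫ CommRingCat.ofHom m := by
    rw [← CommRingCat.ofHom_comp, ← CommRingCat.ofHom_comp, hw]
  have hkill : ∀ (T : CommRingCat.{u}) (α : CommRingCat.of R ⟶ T) (β : CommRingCat.of A₁ ⟶ T),
      CommRingCat.ofHom l ≫ α = CommRingCat.ofHom p₁ ≫ β → RingHom.ker φ ≤ RingHom.ker α.hom := by
    intro T α β hc
    refine hker.trans ?_
    rw [Ideal.map_le_iff_le_comap]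
    intro b hb
    rw [Ideal.mem_comap, RingHom.mem_ker]
    have h1 : α.hom (l b) = β.hom (p₁ b) := congr($(hc).hom b)
    rw [h1, (RingHom.mem_ker).mp hb, map_zero]
  refine ⟨⟨hwc⟩, ⟨PushoutCocone.IsColimit.mk _
    (fun s => CommRingCat.ofHom (RingHom.liftOfSurjective φ hφ
      ⟨s.inl.hom, hkill _ s.inl s.inr s.condition⟩)) ?_ ?_ ?_⟩⟩
  · intro s
    ext r
    exact RingHom.liftOfSurjective_comp_apply φ hφ
      ⟨s.inl.hom, hkill _ s.inl s.inr s.condition⟩ r
  · intro s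
    ext a
    obtain ⟨b, rfl⟩ := hp₁ a
    have h1 : m (p₁ b) = φ (l b) := (congr($hw b)).symm
    change (RingHom.liftOfSurjective φ hφ ⟨s.inl.hom, _⟩) (m (p₁ b)) = s.inr.hom (p₁ b)
    rw [h1]
    have h2 := RingHom.liftOfSurjective_comp_apply φ hφ
      ⟨s.inl.hom, hkill _ s.inl s.inr s.condition⟩ (l b)
    refine h2.trans ?_
    exact congr($(s.condition).hom b)
  · intro s t h1 _
    ext x
    obtain ⟨r, rfl⟩ := hφ x
    have h2 := RingHom.liftOfSurjective_comp_apply φ hφ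
      ⟨s.inl.hom, hkill _ s.inl s.inr s.condition⟩ r
    change t.hom (φ r) = (RingHom.liftOfSurjective φ hφ ⟨s.inl.hom, _⟩) (φ r)
    rw [show (RingHom.liftOfSurjective φ hφ ⟨s.inl.hom, hkill _ s.inl s.inr s.condition⟩) (φ r) =
      s.inl.hom r from h2]
    exact congr($(h1).hom r)

end Ring

/-- postcomposing the cospan of a pullback square with a monomorphism -/
theorem isPullback_comp_mono {C : Type*} [Category C] {P X Y Z Z' : C} {fst : P ⟶ X}
    {snd : P ⟶ Y} {f : X ⟶ Z} {g : Y ⟶ Z} (h : IsPullback fst snd f g) (i : Z ⟶ Z') [Mono i] :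
    IsPullback fst snd (f ≫ i) (g ≫ i) := by
  refine ⟨⟨by rw [← Category.assoc, h.w, Category.assoc]⟩, ⟨PullbackCone.IsLimit.mk _
    (fun s => h.lift s.fst s.snd ((cancel_mono i).mp (by simpa using s.condition))) ?_ ?_ ?_⟩⟩
  · intro s; simp
  · intro s; simp
  · intro s m h1 h2
    apply h.hom_ext <;> simp [h1, h2]

variable {R U : Scheme.{u}} (t : R ⟶ U) {V : U.Opens} (hV : IsAffineOpen V) {W : R.Opens}
  (hW : IsAffineOpen W) (e : W ≤ t ⁻¹ᵁ V)

section General

variable (I : Ideal Γ(U, V)) (J : Ideal Γ(R, W)) (hIJ : I ≤ J.comap (t.appLE V W e).hom)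

include hV in
/-- `V(I) ⟶ U`. -/
noncomputable abbrev gMapI : Spec (CommRingCat.of (Γ(U, V) ⧸ I)) ⟶ U :=
  Spec.map (CommRingCat.ofHom (Ideal.Quotient.mk I)) ≫ hV.fromSpec

/-- `V(J) ⟶ R`. -/
noncomputable abbrev iotaMapJ : Spec (CommRingCat.of (Γ(R, W) ⧸ J)) ⟶ R :=
  Spec.map (CommRingCat.ofHom (Ideal.Quotient.mk J)) ≫ hW.fromSpec

/-- the ring map `Γ(U, V) ⧸ I → Γ(R, W) ⧸ J`. -/
noncomputable def quotMapIJ : (Γ(U, V) ⧸ I) →+* (Γ(R, W) ⧸ J) :=
  Ideal.quotientMap J (t.appLE V W e).hom hIJ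

/-- `V(J) ⟶ V(I)`. -/
noncomputable def aMapIJ : Spec (CommRingCat.of (Γ(R, W) ⧸ J)) ⟶
    Spec (CommRingCat.of (Γ(U, V) ⧸ I)) :=
  Spec.map (CommRingCat.ofHom (quotMapIJ t e I J hIJ))

theorem ring_commIJ : (Ideal.Quotient.mk J).comp (t.appLE V W e).hom =
    (quotMapIJ t e I J hIJ).comp (Ideal.Quotient.mk I) := by
  ext x
  simp [quotMapIJ]

theorem commIJ : aMapIJ t e I J hIJ ≫ gMapI hV I = iotaMapJ hW J ≫ t := by
  have h1 : CommRingCat.ofHom (Ideal.Quotient.mk I) ≫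
      CommRingCat.ofHom (quotMapIJ t e I J hIJ) =
      t.appLE V W e ≫ CommRingCat.ofHom (Ideal.Quotient.mk J) := by
    ext x
    exact (congrArg (fun φ => φ x) (ring_commIJ t e I J hIJ)).symm
  show Spec.map (CommRingCat.ofHom (quotMapIJ t e I J hIJ)) ≫
      Spec.map (CommRingCat.ofHom (Ideal.Quotient.mk I)) ≫ hV.fromSpec =
    (Spec.map (CommRingCat.ofHom (Ideal.Quotient.mk J)) ≫ hW.fromSpec) ≫ t
  rw [← Category.assoc, ← Spec.map_comp, h1, Spec.map_comp, Category.assoc, Category.assoc,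
    IsAffineOpen.SpecMap_appLE_fromSpec t hV hW e]

end General

variable (f0 : Γ(U, V))

/-- `t♯ f₀ ∈ Γ(R, W)`. -/
noncomputable abbrev hSec : Γ(R, W) := (t.appLE V W e).hom f0

include hV in
/-- `g : V(f₀) ⟶ U`. -/
noncomputable abbrev gMap : Spec (CommRingCat.of (Γ(U, V) ⧸ Ideal.span {f0})) ⟶ U :=
  gMapI hV (Ideal.span {f0})

/-- `ι : V(t♯ f₀) ⟶ R`. -/
noncomputable abbrev iotaMap :
    Spec (CommRingCat.of (Γ(R, W) ⧸ Ideal.span {hSec t e f0})) ⟶ R :=
  iotaMapJ hW (Ideal.span {hSec t e f0})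

theorem span_le_comap : Ideal.span {f0} ≤ (Ideal.span {hSec t e f0}).comap (t.appLE V W e).hom := by
  rw [Ideal.span_singleton_le_iff_mem, Ideal.mem_comap]
  exact Ideal.mem_span_singleton_self _

/-- the ring map `Γ(U, V) ⧸ (f₀) → Γ(R, W) ⧸ (t♯ f₀)`. -/
noncomputable abbrev quotMap : (Γ(U, V) ⧸ Ideal.span {f0}) →+* (Γ(R, W) ⧸ Ideal.span {hSec t e f0}) :=
  quotMapIJ t e _ _ (span_le_comap t e f0)

/-- `a : V(t♯ f₀) ⟶ V(f₀)`. -/
noncomputable abbrev aMap : Spec (CommRingCat.of (Γ(R, W) ⧸ Ideal.span {hSec t e f0})) ⟶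
    Spec (CommRingCat.of (Γ(U, V) ⧸ Ideal.span {f0})) :=
  aMapIJ t e _ _ (span_le_comap t e f0)

theorem ring_comm : (Ideal.Quotient.mk (Ideal.span {hSec t e f0})).comp (t.appLE V W e).hom =
    (quotMap t e f0).comp (Ideal.Quotient.mk (Ideal.span {f0})) :=
  ring_commIJ t e _ _ _

theorem comm : aMap t e f0 ≫ gMap hV f0 = iotaMap t hW e f0 ≫ t :=
  commIJ t hV hW e _ _ _

/-- `j : V(t♯ f₀) ⟶ V(f₀) ×_U R`. -/
noncomputable def jMap : Spec (CommRingCat.of (Γ(R, W) ⧸ Ideal.span {hSec t e f0})) ⟶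
    pullback (gMap hV f0) t :=
  pullback.lift (aMap t e f0) (iotaMap t hW e f0) (comm t hV hW e f0)

@[reassoc]
theorem jMap_fst : jMap t hV hW e f0 ≫ pullback.fst (gMap hV f0) t = aMap t e f0 :=
  pullback.lift_fst _ _ _

@[reassoc]
theorem jMap_snd : jMap t hV hW e f0 ≫ pullback.snd (gMap hV f0) t = iotaMap t hW e f0 :=
  pullback.lift_snd _ _ _

theorem isPullback_outer :
    IsPullback (aMap t e f0)
      (Spec.map (CommRingCat.ofHom (Ideal.Quotient.mk (Ideal.span {hSec t e f0}))))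
      (gMap hV f0) (hW.fromSpec ≫ t) := by
  have hpo := isPushout_of_surjective (Ideal.Quotient.mk (Ideal.span {f0})) (t.appLE V W e).hom
    (Ideal.Quotient.mk (Ideal.span {hSec t e f0})) (quotMap t e f0) (ring_comm t e f0)
    Ideal.Quotient.mk_surjective Ideal.Quotient.mk_surjective (by
      rw [Ideal.mk_ker, Ideal.mk_ker, Ideal.map_span, Set.image_singleton])
  have hpb := isPullback_SpecMap_of_isPushout _ _ _ _ hpo
  have h2 := isPullback_comp_mono hpb hV.fromSpec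
  have h3 : Spec.map (CommRingCat.ofHom (t.appLE V W e).hom) ≫ hV.fromSpec = hW.fromSpec ≫ t :=
    IsAffineOpen.SpecMap_appLE_fromSpec t hV hW e
  rw [h3] at h2
  exact h2.flip

theorem isPullback_chart :
    IsPullback (jMap t hV hW e f0)
      (Spec.map (CommRingCat.ofHom (Ideal.Quotient.mk (Ideal.span {hSec t e f0}))))
      (pullback.snd (gMap hV f0) t) hW.fromSpec := by
  refine IsPullback.of_right ?_ (jMap_snd t hV hW e f0) (IsPullback.of_hasPullback (gMap hV f0) t)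
  rw [jMap_fst]
  exact isPullback_outer t hV hW e f0

instance isOpenImmersion_jMap : IsOpenImmersion (jMap t hV hW e f0) :=
  MorphismProperty.of_isPullback (P := @IsOpenImmersion) (isPullback_chart t hV hW e f0).flip
    inferInstance

end Groth.Agent.R2.H6.SliceChart
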