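import Mathlib
import Groth.Prelude.Def_Grpd
import Groth.Agent.R2.H6GrpdSigmaTau
import Groth.Agent.R2.H6SliceChart

/-!
# `σ = τ` for slicing: components on which `s♯ = t♯` modulo `m` lie in the stabilizer fibre (helper6)
-/

set_option autoImplicit false
universe u
open CategoryTheory Limits AlgebraicGeometry Topology

namespace Groth.Agent.R2.H6.SliceDim

open Groth.Agent.R2.H6.GrpdSigmaTau Groth.Agent.R2.H6.SliceChart

/-- inducing maps with nested ranges -/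
lemma topologicalKrullDim_le_of_range_subset {X Y D : Type*} [TopologicalSpace X]
    [TopologicalSpace Y] [TopologicalSpace D] (lam : D → X) (hlam : IsInducing lam) (c : Y → X)
    (hc : IsInducing c) (h : Set.range lam ⊆ Set.range c) :
    topologicalKrullDim D ≤ topologicalKrullDim Y := by
  classical
  let g : D → Y := fun d => (h ⟨d, rfl⟩).choose
  have hg : ∀ d, c (g d) = lam d := fun d => (h ⟨d, rfl⟩).choose_spec
  have hgi : IsInducing g := by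
    rw [← hc.of_comp_iff]
    have : c ∘ g = lam := funext hg
    rw [this]
    exact hlam
  exact hgi.topologicalKrullDim_le

variable {S : Scheme.{u}} (G : Grpd.GroupoidScheme S)

/-- a morphism into `R` on which `s = t` lifts to the stabilizer -/
theorem exists_lift_stabilizer {T : Scheme.{u}} (ι : T ⟶ G.R) (hst : ι ≫ G.s = ι ≫ G.t) :
    ∃ lam : T ⟶ G.stabilizer, lam ≫ pullback.fst G.j G.diag = ι ∧
      lam ≫ G.stabilizerToU = ι ≫ G.s := by
  have e1 : G.j ≫ pullback.fst G.pU G.pU = G.t := pullback.lift_fst _ _ _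
  have e2 : G.diag ≫ pullback.fst G.pU G.pU = 𝟙 _ := pullback.lift_fst _ _ _
  have e3 : G.j ≫ pullback.snd G.pU G.pU = G.s := pullback.lift_snd _ _ _
  have e4 : G.diag ≫ pullback.snd G.pU G.pU = 𝟙 _ := pullback.lift_snd _ _ _
  have hcond : ι ≫ G.j = (ι ≫ G.s) ≫ G.diag := by
    apply pullback.hom_ext
    · calc (ι ≫ G.j) ≫ pullback.fst G.pU G.pU = ι ≫ (G.j ≫ pullback.fst G.pU G.pU) :=
            Category.assoc _ _ _
        _ = ι ≫ G.t := by rw [e1]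
        _ = ι ≫ G.s := hst.symm
        _ = (ι ≫ G.s) ≫ 𝟙 _ := (Category.comp_id _).symm
        _ = (ι ≫ G.s) ≫ (G.diag ≫ pullback.fst G.pU G.pU) := by rw [e2]
        _ = ((ι ≫ G.s) ≫ G.diag) ≫ pullback.fst G.pU G.pU := (Category.assoc _ _ _).symm
    · calc (ι ≫ G.j) ≫ pullback.snd G.pU G.pU = ι ≫ (G.j ≫ pullback.snd G.pU G.pU) :=
            Category.assoc _ _ _
        _ = ι ≫ G.s := by rw [e3]
        _ = (ι ≫ G.s) ≫ 𝟙 _ := (Category.comp_id _).symm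
        _ = (ι ≫ G.s) ≫ (G.diag ≫ pullback.snd G.pU G.pU) := by rw [e4]
        _ = ((ι ≫ G.s) ≫ G.diag) ≫ pullback.snd G.pU G.pU := (Category.assoc _ _ _).symm
  exact ⟨pullback.lift ι (ι ≫ G.s) hcond, pullback.lift_fst _ _ _, pullback.lift_snd _ _ _⟩

/-- **Key dimension bound.** If `𝔫 ⊆ q_{e(u)}` is a prime of `Γ(R, W)` containing both `s♯ m` and
`t♯ m` (`m` the maximal ideal of `u` in `Γ(U, V)`), then `dim Γ(R, W)/𝔫 ≤ dim G_u`. -/
theorem dim_quot_le_dim_stabFiber [LocallyOfFiniteType G.s] (u : G.U) {V : G.U.Opens}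
    (hV : IsAffineOpen V) (huV : u ∈ V)
    (hmax : (hV.primeIdealOf ⟨u, huV⟩).asIdeal.IsMaximal) {W : G.R.Opens} (hW : IsAffineOpen W)
    (es : W ≤ G.s ⁻¹ᵁ V) (et : W ≤ G.t ⁻¹ᵁ V) (heW : G.e u ∈ W) (𝔫 : Ideal Γ(G.R, W))
    [h𝔫p : 𝔫.IsPrime] (h𝔫 : 𝔫 ≤ (hW.primeIdealOf ⟨G.e u, heW⟩).asIdeal)
    (hσ : (hV.primeIdealOf ⟨u, huV⟩).asIdeal ≤ 𝔫.comap (G.s.appLE V W es).hom)
    (hτ : (hV.primeIdealOf ⟨u, huV⟩).asIdeal ≤ 𝔫.comap (G.t.appLE V W et).hom) :
    topologicalKrullDim (Spec (CommRingCat.of (Γ(G.R, W) ⧸ 𝔫))) ≤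
      topologicalKrullDim (G.stabilizerToU.fiber u) := by
  classical
  set m : Ideal Γ(G.U, V) := (hV.primeIdealOf ⟨u, huV⟩).asIdeal with hm
  letI : Field (Γ(G.U, V) ⧸ m) := Ideal.Quotient.field m
  -- the point
  let xK : Spec (CommRingCat.of (Γ(G.U, V) ⧸ m)) ⟶ G.U := gMapI hV m
  have hxK : ∀ y : Spec (CommRingCat.of (Γ(G.U, V) ⧸ m)), xK y = u := by
    intro y
    have h1 : (Spec.map (CommRingCat.ofHom (Ideal.Quotient.mk m))) y = hV.primeIdealOf ⟨u, huV⟩ := by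
      apply PrimeSpectrum.ext
      show Ideal.comap (Ideal.Quotient.mk m) y.asIdeal = m
      have hy : y.asIdeal = ⊥ := by
        haveI := y.isPrime
        exact ((Ideal.eq_bot_or_top y.asIdeal).resolve_right y.isPrime.ne_top)
      rw [hy, ← RingHom.ker_eq_comap_bot, Ideal.mk_ker]
    show (Spec.map (CommRingCat.ofHom (Ideal.Quotient.mk m)) ≫ hV.fromSpec) y = u
    rw [Scheme.Hom.comp_apply, h1]
    exact hV.fromSpec_primeIdealOf ⟨u, huV⟩
  -- the maps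
  let ιn : Spec (CommRingCat.of (Γ(G.R, W) ⧸ 𝔫)) ⟶ G.R := iotaMapJ hW 𝔫
  let σ' := aMapIJ G.s es m 𝔫 hσ
  let τ' := aMapIJ G.t et m 𝔫 hτ
  have hcσ : σ' ≫ xK = ιn ≫ G.s := commIJ G.s hV hW es m 𝔫 hσ
  have hcτ : τ' ≫ xK = ιn ≫ G.t := commIJ G.t hV hW et m 𝔫 hτ
  -- the section
  let x0 : Spec (CommRingCat.of (Γ(G.U, V) ⧸ m)) ⟶ G.R := xK ≫ G.e
  have hrange : Set.range x0 ⊆ Set.range hW.fromSpec := by
    rw [hW.range_fromSpec]
    rintro _ ⟨y, rfl⟩
    show (xK ≫ G.e) y ∈ W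
    rw [Scheme.Hom.comp_apply, hxK y]
    exact heW
  let eB : Spec (CommRingCat.of (Γ(G.U, V) ⧸ m)) ⟶ Spec Γ(G.R, W) :=
    IsOpenImmersion.lift hW.fromSpec x0 hrange
  have heB : eB ≫ hW.fromSpec = x0 := IsOpenImmersion.lift_fac _ _ _
  let ψ : Γ(G.R, W) ⟶ CommRingCat.of (Γ(G.U, V) ⧸ m) := Spec.preimage eB
  have hψ : Spec.map ψ = eB := Spec.map_preimage eB
  have hker : (hW.primeIdealOf ⟨G.e u, heW⟩).asIdeal ≤ RingHom.ker ψ.hom := by
    let y₀ : Spec (CommRingCat.of (Γ(G.U, V) ⧸ m)) := ⟨⊥, Ideal.isPrime_bot⟩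
    have h1 : eB y₀ = hW.primeIdealOf ⟨G.e u, heW⟩ := by
      apply hW.fromSpec.isOpenEmbedding.injective
      rw [hW.fromSpec_primeIdealOf ⟨G.e u, heW⟩, ← Scheme.Hom.comp_apply, heB]
      show (xK ≫ G.e) y₀ = G.e u
      rw [Scheme.Hom.comp_apply, hxK y₀]
    intro b hb
    rw [← h1, ← hψ] at hb
    have hb' : b ∈ Ideal.comap ψ.hom (⊥ : Ideal (Γ(G.U, V) ⧸ m)) := hb
    rw [Ideal.mem_comap] at hb'
    exact RingHom.mem_ker.mpr (by simpa using hb')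
  let ε : (Γ(G.R, W) ⧸ 𝔫) →+* (Γ(G.U, V) ⧸ m) :=
    Ideal.Quotient.lift 𝔫 ψ.hom (fun a ha => RingHom.mem_ker.mp (hker (h𝔫 ha)))
  let ebar : Spec (CommRingCat.of (Γ(G.U, V) ⧸ m)) ⟶ Spec (CommRingCat.of (Γ(G.R, W) ⧸ 𝔫)) :=
    Spec.map (CommRingCat.ofHom ε)
  have hebar : ebar ≫ ιn = x0 := by
    have h1 : CommRingCat.ofHom (Ideal.Quotient.mk 𝔫) ≫ CommRingCat.ofHom ε = ψ := by
      ext a
      simp [ε]
    show Spec.map (CommRingCat.ofHom ε) ≫ Spec.map (CommRingCat.ofHom (Ideal.Quotient.mk 𝔫)) ≫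
      hW.fromSpec = x0
    rw [← Category.assoc, ← Spec.map_comp, h1, hψ, heB]
  haveI : Mono xK := inferInstance
  have h1 : ebar ≫ σ' = 𝟙 _ := by
    rw [← cancel_mono xK, Category.assoc, hcσ, ← Category.assoc, hebar, Category.id_comp]
    show (xK ≫ G.e) ≫ G.s = xK
    rw [Category.assoc, G.e_s, Category.comp_id]
  have h2 : ebar ≫ τ' = 𝟙 _ := by
    rw [← cancel_mono xK, Category.assoc, hcτ, ← Category.assoc, hebar, Category.id_comp]
    show (xK ≫ G.e) ≫ G.t = xK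
    rw [Category.assoc, G.e_t, Category.comp_id]
  haveI : LocallyOfFiniteType (σ' ≫ xK) := by
    rw [hcσ]
    infer_instance
  haveI : LocallyOfFiniteType σ' := locallyOfFiniteType_of_comp σ' xK
  haveI : IsDomain (Γ(G.R, W) ⧸ 𝔫) := Ideal.Quotient.isDomain 𝔫
  have key : σ' = τ' := spec_hom_eq_of_section σ' τ' ebar h1 h2
  have hst : ιn ≫ G.s = ιn ≫ G.t := by rw [← hcσ, ← hcτ, key]
  obtain ⟨lam, hlam1, hlam2⟩ := exists_lift_stabilizer G ιn hst
  have hlamind : IsInducing lam := by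
    apply IsInducing.of_comp lam.continuous (pullback.fst G.j G.diag).continuous
    have : (pullback.fst G.j G.diag) ∘ lam = ιn := by
      rw [← hlam1]
      rfl
    have h := ιn.isEmbedding.isInducing
    rw [← this] at h
    exact h
  refine topologicalKrullDim_le_of_range_subset lam hlamind (G.stabilizerToU.fiberι u)
    (G.stabilizerToU.fiberι u).isEmbedding.isInducing ?_
  rw [Scheme.Hom.range_fiberι]
  rintro _ ⟨d, rfl⟩
  show G.stabilizerToU (lam d) = u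
  rw [← Scheme.Hom.comp_apply, hlam2, ← hcσ, Scheme.Hom.comp_apply]
  exact hxK _

end Groth.Agent.R2.H6.SliceDim
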