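import Mathlib
import Groth.Agent.R2.H6SliceAlg

/-!
# Stalk maps of `Spec (Γ(X, W) ⧸ I) ⟶ X` (helper6)
-/

set_option autoImplicit false

universe u

open AlgebraicGeometry CategoryTheory Limits

namespace Groth.Agent.R2.H6.SliceStalk

open Groth.Agent.R2.H6.SliceAlg

/-- If `κ : Z ⟶ X` induces a surjection `Γ(X, W) → Γ(Z, W_Z)` on affine opens, then the stalk map
at any `z ∈ W_Z` is surjective with kernel the extension of the kernel on sections. -/
theorem stalkMap_of_appLE_surjective {X Z : Scheme.{u}} (κ : Z ⟶ X) (z : Z) {W : X.Opens}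
    (hW : IsAffineOpen W) {WZ : Z.Opens} (hWZ : IsAffineOpen WZ) (hz : z ∈ WZ)
    (e : WZ ≤ κ ⁻¹ᵁ W) (hsurj : Function.Surjective (κ.appLE W WZ e).hom) :
    Function.Surjective (κ.stalkMap z).hom ∧
      RingHom.ker (κ.stalkMap z).hom =
        (RingHom.ker (κ.appLE W WZ e).hom).map (X.presheaf.germ W (κ z) (e hz)).hom := by
  let _ : Algebra Γ(X, W) (X.presheaf.stalk (κ z)) :=
    TopCat.Presheaf.algebra_section_stalk X.presheaf (⟨κ z, e hz⟩ : W)
  let _ : Algebra Γ(Z, WZ) (Z.presheaf.stalk z) :=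
    TopCat.Presheaf.algebra_section_stalk Z.presheaf (⟨z, hz⟩ : WZ)
  have hlocX : IsLocalization.AtPrime (X.presheaf.stalk (κ z))
      (hW.primeIdealOf ⟨κ z, e hz⟩).asIdeal := hW.isLocalization_stalk ⟨κ z, e hz⟩
  have hlocZ : IsLocalization.AtPrime (Z.presheaf.stalk z)
      (hWZ.primeIdealOf ⟨z, hz⟩).asIdeal := hWZ.isLocalization_stalk ⟨z, hz⟩
  have hq : (hW.primeIdealOf ⟨κ z, e hz⟩).asIdeal =
      (hWZ.primeIdealOf ⟨z, hz⟩).asIdeal.comap (κ.appLE W WZ e).hom :=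
    (congrArg PrimeSpectrum.asIdeal
      (IsAffineOpen.comap_primeIdealOf_appLE (f := κ) W hW WZ hWZ e hz)).symm
  have hnat : ∀ b : Γ(X, W), (κ.stalkMap z).hom (X.presheaf.germ W (κ z) (e hz) b) =
      Z.presheaf.germ WZ z hz ((κ.appLE W WZ e).hom b) := by
    intro b
    have : κ.appLE W WZ e ≫ Z.presheaf.germ WZ z hz =
        X.presheaf.germ W (κ z) (e hz) ≫ κ.stalkMap z := by
      rw [Scheme.Hom.appLE, Category.assoc, Z.presheaf.germ_res', Scheme.Hom.germ_stalkMap]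
    exact (congrArg (fun f => f.hom b) this).symm
  exact loc_ker_of_surjective (κ.appLE W WZ e).hom hsurj (hWZ.primeIdealOf ⟨z, hz⟩).asIdeal
    (hW.primeIdealOf ⟨κ z, e hz⟩).asIdeal hq (κ.stalkMap z).hom hnat

/-- the map on sections of `Spec (Γ(X, W) ⧸ I) ⟶ X`. -/
theorem appLE_specQuot {X : Scheme.{u}} {W : X.Opens} (hW : IsAffineOpen W) (I : Ideal Γ(X, W))
    (e : (⊤ : (Spec (CommRingCat.of (Γ(X, W) ⧸ I))).Opens) ≤
      (Spec.map (CommRingCat.ofHom (Ideal.Quotient.mk I)) ≫ hW.fromSpec) ⁻¹ᵁ W) :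
    (Spec.map (CommRingCat.ofHom (Ideal.Quotient.mk I)) ≫ hW.fromSpec).appLE W ⊤ e =
      CommRingCat.ofHom (Ideal.Quotient.mk I) ≫
        (Scheme.ΓSpecIso (CommRingCat.of (Γ(X, W) ⧸ I))).inv := by
  apply Spec.map_injective
  have h1 := IsAffineOpen.SpecMap_appLE_fromSpec
    (Spec.map (CommRingCat.ofHom (Ideal.Quotient.mk I)) ≫ hW.fromSpec) hW
    (isAffineOpen_top (Spec (CommRingCat.of (Γ(X, W) ⧸ I)))) e
  rw [IsAffineOpen.fromSpec_top, Scheme.isoSpec_Spec_inv, ← Category.assoc, ← Spec.map_comp] at h1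
  exact (cancel_mono hW.fromSpec).mp h1

/-- **Stalk map of `Spec (Γ(X, W) ⧸ I) ⟶ X`**: surjective with kernel `I · O_{X,x}`. -/
theorem stalkMap_specQuot {X : Scheme.{u}} {W : X.Opens} (hW : IsAffineOpen W) (I : Ideal Γ(X, W))
    (κ : Spec (CommRingCat.of (Γ(X, W) ⧸ I)) ⟶ X)
    (hκ : κ = Spec.map (CommRingCat.ofHom (Ideal.Quotient.mk I)) ≫ hW.fromSpec)
    (z : Spec (CommRingCat.of (Γ(X, W) ⧸ I))) (hz : κ z ∈ W) :
    Function.Surjective (κ.stalkMap z).hom ∧
      RingHom.ker (κ.stalkMap z).hom = I.map (X.presheaf.germ W (κ z) hz).hom := by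
  subst hκ
  have e : (⊤ : (Spec (CommRingCat.of (Γ(X, W) ⧸ I))).Opens) ≤
      (Spec.map (CommRingCat.ofHom (Ideal.Quotient.mk I)) ≫ hW.fromSpec) ⁻¹ᵁ W := by
    intro y _
    show (Spec.map (CommRingCat.ofHom (Ideal.Quotient.mk I)) ≫ hW.fromSpec) y ∈ W
    rw [Scheme.Hom.comp_apply]
    have : hW.fromSpec ((Spec.map (CommRingCat.ofHom (Ideal.Quotient.mk I))) y) ∈
        Set.range hW.fromSpec := ⟨_, rfl⟩
    rw [hW.range_fromSpec] at this
    exact this
  have happ := appLE_specQuot hW I e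
  have hsurj : Function.Surjective
      ((Spec.map (CommRingCat.ofHom (Ideal.Quotient.mk I)) ≫ hW.fromSpec).appLE W ⊤ e).hom := by
    rw [happ]
    exact (ConcreteCategory.bijective_of_isIso
      (Scheme.ΓSpecIso (CommRingCat.of (Γ(X, W) ⧸ I))).inv).surjective.comp
      Ideal.Quotient.mk_surjective
  have hker : RingHom.ker
      ((Spec.map (CommRingCat.ofHom (Ideal.Quotient.mk I)) ≫ hW.fromSpec).appLE W ⊤ e).hom = I := by
    rw [happ]
    ext b
    rw [RingHom.mem_ker]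
    have hinj := (ConcreteCategory.bijective_of_isIso
      (Scheme.ΓSpecIso (CommRingCat.of (Γ(X, W) ⧸ I))).inv).injective
    constructor
    · intro h
      have : (Ideal.Quotient.mk I) b = 0 := hinj (by rw [map_zero]; exact h)
      exact Ideal.Quotient.eq_zero_iff_mem.mp this
    · intro h
      show (Scheme.ΓSpecIso (CommRingCat.of (Γ(X, W) ⧸ I))).inv.hom ((Ideal.Quotient.mk I) b) = 0
      rw [Ideal.Quotient.eq_zero_iff_mem.mpr h, map_zero]
  have := stalkMap_of_appLE_surjective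
    (Spec.map (CommRingCat.ofHom (Ideal.Quotient.mk I)) ≫ hW.fromSpec) z hW
    (isAffineOpen_top _) (Set.mem_univ z) e hsurj
  rw [hker] at this
  exact this

end Groth.Agent.R2.H6.SliceStalk
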