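import Mathlib
import Groth.Prelude.Def_Grpd
import Groth.Prelude.Def_Flat
import Groth.Agent.R2.H6SliceStalk
import Groth.Agent.R2.H6SliceDim
import Groth.Agent.R2.H6NzdSliceSch
import Groth.Agent.Lib.Helper5CM
import Groth.Agent.Lib.Helper5FiberStalk
import Groth.Agent.Lib.Helper6QFAffB
import Groth.Agent.Lib.Helper4DimFormulaAD
import Groth.Agent.Lib.Helper4DimFormulaAL

/-!
# Slicing groupoids: dimension chain and the choice of `f₀` (helper6)
-/

set_option autoImplicit false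
universe u
open CategoryTheory Limits AlgebraicGeometry Topology IsLocalRing

namespace Groth.Agent.R2.H6.SliceRing

open Groth.Agent.R2.H6.SliceStalk Groth.Agent.R2.H6.SliceDim Groth.Agent.R2.H6.SliceAlg
  Groth.Agent.R2.H6.NzdSliceSch Groth.Agent.Lib.Helper4.DimFormula

/-- the dimension of a local ring of `Spec D` is at most `dim D`. -/
theorem ringKrullDim_stalk_spec_le (D : CommRingCat.{u}) (z : Spec D) :
    ringKrullDim ((Spec D).presheaf.stalk z) ≤ ringKrullDim D := by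
  let _ : Algebra ↑D ↑((Spec D).presheaf.stalk z) := StructureSheaf.stalkAlgebra (↑D) z
  have : IsLocalization.AtPrime (↑((Spec D).presheaf.stalk z)) z.asIdeal :=
    StructureSheaf.IsLocalization.to_stalk D z
  rw [IsLocalization.AtPrime.ringKrullDim_eq_height z.asIdeal ((Spec D).presheaf.stalk z)]
  exact Ideal.height_le_ringKrullDim_of_isPrime

/-- **Dimension chain.** `X` a scheme, `W` an affine open, `r ∈ W`, `I` an ideal of `O_{X,r}` with
`O = O_{X,r}/I` Cohen–Macaulay, `n ∈ Ass O` and `𝔫` its contraction to `Γ(X, W)`. Then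
`dim O ≤ dim Γ(X, W)/𝔫`. -/
theorem ringKrullDim_le_quot {X : Scheme.{u}} {W : X.Opens} (hW : IsAffineOpen W) (r : X)
    (hrW : r ∈ W) (I : Ideal (X.presheaf.stalk r))
    [hcm : LocCoh.IsCohenMacaulayLocalRing (X.presheaf.stalk r ⧸ I)]
    (n : Ideal (X.presheaf.stalk r ⧸ I)) (hn : n ∈ associatedPrimes (X.presheaf.stalk r ⧸ I)
      (X.presheaf.stalk r ⧸ I)) :
    ringKrullDim (X.presheaf.stalk r ⧸ I) ≤
      ringKrullDim (Γ(X, W) ⧸ n.comap ((Ideal.Quotient.mk I).comp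
        (X.presheaf.germ W r hrW).hom)) := by
  haveI : IsNoetherianRing (X.presheaf.stalk r ⧸ I) := inferInstance
  haveI : IsLocalRing (X.presheaf.stalk r ⧸ I) := inferInstance
  haveI hnp : n.IsPrime := hn.isPrime
  set 𝔫 : Ideal Γ(X, W) := n.comap ((Ideal.Quotient.mk I).comp (X.presheaf.germ W r hrW).hom)
    with h𝔫
  haveI : 𝔫.IsPrime := Ideal.comap_isPrime _ n
  -- (1) dim O = depth O ≤ dim O/n
  have h1 : ringKrullDim (X.presheaf.stalk r ⧸ I) ≤ ringKrullDim ((X.presheaf.stalk r ⧸ I) ⧸ n) := by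
    have hd := hcm.supportDim_eq_depth
    rw [Module.supportDim_self_eq_ringKrullDim] at hd
    rw [hd]
    exact Groth.Agent.Lib.Helper5.depth_le_ringKrullDim_quotient hn
  refine h1.trans ?_
  -- the point z
  have h𝔫q : 𝔫 ≤ (hW.primeIdealOf ⟨r, hrW⟩).asIdeal := by
    intro b hb
    rw [mem_primeIdealOf_iff_germ hW r hrW b]
    have hb' : (Ideal.Quotient.mk I) ((X.presheaf.germ W r hrW).hom b) ∈ n := hb
    have hnm : n ≤ maximalIdeal (X.presheaf.stalk r ⧸ I) := le_maximalIdeal hnp.ne_top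
    have h2 := hnm hb'
    rw [mem_maximalIdeal, mem_nonunits_iff] at h2 ⊢
    intro hu
    exact h2 (hu.map (Ideal.Quotient.mk I))
  have hzex : (hW.primeIdealOf ⟨r, hrW⟩) ∈
      Set.range (PrimeSpectrum.comap (Ideal.Quotient.mk 𝔫)) := by
    rw [range_comap_of_surjective _ _ Ideal.Quotient.mk_surjective, Ideal.mk_ker]
    exact h𝔫q
  obtain ⟨z, hz⟩ := hzex
  let κ : Spec (CommRingCat.of (Γ(X, W) ⧸ 𝔫)) ⟶ X :=
    Spec.map (CommRingCat.ofHom (Ideal.Quotient.mk 𝔫)) ≫ hW.fromSpec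
  have hκz : κ z = r := by
    show (Spec.map (CommRingCat.ofHom (Ideal.Quotient.mk 𝔫)) ≫ hW.fromSpec) z = r
    rw [Scheme.Hom.comp_apply]
    have : (Spec.map (CommRingCat.ofHom (Ideal.Quotient.mk 𝔫))) z = hW.primeIdealOf ⟨r, hrW⟩ := hz
    rw [this]
    exact hW.fromSpec_primeIdealOf ⟨r, hrW⟩
  -- (3)
  refine le_trans ?_ (ringKrullDim_stalk_spec_le (CommRingCat.of (Γ(X, W) ⧸ 𝔫)) z)
  -- (2) surjection stalk z → O/n
  clear_value 𝔫
  subst hκz
  obtain ⟨hsurj, hker⟩ := stalkMap_specQuot hW 𝔫 κ rfl z hrW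
  have hle : RingHom.ker (κ.stalkMap z).hom ≤
      RingHom.ker ((Ideal.Quotient.mk n).comp (Ideal.Quotient.mk I)) := by
    rw [hker, Ideal.map_le_iff_le_comap]
    intro b hb
    have hb' : b ∈ Ideal.comap ((Ideal.Quotient.mk I).comp (X.presheaf.germ W (κ z) hrW).hom) n :=
      h𝔫 ▸ hb
    rw [Ideal.mem_comap, RingHom.mem_ker, RingHom.comp_apply, Ideal.Quotient.eq_zero_iff_mem]
    exact hb'
  exact ringKrullDim_le_of_surjective
    (RingHom.liftOfSurjective (κ.stalkMap z).hom hsurj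
      ⟨(Ideal.Quotient.mk n).comp (Ideal.Quotient.mk I), hle⟩)
    (by
      intro y
      obtain ⟨y', rfl⟩ := Ideal.Quotient.mk_surjective y
      obtain ⟨y'', rfl⟩ := Ideal.Quotient.mk_surjective y'
      exact ⟨(κ.stalkMap z).hom y'', RingHom.liftOfSurjective_comp_apply _ hsurj _ y''⟩)

/-- `dim_x X_y = dim O_{X,x}/m_y O_{X,x} + trdeg κ(x)/κ(y)`. -/
theorem fibreDimAt_eq_quot_add {X Y : Scheme.{u}} (f : X ⟶ Y) [LocallyOfFiniteType f] (x : X) :
    FlatMor.fibreDimAt f x =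
      ringKrullDim (X.presheaf.stalk x ⧸
        (maximalIdeal (Y.presheaf.stalk (f x))).map (f.stalkMap x).hom) +
        (ptTrdeg f x : WithBot ℕ∞) := by
  obtain ⟨e⟩ := Groth.Agent.Lib.Helper5.FiberStalk.nonempty_stalk_asFiber_equiv f x
  rw [fibreDimAt_eq_stalk_add_ptTrdeg f x, ringKrullDim_eq_of_ringEquiv e]

/-- the residue field extension at the image of a section is trivial -/
theorem ptTrdeg_eq_zero_of_section {X Y : Scheme.{u}} (f : X ⟶ Y) [LocallyOfFiniteType f]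
    (e : Y ⟶ X) (he : e ≫ f = 𝟙 Y) (y : Y) : ptTrdeg f (e y) = 0 := by
  haveI : LocallyOfFiniteType (e ≫ f) := by rw [he]; infer_instance
  haveI : LocallyOfFiniteType e := locallyOfFiniteType_of_comp e f
  have h1 := ptTrdeg_comp e f y
  have h2 : ∀ (φ : Y ⟶ Y) [LocallyOfFiniteType φ], φ = 𝟙 Y → ptTrdeg φ y = 0 := by
    intro φ _ hφ
    subst hφ
    exact Groth.Agent.Lib.Helper6.QFAff.ptTrdeg_eq_zero_of_locallyQuasiFinite (𝟙 Y) y
  rw [h2 (e ≫ f) he] at h1
  omega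

/-- **Choice of the slicing function.** In the situation of the slicing lemma (`r = e(u)` with `s`
Cohen–Macaulay at `r`, `dim G_u < dim_r F_u`), there is `f₀` in the maximal ideal `m` of `u` in
`Γ(U, V)` with `t♯ f₀` a nonzerodivisor on `O_{R,r}/m_u O_{R,r}`. -/
theorem exists_f0 {S : Scheme.{u}} (G : Grpd.GroupoidScheme S) [LocallyOfFiniteType G.s] (r : G.R)
    (hr : r = G.e (G.s r)) {V : G.U.Opens} (hV : IsAffineOpen V)
    (hsV : G.s r ∈ V) (hmax : (hV.primeIdealOf ⟨G.s r, hsV⟩).asIdeal.IsMaximal)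
    {W : G.R.Opens} (hW : IsAffineOpen W) (hrW : r ∈ W) (es : W ≤ G.s ⁻¹ᵁ V)
    (et : W ≤ G.t ⁻¹ᵁ V)
    (hcm : LocCoh.IsCohenMacaulayLocalRing (G.R.presheaf.stalk r ⧸
      (maximalIdeal (G.U.presheaf.stalk (G.s r))).map (G.s.stalkMap r).hom))
    (hd : topologicalKrullDim (G.stabilizerToU.fiber (G.s r)) < FlatMor.fibreDimAt G.s r) :
    ∃ f0 ∈ (hV.primeIdealOf ⟨G.s r, hsV⟩).asIdeal,
      Ideal.Quotient.mk ((maximalIdeal (G.U.presheaf.stalk (G.s r))).map (G.s.stalkMap r).hom)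
        (G.R.presheaf.germ W r hrW ((G.t.appLE V W et).hom f0)) ∈
      nonZeroDivisors (G.R.presheaf.stalk r ⧸
        (maximalIdeal (G.U.presheaf.stalk (G.s r))).map (G.s.stalkMap r).hom) := by
  set I : Ideal (G.R.presheaf.stalk r) :=
    (maximalIdeal (G.U.presheaf.stalk (G.s r))).map (G.s.stalkMap r).hom with hI
  haveI := hcm
  haveI : IsNoetherianRing (G.R.presheaf.stalk r ⧸ I) := inferInstance
  haveI : IsLocalRing (G.R.presheaf.stalk r ⧸ I) := inferInstance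
  set m : Ideal Γ(G.U, V) := (hV.primeIdealOf ⟨G.s r, hsV⟩).asIdeal with hm
  let θ : Γ(G.U, V) →+* (G.R.presheaf.stalk r ⧸ I) :=
    ((Ideal.Quotient.mk I).comp (G.R.presheaf.germ W r hrW).hom).comp (G.t.appLE V W et).hom
  have key : ∀ n ∈ associatedPrimes (G.R.presheaf.stalk r ⧸ I) (G.R.presheaf.stalk r ⧸ I),
      ¬ m ≤ n.comap θ := by
    intro n hn hle
    haveI hnp : n.IsPrime := hn.isPrime
    set 𝔫 : Ideal Γ(G.R, W) :=
      n.comap ((Ideal.Quotient.mk I).comp (G.R.presheaf.germ W r hrW).hom) with h𝔫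
    haveI : 𝔫.IsPrime := Ideal.comap_isPrime _ n
    have hτ : m ≤ 𝔫.comap (G.t.appLE V W et).hom := by
      intro a ha
      exact hle ha
    have hσ : m ≤ 𝔫.comap (G.s.appLE V W es).hom := by
      intro a ha
      rw [Ideal.mem_comap, h𝔫, Ideal.mem_comap, RingHom.comp_apply]
      have hnat : (G.R.presheaf.germ W r hrW).hom ((G.s.appLE V W es).hom a) =
          (G.s.stalkMap r).hom (G.U.presheaf.germ V (G.s r) hsV a) := by
        have : G.s.appLE V W es ≫ G.R.presheaf.germ W r hrW =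
            G.U.presheaf.germ V (G.s r) hsV ≫ G.s.stalkMap r := by
          rw [Scheme.Hom.appLE, Category.assoc, G.R.presheaf.germ_res', Scheme.Hom.germ_stalkMap]
        exact congrArg (fun f => f.hom a) this
      rw [hnat]
      have hmem : (G.s.stalkMap r).hom (G.U.presheaf.germ V (G.s r) hsV a) ∈ I :=
        Ideal.mem_map_of_mem _ ((mem_primeIdealOf_iff_germ hV (G.s r) hsV a).mp ha)
      rw [Ideal.Quotient.eq_zero_iff_mem.mpr hmem]
      exact n.zero_mem
    have h𝔫q : 𝔫 ≤ (hW.primeIdealOf ⟨r, hrW⟩).asIdeal := by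
      intro b hb
      rw [mem_primeIdealOf_iff_germ hW r hrW b]
      have hb' : (Ideal.Quotient.mk I) ((G.R.presheaf.germ W r hrW).hom b) ∈ n := hb
      have hnm : n ≤ maximalIdeal (G.R.presheaf.stalk r ⧸ I) := le_maximalIdeal hnp.ne_top
      have h2 := hnm hb'
      rw [mem_maximalIdeal, mem_nonunits_iff] at h2 ⊢
      intro hu
      exact h2 (hu.map (Ideal.Quotient.mk I))
    have heW : G.e (G.s r) ∈ W := hr ▸ hrW
    have hsub : (⟨G.e (G.s r), heW⟩ : W) = ⟨r, hrW⟩ := Subtype.ext hr.symm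
    have h𝔫q' : 𝔫 ≤ (hW.primeIdealOf ⟨G.e (G.s r), heW⟩).asIdeal := by
      rw [hsub]
      exact h𝔫q
    have hA := dim_quot_le_dim_stabFiber G (G.s r) hV hsV hmax hW es et heW 𝔫 h𝔫q' hσ hτ
    have hB := ringKrullDim_le_quot hW r hrW I n hn
    have hC : FlatMor.fibreDimAt G.s r = ringKrullDim (G.R.presheaf.stalk r ⧸ I) := by
      rw [fibreDimAt_eq_quot_add G.s r]
      have h0 := ptTrdeg_eq_zero_of_section G.s G.e G.e_s (G.s r)
      rw [← hr] at h0
      rw [h0]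
      simp only [Nat.cast_zero, add_zero]
      rfl
    have hD : topologicalKrullDim (Spec (CommRingCat.of (Γ(G.R, W) ⧸ 𝔫))) =
        ringKrullDim (Γ(G.R, W) ⧸ 𝔫) :=
      PrimeSpectrum.topologicalKrullDim_eq_ringKrullDim _
    rw [hC] at hd
    rw [hD] at hA
    exact absurd (lt_of_le_of_lt (hB.trans hA) hd) (lt_irrefl _)
  obtain ⟨f0, hf0, hnzd⟩ := exists_mem_nonZeroDivisors_of_not_le θ m key
  exact ⟨f0, hf0, hnzd⟩

end Groth.Agent.R2.H6.SliceRing
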