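import Mathlib
import Groth.Prelude.Def_Grpd
import Groth.Prelude.Def_Flat
import Groth.Agent.R2.H6SliceRing
import Groth.Agent.Lib.Helper14FtPts
import Groth.Agent.Lib.Helper2StalkFlat

/-!
# Slicing groupoids, main step, part A: preparations (helper6)
-/

set_option autoImplicit false
universe u
open CategoryTheory Limits AlgebraicGeometry Topology IsLocalRing

namespace Groth.Agent.R2.H6.SliceMain

open Groth.Agent.R2.H6.SliceChart Groth.Agent.R2.H6.NzdSliceSch Groth.Agent.R2.H6.NzdSlice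
  Groth.Agent.R2.H6.CMSliceB

/-- the prime ideal of a point closed in an affine open is maximal -/
theorem isMaximal_primeIdealOf_of_isClosed {X : Scheme.{u}} {V : X.Opens} (hV : IsAffineOpen V)
    (x : X) (hx : x ∈ V) (hcl : IsClosed ({⟨x, hx⟩} : Set V)) :
    (hV.primeIdealOf ⟨x, hx⟩).asIdeal.IsMaximal := by
  rw [← PrimeSpectrum.isClosed_singleton_iff_isMaximal]
  obtain ⟨C, hC, hCV⟩ := isClosed_induced_iff.mp hcl
  have h1 : ({hV.primeIdealOf ⟨x, hx⟩} : Set (Spec Γ(X, V))) = hV.fromSpec ⁻¹' C := by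
    ext q
    have hqV : hV.fromSpec q ∈ V := by
      have : hV.fromSpec q ∈ Set.range hV.fromSpec := ⟨q, rfl⟩
      rw [hV.range_fromSpec] at this
      exact this
    constructor
    · intro hq
      have hq' : q = hV.primeIdealOf ⟨x, hx⟩ := hq
      show hV.fromSpec q ∈ C
      rw [hq', hV.fromSpec_primeIdealOf ⟨x, hx⟩]
      exact (Set.ext_iff.mp hCV ⟨x, hx⟩).mpr rfl
    · intro hq
      have hq' : hV.fromSpec q ∈ C := hq
      have h2 := (Set.ext_iff.mp hCV ⟨hV.fromSpec q, hqV⟩).mp hq'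
      have hqx : hV.fromSpec q = x := congrArg Subtype.val h2
      show q = hV.primeIdealOf ⟨x, hx⟩
      apply hV.fromSpec.isOpenEmbedding.injective
      rw [hqx, hV.fromSpec_primeIdealOf ⟨x, hx⟩]
  have h3 := hC.preimage hV.fromSpec.continuous
  rw [← h1] at h3
  exact h3

/-- `V(f₀) ⟶ U` is locally of finite presentation -/
instance lfp_gMap {U : Scheme.{u}} {V : U.Opens} (hV : IsAffineOpen V) (f0 : Γ(U, V)) :
    LocallyOfFinitePresentation (gMap hV f0) := by
  haveI : LocallyOfFinitePresentation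
      (Spec.map (CommRingCat.ofHom (Ideal.Quotient.mk (Ideal.span {f0})))) := by
    rw [HasRingHomProperty.Spec_iff (P := @LocallyOfFinitePresentation)]
    apply RingHom.FinitePresentation.of_surjective _ Ideal.Quotient.mk_surjective
    show (RingHom.ker (Ideal.Quotient.mk (Ideal.span {f0}))).FG
    rw [Ideal.mk_ker]
    exact Submodule.fg_span_singleton f0
  infer_instance

/-- **Flat slice** (a packaging of `H6NzdSliceSch.main` with a prescribed section). -/
theorem exists_flat_slice {X S : Scheme.{u}} (f : X ⟶ S) [LocallyOfFinitePresentation f] (x : X)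
    {V : S.Opens} (hV : IsAffineOpen V) {W : X.Opens} (hW : IsAffineOpen W) (hxW : x ∈ W)
    (e : W ≤ f ⁻¹ᵁ V) (hWF : ∀ y : X, y ∈ W → (f.stalkMap y).hom.Flat) (h₀ : Γ(X, W))
    (hh₀q : h₀ ∈ (hW.primeIdealOf ⟨x, hxW⟩).asIdeal)
    (hreg : Ideal.Quotient.mk (Ideal.map (f.stalkMap x).hom
        (IsLocalRing.maximalIdeal (S.presheaf.stalk (f x)))) (X.presheaf.germ W x hxW h₀) ∈
      nonZeroDivisors (X.presheaf.stalk x ⧸ Ideal.map (f.stalkMap x).hom
        (IsLocalRing.maximalIdeal (S.presheaf.stalk (f x))))) :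
    ∃ g : Γ(X, W), x ∈ X.basicOpen g ∧
      Flat (Spec.map (CommRingCat.ofHom (Ideal.Quotient.mk
        (Ideal.span {X.presheaf.map (homOfLE (X.basicOpen_le g)).op h₀}))) ≫
        (hW.basicOpen g).fromSpec ≫ f) := by
  let ρ := (f.appLE V W e).hom
  let _ : Algebra Γ(S, V) Γ(X, W) := ρ.toAlgebra
  have hfl : Module.Flat Γ(S, V) Γ(X, W) :=
    Groth.Agent.Lib.Helper2.StalkFlat.flat_appLE_of_flat_stalkMap f hW hV e hWF
  have hfp : Algebra.FinitePresentation Γ(S, V) Γ(X, W) := f.finitePresentation_appLE hV hW e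
  let q := (hW.primeIdealOf ⟨x, hxW⟩).asIdeal
  obtain ⟨g, hg, H⟩ := exists_away_flat_slice q h₀ hh₀q
    (fun c hc => fibre_condition f x hV hW hxW e h₀ hreg c hc)
  have hU : IsAffineOpen (X.basicOpen g) := hW.basicOpen g
  have hxU : x ∈ X.basicOpen g := (mem_basicOpen_iff_notMem_primeIdealOf hW x hxW g).mpr hg
  have hloc : IsLocalization.Away g Γ(X, X.basicOpen g) := hW.isLocalization_basicOpen g
  obtain ⟨hnzd, hflq, hfpq⟩ := H Γ(X, X.basicOpen g)
  have e' : X.basicOpen g ≤ f ⁻¹ᵁ V := (X.basicOpen_le g).trans e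
  set h' : Γ(X, X.basicOpen g) := algebraMap Γ(X, W) Γ(X, X.basicOpen g) h₀ with hh'
  have hmap : (algebraMap Γ(X, W) Γ(X, X.basicOpen g)).comp (algebraMap Γ(S, V) Γ(X, W)) =
      (f.appLE V (X.basicOpen g) e').hom := by
    have := Scheme.Hom.appLE_map f e (homOfLE (X.basicOpen_le g)).op
    exact congrArg CommRingCat.Hom.hom this
  rw [hmap] at hflq
  have hcomp : Spec.map (CommRingCat.ofHom (Ideal.Quotient.mk (Ideal.span {h'}))) ≫
      hU.fromSpec ≫ f =
      Spec.map (f.appLE V (X.basicOpen g) e' ≫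
        CommRingCat.ofHom (Ideal.Quotient.mk (Ideal.span {h'}))) ≫ hV.fromSpec := by
    rw [← IsAffineOpen.SpecMap_appLE_fromSpec f hV hU e', ← Category.assoc, ← Spec.map_comp]
  refine ⟨g, hxU, ?_⟩
  show Flat (Spec.map (CommRingCat.ofHom (Ideal.Quotient.mk (Ideal.span {h'}))) ≫
    hU.fromSpec ≫ f)
  rw [hcomp]
  have : Flat (Spec.map (f.appLE V (X.basicOpen g) e' ≫
      CommRingCat.ofHom (Ideal.Quotient.mk (Ideal.span {h'})))) := by
    rw [HasRingHomProperty.Spec_iff (P := @Flat)]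
    exact hflq
  infer_instance

end Groth.Agent.R2.H6.SliceMain
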