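import Mathlib
import Groth.Prelude.Def_Grpd
import Groth.Prelude.Def_Flat
import Groth.Agent.R2.H6SliceMainA
import Groth.Agent.Lib.Helper4DimFormulaAN

/-!
# Slicing groupoids, main step, part B: the local computation (helper6)
-/

set_option autoImplicit false
universe u
open CategoryTheory Limits AlgebraicGeometry Topology IsLocalRing

namespace Groth.Agent.R2.H6.SliceMain

open Groth.Agent.R2.H6.SliceChart Groth.Agent.R2.H6.SliceStalk Groth.Agent.R2.H6.SliceAlg
  Groth.Agent.R2.H6.SliceRing Groth.Agent.Lib.Helper4.DimFormula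

variable {R U Y : Scheme.{u}} (t : R ⟶ U) (s : R ⟶ Y) [LocallyOfFiniteType s]
  {V : U.Opens} (hV : IsAffineOpen V) {W : R.Opens} (hW : IsAffineOpen W) (et : W ≤ t ⁻¹ᵁ V)
  (f0 : Γ(U, V))

/-- **Local computation for one slicing step.** -/
theorem slice_local (z0 : Spec (CommRingCat.of (Γ(R, W) ⧸ Ideal.span {hSec t et f0})))
    (hflat : Flat (iotaMap t hW et f0 ≫ s))
    (hcm : Grpd.IsCMAt s ((jMap t hV hW et f0 ≫ pullback.snd (gMap hV f0) t) z0))
    (hrW : (jMap t hV hW et f0 ≫ pullback.snd (gMap hV f0) t) z0 ∈ W)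
    (hreg : Ideal.Quotient.mk ((maximalIdeal (Y.presheaf.stalk
          (s ((jMap t hV hW et f0 ≫ pullback.snd (gMap hV f0) t) z0)))).map
          (s.stalkMap ((jMap t hV hW et f0 ≫ pullback.snd (gMap hV f0) t) z0)).hom)
        (R.presheaf.germ W ((jMap t hV hW et f0 ≫ pullback.snd (gMap hV f0) t) z0) hrW
          (hSec t et f0)) ∈
      nonZeroDivisors (R.presheaf.stalk ((jMap t hV hW et f0 ≫ pullback.snd (gMap hV f0) t) z0) ⧸
        (maximalIdeal (Y.presheaf.stalk
          (s ((jMap t hV hW et f0 ≫ pullback.snd (gMap hV f0) t) z0)))).map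
          (s.stalkMap ((jMap t hV hW et f0 ≫ pullback.snd (gMap hV f0) t) z0)).hom)) :
    Grpd.IsCMAt (pullback.snd (gMap hV f0) t ≫ s) (jMap t hV hW et f0 z0) ∧
      FlatMor.fibreDimAt (pullback.snd (gMap hV f0) t ≫ s) (jMap t hV hW et f0 z0) + 1 =
        FlatMor.fibreDimAt s ((jMap t hV hW et f0 ≫ pullback.snd (gMap hV f0) t) z0) := by
  set j := jMap t hV hW et f0 with hj
  set snd := pullback.snd (gMap hV f0) t with hsnd
  have hκ : j ≫ snd = iotaMap t hW et f0 := jMap_snd t hV hW et f0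
  -- stalk maps
  let α : Y.presheaf.stalk (s ((j ≫ snd) z0)) →+* R.presheaf.stalk ((j ≫ snd) z0) :=
    (s.stalkMap ((j ≫ snd) z0)).hom
  let π : R.presheaf.stalk ((j ≫ snd) z0) →+* (pullback (gMap hV f0) t).presheaf.stalk (j z0) :=
    (snd.stalkMap (j z0)).hom
  let ε : (pullback (gMap hV f0) t).presheaf.stalk (j z0) ≃+*
      (Spec (CommRingCat.of (Γ(R, W) ⧸ Ideal.span {hSec t et f0}))).presheaf.stalk z0 :=
    (asIso (j.stalkMap z0)).commRingCatIsoToRingEquiv
  have h1 : ((j ≫ snd).stalkMap z0).hom = ε.toRingHom.comp π := by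
    rw [Scheme.Hom.stalkMap_comp]
    rfl
  obtain ⟨hsurjκ, hkerκ⟩ :=
    stalkMap_specQuot hW (Ideal.span {hSec t et f0}) (j ≫ snd) hκ z0 hrW
  have hπsurj : Function.Surjective π := by
    intro c
    obtain ⟨y, hy⟩ := hsurjκ (ε c)
    refine ⟨y, ε.injective ?_⟩
    rw [← hy, h1]
    rfl
  set b : R.presheaf.stalk ((j ≫ snd) z0) :=
    R.presheaf.germ W ((j ≫ snd) z0) hrW (hSec t et f0) with hb
  have hπker : RingHom.ker π = Ideal.span {b} := by
    have h2 : RingHom.ker π = RingHom.ker ((j ≫ snd).stalkMap z0).hom := by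
      rw [h1]
      ext y
      simp only [RingHom.mem_ker, RingHom.comp_apply]
      constructor
      · intro h; rw [h, map_zero]
      · intro h
        exact ε.injective (by rw [map_zero]; exact h)
    rw [h2, hkerκ, Ideal.map_span, Set.image_singleton]
  obtain ⟨hcmC, hdimC⟩ := cm_slice α π hπsurj b hπker hcm.2 hreg
  have hcomp : ((snd ≫ s).stalkMap (j z0)).hom = π.comp α := by
    rw [Scheme.Hom.stalkMap_comp]
    rfl
  -- flatness
  have hflatφ : ((snd ≫ s).stalkMap (j z0)).hom.Flat := by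
    haveI hF : Flat (j ≫ (snd ≫ s)) := by
      rw [← Category.assoc, hκ]
      exact hflat
    have h3 := Flat.stalkMap (j ≫ (snd ≫ s)) z0
    rw [Scheme.Hom.stalkMap_comp] at h3
    have h4 : (ε.toRingHom.comp ((snd ≫ s).stalkMap (j z0)).hom).Flat := h3
    have h5 : ((snd ≫ s).stalkMap (j z0)).hom =
        ε.symm.toRingHom.comp (ε.toRingHom.comp ((snd ≫ s).stalkMap (j z0)).hom) := by
      ext y
      show _ = ε.symm (ε (((snd ≫ s).stalkMap (j z0)).hom y))
      rw [RingEquiv.symm_apply_apply]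
    rw [h5]
    exact RingHom.Flat.comp h4 (RingHom.Flat.of_bijective ε.symm.bijective)
  haveI : LocallyOfFiniteType (gMap hV f0) := inferInstance
  haveI : LocallyOfFiniteType snd := inferInstance
  haveI : IsPreimmersion snd := inferInstance
  refine ⟨⟨hflatφ, ?_⟩, ?_⟩
  · show LocCoh.IsCohenMacaulayLocalRing (_ ⧸ (maximalIdeal _).map ((snd ≫ s).stalkMap (j z0)).hom)
    rw [hcomp]
    exact hcmC
  · rw [fibreDimAt_eq_quot_add (snd ≫ s) (j z0), fibreDimAt_eq_quot_add s ((j ≫ snd) z0),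
      ptTrdeg_comp_of_isPreimmersion snd s (j z0)]
    have hdimC' : ringKrullDim ((pullback (gMap hV f0) t).presheaf.stalk (j z0) ⧸
        (maximalIdeal (Y.presheaf.stalk ((snd ≫ s) (j z0)))).map
          ((snd ≫ s).stalkMap (j z0)).hom) + 1 =
        ringKrullDim (R.presheaf.stalk ((j ≫ snd) z0) ⧸
          (maximalIdeal (Y.presheaf.stalk (s ((j ≫ snd) z0)))).map
            (s.stalkMap ((j ≫ snd) z0)).hom) := by
      rw [hcomp]
      exact hdimC
    rw [← hdimC']
    exact add_right_comm _ _ _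

end Groth.Agent.R2.H6.SliceMain
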