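import Mathlib
import Groth.Prelude.Def_Grpd
import Groth.Prelude.Def_Flat
import Groth.Agent.R2.H6SliceMainB

/-!
# Slicing groupoids: one slicing step (Stacks 04MU) (helper6)
-/

set_option autoImplicit false
universe u
open CategoryTheory Limits AlgebraicGeometry Topology IsLocalRing

namespace Groth.Agent.R2.H6.SliceMain

open Groth.Agent.R2.H6.SliceChart Groth.Agent.R2.H6.SliceStalk Groth.Agent.R2.H6.SliceAlg
  Groth.Agent.R2.H6.SliceRing Groth.Agent.Lib.Helper4.DimFormula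

/-- **One slicing step**, at a point `r = e(u)` of `R` (written with `u = s r`). -/
theorem slice_at {S : Scheme.{u}} (G : Grpd.GroupoidScheme S) [LocallyOfFinitePresentation G.s]
    [LocallyOfFinitePresentation G.t] (hs : ∀ r : G.R, Grpd.IsCMAt G.s r) (r : G.R)
    (hr : r = G.e (G.s r)) (htr : G.t r = G.s r)
    (hu : LocallyOfFiniteType (G.U.fromSpecResidueField (G.s r)))
    (hd : topologicalKrullDim ↥(G.stabilizerToU.fiber (G.s r)) < FlatMor.fibreDimAt G.s r) :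
    ∃ (U' : Scheme.{u}) (_ : IsAffine U') (g : U' ⟶ G.U) (u' : U') (p : ↑(pullback g G.t)),
      IsImmersion g ∧ LocallyOfFinitePresentation g ∧ g u' = G.s r ∧ pullback.fst g G.t p = u' ∧
      pullback.snd g G.t p = r ∧ Grpd.IsCMAt (pullback.snd g G.t ≫ G.s) p ∧
      FlatMor.fibreDimAt (pullback.snd g G.t ≫ G.s) p + 1 = FlatMor.fibreDimAt G.s r := by
  classical
  haveI := hu
  -- Step 1: the affine open `V ∋ u` in which `u` is closed
  obtain ⟨V, hV, hsV', hcl'⟩ :=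
    Groth.Agent.Lib.Helper14.exists_affineOpen_isClosed_of_locallyOfFiniteType G.U
      (G.U.residueField (G.s r)) (G.U.fromSpecResidueField (G.s r)) (IsLocalRing.closedPoint _)
  have hpt : (G.U.fromSpecResidueField (G.s r)).base (IsLocalRing.closedPoint _) = G.s r :=
    Scheme.fromSpecResidueField_apply _ _
  have hsV : G.s r ∈ V := hpt ▸ hsV'
  have hcl : IsClosed ({⟨G.s r, hsV⟩} : Set V) := by
    have : (⟨_, hsV'⟩ : V) = ⟨G.s r, hsV⟩ := Subtype.ext hpt
    rw [← this]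
    exact hcl'
  have hmax := isMaximal_primeIdealOf_of_isClosed hV (G.s r) hsV hcl
  -- Step 2: the affine open `W ∋ r`
  have htV : G.t r ∈ V := htr.symm ▸ hsV
  obtain ⟨W, hW, hrW, hWsub⟩ :=
    exists_isAffineOpen_mem_and_subset (x := r) (U := G.s ⁻¹ᵁ V ⊓ G.t ⁻¹ᵁ V) ⟨hsV, htV⟩
  have es : W ≤ G.s ⁻¹ᵁ V := fun y hy => (hWsub hy).1
  have et : W ≤ G.t ⁻¹ᵁ V := fun y hy => (hWsub hy).2
  -- Step 3: the function `f₀`
  obtain ⟨f0, hf0m, hnzd⟩ := exists_f0 G r hr hV hsV hmax hW hrW es et (hs r).2 hd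
  -- Step 4: the flat slice
  have hmemq : ∀ (W₁ : G.R.Opens) (hW₁ : IsAffineOpen W₁) (hrW₁ : r ∈ W₁) (et₁ : W₁ ≤ G.t ⁻¹ᵁ V),
      (G.t.appLE V W₁ et₁).hom f0 ∈ (hW₁.primeIdealOf ⟨r, hrW₁⟩).asIdeal := by
    intro W₁ hW₁ hrW₁ et₁
    have hc := IsAffineOpen.comap_primeIdealOf_appLE (f := G.t) V hV W₁ hW₁ et₁ hrW₁
    have h1 : f0 ∈ (hV.primeIdealOf ⟨G.t r, et₁ hrW₁⟩).asIdeal := by
      have hsub : (⟨G.t r, et₁ hrW₁⟩ : V) = ⟨G.s r, hsV⟩ := Subtype.ext htr
      rw [hsub]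
      exact hf0m
    rw [← hc] at h1
    exact h1
  obtain ⟨g, hrg, hflatg⟩ := exists_flat_slice G.s r hV hW hrW es (fun y _ => (hs y).1)
    ((G.t.appLE V W et).hom f0) (hmemq W hW hrW et) hnzd
  have hW' : IsAffineOpen (G.R.basicOpen g) := hW.basicOpen g
  have et' : G.R.basicOpen g ≤ G.t ⁻¹ᵁ V := (G.R.basicOpen_le g).trans et
  have hsec : G.R.presheaf.map (homOfLE (G.R.basicOpen_le g)).op ((G.t.appLE V W et).hom f0) =
      hSec G.t et' f0 := by
    have := Scheme.Hom.appLE_map G.t et (homOfLE (G.R.basicOpen_le g)).op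
    exact congrArg (fun φ => φ.hom f0) this
  rw [hsec] at hflatg
  have hnzd' : Ideal.Quotient.mk ((maximalIdeal (G.U.presheaf.stalk (G.s r))).map
      (G.s.stalkMap r).hom) (G.R.presheaf.germ (G.R.basicOpen g) r hrg (hSec G.t et' f0)) ∈
      nonZeroDivisors (G.R.presheaf.stalk r ⧸
        (maximalIdeal (G.U.presheaf.stalk (G.s r))).map (G.s.stalkMap r).hom) := by
    have h1 : G.R.presheaf.germ (G.R.basicOpen g) r hrg (hSec G.t et' f0) =
        G.R.presheaf.germ W r hrW ((G.t.appLE V W et).hom f0) := by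
      rw [← hsec]
      exact TopCat.Presheaf.germ_res_apply G.R.presheaf (homOfLE (G.R.basicOpen_le g)) r hrg _
    rw [h1]
    exact hnzd
  -- Step 5: the point `z₀`
  have hq' := hmemq (G.R.basicOpen g) hW' hrg et'
  obtain ⟨z0, hz0⟩ : ∃ z0 : Spec (CommRingCat.of (Γ(G.R, G.R.basicOpen g) ⧸
      Ideal.span {hSec G.t et' f0})),
      (Spec.map (CommRingCat.ofHom (Ideal.Quotient.mk (Ideal.span {hSec G.t et' f0})))) z0 =
        hW'.primeIdealOf ⟨r, hrg⟩ := by
    have hmem : hW'.primeIdealOf ⟨r, hrg⟩ ∈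
        Set.range (PrimeSpectrum.comap (Ideal.Quotient.mk (Ideal.span {hSec G.t et' f0}))) := by
      rw [range_comap_of_surjective _ _ Ideal.Quotient.mk_surjective, Ideal.mk_ker,
        PrimeSpectrum.mem_zeroLocus]
      exact SetLike.coe_subset_coe.mpr ((Ideal.span_singleton_le_iff_mem _).mpr hq')
    obtain ⟨z0, hz0⟩ := hmem
    exact ⟨z0, hz0⟩
  have hκz : (jMap G.t hV hW' et' f0 ≫ pullback.snd (gMap hV f0) G.t) z0 = r := by
    rw [jMap_snd]
    show (Spec.map (CommRingCat.ofHom (Ideal.Quotient.mk (Ideal.span {hSec G.t et' f0}))) ≫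
      hW'.fromSpec) z0 = r
    rw [Scheme.Hom.comp_apply, hz0]
    exact hW'.fromSpec_primeIdealOf ⟨r, hrg⟩
  subst hκz
  -- Step 6
  obtain ⟨hcmP, hdimP⟩ := slice_local G.t G.s hV hW' et' f0 z0 hflatg (hs _) hrg hnzd'
  refine ⟨Spec (CommRingCat.of (Γ(G.U, V) ⧸ Ideal.span {f0})), inferInstance, gMap hV f0,
    (pullback.fst (gMap hV f0) G.t) (jMap G.t hV hW' et' f0 z0), jMap G.t hV hW' et' f0 z0,
    inferInstance,
    inferInstance, ?_, rfl, rfl, hcmP, hdimP⟩
  rw [← Scheme.Hom.comp_apply, pullback.condition, Scheme.Hom.comp_apply]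
  exact htr

end Groth.Agent.R2.H6.SliceMain
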