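import Mathlib
import Groth.Agent.R2.H6SmoothSlice
import Groth.Agent.R2.H6NzdSliceSch

set_option autoImplicit false
universe u

open AlgebraicGeometry CategoryTheory Limits TensorProduct

namespace Groth.Agent.R2.H6.SmoothSliceSch

open Groth.Agent.R2.H6.SmoothSlice Groth.Agent.R2.H6.NzdSliceSch Groth.Agent.R2.H6.CMSliceB

section ring

/-- elements of `m Ω` die in `κ ⊗ Ω` -/
theorem one_tmul_eq_zero_of_mem_smul {O M : Type u} [CommRing O] [IsLocalRing O] [AddCommGroup M]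
    [Module O M] (ω : M) (hω : ω ∈ (IsLocalRing.maximalIdeal O • ⊤ : Submodule O M)) :
    (1 : IsLocalRing.ResidueField O) ⊗ₜ[O] ω = 0 := by
  refine Submodule.smul_induction_on
    (p := fun ω => (1 : IsLocalRing.ResidueField O) ⊗ₜ[O] ω = 0) hω
    (fun r hr n _ => ?_) (fun y z hy hz => ?_)
  · rw [TensorProduct.tmul_smul, TensorProduct.smul_tmul', Algebra.smul_def, mul_one]
    have : algebraMap O (IsLocalRing.ResidueField O) r = 0 :=
      (IsLocalRing.residue_eq_zero_iff r).mpr hr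
    rw [this, TensorProduct.zero_tmul]
  · rw [TensorProduct.tmul_add, hy, hz, add_zero]

theorem one_tmul_D_eq_zero {A B Os Ox : Type u} [CommRing A] [CommRing B] [CommRing Os]
    [CommRing Ox] [IsLocalRing Ox] [Algebra A B] [Algebra Os Ox] [Algebra A Os] [Algebra B Ox]
    [Algebra A Ox] [IsScalarTower A B Ox] [IsScalarTower A Os Ox]
    (q : Ideal B) (hq : ∀ b ∈ q, algebraMap B Ox b ∈ IsLocalRing.maximalIdeal Ox) (h₀ : B)
    (hD : KaehlerDifferential.D A B h₀ ∈ (q • ⊤ : Submodule B Ω[B⁄A])) :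
    (1 : IsLocalRing.ResidueField Ox) ⊗ₜ[Ox]
      KaehlerDifferential.D Os Ox (algebraMap B Ox h₀) = 0 := by
  apply one_tmul_eq_zero_of_mem_smul
  rw [← KaehlerDifferential.map_D A Os B Ox]
  generalize KaehlerDifferential.D A B h₀ = ω at hD
  refine Submodule.smul_induction_on
    (p := fun ω => KaehlerDifferential.map A Os B Ox ω ∈
      (IsLocalRing.maximalIdeal Ox • ⊤ : Submodule Ox Ω[Ox⁄Os])) hD
    (fun r hr n _ => ?_) (fun y z hy hz => ?_)
  · rw [map_smul, ← algebraMap_smul Ox r]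
    exact Submodule.smul_mem_smul (hq r hr) Submodule.mem_top
  · rw [map_add]
    exact add_mem hy hz

end ring

variable {X S : Scheme.{u}}

/-- charts of a morphism which is smooth on an open subscheme -/
theorem smooth_appLE_of_le (f : X ⟶ S) (W : X.Opens) (hW : Smooth (W.ι ≫ f)) {U : X.Opens}
    (hU : IsAffineOpen U) (hUW : U ≤ W) {V : S.Opens} (hV : IsAffineOpen V)
    (e : U ≤ f ⁻¹ᵁ V) : (f.appLE V U e).hom.Smooth := by
  have hUr : U ≤ W.ι.opensRange := by rwa [Scheme.Opens.opensRange_ι]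
  have hU' : IsAffineOpen (W.ι ⁻¹ᵁ U) := hU.preimage_of_isOpenImmersion W.ι hUr
  have e' : W.ι ⁻¹ᵁ U ≤ (W.ι ≫ f) ⁻¹ᵁ V := by
    intro y hy
    exact e hy
  have h1 := (W.ι ≫ f).smooth_appLE hV hU' e'
  have h2 : (W.ι ≫ f).appLE V (W.ι ⁻¹ᵁ U) e' =
      f.appLE V U e ≫ W.ι.appLE U (W.ι ⁻¹ᵁ U) le_rfl :=
    (Scheme.Hom.appLE_comp_appLE W.ι f V U (W.ι ⁻¹ᵁ U) e le_rfl).symm
  have h3 : IsIso (W.ι.appLE U (W.ι ⁻¹ᵁ U) le_rfl) := by
    rw [← Scheme.Hom.app_eq_appLE]
    exact W.ι.isIso_app U hUr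
  rw [h2] at h1
  exact (RingHom.Smooth.propertyIsLocal.respectsIso.cancel_right_isIso (f.appLE V U e)
    (W.ι.appLE U (W.ι ⁻¹ᵁ U) le_rfl)).mp h1


/-- **Smooth effective Cartier divisor through a point** (EGA IV 17.12-type slicing). -/
theorem main (f : X ⟶ S) (x : X) (W : X.Opens) (hxW : x ∈ W) (hW : Smooth (W.ι ≫ f))
    (h : X.presheaf.stalk x) (hm : h ∈ IsLocalRing.maximalIdeal (X.presheaf.stalk x))
    (hd : letI := (f.stalkMap x).hom.toAlgebra
      (1 : IsLocalRing.ResidueField (X.presheaf.stalk x)) ⊗ₜ[X.presheaf.stalk x]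
          (KaehlerDifferential.D (S.presheaf.stalk (f x)) (X.presheaf.stalk x) h) ≠ 0) :
    ∃ (U : X.Opens) (hU : IsAffineOpen U) (hx : x ∈ U) (h' : Γ(X, U)),
      X.presheaf.germ U x hx h' = h ∧ h' ∈ nonZeroDivisors Γ(X, U) ∧
      Smooth (Spec.map (CommRingCat.ofHom (Ideal.Quotient.mk (Ideal.span {h'}))) ≫
        hU.fromSpec ≫ f) := by
  obtain ⟨V, hV, hfxV, -⟩ :=
    exists_isAffineOpen_mem_and_subset (x := f x) (U := (⊤ : S.Opens)) trivial
  obtain ⟨U₀, hxU₀, s₀, hs₀⟩ := TopCat.Presheaf.exists_germ_eq X.presheaf h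
  obtain ⟨U₁, hU₁, hxU₁, hsub⟩ :=
    exists_isAffineOpen_mem_and_subset (x := x) (U := U₀ ⊓ f ⁻¹ᵁ V ⊓ W) ⟨⟨hxU₀, hfxV⟩, hxW⟩
  have hU₁U₀ : U₁ ≤ U₀ := fun y hy => (hsub hy).1.1
  have e : U₁ ≤ f ⁻¹ᵁ V := fun y hy => (hsub hy).1.2
  have hU₁W : U₁ ≤ W := fun y hy => (hsub hy).2
  let h₀ : Γ(X, U₁) := X.presheaf.map (homOfLE hU₁U₀).op s₀
  have hh₀ : X.presheaf.germ U₁ x hxU₁ h₀ = h := by
    rw [TopCat.Presheaf.germ_res_apply]
    exact hs₀
  subst hh₀
  let ρ := (f.appLE V U₁ e).hom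
  let _ : Algebra Γ(S, V) Γ(X, U₁) := ρ.toAlgebra
  have hsm : Algebra.Smooth Γ(S, V) Γ(X, U₁) := smooth_appLE_of_le f W hW hU₁ hU₁W hV e
  let q := (hU₁.primeIdealOf ⟨x, hxU₁⟩).asIdeal
  have hh₀q : h₀ ∈ q := (mem_primeIdealOf_iff_germ hU₁ x hxU₁ h₀).mpr hm
  have hD : KaehlerDifferential.D Γ(S, V) Γ(X, U₁) h₀ ∉
      (q • ⊤ : Submodule Γ(X, U₁) Ω[Γ(X, U₁)⁄Γ(S, V)]) := by
    intro hcon
    apply hd
    let gX := (X.presheaf.germ U₁ x hxU₁).hom
    let gS := (S.presheaf.germ V (f x) (e hxU₁)).hom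
    let _ : Algebra (S.presheaf.stalk (f x)) (X.presheaf.stalk x) := (f.stalkMap x).hom.toAlgebra
    let _ : Algebra Γ(S, V) (S.presheaf.stalk (f x)) := gS.toAlgebra
    let _ : Algebra Γ(X, U₁) (X.presheaf.stalk x) := gX.toAlgebra
    let _ : Algebra Γ(S, V) (X.presheaf.stalk x) := (gX.comp ρ).toAlgebra
    have : IsScalarTower Γ(S, V) Γ(X, U₁) (X.presheaf.stalk x) :=
      .of_algebraMap_eq (fun _ => rfl)
    have hnat : gX.comp ρ = (f.stalkMap x).hom.comp gS := by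
      have : f.appLE V U₁ e ≫ X.presheaf.germ U₁ x hxU₁ =
          S.presheaf.germ V (f x) (e hxU₁) ≫ f.stalkMap x := by
        rw [Scheme.Hom.appLE, Category.assoc, X.presheaf.germ_res', Scheme.Hom.germ_stalkMap]
      exact congrArg CommRingCat.Hom.hom this
    have : IsScalarTower Γ(S, V) (S.presheaf.stalk (f x)) (X.presheaf.stalk x) :=
      .of_algebraMap_eq (fun a => RingHom.congr_fun hnat a)
    exact one_tmul_D_eq_zero q
      (fun b hb => (mem_primeIdealOf_iff_germ hU₁ x hxU₁ b).mp hb) h₀ hcon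
  obtain ⟨r, hr, H⟩ := exists_away_smooth_nzd_slice q h₀ hh₀q hD
  have hU : IsAffineOpen (X.basicOpen r) := hU₁.basicOpen r
  have hxU : x ∈ X.basicOpen r := (mem_basicOpen_iff_notMem_primeIdealOf hU₁ x hxU₁ r).mpr hr
  have hloc : IsLocalization.Away (r * 1) Γ(X, X.basicOpen r) := by
    rw [mul_one]
    exact hU₁.isLocalization_basicOpen r
  obtain ⟨hnzd, hsmq⟩ := H 1 Γ(X, X.basicOpen r)
  have e' : X.basicOpen r ≤ f ⁻¹ᵁ V := (X.basicOpen_le r).trans e
  set h' : Γ(X, X.basicOpen r) := algebraMap Γ(X, U₁) Γ(X, X.basicOpen r) h₀ with hh'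
  have hmap : (algebraMap Γ(X, U₁) Γ(X, X.basicOpen r)).comp (algebraMap Γ(S, V) Γ(X, U₁)) =
      (f.appLE V (X.basicOpen r) e').hom := by
    have := Scheme.Hom.appLE_map f e (homOfLE (X.basicOpen_le r)).op
    exact congrArg CommRingCat.Hom.hom this
  rw [hmap] at hsmq
  have hcomp : Spec.map (CommRingCat.ofHom (Ideal.Quotient.mk (Ideal.span {h'}))) ≫
      hU.fromSpec ≫ f =
      Spec.map (f.appLE V (X.basicOpen r) e' ≫
        CommRingCat.ofHom (Ideal.Quotient.mk (Ideal.span {h'}))) ≫ hV.fromSpec := by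
    rw [← IsAffineOpen.SpecMap_appLE_fromSpec f hV hU e', ← Category.assoc, ← Spec.map_comp]
  refine ⟨X.basicOpen r, hU, hxU, h', ?_, hnzd, ?_⟩
  · exact TopCat.Presheaf.germ_res_apply X.presheaf (homOfLE (X.basicOpen_le r)) x hxU h₀
  · rw [hcomp]
    have : Smooth (Spec.map (f.appLE V (X.basicOpen r) e' ≫
        CommRingCat.ofHom (Ideal.Quotient.mk (Ideal.span {h'})))) := by
      rw [HasRingHomProperty.Spec_iff (P := @Smooth)]
      exact hsmq
    infer_instance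

/-- variant: the conormal map `m_x/m_x² → Ω ⊗ κ(x)` is nonzero -/
theorem main_of_ker (f : X ⟶ S) (x : X) (W : X.Opens) (hxW : x ∈ W) (hW : Smooth (W.ι ≫ f))
    (hker : letI := (f.stalkMap x).hom.toAlgebra
      letI := ((IsLocalRing.residue ↑(X.presheaf.stalk x)).comp (f.stalkMap x).hom).toAlgebra
      haveI : IsScalarTower ↑(S.presheaf.stalk (f x)) ↑(X.presheaf.stalk x)
          (IsLocalRing.ResidueField ↑(X.presheaf.stalk x)) :=
        IsScalarTower.of_algebraMap_eq (fun _ => rfl)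
      LinearMap.ker (KaehlerDifferential.mapBaseChange ↑(S.presheaf.stalk (f x))
        ↑(X.presheaf.stalk x) (IsLocalRing.ResidueField ↑(X.presheaf.stalk x))) ≠ ⊥) :
    ∃ (U : X.Opens) (hU : IsAffineOpen U) (hx : x ∈ U) (h' : Γ(X, U)),
      h' ∈ nonZeroDivisors Γ(X, U) ∧
      X.presheaf.germ U x hx h' ∈ IsLocalRing.maximalIdeal ↑(X.presheaf.stalk x) ∧
      Smooth (Spec.map (CommRingCat.ofHom (Ideal.Quotient.mk (Ideal.span {h'}))) ≫
        hU.fromSpec ≫ f) := by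
  let _ : Algebra (S.presheaf.stalk (f x)) (X.presheaf.stalk x) := (f.stalkMap x).hom.toAlgebra
  let _ : Algebra (S.presheaf.stalk (f x)) (IsLocalRing.ResidueField (X.presheaf.stalk x)) :=
    ((IsLocalRing.residue ↑(X.presheaf.stalk x)).comp (f.stalkMap x).hom).toAlgebra
  have : IsScalarTower ↑(S.presheaf.stalk (f x)) ↑(X.presheaf.stalk x)
      (IsLocalRing.ResidueField ↑(X.presheaf.stalk x)) :=
    IsScalarTower.of_algebraMap_eq (fun _ => rfl)
  have hsurj : Function.Surjective (algebraMap (X.presheaf.stalk x)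
      (IsLocalRing.ResidueField (X.presheaf.stalk x))) := IsLocalRing.residue_surjective
  have hrange := KaehlerDifferential.range_kerCotangentToTensor (S.presheaf.stalk (f x))
    (X.presheaf.stalk x) (IsLocalRing.ResidueField (X.presheaf.stalk x)) hsurj
  -- a nonzero element in the range
  have hne : LinearMap.range (KaehlerDifferential.kerCotangentToTensor (S.presheaf.stalk (f x))
      (X.presheaf.stalk x) (IsLocalRing.ResidueField (X.presheaf.stalk x))) ≠ ⊥ := by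
    intro h0
    apply hker
    rw [h0] at hrange
    ext z
    have := Submodule.ext_iff.mp hrange z
    simpa using this.symm
  obtain ⟨z, hz, hz0⟩ := (Submodule.ne_bot_iff _).mp hne
  obtain ⟨y, rfl⟩ := hz
  obtain ⟨⟨h, hh⟩, rfl⟩ := Ideal.toCotangent_surjective _ y
  have hm : h ∈ IsLocalRing.maximalIdeal (X.presheaf.stalk x) := by
    have : h ∈ RingHom.ker (IsLocalRing.residue (X.presheaf.stalk x)) := hh
    rwa [IsLocalRing.ker_residue] at this
  obtain ⟨U, hU, hx, h', hgerm, hnzd, hsm⟩ := main f x W hxW hW h hm hz0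
  exact ⟨U, hU, hx, h', hnzd, hgerm ▸ hm, hsm⟩

end Groth.Agent.R2.H6.SmoothSliceSch
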