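import Mathlib
import Groth.Agent.R2.H6SmoothSliceSch
import Groth.Agent.Lib.Helper10FibStalk
import Groth.Agent.Lib.Helper10SecFib2

set_option autoImplicit false
universe u

open AlgebraicGeometry CategoryTheory Limits TensorProduct IsLocalRing

namespace Groth.Agent.R2.H6.SmoothSliceSep

section ring

variable {R O : Type u} [CommRing R] [CommRing O] [IsLocalRing R] [IsLocalRing O] [Algebra R O]
  [IsLocalHom (algebraMap R O)]

theorem exists_D_ne_zero [Algebra.FormallySmooth R O] [Algebra.EssFiniteType R O]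
    [Algebra.FormallySmooth (ResidueField R) (ResidueField O)]
    (hne : maximalIdeal O ≠ (maximalIdeal R).map (algebraMap R O)) :
    ∃ h ∈ maximalIdeal O, (1 : ResidueField O) ⊗ₜ[O] KaehlerDifferential.D R O h ≠ 0 := by
  let _ : Field (R ⧸ maximalIdeal R) := Ideal.Quotient.field (maximalIdeal R)
  have hle : (maximalIdeal R).map (algebraMap R O) ≤ maximalIdeal O :=
    IsLocalRing.map_maximalIdeal_le (algebraMap R O)
  have hItop : (maximalIdeal R).map (algebraMap R O) ≠ ⊤ :=
    fun h => (maximalIdeal.isMaximal O).ne_top (top_le_iff.mp (h ▸ hle))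
  have : IsLocalRing (O ⧸ (maximalIdeal R).map (algebraMap R O)) :=
    Groth.Agent.Lib.Helper5.isLocalRing_quotient hItop
  let e := Algebra.TensorProduct.quotIdealMapEquivQuotTensor O (maximalIdeal R)
  have : Algebra.FormallySmooth (R ⧸ maximalIdeal R) ((R ⧸ maximalIdeal R) ⊗[R] O) := inferInstance
  have : Algebra.FormallySmooth (R ⧸ maximalIdeal R) (O ⧸ (maximalIdeal R).map (algebraMap R O)) :=
    Algebra.FormallySmooth.of_equiv e.symm
  have : Algebra.EssFiniteType (R ⧸ maximalIdeal R) ((R ⧸ maximalIdeal R) ⊗[R] O) := inferInstance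
  have : Algebra.EssFiniteType (R ⧸ maximalIdeal R) (O ⧸ (maximalIdeal R).map (algebraMap R O)) :=
    Algebra.EssFiniteType.of_surjective e.symm.toAlgHom e.symm.surjective
  have : IsNoetherianRing (O ⧸ (maximalIdeal R).map (algebraMap R O)) :=
    Algebra.EssFiniteType.isNoetherianRing (R ⧸ maximalIdeal R) _
  -- K as an F-algebra
  let φ : (O ⧸ (maximalIdeal R).map (algebraMap R O)) →+* ResidueField O :=
    Ideal.Quotient.lift _ (residue O) (fun a ha => by
      rw [residue_eq_zero_iff]; exact hle ha)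
  let _ : Algebra (O ⧸ (maximalIdeal R).map (algebraMap R O)) (ResidueField O) := φ.toAlgebra
  let _ : Algebra (R ⧸ maximalIdeal R) (ResidueField O) :=
    Ideal.Quotient.algebraOfLiesOver (maximalIdeal O) (maximalIdeal R)
  have : IsScalarTower (R ⧸ maximalIdeal R) (O ⧸ (maximalIdeal R).map (algebraMap R O))
      (ResidueField O) := by
    refine .of_algebraMap_eq fun a => ?_
    obtain ⟨a, rfl⟩ := Ideal.Quotient.mk_surjective a
    rfl
  have : IsScalarTower O (O ⧸ (maximalIdeal R).map (algebraMap R O)) (ResidueField O) :=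
    .of_algebraMap_eq fun a => rfl
  have : Algebra.FormallySmooth (R ⧸ maximalIdeal R) (ResidueField O) :=
    ‹Algebra.FormallySmooth (ResidueField R) (ResidueField O)›
  have hsurj : Function.Surjective
      (algebraMap (O ⧸ (maximalIdeal R).map (algebraMap R O)) (ResidueField O)) := by
    intro z
    obtain ⟨z, rfl⟩ := residue_surjective z
    exact ⟨Ideal.Quotient.mk _ z, rfl⟩
  obtain ⟨l, hl⟩ := (Algebra.FormallySmooth.iff_split_injection (R := R ⧸ maximalIdeal R)
    (P := O ⧸ (maximalIdeal R).map (algebraMap R O))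
    (A := ResidueField O) hsurj).mp inferInstance
  have hinj : Function.Injective (KaehlerDifferential.kerCotangentToTensor (R ⧸ maximalIdeal R)
      (O ⧸ (maximalIdeal R).map (algebraMap R O)) (ResidueField O)) := by
    intro a b hab
    have := congrArg l hab
    rw [← LinearMap.comp_apply, ← LinearMap.comp_apply, hl] at this
    exact this
  obtain ⟨h₁, hh₁m, hh₁I⟩ : ∃ h₁ ∈ maximalIdeal O,
      h₁ ∉ (maximalIdeal R).map (algebraMap R O) := by
    by_contra hcon
    push Not at hcon
    exact hne (le_antisymm hcon hle)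
  have hJne : RingHom.ker (algebraMap (O ⧸ (maximalIdeal R).map (algebraMap R O))
      (ResidueField O)) ≠ ⊥ := by
    intro h0
    have : Ideal.Quotient.mk ((maximalIdeal R).map (algebraMap R O)) h₁ ∈
        RingHom.ker (algebraMap (O ⧸ (maximalIdeal R).map (algebraMap R O))
          (ResidueField O)) := by
      rw [RingHom.mem_ker]
      exact (residue_eq_zero_iff h₁).mpr hh₁m
    rw [h0, Ideal.mem_bot, Ideal.Quotient.eq_zero_iff_mem] at this
    exact hh₁I this
  have hJtop : RingHom.ker (algebraMap (O ⧸ (maximalIdeal R).map (algebraMap R O))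
      (ResidueField O)) ≠ ⊤ := RingHom.ker_ne_top _
  have hcot : ¬ Subsingleton (RingHom.ker (algebraMap
      (O ⧸ (maximalIdeal R).map (algebraMap R O)) (ResidueField O))).Cotangent := by
    rw [Ideal.cotangent_subsingleton_iff, Ideal.isIdempotentElem_iff_eq_bot_or_top_of_isLocalRing]
    rintro (h | h)
    exacts [hJne h, hJtop h]
  rw [not_subsingleton_iff_nontrivial] at hcot
  obtain ⟨c, hc⟩ := exists_ne (0 : (RingHom.ker (algebraMap
      (O ⧸ (maximalIdeal R).map (algebraMap R O)) (ResidueField O))).Cotangent)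
  obtain ⟨⟨y, hy⟩, rfl⟩ := Ideal.toCotangent_surjective _ c
  have hDy : (1 : ResidueField O) ⊗ₜ[O ⧸ (maximalIdeal R).map (algebraMap R O)]
      KaehlerDifferential.D (R ⧸ maximalIdeal R) (O ⧸ (maximalIdeal R).map (algebraMap R O)) y
        ≠ 0 := by
    rw [← KaehlerDifferential.kerCotangentToTensor_toCotangent (R ⧸ maximalIdeal R)
      (O ⧸ (maximalIdeal R).map (algebraMap R O)) (ResidueField O) ⟨y, hy⟩]
    intro h0
    apply hc
    apply hinj
    rw [h0, map_zero]
  obtain ⟨h, rfl⟩ := Ideal.Quotient.mk_surjective y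
  refine ⟨h, ?_, ?_⟩
  · rw [← residue_eq_zero_iff]
    exact hy
  · intro h0
    apply hDy
    let ψ : Ω[O⁄R] →ₗ[O] (ResidueField O) ⊗[O ⧸ (maximalIdeal R).map (algebraMap R O)]
        Ω[(O ⧸ (maximalIdeal R).map (algebraMap R O))⁄(R ⧸ maximalIdeal R)] :=
      ((TensorProduct.mk (O ⧸ (maximalIdeal R).map (algebraMap R O)) (ResidueField O)
        Ω[(O ⧸ (maximalIdeal R).map (algebraMap R O))⁄(R ⧸ maximalIdeal R)] 1).restrictScalars
          O).comp (KaehlerDifferential.map R (R ⧸ maximalIdeal R) O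
            (O ⧸ (maximalIdeal R).map (algebraMap R O)))
    have := congrArg (LinearMap.liftBaseChange (ResidueField O) ψ) h0
    rw [LinearMap.liftBaseChange_tmul, map_zero, one_smul] at this
    simpa [ψ, KaehlerDifferential.map_D] using this

end ring

variable {X S : Scheme.{u}}

theorem formallySmooth_stalkMap_of_mem (f : X ⟶ S) (W : X.Opens) (hW : Smooth (W.ι ≫ f))
    (x : X) (hx : x ∈ W) : (f.stalkMap x).hom.FormallySmooth := by
  let w : W.toScheme := ⟨x, hx⟩
  have h : w ∈ (W.ι ≫ f).smoothLocus := by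
    rw [Scheme.Hom.smoothLocus_eq_top]
    trivial
  rw [Scheme.Hom.mem_smoothLocus, Scheme.Hom.stalkMap_comp W.ι f w] at h
  exact (RingHom.FormallySmooth.respectsIso.cancel_right_isIso _ (W.ι.stalkMap w)).mp h

theorem maximalIdeal_ne_map_fiber (f : X ⟶ S) (s : S) (y : f.fiber s)
    (hgen : IsLocalRing.maximalIdeal ((f.fiber s).presheaf.stalk y) ≠ ⊥) :
    IsLocalRing.maximalIdeal (X.presheaf.stalk (f.fiberι s y)) ≠
      Ideal.map (f.stalkMap (f.fiberι s y)).hom
        (IsLocalRing.maximalIdeal (S.presheaf.stalk (f (f.fiberι s y)))) := by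
  intro heq
  apply hgen
  rw [eq_bot_iff]
  intro r hr
  obtain ⟨h, hh⟩ := (f.fiberι s).stalkMap_surjective y r
  have hm : h ∈ IsLocalRing.maximalIdeal (X.presheaf.stalk (f.fiberι s y)) := by
    by_contra hnot
    have hu : IsUnit h := by
      rwa [IsLocalRing.mem_maximalIdeal, mem_nonunits_iff, not_not] at hnot
    have := hu.map ((f.fiberι s).stalkMap y).hom
    rw [hh] at this
    exact hr this
  rw [heq, ← Groth.Agent.Lib.Helper10.FibStalk.ker_eq_map f s y, RingHom.mem_ker] at hm
  rw [Ideal.mem_bot, ← hh]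
  exact hm

theorem maximalIdeal_ne_map (f : X ⟶ S) (x : X)
    (hgen : IsLocalRing.maximalIdeal ((f.fiber (f x)).presheaf.stalk (f.asFiber x)) ≠ ⊥) :
    IsLocalRing.maximalIdeal (X.presheaf.stalk x) ≠
      Ideal.map (f.stalkMap x).hom (IsLocalRing.maximalIdeal (S.presheaf.stalk (f x))) := by
  have e := f.fiberι_asFiber x
  have key := maximalIdeal_ne_map_fiber f (f x) (f.asFiber x) hgen
  generalize hx' : (f.fiberι (f x)) (f.asFiber x) = x' at key e
  subst e
  exact key

theorem main (f : X ⟶ S) (x : X)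
    (W : X.Opens) (hxW : x ∈ W) (hW : Smooth (W.ι ≫ f))
    (hsep : letI := (f.residueFieldMap x).hom.toAlgebra
      Algebra.FormallySmooth (S.residueField (f x)) (X.residueField x))
    (hgen : IsLocalRing.maximalIdeal ↑((f.fiber (f x)).presheaf.stalk (f.asFiber x)) ≠ ⊥) :
    ∃ (U : X.Opens) (hU : IsAffineOpen U) (hx : x ∈ U) (h' : Γ(X, U)), h' ∈ nonZeroDivisors Γ(X, U) ∧
      X.presheaf.germ U x hx h' ∈ IsLocalRing.maximalIdeal ↑(X.presheaf.stalk x) ∧
      Smooth (Spec.map (CommRingCat.ofHom (Ideal.Quotient.mk (Ideal.span {h'}))) ≫ hU.fromSpec ≫ f) := by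
  let _ : Algebra (S.presheaf.stalk (f x)) (X.presheaf.stalk x) := (f.stalkMap x).hom.toAlgebra
  have : IsLocalHom (algebraMap (S.presheaf.stalk (f x)) (X.presheaf.stalk x)) :=
    inferInstanceAs (IsLocalHom (f.stalkMap x).hom)
  have hfs : Algebra.FormallySmooth (S.presheaf.stalk (f x)) (X.presheaf.stalk x) :=
    formallySmooth_stalkMap_of_mem f W hW x hxW
  have heft : Algebra.EssFiniteType (S.presheaf.stalk (f x)) (X.presheaf.stalk x) :=
    Groth.Agent.Lib.Helper10.SecFib.essFiniteType_stalkMap_of_mem f W x hxW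
  have hsep' : Algebra.FormallySmooth (IsLocalRing.ResidueField (S.presheaf.stalk (f x)))
      (IsLocalRing.ResidueField (X.presheaf.stalk x)) := by
    have halg : (IsLocalRing.ResidueField.instAlgebra :
        Algebra (IsLocalRing.ResidueField (S.presheaf.stalk (f x)))
          (IsLocalRing.ResidueField (X.presheaf.stalk x))) =
        (f.residueFieldMap x).hom.toAlgebra := by
      refine Algebra.algebra_ext _ _ fun r => ?_
      obtain ⟨r, rfl⟩ := IsLocalRing.residue_surjective r
      rfl
    rw [halg]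
    exact hsep
  obtain ⟨h, hm, hd⟩ := exists_D_ne_zero (R := S.presheaf.stalk (f x))
    (O := X.presheaf.stalk x) (maximalIdeal_ne_map f x hgen)
  obtain ⟨U, hU, hx, h', hgerm, hnzd, hsm⟩ :=
    Groth.Agent.R2.H6.SmoothSliceSch.main f x W hxW hW h hm hd
  exact ⟨U, hU, hx, h', hnzd, hgerm ▸ hm, hsm⟩

end Groth.Agent.R2.H6.SmoothSliceSep
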