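import Mathlib
import Groth.Agent.R2.H6WeakAss
import Groth.Agent.Lib.Helper3IndEt
import Groth.Agent.Lib.Helper3IndEtFlat
import Groth.Agent.S0735
import Groth.Agent.S1233

/-!
# Weakly associated primes and ind-etale local extensions (helper6, round 2)

For a local homomorphism of local rings `R → R'` which is ind-etale (e.g. a henselization or a strict
henselization) and an `R`-module `N`: the maximal ideal of `R'` is weakly associated to `R' ⊗ N`
iff the maximal ideal of `R` is weakly associated to `N`.
-/

set_option autoImplicit false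
universe u

namespace Groth.Agent.R2.H6.WeakAssHens

open TensorProduct IsLocalRing Groth.Agent.Lib.Helper3.IndEt Groth.Agent.R2.H6.WeakAss

/-- An etale algebra satisfies the factorization property trivially. -/
theorem factor_of_etale (R E : Type u) [CommRing R] [CommRing E] [Algebra R E]
    [Algebra.Etale R E] : Obj.Factor R E :=
  fun _ _ _ _ ψ => ⟨E, inferInstance, inferInstance, inferInstance, ψ, AlgHom.id R E,
    AlgHom.id_comp ψ⟩

variable {R R' : Type u} [CommRing R] [IsLocalRing R] [CommRing R'] [IsLocalRing R']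
  [Algebra R R'] [IsLocalHom (algebraMap R R')]

/-- Going up: the closed point stays weakly associated after an ind-etale local extension. -/
theorem maximalIdeal_mem_weakAss_tensor_of_factor (H : Obj.Factor R R') (N : Type u)
    [AddCommGroup N] [Module R N] (h : maximalIdeal R ∈ FlatCA.weakAss R N) :
    maximalIdeal R' ∈ FlatCA.weakAss R' (R' ⊗[R] N) := by
  have : Module.Flat R R' := flat_of_factor' H
  have hcomap : (maximalIdeal R').comap (algebraMap R R') = maximalIdeal R :=
    IsLocalRing.maximalIdeal_comap (algebraMap R R')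
  refine mem_weakAss_tensor_of_flat_of_minimal_over h (maximalIdeal R') hcomap ?_
  intro t' ht' hle hcomap'
  refine le_antisymm hle (fun x hx => ?_)
  let ψ : Polynomial R →ₐ[R] R' := Polynomial.aeval x
  obtain ⟨E, _, _, _, u, v, huv⟩ := H (Polynomial R) ψ
  have hve : v (u Polynomial.X) = x := by
    have := congr($huv Polynomial.X)
    rw [AlgHom.comp_apply] at this
    rw [this]
    simp [ψ]
  let qE : Ideal E := (maximalIdeal R').comap v.toRingHom
  let tE : Ideal E := t'.comap v.toRingHom
  have hq : qE.IsPrime := Ideal.comap_isPrime _ _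
  have ht : tE.IsPrime := Ideal.comap_isPrime _ _
  have hle' : tE ≤ qE := Ideal.comap_mono hle
  have hcomp : v.toRingHom.comp (algebraMap R E) = algebraMap R R' := by
    ext r; exact v.commutes r
  have hunder : tE.under R = qE.under R := by
    show (t'.comap v.toRingHom).comap (algebraMap R E) =
      ((maximalIdeal R').comap v.toRingHom).comap (algebraMap R E)
    rw [Ideal.comap_comap, Ideal.comap_comap, hcomp, hcomap, hcomap']
  have heq : tE = qE := Algebra.QuasiFinite.eq_of_le_of_under_eq (R := R) tE qE hle' hunder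
  have hmem : u Polynomial.X ∈ qE := by
    show v (u Polynomial.X) ∈ maximalIdeal R'
    rw [hve]; exact hx
  rw [← heq] at hmem
  have : v (u Polynomial.X) ∈ t' := hmem
  rwa [hve] at this

/-- Going down: if the closed point of an ind-etale local extension is weakly associated to the base
change, then the closed point of the base is weakly associated. -/
theorem maximalIdeal_mem_weakAss_of_tensor_of_isIndEtale (h : EtPBC.IsIndEtale R R') (N : Type u)
    [AddCommGroup N] [Module R N]
    (hz : maximalIdeal R' ∈ FlatCA.weakAss R' (R' ⊗[R] N)) :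
    maximalIdeal R ∈ FlatCA.weakAss R N := by
  classical
  obtain ⟨z, hz⟩ := hz
  obtain ⟨S, hS⟩ := TensorProduct.exists_finset z
  let ψ : MvPolynomial S R →ₐ[R] R' := MvPolynomial.aeval (fun i => i.1.1)
  obtain ⟨E, _, _, _, u, v, huv⟩ := factor_of_isIndEtale h (MvPolynomial S R) ψ
  have hvu : ∀ i : S, v (u (MvPolynomial.X i)) = i.1.1 := by
    intro i
    have := congr($huv (MvPolynomial.X i))
    rw [AlgHom.comp_apply] at this
    rw [this]
    simp [ψ]
  let _ : Algebra E R' := v.toRingHom.toAlgebra
  have halg : ∀ e : E, algebraMap E R' e = v e := fun _ => rfl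
  have : IsScalarTower R E R' := IsScalarTower.of_algebraMap_eq (fun r => (v.commutes r).symm)
  have hE : EtPBC.IsIndEtale R E := isIndEtale_of_factor (factor_of_etale R E)
  have hER' : EtPBC.IsIndEtale E R' := Groth.Agent.S0735.result R E R' hE h
  have : Module.Flat E R' := flat_of_factor' (factor_of_isIndEtale hER')
  let zE : E ⊗[R] N := ∑ i ∈ S.attach, u (MvPolynomial.X i) ⊗ₜ[R] i.1.2
  let c : R' ⊗[E] (E ⊗[R] N) ≃ₗ[R'] R' ⊗[R] N := AlgebraTensorModule.cancelBaseChange R E R' R' N
  have hc : c ((1 : R') ⊗ₜ[E] zE) = z := by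
    rw [hS, ← Finset.sum_attach S]
    simp only [zE, TensorProduct.tmul_sum, map_sum]
    refine Finset.sum_congr rfl (fun i _ => ?_)
    rw [AlgebraTensorModule.cancelBaseChange_tmul, Algebra.smul_def, mul_one, halg, hvu]
  have hann : (Submodule.span R' {z}).annihilator =
      ((Submodule.span E {zE}).annihilator).map (algebraMap E R') := by
    rw [← ann_one_tmul_eq_map, ← hc]
    ext a
    rw [mem_ann_iff, mem_ann_iff, ← map_smul, map_eq_zero_iff c c.injective]
  let qE : Ideal E := (maximalIdeal R').comap (algebraMap E R')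
  have hqE : qE.IsPrime := Ideal.comap_isPrime _ _
  have hq : qE ∈ (Submodule.span E {zE}).annihilator.minimalPrimes := by
    refine ⟨⟨hqE, ?_⟩, ?_⟩
    · rw [← Ideal.map_le_iff_le_comap, ← hann]
      exact hz.1.2
    · intro Q' hQ' hQ'q
      have := hQ'.1
      have : (maximalIdeal R').LiesOver qE := ⟨rfl⟩
      obtain ⟨P, hP, hPprime, hPover⟩ :=
        Ideal.exists_ideal_le_liesOver_of_le (maximalIdeal R') hQ'q
      have hPQ' : P.comap (algebraMap E R') = Q' := hPover.over.symm
      have hPann : (Submodule.span R' {z}).annihilator ≤ P := by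
        rw [hann, Ideal.map_le_iff_le_comap, hPQ']
        exact hQ'.2
      have hmP : maximalIdeal R' ≤ P := hz.2 ⟨hPprime, hPann⟩ hP
      rw [← hPQ']
      exact Ideal.comap_mono hmP
  have hqEmem : qE ∈ FlatCA.weakAss E (E ⊗[R] N) := ⟨zE, hq⟩
  have : qE.LiesOver (maximalIdeal R) := ⟨by
    show maximalIdeal R = ((maximalIdeal R').comap (algebraMap E R')).comap (algebraMap R E)
    rw [Ideal.comap_comap, ← IsScalarTower.algebraMap_eq,
      IsLocalRing.maximalIdeal_comap (algebraMap R R')]⟩
  exact (Groth.Agent.S1233.result N (maximalIdeal R) qE).mp hqEmem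

theorem maximalIdeal_mem_weakAss_tensor_iff_of_isIndEtale (h : EtPBC.IsIndEtale R R') (N : Type u)
    [AddCommGroup N] [Module R N] :
    maximalIdeal R' ∈ FlatCA.weakAss R' (R' ⊗[R] N) ↔ maximalIdeal R ∈ FlatCA.weakAss R N :=
  ⟨maximalIdeal_mem_weakAss_of_tensor_of_isIndEtale h N,
    maximalIdeal_mem_weakAss_tensor_of_factor (factor_of_isIndEtale h) N⟩

end Groth.Agent.R2.H6.WeakAssHens
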