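import Mathlib

/-!
# helper70: the determinant of an alternating matrix is a square

* `isSquare_det_of_transpose_eq_neg`: over a field of characteristic `≠ 2`.
* `exists_pf`: a universal polynomial `pf ∈ ℤ[x_ij]` with `det (X - Xᵀ) = pf²`.
* `det_eq_sq_of_transpose_eq_neg`: specialisation to any commutative ring in which `2` is
  invertible.
-/

set_option autoImplicit false

namespace Groth.Agent.R2.H70.AltDet

open Matrix

section Field

variable {F : Type*} [Field F]

/-- The equivalence `n ≃ Fin 2 ⊕ rest` putting `i, j` first. -/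
def splitEquiv {n : Type*} [DecidableEq n] (i j : n) (hij : i ≠ j) :
    n ≃ Fin 2 ⊕ {x : n // x ≠ i ∧ x ≠ j} where
  toFun x := if h : x = i then Sum.inl 0 else if h' : x = j then Sum.inl 1 else Sum.inr ⟨x, h, h'⟩
  invFun := Sum.elim ![i, j] Subtype.val
  left_inv x := by
    by_cases h : x = i
    · simp [h]
    · by_cases h' : x = j
      · subst h'
        simp [hij.symm]
      · simp [h, h']
  right_inv y := by
    rcases y with t | ⟨x, hx1, hx2⟩
    · fin_cases t
      · simp
      · simp [hij.symm]
    · simp [hx1, hx2]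

/-- Block step: an alternating matrix on `Fin 2 ⊕ m` with invertible corner. -/
lemma det_step {m : Type*} [Fintype m] [DecidableEq m] (M : Matrix (Fin 2 ⊕ m) (Fin 2 ⊕ m) F)
    (hT : Mᵀ = -M) (h2 : (2 : F) ≠ 0) (ha : M (Sum.inl 0) (Sum.inl 1) ≠ 0) :
    ∃ S : Matrix m m F, Sᵀ = -S ∧ M.det = M (Sum.inl 0) (Sum.inl 1) ^ 2 * S.det := by
  set a := M (Sum.inl 0) (Sum.inl 1) with ha_def
  have hanti : ∀ x y, M y x = -M x y := fun x y => by
    have := congrFun (congrFun hT x) y
    simpa using this
  have hdiag : ∀ x, M x x = 0 := fun x => by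
    have h := hanti x x
    have : (2 : F) * M x x = 0 := by linear_combination h
    exact (mul_eq_zero.mp this).resolve_left h2
  set A := M.toBlocks₁₁ with hA
  set B := M.toBlocks₁₂ with hB
  set C := M.toBlocks₂₁ with hC
  set D := M.toBlocks₂₂ with hD
  let Ainv : Matrix (Fin 2) (Fin 2) F := !![0, -a⁻¹; a⁻¹, 0]
  have hA00 : A 0 0 = 0 := hdiag _
  have hA11 : A 1 1 = 0 := hdiag _
  have hA01 : A 0 1 = a := rfl
  have hA10 : A 1 0 = -a := hanti _ _
  have hAeq : A = !![0, a; -a, 0] := by
    ext s t
    fin_cases s <;> fin_cases t <;> simp [hA00, hA11, hA01, hA10]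
  have h1 : A * Ainv = 1 := by
    rw [hAeq]
    ext s t
    fin_cases s <;> fin_cases t <;> simp [Ainv, Matrix.mul_apply, Fin.sum_univ_two, ha]
  have h1' : Ainv * A = 1 := by
    rw [hAeq]
    ext s t
    fin_cases s <;> fin_cases t <;> simp [Ainv, Matrix.mul_apply, Fin.sum_univ_two, ha]
  let _ : Invertible A := ⟨Ainv, h1', h1⟩
  have hdetA : A.det = a ^ 2 := by
    rw [hAeq, Matrix.det_fin_two_of]; ring
  refine ⟨D - C * ⅟A * B, ?_, ?_⟩
  · -- alternating
    have hinv : (⅟A : Matrix (Fin 2) (Fin 2) F) = Ainv := rfl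
    have hBt : Bᵀ = -C := by ext y t; exact hanti _ _
    have hCt : Cᵀ = -B := by ext t y; exact hanti _ _
    have hDt : Dᵀ = -D := by ext x y; exact hanti _ _
    have hAit : Ainvᵀ = -Ainv := by
      ext s t
      fin_cases s <;> fin_cases t <;> simp [Ainv]
    rw [Matrix.transpose_sub, Matrix.transpose_mul, Matrix.transpose_mul, hBt, hCt, hDt, hinv,
      hAit]
    simp only [Matrix.neg_mul, Matrix.mul_neg, neg_neg, Matrix.mul_assoc]
    abel
  · have hM : M = fromBlocks A B C D := (Matrix.fromBlocks_toBlocks M).symm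
    conv_lhs => rw [hM]
    rw [Matrix.det_fromBlocks₁₁, hdetA]

/-- Over a field of characteristic `≠ 2`, the determinant of an antisymmetric matrix is a square. -/
theorem isSquare_det_of_transpose_eq_neg (h2 : (2 : F) ≠ 0) :
    ∀ (N : ℕ) {n : Type} [Fintype n] [DecidableEq n] (_ : Fintype.card n = N)
      (M : Matrix n n F), Mᵀ = -M → IsSquare M.det := by
  intro N
  induction N using Nat.strong_induction_on with
  | _ N ih =>
    intro n _ _ hcard M hT
    by_cases hM : ∃ i j, M i j ≠ 0
    · obtain ⟨i, j, hij⟩ := hM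
      have hanti : ∀ x y, M y x = -M x y := fun x y => by
        have := congrFun (congrFun hT x) y
        simpa using this
      have hne : i ≠ j := by
        rintro rfl
        have h := hanti i i
        have : (2 : F) * M i i = 0 := by linear_combination h
        exact hij ((mul_eq_zero.mp this).resolve_left h2)
      let e := splitEquiv i j hne
      let M' : Matrix (Fin 2 ⊕ {x : n // x ≠ i ∧ x ≠ j}) (Fin 2 ⊕ {x : n // x ≠ i ∧ x ≠ j}) F :=
        M.submatrix e.symm e.symm
      have hM'T : M'ᵀ = -M' := by
        ext x y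
        simp only [M', Matrix.transpose_apply, Matrix.submatrix_apply, Matrix.neg_apply]
        exact hanti _ _
      have hM'a : M' (Sum.inl 0) (Sum.inl 1) = M i j := by
        simp [M', e, splitEquiv]
      obtain ⟨S, hST, hdet⟩ := det_step M' hM'T h2 (by rw [hM'a]; exact hij)
      have hcard' : Fintype.card {x : n // x ≠ i ∧ x ≠ j} < N := by
        have := Fintype.card_congr e
        rw [Fintype.card_sum, Fintype.card_fin] at this
        omega
      obtain ⟨r, hr⟩ := ih _ hcard' rfl S hST
      have hdetM : M.det = M'.det := (Matrix.det_submatrix_equiv_self e.symm M).symm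
      refine ⟨M i j * r, ?_⟩
      rw [hdetM, hdet, hM'a, hr]; ring
    · push Not at hM
      have : M = 0 := by ext i j; exact hM i j
      subst this
      rcases isEmpty_or_nonempty n with h | h
      · rw [Matrix.det_isEmpty]; exact ⟨1, by ring⟩
      · rw [Matrix.det_zero]; exact ⟨0, by ring⟩

end Field

section Generic

variable (n : Type) [Fintype n] [DecidableEq n]

/-- The generic alternating matrix `X - Xᵀ` over `ℤ[x_ij]`. -/
noncomputable def genAlt : Matrix n n (MvPolynomial (n × n) ℤ) :=
  Matrix.of fun i j => MvPolynomial.X (i, j) - MvPolynomial.X (j, i)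

lemma genAlt_transpose : (genAlt n)ᵀ = -genAlt n := by
  ext i j
  simp [genAlt]

/-- There is a universal polynomial whose square is the determinant of `X - Xᵀ`. -/
theorem exists_pf : ∃ pf : MvPolynomial (n × n) ℤ, (genAlt n).det = pf ^ 2 := by
  let R := MvPolynomial (n × n) ℤ
  let K := FractionRing R
  have h2 : (2 : K) ≠ 0 := two_ne_zero
  let GK : Matrix n n K := (algebraMap R K).mapMatrix (genAlt n)
  have hGK : GKᵀ = -GK := by
    ext i j
    simp only [GK, RingHom.mapMatrix_apply, Matrix.transpose_apply, Matrix.map_apply,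
      Matrix.neg_apply]
    have := congrFun (congrFun (genAlt_transpose n) i) j
    simp only [Matrix.transpose_apply, Matrix.neg_apply] at this
    rw [this, map_neg]
  obtain ⟨s, hs⟩ := isSquare_det_of_transpose_eq_neg h2 (Fintype.card n) rfl GK hGK
  have hdet : GK.det = algebraMap R K (genAlt n).det := (RingHom.map_det _ _).symm
  have hint : IsIntegral R s := by
    refine ⟨Polynomial.X ^ 2 - Polynomial.C (genAlt n).det,
      Polynomial.monic_X_pow_sub_C _ two_ne_zero, ?_⟩
    simp only [Polynomial.eval₂_sub, Polynomial.eval₂_pow, Polynomial.eval₂_X, Polynomial.eval₂_C]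
    rw [← hdet, hs]; ring
  obtain ⟨pf, hpf⟩ := IsIntegrallyClosed.algebraMap_eq_of_integral hint
  refine ⟨pf, ?_⟩
  apply IsFractionRing.injective R K
  rw [← hdet, hs, map_pow, hpf]; ring

end Generic

section Specialize

variable {n : Type} [Fintype n] [DecidableEq n] {S : Type*} [CommRing S]

/-- Specialisation: an antisymmetric matrix over a ring in which `2` is invertible. -/
theorem det_eq_sq_of_transpose_eq_neg {pf : MvPolynomial (n × n) ℤ}
    (hpf : (genAlt n).det = pf ^ 2) (h : S) (hh : 2 * h = 1) (M : Matrix n n S) (hT : Mᵀ = -M) :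
    M.det = (MvPolynomial.aeval (fun ij : n × n => h * M ij.1 ij.2) pf) ^ 2 := by
  let φ : MvPolynomial (n × n) ℤ →+* S :=
    (MvPolynomial.aeval (fun ij : n × n => h * M ij.1 ij.2) : MvPolynomial (n × n) ℤ →ₐ[ℤ] S)
  have hanti : ∀ x y, M y x = -M x y := fun x y => by
    have := congrFun (congrFun hT x) y
    simpa using this
  have hG : φ.mapMatrix (genAlt n) = M := by
    ext i j
    simp only [RingHom.mapMatrix_apply, Matrix.map_apply, genAlt, Matrix.of_apply, map_sub, φ,
      RingHom.coe_coe, MvPolynomial.aeval_X]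
    rw [hanti i j]
    linear_combination (M i j) * hh
  have := RingHom.map_det φ (genAlt n)
  rw [hG, hpf, map_pow] at this
  exact this.symm

end Specialize

end Groth.Agent.R2.H70.AltDet
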