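import Mathlib
import Groth.Agent.R2.H1ExtLoc

/-!
# Base change of `Ext` groups along a module with a finite dual basis (helper70)

`C` abelian, `K` a coefficient object with `A`-action, `K'` one with `A'`-action (`A'` an `A`-algebra), `N` an
`(A, A')`-bimodule and `θ : N → Hom(K.F, K'.F)` bilinear.  Then `bc' : N ⊗_A Ext^k(Y, K) → Ext^k(Y, K')`,
`n ⊗ x ↦ θ(n) ∘ x`.  If `N` has a finite dual basis `(b_i, φ_i)` and there are `ψ_i : K'.F → K.F` with
`∑ θ(b_i) ∘ ψ_i = 1` and `ψ_i ∘ θ(n) = φ_i(n)`, then `bc'` is bijective for every `Y` and `k`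
(no induction on `Y`: the inverse is `y ↦ ∑ b_i ⊗ ψ_i ∘ y`).
-/

set_option autoImplicit false
universe w v u
open CategoryTheory CategoryTheory.Limits Abelian TensorProduct

namespace Groth.Agent.R2.H70.BCDual

open Groth.Agent.R2.H1.ExtLoc

variable {C : Type u} [Category.{v} C] [Abelian C] [HasExt.{w} C]
variable {A A' : Type*} [CommRing A] [CommRing A'] [Algebra A A']
variable (N : Type*) [AddCommGroup N] [Module A N] [Module A' N] [IsScalarTower A A' N]
variable (K : Coeff C A) (K' : Coeff C A')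

/-- the pairing datum -/
structure Pairing where
  /-- the pairing -/
  θ : N →+ (K.F ⟶ K'.F)
  θ_smul : ∀ (a : A) (n : N), θ (a • n) = K.ρ a ≫ θ n
  θ_smul' : ∀ (a' : A') (n : N), θ (a' • n) = θ n ≫ K'.ρ a'

variable {N K K'} (D : Pairing N K K')

/-- `x ↦ x ≫ θ n` on `Ext`-classes -/
noncomputable def bcFun (Y : C) (k : ℕ) (n : N) (x : ExtR K Y k) : ExtR K' Y k :=
  ExtR.mk (x.out.comp (Ext.mk₀ (D.θ n)) (add_zero k))

lemma bcFun_add_right (Y : C) (k : ℕ) (n : N) (x y : ExtR K Y k) :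
    bcFun D Y k n (x + y) = bcFun D Y k n x + bcFun D Y k n y := by
  unfold bcFun
  rw [ExtR.out_add, Ext.add_comp]
  rfl

lemma bcFun_add_left (Y : C) (k : ℕ) (n n' : N) (x : ExtR K Y k) :
    bcFun D Y k (n + n') x = bcFun D Y k n x + bcFun D Y k n' x := by
  unfold bcFun
  rw [map_add, Ext.mk₀_add, Ext.comp_add]
  rfl

lemma bcFun_zero_right (Y : C) (k : ℕ) (n : N) : bcFun D Y k n (0 : ExtR K Y k) = 0 := by
  unfold bcFun
  rw [ExtR.out_zero, Ext.zero_comp]
  rfl

lemma bcFun_zero_left (Y : C) (k : ℕ) (x : ExtR K Y k) : bcFun D Y k (0 : N) x = 0 := by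
  unfold bcFun
  rw [map_zero, Ext.mk₀_zero, Ext.comp_zero]
  rfl

lemma bcFun_smul (Y : C) (k : ℕ) (a : A) (n : N) (x : ExtR K Y k) :
    bcFun D Y k (a • n) x = bcFun D Y k n (a • x) := by
  unfold bcFun
  rw [D.θ_smul, smul_def, ExtR.out_mk, ← Ext.mk₀_comp_mk₀,
    Ext.comp_assoc _ _ _ (add_zero k) (add_zero 0) (by omega)]

lemma bcFun_smul' (Y : C) (k : ℕ) (a' : A') (n : N) (x : ExtR K Y k) :
    bcFun D Y k (a' • n) x = a' • bcFun D Y k n x := by
  unfold bcFun
  rw [D.θ_smul', smul_def, ExtR.out_mk, ← Ext.mk₀_comp_mk₀,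
    Ext.comp_assoc _ _ _ (add_zero k) (add_zero 0) (by omega)]

/-- the base change map `N ⊗_A Ext^k(Y, K) → Ext^k(Y, K')` -/
noncomputable def bc (Y : C) (k : ℕ) : N ⊗[A] ExtR K Y k →+ ExtR K' Y k :=
  TensorProduct.liftAddHom
    { toFun := fun n =>
        { toFun := fun x => bcFun D Y k n x
          map_zero' := bcFun_zero_right D Y k n
          map_add' := bcFun_add_right D Y k n }
      map_zero' := by ext x; exact bcFun_zero_left D Y k x
      map_add' := fun n n' => by ext x; exact bcFun_add_left D Y k n n' x }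
    (fun a n x => bcFun_smul D Y k a n x)

lemma bc_tmul (Y : C) (k : ℕ) (n : N) (x : ExtR K Y k) : bc D Y k (n ⊗ₜ x) = bcFun D Y k n x := rfl

lemma bc_smul (Y : C) (k : ℕ) (a' : A') (t : N ⊗[A] ExtR K Y k) :
    bc D Y k (a' • t) = a' • bc D Y k t := by
  induction t using TensorProduct.induction_on with
  | zero => rw [smul_zero, map_zero, smul_zero]
  | tmul n x => rw [TensorProduct.smul_tmul', bc_tmul, bc_tmul, bcFun_smul']
  | add t t' h h' => rw [smul_add, map_add, map_add, smul_add, h, h']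

/-- `bc` as an `A'`-linear map -/
noncomputable def bcLin (Y : C) (k : ℕ) : N ⊗[A] ExtR K Y k →ₗ[A'] ExtR K' Y k where
  toFun := bc D Y k
  map_add' := map_add _
  map_smul' := bc_smul D Y k

section Dual

variable {ι : Type*} [Fintype ι] (b : ι → N) (φ : ι → (N →ₗ[A] A)) (ψ : ι → (K'.F ⟶ K.F))

/-- the candidate inverse `y ↦ ∑ b_i ⊗ (y ≫ ψ_i)` -/
noncomputable def inv (Y : C) (k : ℕ) (y : ExtR K' Y k) : N ⊗[A] ExtR K Y k :=
  ∑ i, b i ⊗ₜ[A] (ExtR.mk (K := K) (y.out.comp (Ext.mk₀ (ψ i)) (add_zero k)))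

variable {b φ ψ}

/-- **Dual basis criterion**: `bc` is bijective for every `Y` and `k`. -/
theorem bc_bijective_of_dualBasis
    (hdual : ∀ n : N, ∑ i, φ i n • b i = n)
    (h1 : ∑ i, ψ i ≫ D.θ (b i) = 𝟙 K'.F)
    (h2 : ∀ i n, D.θ n ≫ ψ i = K.ρ (φ i n)) (Y : C) (k : ℕ) :
    Function.Bijective (bc D Y k) := by
  refine Function.bijective_iff_has_inverse.2 ⟨inv b ψ Y k, fun t => ?_, fun y => ?_⟩
  · induction t using TensorProduct.induction_on with
    | zero =>
      rw [map_zero]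
      unfold inv
      refine Finset.sum_eq_zero fun i _ => ?_
      rw [ExtR.out_zero, Ext.zero_comp]
      exact TensorProduct.tmul_zero _ _
    | tmul n x =>
      rw [bc_tmul]
      unfold inv bcFun
      have e : ∀ i, ExtR.mk (K := K) ((ExtR.mk (K := K') (x.out.comp (Ext.mk₀ (D.θ n))
          (add_zero k))).out.comp (Ext.mk₀ (ψ i)) (add_zero k)) = φ i n • x := by
        intro i
        rw [ExtR.out_mk, Ext.comp_assoc _ _ _ (add_zero k) (add_zero 0) (by omega),
          Ext.mk₀_comp_mk₀, h2, smul_def]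
      simp only [e]
      calc ∑ i, b i ⊗ₜ[A] (φ i n • x) = ∑ i, (φ i n • b i) ⊗ₜ[A] x := by
            refine Finset.sum_congr rfl fun i _ => ?_
            rw [TensorProduct.tmul_smul, TensorProduct.smul_tmul']
        _ = (∑ i, φ i n • b i) ⊗ₜ[A] x := (TensorProduct.sum_tmul _ _ _).symm
        _ = n ⊗ₜ[A] x := by rw [hdual]
    | add t t' h h' =>
      rw [map_add]
      have hadd : ∀ y y' : ExtR K' Y k, inv b ψ Y k (y + y') = inv b ψ Y k y + inv b ψ Y k y' := by
        intro y y'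
        unfold inv
        rw [← Finset.sum_add_distrib]
        refine Finset.sum_congr rfl fun i _ => ?_
        rw [ExtR.out_add, Ext.add_comp, ExtR.mk_add, TensorProduct.tmul_add]
      rw [hadd, h, h']
  · unfold inv
    rw [map_sum]
    simp only [bc_tmul]
    unfold bcFun
    apply ExtR.ext_out
    have e : ∀ i, ExtR.mk (K := K') ((ExtR.mk (K := K) (y.out.comp (Ext.mk₀ (ψ i))
        (add_zero k))).out.comp (Ext.mk₀ (D.θ (b i))) (add_zero k)) =
        ExtR.mk (K := K') (y.out.comp (Ext.mk₀ (ψ i ≫ D.θ (b i))) (add_zero k)) := by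
      intro i
      rw [ExtR.out_mk, Ext.comp_assoc _ _ _ (add_zero k) (add_zero 0) (by omega), Ext.mk₀_comp_mk₀]
    simp only [e]
    have hs : ∀ s : Finset ι, (∑ i ∈ s, ExtR.mk (K := K')
        (y.out.comp (Ext.mk₀ (ψ i ≫ D.θ (b i))) (add_zero k))).out =
        y.out.comp (Ext.mk₀ (∑ i ∈ s, ψ i ≫ D.θ (b i))) (add_zero k) := by
      intro s
      classical
      induction s using Finset.induction_on with
      | empty =>
        rw [Finset.sum_empty, Finset.sum_empty, Ext.mk₀_zero, Ext.comp_zero]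
        rfl
      | insert a s ha ih =>
        rw [Finset.sum_insert ha, Finset.sum_insert ha, ExtR.out_add, ih, Ext.mk₀_add, Ext.comp_add]
        rfl
    rw [hs, h1]
    exact Ext.comp_mk₀_id _

end Dual

end Groth.Agent.R2.H70.BCDual
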