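import Mathlib
import Groth.Agent.R2.H70BCGeom
import Groth.Agent.R2.H70BCDual
import Groth.Agent.Lib.Helper13ModAffine

/-!
# Base change along a finite projective algebra, no finiteness hypotheses on `X` (helper70)

For `X' = X ×_A B`, `F` quasi-coherent on `X` and an `A`-linear form `φ : B → A` we construct
`ψ_φ : g'_* g'^* F ⟶ F`, on affine opens `b ⊗ s ↦ φ(b) s` under `Γ(g'⁻¹U, g'^*F) = B ⊗_A Γ(U, F)`.
With a dual basis of `B` this gives the inverse of the base change map on all `Ext` groups.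
-/

set_option autoImplicit false
set_option linter.style.haveILetI false
set_option linter.unusedSectionVars false
universe u
open CategoryTheory CategoryTheory.Limits Opposite TopologicalSpace AlgebraicGeometry Abelian TensorProduct

namespace Groth.Agent.R2.H70.BC

open Groth.Agent.Lib.Helper23.AffVanish Groth.Agent.Lib.Helper6 Groth.Agent.R2.H1.ExtLoc
  Groth.Agent.R2.H1.CohLoc Groth.Agent.Helper13FlatMV Groth.Agent.Helper13PullbackUnit

section Sec

variable {A : Type u} [CommRing A] {X : Scheme.{u}}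

/-- sections over `U` as an `A`-module -/
def SecA (_p : X ⟶ Spec (CommRingCat.of A)) (F : X.Modules) (U : X.Opens) : Type u := Γ(F, U)

variable (p : X ⟶ Spec (CommRingCat.of A)) (F : X.Modules)

noncomputable instance (U : X.Opens) : AddCommGroup (SecA p F U) :=
  inferInstanceAs (AddCommGroup Γ(F, U))

noncomputable instance (U : X.Opens) : Module A (SecA p F U) :=
  Module.compHom Γ(F, U) (toSec p U)

lemma SecA.smul_def (U : X.Opens) (a : A) (s : SecA p F U) :
    a • s = ((toSec p U a : Γ(X, U)) • (show Γ(F, U) from s) : Γ(F, U)) := rfl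

lemma toSec_res {U V : X.Opens} (hVU : V ≤ U) (a : A) : resf hVU (toSec p U a) = toSec p V a := by
  rw [toSec_apply, toSec_apply, resf_resf]

/-- restriction, `A`-linear -/
noncomputable def resA {U V : X.Opens} (hVU : V ≤ U) : SecA p F U →ₗ[A] SecA p F V where
  toFun s := res F hVU s
  map_add' s t := map_add _ s t
  map_smul' a s := by
    change res F hVU ((toSec p U a : Γ(X, U)) • (show Γ(F, U) from s)) =
      ((toSec p V a : Γ(X, V)) • res F hVU s : Γ(F, V))
    rw [res_smul, toSec_res]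

lemma resA_apply {U V : X.Opens} (hVU : V ≤ U) (s : SecA p F U) : resA p F hVU s = res F hVU s := rfl

end Sec

section Square

variable {A B : Type u} [CommRing A] [CommRing B] [Algebra A B]
variable {X X' : Scheme.{u}} {p : X ⟶ Spec (CommRingCat.of A)} {p' : X' ⟶ Spec (CommRingCat.of B)}
  {g' : X' ⟶ X}

lemma appLE_toSec (hw : g' ≫ p = p' ≫ Spec.map (CommRingCat.ofHom (algebraMap A B)))
    (U : X.Opens) (a : A) :
    (g'.appLE U (g' ⁻¹ᵁ U) le_rfl).hom (toSec p U a) = toSec p' (g' ⁻¹ᵁ U) (algebraMap A B a) := by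
  rw [toSec_apply, toSec_apply]
  have e1 : (show Γ(X', ⊤) from Coh.toGlobal p' (algebraMap A B a)) =
      g'.appTop.hom (show Γ(X, ⊤) from Coh.toGlobal p a) := by
    rw [← toGlobal_comp_specMap, ← hw]
    exact Edge.toGlobal_comp g' p a
  rw [e1]
  have e2 : X.presheaf.map (homOfLE (le_top : U ≤ ⊤)).op ≫ g'.appLE U (g' ⁻¹ᵁ U) le_rfl =
      g'.appTop ≫ X'.presheaf.map (homOfLE (le_top : g' ⁻¹ᵁ U ≤ ⊤)).op := by
    rw [Scheme.Hom.map_appLE]
    rfl
  exact congrArg (fun t => t.hom (show Γ(X, ⊤) from Coh.toGlobal p a)) e2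

variable (p p' g') in
/-- the unit on sections over `U`, semilinear over `A → B` -/
noncomputable def uA (F : X.Modules) (U : X.Opens) :
    SecA p F U →+ SecA p' ((Scheme.Modules.pullback g').obj F) (g' ⁻¹ᵁ U) :=
  unitSec g' F le_rfl

lemma uA_smul (hw : g' ≫ p = p' ≫ Spec.map (CommRingCat.ofHom (algebraMap A B)))
    (F : X.Modules) (U : X.Opens) (a : A) (s : SecA p F U) :
    uA p p' g' F U (a • s) = algebraMap A B a • uA p p' g' F U s := by
  change unitSec g' F le_rfl ((toSec p U a : Γ(X, U)) • (show Γ(F, U) from s)) =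
    ((toSec p' (g' ⁻¹ᵁ U) (algebraMap A B a) : Γ(X', g' ⁻¹ᵁ U)) • unitSec g' F le_rfl s :
      Γ((Scheme.Modules.pullback g').obj F, g' ⁻¹ᵁ U))
  rw [unitSec_smul, appLE_toSec hw]

/-- `B ⊗_A Γ(U, F) → Γ(g'⁻¹U, g'^*F)` -/
noncomputable def kapA (hw : g' ≫ p = p' ≫ Spec.map (CommRingCat.ofHom (algebraMap A B)))
    (F : X.Modules) (U : X.Opens) :
    B ⊗[A] SecA p F U →ₗ[B] SecA p' ((Scheme.Modules.pullback g').obj F) (g' ⁻¹ᵁ U) :=
  kap (R := A) (R' := B) (uA p p' g' F U) (uA_smul hw F U)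

lemma kapA_tmul (hw : g' ≫ p = p' ≫ Spec.map (CommRingCat.ofHom (algebraMap A B)))
    (F : X.Modules) (U : X.Opens) (b : B) (s : SecA p F U) :
    kapA hw F U (b ⊗ₜ[A] s) = b • uA p p' g' F U s := rfl

theorem kapA_bijective (h : IsPullback g' p' p (Spec.map (CommRingCat.ofHom (algebraMap A B))))
    (F : X.Modules) [F.IsQuasicoherent] {U : X.Opens} (hU : IsAffineOpen U) :
    Function.Bijective (kapA h.w F U) := by
  haveI := isAffineHom_of_isPullback h
  have hV' : IsAffineOpen (g' ⁻¹ᵁ U) := hU.preimage g'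
  refine Groth.Agent.Helper13BCAlg.bijective_of_lifts (algebraMap A B) (toSec p U)
    (g'.appLE U (g' ⁻¹ᵁ U) le_rfl).hom (toSec p' (g' ⁻¹ᵁ U)) (isPushout_sections h hU)
    (M := Γ(F, U)) (Q := B ⊗[A] SecA p F U)
    (Q' := Γ((Scheme.Modules.pullback g').obj F, g' ⁻¹ᵁ U))
    (oneTmul (R := A) (R' := B) (M := SecA p F U)) ?_ ?_
    (unitSec g' F le_rfl) (unitSec_smul g' F le_rfl) ?_ (kapA h.w F U).toAddMonoidHom ?_ ?_
  · intro r m
    exact oneTmul_smul (R := A) (R' := B) (M := SecA p F U) r m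
  · intro N _ _ l hl
    exact existsUnique_of_oneTmul (R := A) (R' := B) (M := SecA p F U) N l hl
  · intro N _ _ l hl
    exact existsUnique_lift g' F hU hV' le_rfl N l hl
  · intro r' q
    exact (kapA h.w F U).map_smul r' q
  · intro m
    change kapA h.w F U ((1 : B) ⊗ₜ[A] (show SecA p F U from m)) = _
    rw [kapA_tmul, one_smul]
    rfl

/-- `B ⊗_A Γ(U, F) ≃ Γ(g'⁻¹U, g'^*F)` for affine `U` -/
noncomputable def kapEquiv (h : IsPullback g' p' p (Spec.map (CommRingCat.ofHom (algebraMap A B))))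
    (F : X.Modules) [F.IsQuasicoherent] {U : X.Opens} (hU : IsAffineOpen U) :
    B ⊗[A] SecA p F U ≃ₗ[B] SecA p' ((Scheme.Modules.pullback g').obj F) (g' ⁻¹ᵁ U) :=
  LinearEquiv.ofBijective (kapA h.w F U) (kapA_bijective h F hU)

end Square

section Psi

variable {A B : Type u} [CommRing A] [CommRing B] [Algebra A B]
variable {X X' : Scheme.{u}} {p : X ⟶ Spec (CommRingCat.of A)} {p' : X' ⟶ Spec (CommRingCat.of B)}
  {g' : X' ⟶ X}

variable (p) in
/-- `b ⊗ s ↦ φ(b) s` -/
noncomputable def evA (F : X.Modules) (φ : B →ₗ[A] A) (U : X.Opens) :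
    B ⊗[A] SecA p F U →ₗ[A] SecA p F U :=
  (TensorProduct.lid A (SecA p F U)).toLinearMap.comp (φ.rTensor (SecA p F U))

lemma evA_tmul (F : X.Modules) (φ : B →ₗ[A] A) (U : X.Opens) (b : B) (s : SecA p F U) :
    evA p F φ U (b ⊗ₜ[A] s) = φ b • s := by
  simp [evA]

lemma evA_res (F : X.Modules) (φ : B →ₗ[A] A) {U V : X.Opens} (hVU : V ≤ U)
    (t : B ⊗[A] SecA p F U) :
    evA p F φ V ((resA p F hVU).lTensor B t) = resA p F hVU (evA p F φ U t) := by
  induction t using TensorProduct.induction_on with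
  | zero => simp
  | tmul b s => rw [LinearMap.lTensor_tmul, evA_tmul, evA_tmul, map_smul]
  | add t t' h h' => rw [map_add, map_add, map_add, map_add, h, h']

lemma kapA_res (hw : g' ≫ p = p' ≫ Spec.map (CommRingCat.ofHom (algebraMap A B)))
    (F : X.Modules) {U V : X.Opens} (hVU : V ≤ U) (t : B ⊗[A] SecA p F U) :
    resA p' ((Scheme.Modules.pullback g').obj F) (g'.preimage_mono hVU) (kapA hw F U t) =
      kapA hw F V ((resA p F hVU).lTensor B t) :=
  kap_nat (R := A) (R' := B) (uA p p' g' F U) (uA_smul hw F U) (uA p p' g' F V) (uA_smul hw F V)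
    (resA p F hVU) (resA p' ((Scheme.Modules.pullback g').obj F) (g'.preimage_mono hVU))
    (fun a => Groth.Agent.Helper13QcqsBC.unitSec_res g' F le_rfl le_rfl hVU
      (g'.preimage_mono hVU) a) t

variable (p) in
/-- multiplication by a function on `U`, `A`-linear -/
noncomputable def mulA (F : X.Modules) (U : X.Opens) (r : Γ(X, U)) : SecA p F U →ₗ[A] SecA p F U where
  toFun s := (r • (show Γ(F, U) from s) : Γ(F, U))
  map_add' s t := smul_add r (show Γ(F, U) from s) (show Γ(F, U) from t)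
  map_smul' a s := by
    change (r • ((toSec p U a : Γ(X, U)) • (show Γ(F, U) from s)) : Γ(F, U)) =
      ((toSec p U a : Γ(X, U)) • (r • (show Γ(F, U) from s)) : Γ(F, U))
    rw [smul_smul, smul_smul, mul_comm]

lemma mulA_apply (F : X.Modules) (U : X.Opens) (r : Γ(X, U)) (s : SecA p F U) :
    mulA p F U r s = (r • (show Γ(F, U) from s) : Γ(F, U)) := rfl

lemma evA_mul (F : X.Modules) (φ : B →ₗ[A] A) (U : X.Opens) (r : Γ(X, U))
    (t : B ⊗[A] SecA p F U) :
    evA p F φ U ((mulA p F U r).lTensor B t) = mulA p F U r (evA p F φ U t) := by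
  induction t using TensorProduct.induction_on with
  | zero => simp
  | tmul b s => rw [LinearMap.lTensor_tmul, evA_tmul, evA_tmul, map_smul]
  | add t t' h h' => rw [map_add, map_add, map_add, map_add, h, h']

lemma kapA_mul (hw : g' ≫ p = p' ≫ Spec.map (CommRingCat.ofHom (algebraMap A B)))
    (F : X.Modules) (U : X.Opens) (r : Γ(X, U)) (t : B ⊗[A] SecA p F U) :
    mulA p' ((Scheme.Modules.pullback g').obj F) (g' ⁻¹ᵁ U) ((g'.appLE U (g' ⁻¹ᵁ U) le_rfl).hom r)
        (kapA hw F U t) =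
      kapA hw F U ((mulA p F U r).lTensor B t) :=
  kap_nat (R := A) (R' := B) (uA p p' g' F U) (uA_smul hw F U) (uA p p' g' F U) (uA_smul hw F U)
    (mulA p F U r)
    (mulA p' ((Scheme.Modules.pullback g').obj F) (g' ⁻¹ᵁ U) ((g'.appLE U (g' ⁻¹ᵁ U) le_rfl).hom r))
    (fun a => (unitSec_smul g' F le_rfl r a).symm) t

variable (h : IsPullback g' p' p (Spec.map (CommRingCat.ofHom (algebraMap A B))))
  (F : X.Modules) [F.IsQuasicoherent] (φ : B →ₗ[A] A)

/-- the map `Γ(g'⁻¹U, g'^*F) → Γ(U, F)`, `b • unit(s) ↦ φ(b) s`, for affine `U` -/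
noncomputable def dPsi (U : X.Opens) (hU : IsAffineOpen U) :
    SecA p' ((Scheme.Modules.pullback g').obj F) (g' ⁻¹ᵁ U) →+ SecA p F U :=
  (evA p F φ U).toAddMonoidHom.comp (kapEquiv h F hU).symm.toLinearMap.toAddMonoidHom

lemma dPsi_kapA (U : X.Opens) (hU : IsAffineOpen U) (t : B ⊗[A] SecA p F U) :
    dPsi h F φ U hU (kapA h.w F U t) = evA p F φ U t := by
  change evA p F φ U ((kapEquiv h F hU).symm (kapEquiv h F hU t)) = _
  rw [LinearEquiv.symm_apply_apply]

lemma exists_kapA_eq {U : X.Opens} (hU : IsAffineOpen U)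
    (m : SecA p' ((Scheme.Modules.pullback g').obj F) (g' ⁻¹ᵁ U)) :
    ∃ t : B ⊗[A] SecA p F U, kapA h.w F U t = m :=
  (kapA_bijective h F hU).2 m

lemma dPsi_res {U V : X.Opens} (hU : IsAffineOpen U) (hV : IsAffineOpen V) (hVU : V ≤ U)
    (m : SecA p' ((Scheme.Modules.pullback g').obj F) (g' ⁻¹ᵁ U)) :
    dPsi h F φ V hV (resA p' ((Scheme.Modules.pullback g').obj F) (g'.preimage_mono hVU) m) =
      resA p F hVU (dPsi h F φ U hU m) := by
  obtain ⟨t, rfl⟩ := exists_kapA_eq h F hU m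
  rw [kapA_res, dPsi_kapA, dPsi_kapA, evA_res]

lemma dPsi_mul {U : X.Opens} (hU : IsAffineOpen U) (r : Γ(X, U))
    (m : SecA p' ((Scheme.Modules.pullback g').obj F) (g' ⁻¹ᵁ U)) :
    dPsi h F φ U hU (mulA p' ((Scheme.Modules.pullback g').obj F) (g' ⁻¹ᵁ U)
        ((g'.appLE U (g' ⁻¹ᵁ U) le_rfl).hom r) m) =
      mulA p F U r (dPsi h F φ U hU m) := by
  obtain ⟨t, rfl⟩ := exists_kapA_eq h F hU m
  rw [kapA_mul, dPsi_kapA, dPsi_kapA, evA_mul]

/-- the maps on affine opens, as morphisms of abelian groups -/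
noncomputable def dPsiHom (U : X.Opens) (hU : IsAffineOpen U) :
    Γ((Scheme.Modules.pushforward g').obj ((Scheme.Modules.pullback g').obj F), U) ⟶ Γ(F, U) :=
  AddCommGrpCat.ofHom (dPsi h F φ U hU)

open Scheme.AffineZariskiSite in
lemma dPsiHom_nat {U V : X.AffineZariskiSite} (i : V ⟶ U) :
    ((Scheme.Modules.pushforward g').obj ((Scheme.Modules.pullback g').obj F)).presheaf.map
        (homOfLE (toOpens_mono i.le)).op ≫ dPsiHom h F φ V.1 V.2 =
      dPsiHom h F φ U.1 U.2 ≫ F.presheaf.map (homOfLE (toOpens_mono i.le)).op := by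
  ext m
  exact dPsi_res h F φ U.2 V.2 (toOpens_mono i.le) m

lemma dPsiHom_lin (U : X.Opens) (hU : IsAffineOpen U) (a : Γ(X, U))
    (m : Γ((Scheme.Modules.pushforward g').obj ((Scheme.Modules.pullback g').obj F), U)) :
    dPsiHom h F φ U hU (a • m) = a • dPsiHom h F φ U hU m := by
  have := dPsi_mul h F φ hU a m
  rw [Scheme.Hom.appLE_eq_app] at this
  exact this

open Groth.Agent.Helper13ModAffine in
/-- the retraction `g'_* g'^* F ⟶ F` attached to an `A`-linear form `φ : B → A` -/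
noncomputable def psiMod :
    (Scheme.Modules.pushforward g').obj ((Scheme.Modules.pullback g').obj F) ⟶ F :=
  homOfAffine (dPsiHom h F φ) (dPsiHom_nat h F φ) (dPsiHom_lin h F φ)

open Groth.Agent.Helper13ModAffine in
lemma psiMod_app (U : X.Opens) (hU : IsAffineOpen U)
    (m : Γ((Scheme.Modules.pushforward g').obj ((Scheme.Modules.pullback g').obj F), U)) :
    (psiMod h F φ).app U m = dPsi h F φ U hU m :=
  ConcreteCategory.congr_hom
    (homOfAffine_app (dPsiHom h F φ) (dPsiHom_nat h F φ) (dPsiHom_lin h F φ) U hU) m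

/-- `ψ_φ` on abelian sheaves -/
noncomputable def psiAb :
    (coeffPush p' g' ((Scheme.Modules.pullback g').obj F)).F ⟶ (coeffOver p F).F :=
  (SheafOfModules.toSheaf X.ringCatSheaf).map (psiMod h F φ)

lemma psiAb_app (U : X.Opens) (hU : IsAffineOpen U)
    (m : Γ((Scheme.Modules.pullback g').obj F, g' ⁻¹ᵁ U)) :
    ((psiAb h F φ).hom.app (op U)).hom m = dPsi h F φ U hU m :=
  psiMod_app h F φ U hU m

end Psi

section Ext

variable {X : Scheme.{u}}

/-- morphisms of abelian sheaves on a scheme agreeing on affine opens are equal -/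
lemma sheafHom_ext_affine {G G' : CohTop.Ab X.carrier} (α β : G ⟶ G')
    (hαβ : ∀ (U : X.Opens), IsAffineOpen U → α.hom.app (op U) = β.hom.app (op U)) : α = β := by
  apply Sheaf.hom_ext
  have hB : Opens.IsBasis (Set.range (fun U : X.affineOpens => (U.1 : X.Opens))) := by
    rw [Subtype.range_coe]
    exact X.isBasis_affineOpens
  exact TopCat.Sheaf.hom_ext (F := G.obj) (F' := G') hB (fun U => hαβ U.1 U.2)

lemma sum_hom_app {G G' : CohTop.Ab X.carrier} {ι : Type*} (s : Finset ι) (α : ι → (G ⟶ G'))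
    (U : (Opens X.carrier)ᵒᵖ) (m : G.obj.obj U) :
    ((∑ i ∈ s, α i).hom.app U).hom m = ∑ i ∈ s, ((α i).hom.app U).hom m := by
  classical
  induction s using Finset.induction_on with
  | empty =>
    rw [Finset.sum_empty, Finset.sum_empty]
    rfl
  | insert a s ha ih =>
    rw [Finset.sum_insert ha, Finset.sum_insert ha, ← ih, Sheaf.Hom.add_app]
    rfl

end Ext

section Pairing'

variable {A B : Type u} [CommRing A] [CommRing B] [Algebra A B]
variable {X X' : Scheme.{u}} {p : X ⟶ Spec (CommRingCat.of A)} {p' : X' ⟶ Spec (CommRingCat.of B)}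
  {g' : X' ⟶ X}

/-- the base change pairing, `G`-free form -/
noncomputable def pairing' (hw : g' ≫ p = p' ≫ Spec.map (CommRingCat.ofHom (algebraMap A B)))
    (M : X.Modules) :
    BCDual.Pairing B (coeffOver p M) (coeffPush p' g' ((Scheme.Modules.pullback g').obj M)) where
  θ := (pairing hw M).θ
  θ_smul := (pairing hw M).θ_smul
  θ_smul' := (pairing hw M).θ_smul'

lemma pairing'_θ (hw : g' ≫ p = p' ≫ Spec.map (CommRingCat.ofHom (algebraMap A B)))
    (M : X.Modules) (b : B) :
    (pairing' hw M).θ b =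
      unitAb g' M ≫ (coeffPush p' g' ((Scheme.Modules.pullback g').obj M)).ρ b := rfl

/-- `θ(b)` on sections: `s ↦ b • unit(s)` -/
lemma theta_app (hw : g' ≫ p = p' ≫ Spec.map (CommRingCat.ofHom (algebraMap A B)))
    (M : X.Modules) (b : B) (U : X.Opens) (s : Γ(M, U)) :
    (((pairing' hw M).θ b).hom.app (op U)).hom s =
      kapA hw M U (b ⊗ₜ[A] (show SecA p M U from s)) := by
  rw [kapA_tmul, pairing'_θ]
  change (((coeffPush p' g' ((Scheme.Modules.pullback g').obj M)).ρ b).hom.app (op U)).hom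
    (((unitAb g' M).hom.app (op U)).hom s) = _
  have e1 : ((unitAb g' M).hom.app (op U)).hom s = uA p p' g' M U s := by
    change _ = unitSec g' M le_rfl s
    rw [unitSec_apply]
    exact (Groth.Agent.Helper13QcqsBC.res_self _ _).symm
  rw [e1]
  exact Coh.smulAb_app ((Scheme.Modules.pullback g').obj M) (Coh.toGlobal p' b) (op (g' ⁻¹ᵁ U)) _

end Pairing'

end Groth.Agent.R2.H70.BC
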