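import Mathlib
import Groth.Agent.R2.H70BCFinProj
import Groth.Agent.R2.H70BCMain

/-!
# Base change along a finite projective algebra: the final isomorphism (helper70)

`nonempty_linearEquiv_finProj`: `B` finite projective over `A`, `X` ANY scheme over `A`, `X' = X ×_A B`, `M`
quasi-coherent: `B ⊗_A H^i(X, M) ≃ₗ[B] H^i(X', g'^* M)`.
-/

set_option autoImplicit false
set_option linter.style.haveILetI false
set_option linter.unusedSectionVars false
universe u
open CategoryTheory CategoryTheory.Limits Opposite TopologicalSpace AlgebraicGeometry Abelian TensorProduct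

namespace Groth.Agent.R2.H70.BC

open Groth.Agent.Lib.Helper23.AffVanish Groth.Agent.Lib.Helper6 Groth.Agent.R2.H1.ExtLoc
  Groth.Agent.R2.H1.CohLoc Groth.Agent.Helper13FlatMV Groth.Agent.Helper13PullbackUnit
  Groth.Agent.Lib.Helper16.ClosedEmb

section

variable {A B : Type u} [CommRing A] [CommRing B] [Algebra A B]
variable {X X' : Scheme.{u}} {p : X ⟶ Spec (CommRingCat.of A)} {p' : X' ⟶ Spec (CommRingCat.of B)}
  {g' : X' ⟶ X}
variable (h : IsPullback g' p' p (Spec.map (CommRingCat.ofHom (algebraMap A B))))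
  (F : X.Modules) [F.IsQuasicoherent]

/-- `ψ_φ ∘ θ(b) = φ(b)` -/
theorem theta_comp_psiAb (φ : B →ₗ[A] A) (b : B) :
    (pairing' h.w F).θ b ≫ psiAb h F φ = (coeffOver p F).ρ (φ b) := by
  apply sheafHom_ext_affine
  intro U hU
  ext s
  change ((psiAb h F φ).hom.app (op U)).hom ((((pairing' h.w F).θ b).hom.app (op U)).hom s) = _
  have e1 := theta_app h.w F b U (show Γ(F, U) from s)
  refine (congrArg (fun t => ((psiAb h F φ).hom.app (op U)).hom t) e1).trans ?_
  refine (psiAb_app h F φ U hU _).trans ?_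
  rw [dPsi_kapA, evA_tmul]
  exact (Coh.smulAb_app F (Coh.toGlobal p (φ b)) (op U) s).symm

omit [Algebra A B] in
lemma addHom_ext_tmul {M N P : Type*} [AddCommGroup M] [AddCommGroup N] [AddCommGroup P]
    [Module A M] [Module A N] (f g : M ⊗[A] N →+ P) (hfg : ∀ m n, f (m ⊗ₜ n) = g (m ⊗ₜ n)) :
    f = g := by
  ext t
  induction t using TensorProduct.induction_on with
  | zero => rw [map_zero, map_zero]
  | tmul m n => exact hfg m n
  | add a b ha hb => rw [map_add, map_add, ha, hb]

/-- `∑ θ(b_i) ∘ ψ_{φ_i} = 1` for a dual basis -/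
theorem sum_psiAb_comp_theta {ι : Type} [Fintype ι] (b : ι → B) (φ : ι → (B →ₗ[A] A))
    (hdual : ∀ x : B, ∑ i, φ i x • b i = x) :
    ∑ i, psiAb h F (φ i) ≫ (pairing' h.w F).θ (b i) =
      𝟙 (coeffPush p' g' ((Scheme.Modules.pullback g').obj F)).F := by
  apply sheafHom_ext_affine
  intro U hU
  ext m
  refine (sum_hom_app Finset.univ _ (op U) m).trans ?_
  change ∑ i, (((pairing' h.w F).θ (b i)).hom.app (op U)).hom
    (((psiAb h F (φ i)).hom.app (op U)).hom m) = m
  obtain ⟨t, ht⟩ := exists_kapA_eq h F hU (show SecA p' _ (g' ⁻¹ᵁ U) from m)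
  let kap' : B ⊗[A] SecA p F U →+ SecA p' ((Scheme.Modules.pullback g').obj F) (g' ⁻¹ᵁ U) :=
    (kapA h.w F U).toAddMonoidHom
  let Λ : ι → (SecA p' ((Scheme.Modules.pullback g').obj F) (g' ⁻¹ᵁ U) →+
      SecA p' ((Scheme.Modules.pullback g').obj F) (g' ⁻¹ᵁ U)) := fun i =>
    (show SecA p' ((Scheme.Modules.pullback g').obj F) (g' ⁻¹ᵁ U) →+
      SecA p' ((Scheme.Modules.pullback g').obj F) (g' ⁻¹ᵁ U) from
      (((pairing' h.w F).θ (b i)).hom.app (op U)).hom.comp ((psiAb h F (φ i)).hom.app (op U)).hom)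
  have hf : (∑ i, (Λ i).comp kap') = kap' := by
    apply addHom_ext_tmul
    intro x s
    rw [AddMonoidHom.finsetSum_apply]
    have e : ∀ i, (Λ i).comp kap' (x ⊗ₜ[A] s) = kap' ((φ i x • b i) ⊗ₜ[A] s) := by
      intro i
      have e1 := psiAb_app h F (φ i) U hU (kapA h.w F U (x ⊗ₜ[A] s))
      rw [dPsi_kapA, evA_tmul] at e1
      refine (congrArg (fun z => (((pairing' h.w F).θ (b i)).hom.app (op U)).hom z) e1).trans ?_
      refine (theta_app h.w F (b i) U _).trans ?_
      exact congrArg (kapA h.w F U) (TensorProduct.smul_tmul (φ i x) (b i) s).symm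
    rw [Finset.sum_congr rfl (fun i _ => e i), ← map_sum, ← TensorProduct.sum_tmul, hdual]
  have h2 := DFunLike.congr_fun hf t
  rw [AddMonoidHom.finsetSum_apply] at h2
  have h3 : kap' t = m := ht
  simp only [AddMonoidHom.comp_apply, h3] at h2
  exact h2

end

/-- a finite projective module has a finite dual basis -/
lemma exists_dualBasis (A B : Type*) [CommRing A] [AddCommGroup B] [Module A B] [Module.Finite A B]
    [Module.Projective A B] :
    ∃ (n : ℕ) (b : Fin n → B) (φ : Fin n → (B →ₗ[A] A)), ∀ x : B, ∑ i, φ i x • b i = x := by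
  obtain ⟨n, f, hf⟩ := Module.Finite.exists_fin' A B
  obtain ⟨g, hg⟩ := Module.projective_lifting_property f LinearMap.id hf
  refine ⟨n, fun i => f (fun j => if i = j then 1 else 0), fun i => (LinearMap.proj i).comp g,
    fun x => ?_⟩
  have h1 : f (g x) = x := LinearMap.congr_fun hg x
  have h2 := LinearMap.pi_apply_eq_sum_univ f (g x)
  rw [h1] at h2
  exact h2.symm

/-- **Base change along a finite projective algebra**, no hypotheses on `X`. -/
theorem nonempty_linearEquiv_finProj (A B : Type u) [CommRing A] [CommRing B] [Algebra A B]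
    [Module.Finite A B] [Module.Projective A B] (X X' : Scheme.{u})
    [X.Over (Spec (CommRingCat.of A))] [X'.Over (Spec (CommRingCat.of B))] (g' : X' ⟶ X)
    (h : IsPullback g' (X' ↘ Spec (CommRingCat.of B)) (X ↘ Spec (CommRingCat.of A))
      (Spec.map (CommRingCat.ofHom (algebraMap A B))))
    (M : X.Modules) [Coh.IsQCoh M] (i : ℕ) :
    Nonempty (TensorProduct A B (Coh.HH X M i) ≃ₗ[B]
      Coh.HH X' ((Scheme.Modules.pullback g').obj M) i) := by
  haveI := isAffineHom_of_isPullback h
  haveI : Coh.IsQCoh ((Scheme.Modules.pullback g').obj M) :=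
    Groth.Agent.Lib.Helper2.PullbackSec.isQuasicoherent_pullback g' M
  obtain ⟨n, b, φ, hdual⟩ := exists_dualBasis A B
  have hb : Function.Bijective (BCDual.bcLin (pairing' h.w M) (constZ X.carrier) i) :=
    BCDual.bc_bijective_of_dualBasis (pairing' h.w M) (b := b) (φ := φ)
      (ψ := fun j => psiAb h M (φ j)) hdual (sum_psiAb_comp_theta h M b φ hdual)
      (fun j x => theta_comp_psiAb h M (φ j) x) (constZ X.carrier) i
  have he := Edge.pushEdge_bijective_of_isAffineHom g' ((Scheme.Modules.pullback g').obj M) i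
  let e₁ : Coh.HH X M i ≃ₗ[A] ExtR (coeffOver (X ↘ Spec (CommRingCat.of A)) M) (constZ X.carrier) i :=
    { toFun := fun x => ExtR.mk (K := coeffOver (X ↘ Spec (CommRingCat.of A)) M) x
      invFun := fun y => ExtR.out y
      left_inv := fun _ => rfl
      right_inv := fun _ => rfl
      map_add' := fun _ _ => rfl
      map_smul' := fun _ _ => rfl }
  let e₃ : ExtR (coeffPush (X' ↘ Spec (CommRingCat.of B)) g' ((Scheme.Modules.pullback g').obj M))
      (constZ X.carrier) i →ₗ[B] Coh.HH X' ((Scheme.Modules.pullback g').obj M) i :=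
    { toFun := fun y => CohPull.pushEdge g' ((Scheme.Modules.pullback g').obj M) i (ExtR.out y)
      map_add' := fun x y => map_add (CohPull.pushEdge g' ((Scheme.Modules.pullback g').obj M) i)
        (ExtR.out x) (ExtR.out y)
      map_smul' := fun b y => pushEdge_out_smul (X' ↘ Spec (CommRingCat.of B)) g'
        ((Scheme.Modules.pullback g').obj M) i b y }
  have he₃ : Function.Bijective e₃ := he
  exact ⟨(TensorProduct.AlgebraTensorModule.congr (LinearEquiv.refl B B) e₁).trans
    ((LinearEquiv.ofBijective _ hb).trans (LinearEquiv.ofBijective e₃ he₃))⟩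

end Groth.Agent.R2.H70.BC
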