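import Mathlib

/-!
# helper70: binary quadratic forms

A homogeneous polynomial of degree two in two variables is `a x² + b xy + c y²`; if it is
irreducible then `a ≠ 0` and `a t² + b t + c` has no root, hence is irreducible in `K[t]`.
-/

set_option autoImplicit false
set_option linter.unusedSimpArgs false

namespace Groth.Agent.R2.H70.BinQuad

open MvPolynomial

variable {K : Type*} [Field K]

theorem eq_of_isHomogeneous_two {q : MvPolynomial (Fin 2) K} (hq : q.IsHomogeneous 2) :
    q = C (q.coeff (Finsupp.single 0 2)) * X 0 ^ 2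
      + C (q.coeff (Finsupp.single 0 1 + Finsupp.single 1 1)) * (X 0 * X 1)
      + C (q.coeff (Finsupp.single 1 2)) * X 1 ^ 2 := by
  classical
  have e1 : (X 0 ^ 2 : MvPolynomial (Fin 2) K) = monomial (Finsupp.single 0 2) 1 := by
    rw [X_pow_eq_monomial]
  have e2 : (X 1 ^ 2 : MvPolynomial (Fin 2) K) = monomial (Finsupp.single 1 2) 1 := by
    rw [X_pow_eq_monomial]
  have e3 : (X 0 * X 1 : MvPolynomial (Fin 2) K)
      = monomial (Finsupp.single 0 1 + Finsupp.single 1 1) 1 := by
    rw [X, X, monomial_mul, one_mul]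
  rw [e1, e2, e3, C_mul_monomial, C_mul_monomial, C_mul_monomial, mul_one, mul_one, mul_one]
  ext m
  simp only [coeff_add, coeff_monomial]
  by_cases hm : m.degree = 2
  · rw [Finsupp.degree_eq_sum, Fin.sum_univ_two] at hm
    have hcases : (m 0 = 2 ∧ m 1 = 0) ∨ (m 0 = 1 ∧ m 1 = 1) ∨ (m 0 = 0 ∧ m 1 = 2) := by omega
    have h01 : (Finsupp.single (0 : Fin 2) 2 : Fin 2 →₀ ℕ) ≠ Finsupp.single 0 1 + Finsupp.single 1 1 := by
      intro h; have := DFunLike.congr_fun h 0; simp at this
    have h02 : (Finsupp.single (0 : Fin 2) 2 : Fin 2 →₀ ℕ) ≠ Finsupp.single 1 2 := by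
      intro h; have := DFunLike.congr_fun h 0; simp at this
    have h12 : (Finsupp.single (0 : Fin 2) 1 + Finsupp.single 1 1 : Fin 2 →₀ ℕ) ≠ Finsupp.single 1 2 := by
      intro h; have := DFunLike.congr_fun h 0; simp at this
    rcases hcases with ⟨h0, h1⟩ | ⟨h0, h1⟩ | ⟨h0, h1⟩
    · have : m = Finsupp.single 0 2 := by
        ext i; fin_cases i <;> simp [h0, h1]
      subst this
      simp [h01, h01.symm, h02, h02.symm, h12, h12.symm]
    · have : m = Finsupp.single 0 1 + Finsupp.single 1 1 := by
        ext i; fin_cases i <;> simp [h0, h1]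
      subst this
      simp [h01, h01.symm, h02, h02.symm, h12, h12.symm]
    · have : m = Finsupp.single 1 2 := by
        ext i; fin_cases i <;> simp [h0, h1]
      subst this
      simp [h01, h01.symm, h02, h02.symm, h12, h12.symm]
  · rw [hq.coeff_eq_zero hm]
    have d1 : (Finsupp.single (0 : Fin 2) 2 : Fin 2 →₀ ℕ).degree = 2 := by simp
    have d2 : (Finsupp.single (0 : Fin 2) 1 + Finsupp.single 1 1 : Fin 2 →₀ ℕ).degree = 2 := by
      rw [map_add]; simp
    have d3 : (Finsupp.single (1 : Fin 2) 2 : Fin 2 →₀ ℕ).degree = 2 := by simp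
    have n1 : Finsupp.single (0 : Fin 2) 2 ≠ m := fun h => hm (h ▸ d1)
    have n2 : Finsupp.single (0 : Fin 2) 1 + Finsupp.single 1 1 ≠ m := fun h => hm (h ▸ d2)
    have n3 : Finsupp.single (1 : Fin 2) 2 ≠ m := fun h => hm (h ▸ d3)
    simp [n1, n2, n3]

/-- A polynomial vanishing at the origin is not a unit. -/
lemma not_isUnit_of_eval_zero {f : MvPolynomial (Fin 2) K} (hf : eval (fun _ => 0) f = 0) :
    ¬ IsUnit f := by
  intro h
  have := h.map (eval (fun _ => (0 : K)))
  rw [hf] at this
  exact not_isUnit_zero this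

theorem ne_zero_and_no_root {a b c : K}
    (hirr : Irreducible (C a * X 0 ^ 2 + C b * (X 0 * X 1) + C c * X 1 ^ 2 :
      MvPolynomial (Fin 2) K)) :
    a ≠ 0 ∧ ∀ t : K, a * t ^ 2 + b * t + c ≠ 0 := by
  constructor
  · rintro rfl
    have hfac : (C 0 * X 0 ^ 2 + C b * (X 0 * X 1) + C c * X 1 ^ 2 : MvPolynomial (Fin 2) K)
        = X 1 * (C b * X 0 + C c * X 1) := by
      rw [map_zero]; ring
    rw [hfac] at hirr
    rcases hirr.isUnit_or_isUnit rfl with h | h
    · exact not_isUnit_of_eval_zero (by simp) h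
    · exact not_isUnit_of_eval_zero (by simp) h
  · intro t ht
    have hfac : (C a * X 0 ^ 2 + C b * (X 0 * X 1) + C c * X 1 ^ 2 : MvPolynomial (Fin 2) K)
        = (X 0 - C t * X 1) * (C a * X 0 + C (b + a * t) * X 1) := by
      have hc : c = -(a * t ^ 2 + b * t) := by linear_combination ht
      rw [hc]
      simp only [map_add, map_mul, map_neg, map_pow]
      ring
    rw [hfac] at hirr
    rcases hirr.isUnit_or_isUnit rfl with h | h
    · exact not_isUnit_of_eval_zero (by simp) h
    · exact not_isUnit_of_eval_zero (by simp) h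

/-- The dehomogenised quadratic polynomial. -/
noncomputable def quadPoly (a b c : K) : Polynomial K :=
  Polynomial.C a * Polynomial.X ^ 2 + Polynomial.C b * Polynomial.X + Polynomial.C c

lemma eval₂_quadPoly {S : Type*} [CommSemiring S] (f : K →+* S) (x : S) (a b c : K) :
    (quadPoly a b c).eval₂ f x = f a * x ^ 2 + f b * x + f c := by
  simp [quadPoly, Polynomial.eval₂_add, Polynomial.eval₂_mul]

lemma natDegree_quadPoly {a b c : K} (ha : a ≠ 0) : (quadPoly a b c).natDegree = 2 :=
  Polynomial.natDegree_quadratic ha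

theorem irreducible_quadPoly {a b c : K} (ha : a ≠ 0) (hroot : ∀ t : K, a * t ^ 2 + b * t + c ≠ 0) :
    Irreducible (quadPoly a b c) := by
  apply Polynomial.irreducible_of_degree_le_three_of_not_isRoot
  · rw [natDegree_quadPoly ha]; simp
  · intro t ht
    apply hroot t
    simpa [quadPoly, Polynomial.IsRoot] using ht

end Groth.Agent.R2.H70.BinQuad
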