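import Groth.Agent.Lib.LeadRadical

/-! # Minimal polynomials of elements of central simple algebras with a power in the base field -/

namespace Groth.Agent.R2.H70.CSAMinpoly

open Polynomial TensorProduct
open Groth.Agent.Lib.LeadCSA

section Star

variable {K : Type*} [Field K] {C : Type*} [Ring C] [Algebra K C] [Algebra.IsCentral K C]
  [IsSimpleRing C] [FiniteDimensional K C]
  {L : Type*} [Field L] [Algebra K L] [FiniteDimensional K L]
  {W : Type*} [AddCommGroup W] [Module K W] [Module C W] [IsScalarTower K C W] [Module L W]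
  [IsScalarTower K L W] [SMulCommClass L C W] [Module.Finite K W]

/-- a module over a central simple `K`-algebra of degree `n` with a compatible `L`-structure has
`K`-dimension divisible by `[L : K] * n` -/
theorem finrank_mul_dvd {n : ℕ} (hn : Module.finrank K C = n ^ 2) :
    Module.finrank K L * n ∣ Module.finrank K W := by
  let _ : Module (L ⊗[K] C) W := TensorProduct.Algebra.module
  have hsm : ∀ (l : L) (c : C) (w : W), (l ⊗ₜ[K] c) • w = l • c • w :=
    TensorProduct.Algebra.smul_def
  have : IsScalarTower L (L ⊗[K] C) W := ⟨fun l t w => by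
    induction t using TensorProduct.induction_on with
    | zero => simp
    | tmul a c => rw [TensorProduct.smul_tmul', hsm, hsm, smul_eq_mul, mul_smul]
    | add t₁ t₂ h₁ h₂ => rw [smul_add, add_smul, add_smul, smul_add, h₁, h₂]⟩
  have : IsSimpleRing (L ⊗[K] C) := isSimpleRing_baseChange L
  have : Module.Finite L W := Module.Finite.of_restrictScalars_finite K L W
  have : IsArtinianRing (L ⊗[K] C) := IsArtinianRing.of_finite L (L ⊗[K] C)
  obtain ⟨s, hs, D', _, _, _, ⟨e⟩⟩ :=
    IsSimpleRing.exists_algEquiv_matrix_divisionRing_finite L (L ⊗[K] C)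
  have h1 := finrank_dvd_of_algEquiv_matrix (k := L) hs.ne e (M := W)
  -- n ∣ s * dim D'
  have h2 : Module.finrank L (L ⊗[K] C) = n ^ 2 := by rw [Module.finrank_baseChange, hn]
  have h3 : Module.finrank L (L ⊗[K] C) = s * s * Module.finrank L D' := by
    rw [e.toLinearEquiv.finrank_eq, Module.finrank_matrix, Fintype.card_fin]
  have h4 : n ∣ s * Module.finrank L D' := by
    have : n ^ 2 ∣ (s * Module.finrank L D') ^ 2 := by
      rw [← h2, h3]
      exact ⟨Module.finrank L D', by ring⟩
    exact (Nat.pow_dvd_pow_iff two_ne_zero).mp this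
  have h5 : n ∣ Module.finrank L W := h4.trans h1
  rw [← Module.finrank_mul_finrank K L W]
  exact Nat.mul_dvd_mul_left _ h5

end Star

section Intertwine

variable {K : Type*} [Field K] {C : Type*} [Ring C] [Algebra K C]
  {W W' : Type*} [AddCommGroup W] [Module K W] [Module C W] [IsScalarTower K C W]
  [AddCommGroup W'] [Module K W'] [Module C W'] [IsScalarTower K C W']

theorem pow_intertwine (φ : W' →ₗ[C] W) (T' : Module.End C W') (T : Module.End C W)
    (h : ∀ w, φ (T' w) = T (φ w)) (n : ℕ) (w : W') : φ ((T' ^ n) w) = (T ^ n) (φ w) := by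
  induction n generalizing w with
  | zero => simp
  | succ n ih => rw [pow_succ, pow_succ, Module.End.mul_apply, Module.End.mul_apply, ih, h]

theorem aeval_intertwine (φ : W' →ₗ[C] W) (T' : Module.End C W') (T : Module.End C W)
    (h : ∀ w, φ (T' w) = T (φ w)) (f : K[X]) (w : W') :
    φ ((aeval T' f) w) = (aeval T f) (φ w) := by
  induction f using Polynomial.induction_on' with
  | add p q hp hq => rw [map_add, map_add, LinearMap.add_apply, LinearMap.add_apply, map_add, hp, hq]
  | monomial n a =>
    rw [aeval_monomial, aeval_monomial, Module.End.mul_apply, Module.End.mul_apply,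
      Module.algebraMap_end_apply, Module.algebraMap_end_apply, ← algebraMap_smul C a,
      map_smul, algebraMap_smul, pow_intertwine φ T' T h]

end Intertwine

section Filtration

universe uK uC v

variable {K : Type uK} [Field K] {C : Type uC} [Ring C] [Algebra K C] [Algebra.IsCentral K C]
  [IsSimpleRing C] [FiniteDimensional K C]

/-- the case of a single irreducible factor -/
theorem finrank_dvd_of_aeval_irreducible_eq_zero {n : ℕ} (hn : Module.finrank K C = n ^ 2)
    {g : K[X]} (hg : Irreducible g)
    (W : Type v) [AddCommGroup W] [Module K W] [Module C W] [IsScalarTower K C W]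
    [Module.Finite K W] (T : Module.End C W) (hT : aeval T g = 0) :
    g.natDegree * n ∣ Module.finrank K W := by
  have : Fact (Irreducible g) := ⟨hg⟩
  have hg0 : g ≠ 0 := hg.ne_zero
  let L := AdjoinRoot g
  have hker : ∀ a : K[X], a ∈ Ideal.span {g} →
      ((aeval T : K[X] →ₐ[K] Module.End C W) : K[X] →+* Module.End C W) a = 0 := by
    intro a ha
    obtain ⟨b, rfl⟩ := Ideal.mem_span_singleton.mp ha
    change aeval T (g * b) = 0
    rw [map_mul, hT, zero_mul]
  let ψ : L →+* Module.End C W :=
    Ideal.Quotient.lift (Ideal.span {g}) ((aeval T : K[X] →ₐ[K] Module.End C W) : K[X] →+* _) hker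
  have hψ : ∀ f : K[X], ψ (AdjoinRoot.mk g f) = aeval T f := fun f => rfl
  let _ : Module L W := Module.compHom W ψ
  have hsm : ∀ (l : L) (w : W), l • w = ψ l w := fun _ _ => rfl
  have : IsScalarTower K L W := ⟨fun a l w => by
    rw [hsm, hsm, Algebra.smul_def, map_mul, AdjoinRoot.algebraMap_eq, AdjoinRoot.of,
      RingHom.comp_apply, hψ, aeval_C, Module.End.mul_apply, Module.algebraMap_end_apply]⟩
  have : SMulCommClass L C W := ⟨fun l c w => by
    rw [hsm, hsm, map_smul]⟩
  have : FiniteDimensional K L := (AdjoinRoot.powerBasis hg0).finite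
  have hr : Module.finrank K L = g.natDegree := by
    rw [(AdjoinRoot.powerBasis hg0).finrank, AdjoinRoot.powerBasis_dim]
  rw [← hr]
  exact finrank_mul_dvd (K := K) (C := C) (L := L) (W := W) hn

/-- filtration argument: if a product of irreducible polynomials of degree `r` kills a
`C`-linear endomorphism of `W`, then `r * n` divides the dimension of `W` -/
theorem finrank_dvd_of_aeval_prod_eq_zero {n r : ℕ} (hn : Module.finrank K C = n ^ 2)
    (F : Multiset K[X]) (hF : ∀ g ∈ F, Irreducible g ∧ g.natDegree = r) :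
    ∀ (W : Type v) [AddCommGroup W] [Module K W] [Module C W] [IsScalarTower K C W]
      [Module.Finite K W] (T : Module.End C W), aeval T F.prod = 0 →
      r * n ∣ Module.finrank K W := by
  induction F using Multiset.induction_on with
  | empty =>
    intro W _ _ _ _ _ T hT
    rw [Multiset.prod_zero, map_one] at hT
    have : Subsingleton W := ⟨fun a b => by
      have h1 : (1 : Module.End C W) a = (1 : Module.End C W) b := by rw [hT]; rfl
      simpa using h1⟩
    rw [Module.finrank_zero_of_subsingleton]
    exact dvd_zero _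
  | cons g F' ih =>
    intro W _ _ _ _ _ T hT
    obtain ⟨hgirr, hgdeg⟩ := hF g (Multiset.mem_cons_self g F')
    have hF' : ∀ g' ∈ F', Irreducible g' ∧ g'.natDegree = r :=
      fun g' hg' => hF g' (Multiset.mem_cons_of_mem hg')
    rw [Multiset.prod_cons] at hT
    set G : Module.End C W := aeval T g with hG
    let W₁ : Submodule C W := LinearMap.range G
    have hcomm : ∀ w, G (T w) = T (G w) := by
      intro w
      have : G * T = T * G := by
        rw [hG]
        have h1 : aeval T (g * X) = aeval T (X * g) := by rw [mul_comm]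
        rwa [map_mul, map_mul, aeval_X] at h1
      exact congrArg (fun φ : Module.End C W => φ w) this
    have hstab : ∀ w ∈ W₁, T w ∈ W₁ := by
      rintro _ ⟨w, rfl⟩
      exact ⟨T w, hcomm w⟩
    -- the submodule
    let T₁ : Module.End C W₁ := T.restrict hstab
    have hT₁ : aeval T₁ F'.prod = 0 := by
      ext ⟨_, w, rfl⟩
      have h := aeval_intertwine (K := K) W₁.subtype T₁ T (fun w => rfl) F'.prod ⟨G w, w, rfl⟩
      rw [LinearMap.zero_apply, ZeroMemClass.coe_zero]
      change (aeval T₁ F'.prod ⟨G w, w, rfl⟩ : W) = 0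
      change ((aeval T₁ F'.prod) ⟨G w, w, rfl⟩ : W) = (aeval T F'.prod) (G w) at h
      rw [h, ← Module.End.mul_apply, hG, ← map_mul, mul_comm, hT, LinearMap.zero_apply]
    have : Module.Finite K W₁ :=
      Module.Finite.of_injective ((W₁.subtype).restrictScalars K) Subtype.val_injective
    have h1 : r * n ∣ Module.finrank K W₁ := ih hF' W₁ T₁ hT₁
    -- the quotient
    have hle : W₁ ≤ W₁.comap T := fun w hw => hstab w hw
    let T₂ : Module.End C (W ⧸ W₁) := W₁.mapQ W₁ T hle
    have hT₂ : aeval T₂ g = 0 := by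
      ext w
      have h := aeval_intertwine (K := K) W₁.mkQ T T₂ (fun w => rfl) g w
      rw [LinearMap.comp_apply, LinearMap.comp_apply, ← h, LinearMap.zero_apply, Submodule.mkQ_apply,
        Submodule.Quotient.mk_eq_zero]
      exact ⟨w, rfl⟩
    have h2 : r * n ∣ Module.finrank K (W ⧸ W₁) := by
      rw [← hgdeg]
      exact finrank_dvd_of_aeval_irreducible_eq_zero hn hgirr (W ⧸ W₁) T₂ hT₂
    have h3 : Module.finrank K (W ⧸ W₁) + Module.finrank K W₁ = Module.finrank K W :=
      (W₁.restrictScalars K).finrank_quotient_add_finrank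
    rw [← h3]
    exact dvd_add h2 h1

end Filtration

section Factors

variable {K : Type*} [Field K] (hK : ∀ n : ℕ, 0 < n → (X ^ n - 1 : K[X]).Splits)

include hK in
/-- monic irreducible factors of `X ^ m - c` over a field containing all roots of unity are of
the form `X ^ d - a`, and all have the same degree -/
theorem factor_X_pow_sub_C {m : ℕ} (hm : 0 < m) {c : K} (hc : c ≠ 0)
    {g g' : K[X]} (hg : Irreducible g) (hgm : g.Monic) (hgd : g ∣ X ^ m - C c)
    (hg' : Irreducible g') (hgm' : g'.Monic) (hgd' : g' ∣ X ^ m - C c) :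
    g'.natDegree ≤ g.natDegree ∧ ∃ a : K, g = X ^ g.natDegree - C a := by
  let Ω := AlgebraicClosure K
  have hroot : ∀ {h : K[X]}, Irreducible h → h.Monic → h ∣ X ^ m - C c →
      ∃ θ : Ω, h = minpoly K θ ∧ θ ^ m = algebraMap K Ω c ∧ θ ≠ 0 := by
    intro h hh hhm hhd
    obtain ⟨θ, hθ⟩ := IsAlgClosed.exists_aeval_eq_zero Ω h (degree_pos_of_irreducible hh).ne'
    have h1 : θ ^ m = algebraMap K Ω c := by
      obtain ⟨q, hq⟩ := hhd
      have : aeval θ (X ^ m - C c : K[X]) = 0 := by rw [hq, map_mul, hθ, zero_mul]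
      simpa [sub_eq_zero] using this
    refine ⟨θ, minpoly.eq_of_irreducible_of_monic hh hθ hhm, h1, ?_⟩
    rintro rfl
    rw [zero_pow hm.ne'] at h1
    exact hc ((algebraMap K Ω).injective (by rw [← h1, map_zero]))
  obtain ⟨θ, hθmin, hθm, hθ0⟩ := hroot hg hgm hgd
  obtain ⟨θ', hθmin', hθm', hθ0'⟩ := hroot hg' hgm' hgd'
  have hint : IsIntegral K θ := Algebra.IsIntegral.isIntegral θ
  have hint' : IsIntegral K θ' := Algebra.IsIntegral.isIntegral θ'
  obtain ⟨a, ha⟩ := pow_natDegree_minpoly_mem_range hK hint hm ⟨c, hθm.symm⟩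
  rw [← hθmin] at ha
  set d := g.natDegree with hd
  have hdpos : 0 < d := Irreducible.natDegree_pos hg
  refine ⟨?_, a, ?_⟩
  · -- θ' = ζ θ with ζ ∈ K
    obtain ⟨z, hz⟩ := rootOfUnity_mem_range hK hm (ζ := θ' / θ) (by
      rw [div_pow, hθm, hθm', div_self]
      rw [← hθm]; exact pow_ne_zero _ hθ0)
    have h1 : θ' ^ d = algebraMap K Ω (z ^ d * a) := by
      rw [map_mul, map_pow, hz, ha, div_pow, div_mul_cancel₀]
      exact pow_ne_zero _ hθ0
    have h2 : g' ∣ X ^ d - C (z ^ d * a) := by
      rw [hθmin']
      apply minpoly.dvd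
      simp [h1]
    have h3 := natDegree_le_of_dvd h2 (X_pow_sub_C_ne_zero hdpos _)
    rwa [natDegree_X_pow_sub_C] at h3
  · have hmon : (X ^ d - C a : K[X]).Monic := monic_X_pow_sub_C a hdpos.ne'
    have hdvd : g ∣ X ^ d - C a := by
      rw [hθmin]
      apply minpoly.dvd
      simp [ha]
    have hdeg : (X ^ d - C a : K[X]).natDegree ≤ g.natDegree := by
      rw [natDegree_X_pow_sub_C]
    exact (eq_of_monic_of_dvd_of_natDegree_le hgm hmon hdvd hdeg).symm

end Factors

section Main

universe u v

variable {K : Type u} [Field K] (hK : ∀ n : ℕ, 0 < n → (X ^ n - 1 : K[X]).Splits)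
  {A : Type v} [Ring A] [Algebra K A] [Algebra.IsCentral K A] [IsSimpleRing A]
  [FiniteDimensional K A]

omit [Algebra.IsCentral K A] [IsSimpleRing A] [FiniteDimensional K A] in
theorem aeval_toSpanSingleton (x : A) (f : K[X]) (w : A) :
    (aeval (LinearMap.toSpanSingleton A A x : Module.End A A) f) w = w * aeval x f := by
  have hpow : ∀ (n : ℕ) (w : A), ((LinearMap.toSpanSingleton A A x : Module.End A A) ^ n) w =
      w * x ^ n := by
    intro n
    induction n with
    | zero => intro w; simp
    | succ n ih =>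
      intro w
      rw [pow_succ, Module.End.mul_apply, ih, LinearMap.toSpanSingleton_apply, smul_eq_mul,
        pow_succ', mul_assoc]
  induction f using Polynomial.induction_on' with
  | add p q hp hq => rw [map_add, map_add, LinearMap.add_apply, hp, hq, mul_add]
  | monomial n a =>
    rw [aeval_monomial, aeval_monomial, Module.End.mul_apply, Module.algebraMap_end_apply, hpow,
      Algebra.algebraMap_eq_smul_one, smul_mul_assoc, one_mul, mul_smul_comm]

include hK in
/-- the minimal polynomial of a unit with a power in the base field is a product of binomials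
`X ^ r - a` with `r ∣ n` -/
theorem minpoly_eq_prod {n : ℕ} (hn : Module.finrank K A = n ^ 2)
    {x : A} (hx : IsUnit x) {m : ℕ} (hm : 0 < m) (hxm : x ^ m ∈ (algebraMap K A).range) :
    ∃ r : ℕ, 0 < r ∧ r ∣ n ∧ ∃ s : Multiset K, minpoly K x = (s.map fun a : K => X ^ r - C a).prod := by
  classical
  have hint : IsIntegral K x := Algebra.IsIntegral.isIntegral x
  set μ := minpoly K x with hμ
  have hμm : μ.Monic := minpoly.monic hint
  have hμ0 : μ ≠ 0 := hμm.ne_zero
  obtain ⟨c, hc⟩ := hxm
  have hc0 : c ≠ 0 := by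
    rintro rfl
    rw [map_zero] at hc
    have h0 : IsUnit (0 : A) := hc ▸ hx.pow m
    exact not_isUnit_zero h0
  have hμd : μ ∣ X ^ m - C c := by
    apply minpoly.dvd
    simp [hc]
  set F := UniqueFactorizationMonoid.normalizedFactors μ with hF
  have hFprod : F.prod = μ := by
    rw [hF, UniqueFactorizationMonoid.prod_normalizedFactors_eq hμ0, hμm.normalize_eq_self]
  have hFirr : ∀ g ∈ F, Irreducible g := fun g hg =>
    UniqueFactorizationMonoid.irreducible_of_normalized_factor g hg
  have hFmon : ∀ g ∈ F, g.Monic := fun g hg => by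
    have h1 := UniqueFactorizationMonoid.normalize_normalized_factor g hg
    rw [← h1]
    exact monic_normalize (hFirr g hg).ne_zero
  have hFd : ∀ g ∈ F, g ∣ X ^ m - C c := fun g hg =>
    (UniqueFactorizationMonoid.dvd_of_mem_normalizedFactors hg).trans hμd
  have hFne : F ≠ 0 := by
    intro h0
    rw [h0, Multiset.prod_zero] at hFprod
    exact minpoly.not_isUnit K x (by rw [← hμ, ← hFprod]; exact isUnit_one)
  obtain ⟨g₀, hg₀⟩ := Multiset.exists_mem_of_ne_zero hFne
  set r := g₀.natDegree with hr
  have hrpos : 0 < r := Irreducible.natDegree_pos (hFirr g₀ hg₀)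
  have hdeg : ∀ g ∈ F, g.natDegree = r := fun g hg =>
    le_antisymm
      (factor_X_pow_sub_C hK hm hc0 (hFirr g₀ hg₀) (hFmon g₀ hg₀) (hFd g₀ hg₀)
        (hFirr g hg) (hFmon g hg) (hFd g hg)).1
      (factor_X_pow_sub_C hK hm hc0 (hFirr g hg) (hFmon g hg) (hFd g hg)
        (hFirr g₀ hg₀) (hFmon g₀ hg₀) (hFd g₀ hg₀)).1
  have hform : ∀ g ∈ F, ∃ a : K, g = X ^ r - C a := fun g hg => by
    obtain ⟨a, ha⟩ := (factor_X_pow_sub_C hK hm hc0 (hFirr g hg) (hFmon g hg) (hFd g hg)
      (hFirr g hg) (hFmon g hg) (hFd g hg)).2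
    rw [hdeg g hg] at ha
    exact ⟨a, ha⟩
  refine ⟨r, hrpos, ?_, ?_⟩
  · -- r ∣ n
    have hT : aeval (LinearMap.toSpanSingleton A A x : Module.End A A) F.prod = 0 := by
      ext
      rw [aeval_toSpanSingleton, hFprod, hμ, minpoly.aeval]
      simp
    have h1 := finrank_dvd_of_aeval_prod_eq_zero (K := K) (C := A) hn F
      (fun g hg => ⟨hFirr g hg, hdeg g hg⟩) A (LinearMap.toSpanSingleton A A x) hT
    rw [hn, pow_two] at h1
    have hn0 : 0 < n := by
      rcases Nat.eq_zero_or_pos n with h0 | h0
      · rw [h0] at hn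
        have := Module.finrank_pos (R := K) (M := A)
        omega
      · exact h0
    exact Nat.dvd_of_mul_dvd_mul_right hn0 h1
  · refine ⟨F.map (fun g => - g.coeff 0), ?_⟩
    rw [Multiset.map_map, ← hFprod]
    congr 1
    have : ∀ g ∈ F, ((fun a : K => (X ^ r - C a : K[X])) ∘ fun g : K[X] => - g.coeff 0) g = id g := by
      intro g hg
      obtain ⟨a, ha⟩ := hform g hg
      simp only [Function.comp, id]
      rw [ha]
      have : ¬ (0 = r) := hrpos.ne
      simp [this]
    rw [Multiset.map_congr rfl this, Multiset.map_id]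

end Main

end Groth.Agent.R2.H70.CSAMinpoly
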