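import Mathlib

/-!
# de Rham complex of a polynomial ring in characteristic zero (helper70)

Abstract Poincaré lemma: for `A = k[x_1..x_n]`, `char k = 0`, any `k`-linear `d` on `⋀_A Ω_{A/k}`
which extends the universal derivation, is a graded derivation and squares to zero has exact
associated complex.  Proof by the Euler homotopy: `L = d ι_e + ι_e d` acts on monomial forms of
weight `w` by `w`.
-/

set_option autoImplicit false
universe u

namespace Groth.Agent.R2.H70.DeRham

open MvPolynomial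

variable (k : Type u) [Field k] (n : ℕ)

/-- Euler derivation `∑ x_i ∂_i`. -/
noncomputable def eulerDer : Derivation k (MvPolynomial (Fin n) k) (MvPolynomial (Fin n) k) :=
  ∑ i, (X i : MvPolynomial (Fin n) k) • (pderiv i : Derivation k (MvPolynomial (Fin n) k) (MvPolynomial (Fin n) k))

lemma eulerDer_apply (a : MvPolynomial (Fin n) k) :
    eulerDer k n a = ∑ i, X i * pderiv i a := by
  have h1 : Derivation.coeFnAddMonoidHom (eulerDer k n) =
      ∑ i, Derivation.coeFnAddMonoidHom ((X i : MvPolynomial (Fin n) k) •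
        (pderiv i : Derivation k (MvPolynomial (Fin n) k) (MvPolynomial (Fin n) k))) := by
    rw [eulerDer, map_sum]
  have h2 := congrFun h1 a
  simpa [Finset.sum_apply, Derivation.coeFnAddMonoidHom_apply] using h2

lemma eulerDer_of_isHomogeneous {a : MvPolynomial (Fin n) k} {m : ℕ} (h : a.IsHomogeneous m) :
    eulerDer k n a = m • a := by
  rw [eulerDer_apply, h.sum_X_mul_pderiv]

lemma eulerDer_X (i : Fin n) : eulerDer k n (X i) = X i := by
  rw [eulerDer_of_isHomogeneous k n (isHomogeneous_X k i), one_smul]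

/-- The Euler linear form on Kähler differentials. -/
noncomputable def eulerForm :
    KaehlerDifferential k (MvPolynomial (Fin n) k) →ₗ[MvPolynomial (Fin n) k] MvPolynomial (Fin n) k :=
  (eulerDer k n).liftKaehlerDifferential

lemma eulerForm_D (a : MvPolynomial (Fin n) k) :
    eulerForm k n (KaehlerDifferential.D k _ a) = eulerDer k n a :=
  Derivation.liftKaehlerDifferential_comp_D _ _

section Main

variable {k n}

local notation "PA" => MvPolynomial (Fin n) k
local notation "Om" => KaehlerDifferential k (MvPolynomial (Fin n) k)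
local notation "EA" => ExteriorAlgebra (MvPolynomial (Fin n) k)
  (KaehlerDifferential k (MvPolynomial (Fin n) k))

/-- Contraction with the Euler form. -/
noncomputable def ie : EA →ₗ[PA] EA :=
  CliffordAlgebra.contractLeft (Q := (0 : QuadraticForm PA Om)) (eulerForm k n)

lemma ie_ι_mul (v : Om) (η : EA) :
    ie (ExteriorAlgebra.ι PA v * η) = eulerForm k n v • η - ExteriorAlgebra.ι PA v * ie η := by
  unfold ie
  exact CliffordAlgebra.contractLeft_ι_mul _ _ _

lemma ie_algebraMap_mul (a : PA) (η : EA) :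
    ie (algebraMap PA EA a * η) = algebraMap PA EA a * ie η := by
  unfold ie
  exact CliffordAlgebra.contractLeft_algebraMap_mul _ _ _

lemma ie_algebraMap (a : PA) : ie (algebraMap PA EA a) = 0 := by
  unfold ie
  exact CliffordAlgebra.contractLeft_algebraMap _ _ _

lemma ie_one : ie (k := k) (n := n) 1 = 0 := by
  unfold ie
  exact CliffordAlgebra.contractLeft_one _ _

/-- The axioms of a de Rham differential. -/
structure IsDR (d : EA →ₗ[k] EA) : Prop where
  h0 : ∀ a : PA, d (algebraMap PA EA a) = ExteriorAlgebra.ι PA (KaehlerDifferential.D k PA a)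
  hder : ∀ (p : ℕ) (ω η : EA), ω ∈ ⋀[PA]^p Om → d (ω * η) = d ω * η + (-1) ^ p * ω * d η
  hdd : ∀ ω, d (d ω) = 0


lemma algebraMap_mem_zero (a : PA) : algebraMap PA EA a ∈ ⋀[PA]^0 Om := by
  rw [ExteriorAlgebra.exteriorPower, pow_zero]; exact Submodule.algebraMap_mem _

lemma ι_mem_one (v : Om) : ExteriorAlgebra.ι PA v ∈ ⋀[PA]^1 Om := by
  rw [ExteriorAlgebra.exteriorPower, pow_one]; exact LinearMap.mem_range_self _ _

lemma IsDR.d_algebraMap_mul {d : EA →ₗ[k] EA} (hd : IsDR d) (a : PA) (η : EA) :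
    d (algebraMap PA EA a * η) =
      ExteriorAlgebra.ι PA (KaehlerDifferential.D k PA a) * η + algebraMap PA EA a * d η := by
  have h := hd.hder 0 (algebraMap PA EA a) η (algebraMap_mem_zero a)
  rw [h, hd.h0, pow_zero, one_mul]

lemma IsDR.d_ι_D {d : EA →ₗ[k] EA} (hd : IsDR d) (x : PA) : d (ExteriorAlgebra.ι PA (KaehlerDifferential.D k PA x)) = 0 := by
  rw [← hd.h0, hd.hdd]

lemma IsDR.d_ι_D_mul {d : EA →ₗ[k] EA} (hd : IsDR d) (x : PA) (η : EA) :
    d (ExteriorAlgebra.ι PA (KaehlerDifferential.D k PA x) * η) =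
      -(ExteriorAlgebra.ι PA (KaehlerDifferential.D k PA x) * d η) := by
  have h := hd.hder 1 (ExteriorAlgebra.ι PA (KaehlerDifferential.D k PA x)) η (ι_mem_one _)
  rw [h, hd.d_ι_D, zero_mul, zero_add, pow_one, neg_one_mul, neg_mul]

/-- The "Lie derivative" along the Euler field. -/
noncomputable def Lop (d : EA →ₗ[k] EA) : EA →ₗ[k] EA :=
  d ∘ₗ (ie.restrictScalars k) + (ie.restrictScalars k) ∘ₗ d

lemma Lop_apply (d : EA →ₗ[k] EA) (ω : EA) : Lop d ω = d (ie ω) + ie (d ω) := rfl

lemma IsDR.Lop_one {d : EA →ₗ[k] EA} (hd : IsDR d) : Lop d (1 : EA) = 0 := by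
  rw [Lop_apply, ie_one, map_zero, zero_add]
  have : (1 : EA) = algebraMap PA EA 1 := (map_one _).symm
  rw [this, hd.h0, Derivation.map_one_eq_zero, map_zero, map_zero]

lemma IsDR.Lop_algebraMap_mul {d : EA →ₗ[k] EA} (hd : IsDR d) (a : PA) (η : EA) :
    Lop d (algebraMap PA EA a * η) = algebraMap PA EA (eulerDer k n a) * η +
      algebraMap PA EA a * Lop d η := by
  rw [Lop_apply, Lop_apply, ie_algebraMap_mul, hd.d_algebraMap_mul, hd.d_algebraMap_mul, map_add,
    ie_ι_mul, ie_algebraMap_mul, eulerForm_D, Algebra.smul_def]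
  noncomm_ring

lemma IsDR.Lop_ι_D_mul {d : EA →ₗ[k] EA} (hd : IsDR d) (x : PA) (η : EA) :
    Lop d (ExteriorAlgebra.ι PA (KaehlerDifferential.D k PA x) * η) =
      ExteriorAlgebra.ι PA (KaehlerDifferential.D k PA (eulerDer k n x)) * η +
      ExteriorAlgebra.ι PA (KaehlerDifferential.D k PA x) * Lop d η := by
  rw [Lop_apply, Lop_apply, ie_ι_mul, map_sub, hd.d_ι_D_mul, hd.d_ι_D_mul, map_neg, ie_ι_mul,
    eulerForm_D, Algebra.smul_def, hd.d_algebraMap_mul, Algebra.smul_def]
  noncomm_ring

/-- Product of the `dx_i` along a list. -/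
noncomputable def dxl (l : List (Fin n)) : EA :=
  (l.map fun i => ExteriorAlgebra.ι PA (KaehlerDifferential.D k PA (X i))).prod

lemma dxl_nil : dxl (k := k) (n := n) [] = 1 := by simp [dxl]

lemma dxl_cons (i : Fin n) (l : List (Fin n)) :
    dxl (k := k) (i :: l) = ExteriorAlgebra.ι PA (KaehlerDifferential.D k PA (X i)) * dxl l := by
  simp [dxl]

lemma dxl_mem (l : List (Fin n)) : dxl (k := k) l ∈ ⋀[PA]^l.length Om := by
  induction l with
  | nil =>
    rw [dxl_nil, List.length_nil, ExteriorAlgebra.exteriorPower, pow_zero]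
    exact Submodule.one_le.mp le_rfl
  | cons i l ih =>
    rw [dxl_cons, List.length_cons, ExteriorAlgebra.exteriorPower, pow_succ']
    exact Submodule.mul_mem_mul (LinearMap.mem_range_self _ _) ih

lemma IsDR.Lop_dxl {d : EA →ₗ[k] EA} (hd : IsDR d) (l : List (Fin n)) :
    Lop d (dxl l) = l.length • dxl l := by
  induction l with
  | nil => rw [dxl_nil, hd.Lop_one, List.length_nil, zero_smul]
  | cons i l ih =>
    rw [dxl_cons, hd.Lop_ι_D_mul, eulerDer_X, ih, List.length_cons, succ_nsmul, mul_smul_comm,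
      add_comm]

lemma IsDR.Lop_hom_mul {d : EA →ₗ[k] EA} (hd : IsDR d) {a : PA} {m : ℕ} (ha : a.IsHomogeneous m)
    {η : EA} {w : ℕ} (hη : Lop d η = w • η) :
    Lop d (algebraMap PA EA a * η) = (m + w) • (algebraMap PA EA a * η) := by
  rw [hd.Lop_algebraMap_mul, eulerDer_of_isHomogeneous k n ha, hη, map_nsmul, smul_mul_assoc,
    mul_smul_comm, add_smul]

/-- Weight pieces of the exterior power. -/
noncomputable def Wsub (d : EA →ₗ[k] EA) (p j : ℕ) : Submodule k EA :=
  (⋀[PA]^p Om).restrictScalars k ⊓ Module.End.eigenspace (Lop d) ((p + j : ℕ) : k)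

lemma mem_Wsub {d : EA →ₗ[k] EA} {p j : ℕ} {ω : EA} :
    ω ∈ Wsub d p j ↔ ω ∈ ⋀[PA]^p Om ∧ Lop d ω = (p + j) • ω := by
  rw [Wsub, Submodule.mem_inf, Submodule.restrictScalars_mem, Module.End.mem_eigenspace_iff,
    Nat.cast_smul_eq_nsmul]

lemma span_D_X :
    Submodule.span PA (Set.range fun i : Fin n => KaehlerDifferential.D k PA (X i)) = ⊤ := by
  have h := (KaehlerDifferential.mvPolynomialBasis k (Fin n)).span_eq
  have h2 : Set.range (KaehlerDifferential.mvPolynomialBasis k (Fin n)) =
      Set.range fun i : Fin n => KaehlerDifferential.D k PA (X i) := by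
    congr 1; ext i; exact KaehlerDifferential.mvPolynomialBasis_apply k (Fin n) i
  rw [← h2]; exact h

lemma IsDR.extPow_le_iSup {d : EA →ₗ[k] EA} (hd : IsDR d) (p : ℕ) (ω : EA)
    (hω : ω ∈ ⋀[PA]^p Om) : ω ∈ ⨆ j, Wsub d p j := by
  rw [← exteriorPower.ιMulti_span_fixedDegree_of_span_eq_top PA p Om span_D_X] at hω
  induction hω using Submodule.span_induction with
  | mem x hx =>
    obtain ⟨a, ha, rfl⟩ := hx
    choose f hf using fun j => ha (Set.mem_range_self j)
    have h1 : ExteriorAlgebra.ιMulti PA p a = dxl (List.ofFn f) := by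
      rw [ExteriorAlgebra.ιMulti_apply, dxl, List.map_ofFn]
      congr 2
      ext j
      simp [hf]
    rw [h1]
    refine Submodule.mem_iSup_of_mem 0 (mem_Wsub.2 ⟨?_, ?_⟩)
    · have := dxl_mem (k := k) (List.ofFn f)
      rwa [List.length_ofFn] at this
    · rw [hd.Lop_dxl, List.length_ofFn, add_zero]
  | zero => exact zero_mem _
  | add x y _ _ hx hy => exact add_mem hx hy
  | smul a x _ hx =>
    refine Submodule.iSup_induction (fun j => Wsub d p j)
      (motive := fun x => a • x ∈ ⨆ j, Wsub d p j) hx ?_ ?_ ?_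
    · intro j x hxj
      rw [← MvPolynomial.sum_homogeneousComponent a, Finset.sum_smul]
      refine Submodule.sum_mem _ fun m _ => ?_
      refine Submodule.mem_iSup_of_mem (m + j)
        (mem_Wsub.2 ⟨Submodule.smul_mem _ _ (mem_Wsub.1 hxj).1, ?_⟩)
      rw [Algebra.smul_def, hd.Lop_hom_mul (homogeneousComponent_isHomogeneous m a)
        (mem_Wsub.1 hxj).2]
      congr 1
      ring
    · simp
    · intro x y hx hy
      rw [smul_add]
      exact add_mem hx hy

lemma prod_ι_mem (l : List Om) :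
    (l.map (ExteriorAlgebra.ι PA)).prod ∈ ⋀[PA]^l.length Om := by
  induction l with
  | nil =>
    rw [List.map_nil, List.prod_nil, List.length_nil, ExteriorAlgebra.exteriorPower, pow_zero]
    exact Submodule.one_le.mp le_rfl
  | cons v l ih =>
    rw [List.map_cons, List.prod_cons, List.length_cons, ExteriorAlgebra.exteriorPower, pow_succ']
    exact Submodule.mul_mem_mul (LinearMap.mem_range_self _ _) ih

lemma ie_prod_ι_mem (l : List Om) (q : ℕ) (hl : l.length = q + 1) :
    ie ((l.map (ExteriorAlgebra.ι PA)).prod) ∈ ⋀[PA]^q Om := by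
  induction l generalizing q with
  | nil => simp at hl
  | cons v l ih =>
    rw [List.map_cons, List.prod_cons, ie_ι_mul]
    have hlq : l.length = q := by simpa using hl
    refine Submodule.sub_mem _ (Submodule.smul_mem _ _ (hlq ▸ prod_ι_mem l)) ?_
    cases q with
    | zero =>
      have : l = [] := List.length_eq_zero_iff.mp hlq
      subst this
      rw [List.map_nil, List.prod_nil, ie_one, mul_zero]
      exact zero_mem _
    | succ q' =>
      have h1 := ih q' hlq
      rw [ExteriorAlgebra.exteriorPower, pow_succ']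
      exact Submodule.mul_mem_mul (LinearMap.mem_range_self _ _) h1

lemma ie_mem (p : ℕ) {ω : EA} (hω : ω ∈ ⋀[PA]^(p + 1) Om) : ie ω ∈ ⋀[PA]^p Om := by
  rw [← ExteriorAlgebra.ιMulti_span_fixedDegree] at hω
  induction hω using Submodule.span_induction with
  | mem x hx =>
    obtain ⟨v, rfl⟩ := hx
    rw [ExteriorAlgebra.ιMulti_apply]
    have h := ie_prod_ι_mem (k := k) (n := n) (List.ofFn v) p (List.length_ofFn)
    rwa [List.map_ofFn] at h
  | zero => rw [map_zero]; exact zero_mem _
  | add x y _ _ hx hy => rw [map_add]; exact add_mem hx hy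
  | smul a x _ hx => rw [map_smul]; exact Submodule.smul_mem _ _ hx

lemma IsDR.Lop_d {d : EA →ₗ[k] EA} (hd : IsDR d) (x : EA) : Lop d (d x) = d (Lop d x) := by
  rw [Lop_apply, Lop_apply, hd.hdd, map_zero, add_zero, map_add, hd.hdd, zero_add]

theorem IsDR.exact [CharZero k] {d : EA →ₗ[k] EA} (hd : IsDR d) (p : ℕ) (ω : EA)
    (hω : ω ∈ ⋀[PA]^(p + 1) Om) (hdω : d ω = 0) :
    ∃ θ ∈ ⋀[PA]^p Om, d θ = ω := by
  classical
  have h1 := hd.extPow_le_iSup (p + 1) ω hω
  obtain ⟨f, hf, rfl⟩ := (Submodule.mem_iSup_iff_exists_finsupp _ _).1 h1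
  have hμ : Function.Injective fun j : ℕ => ((p + 1 + j : ℕ) : k) := by
    intro i j hij
    have := Nat.cast_injective (R := k) hij
    omega
  have hindep := (Module.End.eigenspaces_iSupIndep (Lop d)).comp hμ
  have hfj : ∀ j, Lop d (f j) = (p + 1 + j) • f j := fun j => (mem_Wsub.1 (hf j)).2
  have hz := (iSupIndep_iff_finsetSum_eq_zero_imp_eq_zero _).1 hindep f.support
    (fun j => d (f j))
    (fun j _ => by
      show d (f j) ∈ Module.End.eigenspace (Lop d) ((p + 1 + j : ℕ) : k)
      rw [Module.End.mem_eigenspace_iff, hd.Lop_d, hfj, Nat.cast_smul_eq_nsmul, map_nsmul])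
    (by
      rw [← map_sum]
      exact hdω)
  refine ⟨∑ j ∈ f.support, (((p + 1 + j : ℕ) : k)⁻¹) • ie (f j), ?_, ?_⟩
  · have hmem : ∀ j ∈ f.support, (((p + 1 + j : ℕ) : k)⁻¹) • ie (f j) ∈
        (⋀[PA]^p Om).restrictScalars k := fun j _ =>
      Submodule.smul_mem _ _ (ie_mem p (mem_Wsub.1 (hf j)).1)
    exact Submodule.sum_mem ((⋀[PA]^p Om).restrictScalars k) hmem
  · rw [map_sum, Finsupp.sum]
    refine Finset.sum_congr rfl fun j hj => ?_
    have h2 : d (ie (f j)) = (p + 1 + j) • f j := by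
      have := hfj j
      rw [Lop_apply, hz j hj, map_zero, add_zero] at this
      exact this
    rw [map_smul, h2, ← Nat.cast_smul_eq_nsmul k, smul_smul, inv_mul_cancel₀, one_smul]
    exact_mod_cast Nat.succ_ne_zero (p + j) ∘ (by omega : p + 1 + j = 0 → (p + j).succ = 0)

theorem IsDR.const_of_closed [CharZero k] {d : EA →ₗ[k] EA} (hd : IsDR d) (a : PA)
    (ha : d (algebraMap PA EA a) = 0) : ∃ c : k, a = C c := by
  classical
  rw [hd.h0, ExteriorAlgebra.ι_eq_zero_iff] at ha
  have hp : ∀ i, pderiv i a = 0 := by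
    intro i
    have := KaehlerDifferential.mvPolynomialBasis_repr_apply k (Fin n) a i
    rw [ha, map_zero] at this
    exact this.symm
  refine ⟨coeff 0 a, ?_⟩
  ext s
  rw [coeff_C]
  split_ifs with h0
  · rw [← h0]
  · have : ∃ i, s i ≠ 0 := by
      by_contra hcon
      push Not at hcon
      exact h0 (Finsupp.ext fun i => (hcon i).symm ▸ rfl)
    obtain ⟨i, hi⟩ := this
    obtain ⟨m, hm⟩ : ∃ m : Fin n →₀ ℕ, m = s - Finsupp.single i 1 := ⟨_, rfl⟩
    have h1 := coeff_pderiv (i := i) a m
    have hs : m + Finsupp.single i 1 = s := by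
      rw [hm]
      ext j
      by_cases hj : j = i
      · subst hj
        simp only [Finsupp.coe_add, Finsupp.coe_tsub, Pi.add_apply, Pi.sub_apply,
          Finsupp.single_eq_same]
        omega
      · simp [Finsupp.single_eq_of_ne hj]
    rw [hp i, coeff_zero, hs] at h1
    have h3 : ((m i : ℕ) : k) + 1 ≠ 0 := by
      exact_mod_cast Nat.succ_ne_zero (m i)
    exact (mul_eq_zero.mp h1.symm).resolve_right h3

end Main

end Groth.Agent.R2.H70.DeRham
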