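import Mathlib

/-!
# helper70: a module presented by one relation on two generators

`M = F2 / span{v}` with `F2` free of rank two over a Noetherian local domain `A`.
The non-free locus of `M` is `V(I)` with `I` the ideal of coordinates of `v`,
and Krull's height theorem bounds the height of a minimal prime of `I` by two.
-/

set_option autoImplicit false

namespace Groth.Agent.R2.H70.KaehlerPres

open IsLocalRing

/-- Lemma K: over a local ring, if `g : F → M` is surjective with kernel contained in `span {v}`,
`g v = 0`, `v ∈ 𝔪 • ⊤` and `M` is projective, then `v = 0`. -/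
theorem eq_zero_of_projective {A F M : Type*} [CommRing A] [IsLocalRing A]
    [AddCommGroup F] [Module A F] [AddCommGroup M] [Module A M] [Module.Projective A M]
    (g : F →ₗ[A] M) (hg : Function.Surjective g) (v : F) (hv : g v = 0)
    (hker : LinearMap.ker g ≤ Submodule.span A {v})
    (hvm : v ∈ maximalIdeal A • (⊤ : Submodule A F)) : v = 0 := by
  obtain ⟨s, hs⟩ := Module.projective_lifting_property g LinearMap.id hg
  have hs' : ∀ x, g (s x) = x := fun x => by
    have := LinearMap.congr_fun hs x
    simpa using this
  -- the projection onto the kernel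
  let π : F →ₗ[A] F := LinearMap.id - s ∘ₗ g
  have hπker : ∀ x, π x ∈ LinearMap.ker g := by
    intro x
    simp [π, hs']
  have hπv : π v = v := by simp [π, hv]
  -- π maps 𝔪 • ⊤ into 𝔪 • span{v}
  have key : ∀ x ∈ maximalIdeal A • (⊤ : Submodule A F),
      π x ∈ maximalIdeal A • Submodule.span A {v} := by
    intro x hx
    refine Submodule.smul_induction_on hx ?_ ?_
    · intro r hr n _
      rw [map_smul]
      exact Submodule.smul_mem_smul hr (hker (hπker n))
    · intro x y hx hy
      rw [map_add]
      exact add_mem hx hy
  have h1 := key v hvm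
  rw [hπv, Submodule.mem_smul_span_singleton] at h1
  obtain ⟨μ, hμ, hμv⟩ := h1
  have hunit : IsUnit (1 - μ) := by
    have : ¬ IsUnit μ := hμ
    have h2 := IsLocalRing.isUnit_or_isUnit_of_add_one (a := μ) (b := 1 - μ) (by ring)
    exact h2.resolve_left this
  have h0 : (1 - μ) • v = 0 := by
    rw [sub_smul, one_smul, hμv, sub_self]
  exact (hunit.smul_eq_zero).mp h0

/-- Lemma U0: if the `0`-coordinate of `v` is a unit then `F2 / span{v}` is free. -/
theorem free_of_isUnit_coord_zero {A F2 M : Type*} [CommRing A]
    [AddCommGroup F2] [Module A F2] [AddCommGroup M] [Module A M]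
    (b2 : Module.Basis (Fin 2) A F2) (v : F2) (hu : IsUnit (b2.repr v 0))
    (g : F2 →ₗ[A] M) (hg : Function.Surjective g)
    (hker : LinearMap.ker g = Submodule.span A {v}) : Module.Free A M := by
  obtain ⟨d, hd⟩ := hu.exists_right_inv
  set c := b2.repr v 0 with hc
  set e := b2.repr v 1 with he
  let φ : F2 →ₗ[A] A := b2.coord 1 - (e * d) • b2.coord 0
  have hφ_apply : ∀ x, φ x = b2.repr x 1 - e * d * b2.repr x 0 := by
    intro x; simp [φ]
  have hφsurj : Function.Surjective φ := by
    intro r
    refine ⟨r • b2 1, ?_⟩
    rw [hφ_apply]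
    simp
  have hkerφ : LinearMap.ker φ = Submodule.span A {v} := by
    apply le_antisymm
    · intro x hx
      rw [LinearMap.mem_ker, hφ_apply] at hx
      rw [Submodule.mem_span_singleton]
      refine ⟨d * b2.repr x 0, ?_⟩
      apply b2.ext_elem
      intro i
      fin_cases i
      · simp only [map_smul, Finsupp.smul_apply, smul_eq_mul, Fin.zero_eta]
        rw [← hc]
        calc d * b2.repr x 0 * c = (c * d) * b2.repr x 0 := by ring
          _ = b2.repr x 0 := by rw [hd, one_mul]
      · simp only [map_smul, Finsupp.smul_apply, smul_eq_mul, Fin.mk_one]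
        rw [← he]
        have : b2.repr x 1 = e * d * b2.repr x 0 := sub_eq_zero.mp hx
        rw [this]; ring
    · rw [Submodule.span_singleton_le_iff_mem, LinearMap.mem_ker, hφ_apply, ← hc, ← he]
      calc e - e * d * c = e - e * (c * d) := by ring
        _ = 0 := by rw [hd]; ring
  have e1 : (F2 ⧸ LinearMap.ker g) ≃ₗ[A] M := g.quotKerEquivOfSurjective hg
  have e2 : (F2 ⧸ LinearMap.ker φ) ≃ₗ[A] A := φ.quotKerEquivOfSurjective hφsurj
  have e3 : (F2 ⧸ LinearMap.ker g) ≃ₗ[A] (F2 ⧸ LinearMap.ker φ) :=
    Submodule.quotEquivOfEq _ _ (by rw [hker, hkerφ])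
  exact Module.Free.of_equiv (e2.symm.trans (e3.symm.trans e1))

/-- Lemma U: if some coordinate of `v` is a unit then `F2 / span{v}` is free. -/
theorem free_of_isUnit_coord {A F2 M : Type*} [CommRing A]
    [AddCommGroup F2] [Module A F2] [AddCommGroup M] [Module A M]
    (b2 : Module.Basis (Fin 2) A F2) (v : F2) (i : Fin 2) (hu : IsUnit (b2.repr v i))
    (g : F2 →ₗ[A] M) (hg : Function.Surjective g)
    (hker : LinearMap.ker g = Submodule.span A {v}) : Module.Free A M := by
  fin_cases i
  · exact free_of_isUnit_coord_zero b2 v hu g hg hker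
  · refine free_of_isUnit_coord_zero (b2.reindex (Equiv.swap 0 1)) v ?_ g hg hker
    simpa [Module.Basis.repr_reindex_apply] using hu

/-- Lemma K': localized version. If all coordinates of `v` lie in the prime `P` and the
localization of `M = F2/span{v}` at `P` is free, then `v = 0`. -/
theorem eq_zero_of_free_localization {A F2 M : Type*} [CommRing A] [IsDomain A]
    [AddCommGroup F2] [Module A F2] [AddCommGroup M] [Module A M]
    (b2 : Module.Basis (Fin 2) A F2) (v : F2)
    (g : F2 →ₗ[A] M) (hg : Function.Surjective g)
    (hker : LinearMap.ker g = Submodule.span A {v})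
    (P : Ideal A) [P.IsPrime] (hP : ∀ i, b2.repr v i ∈ P)
    (hfree : Module.Free (Localization.AtPrime P) (LocalizedModule P.primeCompl M)) :
    v = 0 := by
  have : Module.Free A F2 := Module.Free.of_basis b2
  let S := P.primeCompl
  let g' : LocalizedModule S F2 →ₗ[Localization S] LocalizedModule S M := LocalizedModule.map S g
  have hg' : Function.Surjective g' := LocalizedModule.map_surjective S g hg
  let v' : LocalizedModule S F2 := LocalizedModule.mk v 1
  have hv' : g' v' = 0 := by
    have hv0 : g v = 0 := by
      have : v ∈ LinearMap.ker g := by rw [hker]; exact Submodule.mem_span_singleton_self v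
      exact this
    simp [g', v', LocalizedModule.map_mk, hv0]
  have hker' : LinearMap.ker g' ≤ Submodule.span (Localization S) {v'} := by
    intro x hx
    induction x using LocalizedModule.induction_on with
    | h m s =>
      rw [LinearMap.mem_ker] at hx
      simp only [g', LocalizedModule.map_mk] at hx
      rw [← LocalizedModule.zero_mk s, LocalizedModule.mk_eq] at hx
      obtain ⟨t, ht⟩ := hx
      rw [smul_zero, smul_zero] at ht
      have h1 : (t * s) • m ∈ LinearMap.ker g := by
        rw [LinearMap.mem_ker, Submonoid.smul_def, Submonoid.coe_mul, map_smul, mul_smul]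
        exact ht
      rw [hker, Submodule.mem_span_singleton] at h1
      obtain ⟨c, hc⟩ := h1
      rw [Submodule.mem_span_singleton]
      refine ⟨Localization.mk c ((t * s) * s), ?_⟩
      simp only [v']
      rw [LocalizedModule.mk_smul_mk, mul_one, hc, LocalizedModule.mk_cancel_common_left]
  have hvm : v' ∈ maximalIdeal (Localization S) • (⊤ : Submodule (Localization S) (LocalizedModule S F2)) := by
    have hvsum : v = b2.repr v 0 • b2 0 + b2.repr v 1 • b2 1 := by
      conv_lhs => rw [← b2.sum_repr v, Fin.sum_univ_two]
    have hmem : ∀ i, algebraMap A (Localization S) (b2.repr v i) ∈ maximalIdeal (Localization S) := by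
      intro i
      exact (IsLocalization.AtPrime.to_map_mem_maximal_iff (Localization S) P _).mpr (hP i)
    have : v' = algebraMap A (Localization S) (b2.repr v 0) • LocalizedModule.mk (b2 0) (1 : S)
        + algebraMap A (Localization S) (b2.repr v 1) • LocalizedModule.mk (b2 1) (1 : S) := by
      simp only [v']
      conv_lhs => rw [hvsum]
      rw [← Localization.mk_one_eq_algebraMap, ← Localization.mk_one_eq_algebraMap,
        LocalizedModule.mk_smul_mk, LocalizedModule.mk_smul_mk, LocalizedModule.mk_add_mk]
      simp
    rw [this]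
    exact add_mem (Submodule.smul_mem_smul (hmem 0) Submodule.mem_top)
      (Submodule.smul_mem_smul (hmem 1) Submodule.mem_top)
  have hproj : Module.Projective (Localization S) (LocalizedModule S M) := by
    have : Module.Free (Localization S) (LocalizedModule S M) := hfree
    infer_instance
  have hv0 : v' = 0 := eq_zero_of_projective g' hg' v' hv' hker' hvm
  simp only [v'] at hv0
  rw [← LocalizedModule.zero_mk (1 : S), LocalizedModule.mk_eq] at hv0
  obtain ⟨t, ht⟩ := hv0
  simp only [one_smul, smul_zero] at ht
  have ht0 : (t : A) ≠ 0 := fun h => t.2 (by rw [h]; exact P.zero_mem)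
  have : (t : A) • v = 0 := ht
  exact (smul_eq_zero.mp this).resolve_left ht0

/-- Main abstract theorem. -/
theorem exists_prime_not_free {A F1 F2 M : Type*} [CommRing A] [IsDomain A] [IsNoetherianRing A]
    [IsLocalRing A] [AddCommGroup F1] [Module A F1] [AddCommGroup F2] [Module A F2]
    [AddCommGroup M] [Module A M]
    (f : F1 →ₗ[A] F2) (g : F2 →ₗ[A] M) (hfg : Function.Exact f g) (hg : Function.Surjective g)
    (hF1 : Module.Free A F1) (hr1 : Module.finrank A F1 = 1)
    (hF2 : Module.Free A F2) (hr2 : Module.finrank A F2 = 2)
    (hdim : ringKrullDim A = 3) (t : A)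
    (h0 : ∀ P : PrimeSpectrum A, t ∈ P.asIdeal → P.asIdeal ≠ maximalIdeal A →
      Module.Free (Localization.AtPrime P.asIdeal) (LocalizedModule P.asIdeal.primeCompl M))
    (hm : ¬ Module.Free A M) :
    ∃ Q : PrimeSpectrum A, t ∉ Q.asIdeal ∧
      ¬ Module.Free (Localization.AtPrime Q.asIdeal) (LocalizedModule Q.asIdeal.primeCompl M) := by
  have : Module.Finite A F1 := Module.finite_of_finrank_pos (by omega)
  have : Module.Finite A F2 := Module.finite_of_finrank_pos (by omega)
  let b1 : Module.Basis (Fin 1) A F1 := Module.finBasisOfFinrankEq A F1 hr1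
  let b2 : Module.Basis (Fin 2) A F2 := Module.finBasisOfFinrankEq A F2 hr2
  let v : F2 := f (b1 0)
  have hrange : LinearMap.range f = Submodule.span A {v} := by
    apply le_antisymm
    · rintro _ ⟨y, rfl⟩
      rw [Submodule.mem_span_singleton]
      refine ⟨b1.repr y 0, ?_⟩
      conv_rhs => rw [← b1.sum_repr y]
      simp [v]
    · rw [Submodule.span_singleton_le_iff_mem]
      exact ⟨b1 0, rfl⟩
  have hker : LinearMap.ker g = Submodule.span A {v} := by
    rw [← hrange]; exact hfg.linearMap_ker_eq
  -- v ≠ 0
  have hv0 : v ≠ 0 := by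
    intro h
    apply hm
    have hinj : Function.Injective g := by
      rw [← LinearMap.ker_eq_bot, hker, h]
      simp
    exact Module.Free.of_equiv (LinearEquiv.ofBijective g ⟨hinj, hg⟩)
  -- coordinates in the maximal ideal
  have hcoord : ∀ i, b2.repr v i ∈ maximalIdeal A := by
    intro i
    by_contra hni
    have hu : IsUnit (b2.repr v i) := by
      by_contra hnu
      exact hni ((IsLocalRing.mem_maximalIdeal _).mpr hnu)
    exact hm (free_of_isUnit_coord b2 v i hu g hg hker)
  by_contra hcon
  push Not at hcon
  -- every prime other than the maximal ideal does not contain all coordinates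
  have hprime : ∀ P : Ideal A, P.IsPrime → (∀ i, b2.repr v i ∈ P) → P = maximalIdeal A := by
    intro P hP hPc
    by_contra hne
    have hfree : Module.Free (Localization.AtPrime P) (LocalizedModule P.primeCompl M) := by
      by_cases htP : t ∈ P
      · exact h0 ⟨P, hP⟩ htP hne
      · exact hcon ⟨P, hP⟩ htP
    exact hv0 (eq_zero_of_free_localization b2 v g hg hker P hPc hfree)
  let s : Set A := {b2.repr v 0, b2.repr v 1}
  have hmin : maximalIdeal A ∈ (Ideal.span s).minimalPrimes := by
    refine ⟨⟨inferInstance, ?_⟩, ?_⟩
    · rw [Ideal.span_le]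
      rintro x (rfl | rfl)
      · exact hcoord 0
      · exact hcoord 1
    · rintro Q ⟨hQ, hQs⟩ _
      have : Q = maximalIdeal A := by
        apply hprime Q hQ
        intro i
        apply hQs
        apply Ideal.subset_span
        fin_cases i
        · left; rfl
        · right; rfl
      rw [this]
  have hht := Ideal.height_le_card_of_mem_minimalPrimes_span (Set.toFinite s) hmin
  have hcard : s.ncard ≤ 2 := by
    have := Set.ncard_insert_le (b2.repr v 0) {b2.repr v 1}
    simpa [s] using this
  have hh3 : (maximalIdeal A).height = 3 := by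
    have := IsLocalRing.maximalIdeal_height_eq_ringKrullDim (R := A)
    rw [hdim] at this
    have h3 : ((maximalIdeal A).height : WithBot ℕ∞) = ((3 : ℕ∞) : WithBot ℕ∞) := by
      rw [this]; rfl
    exact WithBot.coe_injective h3
  rw [hh3] at hht
  have : (3 : ℕ∞) ≤ 2 := hht.trans (by exact_mod_cast hcard)
  exact absurd this (by decide)

end Groth.Agent.R2.H70.KaehlerPres
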