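import Mathlib

/-!
# helper70: units of the Laurent polynomial ring over a field

`IsUnit f ↔ f = C c * T k` with `c ≠ 0`.
-/

set_option autoImplicit false

namespace Groth.Agent.R2.H70.LaurentUnits

open LaurentPolynomial
open scoped Polynomial

variable {L : Type*} [Field L]

theorem C_mul_T_eq_iff {c c' : L} {k k' : ℤ} (hc : c ≠ 0) :
    (C c * T k : L[T;T⁻¹]) = C c' * T k' ↔ c = c' ∧ k = k' := by
  constructor
  · intro h
    have hd : (C c * T k : L[T;T⁻¹]).degree = (C c' * T k' : L[T;T⁻¹]).degree := by rw [h]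
    have hc' : c' ≠ 0 := by
      rintro rfl
      rw [map_zero, zero_mul] at h
      have : (C c * T k : L[T;T⁻¹]).degree = ⊥ := by rw [h]; exact degree_zero
      rw [degree_C_mul_T k c hc] at this
      exact absurd this (by simp)
    rw [degree_C_mul_T k c hc, degree_C_mul_T k' c' hc'] at hd
    have hk : k = k' := by exact_mod_cast hd
    subst hk
    refine ⟨?_, rfl⟩
    have h2 := congrArg (fun f => f * T (-k)) h
    simp only [mul_assoc, ← T_add, add_neg_cancel, T_zero, mul_one] at h2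
    have h3 := congrArg (fun f : L[T;T⁻¹] => f.coeff 0) h2
    simpa using h3
  · rintro ⟨rfl, rfl⟩; rfl

theorem isUnit_C_mul_T {c : L} (hc : c ≠ 0) (k : ℤ) : IsUnit (C c * T k : L[T;T⁻¹]) := by
  refine isUnit_iff_exists_inv.mpr ⟨C c⁻¹ * T (-k), ?_⟩
  calc C c * T k * (C c⁻¹ * T (-k)) = (C c * C c⁻¹) * (T k * T (-k)) := by ring
    _ = 1 := by rw [← map_mul, mul_inv_cancel₀ hc, ← T_add, add_neg_cancel, T_zero, map_one, one_mul]

theorem exists_eq_C_mul_T_of_isUnit {f : L[T;T⁻¹]} (hf : IsUnit f) :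
    ∃ c : L, c ≠ 0 ∧ ∃ k : ℤ, f = C c * T k := by
  obtain ⟨g, hfg⟩ := isUnit_iff_exists_inv.mp hf
  obtain ⟨n, f', hf'⟩ := exists_T_pow f
  obtain ⟨m, g', hg'⟩ := exists_T_pow g
  have hprod : f' * g' = (Polynomial.X : L[X]) ^ (n + m) := by
    apply Polynomial.toLaurent_injective
    rw [map_mul, hf', hg', Polynomial.toLaurent_X_pow]
    calc f * T n * (g * T m) = (f * g) * (T n * T m) := by ring
      _ = T ((n + m : ℕ) : ℤ) := by rw [hfg, one_mul, ← T_add]; push_cast; rfl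
  have hdvd : f' ∣ (Polynomial.X : L[X]) ^ (n + m) := ⟨g', hprod.symm⟩
  obtain ⟨i, -, hi⟩ := (dvd_prime_pow Polynomial.prime_X _).mp hdvd
  obtain ⟨u, hu⟩ := hi
  -- hu : f' * u = X ^ i
  obtain ⟨c, hc, hcu⟩ := Polynomial.isUnit_iff.mp u.isUnit
  -- work with the inverse unit
  have hf'' : f' = Polynomial.X ^ i * (↑u⁻¹ : L[X]) := by
    rw [← hu, mul_assoc, Units.mul_inv, mul_one]
  obtain ⟨d, hd, hdu⟩ := Polynomial.isUnit_iff.mp (u⁻¹).isUnit
  refine ⟨d, ?_, (i : ℤ) - n, ?_⟩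
  · exact hd.ne_zero
  · have h1 : f * T n = T i * C d := by
      rw [← hf', hf'', ← hdu, map_mul, Polynomial.toLaurent_X_pow, Polynomial.toLaurent_C]
    calc f = f * T n * T (-n) := by rw [mul_assoc, ← T_add, add_neg_cancel, T_zero, mul_one]
      _ = T i * C d * T (-n) := by rw [h1]
      _ = C d * (T i * T (-n)) := by ring
      _ = C d * T ((i : ℤ) - n) := by rw [← T_add, sub_eq_add_neg]

theorem isUnit_iff {f : L[T;T⁻¹]} : IsUnit f ↔ ∃ c : L, c ≠ 0 ∧ ∃ k : ℤ, f = C c * T k :=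
  ⟨exists_eq_C_mul_T_of_isUnit, fun ⟨_, hc, k, hf⟩ => hf ▸ isUnit_C_mul_T hc k⟩

end Groth.Agent.R2.H70.LaurentUnits
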