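import Mathlib

/-!
# helper70: an abstract bound for finite subgroups of `L^× ⋊ {±1}`-like groups

A finite group `G` with an injective "cocycle" `g ↦ (c g, k g) ∈ L^× × ℤ` such that
`k (g h) = k g * k h`, `c (g h) = c h * (c g)^(k h)` and such that torsion values of `c` on
`ker k` are `±1`, has exponent two and at most four elements.
-/

set_option autoImplicit false

namespace Groth.Agent.R2.H70.PLineGroup

theorem abstract_bound {G : Type*} [Group G] [Finite G] {L : Type*} [Field L]
    (c : G → L) (k : G → ℤ)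
    (hc0 : ∀ g, c g ≠ 0)
    (hk1 : k 1 = 1) (hc1 : c 1 = 1)
    (hk : ∀ g h, k (g * h) = k g * k h)
    (hc : ∀ g h, c (g * h) = c h * c g ^ k h)
    (hinj : ∀ g h, c g = c h → k g = k h → g = h)
    (htors : ∀ g, k g = 1 → (∃ n : ℕ, 0 < n ∧ c g ^ n = 1) → c g = 1 ∨ c g = -1) :
    (∀ g : G, g ^ 2 = 1) ∧ Nat.card G ≤ 4 := by
  classical
  have hkpm : ∀ g, k g = 1 ∨ k g = -1 := by
    intro g
    have h := hk g g⁻¹
    rw [mul_inv_cancel, hk1] at h
    exact Int.eq_one_or_neg_one_of_mul_eq_one h.symm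
  have hpow : ∀ g, k g = 1 → ∀ n : ℕ, k (g ^ n) = 1 ∧ c (g ^ n) = c g ^ n := by
    intro g hg n
    induction n with
    | zero => simp [hk1, hc1]
    | succ n ih =>
      rw [pow_succ, hk, hc, ih.1, ih.2, hg, zpow_one]
      exact ⟨by ring, by ring⟩
  have hk1case : ∀ g, k g = 1 → c g = 1 ∨ c g = -1 := by
    intro g hg
    apply htors g hg
    refine ⟨orderOf g, orderOf_pos g, ?_⟩
    rw [← (hpow g hg (orderOf g)).2, pow_orderOf_eq_one, hc1]
  have hsq : ∀ g : G, g ^ 2 = 1 := by
    intro g
    rw [pow_two]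
    rcases hkpm g with hg | hg
    · apply hinj
      · rw [hc, hg, zpow_one, hc1]
        rcases hk1case g hg with h | h <;> rw [h] <;> ring
      · rw [hk, hg, hk1]; ring
    · apply hinj
      · rw [hc, hg, hc1, zpow_neg_one, mul_inv_cancel₀ (hc0 g)]
      · rw [hk, hg, hk1]; ring
  refine ⟨hsq, ?_⟩
  -- counting
  let g₀ : G := if h : ∃ g, k g = -1 then h.choose else 1
  have hg₀ : (∃ g, k g = -1) → k g₀ = -1 := by
    intro h
    simp only [g₀, dif_pos h]
    exact h.choose_spec
  let f : G → ℤ × L := fun g => (k g, if k g = 1 then c g else c (g₀ * g))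
  let S : Finset (ℤ × L) := ({1, -1} : Finset ℤ) ×ˢ ({1, -1} : Finset L)
  have hfS : ∀ g, f g ∈ S := by
    intro g
    simp only [f, S, Finset.mem_product, Finset.mem_insert, Finset.mem_singleton]
    refine ⟨hkpm g, ?_⟩
    by_cases hg : k g = 1
    · rw [if_pos hg]; exact hk1case g hg
    · rw [if_neg hg]
      have hg' : k g = -1 := (hkpm g).resolve_left hg
      apply hk1case
      rw [hk, hg₀ ⟨g, hg'⟩, hg']; ring
  have hfinj : Function.Injective f := by
    intro g h hgh
    simp only [f, Prod.mk.injEq] at hgh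
    obtain ⟨h1, h2⟩ := hgh
    by_cases hg : k g = 1
    · have hh : k h = 1 := h1 ▸ hg
      rw [if_pos hg, if_pos hh] at h2
      exact hinj g h h2 h1
    · have hh : ¬ k h = 1 := h1 ▸ hg
      rw [if_neg hg, if_neg hh] at h2
      have := hinj (g₀ * g) (g₀ * h) h2 (by rw [hk, hk, h1])
      exact mul_left_cancel this
  have hScard : S.card ≤ 4 := by
    simp only [S, Finset.card_product]
    have h1 : ({1, -1} : Finset ℤ).card ≤ 2 := Finset.card_le_two
    have h2 : ({1, -1} : Finset L).card ≤ 2 := Finset.card_le_two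
    calc _ ≤ 2 * 2 := Nat.mul_le_mul h1 h2
      _ = 4 := rfl
  have : Fintype G := Fintype.ofFinite G
  rw [Nat.card_eq_fintype_card, ← Finset.card_univ]
  calc (Finset.univ : Finset G).card ≤ S.card :=
        Finset.card_le_card_of_injOn f (fun g _ => hfS g) (fun g _ h _ e => hfinj e)
    _ ≤ 4 := hScard

end Groth.Agent.R2.H70.PLineGroup
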