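import Mathlib

/-!
# helper70: the coordinate ring of `P¹ ∖ {q = 0}` for a binary quadratic form `q`

`R' = K[x,y]_{(q)}` (degree-zero part of the localisation at `q`).  We give it its `K`-algebra
structure, define the generators `Xg = x²/q`, `Yg = xy/q`, `Zg = y²/q`, and show that
`K`-algebra homomorphisms out of `R'` are determined by their values on these.
-/

set_option autoImplicit false
universe u
attribute [local instance] MvPolynomial.gradedAlgebra

namespace Groth.Agent.R2.H70.PLine

open HomogeneousLocalization MvPolynomial Pointwise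

variable (K : Type u) [Field K] (q : MvPolynomial (Fin 2) K)

/-- The grading of `K[x,y]` by degree. -/
abbrev 𝒜 := MvPolynomial.homogeneousSubmodule (Fin 2) K

/-- The coordinate ring of the complement of `q = 0` in the projective line. -/
abbrev R' := HomogeneousLocalization.Away (𝒜 K) q

noncomputable instance instModuleR' : Module K (R' K q) :=
  Function.Injective.module K
    (⟨⟨HomogeneousLocalization.val, val_zero⟩, val_add⟩ : R' K q →+ Localization.Away q)
    (HomogeneousLocalization.val_injective _) (fun k z => val_smul _ k z)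

noncomputable instance instAlgebraR' : Algebra K (R' K q) :=
  Algebra.ofModule (fun r x y => by
    apply HomogeneousLocalization.val_injective
    simp [val_mul, val_smul]) (fun r x y => by
    apply HomogeneousLocalization.val_injective
    simp [val_mul, val_smul])

variable {K q}

lemma val_algebraMap (k : K) :
    (algebraMap K (R' K q) k).val = algebraMap K (Localization.Away q) k := by
  rw [Algebra.algebraMap_eq_smul_one, Algebra.algebraMap_eq_smul_one]
  change (k • (1 : R' K q)).val = _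
  rw [val_smul, val_one]

lemma smul_eq_algebraMap_mul (k : K) (z : R' K q) : k • z = algebraMap K (R' K q) k * z :=
  Algebra.smul_def k z

/-- A ring automorphism commuting with scalars, as an algebra automorphism. -/
noncomputable def toAlgEquiv (g : R' K q ≃+* R' K q)
    (hg : ∀ (k : K) (z : R' K q), g (k • z) = k • g z) : R' K q ≃ₐ[K] R' K q :=
  AlgEquiv.ofLinearEquiv { g with map_smul' := hg } (map_one g) (map_mul g)

@[simp] lemma toAlgEquiv_apply (g : R' K q ≃+* R' K q)
    (hg : ∀ (k : K) (z : R' K q), g (k • z) = k • g z) (z : R' K q) :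
    toAlgEquiv g hg z = g z := rfl

variable (hq : q.IsHomogeneous 2)

/-- `f ↦ f_{2n} / q^n`, a total `K`-linear map. -/
noncomputable def mkL (n : ℕ) : MvPolynomial (Fin 2) K →ₗ[K] R' K q where
  toFun f := HomogeneousLocalization.mk ⟨n • 2,
    ⟨MvPolynomial.homogeneousComponent (n • 2) f, MvPolynomial.homogeneousComponent_mem _ _⟩,
    ⟨q ^ n, SetLike.pow_mem_graded n hq⟩, ⟨n, rfl⟩⟩
  map_add' f g := by
    apply HomogeneousLocalization.val_injective
    rw [val_add]
    simp only [val_mk, map_add]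
    rw [Localization.add_mk_self]
  map_smul' k f := by
    apply HomogeneousLocalization.val_injective
    change _ = (k • _ : R' K q).val
    rw [val_smul]
    simp only [val_mk, map_smul]
    rw [Localization.smul_mk]

lemma val_mkL (n : ℕ) (f : MvPolynomial (Fin 2) K) :
    (mkL hq n f).val = Localization.mk (MvPolynomial.homogeneousComponent (n • 2) f)
      (⟨q ^ n, by use n⟩ : Submonoid.powers q) := rfl

lemma val_mkL_of_mem (n : ℕ) {f : MvPolynomial (Fin 2) K} (hf : f.IsHomogeneous (n • 2)) :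
    (mkL hq n f).val = Localization.mk f (⟨q ^ n, by use n⟩ : Submonoid.powers q) := by
  rw [val_mkL, MvPolynomial.homogeneousComponent_of_mem hf, if_pos rfl]

lemma mkL_eq_mk (n : ℕ) {f : MvPolynomial (Fin 2) K} (hf : f.IsHomogeneous (n • 2)) :
    mkL hq n f = Away.mk (𝒜 K) hq n f hf := by
  apply HomogeneousLocalization.val_injective
  rw [val_mkL_of_mem hq n hf]
  rfl

lemma mkL_surjective (z : R' K q) : ∃ n f, f.IsHomogeneous (n • 2) ∧ mkL hq n f = z := by
  obtain ⟨n, f, hf, rfl⟩ := Away.mk_surjective (𝒜 K) hq z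
  exact ⟨n, f, hf, mkL_eq_mk hq n hf⟩

lemma mkL_mul (a b : ℕ) {f g : MvPolynomial (Fin 2) K} (hf : f.IsHomogeneous (a • 2))
    (hg : g.IsHomogeneous (b • 2)) :
    mkL hq (a + b) (f * g) = mkL hq a f * mkL hq b g := by
  have hfg : (f * g).IsHomogeneous ((a + b) • 2) := by
    rw [add_smul]; exact hf.mul hg
  apply HomogeneousLocalization.val_injective
  rw [val_mul, val_mkL_of_mem hq _ hfg, val_mkL_of_mem hq _ hf, val_mkL_of_mem hq _ hg,
    Localization.mk_mul]
  congr 1
  ext
  simp [pow_add]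

lemma mkL_zero_C (k : K) : mkL hq 0 (C k) = algebraMap K (R' K q) k := by
  apply HomogeneousLocalization.val_injective
  rw [val_mkL_of_mem hq 0 (by simpa using isHomogeneous_C (Fin 2) k), val_algebraMap]
  simp only [pow_zero]
  rw [IsScalarTower.algebraMap_apply K (MvPolynomial (Fin 2) K) (Localization.Away q)]
  rw [← Localization.mk_one_eq_algebraMap]
  rfl

/-- The generators. -/
noncomputable def Xg : R' K q := mkL hq 1 (X 0 ^ 2)
noncomputable def Yg : R' K q := mkL hq 1 (X 0 * X 1)
noncomputable def Zg : R' K q := mkL hq 1 (X 1 ^ 2)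

lemma isHomogeneous_X_mul_X (i j : Fin 2) :
    (X i * X j : MvPolynomial (Fin 2) K).IsHomogeneous (1 • 2) :=
  (isHomogeneous_X K i).mul (isHomogeneous_X K j)

lemma Xg_mul_Zg : Xg hq * Zg hq = Yg hq ^ 2 := by
  have h1 : (X 0 ^ 2 : MvPolynomial (Fin 2) K).IsHomogeneous (1 • 2) := by
    simpa [sq] using isHomogeneous_X_mul_X (K := K) 0 0
  have h2 : (X 1 ^ 2 : MvPolynomial (Fin 2) K).IsHomogeneous (1 • 2) := by
    simpa [sq] using isHomogeneous_X_mul_X (K := K) 1 1
  have h3 := isHomogeneous_X_mul_X (K := K) 0 1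
  rw [Xg, Zg, Yg, pow_two (mkL hq 1 _), ← mkL_mul hq 1 1 h1 h2, ← mkL_mul hq 1 1 h3 h3]
  congr 1
  ring

lemma mkL_one_self : mkL hq 1 q = 1 := by
  apply HomogeneousLocalization.val_injective
  rw [val_mkL_of_mem hq 1 (by simpa using hq), val_one]
  have : (⟨q ^ 1, by use 1⟩ : Submonoid.powers q) = ⟨q, Submonoid.mem_powers q⟩ := by
    ext; simp
  rw [this]
  exact Localization.mk_self (⟨q, Submonoid.mem_powers q⟩ : Submonoid.powers q)

/-- The linear relation `a X + b Y + c Z = 1`. -/
lemma linear_relation {a b c : K}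
    (hqe : q = C a * X 0 ^ 2 + C b * (X 0 * X 1) + C c * X 1 ^ 2) :
    algebraMap K (R' K q) a * Xg hq + algebraMap K (R' K q) b * Yg hq
      + algebraMap K (R' K q) c * Zg hq = 1 := by
  rw [← mkL_one_self hq,
    show mkL hq 1 q = mkL hq 1 (C a * X 0 ^ 2 + C b * (X 0 * X 1) + C c * X 1 ^ 2) from
      congrArg (mkL hq 1) hqe]
  rw [map_add, map_add, ← smul_eq_C_mul, ← smul_eq_C_mul, ← smul_eq_C_mul, map_smul, map_smul,
    map_smul, smul_eq_algebraMap_mul, smul_eq_algebraMap_mul, smul_eq_algebraMap_mul]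
  rfl

section ext

variable {S : Type*} [Semiring S] [Algebra K S]

lemma eqLocus_aux {ψ₁ ψ₂ : R' K q →ₐ[K] S}
    (hX : ψ₁ (Xg hq) = ψ₂ (Xg hq)) (hY : ψ₁ (Yg hq) = ψ₂ (Yg hq))
    (hZ : ψ₁ (Zg hq) = ψ₂ (Zg hq)) (n : ℕ) :
    𝒜 K (n • 2) ≤ LinearMap.eqLocus (ψ₁.toLinearMap ∘ₗ mkL hq n) (ψ₂.toLinearMap ∘ₗ mkL hq n) := by
  have h1 : 𝒜 K (1 • 2) ≤
      LinearMap.eqLocus (ψ₁.toLinearMap ∘ₗ mkL hq 1) (ψ₂.toLinearMap ∘ₗ mkL hq 1) := by
    have : 𝒜 K (1 • 2) = Submodule.span K
        (Set.range (X : Fin 2 → MvPolynomial (Fin 2) K) *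
          Set.range (X : Fin 2 → MvPolynomial (Fin 2) K)) := by
      rw [← Submodule.span_mul_span, ← homogeneousSubmodule_one_eq_span_X (σ := Fin 2) (R := K),
        ← pow_two, homogeneousSubmodule_one_pow (σ := Fin 2) (R := K)]
      rfl
    rw [this, Submodule.span_le]
    rintro _ ⟨_, ⟨i, rfl⟩, _, ⟨j, rfl⟩, rfl⟩
    simp only [SetLike.mem_coe, LinearMap.mem_eqLocus, LinearMap.coe_comp, Function.comp_apply,
      AlgHom.toLinearMap_apply]
    fin_cases i <;> fin_cases j
    · simpa [Xg, sq] using hX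
    · simpa [Yg] using hY
    · simpa [Yg, mul_comm] using hY
    · simpa [Zg, sq] using hZ
  induction n with
  | zero =>
    intro f hf
    have hf' : f ∈ homogeneousSubmodule (Fin 2) K 0 := by simpa using hf
    rw [homogeneousSubmodule_zero, Submodule.mem_one] at hf'
    obtain ⟨k, rfl⟩ := hf'
    simp only [LinearMap.mem_eqLocus, LinearMap.coe_comp, Function.comp_apply,
      AlgHom.toLinearMap_apply, MvPolynomial.algebraMap_eq, mkL_zero_C, AlgHom.commutes]
  | succ n ih =>
    have : 𝒜 K ((n + 1) • 2) = 𝒜 K (1 • 2) * 𝒜 K (n • 2) := by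
      change homogeneousSubmodule (Fin 2) K _ = homogeneousSubmodule (Fin 2) K _ *
        homogeneousSubmodule (Fin 2) K _
      rw [← homogeneousSubmodule_one_pow, ← homogeneousSubmodule_one_pow (σ := Fin 2) (R := K) (1 • 2),
        ← homogeneousSubmodule_one_pow (σ := Fin 2) (R := K) (n • 2), ← pow_add]
      congr 1
      simp only [smul_eq_mul]; ring
    rw [this, Submodule.mul_le]
    intro g hg h hh
    have hg' : ψ₁ (mkL hq 1 g) = ψ₂ (mkL hq 1 g) := h1 hg
    have hh' : ψ₁ (mkL hq n h) = ψ₂ (mkL hq n h) := ih hh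
    simp only [LinearMap.mem_eqLocus, LinearMap.coe_comp, Function.comp_apply,
      AlgHom.toLinearMap_apply]
    rw [add_comm n 1, mkL_mul hq 1 n hg hh, map_mul, map_mul, hg', hh']

/-- `K`-algebra homomorphisms out of `R'` are determined by the images of `x²/q, xy/q, y²/q`. -/
theorem algHom_ext {ψ₁ ψ₂ : R' K q →ₐ[K] S}
    (hX : ψ₁ (Xg hq) = ψ₂ (Xg hq)) (hY : ψ₁ (Yg hq) = ψ₂ (Yg hq))
    (hZ : ψ₁ (Zg hq) = ψ₂ (Zg hq)) : ψ₁ = ψ₂ := by
  ext z
  obtain ⟨n, f, hf, rfl⟩ := mkL_surjective hq z
  exact eqLocus_aux hq hX hY hZ n hf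

end ext

section awayHom

variable {S : Type*} [CommRing S] [Algebra K S]

/-- The `K`-algebra map `R' → S` induced by a `K`-algebra map `φ : K[x,y] → S` with `φ q`
invertible. -/
noncomputable def awayHom (φ : MvPolynomial (Fin 2) K →ₐ[K] S) (v : S) (hv : φ q * v = 1) :
    R' K q →ₐ[K] S :=
  { (Localization.awayLift (φ : MvPolynomial (Fin 2) K →+* S) q
        (isUnit_iff_exists_inv.mpr ⟨v, hv⟩)).comp
      (algebraMap (R' K q) (Localization.Away q)) with
    commutes' := fun k => by
      simp only [RingHom.toMonoidHom_eq_coe, OneHom.toFun_eq_coe, MonoidHom.toOneHom_coe,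
        MonoidHom.coe_coe, RingHom.coe_comp, Function.comp_apply,
        HomogeneousLocalization.algebraMap_apply]
      rw [val_algebraMap,
        IsScalarTower.algebraMap_apply K (MvPolynomial (Fin 2) K) (Localization.Away q)]
      simp [Localization.awayLift, IsLocalization.Away.lift] }

lemma awayHom_apply (φ : MvPolynomial (Fin 2) K →ₐ[K] S) (v : S) (hv : φ q * v = 1)
    (z : R' K q) :
    awayHom φ v hv z = Localization.awayLift (φ : MvPolynomial (Fin 2) K →+* S) q
      (isUnit_iff_exists_inv.mpr ⟨v, hv⟩) z.val := rfl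

lemma awayHom_mkL (φ : MvPolynomial (Fin 2) K →ₐ[K] S) (v : S) (hv : φ q * v = 1) (n : ℕ)
    {f : MvPolynomial (Fin 2) K} (hf : f.IsHomogeneous (n • 2)) :
    awayHom φ v hv (mkL hq n f) = φ f * v ^ n := by
  rw [awayHom_apply, val_mkL_of_mem hq n hf]
  exact Localization.awayLift_mk (φ : MvPolynomial (Fin 2) K →+* S) q f v hv n

lemma awayHom_Xg (φ : MvPolynomial (Fin 2) K →ₐ[K] S) (v : S) (hv : φ q * v = 1) :
    awayHom φ v hv (Xg hq) = φ (X 0) ^ 2 * v := by
  rw [Xg, awayHom_mkL hq φ v hv 1 (by simpa [sq] using isHomogeneous_X_mul_X (K := K) 0 0)]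
  simp

lemma awayHom_Yg (φ : MvPolynomial (Fin 2) K →ₐ[K] S) (v : S) (hv : φ q * v = 1) :
    awayHom φ v hv (Yg hq) = φ (X 0) * φ (X 1) * v := by
  rw [Yg, awayHom_mkL hq φ v hv 1 (isHomogeneous_X_mul_X (K := K) 0 1)]
  simp

lemma awayHom_Zg (φ : MvPolynomial (Fin 2) K →ₐ[K] S) (v : S) (hv : φ q * v = 1) :
    awayHom φ v hv (Zg hq) = φ (X 1) ^ 2 * v := by
  rw [Zg, awayHom_mkL hq φ v hv 1 (by simpa [sq] using isHomogeneous_X_mul_X (K := K) 1 1)]
  simp

/-- If `φ` is injective then so is the induced map on `R'` (for `S` a domain). -/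
lemma awayHom_injective [IsDomain S] (φ : MvPolynomial (Fin 2) K →ₐ[K] S)
    (hφ : Function.Injective φ) (v : S) (hv : φ q * v = 1) :
    Function.Injective (awayHom φ v hv) := by
  have hq0 : q ≠ 0 := by
    rintro rfl
    simp at hv
  intro z₁ z₂ h
  apply HomogeneousLocalization.val_injective
  rw [awayHom_apply, awayHom_apply] at h
  revert h
  generalize z₁.val = w₁
  generalize z₂.val = w₂
  intro h
  have hinj : Function.Injective (Localization.awayLift (φ : MvPolynomial (Fin 2) K →+* S) q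
      (isUnit_iff_exists_inv.mpr ⟨v, hv⟩)) := by
    unfold Localization.awayLift IsLocalization.Away.lift
    rw [IsLocalization.lift_injective_iff]
    intro a b
    have h1 : Function.Injective (algebraMap (MvPolynomial (Fin 2) K) (Localization.Away q)) :=
      IsLocalization.injective _ (powers_le_nonZeroDivisors_of_noZeroDivisors hq0)
    rw [h1.eq_iff]
    exact (hφ.eq_iff (a := a) (b := b)).symm
  exact hinj h

end awayHom

end Groth.Agent.R2.H70.PLine
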