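import Mathlib

/-!
# helper70: polynomial identities for the punctured projective line

Pure commutative-ring identities used to reconstruct `x²/q, xy/q, y²/q` from the unit
`P = a (x²/q - 2θ xy/q + θ² y²/q)`.
-/

set_option autoImplicit false

namespace Groth.Agent.R2.H70.PLineId

variable {S : Type*} [CommRing S] {a b c θ θ' d ai x y z : S}

theorem P_mul_P' (hb : b = -(a * (θ + θ'))) (hc : c = a * (θ * θ'))
    (hxz : x * z = y ^ 2) (hlin : a * x + b * y + c * z = 1) :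
    (a * (x - 2 * θ * y + θ ^ 2 * z)) * (a * (x - 2 * θ' * y + θ' ^ 2 * z)) = 1 := by
  subst hb hc
  linear_combination (a * x + (-(a * (θ + θ'))) * y + (a * (θ * θ')) * z + 1) * hlin
    + a ^ 2 * (θ - θ') ^ 2 * hxz

theorem aux_x (hb : b = -(a * (θ + θ'))) (hc : c = a * (θ * θ'))
    (hlin : a * x + b * y + c * z = 1) :
    a * (θ - θ') ^ 2 * x = θ ^ 2 * (a * (x - 2 * θ' * y + θ' ^ 2 * z)) - 2 * θ * θ'
      + θ' ^ 2 * (a * (x - 2 * θ * y + θ ^ 2 * z)) := by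
  subst hb hc
  linear_combination (-2 * θ * θ') * hlin

theorem aux_y (hb : b = -(a * (θ + θ'))) (hc : c = a * (θ * θ'))
    (hlin : a * x + b * y + c * z = 1) :
    a * (θ - θ') ^ 2 * y = θ * (a * (x - 2 * θ' * y + θ' ^ 2 * z)) - (θ + θ')
      + θ' * (a * (x - 2 * θ * y + θ ^ 2 * z)) := by
  subst hb hc
  linear_combination (-(θ + θ')) * hlin

theorem aux_z (hb : b = -(a * (θ + θ'))) (hc : c = a * (θ * θ'))
    (hlin : a * x + b * y + c * z = 1) :
    a * (θ - θ') ^ 2 * z = (a * (x - 2 * θ' * y + θ' ^ 2 * z)) - 2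
      + (a * (x - 2 * θ * y + θ ^ 2 * z)) := by
  subst hb hc
  linear_combination (-2) * hlin

variable {P P' : S}

theorem rec_x (hd : d * (θ - θ') = 1) (hai : ai * a = 1) (h1 : P * P' = 1)
    (h2 : a * (θ - θ') ^ 2 * x = θ ^ 2 * P' - 2 * θ * θ' + θ' ^ 2 * P) :
    (d * (θ - θ' * P)) ^ 2 * (ai * P') = x := by
  linear_combination (x * (d * (θ - θ') + 1) * (ai * a)) * hd + x * hai
    + d ^ 2 * ai * (θ' ^ 2 * P - 2 * θ * θ') * h1 - d ^ 2 * ai * h2

theorem rec_y (hd : d * (θ - θ') = 1) (hai : ai * a = 1) (h1 : P * P' = 1)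
    (h2 : a * (θ - θ') ^ 2 * y = θ * P' - (θ + θ') + θ' * P) :
    (d * (θ - θ' * P)) * (d * (1 - P)) * (ai * P') = y := by
  linear_combination (y * (d * (θ - θ') + 1) * (ai * a)) * hd + y * hai
    + d ^ 2 * ai * (θ' * P - θ - θ') * h1 - d ^ 2 * ai * h2

theorem rec_z (hd : d * (θ - θ') = 1) (hai : ai * a = 1) (h1 : P * P' = 1)
    (h2 : a * (θ - θ') ^ 2 * z = P' - 2 + P) :
    (d * (1 - P)) ^ 2 * (ai * P') = z := by
  linear_combination (z * (d * (θ - θ') + 1) * (ai * a)) * hd + z * hai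
    + d ^ 2 * ai * (P - 2) * h1 - d ^ 2 * ai * h2

/-- The image of `q` under the substitution `x ↦ d (θ - θ' t)`, `y ↦ d (1 - t)`. -/
theorem subst_q {t : S} (hb : b = -(a * (θ + θ'))) (hc : c = a * (θ * θ'))
    (hd : d * (θ - θ') = 1) :
    a * (d * (θ - θ' * t)) ^ 2 + b * ((d * (θ - θ' * t)) * (d * (1 - t)))
      + c * (d * (1 - t)) ^ 2 = a * t := by
  subst hb hc
  linear_combination (a * t * (d * (θ - θ') + 1)) * hd

/-- Invariance under `θ ↔ θ'`, `t ↔ t⁻¹`, `d ↦ -d`. -/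
theorem inv_x {t t' : S} (ht : t * t' = 1) :
    (-d * (θ' - θ * t')) ^ 2 * (ai * t) = (d * (θ - θ' * t)) ^ 2 * (ai * t') := by
  linear_combination (d ^ 2 * ai * (θ ^ 2 * t' - θ' ^ 2 * t)) * ht

theorem inv_y {t t' : S} (ht : t * t' = 1) :
    (-d * (θ' - θ * t')) * (-d * (1 - t')) * (ai * t)
      = (d * (θ - θ' * t)) * (d * (1 - t)) * (ai * t') := by
  linear_combination (d ^ 2 * ai * (θ * t' - θ' * t)) * ht

theorem inv_z {t t' : S} (ht : t * t' = 1) :
    (-d * (1 - t')) ^ 2 * (ai * t) = (d * (1 - t)) ^ 2 * (ai * t') := by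
  linear_combination (d ^ 2 * ai * (t' - t)) * ht

/-- The unit attached to the base embedding is `t`. -/
theorem P_base {t t' : S} (hd : d * (θ - θ') = 1) (hai : ai * a = 1) (ht : t * t' = 1) :
    a * ((d * (θ - θ' * t)) ^ 2 * (ai * t') - 2 * θ * ((d * (θ - θ' * t)) * (d * (1 - t)) * (ai * t'))
      + θ ^ 2 * ((d * (1 - t)) ^ 2 * (ai * t'))) = t := by
  linear_combination ((d * (θ - θ')) ^ 2 * t ^ 2 * t') * hai
    + ((d * (θ - θ') + 1) * t ^ 2 * t') * hd + t * ht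

end Groth.Agent.R2.H70.PLineId
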