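import Mathlib
import Groth.Agent.R2.H70PLineGen
import Groth.Agent.R2.H70LaurentUnits
import Groth.Agent.R2.H70PLineId

/-!
# helper70: automorphisms of `P¹ ∖ {q = 0}` via the embedding into `L[T;T⁻¹]`
-/

set_option autoImplicit false
universe u v
attribute [local instance] MvPolynomial.gradedAlgebra

namespace Groth.Agent.R2.H70.PLine

open HomogeneousLocalization MvPolynomial
open scoped LaurentPolynomial

local notation "CL" => LaurentPolynomial.C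
local notation "TL" => LaurentPolynomial.T

/-- All the data: the quadratic form `q = a x² + b xy + c y²`, a field `L ⊇ K` containing the two
distinct roots `θ, θ'` of `a t² + b t + c`, and a `K`-automorphism swapping them. -/
structure Setup (K : Type u) [Field K] (q : MvPolynomial (Fin 2) K) (L : Type v) [Field L]
    [Algebra K L] where
  hq : q.IsHomogeneous 2
  a : K
  b : K
  c : K
  hqe : q = C a * X 0 ^ 2 + C b * (X 0 * X 1) + C c * X 1 ^ 2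
  ha : a ≠ 0
  θ : L
  θ' : L
  hsum : algebraMap K L b = -(algebraMap K L a * (θ + θ'))
  hprod : algebraMap K L c = algebraMap K L a * (θ * θ')
  hne : θ ≠ θ'
  σ : L →ₐ[K] L
  hσ : σ θ = θ'
  hσ' : σ θ' = θ

variable {K : Type u} [Field K] {q : MvPolynomial (Fin 2) K} {L : Type v} [Field L] [Algebra K L]
  (D : Setup K q L)

namespace Setup

/-- `1/(θ - θ')`. -/
noncomputable def d : L := (D.θ - D.θ')⁻¹

lemma d_mul : D.d * (D.θ - D.θ') = 1 := inv_mul_cancel₀ (sub_ne_zero.mpr D.hne)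

/-- `a` in `L`. -/
noncomputable def aL : L := algebraMap K L D.a

lemma aL_ne : D.aL ≠ 0 := by
  rw [aL, Ne, map_eq_zero_iff _ (algebraMap K L).injective]
  exact D.ha

lemma aLinv_mul : D.aL⁻¹ * D.aL = 1 := inv_mul_cancel₀ D.aL_ne

/-- Image of `x`. -/
noncomputable def φx : L[T;T⁻¹] := CL D.d * (CL D.θ - CL D.θ' * TL 1)
/-- Image of `y`. -/
noncomputable def φy : L[T;T⁻¹] := CL D.d * (1 - TL 1)

/-- The substitution `K[x,y] → L[T;T⁻¹]`. -/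
noncomputable def φ : MvPolynomial (Fin 2) K →ₐ[K] L[T;T⁻¹] := MvPolynomial.aeval ![D.φx, D.φy]

lemma φ_X0 : D.φ (X 0) = D.φx := by simp [φ]
lemma φ_X1 : D.φ (X 1) = D.φy := by simp [φ]
lemma φ_C (k : K) : D.φ (C k) = CL (algebraMap K L k) := by
  simp [φ, LaurentPolynomial.algebraMap_apply]

lemma C_b : (CL (algebraMap K L D.b) : L[T;T⁻¹]) =
    -(CL D.aL * (CL D.θ + CL D.θ')) := by
  rw [D.hsum, aL]; simp

lemma C_c : (CL (algebraMap K L D.c) : L[T;T⁻¹]) =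
    CL D.aL * (CL D.θ * CL D.θ') := by
  rw [D.hprod, aL]; simp

lemma C_d_mul : (CL D.d : L[T;T⁻¹]) *
    (CL D.θ - CL D.θ') = 1 := by
  rw [← map_sub, ← map_mul, D.d_mul, map_one]

lemma C_aLinv_mul : (CL D.aL⁻¹ : L[T;T⁻¹]) * CL D.aL = 1 := by
  rw [← map_mul, D.aLinv_mul, map_one]

lemma φ_q : D.φ q = CL D.aL * TL 1 := by
  rw [show D.φ q = D.φ (C D.a * X 0 ^ 2 + C D.b * (X 0 * X 1) + C D.c * X 1 ^ 2) from
    congrArg D.φ D.hqe]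
  simp only [map_add, map_mul, map_pow, φ_X0, φ_X1, φ_C]
  rw [φx, φy]
  exact PLineId.subst_q D.C_b D.C_c D.C_d_mul

/-- The inverse of `φ q`. -/
noncomputable def v : L[T;T⁻¹] := CL D.aL⁻¹ * TL (-1)

lemma φ_q_mul_v : D.φ q * D.v = 1 := by
  rw [φ_q, v]
  calc CL D.aL * TL 1 * (CL D.aL⁻¹ * TL (-1))
      = (CL D.aL⁻¹ * CL D.aL) * (TL 1 * TL (-1)) := by ring
    _ = 1 := by rw [D.C_aLinv_mul, ← LaurentPolynomial.T_add]; simp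

/-- The embedding `R' → L[T;T⁻¹]`. -/
noncomputable def Φ₀ : R' K q →ₐ[K] L[T;T⁻¹] := awayHom D.φ D.v D.φ_q_mul_v

lemma Φ₀_Xg : D.Φ₀ (Xg D.hq) = D.φx ^ 2 * D.v := by
  rw [Φ₀, awayHom_Xg, φ_X0]
lemma Φ₀_Yg : D.Φ₀ (Yg D.hq) = D.φx * D.φy * D.v := by
  rw [Φ₀, awayHom_Yg, φ_X0, φ_X1]
lemma Φ₀_Zg : D.Φ₀ (Zg D.hq) = D.φy ^ 2 * D.v := by
  rw [Φ₀, awayHom_Zg, φ_X1]

end Setup

/-- The `K`-algebra endomorphism `T ↦ u` of `L[T;T⁻¹]`. -/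
noncomputable def E (K : Type u) [Field K] {L : Type v} [Field L] [Algebra K L]
    (u : L[T;T⁻¹]ˣ) : L[T;T⁻¹] →ₐ[K] L[T;T⁻¹] :=
  { LaurentPolynomial.eval₂ (CL : L →+* L[T;T⁻¹]) u with
    commutes' := fun k => by
      simp [LaurentPolynomial.algebraMap_apply, LaurentPolynomial.eval₂_C] }

lemma E_C (u : L[T;T⁻¹]ˣ) (l : L) : E K u (CL l) = CL l :=
  LaurentPolynomial.eval₂_C _ _ _

lemma E_T (u : L[T;T⁻¹]ˣ) (n : ℤ) : E K u (TL n) = ((u ^ n : L[T;T⁻¹]ˣ) : L[T;T⁻¹]) :=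
  LaurentPolynomial.eval₂_T _ _ _

lemma E_T_one (u : L[T;T⁻¹]ˣ) : E K u (TL 1) = (u : L[T;T⁻¹]) := by
  rw [E_T, zpow_one]

lemma E_T_neg_one (u : L[T;T⁻¹]ˣ) : E K u (TL (-1)) = ((u⁻¹ : L[T;T⁻¹]ˣ) : L[T;T⁻¹]) := by
  rw [E_T, zpow_neg_one]

/-- Powers of a monomial unit. -/
lemma zpow_val {u : L[T;T⁻¹]ˣ} {c : L} {k : ℤ} (hc : c ≠ 0)
    (hu : (u : L[T;T⁻¹]) = CL c * TL k) (n : ℤ) :
    ((u ^ n : L[T;T⁻¹]ˣ) : L[T;T⁻¹]) = CL (c ^ n) * TL (k * n) := by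
  have hinv : ((u⁻¹ : L[T;T⁻¹]ˣ) : L[T;T⁻¹]) = CL c⁻¹ * TL (-k) := by
    rw [Units.inv_eq_of_mul_eq_one_right]
    rw [hu]
    calc CL c * TL k * (CL c⁻¹ * TL (-k)) = (CL c * CL c⁻¹) * (TL k * TL (-k)) := by ring
      _ = 1 := by
        rw [← map_mul, mul_inv_cancel₀ hc, ← LaurentPolynomial.T_add]; simp
  induction n using Int.induction_on with
  | zero => simp
  | succ n ih =>
    rw [zpow_add_one, Units.val_mul, ih, hu, zpow_add_one₀ hc, map_mul, mul_add, mul_one,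
      LaurentPolynomial.T_add]
    ring
  | pred n ih =>
    rw [zpow_sub_one, Units.val_mul, ih, hinv, zpow_sub_one₀ hc, map_mul, mul_sub, mul_one,
      sub_eq_add_neg (k * -(n : ℤ)), LaurentPolynomial.T_add]
    ring

/-- The unit `T⁻¹`. -/
noncomputable def Tinv (L : Type v) [Field L] : L[T;T⁻¹]ˣ :=
  ⟨TL (-1), TL 1, by rw [← LaurentPolynomial.T_add]; simp,
    by rw [← LaurentPolynomial.T_add]; simp⟩

lemma Tinv_zpow (n : ℤ) : (((Tinv L) ^ n : L[T;T⁻¹]ˣ) : L[T;T⁻¹]) = TL (-n) := by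
  have := zpow_val (u := Tinv L) (c := 1) (k := -1) one_ne_zero (by simp [Tinv]) n
  rw [this]
  simp

namespace Setup

/-- The semilinear involution: `σ` on coefficients, `T ↦ T⁻¹`. -/
noncomputable def σB : L[T;T⁻¹] →ₐ[K] L[T;T⁻¹] :=
  { LaurentPolynomial.eval₂ ((CL : L →+* L[T;T⁻¹]).comp (D.σ : L →+* L)) (Tinv L) with
    commutes' := fun k => by
      simp [LaurentPolynomial.algebraMap_apply, LaurentPolynomial.eval₂_C] }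

lemma σB_C (l : L) : D.σB (CL l) = CL (D.σ l) :=
  LaurentPolynomial.eval₂_C _ _ _

lemma σB_T (n : ℤ) : D.σB (TL n) = TL (-n) := by
  rw [← Tinv_zpow]
  exact LaurentPolynomial.eval₂_T _ _ _

lemma σ_d : D.σ D.d = -D.d := by
  rw [d, map_inv₀, map_sub, D.hσ, D.hσ', ← neg_sub D.θ D.θ', inv_neg]

lemma σ_aL : D.σ D.aL = D.aL := by
  rw [aL, AlgHom.commutes]

lemma TL_mul_TL_neg : (TL 1 : L[T;T⁻¹]) * TL (-1) = 1 := by
  rw [← LaurentPolynomial.T_add]; simp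

lemma σB_φx : D.σB D.φx = -CL D.d * (CL D.θ' - CL D.θ * TL (-1)) := by
  rw [φx, map_mul, map_sub, map_mul, σB_C, σB_C, σB_C, σB_T, D.σ_d, D.hσ, D.hσ', map_neg]

lemma σB_φy : D.σB D.φy = -CL D.d * (1 - TL (-1)) := by
  rw [φy, map_mul, map_sub, map_one, σB_C, σB_T, D.σ_d, map_neg]

lemma σB_v : D.σB D.v = CL D.aL⁻¹ * TL 1 := by
  rw [v, map_mul, σB_C, σB_T, map_inv₀, D.σ_aL, neg_neg]

/-- `σB` fixes the image of `R'`. -/
theorem σB_comp_Φ₀ : D.σB.comp D.Φ₀ = D.Φ₀ := by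
  apply algHom_ext D.hq
  · rw [AlgHom.comp_apply, Φ₀_Xg, map_mul, map_pow, σB_φx, σB_v, φx, v]
    exact PLineId.inv_x TL_mul_TL_neg
  · rw [AlgHom.comp_apply, Φ₀_Yg, map_mul, map_mul, σB_φx, σB_φy, σB_v, φx, φy, v]
    exact PLineId.inv_y TL_mul_TL_neg
  · rw [AlgHom.comp_apply, Φ₀_Zg, map_mul, map_pow, σB_φy, σB_v, φy, v]
    exact PLineId.inv_z TL_mul_TL_neg

variable (ψ : R' K q →ₐ[K] L[T;T⁻¹])

/-- The unit attached to `ψ`. -/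
noncomputable def Pof : L[T;T⁻¹] :=
  CL D.aL * (ψ (Xg D.hq) - 2 * CL D.θ * ψ (Yg D.hq) + CL D.θ ^ 2 * ψ (Zg D.hq))

/-- Its inverse. -/
noncomputable def Pof' : L[T;T⁻¹] :=
  CL D.aL * (ψ (Xg D.hq) - 2 * CL D.θ' * ψ (Yg D.hq) + CL D.θ' ^ 2 * ψ (Zg D.hq))

lemma ψ_xz : ψ (Xg D.hq) * ψ (Zg D.hq) = ψ (Yg D.hq) ^ 2 := by
  rw [← map_mul, Xg_mul_Zg, map_pow]

lemma ψ_algebraMap (k : K) : ψ (algebraMap K (R' K q) k) = CL (algebraMap K L k) := by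
  rw [AlgHom.commutes, LaurentPolynomial.algebraMap_apply]

lemma ψ_lin : CL D.aL * ψ (Xg D.hq) + CL (algebraMap K L D.b) * ψ (Yg D.hq)
    + CL (algebraMap K L D.c) * ψ (Zg D.hq) = 1 := by
  have h := congrArg ψ (linear_relation D.hq D.hqe)
  rw [map_add, map_add, map_mul, map_mul, map_mul, map_one, ψ_algebraMap, ψ_algebraMap,
    ψ_algebraMap] at h
  exact h

lemma Pof_mul_Pof' : D.Pof ψ * D.Pof' ψ = 1 :=
  PLineId.P_mul_P' D.C_b D.C_c (D.ψ_xz ψ) (D.ψ_lin ψ)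

/-- `Pof ψ` as a unit. -/
noncomputable def uOf : L[T;T⁻¹]ˣ :=
  ⟨D.Pof ψ, D.Pof' ψ, D.Pof_mul_Pof' ψ, by rw [mul_comm]; exact D.Pof_mul_Pof' ψ⟩

@[simp] lemma val_uOf : ((D.uOf ψ : L[T;T⁻¹]ˣ) : L[T;T⁻¹]) = D.Pof ψ := rfl
@[simp] lemma val_inv_uOf : (((D.uOf ψ)⁻¹ : L[T;T⁻¹]ˣ) : L[T;T⁻¹]) = D.Pof' ψ := rfl

lemma E_φx (u : L[T;T⁻¹]ˣ) : E K u D.φx = CL D.d * (CL D.θ - CL D.θ' * (u : L[T;T⁻¹])) := by
  rw [φx, map_mul, map_sub, map_mul, E_C, E_C, E_C, E_T_one]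

lemma E_φy (u : L[T;T⁻¹]ˣ) : E K u D.φy = CL D.d * (1 - (u : L[T;T⁻¹])) := by
  rw [φy, map_mul, map_sub, map_one, E_C, E_T_one]

lemma E_v (u : L[T;T⁻¹]ˣ) : E K u D.v = CL D.aL⁻¹ * ((u⁻¹ : L[T;T⁻¹]ˣ) : L[T;T⁻¹]) := by
  rw [v, map_mul, E_C, E_T_neg_one]

/-- Every `K`-algebra map `R' → L[T;T⁻¹]` is `Φ₀` followed by `T ↦ Pof ψ`. -/
theorem eq_E_comp : ψ = (E K (D.uOf ψ)).comp D.Φ₀ := by
  apply algHom_ext D.hq
  · rw [AlgHom.comp_apply, Φ₀_Xg, map_mul, map_pow, E_φx, E_v, val_uOf, val_inv_uOf]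
    exact (PLineId.rec_x D.C_d_mul D.C_aLinv_mul (D.Pof_mul_Pof' ψ)
      (PLineId.aux_x D.C_b D.C_c (D.ψ_lin ψ))).symm
  · rw [AlgHom.comp_apply, Φ₀_Yg, map_mul, map_mul, E_φx, E_φy, E_v, val_uOf, val_inv_uOf]
    exact (PLineId.rec_y D.C_d_mul D.C_aLinv_mul (D.Pof_mul_Pof' ψ)
      (PLineId.aux_y D.C_b D.C_c (D.ψ_lin ψ))).symm
  · rw [AlgHom.comp_apply, Φ₀_Zg, map_mul, map_pow, E_φy, E_v, val_uOf, val_inv_uOf]
    exact (PLineId.rec_z D.C_d_mul D.C_aLinv_mul (D.Pof_mul_Pof' ψ)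
      (PLineId.aux_z D.C_b D.C_c (D.ψ_lin ψ))).symm

lemma σB_Pof (hψ : D.σB.comp ψ = ψ) : D.σB (D.Pof ψ) = D.Pof' ψ := by
  have h : ∀ z, D.σB (ψ z) = ψ z := fun z => by
    conv_rhs => rw [← hψ]
    rfl
  rw [Pof, Pof', map_mul, map_add, map_sub, map_mul, map_mul, map_mul, map_pow, σB_C, σB_C,
    h, h, h, D.σ_aL, D.hσ, map_ofNat]

lemma Pof_E_comp (u : L[T;T⁻¹]ˣ) : D.Pof ((E K u).comp ψ) = E K u (D.Pof ψ) := by
  simp only [Pof, AlgHom.comp_apply, map_mul, map_add, map_sub, map_pow, E_C, map_ofNat]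

lemma Pof_Φ₀ : D.Pof D.Φ₀ = TL 1 := by
  rw [Pof, Φ₀_Xg, Φ₀_Yg, Φ₀_Zg, φx, φy, v]
  exact PLineId.P_base D.C_d_mul D.C_aLinv_mul TL_mul_TL_neg

end Setup

end Groth.Agent.R2.H70.PLine
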