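import Mathlib
import Groth.Agent.R2.H70PLineMain

/-!
# helper70: injectivity of the embedding `R' → L[T;T⁻¹]`

We compose with `T ↦ (x - θ y)/(x - θ' y)` into the fraction field of `L[x,y]` and recover the
tautological embedding of `R'`.
-/

set_option autoImplicit false
universe u v
attribute [local instance] MvPolynomial.gradedAlgebra

namespace Groth.Agent.R2.H70.PLine

open HomogeneousLocalization MvPolynomial
open scoped LaurentPolynomial

local notation "CL" => LaurentPolynomial.C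
local notation "TL" => LaurentPolynomial.T

variable {K : Type u} [Field K] {q : MvPolynomial (Fin 2) K} {L : Type v} [Field L] [Algebra K L]
  (D : Setup K q L)

/-- The fraction field of `L[x,y]`. -/
abbrev FF (L : Type v) [Field L] := FractionRing (MvPolynomial (Fin 2) L)

namespace Setup

noncomputable def xF : FF L := algebraMap (MvPolynomial (Fin 2) L) (FF L) (X 0)
noncomputable def yF : FF L := algebraMap (MvPolynomial (Fin 2) L) (FF L) (X 1)

/-- The tautological map `K[x,y] → Frac L[x,y]`. -/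
noncomputable def φF (K : Type u) [Field K] (L : Type v) [Field L] [Algebra K L] :
    MvPolynomial (Fin 2) K →ₐ[K] FF L :=
  MvPolynomial.aeval ![xF, yF]

lemma φF_eq (f : MvPolynomial (Fin 2) K) :
    φF K L f = algebraMap (MvPolynomial (Fin 2) L) (FF L) (MvPolynomial.map (algebraMap K L) f) := by
  have : (φF K L : MvPolynomial (Fin 2) K →+* FF L) =
      (algebraMap (MvPolynomial (Fin 2) L) (FF L)).comp (MvPolynomial.map (algebraMap K L)) := by
    apply MvPolynomial.ringHom_ext
    · intro k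
      simp only [φF, AlgHom.coe_toRingHom, MvPolynomial.aeval_C, RingHom.comp_apply,
        MvPolynomial.map_C]
      rw [IsScalarTower.algebraMap_apply K (MvPolynomial (Fin 2) L) (FF L)]
      rfl
    · intro i
      fin_cases i <;> simp [φF, xF, yF]
  exact RingHom.congr_fun this f

lemma φF_injective : Function.Injective (φF K L) := by
  intro f g h
  rw [φF_eq, φF_eq] at h
  exact MvPolynomial.map_injective _ (algebraMap K L).injective
    (IsFractionRing.injective (MvPolynomial (Fin 2) L) (FF L) h)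

lemma φF_X0 : φF K L (X 0) = xF := by simp [φF]
lemma φF_X1 : φF K L (X 1) = yF := by simp [φF]
lemma φF_C (k : K) : φF K L (C k) = algebraMap L (FF L) (algebraMap K L k) := by
  simp only [φF, MvPolynomial.aeval_C]
  exact IsScalarTower.algebraMap_apply K L (FF L) k

/-- `x - θ y` and `x - θ' y` in the fraction field. -/
noncomputable def uF : FF L := xF - algebraMap L (FF L) D.θ * yF
noncomputable def wF : FF L := xF - algebraMap L (FF L) D.θ' * yF

lemma linForm_ne (t : L) : (xF - algebraMap L (FF L) t * yF : FF L) ≠ 0 := by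
  have h1 : (xF - algebraMap L (FF L) t * yF : FF L) =
      algebraMap (MvPolynomial (Fin 2) L) (FF L) (X 0 - C t * X 1) := by
    rw [map_sub, map_mul, xF, yF]
    congr 2
  rw [h1, Ne, map_eq_zero_iff _ (IsFractionRing.injective (MvPolynomial (Fin 2) L) (FF L))]
  intro h
  have := congrArg (MvPolynomial.eval ![1, 0]) h
  simp at this

lemma uF_ne : D.uF ≠ 0 := linForm_ne D.θ
lemma wF_ne : D.wF ≠ 0 := linForm_ne D.θ'

lemma aF_ne : algebraMap L (FF L) D.aL ≠ 0 := by
  rw [Ne, map_eq_zero_iff _ (algebraMap L (FF L)).injective]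
  exact D.aL_ne

lemma φF_q : φF K L q = algebraMap L (FF L) D.aL * D.uF * D.wF := by
  rw [show φF K L q = φF K L (C D.a * X 0 ^ 2 + C D.b * (X 0 * X 1) + C D.c * X 1 ^ 2) from
    congrArg (φF K L) D.hqe]
  simp only [map_add, map_mul, map_pow, φF_X0, φF_X1, φF_C]
  rw [D.hsum, D.hprod, uF, wF, aL]
  simp only [map_neg, map_mul, map_add]
  ring

include D in
lemma φF_q_ne : φF K L q ≠ 0 := by
  rw [D.φF_q]
  exact mul_ne_zero (mul_ne_zero D.aF_ne D.uF_ne) D.wF_ne

/-- The tautological embedding `R' → Frac L[x,y]`. -/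
noncomputable def ι : R' K q →ₐ[K] FF L :=
  awayHom (φF K L) (φF K L q)⁻¹ (mul_inv_cancel₀ D.φF_q_ne)

lemma ι_injective : Function.Injective D.ι :=
  awayHom_injective (φF K L) φF_injective _ _

/-- The unit `(x - θ y)/(x - θ' y)`. -/
noncomputable def tF : (FF L)ˣ := Units.mk0 (D.uF / D.wF) (div_ne_zero D.uF_ne D.wF_ne)

/-- `T ↦ (x - θ y)/(x - θ' y)`. -/
noncomputable def χ : L[T;T⁻¹] →ₐ[K] FF L :=
  { LaurentPolynomial.eval₂ (algebraMap L (FF L)) D.tF with
    commutes' := fun k => by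
      simp only [LaurentPolynomial.algebraMap_apply, RingHom.toMonoidHom_eq_coe,
        OneHom.toFun_eq_coe, MonoidHom.toOneHom_coe, MonoidHom.coe_coe,
        LaurentPolynomial.eval₂_C]
      exact (IsScalarTower.algebraMap_apply K L (FF L) k).symm }

lemma χ_C (l : L) : D.χ (CL l) = algebraMap L (FF L) l := LaurentPolynomial.eval₂_C _ _ _

lemma χ_T_one : D.χ (TL 1) = D.uF / D.wF := by
  have : D.χ (TL 1) = ((D.tF ^ (1 : ℤ) : (FF L)ˣ) : FF L) := LaurentPolynomial.eval₂_T _ _ _
  rw [this, zpow_one]; rfl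

lemma χ_T_neg_one : D.χ (TL (-1)) = D.wF / D.uF := by
  have : D.χ (TL (-1)) = ((D.tF ^ (-1 : ℤ) : (FF L)ˣ) : FF L) := LaurentPolynomial.eval₂_T _ _ _
  rw [this, zpow_neg_one, tF, Units.val_inv_eq_inv_val, Units.val_mk0, inv_div]

lemma χ_φx : D.χ D.φx = xF / D.wF := by
  rw [φx, map_mul, map_sub, map_mul, χ_C, χ_C, χ_C, χ_T_one, d, map_inv₀, map_sub]
  have h1 := D.wF_ne
  have h2 : algebraMap L (FF L) D.θ - algebraMap L (FF L) D.θ' ≠ 0 := by
    rw [← map_sub, Ne, map_eq_zero_iff _ (algebraMap L (FF L)).injective]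
    exact sub_ne_zero.mpr D.hne
  rw [uF, wF] at *
  field_simp
  ring

lemma χ_φy : D.χ D.φy = yF / D.wF := by
  rw [φy, map_mul, map_sub, map_one, χ_C, χ_T_one, d, map_inv₀, map_sub]
  have h1 := D.wF_ne
  have h2 : algebraMap L (FF L) D.θ - algebraMap L (FF L) D.θ' ≠ 0 := by
    rw [← map_sub, Ne, map_eq_zero_iff _ (algebraMap L (FF L)).injective]
    exact sub_ne_zero.mpr D.hne
  rw [uF, wF] at *
  field_simp
  ring

lemma χ_v : D.χ D.v = (algebraMap L (FF L) D.aL)⁻¹ * (D.wF / D.uF) := by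
  rw [v, map_mul, χ_C, χ_T_neg_one, map_inv₀]

theorem χ_comp_Φ₀ : D.χ.comp D.Φ₀ = D.ι := by
  have h1 := D.wF_ne
  have h2 := D.uF_ne
  have h3 := D.aF_ne
  apply algHom_ext D.hq
  · rw [AlgHom.comp_apply, Φ₀_Xg, map_mul, map_pow, χ_φx, χ_v, ι, awayHom_Xg, φF_X0, D.φF_q]
    field_simp
  · rw [AlgHom.comp_apply, Φ₀_Yg, map_mul, map_mul, χ_φx, χ_φy, χ_v, ι, awayHom_Yg, φF_X0,
      φF_X1, D.φF_q]
    field_simp
  · rw [AlgHom.comp_apply, Φ₀_Zg, map_mul, map_pow, χ_φy, χ_v, ι, awayHom_Zg, φF_X1, D.φF_q]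
    field_simp

theorem Φ₀_injective : Function.Injective D.Φ₀ := by
  have h : Function.Injective (D.χ.comp D.Φ₀) := by
    rw [χ_comp_Φ₀]; exact D.ι_injective
  exact Function.Injective.of_comp (f := D.χ) (by simpa using h)

end Setup

end Groth.Agent.R2.H70.PLine
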