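import Mathlib
import Groth.Agent.R2.H70PLineMain
import Groth.Agent.R2.H70PLineInj
import Groth.Agent.R2.H70PLineGroup

/-!
# helper70: finite groups of automorphisms of `P¹ ∖ {q = 0}`
-/

set_option autoImplicit false
universe u v
attribute [local instance] MvPolynomial.gradedAlgebra

namespace Groth.Agent.R2.H70.PLine

open HomogeneousLocalization MvPolynomial
open scoped LaurentPolynomial

local notation "CL" => LaurentPolynomial.C
local notation "TL" => LaurentPolynomial.T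

variable {K : Type u} [Field K] {q : MvPolynomial (Fin 2) K} {L : Type v} [Field L] [Algebra K L]
  (D : Setup K q L)

namespace Setup

/-- `Φ₀ ∘ g`. -/
noncomputable def ψ (g : R' K q ≃ₐ[K] R' K q) : R' K q →ₐ[K] L[T;T⁻¹] :=
  D.Φ₀.comp (g : R' K q →ₐ[K] R' K q)

lemma exists_ck (g : R' K q ≃ₐ[K] R' K q) :
    ∃ c : L, c ≠ 0 ∧ ∃ k : ℤ, D.Pof (D.ψ g) = CL c * TL k :=
  LaurentUnits.exists_eq_C_mul_T_of_isUnit (D.uOf (D.ψ g)).isUnit

noncomputable def cOf (g : R' K q ≃ₐ[K] R' K q) : L := (D.exists_ck g).choose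
noncomputable def kOf (g : R' K q ≃ₐ[K] R' K q) : ℤ := (D.exists_ck g).choose_spec.2.choose

lemma cOf_ne (g : R' K q ≃ₐ[K] R' K q) : D.cOf g ≠ 0 := (D.exists_ck g).choose_spec.1

lemma Pof_ψ (g : R' K q ≃ₐ[K] R' K q) : D.Pof (D.ψ g) = CL (D.cOf g) * TL (D.kOf g) :=
  (D.exists_ck g).choose_spec.2.choose_spec

lemma ψ_mul (g h : R' K q ≃ₐ[K] R' K q) :
    D.ψ (g * h) = (E K (D.uOf (D.ψ g))).comp (D.ψ h) := by
  have h1 : D.ψ (g * h) = (D.ψ g).comp (h : R' K q →ₐ[K] R' K q) := by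
    ext z; rfl
  rw [h1]
  conv_lhs => rw [D.eq_E_comp (D.ψ g)]
  rfl

lemma ck_mul (g h : R' K q ≃ₐ[K] R' K q) :
    D.cOf (g * h) = D.cOf h * D.cOf g ^ D.kOf h ∧ D.kOf (g * h) = D.kOf g * D.kOf h := by
  have h1 : D.Pof (D.ψ (g * h)) = E K (D.uOf (D.ψ g)) (D.Pof (D.ψ h)) := by
    rw [ψ_mul, Pof_E_comp]
  rw [Pof_ψ, Pof_ψ, map_mul, E_C, E_T,
    zpow_val (D.cOf_ne g) (by rw [val_uOf]; exact D.Pof_ψ g), ← mul_assoc, ← map_mul] at h1
  exact (LaurentUnits.C_mul_T_eq_iff (D.cOf_ne (g * h))).mp h1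

lemma ck_one : D.cOf 1 = 1 ∧ D.kOf 1 = 1 := by
  have h0 : D.ψ 1 = D.Φ₀ := by ext; rfl
  have h1 := D.Pof_ψ 1
  rw [h0, Pof_Φ₀] at h1
  have h2 : (CL 1 * TL 1 : L[T;T⁻¹]) = CL (D.cOf 1) * TL (D.kOf 1) := by
    rw [map_one, one_mul]; exact h1
  obtain ⟨hc, hk⟩ := (LaurentUnits.C_mul_T_eq_iff one_ne_zero).mp h2
  exact ⟨hc.symm, hk.symm⟩

lemma ck_inj (g h : R' K q ≃ₐ[K] R' K q) (hc : D.cOf g = D.cOf h) (hk : D.kOf g = D.kOf h) :
    g = h := by
  have hu : D.uOf (D.ψ g) = D.uOf (D.ψ h) :=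
    Units.ext (by rw [val_uOf, val_uOf, Pof_ψ, Pof_ψ, hc, hk])
  have hψ : D.ψ g = D.ψ h := by
    rw [D.eq_E_comp (D.ψ g), D.eq_E_comp (D.ψ h), hu]
  refine AlgEquiv.ext fun z => ?_
  apply D.Φ₀_injective
  exact AlgHom.congr_fun hψ z

lemma σ_cOf (g : R' K q ≃ₐ[K] R' K q) : D.σ (D.cOf g) = (D.cOf g)⁻¹ := by
  have hinv : D.σB.comp (D.ψ g) = D.ψ g := by
    rw [ψ, ← AlgHom.comp_assoc, σB_comp_Φ₀]
  have h1 := D.σB_Pof (D.ψ g) hinv
  have hc := D.cOf_ne g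
  have h2 : D.Pof' (D.ψ g) = CL (D.cOf g)⁻¹ * TL (-D.kOf g) := by
    have h3 := D.Pof_mul_Pof' (D.ψ g)
    rw [Pof_ψ] at h3
    calc D.Pof' (D.ψ g)
        = (CL (D.cOf g)⁻¹ * CL (D.cOf g)) * (TL (-D.kOf g) * TL (D.kOf g)) * D.Pof' (D.ψ g) := by
          rw [← map_mul, inv_mul_cancel₀ hc, ← LaurentPolynomial.T_add]; simp
      _ = CL (D.cOf g)⁻¹ * TL (-D.kOf g) * (CL (D.cOf g) * TL (D.kOf g) * D.Pof' (D.ψ g)) := by
          ring
      _ = CL (D.cOf g)⁻¹ * TL (-D.kOf g) := by rw [h3, mul_one]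
  rw [Pof_ψ, map_mul, σB_C, σB_T, h2] at h1
  have hσc : D.σ (D.cOf g) ≠ 0 := fun h => hc ((map_eq_zero D.σ).mp h)
  exact ((LaurentUnits.C_mul_T_eq_iff hσc).mp h1).1

end Setup

open Polynomial in
/-- The main bound, given the set-up. -/
theorem main_bound (D : Setup K q L)
    (hK : ∀ n : ℕ, 0 < n → (Polynomial.X ^ n - 1 : Polynomial K).Splits)
    (G : Subgroup (R' K q ≃+* R' K q)) [Finite G]
    (hG : ∀ g ∈ G, ∀ (k : K) (z : R' K q), g (k • z) = k • g z) :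
    (∀ g ∈ G, g ^ 2 = 1) ∧ Nat.card G ≤ 4 := by
  let toA : G → (R' K q ≃ₐ[K] R' K q) := fun g => toAlgEquiv g.1 (hG g.1 g.2)
  have toA_mul : ∀ g h : G, toA (g * h) = toA g * toA h := fun g h => by
    ext z; rfl
  have toA_one : toA 1 = 1 := by ext z; rfl
  have toA_inj : Function.Injective toA := by
    intro g h hgh
    apply Subtype.ext
    refine RingEquiv.ext fun z => ?_
    exact AlgEquiv.congr_fun hgh z
  have key := PLineGroup.abstract_bound (G := G) (L := L)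
    (fun g => D.cOf (toA g)) (fun g => D.kOf (toA g))
    (fun g => D.cOf_ne (toA g))
    (by rw [toA_one]; exact D.ck_one.2)
    (by rw [toA_one]; exact D.ck_one.1)
    (fun g h => by rw [toA_mul]; exact (D.ck_mul (toA g) (toA h)).2)
    (fun g h => by rw [toA_mul]; exact (D.ck_mul (toA g) (toA h)).1)
    (fun g h hc hk => toA_inj (D.ck_inj (toA g) (toA h) hc hk))
    (by
      rintro g - ⟨n, hn, hcn⟩
      set c := D.cOf (toA g) with hc
      have hne : (Polynomial.X ^ n - 1 : Polynomial K) ≠ 0 :=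
        Polynomial.X_pow_sub_C_ne_zero hn (1 : K)
      have hroot : ((Polynomial.X ^ n - 1 : Polynomial K).map (algebraMap K L)).IsRoot c := by
        simp [Polynomial.IsRoot, hcn]
      obtain ⟨c₀, hc₀⟩ := (hK n hn).mem_range_of_isRoot hne hroot
      have h1 : D.σ c = c := by rw [← hc₀]; exact D.σ.commutes c₀
      have h2 : D.σ c = c⁻¹ := D.σ_cOf (toA g)
      have h3 : c * c = 1 := by
        have : c = c⁻¹ := h1.symm.trans h2
        calc c * c = c * c⁻¹ := by rw [← this]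
          _ = 1 := mul_inv_cancel₀ (D.cOf_ne (toA g))
      exact mul_self_eq_one_iff.mp h3)
  refine ⟨fun g hg => ?_, key.2⟩
  have := key.1 ⟨g, hg⟩
  exact congrArg Subtype.val this

end Groth.Agent.R2.H70.PLine
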