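import Mathlib
import Groth.Agent.R2.H70PLineAut
import Groth.Agent.R2.H70BinQuad

/-!
# helper70: the set-up for an irreducible binary quadratic form with non-zero discriminant
-/

set_option autoImplicit false
universe u
attribute [local instance] MvPolynomial.gradedAlgebra

namespace Groth.Agent.R2.H70.PLine

open MvPolynomial BinQuad

variable {K : Type u} [Field K]

section
variable {a b c : K} (ha : a ≠ 0) [hp : Fact (Irreducible (quadPoly a b c))]

/-- The quadratic extension. -/
abbrev LL (a b c : K) := AdjoinRoot (quadPoly a b c)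

lemma root_rel :
    algebraMap K (LL a b c) a * AdjoinRoot.root (quadPoly a b c) ^ 2
      + algebraMap K (LL a b c) b * AdjoinRoot.root (quadPoly a b c)
      + algebraMap K (LL a b c) c = 0 := by
  have h := AdjoinRoot.eval₂_root (quadPoly a b c)
  rw [eval₂_quadPoly] at h
  exact h

include ha in
lemma aL_ne' : algebraMap K (LL a b c) a ≠ 0 := by
  rw [Ne, map_eq_zero_iff _ (algebraMap K (LL a b c)).injective]
  exact ha

/-- The conjugate root. -/
noncomputable def θ₂ (a b c : K) [Fact (Irreducible (quadPoly a b c))] : LL a b c :=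
  -(algebraMap K (LL a b c) b / algebraMap K (LL a b c) a) - AdjoinRoot.root (quadPoly a b c)

include ha in
lemma sum_rel : algebraMap K (LL a b c) b =
    -(algebraMap K (LL a b c) a * (AdjoinRoot.root (quadPoly a b c) + θ₂ a b c)) := by
  have h := aL_ne' (b := b) (c := c) ha
  rw [θ₂]
  field_simp
  ring

include ha in
lemma prod_rel : algebraMap K (LL a b c) c =
    algebraMap K (LL a b c) a * (AdjoinRoot.root (quadPoly a b c) * θ₂ a b c) := by
  have h := aL_ne' (b := b) (c := c) ha
  have hr := root_rel (a := a) (b := b) (c := c)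
  rw [θ₂]
  field_simp
  linear_combination hr

include ha in
lemma root_ne (hdisc : b ^ 2 - 4 * a * c ≠ 0) : AdjoinRoot.root (quadPoly a b c) ≠ θ₂ a b c := by
  intro h
  have h1 := sum_rel (b := b) (c := c) ha
  have h2 := prod_rel (b := b) (c := c) ha
  rw [← h] at h1 h2
  have h3 : algebraMap K (LL a b c) (b ^ 2 - 4 * a * c) = 0 := by
    simp only [map_sub, map_mul, map_pow, map_ofNat]
    rw [h1, h2]
    ring
  rw [map_eq_zero_iff _ (algebraMap K (LL a b c)).injective] at h3
  exact hdisc h3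

include ha in
lemma eval₂_θ₂ :
    (quadPoly a b c).eval₂ (Algebra.ofId K (LL a b c)) (θ₂ a b c) = 0 := by
  have h := aL_ne' (b := b) (c := c) ha
  have hr := root_rel (a := a) (b := b) (c := c)
  rw [eval₂_quadPoly]
  change algebraMap K (LL a b c) a * θ₂ a b c ^ 2 + algebraMap K (LL a b c) b * θ₂ a b c
    + algebraMap K (LL a b c) c = 0
  rw [θ₂]
  field_simp
  linear_combination (algebraMap K (LL a b c) a) * hr

/-- The conjugation. -/
noncomputable def σ₂ : LL a b c →ₐ[K] LL a b c :=
  AdjoinRoot.liftAlgHom (quadPoly a b c) (Algebra.ofId K (LL a b c)) (θ₂ a b c) (eval₂_θ₂ ha)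

lemma σ₂_root : σ₂ ha (AdjoinRoot.root (quadPoly a b c)) = θ₂ a b c :=
  AdjoinRoot.liftAlgHom_root _ _ _ _

lemma σ₂_θ₂ : σ₂ ha (θ₂ a b c) = AdjoinRoot.root (quadPoly a b c) := by
  conv_lhs => rw [θ₂]
  rw [map_sub, map_neg, map_div₀, AlgHom.commutes, AlgHom.commutes, σ₂_root, θ₂]
  ring

end

/-- The set-up attached to an irreducible binary quadratic form with non-zero discriminant. -/
noncomputable def mkSetup {q : MvPolynomial (Fin 2) K} (hq : q.IsHomogeneous 2)
    {a b c : K} (hqe : q = C a * X 0 ^ 2 + C b * (X 0 * X 1) + C c * X 1 ^ 2) (ha : a ≠ 0)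
    [Fact (Irreducible (quadPoly a b c))] (hdisc : b ^ 2 - 4 * a * c ≠ 0) :
    Setup K q (LL a b c) where
  hq := hq
  a := a
  b := b
  c := c
  hqe := hqe
  ha := ha
  θ := AdjoinRoot.root (quadPoly a b c)
  θ' := θ₂ a b c
  hsum := sum_rel ha
  hprod := prod_rel ha
  hne := root_ne ha hdisc
  σ := σ₂ ha
  hσ := σ₂_root ha
  hσ' := σ₂_θ₂ ha

/-- The theorem in final form. -/
theorem finite_aut_bound
    (hK : ∀ n : ℕ, 0 < n → (Polynomial.X ^ n - 1 : Polynomial K).Splits)
    (q : MvPolynomial (Fin 2) K) (hq : q.IsHomogeneous 2) (hirr : Irreducible q)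
    (hdisc : (q.coeff (Finsupp.single 0 1 + Finsupp.single 1 1)) ^ 2 -
      4 * q.coeff (Finsupp.single 0 2) * q.coeff (Finsupp.single 1 2) ≠ 0)
    (G : Subgroup (R' K q ≃+* R' K q)) [Finite G]
    (hG : ∀ g ∈ G, ∀ (k : K) (z : R' K q), g (k • z) = k • g z) :
    (∀ g ∈ G, g ^ 2 = 1) ∧ Nat.card G ≤ 4 := by
  have hqe := eq_of_isHomogeneous_two hq
  set a := q.coeff (Finsupp.single 0 2) with ha_def
  set b := q.coeff (Finsupp.single 0 1 + Finsupp.single 1 1) with hb_def
  set c := q.coeff (Finsupp.single 1 2) with hc_def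
  have hirr' : Irreducible (C a * X 0 ^ 2 + C b * (X 0 * X 1) + C c * X 1 ^ 2 :
      MvPolynomial (Fin 2) K) := hqe ▸ hirr
  obtain ⟨ha, hroot⟩ := ne_zero_and_no_root hirr'
  have : Fact (Irreducible (quadPoly a b c)) := ⟨irreducible_quadPoly ha hroot⟩
  exact main_bound (mkSetup hq hqe ha hdisc) hK G hG

end Groth.Agent.R2.H70.PLine
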