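import Mathlib
import Groth.Prelude.Def_ShStab
import Groth.Agent.R2.H70StabGeoA
import Groth.Agent.R2.H70BCMain
import Groth.Agent.R2.H79TwistCalc
import Groth.Agent.Lib.Helper23PB
import Groth.Agent.Lib.Helper23RestrTensor
import Groth.Agent.Lib.Helper2PullbackSec
import Groth.Agent.Lib.Helper20FormalPull
import Groth.Agent.Lib.Helper26FpqcMod

/-!
# PROJ:shstab, PKG-BC (helper70): Hilbert polynomials and semistability under extension of the base field

* `euler_bc` : `χ(X_K, p^*F) = χ(X, F)` for `F` quasi-coherent (`X` qcqs over `k`), from flat base change.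
* `isHilbPoly_bc` : `P_{p^*F} = P_F` w.r.t. `p^*L`.
* `s15211_of` : if `E ⊗_k K` is semistable then so is `E` (for `E` coherent and pure).
-/

set_option autoImplicit false

universe u

open CategoryTheory CategoryTheory.Limits AlgebraicGeometry Polynomial TopologicalSpace

namespace Groth.Agent.R2.H70.StabBC

open Groth.Agent.R2.H70.StabPoly Groth.Agent.R2.H70.StabCtx Groth.Agent.R2.H70.StabSpec
  Groth.Agent.R2.H70.StabGeo Groth.Agent.R2.H62.Snapper StabCat

section bc

variable (k : Type u) [Field k] (X : Scheme.{u}) [X.Over (Spec (CommRingCat.of k))]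
  (K : Type u) [Field K] [Algebra k K]

/-- Euler characteristics are invariant under extension of the base field -/
theorem euler_bc [CompactSpace X] [QuasiSeparatedSpace X] (F : X.Modules) (hF : Coh.IsQCoh F) :
    Curv2.euler K (Curv2.bc k X K) ((Scheme.Modules.pullback (Curv2.bcFst k X K)).obj F) =
      Curv2.euler k X F := by
  unfold Curv2.euler
  refine finsum_congr fun i => ?_
  haveI : Coh.IsQCoh F := hF
  obtain ⟨e⟩ := Groth.Agent.R2.H70.BC.nonempty_linearEquiv k K X (Curv2.bc k X K) (Curv2.bcFst k X K)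
    (IsPullback.of_hasPullback _ _) F i
  rw [← e.finrank_eq, Module.finrank_baseChange]

/-- the twist commutes with the pull-back -/
theorem nonempty_twist_pullback_iso {Y : Scheme.{u}} (f : Y ⟶ X) (L F : X.Modules)
    (hL : PicF.IsInvertible L) (m : ℕ) :
    Nonempty (ShStab.twist Y ((Scheme.Modules.pullback f).obj L) ((Scheme.Modules.pullback f).obj F) m ≅
      (Scheme.Modules.pullback f).obj (ShStab.twist X L F m)) := by
  obtain ⟨Φ⟩ := Groth.Agent.Lib.Helper23.PB.nonempty_pullback_tensorPow_iso f L hL m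
  exact ⟨tensorIsoLeft _ Φ.symm ≪≫
    (Groth.Agent.Lib.Helper23.RestrTensor.pullbackTensorIso F (CohB1.tensorPow L m) f).symm⟩

theorem isHilbPoly_bc [CompactSpace X] [QuasiSeparatedSpace X] (L F : X.Modules)
    (hL : PicF.IsInvertible L) (hF : Coh.IsCoh F) {P : ℚ[X]} (hP : ShStab.IsHilbPoly k X L F P) :
    ShStab.IsHilbPoly K (Curv2.bc k X K) ((Scheme.Modules.pullback (Curv2.bcFst k X K)).obj L)
      ((Scheme.Modules.pullback (Curv2.bcFst k X K)).obj F) P := by
  intro m
  rw [← hP m]
  congr 1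
  obtain ⟨e⟩ := nonempty_twist_pullback_iso X (Curv2.bcFst k X K) L F hL m
  rw [euler_congr K e]
  refine euler_bc k X K _ ?_
  exact (Groth.Agent.R2.H79.TwistCalc.isCoh_tensorMod F _ hF
    (Groth.Agent.Lib.Helper23.SecTw.isInvertible_tensorPow hL m)).1

end bc

section main

variable (hctx : PkgCtx.{u})
include hctx

variable (k : Type u) [Field k] (X : Scheme.{u}) [X.Over (Spec (CommRingCat.of k))]
  [IsProper (X ↘ Spec (CommRingCat.of k))] (K : Type u) [Field K] [Algebra k K]

instance isProper_bc : IsProper ((Curv2.bc k X K) ↘ Spec (CommRingCat.of K)) :=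
  inferInstanceAs (IsProper (pullback.snd (X ↘ Spec (CommRingCat.of k))
    (Spec.map (CommRingCat.ofHom (algebraMap k K)))))

instance flat_bcFst : Flat (Curv2.bcFst k X K) := by
  haveI : Flat (Spec.map (CommRingCat.ofHom (algebraMap k K))) := by
    rw [Flat.SpecMap_iff]
    exact RingHom.flat_algebraMap_iff.2 inferInstance
  exact inferInstanceAs (Flat (pullback.fst (X ↘ Spec (CommRingCat.of k))
    (Spec.map (CommRingCat.ofHom (algebraMap k K)))))

instance isAffineHom_bcFst : IsAffineHom (Curv2.bcFst k X K) :=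
  MorphismProperty.of_isPullback (P := @IsAffineHom) (IsPullback.of_hasPullback
    (X ↘ Spec (CommRingCat.of k)) (Spec.map (CommRingCat.ofHom (algebraMap k K)))).flip inferInstance

/-- a coherent module vanishing after extension of the base field vanishes -/
theorem isZero_of_isZero_pullback (L : X.Modules) (hL : CohB1.IsAmple L) (F : X.Modules) (hF : Coh.IsCoh F)
    (hz : IsZero ((Scheme.Modules.pullback (Curv2.bcFst k X K)).obj F)) : IsZero F := by
  obtain ⟨Γ⟩ := hctx k X L hL
  obtain ⟨Γ'⟩ := hctx K (Curv2.bc k X K) ((Scheme.Modules.pullback (Curv2.bcFst k X K)).obj L)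
    (Groth.Agent.Lib.Helper23.PB.isAmple_pullback_of_isAffineHom (Curv2.bcFst k X K) L hL)
  haveI : CompactSpace X := (isNoetherian_of_isProper k (X := X)).toCompactSpace
  haveI : QuasiSeparatedSpace X :=
    quasiSeparatedSpace_of_quasiSeparated (X ↘ Spec (CommRingCat.of k))
  have hF₁ : Γ.H.ok F := Γ.ok_eq ▸ hF
  obtain ⟨P, hP⟩ := Γ.H.HP_exists hF₁
  have hP' : ShStab.IsHilbPoly k X L F P := Γ.HP_eq ▸ hP
  have h1 := isHilbPoly_bc k X K L F hL.1 hF hP'
  have h2 : ShStab.IsHilbPoly K (Curv2.bc k X K) ((Scheme.Modules.pullback (Curv2.bcFst k X K)).obj L)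
      ((Scheme.Modules.pullback (Curv2.bcFst k X K)).obj F) 0 := Γ'.HP_eq ▸ Γ'.H.HP_zero hz
  have h3 : P = 0 := isHilbPoly_unique K _ h1 h2
  obtain ⟨D, hD⟩ := exists_dim_le k (X := X)
  have hdim : Γ.H.dim F ≤ (D : WithBot ℕ∞) := by
    rw [Γ.dim_eq]; exact (topologicalKrullDim_subspace_le X _).trans hD
  exact Γ.H.isZero_of_HP_zero hF₁ hdim (h3 ▸ hP)

theorem s15211_of
    (L : X.Modules) (hL : CohB1.IsAmple L) (d : ℕ) (E : X.Modules)
    (hE : Coh.IsCoh E) (hp : ShStab.IsPure X E d)
    (hK : ShStab.IsSemistable K (Curv2.bc k X K) ((Scheme.Modules.pullback (Curv2.bcFst k X K)).obj L)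
      ((Scheme.Modules.pullback (Curv2.bcFst k X K)).obj E) d) :
    ShStab.IsSemistable k X L E d := by
  haveI : CompactSpace X := (isNoetherian_of_isProper k (X := X)).toCompactSpace
  haveI : QuasiSeparatedSpace X :=
    quasiSeparatedSpace_of_quasiSeparated (X ↘ Spec (CommRingCat.of k))
  haveI : IsLocallyNoetherian X := (isNoetherian_of_isProper k (X := X)).toIsLocallyNoetherian
  haveI : (Scheme.Modules.pullback (Curv2.bcFst k X K)).Additive :=
    (Scheme.Modules.pullbackPushforwardAdjunction (Curv2.bcFst k X K)).left_adjoint_additive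
  haveI : PreservesColimitsOfSize.{0, 0} (Scheme.Modules.pullback (Curv2.bcFst k X K)) :=
    (Scheme.Modules.pullbackPushforwardAdjunction (Curv2.bcFst k X K)).leftAdjoint_preservesColimits
  obtain ⟨-, hne, -, hss⟩ := hK
  refine ⟨hE, fun h0 => hne ((Scheme.Modules.pullback (Curv2.bcFst k X K)).map_isZero h0), hp, ?_⟩
  intro F ι hι hF hF0 hιiso pF pE hpF hpE
  haveI := hι
  have hmono : Mono ((Scheme.Modules.pullback (Curv2.bcFst k X K)).map ι) :=
    Groth.Agent.Lib.Helper26.FpqcMod.mono_pullback_of_flat (Curv2.bcFst k X K) ι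
  have hcoh : ∀ G : X.Modules, Coh.IsCoh G →
      Coh.IsCoh ((Scheme.Modules.pullback (Curv2.bcFst k X K)).obj G) := by
    intro G hG
    haveI : G.IsQuasicoherent := hG.1
    haveI : SheafOfModules.IsFiniteType (R := X.ringCatSheaf) G := hG.2
    exact ⟨Groth.Agent.Lib.Helper2.PullbackSec.isQuasicoherent_pullback (Curv2.bcFst k X K) G,
      Groth.Agent.Lib.Helper20.FormalPull.isFiniteType_pullback (Curv2.bcFst k X K) G⟩
  refine hss _ ((Scheme.Modules.pullback (Curv2.bcFst k X K)).map ι) hmono (hcoh F hF)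
    (fun hz => hF0 (isZero_of_isZero_pullback hctx k X K L hL F hF hz)) ?_ pF pE
    (isHilbPoly_bc k X K L F hL.1 hF hpF) (isHilbPoly_bc k X K L E hL.1 hE hpE)
  intro hiso
  apply hιiso
  have hQ : Coh.IsCoh (cokernel ι) := Groth.Agent.R2.H12.Dev.isCoh_cokernel hF hE ι
  have hz : IsZero ((Scheme.Modules.pullback (Curv2.bcFst k X K)).obj (cokernel ι)) := by
    refine IsZero.of_iso ?_ (PreservesCokernel.iso (Scheme.Modules.pullback (Curv2.bcFst k X K)) ι)
    exact isZero_cokernel_of_epi _
  have hQ0 : IsZero (cokernel ι) := isZero_of_isZero_pullback hctx k X K L hL _ hQ hz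
  haveI : Epi ι := by
    rw [Preadditive.epi_iff_cancel_zero]
    intro Z g hg
    have := cokernel.π_desc ι g hg
    rw [← this, hQ0.eq_of_tgt (cokernel.π ι) 0, Limits.zero_comp]
  exact isIso_of_mono_of_epi ι

end main

end Groth.Agent.R2.H70.StabBC
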