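import Mathlib
import Groth.Agent.R2.H70StabSub

/-!
# Quotients of subobjects in an abelian category (helper70, PROJ:shstab)

For subobjects `A ≤ B ≤ G` of `E`: the short exact sequence `0 → B/A → G/A → G/B → 0` (`quotSES`), and the lifting
of a subobject `K ↪ B/A` to a subobject `A ≤ G ≤ B` of `E` with `G/A ≅ K` (`exists_lift_sub`).
-/

set_option autoImplicit false

universe v u

open CategoryTheory CategoryTheory.Limits

namespace Groth.Agent.R2.H70.StabQuot

variable {C : Type u} [Category.{v} C] [Abelian C] {E : C}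

/-- the quotient `B / A` of subobjects `A ≤ B` -/
noncomputable abbrev quot (A B : Subobject E) (h : A ≤ B) : C := cokernel (Subobject.ofLE A B h)

/-- the projection `B ⟶ B / A` -/
noncomputable abbrev quotπ (A B : Subobject E) (h : A ≤ B) : (B : C) ⟶ quot A B h :=
  cokernel.π (Subobject.ofLE A B h)

section SES

variable {A B G : Subobject E} (hAB : A ≤ B) (hBG : B ≤ G)

/-- `B/A ⟶ G/A` -/
noncomputable def quotMap : quot A B hAB ⟶ quot A G (hAB.trans hBG) :=
  cokernel.desc _ (Subobject.ofLE B G hBG ≫ quotπ A G (hAB.trans hBG)) (by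
    rw [← Category.assoc, Subobject.ofLE_comp_ofLE]
    exact cokernel.condition _)

/-- `G/A ⟶ G/B` -/
noncomputable def quotProj : quot A G (hAB.trans hBG) ⟶ quot B G hBG :=
  cokernel.desc _ (quotπ B G hBG) (by
    rw [← Subobject.ofLE_comp_ofLE A B G hAB hBG, Category.assoc]
    rw [cokernel.condition, comp_zero])

@[reassoc (attr := simp)]
theorem π_quotMap : quotπ A B hAB ≫ quotMap hAB hBG = Subobject.ofLE B G hBG ≫ quotπ A G (hAB.trans hBG) :=
  cokernel.π_desc _ _ _

@[reassoc (attr := simp)]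
theorem π_quotProj : quotπ A G (hAB.trans hBG) ≫ quotProj hAB hBG = quotπ B G hBG :=
  cokernel.π_desc _ _ _

@[reassoc (attr := simp)]
theorem quotMap_quotProj : quotMap hAB hBG ≫ quotProj hAB hBG = 0 := by
  rw [← cancel_epi (quotπ A B hAB), π_quotMap_assoc, π_quotProj, cokernel.condition, comp_zero]

/-- a morphism to `G` killed by the projection to `G/B` factors through `B` -/
theorem exists_lift_of_comp_π_eq_zero {T : C} (t : T ⟶ (G : C)) (ht : t ≫ quotπ B G hBG = 0) :
    ∃ r : T ⟶ (B : C), r ≫ Subobject.ofLE B G hBG = t :=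
  ⟨Abelian.monoLift _ t ht, Abelian.monoLift_comp _ t ht⟩

instance : Epi (quotProj hAB hBG) := by
  have : Epi (quotπ A G (hAB.trans hBG) ≫ quotProj hAB hBG) := by
    rw [π_quotProj]; infer_instance
  exact epi_of_epi (quotπ A G (hAB.trans hBG)) _

instance : Mono (quotMap hAB hBG) := by
  apply Preadditive.mono_of_cancel_zero
  intro T t ht
  obtain ⟨T', e, he, t', fac⟩ := surjective_up_to_refinements_of_epi (quotπ A B hAB) t
  have h1 : (t' ≫ Subobject.ofLE B G hBG) ≫ quotπ A G (hAB.trans hBG) = 0 := by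
    rw [Category.assoc, ← π_quotMap hAB hBG, ← Category.assoc, ← fac, Category.assoc, ht, comp_zero]
  obtain ⟨r, hr⟩ := exists_lift_of_comp_π_eq_zero (hAB.trans hBG) _ h1
  have h2 : t' = r ≫ Subobject.ofLE A B hAB := by
    rw [← cancel_mono (Subobject.ofLE B G hBG), Category.assoc, Subobject.ofLE_comp_ofLE, hr]
  have h3 : e ≫ t = 0 := by
    rw [fac, h2, Category.assoc, cokernel.condition, comp_zero]
  exact (cancel_epi e).1 (by rw [h3, comp_zero])

/-- **third isomorphism theorem**: `0 → B/A → G/A → G/B → 0` is short exact -/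
theorem quotSES :
    (ShortComplex.mk (quotMap hAB hBG) (quotProj hAB hBG) (quotMap_quotProj hAB hBG)).ShortExact := by
  refine ShortComplex.ShortExact.mk' ?_ inferInstance inferInstance
  rw [ShortComplex.exact_iff_exact_up_to_refinements]
  intro T t ht
  change t ≫ quotProj hAB hBG = 0 at ht
  obtain ⟨T', e, he, t', fac⟩ := surjective_up_to_refinements_of_epi (quotπ A G (hAB.trans hBG)) t
  have h1 : t' ≫ quotπ B G hBG = 0 := by
    rw [← π_quotProj hAB hBG, ← Category.assoc, ← fac, Category.assoc, ht, comp_zero]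
  obtain ⟨r, hr⟩ := exists_lift_of_comp_π_eq_zero hBG t' h1
  refine ⟨T', e, he, r ≫ quotπ A B hAB, ?_⟩
  change e ≫ t = (r ≫ quotπ A B hAB) ≫ quotMap hAB hBG
  rw [fac, Category.assoc, π_quotMap, ← Category.assoc, hr]

end SES

section Lift

variable {A B : Subobject E} (hAB : A ≤ B)

/-- **lifting subobjects of a quotient**: a subobject `K ↪ B/A` is `G/A` for some `A ≤ G ≤ B`. -/
theorem exists_lift_sub {K : C} (κ : K ⟶ quot A B hAB) [Mono κ] :
    ∃ (G : Subobject E) (hAG : A ≤ G) (hGB : G ≤ B) (e : quot A G hAG ≅ K),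
      e.hom ≫ κ = quotMap hAG hGB ∧ Nonempty ((G : C) ≅ pullback κ (quotπ A B hAB)) := by
  let P := pullback κ (quotπ A B hAB)
  let fst : P ⟶ K := pullback.fst κ (quotπ A B hAB)
  let snd : P ⟶ (B : C) := pullback.snd κ (quotπ A B hAB)
  haveI : Mono snd := inferInstance
  haveI : Epi fst := inferInstance
  -- the lift of `A`
  let l : (A : C) ⟶ P := pullback.lift (0 : (A : C) ⟶ K) (Subobject.ofLE A B hAB) (by
    rw [zero_comp, cokernel.condition])
  have hl_fst : l ≫ fst = 0 := pullback.lift_fst _ _ _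
  have hl_snd : l ≫ snd = Subobject.ofLE A B hAB := pullback.lift_snd _ _ _
  let G : Subobject E := Subobject.mk (snd ≫ B.arrow)
  let i : (G : C) ≅ P := Subobject.underlyingIso (snd ≫ B.arrow)
  have hi : i.hom ≫ snd ≫ B.arrow = G.arrow := Subobject.underlyingIso_hom_comp_eq_mk _
  have hAG : A ≤ G := by
    refine Subobject.le_mk_of_comm l ?_
    rw [← Category.assoc, hl_snd, Subobject.ofLE_arrow]
  have hGB : G ≤ B := Subobject.mk_le_of_comm snd rfl
  have hAGl : Subobject.ofLE A G hAG ≫ i.hom = l := by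
    rw [← cancel_mono (snd ≫ B.arrow), Category.assoc, hi, Subobject.ofLE_arrow, ← Category.assoc, hl_snd,
      Subobject.ofLE_arrow]
  have hGBs : Subobject.ofLE G B hGB = i.hom ≫ snd := by
    rw [← cancel_mono B.arrow, Subobject.ofLE_arrow, Category.assoc, hi]
  -- `i.hom ≫ fst` is a cokernel of `ofLE A G`
  have hzero : Subobject.ofLE A G hAG ≫ (i.hom ≫ fst) = 0 := by
    rw [← Category.assoc, hAGl, hl_fst]
  have hker : IsLimit (KernelFork.ofι (Subobject.ofLE A G hAG) hzero) := by
    refine KernelFork.IsLimit.ofι' _ _ (fun {T} t ht => ?_)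
    have h1 : (t ≫ Subobject.ofLE G B hGB) ≫ quotπ A B hAB = 0 := by
      rw [hGBs, Category.assoc, Category.assoc, ← pullback.condition, ← Category.assoc, ← Category.assoc,
        Category.assoc t, ht, zero_comp]
    refine ⟨Abelian.monoLift (Subobject.ofLE A B hAB) (t ≫ Subobject.ofLE G B hGB) h1, ?_⟩
    rw [← cancel_mono (Subobject.ofLE G B hGB), Category.assoc, Subobject.ofLE_comp_ofLE,
      Abelian.monoLift_comp]
  haveI : Epi (i.hom ≫ fst) := epi_comp _ _
  have hcok : IsColimit (CokernelCofork.ofπ (i.hom ≫ fst) hzero) :=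
    Abelian.epiIsCokernelOfKernel _ hker
  let e : quot A G hAG ≅ K :=
    IsColimit.coconePointUniqueUpToIso (cokernelIsCokernel (Subobject.ofLE A G hAG)) hcok
  have he : quotπ A G hAG ≫ e.hom = i.hom ≫ fst :=
    IsColimit.comp_coconePointUniqueUpToIso_hom (cokernelIsCokernel (Subobject.ofLE A G hAG)) hcok
      WalkingParallelPair.one
  refine ⟨G, hAG, hGB, e, ?_, ⟨i⟩⟩
  rw [← cancel_epi (quotπ A G hAG), ← Category.assoc, he, π_quotMap, hGBs, Category.assoc, Category.assoc,
    pullback.condition]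

end Lift

end Groth.Agent.R2.H70.StabQuot
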