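import Mathlib
import Groth.Agent.R2.H70StabMD
import Groth.Agent.R2.H70StabQuot

/-!
# Relative purity and the relative maximal destabilising subobject (helper70, PROJ:shstab)

For a subobject `A` of `E` with `E/A` "pure" (`RelPure`): every quotient `B/A` is a pure object, and there is
`F > A` maximising the reduced Hilbert polynomial of `G/A` over all `ok` subobjects `G > A`, containing every `G`
attaining the maximum (`exists_relMaxDestab`).
-/

set_option autoImplicit false

universe v u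

open CategoryTheory CategoryTheory.Limits Polynomial StabCat

namespace Groth.Agent.R2.H70.StabRel

open Groth.Agent.R2.H70.StabPoly Groth.Agent.R2.H70.StabCtx Groth.Agent.R2.H70.StabQuot
  Groth.Agent.R2.H70.StabMD

variable {C : Type u} [Category.{v} C] [Abelian C] (H : HilbCtx C)

theorem ok_pullback {X Y Z : C} (f : X ⟶ Z) (g : Y ⟶ Z) (hX : H.ok X) (hY : H.ok Y) (hZ : H.ok Z) :
    H.ok (pullback f g) := by
  have h1 : H.ok (kernel (biprod.desc f (-g))) := H.ok_kernel _ (H.ok_biprod hX hY) hZ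
  have e : pullback f g ≅ kernel (biprod.desc f (-g)) :=
    IsLimit.conePointUniqueUpToIso (Abelian.PullbackToBiproductIsKernel.isLimitPullbackToBiproduct f g)
      (limit.isLimit _)
  exact H.ok_iso e.symm h1

variable {E : C}

/-- `E/A` is pure of dimension `d`, in terms of subobjects of `E` -/
def RelPure (d : ℕ) (A : Subobject E) : Prop :=
  ∀ (G : Subobject E) (h : A ≤ G), H.ok (G : C) → G ≠ A → H.dim (quot A G h) = (d : WithBot ℕ∞)

/-- the quotient is zero iff the subobjects agree -/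
theorem isZero_quot_iff {A G : Subobject E} (h : A ≤ G) : IsZero (quot A G h) ↔ G = A := by
  constructor
  · intro hz
    refine le_antisymm ?_ h
    exact Groth.Agent.Lib.Helper27.SubobjAb.le_of_cokernel_π_eq_zero h (hz.eq_of_tgt _ _)
  · rintro rfl
    have : IsIso (Subobject.ofLE G G h) := by
      have : Subobject.ofLE G G h = 𝟙 _ := by
        rw [← cancel_mono G.arrow, Subobject.ofLE_arrow, Category.id_comp]
      rw [this]; infer_instance
    exact isZero_cokernel_of_epi _

variable {d : ℕ}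

/-- lifting an `ok` subobject of a quotient: the lift is `ok` -/
theorem exists_lift_ok {A B : Subobject E} (hAB : A ≤ B) (hA : H.ok (A : C)) (hB : H.ok (B : C))
    {K : C} (κ : K ⟶ quot A B hAB) [Mono κ] (hK : H.ok K) :
    ∃ (G : Subobject E) (hAG : A ≤ G) (hGB : G ≤ B) (e : quot A G hAG ≅ K),
      e.hom ≫ κ = quotMap hAG hGB ∧ H.ok (G : C) := by
  obtain ⟨G, hAG, hGB, e, he, ⟨i⟩⟩ := exists_lift_sub hAB κ
  exact ⟨G, hAG, hGB, e, he, H.ok_iso i.symm (ok_pullback H _ _ hK hB (H.ok_quot hAB hA hB))⟩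

theorem isPure_quot {A B : Subobject E} (hAB : A ≤ B) (hA : H.ok (A : C)) (hB : H.ok (B : C))
    (hrel : RelPure H d A) : H.IsPure (quot A B hAB) d := by
  intro K κ hκ hK hK0
  haveI := hκ
  obtain ⟨G, hAG, hGB, e, -, hG⟩ := exists_lift_ok H hAB hA hB κ hK
  have hne : G ≠ A := fun h => hK0 (((isZero_quot_iff hAG).2 h).of_iso e.symm)
  rw [← H.dim_iso e]
  exact hrel G hAG hG hne

/-- relative purity of `⊥` is purity -/
theorem relPure_bot (hpure : H.IsPure E d) : RelPure H d (⊥ : Subobject E) := by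
  intro G h hG hne
  -- `G/⊥ ≅ G`
  have hz : Subobject.ofLE ⊥ G h = 0 := ((HilbCtx.eq_bot_iff_isZero (⊥ : Subobject E)).1 rfl).eq_of_src _ _
  have e : quot ⊥ G h ≅ (G : C) := by
    have : IsIso (quotπ ⊥ G h) := by
      have hm : Mono (quotπ ⊥ G h) := by
        apply Preadditive.mono_of_cancel_zero
        intro T t ht
        obtain ⟨r, hr⟩ := exists_lift_of_comp_π_eq_zero h t ht
        rw [← hr, hz, Limits.comp_zero]
      exact isIso_of_mono_of_epi _
    exact (asIso (quotπ ⊥ G h)).symm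
  rw [H.dim_iso e]
  exact hpure (G : C) G.arrow inferInstance hG (fun hz' => hne ((HilbCtx.eq_bot_iff_isZero G).2 hz'))

section RelMD

variable (hE : H.ok E)

include hE

/-- **relative maximal destabilising subobject** -/
theorem exists_relMaxDestab {A : Subobject E} (hA : H.ok (A : C)) (hrel : RelPure H d A) (hAtop : A ≠ ⊤) :
    ∃ (F : Subobject E) (hAF : A ≤ F), H.ok (F : C) ∧ F ≠ A ∧
      ∀ (G : Subobject E) (hAG : A ≤ G), H.ok (G : C) → G ≠ A →
        RedLE d (pS H G - pS H A) (pS H F - pS H A) ∧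
          (RedEq d (pS H G - pS H A) (pS H F - pS H A) → G ≤ F) := by
  have htop : H.ok ((⊤ : Subobject E) : C) := H.ok_top hE
  have hQ : H.ok (quot A ⊤ le_top) := H.ok_quot le_top hA htop
  have hQ0 : ¬ IsZero (quot A ⊤ le_top) := fun h => hAtop ((isZero_quot_iff le_top).1 h).symm
  have hQp : H.IsPure (quot A ⊤ le_top) d := isPure_quot H le_top hA htop hrel
  obtain ⟨K, κ, hκ, hK, hK0, hmax⟩ := exists_isMaxDestab H hQ hQp hQ0
  haveI := hκ
  obtain ⟨F, hAF, hFt, e, he'', hF⟩ := exists_lift_ok H le_top hA htop κ hK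
  have he' : e.hom ≫ κ = quotMap hAF le_top := he''
  have hFA : F ≠ A := fun h => hK0 (((isZero_quot_iff hAF).2 h).of_iso e.symm)
  have hpK : H.HP K (pS H F - pS H A) := H.HP_iso e (H.HP_quot hAF hA hF)
  refine ⟨F, hAF, hF, hFA, fun G hAG hG hGA => ?_⟩
  have hGq : H.ok (quot A G hAG) := H.ok_quot hAG hA hG
  have hGq0 : ¬ IsZero (quot A G hAG) := fun h => hGA ((isZero_quot_iff hAG).1 h)
  obtain ⟨h1, h2⟩ := hmax (quot A G hAG) (quotMap hAG le_top) inferInstance hGq hGq0 _ _ hpK
    (H.HP_quot hAG hA hG)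
  refine ⟨h1, fun heq => ?_⟩
  obtain ⟨φ, hφ⟩ := h2 heq
  -- `G ⟶ ⊤ ⟶ ⊤/F` vanishes
  have h3 : Subobject.ofLE G ⊤ le_top ≫ quotπ F ⊤ le_top = 0 := by
    rw [← π_quotProj hAF le_top, ← Category.assoc, ← π_quotMap hAG le_top, Category.assoc, ← hφ,
      ← Category.id_comp κ, ← e.inv_hom_id, Category.assoc e.inv, he']
    simp only [Category.assoc, quotMap_quotProj, Limits.comp_zero]
  obtain ⟨r, hr⟩ := exists_lift_of_comp_π_eq_zero (le_top : F ≤ ⊤) _ h3
  refine Subobject.le_of_comm r ?_
  rw [← Subobject.ofLE_arrow (le_top : F ≤ ⊤), ← Category.assoc, hr, Subobject.ofLE_arrow]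

end RelMD

end Groth.Agent.R2.H70.StabRel
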