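import Mathlib
import Groth.Agent.R2.H70StabRel

/-!
# Harder–Narasimhan filtrations in a Hilbert-polynomial context: existence (helper70, PROJ:shstab, PKG-HN)
-/

set_option autoImplicit false

universe v u

open CategoryTheory CategoryTheory.Limits Polynomial StabCat

namespace Groth.Agent.R2.H70.StabHN

open Groth.Agent.R2.H70.StabPoly Groth.Agent.R2.H70.StabCtx Groth.Agent.R2.H70.StabQuot
  Groth.Agent.R2.H70.StabMD Groth.Agent.R2.H70.StabRel

variable {C : Type u} [Category.{v} C] [Abelian C] (H : HilbCtx C) {E : C} {d : ℕ}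

/-- the Hilbert polynomial of the quotient `G / A` -/
noncomputable abbrev pQ (A G : Subobject E) : ℚ[X] := pS H G - pS H A

theorem pQ_add (A B G : Subobject E) : pQ H A G = pQ H A B + pQ H B G := by
  unfold pQ; ring

section

variable (hE : H.ok E) (hdim : H.dim E ≤ (d : WithBot ℕ∞))

include hE hdim

theorem dim_quot_le' {A B : Subobject E} (h : A ≤ B) (hA : H.ok (A : C)) (hB : H.ok (B : C)) :
    H.dim (quot A B h) ≤ (d : WithBot ℕ∞) :=
  ((H.dim_cokernel_le _ hA hB).trans (H.dim_sub_le hE hB)).trans hdim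

/-- `alpha (B/A) > 0` for `B ≠ A` over a relatively pure `A` -/
theorem alpha_pQ_pos {A B : Subobject E} (h : A ≤ B) (hA : H.ok (A : C)) (hB : H.ok (B : C))
    (hrel : RelPure H d A) (hne : B ≠ A) : 0 < alpha d (pQ H A B) :=
  H.alpha_pos d (H.ok_quot h hA hB) (hrel B h hB hne) (H.HP_quot h hA hB)

theorem alpha_pQ_nonneg {A B : Subobject E} (h : A ≤ B) (hA : H.ok (A : C)) (hB : H.ok (B : C)) :
    0 ≤ alpha d (pQ H A B) :=
  H.alpha_nonneg (H.ok_quot h hA hB) (dim_quot_le' H hE hdim h hA hB) (H.HP_quot h hA hB)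

/-- semistability of a quotient object from the numerical condition on intermediate subobjects -/
theorem isSemistable_quot {A B : Subobject E} (h : A ≤ B) (hA : H.ok (A : C)) (hB : H.ok (B : C))
    (hrel : RelPure H d A) (hne : B ≠ A)
    (hss : ∀ (G : Subobject E), A ≤ G → G ≤ B → H.ok (G : C) → G ≠ A → RedLE d (pQ H A G) (pQ H A B)) :
    H.IsSemistable (quot A B h) d := by
  refine ⟨H.ok_quot h hA hB, fun hz => hne ((isZero_quot_iff h).1 hz), isPure_quot H h hA hB hrel, ?_⟩
  intro K κ hκ hK hK0 _ pK pE hpK hpE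
  haveI := hκ
  obtain ⟨G, hAG, hGB, e, -, hG⟩ := exists_lift_ok H h hA hB κ hK
  have hGA : G ≠ A := fun h' => hK0 (((isZero_quot_iff hAG).2 h').of_iso e.symm)
  have e1 : pK = pQ H A G := H.HP_unique hpK (H.HP_iso e (H.HP_quot hAG hA hG))
  have e2 : pE = pQ H A B := H.HP_unique hpE (H.HP_quot h hA hB)
  rw [e1, e2]
  exact hss G hAG hGB hG hGA

/-- the numerical condition from semistability of a quotient object -/
theorem redLE_of_isSemistable_quot {A B : Subobject E} (h : A ≤ B) (hA : H.ok (A : C)) (hB : H.ok (B : C))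
    (hss : H.IsSemistable (quot A B h) d) {G : Subobject E} (hAG : A ≤ G) (hGB : G ≤ B) (hG : H.ok (G : C))
    (hGA : G ≠ A) : RedLE d (pQ H A G) (pQ H A B) := by
  by_cases hiso : IsIso (quotMap hAG hGB)
  · have := H.HP_unique (H.HP_iso (asIso (quotMap hAG hGB)) (H.HP_quot hAG hA hG)) (H.HP_quot h hA hB)
    exact redLE_of_eq this
  · exact hss.2.2.2 (quot A G hAG) (quotMap hAG hGB) inferInstance (H.ok_quot hAG hA hG)
      (fun hz => hGA ((isZero_quot_iff hAG).1 hz)) hiso _ _ (H.HP_quot hAG hA hG) (H.HP_quot h hA hB)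

/-- the relative maximal destabilising subobject over a relatively pure `A` is again relatively pure -/
theorem relPure_of_relMaxDestab {A F : Subobject E} (hAF : A ≤ F) (hA : H.ok (A : C)) (hF : H.ok (F : C))
    (hrel : RelPure H d A) (hFA : F ≠ A)
    (hmax : ∀ (G : Subobject E), A ≤ G → H.ok (G : C) → G ≠ A → RedLE d (pQ H A G) (pQ H A F)) :
    RelPure H d F := by
  intro G hFG hG hGF
  have hle : H.dim (quot F G hFG) ≤ (d : WithBot ℕ∞) := dim_quot_le' H hE hdim hFG hF hG
  rcases lt_or_eq_of_le hle with hlt | heq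
  · exfalso
    have hAG : A ≤ G := hAF.trans hFG
    have hGA : G ≠ A := by
      rintro rfl
      exact hGF (le_antisymm hAF hFG)
    have h1 := hmax G hAG hG hGA
    have ha0 : alpha d (pQ H F G) = 0 := H.alpha_eq_zero_of_dim_lt (H.ok_quot hFG hF hG) hlt (H.HP_quot hFG hF hG)
    have hpos : PolyLT 0 (pQ H F G) := H.polyLT_zero (H.ok_quot hFG hF hG)
      (fun hz => hGF ((isZero_quot_iff hFG).1 hz)) hle (H.HP_quot hFG hF hG)
    have haF : 0 < alpha d (pQ H A F) := alpha_pQ_pos H hE hdim hAF hA hF hrel hFA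
    rw [pQ_add H A F G] at h1
    rw [redLE_add_left_iff] at h1
    -- `alpha (F/A) • P(G/F) ≤ alpha (G/F) • P(F/A) = 0`
    unfold RedLE at h1
    rw [ha0, zero_smul] at h1
    have h2 : PolyLT 0 (alpha d (pQ H A F) • pQ H F G) := by
      have := polyLT_smul hpos haF
      rwa [smul_zero] at this
    exact not_polyLT_of_polyLE h1 h2
  · exact heq

end

section Exists

variable (hE : H.ok E) (hdim : H.dim E ≤ (d : WithBot ℕ∞))

/-- the property of `F` being the relative maximal destabilising subobject over `A` -/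
def IsRelMD (d : ℕ) (A F : Subobject E) : Prop :=
  ∀ (G : Subobject E), A ≤ G → H.ok (G : C) → G ≠ A →
    RedLE d (pQ H A G) (pQ H A F) ∧ (RedEq d (pQ H A G) (pQ H A F) → G ≤ F)

/-- the invariant of the construction -/
def Inv (d : ℕ) (A : Subobject E) : Prop := H.ok (A : C) ∧ RelPure H d A

include hE hdim

theorem exists_next (A : {A : Subobject E // Inv H d A}) :
    ∃ F : {A : Subobject E // Inv H d A},
      (A.1 ≠ ⊤ → A.1 < F.1 ∧ IsRelMD H d A.1 F.1) ∧ (A.1 = ⊤ → F = A) := by
  by_cases htop : A.1 = ⊤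
  · exact ⟨A, fun h => absurd htop h, fun _ => rfl⟩
  · obtain ⟨F, hAF, hF, hFA, hmax⟩ := exists_relMaxDestab H hE A.2.1 A.2.2 htop
    have hrelF : RelPure H d F := relPure_of_relMaxDestab H hE hdim hAF A.2.1 hF A.2.2 hFA
      (fun G hAG hG hGA => (hmax G hAG hG hGA).1)
    refine ⟨⟨F, hF, hrelF⟩, fun _ => ⟨lt_of_le_of_ne hAF (Ne.symm hFA), fun G hAG hG hGA => hmax G hAG hG hGA⟩,
      fun h => absurd h htop⟩

/-- **existence of the Harder–Narasimhan filtration** -/
theorem exists_isHN (h0 : ¬ IsZero E) (hpure : H.IsPure E d) :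
    ∃ s : LTSeries (Subobject E), IsHNWith (fun G => H.IsSemistable G d) H.HP d E s := by
  choose next hnext using exists_next H hE hdim
  let a : ℕ → {A : Subobject E // Inv H d A} := fun n =>
    Nat.rec ⟨⊥, H.ok_bot, relPure_bot H hpure⟩ (fun _ prev => next prev) n
  have ha0 : (a 0).1 = ⊥ := rfl
  have hasucc : ∀ n, a (n + 1) = next (a n) := fun n => rfl
  have hstep : ∀ n, (a n).1 ≠ ⊤ → (a n).1 < (a (n + 1)).1 ∧ IsRelMD H d (a n).1 (a (n + 1)).1 := by
    intro n hn
    rw [hasucc]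
    exact (hnext (a n)).1 hn
  have hstay : ∀ n, (a n).1 = ⊤ → a (n + 1) = a n := by
    intro n hn
    rw [hasucc]
    exact (hnext (a n)).2 hn
  have hmono : Monotone fun n => (a n).1 := by
    refine monotone_nat_of_le_succ fun n => ?_
    by_cases hn : (a n).1 = ⊤
    · rw [hstay n hn]
    · exact (hstep n hn).1.le
  -- termination
  have hterm : ∃ n, (a n).1 = ⊤ := by
    obtain ⟨n, hn⟩ := H.acc hE ⟨fun n => (a n).1, hmono⟩ (fun n => (a n).2.1)
    refine ⟨n, ?_⟩
    by_contra hne
    have h1 := (hstep n hne).1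
    have h2 : (a (n + 1)).1 = (a n).1 := hn (n + 1) (Nat.le_succ n)
    exact absurd h2 (ne_of_gt h1)
  classical
  let N := Nat.find hterm
  have hN : (a N).1 = ⊤ := Nat.find_spec hterm
  have hlt : ∀ n, n < N → (a n).1 ≠ ⊤ := fun n hn => Nat.find_min hterm hn
  have htop0 : (⊤ : Subobject E) ≠ ⊥ := by
    intro h
    apply h0
    have := (HilbCtx.eq_bot_iff_isZero (⊤ : Subobject E)).1 h
    exact this.of_iso (asIso (⊤ : Subobject E).arrow).symm
  let s : LTSeries (Subobject E) :=
    { length := N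
      toFun := fun i => (a i.val).1
      step := fun i => (hstep i.val (hlt i.val i.isLt)).1 }
  have hsi : ∀ i : Fin N, s i.castSucc = (a i.val).1 := fun i => rfl
  have hsi' : ∀ i : Fin N, s i.succ = (a (i.val + 1)).1 := fun i => rfl
  have hfac : ∀ i : Fin N, factor s i =
      quot (a i.val).1 (a (i.val + 1)).1 (hstep i.val (hlt i.val i.isLt)).1.le := fun i => rfl
  refine ⟨s, ha0, hN, fun i => ?_, fun i j hij p q hp hq => ?_⟩
  · rw [hfac]
    have hi := hstep i.val (hlt i.val i.isLt)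
    exact isSemistable_quot H hE hdim hi.1.le (a i.val).2.1 (a (i.val + 1)).2.1 (a i.val).2.2
      (ne_of_gt hi.1) (fun G hAG _ hG hGA => (hi.2 G hAG hG hGA).1)
  · rw [hfac] at hp hq
    have hi := hstep i.val (hlt i.val i.isLt)
    have hj := hstep j.val (hlt j.val j.isLt)
    have e1 : p = pQ H (a i.val).1 (a (i.val + 1)).1 :=
      H.HP_unique hp (H.HP_quot hi.1.le (a i.val).2.1 (a (i.val + 1)).2.1)
    have e2 : q = pQ H (a j.val).1 (a (j.val + 1)).1 :=
      H.HP_unique hq (H.HP_quot hj.1.le (a j.val).2.1 (a (j.val + 1)).2.1)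
    rw [e1, e2, ← hij]
    rw [← hij] at hj
    -- `G = a (i+2)` over `A = a i`
    set A := (a i.val).1
    set F := (a (i.val + 1)).1
    set G := (a (i.val + 1 + 1)).1
    have hAG : A ≤ G := hi.1.le.trans hj.1.le
    have hGA : G ≠ A := ne_of_gt (lt_of_lt_of_le hi.1 hj.1.le)
    obtain ⟨h1, h2⟩ := hi.2 G hAG (a (i.val + 1 + 1)).2.1 hGA
    have h3 : RedLT d (pQ H A G) (pQ H A F) := by
      rcases redLE_lt_or_eq h1 with h | h
      · exact h
      · exact absurd (h2 h) (not_le_of_gt hj.1)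
    rw [pQ_add H A F G, redLT_add_left_iff] at h3
    exact h3

end Exists

end Groth.Agent.R2.H70.StabHN
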