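import Mathlib
import Groth.Prelude.Def_ShStab
import Groth.Agent.R2.H70StabGeoA

/-!
# PROJ:shstab (helper70): rows needing finiteness of the dimension of `X`

`s16340_of` : monotonicity of Hilbert polynomials along monomorphisms.
-/

set_option autoImplicit false

universe u

open CategoryTheory CategoryTheory.Limits AlgebraicGeometry Polynomial TopologicalSpace

namespace Groth.Agent.R2.H70.StabRows2

open Groth.Agent.R2.H70.StabPoly Groth.Agent.R2.H70.StabCtx Groth.Agent.R2.H70.StabSpec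
  Groth.Agent.R2.H70.StabGeo StabCat

variable (hctx : PkgCtx.{u})
include hctx

theorem s16340_of (k : Type u) [Field k] (X : Scheme.{u})
    [X.Over (Spec (CommRingCat.of k))] [IsProper (X ↘ Spec (CommRingCat.of k))]
    (L : X.Modules) (hL : CohB1.IsAmple L) (d : ℕ) (E E' : X.Modules)
    (hE : Coh.IsCoh E) (hE' : Coh.IsCoh E') (ι : E ⟶ E') [Mono ι]
    (pE pE' : ℚ[X]) (hpE : ShStab.IsHilbPoly k X L E pE) (hpE' : ShStab.IsHilbPoly k X L E' pE') :
    StabCat.PolyLE pE pE' ∧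
      (topologicalKrullDim (CohB1.support (cokernel ι)) < (d : WithBot ℕ∞) →
        StabCat.alpha d pE = StabCat.alpha d pE') := by
  obtain ⟨Γ⟩ := hctx k X L hL
  have hE₁ : Γ.H.ok E := Γ.ok_eq ▸ hE
  have hE₂ : Γ.H.ok E' := Γ.ok_eq ▸ hE'
  have h1 : Γ.H.HP E pE := Γ.HP_eq ▸ hpE
  have h2 : Γ.H.HP E' pE' := Γ.HP_eq ▸ hpE'
  have hQ := Γ.H.HP_cokernel ι hE₁ hE₂ h1 h2
  have hQok := Γ.H.ok_cokernel ι hE₁ hE₂
  obtain ⟨D, hD⟩ := exists_dim_le k (X := X)
  have hdimQ : Γ.H.dim (cokernel ι) ≤ (D : WithBot ℕ∞) := by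
    rw [Γ.dim_eq]; exact (topologicalKrullDim_subspace_le X _).trans hD
  have h0 : PolyLE 0 (pE' - pE) := Γ.H.polyLE_zero hQok hdimQ hQ
  constructor
  · obtain ⟨N, hN⟩ := h0
    refine ⟨N, fun m hm => ?_⟩
    have := hN m hm
    simp only [eval_zero, eval_sub] at this
    linarith
  · intro hlt
    have h3 : alpha d (pE' - pE) = 0 :=
      Γ.H.alpha_eq_zero_of_dim_lt hQok (by rw [Γ.dim_eq]; exact hlt) hQ
    rw [alpha_sub] at h3
    linarith

end Groth.Agent.R2.H70.StabRows2
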