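import Mathlib
import Groth.Agent.Lib.Helper27GaGm

/-!
# Artin–Schreier: ring-level facts (helper71)

* `psi p : Sym →+* Sym`, `t ↦ t - t ^ p` on `Sym = ℤ[t]` (as `SymmetricAlgebra (ULift ℤ) (ULift ℤ)`);
  it is flat, of finite presentation and surjective on spectra for `2 ≤ p`
  (it is `AdjoinRoot (X ^ p - X + C t)` up to isomorphism).
* Characteristic `p` algebra: `add_pow_p`, `sub_pow_p`, `zmodHom`, `zmodHom_pow_p`,
  `prod_sub_zmodHom_eq_zero`, `isUnit_zmodHom_sub`.
-/

set_option autoImplicit false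
universe u v

open Polynomial

namespace Groth.Agent.R2.H71.AS

open Groth.Agent.Lib.Helper27.GaGm

/-- `ℤ[t]` in the form used by `Red.GaZ`. -/
abbrev Sym : Type u := SymmetricAlgebra (ULift.{u} ℤ) (ULift.{u} ℤ)

/-- the coordinate `t`. -/
noncomputable def t : Sym.{u} := SymmetricAlgebra.ι (ULift.{u} ℤ) (ULift.{u} ℤ) (ULift.up 1)

/-- the ring map `t ↦ t - t ^ p`. -/
noncomputable def psi (p : ℕ) : Sym.{u} →+* Sym.{u} :=
  (sym_ringHom_exists.{u} (t.{u} - t.{u} ^ p)).choose

lemma psi_t (p : ℕ) : psi.{u} p t = t - t ^ p :=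
  (sym_ringHom_exists.{u} (t.{u} - t.{u} ^ p)).choose_spec

/-- the polynomial `X ^ p - (X - C t)`. -/
noncomputable def hpoly (p : ℕ) : Sym.{u}[X] := X ^ p - (X - C t)

lemma hpoly_monic (p : ℕ) (hp : 2 ≤ p) : (hpoly.{u} p).Monic := by
  apply monic_X_pow_sub
  refine lt_of_le_of_lt (degree_X_sub_C_le _) ?_
  exact_mod_cast hp

/-- `E = Sym[X]/(X^p - X + t)`. -/
abbrev E (p : ℕ) : Type u := AdjoinRoot (hpoly.{u} p)

lemma eval₂_hpoly {B : Type v} [CommRing B] (p : ℕ) (f : Sym.{u} →+* B) (x : B) :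
    (hpoly.{u} p).eval₂ f x = x ^ p - (x - f t) := by
  simp [hpoly]

lemma root_rel (p : ℕ) :
    AdjoinRoot.of (hpoly.{u} p) t = AdjoinRoot.root (hpoly p) - AdjoinRoot.root (hpoly p) ^ p := by
  have h := AdjoinRoot.eval₂_root (hpoly.{u} p)
  rw [eval₂_hpoly] at h
  -- h : root ^ p - (root - of t) = 0
  have h2 := sub_eq_zero.mp h
  rw [h2]
  ring

/-- `E → Sym`, `root ↦ t`, restricting to `psi` on `Sym`. -/
noncomputable def rho (p : ℕ) : E.{u} p →+* Sym.{u} :=
  AdjoinRoot.lift (psi p) t (by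
    rw [eval₂_hpoly, psi_t]
    ring)

lemma rho_of (p : ℕ) (a : Sym.{u}) : rho p (AdjoinRoot.of (hpoly p) a) = psi p a :=
  AdjoinRoot.lift_of _

lemma rho_root (p : ℕ) : rho.{u} p (AdjoinRoot.root (hpoly p)) = t :=
  AdjoinRoot.lift_root _

/-- `Sym → E`, `t ↦ root`. -/
noncomputable def theta (p : ℕ) : Sym.{u} →+* E.{u} p :=
  (sym_ringHom_exists.{u} (AdjoinRoot.root (hpoly.{u} p))).choose

lemma theta_t (p : ℕ) : theta.{u} p t = AdjoinRoot.root (hpoly p) :=
  (sym_ringHom_exists.{u} (AdjoinRoot.root (hpoly.{u} p))).choose_spec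

lemma rho_comp_theta (p : ℕ) : (rho.{u} p).comp (theta p) = RingHom.id _ := by
  apply sym_ringHom_ext
  change rho p (theta p t) = t
  rw [theta_t, rho_root]

lemma theta_comp_rho (p : ℕ) : (theta.{u} p).comp (rho p) = RingHom.id _ := by
  apply AdjoinRoot.ringHom_ext
  · apply sym_ringHom_ext
    change theta p (rho p (AdjoinRoot.of (hpoly p) t)) = AdjoinRoot.of (hpoly p) t
    rw [rho_of, psi_t, map_sub, map_pow, theta_t, root_rel]
  · change theta p (rho p (AdjoinRoot.root (hpoly p))) = AdjoinRoot.root (hpoly p)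
    rw [rho_root, theta_t]

lemma rho_bijective (p : ℕ) : Function.Bijective (rho.{u} p) := by
  constructor
  · intro a b hab
    have := congrArg (theta p) hab
    have h1 : ∀ x, theta p (rho p x) = x := fun x =>
      congrArg (fun k : E.{u} p →+* E.{u} p => k x) (theta_comp_rho p)
    rwa [h1, h1] at this
  · intro a
    exact ⟨theta p a, congrArg (fun k : Sym.{u} →+* Sym.{u} => k a) (rho_comp_theta p)⟩

lemma psi_eq (p : ℕ) : psi.{u} p = (rho p).comp (AdjoinRoot.of (hpoly p)) := by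
  ext a
  exact (rho_of p a).symm

instance nontrivial_sym : Nontrivial Sym.{u} := by
  obtain ⟨φ, -⟩ := sym_ringHom_exists.{u, u} (B := ULift.{u} ℤ) 0
  exact RingHom.domain_nontrivial φ

lemma of_flat (p : ℕ) (hp : 2 ≤ p) : (AdjoinRoot.of (hpoly.{u} p)).Flat := by
  have : Module.Free Sym.{u} (E.{u} p) :=
    Module.Free.of_basis (AdjoinRoot.powerBasis' (hpoly_monic p hp)).basis
  rw [← AdjoinRoot.algebraMap_eq, RingHom.flat_algebraMap_iff]
  infer_instance

lemma of_finitePresentation (p : ℕ) (hp : 2 ≤ p) :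
    (AdjoinRoot.of (hpoly.{u} p)).FinitePresentation := by
  have : Module.Free Sym.{u} (E.{u} p) :=
    Module.Free.of_basis (AdjoinRoot.powerBasis' (hpoly_monic p hp)).basis
  have : Module.Finite Sym.{u} (E.{u} p) :=
    (AdjoinRoot.powerBasis' (hpoly_monic p hp)).finite
  have : Module.FinitePresentation Sym.{u} (E.{u} p) :=
    Module.finitePresentation_of_projective _ _
  rw [← AdjoinRoot.algebraMap_eq, RingHom.finitePresentation_algebraMap]
  infer_instance

lemma of_comap_surjective (p : ℕ) (hp : 2 ≤ p) :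
    Function.Surjective (PrimeSpectrum.comap (AdjoinRoot.of (hpoly.{u} p))) := by
  have : Module.Free Sym.{u} (E.{u} p) :=
    Module.Free.of_basis (AdjoinRoot.powerBasis' (hpoly_monic p hp)).basis
  have : Nontrivial (E.{u} p) := RingHom.domain_nontrivial (rho p)
  have : Module.FaithfullyFlat Sym.{u} (E.{u} p) := inferInstance
  exact PrimeSpectrum.comap_surjective_of_faithfullyFlat

theorem psi_flat (p : ℕ) (hp : 2 ≤ p) : (psi.{u} p).Flat := by
  rw [psi_eq]
  exact (of_flat p hp).comp (RingHom.Flat.of_bijective (rho_bijective p))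

theorem psi_finitePresentation (p : ℕ) (hp : 2 ≤ p) : (psi.{u} p).FinitePresentation := by
  rw [psi_eq]
  exact (RingHom.FinitePresentation.of_bijective (rho_bijective p)).comp
    (of_finitePresentation p hp)

theorem psi_comap_surjective (p : ℕ) (hp : 2 ≤ p) :
    Function.Surjective (PrimeSpectrum.comap (psi.{u} p)) := by
  rw [psi_eq]
  intro x
  obtain ⟨y, hy⟩ := of_comap_surjective p hp x
  refine ⟨PrimeSpectrum.comap (theta p) y, ?_⟩
  rw [← hy]
  apply PrimeSpectrum.ext
  ext a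
  simp only [PrimeSpectrum.comap_asIdeal, Ideal.mem_comap, RingHom.comp_apply]
  have : theta p (rho p (AdjoinRoot.of (hpoly p) a)) = AdjoinRoot.of (hpoly p) a :=
    congrArg (fun k : E.{u} p →+* E.{u} p => k (AdjoinRoot.of (hpoly p) a)) (theta_comp_rho p)
  rw [this]

section CharP

variable {R : Type v} [CommRing R] (p : ℕ) [hpr : Fact p.Prime]

include hpr in
lemma add_pow_p (hp0 : (p : R) = 0) (a b : R) : (a + b) ^ p = a ^ p + b ^ p := by
  obtain ⟨r, hr⟩ := exists_add_pow_prime_eq hpr.out a b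
  rw [hr, hp0]
  ring

include hpr in
lemma sub_pow_p (hp0 : (p : R) = 0) (a b : R) : (a - b) ^ p = a ^ p - b ^ p := by
  have h := add_pow_p p hp0 (a - b) b
  rw [sub_add_cancel] at h
  rw [h]
  ring

/-- the canonical ring map `ZMod p → R` when `p = 0` in `R`. -/
noncomputable def zmodHom (hp0 : (p : R) = 0) : ZMod p →+* R :=
  (Ideal.Quotient.lift (Ideal.span {(p : ℤ)}) (Int.castRingHom R) (by
    intro a ha
    obtain ⟨c, rfl⟩ := Ideal.mem_span_singleton.mp ha
    simp [hp0])).comp (Int.quotientSpanNatEquivZMod p).symm.toRingHom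

lemma zmodHom_natCast (hp0 : (p : R) = 0) (k : ℕ) : zmodHom p hp0 (k : ZMod p) = (k : R) :=
  map_natCast _ k

lemma zmodHom_pow_p (hp0 : (p : R) = 0) (n : ZMod p) : zmodHom p hp0 n ^ p = zmodHom p hp0 n := by
  rw [← map_pow, ZMod.pow_card]

lemma isUnit_zmodHom_sub (hp0 : (p : R) = 0) {m n : ZMod p} (h : m ≠ n) :
    IsUnit (zmodHom p hp0 m - zmodHom p hp0 n) := by
  rw [← map_sub]
  exact (IsUnit.mk0 _ (sub_ne_zero.mpr h)).map _

lemma X_pow_sub_X_eq_prod : (X ^ p - X : (ZMod p)[X]) = ∏ n : ZMod p, (X - C n) := by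
  have hmonic : (X ^ p - X : (ZMod p)[X]).Monic := by
    apply monic_X_pow_sub
    rw [degree_X]
    exact_mod_cast hpr.out.one_lt
  have hroots : (X ^ p - X : (ZMod p)[X]).roots = Finset.univ.val := by
    have := FiniteField.roots_X_pow_card_sub_X (ZMod p)
    rwa [ZMod.card] at this
  have hcard : Multiset.card (X ^ p - X : (ZMod p)[X]).roots = (X ^ p - X : (ZMod p)[X]).natDegree := by
    rw [hroots, FiniteField.X_pow_card_sub_X_natDegree_eq _ hpr.out.one_lt]
    simp [ZMod.card]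
  have := prod_multiset_X_sub_C_of_monic_of_roots_card_eq hmonic hcard
  rw [hroots] at this
  rw [← this]
  rfl

lemma prod_sub_zmodHom_eq (hp0 : (p : R) = 0) (a : R) :
    ∏ n : ZMod p, (a - zmodHom p hp0 n) = a ^ p - a := by
  have h := congrArg (eval₂ (zmodHom p hp0) a) (X_pow_sub_X_eq_prod p)
  rw [eval₂_finsetProd] at h
  simp only [eval₂_sub, eval₂_pow, eval₂_X, eval₂_C] at h
  exact h.symm

end CharP

end Groth.Agent.R2.H71.AS
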