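import Mathlib
import Groth.Prelude.Def_TwC

/-!
Helper library (helper71): points of the constant scheme `TwC.const S M = ∐_M S` for an index type
in an arbitrary universe (generalising `H71ConstRigid`), restriction of objects of `Over S` to opens,
and glueing of morphisms along disjoint open covers.
-/

set_option autoImplicit false
set_option linter.unusedSectionVars false
universe v u

open CategoryTheory Limits MonoidalCategory CartesianMonoidalCategory MonObj AlgebraicGeometry

namespace Groth.Agent.R2.H71.ConstPts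

variable {S : Scheme.{u}}

section Res

/-- restriction of `W : Over S` to an open of `W.left`. -/
noncomputable abbrev res (W : Over S) (U : W.left.Opens) : Over S := Over.mk (U.ι ≫ W.hom)

/-- the inclusion of the restriction. -/
noncomputable abbrev resι (W : Over S) (U : W.left.Opens) : res W U ⟶ W := Over.homMk U.ι rfl

lemma hom_ext_of_forall {W X : Over S} (f g : W ⟶ X)
    (H : ∀ x : W.left, ∃ U : W.left.Opens, x ∈ U ∧ resι W U ≫ f = resι W U ≫ g) : f = g := by
  apply Over.OverMorphism.ext
  apply Scheme.hom_ext_of_forall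
  intro x
  obtain ⟨U, hxU, hU⟩ := H x
  exact ⟨U, hxU, congrArg Over.Hom.left hU⟩

open scoped Function in
lemma exists_glue {W X : Over S} {J : Type v} [Small.{u} J] (U : J → W.left.Opens)
    (hcov : ⨆ n, U n = ⊤) (hdisj : Pairwise (Disjoint on U))
    (c : ∀ n, res W (U n) ⟶ X) : ∃ z : W ⟶ X, ∀ n, resι W (U n) ≫ z = c n := by
  obtain ⟨hc⟩ := nonempty_isColimit_cofanMk_of (fun n => (U n).ι)
    (by simpa using hcov) (by simpa using hdisj)
  let zl : W.left ⟶ X.left := Cofan.IsColimit.desc hc (fun n => (c n).left)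
  have hfac : ∀ n, (U n).ι ≫ zl = (c n).left := fun n => Cofan.IsColimit.fac hc _ n
  have hw : zl ≫ X.hom = W.hom := by
    apply Cofan.IsColimit.hom_ext hc
    intro n
    change (U n).ι ≫ zl ≫ X.hom = (U n).ι ≫ W.hom
    rw [← Category.assoc, hfac]
    exact Over.w (c n)
  refine ⟨Over.homMk zl hw, fun n => ?_⟩
  apply Over.OverMorphism.ext
  exact hfac n

end Res

variable (M : Type v) [Small.{u} M]

/-- the `m`-th component of the constant scheme. -/
noncomputable def comp (m : M) : (TwC.const S M).left.Opens :=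
  (Sigma.ι (fun _ : M => S) m).opensRange

lemma exists_mem_comp (x : (TwC.const S M).left) : ∃ m : M, x ∈ comp (S := S) M m := by
  obtain ⟨m, s, hs⟩ := (sigmaOpenCover (fun _ : M => S)).exists_eq x
  exact ⟨m, ⟨s, hs⟩⟩

lemma eq_of_mem_comp {x : (TwC.const S M).left} {m m' : M}
    (h : x ∈ comp (S := S) M m) (h' : x ∈ comp (S := S) M m') : m = m' := by
  by_contra hne
  exact (disjoint_iff.mp (disjoint_opensRange_sigmaι (fun _ : M => S) m m' hne)).le ⟨h, h'⟩

/-- a point of `∐_M S` over `S` landing in the component `m` is the constant point `m`. -/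
lemma eq_pt_of_range_subset {W : Over S} (y : W ⟶ TwC.const S M) (m : M)
    (h : Set.range y.left.base ⊆ (comp (S := S) M m : Set (TwC.const S M).left)) :
    y = toUnit W ≫ TwC.pt S M m := by
  let j : S ⟶ (TwC.const S M).left := Sigma.ι (fun _ : M => S) m
  have hj : Set.range y.left.base ⊆ Set.range j.base := h
  let w : W.left ⟶ S := IsOpenImmersion.lift j y.left hj
  have hw : w ≫ j = y.left := IsOpenImmersion.lift_fac j y.left hj
  have hW : w = W.hom := by
    have h1 := Over.w y
    rw [← hw] at h1
    simpa [j] using h1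
  ext
  rw [Over.comp_left, Over.toUnit_left, ← hw, hW]
  rfl

lemma pt_left_range (m : M) (W : Over S) (x : W.left) :
    (toUnit W ≫ TwC.pt S M m).left.base x ∈ comp (S := S) M m := by
  refine ⟨W.hom.base x, ?_⟩
  rw [Over.comp_left, Over.toUnit_left]
  rfl

/-- morphisms out of the constant scheme are determined by their values on the constant points. -/
lemma const_hom_ext {X : Over S} (f g : TwC.const S M ⟶ X)
    (h : ∀ m, TwC.pt S M m ≫ f = TwC.pt S M m ≫ g) : f = g := by
  apply Over.OverMorphism.ext
  apply Sigma.hom_ext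
  intro m
  exact congrArg Over.Hom.left (h m)

section Grp

variable {Z : Type v} [Small.{u} Z] [Group Z] {G : Over S} [GrpObj G]
  (e : G ≅ TwC.const S Z)

/-- the constant `W`-point of `G` with value `z`. -/
noncomputable def cpt (W : Over S) (z : Z) : W ⟶ G := toUnit W ≫ TwC.pt S Z z ≫ e.inv

lemma comp_cpt {W W' : Over S} (g : W' ⟶ W) (z : Z) : g ≫ cpt e W z = cpt e W' z := by
  unfold cpt
  rw [← Category.assoc, toUnit_unique (g ≫ toUnit W) (toUnit W')]

variable {e}

lemma cpt_mul (hG : TwC.IsConstGrp Z G e) (W : Over S) (a b : Z) :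
    cpt e W a * cpt e W b = cpt e W (a * b) := by
  unfold cpt
  rw [← comp_mul, hG a b]

lemma cpt_one (hG : TwC.IsConstGrp Z G e) (W : Over S) : cpt e W (1 : Z) = 1 := by
  have h := cpt_mul hG W 1 1
  rw [_root_.mul_one] at h
  exact mul_eq_left.mp h

lemma cpt_pow (hG : TwC.IsConstGrp Z G e) (W : Over S) (z : Z) (n : ℕ) :
    (cpt e W z) ^ n = cpt e W (z ^ n) := by
  induction n with
  | zero => rw [pow_zero, pow_zero, cpt_one hG]
  | succ n ih => rw [pow_succ, pow_succ, ih, cpt_mul hG]

lemma eq_cpt_of_forall {W : Over S} (y : W ⟶ G) (z : Z)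
    (h : ∀ w : W.left, e.hom.left.base (y.left.base w) ∈ comp (S := S) Z z) : y = cpt e W z := by
  have h1 : y ≫ e.hom = toUnit W ≫ TwC.pt S Z z := by
    apply eq_pt_of_range_subset
    rintro _ ⟨w, rfl⟩
    exact h w
  unfold cpt
  rw [← Category.assoc, ← h1, Category.assoc, e.hom_inv_id, Category.comp_id]

lemma cpt_left_mem (W : Over S) (z : Z) (w : W.left) :
    e.hom.left.base ((cpt e W z).left.base w) ∈ comp (S := S) Z z := by
  have h1 : cpt e W z ≫ e.hom = toUnit W ≫ TwC.pt S Z z := by
    unfold cpt
    rw [Category.assoc, Category.assoc, e.inv_hom_id, Category.comp_id]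
  have h2 := pt_left_range Z z W w
  rw [← h1] at h2
  exact h2

/-- morphisms out of a constant group are determined by their values on the constant points. -/
lemma hom_ext_cpt {X : Over S} (f g : G ⟶ X)
    (h : ∀ z : Z, cpt e (𝟙_ (Over S)) z ≫ f = cpt e (𝟙_ (Over S)) z ≫ g) : f = g := by
  have h2 : e.inv ≫ f = e.inv ≫ g := by
    apply const_hom_ext
    intro m
    have := h m
    unfold cpt at this
    rw [toUnit_unique (toUnit (𝟙_ (Over S))) (𝟙 _), Category.id_comp, Category.assoc,
      Category.assoc] at this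
    exact this
  exact (cancel_epi e.inv).mp h2

/-- locally on the source, every point of a constant group is a constant point. -/
lemma exists_open_eq_cpt {W : Over S} (y : W ⟶ G) (x : W.left) :
    ∃ (U : W.left.Opens) (z : Z), x ∈ U ∧ resι W U ≫ y = cpt e (res W U) z := by
  obtain ⟨z, hz⟩ := exists_mem_comp Z (e.hom.left.base (y.left.base x))
  refine ⟨(y.left ≫ e.hom.left) ⁻¹ᵁ comp (S := S) Z z, z, hz, ?_⟩
  apply eq_cpt_of_forall
  intro w
  exact w.2

end Grp

end Groth.Agent.R2.H71.ConstPts
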