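import Mathlib
import Groth.Prelude.Def_NonAbH2
import Groth.Prelude.Def_Red2
import Groth.Prelude.Def_TwC
import Groth.Agent.Lib.Helper27GaGm
import Groth.Agent.R2.H55Kummer
import Groth.Agent.R2.H71ConstPts
import Groth.Agent.R2.H71ASRing

/-!
# Artin–Schreier: points (helper71)
-/

set_option autoImplicit false
set_option linter.unusedSectionVars false
universe u

open CategoryTheory Limits MonoidalCategory CartesianMonoidalCategory MonObj GrpObj AlgebraicGeometry

namespace Groth.Agent.R2.H71.AS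

open Groth.Agent.Lib.Helper27.GaGm Groth.Agent.R2.H71.ConstPts

/-- a morphism of group objects which is multiplicative on points is a homomorphism. -/
theorem isMonHom_of_points {C : Type*} [Category C] [CartesianMonoidalCategory C] {G H : C}
    [GrpObj G] [GrpObj H] (f : G ⟶ H)
    (h : ∀ (T : C) (x y : T ⟶ G), (x * y) ≫ f = (x ≫ f) * (y ≫ f)) : IsMonHom f where
  one_hom := by
    have h1 := h (𝟙_ C) 1 1
    rw [_root_.mul_one] at h1
    have h2 : (1 : 𝟙_ C ⟶ G) ≫ f = 1 := left_eq_mul.mp h1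
    rw [Hom.one_def, Hom.one_def, toUnit_unique (toUnit (𝟙_ C)) (𝟙 _), Category.id_comp,
      Category.id_comp] at h2
    exact h2
  mul_hom := by
    have h1 := h (G ⊗ G) (fst G G) (snd G G)
    rw [Hom.mul_def, Hom.mul_def, lift_fst_snd, Category.id_comp] at h1
    rw [h1]
    congr 1
    ext <;> simp

section Scheme

variable {S : Scheme.{u}}

lemma gaFn_pow {W : Over S} (x : W ⟶ Red.Ga S) (k : ℕ) :
    Red.gaFn (x ^ k) = k • Red.gaFn x := by
  induction k with
  | zero => rw [pow_zero, gaFn_one, zero_smul]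
  | succ k ih => rw [pow_succ, gaFn_mul, ih, succ_nsmul]

lemma isUnit_of_basicOpen_eq_top {Y : Scheme.{u}} (g : Γ(Y, ⊤)) (h : Y.basicOpen g = ⊤) :
    IsUnit g := by
  apply Y.toRingedSpace.isUnit_of_isUnit_germ ⊤ g
  intro x hx
  have hx' : x ∈ Y.basicOpen g := by rw [h]; trivial
  exact (Y.mem_basicOpen_top g x).mp hx'

lemma isUnit_appTop_ι_basicOpen {Y : Scheme.{u}} (f : Γ(Y, ⊤)) :
    IsUnit ((Y.basicOpen f).ι.appTop f) := by
  apply isUnit_of_basicOpen_eq_top
  rw [← Scheme.preimage_basicOpen_top]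
  exact Scheme.Opens.ι_preimage_self _

lemma mem_basicOpen_prod {Y : Scheme.{u}} {J : Type*} (s : Finset J) (g : J → Γ(Y, ⊤)) (x : Y) :
    x ∈ Y.basicOpen (∏ j ∈ s, g j) ↔ ∀ j ∈ s, x ∈ Y.basicOpen (g j) := by
  classical
  induction s using Finset.induction_on with
  | empty => simp
  | insert a s ha ih =>
    rw [Finset.prod_insert ha, Scheme.basicOpen_mul]
    simp only [Finset.mem_insert, forall_eq_or_imp]
    rw [← ih]
    rfl

lemma mem_basicOpen_sub {Y : Scheme.{u}} (f g : Γ(Y, ⊤)) (x : Y)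
    (h : x ∈ Y.basicOpen (f - g)) : x ∈ Y.basicOpen f ∨ x ∈ Y.basicOpen g := by
  have h1 : f - g = f + (-1) * g := by ring
  rw [h1] at h
  rcases Y.basicOpen_add_le f ((-1) * g) h with h2 | h2
  · exact Or.inl h2
  · rw [Scheme.basicOpen_mul] at h2
    exact Or.inr h2.2

variable (p : ℕ) [hpr : Fact p.Prime] (hp : (p : Γ(S, ⊤)) = 0)

include hp in
lemma natCast_eq_zero (W : Over S) : (p : Γ(W.left, ⊤)) = 0 := by
  have := map_natCast W.hom.appTop.hom p
  rw [hp, map_zero] at this
  exact this.symm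

/-- the canonical `ZMod p → Γ(W)`. -/
noncomputable def zh (W : Over S) : ZMod p →+* Γ(W.left, ⊤) := zmodHom p (natCast_eq_zero p hp W)

lemma zh_comp {W W' : Over S} (g : W' ⟶ W) (n : ZMod p) :
    g.left.appTop (zh p hp W n) = zh p hp W' n := by
  have : (g.left.appTop.hom).comp (zh p hp W) = zh p hp W' := Subsingleton.elim _ _
  exact congrArg (fun k : ZMod p →+* Γ(W'.left, ⊤) => k n) this

lemma zh_injective (W : Over S) [Nonempty W.left] : Function.Injective (zh p hp W) := by
  have : Nontrivial Γ(W.left, ⊤) := by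
    have : Nonempty (⊤ : W.left.Opens) := by
      obtain ⟨x⟩ := ‹Nonempty W.left›
      exact ⟨⟨x, trivial⟩⟩
    exact Scheme.component_nontrivial W.left ⊤
  exact (zh p hp W).injective

section P

variable (F : Red.Ga S ⟶ Red.Ga S)
  (hF : ∀ (T : Over S) (x : T ⟶ Red.Ga S), Red.gaFn (x ≫ F) = Red.gaFn x ^ p)

include hF in
lemma gaFn_comp_P {T : Over S} (x : T ⟶ Red.Ga S) :
    Red.gaFn (x ≫ (𝟙 (Red.Ga S) * F⁻¹)) = Red.gaFn x - Red.gaFn x ^ p := by
  rw [MonObj.comp_mul, Category.comp_id, GrpObj.comp_inv, gaFn_mul, gaFn_inv, hF]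
  ring

include hF hp in
theorem isMonHom_P : IsMonHom (𝟙 (Red.Ga S) * F⁻¹) := by
  apply isMonHom_of_points
  intro T x y
  apply gaFn_injective
  rw [gaFn_comp_P p F hF, gaFn_mul, gaFn_mul, gaFn_comp_P p F hF, gaFn_comp_P p F hF,
    add_pow_p p (natCast_eq_zero p hp T)]
  ring

end P

section Const

variable {G' : Over S} [GrpObj G'] (e : G' ≅ TwC.const S (Multiplicative (ZMod p)))
    (he : TwC.IsConstGrp (Multiplicative (ZMod p)) G' e)
    (i : G' ⟶ Red.Ga S) [IsMonHom i]
    (hi : Red.gaFn (TwC.pt S (Multiplicative (ZMod p)) (Multiplicative.ofAdd 1) ≫ e.inv ≫ i) = 1)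

include he hi in
lemma gaFn_cpt (W : Over S) (z : Multiplicative (ZMod p)) :
    Red.gaFn (cpt e W z ≫ i) = zh p hp W (Multiplicative.toAdd z) := by
  have hz : z = (Multiplicative.ofAdd (1 : ZMod p)) ^ (Multiplicative.toAdd z).val := by
    apply Multiplicative.toAdd.injective
    rw [toAdd_pow, toAdd_ofAdd, nsmul_eq_mul, _root_.mul_one, ZMod.natCast_zmod_val]
  have h1 : Red.gaFn (cpt e W (Multiplicative.ofAdd (1 : ZMod p)) ≫ i) = 1 := by
    unfold cpt
    rw [Category.assoc, Category.assoc, gaFn_comp, hi, map_one]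
  conv_lhs => rw [hz]
  have hpc := MonObj.pow_comp (cpt e W (Multiplicative.ofAdd (1 : ZMod p)))
    (Multiplicative.toAdd z).val i
  rw [← cpt_pow he, hpc, gaFn_pow, h1, nsmul_eq_mul, _root_.mul_one]
  have h2 := zmodHom_natCast (R := Γ(W.left, ⊤)) p (natCast_eq_zero p hp W)
    (Multiplicative.toAdd z).val
  rw [ZMod.natCast_zmod_val] at h2
  exact h2.symm

include hp he hi in
/-- `i` is a monomorphism on points. -/
theorem mono_pts {W : Over S} (z z' : W ⟶ G') (h : z ≫ i = z' ≫ i) : z = z' := by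
  apply hom_ext_of_forall
  intro x
  obtain ⟨U, m, hxU, hU⟩ := exists_open_eq_cpt (e := e) z x
  obtain ⟨U', m', hxU', hU'⟩ := exists_open_eq_cpt (e := e) z' x
  refine ⟨U ⊓ U', ⟨hxU, hxU'⟩, ?_⟩
  -- restrict further to `U ⊓ U'`
  let r : res W (U ⊓ U') ⟶ res W U := Over.homMk (W.left.homOfLE inf_le_left) (by
    simp [res])
  let r' : res W (U ⊓ U') ⟶ res W U' := Over.homMk (W.left.homOfLE inf_le_right) (by
    simp [res])
  have hr : r ≫ resι W U = resι W (U ⊓ U') := by
    apply Over.OverMorphism.ext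
    simp [r]
  have hr' : r' ≫ resι W U' = resι W (U ⊓ U') := by
    apply Over.OverMorphism.ext
    simp [r']
  have e1 : resι W (U ⊓ U') ≫ z = cpt e (res W (U ⊓ U')) m := by
    rw [← hr, Category.assoc, hU, comp_cpt]
  have e2 : resι W (U ⊓ U') ≫ z' = cpt e (res W (U ⊓ U')) m' := by
    rw [← hr', Category.assoc, hU', comp_cpt]
  rw [e1, e2]
  have : Nonempty (res W (U ⊓ U')).left := ⟨⟨x, ⟨hxU, hxU'⟩⟩⟩
  have h3 : Red.gaFn (cpt e (res W (U ⊓ U')) m ≫ i) = Red.gaFn (cpt e (res W (U ⊓ U')) m' ≫ i) := by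
    rw [← e1, ← e2, Category.assoc, Category.assoc, h]
  rw [gaFn_cpt p hp e he i hi, gaFn_cpt p hp e he i hi] at h3
  have h4 := zh_injective p hp _ h3
  rw [Multiplicative.toAdd.injective h4]

include hp he hi in
/-- points of `𝔾_a` fixed by Frobenius lift to `(ℤ/p)_S`. -/
theorem exists_lift {W : Over S} (y : W ⟶ Red.Ga S) (hy : Red.gaFn y ^ p = Red.gaFn y) :
    ∃ z : W ⟶ G', z ≫ i = y := by
  classical
  set a := Red.gaFn y with ha
  let φ := zh p hp W
  let f : ZMod p → Γ(W.left, ⊤) := fun n => ∏ m ∈ Finset.univ.erase n, (a - φ m)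
  let U : ZMod p → W.left.Opens := fun n => W.left.basicOpen (f n)
  have hprod : ∏ m : ZMod p, (a - φ m) = 0 :=
    (prod_sub_zmodHom_eq p (natCast_eq_zero p hp W) a).trans (by rw [hy, sub_self])
  have hmemU : ∀ n x, x ∈ U n ↔ ∀ m, m ≠ n → x ∈ W.left.basicOpen (a - φ m) := by
    intro n x
    rw [mem_basicOpen_prod]
    simp
  have hall : ∀ x : W.left, ¬ ∀ m : ZMod p, x ∈ W.left.basicOpen (a - φ m) := by
    intro x hx
    have : x ∈ W.left.basicOpen (∏ m : ZMod p, (a - φ m)) := by
      rw [mem_basicOpen_prod]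
      exact fun m _ => hx m
    rw [hprod, Scheme.basicOpen_zero] at this
    exact this
  have hdisj : Pairwise (Function.onFun Disjoint U) := by
    intro n n' hne
    rw [Function.onFun, disjoint_iff]
    ext x
    constructor
    · rintro ⟨hx, hx'⟩
      refine (hall x ?_).elim
      intro m
      by_cases hm : m = n
      · subst hm
        exact (hmemU n' x).mp hx' m hne
      · exact (hmemU n x).mp hx m hm
    · intro h
      exact h.elim
  have hcov : ⨆ n, U n = ⊤ := by
    rw [eq_top_iff]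
    intro x _
    rw [TopologicalSpace.Opens.mem_iSup]
    by_cases hex : ∃ n, x ∉ W.left.basicOpen (a - φ n)
    · obtain ⟨n, hn⟩ := hex
      refine ⟨n, (hmemU n x).mpr fun m hm => ?_⟩
      have hu : IsUnit ((a - φ m) - (a - φ n)) := by
        have := isUnit_zmodHom_sub p (natCast_eq_zero p hp W) (Ne.symm hm)
        have h5 : (a - φ m) - (a - φ n) = φ n - φ m := by ring
        rw [h5]
        exact this
      have hx : x ∈ W.left.basicOpen ((a - φ m) - (a - φ n)) := by
        rw [Scheme.basicOpen_of_isUnit _ hu]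
        trivial
      rcases mem_basicOpen_sub _ _ x hx with h6 | h6
      · exact h6
      · exact absurd h6 hn
    · simp only [not_exists, not_not] at hex
      exact ⟨0, (hmemU 0 x).mpr fun m _ => hex m⟩
  obtain ⟨z, hz⟩ := exists_glue U hcov hdisj
    (fun n => cpt e (res W (U n)) (Multiplicative.ofAdd n))
  refine ⟨z, ?_⟩
  apply hom_ext_of_forall
  intro x
  have hx : x ∈ ⨆ n, U n := hcov ▸ (trivial : x ∈ (⊤ : W.left.Opens))
  rw [TopologicalSpace.Opens.mem_iSup] at hx
  obtain ⟨n, hn⟩ := hx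
  refine ⟨U n, hn, ?_⟩
  rw [← Category.assoc, hz]
  apply gaFn_injective
  rw [gaFn_cpt p hp e he i hi, gaFn_comp, toAdd_ofAdd, ← zh_comp p hp (resι W (U n))]
  -- `a = φ n` on `U n`
  have hmul : (a - φ n) * f n = 0 := by
    rw [← hprod]
    exact Finset.mul_prod_erase Finset.univ (fun m => a - φ m) (Finset.mem_univ n)
  have hunit : IsUnit ((resι W (U n)).left.appTop (f n)) := isUnit_appTop_ι_basicOpen (f n)
  have h0 : (resι W (U n)).left.appTop (a - φ n) = 0 := by
    have := congrArg (resι W (U n)).left.appTop hmul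
    rw [map_mul, map_zero] at this
    exact hunit.mul_left_eq_zero.mp this
  rw [map_sub, sub_eq_zero] at h0
  exact h0.symm

end Const

end Scheme

end Groth.Agent.R2.H71.AS
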