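import Mathlib
import Groth.Prelude.Def_NonAbH2
import Groth.Prelude.Def_Red2
import Groth.Prelude.Def_TwC
import Groth.Agent.Lib.Helper27GaGm
import Groth.Agent.R2.H55Kummer
import Groth.Agent.R2.H71ConstPts
import Groth.Agent.R2.H71ASRing
import Groth.Agent.R2.H71ASPoints

/-!
# The Artin–Schreier sequence `1 → (ℤ/p)_S → 𝔾_a → 𝔾_a → 1` is fppf-exact (helper71)
-/

set_option autoImplicit false
set_option linter.unusedSectionVars false
universe u

open CategoryTheory Limits MonoidalCategory CartesianMonoidalCategory MonObj GrpObj AlgebraicGeometry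

namespace Groth.Agent.R2.H71.AS

open Groth.Agent.Lib.Helper27.GaGm Groth.Agent.R2.H71.ConstPts Groth.Agent.R2.H55.Kummer

/-- `t ↦ t - t ^ p` on `𝔾_{a,ℤ}`. -/
noncomputable def psiZ (p : ℕ) : Red.GaZ.{u} ⟶ Red.GaZ.{u} :=
  Over.homMk (Spec.map (CommRingCat.ofHom (psi.{u} p))) (specULiftZIsTerminal.hom_ext _ _)

lemma psiZ_left (p : ℕ) : (psiZ.{u} p).left = Spec.map (CommRingCat.ofHom (psi.{u} p)) := rfl

instance flat_psiZ (p : ℕ) [hpr : Fact p.Prime] : Flat (psiZ.{u} p).left := by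
  have h : Flat (Spec.map (CommRingCat.ofHom (psi.{u} p))) := by
    rw [HasRingHomProperty.Spec_iff (P := @Flat)]
    exact psi_flat p hpr.out.two_le
  exact h

instance lofp_psiZ (p : ℕ) [hpr : Fact p.Prime] :
    LocallyOfFinitePresentation (psiZ.{u} p).left := by
  have h : LocallyOfFinitePresentation (Spec.map (CommRingCat.ofHom (psi.{u} p))) := by
    rw [HasRingHomProperty.Spec_iff (P := @LocallyOfFinitePresentation)]
    exact psi_finitePresentation p hpr.out.two_le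
  exact h

instance surj_psiZ (p : ℕ) [hpr : Fact p.Prime] : Surjective (psiZ.{u} p).left := by
  have h : Surjective (Spec.map (CommRingCat.ofHom (psi.{u} p))) := by
    constructor
    exact psi_comap_surjective p hpr.out.two_le
  exact h

variable {S : Scheme.{u}}

/-- the base change of `psiZ` to `S`. -/
noncomputable def PZ (S : Scheme.{u}) (p : ℕ) : Red.Ga S ⟶ Red.Ga S :=
  (Over.pullback (Limits.IsTerminal.from specULiftZIsTerminal S)).map (psiZ p)

instance flat_PZ (p : ℕ) [Fact p.Prime] : Flat (PZ S p).left :=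
  pullback_map_left_of @Flat _ _ (flat_psiZ p) inferInstance

instance lofp_PZ (p : ℕ) [Fact p.Prime] : LocallyOfFinitePresentation (PZ S p).left :=
  pullback_map_left_of @LocallyOfFinitePresentation _ _ (lofp_psiZ p) inferInstance

instance surj_PZ (p : ℕ) [Fact p.Prime] : Surjective (PZ S p).left := by
  have : MorphismProperty.IsStableUnderComposition @Surjective.{u} :=
    (inferInstance : MorphismProperty.IsMultiplicative (@Surjective.{u})).toIsStableUnderComposition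
  exact pullback_map_left_of @Surjective.{u} _ _ (surj_psiZ p) inferInstance

lemma gaPt_comp_PZ (p : ℕ) {T : Over S} (x : T ⟶ Red.Ga S) :
    gaPt (x ≫ PZ S p) = gaPt x ≫ Spec.map (CommRingCat.ofHom (psi.{u} p)) := by
  have h : (PZ S p).left ≫ pullback.fst Red.GaZ.hom (specULiftZIsTerminal.from S) =
      pullback.fst Red.GaZ.hom (specULiftZIsTerminal.from S) ≫ (psiZ p).left := by
    simp only [PZ, Over.pullback_map_left]
    exact pullback.lift_fst _ _ _
  unfold gaPt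
  rw [Over.comp_left]
  erw [Category.assoc, h, ← Category.assoc]

lemma gaFn_comp_PZ (p : ℕ) {T : Over S} (x : T ⟶ Red.Ga S) :
    Red.gaFn (x ≫ PZ S p) = Red.gaFn x - Red.gaFn x ^ p := by
  rw [gaFn_eq_fn_gaPt, gaFn_eq_fn_gaPt, gaPt_comp_PZ, fn_specMap]
  change fn (gaPt x) (psi p t) = _
  rw [psi_t, fn_eq, map_sub, map_pow]
  rfl

variable (p : ℕ) [hpr : Fact p.Prime] (hp : (p : Γ(S, ⊤)) = 0)
  (F : Red.Ga S ⟶ Red.Ga S)
  (hF : ∀ (T : Over S) (x : T ⟶ Red.Ga S), Red.gaFn (x ≫ F) = Red.gaFn x ^ p)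

include hF in
lemma P_eq_PZ : 𝟙 (Red.Ga S) * F⁻¹ = PZ S p := by
  apply gaFn_injective
  have h1 := gaFn_comp_P p F hF (𝟙 (Red.Ga S))
  have h2 := gaFn_comp_PZ p (𝟙 (Red.Ga S))
  rw [Category.id_comp] at h1 h2
  rw [h1, h2]

include hF in
theorem isLocallyTrivialFor_P :
    NonAbH1.IsLocallyTrivialFor Scheme.fppfPrecoverage
      (Over.mk (𝟙 (Red.Ga S) * F⁻¹).left : Over (Red.Ga S).left) := by
  rw [P_eq_PZ p F hF]
  refine ⟨Presieve.singleton (PZ S p).left, Scheme.Hom.singleton_mem_fppfPrecoverage _, ?_⟩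
  rintro S' f ⟨⟩
  exact ⟨𝟙 _, Category.id_comp _⟩

variable {G' : Over S} [GrpObj G'] (e : G' ≅ TwC.const S (Multiplicative (ZMod p)))
    (he : TwC.IsConstGrp (Multiplicative (ZMod p)) G' e)
    (i : G' ⟶ Red.Ga S) [IsMonHom i]
    (hi : Red.gaFn (TwC.pt S (Multiplicative (ZMod p)) (Multiplicative.ofAdd 1) ≫ e.inv ≫ i) = 1)

include hp hF he hi in
theorem i_comp_P : i ≫ (𝟙 (Red.Ga S) * F⁻¹) = 1 := by
  apply hom_ext_cpt (e := e)
  intro z
  rw [MonObj.comp_one]
  apply gaFn_injective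
  rw [← Category.assoc, gaFn_comp_P p F hF, gaFn_cpt p hp e he i hi, gaFn_one]
  exact sub_eq_zero.mpr (zmodHom_pow_p p (natCast_eq_zero p hp _) _).symm

include hp hF he hi in
theorem isPullback_AS :
    IsPullback (fst (Red.Ga S) G') ((Red.Ga S ◁ i) ≫ μ[Red.Ga S])
      (𝟙 (Red.Ga S) * F⁻¹) (𝟙 (Red.Ga S) * F⁻¹) := by
  have hP : IsMonHom (𝟙 (Red.Ga S) * F⁻¹) := isMonHom_P p hp F hF
  have hiP := i_comp_P p hp F hF e he i hi
  rw [rightTranslation_eq]
  refine isPullback_of_points _ _ _ _ ?_ ?_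
  · rw [MonObj.mul_comp _ _ (𝟙 (Red.Ga S) * F⁻¹), Category.assoc, hiP, MonObj.comp_one,
      _root_.mul_one]
  · intro T a b hab
    have hw : (a⁻¹ * b) ≫ (𝟙 (Red.Ga S) * F⁻¹) = 1 := by
      rw [MonObj.mul_comp _ _ (𝟙 (Red.Ga S) * F⁻¹), ← hab,
        ← MonObj.mul_comp _ _ (𝟙 (Red.Ga S) * F⁻¹), inv_mul_cancel,
        MonObj.one_comp (𝟙 (Red.Ga S) * F⁻¹)]
    have hfix : Red.gaFn (a⁻¹ * b) ^ p = Red.gaFn (a⁻¹ * b) := by
      have := gaFn_comp_P p F hF (a⁻¹ * b)
      rw [hw, gaFn_one] at this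
      exact (sub_eq_zero.mp this.symm).symm
    obtain ⟨z, hz⟩ := exists_lift p hp e he i hi (a⁻¹ * b) hfix
    refine ⟨lift a z, ⟨lift_fst _ _, ?_⟩, ?_⟩
    · rw [MonObj.comp_mul, lift_fst, lift_snd_assoc, hz, mul_inv_cancel_left]
    · intro c' h1 h2
      have h3 : c' ≫ snd _ _ = z := by
        apply mono_pts p hp e he i hi
        rw [hz, Category.assoc]
        rw [MonObj.comp_mul, h1] at h2
        rw [← h2, inv_mul_cancel_left]
      ext1
      · rw [h1, lift_fst]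
      · rw [h3, lift_snd]

include hp hF he hi in
theorem artinSchreier_isExactSeq_fppf :
    NonAbH1.IsExactSeq Scheme.fppfPrecoverage i (𝟙 (Red.Ga S) * F⁻¹) :=
  ⟨inferInstance, isMonHom_P p hp F hF, i_comp_P p hp F hF e he i hi,
    isPullback_AS p hp F hF e he i hi, isLocallyTrivialFor_P p F hF⟩

end Groth.Agent.R2.H71.AS
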