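import Mathlib

/-!
# Length lemmas ("Herbrand-type") for the blow-up step in dimension one (helper71)
-/

set_option autoImplicit false
universe u v w

namespace Groth.Agent.R2.H71.Blow

open Module

section Herbrand

variable {A : Type u} [CommRing A] {M : Type v} {M' : Type w}
  [AddCommGroup M] [Module A M] [AddCommGroup M'] [Module A M']

/-- `x M` as a submodule. -/
abbrev xsub (x : A) (M : Type v) [AddCommGroup M] [Module A M] : Submodule A M :=
  LinearMap.range (x • (LinearMap.id : M →ₗ[A] M))

lemma mem_xsub {x : A} {m : M} : m ∈ xsub x M ↔ ∃ m', x • m' = m := by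
  simp [xsub, LinearMap.mem_range]

/-- For a submodule `S ≤ T` of `M'`: `length (M'/S) = length (image of T in M'/S) + length (M'/T)`. -/
lemma length_quot_eq_add (S T : Submodule A M') (h : S ≤ T) :
    Module.length A (M' ⧸ S) = Module.length A (T.map S.mkQ) + Module.length A (M' ⧸ T) := by
  have e := Submodule.quotientQuotientEquivQuotient S T h
  rw [← e.length_eq]
  exact Module.length_eq_add_of_exact (T.map S.mkQ).subtype (T.map S.mkQ).mkQ
    (Submodule.subtype_injective _) (Submodule.mkQ_surjective _)
    (LinearMap.exact_subtype_mkQ _)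

/-- Herbrand-type lemma: if `f : M → M'` is injective with cokernel of finite length and `x` is
injective on `M'`, then `M/xM` and `M'/xM'` have the same length. -/
theorem length_quot_smul_eq (f : M →ₗ[A] M') (hf : Function.Injective f) (x : A)
    (hx : Function.Injective (fun m : M' => x • m))
    (hfin : Module.length A (M' ⧸ LinearMap.range f) ≠ ⊤) :
    Module.length A (M' ⧸ xsub x M') = Module.length A (M ⧸ xsub x M) := by
  -- S = x f(M)
  set S : Submodule A M' := (xsub x M).map f with hS
  set T1 : Submodule A M' := LinearMap.range f with hT1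
  set T2 : Submodule A M' := xsub x M' with hT2
  have hST1 : S ≤ T1 := by
    rintro _ ⟨m, -, rfl⟩; exact ⟨m, rfl⟩
  have hST2 : S ≤ T2 := by
    rintro _ ⟨m, hm, rfl⟩
    obtain ⟨m', rfl⟩ := mem_xsub.mp hm
    exact mem_xsub.mpr ⟨f m', by simp⟩
  have h1 := length_quot_eq_add S T1 hST1
  have h2 := length_quot_eq_add S T2 hST2
  -- image of T1 in M'/S is M/xM
  have e1 : Module.length A (T1.map S.mkQ) = Module.length A (M ⧸ xsub x M) := by
    let g : M →ₗ[A] (M' ⧸ S) := S.mkQ.comp f
    have hker : LinearMap.ker g = xsub x M := by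
      ext m
      simp only [g, LinearMap.mem_ker, LinearMap.comp_apply, Submodule.mkQ_apply,
        Submodule.Quotient.mk_eq_zero, hS, Submodule.mem_map]
      constructor
      · rintro ⟨m', hm', h⟩
        rwa [← hf h]
      · intro h; exact ⟨m, h, rfl⟩
    have hrange : LinearMap.range g = T1.map S.mkQ := by
      simp only [g, LinearMap.range_comp, hT1]
    have e := g.quotKerEquivRange
    rw [← hrange, ← e.length_eq, hker]
  -- image of T2 in M'/S is M'/T1
  have e2 : Module.length A (T2.map S.mkQ) = Module.length A (M' ⧸ T1) := by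
    let g : M' →ₗ[A] (M' ⧸ S) := S.mkQ.comp (x • (LinearMap.id : M' →ₗ[A] M'))
    have hker : LinearMap.ker g = T1 := by
      ext m
      simp only [g, LinearMap.mem_ker, LinearMap.comp_apply, Submodule.mkQ_apply,
        Submodule.Quotient.mk_eq_zero, hS, Submodule.mem_map, LinearMap.smul_apply,
        LinearMap.id_apply, hT1, LinearMap.mem_range]
      constructor
      · rintro ⟨m', hm', h⟩
        obtain ⟨m'', rfl⟩ := mem_xsub.mp hm'
        rw [map_smul] at h
        exact ⟨m'', hx h⟩
      · rintro ⟨m', rfl⟩
        exact ⟨x • m', mem_xsub.mpr ⟨m', rfl⟩, by simp⟩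
    have hrange : LinearMap.range g = T2.map S.mkQ := by
      simp only [g, LinearMap.range_comp, hT2, xsub]
    have e := g.quotKerEquivRange
    rw [← hrange, ← e.length_eq, hker]
  rw [e1] at h1
  rw [e2] at h2
  rw [h1] at h2
  -- cancel
  have hc : Module.length A (M' ⧸ T1) ≠ ⊤ := hfin
  rw [add_comm (Module.length A (M' ⧸ T1))] at h2
  exact (ENat.add_left_injective_of_ne_top hc h2).symm

end Herbrand

section Chain

variable {A : Type u} [CommRing A] {E : Type v} [AddCommGroup E] [Module A E]

/-- In a module of length `≤ n`, among `n+1` elements `v 0, …, v n` some `v j` is a combination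
of the earlier ones. -/
theorem exists_mem_span_lt (n : ℕ) (hlen : Module.length A E ≤ n) (v : ℕ → E) :
    ∃ j ≤ n, v j ∈ Submodule.span A (v '' (Finset.range j : Set ℕ)) := by
  by_contra hcon
  have hcon' : ∀ j ≤ n, v j ∉ Submodule.span A (v '' (Finset.range j : Set ℕ)) := by
    intro j hj hmem; exact hcon ⟨j, hj, hmem⟩
  let W : Fin (n + 2) → Submodule A E := fun j => Submodule.span A (v '' (Finset.range j : Set ℕ))
  have hW : StrictMono W := by
    apply Fin.strictMono_iff_lt_succ.mpr
    intro i
    have hi : (i : ℕ) ≤ n := Nat.lt_succ_iff.mp i.isLt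
    refine lt_of_le_of_ne ?_ ?_
    · apply Submodule.span_mono
      apply Set.image_mono
      intro k hk
      simp only [Finset.coe_range, Set.mem_Iio, Fin.val_succ, Fin.val_castSucc] at hk ⊢
      omega
    · intro heq
      apply hcon' i hi
      have : v i ∈ W i.succ := by
        apply Submodule.subset_span
        refine ⟨i, ?_, rfl⟩
        simp
      rw [← heq] at this
      simpa [W] using this
  let p : LTSeries (Submodule A E) := LTSeries.mk (n + 1) W hW
  have h1 := Order.LTSeries.length_le_krullDim p
  rw [← Module.coe_length] at h1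
  have h2 : ((n + 1 : ℕ) : WithBot ℕ∞) ≤ (Module.length A E : WithBot ℕ∞) := by
    simpa [p] using h1
  have h3 : ((n + 1 : ℕ) : ℕ∞) ≤ Module.length A E := by exact_mod_cast h2
  have h4 : ((n + 1 : ℕ) : ℕ∞) ≤ (n : ℕ∞) := h3.trans hlen
  have : n + 1 ≤ n := by exact_mod_cast h4
  omega

end Chain

section Relation

variable {A : Type u} [CommRing A]

lemma xsub_self_eq (x : A) : (xsub x A : Submodule A A) = Ideal.span {x} := by
  ext a
  rw [mem_xsub, Ideal.mem_span_singleton']
  constructor
  · rintro ⟨m, rfl⟩; exact ⟨m, by simp [mul_comm]⟩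
  · rintro ⟨m, rfl⟩; exact ⟨m, by simp [mul_comm]⟩

/-- The key relation: if `x` is a nonzerodivisor with `A/xA` and all `A/x^n A` of finite length,
then for some `n` there is a relation `∑ c_i x^(n-i) y^i = 0` with some `c_j ≡ 1 mod x`. -/
theorem exists_relation (x y : A) (hx : x ∈ nonZeroDivisors A)
    (hlen : ∀ n : ℕ, Module.length A (A ⧸ Ideal.span {x ^ n}) ≠ ⊤) :
    ∃ (n : ℕ) (c : ℕ → A) (j : ℕ), j ≤ n ∧
      (∑ i ∈ Finset.range (n + 1), c i * (x ^ (n - i) * y ^ i)) = 0 ∧
      c j - 1 ∈ Ideal.span {x} := by
  classical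
  set ℓ := Module.length A (A ⧸ Ideal.span {x}) with hℓdef
  have hℓ : ℓ ≠ ⊤ := by
    have := hlen 1
    rwa [pow_one] at this
  set n := ℓ.toNat with hn
  have hnℓ : (n : ℕ∞) = ℓ := ENat.natCast_toNat hℓ
  let mon : ℕ → A := fun i => x ^ (n - i) * y ^ i
  set 𝔞 : Ideal A := Submodule.span A (mon '' (Finset.range (n + 1) : Set ℕ)) with h𝔞
  have hmon : ∀ i ≤ n, mon i ∈ 𝔞 := by
    intro i hi
    apply Submodule.subset_span
    exact ⟨i, by simp; omega, rfl⟩
  -- Herbrand
  have hH := length_quot_smul_eq (𝔞.subtype) (Submodule.subtype_injective _) x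
    (fun a b hab => by
      have : x * (a - b) = 0 := by
        simp only [smul_eq_mul] at hab
        rw [mul_sub, hab, sub_self]
      have h2 := (mem_nonZeroDivisors_iff.mp hx).1 (a - b) this
      exact sub_eq_zero.mp h2)
    (by
      rw [Submodule.range_subtype]
      have hle : Ideal.span {x ^ n} ≤ 𝔞 := by
        rw [Ideal.span_singleton_le_iff_mem]
        have := hmon 0 (Nat.zero_le _)
        simpa [mon] using this
      have hsurj : Function.Surjective (Submodule.factor hle) := Submodule.factor_surjective hle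
      have := Module.length_le_of_surjective (Submodule.factor hle) hsurj
      exact ne_top_of_le_ne_top (hlen n) this)
  rw [xsub_self_eq] at hH
  -- chain
  let mons : ℕ → 𝔞 := fun i => if h : i ≤ n then ⟨mon i, hmon i h⟩ else 0
  have hmons : ∀ i ≤ n, ((mons i : 𝔞) : A) = mon i := by
    intro i hi; simp [mons, hi]
  let v : ℕ → (𝔞 ⧸ xsub x 𝔞) := fun i => Submodule.Quotient.mk (mons i)
  have hlen' : Module.length A (𝔞 ⧸ xsub x 𝔞) ≤ n := by
    rw [← hH, hnℓ]
  obtain ⟨j, hj, hmem⟩ := exists_mem_span_lt n hlen' v
  rw [Submodule.mem_span_image_finset_iff_exists_fun'] at hmem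
  obtain ⟨c, hc⟩ := hmem
  have hc' : (xsub x 𝔞).mkQ (∑ i ∈ Finset.range j, c i • mons i) =
      (xsub x 𝔞).mkQ (mons j) := by
    rw [map_sum]
    simpa [v, map_smul] using hc
  rw [Submodule.mkQ_apply, Submodule.mkQ_apply, Submodule.Quotient.eq, mem_xsub] at hc'
  obtain ⟨ν, hν⟩ := hc'
  -- ν as a combination
  have hνmem : (ν : A) ∈ Submodule.span A (mon '' (Finset.range (n + 1) : Set ℕ)) := ν.2
  rw [Submodule.mem_span_image_finset_iff_exists_fun'] at hνmem
  obtain ⟨β, hβ⟩ := hνmem
  have hνA : x * (ν : A) = (∑ i ∈ Finset.range j, c i * mon i) - mon j := by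
    have := congrArg (fun t : 𝔞 => (t : A)) hν
    simp only [Submodule.coe_smul, smul_eq_mul, Submodule.coe_sub, Submodule.coe_sum] at this
    rw [this, hmons j hj]
    congr 1
    apply Finset.sum_congr rfl
    intro i hi
    have hi' : i ≤ n := by have := Finset.mem_range.mp hi; omega
    rw [hmons i hi']
  refine ⟨n, fun i => (if i = j then 1 else 0) - (if i < j then c i else 0) + x * β i, j, hj, ?_, ?_⟩
  · have h1 : ∑ i ∈ Finset.range (n + 1), (if i = j then (1 : A) else 0) * mon i = mon j := by
      rw [Finset.sum_eq_single j]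
      · simp
      · intro b _ hb; simp [hb]
      · intro hj'; exact absurd (Finset.mem_range.mpr (by omega)) hj'
    have h2 : ∑ i ∈ Finset.range (n + 1), (if i < j then c i else 0) * mon i =
        ∑ i ∈ Finset.range j, c i * mon i := by
      have hsub : Finset.range j ⊆ Finset.range (n + 1) := by
        intro i hi; have := Finset.mem_range.mp hi; exact Finset.mem_range.mpr (by omega)
      rw [← Finset.sum_subset hsub]
      · apply Finset.sum_congr rfl
        intro i hi
        have := Finset.mem_range.mp hi
        simp [this]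
      · intro i _ hi
        have : ¬ i < j := fun h => hi (Finset.mem_range.mpr h)
        simp [this]
    have h3 : ∑ i ∈ Finset.range (n + 1), (x * β i) * mon i = x * (ν : A) := by
      rw [← hβ, Finset.mul_sum]
      apply Finset.sum_congr rfl
      intro i _
      simp only [smul_eq_mul]; ring
    have : ∑ i ∈ Finset.range (n + 1),
        ((if i = j then (1 : A) else 0) - (if i < j then c i else 0) + x * β i) * mon i =
        mon j - ∑ i ∈ Finset.range j, c i * mon i + x * (ν : A) := by
      simp only [sub_mul, add_mul, Finset.sum_sub_distrib, Finset.sum_add_distrib, h1, h2, h3]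
    rw [show (∑ i ∈ Finset.range (n + 1),
        ((if i = j then (1 : A) else 0) - (if i < j then c i else 0) + x * β i) *
          (x ^ (n - i) * y ^ i)) = ∑ i ∈ Finset.range (n + 1),
        ((if i = j then (1 : A) else 0) - (if i < j then c i else 0) + x * β i) * mon i from rfl,
      this, hνA]
    ring
  · simp only [if_true, lt_irrefl, if_false]
    rw [Ideal.mem_span_singleton']
    exact ⟨β j, by ring⟩

end Relation

end Groth.Agent.R2.H71.Blow
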