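import Mathlib

/-!
# Horner-type integrality lemma (helper71)

If `∑_{i ≤ n} c_i z^i = 0` then the partial Horner sums
`h_k = c_{n-k} + c_{n-k+1} z + … + c_n z^k` are integral.
-/

set_option autoImplicit false
universe u v

namespace Groth.Agent.R2.H71.Blow

section Integral

variable {R : Type u} {S : Type v} [CommRing R] [CommRing S] [Algebra R S]

/-- If `w` stabilises a finitely generated `R`-submodule `N` of `S` containing `1`, then `w` is
integral over `R`. -/
theorem isIntegral_of_smul_mem_of_one_mem (N : Submodule R S) (h1 : (1 : S) ∈ N) (hN : N.FG)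
    (w : S) (hw : ∀ n ∈ N, w * n ∈ N) : IsIntegral R w := by
  let A' : Subalgebra R S :=
    { carrier := { x | ∀ n ∈ N, x * n ∈ N }
      mul_mem' := fun {a b} ha hb n hn => by rw [mul_assoc]; exact ha _ (hb _ hn)
      one_mem' := fun n hn => by rwa [one_mul]
      add_mem' := fun {a b} ha hb n hn => by rw [add_mul]; exact N.add_mem (ha _ hn) (hb _ hn)
      zero_mem' := fun n _hn => by rw [zero_mul]; exact N.zero_mem
      algebraMap_mem' := fun r n hn => by
        rw [← Algebra.smul_def]; exact N.smul_mem r hn }
  let f : A' →ₐ[R] Module.End R N :=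
    AlgHom.ofLinearMap
      { toFun := fun x =>
          { toFun := fun n => ⟨(x : S) * (n : S), x.prop n n.2⟩
            map_add' := by intro a b; ext; simp [mul_add]
            map_smul' := by intro r a; ext; simp }
        map_add' := by
          intro x y; ext
          simp [add_mul]
        map_smul' := by
          intro r s; ext
          simp }
      (by ext; simp)
      (by intro x y; ext
          simp [mul_assoc])
  have hinj : Function.Injective f := by
    rw [injective_iff_map_eq_zero]
    intro s hs
    have h0 : (f s) ⟨1, h1⟩ = 0 := by rw [hs]; rfl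
    have : (s : S) * 1 = 0 := congr_arg Subtype.val h0
    rw [mul_one] at this
    exact Subtype.ext this
  have : Module.Finite R N := by rwa [Module.Finite.iff_fg]
  have h2 : IsIntegral R (f ⟨w, hw⟩) := Algebra.IsIntegral.isIntegral _
  have key : IsIntegral R (⟨w, hw⟩ : A') := (isIntegral_algHom_iff (A := A') (B := Module.End R N) f hinj).mp h2
  exact key.map A'.val

end Integral

section Horner

variable {R : Type u} {S : Type v} [CommRing R] [CommRing S] [Algebra R S]

/-- The partial Horner sum `c_{n-k} + c_{n-k+1} z + … + c_n z^k`. -/
noncomputable def horner (c : ℕ → R) (z : S) (n k : ℕ) : S :=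
  ∑ i ∈ Finset.range (k + 1), algebraMap R S (c (n - k + i)) * z ^ i

variable (c : ℕ → R) (z : S) (n : ℕ)

lemma horner_zero : horner c z n 0 = algebraMap R S (c n) := by
  simp [horner]

lemma horner_succ {k : ℕ} (hk : k < n) :
    horner c z n (k + 1) = horner c z n k * z + algebraMap R S (c (n - k - 1)) := by
  unfold horner
  rw [Finset.sum_range_succ' _ (k + 1)]
  simp only [pow_zero, mul_one, add_zero]
  congr 1
  · rw [Finset.sum_mul]
    apply Finset.sum_congr rfl
    intro i _
    have : n - (k + 1) + (i + 1) = n - k + i := by omega
    rw [this, pow_succ]; ring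

lemma horner_top : horner c z n n = ∑ i ∈ Finset.range (n + 1), algebraMap R S (c i) * z ^ i := by
  unfold horner
  apply Finset.sum_congr rfl
  intro i _
  simp

lemma pow_mul_horner {k : ℕ} (hk : k ≤ n) :
    z ^ (n - k) * horner c z n k + ∑ l ∈ Finset.range (n - k), algebraMap R S (c l) * z ^ l =
      ∑ l ∈ Finset.range (n + 1), algebraMap R S (c l) * z ^ l := by
  have hn : n + 1 = (n - k) + (k + 1) := by omega
  rw [hn, Finset.sum_range_add, add_comm]
  congr 1
  unfold horner
  rw [Finset.mul_sum]
  apply Finset.sum_congr rfl
  intro i _
  rw [pow_add]; ring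

variable (hrel : ∑ i ∈ Finset.range (n + 1), algebraMap R S (c i) * z ^ i = 0)

include hrel in
lemma horner_mul_pow_mem {k m : ℕ} (hk : k ≤ n) (hm : m < n) :
    horner c z n k * z ^ m ∈
      Submodule.span R ((fun i : ℕ => z ^ i) '' (Finset.range n : Set ℕ)) := by
  set N := Submodule.span R ((fun i : ℕ => z ^ i) '' (Finset.range n : Set ℕ)) with hN
  have hz : ∀ i < n, z ^ i ∈ N := by
    intro i hi
    apply Submodule.subset_span
    exact ⟨i, by simpa using hi, rfl⟩
  by_cases hkm : k + m < n
  · unfold horner
    rw [Finset.sum_mul]
    apply Submodule.sum_mem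
    intro i hi
    have hi' : i < k + 1 := Finset.mem_range.mp hi
    rw [mul_assoc, ← pow_add, ← Algebra.smul_def]
    exact N.smul_mem _ (hz _ (by omega))
  · have h1 := pow_mul_horner c z n hk
    rw [hrel] at h1
    have h2 : z ^ (n - k) * horner c z n k =
        - ∑ l ∈ Finset.range (n - k), algebraMap R S (c l) * z ^ l := eq_neg_of_add_eq_zero_left h1
    have hm' : m = (m - (n - k)) + (n - k) := by omega
    have h3 : horner c z n k * z ^ m =
        - ∑ l ∈ Finset.range (n - k), algebraMap R S (c l) * z ^ (l + (m - (n - k))) := by
      rw [hm', pow_add]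
      have : horner c z n k * (z ^ (m - (n - k)) * z ^ (n - k)) =
          z ^ (m - (n - k)) * (z ^ (n - k) * horner c z n k) := by ring
      rw [this, h2, mul_neg, Finset.mul_sum]
      congr 1
      apply Finset.sum_congr rfl
      intro l _
      rw [pow_add]
      have : m - (n - k) + (n - k) - (n - k) = m - (n - k) := by omega
      rw [this]; ring
    rw [h3]
    apply Submodule.neg_mem
    apply Submodule.sum_mem
    intro l hl
    have hl' : l < n - k := Finset.mem_range.mp hl
    rw [← Algebra.smul_def]
    exact N.smul_mem _ (hz _ (by omega))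

include hrel in
/-- The partial Horner sums are integral. -/
theorem isIntegral_horner {k : ℕ} (hk : k ≤ n) : IsIntegral R (horner c z n k) := by
  rcases Nat.eq_zero_or_pos n with hn | hn
  · subst hn
    have : k = 0 := by omega
    subst this
    rw [horner_zero]
    exact isIntegral_algebraMap
  · set N := Submodule.span R ((fun i : ℕ => z ^ i) '' (Finset.range n : Set ℕ)) with hN
    apply isIntegral_of_smul_mem_of_one_mem N
    · apply Submodule.subset_span
      exact ⟨0, by simpa using hn, by simp⟩
    · exact Submodule.fg_span (Set.Finite.image _ (Finset.finite_toSet _))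
    · have : N ≤ Submodule.comap (LinearMap.mulLeft R (horner c z n k)) N := by
        rw [hN, Submodule.span_le]
        rintro _ ⟨m, hm, rfl⟩
        have hm' : m < n := by simpa using hm
        simp only [Submodule.comap_coe, Set.mem_preimage, LinearMap.mulLeft_apply, SetLike.mem_coe]
        exact horner_mul_pow_mem c z n hrel hk hm'
      intro ν hν
      exact this hν

include hrel in
theorem isIntegral_horner_mul {k : ℕ} (hk : k < n) : IsIntegral R (horner c z n k * z) := by
  have h1 := horner_succ c z n hk
  have h2 : horner c z n k * z = horner c z n (k + 1) - algebraMap R S (c (n - k - 1)) := by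
    rw [h1]; ring
  rw [h2]
  exact (isIntegral_horner c z n hrel (Nat.succ_le_of_lt hk)).sub isIntegral_algebraMap

end Horner

end Groth.Agent.R2.H71.Blow
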