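import Groth.Agent.R2.H71Blow1
import Groth.Agent.R2.H71Blow2

/-!
# The blow-up step inside the total ring of fractions (helper71)
-/

set_option autoImplicit false
universe u v

namespace Groth.Agent.R2.H71.Blow

/-- Elements `w` occurring as `u` or `v` in a relation `u * y = v * x`. -/
def ratioSet (B : Type u) [CommRing B] (x y : B) : Set B :=
  {w | ∃ u v : B, u * y = v * x ∧ (w = u ∨ w = v)}

section Blowup

variable {A : Type u} {Q : Type u} [CommRing A] [CommRing Q] [Algebra A Q] [IsFractionRing A Q]

/-- The blow-up step: there is a finitely generated (as a module) subalgebra `R'` of the total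
ring of fractions in which the ratio set of `(x, y)` generates the unit ideal. -/
theorem exists_blowup (x y : A) (hx : x ∈ nonZeroDivisors A)
    (hlen : ∀ n : ℕ, Module.length A (A ⧸ Ideal.span {x ^ n}) ≠ ⊤) :
    ∃ R' : Subalgebra A Q, R'.toSubmodule.FG ∧
      Ideal.span (ratioSet R' (algebraMap A R' x) (algebraMap A R' y)) = ⊤ := by
  classical
  obtain ⟨n, c, j, hj, hrel, hcj⟩ := exists_relation x y hx hlen
  -- z = y / x
  set z : Q := IsLocalization.mk' Q y ⟨x, hx⟩ with hz
  have hzx : z * algebraMap A Q x = algebraMap A Q y := by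
    rw [hz]; exact IsLocalization.mk'_spec Q y ⟨x, hx⟩
  have hxu : IsUnit (algebraMap A Q x) := IsLocalization.map_units Q ⟨x, hx⟩
  -- relation in Q
  have hrelQ : ∑ i ∈ Finset.range (n + 1), algebraMap A Q (c i) * z ^ i = 0 := by
    have h1 := congrArg (algebraMap A Q) hrel
    rw [map_sum, map_zero] at h1
    have h2 : ∑ i ∈ Finset.range (n + 1), algebraMap A Q (c i * (x ^ (n - i) * y ^ i)) =
        algebraMap A Q x ^ n * ∑ i ∈ Finset.range (n + 1), algebraMap A Q (c i) * z ^ i := by
      rw [Finset.mul_sum]
      apply Finset.sum_congr rfl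
      intro i hi
      have hi' : i ≤ n := by have := Finset.mem_range.mp hi; omega
      rw [map_mul, map_mul, map_pow, map_pow, ← hzx]
      have : algebraMap A Q x ^ n = algebraMap A Q x ^ (n - i) * algebraMap A Q x ^ i := by
        rw [← pow_add]; congr 1; omega
      rw [this]; ring
    rw [h2] at h1
    exact (hxu.pow n).mul_right_eq_zero.mp h1
  -- the Horner elements
  let h : ℕ → Q := fun k => horner c z n k
  have hint : ∀ k ≤ n, IsIntegral A (h k) := fun k hk => isIntegral_horner c z n hrelQ hk
  have hintz : ∀ k < n, IsIntegral A (h k * z) := fun k hk => isIntegral_horner_mul c z n hrelQ hk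
  let gens : Set Q := (h '' (Finset.range (n + 1) : Set ℕ)) ∪
    ((fun k => h k * z) '' (Finset.range n : Set ℕ))
  have hgfin : gens.Finite :=
    (Set.Finite.image _ (Finset.finite_toSet _)).union (Set.Finite.image _ (Finset.finite_toSet _))
  have hgint : ∀ q ∈ gens, IsIntegral A q := by
    rintro q (⟨k, hk, rfl⟩ | ⟨k, hk, rfl⟩)
    · exact hint k (by have : k < n + 1 := by simpa using hk
                       omega)
    · exact hintz k (by simpa using hk)
  refine ⟨Algebra.adjoin A gens, fg_adjoin_of_finite hgfin hgint, ?_⟩
  set R' := Algebra.adjoin A gens with hR'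
  have hmem : ∀ k ≤ n, h k ∈ R' := by
    intro k hk
    apply Algebra.subset_adjoin
    left; exact ⟨k, by simpa using Nat.lt_succ_of_le hk, rfl⟩
  have hmemz : ∀ k < n, h k * z ∈ R' := by
    intro k hk
    apply Algebra.subset_adjoin
    right; exact ⟨k, by simpa using hk, rfl⟩
  set I := Ideal.span (ratioSet R' (algebraMap A R' x) (algebraMap A R' y)) with hI
  -- h k and h k z in I for k < n
  have hI1 : ∀ k (hk : k < n), (⟨h k, hmem k hk.le⟩ : R') ∈ I ∧ (⟨h k * z, hmemz k hk⟩ : R') ∈ I := by
    intro k hk
    have hr : (⟨h k, hmem k hk.le⟩ : R') * algebraMap A R' y =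
        (⟨h k * z, hmemz k hk⟩ : R') * algebraMap A R' x := by
      apply Subtype.ext
      simp only [MulMemClass.coe_mul, Subalgebra.coe_algebraMap]
      rw [← hzx]; ring
    constructor
    · exact Ideal.subset_span ⟨_, _, hr, Or.inl rfl⟩
    · exact Ideal.subset_span ⟨_, _, hr, Or.inr rfl⟩
  have hIx : algebraMap A R' x ∈ I :=
    Ideal.subset_span ⟨algebraMap A R' x, algebraMap A R' y, by ring, Or.inl rfl⟩
  -- c j ∈ I
  have hcjI : algebraMap A R' (c j) ∈ I := by
    rcases Nat.lt_or_ge j n with hjn | hjn
    · -- j < n : c j = h (n-j) - h (n-j-1) * z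
      have hk : n - j - 1 < n := by omega
      have hs := horner_succ c z n hk
      have hidx : n - (n - j - 1) - 1 = j := by omega
      rw [hidx] at hs
      have hsucc : n - j - 1 + 1 = n - j := by omega
      rw [hsucc] at hs
      -- h (n - j) = h (n-j-1) * z + c j
      rcases Nat.lt_or_ge (n - j) n with hlt | hge
      · have e : algebraMap A R' (c j) = (⟨h (n - j), hmem _ hlt.le⟩ : R') -
            (⟨h (n - j - 1) * z, hmemz _ hk⟩ : R') := by
          apply Subtype.ext
          simp only [Subalgebra.coe_algebraMap, AddSubgroupClass.coe_sub]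
          change algebraMap A Q (c j) = horner c z n (n - j) - horner c z n (n - j - 1) * z
          rw [hs]; ring
        rw [e]
        exact I.sub_mem (hI1 _ hlt).1 (hI1 _ hk).2
      · have hj0 : j = 0 := by omega
        subst hj0
        have htop := horner_top c z n
        rw [hrelQ] at htop
        have e : algebraMap A R' (c 0) = - (⟨h (n - 0 - 1) * z, hmemz _ hk⟩ : R') := by
          apply Subtype.ext
          simp only [Subalgebra.coe_algebraMap, NegMemClass.coe_neg]
          change algebraMap A Q (c 0) = - (horner c z n (n - 0 - 1) * z)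
          have : horner c z n (n - 0) = 0 := by simpa using htop
          rw [this] at hs
          linear_combination -hs
        rw [e]
        exact I.neg_mem (hI1 _ hk).2
    · have hjn' : j = n := le_antisymm hj hjn
      subst hjn'
      rcases Nat.eq_zero_or_pos j with h0 | hpos
      · -- n = 0: relation says c 0 = 0 in Q
        subst h0
        have : algebraMap A Q (c 0) = 0 := by simpa using hrelQ
        have e : algebraMap A R' (c 0) = 0 := by
          apply Subtype.ext
          simpa using this
        rw [e]; exact I.zero_mem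
      · have e : algebraMap A R' (c j) = (⟨h 0, hmem 0 (Nat.zero_le _)⟩ : R') := by
          apply Subtype.ext
          simp only [Subalgebra.coe_algebraMap]
          change algebraMap A Q (c j) = horner c z j 0
          rw [horner_zero]
        rw [e]
        exact (hI1 0 hpos).1
  -- 1 ∈ I
  rw [Ideal.eq_top_iff_one]
  obtain ⟨b, hb⟩ := Ideal.mem_span_singleton'.mp hcj
  have : (1 : R') = algebraMap A R' (c j) - algebraMap A R' b * algebraMap A R' x := by
    rw [← map_mul, ← map_sub, hb]
    simp
  rw [this]
  exact I.sub_mem hcjI (I.mul_mem_left _ hIx)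

end Blowup

end Groth.Agent.R2.H71.Blow
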