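import Groth.Agent.R2.H71Blow3

/-!
# Principalisation in a semilocal ring (helper71)
-/

set_option autoImplicit false
universe u v

namespace Groth.Agent.R2.H71.Blow

section Principal

variable {B : Type u} [CommRing B]

/-- If the ratio set of `(x, y)` generates the unit ideal of a semilocal ring `B` and `x` is a
nonzerodivisor, then `x = t x'`, `y = t y'` with `(x', y') = (1)`. -/
theorem exists_common_factor [Finite (MaximalSpectrum B)] (x y : B)
    (hx : x ∈ nonZeroDivisors B) (hspan : Ideal.span (ratioSet B x y) = ⊤) :
    ∃ t x' y' X Y : B, x = t * x' ∧ y = t * y' ∧ X * x' + Y * y' = 1 := by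
  classical
  haveI : Fintype (MaximalSpectrum B) := Fintype.ofFinite _
  -- local data
  have hloc : ∀ 𝔫 : MaximalSpectrum B, ∃ u v : B, u * y = v * x ∧ (u ∉ 𝔫.asIdeal ∨ v ∉ 𝔫.asIdeal) := by
    intro 𝔫
    by_contra hcon
    have hle : Ideal.span (ratioSet B x y) ≤ 𝔫.asIdeal := by
      rw [Ideal.span_le]
      rintro w ⟨u, v, huv, hw⟩
      by_contra hw'
      apply hcon
      refine ⟨u, v, huv, ?_⟩
      rcases hw with rfl | rfl
      · exact Or.inl hw'
      · exact Or.inr hw'
    rw [hspan] at hle
    exact 𝔫.isMaximal.ne_top (top_le_iff.mp hle)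
  choose u v huv hnot using hloc
  let ty : MaximalSpectrum B → Prop := fun 𝔫 => u 𝔫 ∉ 𝔫.asIdeal
  let g : MaximalSpectrum B → B := fun 𝔫 => if ty 𝔫 then x else y
  -- CRT idempotent-like elements
  have hcop : Pairwise (Function.onFun IsCoprime fun 𝔫 : MaximalSpectrum B => 𝔫.asIdeal) := by
    intro 𝔫 𝔫' hne
    haveI := 𝔫.isMaximal
    haveI := 𝔫'.isMaximal
    exact Ideal.isCoprime_of_isMaximal (fun h => hne (MaximalSpectrum.ext h))
  have hcrt : ∀ l : MaximalSpectrum B, ∃ e : B, ∀ l', e - (if l' = l then 1 else 0) ∈ l'.asIdeal :=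
    fun l => Ideal.exists_forall_sub_mem_ideal hcop (fun l' => if l' = l then 1 else 0)
  choose e he using hcrt
  have he1 : ∀ l, e l - 1 ∈ l.asIdeal := fun l => by simpa using he l l
  have he0 : ∀ l l', l' ≠ l → e l ∈ l'.asIdeal := fun l l' h => by simpa [h] using he l l'
  set t : B := ∑ l, e l * g l with ht
  -- colon ideal
  let 𝔠 : Ideal B :=
    { carrier := {r | r * x ∈ Ideal.span {t} ∧ r * y ∈ Ideal.span {t}}
      add_mem' := fun {a b} ha hb => ⟨by rw [add_mul]; exact Ideal.add_mem _ ha.1 hb.1,
        by rw [add_mul]; exact Ideal.add_mem _ ha.2 hb.2⟩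
      zero_mem' := ⟨by simp, by simp⟩
      smul_mem' := fun c a ha => ⟨by
        simp only [smul_eq_mul, mul_assoc]; exact Ideal.mul_mem_left _ _ ha.1, by
        simp only [smul_eq_mul, mul_assoc]; exact Ideal.mul_mem_left _ _ ha.2⟩ }
  have h𝔠 : 𝔠 = ⊤ := by
    by_contra hne
    obtain ⟨M, hM, hle⟩ := Ideal.exists_le_maximal 𝔠 hne
    let l : MaximalSpectrum B := ⟨M, hM⟩
    by_cases hty : ty l
    · -- type 1: u l ∉ M
      let ρ : MaximalSpectrum B → B := fun l' => if ty l' then u l else v l
      have hρ : ∀ l', u l * g l' = ρ l' * x := by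
        intro l'
        by_cases h : ty l'
        · simp [g, ρ, h]
        · simp [g, ρ, h, huv l]
      set σ : B := ∑ l', e l' * ρ l' with hσ
      have h1 : u l * t = σ * x := by
        rw [ht, hσ, Finset.mul_sum, Finset.sum_mul]
        apply Finset.sum_congr rfl
        intro l' _
        rw [mul_left_comm, hρ l']; ring
      have hσM : σ - u l ∈ M := by
        have : σ - u l = (e l - 1) * ρ l + ∑ l' ∈ Finset.univ.erase l, e l' * ρ l' := by
          rw [hσ, ← Finset.add_sum_erase _ _ (Finset.mem_univ l)]
          simp only [ρ, hty, if_true]; ring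
        rw [this]
        apply Ideal.add_mem
        · exact Ideal.mul_mem_right _ _ (he1 l)
        · apply Ideal.sum_mem
          intro l' hl'
          have hne' : l ≠ l' := fun h => (Finset.ne_of_mem_erase hl') h.symm
          exact Ideal.mul_mem_right _ _ (he0 l' l hne')
      have hσnot : σ ∉ M := by
        intro hσin
        apply hty
        have : u l = σ - (σ - u l) := by ring
        rw [this]; exact Ideal.sub_mem _ hσin hσM
      have hmem : σ * u l ∈ 𝔠 := by
        refine ⟨?_, ?_⟩
        · rw [Ideal.mem_span_singleton']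
          exact ⟨u l * u l, by rw [mul_assoc, h1]; ring⟩
        · rw [Ideal.mem_span_singleton']
          refine ⟨v l * u l, ?_⟩
          calc v l * u l * t = v l * (u l * t) := by ring
            _ = v l * (σ * x) := by rw [h1]
            _ = σ * (v l * x) := by ring
            _ = σ * (u l * y) := by rw [huv l]
            _ = σ * u l * y := by ring
      have := hle hmem
      rcases hM.isPrime.mem_or_mem this with h | h
      · exact hσnot h
      · exact hty h
    · -- type 2: v l ∉ M
      have hv : v l ∉ M := by
        rcases hnot l with h | h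
        · exact absurd h hty
        · exact h
      let ρ : MaximalSpectrum B → B := fun l' => if ty l' then u l else v l
      have hρ : ∀ l', v l * g l' = ρ l' * y := by
        intro l'
        by_cases h : ty l'
        · simp [g, ρ, h, huv l]
        · simp [g, ρ, h]
      set σ : B := ∑ l', e l' * ρ l' with hσ
      have h1 : v l * t = σ * y := by
        rw [ht, hσ, Finset.mul_sum, Finset.sum_mul]
        apply Finset.sum_congr rfl
        intro l' _
        rw [mul_left_comm, hρ l']; ring
      have hσM : σ - v l ∈ M := by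
        have : σ - v l = (e l - 1) * ρ l + ∑ l' ∈ Finset.univ.erase l, e l' * ρ l' := by
          rw [hσ, ← Finset.add_sum_erase _ _ (Finset.mem_univ l)]
          simp only [ρ, hty, if_false]; ring
        rw [this]
        apply Ideal.add_mem
        · exact Ideal.mul_mem_right _ _ (he1 l)
        · apply Ideal.sum_mem
          intro l' hl'
          have hne' : l ≠ l' := fun h => (Finset.ne_of_mem_erase hl') h.symm
          exact Ideal.mul_mem_right _ _ (he0 l' l hne')
      have hσnot : σ ∉ M := by
        intro hσin
        apply hv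
        have : v l = σ - (σ - v l) := by ring
        rw [this]; exact Ideal.sub_mem _ hσin hσM
      have hmem : σ * v l ∈ 𝔠 := by
        refine ⟨?_, ?_⟩
        · rw [Ideal.mem_span_singleton']
          refine ⟨u l * v l, ?_⟩
          calc u l * v l * t = u l * (v l * t) := by ring
            _ = u l * (σ * y) := by rw [h1]
            _ = σ * (u l * y) := by ring
            _ = σ * (v l * x) := by rw [huv l]
            _ = σ * v l * x := by ring
        · rw [Ideal.mem_span_singleton']
          exact ⟨v l * v l, by rw [mul_assoc, h1]; ring⟩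
      have := hle hmem
      rcases hM.isPrime.mem_or_mem this with h | h
      · exact hσnot h
      · exact hv h
  have h1𝔠 : (1 : B) ∈ 𝔠 := by rw [h𝔠]; trivial
  obtain ⟨hxt, hyt⟩ := h1𝔠
  rw [one_mul, Ideal.mem_span_singleton'] at hxt hyt
  obtain ⟨x', hx'⟩ := hxt
  obtain ⟨y', hy'⟩ := hyt
  set X : B := ∑ l, if ty l then e l else 0 with hX
  set Y : B := ∑ l, if ty l then 0 else e l with hY
  have htXY : t = X * x + Y * y := by
    rw [ht, hX, hY, Finset.sum_mul, Finset.sum_mul, ← Finset.sum_add_distrib]
    apply Finset.sum_congr rfl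
    intro l _
    by_cases h : ty l <;> simp [g, h]
  have htnzd : t ∈ nonZeroDivisors B := by
    rw [mem_nonZeroDivisors_iff_right]
    intro r hr
    apply (mem_nonZeroDivisors_iff_right.mp hx) r
    rw [← hx']
    calc r * (x' * t) = x' * (r * t) := by ring
      _ = 0 := by rw [hr, mul_zero]
  refine ⟨t, x', y', X, Y, by rw [← hx']; ring, by rw [← hy']; ring, ?_⟩
  have : t * (X * x' + Y * y' - 1) = 0 := by
    have h2 : t * (X * x' + Y * y') = X * (x' * t) + Y * (y' * t) := by ring
    rw [mul_sub, h2, hx', hy', ← htXY]; ring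
  have h3 := (mem_nonZeroDivisors_iff.mp htnzd).1 _ this
  exact sub_eq_zero.mp h3

end Principal

end Groth.Agent.R2.H71.Blow
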