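import Groth.Agent.R2.H71Blow4

/-!
# Good finite extensions and one-dimensional semilocal rings (helper71)
-/

set_option autoImplicit false
universe u v

namespace Groth.Agent.R2.H71.Blow

open Module

/-- A "good" finite extension: injective, module-finite, preserving nonzerodivisors and contained
in `d⁻¹ A` for a nonzerodivisor `d`. -/
structure GoodExt (A : Type u) (B : Type v) [CommRing A] [CommRing B] [Algebra A B] : Prop where
  inj : Function.Injective (algebraMap A B)
  fin : Module.Finite A B
  nzd : ∀ a ∈ nonZeroDivisors A, algebraMap A B a ∈ nonZeroDivisors B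
  denom : ∃ d ∈ nonZeroDivisors A, ∀ b : B, ∃ a : A, algebraMap A B a = algebraMap A B d * b

/-- Semilocal rings in which quotients by nonzerodivisors have finite length. -/
structure OneDim (A : Type u) [CommRing A] : Prop where
  fin_max : Finite (MaximalSpectrum A)
  len : ∀ x ∈ nonZeroDivisors A, Module.length A (A ⧸ Ideal.span {x}) ≠ ⊤

section GoodExt

variable {A : Type u} [CommRing A]

theorem GoodExt.refl : GoodExt A A where
  inj := fun _ _ h => h
  fin := inferInstance
  nzd := fun a ha => ha
  denom := ⟨1, one_mem _, fun b => ⟨b, by simp⟩⟩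

theorem GoodExt.trans {A' : Type u} {B : Type u} [CommRing A'] [CommRing B] [Algebra A A']
    [Algebra A' B] [Algebra A B] [IsScalarTower A A' B]
    (h1 : GoodExt A A') (h2 : GoodExt A' B) : GoodExt A B where
  inj := by
    rw [IsScalarTower.algebraMap_eq A A' B]
    exact h2.inj.comp h1.inj
  fin := by
    haveI := h1.fin
    haveI := h2.fin
    exact Module.Finite.trans A' B
  nzd := fun a ha => by
    rw [IsScalarTower.algebraMap_apply A A' B]
    exact h2.nzd _ (h1.nzd a ha)
  denom := by
    obtain ⟨d, hd, hd'⟩ := h1.denom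
    obtain ⟨d', hd'n, hd''⟩ := h2.denom
    obtain ⟨a0, ha0⟩ := hd' d'
    have ha0n : a0 ∈ nonZeroDivisors A := by
      rw [mem_nonZeroDivisors_iff_right]
      intro t ht
      have h3 : algebraMap A A' t * (algebraMap A A' d * d') = 0 := by
        rw [← ha0, ← map_mul, ht, map_zero]
      have h4 : algebraMap A A' d * d' ∈ nonZeroDivisors A' := mul_mem (h1.nzd d hd) hd'n
      have h5 := (mem_nonZeroDivisors_iff_right.mp h4) _ h3
      exact h1.inj (by rw [h5, map_zero])
    refine ⟨d * a0, mul_mem hd ha0n, fun b => ?_⟩
    obtain ⟨a', ha'⟩ := hd'' b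
    obtain ⟨a'', ha''⟩ := hd' a'
    refine ⟨d * a'', ?_⟩
    rw [IsScalarTower.algebraMap_apply A A' B, map_mul, ha'', map_mul, map_mul, ha',
      IsScalarTower.algebraMap_apply A A' B (d * a0), map_mul, map_mul, ha0, map_mul]
    ring

variable {Q : Type u} [CommRing Q] [Algebra A Q] [IsFractionRing A Q]

theorem GoodExt.of_subalgebra (R' : Subalgebra A Q) (hfg : R'.toSubmodule.FG) : GoodExt A R' where
  inj := by
    intro a b hab
    have := congrArg (Subtype.val) hab
    simp only [Subalgebra.coe_algebraMap] at this
    exact IsFractionRing.injective A Q this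
  fin := Module.Finite.of_fg hfg
  nzd := fun a ha => by
    rw [mem_nonZeroDivisors_iff_right]
    intro r hr
    have hu : IsUnit (algebraMap A Q a) := IsLocalization.map_units Q ⟨a, ha⟩
    have : (r : Q) * algebraMap A Q a = 0 := by
      have := congrArg Subtype.val hr
      simpa using this
    have h2 := hu.mul_left_eq_zero.mp this
    exact Subtype.ext h2
  denom := by
    classical
    obtain ⟨s, hs⟩ := hfg
    obtain ⟨d, hd⟩ := IsLocalization.exist_integer_multiples_of_finset (nonZeroDivisors A) s
    refine ⟨d, d.2, fun b => ?_⟩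
    have hb : (b : Q) ∈ Submodule.span A (s : Set Q) := by rw [hs]; exact b.2
    have key : ∀ q ∈ Submodule.span A (s : Set Q), ∃ a : A, algebraMap A Q a = algebraMap A Q d * q := by
      intro q hq
      induction hq using Submodule.span_induction with
      | mem q hq =>
        obtain ⟨a, ha⟩ := hd q hq
        exact ⟨a, by rw [ha, Algebra.smul_def]⟩
      | zero => exact ⟨0, by simp⟩
      | add q1 q2 _ _ h1 h2 =>
        obtain ⟨a1, h1⟩ := h1
        obtain ⟨a2, h2⟩ := h2
        exact ⟨a1 + a2, by rw [map_add, h1, h2, mul_add]⟩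
      | smul c q _ h1 =>
        obtain ⟨a1, h1⟩ := h1
        exact ⟨c * a1, by rw [map_mul, h1, Algebra.smul_def]; ring⟩
    obtain ⟨a, ha⟩ := key _ hb
    exact ⟨a, Subtype.ext (by simpa using ha)⟩

end GoodExt

end Groth.Agent.R2.H71.Blow
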