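import Groth.Agent.R2.H71Blow5

/-!
# Length comparisons along good extensions (helper71)
-/

set_option autoImplicit false
universe u v

namespace Groth.Agent.R2.H71.Blow

open Module

section Lengths

variable {A B : Type u} [CommRing A] [CommRing B] [Algebra A B]

/-- The cokernel of `A → B` has finite length over `A`. -/
lemma coker_length_ne_top (h : GoodExt A B) (hA : OneDim A) :
    Module.length A (B ⧸ LinearMap.range (Algebra.linearMap A B)) ≠ ⊤ := by
  classical
  obtain ⟨d, hd, hd'⟩ := h.denom
  choose ν hν using hd'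
  have hdB : algebraMap A B d ∈ nonZeroDivisors B := h.nzd d hd
  let νl : B →ₗ[A] A :=
    { toFun := ν
      map_add' := fun b1 b2 => h.inj (by rw [map_add, hν, hν, hν, mul_add])
      map_smul' := fun c b => h.inj (by
        rw [RingHom.id_apply, smul_eq_mul, map_mul, hν, hν, Algebra.smul_def]; ring) }
  let θ : B →ₗ[A] A ⧸ Ideal.span {d} := (Ideal.span {d}).mkQ.comp νl
  have hker : LinearMap.ker θ = LinearMap.range (Algebra.linearMap A B) := by
    ext b
    simp only [θ, LinearMap.mem_ker, LinearMap.comp_apply, Submodule.mkQ_apply,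
      Submodule.Quotient.mk_eq_zero, LinearMap.mem_range, Algebra.linearMap_apply]
    change ν b ∈ Ideal.span {d} ↔ _
    rw [Ideal.mem_span_singleton']
    constructor
    · rintro ⟨a, ha⟩
      refine ⟨a, ?_⟩
      have h1 : algebraMap A B d * algebraMap A B a = algebraMap A B d * b := by
        rw [← hν b, ← ha, map_mul]; ring
      exact (mem_nonZeroDivisors_iff.mp hdB).1 _ (by rw [mul_sub, h1, sub_self]) |> sub_eq_zero.mp
    · rintro ⟨a, rfl⟩
      exact ⟨a, h.inj (by rw [hν, map_mul]; ring)⟩
  have e := θ.quotKerEquivRange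
  rw [← hker, e.length_eq]
  have h1 := Module.length_le_of_injective (LinearMap.range θ).subtype (Submodule.subtype_injective _)
  exact ne_top_of_le_ne_top (hA.len d hd) h1

lemma smul_injective_of_goodExt (h : GoodExt A B) {a : A} (ha : a ∈ nonZeroDivisors A) :
    Function.Injective (fun b : B => a • b) := by
  intro b1 b2 hb
  simp only [Algebra.smul_def] at hb
  have h1 : algebraMap A B a * (b1 - b2) = 0 := by rw [mul_sub, hb, sub_self]
  exact sub_eq_zero.mp ((mem_nonZeroDivisors_iff.mp (h.nzd a ha)).1 _ h1)

lemma length_quot_xsub_eq (h : GoodExt A B) (hA : OneDim A) {a : A} (ha : a ∈ nonZeroDivisors A) :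
    Module.length A (B ⧸ xsub a B) = Module.length A (A ⧸ Ideal.span {a}) := by
  have := length_quot_smul_eq (Algebra.linearMap A B) h.inj a (smul_injective_of_goodExt h ha)
    (coker_length_ne_top h hA)
  rw [this, xsub_self_eq]

lemma length_restrictScalars_quot_le (I : Ideal B) :
    Module.length B (B ⧸ I) ≤ Module.length A (B ⧸ (Submodule.restrictScalars A I)) := by
  rw [Module.length_quotient, Module.length_quotient]
  exact Order.coheight_le_coheight_apply_of_strictMono _
    (Submodule.restrictScalarsEmbedding A B B).strictMono I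

lemma span_restrictScalars_eq (a : A) :
    Submodule.restrictScalars A (Ideal.span {algebraMap A B a}) = xsub a B := by
  ext b
  rw [Submodule.restrictScalars_mem, Ideal.mem_span_singleton', mem_xsub]
  constructor
  · rintro ⟨c, rfl⟩; exact ⟨c, by rw [Algebra.smul_def]; ring⟩
  · rintro ⟨c, rfl⟩; exact ⟨c, by rw [Algebra.smul_def]; ring⟩

/-- Lengths of quotients by a nonzerodivisor of `A` do not increase in a good extension. -/
lemma length_le_of_goodExt (h : GoodExt A B) (hA : OneDim A) {a : A}
    (ha : a ∈ nonZeroDivisors A) :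
    Module.length B (B ⧸ Ideal.span {algebraMap A B a}) ≤
      Module.length A (A ⧸ Ideal.span {a}) := by
  have h1 := length_restrictScalars_quot_le (A := A) (Ideal.span {algebraMap A B a})
  rw [span_restrictScalars_eq, length_quot_xsub_eq h hA ha] at h1
  exact h1

theorem OneDim.of_goodExt (h : GoodExt A B) (hA : OneDim A) : OneDim B where
  fin_max := by
    haveI := h.fin
    haveI := hA.fin_max
    let s : Set (PrimeSpectrum A) := Set.range (MaximalSpectrum.toPrimeSpectrum)
    have hs : s.Finite := Set.finite_range _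
    have hfin := Algebra.QuasiFinite.finite_comap_preimage (R := A) (S := B) hs
    have hint : Algebra.IsIntegral A B := Algebra.IsIntegral.of_finite A B
    let f : MaximalSpectrum B → (PrimeSpectrum.comap (algebraMap A B) ⁻¹' s) := fun q =>
      ⟨q.toPrimeSpectrum, by
        refine ⟨⟨q.asIdeal.comap (algebraMap A B),
          Ideal.isMaximal_comap_of_isIntegral_of_isMaximal q.asIdeal⟩, ?_⟩
        rfl⟩
    have hf : Function.Injective f := by
      intro q1 q2 h12
      have := congrArg (fun z => z.1.asIdeal) h12
      exact MaximalSpectrum.ext this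
    haveI : Finite (PrimeSpectrum.comap (algebraMap A B) ⁻¹' s) := hfin
    exact Finite.of_injective f hf
  len := by
    intro b hb
    obtain ⟨d, hd, hd'⟩ := h.denom
    obtain ⟨a0, ha0⟩ := hd' b
    have ha0n : a0 ∈ nonZeroDivisors A := by
      rw [mem_nonZeroDivisors_iff_right]
      intro t ht
      have h3 : algebraMap A B t * (algebraMap A B d * b) = 0 := by
        rw [← ha0, ← map_mul, ht, map_zero]
      have h4 : algebraMap A B d * b ∈ nonZeroDivisors B := mul_mem (h.nzd d hd) hb
      have h5 := (mem_nonZeroDivisors_iff_right.mp h4) _ h3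
      exact h.inj (by rw [h5, map_zero])
    have hle : Ideal.span {algebraMap A B a0} ≤ Ideal.span {b} := by
      rw [Ideal.span_singleton_le_iff_mem, ha0]
      exact Ideal.mul_mem_left _ _ (Ideal.subset_span rfl)
    have h1 := Module.length_le_of_surjective (Submodule.factor hle) (Submodule.factor_surjective hle)
    have h2 := length_le_of_goodExt h hA ha0n
    exact ne_top_of_le_ne_top (hA.len a0 ha0n) (h1.trans h2)

/-- Additivity: `length (B/uv) = length (B/u) + length (B/v)` for nonzerodivisors. -/
lemma length_mul {u v : B} (hu : u ∈ nonZeroDivisors B) :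
    Module.length B (B ⧸ Ideal.span {u * v}) =
      Module.length B (B ⧸ Ideal.span {u}) + Module.length B (B ⧸ Ideal.span {v}) := by
  have hle : Ideal.span {u * v} ≤ Ideal.span {u} := by
    rw [Ideal.span_singleton_le_iff_mem]
    exact Ideal.mul_mem_right _ _ (Ideal.subset_span rfl)
  have h1 := length_quot_eq_add (Ideal.span {u * v} : Submodule B B) (Ideal.span {u}) hle
  rw [h1, add_comm]
  congr 1
  -- image of (u) in B/(uv) is B/(v)
  let g : B →ₗ[B] (B ⧸ (Ideal.span {u * v} : Submodule B B)) :=
    (Ideal.span {u * v} : Submodule B B).mkQ.comp (LinearMap.mulLeft B u)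
  have hker : LinearMap.ker g = Ideal.span {v} := by
    ext b
    simp only [g, LinearMap.mem_ker, LinearMap.comp_apply, Submodule.mkQ_apply,
      Submodule.Quotient.mk_eq_zero, LinearMap.mulLeft_apply]
    rw [Ideal.mem_span_singleton', Ideal.mem_span_singleton']
    constructor
    · rintro ⟨c, hc⟩
      refine ⟨c, ?_⟩
      have : u * (c * v - b) = 0 := by rw [mul_sub, ← hc]; ring
      exact sub_eq_zero.mp ((mem_nonZeroDivisors_iff.mp hu).1 _ this)
    · rintro ⟨c, rfl⟩; exact ⟨c, by ring⟩
  have hrange : LinearMap.range g =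
      Submodule.map (Ideal.span {u * v} : Submodule B B).mkQ (Ideal.span {u} : Submodule B B) := by
    simp only [g, LinearMap.range_comp]
    congr 1
    ext b
    rw [LinearMap.mem_range]
    change _ ↔ b ∈ Ideal.span {u}
    rw [Ideal.mem_span_singleton']
    constructor
    · rintro ⟨c, rfl⟩; exact ⟨c, by simp [mul_comm]⟩
    · rintro ⟨c, rfl⟩; exact ⟨c, by simp [mul_comm]⟩
  have e := g.quotKerEquivRange
  rw [← hrange, ← e.length_eq, hker]

lemma one_le_length_of_not_isUnit {t : B} (ht : ¬ IsUnit t) :
    1 ≤ Module.length B (B ⧸ Ideal.span {t}) := by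
  have hne : Ideal.span {t} ≠ ⊤ := by
    rw [Ne, Ideal.span_singleton_eq_top]; exact ht
  haveI : Nontrivial (B ⧸ Ideal.span {t}) := Ideal.Quotient.nontrivial_iff.mpr hne
  exact Order.one_le_iff_pos.mpr Module.length_pos

end Lengths

end Groth.Agent.R2.H71.Blow
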