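import Groth.Agent.R2.H71Blow6

/-!
# Common factors and local factorisations in finite extensions (helper71)
-/

set_option autoImplicit false
universe u v

namespace Groth.Agent.R2.H71.Blow

open Module

/-- Semilocal version of the common factor lemma. -/
theorem exists_blowup_ext {A : Type u} [CommRing A] (hA : OneDim A) (x y : A)
    (hx : x ∈ nonZeroDivisors A) :
    ∃ (A' : Type u) (_ : CommRing A') (_ : Algebra A A'), GoodExt A A' ∧
      ∃ t x' y' X Y : A', algebraMap A A' x = t * x' ∧ algebraMap A A' y = t * y' ∧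
        X * x' + Y * y' = 1 := by
  have hlen : ∀ n : ℕ, Module.length A (A ⧸ Ideal.span {x ^ n}) ≠ ⊤ :=
    fun n => hA.len _ (pow_mem hx n)
  obtain ⟨R', hfg, hspan⟩ := exists_blowup (Q := FractionRing A) x y hx hlen
  have hG : GoodExt A R' := GoodExt.of_subalgebra R' hfg
  have hA' : OneDim R' := OneDim.of_goodExt hG hA
  haveI := hA'.fin_max
  obtain ⟨t, x', y', X, Y, h1, h2, h3⟩ :=
    exists_common_factor (algebraMap A R' x) (algebraMap A R' y) (hG.nzd x hx) hspan
  exact ⟨R', inferInstance, inferInstance, hG, t, x', y', X, Y, h1, h2, h3⟩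

/-- Local factorisations at all maximal ideals. -/
def LocalFac (A : Type u) [CommRing A] (B : Type u) [CommRing B] [Algebra A B] {r : ℕ}
    (a : Fin r → A) : Prop :=
  ∀ q : MaximalSpectrum B, ∃ π : Localization.AtPrime q.asIdeal,
    π ∈ nonZeroDivisors (Localization.AtPrime q.asIdeal) ∧
    ∀ i, ∃ (v : (Localization.AtPrime q.asIdeal)ˣ) (e : ℕ),
      algebraMap A (Localization.AtPrime q.asIdeal) (a i) = (v : Localization.AtPrime q.asIdeal) * π ^ e

section Base

variable {A : Type u} [CommRing A]

/-- Base case: pairwise comaximal nonzerodivisors. -/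
theorem localFac_of_pairwise_comaximal {r : ℕ} (a : Fin r → A)
    (ha : ∀ i, a i ∈ nonZeroDivisors A)
    (hco : ∀ i j, i ≠ j → Ideal.span {a i, a j} = ⊤) : LocalFac A A a := by
  classical
  intro q
  haveI := q.isMaximal
  let L := Localization.AtPrime q.asIdeal
  refine ⟨algebraMap A L (∏ i, a i), ?_, ?_⟩
  · apply IsLocalization.map_nonZeroDivisors_le q.asIdeal.primeCompl L
    exact ⟨_, prod_mem (fun i _ => ha i), rfl⟩
  · intro i
    have hunit : ∀ b : A, b ∉ q.asIdeal → IsUnit (algebraMap A L b) := fun b hb =>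
      IsLocalization.map_units L (⟨b, hb⟩ : q.asIdeal.primeCompl)
    by_cases hi : a i ∈ q.asIdeal
    · -- all others are units
      have hothers : ∀ j ∈ Finset.univ.erase i, a j ∉ q.asIdeal := by
        intro j hj hjq
        have hne : i ≠ j := fun h => (Finset.ne_of_mem_erase hj) h.symm
        have := hco i j hne
        have hle : Ideal.span {a i, a j} ≤ q.asIdeal := by
          rw [Ideal.span_le]
          rintro w (rfl | rfl)
          · exact hi
          · exact hjq
        rw [this] at hle
        exact q.isMaximal.ne_top (top_le_iff.mp hle)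
      have hprod : (∏ j ∈ Finset.univ.erase i, a j) ∉ q.asIdeal := by
        intro hmem
        obtain ⟨j, hj, hjq⟩ := (Ideal.IsPrime.prod_mem_iff (hp := q.isMaximal.isPrime)).mp hmem
        exact hothers j hj hjq
      obtain ⟨w, hw⟩ := hunit _ hprod
      refine ⟨w⁻¹, 1, ?_⟩
      rw [pow_one, ← Finset.mul_prod_erase _ _ (Finset.mem_univ i), map_mul, ← hw]
      rw [mul_comm (algebraMap A L (a i)), ← mul_assoc, Units.inv_mul, one_mul]
    · obtain ⟨w, hw⟩ := hunit _ hi
      exact ⟨w, 0, by rw [pow_zero, mul_one, hw]⟩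

end Base

section Measure

variable {A B : Type u} [CommRing A] [CommRing B] [Algebra A B]

/-- The measure: the length of `A/aA` as a natural number. -/
noncomputable def Lnat (A : Type u) [CommRing A] (a : A) : ℕ :=
  (Module.length A (A ⧸ Ideal.span {a})).toNat

lemma Lnat_mul (hB : OneDim B) {u v : B} (hu : u ∈ nonZeroDivisors B)
    (hv : v ∈ nonZeroDivisors B) : Lnat B (u * v) = Lnat B u + Lnat B v := by
  unfold Lnat
  rw [length_mul hu, ENat.toNat_add (hB.len u hu) (hB.len v hv)]

lemma Lnat_le (h : GoodExt A B) (hA : OneDim A) {a : A} (ha : a ∈ nonZeroDivisors A) :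
    Lnat B (algebraMap A B a) ≤ Lnat A a := by
  unfold Lnat
  exact ENat.toNat_le_toNat (length_le_of_goodExt h hA ha) (hA.len a ha)

lemma Lnat_pos (hB : OneDim B) {t : B} (ht : t ∈ nonZeroDivisors B) (hnu : ¬ IsUnit t) :
    1 ≤ Lnat B t := by
  unfold Lnat
  have h1 := one_le_length_of_not_isUnit hnu
  have h2 := ENat.toNat_le_toNat h1 (hB.len t ht)
  simpa using h2

/-- A proper ideal stays proper in a good extension. -/
lemma map_ne_top_of_goodExt (h : GoodExt A B) {I : Ideal A} (hI : I ≠ ⊤) :
    I.map (algebraMap A B) ≠ ⊤ := by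
  haveI := h.fin
  have hint : Algebra.IsIntegral A B := Algebra.IsIntegral.of_finite A B
  obtain ⟨M, hM, hle⟩ := Ideal.exists_le_maximal I hI
  have hker : RingHom.ker (algebraMap A B) ≤ M := by
    rw [(RingHom.injective_iff_ker_eq_bot _).mp h.inj]; exact bot_le
  obtain ⟨Q, hQ, hQM⟩ := Ideal.exists_ideal_over_maximal_of_isIntegral M hker
  intro htop
  have : I.map (algebraMap A B) ≤ Q := by
    rw [Ideal.map_le_iff_le_comap, hQM]; exact hle
  rw [htop] at this
  exact hQ.ne_top (top_le_iff.mp this)

end Measure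

section Main

/-- Sum splitting over two distinct indices. -/
lemma sum_split_two {r : ℕ} (g : Fin r → ℕ) {i j : Fin r} (hij : i ≠ j) :
    ∑ k, g k = g i + g j + ∑ k ∈ (Finset.univ.erase i).erase j, g k := by
  rw [← Finset.add_sum_erase _ _ (Finset.mem_univ i),
    ← Finset.add_sum_erase _ _ (Finset.mem_erase.mpr ⟨hij.symm, Finset.mem_univ j⟩)]
  ring

/-- Main theorem: local factorisations exist in some good finite extension. -/
theorem exists_localFac : ∀ (N : ℕ) (A : Type u) [CommRing A] (_ : OneDim A) (r : ℕ)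
    (a : Fin r → A), (∀ i, a i ∈ nonZeroDivisors A) → (∑ i, Lnat A (a i)) ≤ N →
    ∃ (B : Type u) (_ : CommRing B) (_ : Algebra A B), GoodExt A B ∧ LocalFac A B a := by
  intro N
  induction N using Nat.strong_induction_on with
  | _ N IH =>
  intro A _ hA r a ha hN
  classical
  by_cases hco : ∀ i j, i ≠ j → Ideal.span {a i, a j} = ⊤
  · exact ⟨A, inferInstance, inferInstance, GoodExt.refl, localFac_of_pairwise_comaximal a ha hco⟩
  · push Not at hco
    obtain ⟨i, j, hij, hne⟩ := hco
    obtain ⟨A', _, _, hG, t, x', y', X, Y, h1, h2, h3⟩ := exists_blowup_ext hA (a i) (a j) (ha i)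
    have hA' : OneDim A' := OneDim.of_goodExt hG hA
    have hi' : t * x' ∈ nonZeroDivisors A' := h1 ▸ hG.nzd _ (ha i)
    have hj' : t * y' ∈ nonZeroDivisors A' := h2 ▸ hG.nzd _ (ha j)
    have ht : t ∈ nonZeroDivisors A' := (mul_mem_nonZeroDivisors.mp hi').1
    have hx' : x' ∈ nonZeroDivisors A' := (mul_mem_nonZeroDivisors.mp hi').2
    have hy' : y' ∈ nonZeroDivisors A' := (mul_mem_nonZeroDivisors.mp hj').2
    have htnu : ¬ IsUnit t := by
      intro hu
      apply map_ne_top_of_goodExt hG hne
      rw [Ideal.eq_top_iff_one]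
      obtain ⟨w, hw⟩ := hu
      have : (1 : A') = (w⁻¹ : A'ˣ) * (X * algebraMap A A' (a i) + Y * algebraMap A A' (a j)) := by
        rw [h1, h2, ← hw]
        have : X * (↑w * x') + Y * (↑w * y') = ↑w * (X * x' + Y * y') := by ring
        rw [this, h3, mul_one, Units.inv_mul]
      rw [this]
      apply Ideal.mul_mem_left
      apply Ideal.add_mem
      · exact Ideal.mul_mem_left _ _ (Ideal.mem_map_of_mem _ (Ideal.subset_span (by simp)))
      · exact Ideal.mul_mem_left _ _ (Ideal.mem_map_of_mem _ (Ideal.subset_span (by simp)))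
    -- new family
    let a'' : Fin r → A' := fun k =>
      if k = i then t else if k = j then x' * y' else algebraMap A A' (a k)
    have ha''i : a'' i = t := by simp [a'']
    have ha''j : a'' j = x' * y' := by simp [a'', hij.symm]
    have ha''k : ∀ k, k ≠ i → k ≠ j → a'' k = algebraMap A A' (a k) := by
      intro k hki hkj; simp [a'', hki, hkj]
    have ha'' : ∀ k, a'' k ∈ nonZeroDivisors A' := by
      intro k
      by_cases hki : k = i
      · subst hki; rw [ha''i]; exact ht
      · by_cases hkj : k = j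
        · subst hkj; rw [ha''j]; exact mul_mem hx' hy'
        · rw [ha''k k hki hkj]; exact hG.nzd _ (ha k)
    -- measure decreases
    have hlt : (∑ k, Lnat A' (a'' k)) < ∑ k, Lnat A (a k) := by
      have hF : (∑ k, Lnat A' (algebraMap A A' (a k))) ≤ ∑ k, Lnat A (a k) :=
        Finset.sum_le_sum (fun k _ => Lnat_le hG hA (ha k))
      have e1 := sum_split_two (fun k => Lnat A' (a'' k)) hij
      have e2 := sum_split_two (fun k => Lnat A' (algebraMap A A' (a k))) hij
      have e3 : ∑ k ∈ (Finset.univ.erase i).erase j, Lnat A' (a'' k) =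
          ∑ k ∈ (Finset.univ.erase i).erase j, Lnat A' (algebraMap A A' (a k)) := by
        apply Finset.sum_congr rfl
        intro k hk
        have hkj : k ≠ j := Finset.ne_of_mem_erase hk
        have hki : k ≠ i := Finset.ne_of_mem_erase (Finset.mem_of_mem_erase hk)
        rw [ha''k k hki hkj]
      simp only [ha''i, ha''j] at e1
      rw [h1, h2, Lnat_mul hA' ht hx', Lnat_mul hA' ht hy'] at e2
      rw [Lnat_mul hA' hx' hy'] at e1
      have hpos := Lnat_pos hA' ht htnu
      omega
    obtain ⟨B, _, _, hG', hLF⟩ := IH _ (lt_of_lt_of_le hlt hN) A' hA' r a'' ha'' le_rfl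
    letI : Algebra A B := ((algebraMap A' B).comp (algebraMap A A')).toAlgebra
    haveI : IsScalarTower A A' B := IsScalarTower.of_algebraMap_eq (fun _ => rfl)
    refine ⟨B, inferInstance, inferInstance, hG.trans hG', ?_⟩
    intro q
    obtain ⟨π, hπ, hfac⟩ := hLF q
    refine ⟨π, hπ, ?_⟩
    let L := Localization.AtPrime q.asIdeal
    haveI := q.isMaximal
    let φ : A' →+* L := algebraMap A' L
    have hcomp : ∀ b : A, algebraMap A L b = φ (algebraMap A A' b) := by
      intro b
      rw [IsScalarTower.algebraMap_apply A B L, IsScalarTower.algebraMap_apply A A' B,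
        ← IsScalarTower.algebraMap_apply A' B L]
    obtain ⟨vt, et, hvt⟩ := hfac i
    obtain ⟨v2, e2, hv2⟩ := hfac j
    rw [ha''i] at hvt
    rw [ha''j] at hv2
    change φ t = _ at hvt
    change φ (x' * y') = _ at hv2
    have h3' : φ X * φ x' + φ Y * φ y' = 1 := by
      rw [← map_mul, ← map_mul, ← map_add, h3, map_one]
    have hor : IsUnit (φ x') ∨ IsUnit (φ y') := by
      rcases IsLocalRing.isUnit_or_isUnit_of_add_one h3' with h | h
      · exact Or.inl (isUnit_of_mul_isUnit_right h)
      · exact Or.inr (isUnit_of_mul_isUnit_right h)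
    intro k
    by_cases hki : k = i
    · subst hki
      rw [hcomp, h1, map_mul, hvt]
      rcases hor with ⟨ux, hux⟩ | ⟨uy, huy⟩
      · exact ⟨vt * ux, et, by rw [← hux]; push_cast; ring⟩
      · have hx'eq : φ x' = (uy⁻¹ * v2 : Lˣ) * π ^ e2 := by
          have : φ x' * φ y' = v2 * π ^ e2 := by rw [← map_mul, hv2]
          rw [← huy] at this
          have h4 : φ x' = φ x' * uy * (uy⁻¹ : Lˣ) := by rw [mul_assoc, Units.mul_inv, mul_one]
          rw [h4, this]; push_cast; ring
        exact ⟨vt * (uy⁻¹ * v2), et + e2, by rw [hx'eq]; push_cast; ring⟩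
    · by_cases hkj : k = j
      · subst hkj
        rw [hcomp, h2, map_mul, hvt]
        rcases hor with ⟨ux, hux⟩ | ⟨uy, huy⟩
        · have hy'eq : φ y' = (ux⁻¹ * v2 : Lˣ) * π ^ e2 := by
            have : φ x' * φ y' = v2 * π ^ e2 := by rw [← map_mul, hv2]
            rw [← hux] at this
            have h4 : φ y' = (ux⁻¹ : Lˣ) * (ux * φ y') := by
              rw [← mul_assoc, Units.inv_mul, one_mul]
            rw [h4, this]; push_cast; ring
          exact ⟨vt * (ux⁻¹ * v2), et + e2, by rw [hy'eq]; push_cast; ring⟩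
        · exact ⟨vt * uy, et, by rw [← huy]; push_cast; ring⟩
      · obtain ⟨v, e, hv⟩ := hfac k
        rw [ha''k k hki hkj] at hv
        exact ⟨v, e, by rw [hcomp]; exact hv⟩

end Main

end Groth.Agent.R2.H71.Blow
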