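import Groth.Agent.R2.H71Blow7
import Groth.Prelude.Def_CycAlg

/-!
# One-dimensional Noetherian local rings are `OneDim`; `IsFinExt` from `GoodExt` (helper71)
-/

set_option autoImplicit false
universe u v

namespace Groth.Agent.R2.H71.Blow

open Module

section Local

variable (A : Type u) [CommRing A] [IsNoetherianRing A] [IsLocalRing A]

/-- In a Noetherian local ring of dimension 1, a prime containing a nonzerodivisor is the maximal
ideal. -/
lemma prime_eq_maximalIdeal_of_mem (hA : ringKrullDim A = 1) {x : A}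
    (hx : x ∈ nonZeroDivisors A) (J : Ideal A) [hJ : J.IsPrime] (hxJ : x ∈ J) :
    J = IsLocalRing.maximalIdeal A := by
  have h1 : (1 : ℕ∞) ≤ J.height :=
    (Ideal.one_le_height_span_singleton_of_mem_nonZeroDivisors hx).trans
      (Ideal.height_mono ((Ideal.span_singleton_le_iff_mem _).mpr hxJ))
  by_contra hne
  have hlt : J < IsLocalRing.maximalIdeal A :=
    lt_of_le_of_ne (IsLocalRing.le_maximalIdeal hJ.ne_top) hne
  have h2 := Ideal.height_add_one_le_of_lt_of_isPrime hlt
  have h3 : ((IsLocalRing.maximalIdeal A).height : WithBot ℕ∞) = 1 := by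
    rw [IsLocalRing.maximalIdeal_height_eq_ringKrullDim, hA]
  have h4 : (IsLocalRing.maximalIdeal A).height = 1 := by exact_mod_cast h3
  rw [h4] at h2
  have h5 : (1 : ℕ∞) + 1 ≤ 1 := (add_le_add_left h1 1).trans h2
  exact absurd h5 (by decide)

theorem oneDim_of_local (hA : ringKrullDim A = 1) : OneDim A where
  fin_max := inferInstance
  len := by
    intro x hx
    haveI : Ring.KrullDimLE 0 (A ⧸ Ideal.span {x}) := by
      rw [Ring.krullDimLE_zero_iff]
      intro P hP
      have hsurj : Function.Surjective (Ideal.Quotient.mk (Ideal.span {x})) :=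
        Ideal.Quotient.mk_surjective
      haveI : (P.comap (Ideal.Quotient.mk (Ideal.span {x}))).IsPrime := Ideal.comap_isPrime _ _
      have hxP : x ∈ P.comap (Ideal.Quotient.mk (Ideal.span {x})) := by
        rw [Ideal.mem_comap]
        have : (Ideal.Quotient.mk (Ideal.span {x})) x = 0 :=
          Ideal.Quotient.eq_zero_iff_mem.mpr (Ideal.subset_span rfl)
        rw [this]; exact P.zero_mem
      have hmax := prime_eq_maximalIdeal_of_mem A hA hx _ hxP
      have hM : (P.comap (Ideal.Quotient.mk (Ideal.span {x}))).IsMaximal := by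
        rw [hmax]; exact IsLocalRing.maximalIdeal.isMaximal A
      rcases Ideal.map_eq_top_or_isMaximal_of_surjective _ hsurj hM with h | h
      · rw [Ideal.map_comap_of_surjective _ hsurj] at h
        exact absurd h hP.ne_top
      · rwa [Ideal.map_comap_of_surjective _ hsurj] at h
    haveI : IsArtinianRing (A ⧸ Ideal.span {x}) :=
      IsNoetherianRing.isArtinianRing_of_krullDimLE_zero
    rw [Module.length_eq_of_surjective (S := A) (R := A ⧸ Ideal.span {x})
      (M := A ⧸ Ideal.span {x}) Ideal.Quotient.mk_surjective]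
    exact Module.length_ne_top

lemma exists_pow_maximalIdeal_le_span (hA : ringKrullDim A = 1) {d : A}
    (hd : d ∈ nonZeroDivisors A) :
    ∃ n : ℕ, IsLocalRing.maximalIdeal A ^ n ≤ Ideal.span {d} := by
  by_cases hu : IsUnit d
  · refine ⟨0, ?_⟩
    rw [Ideal.span_singleton_eq_top.mpr hu]; exact le_top
  · apply Ideal.exists_pow_le_of_le_radical_of_fg _ (IsNoetherian.noetherian _)
    rw [Ideal.radical_eq_sInf]
    apply le_sInf
    rintro J ⟨hdJ, hJ⟩
    haveI := hJ
    have := prime_eq_maximalIdeal_of_mem A hA hd J ((Ideal.span_singleton_le_iff_mem _).mp hdJ)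
    rw [this]

variable {A}

theorem isFinExt_of_goodExt (hA : ringKrullDim A = 1) {B : Type u} [CommRing B] [Algebra A B]
    (h : GoodExt A B) : CycAlg.IsFinExt A B (IsLocalRing.maximalIdeal A) := by
  refine ⟨h.inj, h.fin, ?_⟩
  obtain ⟨d, hd, hd'⟩ := h.denom
  obtain ⟨n, hn⟩ := exists_pow_maximalIdeal_le_span A hA hd
  refine ⟨n, fun r hr b => ?_⟩
  obtain ⟨c, hc⟩ := Ideal.mem_span_singleton'.mp (hn hr)
  obtain ⟨a, ha⟩ := hd' b
  refine ⟨c * a, ?_⟩
  rw [map_mul, ha, Algebra.smul_def, ← hc, map_mul]; ring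

end Local

end Groth.Agent.R2.H71.Blow
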