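import Mathlib
import Groth.Prelude.Def_W4c1btstackcountsChain

/-!
# Chains of linear maps: images indexed by target, basic properties

Helper library for S14194 (helper71).
-/

set_option autoImplicit false

namespace Groth.Agent.R2.H71Chain

open Module Submodule LinearMap

universe u v

section Abstract

variable {k : Type u} [Field k] {V : ℕ → Type v} [∀ i, AddCommGroup (V i)] [∀ i, Module k (V i)]

/-- image of `V i` in `V j` under the composite of the chain (junk for `j < i`). -/
def img (F : ∀ i, V i →ₗ[k] V (i + 1)) (i : ℕ) : ∀ j, Submodule k (V j)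
  | 0 => if i = 0 then ⊤ else ⊥
  | j + 1 => if i = j + 1 then ⊤ else if i ≤ j then (img F i j).map (F j) else ⊥

theorem img_self (F : ∀ i, V i →ₗ[k] V (i + 1)) (i : ℕ) : img F i i = ⊤ := by
  cases i with
  | zero => simp [img]
  | succ i => simp [img]

theorem img_succ (F : ∀ i, V i →ₗ[k] V (i + 1)) {i j : ℕ} (h : i ≤ j) :
    img F i (j + 1) = (img F i j).map (F j) := by
  have h1 : i ≠ j + 1 := by omega
  simp [img, h1, h]

theorem img_mono_left (F : ∀ i, V i →ₗ[k] V (i + 1)) {i i' j : ℕ} (h : i ≤ i') (h' : i' ≤ j) :
    img F i j ≤ img F i' j := by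
  induction j, h' using Nat.le_induction with
  | base => rw [img_self]; exact le_top
  | succ j hj ih =>
    rw [img_succ F (h.trans hj), img_succ F hj]
    exact Submodule.map_mono ih

/-- Two chains intertwined by surjective maps have corresponding images. -/
theorem img_conj (F F' : ∀ i, V i →ₗ[k] V (i + 1)) (G : ∀ j, V j →ₗ[k] V j)
    (hG : ∀ j, Function.Surjective (G j))
    (h : ∀ j v, F' j (G j v) = G (j + 1) (F j v)) {i j : ℕ} (hij : i ≤ j) :
    img F' i j = (img F i j).map (G j) := by
  induction j, hij using Nat.le_induction with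
  | base =>
    rw [img_self, img_self, Submodule.map_top, LinearMap.range_eq_top.2 (hG i)]
  | succ j hj ih =>
    rw [img_succ F' hj, img_succ F hj, ih, ← Submodule.map_comp, ← Submodule.map_comp]
    congr 1
    ext v
    simp [h]

variable [∀ i, FiniteDimensional k (V i)]

/-- rank–nullity comparison: for `W ≤ W'`, `dim W - dim f W ≤ dim W' - dim f W'`. -/
theorem finrank_map_add_le {X Y : Type*} [AddCommGroup X] [Module k X] [FiniteDimensional k X]
    [AddCommGroup Y] [Module k Y] (f : X →ₗ[k] Y) {W W' : Submodule k X} (h : W ≤ W') :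
    finrank k (W'.map f) + finrank k W ≤ finrank k W' + finrank k (W.map f) := by
  have key : ∀ S : Submodule k X,
      finrank k (S.map f) + finrank k (LinearMap.ker (f.domRestrict S)) = finrank k S := by
    intro S
    have := LinearMap.finrank_range_add_finrank_ker (f.domRestrict S)
    rwa [LinearMap.range_domRestrict] at this
  have h1 := key W
  have h2 := key W'
  have h3 : finrank k (LinearMap.ker (f.domRestrict W)) ≤
      finrank k (LinearMap.ker (f.domRestrict W')) := by
    let ι : LinearMap.ker (f.domRestrict W) →ₗ[k] LinearMap.ker (f.domRestrict W') :=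
      LinearMap.codRestrict _ ((Submodule.inclusion h).comp (Submodule.subtype _)) (by
        intro x
        have hx : f ((x.1 : W) : X) = 0 := x.2
        rw [LinearMap.mem_ker]
        exact hx)
    have hι : Function.Injective ι := by
      intro x y hxy
      have := congrArg (fun z => ((z : W') : X)) (congrArg Subtype.val hxy)
      ext
      simpa [ι] using this
    exact LinearMap.finrank_le_finrank_of_injective hι
  omega

end Abstract

section Matrix

open W4c1btstackcounts

variable {k : Type u} [Field k] {d : ℕ → ℕ}

/-- the chain of linear maps attached to a chain of matrices -/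
def lin (f : (i : ℕ) → Matrix (Fin (d (i + 1))) (Fin (d i)) k) :
    ∀ i, (Fin (d i) → k) →ₗ[k] (Fin (d (i + 1)) → k) :=
  fun i => Matrix.toLin' (f i)

theorem iterImage_eq_img (f : (i : ℕ) → Matrix (Fin (d (i + 1))) (Fin (d i)) k) (i n : ℕ) :
    iterImage f i n = img (V := fun j => Fin (d j) → k) (lin f) i (i + n) := by
  induction n with
  | zero => 
    show (⊤ : Submodule k (Fin (d (i + 0)) → k)) = _
    exact (img_self (V := fun j => Fin (d j) → k) (lin f) i).symm
  | succ n ih =>
    show (iterImage f i n).map (Matrix.toLin' (f (i + n))) = _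
    rw [ih]
    exact (img_succ (V := fun j => Fin (d j) → k) (lin f) (Nat.le_add_right i n)).symm

theorem rankArray_eq (f : (i : ℕ) → Matrix (Fin (d (i + 1))) (Fin (d i)) k) {i j : ℕ}
    (h : i ≤ j) :
    rankArray f i j = finrank k (img (V := fun j => Fin (d j) → k) (lin f) i j) := by
  obtain ⟨n, rfl⟩ := Nat.exists_eq_add_of_le h
  unfold rankArray
  rw [if_pos h, Nat.add_sub_cancel_left, iterImage_eq_img]

end Matrix

end Groth.Agent.R2.H71Chain
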