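import Mathlib
import Groth.Agent.R2.H71Chain

/-!
# Lifting isomorphisms along linear maps, compatibly with flags

Helper library for S14194 (helper71).
-/

set_option autoImplicit false

namespace Groth.Agent.R2.H71Chain

open Module Submodule LinearMap

universe u v w

section Lift

variable {k : Type u} [Field k]

/-- a generalized inverse of a linear map of vector spaces -/
theorem exists_genInverse {V' U' : Type*} [AddCommGroup V'] [Module k V'] [AddCommGroup U']
    [Module k U'] (f' : V' →ₗ[k] U') :
    ∃ s : U' →ₗ[k] V', ∀ v', f' (s (f' v')) = f' v' := by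
  obtain ⟨s₀, hs₀⟩ := f'.rangeRestrict.exists_rightInverse_of_surjective f'.range_rangeRestrict
  obtain ⟨s, hs⟩ := LinearMap.exists_extend s₀
  refine ⟨s, fun v' => ?_⟩
  have h1 : s (f' v') = s₀ ⟨f' v', LinearMap.mem_range_self f' v'⟩ := by
    have := LinearMap.congr_fun hs ⟨f' v', LinearMap.mem_range_self f' v'⟩
    simpa using this
  have h2 := LinearMap.congr_fun hs₀ ⟨f' v', LinearMap.mem_range_self f' v'⟩
  have h3 := congrArg Subtype.val h2
  rw [h1]
  simpa using h3

/-- Step B: extension when the kernel of `f` is already covered. -/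
theorem extend_of_ker_le {X V V' U U' : Type*} [AddCommGroup X] [Module k X]
    [AddCommGroup V] [Module k V] [FiniteDimensional k V]
    [AddCommGroup V'] [Module k V'] [FiniteDimensional k V']
    [AddCommGroup U] [Module k U] [AddCommGroup U'] [Module k U']
    (f : V →ₗ[k] U) (f' : V' →ₗ[k] U') (gU : U ≃ₗ[k] U')
    (j : X →ₗ[k] V) (j' : X →ₗ[k] V') (hj : Function.Injective j) (hj' : Function.Injective j')
    (hcomm : ∀ x, f' (j' x) = gU (f (j x)))
    (hdim : finrank k V = finrank k V')
    (hrange : (LinearMap.range f).map gU.toLinearMap ≤ LinearMap.range f')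
    (hker : LinearMap.ker f ≤ LinearMap.range j) :
    ∃ g : V ≃ₗ[k] V', (∀ x, g (j x) = j' x) ∧ ∀ v, f' (g v) = gU (f v) := by
  obtain ⟨ρ, hρ⟩ := j.exists_leftInverse_of_injective (LinearMap.ker_eq_bot.2 hj)
  have hρ' : ∀ x, ρ (j x) = x := fun x => LinearMap.congr_fun hρ x
  obtain ⟨s', hs'⟩ := exists_genInverse f'
  let g₀ : V →ₗ[k] V' :=
    j' ∘ₗ ρ + s' ∘ₗ gU.toLinearMap ∘ₗ f ∘ₗ (LinearMap.id - j ∘ₗ ρ)
  have hg₀ : ∀ v, g₀ v = j' (ρ v) + s' (gU (f (v - j (ρ v)))) := fun v => by
    simp [g₀]
  have h1 : ∀ x, g₀ (j x) = j' x := by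
    intro x
    rw [hg₀, hρ']
    simp
  have h2 : ∀ v, f' (g₀ v) = gU (f v) := by
    intro v
    rw [hg₀, map_add, hcomm]
    have hmem : gU (f (v - j (ρ v))) ∈ LinearMap.range f' :=
      hrange ⟨f (v - j (ρ v)), LinearMap.mem_range_self _ _, rfl⟩
    obtain ⟨v', hv'⟩ := hmem
    rw [← hv', hs', hv']
    rw [← map_add, ← map_add]
    congr 2
    abel
  have hinj : Function.Injective g₀ := by
    rw [← LinearMap.ker_eq_bot, LinearMap.ker_eq_bot']
    intro v hv
    have hfv : f v = 0 := by
      have := h2 v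
      rw [hv, map_zero] at this
      exact (gU.map_eq_zero_iff.1 this.symm)
    obtain ⟨x, rfl⟩ := hker (LinearMap.mem_ker.2 hfv)
    rw [h1] at hv
    have : x = 0 := hj' (by rw [hv, map_zero])
    rw [this, map_zero]
  refine ⟨LinearMap.linearEquivOfInjective g₀ hinj hdim, fun x => ?_, fun v => ?_⟩
  · rw [LinearMap.linearEquivOfInjective_apply]; exact h1 x
  · rw [LinearMap.linearEquivOfInjective_apply]; exact h2 v


/-- relative complement: a complement of `A ⊓ K` inside `K`. -/
theorem exists_rel_compl {V : Type*} [AddCommGroup V] [Module k V] [FiniteDimensional k V]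
    (A K : Submodule k V) :
    ∃ E : Submodule k V, E ≤ K ∧ Disjoint A E ∧ K ≤ A ⊔ E ∧
      finrank k E + finrank k (A ⊓ K : Submodule k V) = finrank k K := by
  obtain ⟨⟨E, hEK⟩, hE⟩ := ComplementedLattice.exists_isCompl (⟨A ⊓ K, Set.mem_Iic.2 inf_le_right⟩ : Set.Iic K)
  have hEK' : E ≤ K := hEK
  have h1 : (A ⊓ K) ⊓ E = ⊥ := by
    have := hE.inf_eq_bot
    exact congrArg Subtype.val this
  have h2 : (A ⊓ K) ⊔ E = K := by
    have := hE.sup_eq_top
    exact congrArg Subtype.val this
  refine ⟨E, hEK', ?_, ?_, ?_⟩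
  · rw [disjoint_iff]
    have : A ⊓ E = (A ⊓ K) ⊓ E := by
      rw [inf_assoc, inf_eq_right.2 hEK']
    rw [this, h1]
  · calc K = (A ⊓ K) ⊔ E := h2.symm
      _ ≤ A ⊔ E := sup_le_sup_right inf_le_left _
  · have := Submodule.finrank_sup_add_finrank_inf_eq (A ⊓ K) E
    rw [h1, h2, finrank_bot] at this
    omega

theorem finrank_range_inf_ker {X Y W : Type*} [AddCommGroup X] [Module k X]
    [AddCommGroup Y] [Module k Y] [AddCommGroup W] [Module k W]
    (φ : Y →ₗ[k] W) (ι : X →ₗ[k] Y) (hι : Function.Injective ι) :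
    finrank k (LinearMap.range ι ⊓ LinearMap.ker φ : Submodule k Y) =
      finrank k (LinearMap.ker (φ ∘ₗ ι)) := by
  rw [LinearMap.ker_comp, ← Submodule.map_comap_eq]
  exact (LinearEquiv.finrank_eq (Submodule.equivMapOfInjective ι hι _)).symm

/-- One-step extension: extend a partial identification `j x ↦ j' x` to an isomorphism
`V ≃ V'` compatible with `f`, `f'`. -/
theorem exists_extend_equiv {X V V' U U' : Type*} [AddCommGroup X] [Module k X]
    [AddCommGroup V] [Module k V] [FiniteDimensional k V]
    [AddCommGroup V'] [Module k V'] [FiniteDimensional k V']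
    [AddCommGroup U] [Module k U] [AddCommGroup U'] [Module k U']
    (f : V →ₗ[k] U) (f' : V' →ₗ[k] U') (gU : U ≃ₗ[k] U')
    (j : X →ₗ[k] V) (j' : X →ₗ[k] V') (hj : Function.Injective j) (hj' : Function.Injective j')
    (hcomm : ∀ x, f' (j' x) = gU (f (j x)))
    (hdim : finrank k V = finrank k V')
    (hrange : (LinearMap.range f).map gU.toLinearMap = LinearMap.range f') :
    ∃ g : V ≃ₗ[k] V', (∀ x, g (j x) = j' x) ∧ ∀ v, f' (g v) = gU (f v) := by
  obtain ⟨E, hEK, hEdis, hEsup, hEdim⟩ := exists_rel_compl (LinearMap.range j) (LinearMap.ker f)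
  obtain ⟨E', hEK', hEdis', -, hEdim'⟩ :=
    exists_rel_compl (LinearMap.range j') (LinearMap.ker f')
  -- dimension counts
  have hk : finrank k (LinearMap.ker f) = finrank k (LinearMap.ker f') := by
    have h1 := LinearMap.finrank_range_add_finrank_ker f
    have h2 := LinearMap.finrank_range_add_finrank_ker f'
    have h3 : finrank k (LinearMap.range f') = finrank k (LinearMap.range f) := by
      rw [← hrange]; exact LinearEquiv.finrank_map_eq gU _
    omega
  have hker_eq : LinearMap.ker (f ∘ₗ j) = LinearMap.ker (f' ∘ₗ j') := by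
    ext x
    simp only [LinearMap.mem_ker, LinearMap.comp_apply]
    rw [hcomm]
    exact (gU.map_eq_zero_iff).symm
  have hEE' : finrank k E = finrank k E' := by
    have h1 := finrank_range_inf_ker f j hj
    have h2 := finrank_range_inf_ker f' j' hj'
    rw [hker_eq] at h1
    omega
  let ε : E ≃ₗ[k] E' := LinearEquiv.ofFinrankEq E E' hEE'
  -- enlarge `X`
  let j₂ : (X × E) →ₗ[k] V := j.coprod E.subtype
  let j₂' : (X × E) →ₗ[k] V' := j'.coprod (E'.subtype ∘ₗ ε.toLinearMap)
  have hj₂ : Function.Injective j₂ := by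
    rw [← LinearMap.ker_eq_bot, LinearMap.ker_coprod_of_disjoint_range]
    · rw [LinearMap.ker_eq_bot.2 hj, Submodule.ker_subtype, Submodule.prod_bot]
    · rw [Submodule.range_subtype]; exact hEdis
  have hj₂' : Function.Injective j₂' := by
    rw [← LinearMap.ker_eq_bot, LinearMap.ker_coprod_of_disjoint_range]
    · rw [LinearMap.ker_eq_bot.2 hj']
      have : LinearMap.ker (E'.subtype ∘ₗ ε.toLinearMap) = ⊥ := by
        rw [LinearMap.ker_eq_bot]
        exact (Submodule.injective_subtype E').comp ε.injective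
      rw [this, Submodule.prod_bot]
    · refine hEdis'.mono_right ?_
      rintro _ ⟨e, rfl⟩
      exact (ε e).2
  have hcomm₂ : ∀ x, f' (j₂' x) = gU (f (j₂ x)) := by
    rintro ⟨x, e⟩
    have he : f (e : V) = 0 := LinearMap.mem_ker.1 (hEK e.2)
    have he' : f' ((ε e : E') : V') = 0 := LinearMap.mem_ker.1 (hEK' (ε e).2)
    simp [j₂, j₂', hcomm, he, he']
  have hker₂ : LinearMap.ker f ≤ LinearMap.range j₂ := by
    rw [LinearMap.range_coprod, Submodule.range_subtype]
    exact hEsup
  obtain ⟨g, hg1, hg2⟩ := extend_of_ker_le f f' gU j₂ j₂' hj₂ hj₂' hcomm₂ hdim hrange.le hker₂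
  refine ⟨g, fun x => ?_, hg2⟩
  have := hg1 (x, 0)
  simpa [j₂, j₂'] using this


/-- Lifting lemma with flags. -/
theorem lifting_flag {U U' : Type w} [AddCommGroup U] [Module k U] [AddCommGroup U']
    [Module k U'] (gU : U ≃ₗ[k] U') (n : ℕ) :
    ∀ {V V' : Type v} [AddCommGroup V] [Module k V] [FiniteDimensional k V]
      [AddCommGroup V'] [Module k V'] [FiniteDimensional k V']
      (f : V →ₗ[k] U) (f' : V' →ₗ[k] U') (Fl : ℕ → Submodule k V) (Fl' : ℕ → Submodule k V'),
      Monotone Fl → Monotone Fl' → Fl n = ⊤ → Fl' n = ⊤ →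
      (∀ t, finrank k (Fl t) = finrank k (Fl' t)) →
      (∀ t, ((Fl t).map f).map gU.toLinearMap = (Fl' t).map f') →
      ∃ g : V ≃ₗ[k] V', (∀ v, f' (g v) = gU (f v)) ∧
        ∀ t, (Fl t).map g.toLinearMap = Fl' t := by
  induction n with
  | zero =>
    intro V V' _ _ _ _ _ _ f f' Fl Fl' hm hm' htop htop' hdim himg
    have hall : ∀ t, Fl t = ⊤ := fun t => top_le_iff.1 (htop ▸ hm (Nat.zero_le t))
    have hall' : ∀ t, Fl' t = ⊤ := fun t => top_le_iff.1 (htop' ▸ hm' (Nat.zero_le t))
    have hd : finrank k V = finrank k V' := by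
      have := hdim 0
      rwa [htop, htop', finrank_top, finrank_top] at this
    have hr : (LinearMap.range f).map gU.toLinearMap = LinearMap.range f' := by
      have := himg 0
      rwa [htop, htop', Submodule.map_top, Submodule.map_top] at this
    obtain ⟨g, -, hg⟩ := exists_extend_equiv f f' gU (0 : PUnit.{1} →ₗ[k] V)
      (0 : PUnit.{1} →ₗ[k] V') (Function.injective_of_subsingleton _)
      (Function.injective_of_subsingleton _) (fun x => by simp) hd hr
    refine ⟨g, hg, fun t => ?_⟩
    rw [hall, hall', Submodule.map_top]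
    exact LinearMap.range_eq_top.2 g.surjective
  | succ n ih =>
    intro V V' _ _ _ _ _ _ f f' Fl Fl' hm hm' htop htop' hdim himg
    -- restrict to `Fl n`
    let W : Submodule k V := Fl n
    let W' : Submodule k V' := Fl' n
    have hmin : ∀ t, Fl t ⊓ W = Fl (min t n) := by
      intro t
      rcases le_total t n with h | h
      · rw [min_eq_left h]; exact inf_eq_left.2 (hm h)
      · rw [min_eq_right h]; exact inf_eq_right.2 (hm h)
    have hmin' : ∀ t, Fl' t ⊓ W' = Fl' (min t n) := by
      intro t
      rcases le_total t n with h | h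
      · rw [min_eq_left h]; exact inf_eq_left.2 (hm' h)
      · rw [min_eq_right h]; exact inf_eq_right.2 (hm' h)
    have hmc : ∀ t, ((Fl t).comap W.subtype).map W.subtype = Fl (min t n) := by
      intro t
      rw [Submodule.map_comap_subtype, inf_comm]; exact hmin t
    have hmc' : ∀ t, ((Fl' t).comap W'.subtype).map W'.subtype = Fl' (min t n) := by
      intro t
      rw [Submodule.map_comap_subtype, inf_comm]; exact hmin' t
    obtain ⟨h, hh1, hh2⟩ := ih (V := W) (V' := W') (f ∘ₗ W.subtype) (f' ∘ₗ W'.subtype)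
      (fun t => (Fl t).comap W.subtype) (fun t => (Fl' t).comap W'.subtype)
      (fun a b hab => Submodule.comap_mono (hm hab))
      (fun a b hab => Submodule.comap_mono (hm' hab))
      (by simp [W]) (by simp [W'])
      (fun t => by
        have e1 := Submodule.finrank_map_subtype_eq W ((Fl t).comap W.subtype)
        have e2 := Submodule.finrank_map_subtype_eq W' ((Fl' t).comap W'.subtype)
        rw [hmc] at e1
        rw [hmc'] at e2
        rw [← e1, ← e2]
        exact hdim _)
      (fun t => by
        rw [Submodule.map_comp, Submodule.map_comp, hmc, hmc']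
        exact himg _)
    -- extend to `V`
    have hd : finrank k V = finrank k V' := by
      have := hdim (n + 1)
      rwa [htop, htop', finrank_top, finrank_top] at this
    have hr : (LinearMap.range f).map gU.toLinearMap = LinearMap.range f' := by
      have := himg (n + 1)
      rwa [htop, htop', Submodule.map_top, Submodule.map_top] at this
    obtain ⟨g, hg1, hg2⟩ := exists_extend_equiv f f' gU W.subtype (W'.subtype ∘ₗ h.toLinearMap)
      (Submodule.injective_subtype W) ((Submodule.injective_subtype W').comp h.injective)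
      (fun x => by simpa using hh1 x) hd hr
    refine ⟨g, hg2, fun t => ?_⟩
    rcases le_or_gt t n with ht | ht
    · have e1 : Fl t = ((Fl t).comap W.subtype).map W.subtype := by
        rw [hmc, min_eq_left ht]
      have e2 : Fl' t = ((Fl' t).comap W'.subtype).map W'.subtype := by
        rw [hmc', min_eq_left ht]
      rw [e1, e2, ← hh2 t, ← Submodule.map_comp, ← Submodule.map_comp]
      congr 1
      ext x
      simpa using hg1 x
    · have e1 : Fl t = ⊤ := top_le_iff.1 (htop ▸ hm (Nat.succ_le_of_lt ht))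
      have e2 : Fl' t = ⊤ := top_le_iff.1 (htop' ▸ hm' (Nat.succ_le_of_lt ht))
      rw [e1, e2, Submodule.map_top]
      exact LinearMap.range_eq_top.2 g.surjective

end Lift


section Chain

variable {k : Type u} [Field k] {V : ℕ → Type v} [∀ i, AddCommGroup (V i)] [∀ i, Module k (V i)]
  [∀ i, FiniteDimensional k (V i)]

/-- the lifting lemma applied to the flag of images in `V s`. -/
theorem exists_lift_at (F F' : ∀ i, V i →ₗ[k] V (i + 1)) {s : ℕ} (hs : 1 ≤ s)
    (gU : V (s + 1) ≃ₗ[k] V (s + 1)) (f f' : V s →ₗ[k] V (s + 1))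
    (hdim : ∀ i, 1 ≤ i → i ≤ s → finrank k (img F i s) = finrank k (img F' i s))
    (himg : ∀ i, 1 ≤ i → i ≤ s →
      ((img F i s).map f).map gU.toLinearMap = (img F' i s).map f') :
    ∃ g : V s ≃ₗ[k] V s, (∀ v, f' (g v) = gU (f v)) ∧
      ∀ i, 1 ≤ i → i ≤ s → (img F i s).map g.toLinearMap = img F' i s := by
  have hmin : ∀ t, 1 ≤ min (t + 1) s ∧ min (t + 1) s ≤ s := fun t =>
    ⟨le_min (Nat.succ_le_succ (Nat.zero_le t)) hs, min_le_right _ _⟩
  obtain ⟨g, hg1, hg2⟩ := lifting_flag gU (s - 1) f f'
    (fun t => img F (min (t + 1) s) s) (fun t => img F' (min (t + 1) s) s)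
    (fun a b hab => img_mono_left F (min_le_min_right s (Nat.succ_le_succ hab)) (hmin b).2)
    (fun a b hab => img_mono_left F' (min_le_min_right s (Nat.succ_le_succ hab)) (hmin b).2)
    (by
      have : min (s - 1 + 1) s = s := by rw [Nat.sub_add_cancel hs, min_self]
      simp only [this]; exact img_self F s)
    (by
      have : min (s - 1 + 1) s = s := by rw [Nat.sub_add_cancel hs, min_self]
      simp only [this]; exact img_self F' s)
    (fun t => hdim _ (hmin t).1 (hmin t).2)
    (fun t => himg _ (hmin t).1 (hmin t).2)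
  refine ⟨g, hg1, fun i hi1 his => ?_⟩
  have := hg2 (i - 1)
  have e : min (i - 1 + 1) s = i := by rw [Nat.sub_add_cancel hi1, min_eq_left his]
  simpa only [e] using this

/-- Chains with the same rank array (in the window `1 ≤ i ≤ j ≤ r`) are isomorphic. -/
theorem exists_chain_iso (F F' : ∀ i, V i →ₗ[k] V (i + 1)) (r : ℕ)
    (hrank : ∀ i j, 1 ≤ i → i ≤ j → j ≤ r → finrank k (img F i j) = finrank k (img F' i j)) :
    ∃ g : ∀ j, V j ≃ₗ[k] V j, ∀ i, 1 ≤ i → i + 1 ≤ r → ∀ v, F' i (g i v) = g (i + 1) (F i v) := by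
  classical
  have key : ∀ m s, s + m = r → 1 ≤ s →
      ∃ g : ∀ j, V j ≃ₗ[k] V j,
        (∀ i, s ≤ i → i + 1 ≤ r → ∀ v, F' i (g i v) = g (i + 1) (F i v)) ∧
        (∀ i, 1 ≤ i → i ≤ s → (img F i s).map (g s).toLinearMap = img F' i s) := by
    intro m
    induction m with
    | zero =>
      intro s hsr hs
      have hsr' : s = r := by omega
      subst hsr'
      obtain ⟨gs, -, hgs⟩ := exists_lift_at F F' hs (LinearEquiv.refl k (V (s + 1))) 0 0
        (fun i hi his => hrank i s hi his le_rfl)
        (fun i hi his => by simp)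
      refine ⟨Function.update (fun j => LinearEquiv.refl k (V j)) s gs, ?_, ?_⟩
      · intro i hi hi'
        omega
      · intro i hi his
        rw [Function.update_self]
        exact hgs i hi his
    | succ m ih =>
      intro s hsr hs
      obtain ⟨g, hg1, hg2⟩ := ih (s + 1) (by omega) (by omega)
      obtain ⟨gs, hgs1, hgs2⟩ := exists_lift_at F F' hs (g (s + 1)) (F s) (F' s)
        (fun i hi his => hrank i s hi his (by omega))
        (fun i hi his => by
          rw [← img_succ F his, ← img_succ F' his]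
          exact hg2 i hi (by omega))
      refine ⟨Function.update g s gs, ?_, ?_⟩
      · intro i hi hi' v
        rcases eq_or_lt_of_le hi with rfl | hlt
        · rw [Function.update_self, Function.update_of_ne (by omega)]
          exact hgs1 v
        · rw [Function.update_of_ne (by omega), Function.update_of_ne (by omega)]
          exact hg1 i (by omega) hi' v
      · intro i hi his
        rw [Function.update_self]
        exact hgs2 i hi his
  rcases Nat.lt_or_ge r 1 with hr | hr
  · exact ⟨fun j => LinearEquiv.refl k (V j), fun i hi hi' => by omega⟩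
  · obtain ⟨g, hg, -⟩ := key (r - 1) 1 (by omega) le_rfl
    exact ⟨g, fun i hi hi' => hg i hi hi'⟩

end Chain

end Groth.Agent.R2.H71Chain
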