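import Mathlib
import Groth.Agent.R2.H71ChainLift

/-!
# Matrix chains: invariance, admissibility, separation of orbits

Helper library for S14194 (helper71).
-/

set_option autoImplicit false

namespace Groth.Agent.R2.H71Chain

open Module Submodule LinearMap W4c1btstackcounts

universe u

variable {k : Type u} [Field k] {d : ℕ → ℕ}

theorem rankArray_conj (g : (j : ℕ) → Matrix.GeneralLinearGroup (Fin (d j)) k)
    (f : (i : ℕ) → Matrix (Fin (d (i + 1))) (Fin (d i)) k) {i j : ℕ} (hij : i ≤ j) :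
    rankArray (conj g f) i j = rankArray f i j := by
  rw [rankArray_eq _ hij, rankArray_eq _ hij]
  let e : ∀ j, (Fin (d j) → k) ≃ₗ[k] (Fin (d j) → k) := fun j =>
    Matrix.toLin'OfInv (M := ((g j)⁻¹ : Matrix.GeneralLinearGroup (Fin (d j)) k).1)
      (M' := (g j).1) (by simp) (by simp)
  have he : ∀ j v, e j v = Matrix.toLin' (g j).1 v := fun j v => rfl
  have h : ∀ j v, lin (conj g f) j (e j v) = e (j + 1) (lin f j v) := by
    intro j v
    rw [he, he]
    show Matrix.toLin' (conj g f j) _ = Matrix.toLin' _ (Matrix.toLin' (f j) v)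
    rw [← Matrix.toLin'_mul_apply, ← Matrix.toLin'_mul_apply]
    congr 2
    unfold conj
    rw [Matrix.mul_assoc]
    simp
  have := img_conj (V := fun j => Fin (d j) → k) (lin f) (lin (conj g f))
    (fun j => (e j).toLinearMap) (fun j => (e j).surjective) h hij
  rw [this]
  exact LinearEquiv.finrank_map_eq (e j) _

theorem isRankArray_rankArray (f : (i : ℕ) → Matrix (Fin (d (i + 1))) (Fin (d i)) k) (r : ℕ) :
    IsRankArray d r (rankArray f) := by
  refine ⟨?_, ?_, ?_, ?_⟩
  · intro j _ _
    rw [rankArray_eq _ le_rfl, img_self, finrank_top, Module.finrank_fin_fun]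
  · intro i j _ hij _
    rw [rankArray_eq _ hij.le, rankArray_eq _ (Nat.succ_le_of_lt hij)]
    exact Submodule.finrank_mono (img_mono_left _ (Nat.le_succ i) (Nat.succ_le_of_lt hij))
  · intro i j _ hij _
    rw [rankArray_eq _ hij, rankArray_eq _ (hij.trans (Nat.le_succ j)), img_succ _ hij]
    exact Submodule.finrank_map_le _ _
  · intro i j hi hij _
    have h1 : i - 1 ≤ j := by omega
    rw [rankArray_eq _ hij, rankArray_eq _ (hij.trans (Nat.le_succ j)), rankArray_eq _ h1,
      rankArray_eq _ (h1.trans (Nat.le_succ j)), img_succ _ hij, img_succ _ h1]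
    exact finrank_map_add_le _ (img_mono_left _ (Nat.sub_le i 1) hij)

theorem exists_conj_eq (f f' : (i : ℕ) → Matrix (Fin (d (i + 1))) (Fin (d i)) k) (r : ℕ)
    (h : ∀ i j : ℕ, 1 ≤ i → i ≤ j → j ≤ r → rankArray f i j = rankArray f' i j) :
    ∃ g : (j : ℕ) → Matrix.GeneralLinearGroup (Fin (d j)) k,
      ∀ i : ℕ, 1 ≤ i → i + 1 ≤ r → conj g f i = f' i := by
  obtain ⟨g, hg⟩ := exists_chain_iso (V := fun j => Fin (d j) → k) (lin f) (lin f') r
    (fun i j hi hij hj => by
      rw [← rankArray_eq _ hij, ← rankArray_eq _ hij]; exact h i j hi hij hj)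
  let G : (j : ℕ) → Matrix.GeneralLinearGroup (Fin (d j)) k := fun j =>
    ⟨LinearMap.toMatrix' (g j).toLinearMap, LinearMap.toMatrix' (g j).symm.toLinearMap,
      by rw [← LinearMap.toMatrix'_comp]; simp,
      by rw [← LinearMap.toMatrix'_comp]; simp⟩
  refine ⟨G, fun i hi hi' => ?_⟩
  apply Matrix.toLin'.injective
  have h1 : ((G (i + 1) : Matrix.GeneralLinearGroup (Fin (d (i + 1))) k) :
      Matrix (Fin (d (i + 1))) (Fin (d (i + 1))) k) = LinearMap.toMatrix' (g (i + 1)).toLinearMap :=
    rfl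
  have h2 : (((G i)⁻¹ : Matrix.GeneralLinearGroup (Fin (d i)) k) :
      Matrix (Fin (d i)) (Fin (d i)) k) = LinearMap.toMatrix' (g i).symm.toLinearMap := rfl
  unfold conj
  rw [h1, h2, Matrix.toLin'_mul, Matrix.toLin'_mul, Matrix.toLin'_toMatrix',
    Matrix.toLin'_toMatrix']
  refine LinearMap.ext fun v => ?_
  have := hg i hi hi' ((g i).symm v)
  rw [LinearEquiv.apply_symm_apply] at this
  exact this.symm

end Groth.Agent.R2.H71Chain
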