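import Mathlib
import Groth.Agent.R2.H71Chain

/-!
# Normal forms of matrix chains: every admissible array is a rank array

Helper library for S14194 (helper71).
-/

set_option autoImplicit false

namespace Groth.Agent.R2.H71Chain

open Module Submodule LinearMap W4c1btstackcounts

universe u

section Coord

variable (k : Type u) [Field k]

/-- coordinate subspace: vectors vanishing at all coordinates `≥ c`. -/
def coordSub (n c : ℕ) : Submodule k (Fin n → k) where
  carrier := {v | ∀ p : Fin n, c ≤ (p : ℕ) → v p = 0}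
  add_mem' := by
    intro v w hv hw p hp
    simp [hv p hp, hw p hp]
  zero_mem' := by intro p _; rfl
  smul_mem' := by
    intro a v hv p hp
    simp [hv p hp]

variable {k}

theorem mem_coordSub {n c : ℕ} {v : Fin n → k} :
    v ∈ coordSub k n c ↔ ∀ p : Fin n, c ≤ (p : ℕ) → v p = 0 := Iff.rfl

theorem coordSub_eq_top {n c : ℕ} (h : n ≤ c) : coordSub k n c = ⊤ := by
  rw [eq_top_iff]
  intro v _ p hp
  exact absurd p.2 (by omega)

theorem single_mem_coordSub {n c : ℕ} (p : Fin n) (h : (p : ℕ) < c) :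
    (Pi.single p 1 : Fin n → k) ∈ coordSub k n c := by
  intro q hq
  have : q ≠ p := by
    intro hqp
    rw [hqp] at hq
    omega
  simp [this]

theorem coordSub_le_span (n c : ℕ) :
    coordSub k n c ≤ span k {v | ∃ p : Fin n, (p : ℕ) < c ∧ v = Pi.single p 1} := by
  intro v hv
  have hsum : v = ∑ p : Fin n, v p • (Pi.single p 1 : Fin n → k) := by
    funext q
    simp [Finset.sum_apply, Pi.single_apply]
  rw [hsum]
  refine Submodule.sum_mem _ fun p _ => ?_
  by_cases hp : (p : ℕ) < c
  · exact Submodule.smul_mem _ _ (Submodule.subset_span ⟨p, hp, rfl⟩)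
  · rw [hv p (not_lt.1 hp), zero_smul]
    exact Submodule.zero_mem _

theorem finrank_coordSub {n c : ℕ} (h : c ≤ n) : finrank k (coordSub k n c) = c := by
  have hspan : coordSub k n c =
      span k (Set.range fun m : Fin c => (Pi.single (Fin.castLE h m) 1 : Fin n → k)) := by
    apply le_antisymm
    · refine (coordSub_le_span n c).trans (Submodule.span_mono ?_)
      rintro _ ⟨p, hp, rfl⟩
      exact ⟨⟨p, hp⟩, by congr⟩
    · rw [Submodule.span_le]
      rintro _ ⟨m, rfl⟩
      exact single_mem_coordSub _ (by simp)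
  rw [hspan]
  have hli : LinearIndependent k fun m : Fin c => (Pi.single (Fin.castLE h m) 1 : Fin n → k) := by
    have := (Pi.basisFun k (Fin n)).linearIndependent.comp _ (Fin.castLE_injective h)
    convert this using 1
    funext m
    simp
  rw [finrank_span_eq_card hli, Fintype.card_fin]

/-- the 0/1 matrix attached to a counting function `N`: the basis vector `e_m` goes to
`e_{N m}` if `N` jumps at `m` and to `0` otherwise. -/
def stepMat (k : Type u) [Field k] (n n' : ℕ) (N : ℕ → ℕ) : Matrix (Fin n') (Fin n) k :=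
  Matrix.of fun p m => if (p : ℕ) = N m ∧ N (m + 1) = N m + 1 then 1 else 0

theorem exists_jump (N : ℕ → ℕ) (hN0 : N 0 = 0)
    (hN : ∀ m, N (m + 1) = N m ∨ N (m + 1) = N m + 1) :
    ∀ c p, p < N c → ∃ m < c, N m = p ∧ N (m + 1) = p + 1 := by
  intro c
  induction c with
  | zero => intro p hp; omega
  | succ c ih =>
    intro p hp
    by_cases h : p < N c
    · obtain ⟨m, hm, h1, h2⟩ := ih p h
      exact ⟨m, by omega, h1, h2⟩
    · refine ⟨c, by omega, ?_, ?_⟩ <;> rcases hN c with h' | h' <;> omega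

theorem map_stepMat_coordSub (N : ℕ → ℕ) (hN0 : N 0 = 0)
    (hN : ∀ m, N (m + 1) = N m ∨ N (m + 1) = N m + 1) {n n' c : ℕ} (hc : c ≤ n) :
    (coordSub k n c).map (Matrix.toLin' (stepMat k n n' N)) = coordSub k n' (N c) := by
  have hmono : Monotone N := monotone_nat_of_le_succ fun m => by
    rcases hN m with h | h <;> omega
  apply le_antisymm
  · rintro _ ⟨v, hv, rfl⟩
    intro p hp
    rw [Matrix.toLin'_apply, Matrix.mulVec, dotProduct]
    refine Finset.sum_eq_zero fun m _ => ?_
    by_cases hm : c ≤ (m : ℕ)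
    · rw [hv m hm, mul_zero]
    · have hlt : (m : ℕ) + 1 ≤ c := by omega
      have h1 := hmono hlt
      have : ¬ ((p : ℕ) = N m ∧ N (m + 1) = N m + 1) := by
        rintro ⟨h2, h3⟩
        omega
      simp [stepMat, this]
  · refine (coordSub_le_span n' (N c)).trans ?_
    rw [Submodule.span_le]
    rintro _ ⟨p, hp, rfl⟩
    obtain ⟨m, hm, h1, h2⟩ := exists_jump N hN0 hN c p hp
    refine ⟨Pi.single ⟨m, by omega⟩ 1, single_mem_coordSub _ hm, ?_⟩
    rw [Matrix.toLin'_apply, Matrix.mulVec_single_one]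
    funext q
    have hq : ((q : ℕ) = N m ∧ N (m + 1) = N m + 1) ↔ q = p := by
      rw [Fin.ext_iff]
      constructor
      · rintro ⟨h3, _⟩; omega
      · intro h3; omega
    simp only [stepMat, Matrix.col_apply, Matrix.of_apply, Pi.single_apply]
    simp only [hq]

end Coord


section Count

/-- cleaned array: `a 0 j := 0`. -/
def A0 (a : ℕ → ℕ → ℕ) (i j : ℕ) : ℕ := if i = 0 then 0 else a i j

theorem A0_zero (a : ℕ → ℕ → ℕ) (j : ℕ) : A0 a 0 j = 0 := by simp [A0]

theorem A0_pos (a : ℕ → ℕ → ℕ) {i : ℕ} (hi : 1 ≤ i) (j : ℕ) : A0 a i j = a i j := by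
  have : i ≠ 0 := by omega
  simp [A0, this]

/-- the counting function at level `j`. -/
def cnt (a : ℕ → ℕ → ℕ) (j m : ℕ) : ℕ :=
  (Finset.range (j + 1)).inf' Finset.nonempty_range_add_one fun i => A0 a i (j + 1) + (m - A0 a i j)

theorem cnt_zero (a : ℕ → ℕ → ℕ) (j : ℕ) : cnt a j 0 = 0 := by
  have h := Finset.inf'_le (s := Finset.range (j + 1))
    (fun i => A0 a i (j + 1) + (0 - A0 a i j)) (b := 0) (by simp)
  simp only [A0_zero] at h
  unfold cnt
  omega

theorem cnt_step (a : ℕ → ℕ → ℕ) (j m : ℕ) :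
    cnt a j (m + 1) = cnt a j m ∨ cnt a j (m + 1) = cnt a j m + 1 := by
  have h1 : cnt a j m ≤ cnt a j (m + 1) := by
    unfold cnt
    refine Finset.inf'_mono_fun fun i _ => ?_
    omega
  have h2 : cnt a j (m + 1) ≤ cnt a j m + 1 := by
    obtain ⟨i, hi, hi'⟩ := Finset.exists_mem_eq_inf' (s := Finset.range (j + 1)) Finset.nonempty_range_add_one
      (fun i => A0 a i (j + 1) + (m - A0 a i j))
    have h3 := Finset.inf'_le (s := Finset.range (j + 1))
      (fun i => A0 a i (j + 1) + (m + 1 - A0 a i j)) hi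
    unfold cnt
    rw [hi']
    refine h3.trans ?_
    omega
  omega

variable {d : ℕ → ℕ} {r : ℕ} {a : ℕ → ℕ → ℕ}

theorem isRankArray_mono_left (H : IsRankArray d r a) {i i' j : ℕ} (hi : 1 ≤ i) (hii' : i ≤ i')
    (hi'j : i' ≤ j) (hj : j ≤ r) : a i j ≤ a i' j := by
  induction i', hii' using Nat.le_induction with
  | base => exact le_rfl
  | succ i' hi' ih =>
    exact (ih (by omega)).trans (H.2.1 i' j (by omega) (by omega) hj)

theorem isRankArray_le_d (H : IsRankArray d r a) {i j : ℕ} (hi : 1 ≤ i) (hij : i ≤ j)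
    (hj : j ≤ r) : a i j ≤ d j := by
  rw [← H.1 j (by omega) hj]
  exact isRankArray_mono_left H hi hij le_rfl hj

theorem isRankArray_telescope (H : IsRankArray d r a) {i' i j : ℕ} (hi'i : i' ≤ i) (hi : 1 ≤ i)
    (hij : i ≤ j) (hj : j < r) :
    a i (j + 1) + A0 a i' j ≤ a i j + A0 a i' (j + 1) := by
  rcases Nat.eq_zero_or_pos i' with rfl | hi'
  · rw [A0_zero, A0_zero]
    have := H.2.2.1 i j hi hij hj
    omega
  · rw [A0_pos a hi', A0_pos a hi']
    induction i, hi'i using Nat.le_induction with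
    | base => omega
    | succ i hi'i ih =>
      have h1 := ih (by omega) (by omega)
      have h2 := H.2.2.2 (i + 1) j (by omega) hij hj
      simp only [Nat.add_sub_cancel] at h2
      omega

theorem cnt_val (H : IsRankArray d r a) {i j : ℕ} (hi : 1 ≤ i) (hij : i ≤ j) (hj : j < r) :
    cnt a j (a i j) = a i (j + 1) := by
  apply le_antisymm
  · have h := Finset.inf'_le (s := Finset.range (j + 1))
      (fun i' => A0 a i' (j + 1) + (a i j - A0 a i' j)) (b := i) (by simp; omega)
    simp only [A0_pos a hi] at h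
    unfold cnt
    omega
  · unfold cnt
    rw [Finset.le_inf'_iff]
    intro i' hi'
    rw [Finset.mem_range] at hi'
    rcases le_or_gt i' i with h | h
    · have := isRankArray_telescope H h hi hij hj
      omega
    · have h1 : 1 ≤ i' := by omega
      rw [A0_pos a h1, A0_pos a h1]
      have := isRankArray_mono_left H (j := j + 1) hi h.le (by omega) (by omega)
      omega

end Count

section NF

variable (k : Type u) [Field k] (d : ℕ → ℕ) (r : ℕ) (a : ℕ → ℕ → ℕ)

/-- the normal form chain attached to an array. -/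
def nfChain : (i : ℕ) → Matrix (Fin (d (i + 1))) (Fin (d i)) k := fun j =>
  if 1 ≤ j ∧ j + 1 ≤ r then stepMat k (d j) (d (j + 1)) (cnt a j) else 0

variable {k d r a}

theorem img_nfChain (H : IsRankArray d r a) {i j : ℕ} (hi : 1 ≤ i) (hij : i ≤ j) (hj : j ≤ r) :
    img (V := fun j => Fin (d j) → k) (lin (nfChain k d r a)) i j = coordSub k (d j) (a i j) := by
  induction j, hij using Nat.le_induction with
  | base =>
    rw [img_self, coordSub_eq_top]
    rw [H.1 i hi hj]
  | succ j hij ih =>
    rw [img_succ _ hij, ih (by omega)]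
    have hcond : 1 ≤ j ∧ j + 1 ≤ r := ⟨by omega, hj⟩
    have : lin (nfChain k d r a) j = Matrix.toLin' (stepMat k (d j) (d (j + 1)) (cnt a j)) := by
      unfold lin nfChain
      rw [if_pos hcond]
    rw [this, map_stepMat_coordSub (cnt a j) (cnt_zero a j) (cnt_step a j)
      (isRankArray_le_d H hi hij (by omega)), cnt_val H hi hij (by omega)]

theorem rankArray_nfChain (H : IsRankArray d r a) {i j : ℕ} (hi : 1 ≤ i) (hij : i ≤ j)
    (hj : j ≤ r) : rankArray (nfChain k d r a) i j = a i j := by
  rw [rankArray_eq _ hij, img_nfChain H hi hij hj, finrank_coordSub (isRankArray_le_d H hi hij hj)]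

end NF

end Groth.Agent.R2.H71Chain
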