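import Mathlib
import Groth.Prelude.Def_TwC

/-!
Helper library (helper71): points of the constant scheme `TwC.const S M = ∐_M S`, and rigidity:
a multiplicative-on-points morphism from an `S`-group `E` to a constant group `Z_S` with `Z`
torsion-free, whose image meets only finitely many components, is trivial.
-/

set_option autoImplicit false
set_option linter.unusedSectionVars false
universe u

open CategoryTheory Limits MonoidalCategory CartesianMonoidalCategory MonObj AlgebraicGeometry

namespace Groth.Agent.R2.H71.ConstRigid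

variable {S : Scheme.{u}} (M : Type u)

/-- the `m`-th component of the constant scheme. -/
noncomputable def comp (m : M) : (TwC.const S M).left.Opens :=
  (Sigma.ι (fun _ : M => S) m).opensRange

lemma exists_mem_comp (x : (TwC.const S M).left) : ∃ m : M, x ∈ comp (S := S) M m := by
  obtain ⟨⟨m, s⟩, rfl⟩ := (sigmaMk (fun _ : M => S)).surjective x
  exact ⟨m, ⟨s, (sigmaMk_mk (fun _ : M => S) m s).symm⟩⟩

lemma eq_of_mem_comp {x : (TwC.const S M).left} {m m' : M}
    (h : x ∈ comp (S := S) M m) (h' : x ∈ comp (S := S) M m') : m = m' := by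
  by_contra hne
  exact (disjoint_iff.mp (disjoint_opensRange_sigmaι (fun _ : M => S) m m' hne)).le ⟨h, h'⟩

/-- a point of `∐_M S` over `S` landing in the component `m` is the constant point `m`. -/
lemma eq_pt_of_range_subset {W : Over S} (y : W ⟶ TwC.const S M) (m : M)
    (h : Set.range y.left.base ⊆ (comp (S := S) M m : Set (TwC.const S M).left)) :
    y = toUnit W ≫ TwC.pt S M m := by
  let j : S ⟶ (TwC.const S M).left := Sigma.ι (fun _ : M => S) m
  have hj : Set.range y.left.base ⊆ Set.range j.base := h
  let w : W.left ⟶ S := IsOpenImmersion.lift j y.left hj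
  have hw : w ≫ j = y.left := IsOpenImmersion.lift_fac j y.left hj
  have hW : w = W.hom := by
    have h1 := Over.w y
    rw [← hw] at h1
    simpa [j] using h1
  ext
  rw [Over.comp_left, Over.toUnit_left, ← hw, hW]
  rfl

lemma pt_left_range (m : M) (W : Over S) (x : W.left) :
    (toUnit W ≫ TwC.pt S M m).left.base x ∈ comp (S := S) M m := by
  refine ⟨W.hom.base x, ?_⟩
  rw [Over.comp_left, Over.toUnit_left]
  rfl


section Grp

variable {Z : Type u} [Group Z] {G E : Over S} [GrpObj G] [GrpObj E]
  (e : G ≅ TwC.const S Z)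

/-- the constant `W`-point of `G` with value `z`. -/
noncomputable def cpt (W : Over S) (z : Z) : W ⟶ G := toUnit W ≫ TwC.pt S Z z ≫ e.inv

variable {e}

lemma cpt_mul (hG : TwC.IsConstGrp Z G e) (W : Over S) (a b : Z) :
    cpt e W a * cpt e W b = cpt e W (a * b) := by
  unfold cpt
  rw [← comp_mul, hG a b]

lemma cpt_one (hG : TwC.IsConstGrp Z G e) (W : Over S) : cpt e W (1 : Z) = 1 := by
  have h := cpt_mul hG W 1 1
  rw [_root_.mul_one] at h
  exact mul_eq_left.mp h

lemma cpt_pow (hG : TwC.IsConstGrp Z G e) (W : Over S) (z : Z) (n : ℕ) :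
    (cpt e W z) ^ n = cpt e W (z ^ n) := by
  induction n with
  | zero => rw [pow_zero, pow_zero, cpt_one hG]
  | succ n ih => rw [pow_succ, pow_succ, ih, cpt_mul hG]

lemma eq_cpt_of_forall {W : Over S} (y : W ⟶ G) (z : Z)
    (h : ∀ w : W.left, e.hom.left.base (y.left.base w) ∈ comp (S := S) Z z) : y = cpt e W z := by
  have h1 : y ≫ e.hom = toUnit W ≫ TwC.pt S Z z := by
    apply eq_pt_of_range_subset
    rintro _ ⟨w, rfl⟩
    exact h w
  unfold cpt
  rw [← Category.assoc, ← h1, Category.assoc, e.hom_inv_id, Category.comp_id]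

lemma cpt_left_mem (W : Over S) (z : Z) (w : W.left) :
    e.hom.left.base ((cpt e W z).left.base w) ∈ comp (S := S) Z z := by
  have h1 : cpt e W z ≫ e.hom = toUnit W ≫ TwC.pt S Z z := by
    unfold cpt
    rw [Category.assoc, Category.assoc, e.inv_hom_id, Category.comp_id]
  have h2 := pt_left_range Z z W w
  rw [← h1] at h2
  exact h2

/-- the set of components of `G` met by the image of `d`. -/
def metSet {X : Over S} (e : G ≅ TwC.const S Z) (d : X ⟶ G) : Set Z :=
  {z : Z | ∃ p : X.left, e.hom.left.base (d.left.base p) ∈ comp (S := S) Z z}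

lemma metSet_comp_subset {X Y : Over S} (v : X ⟶ Y) (r : Y ⟶ G) :
    metSet e (v ≫ r) ⊆ metSet e r := by
  rintro z ⟨p, hp⟩
  exact ⟨v.left.base p, hp⟩

lemma metSet_finite_of_compact {X : Over S} [CompactSpace X.left] (r : X ⟶ G) :
    (metSet e r).Finite := by
  let f : X.left ⟶ (TwC.const S Z).left := r.left ≫ e.hom.left
  let U : Z → Set X.left := fun z => f.base ⁻¹' (comp (S := S) Z z : Set _)
  have hU : ∀ z, IsOpen (U z) := fun z => (comp (S := S) Z z).isOpen.preimage f.continuous
  have hcov : (Set.univ : Set X.left) ⊆ ⋃ z, U z := by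
    intro x _
    obtain ⟨z, hz⟩ := exists_mem_comp Z (f.base x)
    exact Set.mem_iUnion.mpr ⟨z, hz⟩
  obtain ⟨t, ht⟩ := isCompact_univ.elim_finite_subcover U hU hcov
  refine t.finite_toSet.subset ?_
  rintro z ⟨p, hp⟩
  obtain ⟨z', hz't, hz'⟩ : ∃ z' ∈ t, p ∈ U z' := by
    have := ht (Set.mem_univ p)
    simpa using this
  have : z = z' := eq_of_mem_comp Z hp hz'
  subst this
  exact hz't

/-- rigidity: a morphism to a torsion-free constant group, multiplicative on points and meeting only
finitely many components, is trivial. -/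
theorem eq_one_of_finite (hG : TwC.IsConstGrp Z G e) (hZ : ∀ z : Z, IsOfFinOrder z → z = 1)
    (d : E ⟶ G)
    (hmul : ∀ {W : Over S} (x y : W ⟶ E), (x * y) ≫ d = (x ≫ d) * (y ≫ d))
    (hfin : (metSet e d).Finite) : d = 1 := by
  have hone : ∀ W : Over S, (1 : W ⟶ E) ≫ d = 1 := by
    intro W
    have h := hmul (1 : W ⟶ E) 1
    rw [_root_.mul_one] at h
    exact (mul_eq_left.mp h.symm)
  have hpow : ∀ {W : Over S} (x : W ⟶ E) (n : ℕ), (x ^ n) ≫ d = (x ≫ d) ^ n := by
    intro W x n
    induction n with
    | zero => rw [pow_zero, pow_zero, hone]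
    | succ n ih => rw [pow_succ, pow_succ, hmul, ih]
  have hclosed : ∀ z ∈ metSet e d, ∀ n : ℕ, z ^ n ∈ metSet e d := by
    rintro z ⟨p, hp⟩ n
    let W : Over S := Over.mk (E.left.fromSpecResidueField p ≫ E.hom)
    let x : W ⟶ E := Over.homMk (E.left.fromSpecResidueField p) rfl
    have hx : x ≫ d = cpt e W z := by
      apply eq_cpt_of_forall
      intro w
      have : (x ≫ d).left.base w = d.left.base p := by
        rw [Over.comp_left, Scheme.Hom.comp_base, TopCat.comp_app]
        congr 1
        exact Scheme.fromSpecResidueField_apply _ w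
      rw [this]
      exact hp
    have hxn : (x ^ n) ≫ d = cpt e W (z ^ n) := by rw [hpow, hx, cpt_pow hG]
    let w₀ : W.left := IsLocalRing.closedPoint (E.left.residueField p)
    refine ⟨(x ^ n).left.base w₀, ?_⟩
    have h3 := cpt_left_mem (e := e) W (z ^ n) w₀
    rw [← hxn] at h3
    exact h3
  have htriv : ∀ z ∈ metSet e d, z = 1 := by
    intro z hz
    apply hZ
    by_contra hno
    have hinj : Function.Injective fun n : ℕ => z ^ n := injective_pow_iff_not_isOfFinOrder.mpr hno
    exact (Set.infinite_of_injective_forall_mem hinj (fun n => hclosed z hz n)) hfin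
  have hd : d = cpt e E 1 := by
    apply eq_cpt_of_forall
    intro w
    obtain ⟨z, hz⟩ := exists_mem_comp Z (e.hom.left.base (d.left.base w))
    have : z = 1 := htriv z ⟨w, hz⟩
    rw [← this]
    exact hz
  rw [hd, cpt_one hG]

end Grp

end Groth.Agent.R2.H71.ConstRigid
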