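import Mathlib
import Groth.Prelude.Def_CycDet

/-!
# Determinants of finite length modules: basic tuple lemmas (helper71)
-/

set_option autoImplicit false
set_option linter.unusedSectionVars false
set_option linter.deprecated false
universe u v

namespace Groth.Agent.R2.H71.CycDetBasic

open IsLocalRing CycDet

variable {R : Type u} [CommRing R] [IsLocalRing R] {M : Type v} [AddCommGroup M] [Module R M]

section SpanBefore

variable {l : ℕ}

lemma spanBefore_zero (e : Fin l → M) : spanBefore R M e 0 = ⊥ := by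
  unfold spanBefore
  simp

lemma spanBefore_mono (e : Fin l → M) {i j : ℕ} (h : i ≤ j) :
    spanBefore R M e i ≤ spanBefore R M e j := by
  unfold spanBefore
  apply Submodule.span_mono
  apply Set.image_mono
  intro k hk
  exact lt_of_lt_of_le hk h

lemma mem_spanBefore_of_lt (e : Fin l → M) {j : Fin l} {i : ℕ} (h : (j : ℕ) < i) :
    e j ∈ spanBefore R M e i :=
  Submodule.subset_span ⟨j, h, rfl⟩

lemma spanBefore_succ (e : Fin l → M) (i : Fin l) :
    spanBefore R M e ((i : ℕ) + 1) = spanBefore R M e i ⊔ Submodule.span R {e i} := by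
  unfold spanBefore
  rw [← Submodule.span_union]
  congr 1
  ext v
  simp only [Set.mem_image, Set.mem_setOf_eq, Set.union_singleton, Set.mem_insert_iff]
  constructor
  · rintro ⟨j, hj, rfl⟩
    rcases Nat.lt_succ_iff_lt_or_eq.mp hj with h | h
    · exact Or.inr ⟨j, h, rfl⟩
    · left; congr 1; exact Fin.ext h
  · rintro (rfl | ⟨j, hj, rfl⟩)
    · exact ⟨i, Nat.lt_succ_self _, rfl⟩
    · exact ⟨j, Nat.lt_succ_of_lt hj, rfl⟩

lemma spanBefore_of_le (e : Fin l → M) {i : ℕ} (h : l ≤ i) :
    spanBefore R M e i = Submodule.span R (Set.range e) := by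
  unfold spanBefore
  congr 1
  ext v
  simp only [Set.mem_image, Set.mem_setOf_eq, Set.mem_range]
  constructor
  · rintro ⟨j, _, rfl⟩; exact ⟨j, rfl⟩
  · rintro ⟨j, rfl⟩; exact ⟨j, lt_of_lt_of_le j.2 h, rfl⟩

lemma spanBefore_le_span_range (e : Fin l → M) (i : ℕ) :
    spanBefore R M e i ≤ Submodule.span R (Set.range e) := by
  unfold spanBefore
  apply Submodule.span_mono
  rintro _ ⟨j, _, rfl⟩
  exact ⟨j, rfl⟩

lemma spanBefore_congr {e e' : Fin l → M} {i : ℕ} (h : ∀ j : Fin l, (j : ℕ) < i → e j = e' j) :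
    spanBefore R M e i = spanBefore R M e' i := by
  unfold spanBefore
  congr 1
  ext v
  simp only [Set.mem_image, Set.mem_setOf_eq]
  constructor
  · rintro ⟨j, hj, rfl⟩; exact ⟨j, hj, (h j hj).symm⟩
  · rintro ⟨j, hj, rfl⟩; exact ⟨j, hj, h j hj⟩

lemma map_spanBefore {N : Type*} [AddCommGroup N] [Module R N] (π : M →ₗ[R] N) (e : Fin l → M)
    (i : ℕ) : (spanBefore R M e i).map π = spanBefore R N (π ∘ e) i := by
  unfold spanBefore
  rw [Submodule.map_span, Set.image_image]
  rfl

lemma spanBefore_cons (x : M) (f : Fin l → M) (i : ℕ) :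
    spanBefore R M (Fin.cons x f : Fin (l + 1) → M) (i + 1) =
      Submodule.span R {x} ⊔ spanBefore R M f i := by
  unfold spanBefore
  rw [← Submodule.span_union]
  congr 1
  ext v
  simp only [Set.mem_image, Set.mem_setOf_eq, Set.singleton_union, Set.mem_insert_iff]
  constructor
  · rintro ⟨j, hj, rfl⟩
    induction j using Fin.cases with
    | zero => left; simp
    | succ k => right; exact ⟨k, by simpa using hj, by simp⟩
  · rintro (rfl | ⟨j, hj, rfl⟩)
    · exact ⟨0, by simp, by simp⟩
    · exact ⟨j.succ, by simpa using hj, by simp⟩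

end SpanBefore

section Rel

variable {l : ℕ}

/-- class of a symbol in `DetOfLen` -/
noncomputable def mkS (e : Adm R M l) : DetOfLen R M l := Submodule.Quotient.mk (sym R M e)

lemma mkS_eq_zero (e : Adm R M l) (a : Fin l) (h : e.1 a ∈ spanBefore R M e.1 a) :
    mkS e = 0 := by
  unfold mkS
  rw [Submodule.Quotient.mk_eq_zero]
  apply Submodule.subset_span
  left; left
  exact ⟨e, a, h, rfl⟩

lemma mkS_rel_b (e e' : Adm R M l) (a : Fin l) (c : Rˣ) (hag : ∀ j, j ≠ a → e.1 j = e'.1 j)
    (h : e.1 a - (c : R) • e'.1 a ∈ spanBefore R M e.1 a) :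
    mkS e = IsLocalRing.residue R (c : R) • mkS e' := by
  unfold mkS
  rw [← Submodule.Quotient.mk_smul, ← sub_eq_zero, ← Submodule.Quotient.mk_sub,
    Submodule.Quotient.mk_eq_zero]
  apply Submodule.subset_span
  left; right
  exact ⟨e, e', a, c, hag, h, rfl⟩

lemma mkS_rel_c (e e' : Adm R M l) (a b : Fin l) (hab : (b : ℕ) + 1 = (a : ℕ))
    (h : ∀ r ∈ maximalIdeal R, r • e.1 a ∈ spanBefore R M e.1 b)
    (he' : e'.1 = e.1 ∘ Equiv.swap a b) :
    mkS e = - mkS e' := by
  unfold mkS
  rw [eq_neg_iff_add_eq_zero, ← Submodule.Quotient.mk_add, Submodule.Quotient.mk_eq_zero]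
  apply Submodule.subset_span
  right
  exact ⟨e, e', a, b, hab, h, he', rfl⟩

lemma span_mkS :
    Submodule.span (ResidueField R) (Set.range (mkS : Adm R M l → DetOfLen R M l)) = ⊤ := by
  rw [eq_top_iff]
  rintro y -
  obtain ⟨f, rfl⟩ := Submodule.Quotient.mk_surjective _ y
  induction f using Finsupp.induction_linear with
  | zero => simp
  | add f g hf hg =>
    rw [Submodule.Quotient.mk_add]
    exact add_mem hf hg
  | single e c =>
    have : (Finsupp.single e c : Free R M l) = c • sym R M e := by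
      unfold sym
      rw [Finsupp.smul_single, smul_eq_mul, mul_one]
    rw [this, Submodule.Quotient.mk_smul]
    exact Submodule.smul_mem _ _ (Submodule.subset_span ⟨e, rfl⟩)

lemma exists_smul_of_forall_mkS (z : DetOfLen R M l)
    (h : ∀ e : Adm R M l, ∃ c : ResidueField R, mkS e = c • z) :
    ∀ y : DetOfLen R M l, ∃ c : ResidueField R, y = c • z := by
  intro y
  have hy : y ∈ Submodule.span (ResidueField R) (Set.range (mkS : Adm R M l → DetOfLen R M l)) := by
    rw [span_mkS]; trivial
  have hle : Submodule.span (ResidueField R) (Set.range (mkS : Adm R M l → DetOfLen R M l)) ≤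
      Submodule.span (ResidueField R) {z} := by
    rw [Submodule.span_le]
    rintro _ ⟨e, rfl⟩
    obtain ⟨c, hc⟩ := h e
    rw [hc]
    exact Submodule.smul_mem _ _ (Submodule.mem_span_singleton_self z)
  obtain ⟨c, hc⟩ := Submodule.mem_span_singleton.mp (hle hy)
  exact ⟨c, hc.symm⟩

/-- construct linear maps out of `DetOfLen` -/
noncomputable def liftDet {V : Type*} [AddCommGroup V] [Module (ResidueField R) V]
    (F : Adm R M l → V)
    (ha : ∀ (e : Adm R M l) (a : Fin l), e.1 a ∈ spanBefore R M e.1 a → F e = 0)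
    (hb : ∀ (e e' : Adm R M l) (a : Fin l) (c : Rˣ), (∀ j, j ≠ a → e.1 j = e'.1 j) →
      e.1 a - (c : R) • e'.1 a ∈ spanBefore R M e.1 a →
      F e = IsLocalRing.residue R (c : R) • F e')
    (hc : ∀ (e e' : Adm R M l) (a b : Fin l), (b : ℕ) + 1 = (a : ℕ) →
      (∀ r ∈ maximalIdeal R, r • e.1 a ∈ spanBefore R M e.1 b) →
      e'.1 = e.1 ∘ Equiv.swap a b → F e = - F e') :
    DetOfLen R M l →ₗ[ResidueField R] V :=
  Submodule.liftQ _ (Finsupp.linearCombination (ResidueField R) F) (by
    rw [Submodule.span_le]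
    rintro x ((⟨e, a, h, rfl⟩ | ⟨e, e', a, c, hag, h, rfl⟩) | ⟨e, e', a, b, hab, h, he', rfl⟩)
    · simp [sym, ha e a h]
    · simp [sym, hb e e' a c hag h]
    · simp [sym, hc e e' a b hab h he'])

lemma liftDet_mkS {V : Type*} [AddCommGroup V] [Module (ResidueField R) V]
    (F : Adm R M l → V) (ha) (hb) (hc) (e : Adm R M l) :
    liftDet F ha hb hc (mkS e) = F e := by
  unfold liftDet mkS
  rw [Submodule.liftQ_apply]
  simp [sym]

end Rel

section Quot

variable {l : ℕ}

lemma mem_cons_spanBefore_iff (x : M) (f : Fin l → M) (i : ℕ) (v : M) :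
    v ∈ spanBefore R M (Fin.cons x f : Fin (l + 1) → M) (i + 1) ↔
      (Submodule.span R {x}).mkQ v ∈
        spanBefore R (M ⧸ Submodule.span R {x}) ((Submodule.span R {x}).mkQ ∘ f) i := by
  rw [spanBefore_cons, ← map_spanBefore, ← Submodule.mem_comap, Submodule.comap_map_mkQ]

lemma mem_spanBefore_succ_iff (e : Fin (l + 1) → M) (i : ℕ) (v : M) :
    v ∈ spanBefore R M e (i + 1) ↔
      (Submodule.span R {e 0}).mkQ v ∈
        spanBefore R (M ⧸ Submodule.span R {e 0}) ((Submodule.span R {e 0}).mkQ ∘ Fin.tail e) i := by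
  conv_lhs => rw [← Fin.cons_self_tail e]
  exact mem_cons_spanBefore_iff (e 0) (Fin.tail e) i v

lemma isAdmissible_cons (x : M) (hx : ∀ r ∈ maximalIdeal R, r • x = 0) (f : Fin l → M)
    (hf : IsAdmissible R (M ⧸ Submodule.span R {x}) ((Submodule.span R {x}).mkQ ∘ f)) :
    IsAdmissible R M (Fin.cons x f : Fin (l + 1) → M) := by
  intro i r hr
  induction i using Fin.cases with
  | zero =>
    rw [Fin.cons_zero, hx r hr]
    exact zero_mem _
  | succ j =>
    rw [Fin.cons_succ, Fin.val_succ, mem_cons_spanBefore_iff, map_smul]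
    exact hf j r hr

lemma smul_zero_of_isAdmissible (e : Fin (l + 1) → M) (he : IsAdmissible R M e) :
    ∀ r ∈ maximalIdeal R, r • e 0 = 0 := by
  intro r hr
  have := he 0 r hr
  rw [Fin.val_zero, spanBefore_zero] at this
  exact this

lemma isAdmissible_tail (e : Fin (l + 1) → M) (he : IsAdmissible R M e) :
    IsAdmissible R (M ⧸ Submodule.span R {e 0}) ((Submodule.span R {e 0}).mkQ ∘ Fin.tail e) := by
  intro j r hr
  have := he j.succ r hr
  rw [Fin.val_succ, mem_spanBefore_succ_iff, map_smul] at this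
  exact this

/-- the tail of an admissible tuple, in the quotient by the first entry -/
noncomputable def tailAdm (e : Adm R M (l + 1)) : Adm R (M ⧸ Submodule.span R {e.1 0}) l :=
  ⟨(Submodule.span R {e.1 0}).mkQ ∘ Fin.tail e.1, isAdmissible_tail e.1 e.2⟩

lemma span_range_eq_top_iff (e : Fin (l + 1) → M) :
    Submodule.span R (Set.range e) = ⊤ ↔
      Submodule.span R (Set.range ((Submodule.span R {e 0}).mkQ ∘ Fin.tail e)) = ⊤ := by
  rw [← spanBefore_of_le e (le_refl (l + 1)),
    ← spanBefore_of_le ((Submodule.span R {e 0}).mkQ ∘ Fin.tail e) (le_refl l)]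
  constructor
  · intro h
    rw [eq_top_iff]
    rintro y -
    obtain ⟨v, rfl⟩ := Submodule.mkQ_surjective _ y
    rw [← mem_spanBefore_succ_iff, h]
    trivial
  · intro h
    rw [eq_top_iff]
    rintro v -
    rw [mem_spanBefore_succ_iff, h]
    trivial

end Quot

end Groth.Agent.R2.H71.CycDetBasic
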