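import Mathlib
import Groth.Prelude.Def_CycDet
import Groth.Agent.R2.H71CycDetBasic

/-!
# Determinants of finite length modules: length bookkeeping (helper71)
-/

set_option autoImplicit false
set_option linter.unusedSectionVars false
universe u v

namespace Groth.Agent.R2.H71.CycDetBasic

open IsLocalRing CycDet

variable {R : Type u} [CommRing R] [IsLocalRing R] {M : Type v} [AddCommGroup M] [Module R M]

lemma length_span_singleton_le (x : M) (hx : ∀ r ∈ maximalIdeal R, r • x = 0) :
    Module.length R (Submodule.span R {x}) ≤ 1 := by
  by_cases hx0 : x = 0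
  · subst hx0
    have : Subsingleton (Submodule.span R {(0 : M)}) := by
      rw [Submodule.span_zero_singleton]; infer_instance
    rw [Module.length_eq_zero]
    exact zero_le_one
  · have htor : Ideal.torsionOf R M x = maximalIdeal R := by
      symm
      apply (maximalIdeal.isMaximal R).eq_of_le
      · intro h
        have : (1 : R) ∈ Ideal.torsionOf R M x := by rw [h]; trivial
        rw [Ideal.mem_torsionOf_iff, one_smul] at this
        exact hx0 this
      · intro r hr
        rw [Ideal.mem_torsionOf_iff]
        exact hx r hr
    have e := Ideal.quotTorsionOfEquivSpanSingleton R M x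
    rw [← e.length_eq, htor]
    have : IsSimpleModule R (R ⧸ maximalIdeal R) := by
      rw [isSimpleModule_iff_quot_maximal]
      exact ⟨maximalIdeal R, maximalIdeal.isMaximal R, ⟨LinearEquiv.refl _ _⟩⟩
    rw [Module.length_eq_one]

lemma length_span_singleton_eq_one (x : M) (hx : ∀ r ∈ maximalIdeal R, r • x = 0) (hx0 : x ≠ 0) :
    Module.length R (Submodule.span R {x}) = 1 := by
  apply le_antisymm (length_span_singleton_le x hx)
  rw [Order.one_le_iff_ne_zero, Ne, Module.length_eq_zero_iff]
  intro h
  apply hx0
  have := @Subsingleton.elim _ h (⟨x, Submodule.mem_span_singleton_self x⟩ : Submodule.span R {x}) 0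
  exact congrArg Subtype.val this

lemma length_eq_quot_add (x : M) :
    Module.length R M = Module.length R (Submodule.span R {x}) +
      Module.length R (M ⧸ Submodule.span R {x}) :=
  Module.length_eq_add_of_exact (Submodule.span R {x}).subtype (Submodule.span R {x}).mkQ
    (Submodule.subtype_injective _) (Submodule.mkQ_surjective _)
    (LinearMap.exact_subtype_mkQ _)

/-- an admissible generating `l`-tuple bounds the length by `l` -/
lemma length_le_of_span_eq_top : ∀ (l : ℕ) (M : Type v) [AddCommGroup M] [Module R M]
    (e : Fin l → M), IsAdmissible R M e → Submodule.span R (Set.range e) = ⊤ →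
    Module.length R M ≤ l := by
  intro l
  induction l with
  | zero =>
    intro M _ _ e _ he
    have : Subsingleton M := by
      have h0 : (⊤ : Submodule R M) = ⊥ := by
        rw [← he]
        have : Set.range e = ∅ := Set.range_eq_empty e
        rw [this, Submodule.span_empty]
      exact (Submodule.subsingleton_iff R).mp (subsingleton_of_bot_eq_top h0.symm)
    rw [Module.length_eq_zero]
    exact zero_le
  | succ l ih =>
    intro M _ _ e hadm he
    have hq := ih (M ⧸ Submodule.span R {e 0}) _ (isAdmissible_tail e hadm)
      ((span_range_eq_top_iff e).mp he)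
    rw [length_eq_quot_add (e 0)]
    calc Module.length R (Submodule.span R {e 0}) + Module.length R (M ⧸ Submodule.span R {e 0})
        ≤ 1 + (l : ℕ∞) := add_le_add (length_span_singleton_le _ (smul_zero_of_isAdmissible e hadm)) hq
      _ = ((l + 1 : ℕ) : ℕ∞) := by push_cast; rw [add_comm]

/-- a generating admissible tuple of the right length is a "composition basis" -/
lemma notMem_spanBefore_of_span_eq_top : ∀ (l : ℕ) (M : Type v) [AddCommGroup M] [Module R M]
    (e : Fin l → M), IsAdmissible R M e → Module.length R M = l →
    Submodule.span R (Set.range e) = ⊤ → ∀ a : Fin l, e a ∉ spanBefore R M e a := by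
  intro l
  induction l with
  | zero => intro M _ _ e _ _ _ a; exact a.elim0
  | succ l ih =>
    intro M _ _ e hadm hlen he
    have hsoc := smul_zero_of_isAdmissible e hadm
    have htail := (span_range_eq_top_iff e).mp he
    have hq := length_le_of_span_eq_top l (M ⧸ Submodule.span R {e 0}) _
      (isAdmissible_tail e hadm) htail
    have hx0 : e 0 ≠ 0 := by
      intro h0
      have h1 : Module.length R (Submodule.span R {e 0}) = 0 := by
        rw [h0, Module.length_eq_zero_iff, Submodule.span_zero_singleton]; infer_instance
      have h2 := length_eq_quot_add (R := R) (e 0)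
      rw [h1, zero_add, hlen] at h2
      rw [← h2] at hq
      have : ((l + 1 : ℕ) : ℕ∞) ≤ (l : ℕ∞) := hq
      rw [Nat.cast_le] at this
      omega
    have hlenq : Module.length R (M ⧸ Submodule.span R {e 0}) = l := by
      have h2 := length_eq_quot_add (R := R) (e 0)
      rw [length_span_singleton_eq_one _ hsoc hx0, hlen] at h2
      have hne : Module.length R (M ⧸ Submodule.span R {e 0}) ≠ ⊤ := by
        intro htop; rw [htop] at hq; simp at hq
      lift Module.length R (M ⧸ Submodule.span R {e 0}) to ℕ using hne with n hn
      have : (l + 1 : ℕ) = 1 + n := by exact_mod_cast h2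
      congr 1; omega
    have hB := ih (M ⧸ Submodule.span R {e 0}) _ (isAdmissible_tail e hadm) hlenq htail
    intro a
    induction a using Fin.cases with
    | zero =>
      rw [Fin.val_zero, spanBefore_zero, Submodule.mem_bot]
      exact hx0
    | succ j =>
      rw [Fin.val_succ, mem_spanBefore_succ_iff]
      exact hB j

/-- conversely, a "composition basis" of the right length generates -/
lemma span_eq_top_of_notMem_spanBefore : ∀ (l : ℕ) (M : Type v) [AddCommGroup M] [Module R M]
    (e : Fin l → M), IsAdmissible R M e → Module.length R M = l →
    (∀ a : Fin l, e a ∉ spanBefore R M e a) → Submodule.span R (Set.range e) = ⊤ := by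
  intro l
  induction l with
  | zero =>
    intro M _ _ e _ hlen _
    have : Subsingleton M := by
      rw [← Module.length_eq_zero_iff (R := R), hlen]; rfl
    exact Subsingleton.elim _ _
  | succ l ih =>
    intro M _ _ e hadm hlen hB
    have hsoc := smul_zero_of_isAdmissible e hadm
    have hx0 : e 0 ≠ 0 := by
      have := hB 0
      rw [Fin.val_zero, spanBefore_zero, Submodule.mem_bot] at this
      exact this
    have hlenq : Module.length R (M ⧸ Submodule.span R {e 0}) = l := by
      have h2 := length_eq_quot_add (R := R) (e 0)
      rw [length_span_singleton_eq_one _ hsoc hx0, hlen] at h2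
      have hne : Module.length R (M ⧸ Submodule.span R {e 0}) ≠ ⊤ := by
        intro htop; rw [htop] at h2; simp at h2
      lift Module.length R (M ⧸ Submodule.span R {e 0}) to ℕ using hne with n hn
      have : (l + 1 : ℕ) = 1 + n := by exact_mod_cast h2
      congr 1; omega
    rw [span_range_eq_top_iff]
    apply ih _ _ (isAdmissible_tail e hadm) hlenq
    intro j hj
    have := hB j.succ
    rw [Fin.val_succ, mem_spanBefore_succ_iff] at this
    exact this hj

/-- length of the quotient by a nonzero socle element -/
lemma length_quot_of_ne_zero (x : M) (hx : ∀ r ∈ maximalIdeal R, r • x = 0) (hx0 : x ≠ 0) (l : ℕ)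
    (hlen : Module.length R M = (l + 1 : ℕ)) :
    Module.length R (M ⧸ Submodule.span R {x}) = l := by
  have h2 := length_eq_quot_add (R := R) x
  rw [length_span_singleton_eq_one _ hx hx0, hlen] at h2
  have hne : Module.length R (M ⧸ Submodule.span R {x}) ≠ ⊤ := by
    intro htop; rw [htop] at h2; simp at h2
  lift Module.length R (M ⧸ Submodule.span R {x}) to ℕ using hne with n hn
  have : (l + 1 : ℕ) = 1 + n := by exact_mod_cast h2
  congr 1; omega

end Groth.Agent.R2.H71.CycDetBasic
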