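import Mathlib
import Groth.Prelude.Def_CycDet
import Groth.Agent.R2.H71CycDetBasic
import Groth.Agent.R2.H71CycDetLen

/-!
# Determinants of finite length modules: prepending a socle vector (helper71)
-/

set_option autoImplicit false
set_option linter.unusedSectionVars false
universe u v

namespace Groth.Agent.R2.H71.CycDetBasic

open IsLocalRing CycDet

variable {R : Type u} [CommRing R] [IsLocalRing R] {M : Type v} [AddCommGroup M] [Module R M]

section Phi

variable {l : ℕ} (x : M) (hx : ∀ r ∈ maximalIdeal R, r • x = 0)

/-- a set-theoretic section of `M → M ⧸ span {x}` -/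
noncomputable def sec (x : M) : (M ⧸ Submodule.span R {x}) → M :=
  Function.surjInv (Submodule.mkQ_surjective (Submodule.span R {x}))

lemma mkQ_sec (x : M) (q : M ⧸ Submodule.span R {x}) : (Submodule.span R {x}).mkQ (sec x q) = q :=
  Function.surjInv_eq _ q

lemma mkQ_comp_sec (x : M) (f : Fin l → M ⧸ Submodule.span R {x}) :
    (Submodule.span R {x}).mkQ ∘ (sec x ∘ f) = f := by
  funext j
  exact mkQ_sec x (f j)

/-- admissible tuple `(x, f)` from an admissible tuple `π ∘ f` in the quotient -/
noncomputable def consAdm (f : Fin l → M)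
    (hf : IsAdmissible R (M ⧸ Submodule.span R {x}) ((Submodule.span R {x}).mkQ ∘ f)) :
    Adm R M (l + 1) :=
  ⟨Fin.cons x f, isAdmissible_cons x hx f hf⟩

/-- the canonical lift of an admissible tuple of the quotient -/
noncomputable def liftAdm (ē : Adm R (M ⧸ Submodule.span R {x}) l) : Adm R M (l + 1) :=
  consAdm x hx (sec x ∘ ē.1) (by rw [mkQ_comp_sec]; exact ē.2)

lemma liftAdm_val (ē : Adm R (M ⧸ Submodule.span R {x}) l) :
    (liftAdm x hx ē).1 = Fin.cons x (sec x ∘ ē.1) := rfl

lemma mem_liftAdm_spanBefore_iff (ē : Adm R (M ⧸ Submodule.span R {x}) l) (i : ℕ) (v : M) :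
    v ∈ spanBefore R M (liftAdm x hx ē).1 (i + 1) ↔
      (Submodule.span R {x}).mkQ v ∈ spanBefore R (M ⧸ Submodule.span R {x}) ē.1 i := by
  rw [liftAdm_val, mem_cons_spanBefore_iff, mkQ_comp_sec]

/-- prepend `x`: `Det (M / x) → Det M` -/
noncomputable def phi : DetOfLen R (M ⧸ Submodule.span R {x}) l →ₗ[ResidueField R]
    DetOfLen R M (l + 1) :=
  liftDet (fun ē => mkS (liftAdm x hx ē))
    (by
      intro ē a h
      apply mkS_eq_zero _ a.succ
      rw [Fin.val_succ, mem_liftAdm_spanBefore_iff, liftAdm_val, Fin.cons_succ, Function.comp_apply,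
        mkQ_sec]
      exact h)
    (by
      intro ē ē' a c hag h
      apply mkS_rel_b _ _ a.succ c
      · intro j hj
        induction j using Fin.cases with
        | zero => simp [liftAdm_val]
        | succ k =>
          have hk : k ≠ a := fun hk => hj (by rw [hk])
          simp [liftAdm_val, hag k hk]
      · rw [Fin.val_succ, mem_liftAdm_spanBefore_iff, liftAdm_val, liftAdm_val, Fin.cons_succ,
          Fin.cons_succ, Function.comp_apply, Function.comp_apply, map_sub, map_smul, mkQ_sec,
          mkQ_sec]
        exact h)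
    (by
      intro ē ē' a b hab h he'
      apply mkS_rel_c _ _ a.succ b.succ
      · rw [Fin.val_succ, Fin.val_succ, hab]
      · intro r hr
        rw [Fin.val_succ, mem_liftAdm_spanBefore_iff, liftAdm_val, Fin.cons_succ,
          Function.comp_apply, map_smul, mkQ_sec]
        exact h r hr
      · funext j
        rw [liftAdm_val, liftAdm_val, Function.comp_apply]
        induction j using Fin.cases with
        | zero =>
          rw [Equiv.swap_apply_of_ne_of_ne (Fin.succ_ne_zero a).symm (Fin.succ_ne_zero b).symm]
          simp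
        | succ k =>
          have : Equiv.swap a.succ b.succ k.succ = (Equiv.swap a b k).succ :=
            (Fin.succ_injective _).swap_apply a b k
          rw [this, Fin.cons_succ, Fin.cons_succ, he']
          rfl)

lemma phi_mkS (ē : Adm R (M ⧸ Submodule.span R {x}) l) :
    phi x hx (mkS ē) = mkS (liftAdm x hx ē) := by
  unfold phi
  rw [liftDet_mkS]

end Phi

end Groth.Agent.R2.H71.CycDetBasic
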