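import Mathlib
import Groth.Prelude.Def_CycDet
import Groth.Agent.R2.H71CycDetBasic
import Groth.Agent.R2.H71CycDetLen

/-!
# Determinants of finite length modules: the contraction map (Laplace expansion) (helper71)

For a nonzero socle element `x₀` of `M` we construct a linear map
`DetOfLen R M (l+1) → DetOfLen R (M ⧸ x₀) l` by expanding along `x₀`.
-/

set_option autoImplicit false
set_option linter.unusedSectionVars false
universe u v

namespace Groth.Agent.R2.H71.CycDetBasic

open IsLocalRing CycDet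

variable {R : Type u} [CommRing R] [IsLocalRing R] {M : Type v} [AddCommGroup M] [Module R M]

section Pivot

variable {l : ℕ} (x₀ : M)

/-- the tuple with the `i`-th entry omitted, in the quotient by `x₀` -/
def omitFun (e : Fin (l + 1) → M) (i : Fin (l + 1)) : Fin l → M ⧸ Submodule.span R {x₀} :=
  fun j => (Submodule.span R {x₀}).mkQ (e (i.succAbove j))

/-- `x₀` enters the flag of `e` at step `i`, with coefficient `u` -/
structure IsPivot (e : Fin (l + 1) → M) (i : Fin (l + 1)) (u : Rˣ) : Prop where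
  notMem : x₀ ∉ spanBefore R M e i
  mem : x₀ - (u : R) • e i ∈ spanBefore R M e i

variable {x₀}

lemma IsPivot.mem_succ {e : Fin (l + 1) → M} {i : Fin (l + 1)} {u : Rˣ} (h : IsPivot x₀ e i u) :
    x₀ ∈ spanBefore R M e ((i : ℕ) + 1) := by
  have h1 : x₀ = (x₀ - (u : R) • e i) + (u : R) • e i := by abel
  rw [h1]
  apply add_mem (spanBefore_mono e (Nat.le_succ _) h.mem)
  exact Submodule.smul_mem _ _ (mem_spanBefore_of_lt e (Nat.lt_succ_self _))

lemma IsPivot.notMem_of_le {e : Fin (l + 1) → M} {i : Fin (l + 1)} {u : Rˣ} (h : IsPivot x₀ e i u)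
    {k : ℕ} (hk : k ≤ i) : x₀ ∉ spanBefore R M e k :=
  fun hmem => h.notMem (spanBefore_mono e hk hmem)

lemma IsPivot.mem_of_lt {e : Fin (l + 1) → M} {i : Fin (l + 1)} {u : Rˣ} (h : IsPivot x₀ e i u)
    {k : ℕ} (hk : (i : ℕ) < k) : x₀ ∈ spanBefore R M e k :=
  spanBefore_mono e hk h.mem_succ

lemma IsPivot.entry_notMem {e : Fin (l + 1) → M} {i : Fin (l + 1)} {u : Rˣ} (h : IsPivot x₀ e i u) :
    e i ∉ spanBefore R M e i := by
  intro hmem
  apply h.notMem
  have h1 : x₀ = (x₀ - (u : R) • e i) + (u : R) • e i := by abel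
  rw [h1]
  exact add_mem h.mem (Submodule.smul_mem _ _ hmem)

lemma IsPivot.unique {e : Fin (l + 1) → M} {i i' : Fin (l + 1)} {u u' : Rˣ}
    (h : IsPivot x₀ e i u) (h' : IsPivot x₀ e i' u') :
    i = i' ∧ residue R (u : R) = residue R (u' : R) := by
  have hii : i = i' := by
    rcases lt_trichotomy i i' with hlt | heq | hgt
    · exact absurd (h.mem_of_lt (k := i') hlt) h'.notMem
    · exact heq
    · exact absurd (h'.mem_of_lt (k := i) hgt) h.notMem
  subst hii
  refine ⟨rfl, ?_⟩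
  by_contra hne
  have hunit : IsUnit ((u : R) - (u' : R)) := by
    by_contra hnu
    apply hne
    have : (u : R) - (u' : R) ∈ maximalIdeal R := (mem_maximalIdeal _).mpr hnu
    rw [← sub_eq_zero, ← map_sub]
    exact (residue_eq_zero_iff _).mpr this
  apply h.entry_notMem
  have h2 : ((u : R) - (u' : R)) • e i ∈ spanBefore R M e i := by
    have : ((u : R) - (u' : R)) • e i = (x₀ - (u' : R) • e i) - (x₀ - (u : R) • e i) := by
      rw [sub_smul]; abel
    rw [this]
    exact sub_mem h'.mem h.mem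
  obtain ⟨w, hw⟩ := hunit
  have : e i = (↑w⁻¹ : R) • (((u : R) - (u' : R)) • e i) := by
    rw [← hw, smul_smul, Units.inv_mul, one_smul]
  rw [this]
  exact Submodule.smul_mem _ _ h2

lemma IsPivot.mem_span_range {e : Fin (l + 1) → M} {i : Fin (l + 1)} {u : Rˣ}
    (h : IsPivot x₀ e i u) : x₀ ∈ Submodule.span R (Set.range e) :=
  spanBefore_le_span_range e _ h.mem_succ

lemma exists_isPivot {e : Fin (l + 1) → M} (he : IsAdmissible R M e) (hx₀ : x₀ ≠ 0)
    (hmem : x₀ ∈ Submodule.span R (Set.range e)) : ∃ (i : Fin (l + 1)) (u : Rˣ), IsPivot x₀ e i u := by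
  classical
  have hex : ∃ k, x₀ ∈ spanBefore R M e k := ⟨l + 1, by rw [spanBefore_of_le e le_rfl]; exact hmem⟩
  set k₀ := Nat.find hex with hk₀
  have hk₀mem : x₀ ∈ spanBefore R M e k₀ := Nat.find_spec hex
  have hk₀le : k₀ ≤ l + 1 := Nat.find_min' hex (by rw [spanBefore_of_le e le_rfl]; exact hmem)
  have hk₀ne : k₀ ≠ 0 := by
    intro h0
    rw [h0, spanBefore_zero, Submodule.mem_bot] at hk₀mem
    exact hx₀ hk₀mem
  obtain ⟨i, hi⟩ : ∃ i, k₀ = i + 1 := Nat.exists_eq_succ_of_ne_zero hk₀ne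
  have hil : i < l + 1 := by omega
  have hnot : x₀ ∉ spanBefore R M e i := Nat.find_min hex (by omega)
  rw [hi] at hk₀mem
  have := spanBefore_succ (R := R) e ⟨i, hil⟩
  simp only at this
  rw [this, Submodule.mem_sup] at hk₀mem
  obtain ⟨s, hs, t, ht, hst⟩ := hk₀mem
  obtain ⟨r, rfl⟩ := Submodule.mem_span_singleton.mp ht
  have hru : IsUnit r := by
    by_contra hnu
    apply hnot
    rw [← hst]
    exact add_mem hs (he ⟨i, hil⟩ r ((mem_maximalIdeal r).mpr hnu))
  obtain ⟨w, rfl⟩ := hru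
  refine ⟨⟨i, hil⟩, w, hnot, ?_⟩
  have : x₀ - (w : R) • e ⟨i, hil⟩ = s := by rw [← hst]; abel
  rw [this]
  exact hs

/-- the omitted entry dies in the quotient modulo the earlier ones -/
lemma IsPivot.mkQ_entry_mem {e : Fin (l + 1) → M} {i : Fin (l + 1)} {u : Rˣ}
    (h : IsPivot x₀ e i u) :
    (Submodule.span R {x₀}).mkQ (e i) ∈ (spanBefore R M e i).map (Submodule.span R {x₀}).mkQ := by
  have h1 : e i = (↑u⁻¹ : R) • x₀ + -((↑u⁻¹ : R) • (x₀ - (u : R) • e i)) := by
    rw [smul_sub, smul_smul, Units.inv_mul, one_smul]; abel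
  have h2 : (Submodule.span R {x₀}).mkQ (e i) =
      (Submodule.span R {x₀}).mkQ (-((↑u⁻¹ : R) • (x₀ - (u : R) • e i))) := by
    conv_lhs => rw [h1]
    rw [map_add]
    have : (Submodule.span R {x₀}).mkQ ((↑u⁻¹ : R) • x₀) = 0 := by
      rw [Submodule.mkQ_apply, Submodule.Quotient.mk_eq_zero]
      exact Submodule.smul_mem _ _ (Submodule.mem_span_singleton_self x₀)
    rw [this, zero_add]
  rw [h2]
  exact Submodule.mem_map_of_mem (neg_mem (Submodule.smul_mem _ _ h.mem))

lemma mkQ_mem_of_ne (e : Fin (l + 1) → M) (i : Fin (l + 1)) (j : Fin l) (m : Fin (l + 1))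
    (hm : m ≠ i) (hlt : m < i.succAbove j) :
    (Submodule.span R {x₀}).mkQ (e m) ∈
      spanBefore R (M ⧸ Submodule.span R {x₀}) (omitFun x₀ e i) j := by
  obtain ⟨j', rfl⟩ := Fin.exists_succAbove_eq hm
  have hj : j' < j := Fin.succAbove_lt_succAbove_iff.mp hlt
  exact mem_spanBefore_of_lt (omitFun x₀ e i) (Fin.lt_def.mp hj)

lemma map_spanBefore_le_of_le (e : Fin (l + 1) → M) (i : Fin (l + 1)) (j : Fin l) (k : ℕ)
    (hk : k ≤ i) (hk' : k ≤ i.succAbove j) :
    (spanBefore R M e k).map (Submodule.span R {x₀}).mkQ ≤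
      spanBefore R (M ⧸ Submodule.span R {x₀}) (omitFun x₀ e i) j := by
  rw [Submodule.map_le_iff_le_comap]
  unfold spanBefore
  rw [Submodule.span_le]
  rintro _ ⟨m, hm, rfl⟩
  have hm' : (m : ℕ) < k := hm
  apply mkQ_mem_of_ne e i j m
  · intro hmi; rw [hmi] at hm'; omega
  · rw [Fin.lt_def]; omega

lemma IsPivot.map_spanBefore_le {e : Fin (l + 1) → M} {i : Fin (l + 1)} {u : Rˣ}
    (h : IsPivot x₀ e i u) (j : Fin l) :
    (spanBefore R M e (i.succAbove j : Fin (l + 1))).map (Submodule.span R {x₀}).mkQ ≤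
      spanBefore R (M ⧸ Submodule.span R {x₀}) (omitFun x₀ e i) j := by
  rw [Submodule.map_le_iff_le_comap]
  unfold spanBefore
  rw [Submodule.span_le]
  rintro _ ⟨m, hm, rfl⟩
  have hm' : (m : ℕ) < (i.succAbove j : Fin (l + 1)) := hm
  by_cases hmi : m = i
  · subst hmi
    exact map_spanBefore_le_of_le e m j m le_rfl (le_of_lt hm') h.mkQ_entry_mem
  · exact mkQ_mem_of_ne e i j m hmi (Fin.lt_def.mpr hm')

lemma IsPivot.mkQ_mem {e : Fin (l + 1) → M} {i : Fin (l + 1)} {u : Rˣ}
    (h : IsPivot x₀ e i u) (j : Fin l) {v : M}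
    (hv : v ∈ spanBefore R M e (i.succAbove j : Fin (l + 1))) :
    (Submodule.span R {x₀}).mkQ v ∈
      spanBefore R (M ⧸ Submodule.span R {x₀}) (omitFun x₀ e i) j :=
  h.map_spanBefore_le j (Submodule.mem_map_of_mem hv)

lemma IsPivot.omit_adm {e : Fin (l + 1) → M} {i : Fin (l + 1)} {u : Rˣ}
    (h : IsPivot x₀ e i u) (he : IsAdmissible R M e) :
    IsAdmissible R (M ⧸ Submodule.span R {x₀}) (omitFun x₀ e i) := by
  intro j r hr
  have := h.mkQ_mem j (he (i.succAbove j) r hr)
  rw [map_smul] at this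
  exact this

end Pivot

section PsiDef

variable {l : ℕ} (x₀ : M)

/-- the value of the contraction on a tuple with given pivot data -/
def omitAdm (e : Adm R M (l + 1)) (i : Fin (l + 1)) (u : Rˣ)
    (h : IsPivot x₀ e.1 i u) : Adm R (M ⧸ Submodule.span R {x₀}) l :=
  ⟨omitFun x₀ e.1 i, h.omit_adm e.2⟩

lemma omitAdm_val (e : Adm R M (l + 1)) (i : Fin (l + 1)) (u : Rˣ)
    (h : IsPivot x₀ e.1 i u) : (omitAdm x₀ e i u h).1 = omitFun x₀ e.1 i := rfl

lemma omitAdm_apply (e : Adm R M (l + 1)) (i : Fin (l + 1)) (u : Rˣ)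
    (h : IsPivot x₀ e.1 i u) (j : Fin l) :
    (omitAdm x₀ e i u h).1 j = (Submodule.span R {x₀}).mkQ (e.1 (i.succAbove j)) := rfl

/-- the value of the contraction on a tuple with given pivot data -/
noncomputable def psiVal (e : Adm R M (l + 1)) (i : Fin (l + 1)) (u : Rˣ)
    (h : IsPivot x₀ e.1 i u) : DetOfLen R (M ⧸ Submodule.span R {x₀}) l :=
  ((-1 : ResidueField R) ^ (i : ℕ) * (residue R (u : R))⁻¹) • mkS (omitAdm x₀ e i u h)

lemma psiVal_congr (e : Adm R M (l + 1)) {i i' : Fin (l + 1)} {u u' : Rˣ}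
    (h : IsPivot x₀ e.1 i u) (h' : IsPivot x₀ e.1 i' u') :
    psiVal x₀ e i u h = psiVal x₀ e i' u' h' := by
  obtain ⟨rfl, hres⟩ := h.unique h'
  unfold psiVal
  rw [hres]
  rfl

open Classical in
/-- the contraction along `x₀` on admissible tuples -/
noncomputable def psiFun (e : Adm R M (l + 1)) : DetOfLen R (M ⧸ Submodule.span R {x₀}) l :=
  if h : ∃ (i : Fin (l + 1)) (u : Rˣ), IsPivot x₀ e.1 i u then
    psiVal x₀ e h.choose h.choose_spec.choose h.choose_spec.choose_spec
  else 0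

lemma psiFun_eq (e : Adm R M (l + 1)) (i : Fin (l + 1)) (u : Rˣ) (h : IsPivot x₀ e.1 i u) :
    psiFun x₀ e = psiVal x₀ e i u h := by
  have hex : ∃ (i : Fin (l + 1)) (u : Rˣ), IsPivot x₀ e.1 i u := ⟨i, u, h⟩
  unfold psiFun
  rw [dif_pos hex]
  exact psiVal_congr x₀ e _ h

lemma psiFun_eq_zero (e : Adm R M (l + 1))
    (h : ¬ ∃ (i : Fin (l + 1)) (u : Rˣ), IsPivot x₀ e.1 i u) : psiFun x₀ e = 0 := by
  unfold psiFun
  rw [dif_neg h]

lemma psiFun_eq_zero_of_notMem (e : Adm R M (l + 1))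
    (h : x₀ ∉ Submodule.span R (Set.range e.1)) : psiFun x₀ e = 0 := by
  apply psiFun_eq_zero
  rintro ⟨i, u, hp⟩
  exact h hp.mem_span_range

lemma psiFun_rel_a (e : Adm R M (l + 1)) (a : Fin (l + 1))
    (ha : e.1 a ∈ spanBefore R M e.1 a) : psiFun x₀ e = 0 := by
  by_cases hex : ∃ (i : Fin (l + 1)) (u : Rˣ), IsPivot x₀ e.1 i u
  · obtain ⟨i, u, h⟩ := hex
    rw [psiFun_eq x₀ e i u h]
    unfold psiVal
    have hai : a ≠ i := by rintro rfl; exact h.entry_notMem ha
    obtain ⟨a', rfl⟩ := Fin.exists_succAbove_eq hai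
    rw [mkS_eq_zero (omitAdm x₀ e i u h) a' (h.mkQ_mem a' ha), smul_zero]
  · exact psiFun_eq_zero x₀ e hex

end PsiDef

section RelB

variable {n : ℕ}

lemma spanBefore_le_iff (e : Fin n → M) (k : ℕ) (S : Submodule R M) :
    spanBefore R M e k ≤ S ↔ ∀ j : Fin n, (j : ℕ) < k → e j ∈ S := by
  unfold spanBefore
  rw [Submodule.span_le]
  constructor
  · intro h j hj; exact h ⟨j, hj, rfl⟩
  · rintro h _ ⟨j, hj, rfl⟩; exact h j hj

lemma spanBefore_eq_of_rel_b (e e' : Fin n → M) (a : Fin n) (c : Rˣ)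
    (hag : ∀ j, j ≠ a → e j = e' j) (h : e a - (c : R) • e' a ∈ spanBefore R M e a) (k : ℕ) :
    spanBefore R M e k = spanBefore R M e' k := by
  by_cases hk : k ≤ a
  · apply spanBefore_congr
    intro j hj
    apply hag
    intro hja
    rw [hja] at hj
    omega
  · have hk' : (a : ℕ) < k := by omega
    have hbefore : spanBefore R M e a = spanBefore R M e' a :=
      spanBefore_congr (fun j hj => hag j (by intro hja; rw [hja] at hj; omega))
    apply le_antisymm
    · rw [spanBefore_le_iff]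
      intro j hj
      by_cases hja : j = a
      · subst hja
        have h1 : e j = (e j - (c : R) • e' j) + (c : R) • e' j := by abel
        rw [h1]
        apply add_mem
        · apply spanBefore_mono e' (le_of_lt hk')
          rw [← hbefore]; exact h
        · exact Submodule.smul_mem _ _ (mem_spanBefore_of_lt e' hk')
      · rw [hag j hja]; exact mem_spanBefore_of_lt e' hj
    · rw [spanBefore_le_iff]
      intro j hj
      by_cases hja : j = a
      · subst hja
        have h1 : e' j = (↑c⁻¹ : R) • (e j - (e j - (c : R) • e' j)) := by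
          rw [sub_sub_cancel, smul_smul, Units.inv_mul, one_smul]
        rw [h1]
        apply Submodule.smul_mem
        apply sub_mem (mem_spanBefore_of_lt e hk')
        exact spanBefore_mono e (le_of_lt hk') h
      · rw [← hag j hja]; exact mem_spanBefore_of_lt e hj

end RelB

section PsiRelB

variable {l : ℕ} (x₀ : M)

lemma psiFun_rel_b (hx₀ : x₀ ≠ 0) (e e' : Adm R M (l + 1)) (a : Fin (l + 1)) (c : Rˣ)
    (hag : ∀ j, j ≠ a → e.1 j = e'.1 j)
    (h : e.1 a - (c : R) • e'.1 a ∈ spanBefore R M e.1 a) :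
    psiFun x₀ e = residue R (c : R) • psiFun x₀ e' := by
  have hsp := spanBefore_eq_of_rel_b e.1 e'.1 a c hag h
  have hcne : residue R (c : R) ≠ 0 := by
    intro h0
    rw [residue_eq_zero_iff] at h0
    exact (mem_maximalIdeal _).mp h0 c.isUnit
  by_cases hex : ∃ (i : Fin (l + 1)) (u : Rˣ), IsPivot x₀ e'.1 i u
  · obtain ⟨i, u', hp'⟩ := hex
    by_cases hia : i = a
    · subst hia
      have hp : IsPivot x₀ e.1 i (u' * c⁻¹) := by
        refine ⟨by rw [hsp]; exact hp'.notMem, ?_⟩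
        have h1 : x₀ - ((u' * c⁻¹ : Rˣ) : R) • e.1 i =
            (x₀ - (u' : R) • e'.1 i) - ((u' * c⁻¹ : Rˣ) : R) • (e.1 i - (c : R) • e'.1 i) := by
          rw [smul_sub, smul_smul, Units.val_mul, mul_assoc, Units.inv_mul, mul_one]
          abel
        rw [h1]
        apply sub_mem
        · rw [hsp]; exact hp'.mem
        · exact Submodule.smul_mem _ _ h
      rw [psiFun_eq x₀ e i _ hp, psiFun_eq x₀ e' i u' hp']
      unfold psiVal
      have hadm : omitAdm x₀ e i _ hp = omitAdm x₀ e' i u' hp' := by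
        apply Subtype.ext
        funext j
        rw [omitAdm_apply, omitAdm_apply, hag _ (Fin.succAbove_ne i j)]
      rw [hadm, smul_smul]
      congr 1
      rw [Units.val_mul, map_mul, map_units_inv, mul_inv, inv_inv]
      ring
    · obtain ⟨a', rfl⟩ := Fin.exists_succAbove_eq (Ne.symm hia)
      have hp : IsPivot x₀ e.1 i u' := by
        refine ⟨by rw [hsp]; exact hp'.notMem, ?_⟩
        rw [hsp, hag i hia]
        exact hp'.mem
      rw [psiFun_eq x₀ e i _ hp, psiFun_eq x₀ e' i u' hp']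
      unfold psiVal
      have hrel := mkS_rel_b (omitAdm x₀ e i u' hp) (omitAdm x₀ e' i u' hp') a' c ?_ ?_
      · rw [hrel, smul_smul, smul_smul]
        congr 1
        ring
      · intro j hj
        rw [omitAdm_apply, omitAdm_apply, hag]
        intro hcontra
        exact hj (Fin.succAbove_right_injective hcontra)
      · rw [omitAdm_apply, omitAdm_apply, ← map_smul, ← map_sub]
        exact hp.mkQ_mem a' h
  · rw [psiFun_eq_zero x₀ e' hex, smul_zero]
    apply psiFun_eq_zero
    rintro ⟨i, u, hp⟩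
    apply hex
    apply exists_isPivot e'.2 hx₀
    have := hp.mem_span_range
    rw [← spanBefore_of_le e.1 le_rfl, hsp, spanBefore_of_le e'.1 le_rfl] at this
    exact this

end PsiRelB

end Groth.Agent.R2.H71.CycDetBasic
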