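import Mathlib
import Groth.Prelude.Def_CycDet
import Groth.Agent.R2.H71CycDetBasic
import Groth.Agent.R2.H71CycDetLen
import Groth.Agent.R2.H71CycDetPhi
import Groth.Agent.R2.H71CycDetPsi

/-!
# Determinants of finite length modules: appending tuples along a short exact sequence (helper71)
-/

set_option autoImplicit false
set_option linter.unusedSectionVars false
universe u v

namespace Groth.Agent.R2.H71.CycDetBasic

open IsLocalRing CycDet

variable {R : Type u} [CommRing R] [IsLocalRing R]
variable {K L M : Type v} [AddCommGroup K] [Module R K] [AddCommGroup L] [Module R L]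
  [AddCommGroup M] [Module R M]

section AppendSpan

variable {k m : ℕ}

lemma spanBefore_append_left (A : Fin k → L) (b : Fin m → L) (i : ℕ) (hi : i ≤ k) :
    spanBefore R L (Fin.append A b) i = spanBefore R L A i := by
  apply le_antisymm
  · rw [spanBefore_le_iff]
    intro j hj
    induction j using Fin.addCases with
    | left j =>
      rw [Fin.append_left]
      exact mem_spanBefore_of_lt A (by simpa using hj)
    | right j =>
      exfalso
      rw [Fin.val_natAdd] at hj
      omega
  · rw [spanBefore_le_iff]
    intro j hj
    have := mem_spanBefore_of_lt (R := R) (Fin.append A b) (j := Fin.castAdd m j) (i := i)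
      (by simpa using hj)
    rw [Fin.append_left] at this
    exact this

lemma spanBefore_append_right (A : Fin k → L) (b : Fin m → L) (i : ℕ) :
    spanBefore R L (Fin.append A b) (k + i) =
      Submodule.span R (Set.range A) ⊔ spanBefore R L b i := by
  apply le_antisymm
  · rw [spanBefore_le_iff]
    intro j hj
    induction j using Fin.addCases with
    | left j =>
      rw [Fin.append_left]
      exact Submodule.mem_sup_left (Submodule.subset_span ⟨j, rfl⟩)
    | right j =>
      rw [Fin.append_right]
      rw [Fin.val_natAdd] at hj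
      exact Submodule.mem_sup_right (mem_spanBefore_of_lt b (by omega))
  · apply sup_le
    · rw [Submodule.span_le]
      rintro _ ⟨j, rfl⟩
      have := mem_spanBefore_of_lt (R := R) (Fin.append A b) (j := Fin.castAdd m j) (i := k + i)
        (by rw [Fin.val_castAdd]; omega)
      rw [Fin.append_left] at this
      exact this
    · rw [spanBefore_le_iff]
      intro j hj
      have := mem_spanBefore_of_lt (R := R) (Fin.append A b) (j := Fin.natAdd k j) (i := k + i)
        (by rw [Fin.val_natAdd]; omega)
      rw [Fin.append_right] at this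
      exact this

variable (g : L →ₗ[R] M)

lemma mem_append_spanBefore_iff (A : Fin k → L) (hA : Submodule.span R (Set.range A) = LinearMap.ker g)
    (b : Fin m → L) (i : ℕ) (v : L) :
    v ∈ spanBefore R L (Fin.append A b) (k + i) ↔ g v ∈ spanBefore R M (g ∘ b) i := by
  rw [spanBefore_append_right, hA, ← map_spanBefore, ← Submodule.mem_comap,
    Submodule.comap_map_eq, sup_comm]

lemma isAdmissible_append (A : Fin k → L) (hAadm : IsAdmissible R L A)
    (hA : Submodule.span R (Set.range A) = LinearMap.ker g) (b : Fin m → L)
    (hb : IsAdmissible R M (g ∘ b)) : IsAdmissible R L (Fin.append A b) := by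
  intro j r hr
  induction j using Fin.addCases with
  | left j =>
    rw [Fin.append_left, Fin.val_castAdd, spanBefore_append_left A b j (le_of_lt j.isLt)]
    exact hAadm j r hr
  | right j =>
    rw [Fin.append_right, Fin.val_natAdd, mem_append_spanBefore_iff g A hA, map_smul]
    exact hb j r hr

lemma span_range_append_eq_top (A : Fin k → L)
    (hA : Submodule.span R (Set.range A) = LinearMap.ker g) (b : Fin m → L)
    (hb : Submodule.span R (Set.range (g ∘ b)) = ⊤) :
    Submodule.span R (Set.range (Fin.append A b)) = ⊤ := by
  rw [eq_top_iff]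
  rintro v -
  rw [← spanBefore_of_le (Fin.append A b) (le_refl (k + m)), mem_append_spanBefore_iff g A hA,
    spanBefore_of_le (g ∘ b) (le_refl m), hb]
  trivial

end AppendSpan

section AppendMaps

variable {k m : ℕ} (g : L →ₗ[R] M) (A : Fin k → L) (hAadm : IsAdmissible R L A)
  (hA : Submodule.span R (Set.range A) = LinearMap.ker g)

/-- the admissible tuple `(A, b)` -/
def appAdm (b : Fin m → L) (hb : IsAdmissible R M (g ∘ b)) : Adm R L (k + m) :=
  ⟨Fin.append A b, isAdmissible_append g A hAadm hA b hb⟩

lemma appAdm_val (b : Fin m → L) (hb : IsAdmissible R M (g ∘ b)) :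
    (appAdm g A hAadm hA b hb).1 = Fin.append A b := rfl

lemma natAdd_ne_castAdd (i : Fin k) (j : Fin m) : Fin.natAdd k j ≠ Fin.castAdd m i := by
  intro h
  have := congrArg Fin.val h
  rw [Fin.val_natAdd, Fin.val_castAdd] at this
  have := i.isLt
  omega

/-- the symbol of `(A, b)` only depends on `g ∘ b` -/
lemma mkS_appAdm_congr (b b' : Fin m → L) (hb : IsAdmissible R M (g ∘ b))
    (hb' : IsAdmissible R M (g ∘ b')) (h : g ∘ b = g ∘ b') :
    mkS (appAdm g A hAadm hA b hb) = mkS (appAdm g A hAadm hA b' hb') := by
  classical
  set hyb : ℕ → Fin m → L := fun n j => if (j : ℕ) < n then b' j else b j with hhyb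
  have hq : ∀ n, g ∘ hyb n = g ∘ b := by
    intro n
    funext j
    simp only [hhyb, Function.comp_apply]
    split_ifs
    · exact (congrFun h j).symm
    · rfl
  have hadm : ∀ n, IsAdmissible R M (g ∘ hyb n) := by
    intro n; rw [hq]; exact hb
  have key : ∀ n, n ≤ m →
      mkS (appAdm g A hAadm hA b hb) = mkS (appAdm g A hAadm hA (hyb n) (hadm n)) := by
    intro n
    induction n with
    | zero =>
      intro _
      have h0 : hyb 0 = b := by funext j; simp [hhyb]
      have : appAdm g A hAadm hA b hb = appAdm g A hAadm hA (hyb 0) (hadm 0) := by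
        apply Subtype.ext
        rw [appAdm_val, appAdm_val, h0]
      rw [this]
    | succ n ih =>
      intro hn
      rw [ih (by omega)]
      have hnm : n < m := by omega
      have hrel := mkS_rel_b (appAdm g A hAadm hA (hyb n) (hadm n))
        (appAdm g A hAadm hA (hyb (n + 1)) (hadm (n + 1))) (Fin.natAdd k ⟨n, hnm⟩) 1 ?_ ?_
      · rw [hrel]; simp
      · intro j hj
        rw [appAdm_val, appAdm_val]
        induction j using Fin.addCases with
        | left i => rw [Fin.append_left, Fin.append_left]
        | right i =>
          have hin : (i : ℕ) ≠ n := by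
            intro hin
            apply hj
            congr 1
            exact Fin.ext hin
          rw [Fin.append_right, Fin.append_right]
          simp only [hhyb]
          by_cases h1 : (i : ℕ) < n
          · rw [if_pos h1, if_pos (by omega)]
          · rw [if_neg h1, if_neg (by omega)]
      · rw [appAdm_val, appAdm_val, Fin.append_right, Fin.append_right, Fin.val_natAdd,
          mem_append_spanBefore_iff g A hA, Units.val_one, one_smul, map_sub]
        have e1 : g (hyb n ⟨n, hnm⟩) = g (b ⟨n, hnm⟩) := congrFun (hq n) ⟨n, hnm⟩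
        have e2 : g (hyb (n + 1) ⟨n, hnm⟩) = g (b ⟨n, hnm⟩) := congrFun (hq (n + 1)) ⟨n, hnm⟩
        rw [e1, e2, sub_self]
        exact zero_mem _
  rw [key m le_rfl]
  have hl : hyb m = b' := by funext j; simp [hhyb]
  have : appAdm g A hAadm hA (hyb m) (hadm m) = appAdm g A hAadm hA b' hb' := by
    apply Subtype.ext
    rw [appAdm_val, appAdm_val, hl]
  rw [this]

variable (hg : Function.Surjective g)

/-- a set-theoretic section of `g` -/
noncomputable def secG : M → L := Function.surjInv hg

lemma g_secG (y : M) : g (secG g hg y) = y := Function.surjInv_eq hg y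

lemma g_comp_secG (ē : Fin m → M) : g ∘ (secG g hg ∘ ē) = ē := by
  funext j
  exact g_secG g hg (ē j)

/-- the canonical lift `(A, sec ∘ ē)` -/
noncomputable def liftApp (ē : Adm R M m) : Adm R L (k + m) :=
  appAdm g A hAadm hA (secG g hg ∘ ē.1) (by rw [g_comp_secG]; exact ē.2)

lemma liftApp_val (ē : Adm R M m) :
    (liftApp g A hAadm hA hg ē).1 = Fin.append A (secG g hg ∘ ē.1) := rfl

lemma liftApp_natAdd (ē : Adm R M m) (j : Fin m) :
    (liftApp g A hAadm hA hg ē).1 (Fin.natAdd k j) = secG g hg (ē.1 j) := by
  rw [liftApp_val, Fin.append_right]; rfl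

lemma liftApp_castAdd (ē : Adm R M m) (i : Fin k) :
    (liftApp g A hAadm hA hg ē).1 (Fin.castAdd m i) = A i := by
  rw [liftApp_val, Fin.append_left]

lemma mem_liftApp_spanBefore_iff (ē : Adm R M m) (i : ℕ) (v : L) :
    v ∈ spanBefore R L (liftApp g A hAadm hA hg ē).1 (k + i) ↔ g v ∈ spanBefore R M ē.1 i := by
  rw [liftApp_val, mem_append_spanBefore_iff g A hA, g_comp_secG]

/-- prepend `A`: `Det M → Det L` -/
noncomputable def PhiApp : DetOfLen R M m →ₗ[ResidueField R] DetOfLen R L (k + m) :=
  liftDet (fun ē => mkS (liftApp g A hAadm hA hg ē))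
    (by
      intro ē a h
      apply mkS_eq_zero _ (Fin.natAdd k a)
      rw [Fin.val_natAdd, mem_liftApp_spanBefore_iff, liftApp_natAdd, g_secG]
      exact h)
    (by
      intro ē ē' a c hag h
      apply mkS_rel_b _ _ (Fin.natAdd k a) c
      · intro j hj
        induction j using Fin.addCases with
        | left i => rw [liftApp_castAdd, liftApp_castAdd]
        | right i =>
          have hi : i ≠ a := fun hi => hj (by rw [hi])
          rw [liftApp_natAdd, liftApp_natAdd, hag i hi]
      · rw [Fin.val_natAdd, mem_liftApp_spanBefore_iff, liftApp_natAdd, liftApp_natAdd, map_sub,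
          map_smul, g_secG, g_secG]
        exact h)
    (by
      intro ē ē' a b hab h he'
      apply mkS_rel_c _ _ (Fin.natAdd k a) (Fin.natAdd k b)
      · rw [Fin.val_natAdd, Fin.val_natAdd, ← hab]; ring
      · intro r hr
        rw [Fin.val_natAdd, mem_liftApp_spanBefore_iff, liftApp_natAdd, map_smul, g_secG]
        exact h r hr
      · funext j
        rw [Function.comp_apply]
        induction j using Fin.addCases with
        | left i =>
          rw [Equiv.swap_apply_of_ne_of_ne (natAdd_ne_castAdd i a).symm
            (natAdd_ne_castAdd i b).symm, liftApp_castAdd, liftApp_castAdd]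
        | right i =>
          have : Equiv.swap (Fin.natAdd k a) (Fin.natAdd k b) (Fin.natAdd k i) =
              Fin.natAdd k (Equiv.swap a b i) :=
            (Fin.natAdd_injective m k).swap_apply a b i
          rw [this, liftApp_natAdd, liftApp_natAdd, he']
          rfl)

lemma PhiApp_mkS (ē : Adm R M m) :
    PhiApp g A hAadm hA hg (mkS ē) = mkS (liftApp g A hAadm hA hg ē) := by
  unfold PhiApp
  rw [liftDet_mkS]

/-- the image tuple `g ∘ b` -/
def gAdm (b : Fin m → L) (hb : IsAdmissible R M (g ∘ b)) : Adm R M m := ⟨g ∘ b, hb⟩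

lemma mkS_appAdm_eq_PhiApp (b : Fin m → L) (hb : IsAdmissible R M (g ∘ b)) :
    mkS (appAdm g A hAadm hA b hb) = PhiApp g A hAadm hA hg (mkS (gAdm g b hb)) := by
  rw [PhiApp_mkS]
  unfold liftApp
  apply mkS_appAdm_congr
  show g ∘ b = g ∘ (secG g hg ∘ (g ∘ b))
  rw [g_comp_secG]

end AppendMaps

end Groth.Agent.R2.H71.CycDetBasic
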