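import Mathlib
import Groth.Prelude.Def_CycDet
import Groth.Agent.R2.H71CycDetBasic
import Groth.Agent.R2.H71CycDetLen
import Groth.Agent.R2.H71CycDetPsi

/-!
# Determinants of finite length modules: the contraction map respects relation (c) (helper71)
-/

set_option autoImplicit false
set_option linter.unusedSectionVars false
universe u v

namespace Groth.Agent.R2.H71.CycDetBasic

open IsLocalRing CycDet

variable {R : Type u} [CommRing R] [IsLocalRing R] {M : Type v} [AddCommGroup M] [Module R M]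

section Index

variable {n : ℕ}

lemma succAbove_val (i : Fin (n + 1)) (j : Fin n) :
    ((i.succAbove j : Fin (n + 1)) : ℕ) = if (j : ℕ) < i then (j : ℕ) else (j : ℕ) + 1 := by
  unfold Fin.succAbove
  simp only [Fin.lt_def, Fin.val_castSucc]
  split_ifs <;> simp

lemma swap_val_lt (a b : Fin n) (hab : (b : ℕ) + 1 = a) (k : ℕ) (hk : k ≠ a) (j : Fin n)
    (hj : (j : ℕ) < k) : ((Equiv.swap a b j : Fin n) : ℕ) < k := by
  by_cases hja : j = a
  · subst hja; rw [Equiv.swap_apply_left]; omega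
  · by_cases hjb : j = b
    · subst hjb; rw [Equiv.swap_apply_right]; omega
    · rw [Equiv.swap_apply_of_ne_of_ne hja hjb]; exact hj

lemma spanBefore_swap (e : Fin n → M) (a b : Fin n) (hab : (b : ℕ) + 1 = a) (k : ℕ)
    (hk : k ≠ a) : spanBefore R M (e ∘ Equiv.swap a b) k = spanBefore R M e k := by
  apply le_antisymm
  · rw [spanBefore_le_iff]
    intro j hj
    exact mem_spanBefore_of_lt e (swap_val_lt a b hab k hk j hj)
  · rw [spanBefore_le_iff]
    intro j hj
    have := mem_spanBefore_of_lt (R := R) (e ∘ Equiv.swap a b) (swap_val_lt a b hab k hk j hj)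
    rw [Function.comp_apply, Equiv.swap_apply_self] at this
    exact this

lemma comp_swap_comp_swap (e : Fin n → M) (a b : Fin n) :
    (e ∘ Equiv.swap a b) ∘ Equiv.swap a b = e := by
  funext j
  simp

lemma succAbove_succ_eq_of_ne (b' : Fin n) (j : Fin n) (hj : j ≠ b') :
    b'.succ.succAbove j = b'.castSucc.succAbove j := by
  apply Fin.ext
  rw [succAbove_val, succAbove_val]
  have : (j : ℕ) ≠ b' := fun h => hj (Fin.ext h)
  simp only [Fin.val_succ, Fin.val_castSucc]
  split_ifs <;> omega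

lemma swap_succAbove_succ_of_ne (b' : Fin n) (j : Fin n) (hj : j ≠ b') :
    Equiv.swap b'.succ b'.castSucc (b'.succ.succAbove j) = b'.succ.succAbove j := by
  have h1 : b'.succ.succAbove j ≠ b'.succ := Fin.succAbove_ne _ _
  have h2 : b'.succ.succAbove j ≠ b'.castSucc := by
    rw [← Fin.succAbove_succ_self b']
    exact fun h => hj (Fin.succAbove_right_injective h)
  exact Equiv.swap_apply_of_ne_of_ne h1 h2

/-- key index identity: removing `b'+1` after swapping equals removing `b'` -/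
lemma swap_succAbove_succ (b' : Fin n) (j : Fin n) :
    Equiv.swap b'.succ b'.castSucc (b'.succ.succAbove j) = b'.castSucc.succAbove j := by
  by_cases hj : j = b'
  · subst hj
    rw [Fin.succAbove_succ_self, Equiv.swap_apply_right, Fin.succAbove_castSucc_self]
  · rw [swap_succAbove_succ_of_ne b' j hj, succAbove_succ_eq_of_ne b' j hj]

lemma swap_succAbove_castSucc (b' : Fin n) (j : Fin n) :
    Equiv.swap b'.succ b'.castSucc (b'.castSucc.succAbove j) = b'.succ.succAbove j := by
  rw [← swap_succAbove_succ, Equiv.swap_apply_self]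

end Index

section PivotSwap

variable {l : ℕ} {x₀ : M}

lemma IsPivot.swap {e : Fin (l + 1) → M} {i : Fin (l + 1)} {u : Rˣ} (hp : IsPivot x₀ e i u)
    (a b : Fin (l + 1)) (hab : (b : ℕ) + 1 = a) (hia : i ≠ a) (hib : i ≠ b) :
    IsPivot x₀ (e ∘ Equiv.swap a b) i u := by
  have hia' : (i : ℕ) ≠ a := fun h => hia (Fin.ext h)
  refine ⟨?_, ?_⟩
  · rw [spanBefore_swap e a b hab i hia']; exact hp.notMem
  · rw [spanBefore_swap e a b hab i hia', Function.comp_apply,
      Equiv.swap_apply_of_ne_of_ne hia hib]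
    exact hp.mem

end PivotSwap

section PsiRelC

variable {l : ℕ} (x₀ : M)

lemma psiFun_rel_c1 (e e' : Adm R M (l + 1)) (a b : Fin (l + 1)) (hab : (b : ℕ) + 1 = a)
    (h : ∀ r ∈ maximalIdeal R, r • e.1 a ∈ spanBefore R M e.1 b)
    (he' : e'.1 = e.1 ∘ Equiv.swap a b) (i : Fin (l + 1)) (u : Rˣ) (hp : IsPivot x₀ e.1 i u)
    (hia : i ≠ a) (hib : i ≠ b) : psiFun x₀ e = - psiFun x₀ e' := by
  have hp' : IsPivot x₀ e'.1 i u := by rw [he']; exact hp.swap a b hab hia hib
  rw [psiFun_eq x₀ e i u hp, psiFun_eq x₀ e' i u hp']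
  unfold psiVal
  obtain ⟨a', rfl⟩ := Fin.exists_succAbove_eq (Ne.symm hia)
  obtain ⟨b', rfl⟩ := Fin.exists_succAbove_eq (Ne.symm hib)
  have hab' : (b' : ℕ) + 1 = a' := by
    rw [succAbove_val, succAbove_val] at hab
    split_ifs at hab <;> omega
  have hrel := mkS_rel_c (omitAdm x₀ e i u hp) (omitAdm x₀ e' i u hp') a' b' hab' ?_ ?_
  · rw [hrel, smul_neg]
  · intro r hr
    rw [omitAdm_apply, ← map_smul]
    exact hp.mkQ_mem b' (h r hr)
  · funext j
    rw [omitAdm_apply, Function.comp_apply, omitAdm_apply, he', Function.comp_apply,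
      (Fin.succAbove_right_injective (p := i)).swap_apply a' b' j]

lemma spanBefore_swap_castSucc (e : Fin (l + 1) → M) (b' : Fin l) :
    spanBefore R M (e ∘ Equiv.swap b'.succ b'.castSucc) (b'.castSucc : Fin (l + 1)) =
      spanBefore R M e (b'.castSucc : Fin (l + 1)) :=
  spanBefore_swap e _ _ (by simp) _ (by simp)

lemma psiFun_rel_c2a (e e' : Adm R M (l + 1)) (b' : Fin l)
    (he' : e'.1 = e.1 ∘ Equiv.swap b'.succ b'.castSucc) (u u' : Rˣ)
    (hp : IsPivot x₀ e.1 b'.castSucc u) (hp' : IsPivot x₀ e'.1 b'.succ u') :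
    psiFun x₀ e = - psiFun x₀ e' := by
  have hp'' : IsPivot x₀ e'.1 b'.succ u := by
    refine ⟨hp'.notMem, ?_⟩
    have h1 : e'.1 b'.succ = e.1 b'.castSucc := by
      rw [he', Function.comp_apply, Equiv.swap_apply_left]
    rw [h1]
    have h2 : spanBefore R M e'.1 (b'.castSucc : Fin (l + 1)) =
        spanBefore R M e.1 (b'.castSucc : Fin (l + 1)) := by
      rw [he']; exact spanBefore_swap_castSucc e.1 b'
    have h3 : ((b'.castSucc : Fin (l + 1)) : ℕ) ≤ (b'.succ : Fin (l + 1)) := by simp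
    apply spanBefore_mono e'.1 h3
    rw [h2]; exact hp.mem
  rw [psiFun_eq x₀ e _ u hp, psiFun_eq x₀ e' _ u hp'']
  unfold psiVal
  have hadm : omitAdm x₀ e' b'.succ u hp'' = omitAdm x₀ e b'.castSucc u hp := by
    apply Subtype.ext
    funext j
    rw [omitAdm_apply, omitAdm_apply, he', Function.comp_apply, swap_succAbove_succ]
  rw [hadm, ← neg_smul]
  congr 1
  rw [Fin.val_succ, Fin.val_castSucc, pow_succ]
  ring

lemma mkS_omit_eq_zero_of_both (e e' : Adm R M (l + 1)) (b' : Fin l)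
    (he' : e'.1 = e.1 ∘ Equiv.swap b'.succ b'.castSucc) (u u' : Rˣ)
    (hp : IsPivot x₀ e.1 b'.castSucc u) (hp' : IsPivot x₀ e'.1 b'.castSucc u') :
    mkS (omitAdm x₀ e b'.castSucc u hp) = 0 := by
  apply mkS_eq_zero _ b'
  rw [omitAdm_apply, Fin.succAbove_castSucc_self]
  have h1 : e'.1 b'.castSucc = e.1 b'.succ := by
    rw [he', Function.comp_apply, Equiv.swap_apply_right]
  have h2 : spanBefore R M e'.1 (b'.castSucc : Fin (l + 1)) =
      spanBefore R M e.1 (b'.castSucc : Fin (l + 1)) := by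
    rw [he']; exact spanBefore_swap_castSucc e.1 b'
  have h3 := hp'.mkQ_entry_mem
  rw [h1, h2] at h3
  refine map_spanBefore_le_of_le e.1 b'.castSucc b' _ le_rfl ?_ h3
  rw [Fin.succAbove_castSucc_self]
  simp

lemma psiFun_rel_c2b (e e' : Adm R M (l + 1)) (b' : Fin l)
    (he' : e'.1 = e.1 ∘ Equiv.swap b'.succ b'.castSucc) (u u' : Rˣ)
    (hp : IsPivot x₀ e.1 b'.castSucc u) (hp' : IsPivot x₀ e'.1 b'.castSucc u') :
    psiFun x₀ e = - psiFun x₀ e' := by
  have he : e.1 = e'.1 ∘ Equiv.swap b'.succ b'.castSucc := by rw [he', comp_swap_comp_swap]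
  rw [psiFun_eq x₀ e _ u hp, psiFun_eq x₀ e' _ u' hp']
  unfold psiVal
  rw [mkS_omit_eq_zero_of_both x₀ e e' b' he' u u' hp hp',
    mkS_omit_eq_zero_of_both x₀ e' e b' he u' u hp' hp, smul_zero, smul_zero, neg_zero]

lemma spanBefore_succ' (e : Fin (l + 1) → M) (b' : Fin l) :
    spanBefore R M e (b'.succ : Fin (l + 1)) =
      spanBefore R M e (b'.castSucc : Fin (l + 1)) ⊔ Submodule.span R {e b'.castSucc} := by
  have := spanBefore_succ (R := R) e b'.castSucc
  rw [Fin.val_castSucc] at this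
  rw [Fin.val_succ, Fin.val_castSucc]
  exact this

lemma psiFun_rel_c3b (e e' : Adm R M (l + 1)) (b' : Fin l)
    (he' : e'.1 = e.1 ∘ Equiv.swap b'.succ b'.castSucc) (α β : Rˣ)
    (hp : IsPivot x₀ e.1 b'.succ α) (hp' : IsPivot x₀ e'.1 b'.succ β) :
    psiFun x₀ e = - psiFun x₀ e' := by
  have h1 : e'.1 b'.succ = e.1 b'.castSucc := by
    rw [he', Function.comp_apply, Equiv.swap_apply_left]
  have h1' : e'.1 b'.castSucc = e.1 b'.succ := by
    rw [he', Function.comp_apply, Equiv.swap_apply_right]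
  have hW : spanBefore R M e'.1 (b'.castSucc : Fin (l + 1)) =
      spanBefore R M e.1 (b'.castSucc : Fin (l + 1)) := by
    rw [he']; exact spanBefore_swap_castSucc e.1 b'
  have hsa := spanBefore_succ' (R := R) e.1 b'
  have hsa' := spanBefore_succ' (R := R) e'.1 b'
  rw [hW, h1'] at hsa'
  have hmem := hp.mem
  rw [hsa, Submodule.mem_sup] at hmem
  obtain ⟨w, hw, y, hy, hwy⟩ := hmem
  obtain ⟨t, rfl⟩ := Submodule.mem_span_singleton.mp hy
  have hx : x₀ = w + t • e.1 b'.castSucc + (α : R) • e.1 b'.succ := by rw [hwy]; abel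
  have htu : IsUnit t := by
    by_contra hnu
    apply hp'.notMem
    rw [hsa']
    have h2 : t • e.1 b'.castSucc ∈ spanBefore R M e.1 (b'.castSucc : Fin (l + 1)) :=
      e.2 b'.castSucc t ((mem_maximalIdeal t).mpr hnu)
    have h3 : x₀ = (w + t • e.1 b'.castSucc) + (α : R) • e.1 b'.succ := hx
    rw [h3]
    exact Submodule.add_mem_sup (add_mem hw h2)
      (Submodule.smul_mem _ _ (Submodule.mem_span_singleton_self _))
  obtain ⟨t, rfl⟩ := htu
  have hp'' : IsPivot x₀ e'.1 b'.succ t := by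
    refine ⟨hp'.notMem, ?_⟩
    rw [h1, hsa']
    have h3 : x₀ - (t : R) • e.1 b'.castSucc = w + (α : R) • e.1 b'.succ := by
      conv_lhs => rw [hx]
      abel
    rw [h3]
    exact Submodule.add_mem_sup hw (Submodule.smul_mem _ _ (Submodule.mem_span_singleton_self _))
  rw [psiFun_eq x₀ e _ α hp, psiFun_eq x₀ e' _ t hp'']
  unfold psiVal
  have hrel := mkS_rel_b (omitAdm x₀ e b'.succ α hp) (omitAdm x₀ e' b'.succ t hp'') b'
    (-(t⁻¹ * α)) ?_ ?_
  · rw [hrel, smul_smul, ← neg_smul]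
    congr 1
    have hα : residue R (α : R) ≠ 0 := by
      intro h0
      rw [residue_eq_zero_iff] at h0
      exact (mem_maximalIdeal _).mp h0 α.isUnit
    rw [Units.val_neg, Units.val_mul, map_neg, map_mul, map_units_inv]
    field_simp
  · intro j hj
    rw [omitAdm_apply, omitAdm_apply, he', Function.comp_apply, swap_succAbove_succ_of_ne b' j hj]
  · rw [omitAdm_apply, omitAdm_apply, Fin.succAbove_succ_self, h1', ← map_smul, ← map_sub]
    have hv : e.1 b'.castSucc - ((-(t⁻¹ * α) : Rˣ) : R) • e.1 b'.succ =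
        (↑t⁻¹ : R) • x₀ + -((↑t⁻¹ : R) • w) := by
      conv_rhs => rw [hx]
      rw [Units.val_neg, Units.val_mul, smul_add, smul_add, smul_smul, smul_smul, Units.inv_mul,
        one_smul, neg_smul]
      abel
    rw [hv, map_add]
    have h0 : (Submodule.span R {x₀}).mkQ ((↑t⁻¹ : R) • x₀) = 0 := by
      rw [Submodule.mkQ_apply, Submodule.Quotient.mk_eq_zero]
      exact Submodule.smul_mem _ _ (Submodule.mem_span_singleton_self x₀)
    rw [h0, zero_add]
    refine map_spanBefore_le_of_le e.1 b'.succ b' _ ?_ ?_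
      (Submodule.mem_map_of_mem (neg_mem (Submodule.smul_mem _ _ hw)))
    · simp
    · rw [Fin.succAbove_succ_self]

lemma psiFun_rel_c (hx₀ : x₀ ≠ 0) (e e' : Adm R M (l + 1)) (a b : Fin (l + 1))
    (hab : (b : ℕ) + 1 = a) (h : ∀ r ∈ maximalIdeal R, r • e.1 a ∈ spanBefore R M e.1 b)
    (he' : e'.1 = e.1 ∘ Equiv.swap a b) : psiFun x₀ e = - psiFun x₀ e' := by
  have he : e.1 = e'.1 ∘ Equiv.swap a b := by rw [he', comp_swap_comp_swap]
  have hrange : Set.range e'.1 = Set.range e.1 := by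
    rw [he']; exact (Equiv.swap a b).surjective.range_comp e.1
  by_cases hmem : x₀ ∈ Submodule.span R (Set.range e.1)
  · obtain ⟨i, u, hp⟩ := exists_isPivot e.2 hx₀ hmem
    obtain ⟨i', u', hp'⟩ := exists_isPivot e'.2 hx₀ (by rw [hrange]; exact hmem)
    by_cases hi : i ≠ a ∧ i ≠ b
    · exact psiFun_rel_c1 x₀ e e' a b hab h he' i u hp hi.1 hi.2
    · by_cases hi' : i' ≠ a ∧ i' ≠ b
      · exfalso
        have hp2 : IsPivot x₀ e.1 i' u' := by rw [he]; exact hp'.swap a b hab hi'.1 hi'.2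
        obtain ⟨rfl, -⟩ := hp.unique hp2
        exact hi hi'
      · have hbl : (b : ℕ) < l := by have := a.isLt; omega
        obtain ⟨b', rfl, rfl⟩ : ∃ b' : Fin l, b = b'.castSucc ∧ a = b'.succ := by
          refine ⟨⟨b, hbl⟩, Fin.ext rfl, Fin.ext ?_⟩
          rw [Fin.val_succ]; exact hab.symm
        have hi1 : i = b'.succ ∨ i = b'.castSucc := by
          by_contra hcon
          push Not at hcon
          exact hi hcon
        have hi1' : i' = b'.succ ∨ i' = b'.castSucc := by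
          by_contra hcon
          push Not at hcon
          exact hi' hcon
        rcases hi1 with rfl | rfl <;> rcases hi1' with rfl | rfl
        · exact psiFun_rel_c3b x₀ e e' b' he' u u' hp hp'
        · have := psiFun_rel_c2a x₀ e' e b' he u' u hp' hp
          rw [this, neg_neg]
        · exact psiFun_rel_c2a x₀ e e' b' he' u u' hp hp'
        · exact psiFun_rel_c2b x₀ e e' b' he' u u' hp hp'
  · rw [psiFun_eq_zero_of_notMem x₀ e hmem,
      psiFun_eq_zero_of_notMem x₀ e' (by rw [hrange]; exact hmem), neg_zero]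

/-- the contraction map along a nonzero socle element -/
noncomputable def psi (hx₀ : x₀ ≠ 0) :
    DetOfLen R M (l + 1) →ₗ[ResidueField R] DetOfLen R (M ⧸ Submodule.span R {x₀}) l :=
  liftDet (psiFun x₀) (psiFun_rel_a x₀) (psiFun_rel_b x₀ hx₀) (psiFun_rel_c x₀ hx₀)

lemma psi_mkS (hx₀ : x₀ ≠ 0) (e : Adm R M (l + 1)) : psi x₀ hx₀ (mkS e) = psiFun x₀ e := by
  unfold psi
  rw [liftDet_mkS]

end PsiRelC

end Groth.Agent.R2.H71.CycDetBasic
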