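import Mathlib
import Groth.Prelude.Def_CycDet
import Groth.Agent.R2.H71CycDetBasic
import Groth.Agent.R2.H71CycDetLen
import Groth.Agent.R2.H71CycDetPsi
import Groth.Agent.R2.H71CycDetPsiC

/-!
# Determinants of finite length modules: symbols of generating tuples are nonzero (helper71)
-/

set_option autoImplicit false
set_option linter.unusedSectionVars false
universe u v

namespace Groth.Agent.R2.H71.CycDetBasic

open IsLocalRing CycDet

variable {R : Type u} [CommRing R] [IsLocalRing R] {M : Type v} [AddCommGroup M] [Module R M]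

/-- the symbol of a generating admissible tuple of the right length is nonzero -/
lemma mkS_ne_zero_of_generating : ∀ (l : ℕ) (M : Type v) [AddCommGroup M] [Module R M],
    Module.length R M = (l : ℕ∞) → ∀ e : Adm R M l, Submodule.span R (Set.range e.1) = ⊤ →
    mkS e ≠ 0 := by
  intro l
  induction l with
  | zero =>
    intro M _ _ _ e _ h0
    have h1 := liftDet_mkS (fun _ : Adm R M 0 => (1 : ResidueField R)) (fun _ a => a.elim0)
      (fun _ _ a => a.elim0) (fun _ _ a => a.elim0) e
    rw [h0, map_zero] at h1
    exact zero_ne_one h1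
  | succ l ih =>
    intro M _ _ hlen e he h0
    have hB := notMem_spanBefore_of_span_eq_top (l + 1) M e.1 e.2 hlen he
    have hx₀ : e.1 0 ≠ 0 := by
      have := hB 0
      rw [Fin.val_zero, spanBefore_zero, Submodule.mem_bot] at this
      exact this
    have hsoc := smul_zero_of_isAdmissible e.1 e.2
    have hp : IsPivot (e.1 0) e.1 0 (1 : Rˣ) := by
      refine ⟨?_, ?_⟩
      · rw [Fin.val_zero, spanBefore_zero, Submodule.mem_bot]; exact hx₀
      · rw [Units.val_one, one_smul, sub_self]; exact zero_mem _
    have h1 := psi_mkS (e.1 0) hx₀ e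
    rw [h0, map_zero, psiFun_eq (e.1 0) e 0 1 hp] at h1
    unfold psiVal at h1
    have h2 : omitAdm (e.1 0) e 0 1 hp = tailAdm e := by
      apply Subtype.ext
      funext j
      rw [omitAdm_apply]
      rfl
    rw [h2] at h1
    simp only [Fin.val_zero, pow_zero, Units.val_one, map_one, inv_one, mul_one, one_smul] at h1
    exact ih (M ⧸ Submodule.span R {e.1 0}) (length_quot_of_ne_zero _ hsoc hx₀ l hlen) (tailAdm e)
      ((span_range_eq_top_iff e.1).mp he) h1.symm

theorem symbol_ne_zero_of_span_eq_top (hM : IsFiniteLength R M)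
    (e : Adm R M (Module.length R M).toNat) (he : Submodule.span R (Set.range e.1) = ⊤) :
    symbol R M e ≠ 0 :=
  mkS_ne_zero_of_generating _ M (ENat.natCast_toNat (Module.length_ne_top_iff.mpr hM)).symm e he

end Groth.Agent.R2.H71.CycDetBasic
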