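import Mathlib
import Groth.Prelude.Def_CycDet
import Groth.Agent.R2.H71CycDetBasic
import Groth.Agent.R2.H71CycDetLen
import Groth.Agent.R2.H71CycDetPhi

/-!
# Determinants of finite length modules: one-dimensionality (spanning part) (helper71)
-/

set_option autoImplicit false
set_option linter.unusedSectionVars false
universe u v

namespace Groth.Agent.R2.H71.CycDetBasic

open IsLocalRing CycDet

variable {R : Type u} [CommRing R] [IsLocalRing R] {M : Type v} [AddCommGroup M] [Module R M]

section LiftChange

variable {l : ℕ} (x : M) (hx : ∀ r ∈ maximalIdeal R, r • x = 0)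

/-- the symbol of `(x, f)` only depends on `π ∘ f` -/
lemma mkS_consAdm_congr (f f' : Fin l → M)
    (hf : IsAdmissible R (M ⧸ Submodule.span R {x}) ((Submodule.span R {x}).mkQ ∘ f))
    (hf' : IsAdmissible R (M ⧸ Submodule.span R {x}) ((Submodule.span R {x}).mkQ ∘ f'))
    (h : (Submodule.span R {x}).mkQ ∘ f = (Submodule.span R {x}).mkQ ∘ f') :
    mkS (consAdm x hx f hf) = mkS (consAdm x hx f' hf') := by
  classical
  set hyb : ℕ → Fin l → M := fun k j => if (j : ℕ) < k then f' j else f j with hhyb
  have hq : ∀ k, (Submodule.span R {x}).mkQ ∘ hyb k = (Submodule.span R {x}).mkQ ∘ f := by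
    intro k
    funext j
    simp only [hhyb, Function.comp_apply]
    split_ifs
    · exact (congrFun h j).symm
    · rfl
  have hadm : ∀ k, IsAdmissible R (M ⧸ Submodule.span R {x})
      ((Submodule.span R {x}).mkQ ∘ hyb k) := by
    intro k; rw [hq]; exact hf
  have key : ∀ k, k ≤ l → mkS (consAdm x hx f hf) = mkS (consAdm x hx (hyb k) (hadm k)) := by
    intro k
    induction k with
    | zero =>
      intro _
      have h0 : hyb 0 = f := by funext j; simp [hhyb]
      have : consAdm x hx f hf = consAdm x hx (hyb 0) (hadm 0) := by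
        apply Subtype.ext
        show (Fin.cons x f : Fin (l + 1) → M) = Fin.cons x (hyb 0)
        rw [h0]
      rw [this]
    | succ k ih =>
      intro hk
      rw [ih (by omega)]
      have hkl : k < l := by omega
      have hrel := mkS_rel_b (consAdm x hx (hyb k) (hadm k)) (consAdm x hx (hyb (k + 1)) (hadm (k + 1)))
        (Fin.succ ⟨k, hkl⟩) 1 ?_ ?_
      · rw [hrel]; simp
      · intro j hj
        induction j using Fin.cases with
        | zero => simp [consAdm]
        | succ i =>
          have hik : (i : ℕ) ≠ k := by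
            intro hik
            apply hj
            congr 1
            exact Fin.ext hik
          simp only [consAdm, Fin.cons_succ, hhyb]
          by_cases h1 : (i : ℕ) < k
          · rw [if_pos h1, if_pos (by omega)]
          · rw [if_neg h1, if_neg (by omega)]
      · simp only [consAdm, Fin.cons_succ, Fin.val_succ, Units.val_one, one_smul]
        rw [mem_cons_spanBefore_iff, map_sub]
        have e1 : (Submodule.span R {x}).mkQ (hyb k ⟨k, hkl⟩) = (Submodule.span R {x}).mkQ (f ⟨k, hkl⟩) :=
          congrFun (hq k) ⟨k, hkl⟩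
        have e2 : (Submodule.span R {x}).mkQ (hyb (k + 1) ⟨k, hkl⟩) =
            (Submodule.span R {x}).mkQ (f ⟨k, hkl⟩) := congrFun (hq (k + 1)) ⟨k, hkl⟩
        rw [e1, e2, sub_self]
        exact zero_mem _
  rw [key l le_rfl]
  have hl : hyb l = f' := by funext j; simp [hhyb]
  have : consAdm x hx (hyb l) (hadm l) = consAdm x hx f' hf' := by
    apply Subtype.ext
    show (Fin.cons x (hyb l) : Fin (l + 1) → M) = Fin.cons x f'
    rw [hl]
  rw [this]

/-- the image tuple in the quotient -/
def quotAdm (x : M) (f : Fin l → M)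
    (hf : IsAdmissible R (M ⧸ Submodule.span R {x}) ((Submodule.span R {x}).mkQ ∘ f)) :
    Adm R (M ⧸ Submodule.span R {x}) l := ⟨(Submodule.span R {x}).mkQ ∘ f, hf⟩

lemma mkS_consAdm_eq_phi (f : Fin l → M)
    (hf : IsAdmissible R (M ⧸ Submodule.span R {x}) ((Submodule.span R {x}).mkQ ∘ f)) :
    mkS (consAdm x hx f hf) = phi x hx (mkS (quotAdm x f hf)) := by
  rw [phi_mkS]
  unfold liftAdm
  apply mkS_consAdm_congr
  show (Submodule.span R {x}).mkQ ∘ f =
    (Submodule.span R {x}).mkQ ∘ (sec x ∘ (Submodule.span R {x}).mkQ ∘ f)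
  rw [mkQ_comp_sec]

lemma same_head (f f' : Fin l → M)
    (hf : IsAdmissible R (M ⧸ Submodule.span R {x}) ((Submodule.span R {x}).mkQ ∘ f))
    (hf' : IsAdmissible R (M ⧸ Submodule.span R {x}) ((Submodule.span R {x}).mkQ ∘ f'))
    (c : ResidueField R)
    (h : mkS (quotAdm x f' hf') = c • mkS (quotAdm x f hf)) :
    mkS (consAdm x hx f' hf') = c • mkS (consAdm x hx f hf) := by
  rw [mkS_consAdm_eq_phi, mkS_consAdm_eq_phi, h, map_smul]

lemma exists_consAdm (e : Adm R M (l + 1)) (x : M) (h0 : e.1 0 = x) :
    ∃ (hx : ∀ r ∈ maximalIdeal R, r • x = 0) (f : Fin l → M)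
      (hf : IsAdmissible R (M ⧸ Submodule.span R {x}) ((Submodule.span R {x}).mkQ ∘ f)),
      e = consAdm x hx f hf := by
  subst h0
  refine ⟨smul_zero_of_isAdmissible e.1 e.2, Fin.tail e.1, isAdmissible_tail e.1 e.2, ?_⟩
  apply Subtype.ext
  simp only [consAdm]
  exact (Fin.cons_self_tail e.1).symm

lemma exists_consAdm' (e : Adm R M (l + 1)) :
    ∃ (x : M) (hx : ∀ r ∈ maximalIdeal R, r • x = 0) (f : Fin l → M)
      (hf : IsAdmissible R (M ⧸ Submodule.span R {x}) ((Submodule.span R {x}).mkQ ∘ f)),
      e = consAdm x hx f hf := by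
  obtain ⟨hx, f, hf, h⟩ := exists_consAdm e (e.1 0) rfl
  exact ⟨e.1 0, hx, f, hf, h⟩

lemma fin_one_eq_zero (j : Fin (0 + 1)) : j = 0 := by
  apply Fin.ext
  have := j.isLt
  simp only [Fin.val_zero]
  omega

end LiftChange

section Steinitz

lemma span_range_cons_eq_top_iff {l : ℕ} (x : M) (f : Fin l → M) :
    Submodule.span R (Set.range (Fin.cons x f : Fin (l + 1) → M)) = ⊤ ↔
      Submodule.span R (Set.range ((Submodule.span R {x}).mkQ ∘ f)) = ⊤ := by
  rw [← spanBefore_of_le (Fin.cons x f : Fin (l + 1) → M) (le_refl (l + 1)),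
    ← spanBefore_of_le ((Submodule.span R {x}).mkQ ∘ f) (le_refl l)]
  constructor
  · intro h
    rw [eq_top_iff]
    rintro y -
    obtain ⟨v, rfl⟩ := Submodule.mkQ_surjective _ y
    rw [← mem_cons_spanBefore_iff, h]
    trivial
  · intro h
    rw [eq_top_iff]
    rintro v -
    rw [mem_cons_spanBefore_iff, h]
    trivial

/-- admissibility after swapping the first two entries -/
lemma isAdmissible_cons_cons_swap {l : ℕ} (x z : M) (h : Fin l → M)
    (hz : ∀ r ∈ maximalIdeal R, r • z = 0) (hx : ∀ r ∈ maximalIdeal R, r • x = 0)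
    (hg : IsAdmissible R M (Fin.cons x (Fin.cons z h) : Fin (l + 2) → M)) :
    IsAdmissible R M (Fin.cons z (Fin.cons x h) : Fin (l + 2) → M) := by
  intro i r hr
  induction i using Fin.cases with
  | zero => rw [Fin.cons_zero, hz r hr]; exact zero_mem _
  | succ i =>
    induction i using Fin.cases with
    | zero => rw [Fin.cons_succ, Fin.cons_zero, hx r hr]; exact zero_mem _
    | succ j =>
      have := hg j.succ.succ r hr
      rw [Fin.cons_succ, Fin.cons_succ, Fin.val_succ, Fin.val_succ, spanBefore_cons,
        spanBefore_cons] at this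
      rw [Fin.cons_succ, Fin.cons_succ, Fin.val_succ, Fin.val_succ, spanBefore_cons,
        spanBefore_cons, sup_left_comm]
      exact this

lemma span_range_cons_cons_swap {l : ℕ} (x z : M) (h : Fin l → M) :
    Submodule.span R (Set.range (Fin.cons z (Fin.cons x h) : Fin (l + 2) → M)) =
      Submodule.span R (Set.range (Fin.cons x (Fin.cons z h) : Fin (l + 2) → M)) := by
  rw [← spanBefore_of_le _ (le_refl (l + 2)), ← spanBefore_of_le _ (le_refl (l + 2)),
    spanBefore_cons, spanBefore_cons, spanBefore_cons, spanBefore_cons, sup_left_comm]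

/-- Steinitz-type exchange: a nonzero socle element can be moved to the front -/
lemma exchange : ∀ (l : ℕ) (M : Type v) [AddCommGroup M] [Module R M],
    Module.length R M = ((l + 1 : ℕ) : ℕ∞) → ∀ e : Adm R M (l + 1),
    Submodule.span R (Set.range e.1) = ⊤ → ∀ z : M, z ≠ 0 → (∀ r ∈ maximalIdeal R, r • z = 0) →
    ∃ e' : Adm R M (l + 1), e'.1 0 = z ∧ Submodule.span R (Set.range e'.1) = ⊤ ∧
      ∃ c : ResidueField R, mkS e' = c • mkS e := by
  intro l
  induction l with
  | zero =>
    intro M _ _ hlen e he z hz0 hz
    -- `M` has length one, so `z` is a unit multiple of `e 0`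
    have hx := smul_zero_of_isAdmissible e.1 e.2
    have hzmem : z ∈ Submodule.span R {e.1 0} := by
      have : Submodule.span R {e.1 0} = ⊤ := by
        rw [← he]
        congr 1
        ext v
        simp only [Set.mem_singleton_iff, Set.mem_range]
        constructor
        · rintro rfl; exact ⟨0, rfl⟩
        · rintro ⟨j, rfl⟩; rw [fin_one_eq_zero j]
      rw [this]; trivial
    obtain ⟨r, hr⟩ := Submodule.mem_span_singleton.mp hzmem
    have hru : IsUnit r := by
      by_contra hnu
      exact hz0 (by rw [← hr]; exact hx r ((mem_maximalIdeal r).mpr hnu))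
    obtain ⟨u, rfl⟩ := hru
    have hadm : IsAdmissible R M (fun _ : Fin (0 + 1) => z) := by
      intro i s hs
      rw [hz s hs]; exact zero_mem _
    refine ⟨⟨fun _ => z, hadm⟩, rfl, ?_, residue R (u : R), ?_⟩
    · rw [eq_top_iff, ← he, Submodule.span_le]
      rintro _ ⟨j, rfl⟩
      rw [fin_one_eq_zero j]
      have : e.1 0 = (↑u⁻¹ : R) • z := by rw [← hr, smul_smul, Units.inv_mul, one_smul]
      rw [SetLike.mem_coe, this]
      exact Submodule.smul_mem _ _ (Submodule.subset_span ⟨0, rfl⟩)
    · apply mkS_rel_b _ _ 0 u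
      · intro j hj; exact absurd (fin_one_eq_zero j) hj
      · show z - (u : R) • e.1 0 ∈ _
        rw [hr, sub_self]; exact zero_mem _
  | succ l ih =>
    intro M _ _ hlen e he z hz0 hz
    obtain ⟨x, hx, f, hf, rfl⟩ := exists_consAdm' e
    have he' : Submodule.span R (Set.range (Fin.cons x f : Fin (l + 1 + 1) → M)) = ⊤ := he
    have hB := notMem_spanBefore_of_span_eq_top (l + 1 + 1) M (Fin.cons x f : Fin (l + 1 + 1) → M)
      (consAdm x hx f hf).2 hlen he'
    have hx0 : x ≠ 0 := by
      have := hB 0
      rw [Fin.val_zero, spanBefore_zero, Submodule.mem_bot, Fin.cons_zero] at this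
      exact this
    have hlenq : Module.length R (M ⧸ Submodule.span R {x}) = ((l + 1 : ℕ) : ℕ∞) :=
      length_quot_of_ne_zero x hx hx0 (l + 1) hlen
    have hfgen : Submodule.span R (Set.range ((Submodule.span R {x}).mkQ ∘ f)) = ⊤ :=
      (span_range_cons_eq_top_iff x f).mp he'
    by_cases hzmem : z ∈ Submodule.span R {x}
    · obtain ⟨r, hr⟩ := Submodule.mem_span_singleton.mp hzmem
      have hru : IsUnit r := by
        by_contra hnu
        exact hz0 (by rw [← hr]; exact hx r ((mem_maximalIdeal r).mpr hnu))
      have hspan : Submodule.span R {z} = Submodule.span R {x} := by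
        rw [← hr]; exact Submodule.span_singleton_smul_eq hru x
      obtain ⟨u, rfl⟩ := hru
      have hadm : IsAdmissible R M (Fin.cons z f : Fin (l + 1 + 1) → M) := by
        intro i s hs
        induction i using Fin.cases with
        | zero => rw [Fin.cons_zero, hz s hs]; exact zero_mem _
        | succ j =>
          have := (consAdm x hx f hf).2 j.succ s hs
          simp only [consAdm, Fin.cons_succ, Fin.val_succ] at this ⊢
          rw [spanBefore_cons] at this ⊢
          rw [hspan]; exact this
      refine ⟨⟨Fin.cons z f, hadm⟩, rfl, ?_, residue R (u : R), ?_⟩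
      · rw [← he', ← spanBefore_of_le _ (le_refl (l + 1 + 1)),
          ← spanBefore_of_le _ (le_refl (l + 1 + 1)), spanBefore_cons, spanBefore_cons, hspan]
      · apply mkS_rel_b _ _ 0 u
        · intro j hj
          induction j using Fin.cases with
          | zero => exact absurd rfl hj
          | succ k => simp [consAdm]
        · show (Fin.cons z f : Fin (l + 1 + 1) → M) 0 -
            (u : R) • (Fin.cons x f : Fin (l + 1 + 1) → M) 0 ∈ _
          rw [Fin.cons_zero, Fin.cons_zero, hr, sub_self]; exact zero_mem _
    · -- `z` is independent of `x`: use the induction hypothesis in the quotient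
      set zb := (Submodule.span R {x}).mkQ z with hzb
      have hzb0 : zb ≠ 0 := by
        rw [hzb, Submodule.mkQ_apply, Ne, Submodule.Quotient.mk_eq_zero]; exact hzmem
      have hzbs : ∀ r ∈ maximalIdeal R, r • zb = 0 := by
        intro r hr; rw [hzb, ← map_smul, hz r hr, map_zero]
      obtain ⟨eb, heb0, hebgen, c, hc⟩ := ih (M ⧸ Submodule.span R {x}) hlenq (quotAdm x f hf)
        hfgen zb hzb0 hzbs
      set h : Fin l → M := sec x ∘ Fin.tail eb.1 with hh
      set f' : Fin (l + 1) → M := Fin.cons z h with hf'def
      have hqf' : (Submodule.span R {x}).mkQ ∘ f' = eb.1 := by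
        funext j
        induction j using Fin.cases with
        | zero => simp only [hf'def, Function.comp_apply, Fin.cons_zero]; exact heb0.symm
        | succ k =>
          simp only [hf'def, hh, Function.comp_apply, Fin.cons_succ, mkQ_sec]
          rfl
      have hf' : IsAdmissible R (M ⧸ Submodule.span R {x}) ((Submodule.span R {x}).mkQ ∘ f') := by
        rw [hqf']; exact eb.2
      have hg : mkS (consAdm x hx f' hf') = c • mkS (consAdm x hx f hf) := by
        apply same_head
        have : quotAdm x f' hf' = eb := Subtype.ext hqf'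
        rw [this]; exact hc
      have hf'0 : f' 0 = z := by rw [hf'def, Fin.cons_zero]
      have hf's : ∀ k : Fin l, f' k.succ = h k := by intro k; rw [hf'def, Fin.cons_succ]
      have hggen : Submodule.span R (Set.range (Fin.cons x f' : Fin (l + 1 + 1) → M)) = ⊤ := by
        rw [span_range_cons_eq_top_iff, hqf']; exact hebgen
      have hadm' := isAdmissible_cons_cons_swap x z h hz hx (consAdm x hx f' hf').2
      refine ⟨⟨Fin.cons z (Fin.cons x h), hadm'⟩, rfl, ?_, -c, ?_⟩
      · show Submodule.span R (Set.range (Fin.cons z (Fin.cons x h) : Fin (l + 1 + 1) → M)) = ⊤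
        rw [span_range_cons_cons_swap]; exact hggen
      · have hrel := mkS_rel_c (consAdm x hx f' hf')
          (⟨Fin.cons z (Fin.cons x h), hadm'⟩ : Adm R M (l + 1 + 1)) (Fin.succ 0) 0 (by simp) ?_ ?_
        · rw [neg_smul, ← hg, hrel, neg_neg]
        · intro r hr
          show r • (Fin.cons x f' : Fin (l + 1 + 1) → M) (Fin.succ 0) ∈ _
          rw [Fin.cons_succ, hf'0, hz r hr]
          exact zero_mem _
        · funext j
          show (Fin.cons z (Fin.cons x h) : Fin (l + 1 + 1) → M) j =
            (Fin.cons x f' : Fin (l + 1 + 1) → M) (Equiv.swap (Fin.succ 0) 0 j)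
          induction j using Fin.cases with
          | zero =>
            rw [Equiv.swap_apply_right, Fin.cons_zero, Fin.cons_succ, hf'0]
          | succ i =>
            induction i using Fin.cases with
            | zero =>
              rw [Equiv.swap_apply_left, Fin.cons_zero, Fin.cons_succ, Fin.cons_zero]
            | succ k =>
              rw [Equiv.swap_apply_of_ne_of_ne]
              · rw [Fin.cons_succ, Fin.cons_succ, Fin.cons_succ, hf's]
              · intro hk
                exact Fin.succ_ne_zero k (Fin.succ_injective _ hk)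
              · exact Fin.succ_ne_zero _

end Steinitz

end Groth.Agent.R2.H71.CycDetBasic
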