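import Mathlib
import Groth.Prelude.Def_CycDet
import Groth.Agent.R2.H71CycDetBasic
import Groth.Agent.R2.H71CycDetLen
import Groth.Agent.R2.H71CycDetPhi
import Groth.Agent.R2.H71CycDetSpan

/-!
# Determinants of finite length modules: `dim ≤ 1` (helper71)
-/

set_option autoImplicit false
set_option linter.unusedSectionVars false
universe u v

namespace Groth.Agent.R2.H71.CycDetBasic

open IsLocalRing CycDet

variable {R : Type u} [CommRing R] [IsLocalRing R] {M : Type v} [AddCommGroup M] [Module R M]

/-- the symbol of a generating admissible tuple of the right length spans `DetOfLen` -/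
lemma span_of_generating : ∀ (l : ℕ) (M : Type v) [AddCommGroup M] [Module R M],
    Module.length R M = (l : ℕ∞) → ∀ e : Adm R M l, Submodule.span R (Set.range e.1) = ⊤ →
    ∀ y : DetOfLen R M l, ∃ c : ResidueField R, y = c • mkS e := by
  intro l
  induction l with
  | zero =>
    intro M _ _ _ e _
    apply exists_smul_of_forall_mkS
    intro t
    have : t = e := Subtype.ext (funext fun j => j.elim0)
    exact ⟨1, by rw [this, one_smul]⟩
  | succ l ih =>
    intro M _ _ hlen e he
    apply exists_smul_of_forall_mkS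
    intro t
    by_cases hA : ∃ a : Fin (l + 1), t.1 a ∈ spanBefore R M t.1 a
    · obtain ⟨a, ha⟩ := hA
      exact ⟨0, by rw [mkS_eq_zero t a ha, zero_smul]⟩
    · replace hA : ∀ a : Fin (l + 1), t.1 a ∉ spanBefore R M t.1 a := fun a ha => hA ⟨a, ha⟩
      have htgen := span_eq_top_of_notMem_spanBefore (l + 1) M t.1 t.2 hlen hA
      obtain ⟨z, hz0'⟩ : ∃ z, t.1 0 = z := ⟨_, rfl⟩
      have hz0 : z ≠ 0 := by
        have := hA 0
        rw [Fin.val_zero, spanBefore_zero, Submodule.mem_bot, hz0'] at this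
        exact this
      have hz : ∀ r ∈ maximalIdeal R, r • z = 0 := by
        rw [← hz0']; exact smul_zero_of_isAdmissible t.1 t.2
      obtain ⟨e', he'0, he'gen, c, hc⟩ := exchange l M hlen e he z hz0 hz
      obtain ⟨hx, f, hf, rfl⟩ := exists_consAdm t z hz0'
      obtain ⟨hx', f', hf', rfl⟩ := exists_consAdm e' z he'0
      have hlenq : Module.length R (M ⧸ Submodule.span R {z}) = (l : ℕ∞) :=
        length_quot_of_ne_zero z hz hz0 l hlen
      have hgen' : Submodule.span R (Set.range (quotAdm z f' hf').1) = ⊤ :=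
        (span_range_cons_eq_top_iff z f').mp he'gen
      obtain ⟨c', hc'⟩ := ih (M ⧸ Submodule.span R {z}) hlenq (quotAdm z f' hf') hgen'
        (mkS (quotAdm z f hf))
      refine ⟨c' * c, ?_⟩
      have := same_head z hx f' f hf' hf c' hc'
      rw [this, hc, smul_smul]

/-- `dim det M ≤ 1` in terms of `DetOfLen` -/
lemma rank_detOfLen_le_one (l : ℕ) (hlen : Module.length R M = (l : ℕ∞)) :
    Module.rank (ResidueField R) (DetOfLen R M l) ≤ 1 := by
  rw [rank_le_one_iff]
  by_cases h : ∃ t : Adm R M l, ∀ a : Fin l, t.1 a ∉ spanBefore R M t.1 a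
  · obtain ⟨t, ht⟩ := h
    have htgen := span_eq_top_of_notMem_spanBefore l M t.1 t.2 hlen ht
    refine ⟨mkS t, fun y => ?_⟩
    obtain ⟨c, hc⟩ := span_of_generating l M hlen t htgen y
    exact ⟨c, hc.symm⟩
  · replace h : ∀ t : Adm R M l, ∃ a : Fin l, t.1 a ∈ spanBefore R M t.1 a := by
      intro t
      by_contra hcon
      exact h ⟨t, fun a ha => hcon ⟨a, ha⟩⟩
    refine ⟨0, fun y => ?_⟩
    obtain ⟨c, hc⟩ := exists_smul_of_forall_mkS (0 : DetOfLen R M l) (fun e => by
      obtain ⟨a, ha⟩ := h e
      exact ⟨0, by rw [mkS_eq_zero e a ha, zero_smul]⟩) y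
    exact ⟨c, hc.symm⟩

lemma length_eq_toNat (hM : IsFiniteLength R M) :
    Module.length R M = ((Module.length R M).toNat : ℕ∞) :=
  (ENat.natCast_toNat (Module.length_ne_top_iff.mpr hM)).symm

theorem rank_det_le_one (hM : IsFiniteLength R M) :
    Module.rank (ResidueField R) (Det R M) ≤ 1 :=
  rank_detOfLen_le_one _ (length_eq_toNat hM)

end Groth.Agent.R2.H71.CycDetBasic
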