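import Mathlib
import Groth.Prelude.Def_CycDet
import Groth.Agent.R2.H71CycDetBasic
import Groth.Agent.R2.H71CycDetLen
import Groth.Agent.R2.H71CycDetPhi
import Groth.Agent.R2.H71CycDetSpan
import Groth.Agent.R2.H71CycDetRank
import Groth.Agent.R2.H71CycDetPsi
import Groth.Agent.R2.H71CycDetNonzero
import Groth.Agent.R2.H71CycDetAppend

/-!
# Determinants of finite length modules: multiplicativity in short exact sequences (helper71)
-/

set_option autoImplicit false
set_option linter.unusedSectionVars false
universe u v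

namespace Groth.Agent.R2.H71.CycDetBasic

open IsLocalRing CycDet TensorProduct

variable {R : Type u} [CommRing R] [IsLocalRing R]
variable {K L M : Type v} [AddCommGroup K] [Module R K] [AddCommGroup L] [Module R L]
  [AddCommGroup M] [Module R M]

section PsiApp

variable {k m : ℕ} (g : L →ₗ[R] M) (f : K →ₗ[R] L) (hfg : LinearMap.range f = LinearMap.ker g)
  (b : Fin m → L) (hb : IsAdmissible R M (g ∘ b))

lemma isAdmissible_comp (eK : Fin k → K) (h : IsAdmissible R K eK) :
    IsAdmissible R L (f ∘ eK) := by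
  intro i r hr
  rw [Function.comp_apply, ← map_smul, ← map_spanBefore]
  exact Submodule.mem_map_of_mem (h i r hr)

include hfg in
lemma span_range_comp (eK : Fin k → K) (h : Submodule.span R (Set.range eK) = ⊤) :
    Submodule.span R (Set.range (f ∘ eK)) = LinearMap.ker g := by
  rw [Set.range_comp, ← Submodule.map_span, h, Submodule.map_top, hfg]

/-- `(f ∘ eK, b)` for a generating admissible tuple `eK` of `K` -/
def appK (eK : Adm R K k) (h : Submodule.span R (Set.range eK.1) = ⊤) : Adm R L (k + m) :=
  appAdm g (f ∘ eK.1) (isAdmissible_comp f eK.1 eK.2) (span_range_comp g f hfg eK.1 h) b hb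

lemma appK_val (eK : Adm R K k) (h : Submodule.span R (Set.range eK.1) = ⊤) :
    (appK g f hfg b hb eK h).1 = Fin.append (f ∘ eK.1) b := rfl

lemma appK_castAdd (eK : Adm R K k) (h : Submodule.span R (Set.range eK.1) = ⊤) (i : Fin k) :
    (appK g f hfg b hb eK h).1 (Fin.castAdd m i) = f (eK.1 i) := by
  rw [appK_val, Fin.append_left]; rfl

lemma appK_natAdd (eK : Adm R K k) (h : Submodule.span R (Set.range eK.1) = ⊤) (j : Fin m) :
    (appK g f hfg b hb eK h).1 (Fin.natAdd k j) = b j := by
  rw [appK_val, Fin.append_right]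

lemma appK_spanBefore (eK : Adm R K k) (h : Submodule.span R (Set.range eK.1) = ⊤) (i : Fin k) :
    spanBefore R L (appK g f hfg b hb eK h).1 (i : ℕ) = (spanBefore R K eK.1 i).map f := by
  rw [appK_val, spanBefore_append_left _ _ _ (le_of_lt i.isLt), map_spanBefore]

open Classical in
/-- the map `eK ↦ [(f ∘ eK, b)]` on admissible tuples of `K` -/
noncomputable def psiAppFun (eK : Adm R K k) : DetOfLen R L (k + m) :=
  if h : Submodule.span R (Set.range eK.1) = ⊤ then mkS (appK g f hfg b hb eK h) else 0

lemma psiAppFun_eq (eK : Adm R K k) (h : Submodule.span R (Set.range eK.1) = ⊤) :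
    psiAppFun g f hfg b hb eK = mkS (appK g f hfg b hb eK h) := by
  unfold psiAppFun
  rw [dif_pos h]

lemma psiAppFun_eq_zero (eK : Adm R K k) (h : ¬ Submodule.span R (Set.range eK.1) = ⊤) :
    psiAppFun g f hfg b hb eK = 0 := by
  unfold psiAppFun
  rw [dif_neg h]

/-- append `b`: `Det K → Det L` -/
noncomputable def PsiApp : DetOfLen R K k →ₗ[ResidueField R] DetOfLen R L (k + m) :=
  liftDet (psiAppFun g f hfg b hb)
    (by
      intro eK a ha
      by_cases h : Submodule.span R (Set.range eK.1) = ⊤
      · rw [psiAppFun_eq g f hfg b hb eK h]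
        apply mkS_eq_zero _ (Fin.castAdd m a)
        rw [appK_castAdd, Fin.val_castAdd, appK_spanBefore]
        exact Submodule.mem_map_of_mem ha
      · exact psiAppFun_eq_zero g f hfg b hb eK h)
    (by
      intro eK eK' a c hag hrel
      have hsp := spanBefore_eq_of_rel_b eK.1 eK'.1 a c hag hrel
      have hiff : Submodule.span R (Set.range eK.1) = ⊤ ↔
          Submodule.span R (Set.range eK'.1) = ⊤ := by
        rw [← spanBefore_of_le eK.1 le_rfl, hsp, spanBefore_of_le eK'.1 le_rfl]
      by_cases h : Submodule.span R (Set.range eK.1) = ⊤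
      · rw [psiAppFun_eq g f hfg b hb eK h, psiAppFun_eq g f hfg b hb eK' (hiff.mp h)]
        apply mkS_rel_b _ _ (Fin.castAdd m a) c
        · intro j hj
          induction j using Fin.addCases with
          | left i =>
            have hi : i ≠ a := fun hi => hj (by rw [hi])
            rw [appK_castAdd, appK_castAdd, hag i hi]
          | right i => rw [appK_natAdd, appK_natAdd]
        · rw [appK_castAdd, appK_castAdd, Fin.val_castAdd, appK_spanBefore, ← map_smul,
            ← map_sub]
          exact Submodule.mem_map_of_mem hrel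
      · rw [psiAppFun_eq_zero g f hfg b hb eK h,
          psiAppFun_eq_zero g f hfg b hb eK' (fun h' => h (hiff.mpr h')), smul_zero])
    (by
      intro eK eK' a b' hab hrel he'
      have hiff : Submodule.span R (Set.range eK.1) = ⊤ ↔
          Submodule.span R (Set.range eK'.1) = ⊤ := by
        rw [he', (Equiv.swap a b').surjective.range_comp eK.1]
      by_cases h : Submodule.span R (Set.range eK.1) = ⊤
      · rw [psiAppFun_eq g f hfg b hb eK h, psiAppFun_eq g f hfg b hb eK' (hiff.mp h)]
        apply mkS_rel_c _ _ (Fin.castAdd m a) (Fin.castAdd m b')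
        · rw [Fin.val_castAdd, Fin.val_castAdd, hab]
        · intro r hr
          rw [appK_castAdd, Fin.val_castAdd, appK_spanBefore, ← map_smul]
          exact Submodule.mem_map_of_mem (hrel r hr)
        · funext j
          rw [Function.comp_apply]
          induction j using Fin.addCases with
          | left i =>
            have : Equiv.swap (Fin.castAdd m a) (Fin.castAdd m b') (Fin.castAdd m i) =
                Fin.castAdd m (Equiv.swap a b' i) :=
              (Fin.castAdd_injective k m).swap_apply a b' i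
            rw [this, appK_castAdd, appK_castAdd, he']
            rfl
          | right i =>
            rw [Equiv.swap_apply_of_ne_of_ne (natAdd_ne_castAdd a i) (natAdd_ne_castAdd b' i),
              appK_natAdd, appK_natAdd]
      · rw [psiAppFun_eq_zero g f hfg b hb eK h,
          psiAppFun_eq_zero g f hfg b hb eK' (fun h' => h (hiff.mpr h')), neg_zero])

lemma PsiApp_mkS (eK : Adm R K k) (h : Submodule.span R (Set.range eK.1) = ⊤) :
    PsiApp g f hfg b hb (mkS eK) = mkS (appK g f hfg b hb eK h) := by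
  unfold PsiApp
  rw [liftDet_mkS, psiAppFun_eq]

end PsiApp

section Exists

lemma exists_socle (hfin : IsFiniteLength R M) [Nontrivial M] :
    ∃ x : M, x ≠ 0 ∧ ∀ r ∈ maximalIdeal R, r • x = 0 := by
  have hart : IsArtinian R M := (isFiniteLength_iff_isNoetherian_isArtinian.mp hfin).2
  have hatomic : IsAtomic (Submodule R M) := isAtomic_of_orderBot_wellFounded_lt wellFounded_lt
  obtain ⟨S, hS, -⟩ := (eq_bot_or_exists_atom_le (⊤ : Submodule R M)).resolve_left top_ne_bot
  obtain ⟨x, hxS, hx0⟩ := (Submodule.ne_bot_iff S).mp hS.1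
  refine ⟨x, hx0, fun r hr => ?_⟩
  by_contra hrx
  have hle : Submodule.span R {r • x} ≤ S := by
    rw [Submodule.span_singleton_le_iff_mem]; exact S.smul_mem r hxS
  have hne : Submodule.span R {r • x} ≠ ⊥ := by
    rw [Ne, Submodule.span_singleton_eq_bot]; exact hrx
  have heq : Submodule.span R {r • x} = S := (hS.le_iff_eq hne).mp hle
  have hx : x ∈ Submodule.span R {r • x} := by rw [heq]; exact hxS
  obtain ⟨s, hs⟩ := Submodule.mem_span_singleton.mp hx
  have hunit : IsUnit (1 - s * r) :=
    isUnit_one_sub_self_of_mem_nonunits _ ((mem_maximalIdeal _).mp (Ideal.mul_mem_left _ s hr))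
  obtain ⟨w, hw⟩ := hunit
  apply hx0
  have h1 : (1 - s * r) • x = 0 := by
    rw [sub_smul, one_smul, mul_smul, hs, sub_self]
  rw [← hw] at h1
  have := congrArg (fun y => (↑w⁻¹ : R) • y) h1
  simp only [smul_smul, Units.inv_mul, one_smul, smul_zero] at this
  exact this

/-- existence of a "composition basis" -/
lemma exists_generating : ∀ (l : ℕ) (M : Type v) [AddCommGroup M] [Module R M],
    Module.length R M = (l : ℕ∞) → ∃ e : Adm R M l, Submodule.span R (Set.range e.1) = ⊤ := by
  intro l
  induction l with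
  | zero =>
    intro M _ _ hlen
    have : Subsingleton M := by
      rw [← Module.length_eq_zero_iff (R := R), hlen]; rfl
    exact ⟨⟨fun j => j.elim0, fun j => j.elim0⟩, Subsingleton.elim _ _⟩
  | succ l ih =>
    intro M _ _ hlen
    have hfin : IsFiniteLength R M := by
      rw [← Module.length_ne_top_iff, hlen]; exact ENat.natCast_ne_top _
    have hnt : Nontrivial M := by
      rw [← not_subsingleton_iff_nontrivial, ← Module.length_eq_zero_iff (R := R), hlen]
      exact_mod_cast Nat.succ_ne_zero l
    obtain ⟨x, hx0, hx⟩ := exists_socle hfin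
    obtain ⟨ē, hē⟩ := ih (M ⧸ Submodule.span R {x}) (length_quot_of_ne_zero x hx hx0 l hlen)
    refine ⟨liftAdm x hx ē, ?_⟩
    rw [liftAdm_val, span_range_cons_eq_top_iff, mkQ_comp_sec]
    exact hē

end Exists

section Basis

variable {κ : Type*} [Field κ] {V : Type*} [AddCommGroup V] [Module κ V]

/-- a one-dimensional space with a given basis vector -/
noncomputable def equivOfBasisVector (x : V) (hx : x ≠ 0) (hspan : ∀ y : V, ∃ c : κ, y = c • x) :
    κ ≃ₗ[κ] V :=
  LinearEquiv.ofBijective (LinearMap.toSpanSingleton κ V x) (by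
    constructor
    · intro c c' h
      rw [LinearMap.toSpanSingleton_apply, LinearMap.toSpanSingleton_apply, ← sub_eq_zero,
        ← sub_smul, smul_eq_zero] at h
      rcases h with h | h
      · exact sub_eq_zero.mp h
      · exact absurd h hx
    · intro y
      obtain ⟨c, hc⟩ := hspan y
      exact ⟨c, by rw [LinearMap.toSpanSingleton_apply, hc]⟩)

lemma equivOfBasisVector_apply (x : V) (hx : x ≠ 0) (hspan : ∀ y : V, ∃ c : κ, y = c • x) (c : κ) :
    equivOfBasisVector x hx hspan c = c • x := by
  show LinearMap.toSpanSingleton κ V x c = c • x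
  rw [LinearMap.toSpanSingleton_apply]

end Basis

section Main

variable (f : K →ₗ[R] L) (g : L →ₗ[R] M)

theorem exists_gamma (hf : Function.Injective f) (hg : Function.Surjective g)
    (hfg : LinearMap.range f = LinearMap.ker g) (k m : ℕ)
    (hk : Module.length R K = (k : ℕ∞)) (hm : Module.length R M = (m : ℕ∞)) :
    ∃ γ : (DetOfLen R K k ⊗[ResidueField R] DetOfLen R M m) ≃ₗ[ResidueField R]
        DetOfLen R L (k + m),
      ∀ (eK : Adm R K k) (eM : Adm R M m) (eL : Adm R L (k + m)), mkS eK ≠ 0 →
        (∀ i : Fin k, eL.1 (Fin.castAdd m i) = f (eK.1 i)) →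
        (∀ j : Fin m, g (eL.1 (Fin.natAdd k j)) = eM.1 j) →
        γ (mkS eK ⊗ₜ mkS eM) = mkS eL := by
  have hL : Module.length R L = ((k + m : ℕ) : ℕ∞) := by
    rw [Module.length_eq_add_of_exact f g hf hg (by rw [LinearMap.exact_iff, hfg]), hk, hm]
    push_cast
    rfl
  obtain ⟨eK₀, hK₀⟩ := exists_generating (R := R) k K hk
  obtain ⟨eM₀, hM₀⟩ := exists_generating (R := R) m M hm
  have hA₀adm := isAdmissible_comp f eK₀.1 eK₀.2
  have hA₀ := span_range_comp g f hfg eK₀.1 hK₀
  have hL₀ : Submodule.span R (Set.range (liftApp g (f ∘ eK₀.1) hA₀adm hA₀ hg eM₀).1) = ⊤ := by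
    rw [liftApp_val]
    exact span_range_append_eq_top g _ hA₀ _ (by rw [g_comp_secG]; exact hM₀)
  let TK := equivOfBasisVector (mkS eK₀) (mkS_ne_zero_of_generating k K hk eK₀ hK₀)
    (span_of_generating k K hk eK₀ hK₀)
  let TM := equivOfBasisVector (mkS eM₀) (mkS_ne_zero_of_generating m M hm eM₀ hM₀)
    (span_of_generating m M hm eM₀ hM₀)
  let TL := equivOfBasisVector (mkS (liftApp g (f ∘ eK₀.1) hA₀adm hA₀ hg eM₀))
    (mkS_ne_zero_of_generating (k + m) L hL _ hL₀) (span_of_generating (k + m) L hL _ hL₀)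
  refine ⟨(TensorProduct.congr TK TM).symm ≪≫ₗ (TensorProduct.lid _ _) ≪≫ₗ TL, ?_⟩
  intro eK eM eL hne h1 h2
  have hKgen : Submodule.span R (Set.range eK.1) = ⊤ := by
    apply span_eq_top_of_notMem_spanBefore k K eK.1 eK.2 hk
    intro a ha
    exact hne (mkS_eq_zero eK a ha)
  obtain ⟨c, hc⟩ := span_of_generating k K hk eK₀ hK₀ (mkS eK)
  obtain ⟨d, hd⟩ := span_of_generating m M hm eM₀ hM₀ (mkS eM)
  have hbL : g ∘ (fun j => eL.1 (Fin.natAdd k j)) = eM.1 := funext h2
  have hbLadm : IsAdmissible R M (g ∘ (fun j => eL.1 (Fin.natAdd k j))) := by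
    rw [hbL]; exact eM.2
  have heL : eL = appK g f hfg (fun j => eL.1 (Fin.natAdd k j)) hbLadm eK hKgen := by
    apply Subtype.ext
    rw [appK_val]
    funext j
    induction j using Fin.addCases with
    | left i => rw [Fin.append_left, h1 i]; rfl
    | right j => rw [Fin.append_right]
  have e1 : mkS eL = c • mkS (appK g f hfg (fun j => eL.1 (Fin.natAdd k j)) hbLadm eK₀ hK₀) := by
    conv_lhs => rw [heL]
    rw [← PsiApp_mkS, ← PsiApp_mkS, hc, map_smul]
  have e2 : mkS (appK g f hfg (fun j => eL.1 (Fin.natAdd k j)) hbLadm eK₀ hK₀) =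
      d • mkS (liftApp g (f ∘ eK₀.1) hA₀adm hA₀ hg eM₀) := by
    show mkS (appAdm g (f ∘ eK₀.1) hA₀adm hA₀ (fun j => eL.1 (Fin.natAdd k j)) hbLadm) = _
    rw [mkS_appAdm_eq_PhiApp g (f ∘ eK₀.1) hA₀adm hA₀ hg _ hbLadm]
    have : gAdm g (fun j => eL.1 (Fin.natAdd k j)) hbLadm = eM := Subtype.ext hbL
    rw [this, hd, map_smul, PhiApp_mkS]
  have e3 : (TensorProduct.congr TK TM).symm ((c • mkS eK₀) ⊗ₜ (d • mkS eM₀)) = c ⊗ₜ d := by
    rw [LinearEquiv.symm_apply_eq, TensorProduct.congr_tmul]
    show _ = (equivOfBasisVector _ _ _ c) ⊗ₜ (equivOfBasisVector _ _ _ d)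
    rw [equivOfBasisVector_apply, equivOfBasisVector_apply]
  rw [hc, hd, LinearEquiv.trans_apply, LinearEquiv.trans_apply, e3, TensorProduct.lid_tmul]
  show equivOfBasisVector _ _ _ (c • d) = _
  rw [equivOfBasisVector_apply, e1, e2, smul_smul, smul_eq_mul]

theorem exists_gamma' (hf : Function.Injective f) (hg : Function.Surjective g)
    (hfg : LinearMap.range f = LinearMap.ker g) (k m n : ℕ) (hlen : k + m = n)
    (hk : Module.length R K = (k : ℕ∞)) (hm : Module.length R M = (m : ℕ∞)) :
    ∃ γ : (DetOfLen R K k ⊗[ResidueField R] DetOfLen R M m) ≃ₗ[ResidueField R]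
        DetOfLen R L n,
      ∀ (eK : Adm R K k) (eM : Adm R M m) (eL : Adm R L n), mkS eK ≠ 0 →
        (∀ i : Fin k, eL.1 (Fin.cast hlen (Fin.castAdd m i)) = f (eK.1 i)) →
        (∀ j : Fin m, g (eL.1 (Fin.cast hlen (Fin.natAdd k j))) = eM.1 j) →
        γ (mkS eK ⊗ₜ mkS eM) = mkS eL := by
  subst hlen
  exact exists_gamma f g hf hg hfg k m hk hm

theorem exists_gamma_of_shortExact (hK : IsFiniteLength R K) (hM : IsFiniteLength R M)
    (hf : Function.Injective f) (hg : Function.Surjective g)
    (hfg : LinearMap.range f = LinearMap.ker g)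
    (hlen : (Module.length R K).toNat + (Module.length R M).toNat = (Module.length R L).toNat) :
    ∃ γ : (Det R K ⊗[ResidueField R] Det R M) ≃ₗ[ResidueField R] Det R L,
      ∀ (eK : Adm R K (Module.length R K).toNat) (eM : Adm R M (Module.length R M).toNat)
        (eL : Adm R L (Module.length R L).toNat), symbol R K eK ≠ 0 →
        (∀ i : Fin (Module.length R K).toNat,
          eL.1 (Fin.cast hlen (Fin.castAdd (Module.length R M).toNat i)) = f (eK.1 i)) →
        (∀ j : Fin (Module.length R M).toNat,
          g (eL.1 (Fin.cast hlen (Fin.natAdd (Module.length R K).toNat j))) = eM.1 j) →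
        γ (symbol R K eK ⊗ₜ symbol R M eM) = symbol R L eL :=
  exists_gamma' f g hf hg hfg _ _ _ hlen (length_eq_toNat hK) (length_eq_toNat hM)

end Main

end Groth.Agent.R2.H71.CycDetBasic
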