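import Mathlib
import Groth.Agent.Lib.Helper28RegEtale

/-!
Helper library (helper71): regularity of Kummer algebras `R[t]/(t^e - s)` over a regular ring `R`
(not necessarily local or a domain), generalising S13781.
-/

set_option autoImplicit false
universe u

open Polynomial

namespace Groth.Agent.R2.H71.Kummer

open Groth.Agent.Lib.Helper28

/-- a nonzerodivisor acts injectively on a free module. -/
theorem smul_eq_zero_of_mem_nonZeroDivisors {R M : Type*} [CommRing R] [AddCommGroup M]
    [Module R M] [Module.Free R M] {s : R} (hs : s ∈ nonZeroDivisors R) {m : M}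
    (h : s • m = 0) : m = 0 := by
  let b := Module.Free.chooseBasis R M
  apply b.repr.injective
  rw [map_zero]
  ext i
  have h1 := congrArg (fun v => b.repr v i) h
  simp only [map_smul, Finsupp.smul_apply, smul_eq_mul, map_zero, Finsupp.zero_apply] at h1
  rw [mul_comm] at h1
  exact (mem_nonZeroDivisors_iff_right.mp hs) _ h1

theorem of_mem_nonZeroDivisors {R : Type u} [CommRing R] (s : R) (hs : s ∈ nonZeroDivisors R)
    (P : R[X]) (hP : P.Monic) (c : R) (hc : c ∈ nonZeroDivisors R) :
    AdjoinRoot.of P c ∈ nonZeroDivisors (AdjoinRoot P) := by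
  have hfree : Module.Free R (AdjoinRoot P) := hP.free_adjoinRoot
  rw [mem_nonZeroDivisors_iff_right]
  intro b hb
  rw [mul_comm, ← AdjoinRoot.algebraMap_eq, ← Algebra.smul_def] at hb
  exact smul_eq_zero_of_mem_nonZeroDivisors hc hb

/-- `R` regular, `s` a nonzerodivisor with `R/(s)` regular, `e` invertible: `R[t]/(t^e - s)` is
regular. -/
theorem isRegularRing_adjoinRoot_X_pow_sub_C {R : Type u} [CommRing R] [IsRegularRing R]
    (s : R) (hs : s ∈ nonZeroDivisors R) (hreg : IsRegularRing (R ⧸ Ideal.span {s}))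
    (e : ℕ) (he : 0 < e) (heu : IsUnit (e : R)) :
    IsRegularRing (AdjoinRoot (X ^ e - C s : R[X])) := by
  have hmonic : (X ^ e - C s : R[X]).Monic := monic_X_pow_sub_C s he.ne'
  have hfin : Module.Finite R (AdjoinRoot (X ^ e - C s : R[X])) := hmonic.finite_adjoinRoot
  have hfree : Module.Free R (AdjoinRoot (X ^ e - C s : R[X])) := hmonic.free_adjoinRoot
  have hNB : IsNoetherianRing (AdjoinRoot (X ^ e - C s : R[X])) :=
    IsNoetherianRing.of_finite R _
  have hrel := adjoinRoot_root_pow_eq s e
  refine { isRegularLocalRing_localization := fun Q hQ => ?_ }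
  by_cases hsQ : AdjoinRoot.of (X ^ e - C s : R[X]) s ∈ Q
  · have hrootQ : AdjoinRoot.root (X ^ e - C s : R[X]) ∈ Q := by
      rw [← hrel] at hsQ
      exact hQ.mem_of_pow_mem e hsQ
    have hsnzd := of_mem_nonZeroDivisors s hs _ hmonic s hs
    have hrnzd : AdjoinRoot.root (X ^ e - C s : R[X]) ∈
        nonZeroDivisors (AdjoinRoot (X ^ e - C s : R[X])) := by
      rw [mem_nonZeroDivisors_iff_right]
      intro b hb
      apply (mem_nonZeroDivisors_iff_right.mp hsnzd) b
      rw [← hrel]
      have hpow : AdjoinRoot.root (X ^ e - C s : R[X]) ^ e =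
          AdjoinRoot.root (X ^ e - C s : R[X]) * AdjoinRoot.root (X ^ e - C s : R[X]) ^ (e - 1) :=
        (mul_pow_sub_one he.ne' _).symm
      rw [hpow, ← mul_assoc, hb, zero_mul]
    have hreg' : IsRegularRing (AdjoinRoot (X ^ e - C s : R[X]) ⧸
        Ideal.span {AdjoinRoot.root (X ^ e - C s : R[X])}) :=
      IsRegularRing.of_ringEquiv (adjoinRootQuotRootEquiv s e he).symm
    exact isRegularLocalRing_localization_of_quotient_span_singleton _ hrnzd hreg' Q hrootQ
  · have hunr := formallyUnramified_away_adjoinRoot_X_pow_sub_C s e he heu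
    rw [← Algebra.basicOpen_subset_unramifiedLocus_iff] at hunr
    have hmem : (⟨Q, hQ⟩ : PrimeSpectrum _) ∈
        (PrimeSpectrum.basicOpen (AdjoinRoot.mk (X ^ e - C s : R[X]) (C s)) : Set _) := by
      rw [AdjoinRoot.mk_C]
      exact hsQ
    exact isRegularLocalRing_localization_of_isUnramifiedAt Q (hunr hmem)

/-- the zero ring is regular. -/
theorem isRegularRing_of_subsingleton (R : Type u) [CommRing R] [Subsingleton R] :
    IsRegularRing R := by
  have : IsNoetherianRing R := inferInstance
  rw [isRegularRing_iff]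
  intro p hp
  exact absurd (Subsingleton.elim (1 : R) 0 ▸ p.zero_mem : (1 : R) ∈ p)
    (p.ne_top_iff_one.mp hp.ne_top)

/-- unit case: `R[t]/(t^e - v)` regular for `v` a unit. -/
theorem isRegularRing_adjoinRoot_X_pow_sub_C_unit {R : Type u} [CommRing R] [IsRegularRing R]
    (v : R) (hv : IsUnit v) (e : ℕ) (he : 0 < e) (heu : IsUnit (e : R)) :
    IsRegularRing (AdjoinRoot (X ^ e - C v : R[X])) := by
  have hsub : Subsingleton (R ⧸ Ideal.span {v}) := by
    rw [Ideal.Quotient.subsingleton_iff, Ideal.span_singleton_eq_top]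
    exact hv
  exact isRegularRing_adjoinRoot_X_pow_sub_C v hv.mem_nonZeroDivisors
    (isRegularRing_of_subsingleton _) e he heu

end Groth.Agent.R2.H71.Kummer
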