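import Mathlib
import Groth.Agent.R2.H71Kummer

/-!
Helper library (helper71): the tower `C = B₁[Z]/(Z^{N₁} - W^a f)`, `B₁ = B[W]/(W^g - u)` over a regular
domain `B` with `B/(f)` regular is a regular ring.
-/

set_option autoImplicit false
universe u

open Polynomial

namespace Groth.Agent.R2.H71.CyclicTower

open Groth.Agent.Lib.Helper28 Groth.Agent.R2.H71.Kummer

variable {B : Type u} [CommRing B] (u f : B) (g N₁ a : ℕ)

/-- first floor `B₁ = B[W]/(W^g - u)`. -/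
abbrev B₁ : Type u := AdjoinRoot (X ^ g - C u : B[X])

/-- the class of `W`. -/
noncomputable abbrev W : B₁ u g := AdjoinRoot.root (X ^ g - C u : B[X])

/-- the element `s = W^a f`. -/
noncomputable def sElt : B₁ u g := W u g ^ a * AdjoinRoot.of (X ^ g - C u : B[X]) f

/-- second floor `C = B₁[Z]/(Z^{N₁} - s)`. -/
abbrev CC : Type u := AdjoinRoot (X ^ N₁ - C (sElt u f g a) : (B₁ u g)[X])

/-- the class of `Z`. -/
noncomputable abbrev Z : CC u f g N₁ a := AdjoinRoot.root (X ^ N₁ - C (sElt u f g a) : (B₁ u g)[X])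

variable {u f g N₁ a}

theorem W_pow : W u g ^ g = AdjoinRoot.of (X ^ g - C u : B[X]) u := adjoinRoot_root_pow_eq u g

theorem isUnit_W (hu : IsUnit u) (hg : 0 < g) : IsUnit (W u g) := by
  have h : IsUnit (W u g ^ g) := by
    rw [W_pow]
    exact hu.map _
  exact (isUnit_pow_iff hg.ne').mp h

theorem Z_pow : Z u f g N₁ a ^ N₁ =
    AdjoinRoot.of (X ^ N₁ - C (sElt u f g a) : (B₁ u g)[X]) (sElt u f g a) :=
  adjoinRoot_root_pow_eq (sElt u f g a) N₁

theorem monic₁ (hg : 0 < g) : (X ^ g - C u : B[X]).Monic := monic_X_pow_sub_C u hg.ne'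

theorem monic₂ (hN₁ : 0 < N₁) : (X ^ N₁ - C (sElt u f g a) : (B₁ u g)[X]).Monic :=
  monic_X_pow_sub_C _ hN₁.ne'

theorem of_f_mem_nonZeroDivisors (hf : f ∈ nonZeroDivisors B) (hg : 0 < g) :
    AdjoinRoot.of (X ^ g - C u : B[X]) f ∈ nonZeroDivisors (B₁ u g) :=
  of_mem_nonZeroDivisors f hf _ (monic₁ hg) f hf

theorem sElt_mem_nonZeroDivisors (hu : IsUnit u) (hf : f ∈ nonZeroDivisors B) (hg : 0 < g) :
    sElt u f g a ∈ nonZeroDivisors (B₁ u g) :=
  mul_mem ((isUnit_W hu hg).pow a).mem_nonZeroDivisors (of_f_mem_nonZeroDivisors hf hg)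

theorem isRegularRing_B₁ [IsRegularRing B] (hu : IsUnit u) (hg : 0 < g) (hgu : IsUnit (g : B)) :
    IsRegularRing (B₁ u g) :=
  isRegularRing_adjoinRoot_X_pow_sub_C_unit u hu g hg hgu

theorem isRegularRing_B₁_quot [IsRegularRing B] (hu : IsUnit u) (hg : 0 < g)
    (hgu : IsUnit (g : B)) (hD : IsRegularRing (B ⧸ Ideal.span {f})) :
    IsRegularRing (B₁ u g ⧸ Ideal.span {sElt u f g a}) := by
  have h1 : Ideal.span {sElt u f g a} =
      (Ideal.span {f}).map (AdjoinRoot.of (X ^ g - C u : B[X])) := by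
    rw [Ideal.map_span, Set.image_singleton]
    exact Ideal.span_singleton_mul_left_unit ((isUnit_W hu hg).pow a) _
  have hmap : (X ^ g - C u : B[X]).map (Ideal.Quotient.mk (Ideal.span {f})) =
      X ^ g - C (Ideal.Quotient.mk (Ideal.span {f}) u) := by
    simp
  have hgu' : IsUnit ((g : ℕ) : B ⧸ Ideal.span {f}) := by
    have := hgu.map (Ideal.Quotient.mk (Ideal.span {f}))
    rwa [map_natCast] at this
  have hreg : IsRegularRing (AdjoinRoot (X ^ g - C (Ideal.Quotient.mk (Ideal.span {f}) u) :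
      (B ⧸ Ideal.span {f})[X])) :=
    isRegularRing_adjoinRoot_X_pow_sub_C_unit _ (hu.map _) g hg hgu'
  have e1 : (B₁ u g ⧸ (Ideal.span {f}).map (AdjoinRoot.of (X ^ g - C u : B[X]))) ≃+*
      AdjoinRoot ((X ^ g - C u : B[X]).map (Ideal.Quotient.mk (Ideal.span {f}))) :=
    (AdjoinRoot.quotEquivQuotMap (X ^ g - C u : B[X]) (Ideal.span {f})).toRingEquiv
  rw [hmap] at e1
  have e2 : (B₁ u g ⧸ Ideal.span {sElt u f g a}) ≃+*
      (B₁ u g ⧸ (Ideal.span {f}).map (AdjoinRoot.of (X ^ g - C u : B[X]))) :=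
    Ideal.quotEquivOfEq h1
  exact IsRegularRing.of_ringEquiv (e2.trans e1).symm

theorem isRegularRing_CC [IsDomain B] [IsRegularRing B] (hu : IsUnit u) (hf : f ≠ 0)
    (hg : 0 < g) (hN₁ : 0 < N₁) (hgu : IsUnit (g : B)) (hN₁u : IsUnit (N₁ : B))
    (hD : IsRegularRing (B ⧸ Ideal.span {f})) : IsRegularRing (CC u f g N₁ a) := by
  have := isRegularRing_B₁ hu hg hgu
  have hN₁u' : IsUnit ((N₁ : ℕ) : B₁ u g) := by
    have := hN₁u.map (AdjoinRoot.of (X ^ g - C u : B[X]))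
    rwa [map_natCast] at this
  exact isRegularRing_adjoinRoot_X_pow_sub_C (sElt u f g a)
    (sElt_mem_nonZeroDivisors hu (mem_nonZeroDivisors_of_ne_zero hf) hg)
    (isRegularRing_B₁_quot hu hg hgu hD) N₁ hN₁ hN₁u'

end Groth.Agent.R2.H71.CyclicTower
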