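import Mathlib
import Groth.Agent.R2.H71CyclicTower

/-!
Helper library (helper71): the comparison map `θ : C → K` from the tower
`C = B₁[Z]/(Z^{N₁} - W^a f)` to a `B`-algebra `K` containing an `N`-th root `τ` of `u f^α` and an
inverse `ι` of `f`; injectivity from the universal property of `K`.
-/

set_option autoImplicit false
universe u

open Polynomial

namespace Groth.Agent.R2.H71.CyclicMap

open Groth.Agent.R2.H71.CyclicTower Groth.Agent.R2.H71.Kummer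

variable {B : Type u} [CommRing B] {K : Type u} [CommRing K] [Algebra B K]
variable (u f : B) (g N₁ a b α₁ : ℕ) (τ ι : K)

/-- the numerical and algebraic data. -/
structure Data : Prop where
  hab : a * α₁ = 1 + b * N₁
  hι : algebraMap B K f * ι = 1
  hτ : τ ^ (N₁ * g) = algebraMap B K (u * f ^ (α₁ * g))

/-- `w = τ^{N₁} ι^{α₁}`. -/
def wK : K := τ ^ N₁ * ι ^ α₁

/-- `z = τ^a ι^b`. -/
def zK : K := τ ^ a * ι ^ b

variable {u f g N₁ a b α₁ τ ι}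

theorem wK_pow (h : Data u f g N₁ a b α₁ τ ι) : wK N₁ α₁ τ ι ^ g = algebraMap B K u := by
  have hι := h.hι
  rw [wK, mul_pow, ← pow_mul, ← pow_mul, h.hτ, map_mul, map_pow, mul_assoc, ← mul_pow, hι, one_pow,
    mul_one]

theorem zK_pow (h : Data u f g N₁ a b α₁ τ ι) :
    zK a b τ ι ^ N₁ = wK N₁ α₁ τ ι ^ a * algebraMap B K f := by
  have hι := h.hι
  rw [zK, wK, mul_pow, mul_pow, ← pow_mul, ← pow_mul, ← pow_mul, ← pow_mul, mul_comm α₁ a, h.hab,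
    pow_add, pow_one]
  linear_combination (-(τ ^ (a * N₁) * ι ^ (b * N₁))) * hι

/-- the map on the first floor. -/
noncomputable def θ₁ (h : Data u f g N₁ a b α₁ τ ι) : B₁ u g →ₐ[B] K :=
  AdjoinRoot.liftAlgHom _ (Algebra.ofId B K) (wK N₁ α₁ τ ι) (by
    rw [eval₂_sub, eval₂_pow, eval₂_X, eval₂_C, wK_pow h]
    exact sub_self _)

theorem θ₁_W (h : Data u f g N₁ a b α₁ τ ι) : θ₁ h (W u g) = wK N₁ α₁ τ ι :=
  AdjoinRoot.liftAlgHom_root _ _ _ _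

theorem θ₁_of (h : Data u f g N₁ a b α₁ τ ι) (x : B) :
    θ₁ h (AdjoinRoot.of _ x) = algebraMap B K x :=
  AdjoinRoot.liftAlgHom_of _ _ _ _ _

theorem θ₁_sElt (h : Data u f g N₁ a b α₁ τ ι) :
    θ₁ h (sElt u f g a) = wK N₁ α₁ τ ι ^ a * algebraMap B K f := by
  rw [sElt, map_mul, map_pow, θ₁_W, θ₁_of]

/-- the comparison map. -/
noncomputable def θ (h : Data u f g N₁ a b α₁ τ ι) : CC u f g N₁ a →ₐ[B] K :=
  AdjoinRoot.liftAlgHom _ (θ₁ h) (zK a b τ ι) (by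
    rw [eval₂_sub, eval₂_pow, eval₂_X, eval₂_C]
    change zK a b τ ι ^ N₁ - θ₁ h (sElt u f g a) = 0
    rw [θ₁_sElt, zK_pow h]
    exact sub_self _)

theorem θ_Z (h : Data u f g N₁ a b α₁ τ ι) : θ h (Z u f g N₁ a) = zK a b τ ι :=
  AdjoinRoot.liftAlgHom_root _ _ _ _

theorem θ_of (h : Data u f g N₁ a b α₁ τ ι) (x : B₁ u g) :
    θ h (AdjoinRoot.of _ x) = θ₁ h x :=
  AdjoinRoot.liftAlgHom_of _ _ _ _ _

section Inj

theorem algebraMap_CC (x : B) : algebraMap B (CC u f g N₁ a) x =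
    AdjoinRoot.of _ (AdjoinRoot.of (X ^ g - C u : B[X]) x) := rfl

theorem f_mem_nonZeroDivisors_CC [IsDomain B] (hf : f ≠ 0) (hg : 0 < g) (hN₁ : 0 < N₁) :
    algebraMap B (CC u f g N₁ a) f ∈ nonZeroDivisors (CC u f g N₁ a) := by
  rw [algebraMap_CC]
  have h1 := of_f_mem_nonZeroDivisors (u := u) (mem_nonZeroDivisors_of_ne_zero hf) hg
  exact of_mem_nonZeroDivisors _ h1 _ (monic₂ hN₁) _ h1

variable (u f g N₁ a b α₁) in
/-- the candidate image of `τ` in `C`: `Z^{α₁} ω^b` with `ω = W⁻¹`. -/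
noncomputable def x₀ (ω : B₁ u g) : CC u f g N₁ a :=
  Z u f g N₁ a ^ α₁ * AdjoinRoot.of _ (ω ^ b)

theorem x₀_pow_N₁ (hab : a * α₁ = 1 + b * N₁) (ω : B₁ u g) (hWω : W u g * ω = 1) :
    x₀ u f g N₁ a b α₁ ω ^ N₁ =
      AdjoinRoot.of _ (W u g * AdjoinRoot.of (X ^ g - C u : B[X]) f ^ α₁) := by
  have e1 : x₀ u f g N₁ a b α₁ ω ^ N₁ =
      (Z u f g N₁ a ^ N₁) ^ α₁ * AdjoinRoot.of _ (ω ^ (b * N₁)) := by
    rw [x₀, mul_pow, ← pow_mul, ← pow_mul, mul_comm α₁ N₁, ← map_pow, ← pow_mul]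
  rw [e1, Z_pow, ← map_pow, ← map_mul]
  congr 1
  have e2 : sElt u f g a ^ α₁ =
      W u g ^ (1 + b * N₁) * AdjoinRoot.of (X ^ g - C u : B[X]) f ^ α₁ := by
    rw [sElt, mul_pow, ← pow_mul, hab]
  rw [e2, pow_add, pow_one]
  calc W u g * W u g ^ (b * N₁) * AdjoinRoot.of (X ^ g - C u : B[X]) f ^ α₁ * ω ^ (b * N₁)
      = W u g * AdjoinRoot.of (X ^ g - C u : B[X]) f ^ α₁ * (W u g * ω) ^ (b * N₁) := by ring
    _ = W u g * AdjoinRoot.of (X ^ g - C u : B[X]) f ^ α₁ := by rw [hWω, one_pow, mul_one]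

theorem x₀_pow_a (hab : a * α₁ = 1 + b * N₁) (ω : B₁ u g) (hWω : W u g * ω = 1) :
    x₀ u f g N₁ a b α₁ ω ^ a =
      Z u f g N₁ a * AdjoinRoot.of _ (AdjoinRoot.of (X ^ g - C u : B[X]) f ^ b) := by
  have e1 : x₀ u f g N₁ a b α₁ ω ^ a =
      Z u f g N₁ a * (Z u f g N₁ a ^ N₁) ^ b * AdjoinRoot.of _ (ω ^ (b * a)) := by
    rw [x₀, mul_pow, ← pow_mul, mul_comm α₁ a, hab, pow_add, pow_one, ← pow_mul, ← map_pow,
      ← pow_mul, mul_comm N₁ b]
  rw [e1, Z_pow, ← map_pow, mul_assoc, ← map_mul]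
  congr 2
  rw [sElt, mul_pow, ← pow_mul]
  calc W u g ^ (a * b) * AdjoinRoot.of (X ^ g - C u : B[X]) f ^ b * ω ^ (b * a)
      = AdjoinRoot.of (X ^ g - C u : B[X]) f ^ b * (W u g * ω) ^ (a * b) := by ring
    _ = AdjoinRoot.of (X ^ g - C u : B[X]) f ^ b := by rw [hWω, one_pow, mul_one]

theorem x₀_pow_N (hab : a * α₁ = 1 + b * N₁) (ω : B₁ u g) (hWω : W u g * ω = 1) :
    x₀ u f g N₁ a b α₁ ω ^ (N₁ * g) = algebraMap B (CC u f g N₁ a) (u * f ^ (α₁ * g)) := by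
  rw [pow_mul, x₀_pow_N₁ hab ω hWω, ← map_pow, mul_pow, W_pow, ← pow_mul, ← map_pow, ← map_mul,
    algebraMap_CC]

/-- abstract comparison: a `B`-algebra map `ψ : K → R` sending `τ` to the image of `x₀` is a
retraction of `θ` up to `can`. -/
theorem comp_θ_eq (h : Data u f g N₁ a b α₁ τ ι) (ω : B₁ u g) (hWω : W u g * ω = 1)
    {R : Type u} [CommRing R] [Algebra B R] (can : CC u f g N₁ a →ₐ[B] R) (ψ : K →ₐ[B] R)
    (hψ : ψ τ = can (x₀ u f g N₁ a b α₁ ω)) : ψ.comp (θ h) = can := by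
  have hψι : algebraMap B R f * ψ ι = 1 := by
    rw [← ψ.commutes, ← map_mul, h.hι, map_one]
  have hcanf : ∀ n : ℕ, can (AdjoinRoot.of _ (AdjoinRoot.of (X ^ g - C u : B[X]) f ^ n)) =
      algebraMap B R f ^ n := by
    intro n
    rw [← map_pow, ← algebraMap_CC, can.commutes, map_pow]
  apply AdjoinRoot.algHom_ext'
  · apply AdjoinRoot.algHom_ext
    change ψ (θ h (AdjoinRoot.of _ (W u g))) = can (AdjoinRoot.of _ (W u g))
    rw [θ_of, θ₁_W, wK, map_mul, map_pow, map_pow, hψ, ← map_pow, x₀_pow_N₁ h.hab ω hWω, map_mul,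
      map_mul, hcanf, mul_assoc, ← mul_pow, hψι, one_pow, mul_one]
  · change ψ (θ h (Z u f g N₁ a)) = can (Z u f g N₁ a)
    rw [θ_Z, zK, map_mul, map_pow, map_pow, hψ, ← map_pow, x₀_pow_a h.hab ω hWω, map_mul, hcanf,
      mul_assoc, ← mul_pow, hψι, one_pow, mul_one]

theorem θ_injective [IsDomain B] (h : Data u f g N₁ a b α₁ τ ι) (hu : IsUnit u) (hf : f ≠ 0)
    (hg : 0 < g) (hN₁ : 0 < N₁)
    (huniv : ∀ (R : Type u) [CommRing R] [Algebra B R], IsUnit (algebraMap B R f) → ∀ x : R,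
      x ^ (N₁ * g) = algebraMap B R (u * f ^ (α₁ * g)) → ∃ ψ : K →ₐ[B] R, ψ τ = x) :
    Function.Injective (θ h) := by
  have hfC := f_mem_nonZeroDivisors_CC (u := u) (a := a) hf hg hN₁
  obtain ⟨ωu, hωu⟩ := isUnit_W hu hg
  have hWω : W u g * (↑ωu⁻¹ : B₁ u g) = 1 := by rw [← hωu]; exact Units.mul_inv ωu
  let R := Localization.Away (algebraMap B (CC u f g N₁ a) f)
  let can : CC u f g N₁ a →ₐ[B] R := IsScalarTower.toAlgHom B (CC u f g N₁ a) R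
  have hfR : IsUnit (algebraMap B R f) := by
    rw [IsScalarTower.algebraMap_apply B (CC u f g N₁ a) R]
    exact IsLocalization.Away.algebraMap_isUnit _
  have hxR : (can (x₀ u f g N₁ a b α₁ ↑ωu⁻¹)) ^ (N₁ * g) = algebraMap B R (u * f ^ (α₁ * g)) := by
    rw [← map_pow, x₀_pow_N h.hab _ hWω, can.commutes]
  obtain ⟨ψ, hψ⟩ := huniv R hfR _ hxR
  have hcomp := comp_θ_eq h _ hWω can ψ hψ
  have hinjR : Function.Injective can :=
    IsLocalization.injective R (Submonoid.powers_le.mpr hfC)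
  intro c₁ c₂ hc
  apply hinjR
  rw [← hcomp, AlgHom.comp_apply, AlgHom.comp_apply, hc]

end Inj

end Groth.Agent.R2.H71.CyclicMap
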