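import Mathlib
import Groth.Agent.R2.H71CyclicMap

/-!
Helper library (helper71): the range of the comparison map `θ : C → K` is the subalgebra generated by
the elements `τ^i ι^{⌊iα/N⌋}`, `0 ≤ i < N`.
-/

set_option autoImplicit false
universe u

open Polynomial

namespace Groth.Agent.R2.H71.CyclicRange

open Groth.Agent.R2.H71.CyclicTower Groth.Agent.R2.H71.CyclicMap

variable {B : Type u} [CommRing B] {K : Type u} [CommRing K] [Algebra B K]

/-- exchange of powers of `F` and its inverse `ι`. -/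
theorem pow_mul_pow_eq {F ι : K} (hι : F * ι = 1) {m n m' n' : ℕ} (h : m + n' = m' + n) :
    F ^ m * ι ^ n = F ^ m' * ι ^ n' := by
  calc F ^ m * ι ^ n = F ^ m * ι ^ n * (F * ι) ^ n' := by rw [hι, one_pow, mul_one]
    _ = F ^ (m + n') * ι ^ (n + n') := by ring
    _ = F ^ (m' + n) * ι ^ (n + n') := by rw [h]
    _ = F ^ m' * ι ^ n' * (F * ι) ^ n := by ring
    _ = F ^ m' * ι ^ n' := by rw [hι, one_pow, mul_one]

variable (B) in
/-- the generators `τ^i ι^{⌊iα/N⌋}`. -/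
def gen (N α : ℕ) (τ ι : K) (i : ℕ) : K := τ ^ i * ι ^ (i * α / N)

variable (B) in
/-- the subalgebra `A`. -/
def AA (N α : ℕ) (τ ι : K) : Subalgebra B K :=
  Algebra.adjoin B (Set.range fun i : Fin N => gen N α τ ι (i : ℕ))

variable {u f : B} {N α : ℕ} {τ ι : K}

/-- `τ^i ι^j ∈ A` as soon as `j ≤ ⌊iα/N⌋`. -/
theorem pow_mul_pow_mem (hN : 0 < N) (hι : algebraMap B K f * ι = 1)
    (hτ : τ ^ N = algebraMap B K (u * f ^ α)) (i j : ℕ) (hj : j ≤ i * α / N) :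
    τ ^ i * ι ^ j ∈ AA B N α τ ι := by
  set q := i / N with hq
  set r := i % N with hr
  have hi : i = N * q + r := (Nat.div_add_mod i N).symm
  have hrN : r < N := Nat.mod_lt i hN
  have hdiv : i * α / N = q * α + r * α / N := by
    rw [hi, add_mul, mul_assoc, Nat.mul_add_div hN]
  obtain ⟨d, hd⟩ := Nat.exists_eq_add_of_le hj
  rw [hdiv] at hd
  have hgen : gen N α τ ι r ∈ AA B N α τ ι :=
    Algebra.subset_adjoin ⟨⟨r, hrN⟩, rfl⟩
  have key : τ ^ i * ι ^ j = algebraMap B K (u ^ q * f ^ d) * gen N α τ ι r := by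
    have e1 : algebraMap B K f ^ (α * q) * ι ^ j = algebraMap B K f ^ d * ι ^ (r * α / N) := by
      apply pow_mul_pow_eq hι
      rw [mul_comm α q, hd]; ring
    calc τ ^ i * ι ^ j = (τ ^ N) ^ q * τ ^ r * ι ^ j := by rw [hi, pow_add, pow_mul]
      _ = algebraMap B K u ^ q * τ ^ r * (algebraMap B K f ^ (α * q) * ι ^ j) := by
          rw [hτ, map_mul, map_pow, mul_pow, ← pow_mul]; ring
      _ = algebraMap B K u ^ q * τ ^ r * (algebraMap B K f ^ d * ι ^ (r * α / N)) := by rw [e1]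
      _ = algebraMap B K (u ^ q * f ^ d) * gen N α τ ι r := by
          rw [gen, map_mul, map_pow, map_pow]; ring
  rw [key]
  exact Subalgebra.mul_mem _ (Subalgebra.algebraMap_mem _ _) hgen

theorem eval₂_mem {R : Type*} [CommRing R] (S : Subalgebra B K) (φ : R →+* K)
    (hφ : ∀ r, φ r ∈ S) {z : K} (hz : z ∈ S) (p : R[X]) : p.eval₂ φ z ∈ S := by
  rw [Polynomial.eval₂_eq_sum_range]
  exact Subalgebra.sum_mem _ fun i _ => Subalgebra.mul_mem _ (hφ _) (Subalgebra.pow_mem _ hz i)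

section Range

variable {g N₁ a b α₁ : ℕ}

theorem div_eq (hg : 0 < g) (i : ℕ) : i * (α₁ * g) / (N₁ * g) = i * α₁ / N₁ := by
  rw [← mul_assoc, Nat.mul_div_mul_right _ _ hg]

theorem wK_mem (h : Data u f g N₁ a b α₁ τ ι) (hg : 0 < g) (hN₁ : 0 < N₁) :
    wK N₁ α₁ τ ι ∈ AA B (N₁ * g) (α₁ * g) τ ι := by
  apply pow_mul_pow_mem (Nat.mul_pos hN₁ hg) h.hι h.hτ
  rw [div_eq hg, mul_comm, Nat.mul_div_cancel _ hN₁]

theorem zK_mem (h : Data u f g N₁ a b α₁ τ ι) (hg : 0 < g) (hN₁ : 0 < N₁) :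
    zK a b τ ι ∈ AA B (N₁ * g) (α₁ * g) τ ι := by
  apply pow_mul_pow_mem (Nat.mul_pos hN₁ hg) h.hι h.hτ
  rw [div_eq hg, Nat.le_div_iff_mul_le hN₁, h.hab]
  omega

theorem θ₁_mem (h : Data u f g N₁ a b α₁ τ ι) (hg : 0 < g) (hN₁ : 0 < N₁) (x : B₁ u g) :
    θ₁ h x ∈ AA B (N₁ * g) (α₁ * g) τ ι := by
  induction x using AdjoinRoot.induction_on with
  | ih p =>
    rw [θ₁, AdjoinRoot.liftAlgHom_mk]
    exact eval₂_mem _ _ (fun r => Subalgebra.algebraMap_mem _ r) (wK_mem h hg hN₁) p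

theorem θ_mem (h : Data u f g N₁ a b α₁ τ ι) (hg : 0 < g) (hN₁ : 0 < N₁) (x : CC u f g N₁ a) :
    θ h x ∈ AA B (N₁ * g) (α₁ * g) τ ι := by
  induction x using AdjoinRoot.induction_on with
  | ih p =>
    rw [θ, AdjoinRoot.liftAlgHom_mk]
    exact eval₂_mem _ _ (fun r => θ₁_mem h hg hN₁ r) (zK_mem h hg hN₁) p

theorem gen_mem_range (h : Data u f g N₁ a b α₁ τ ι) (hu : IsUnit u) (hg : 0 < g) (i : ℕ) :
    gen (N₁ * g) (α₁ * g) τ ι i ∈ (θ h).range := by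
  have hab := h.hab
  obtain ⟨ωu, hωu⟩ := isUnit_W hu hg
  have hWω : W u g * (↑ωu⁻¹ : B₁ u g) = 1 := by rw [← hωu]; exact Units.mul_inv ωu
  have hwω : wK N₁ α₁ τ ι * θ₁ h (↑ωu⁻¹ : B₁ u g) = 1 := by
    rw [← θ₁_W h, ← map_mul, hWω, map_one]
  set e := i * α₁ / N₁ with he
  set p := i * α₁ % N₁ with hp'
  have hp : p + N₁ * e = i * α₁ := by rw [add_comm]; exact Nat.div_add_mod _ _
  have E1 : a * p + N₁ * (a * e) = i + N₁ * (b * i) := by
    calc a * p + N₁ * (a * e) = a * (p + N₁ * e) := by ring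
      _ = a * (i * α₁) := by rw [hp]
      _ = i * (a * α₁) := by ring
      _ = i * (1 + b * N₁) := by rw [hab]
      _ = i + N₁ * (b * i) := by ring
  have E2 : b * p + α₁ * (a * e) = e + α₁ * (b * i) := by
    calc b * p + α₁ * (a * e) = b * p + (a * α₁) * e := by ring
      _ = b * p + (1 + b * N₁) * e := by rw [hab]
      _ = e + b * (p + N₁ * e) := by ring
      _ = e + b * (i * α₁) := by rw [hp]
      _ = e + α₁ * (b * i) := by ring
  have key : gen (N₁ * g) (α₁ * g) τ ι i * wK N₁ α₁ τ ι ^ (b * i) =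
      zK a b τ ι ^ p * wK N₁ α₁ τ ι ^ (a * e) := by
    rw [gen, div_eq hg, ← he, zK, wK, mul_pow, mul_pow, mul_pow, ← pow_mul, ← pow_mul, ← pow_mul,
      ← pow_mul, ← pow_mul, ← pow_mul]
    calc τ ^ i * ι ^ e * (τ ^ (N₁ * (b * i)) * ι ^ (α₁ * (b * i)))
        = τ ^ (i + N₁ * (b * i)) * ι ^ (e + α₁ * (b * i)) := by ring
      _ = τ ^ (a * p + N₁ * (a * e)) * ι ^ (b * p + α₁ * (a * e)) := by rw [E1, E2]
      _ = τ ^ (a * p) * ι ^ (b * p) * (τ ^ (N₁ * (a * e)) * ι ^ (α₁ * (a * e))) := by ring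
  refine ⟨Z u f g N₁ a ^ p * AdjoinRoot.of _ (W u g ^ (a * e) * (↑ωu⁻¹ : B₁ u g) ^ (b * i)), ?_⟩
  change θ h (Z u f g N₁ a ^ p *
    AdjoinRoot.of _ (W u g ^ (a * e) * (↑ωu⁻¹ : B₁ u g) ^ (b * i))) = _
  rw [map_mul, map_pow, θ_Z, θ_of, map_mul, map_pow, map_pow, θ₁_W, ← mul_assoc, ← key]
  calc gen (N₁ * g) (α₁ * g) τ ι i * wK N₁ α₁ τ ι ^ (b * i) * θ₁ h (↑ωu⁻¹ : B₁ u g) ^ (b * i)
      = gen (N₁ * g) (α₁ * g) τ ι i * (wK N₁ α₁ τ ι * θ₁ h (↑ωu⁻¹ : B₁ u g)) ^ (b * i) := by ring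
    _ = gen (N₁ * g) (α₁ * g) τ ι i := by rw [hwω, one_pow, mul_one]

theorem range_θ (h : Data u f g N₁ a b α₁ τ ι) (hu : IsUnit u) (hg : 0 < g) (hN₁ : 0 < N₁) :
    (θ h).range = AA B (N₁ * g) (α₁ * g) τ ι := by
  apply le_antisymm
  · rintro _ ⟨x, rfl⟩
    exact θ_mem h hg hN₁ x
  · apply Algebra.adjoin_le
    rintro _ ⟨i, rfl⟩
    exact gen_mem_range h hu hg i

end Range

end Groth.Agent.R2.H71.CyclicRange
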