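import Mathlib
import Groth.Agent.R2.H71CyclicRange
import Groth.Agent.Lib.Helper6NormInt
import Groth.Agent.Lib.Helper28GeomFibre

/-!
Helper library (helper71): main abstract theorem on the cyclic cover algebra
`A = B[τ^i ι^{⌊iα/N⌋}] ⊆ K`: finite over `B`, regular, and integrally closed in `K`.
-/

set_option autoImplicit false
universe u

open Polynomial

namespace Groth.Agent.R2.H71.CyclicMain

open Groth.Agent.R2.H71.CyclicTower Groth.Agent.R2.H71.CyclicMap Groth.Agent.R2.H71.CyclicRange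

variable {B : Type u} [CommRing B] {K : Type u} [CommRing K] [Algebra B K]
variable {u f : B} {g N₁ a b α₁ : ℕ} {τ ι : K}

/-- the algebra equivalence `C ≃ A`. -/
noncomputable def equivAA [IsDomain B] (h : Data u f g N₁ a b α₁ τ ι) (hu : IsUnit u) (hf : f ≠ 0)
    (hg : 0 < g) (hN₁ : 0 < N₁)
    (huniv : ∀ (R : Type u) [CommRing R] [Algebra B R], IsUnit (algebraMap B R f) → ∀ x : R,
      x ^ (N₁ * g) = algebraMap B R (u * f ^ (α₁ * g)) → ∃ ψ : K →ₐ[B] R, ψ τ = x) :
    CC u f g N₁ a ≃ₐ[B] AA B (N₁ * g) (α₁ * g) τ ι :=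
  (AlgEquiv.ofInjective (θ h) (θ_injective h hu hf hg hN₁ huniv)).trans
    (Subalgebra.equivOfEq _ _ (range_θ h hu hg hN₁))

theorem finite_CC (hg : 0 < g) (hN₁ : 0 < N₁) : Module.Finite B (CC u f g N₁ a) := by
  have h1 : Module.Finite B (B₁ u g) := (monic₁ hg).finite_adjoinRoot
  have h2 : Module.Finite (B₁ u g) (CC u f g N₁ a) := (monic₂ hN₁).finite_adjoinRoot
  exact Module.Finite.trans (B₁ u g) (CC u f g N₁ a)

/-- every element of `K` becomes an element of `A` after multiplication by a power of `f`. -/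
theorem exists_pow_mul_mem {N α : ℕ} (hN : 0 < N) (hι : algebraMap B K f * ι = 1)
    (hτ : τ ^ N = algebraMap B K (u * f ^ α)) (hgen : Algebra.adjoin B {τ, ι} = ⊤) (x : K) :
    ∃ n : ℕ, algebraMap B K f ^ n * x ∈ AA B N α τ ι := by
  have hx : x ∈ Algebra.adjoin B {τ, ι} := by rw [hgen]; trivial
  induction hx using Algebra.adjoin_induction with
  | mem y hy =>
    rcases hy with rfl | rfl
    · refine ⟨0, ?_⟩
      rw [pow_zero, one_mul]
      have := pow_mul_pow_mem (B := B) hN hι hτ 1 0 (Nat.zero_le _)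
      simpa using this
    · refine ⟨1, ?_⟩
      rw [pow_one, hι]
      exact Subalgebra.one_mem _
  | algebraMap r =>
    exact ⟨0, by rw [pow_zero, one_mul]; exact Subalgebra.algebraMap_mem _ r⟩
  | add y z _ _ hy hz =>
    obtain ⟨n, hn⟩ := hy
    obtain ⟨m, hm⟩ := hz
    refine ⟨n + m, ?_⟩
    have e : algebraMap B K f ^ (n + m) * (y + z) =
        algebraMap B K (f ^ m) * (algebraMap B K f ^ n * y) +
          algebraMap B K (f ^ n) * (algebraMap B K f ^ m * z) := by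
      rw [map_pow, map_pow]; ring
    rw [e]
    exact Subalgebra.add_mem _ (Subalgebra.mul_mem _ (Subalgebra.algebraMap_mem _ _) hn)
      (Subalgebra.mul_mem _ (Subalgebra.algebraMap_mem _ _) hm)
  | mul y z _ _ hy hz =>
    obtain ⟨n, hn⟩ := hy
    obtain ⟨m, hm⟩ := hz
    refine ⟨n + m, ?_⟩
    have e : algebraMap B K f ^ (n + m) * (y * z) =
        (algebraMap B K f ^ n * y) * (algebraMap B K f ^ m * z) := by ring
    rw [e]
    exact Subalgebra.mul_mem _ hn hm

/-- a normal subalgebra `A ⊆ K` such that `K` is obtained by inverting `f` contains all elements of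
`K` integral over `B`. -/
theorem mem_of_isIntegral (A : Subalgebra B K) (hA : EGA4.IsNormalRing A)
    (hι : algebraMap B K f * ι = 1)
    (hden : ∀ x : K, ∃ n : ℕ, algebraMap B K f ^ n * x ∈ A) (x : K) (hx : IsIntegral B x) :
    x ∈ A := by
  obtain ⟨n, hn⟩ := hden x
  obtain ⟨p, hp, hpx⟩ := hx
  have hrange := Groth.Agent.Lib.Helper6.NormInt.mem_range_of_isIntegral hA A.val.toRingHom
    Subtype.val_injective x (algebraMap B A (f ^ n)) ⟨_, hn⟩
    (by
      change IsUnit (algebraMap B K (f ^ n))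
      rw [map_pow]
      exact (IsUnit.of_mul_eq_one _ hι).pow n)
    (by
      change algebraMap B K (f ^ n) * x = algebraMap B K f ^ n * x
      rw [map_pow])
    (p.map (algebraMap B A)) (hp.map _)
    (by
      rw [Polynomial.eval₂_map]
      exact hpx)
  obtain ⟨y, hy⟩ := hrange
  rw [← hy]
  exact y.2

theorem main' [IsDomain B] [IsRegularRing B] (h : Data u f g N₁ a b α₁ τ ι) (hu : IsUnit u)
    (hf : f ≠ 0) (hD : IsRegularRing (B ⧸ Ideal.span {f}))
    (hg : 0 < g) (hN₁ : 0 < N₁) (hgu : IsUnit (g : B)) (hN₁u : IsUnit (N₁ : B))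
    (huniv : ∀ (R : Type u) [CommRing R] [Algebra B R], IsUnit (algebraMap B R f) → ∀ x : R,
      x ^ (N₁ * g) = algebraMap B R (u * f ^ (α₁ * g)) → ∃ ψ : K →ₐ[B] R, ψ τ = x)
    (hgen : Algebra.adjoin B {τ, ι} = ⊤) :
    Module.Finite B (AA B (N₁ * g) (α₁ * g) τ ι) ∧ IsRegularRing (AA B (N₁ * g) (α₁ * g) τ ι) ∧
      ∀ x : K, IsIntegral B x → x ∈ AA B (N₁ * g) (α₁ * g) τ ι := by
  have e := equivAA h hu hf hg hN₁ huniv
  have hfin : Module.Finite B (CC u f g N₁ a) := finite_CC hg hN₁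
  have hregC : IsRegularRing (CC u f g N₁ a) := isRegularRing_CC hu hf hg hN₁ hgu hN₁u hD
  have hregA : IsRegularRing (AA B (N₁ * g) (α₁ * g) τ ι) :=
    IsRegularRing.of_ringEquiv e.toRingEquiv
  refine ⟨Module.Finite.equiv e.toLinearEquiv, hregA, ?_⟩
  have hnorm : EGA4.IsNormalRing (AA B (N₁ * g) (α₁ * g) τ ι) :=
    Groth.Agent.Lib.Helper28.isNormalRing_of_isRegularRing _
  exact mem_of_isIntegral _ hnorm h.hι
    (exists_pow_mul_mem (Nat.mul_pos hN₁ hg) h.hι h.hτ hgen)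

theorem exists_ab {N₁ α₁ : ℕ} (hcop : Nat.Coprime N₁ α₁) (hN₁ : 0 < N₁) (hα₁ : 0 < α₁) :
    ∃ a b : ℕ, a * α₁ = 1 + b * N₁ := by
  by_cases h1 : N₁ = 1
  · subst h1
    exact ⟨1, α₁ - 1, by omega⟩
  · have h2 : 1 < N₁ := by omega
    obtain ⟨m, -, hm⟩ := Nat.exists_mul_mod_eq_one_of_coprime hcop.symm h2
    refine ⟨m, α₁ * m / N₁, ?_⟩
    have h3 := Nat.div_add_mod (α₁ * m) N₁
    rw [hm] at h3
    linarith [mul_comm m α₁, mul_comm N₁ (α₁ * m / N₁)]

theorem main [IsDomain B] [IsRegularRing B] (hu : IsUnit u) (hf : f ≠ 0)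
    (hD : IsRegularRing (B ⧸ Ideal.span {f})) {N α : ℕ} (hN : 0 < N) (hα : 0 < α)
    (hNu : IsUnit ((N : ℕ) : B)) (hι : algebraMap B K f * ι = 1)
    (hτ : τ ^ N = algebraMap B K (u * f ^ α))
    (huniv : ∀ (R : Type u) [CommRing R] [Algebra B R], IsUnit (algebraMap B R f) → ∀ x : R,
      x ^ N = algebraMap B R (u * f ^ α) → ∃ ψ : K →ₐ[B] R, ψ τ = x)
    (hgen : Algebra.adjoin B {τ, ι} = ⊤) :
    Module.Finite B (AA B N α τ ι) ∧ IsRegularRing (AA B N α τ ι) ∧
      ∀ x : K, IsIntegral B x → x ∈ AA B N α τ ι := by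
  obtain ⟨N₁, α₁, hcop, hNeq, hαeq⟩ := Nat.exists_coprime N α
  have hg : 0 < Nat.gcd N α := Nat.gcd_pos_of_pos_left _ hN
  generalize Nat.gcd N α = g at hNeq hαeq hg
  subst hNeq hαeq
  have hN₁ : 0 < N₁ := Nat.pos_of_mul_pos_right hN
  have hα₁ : 0 < α₁ := Nat.pos_of_mul_pos_right hα
  obtain ⟨a, b, hab⟩ := exists_ab hcop hN₁ hα₁
  have hNu' : IsUnit ((N₁ : B) * (g : B)) := by
    have := hNu
    rwa [Nat.cast_mul] at this
  exact main' (a := a) (b := b) ⟨hab, hι, hτ⟩ hu hf hD hg hN₁ (isUnit_of_mul_isUnit_right hNu')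
    (isUnit_of_mul_isUnit_left hNu') huniv hgen

theorem AA_zero_eq {N : ℕ} (hN : 0 < N) (hι : algebraMap B K f * ι = 1) :
    AA B N 0 τ ι = AA B N N (τ * algebraMap B K f) ι := by
  unfold AA
  congr 2
  funext i
  rw [gen, gen, Nat.mul_zero, Nat.zero_div, pow_zero, mul_one, Nat.mul_div_cancel _ hN, mul_pow,
    mul_assoc, ← mul_pow, hι, one_pow, mul_one]

/-- the main theorem, without the hypothesis `0 < α`. -/
theorem main_all [IsDomain B] [IsRegularRing B] (hu : IsUnit u) (hf : f ≠ 0)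
    (hD : IsRegularRing (B ⧸ Ideal.span {f})) {N α : ℕ} (hN : 0 < N)
    (hNu : IsUnit ((N : ℕ) : B)) (hι : algebraMap B K f * ι = 1)
    (hτ : τ ^ N = algebraMap B K (u * f ^ α))
    (huniv : ∀ (R : Type u) [CommRing R] [Algebra B R], IsUnit (algebraMap B R f) → ∀ x : R,
      x ^ N = algebraMap B R (u * f ^ α) → ∃ ψ : K →ₐ[B] R, ψ τ = x)
    (hgen : Algebra.adjoin B {τ, ι} = ⊤) :
    Module.Finite B (AA B N α τ ι) ∧ IsRegularRing (AA B N α τ ι) ∧
      ∀ x : K, IsIntegral B x → x ∈ AA B N α τ ι := by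
  rcases Nat.eq_zero_or_pos α with rfl | hα
  · rw [AA_zero_eq hN hι]
    refine main hu hf hD hN hN hNu hι ?_ ?_ ?_
    · rw [mul_pow, hτ, pow_zero, mul_one, map_mul, map_pow]
    · intro R _ _ hfR x hx
      obtain ⟨finv, hfinv⟩ := hfR.exists_right_inv
      obtain ⟨ψ, hψ⟩ := huniv R hfR (x * finv) (by
        rw [mul_pow, hx, pow_zero, mul_one, map_mul, map_pow, mul_assoc, ← mul_pow, hfinv, one_pow,
          mul_one])
      refine ⟨ψ, ?_⟩
      rw [map_mul, hψ, ψ.commutes, mul_assoc, mul_comm finv, hfinv, mul_one]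
    · rw [eq_top_iff, ← hgen]
      apply Algebra.adjoin_le
      rintro y (rfl | rfl)
      · have hmem : (y * algebraMap B K f) * ι ∈
            Algebra.adjoin B ({y * algebraMap B K f, ι} : Set K) :=
          Subalgebra.mul_mem _ (Algebra.subset_adjoin (by simp))
            (Algebra.subset_adjoin (by simp))
        rwa [mul_assoc, hι, mul_one] at hmem
      · exact Algebra.subset_adjoin (by simp)
  · exact main hu hf hD hN hα hNu hι hτ huniv hgen

end Groth.Agent.R2.H71.CyclicMain
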