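import Mathlib
import Groth.Agent.R2.H71CyclicMain

/-!
Helper library (helper71): the cyclic cover theorem for `K = (B[t]/(t^N - u f^α))[1/f]`.
-/

set_option autoImplicit false
universe u

open Polynomial

namespace Groth.Agent.R2.H71.CyclicFinal

open Groth.Agent.R2.H71.CyclicRange Groth.Agent.R2.H71.CyclicMain

variable {B : Type u} [CommRing B] (u : Bˣ) (f₁ : B) (N α : ℕ)

local notation "PP" => (X ^ N - C ((u : B) * f₁ ^ α) : B[X])
local notation "φφ" => algebraMap B (AdjoinRoot PP) f₁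
local notation "KK" => Localization.Away φφ
local notation "ττ" => algebraMap (AdjoinRoot PP) KK (AdjoinRoot.root PP)
local notation "ιι" => IsLocalization.Away.invSelf (S := KK) φφ

theorem hι : algebraMap B KK f₁ * ιι = 1 := by
  rw [IsScalarTower.algebraMap_apply B (AdjoinRoot PP) KK]
  exact IsLocalization.Away.mul_invSelf φφ

theorem hτ : ττ ^ N = algebraMap B KK ((u : B) * f₁ ^ α) := by
  rw [← map_pow, Groth.Agent.Lib.Helper28.adjoinRoot_root_pow_eq,
    IsScalarTower.algebraMap_apply B (AdjoinRoot PP) KK]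
  rfl

theorem huniv (R : Type u) [CommRing R] [Algebra B R] (hfR : IsUnit (algebraMap B R f₁)) (x : R)
    (hx : x ^ N = algebraMap B R ((u : B) * f₁ ^ α)) : ∃ ψ : KK →ₐ[B] R, ψ ττ = x := by
  let ψ₀ : AdjoinRoot PP →ₐ[B] R := AdjoinRoot.liftAlgHom PP (Algebra.ofId B R) x (by
    rw [eval₂_sub, eval₂_pow, eval₂_X, eval₂_C, hx]
    exact sub_self _)
  have hψ₀ : IsUnit (ψ₀ φφ) := by
    rw [ψ₀.commutes]
    exact hfR
  refine ⟨IsLocalization.Away.liftAlgHom (S := KK) φφ (f := ψ₀) hψ₀, ?_⟩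
  rw [IsLocalization.Away.liftAlgHom_apply, IsLocalization.Away.lift_eq]
  exact AdjoinRoot.liftAlgHom_root _ _ _ _

theorem hgen : Algebra.adjoin B ({ττ, ιι} : Set KK) = ⊤ := by
  rw [eq_top_iff]
  intro x _
  obtain ⟨n, a', hx⟩ := IsLocalization.Away.surj φφ x
  have hmem : ∀ a' : AdjoinRoot PP, algebraMap (AdjoinRoot PP) KK a' ∈
      Algebra.adjoin B ({ττ, ιι} : Set KK) := by
    intro a'
    have h1 : a' ∈ Algebra.adjoin B ({AdjoinRoot.root PP} : Set (AdjoinRoot PP)) := by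
      rw [AdjoinRoot.adjoinRoot_eq_top]; trivial
    have h2 : Algebra.adjoin B ({AdjoinRoot.root PP} : Set (AdjoinRoot PP)) ≤
        (Algebra.adjoin B ({ττ, ιι} : Set KK)).comap
          (IsScalarTower.toAlgHom B (AdjoinRoot PP) KK) := by
      apply Algebra.adjoin_le
      rintro y rfl
      exact Algebra.subset_adjoin (Set.mem_insert _ _)
    exact h2 h1
  have hx' : x = algebraMap (AdjoinRoot PP) KK a' * ιι ^ n := by
    have hι' : algebraMap (AdjoinRoot PP) KK φφ * ιι = 1 := IsLocalization.Away.mul_invSelf φφ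
    rw [← hx, mul_assoc, ← mul_pow, hι', one_pow, mul_one]
  rw [hx']
  exact Subalgebra.mul_mem _ (hmem a')
    (Subalgebra.pow_mem _ (Algebra.subset_adjoin (Set.mem_insert_of_mem _ (Set.mem_singleton _))) n)

theorem adjoin_eq_AA :
    Algebra.adjoin B (Set.range fun i : Fin N =>
      algebraMap (AdjoinRoot PP) KK (AdjoinRoot.root PP ^ (i : ℕ)) * ιι ^ ((i : ℕ) * α / N)) =
    AA B N α ττ ιι := by
  unfold AA gen
  congr 2
  funext i
  rw [map_pow]

theorem final [IsDomain B] [IsRegularRing B] (hf₁ : f₁ ≠ 0)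
    (hD : IsRegularRing (B ⧸ Ideal.span ({f₁} : Set B))) (hN : 0 < N)
    (hNu : IsUnit ((N : ℕ) : B)) :
    Module.Finite B (AA B N α ττ ιι) ∧ IsRegularRing (AA B N α ττ ιι) ∧
      ∀ x : KK, IsIntegral B x → x ∈ AA B N α ττ ιι :=
  main_all (u := (u : B)) u.isUnit hf₁ hD hN hNu (hι u f₁ N α) (hτ u f₁ N α)
    (fun R _ _ => huniv u f₁ N α R) (hgen u f₁ N α)

end Groth.Agent.R2.H71.CyclicFinal
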