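import Mathlib

/-!
# Rationality of `exp (∑ a_v t^v / v)` gives a linear recurrence (helper71)
-/

set_option autoImplicit false

namespace Groth.Agent.R2.H71ExpRat

section PS0
open PowerSeries

/-- log-derivative: if `exp(S) * Q = P` with `P, Q` polynomials, then `S' * (P*Q) = P' Q - P Q'`. -/
theorem logDeriv_rational (S : ℚ⟦X⟧) (hS0 : constantCoeff S = 0) (P Q : Polynomial ℚ)
    (hQ : Q ≠ 0) (h : (PowerSeries.exp ℚ).subst S * (Q : ℚ⟦X⟧) = (P : ℚ⟦X⟧)) :
    P ≠ 0 ∧ (d⁄dX ℚ S) * ((P * Q : Polynomial ℚ) : ℚ⟦X⟧) =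
      ((Polynomial.derivative P * Q - P * Polynomial.derivative Q : Polynomial ℚ) : ℚ⟦X⟧) := by
  have hS : HasSubst S := HasSubst.of_constantCoeff_zero' hS0
  set Z := (PowerSeries.exp ℚ).subst S with hZ
  have hZu : IsUnit Z := by
    have := (isUnit_exp ℚ).map (substAlgHom hS)
    rwa [coe_substAlgHom] at this
  have dZ : d⁄dX ℚ Z = Z * d⁄dX ℚ S := by
    rw [hZ, derivative_subst hS, derivative_exp]
  constructor
  · rintro rfl
    have hQ' : (Q : ℚ⟦X⟧) ≠ 0 := by simpa using hQ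
    rcases mul_eq_zero.mp (h.trans (by simp)) with h1 | h1
    · exact hZu.ne_zero h1
    · exact hQ' h1
  · have h2 := congrArg (d⁄dX ℚ) h
    rw [Derivation.leibniz, derivative_coe, derivative_coe, dZ] at h2
    simp only [smul_eq_mul] at h2
    simp only [Polynomial.coe_mul, Polynomial.coe_sub]
    rw [← h, ← h2]
    ring

end PS0



section PS
open PowerSeries Polynomial
/-- recurrence from `mk b * M = N`. -/
theorem recurrence_of_mk_mul (b : ℕ → ℚ) (M N : Polynomial ℚ)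
    (h : PowerSeries.mk b * (M : ℚ⟦X⟧) = (N : ℚ⟦X⟧)) (w : ℕ) (hw : N.natDegree < w) :
    ∑ k ∈ Finset.range (M.natDegree + 1), M.coeff k * b (w + M.natDegree - k) = 0 := by
  have h1 := congrArg (PowerSeries.coeff (w + M.natDegree)) h
  rw [mul_comm, PowerSeries.coeff_mul, Polynomial.coeff_coe,
    Polynomial.coeff_eq_zero_of_natDegree_lt (by omega),
    Finset.Nat.sum_antidiagonal_eq_sum_range_succ
      (fun i j => PowerSeries.coeff i (M : ℚ⟦X⟧) * PowerSeries.coeff j (PowerSeries.mk b))] at h1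
  rw [← h1]
  symm
  rw [← Finset.sum_subset (Finset.range_subset_range.mpr (by omega :
    M.natDegree + 1 ≤ (w + M.natDegree).succ))]
  · refine Finset.sum_congr rfl fun k _ => ?_
    simp [Polynomial.coeff_coe]
  · intro k _ hk
    have : M.natDegree < k := by
      simpa using hk
    simp [Polynomial.coeff_coe, Polynomial.coeff_eq_zero_of_natDegree_lt this]

end PS

open Polynomial

theorem isCoprime_X_aux (u : ℚ) (N : ℕ) (hN : 0 < N) :
    IsCoprime (X : ℚ[X]) (C u * X ^ N - 1) := by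
  refine ⟨C u * X ^ (N - 1), -1, ?_⟩
  obtain ⟨n, rfl⟩ : ∃ n, N = n + 1 := ⟨N - 1, by omega⟩
  simp only [Nat.add_sub_cancel]
  ring

theorem isCoprime_sub_one_aux (u : ℚ) (hu : u ≠ 1) (N : ℕ) :
    IsCoprime ((X : ℚ[X]) ^ N - 1) (C u * X ^ N - 1) := by
  have h1 : (1 - u) ≠ 0 := sub_ne_zero.mpr (Ne.symm hu)
  refine ⟨C (u / (1 - u)), C (-1 / (1 - u)), ?_⟩
  have : (C (u / (1 - u)) * (X ^ N - 1) + C (-1 / (1 - u)) * (C u * X ^ N - 1) : ℚ[X])
      = C ((u / (1 - u)) * (-1) + (-1 / (1 - u)) * (-1))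
        + C ((u / (1 - u)) - (-1 / (1 - u)) * u * (-1) ) * X ^ N := by
    simp only [map_add, map_mul, map_neg, map_one, map_sub]
    ring
  rw [this]
  have e1 : (u / (1 - u)) * (-1) + (-1 / (1 - u)) * (-1) = 1 := by
    field_simp
    ring
  have e2 : (u / (1 - u)) - (-1 / (1 - u)) * u * (-1) = 0 := by
    field_simp
    ring
  rw [e1, e2]
  simp


theorem dvd_of_recurrence (Gq Eq : ℚ[X]) (q : ℚ) (hq : 1 < q) (a N m : ℕ) (hN : 0 < N)
    (hE : Eq ∣ X ^ a * (X ^ N - 1) ^ m) (d : ℕ) (M : ℕ → ℚ) (hMd : M d ≠ 0) (w0 : ℕ)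
    (hrec : ∀ w, w0 ≤ w → ∑ k ∈ Finset.range (d + 1),
        M k * (Gq.eval (q ^ (w + d - k + 1)) / Eq.eval (q ^ (w + d - k + 1))) = 0) :
    Eq ∣ Gq * X ^ (a * d) := by
  have hq0 : (0 : ℚ) < q := by linarith
  -- nonvanishing
  have hEne : ∀ e : ℕ, 1 ≤ e → Eq.eval (q ^ e) ≠ 0 := by
    intro e he h0
    have h1 : (X ^ a * (X ^ N - 1) ^ m : ℚ[X]).eval (q ^ e) = 0 :=
      Polynomial.eval_eq_zero_of_dvd_of_eval_eq_zero hE h0
    simp only [eval_mul, eval_pow, eval_X, eval_sub, eval_one] at h1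
    have h2 : (1 : ℚ) < q ^ e := one_lt_pow₀ hq (by omega)
    have h3 : (1 : ℚ) < (q ^ e) ^ N := one_lt_pow₀ h2 (by omega)
    rcases mul_eq_zero.mp h1 with h | h
    · exact (pow_ne_zero _ (by positivity)) h
    · exact (pow_ne_zero _ (by linarith : (q ^ e) ^ N - 1 ≠ 0)) h
  let sc : ℕ → ℚ[X] := fun k => C (q ^ (d - k)) * X
  let E_ : ℕ → ℚ[X] := fun k => Eq.comp (sc k)
  let G_ : ℕ → ℚ[X] := fun k => Gq.comp (sc k)
  let R : ℚ[X] := ∑ k ∈ Finset.range (d + 1),
    C (M k) * G_ k * ∏ l ∈ (Finset.range (d + 1)).erase k, E_ l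
  have hx : ∀ w k : ℕ, k ∈ Finset.range (d + 1) →
      q ^ (d - k) * q ^ (w + 1) = q ^ (w + d - k + 1) := by
    intro w k hk
    have hk' : k ≤ d := by simpa [Nat.lt_succ_iff] using hk
    rw [← pow_add]
    congr 1
    omega
  have hR : ∀ w, w0 ≤ w → R.eval (q ^ (w + 1)) = 0 := by
    intro w hw
    have h1 := hrec w hw
    simp only [R, E_, G_, sc, eval_finsetSum, eval_mul, eval_C, eval_prod, eval_comp, eval_X]
    have h2 : ∀ k ∈ Finset.range (d + 1),
        M k * eval (q ^ (d - k) * q ^ (w + 1)) Gq *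
          ∏ l ∈ (Finset.range (d + 1)).erase k, eval (q ^ (d - l) * q ^ (w + 1)) Eq
        = M k * (Gq.eval (q ^ (w + d - k + 1)) / Eq.eval (q ^ (w + d - k + 1))) *
          ∏ l ∈ Finset.range (d + 1), eval (q ^ (w + d - l + 1)) Eq := by
      intro k hk
      rw [← Finset.mul_prod_erase _ _ hk, hx w k hk]
      have h3 : ∏ l ∈ (Finset.range (d + 1)).erase k, eval (q ^ (d - l) * q ^ (w + 1)) Eq
          = ∏ l ∈ (Finset.range (d + 1)).erase k, eval (q ^ (w + d - l + 1)) Eq :=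
        Finset.prod_congr rfl fun l hl => by rw [hx w l (Finset.mem_of_mem_erase hl)]
      rw [h3]
      have h4 : Eq.eval (q ^ (w + d - k + 1)) ≠ 0 := hEne _ (by omega)
      field_simp
    rw [Finset.sum_congr rfl h2, ← Finset.sum_mul, h1, zero_mul]
  have hR0 : R = 0 := by
    apply Polynomial.eq_zero_of_infinite_isRoot
    refine Set.infinite_of_injective_forall_mem (f := fun w : ℕ => q ^ (w0 + w + 1)) ?_ ?_
    · intro w w' h
      have := pow_right_injective₀ hq0 (ne_of_gt hq) h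
      omega
    · intro w
      exact hR (w0 + w) (by omega)
  -- split off the term k = d
  have hsplit : R = (∑ k ∈ Finset.range d,
      C (M k) * G_ k * ∏ l ∈ (Finset.range (d + 1)).erase k, E_ l)
      + C (M d) * Gq * ∏ l ∈ Finset.range d, E_ l := by
    simp only [R]
    rw [Finset.sum_range_succ]
    congr 2
    · simp [G_, sc]
    · rw [Finset.range_add_one, Finset.erase_insert (by simp)]
  have hEd : E_ d = Eq := by simp [E_, sc]
  have h5 : Eq ∣ C (M d) * Gq * ∏ l ∈ Finset.range d, E_ l := by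
    have h6 : Eq ∣ ∑ k ∈ Finset.range d,
        C (M k) * G_ k * ∏ l ∈ (Finset.range (d + 1)).erase k, E_ l := by
      refine Finset.dvd_sum fun k hk => ?_
      refine Dvd.dvd.mul_left ?_ _
      rw [← hEd]
      refine Finset.dvd_prod_of_mem _ ?_
      have : k < d := by simpa using hk
      simp only [Finset.mem_erase, Finset.mem_range]
      omega
    have h7 : C (M d) * Gq * ∏ l ∈ Finset.range d, E_ l
        = -(∑ k ∈ Finset.range d,
          C (M k) * G_ k * ∏ l ∈ (Finset.range (d + 1)).erase k, E_ l) := by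
      rw [eq_neg_iff_add_eq_zero, add_comm, ← hsplit, hR0]
    rw [h7]
    exact (dvd_neg).mpr h6
  -- coprimality
  let T : ℕ → ℚ[X] := fun l => (C ((q ^ (d - l)) ^ N) * X ^ N - 1) ^ m
  have hEl : ∀ l, E_ l ∣ C ((q ^ (d - l)) ^ a) * X ^ a * T l := by
    intro l
    have h := map_dvd (Polynomial.compRingHom (sc l)) hE
    simp only [Polynomial.coe_compRingHom_apply] at h
    refine h.trans (dvd_of_eq ?_)
    simp only [sc, T, mul_comp, pow_comp, X_comp, sub_comp, one_comp, mul_pow, ← C_pow]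
  have hcop : ∀ l ∈ Finset.range d, IsCoprime Eq (T l) := by
    intro l hl
    have hl' : l < d := by simpa using hl
    have hu : (q ^ (d - l)) ^ N ≠ 1 := by
      have h2 : (1 : ℚ) < q ^ (d - l) := one_lt_pow₀ hq (by omega)
      exact ne_of_gt (one_lt_pow₀ h2 (by omega))
    refine IsCoprime.of_isCoprime_of_dvd_left ?_ hE
    refine IsCoprime.pow_right ?_
    refine IsCoprime.mul_left ?_ ?_
    · exact IsCoprime.pow_left (isCoprime_X_aux _ N hN)
    · exact IsCoprime.pow_left (isCoprime_sub_one_aux _ hu N)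
  have h8 : Eq ∣ (C (M d * ∏ l ∈ Finset.range d, (q ^ (d - l)) ^ a) * (Gq * X ^ (a * d)))
      * ∏ l ∈ Finset.range d, T l := by
    refine h5.trans ?_
    have h9 : ∏ l ∈ Finset.range d, E_ l ∣
        ∏ l ∈ Finset.range d, (C ((q ^ (d - l)) ^ a) * X ^ a * T l) :=
      Finset.prod_dvd_prod_of_dvd _ _ fun l _ => hEl l
    refine (mul_dvd_mul_left _ h9).trans (dvd_of_eq ?_)
    rw [Finset.prod_mul_distrib, Finset.prod_mul_distrib, Finset.prod_const, Finset.card_range,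
      map_mul, map_prod, ← pow_mul]
    ring
  have h10 := (IsCoprime.prod_right hcop).dvd_of_dvd_mul_right h8
  have hu : IsUnit (C (M d * ∏ l ∈ Finset.range d, (q ^ (d - l)) ^ a) : ℚ[X]) := by
    rw [Polynomial.isUnit_C, isUnit_iff_ne_zero]
    refine mul_ne_zero hMd (Finset.prod_ne_zero_iff.mpr fun l _ => ?_)
    positivity
  exact (hu.dvd_mul_left).mp h10



/-- admissible denominators -/
def Good (E : ℤ[X]) : Prop := E.Monic ∧ ∃ a N m : ℕ, 0 < N ∧ E ∣ X ^ a * (X ^ N - 1) ^ m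

theorem Good.one : Good (1 : ℤ[X]) := ⟨monic_one, 0, 1, 0, one_pos, one_dvd _⟩

theorem Good.mul {E E' : ℤ[X]} (h : Good E) (h' : Good E') : Good (E * E') := by
  obtain ⟨hm, a, N, m, hN, hd⟩ := h
  obtain ⟨hm', a', N', m', hN', hd'⟩ := h'
  refine ⟨hm.mul hm', a + a', N * N', m + m', Nat.mul_pos hN hN', ?_⟩
  have h1 : (X ^ N - 1 : ℤ[X]) ∣ X ^ (N * N') - 1 := by
    have := sub_dvd_pow_sub_pow ((X : ℤ[X]) ^ N) 1 N'
    simpa [← pow_mul] using this
  have h2 : (X ^ N' - 1 : ℤ[X]) ∣ X ^ (N * N') - 1 := by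
    have := sub_dvd_pow_sub_pow ((X : ℤ[X]) ^ N') 1 N
    simpa [← pow_mul, mul_comm] using this
  refine (mul_dvd_mul hd hd').trans ?_
  have h3 := mul_dvd_mul (pow_dvd_pow_of_dvd h1 m) (pow_dvd_pow_of_dvd h2 m')
  rw [← pow_add] at h3
  have h4 := mul_dvd_mul_left ((X : ℤ[X]) ^ (a + a')) h3
  refine (dvd_of_eq ?_).trans h4
  rw [pow_add]
  ring

/-- the embedding `ℤ[X] → ℚ(X)`. -/
noncomputable def iota : ℤ[X] →+* RatFunc ℚ :=
  (algebraMap ℚ[X] (RatFunc ℚ)).comp (Polynomial.mapRingHom (Int.castRingHom ℚ))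

theorem iota_apply (P : ℤ[X]) :
    iota P = algebraMap ℚ[X] (RatFunc ℚ) (P.map (Int.castRingHom ℚ)) := rfl

theorem iota_injective : Function.Injective iota := by
  intro P Q h
  simp only [iota_apply] at h
  exact Polynomial.map_injective _ Int.cast_injective (RatFunc.algebraMap_injective ℚ h)

theorem iota_X : iota X = RatFunc.X := by
  simp [iota_apply, RatFunc.algebraMap_X]

theorem exists_rep (F : RatFunc ℚ)
    (hF : F ∈ Subring.closure
      (({RatFunc.X, (RatFunc.X : RatFunc ℚ)⁻¹} : Set (RatFunc ℚ)) ∪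
        Set.range fun n : ℕ => ((RatFunc.X : RatFunc ℚ) ^ (n + 1) - 1)⁻¹)) :
    ∃ G E : ℤ[X], Good E ∧ F * iota E = iota G := by
  induction hF using Subring.closure_induction with
  | mem x hx =>
    rcases hx with (hx | hx) | ⟨n, rfl⟩
    · subst hx
      exact ⟨X, 1, Good.one, by simp [iota_X]⟩
    · rw [Set.mem_singleton_iff] at hx
      subst hx
      refine ⟨1, X, ⟨monic_X, 1, 1, 0, one_pos, by simp⟩, ?_⟩
      rw [iota_X, map_one, inv_mul_cancel₀ RatFunc.X_ne_zero]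
    · have hm : (X ^ (n + 1) - 1 : ℤ[X]).Monic := by
        have := monic_X_pow_sub_C (1 : ℤ) (Nat.succ_ne_zero n)
        simpa using this
      refine ⟨1, X ^ (n + 1) - 1, ⟨hm, 0, n + 1, 1, Nat.succ_pos n, by simp⟩, ?_⟩
      have h1 : iota (X ^ (n + 1) - 1) = RatFunc.X ^ (n + 1) - 1 := by
        simp [iota_X]
      have h2 : iota (X ^ (n + 1) - 1) ≠ 0 := by
        rw [Ne, map_eq_zero_iff _ iota_injective]
        exact hm.ne_zero
      simp only [map_one]
      rw [← h1, inv_mul_cancel₀ h2]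
  | zero => exact ⟨0, 1, Good.one, by simp⟩
  | one => exact ⟨1, 1, Good.one, by simp⟩
  | add x y _ _ hx hy =>
    obtain ⟨G, E, hE, h⟩ := hx
    obtain ⟨G', E', hE', h'⟩ := hy
    refine ⟨G * E' + G' * E, E * E', hE.mul hE', ?_⟩
    simp only [map_add, map_mul, ← h, ← h']
    ring
  | neg x _ hx =>
    obtain ⟨G, E, hE, h⟩ := hx
    exact ⟨-G, E, hE, by simp [← h]⟩
  | mul x y _ _ hx hy =>
    obtain ⟨G, E, hE, h⟩ := hx
    obtain ⟨G', E', hE', h'⟩ := hy
    refine ⟨G * G', E * E', hE.mul hE', ?_⟩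
    simp only [map_mul, ← h, ← h']
    ring

theorem eval_of_rep (F : RatFunc ℚ) (Gq Eq : ℚ[X])
    (h : F * algebraMap ℚ[X] (RatFunc ℚ) Eq = algebraMap ℚ[X] (RatFunc ℚ) Gq) (x : ℚ)
    (hx : Eq.eval x ≠ 0) :
    F.eval (RingHom.id ℚ) x = Gq.eval x / Eq.eval x := by
  have hEq : Eq ≠ 0 := by
    rintro rfl
    simp at hx
  have hEq' : algebraMap ℚ[X] (RatFunc ℚ) Eq ≠ 0 := by
    rwa [Ne, map_eq_zero_iff _ (RatFunc.algebraMap_injective ℚ)]
  have hden : F.denom ∣ Eq := by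
    rw [RatFunc.denom_dvd hEq]
    exact ⟨Gq, by rw [← h, mul_div_cancel_right₀ _ hEq']⟩
  have hdx : F.denom.eval x ≠ 0 := fun h0 =>
    hx (Polynomial.eval_eq_zero_of_dvd_of_eval_eq_zero hden h0)
  have hcross : F.num * Eq = Gq * F.denom := by
    apply RatFunc.algebraMap_injective ℚ
    have h1 := RatFunc.num_div_denom F
    have hd' : algebraMap ℚ[X] (RatFunc ℚ) F.denom ≠ 0 := by
      rw [Ne, map_eq_zero_iff _ (RatFunc.algebraMap_injective ℚ)]
      exact RatFunc.denom_ne_zero F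
    rw [map_mul, map_mul, ← h]
    rw [div_eq_iff hd'] at h1
    rw [h1]
    ring
  have h2 := congrArg (Polynomial.eval x) hcross
  simp only [eval_mul] at h2
  unfold RatFunc.eval
  rw [Polynomial.eval₂_id, Polynomial.eval₂_id, div_eq_div_iff hdx hx, h2]


theorem eval_pow_ne_zero (Eq : ℚ[X]) (q : ℚ) (hq : 1 < q) (a N m : ℕ) (hN : 0 < N)
    (hE : Eq ∣ X ^ a * (X ^ N - 1) ^ m) (e : ℕ) (he : 1 ≤ e) : Eq.eval (q ^ e) ≠ 0 := by
  intro h0
  have hq0 : (0 : ℚ) < q := by linarith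
  have h1 : (X ^ a * (X ^ N - 1) ^ m : ℚ[X]).eval (q ^ e) = 0 :=
    Polynomial.eval_eq_zero_of_dvd_of_eval_eq_zero hE h0
  simp only [eval_mul, eval_pow, eval_X, eval_sub, eval_one] at h1
  have h2 : (1 : ℚ) < q ^ e := one_lt_pow₀ hq (by omega)
  have h3 : (1 : ℚ) < (q ^ e) ^ N := one_lt_pow₀ h2 (by omega)
  rcases mul_eq_zero.mp h1 with h | h
  · exact (pow_ne_zero _ (by positivity)) h
  · exact (pow_ne_zero _ (by linarith : (q ^ e) ^ N - 1 ≠ 0)) h

/-- Main theorem (statement of S14193). -/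
theorem main (q : ℤ) (hq : 1 < q) (F : RatFunc ℚ)
    (hF : F ∈ Subring.closure
      (({RatFunc.X, (RatFunc.X : RatFunc ℚ)⁻¹} : Set (RatFunc ℚ)) ∪
        Set.range fun n : ℕ => ((RatFunc.X : RatFunc ℚ) ^ (n + 1) - 1)⁻¹))
    (hrat : ∃ P Q : Polynomial ℚ, Q ≠ 0 ∧
      (PowerSeries.exp ℚ).subst
          (PowerSeries.mk fun v : ℕ => if v = 0 then (0 : ℚ)
            else F.eval (RingHom.id ℚ) ((q : ℚ) ^ v) / (v : ℚ))
        * (Q : PowerSeries ℚ) = (P : PowerSeries ℚ)) :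
    ∃ (P : Polynomial ℤ) (a : ℕ),
      F * RatFunc.X ^ a = algebraMap (Polynomial ℚ) (RatFunc ℚ) (P.map (Int.castRingHom ℚ)) := by
  obtain ⟨G, E, ⟨hEm, a, N, m, hN, hEd⟩, hrep⟩ := exists_rep F hF
  obtain ⟨P, Q, hQ, hPQ⟩ := hrat
  have hqq : (1 : ℚ) < (q : ℚ) := by exact_mod_cast hq
  have hEdq : E.map (Int.castRingHom ℚ) ∣ X ^ a * (X ^ N - 1) ^ m := by
    have := Polynomial.map_dvd (Int.castRingHom ℚ) hEd
    simpa using this
  have hS0 : PowerSeries.constantCoeff (PowerSeries.mk fun v : ℕ => if v = 0 then (0 : ℚ)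
            else F.eval (RingHom.id ℚ) ((q : ℚ) ^ v) / (v : ℚ)) = 0 := by
    rw [← PowerSeries.coeff_zero_eq_constantCoeff_apply, PowerSeries.coeff_mk]
    simp
  obtain ⟨hP, hlog⟩ := logDeriv_rational _ hS0 P Q hQ hPQ
  have hdS : PowerSeries.derivative ℚ (PowerSeries.mk fun v : ℕ => if v = 0 then (0 : ℚ)
            else F.eval (RingHom.id ℚ) ((q : ℚ) ^ v) / (v : ℚ))
      = PowerSeries.mk fun n => F.eval (RingHom.id ℚ) ((q : ℚ) ^ (n + 1)) := by
    ext n
    rw [PowerSeries.coeff_derivative, PowerSeries.coeff_mk, PowerSeries.coeff_mk,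
      if_neg (Nat.succ_ne_zero n)]
    have : ((n + 1 : ℕ) : ℚ) ≠ 0 := by positivity
    push_cast at this ⊢
    field_simp
  rw [hdS] at hlog
  have hM : P * Q ≠ 0 := mul_ne_zero hP hQ
  have hrec := recurrence_of_mk_mul _ (P * Q) _ hlog
  have key := dvd_of_recurrence (G.map (Int.castRingHom ℚ)) (E.map (Int.castRingHom ℚ))
    (q : ℚ) hqq a N m hN hEdq (P * Q).natDegree (fun k => (P * Q).coeff k)
    (by simpa using hM)
    ((Polynomial.derivative P * Q - P * Polynomial.derivative Q).natDegree + 1) ?_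
  · have h1 : E ∣ G * X ^ (a * (P * Q).natDegree) := by
      rw [IsPrimitive.Int.dvd_iff_map_cast_dvd_map_cast _ _ hEm.isPrimitive]
      simpa [Polynomial.map_mul, Polynomial.map_pow] using key
    obtain ⟨H, hH⟩ := h1
    refine ⟨H, a * (P * Q).natDegree, ?_⟩
    have hE0 : iota E ≠ 0 := by
      rw [Ne, map_eq_zero_iff _ iota_injective]
      exact hEm.ne_zero
    apply mul_right_cancel₀ hE0
    rw [← iota_apply]
    calc F * RatFunc.X ^ (a * (P * Q).natDegree) * iota E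
        = (F * iota E) * iota X ^ (a * (P * Q).natDegree) := by rw [iota_X]; ring
      _ = iota (G * X ^ (a * (P * Q).natDegree)) := by rw [hrep, map_mul, map_pow]
      _ = iota H * iota E := by rw [hH, map_mul, mul_comm]
  · intro w hw
    have h2 := hrec w (by omega)
    rw [← h2]
    refine Finset.sum_congr rfl fun k hk => ?_
    have hk' : k ≤ (P * Q).natDegree := by simpa [Nat.lt_succ_iff] using hk
    rw [eval_of_rep F _ _ hrep _
      (eval_pow_ne_zero _ (q : ℚ) hqq a N m hN hEdq _ (Nat.succ_le_succ (Nat.zero_le _)))]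
    rfl

end Groth.Agent.R2.H71ExpRat
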