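import Mathlib

/-!
Helper library (helper71): abstract group-object computations for an extension
`1 → G → E → P → 1` in a cartesian monoidal category: conjugation action of `E` on `G`,
centrality of `u(G)` and commutativity of `E` from triviality of bi-trivial maps, given descent
along `v` as hypotheses.
-/

set_option autoImplicit false
universe v₁ u₁

open CategoryTheory Limits MonoidalCategory CartesianMonoidalCategory MonObj

namespace Groth.Agent.R2.H71.ExtCentral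

variable {C : Type u₁} [Category.{v₁} C] [CartesianMonoidalCategory C] [BraidedCategory C]
variable {P G E : C} [GrpObj P] [GrpObj G] [GrpObj E]

/-- the extension data. -/
structure Ext (u : G ⟶ E) (v : E ⟶ P) : Prop where
  mon_u : IsMonHom u
  mon_v : IsMonHom v
  uv : u ≫ v = 1
  pb : IsPullback (fst E G) ((E ◁ u) ≫ μ[E]) v v

variable {u : G ⟶ E} {v : E ⟶ P}

lemma lift_act {W : C} (u : G ⟶ E) (x : W ⟶ E) (g : W ⟶ G) :
    lift x g ≫ (E ◁ u) ≫ μ[E] = x * (g ≫ u) := by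
  rw [← Category.assoc, lift_whiskerLeft, ← Hom.mul_def]

lemma Ext.exists_of_eq (h : Ext u v) {W : C} (x₁ x₂ : W ⟶ E) (h12 : x₁ ≫ v = x₂ ≫ v) :
    ∃ g : W ⟶ G, x₂ = x₁ * (g ≫ u) := by
  refine ⟨h.pb.lift x₁ x₂ h12 ≫ snd E G, ?_⟩
  have e : h.pb.lift x₁ x₂ h12 = lift x₁ (h.pb.lift x₁ x₂ h12 ≫ snd E G) := by
    apply CartesianMonoidalCategory.hom_ext
    · simp
    · simp
  have h2 := h.pb.lift_snd x₁ x₂ h12
  rw [e, lift_act] at h2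
  exact h2.symm

lemma Ext.u_inj (h : Ext u v) {W : C} (g g' : W ⟶ G) (e : g ≫ u = g' ≫ u) : g = g' := by
  have h1 : lift (1 : W ⟶ E) g = lift 1 g' := by
    apply h.pb.hom_ext
    · simp
    · rw [lift_act, lift_act, e]
  simpa using congrArg (· ≫ snd E G) h1

lemma Ext.comp_u_v (h : Ext u v) {W : C} (g : W ⟶ G) : (g ≫ u) ≫ v = 1 := by
  rw [Category.assoc, h.uv, comp_one]

/-- the conjugation action of `E` on `G`. -/
lemma Ext.exists_conj (h : Ext u v) :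
    ∃ c : E ⊗ G ⟶ G, c ≫ u = fst E G * (snd E G ≫ u) * (fst E G)⁻¹ := by
  have := h.mon_v
  obtain ⟨c, hc⟩ := h.exists_of_eq (1 : E ⊗ G ⟶ E) (fst E G * (snd E G ≫ u) * (fst E G)⁻¹) (by
    rw [one_comp, mul_comp, mul_comp, GrpObj.inv_comp, h.comp_u_v]; group)
  exact ⟨c, by rw [hc, _root_.one_mul]⟩

lemma conj_pt {c : E ⊗ G ⟶ G} (hc : c ≫ u = fst E G * (snd E G ≫ u) * (fst E G)⁻¹)
    {T : C} (x : T ⟶ E) (g : T ⟶ G) : (lift x g ≫ c) ≫ u = x * (g ≫ u) * x⁻¹ := by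
  rw [Category.assoc, hc, comp_mul, comp_mul, GrpObj.comp_inv, lift_fst, ← Category.assoc, lift_snd]

/-- centrality of `u(G)`. -/
theorem Ext.central (h : Ext u v) [IsCommMonObj G] (hepi : Epi v)
    (desc : ∀ (m : E ⊗ G ⟶ G),
      (∀ {W : C} (x₁ x₂ : W ⟶ E) (a : W ⟶ G), x₁ ≫ v = x₂ ≫ v → lift x₁ a ≫ m = lift x₂ a ≫ m) →
      ∃ r : P ⊗ G ⟶ G, (v ▷ G) ≫ r = m)
    (hPG : ∀ f : P ⊗ G ⟶ G, lift (𝟙 P) (toUnit P ≫ η[G]) ≫ f = 1 →
      lift (toUnit G ≫ η[P]) (𝟙 G) ≫ f = 1 → f = 1)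
    {T : C} (g : T ⟶ G) (x : T ⟶ E) : (g ≫ u) * x = x * (g ≫ u) := by
  have := h.mon_u
  have := h.mon_v
  obtain ⟨c, hc⟩ := h.exists_conj
  have hinv : ∀ {W : C} (x₁ x₂ : W ⟶ E) (a : W ⟶ G), x₁ ≫ v = x₂ ≫ v →
      lift x₁ a ≫ c = lift x₂ a ≫ c := by
    intro W x₁ x₂ a h12
    obtain ⟨k, hk⟩ := h.exists_of_eq x₁ x₂ h12
    apply h.u_inj
    rw [conj_pt hc, conj_pt hc, hk]
    have hc : (k ≫ u) * (a ≫ u) = (a ≫ u) * (k ≫ u) := by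
      rw [← mul_comp, ← mul_comp, _root_.mul_comm]
    calc x₁ * (a ≫ u) * x₁⁻¹ = x₁ * ((a ≫ u) * (k ≫ u) * (k ≫ u)⁻¹) * x₁⁻¹ := by group
      _ = x₁ * ((k ≫ u) * (a ≫ u) * (k ≫ u)⁻¹) * x₁⁻¹ := by rw [hc]
      _ = x₁ * (k ≫ u) * (a ≫ u) * (x₁ * (k ≫ u))⁻¹ := by group
  obtain ⟨f, hf⟩ := desc (c * (snd E G)⁻¹) (by
    intro W x₁ x₂ a h12
    rw [comp_mul, comp_mul, hinv x₁ x₂ a h12, GrpObj.comp_inv, GrpObj.comp_inv, lift_snd, lift_snd])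
  have hf1 : f = 1 := by
    apply hPG
    · rw [← cancel_epi v, comp_one, ← Category.assoc, comp_lift, Category.comp_id]
      have e1 : lift v (v ≫ toUnit P ≫ η[G]) = lift (𝟙 E) (1 : E ⟶ G) ≫ (v ▷ G) := by
        apply CartesianMonoidalCategory.hom_ext
        · simp
        · simp only [lift_snd, Category.assoc, whiskerRight_snd]
          rw [Hom.one_def, ← Category.assoc]
          congr 1
          exact toUnit_unique _ _
      rw [e1, Category.assoc, hf, comp_mul, GrpObj.comp_inv, lift_snd, inv_one, _root_.mul_one]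
      apply h.u_inj
      rw [conj_pt hc, one_comp]
      group
    · have e1 : lift (toUnit G ≫ η[P]) (𝟙 G) = lift (1 : G ⟶ E) (𝟙 G) ≫ (v ▷ G) := by
        apply CartesianMonoidalCategory.hom_ext
        · simp only [lift_fst, Category.assoc, whiskerRight_fst]
          rw [lift_fst_assoc, one_comp, Hom.one_def]
        · simp
      rw [e1, Category.assoc, hf, comp_mul, GrpObj.comp_inv, lift_snd]
      have e2 : lift (1 : G ⟶ E) (𝟙 G) ≫ c = 𝟙 G := by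
        apply h.u_inj
        rw [conj_pt hc]
        group
      rw [e2, mul_inv_cancel]
  have hc' : c = snd E G := by
    have e3 : c * (snd E G)⁻¹ = 1 := by rw [← hf, hf1, comp_one]
    exact mul_inv_eq_one.mp e3
  have e4 := conj_pt hc x g
  rw [hc', lift_snd] at e4
  calc (g ≫ u) * x = (x * (g ≫ u) * x⁻¹) * x := by rw [← e4]
    _ = x * (g ≫ u) := by group

/-- commutativity of `E`. -/
theorem Ext.comm (h : Ext u v) [IsCommMonObj P] (hepi : Epi v)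
    (hcentral : ∀ {T : C} (g : T ⟶ G) (x : T ⟶ E), (g ≫ u) * x = x * (g ≫ u))
    (desc₁ : ∀ (m : E ⊗ E ⟶ G),
      (∀ {W : C} (x₁ x₂ : W ⟶ E) (a : W ⟶ E), x₁ ≫ v = x₂ ≫ v → lift x₁ a ≫ m = lift x₂ a ≫ m) →
      ∃ r : P ⊗ E ⟶ G, (v ▷ E) ≫ r = m)
    (desc₂ : ∀ (m : P ⊗ E ⟶ G),
      (∀ {W : C} (a : W ⟶ P) (x₁ x₂ : W ⟶ E), x₁ ≫ v = x₂ ≫ v → lift a x₁ ≫ m = lift a x₂ ≫ m) →
      ∃ r : P ⊗ P ⟶ G, (P ◁ v) ≫ r = m)
    (hepi₁ : Epi (v ▷ (E ⊗ G)))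
    (hPP : ∀ f : P ⊗ P ⟶ G, lift (𝟙 P) (toUnit P ≫ η[P]) ≫ f = 1 →
      lift (toUnit P ≫ η[P]) (𝟙 P) ≫ f = 1 → f = 1) :
    IsCommMonObj E := by
  have := h.mon_u
  have := h.mon_v
  -- the commutator map
  obtain ⟨κ, hκ⟩ : ∃ κ : E ⊗ E ⟶ G,
      κ ≫ u = fst E E * snd E E * (fst E E)⁻¹ * (snd E E)⁻¹ := by
    obtain ⟨κ, hκ⟩ := h.exists_of_eq (1 : E ⊗ E ⟶ E)
      (fst E E * snd E E * (fst E E)⁻¹ * (snd E E)⁻¹) (by
        rw [one_comp, mul_comp, mul_comp, mul_comp, GrpObj.inv_comp, GrpObj.inv_comp,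
          _root_.mul_comm (fst E E ≫ v) (snd E E ≫ v)]
        group)
    exact ⟨κ, by rw [hκ, _root_.one_mul]⟩
  have κ_pt : ∀ {T : C} (x y : T ⟶ E), (lift x y ≫ κ) ≫ u = x * y * x⁻¹ * y⁻¹ := by
    intro T x y
    rw [Category.assoc, hκ, comp_mul, comp_mul, comp_mul, GrpObj.comp_inv, GrpObj.comp_inv,
      lift_fst, lift_snd]
  have hinv₁ : ∀ {W : C} (x₁ x₂ : W ⟶ E) (a : W ⟶ E), x₁ ≫ v = x₂ ≫ v →
      lift x₁ a ≫ κ = lift x₂ a ≫ κ := by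
    intro W x₁ x₂ a h12
    obtain ⟨k, hk⟩ := h.exists_of_eq x₁ x₂ h12
    apply h.u_inj
    rw [κ_pt, κ_pt, hk]
    have hc := hcentral k a
    calc x₁ * a * x₁⁻¹ * a⁻¹ = x₁ * (a * (k ≫ u) * (k ≫ u)⁻¹) * x₁⁻¹ * a⁻¹ := by group
      _ = x₁ * ((k ≫ u) * a * (k ≫ u)⁻¹) * x₁⁻¹ * a⁻¹ := by rw [hc]
      _ = x₁ * (k ≫ u) * a * (x₁ * (k ≫ u))⁻¹ * a⁻¹ := by group
  have hinv₂ : ∀ {W : C} (a : W ⟶ E) (y₁ y₂ : W ⟶ E), y₁ ≫ v = y₂ ≫ v →
      lift a y₁ ≫ κ = lift a y₂ ≫ κ := by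
    intro W a y₁ y₂ h12
    obtain ⟨k, hk⟩ := h.exists_of_eq y₁ y₂ h12
    apply h.u_inj
    rw [κ_pt, κ_pt, hk]
    have hc := hcentral k a⁻¹
    calc a * y₁ * a⁻¹ * y₁⁻¹ = a * y₁ * (a⁻¹ * (k ≫ u) * (k ≫ u)⁻¹) * y₁⁻¹ := by group
      _ = a * y₁ * ((k ≫ u) * a⁻¹ * (k ≫ u)⁻¹) * y₁⁻¹ := by rw [hc]
      _ = a * (y₁ * (k ≫ u)) * a⁻¹ * (y₁ * (k ≫ u))⁻¹ := by group
  obtain ⟨κ₁, hκ₁⟩ := desc₁ κ hinv₁
  have hκ₁_pt : ∀ {W : C} (x y : W ⟶ E), lift (x ≫ v) y ≫ κ₁ = lift x y ≫ κ := by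
    intro W x y
    rw [← hκ₁, ← Category.assoc, lift_whiskerRight]
  have hinv₃ : ∀ {W : C} (a : W ⟶ P) (y₁ y₂ : W ⟶ E), y₁ ≫ v = y₂ ≫ v →
      lift a y₁ ≫ κ₁ = lift a y₂ ≫ κ₁ := by
    intro W a y₁ y₂ h12
    obtain ⟨k, hk⟩ := h.exists_of_eq y₁ y₂ h12
    let F₁ : P ⊗ (E ⊗ G) ⟶ G := lift (fst P (E ⊗ G)) (snd P (E ⊗ G) ≫ fst E G) ≫ κ₁
    let F₂ : P ⊗ (E ⊗ G) ⟶ G :=
      lift (fst P (E ⊗ G)) ((snd P (E ⊗ G) ≫ fst E G) * ((snd P (E ⊗ G) ≫ snd E G) ≫ u)) ≫ κ₁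
    have hF : F₁ = F₂ := by
      rw [← cancel_epi (v ▷ (E ⊗ G))]
      simp only [F₁, F₂]
      have g1 : (v ▷ (E ⊗ G)) ≫ lift (fst P (E ⊗ G)) (snd P (E ⊗ G) ≫ fst E G) =
          lift (fst E (E ⊗ G) ≫ v) (snd E (E ⊗ G) ≫ fst E G) := by
        apply CartesianMonoidalCategory.hom_ext <;> simp
      have g2 : (v ▷ (E ⊗ G)) ≫ lift (fst P (E ⊗ G)) ((snd P (E ⊗ G) ≫ fst E G) * ((snd P (E ⊗ G) ≫ snd E G) ≫ u)) =
          lift (fst E (E ⊗ G) ≫ v) ((snd E (E ⊗ G) ≫ fst E G) * ((snd E (E ⊗ G) ≫ snd E G) ≫ u)) := by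
        apply CartesianMonoidalCategory.hom_ext
        · simp
        · simp [comp_mul]
      rw [← Category.assoc, ← Category.assoc, g1, g2, hκ₁_pt, hκ₁_pt]
      refine hinv₂ _ _ _ ?_
      rw [mul_comp, h.comp_u_v, _root_.mul_one]
    have e1 : lift a y₁ = lift a (lift y₁ k) ≫ lift (fst P (E ⊗ G)) (snd P (E ⊗ G) ≫ fst E G) := by
      apply CartesianMonoidalCategory.hom_ext <;> simp
    have e2 : lift a y₂ = lift a (lift y₁ k) ≫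
        lift (fst P (E ⊗ G)) ((snd P (E ⊗ G) ≫ fst E G) * ((snd P (E ⊗ G) ≫ snd E G) ≫ u)) := by
      apply CartesianMonoidalCategory.hom_ext
      · simp
      · rw [lift_snd, Category.assoc, lift_snd, comp_mul, hk]
        simp
    rw [e1, e2, Category.assoc, Category.assoc]
    exact congrArg (lift a (lift y₁ k) ≫ ·) hF
  obtain ⟨κ₂, hκ₂⟩ := desc₂ κ₁ hinv₃
  have hκ₂_pt : ∀ {W : C} (x y : W ⟶ E), lift (x ≫ v) (y ≫ v) ≫ κ₂ = lift x y ≫ κ := by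
    intro W x y
    rw [← hκ₁_pt, ← hκ₂, ← Category.assoc, lift_whiskerLeft]
  have hκ₂1 : κ₂ = 1 := by
    apply hPP
    · rw [← cancel_epi v, comp_one, ← Category.assoc, comp_lift, Category.comp_id]
      have e1 : v ≫ toUnit P ≫ η[P] = (1 : E ⟶ E) ≫ v := by
        rw [one_comp, Hom.one_def, ← Category.assoc]
        congr 1
        exact toUnit_unique _ _
      have e0 : lift v (v ≫ toUnit P ≫ η[P]) = lift (𝟙 E ≫ v) ((1 : E ⟶ E) ≫ v) := by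
        rw [e1, Category.id_comp]
      rw [e0, hκ₂_pt]
      apply h.u_inj
      rw [κ_pt, one_comp]
      group
    · rw [← cancel_epi v, comp_one, ← Category.assoc, comp_lift, Category.comp_id]
      have e1 : v ≫ toUnit P ≫ η[P] = (1 : E ⟶ E) ≫ v := by
        rw [one_comp, Hom.one_def, ← Category.assoc]
        congr 1
        exact toUnit_unique _ _
      have e0 : lift (v ≫ toUnit P ≫ η[P]) v = lift ((1 : E ⟶ E) ≫ v) (𝟙 E ≫ v) := by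
        rw [e1, Category.id_comp]
      rw [e0, hκ₂_pt]
      apply h.u_inj
      rw [κ_pt, one_comp]
      group
  have hκ1 : κ = 1 := by
    rw [← hκ₁, ← hκ₂, hκ₂1, comp_one, comp_one]
  rw [isCommMonObj_iff_isMulCommutative]
  intro X
  refine ⟨⟨fun x y => ?_⟩⟩
  have e := κ_pt x y
  rw [hκ1, comp_one, one_comp] at e
  calc x * y = (x * y * x⁻¹ * y⁻¹) * (y * x) := by group
    _ = y * x := by rw [← e, _root_.one_mul]

end Groth.Agent.R2.H71.ExtCentral
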