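import Mathlib
import Groth.Prelude.Def_NonAbH2
import Groth.Agent.Lib.Helper12LocSplit
import Groth.Agent.Lib.Helper12Cart

/-!
Helper library (helper71): descent of morphisms of `S`-schemes along a morphism `π : Y ⟶ X` of
`Over S` which has sections locally for the fpqc topology (e.g. the projection of an fppf-exact
sequence of group schemes), phrased with generalized points.
-/

set_option autoImplicit false
set_option linter.style.haveILetI false
universe u

open CategoryTheory MonoidalCategory CartesianMonoidalCategory MonObj AlgebraicGeometry Limits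

namespace Groth.Agent.R2.H71.ExtDesc

open Groth.Agent.Lib.Helper12

/-- `π` acquires sections on the members of an fpqc covering of its target. -/
def HasLocSec {E B : Scheme.{u}} (π : E ⟶ B) : Prop :=
  ∃ R ∈ Scheme.fpqcPrecoverage B, ∀ ⦃W : Scheme.{u}⦄ (g : W ⟶ B), R g → ∃ t : W ⟶ E, t ≫ π = g

lemma HasLocSec.of_isPullback {A B C D : Scheme.{u}} {f' : A ⟶ B} {g' : A ⟶ C} {g : B ⟶ D}
    {f : C ⟶ D} (h : IsPullback f' g' g f) (hf : HasLocSec f) : HasLocSec f' := by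
  obtain ⟨R, hR, hsec⟩ := hf
  refine ⟨R.pullbackArrows g, Precoverage.pullbackArrows_mem g hR, ?_⟩
  rintro W _ ⟨Z, k, hk⟩
  obtain ⟨σ, hσ⟩ := hsec k hk
  refine ⟨h.lift (pullback.snd k g) (pullback.fst k g ≫ σ) ?_, h.lift_fst _ _ _⟩
  rw [Category.assoc, hσ, pullback.condition]

variable {S : Scheme.{u}}

lemma hasLocSec_of_fppf {E P : Over S} (v : E ⟶ P)
    (h : NonAbH1.IsLocallyTrivialFor Scheme.fppfPrecoverage (Over.mk v.left : Over P.left)) :
    HasLocSec v.left := by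
  obtain ⟨R, hR, hsec⟩ := h
  refine ⟨R, Scheme.fppfPrecoverage_le_fpqcPrecoverage _ hR, ?_⟩
  intro W g hg
  obtain ⟨s, hs⟩ := hsec g hg
  exact ⟨s, hs⟩

lemma HasLocSec.whiskerRight {Y X : Over S} {π : Y ⟶ X} (h : HasLocSec π.left) (A : Over S) :
    HasLocSec (π ▷ A).left := by
  have hpb := (isPullback_whiskerRight A π).map (Over.forget S)
  simp only [Over.forget_obj, Over.forget_map] at hpb
  exact HasLocSec.of_isPullback hpb h

lemma HasLocSec.whiskerLeft {Y X : Over S} {π : Y ⟶ X} (h : HasLocSec π.left) (A : Over S) :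
    HasLocSec (A ◁ π).left := by
  have hpb := (isPullback_whiskerLeft A π).map (Over.forget S)
  simp only [Over.forget_obj, Over.forget_map] at hpb
  exact HasLocSec.of_isPullback hpb h

/-- descent of morphisms along `π` with local sections, in generalized points. -/
theorem existsUnique_desc {Y X Z : Over S} (π : Y ⟶ X) (hπ : HasLocSec π.left) (m : Y ⟶ Z)
    (hm : ∀ {W : Over S} (y₁ y₂ : W ⟶ Y), y₁ ≫ π = y₂ ≫ π → y₁ ≫ m = y₂ ≫ m) :
    ∃! r : X ⟶ Z, π ≫ r = m := by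
  obtain ⟨R, hR, hsec⟩ := hπ
  have hm' : ∀ {W : Scheme.{u}} (p₁ p₂ : W ⟶ Y.left),
      p₁ ≫ π.left = p₂ ≫ π.left → ∀ {Z' : Over S} (m' : Y ⟶ Z'),
      (∀ {W : Over S} (y₁ y₂ : W ⟶ Y), y₁ ≫ π = y₂ ≫ π → y₁ ≫ m' = y₂ ≫ m') →
      p₁ ≫ m'.left = p₂ ≫ m'.left := by
    intro W p₁ p₂ h12 Z' m' hm'
    have hw : p₂ ≫ Y.hom = p₁ ≫ Y.hom := by
      rw [← Over.w π, ← Category.assoc, ← Category.assoc, h12]
    let W' : Over S := Over.mk (p₁ ≫ Y.hom)
    let q₁ : W' ⟶ Y := Over.homMk p₁ rfl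
    let q₂ : W' ⟶ Y := Over.homMk p₂ hw
    have hq : q₁ ≫ π = q₂ ≫ π := by
      ext
      exact h12
    exact congrArg (fun φ => φ.left) (hm' q₁ q₂ hq)
  obtain ⟨r, hr, hru⟩ := LocSplit.existsUnique_desc π.left R hR hsec m.left
    (fun p₁ p₂ h => hm' p₁ p₂ h m hm)
  have hepi : ∀ {Z' : Scheme.{u}} (α β : X.left ⟶ Z'), π.left ≫ α = π.left ≫ β → α = β := by
    intro Z' α β hαβ
    obtain ⟨r', _, hru'⟩ := LocSplit.existsUnique_desc π.left R hR hsec (π.left ≫ α)
      (fun p₁ p₂ h => by rw [← Category.assoc, ← Category.assoc, h])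
    rw [hru' α rfl, hru' β hαβ.symm]
  have hrw : r ≫ Z.hom = X.hom := by
    apply hepi
    rw [← Category.assoc, hr, Over.w m, Over.w π]
  refine ⟨Over.homMk r hrw, ?_, ?_⟩
  · ext
    exact hr
  · intro r' hr'
    ext
    exact hru r'.left (by rw [← hr']; rfl)

theorem epi_of_hasLocSec {Y X : Over S} (π : Y ⟶ X) (hπ : HasLocSec π.left) : Epi π := by
  constructor
  intro Z α β hαβ
  obtain ⟨r', _, hru'⟩ := existsUnique_desc π hπ (π ≫ α)
    (fun y₁ y₂ h => by rw [← Category.assoc, ← Category.assoc, h])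
  rw [hru' α rfl, hru' β hαβ.symm]

/-- descent along `v ▷ A` in generalized points. -/
theorem exists_desc_whiskerRight {E P : Over S} (v : E ⟶ P) (hv : HasLocSec v.left)
    {A Z : Over S} (m : E ⊗ A ⟶ Z)
    (hm : ∀ {W : Over S} (x₁ x₂ : W ⟶ E) (a : W ⟶ A), x₁ ≫ v = x₂ ≫ v →
      lift x₁ a ≫ m = lift x₂ a ≫ m) :
    ∃ r : P ⊗ A ⟶ Z, (v ▷ A) ≫ r = m := by
  obtain ⟨r, hr, -⟩ := existsUnique_desc (v ▷ A) (hv.whiskerRight A) m (by
    intro W y₁ y₂ h12
    have h1 : (y₁ ≫ fst E A) ≫ v = (y₂ ≫ fst E A) ≫ v := by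
      have := congrArg (· ≫ fst P A) h12
      simpa using this
    have h2 : y₁ ≫ snd E A = y₂ ≫ snd E A := by
      have := congrArg (· ≫ snd P A) h12
      simpa using this
    have e1 : y₁ = lift (y₁ ≫ fst E A) (y₁ ≫ snd E A) := by
      apply CartesianMonoidalCategory.hom_ext <;> simp
    have e2 : y₂ = lift (y₂ ≫ fst E A) (y₁ ≫ snd E A) := by
      rw [h2]
      apply CartesianMonoidalCategory.hom_ext <;> simp
    rw [e1, e2]
    exact hm _ _ _ h1)
  exact ⟨r, hr⟩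

/-- descent along `A ◁ v` in generalized points. -/
theorem exists_desc_whiskerLeft {E P : Over S} (v : E ⟶ P) (hv : HasLocSec v.left)
    {A Z : Over S} (m : A ⊗ E ⟶ Z)
    (hm : ∀ {W : Over S} (a : W ⟶ A) (x₁ x₂ : W ⟶ E), x₁ ≫ v = x₂ ≫ v →
      lift a x₁ ≫ m = lift a x₂ ≫ m) :
    ∃ r : A ⊗ P ⟶ Z, (A ◁ v) ≫ r = m := by
  obtain ⟨r, hr, -⟩ := existsUnique_desc (A ◁ v) (hv.whiskerLeft A) m (by
    intro W y₁ y₂ h12
    have h1 : (y₁ ≫ snd A E) ≫ v = (y₂ ≫ snd A E) ≫ v := by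
      have := congrArg (· ≫ snd A P) h12
      simpa using this
    have h2 : y₁ ≫ fst A E = y₂ ≫ fst A E := by
      have := congrArg (· ≫ fst A P) h12
      simpa using this
    have e1 : y₁ = lift (y₁ ≫ fst A E) (y₁ ≫ snd A E) := by
      apply CartesianMonoidalCategory.hom_ext <;> simp
    have e2 : y₂ = lift (y₁ ≫ fst A E) (y₂ ≫ snd A E) := by
      rw [h2]
      apply CartesianMonoidalCategory.hom_ext <;> simp
    rw [e1, e2]
    exact hm _ _ _ h1)
  exact ⟨r, hr⟩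

end Groth.Agent.R2.H71.ExtDesc
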