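import Mathlib

/-!
# Surjectivity of linear maps can be checked on geometric fibres (helper71)
-/

set_option autoImplicit false
set_option linter.style.haveILetI false

universe u

namespace Groth.Agent.R2.H71GalPrinciple

open TensorProduct

/-- A linear map into a finite module is surjective as soon as all its base changes to
algebraically closed fields are surjective. -/
theorem surjective_of_forall_algClosed {A : Type u} [CommRing A] {M : Type*} {N : Type*}
    [AddCommGroup M] [Module A M] [AddCommGroup N] [Module A N] [Module.Finite A N]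
    (f : M →ₗ[A] N)
    (h : ∀ (Ω : Type u) [Field Ω] [IsAlgClosed Ω] [Algebra A Ω],
      Function.Surjective (f.baseChange Ω)) : Function.Surjective f := by
  classical
  rw [← LinearMap.range_eq_top]
  set N' := LinearMap.range f with hN'
  -- the cokernel
  let Q := N ⧸ N'
  have hQfin : Module.Finite A Q := inferInstance
  -- step 1: `Q = 𝔪 Q` for all maximal ideals
  have step1 : ∀ 𝔪 : Ideal A, 𝔪.IsMaximal → (⊤ : Submodule A Q) ≤ 𝔪 • ⊤ := by
    intro 𝔪 h𝔪
    letI : Field (A ⧸ 𝔪) := Ideal.Quotient.field 𝔪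
    let Ω := AlgebraicClosure (A ⧸ 𝔪)
    haveI : IsScalarTower A (A ⧸ 𝔪) Ω := inferInstance
    have hΩ := h Ω
    by_contra hne
    -- the vector space `V = Q / 𝔪 Q`
    let V := Q ⧸ (𝔪 • ⊤ : Submodule A Q)
    have hV : Nontrivial V := by
      rw [Submodule.Quotient.nontrivial_iff]
      intro heq
      exact hne heq.ge
    obtain ⟨v, hv⟩ := exists_ne (0 : V)
    obtain ⟨φ, hφ⟩ : ∃ φ : Module.Dual (A ⧸ 𝔪) V, φ v ≠ 0 := by
      by_contra hcon
      push Not at hcon
      exact hv ((Module.forall_dual_apply_eq_zero_iff (A ⧸ 𝔪) v).mp hcon)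
    -- the A-linear map `g : N → A ⧸ 𝔪`
    let g : N →ₗ[A] (A ⧸ 𝔪) :=
      (φ.restrictScalars A).comp ((Submodule.mkQ _).comp (Submodule.mkQ N'))
    have hgf : g.comp f = 0 := by
      ext m
      have : (Submodule.mkQ N') (f m) = 0 := by
        rw [Submodule.mkQ_apply, Submodule.Quotient.mk_eq_zero]
        exact LinearMap.mem_range_self f m
      simp [g, this]
    obtain ⟨n₀, hn₀⟩ : ∃ n₀ : N, g n₀ = 1 := by
      obtain ⟨q, rfl⟩ := Submodule.mkQ_surjective _ v
      obtain ⟨n, rfl⟩ := Submodule.mkQ_surjective _ q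
      have hu : g n ≠ 0 := hφ
      obtain ⟨a', ha'⟩ := Ideal.Quotient.mk_surjective (g n)⁻¹
      refine ⟨a' • n, ?_⟩
      rw [map_smul, Algebra.smul_def, Ideal.Quotient.algebraMap_eq, ha', inv_mul_cancel₀ hu]
    have h1 : (g.baseChange Ω).comp (f.baseChange Ω) = 0 := by
      rw [← LinearMap.baseChange_comp, hgf, LinearMap.baseChange_zero]
    have h2 : (1 : Ω) ⊗ₜ[A] (1 : A ⧸ 𝔪) = 0 := by
      obtain ⟨w, hw⟩ := hΩ ((1 : Ω) ⊗ₜ[A] n₀)
      have := LinearMap.congr_fun h1 w
      rw [LinearMap.comp_apply, hw, LinearMap.baseChange_tmul, hn₀] at this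
      simpa using this
    have h3 := congrArg (Algebra.TensorProduct.productMap (AlgHom.id A Ω)
      (IsScalarTower.toAlgHom A (A ⧸ 𝔪) Ω)) h2
    simp at h3
  -- step 2: conclusion
  by_contra hne
  have hann : (Module.annihilator A Q) ≠ ⊤ := by
    intro htop
    apply hne
    rw [eq_top_iff]
    intro n _
    have h1 : (1 : A) ∈ Module.annihilator A Q := htop ▸ Submodule.mem_top
    have h2 := Module.mem_annihilator.mp h1 (Submodule.mkQ N' n)
    rw [one_smul, Submodule.mkQ_apply, Submodule.Quotient.mk_eq_zero] at h2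
    exact h2
  obtain ⟨𝔪, h𝔪, hle⟩ := Ideal.exists_le_maximal _ hann
  obtain ⟨r, hr1, hr2⟩ := Submodule.exists_sub_one_mem_and_smul_eq_zero_of_fg_of_le_smul 𝔪
    (⊤ : Submodule A Q) (Module.finite_def.mp hQfin) (step1 𝔪 h𝔪)
  have hr : r ∈ 𝔪 := hle (Module.mem_annihilator.mpr fun q => hr2 q Submodule.mem_top)
  have : (1 : A) ∈ 𝔪 := by
    have := 𝔪.sub_mem hr hr1
    simpa using this
  exact h𝔪.ne_top ((Ideal.eq_top_iff_one _).mpr this)


/-- A linear map from a finite module to a finite projective module is bijective as soon as all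
its base changes to algebraically closed fields are bijective. -/
theorem bijective_of_forall_algClosed {A : Type u} [CommRing A] {M : Type*} {N : Type*}
    [AddCommGroup M] [Module A M] [AddCommGroup N] [Module A N] [Module.Finite A M]
    [Module.Finite A N] [Module.Projective A N] (f : M →ₗ[A] N)
    (h : ∀ (Ω : Type u) [Field Ω] [IsAlgClosed Ω] [Algebra A Ω],
      Function.Bijective (f.baseChange Ω)) : Function.Bijective f := by
  have hsurj : Function.Surjective f :=
    surjective_of_forall_algClosed f fun Ω _ _ _ => (h Ω).2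
  obtain ⟨s, hs⟩ := Module.projective_lifting_property f LinearMap.id hsurj
  have hs_surj : Function.Surjective s := by
    apply surjective_of_forall_algClosed
    intro Ω _ _ _
    have h1 : (f.baseChange Ω).comp (s.baseChange Ω) = LinearMap.id := by
      rw [← LinearMap.baseChange_comp, hs, LinearMap.baseChange_id]
    intro z
    refine ⟨(f.baseChange Ω) z, (h Ω).1 ?_⟩
    exact LinearMap.congr_fun h1 _
  refine ⟨fun x y hxy => ?_, hsurj⟩
  obtain ⟨x', rfl⟩ := hs_surj x
  obtain ⟨y', rfl⟩ := hs_surj y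
  have hx := LinearMap.congr_fun hs x'
  have hy := LinearMap.congr_fun hs y'
  simp only [LinearMap.comp_apply, LinearMap.id_apply] at hx hy
  rw [hx, hy] at hxy
  rw [hxy]

/-- linear independence gives spanning of evaluation vectors -/
theorem span_eval_eq_top {Ω : Type*} [Field Ω] {ι : Type*} [Fintype ι] {S : Type*}
    (φ : ι → S → Ω) (hli : LinearIndependent Ω φ) :
    Submodule.span Ω (Set.range fun y : S => (fun i => φ i y)) = ⊤ := by
  classical
  by_contra hne
  obtain ⟨l, hl0, hl⟩ := Submodule.exists_le_ker_of_lt_top _ (lt_top_iff_ne_top.mpr hne)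
  apply hl0
  have key : ∀ y : S, ∑ i, l (Pi.single i 1) * φ i y = 0 := by
    intro y
    have h1 : l (fun i => φ i y) = 0 := hl (Submodule.subset_span ⟨y, rfl⟩)
    rw [LinearMap.pi_apply_eq_sum_univ] at h1
    rw [← h1]
    refine Finset.sum_congr rfl fun i _ => ?_
    rw [smul_eq_mul, mul_comm]
    congr 2
    ext j
    simp [Pi.single_apply, eq_comm]
  have h2 : ∑ i, l (Pi.single i 1) • φ i = 0 := by
    ext y
    simpa using key y
  have h3 := Fintype.linearIndependent_iff.mp hli _ h2
  apply LinearMap.pi_ext'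
  intro i
  ext
  simpa using h3 i

end Groth.Agent.R2.H71GalPrinciple
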