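import Mathlib

/-!
# Finite reduced algebras over an algebraically closed field are split (helper71)
-/

set_option autoImplicit false
set_option linter.style.haveILetI false
set_option linter.unusedSectionVars false

universe u

namespace Groth.Agent.R2.H71GalSplit

section split

variable {Ω : Type u} [Field Ω] [IsAlgClosed Ω] {C : Type u} [CommRing C] [Algebra Ω C]
  [Module.Finite Ω C] [IsReduced C]

theorem exists_algHom_ker (𝔪 : Ideal C) [h𝔪 : 𝔪.IsMaximal] :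
    ∃ φ : C →ₐ[Ω] Ω, ∀ c, φ c = 0 → c ∈ 𝔪 := by
  letI : Field (C ⧸ 𝔪) := Ideal.Quotient.field 𝔪
  have hbij : Function.Bijective (algebraMap Ω (C ⧸ 𝔪)) :=
    IsAlgClosed.algebraMap_bijective_of_isIntegral
  let e : Ω ≃ₐ[Ω] (C ⧸ 𝔪) := AlgEquiv.ofBijective (Algebra.ofId Ω (C ⧸ 𝔪)) hbij
  refine ⟨(e.symm : (C ⧸ 𝔪) →ₐ[Ω] Ω).comp (Ideal.Quotient.mkₐ Ω 𝔪), fun c hc => ?_⟩
  have : (Ideal.Quotient.mkₐ Ω 𝔪) c = 0 := by
    have h2 : e.symm ((Ideal.Quotient.mkₐ Ω 𝔪) c) = 0 := hc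
    simpa using h2
  exact Ideal.Quotient.eq_zero_iff_mem.mp this

theorem eq_zero_of_forall_algHom (c : C) (h : ∀ φ : C →ₐ[Ω] Ω, φ c = 0) : c = 0 := by
  haveI : IsArtinianRing C := IsArtinianRing.of_finite Ω C
  have hJ : c ∈ Ideal.jacobson (⊥ : Ideal C) := by
    rw [Ideal.jacobson, Ideal.mem_sInf]
    rintro 𝔪 ⟨-, h𝔪⟩
    obtain ⟨φ, hφ⟩ := exists_algHom_ker (Ω := Ω) 𝔪
    exact hφ c (h φ)
  obtain ⟨n, hn⟩ := IsArtinianRing.isNilpotent_jacobson_bot (R := C)
  have h2 : c ^ n ∈ (Ideal.jacobson (⊥ : Ideal C)) ^ n := Ideal.pow_mem_pow hJ n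
  rw [hn] at h2
  exact IsNilpotent.eq_zero ⟨n, h2⟩

instance finite_algHom : Finite (C →ₐ[Ω] Ω) :=
  (linearIndependent_algHom_toLinearMap Ω C Ω).finite_of_isNoetherian

/-- the evaluation map -/
noncomputable def ev : C →ₗ[Ω] ((C →ₐ[Ω] Ω) → Ω) :=
  LinearMap.pi fun φ => φ.toLinearMap

omit [IsAlgClosed Ω] [Module.Finite Ω C] [IsReduced C] in
@[simp] theorem ev_apply (c : C) (φ : C →ₐ[Ω] Ω) : ev c φ = φ c := rfl

theorem ev_injective : Function.Injective (ev (Ω := Ω) (C := C)) := by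
  rw [injective_iff_map_eq_zero]
  intro c hc
  exact eq_zero_of_forall_algHom c fun φ => congrFun hc φ

theorem finrank_eq_card : Module.finrank Ω C = Nat.card (C →ₐ[Ω] Ω) := by
  classical
  haveI := Fintype.ofFinite (C →ₐ[Ω] Ω)
  apply le_antisymm
  · have := LinearMap.finrank_le_finrank_of_injective (ev_injective (Ω := Ω) (C := C))
    rwa [Module.finrank_fintype_fun_eq_card, ← Nat.card_eq_fintype_card] at this
  · have := (linearIndependent_algHom_toLinearMap Ω C Ω).fintype_card_le_finrank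
    rw [← Nat.card_eq_fintype_card] at this
    refine this.trans (le_of_eq ?_)
    exact Subspace.dual_finrank_eq (K := Ω) (V := C)

theorem ev_bijective : Function.Bijective (ev (Ω := Ω) (C := C)) := by
  classical
  haveI := Fintype.ofFinite (C →ₐ[Ω] Ω)
  refine ⟨ev_injective, ?_⟩
  rw [← LinearMap.injective_iff_surjective_of_finrank_eq_finrank]
  · exact ev_injective
  · rw [Module.finrank_fintype_fun_eq_card, finrank_eq_card, Nat.card_eq_fintype_card]

theorem exists_eval_eq (f : (C →ₐ[Ω] Ω) → Ω) : ∃ c : C, ∀ φ : C →ₐ[Ω] Ω, φ c = f φ := by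
  obtain ⟨c, hc⟩ := (ev_bijective (Ω := Ω) (C := C)).2 f
  exact ⟨c, fun φ => congrFun hc φ⟩

end split

end Groth.Agent.R2.H71GalSplit
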