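import Mathlib
import Groth.Agent.R2.H71GalPrinciple
import Groth.Agent.R2.H71GalSplit

/-!
# Galois algebras from geometric fibres (helper71)
-/

set_option autoImplicit false
set_option linter.style.haveILetI false
set_option linter.unusedSectionVars false

universe u v

namespace Groth.Agent.R2.H71GalCore

open TensorProduct Groth.Agent.R2.H71GalPrinciple Groth.Agent.R2.H71GalSplit

variable {A B : Type u} [CommRing A] [CommRing B] [Algebra A B]

section fibre

variable (Ω : Type u) [Field Ω] [Algebra A Ω]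

/-- extension of a point to the fibre algebra -/
noncomputable def extPt (φ : B →ₐ[A] Ω) : Ω ⊗[A] B →ₐ[Ω] Ω :=
  Algebra.TensorProduct.productLeftAlgHom (AlgHom.id Ω Ω) φ

@[simp] theorem extPt_tmul (φ : B →ₐ[A] Ω) (ω : Ω) (y : B) :
    extPt Ω φ (ω ⊗ₜ y) = ω * φ y := by
  simp [extPt]

/-- restriction of a point of the fibre algebra -/
noncomputable def resPt (χ : Ω ⊗[A] B →ₐ[Ω] Ω) : B →ₐ[A] Ω :=
  (χ.restrictScalars A).comp Algebra.TensorProduct.includeRight

@[simp] theorem resPt_apply (χ : Ω ⊗[A] B →ₐ[Ω] Ω) (y : B) : resPt Ω χ y = χ (1 ⊗ₜ y) := rfl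

theorem extPt_resPt (χ : Ω ⊗[A] B →ₐ[Ω] Ω) : extPt Ω (resPt Ω χ) = χ := by
  apply Algebra.TensorProduct.ext'
  intro ω y
  rw [extPt_tmul, resPt_apply]
  have : ω ⊗ₜ[A] y = ω • ((1 : Ω) ⊗ₜ[A] y) := by
    rw [TensorProduct.smul_tmul', smul_eq_mul, mul_one]
  rw [this, map_smul, smul_eq_mul]

theorem resPt_extPt (φ : B →ₐ[A] Ω) : resPt Ω (extPt Ω φ) = φ := by
  ext y
  simp

/-- points of the fibre algebra are the `A`-algebra maps `B → Ω`. -/
noncomputable def ptEquiv : (Ω ⊗[A] B →ₐ[Ω] Ω) ≃ (B →ₐ[A] Ω) where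
  toFun := resPt Ω
  invFun := extPt Ω
  left_inv := extPt_resPt Ω
  right_inv := resPt_extPt Ω

/-- base change of an endomorphism -/
noncomputable def bcEnd (τ : B →ₐ[A] B) : Ω ⊗[A] B →ₐ[Ω] Ω ⊗[A] B :=
  Algebra.TensorProduct.map (AlgHom.id Ω Ω) τ

@[simp] theorem bcEnd_tmul (τ : B →ₐ[A] B) (ω : Ω) (y : B) :
    bcEnd Ω τ (ω ⊗ₜ y) = ω ⊗ₜ τ y := by
  simp [bcEnd]

theorem extPt_comp_bcEnd (φ : B →ₐ[A] Ω) (τ : B →ₐ[A] B) :
    (extPt Ω φ).comp (bcEnd Ω τ) = extPt Ω (φ.comp τ) := by
  apply Algebra.TensorProduct.ext'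
  intro ω y
  simp

end fibre


section galois

variable [Module.Finite A B] [Algebra.Etale A B] [Module.FaithfullyFlat A B]
  {G : Type v} [CommGroup G] [Fintype G] (σ : G → B →ₐ[A] B)

/-- The torsor condition on geometric fibres. -/
def IsTorsorOnFibres : Prop :=
  ∀ (Ω : Type u) [Field Ω] [IsAlgClosed Ω] [Algebra A Ω] (φ φ' : B →ₐ[A] Ω),
    ∃! g : G, φ.comp (σ g) = φ'

instance instProjective : Module.Projective A B := by
  haveI : Module.FinitePresentation A B :=
    Module.FinitePresentation.of_finite_of_finitePresentation A B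
  exact Module.Flat.projective_of_finitePresentation

variable {σ}

theorem orbit_injective (H : IsTorsorOnFibres σ) (Ω : Type u) [Field Ω] [IsAlgClosed Ω]
    [Algebra A Ω] (φ : B →ₐ[A] Ω) : Function.Injective fun g : G => φ.comp (σ g) := by
  intro g h hgh
  exact (H Ω φ (φ.comp (σ h))).unique hgh rfl

theorem orbit_surjective (H : IsTorsorOnFibres σ) (Ω : Type u) [Field Ω] [IsAlgClosed Ω]
    [Algebra A Ω] (φ : B →ₐ[A] Ω) : Function.Surjective fun g : G => φ.comp (σ g) := by
  intro φ'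
  exact (H Ω φ φ').exists

instance instReducedFibre (Ω : Type u) [Field Ω] [Algebra A Ω] : IsReduced (Ω ⊗[A] B) :=
  Algebra.FormallyUnramified.isReduced_of_field Ω (Ω ⊗[A] B)

theorem exists_point (Ω : Type u) [Field Ω] [IsAlgClosed Ω] [Algebra A Ω] :
    Nonempty (B →ₐ[A] Ω) := by
  haveI : Nontrivial (Ω ⊗[A] B) :=
    (Module.FaithfullyFlat.nontrivial_tensorProduct_iff_left A Ω).mpr inferInstance
  obtain ⟨𝔪, h𝔪⟩ := Ideal.exists_maximal (Ω ⊗[A] B)
  obtain ⟨χ, -⟩ := exists_algHom_ker (Ω := Ω) 𝔪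
  exact ⟨resPt Ω χ⟩

theorem finrank_fibre (H : IsTorsorOnFibres σ) (Ω : Type u) [Field Ω] [IsAlgClosed Ω]
    [Algebra A Ω] : Module.finrank Ω (Ω ⊗[A] B) = Fintype.card G := by
  obtain ⟨φ⟩ := exists_point (A := A) (B := B) Ω
  rw [finrank_eq_card, Nat.card_congr (ptEquiv Ω), ← Nat.card_eq_fintype_card]
  exact (Nat.card_congr (Equiv.ofBijective _ ⟨orbit_injective H Ω φ, orbit_surjective H Ω φ⟩)).symm


variable (σ)

/-- the components of `ψ` -/
noncomputable def psiComp (g : G) : B ⊗[A] B →ₐ[B] B :=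
  Algebra.TensorProduct.productLeftAlgHom (AlgHom.id B B) (σ g)

@[simp] theorem psiComp_tmul (g : G) (x y : B) : psiComp σ g (x ⊗ₜ y) = x * σ g y := by
  simp [psiComp]

/-- `ψ : B ⊗ B → ∏_G B`, `x ⊗ y ↦ (x σ_g(y))_g`. -/
noncomputable def psi : B ⊗[A] B →ₗ[B] (G → B) :=
  LinearMap.pi fun g => (psiComp σ g).toLinearMap

@[simp] theorem psi_apply (z : B ⊗[A] B) (g : G) : psi σ z g = psiComp σ g z := rfl

variable {σ}

theorem psi_baseChange_surjective (H : IsTorsorOnFibres σ) (Ω : Type u) [Field Ω]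
    [IsAlgClosed Ω] [Algebra B Ω] : Function.Surjective ((psi σ).baseChange Ω) := by
  classical
  letI : Algebra A Ω := ((algebraMap B Ω).comp (algebraMap A B)).toAlgebra
  haveI : IsScalarTower A B Ω := IsScalarTower.of_algebraMap_eq' rfl
  let φ₀ : B →ₐ[A] Ω := IsScalarTower.toAlgHom A B Ω
  let e : G → Ω ⊗[B] (G → B) := fun g => (1 : Ω) ⊗ₜ[B] (Pi.single g (1 : B) : G → B)
  let T : (G → Ω) →ₗ[Ω] Ω ⊗[B] (G → B) := Fintype.linearCombination Ω e
  have hTf : ∀ (ω : Ω) (f : G → B),
      ω ⊗ₜ[B] f = T (fun g => ω * algebraMap B Ω (f g)) := by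
    intro ω f
    simp only [T, e, Fintype.linearCombination_apply]
    have h1 : ∀ g : G, (ω * algebraMap B Ω (f g)) • ((1 : Ω) ⊗ₜ[B] (Pi.single g (1 : B) : G → B))
        = ω ⊗ₜ[B] (Pi.single g (f g) : G → B) := by
      intro g
      rw [TensorProduct.smul_tmul', smul_eq_mul, mul_one, mul_comm, ← Algebra.smul_def,
        TensorProduct.smul_tmul]
      congr 1
      ext h
      simp [Pi.single_apply]
    rw [Finset.sum_congr rfl fun g _ => h1 g, ← TensorProduct.tmul_sum]
    congr 1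
    exact (Finset.univ_sum_single f).symm
  have hT : Function.Surjective T := by
    intro z
    induction z with
    | zero => exact ⟨0, map_zero _⟩
    | add x y hx hy =>
      obtain ⟨a, rfl⟩ := hx
      obtain ⟨b, rfl⟩ := hy
      exact ⟨a + b, map_add _ _ _⟩
    | tmul ω f => exact ⟨_, (hTf ω f).symm⟩
  have hR : ∀ y : B, T (fun g => φ₀ (σ g y)) ∈ LinearMap.range ((psi σ).baseChange Ω) := by
    intro y
    refine ⟨(1 : Ω) ⊗ₜ[B] ((1 : B) ⊗ₜ[A] y), ?_⟩
    rw [LinearMap.baseChange_tmul, hTf]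
    congr 1
    ext g
    simp [φ₀]
  have hli : LinearIndependent Ω (fun g : G => (⇑(φ₀.comp (σ g)) : B → Ω)) := by
    have h1 := linearIndependent_monoidHom B Ω
    have h2 := h1.comp (fun g : G => ((φ₀.comp (σ g) : B →ₐ[A] Ω) : B →* Ω)) (by
      intro g h hgh
      apply orbit_injective H Ω φ₀
      ext y
      exact DFunLike.congr_fun hgh y)
    exact h2
  have hspan := span_eval_eq_top (fun g : G => (⇑(φ₀.comp (σ g)) : B → Ω)) hli
  have hle : (⊤ : Submodule Ω (G → Ω)) ≤
      (LinearMap.range ((psi σ).baseChange Ω)).comap T := by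
    rw [← hspan, Submodule.span_le]
    rintro _ ⟨y, rfl⟩
    exact hR y
  intro z
  obtain ⟨c, rfl⟩ := hT z
  exact hle (Submodule.mem_top (x := c))

theorem psi_baseChange_bijective (H : IsTorsorOnFibres σ) (Ω : Type u) [Field Ω]
    [IsAlgClosed Ω] [Algebra B Ω] : Function.Bijective ((psi σ).baseChange Ω) := by
  classical
  letI : Algebra A Ω := ((algebraMap B Ω).comp (algebraMap A B)).toAlgebra
  haveI : IsScalarTower A B Ω := IsScalarTower.of_algebraMap_eq' rfl
  haveI : Nontrivial B := RingHom.domain_nontrivial (algebraMap B Ω)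
  have hsurj := psi_baseChange_surjective H Ω
  refine ⟨?_, hsurj⟩
  rw [LinearMap.injective_iff_surjective_of_finrank_eq_finrank]
  · exact hsurj
  · rw [(TensorProduct.AlgebraTensorModule.cancelBaseChange A B Ω Ω B).finrank_eq,
      finrank_fibre H Ω, Module.finrank_baseChange, Module.finrank_fintype_fun_eq_card]

theorem psi_bijective (H : IsTorsorOnFibres σ) : Function.Bijective (psi σ) :=
  bijective_of_forall_algClosed (psi σ) fun Ω _ _ _ => psi_baseChange_bijective H Ω


theorem mem_range_of_invariant (H : IsTorsorOnFibres σ) (x : B) (hx : ∀ g, σ g x = x) :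
    x ∈ Set.range (algebraMap A B) := by
  have heff := Algebra.IsEffective.of_faithfullyFlat A B
  have h1 : Algebra.TensorProduct.includeLeftSubRight A B x = 0 := by
    rw [Algebra.TensorProduct.includeLeftSubRight_apply, sub_eq_zero]
    apply (psi_bijective H).1
    ext g
    simp [hx g]
  obtain ⟨a, ha⟩ := (heff x).mp h1
  exact ⟨a, ha⟩

variable (σ)

/-- the sum of the conjugates -/
noncomputable def trB : B →ₗ[A] B := ∑ g, (σ g).toLinearMap

@[simp] theorem trB_apply (y : B) : trB σ y = ∑ g, σ g y := by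
  simp [trB]

variable {σ}

theorem sigma_trB (hmul : ∀ g h, σ (g * h) = (σ g).comp (σ h)) (h : G) (y : B) :
    σ h (trB σ y) = trB σ y := by
  rw [trB_apply, map_sum]
  have : ∀ g, σ h (σ g y) = σ (h * g) y := fun g => by rw [hmul]; rfl
  simp only [this]
  exact Fintype.sum_equiv (Equiv.mulLeft h) _ _ fun g => rfl

theorem exists_trace_eq_one (H : IsTorsorOnFibres σ)
    (hmul : ∀ g h, σ (g * h) = (σ g).comp (σ h)) : ∃ c : B, ∑ g, σ g c = 1 := by
  classical
  have hinj : Function.Injective (Algebra.linearMap A B) :=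
    FaithfulSMul.algebraMap_injective A B
  -- the map `t : B → A`
  let t : B →ₗ[A] A := (LinearEquiv.ofInjective (Algebra.linearMap A B) hinj).symm.toLinearMap ∘ₗ
    (trB σ).codRestrict (LinearMap.range (Algebra.linearMap A B)) (fun y => by
      obtain ⟨a, ha⟩ := mem_range_of_invariant H (trB σ y) (fun g => sigma_trB hmul g y)
      exact ⟨a, ha⟩)
  have ht : (Algebra.linearMap A B) ∘ₗ t = trB σ := by
    ext y
    simp only [t, LinearMap.comp_apply, LinearEquiv.coe_coe]
    rw [LinearEquiv.ofInjective_symm_apply]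
    rfl
  have htsurj : Function.Surjective t := by
    apply surjective_of_forall_algClosed
    intro Ω _ _ _
    obtain ⟨φ₀⟩ := exists_point (A := A) (B := B) Ω
    -- the idempotent at `φ₀`
    obtain ⟨c₀, hc₀⟩ := exists_eval_eq (Ω := Ω) (C := Ω ⊗[A] B)
      (fun χ => if χ = extPt Ω φ₀ then 1 else 0)
    have hbc : ∀ (g : G) (z : Ω ⊗[A] B),
        ((σ g).toLinearMap.baseChange Ω) z = bcEnd Ω (σ g) z := by
      intro g z
      induction z with
      | zero => simp
      | add x y hx hy => rw [map_add, map_add, hx, hy]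
      | tmul ω y => simp
    have htr : ((trB σ).baseChange Ω) c₀ = 1 := by
      apply ev_injective (Ω := Ω) (C := Ω ⊗[A] B)
      ext χ
      rw [ev_apply, ev_apply, map_one]
      have h1 : ((trB σ).baseChange Ω) c₀ = ∑ g, bcEnd Ω (σ g) c₀ := by
        have h0 : (trB σ).baseChange Ω = ∑ g, ((σ g).toLinearMap.baseChange Ω) :=
          map_sum (LinearMap.baseChangeHom A Ω B B) _ _
        rw [h0, LinearMap.sum_apply]
        exact Finset.sum_congr rfl fun g _ => hbc g c₀
      rw [h1, map_sum]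
      obtain ⟨g₀, hg₀, hg₀u⟩ := H Ω (resPt Ω χ) φ₀
      rw [Finset.sum_eq_single_of_mem g₀ (Finset.mem_univ _)]
      · have h2 : χ (bcEnd Ω (σ g₀) c₀) = (χ.comp (bcEnd Ω (σ g₀))) c₀ := rfl
        rw [h2, hc₀, if_pos]
        rw [← extPt_resPt Ω χ, extPt_comp_bcEnd, hg₀]
      · intro g _ hg
        have h2 : χ (bcEnd Ω (σ g) c₀) = (χ.comp (bcEnd Ω (σ g))) c₀ := rfl
        rw [h2, hc₀, if_neg]
        intro hcon
        apply hg
        apply hg₀u
        rw [← extPt_resPt Ω χ, extPt_comp_bcEnd] at hcon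
        have := congrArg (resPt Ω) hcon
        rwa [resPt_extPt, resPt_extPt] at this
    -- now conclude
    have h3 : ((Algebra.linearMap A B).baseChange Ω) ((t.baseChange Ω) c₀) = 1 := by
      rw [← LinearMap.comp_apply, ← LinearMap.baseChange_comp, ht, htr]
    let r := TensorProduct.AlgebraTensorModule.rid A Ω Ω
    have hw : r ((t.baseChange Ω) c₀) ≠ 0 := by
      intro h0
      have h4 : (t.baseChange Ω) c₀ = 0 := by
        rwa [LinearEquiv.map_eq_zero_iff] at h0
      rw [h4, map_zero] at h3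
      haveI : Nontrivial (Ω ⊗[A] B) :=
        (Module.FaithfullyFlat.nontrivial_tensorProduct_iff_left A Ω).mpr inferInstance
      exact zero_ne_one h3
    intro z
    refine ⟨(r z / r ((t.baseChange Ω) c₀)) • c₀, ?_⟩
    apply r.injective
    rw [map_smul, map_smul, smul_eq_mul, div_mul_cancel₀ _ hw]
  obtain ⟨c, hc⟩ := htsurj 1
  refine ⟨c, ?_⟩
  have := LinearMap.congr_fun ht c
  rw [LinearMap.comp_apply, hc] at this
  rw [← trB_apply, ← this]
  simp

end galois

end Groth.Agent.R2.H71GalCore
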