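import Mathlib
import Groth.Prelude.Def_SGA1t
import Groth.Agent.R2.H71GalCore

/-!
# Principal `ℤ/p`-Galois algebras in characteristic `p` are Artin–Schreier (helper71)
-/

set_option autoImplicit false
set_option linter.style.haveILetI false
set_option linter.unusedSectionVars false

universe u

namespace Groth.Agent.R2.H71GalAS

open TensorProduct Polynomial Groth.Agent.R2.H71GalPrinciple Groth.Agent.R2.H71GalSplit
  Groth.Agent.R2.H71GalCore

variable {A B : Type u} [CommRing A] [CommRing B] [Algebra A B]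
  [Module.Finite A B] [Algebra.Etale A B] [Module.FaithfullyFlat A B]
  (p : ℕ) [Fact p.Prime] [CharP A p]
  {σ : Multiplicative (ZMod p) → B →ₐ[A] B}

include A in
theorem charP_B : CharP B p :=
  charP_of_injective_algebraMap (FaithfulSMul.algebraMap_injective A B) p

/-- additive Hilbert 90 -/
theorem exists_shift_elt (H : IsTorsorOnFibres σ)
    (hmul : ∀ g h, σ (g * h) = (σ g).comp (σ h)) :
    ∃ b : B, ∀ i : ZMod p, σ (Multiplicative.ofAdd i) b = b + ((i.val : ℕ) : B) := by
  classical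
  haveI : CharP B p := charP_of_injective_algebraMap (FaithfulSMul.algebraMap_injective A B) p
  obtain ⟨c, hc⟩ := exists_trace_eq_one H hmul
  have hc' : ∑ k : ZMod p, σ (Multiplicative.ofAdd k) c = 1 := by
    rw [← hc]
    exact Fintype.sum_equiv Multiplicative.ofAdd _ _ fun k => rfl
  -- the cast
  let cast : ZMod p →+* B := ZMod.castHom (dvd_refl p) B
  have hcast : ∀ i : ZMod p, cast i = ((i.val : ℕ) : B) := fun i => by
    simp [cast, ZMod.natCast_val]
  refine ⟨-∑ j : ZMod p, cast j * σ (Multiplicative.ofAdd j) c, fun i => ?_⟩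
  rw [← hcast i]
  have h1 : ∀ j : ZMod p, σ (Multiplicative.ofAdd i) (cast j * σ (Multiplicative.ofAdd j) c)
      = cast j * σ (Multiplicative.ofAdd (i + j)) c := by
    intro j
    rw [map_mul, hcast j, map_natCast, ofAdd_add, hmul]
    rfl
  rw [map_neg, map_sum, Finset.sum_congr rfl fun j _ => h1 j]
  have h2 : ∑ j : ZMod p, cast j * σ (Multiplicative.ofAdd (i + j)) c
      = ∑ k : ZMod p, (cast k - cast i) * σ (Multiplicative.ofAdd k) c := by
    refine Fintype.sum_equiv (Equiv.addLeft i) _ _ fun j => ?_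
    simp [map_add]
  rw [h2]
  simp only [sub_mul, Finset.sum_sub_distrib, ← Finset.mul_sum, hc']
  ring


/-- the Artin–Schreier polynomial -/
noncomputable def asPoly (a : A) : A[X] := X ^ p - X - C a

theorem asPoly_eq (a : A) : asPoly p a = X ^ p - (X + C a) := by rw [asPoly]; ring

theorem degree_X_add_C_lt (a : A) : (X + C a : A[X]).degree < (p : WithBot ℕ) := by
  have hp2 : 2 ≤ p := (Fact.out : p.Prime).two_le
  have h1 : (X + C a : A[X]).degree ≤ 1 :=
    (degree_add_le _ _).trans (max_le degree_X_le (degree_C_le.trans zero_le_one))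
  refine lt_of_le_of_lt h1 ?_
  exact_mod_cast hp2

theorem asPoly_monic (a : A) : (asPoly p a).Monic := by
  rw [asPoly_eq]
  exact Polynomial.monic_X_pow_sub (degree_X_add_C_lt p a)

theorem asPoly_natDegree (a : A) [Nontrivial A] : (asPoly p a).natDegree = p := by
  have hp2 : 2 ≤ p := (Fact.out : p.Prime).two_le
  rw [asPoly_eq, natDegree_sub_eq_left_of_natDegree_lt, natDegree_X_pow]
  rw [natDegree_X_pow, natDegree_X_add_C]
  omega

instance instFiniteAS (a : A) : Module.Finite A (SGA1t.artinSchreier A p a) :=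
  show Module.Finite A (AdjoinRoot (asPoly p a)) from (asPoly_monic p a).finite_adjoinRoot

instance instFreeAS (a : A) : Module.Free A (SGA1t.artinSchreier A p a) :=
  show Module.Free A (AdjoinRoot (asPoly p a)) from (asPoly_monic p a).free_adjoinRoot

theorem finrank_AS (a : A) [Nontrivial A] :
    Module.finrank A (SGA1t.artinSchreier A p a) = p := by
  have h := (AdjoinRoot.powerBasis' (asPoly_monic p a)).finrank
  rw [AdjoinRoot.powerBasis'_dim, asPoly_natDegree] at h
  exact h

section main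

/-- the `A`-algebra map `A[T]/(T^p - T - a) → B`, `T ↦ b` -/
noncomputable def theta (a : A) (b : B) (hb : b ^ p - b = algebraMap A B a) :
    SGA1t.artinSchreier A p a →ₐ[A] B :=
  Ideal.Quotient.liftₐ (Ideal.span {(X : A[X]) ^ p - X - C a}) (Polynomial.aeval b) (by
    intro f hf
    have hle : Ideal.span {(X : A[X]) ^ p - X - C a} ≤
        RingHom.ker (Polynomial.aeval (R := A) b) := by
      rw [Ideal.span_le, Set.singleton_subset_iff, SetLike.mem_coe, RingHom.mem_ker]
      simp [hb]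
    exact hle hf)

theorem theta_mk (a : A) (b : B) (hb : b ^ p - b = algebraMap A B a) (f : A[X]) :
    theta p a b hb (Ideal.Quotient.mk _ f) = aeval b f := rfl

theorem theta_shift (a : A) (b : B) (hb : b ^ p - b = algebraMap A B a)
    (hσ : ∀ i : ZMod p, σ (Multiplicative.ofAdd i) b = b + ((i.val : ℕ) : B)) (j : ZMod p)
    (x : SGA1t.artinSchreier A p a) :
    theta p a b hb (SGA1t.artinSchreierShift A p a j x)
      = σ (Multiplicative.ofAdd j) (theta p a b hb x) := by
  obtain ⟨f, rfl⟩ := Ideal.Quotient.mk_surjective x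
  have hs : SGA1t.artinSchreierShift A p a j (Ideal.Quotient.mk _ f)
      = Ideal.Quotient.mk _ (aeval (X + C ((ZMod.castHom (dvd_refl p) A) j)) f) := rfl
  rw [hs, theta_mk, theta_mk, ← Polynomial.aeval_algHom_apply, ← Polynomial.aeval_algHom_apply, hσ]
  have hc : (ZMod.castHom (dvd_refl p) A) j = ((j.val : ℕ) : A) := by simp [ZMod.natCast_val]
  rw [hc]
  congr 1
  simp only [map_add, aeval_X, aeval_C, map_natCast]

theorem baseChange_toLinearMap_apply {M N : Type u} [CommRing M] [CommRing N] [Algebra A M]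
    [Algebra A N] (Ω : Type u) [Field Ω] [Algebra A Ω] (θ : M →ₐ[A] N) (z : Ω ⊗[A] M) :
    θ.toLinearMap.baseChange Ω z = Algebra.TensorProduct.map (AlgHom.id Ω Ω) θ z := by
  induction z using TensorProduct.induction_on with
  | zero => simp
  | tmul ω y => simp
  | add x y hx hy => rw [map_add, map_add, hx, hy]

theorem natCast_eq_zero_of_lt (Ω : Type u) [Field Ω] [Algebra A Ω] (n : ℕ) (hn : n < p)
    (h : (n : Ω) = 0) : n = 0 := by
  have hp0 : (p : Ω) = 0 := by
    rw [← map_natCast (algebraMap A Ω) p, CharP.cast_eq_zero A p, map_zero]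
  haveI : CharP Ω p := (CharP.charP_iff_prime_eq_zero (Fact.out : p.Prime)).mpr hp0
  have := (CharP.cast_eq_zero_iff Ω p n).mp h
  exact Nat.eq_zero_of_dvd_of_lt this hn

theorem eval_injective (H : IsTorsorOnFibres σ) (h1 : σ 1 = AlgHom.id A B) (b : B)
    (hσ : ∀ i : ZMod p, σ (Multiplicative.ofAdd i) b = b + ((i.val : ℕ) : B))
    (Ω : Type u) [Field Ω] [IsAlgClosed Ω] [Algebra A Ω] :
    Function.Injective fun χ : Ω ⊗[A] B →ₐ[Ω] Ω => χ (1 ⊗ₜ b) := by
  intro χ χ' hχ
  simp only at hχ
  obtain ⟨g, hg, -⟩ := H Ω (resPt Ω χ) (resPt Ω χ')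
  have hb' : resPt Ω χ' b = resPt Ω χ b + ((g.toAdd.val : ℕ) : Ω) := by
    rw [← hg, AlgHom.comp_apply]
    have := hσ g.toAdd
    rw [ofAdd_toAdd] at this
    rw [this, map_add, map_natCast]
  rw [resPt_apply, resPt_apply, ← hχ] at hb'
  have h0 : ((g.toAdd.val : ℕ) : Ω) = 0 := by
    have := hb'.symm
    rwa [add_eq_left] at this
  have hv : g.toAdd.val = 0 := natCast_eq_zero_of_lt (A := A) p Ω _ (ZMod.val_lt _) h0
  have hg1 : g = 1 := by
    have : g.toAdd = 0 := (ZMod.val_eq_zero _).mp hv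
    rw [← ofAdd_toAdd g, this, ofAdd_zero]
  rw [hg1, h1, AlgHom.comp_id] at hg
  exact (ptEquiv Ω).injective hg

theorem theta_baseChange_surjective (H : IsTorsorOnFibres σ) (h1 : σ 1 = AlgHom.id A B)
    (a : A) (b : B) (hb : b ^ p - b = algebraMap A B a)
    (hσ : ∀ i : ZMod p, σ (Multiplicative.ofAdd i) b = b + ((i.val : ℕ) : B))
    (Ω : Type u) [Field Ω] [IsAlgClosed Ω] [Algebra A Ω] :
    Function.Surjective ((theta p a b hb).toLinearMap.baseChange Ω) := by
  classical
  intro c
  haveI : Fintype (Ω ⊗[A] B →ₐ[Ω] Ω) := Fintype.ofFinite _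
  have hinj := eval_injective p H h1 b hσ Ω
  let f : Polynomial Ω := Lagrange.interpolate Finset.univ (fun χ : Ω ⊗[A] B →ₐ[Ω] Ω => χ (1 ⊗ₜ b))
    (fun χ => χ c)
  have hf : ∀ χ : Ω ⊗[A] B →ₐ[Ω] Ω, f.eval (χ (1 ⊗ₜ b)) = χ c := fun χ =>
    Lagrange.eval_interpolate_at_node _ hinj.injOn (Finset.mem_univ χ)
  let t : Ω ⊗[A] SGA1t.artinSchreier A p a := 1 ⊗ₜ (Ideal.Quotient.mk _ X)
  refine ⟨aeval t f, ?_⟩
  rw [baseChange_toLinearMap_apply, ← Polynomial.aeval_algHom_apply]
  have ht : (Algebra.TensorProduct.map (AlgHom.id Ω Ω) (theta p a b hb)) t = 1 ⊗ₜ b := by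
    simp only [t, Algebra.TensorProduct.map_tmul, map_one, theta_mk, aeval_X]
  rw [ht]
  rw [← sub_eq_zero]
  apply eq_zero_of_forall_algHom (Ω := Ω)
  intro χ
  rw [map_sub, ← Polynomial.aeval_algHom_apply, sub_eq_zero, Polynomial.aeval_def,
    Polynomial.eval₂_eq_eval_map]
  simpa using hf χ

theorem theta_baseChange_bijective (H : IsTorsorOnFibres σ) (h1 : σ 1 = AlgHom.id A B)
    (a : A) (b : B) (hb : b ^ p - b = algebraMap A B a)
    (hσ : ∀ i : ZMod p, σ (Multiplicative.ofAdd i) b = b + ((i.val : ℕ) : B))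
    (Ω : Type u) [Field Ω] [IsAlgClosed Ω] [Algebra A Ω] :
    Function.Bijective ((theta p a b hb).toLinearMap.baseChange Ω) := by
  have hs := theta_baseChange_surjective p H h1 a b hb hσ Ω
  haveI : Nontrivial A := (algebraMap A Ω).domain_nontrivial
  have hfin : Module.finrank Ω (Ω ⊗[A] SGA1t.artinSchreier A p a)
      = Module.finrank Ω (Ω ⊗[A] B) := by
    rw [Module.finrank_baseChange, finrank_AS, finrank_fibre H Ω]
    simp
  exact ⟨(LinearMap.injective_iff_surjective_of_finrank_eq_finrank hfin).mpr hs, hs⟩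

/-- **Artin–Schreier**: a `ℤ/p`-Galois algebra in characteristic `p` is `A[T]/(T^p - T - a)`. -/
theorem exists_AS (H : IsTorsorOnFibres σ) (hmul : ∀ g h, σ (g * h) = (σ g).comp (σ h))
    (h1 : σ 1 = AlgHom.id A B) :
    ∃ (a : A) (θ : SGA1t.artinSchreier A p a ≃ₐ[A] B), ∀ (j : ZMod p)
      (x : SGA1t.artinSchreier A p a),
      θ (SGA1t.artinSchreierShift A p a j x) = σ (Multiplicative.ofAdd j) (θ x) := by
  haveI : CharP B p := charP_B (A := A) p
  obtain ⟨b, hσ⟩ := exists_shift_elt p H hmul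
  have hinv : ∀ g, σ g (b ^ p - b) = b ^ p - b := by
    intro g
    have := hσ g.toAdd
    rw [ofAdd_toAdd] at this
    rw [map_sub, map_pow, this, add_pow_char, ← frobenius_def (R := B) p (((g.toAdd.val : ℕ) : B)),
      map_natCast]
    ring
  obtain ⟨a, ha⟩ := mem_range_of_invariant H _ hinv
  have hb : b ^ p - b = algebraMap A B a := ha.symm
  have hbij : Function.Bijective (theta p a b hb).toLinearMap :=
    bijective_of_forall_algClosed _ fun Ω _ _ _ => theta_baseChange_bijective p H h1 a b hb hσ Ω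
  exact ⟨a, AlgEquiv.ofBijective (theta p a b hb) hbij, fun j x => theta_shift p a b hb hσ j x⟩

end main

end Groth.Agent.R2.H71GalAS
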