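import Mathlib
import Groth.Prelude.Def_SGA1t
import Groth.Agent.R2.H71GalCore

/-!
# Principal `μ_n`-Galois algebras over a local ring are Kummer (helper71)
-/

set_option autoImplicit false
set_option linter.style.haveILetI false
set_option linter.unusedSectionVars false

universe u

namespace Groth.Agent.R2.H71GalKummer

open TensorProduct Groth.Agent.R2.H71GalPrinciple Groth.Agent.R2.H71GalSplit
  Groth.Agent.R2.H71GalCore

section localRing

variable {A : Type u} [CommRing A] [IsLocalRing A] (n : ℕ) (hn : IsUnit ((n : ℕ) : A))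

include hn in
/-- an `n`-th root of unity congruent to `1` modulo the maximal ideal is `1`
(`n` invertible). -/
theorem eq_one_of_sub_one_mem (z : A) (hz : z ^ n = 1)
    (hm : z - 1 ∈ IsLocalRing.maximalIdeal A) : z = 1 := by
  have h1 : (∑ i ∈ Finset.range n, z ^ i) * (z - 1) = 0 := by rw [geom_sum_mul, hz, sub_self]
  have hres : IsLocalRing.residue A z = 1 := by
    have := (IsLocalRing.residue_eq_zero_iff _).mpr hm
    rwa [map_sub, map_one, sub_eq_zero] at this
  have hS : IsUnit (∑ i ∈ Finset.range n, z ^ i) := by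
    rw [← IsLocalRing.residue_ne_zero_iff_isUnit, map_sum]
    simp only [map_pow, hres, one_pow, Finset.sum_const, Finset.card_range, nsmul_eq_mul, mul_one]
    rw [← map_natCast (IsLocalRing.residue A)]
    exact (IsLocalRing.residue_ne_zero_iff_isUnit _).mpr hn
  exact sub_eq_zero.mp (hS.mul_right_eq_zero.mp h1)

include hn in
theorem ne_zero_of_isUnit : n ≠ 0 := by
  rintro rfl
  simp at hn

include hn in
/-- roots of unity inject into every field-valued point. -/
theorem eq_one_of_map_eq_one (Ω : Type*) [Field Ω] [Algebra A Ω] (z : A) (hz : z ^ n = 1)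
    (h : algebraMap A Ω z = 1) : z = 1 := by
  by_contra hne
  have hu : IsUnit (z - 1) := by
    by_contra hnu
    exact hne (eq_one_of_sub_one_mem n hn z hz ((IsLocalRing.mem_maximalIdeal _).mpr hnu))
  have := hu.map (algebraMap A Ω)
  rw [map_sub, map_one, h, sub_self] at this
  exact not_isUnit_zero this

end localRing

section galois

variable {A B : Type u} [CommRing A] [IsLocalRing A] [CommRing B] [Algebra A B]
  [Module.Finite A B] [Algebra.Etale A B] [Module.FaithfullyFlat A B]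
  (n : ℕ) (hn : IsUnit ((n : ℕ) : A))
  {σ : ↥(rootsOfUnity n A) → B →ₐ[A] B}

/-- the group of roots of unity is finite as soon as there is a torsor under it. -/
theorem finite_G (H : IsTorsorOnFibres σ) : Finite ↥(rootsOfUnity n A) := by
  let Ω := AlgebraicClosure (IsLocalRing.ResidueField A)
  obtain ⟨φ⟩ := exists_point (A := A) (B := B) Ω
  haveI : Finite (B →ₐ[A] Ω) := Finite.of_equiv _ (ptEquiv Ω)
  refine Finite.of_injective (fun g => φ.comp (σ g)) ?_
  intro g h hgh
  exact (H Ω φ (φ.comp (σ h))).unique hgh rfl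

variable [Fintype ↥(rootsOfUnity n A)]

variable (σ) in
/-- the Lagrange resolvent -/
noncomputable def res (c : B) : B :=
  ∑ ζ : ↥(rootsOfUnity n A), (((ζ⁻¹ : ↥(rootsOfUnity n A)) : Aˣ) : A) • σ ζ c

theorem sigma_res (hmul : ∀ g h, σ (g * h) = (σ g).comp (σ h)) (η : ↥(rootsOfUnity n A))
    (c : B) : σ η (res n σ c) = ((η : Aˣ) : A) • res n σ c := by
  rw [res, map_sum, Finset.smul_sum]
  refine Fintype.sum_equiv (Equiv.mulLeft η) _ _ fun ζ => ?_
  rw [map_smul, Equiv.coe_mulLeft, smul_smul, hmul, AlgHom.comp_apply]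
  congr 1
  rw [← Units.val_mul, ← Subgroup.coe_mul]
  congr 2
  rw [mul_inv_rev, mul_comm ζ⁻¹, mul_inv_cancel_left]

theorem exists_res_ne_zero (H : IsTorsorOnFibres σ) (Ω : Type u) [Field Ω] [IsAlgClosed Ω]
    [Algebra A Ω] (φ : B →ₐ[A] Ω) : ∃ c : B, φ (res n σ c) ≠ 0 := by
  classical
  by_contra hcon
  push Not at hcon
  let F : ↥(rootsOfUnity n A) → (B →* Ω) := fun ζ => ((φ.comp (σ ζ) : B →ₐ[A] Ω) : B →* Ω)
  have hF : Function.Injective F := by
    intro g h hgh
    have : φ.comp (σ g) = φ.comp (σ h) := by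
      ext x
      exact DFunLike.congr_fun hgh x
    exact (H Ω φ (φ.comp (σ h))).unique this rfl
  have hli := (linearIndependent_monoidHom B Ω).comp F hF
  have hsum : ∑ ζ : ↥(rootsOfUnity n A),
      (algebraMap A Ω (((ζ⁻¹ : ↥(rootsOfUnity n A)) : Aˣ) : A)) •
        ((fun f : B →* Ω => (f : B → Ω)) ∘ F) ζ = 0 := by
    funext c
    have := hcon c
    rw [res, map_sum] at this
    rw [Finset.sum_apply, Pi.zero_apply, ← this]
    refine Finset.sum_congr rfl fun ζ _ => ?_
    rw [Pi.smul_apply, map_smul, algebraMap_smul]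
    rfl
  have h1 := Fintype.linearIndependent_iff.mp hli _ hsum 1
  simp at h1

include hn in
theorem exists_kummer_elt (H : IsTorsorOnFibres σ)
    (hmul : ∀ g h, σ (g * h) = (σ g).comp (σ h)) :
    ∃ (b : B) (a : Aˣ), (∀ η : ↥(rootsOfUnity n A), σ η b = ((η : Aˣ) : A) • b) ∧
      b ^ n = algebraMap A B a := by
  let Ω := AlgebraicClosure (IsLocalRing.ResidueField A)
  obtain ⟨φ⟩ := exists_point (A := A) (B := B) Ω
  obtain ⟨c, hc⟩ := exists_res_ne_zero n H Ω φ
  have hb : ∀ η : ↥(rootsOfUnity n A), σ η (res n σ c) = ((η : Aˣ) : A) • res n σ c :=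
    fun η => sigma_res n hmul η c
  have hinv : ∀ η : ↥(rootsOfUnity n A), σ η (res n σ c ^ n) = res n σ c ^ n := by
    intro η
    rw [map_pow, hb, smul_pow]
    have h2 := (mem_rootsOfUnity n (η : Aˣ)).mp η.2
    have h3 : (((η : Aˣ) : A)) ^ n = 1 := by
      have := congrArg Units.val h2
      simpa using this
    rw [h3, one_smul]
  obtain ⟨a, ha⟩ := mem_range_of_invariant H _ hinv
  have hau : IsUnit a := by
    rw [← IsLocalRing.residue_ne_zero_iff_isUnit]
    intro h0
    apply hc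
    have h4 : algebraMap A Ω a = 0 := by
      rw [IsScalarTower.algebraMap_apply A (IsLocalRing.ResidueField A) Ω,
        IsLocalRing.ResidueField.algebraMap_eq, h0, map_zero]
    have h5 : φ (res n σ c) ^ n = 0 := by
      rw [← map_pow, ← ha, φ.commutes, h4]
    exact eq_zero_of_pow_eq_zero h5
  exact ⟨res n σ c, hau.unit, hb, ha.symm⟩

end galois

section kummerAlg

open Polynomial

variable (A : Type u) [CommRing A] (n : ℕ) (a : A)

/-- the one-variable Kummer algebra is `A[X]/(X^n - a)`. -/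
noncomputable def kummerEquiv :
    SGA1t.kummer A (fun _ : Unit => a) (fun _ => n) ≃ₐ[A] AdjoinRoot (X ^ n - C a : A[X]) :=
  Ideal.quotientEquivAlg _ _ (MvPolynomial.uniqueAlgEquiv A Unit) (by
    rw [Ideal.map_span]
    congr 1
    ext f
    simp only [Set.mem_singleton_iff, Set.mem_image, Set.mem_range, exists_exists_eq_and]
    constructor
    · rintro rfl
      exact ⟨(), by simp⟩
    · rintro ⟨i, rfl⟩
      simp)

variable {n} in
theorem kummerPoly_monic (hn0 : n ≠ 0) : (X ^ n - C a : A[X]).Monic :=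
  monic_X_pow_sub_C a hn0

variable {n} in
theorem finite_kummer (hn0 : n ≠ 0) :
    Module.Finite A (SGA1t.kummer A (fun _ : Unit => a) (fun _ => n)) :=
  haveI := (kummerPoly_monic A a hn0).finite_adjoinRoot
  Module.Finite.equiv (kummerEquiv A n a).symm.toLinearEquiv

variable {n} in
theorem free_kummer (hn0 : n ≠ 0) :
    Module.Free A (SGA1t.kummer A (fun _ : Unit => a) (fun _ => n)) :=
  haveI := (kummerPoly_monic A a hn0).free_adjoinRoot
  Module.Free.of_equiv (kummerEquiv A n a).symm.toLinearEquiv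

variable {n} in
theorem finrank_kummer [Nontrivial A] (hn0 : n ≠ 0) :
    Module.finrank A (SGA1t.kummer A (fun _ : Unit => a) (fun _ => n)) = n := by
  rw [(kummerEquiv A n a).toLinearEquiv.finrank_eq]
  have h := (AdjoinRoot.powerBasis' (kummerPoly_monic A a hn0)).finrank
  rw [AdjoinRoot.powerBasis'_dim, natDegree_X_pow_sub_C] at h
  exact h

end kummerAlg

section main

variable {A B : Type u} [CommRing A] [IsLocalRing A] [CommRing B] [Algebra A B]
  [Module.Finite A B] [Algebra.Etale A B] [Module.FaithfullyFlat A B]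
  (n : ℕ) (hn : IsUnit ((n : ℕ) : A))
  {σ : ↥(rootsOfUnity n A) → B →ₐ[A] B}

/-- the `A`-algebra map `A[T]/(T^n - a) → B`, `T ↦ b` -/
noncomputable def theta (a : A) (b : B) (hb : b ^ n = algebraMap A B a) :
    SGA1t.kummer A (fun _ : Unit => a) (fun _ => n) →ₐ[A] B :=
  Ideal.Quotient.liftₐ _ (MvPolynomial.aeval (fun _ : Unit => b)) (by
    intro f hf
    have hle : Ideal.span (Set.range fun i : Unit =>
        (MvPolynomial.X i : MvPolynomial Unit A) ^ n - MvPolynomial.C a) ≤
        RingHom.ker (MvPolynomial.aeval (R := A) (fun _ : Unit => b)) := by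
      rw [Ideal.span_le]
      rintro _ ⟨i, rfl⟩
      rw [SetLike.mem_coe, RingHom.mem_ker]
      simp [hb]
    exact hle hf)

theorem theta_mk (a : A) (b : B) (hb : b ^ n = algebraMap A B a) (f : MvPolynomial Unit A) :
    theta n a b hb (Ideal.Quotient.mk _ f) = MvPolynomial.aeval (fun _ : Unit => b) f := rfl

theorem theta_twist (a : A) (b : B) (hb : b ^ n = algebraMap A B a)
    (hσ : ∀ η : ↥(rootsOfUnity n A), σ η b = ((η : Aˣ) : A) • b) (ζ : ↥(rootsOfUnity n A))
    (x : SGA1t.kummer A (fun _ : Unit => a) (fun _ => n)) :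
    theta n a b hb (SGA1t.kummerTwist A (fun _ : Unit => a) (fun _ => n) (fun _ => ζ) x)
      = σ ζ (theta n a b hb x) := by
  obtain ⟨f, rfl⟩ := Ideal.Quotient.mk_surjective x
  have hs : SGA1t.kummerTwist A (fun _ : Unit => a) (fun _ => n) (fun _ => ζ)
      (Ideal.Quotient.mk _ f) = Ideal.Quotient.mk _
        (MvPolynomial.aeval (R := A)
          (fun i : Unit => MvPolynomial.C (((ζ : Aˣ) : A)) * MvPolynomial.X i) f) := rfl
  rw [hs, theta_mk, theta_mk, MvPolynomial.comp_aeval_apply, MvPolynomial.comp_aeval_apply]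
  congr 2
  funext i
  rw [hσ, map_mul, MvPolynomial.aeval_C, MvPolynomial.aeval_X, Algebra.smul_def]

theorem baseChange_toLinearMap_apply {A : Type u} [CommRing A] {M N : Type u} [CommRing M]
    [CommRing N] [Algebra A M]
    [Algebra A N] (Ω : Type u) [Field Ω] [Algebra A Ω] (θ : M →ₐ[A] N) (z : Ω ⊗[A] M) :
    θ.toLinearMap.baseChange Ω z = Algebra.TensorProduct.map (AlgHom.id Ω Ω) θ z := by
  induction z using TensorProduct.induction_on with
  | zero => simp
  | tmul ω y => simp
  | add x y hx hy => rw [map_add, map_add, hx, hy]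

include hn in
theorem eval_injective (H : IsTorsorOnFibres σ) (h1 : σ 1 = AlgHom.id A B) (a : Aˣ) (b : B)
    (hb : b ^ n = algebraMap A B a)
    (hσ : ∀ η : ↥(rootsOfUnity n A), σ η b = ((η : Aˣ) : A) • b)
    (Ω : Type u) [Field Ω] [IsAlgClosed Ω] [Algebra A Ω] :
    Function.Injective fun χ : Ω ⊗[A] B →ₐ[Ω] Ω => χ (1 ⊗ₜ b) := by
  intro χ χ' hχ
  simp only at hχ
  obtain ⟨g, hg, -⟩ := H Ω (resPt Ω χ) (resPt Ω χ')
  have hb' : resPt Ω χ' b = algebraMap A Ω ((g : Aˣ) : A) * resPt Ω χ b := by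
    rw [← hg, AlgHom.comp_apply, hσ, map_smul, Algebra.smul_def]
  rw [resPt_apply, resPt_apply, ← hχ] at hb'
  have hne : χ (1 ⊗ₜ b) ≠ 0 := by
    intro h0
    have h2 : resPt Ω χ (b ^ n) = 0 := by
      rw [map_pow, resPt_apply, h0, zero_pow (ne_zero_of_isUnit n hn)]
    rw [hb, AlgHom.commutes] at h2
    exact (a.isUnit.map (algebraMap A Ω)).ne_zero h2
  have hg1' : algebraMap A Ω ((g : Aˣ) : A) = 1 := by
    have h4 : algebraMap A Ω ((g : Aˣ) : A) * χ (1 ⊗ₜ b) = 1 * χ (1 ⊗ₜ b) := by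
      rw [one_mul]
      exact hb'.symm
    exact mul_right_cancel₀ hne h4
  have hgn : (((g : Aˣ) : A)) ^ n = 1 := by
    have h2 := (mem_rootsOfUnity n (g : Aˣ)).mp g.2
    have := congrArg Units.val h2
    simpa using this
  have hg1 : g = 1 := by
    have := eq_one_of_map_eq_one n hn Ω ((g : Aˣ) : A) hgn hg1'
    exact Subtype.ext (Units.ext this)
  rw [hg1, h1, AlgHom.comp_id] at hg
  exact (ptEquiv Ω).injective hg

include hn in
theorem theta_baseChange_surjective (H : IsTorsorOnFibres σ) (h1 : σ 1 = AlgHom.id A B)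
    (a : Aˣ) (b : B) (hb : b ^ n = algebraMap A B a)
    (hσ : ∀ η : ↥(rootsOfUnity n A), σ η b = ((η : Aˣ) : A) • b)
    (Ω : Type u) [Field Ω] [IsAlgClosed Ω] [Algebra A Ω] :
    Function.Surjective ((theta n (a : A) b hb).toLinearMap.baseChange Ω) := by
  classical
  intro c
  haveI : Fintype (Ω ⊗[A] B →ₐ[Ω] Ω) := Fintype.ofFinite _
  have hinj := eval_injective n hn H h1 a b hb hσ Ω
  let f : Polynomial Ω := Lagrange.interpolate Finset.univ
    (fun χ : Ω ⊗[A] B →ₐ[Ω] Ω => χ (1 ⊗ₜ b)) (fun χ => χ c)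
  have hf : ∀ χ : Ω ⊗[A] B →ₐ[Ω] Ω, f.eval (χ (1 ⊗ₜ b)) = χ c := fun χ =>
    Lagrange.eval_interpolate_at_node _ hinj.injOn (Finset.mem_univ χ)
  let t : Ω ⊗[A] SGA1t.kummer A (fun _ : Unit => (a : A)) (fun _ => n) :=
    1 ⊗ₜ (Ideal.Quotient.mk _ (MvPolynomial.X ()))
  refine ⟨Polynomial.aeval t f, ?_⟩
  rw [baseChange_toLinearMap_apply, ← Polynomial.aeval_algHom_apply]
  have ht : (Algebra.TensorProduct.map (AlgHom.id Ω Ω) (theta n (a : A) b hb)) t = 1 ⊗ₜ b := by
    simp only [t, Algebra.TensorProduct.map_tmul, map_one, theta_mk, MvPolynomial.aeval_X]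
  rw [ht]
  rw [← sub_eq_zero]
  apply eq_zero_of_forall_algHom (Ω := Ω)
  intro χ
  rw [map_sub, ← Polynomial.aeval_algHom_apply, sub_eq_zero, Polynomial.aeval_def,
    Polynomial.eval₂_eq_eval_map]
  simpa using hf χ

variable [Fintype ↥(rootsOfUnity n A)]

include hn in
theorem theta_baseChange_bijective (H : IsTorsorOnFibres σ) (h1 : σ 1 = AlgHom.id A B)
    (hcard : n ≤ Fintype.card ↥(rootsOfUnity n A))
    (a : Aˣ) (b : B) (hb : b ^ n = algebraMap A B a)
    (hσ : ∀ η : ↥(rootsOfUnity n A), σ η b = ((η : Aˣ) : A) • b)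
    (Ω : Type u) [Field Ω] [IsAlgClosed Ω] [Algebra A Ω] :
    Function.Bijective ((theta n (a : A) b hb).toLinearMap.baseChange Ω) := by
  have hs := theta_baseChange_surjective n hn H h1 a b hb hσ Ω
  have hn0 := ne_zero_of_isUnit n hn
  haveI := finite_kummer A (a : A) hn0
  haveI := free_kummer A (a : A) hn0
  have hfin : Module.finrank Ω (Ω ⊗[A] SGA1t.kummer A (fun _ : Unit => (a : A)) (fun _ => n))
      ≤ Module.finrank Ω (Ω ⊗[A] B) := by
    rw [Module.finrank_baseChange, finrank_kummer A (a : A) hn0, finrank_fibre H Ω]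
    exact hcard
  exact OrzechProperty.bijective_of_surjective_of_finrank_le _ hs hfin

include hn in
/-- **Kummer theory over a local ring**. -/
theorem exists_kummer (H : IsTorsorOnFibres σ) (hmul : ∀ g h, σ (g * h) = (σ g).comp (σ h))
    (h1 : σ 1 = AlgHom.id A B) (hcard : n ≤ Fintype.card ↥(rootsOfUnity n A)) :
    ∃ (a : Aˣ) (θ : SGA1t.kummer A (fun _ : Unit => (a : A)) (fun _ => n) ≃ₐ[A] B),
      ∀ (ζ : ↥(rootsOfUnity n A)) (x : SGA1t.kummer A (fun _ : Unit => (a : A)) (fun _ => n)),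
      θ (SGA1t.kummerTwist A (fun _ : Unit => (a : A)) (fun _ => n) (fun _ => ζ) x)
        = σ ζ (θ x) := by
  obtain ⟨b, a, hσ, hb⟩ := exists_kummer_elt n hn H hmul
  have hn0 := ne_zero_of_isUnit n hn
  haveI := finite_kummer A (a : A) hn0
  have hbij : Function.Bijective (theta n (a : A) b hb).toLinearMap :=
    bijective_of_forall_algClosed _ fun Ω _ _ _ =>
      theta_baseChange_bijective n hn H h1 hcard a b hb hσ Ω
  exact ⟨a, AlgEquiv.ofBijective (theta n (a : A) b hb) hbij,
    fun ζ x => theta_twist n (a : A) b hb hσ ζ x⟩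

end main

end Groth.Agent.R2.H71GalKummer
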