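import Mathlib
import Groth.Prelude.Def_SGA1t
import Groth.Agent.Lib.Helper26FEtAffine
import Groth.Agent.R2.H71GalCore

/-!
# Principal covers of an affine scheme as Galois algebras (helper71)

Translation of `SGA1t.IsPrincipal G P ρ` over `Spec A` into the algebraic data of
`H71GalCore`: a finite étale faithfully flat `A`-algebra `B` with an action `σ` of `G`
which is simply transitive on geometric fibres.
-/

set_option autoImplicit false
set_option linter.style.haveILetI false
set_option linter.unusedSectionVars false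

universe u v

namespace Groth.Agent.R2.H71GalScheme

open CategoryTheory Limits AlgebraicGeometry TensorProduct Groth.Agent.R2.H71GalCore
  Groth.Agent.Lib.Helper26.FEtAffine

variable {A : Type u} [CommRing A] {G : Type v} [CommGroup G]

theorem faithfullyFlat_of_surjective {B : Type u} [CommRing B] [Algebra A B] [Module.Flat A B]
    {X : Scheme.{u}} (e : X ≅ Spec (CommRingCat.of B)) (f : X ⟶ Spec (CommRingCat.of A))
    (he : e.hom ≫ Spec.map (CommRingCat.ofHom (algebraMap A B)) = f)
    (hf : Function.Surjective f.base) : Module.FaithfullyFlat A B := by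
  apply Module.FaithfullyFlat.of_comap_surjective
  intro x
  obtain ⟨y, hy⟩ := hf x
  refine ⟨e.hom.base y, ?_⟩
  rw [← hy, ← he]
  rfl

/-- An endomorphism of `Spec B` over `Spec A` is `Spec` of an `A`-algebra endomorphism. -/
theorem exists_algHom_of_over {B C : Type u} [CommRing B] [Algebra A B] [CommRing C] [Algebra A C]
    (l : Spec (CommRingCat.of B) ⟶ Spec (CommRingCat.of C))
    (hl : l ≫ Spec.map (CommRingCat.ofHom (algebraMap A C)) =
      Spec.map (CommRingCat.ofHom (algebraMap A B))) :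
    ∃ τ : C →ₐ[A] B, l = Spec.map (CommRingCat.ofHom τ.toRingHom) := by
  let r : CommRingCat.of C ⟶ CommRingCat.of B := Spec.preimage l
  have hr : Spec.map r = l := Spec.map_preimage l
  have hcomm : CommRingCat.ofHom (algebraMap A C) ≫ r = CommRingCat.ofHom (algebraMap A B) := by
    apply Spec.map_injective
    rw [Spec.map_comp, hr, hl]
  let g : C →ₐ[A] B :=
    { r.hom with
      commutes' := fun a => by
        have := congrArg (fun t => t.hom a) hcomm
        exact this }
  exact ⟨g, hr.symm⟩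

theorem specMap_algHom_injective {B C : Type u} [CommRing B] [Algebra A B] [CommRing C]
    [Algebra A C] (τ τ' : C →ₐ[A] B)
    (h : Spec.map (CommRingCat.ofHom τ.toRingHom) = Spec.map (CommRingCat.ofHom τ'.toRingHom)) :
    τ = τ' := by
  have h2 := Spec.map_injective h
  ext x
  have := congrArg (fun t => t.hom x) h2
  exact this

theorem translate (P : FEt.Cat (Spec (CommRingCat.of A))) (ρ : G →* Aut P)
    (hP : SGA1t.IsPrincipal G P ρ) :
    ∃ (B : Type u) (_ : CommRing B) (_ : Algebra A B) (_ : Module.Finite A B)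
      (_ : Algebra.Etale A B) (_ : Module.FaithfullyFlat A B)
      (e : P.left ≅ Spec (CommRingCat.of B)) (σ : G → B →ₐ[A] B),
      e.hom ≫ Spec.map (CommRingCat.ofHom (algebraMap A B)) = P.hom ∧
      (∀ g, (ρ g).hom.left ≫ e.hom = e.hom ≫ Spec.map (CommRingCat.ofHom (σ g).toRingHom)) ∧
      IsTorsorOnFibres σ ∧ (∀ g h, σ (g * h) = (σ g).comp (σ h)) ∧ σ 1 = AlgHom.id A B := by
  obtain ⟨B, i1, i2, i3, i4, e, he⟩ := exists_iso_specMap A (X := P.left) P.hom P.prop
  haveI : Module.Flat A B := inferInstance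
  haveI hff : Module.FaithfullyFlat A B := faithfullyFlat_of_surjective e P.hom he hP.1
  have hl : ∀ g : G, (e.inv ≫ (ρ g).hom.left ≫ e.hom) ≫
      Spec.map (CommRingCat.ofHom (algebraMap A B)) =
      Spec.map (CommRingCat.ofHom (algebraMap A B)) := by
    intro g
    rw [Category.assoc, Category.assoc, he, MorphismProperty.Over.w (ρ g).hom, ← he,
      Iso.inv_hom_id_assoc]
  choose σ hσ using fun g => exists_algHom_of_over _ (hl g)
  have hσ' : ∀ g, (ρ g).hom.left ≫ e.hom = e.hom ≫ Spec.map (CommRingCat.ofHom (σ g).toRingHom) := by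
    intro g
    rw [← hσ g, Iso.hom_inv_id_assoc]
  have hmul' : ∀ g h, σ (g * h) = (σ h).comp (σ g) := by
    intro g h
    apply specMap_algHom_injective
    rw [← hσ (g * h)]
    have : (CommRingCat.ofHom ((σ h).comp (σ g)).toRingHom) =
        CommRingCat.ofHom (σ g).toRingHom ≫ CommRingCat.ofHom (σ h).toRingHom := rfl
    rw [this, Spec.map_comp, ← hσ g, ← hσ h, map_mul]
    have h3 : (ρ g * ρ h).hom.left = (ρ h).hom.left ≫ (ρ g).hom.left := rfl
    rw [h3]
    simp only [Category.assoc, Iso.hom_inv_id_assoc]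
  have hmul : ∀ g h, σ (g * h) = (σ g).comp (σ h) := by
    intro g h
    rw [mul_comm, hmul']
  have h1 : σ 1 = AlgHom.id A B := by
    apply specMap_algHom_injective
    rw [← hσ 1, map_one]
    have h3 : (1 : Aut P).hom.left = 𝟙 P.left := rfl
    rw [h3, Category.id_comp, Iso.inv_hom_id]
    exact (Spec.map_id _).symm
  refine ⟨B, i1, i2, i3, i4, hff, e, σ, he, hσ', ?_, hmul, h1⟩
  -- torsor condition
  intro Ω _ _ _ φ φ'
  let ξ : Spec (CommRingCat.of Ω) ⟶ Spec (CommRingCat.of A) :=
    Spec.map (CommRingCat.ofHom (algebraMap A Ω))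
  have hpt : ∀ ψ : B →ₐ[A] Ω, (Spec.map (CommRingCat.ofHom ψ.toRingHom) ≫ e.inv) ≫ P.hom = ξ := by
    intro ψ
    rw [Category.assoc, ← he, Iso.inv_hom_id_assoc, ← Spec.map_comp]
    congr 1
    ext a
    exact ψ.commutes a
  let s : FEt.fiberObj ξ P := ⟨_, hpt φ⟩
  let t : FEt.fiberObj ξ P := ⟨_, hpt φ'⟩
  have key : ∀ g : G, (FEt.fiber ξ).map (ρ g).hom s = t ↔ φ.comp (σ g) = φ' := by
    intro g
    have h4 : ((FEt.fiber ξ).map (ρ g).hom s).1 = s.1 ≫ (ρ g).hom.left := rfl
    have h5 : (FEt.fiber ξ).map (ρ g).hom s = t ↔ ((FEt.fiber ξ).map (ρ g).hom s).1 = t.1 :=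
      ⟨fun h => congrArg Subtype.val h, fun h => Subtype.ext h⟩
    rw [h5, h4]
    show (Spec.map (CommRingCat.ofHom φ.toRingHom) ≫ e.inv) ≫ (ρ g).hom.left =
      Spec.map (CommRingCat.ofHom φ'.toRingHom) ≫ e.inv ↔ _
    rw [← cancel_mono e.hom, Category.assoc, Category.assoc, Category.assoc, Iso.inv_hom_id,
      Category.comp_id, hσ' g, Iso.inv_hom_id_assoc, ← Spec.map_comp]
    constructor
    · intro h
      exact specMap_algHom_injective _ _ h
    · intro h
      rw [← h]
      rfl
  obtain ⟨g, hg, hg'⟩ := hP.2 Ω ξ s t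
  exact ⟨g, (key g).mp hg, fun g' h' => hg' g' ((key g').mpr h')⟩

end Groth.Agent.R2.H71GalScheme
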