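import Mathlib

/-!
# Rational hyperplane sections of `Σ (X_i Y_i^q − Y_i X_i^q)` are singular (helper71)
-/

set_option autoImplicit false
set_option linter.style.haveILetI false
set_option linter.unusedSectionVars false

universe u v

namespace Groth.Agent.R2.H71HermSec

open MvPolynomial

section identity

variable {k : Type u} [Field k] [Fintype k] {ι : Type} [Fintype ι] [DecidableEq ι]
variable {B : Type v} [CommRing B] [Algebra k B]

/-- the form `F` -/
noncomputable def formF (k : Type u) [Field k] [Fintype k] (ι : Type) [Fintype ι] :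
    MvPolynomial (ι ⊕ ι) k :=
  ∑ i : ι, (X (Sum.inl i) * X (Sum.inr i) ^ Fintype.card k -
    X (Sum.inr i) * X (Sum.inl i) ^ Fintype.card k)

/-- the linear form `L` -/
noncomputable def formL (c : ι ⊕ ι → k) : MvPolynomial (ι ⊕ ι) k := ∑ v, C (c v) * X v

/-- the tangency point -/
def pt (c : ι ⊕ ι → k) : ι ⊕ ι → k :=
  Sum.elim (fun i => - c (Sum.inr i)) (fun i => c (Sum.inl i))

theorem aeval_formF (γ : ι ⊕ ι → B) :
    aeval γ (formF k ι) = ∑ i, (γ (Sum.inl i) * γ (Sum.inr i) ^ Fintype.card k -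
      γ (Sum.inr i) * γ (Sum.inl i) ^ Fintype.card k) := by
  simp [formF]

theorem aeval_formL (c : ι ⊕ ι → k) (γ : ι ⊕ ι → B) :
    aeval γ (formL c) = ∑ u, algebraMap k B (c u) * γ u := by
  simp [formL]

theorem frob_alg (a : k) : (algebraMap k B a) ^ Fintype.card k = algebraMap k B a := by
  rw [← map_pow, FiniteField.pow_card]

theorem frob_add (x y : B) : (x + y) ^ Fintype.card k = x ^ Fintype.card k + y ^ Fintype.card k := by
  rcases subsingleton_or_nontrivial B with h | h
  · exact Subsingleton.elim _ _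
  obtain ⟨p, hp⟩ := CharP.exists k
  obtain ⟨f, hpp, hf⟩ := FiniteField.card k p
  haveI : Fact p.Prime := ⟨hpp⟩
  haveI : CharP B p := charP_of_injective_algebraMap (algebraMap k B).injective p
  rw [hf]
  exact add_pow_char_pow x y p f

theorem frob_sum {α : Type*} (s : Finset α) (g : α → B) :
    (∑ i ∈ s, g i) ^ Fintype.card k = ∑ i ∈ s, g i ^ Fintype.card k := by
  classical
  induction s using Finset.induction_on with
  | empty =>
    simp only [Finset.sum_empty]
    exact zero_pow Fintype.card_ne_zero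
  | insert a s ha ih => rw [Finset.sum_insert ha, Finset.sum_insert ha, frob_add (k := k), ih]

theorem key (c : ι ⊕ ι → k) (ε : B) (d : ι ⊕ ι → B) :
    aeval (fun u => algebraMap k B (pt c u) + ε * d u) (formF k ι)
      = ε * (∑ u, algebraMap k B (c u) * d u)
        - (ε * ∑ u, algebraMap k B (c u) * d u) ^ Fintype.card k
        + ε ^ (Fintype.card k + 1) * aeval d (formF k ι) := by
  rw [aeval_formF, aeval_formF]
  have hterm : ∀ i : ι,
      ((algebraMap k B (pt c (Sum.inl i)) + ε * d (Sum.inl i)) *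
        (algebraMap k B (pt c (Sum.inr i)) + ε * d (Sum.inr i)) ^ Fintype.card k -
      (algebraMap k B (pt c (Sum.inr i)) + ε * d (Sum.inr i)) *
        (algebraMap k B (pt c (Sum.inl i)) + ε * d (Sum.inl i)) ^ Fintype.card k)
      = ε * (algebraMap k B (c (Sum.inl i)) * d (Sum.inl i) +
            algebraMap k B (c (Sum.inr i)) * d (Sum.inr i))
        - ε ^ Fintype.card k * ((algebraMap k B (c (Sum.inl i)) * d (Sum.inl i)) ^ Fintype.card k +
            (algebraMap k B (c (Sum.inr i)) * d (Sum.inr i)) ^ Fintype.card k)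
        + ε ^ (Fintype.card k + 1) * (d (Sum.inl i) * d (Sum.inr i) ^ Fintype.card k -
            d (Sum.inr i) * d (Sum.inl i) ^ Fintype.card k) := by
    intro i
    rw [frob_add (k := k), frob_add (k := k), frob_alg, frob_alg, mul_pow, mul_pow, mul_pow,
      mul_pow, frob_alg, frob_alg]
    simp only [pt, Sum.elim_inl, Sum.elim_inr, map_neg]
    ring
  rw [Finset.sum_congr rfl fun i _ => hterm i]
  rw [Finset.sum_add_distrib, Finset.sum_sub_distrib, ← Finset.mul_sum, ← Finset.mul_sum,
    ← Finset.mul_sum, mul_pow, frob_sum (k := k), Fintype.sum_sum_type, Fintype.sum_sum_type,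
    Finset.sum_add_distrib, Finset.sum_add_distrib]

theorem aeval_pt_formL (c : ι ⊕ ι → k) (ε : B) (d : ι ⊕ ι → B) :
    aeval (fun u => algebraMap k B (pt c u) + ε * d u) (formL c)
      = ε * (∑ u, algebraMap k B (c u) * d u) := by
  rw [aeval_formL]
  simp only [mul_add, Finset.sum_add_distrib]
  have h0 : ∑ u, algebraMap k B (c u) * algebraMap k B (pt c u) = 0 := by
    rw [Fintype.sum_sum_type]
    simp only [pt, Sum.elim_inl, Sum.elim_inr, map_neg, mul_neg, Finset.sum_neg_distrib]
    rw [neg_add_eq_zero]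
    exact Finset.sum_congr rfl fun i _ => mul_comm _ _
  rw [h0, zero_add, Finset.mul_sum]
  exact Finset.sum_congr rfl fun u _ => by ring

end identity

section vector

variable {k : Type u} [Field k] [Fintype k] {ι : Type} [Fintype ι] [DecidableEq ι]
variable {K : Type v} [CommRing K] [Algebra k K]

/-- a direction in the hyperplane on which `F` does not vanish -/
noncomputable def vec (c : ι ⊕ ι → k) (u₀ : ι ⊕ ι) (j : ι) (t : K) : ι ⊕ ι → K :=
  Pi.single (Sum.inl j) t + Pi.single (Sum.inr j) 1 +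
    Pi.single u₀ (algebraMap k K (-(c u₀)⁻¹) *
      (algebraMap k K (c (Sum.inl j)) * t + algebraMap k K (c (Sum.inr j))))

theorem sum_mul_single (a : ι ⊕ ι → K) (x : ι ⊕ ι) (y : K) :
    ∑ u, a u * (Pi.single x y : ι ⊕ ι → K) u = a x * y := by
  rw [Fintype.sum_eq_single x]
  · rw [Pi.single_eq_same]
  · intro u hu
    rw [Pi.single_eq_of_ne hu, mul_zero]

theorem sum_c_vec (c : ι ⊕ ι → k) (u₀ : ι ⊕ ι) (j : ι) (t : K) (hu₀ : c u₀ ≠ 0) :
    ∑ u, algebraMap k K (c u) * vec c u₀ j t u = 0 := by
  simp only [vec, Pi.add_apply, mul_add, Finset.sum_add_distrib, sum_mul_single]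
  have hm : algebraMap k K (c u₀) * algebraMap k K (-(c u₀)⁻¹) = -1 := by
    rw [← map_mul, mul_neg, mul_inv_cancel₀ hu₀, map_neg, map_one]
  linear_combination
    (algebraMap k K (c (Sum.inl j)) * t + algebraMap k K (c (Sum.inr j))) * hm

theorem aeval_vec_formF (c : ι ⊕ ι → k) (u₀ : ι ⊕ ι) (j : ι) (t : K)
    (h1 : u₀ ≠ Sum.inl j) (h2 : u₀ ≠ Sum.inr j) :
    aeval (vec c u₀ j t) (formF k ι) = t - t ^ Fintype.card k := by
  rw [aeval_formF, Fintype.sum_eq_single j]
  · have e1 : vec c u₀ j t (Sum.inl j) = t := by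
      simp [vec, h1.symm]
    have e2 : vec c u₀ j t (Sum.inr j) = 1 := by
      simp [vec, h2.symm]
    rw [e1, e2, one_pow, mul_one, one_mul]
  · intro i hij
    have hq : Fintype.card k ≠ 0 := Fintype.card_ne_zero
    by_cases hA : Sum.inl i = u₀
    · have e2 : vec c u₀ j t (Sum.inr i) = 0 := by
        have : Sum.inr i ≠ u₀ := by rw [← hA]; simp
        simp [vec, hij, this]
      rw [e2, zero_pow hq, mul_zero, zero_mul, sub_zero]
    · have e1 : vec c u₀ j t (Sum.inl i) = 0 := by
        simp [vec, hij, hA]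
      rw [e1, zero_pow hq, mul_zero, zero_mul, sub_zero]

end vector

section obstruction

variable {k : Type u} [Field k] [Fintype k] {ι : Type} [Fintype ι] [DecidableEq ι]
variable {B : Type v} [CommRing B] [Algebra k B]

/-- a zero of `F` and `L` congruent to `P + εv` modulo `ε²` forces `ε^{q+1} F(v) ∈ (ε^{q+2})`. -/
theorem obstruction (c : ι ⊕ ι → k) (ε : B) (v γ : ι ⊕ ι → B)
    (hγF : aeval γ (formF k ι) = 0) (hγL : aeval γ (formL c) = 0)
    (hγ : ∀ u, γ u - (algebraMap k B (pt c u) + ε * v u) ∈ Ideal.span {ε ^ 2}) :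
    ε ^ (Fintype.card k + 1) * aeval v (formF k ι) ∈ Ideal.span {ε ^ (Fintype.card k + 2)} := by
  have hq : Fintype.card k ≠ 0 := Fintype.card_ne_zero
  choose w hw using fun u => Ideal.mem_span_singleton'.mp (hγ u)
  let d : ι ⊕ ι → B := fun u => v u + ε * w u
  have hγd : γ = fun u => algebraMap k B (pt c u) + ε * d u := by
    funext u
    have := hw u
    simp only [d]
    linear_combination -this
  rw [hγd] at hγF hγL
  rw [aeval_pt_formL] at hγL
  rw [key, hγL, zero_pow hq, sub_zero, zero_add] at hγF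
  -- F(d) ≡ F(v) mod ε
  have hmod : aeval d (formF k ι) - aeval v (formF k ι) ∈ Ideal.span {ε} := by
    rw [← Ideal.Quotient.eq]
    have e1 : Ideal.Quotient.mk (Ideal.span {ε}) (aeval d (formF k ι))
        = aeval (fun u => Ideal.Quotient.mk (Ideal.span {ε}) (d u)) (formF k ι) := by
      have := MvPolynomial.comp_aeval_apply (R := k) (f := d)
        (Ideal.Quotient.mkₐ k (Ideal.span {ε})) (formF k ι)
      exact this
    have e2 : Ideal.Quotient.mk (Ideal.span {ε}) (aeval v (formF k ι))
        = aeval (fun u => Ideal.Quotient.mk (Ideal.span {ε}) (v u)) (formF k ι) := by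
      have := MvPolynomial.comp_aeval_apply (R := k) (f := v)
        (Ideal.Quotient.mkₐ k (Ideal.span {ε})) (formF k ι)
      exact this
    rw [e1, e2]
    congr 2
    funext u
    rw [Ideal.Quotient.eq]
    simp only [d, add_sub_cancel_left]
    exact Ideal.mul_mem_right _ _ (Ideal.mem_span_singleton_self ε)
  obtain ⟨z, hz⟩ := Ideal.mem_span_singleton'.mp hmod
  rw [Ideal.mem_span_singleton']
  refine ⟨-z, ?_⟩
  linear_combination -(ε ^ (Fintype.card k + 1)) * hz - hγF

end obstruction

section core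

variable {k : Type u} [Field k] [Fintype k] {ι : Type} [Fintype ι] [DecidableEq ι]

/-- the test ring `k[τ][ε]/(ε^{q+2})` -/
abbrev TestRing (k : Type u) [Field k] [Fintype k] : Type u :=
  AdjoinRoot ((Polynomial.X : Polynomial (Polynomial k)) ^ (Fintype.card k + 2))

/-- `ε` -/
noncomputable def eps (k : Type u) [Field k] [Fintype k] : TestRing k :=
  AdjoinRoot.mk _ Polynomial.X

/-- `τ` -/
noncomputable def tau (k : Type u) [Field k] [Fintype k] : TestRing k :=
  AdjoinRoot.mk _ (Polynomial.C Polynomial.X)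

theorem eps_pow : (eps k) ^ (Fintype.card k + 2) = 0 := by
  rw [eps, ← map_pow, AdjoinRoot.mk_self]

theorem eps_mul_ne_zero :
    (eps k) ^ (Fintype.card k + 1) * (tau k - tau k ^ Fintype.card k) ≠ 0 := by
  intro h
  have hq : 1 < Fintype.card k := Fintype.one_lt_card
  rw [eps, tau, ← map_pow, ← map_pow, ← map_sub, ← map_mul, AdjoinRoot.mk_eq_zero,
    ← Polynomial.C_pow, ← Polynomial.C_sub, Polynomial.X_pow_dvd_iff] at h
  have h1 := h (Fintype.card k + 1) (by omega)
  have h2 : (Polynomial.X ^ (Fintype.card k + 1) *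
      Polynomial.C ((Polynomial.X : Polynomial k) - Polynomial.X ^ Fintype.card k)).coeff
      (0 + (Fintype.card k + 1)) = (Polynomial.X : Polynomial k) - Polynomial.X ^ Fintype.card k := by
    rw [Polynomial.coeff_X_pow_mul, Polynomial.coeff_C_zero]
  rw [zero_add] at h2
  rw [h2] at h1
  have h3 := congrArg (fun f => Polynomial.coeff f 1) h1
  simp only [Polynomial.coeff_sub, Polynomial.coeff_X_one, Polynomial.coeff_X_pow,
    Polynomial.coeff_zero] at h3
  rw [if_neg (by omega), sub_zero] at h3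
  exact one_ne_zero h3

theorem not_formallySmooth_of_universal (c : ι ⊕ ι → k) (u₀ : ι ⊕ ι) (hu₀ : c u₀ ≠ 0) (j : ι)
    (h1 : u₀ ≠ Sum.inl j) (h2 : u₀ ≠ Sum.inr j)
    {S : Type u} [CommRing S] [Algebra k S] [Algebra.FormallySmooth k S] (s : ι ⊕ ι → S)
    (hsF : aeval s (formF k ι) = 0) (hsL : aeval s (formL c) = 0)
    (w : ι ⊕ ι) (hw : pt c w ≠ 0)
    (huniv : ∀ (B' : Type u) [CommRing B'] [Algebra k B'] (γ : ι ⊕ ι → B'),
      aeval γ (formF k ι) = 0 → aeval γ (formL c) = 0 → IsUnit (γ w) →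
      ∃ g : S →ₐ[k] B', ∀ u, g (s u) = γ u) : False := by
  have hq : 1 < Fintype.card k := Fintype.one_lt_card
  let ε : (TestRing k) := eps k
  let τ : (TestRing k) := tau k
  let v : ι ⊕ ι → (TestRing k) := vec c u₀ j τ
  let I : Ideal (TestRing k) := Ideal.span {ε ^ 2}
  have hcv : ∑ u, algebraMap k (TestRing k) (c u) * v u = 0 := sum_c_vec c u₀ j τ hu₀
  have hFv : aeval v (formF k ι) = τ - τ ^ Fintype.card k := aeval_vec_formF c u₀ j τ h1 h2
  let γ₀ : ι ⊕ ι → (TestRing k) ⧸ I := fun u => Ideal.Quotient.mk I (algebraMap k (TestRing k) (pt c u) + ε * v u)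
  have hF₀ : aeval γ₀ (formF k ι) = 0 := by
    have := MvPolynomial.comp_aeval_apply (R := k)
      (f := fun u => algebraMap k (TestRing k) (pt c u) + ε * v u) (Ideal.Quotient.mkₐ k I) (formF k ι)
    refine Eq.trans this.symm ?_
    rw [key, hcv, mul_zero, zero_pow (by omega), sub_zero, zero_add]
    refine Ideal.Quotient.eq_zero_iff_mem.mpr ?_
    refine Ideal.mul_mem_right _ _ ?_
    rw [Ideal.mem_span_singleton]
    exact pow_dvd_pow ε (by omega)
  have hL₀ : aeval γ₀ (formL c) = 0 := by
    have := MvPolynomial.comp_aeval_apply (R := k)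
      (f := fun u => algebraMap k (TestRing k) (pt c u) + ε * v u) (Ideal.Quotient.mkₐ k I) (formL c)
    refine Eq.trans this.symm ?_
    rw [aeval_pt_formL, hcv, mul_zero, map_zero]
  have hunit : IsUnit (γ₀ w) := by
    have hnil : IsNilpotent (ε * v w) := by
      refine ⟨Fintype.card k + 2, ?_⟩
      rw [mul_pow, eps_pow, zero_mul]
    have hu : IsUnit (algebraMap k (TestRing k) (pt c w)) := (IsUnit.mk0 _ hw).map (algebraMap k (TestRing k))
    exact (hnil.isUnit_add_left_of_commute hu (Commute.all _ _)).map (Ideal.Quotient.mk I)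
  obtain ⟨g₀, hg₀⟩ := huniv ((TestRing k) ⧸ I) γ₀ hF₀ hL₀ hunit
  have hI : IsNilpotent I := by
    refine ⟨Fintype.card k + 2, ?_⟩
    rw [Ideal.span_singleton_pow, ← pow_mul, mul_comm, pow_mul, eps_pow, zero_pow (by omega)]
    simp
  obtain ⟨g, hg⟩ := Algebra.FormallySmooth.exists_lift I hI g₀
  let γ : ι ⊕ ι → (TestRing k) := fun u => g (s u)
  have hγF : aeval γ (formF k ι) = 0 := by
    have := MvPolynomial.comp_aeval_apply (R := k) (f := s) g (formF k ι)
    rw [← this, hsF, map_zero]
  have hγL : aeval γ (formL c) = 0 := by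
    have := MvPolynomial.comp_aeval_apply (R := k) (f := s) g (formL c)
    rw [← this, hsL, map_zero]
  have hγ : ∀ u, γ u - (algebraMap k (TestRing k) (pt c u) + ε * v u) ∈ Ideal.span {ε ^ 2} := by
    intro u
    rw [← Ideal.Quotient.eq]
    have h3 := AlgHom.congr_fun hg (s u)
    rw [hg₀ u] at h3
    exact h3
  have hob := obstruction c ε v γ hγF hγL hγ
  rw [eps_pow, hFv, Ideal.mem_span_singleton, zero_dvd_iff] at hob
  exact eps_mul_ne_zero hob

end core

end Groth.Agent.R2.H71HermSec
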