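import Mathlib

/-!
# Face maps of the Laurent cosimplicial ring (helper71)

Concrete description of the face maps `ℤ^p → ℤ^(p+1)` used in S13793 and the
coefficients of `mapDomain` along them.
-/

set_option autoImplicit false
universe u

namespace Groth.Agent.R2.H71.LaurentFace

open AddMonoidAlgebra

/-- the four face maps `ℤ² → ℤ³` -/
noncomputable def f0 : (Fin 2 → ℤ) →+ (Fin 3 → ℤ) :=
  (Matrix.mulVecLin (!![0, 0; 1, 0; 0, 1] : Matrix (Fin 3) (Fin 2) ℤ)).toAddMonoidHom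
noncomputable def f1 : (Fin 2 → ℤ) →+ (Fin 3 → ℤ) :=
  (Matrix.mulVecLin (!![1, 0; 1, 0; 0, 1] : Matrix (Fin 3) (Fin 2) ℤ)).toAddMonoidHom
noncomputable def f2 : (Fin 2 → ℤ) →+ (Fin 3 → ℤ) :=
  (Matrix.mulVecLin (!![1, 0; 0, 1; 0, 1] : Matrix (Fin 3) (Fin 2) ℤ)).toAddMonoidHom
noncomputable def f3 : (Fin 2 → ℤ) →+ (Fin 3 → ℤ) :=
  (Matrix.mulVecLin (!![1, 0; 0, 1; 0, 0] : Matrix (Fin 3) (Fin 2) ℤ)).toAddMonoidHom

/-- the three face maps `ℤ → ℤ²` -/
noncomputable def g0 : (Fin 1 → ℤ) →+ (Fin 2 → ℤ) :=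
  (Matrix.mulVecLin (!![0; 1] : Matrix (Fin 2) (Fin 1) ℤ)).toAddMonoidHom
noncomputable def g1 : (Fin 1 → ℤ) →+ (Fin 2 → ℤ) :=
  (Matrix.mulVecLin (!![1; 1] : Matrix (Fin 2) (Fin 1) ℤ)).toAddMonoidHom
noncomputable def g2 : (Fin 1 → ℤ) →+ (Fin 2 → ℤ) :=
  (Matrix.mulVecLin (!![1; 0] : Matrix (Fin 2) (Fin 1) ℤ)).toAddMonoidHom

lemma f0_apply (v : Fin 2 → ℤ) : f0 v = ![0, v 0, v 1] := by
  ext i; fin_cases i <;> simp [f0, Matrix.mulVec, dotProduct, Fin.sum_univ_two]
lemma f1_apply (v : Fin 2 → ℤ) : f1 v = ![v 0, v 0, v 1] := by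
  ext i; fin_cases i <;> simp [f1, Matrix.mulVec, dotProduct, Fin.sum_univ_two]
lemma f2_apply (v : Fin 2 → ℤ) : f2 v = ![v 0, v 1, v 1] := by
  ext i; fin_cases i <;> simp [f2, Matrix.mulVec, dotProduct, Fin.sum_univ_two]
lemma f3_apply (v : Fin 2 → ℤ) : f3 v = ![v 0, v 1, 0] := by
  ext i; fin_cases i <;> simp [f3, Matrix.mulVec, dotProduct, Fin.sum_univ_two]
lemma g0_apply (v : Fin 1 → ℤ) : g0 v = ![0, v 0] := by
  ext i; fin_cases i <;> simp [g0, Matrix.mulVec, dotProduct]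
lemma g1_apply (v : Fin 1 → ℤ) : g1 v = ![v 0, v 0] := by
  ext i; fin_cases i <;> simp [g1, Matrix.mulVec, dotProduct]
lemma g2_apply (v : Fin 1 → ℤ) : g2 v = ![v 0, 0] := by
  ext i; fin_cases i <;> simp [g2, Matrix.mulVec, dotProduct]

/-- Coefficient of `mapDomain φ x` when `φ` has a left inverse `ψ`. -/
lemma coeff_mapDomain_of_leftInverse {R M N : Type*} [Semiring R] (φ : M → N) (ψ : N → M)
    (h : Function.LeftInverse ψ φ) (x : AddMonoidAlgebra R M) (n : N) [Decidable (φ (ψ n) = n)] :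
    (AddMonoidAlgebra.mapDomain φ x).coeff n = if φ (ψ n) = n then x.coeff (ψ n) else 0 := by
  have hinj : Function.Injective φ := h.injective
  split_ifs with hn
  · rw [← hn, AddMonoidAlgebra.coeff_mapDomain, Finsupp.mapDomain_apply hinj, hn]
  · rw [AddMonoidAlgebra.coeff_mapDomain, Finsupp.mapDomain_of_notMem_range]
    rintro ⟨a, rfl⟩
    exact hn (by rw [h a])

variable {R : Type*} [Semiring R]

lemma coeff_f0 (x : AddMonoidAlgebra R (Fin 2 → ℤ)) (v : Fin 3 → ℤ) :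
    (AddMonoidAlgebra.mapDomain f0 x).coeff v = if v 0 = 0 then x.coeff ![v 1, v 2] else 0 := by
  classical
  rw [coeff_mapDomain_of_leftInverse (⇑f0) (fun v => ![v 1, v 2])
    (fun w => by ext i; fin_cases i <;> simp [f0_apply])]
  have : (f0 ![v 1, v 2] = v) ↔ v 0 = 0 := by
    rw [f0_apply]
    constructor
    · intro h; rw [← h]; simp
    · intro h; ext i; fin_cases i <;> simp [h]
  simp only [this]

lemma coeff_f1 (x : AddMonoidAlgebra R (Fin 2 → ℤ)) (v : Fin 3 → ℤ) :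
    (AddMonoidAlgebra.mapDomain f1 x).coeff v = if v 0 = v 1 then x.coeff ![v 0, v 2] else 0 := by
  classical
  rw [coeff_mapDomain_of_leftInverse (⇑f1) (fun v => ![v 0, v 2])
    (fun w => by ext i; fin_cases i <;> simp [f1_apply])]
  have : (f1 ![v 0, v 2] = v) ↔ v 0 = v 1 := by
    rw [f1_apply]
    constructor
    · intro h; rw [← h]; simp
    · intro h; ext i; fin_cases i <;> simp [h]
  simp only [this]

lemma coeff_f2 (x : AddMonoidAlgebra R (Fin 2 → ℤ)) (v : Fin 3 → ℤ) :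
    (AddMonoidAlgebra.mapDomain f2 x).coeff v = if v 1 = v 2 then x.coeff ![v 0, v 1] else 0 := by
  classical
  rw [coeff_mapDomain_of_leftInverse (⇑f2) (fun v => ![v 0, v 1])
    (fun w => by ext i; fin_cases i <;> simp [f2_apply])]
  have : (f2 ![v 0, v 1] = v) ↔ v 1 = v 2 := by
    rw [f2_apply]
    constructor
    · intro h; rw [← h]; simp
    · intro h; ext i; fin_cases i <;> simp [h]
  simp only [this]

lemma coeff_f3 (x : AddMonoidAlgebra R (Fin 2 → ℤ)) (v : Fin 3 → ℤ) :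
    (AddMonoidAlgebra.mapDomain f3 x).coeff v = if v 2 = 0 then x.coeff ![v 0, v 1] else 0 := by
  classical
  rw [coeff_mapDomain_of_leftInverse (⇑f3) (fun v => ![v 0, v 1])
    (fun w => by ext i; fin_cases i <;> simp [f3_apply])]
  have : (f3 ![v 0, v 1] = v) ↔ v 2 = 0 := by
    rw [f3_apply]
    constructor
    · intro h; rw [← h]; simp
    · intro h; ext i; fin_cases i <;> simp [h]
  simp only [this]

lemma coeff_g0 (x : AddMonoidAlgebra R (Fin 1 → ℤ)) (v : Fin 2 → ℤ) :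
    (AddMonoidAlgebra.mapDomain g0 x).coeff v = if v 0 = 0 then x.coeff ![v 1] else 0 := by
  classical
  rw [coeff_mapDomain_of_leftInverse (⇑g0) (fun v => ![v 1])
    (fun w => by ext i; fin_cases i; simp [g0_apply])]
  have : (g0 ![v 1] = v) ↔ v 0 = 0 := by
    rw [g0_apply]
    constructor
    · intro h; rw [← h]; simp
    · intro h; ext i; fin_cases i <;> simp [h]
  simp only [this]

lemma coeff_g1 (x : AddMonoidAlgebra R (Fin 1 → ℤ)) (v : Fin 2 → ℤ) :
    (AddMonoidAlgebra.mapDomain g1 x).coeff v = if v 0 = v 1 then x.coeff ![v 0] else 0 := by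
  classical
  rw [coeff_mapDomain_of_leftInverse (⇑g1) (fun v => ![v 0])
    (fun w => by ext i; fin_cases i; simp [g1_apply])]
  have : (g1 ![v 0] = v) ↔ v 0 = v 1 := by
    rw [g1_apply]
    constructor
    · intro h; rw [← h]; simp
    · intro h; ext i; fin_cases i <;> simp [h]
  simp only [this]

lemma coeff_g2 (x : AddMonoidAlgebra R (Fin 1 → ℤ)) (v : Fin 2 → ℤ) :
    (AddMonoidAlgebra.mapDomain g2 x).coeff v = if v 1 = 0 then x.coeff ![v 0] else 0 := by
  classical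
  rw [coeff_mapDomain_of_leftInverse (⇑g2) (fun v => ![v 0])
    (fun w => by ext i; fin_cases i; simp [g2_apply])]
  have : (g2 ![v 0] = v) ↔ v 1 = 0 := by
    rw [g2_apply]
    constructor
    · intro h; rw [← h]; simp
    · intro h; ext i; fin_cases i <;> simp [h]
  simp only [this]

end Groth.Agent.R2.H71.LaurentFace
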