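import Mathlib
import Groth.Agent.R2.H71LaurentFace

/-!
# Cocycle units over a domain are constant (helper71)

Leading-term argument with respect to a lexicographic order.
-/

set_option autoImplicit false
universe u

namespace Groth.Agent.R2.H71.LaurentDom

open AddMonoidAlgebra Groth.Agent.R2.H71.LaurentFace

section Top

variable {D : Type*} [Semiring D] {G H : Type*}

/-- `a` is a maximal exponent of `x` with respect to `ι`. -/
structure IsTop [LE H] (ι : G → H) (x : AddMonoidAlgebra D G) (a : G) : Prop where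
  mem : a ∈ x.coeff.support
  le : ∀ b ∈ x.coeff.support, ι b ≤ ι a

lemma exists_isTop [LinearOrder H] (ι : G → H) (x : AddMonoidAlgebra D G) (hx : x ≠ 0) :
    ∃ a, IsTop ι x a := by
  have hne : x.coeff.support.Nonempty := by
    rw [Finsupp.support_nonempty_iff]
    simpa using hx
  obtain ⟨a, ha, hmax⟩ := Finset.exists_max_image x.coeff.support ι hne
  exact ⟨a, ha, hmax⟩

lemma IsTop.unique [PartialOrder H] {ι : G → H} (hι : Function.Injective ι)
    {x : AddMonoidAlgebra D G} {a a' : G} (h : IsTop ι x a) (h' : IsTop ι x a') : a = a' :=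
  hι (le_antisymm (h'.le a h.mem) (h.le a' h'.mem))

lemma IsTop.mul [NoZeroDivisors D] [Add G] [AddCommMonoid H] [LinearOrder H]
    [IsOrderedCancelAddMonoid H] {ι : G → H} (hι : Function.Injective ι)
    (hadd : ∀ a b, ι (a + b) = ι a + ι b) {x y : AddMonoidAlgebra D G} {a b : G}
    (hx : IsTop ι x a) (hy : IsTop ι y b) : IsTop ι (x * y) (a + b) := by
  classical
  have huniq : UniqueAdd x.coeff.support y.coeff.support a b := by
    intro a' b' ha' hb' hab
    have h1 := hx.le a' ha'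
    have h2 := hy.le b' hb'
    have h3 : ι a' + ι b' = ι a + ι b := by rw [← hadd, ← hadd, hab]
    have ha : ι a' = ι a := by
      rcases h1.lt_or_eq with hlt | heq
      · exact absurd h3 (ne_of_lt (add_lt_add_of_lt_of_le hlt h2))
      · exact heq
    have hb : ι b' = ι b := by
      rw [ha] at h3
      exact add_left_cancel h3
    exact ⟨hι ha, hι hb⟩
  refine ⟨?_, ?_⟩
  · rw [Finsupp.mem_support_iff, AddMonoidAlgebra.coeff_mul_add_of_uniqueAdd huniq]
    exact mul_ne_zero (Finsupp.mem_support_iff.mp hx.mem) (Finsupp.mem_support_iff.mp hy.mem)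
  · intro c hc
    have := AddMonoidAlgebra.support_coeff_mul_subset x y hc
    obtain ⟨a', ha', b', hb', rfl⟩ := Finset.mem_add.mp this
    rw [hadd, hadd]
    exact add_le_add (hx.le a' ha') (hy.le b' hb')

lemma IsTop.mapDomain {G' H' : Type*} [LE H] [LE H'] {ι : G → H} {ι' : G' → H'} (φ : G → G')
    (hφ : Function.Injective φ) (hmono : ∀ a b, ι a ≤ ι b → ι' (φ a) ≤ ι' (φ b))
    {x : AddMonoidAlgebra D G} {a : G} (hx : IsTop ι x a) :
    IsTop ι' (AddMonoidAlgebra.mapDomain φ x) (φ a) := by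
  classical
  refine ⟨?_, ?_⟩
  · rw [AddMonoidAlgebra.coeff_mapDomain, Finsupp.mapDomain_support_of_injective hφ]
    exact Finset.mem_image_of_mem _ hx.mem
  · intro c hc
    rw [AddMonoidAlgebra.coeff_mapDomain, Finsupp.mapDomain_support_of_injective hφ] at hc
    obtain ⟨b, hb, rfl⟩ := Finset.mem_image.mp hc
    exact hmono _ _ (hx.le b hb)

end Top

section Lex

/-- order embedding of `ℤ²` -/
def ι₂ (v : Fin 2 → ℤ) : ℤ ×ₗ ℤ := toLex (v 0, v 1)
/-- order embedding of `ℤ³` -/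
def ι₃ (v : Fin 3 → ℤ) : ℤ ×ₗ (ℤ ×ₗ ℤ) := toLex (v 0, toLex (v 1, v 2))

lemma ι₂_injective : Function.Injective ι₂ := by
  intro v w h
  have h' : (v 0, v 1) = (w 0, w 1) := toLex.injective h
  ext i; fin_cases i
  · exact congrArg Prod.fst h'
  · exact congrArg Prod.snd h'

lemma ι₃_injective : Function.Injective ι₃ := by
  intro v w h
  have h' : (v 0, toLex (v 1, v 2)) = (w 0, toLex (w 1, w 2)) := toLex.injective h
  have h'' : (v 1, v 2) = (w 1, w 2) := toLex.injective (congrArg Prod.snd h')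
  ext i; fin_cases i
  · exact congrArg Prod.fst h'
  · exact congrArg Prod.fst h''
  · exact congrArg Prod.snd h''

lemma ι₂_add (a b : Fin 2 → ℤ) : ι₂ (a + b) = ι₂ a + ι₂ b := rfl
lemma ι₃_add (a b : Fin 3 → ℤ) : ι₃ (a + b) = ι₃ a + ι₃ b := rfl

lemma ι₂_le_iff (v w : Fin 2 → ℤ) : ι₂ v ≤ ι₂ w ↔ v 0 < w 0 ∨ v 0 = w 0 ∧ v 1 ≤ w 1 :=
  Prod.Lex.toLex_le_toLex

lemma ι₃_le_iff (v w : Fin 3 → ℤ) :
    ι₃ v ≤ ι₃ w ↔ v 0 < w 0 ∨ v 0 = w 0 ∧ (v 1 < w 1 ∨ v 1 = w 1 ∧ v 2 ≤ w 2) := by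
  unfold ι₃
  rw [Prod.Lex.toLex_le_toLex]
  simp only [Prod.Lex.toLex_le_toLex]

lemma mono_f0 (a b : Fin 2 → ℤ) (h : ι₂ a ≤ ι₂ b) : ι₃ (f0 a) ≤ ι₃ (f0 b) := by
  rw [ι₂_le_iff] at h
  rw [ι₃_le_iff, f0_apply, f0_apply]
  simp only [Matrix.cons_val_zero, Matrix.cons_val_one, Matrix.cons_val_two,
    Matrix.head_cons, Matrix.tail_cons]
  exact Or.inr ⟨trivial, h⟩

lemma mono_f1 (a b : Fin 2 → ℤ) (h : ι₂ a ≤ ι₂ b) : ι₃ (f1 a) ≤ ι₃ (f1 b) := by
  rw [ι₂_le_iff] at h
  rw [ι₃_le_iff, f1_apply, f1_apply]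
  simp only [Matrix.cons_val_zero, Matrix.cons_val_one, Matrix.cons_val_two,
    Matrix.head_cons, Matrix.tail_cons]
  omega

lemma mono_f2 (a b : Fin 2 → ℤ) (h : ι₂ a ≤ ι₂ b) : ι₃ (f2 a) ≤ ι₃ (f2 b) := by
  rw [ι₂_le_iff] at h
  rw [ι₃_le_iff, f2_apply, f2_apply]
  simp only [Matrix.cons_val_zero, Matrix.cons_val_one, Matrix.cons_val_two,
    Matrix.head_cons, Matrix.tail_cons]
  omega

lemma mono_f3 (a b : Fin 2 → ℤ) (h : ι₂ a ≤ ι₂ b) : ι₃ (f3 a) ≤ ι₃ (f3 b) := by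
  rw [ι₂_le_iff] at h
  rw [ι₃_le_iff, f3_apply, f3_apply]
  simp only [Matrix.cons_val_zero, Matrix.cons_val_one, Matrix.cons_val_two,
    Matrix.head_cons, Matrix.tail_cons]
  omega

lemma f0_injective : Function.Injective f0 := by
  intro a b h
  rw [f0_apply, f0_apply] at h
  ext i; fin_cases i
  · simpa using congrFun h 1
  · simpa using congrFun h 2

lemma f1_injective : Function.Injective f1 := by
  intro a b h
  rw [f1_apply, f1_apply] at h
  ext i; fin_cases i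
  · simpa using congrFun h 0
  · simpa using congrFun h 2

lemma f2_injective : Function.Injective f2 := by
  intro a b h
  rw [f2_apply, f2_apply] at h
  ext i; fin_cases i
  · simpa using congrFun h 0
  · simpa using congrFun h 1

lemma f3_injective : Function.Injective f3 := by
  intro a b h
  rw [f3_apply, f3_apply] at h
  ext i; fin_cases i
  · simpa using congrFun h 0
  · simpa using congrFun h 1

end Lex

/-- abstract form: a top exponent of a cocycle is zero -/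
lemma top_eq_zero {D : Type*} [Semiring D] [NoZeroDivisors D]
    {H₂ H₃ : Type*} [AddCommMonoid H₃] [LinearOrder H₃] [IsOrderedCancelAddMonoid H₃]
    [LinearOrder H₂]
    (j₂ : (Fin 2 → ℤ) → H₂) (j₃ : (Fin 3 → ℤ) → H₃) (hj₃ : Function.Injective j₃)
    (hadd : ∀ a b, j₃ (a + b) = j₃ a + j₃ b)
    (m0 : ∀ a b, j₂ a ≤ j₂ b → j₃ (f0 a) ≤ j₃ (f0 b))
    (m1 : ∀ a b, j₂ a ≤ j₂ b → j₃ (f1 a) ≤ j₃ (f1 b))
    (m2 : ∀ a b, j₂ a ≤ j₂ b → j₃ (f2 a) ≤ j₃ (f2 b))
    (m3 : ∀ a b, j₂ a ≤ j₂ b → j₃ (f3 a) ≤ j₃ (f3 b))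
    (ξ : AddMonoidAlgebra D (Fin 2 → ℤ))
    (h : AddMonoidAlgebra.mapDomain f0 ξ * AddMonoidAlgebra.mapDomain f2 ξ =
      AddMonoidAlgebra.mapDomain f1 ξ * AddMonoidAlgebra.mapDomain f3 ξ)
    (a : Fin 2 → ℤ) (ha : IsTop j₂ ξ a) : a = 0 := by
  have t0 := ha.mapDomain (ι' := j₃) f0 f0_injective m0
  have t1 := ha.mapDomain (ι' := j₃) f1 f1_injective m1
  have t2 := ha.mapDomain (ι' := j₃) f2 f2_injective m2
  have t3 := ha.mapDomain (ι' := j₃) f3 f3_injective m3
  have tl := t0.mul hj₃ hadd t2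
  have tr := t1.mul hj₃ hadd t3
  rw [h] at tl
  have key := tl.unique hj₃ tr
  rw [f0_apply, f1_apply, f2_apply, f3_apply] at key
  have k0 := congrFun key 0
  have k2 := congrFun key 2
  simp only [Pi.add_apply, Matrix.cons_val_zero, Matrix.cons_val_two,
    Matrix.head_cons, Matrix.tail_cons] at k0 k2
  ext i; fin_cases i
  · simp only [Fin.zero_eta, Pi.zero_apply]; omega
  · simp only [Fin.mk_one, Pi.zero_apply]; omega

/-- A nonzero cocycle over a domain is constant. -/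
theorem coeff_eq_zero_of_cocycle {D : Type*} [CommRing D] [IsDomain D]
    (ξ : AddMonoidAlgebra D (Fin 2 → ℤ)) (hξ : ξ ≠ 0)
    (h : AddMonoidAlgebra.mapDomain f0 ξ * AddMonoidAlgebra.mapDomain f2 ξ =
      AddMonoidAlgebra.mapDomain f1 ξ * AddMonoidAlgebra.mapDomain f3 ξ)
    (m : Fin 2 → ℤ) (hm : m ≠ 0) : ξ.coeff m = 0 := by
  by_contra hne
  have hmem : m ∈ ξ.coeff.support := Finsupp.mem_support_iff.mpr hne
  -- top with respect to `ι₂`
  obtain ⟨a, ha⟩ := exists_isTop ι₂ ξ hξ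
  have ha0 : a = 0 := top_eq_zero ι₂ ι₃ ι₃_injective ι₃_add mono_f0 mono_f1 mono_f2 mono_f3 ξ h a ha
  -- top with respect to `ι₂ ∘ neg`
  obtain ⟨b, hb⟩ := exists_isTop (fun v => ι₂ (-v)) ξ hξ
  have hb0 : b = 0 := by
    refine top_eq_zero (fun v => ι₂ (-v)) (fun v => ι₃ (-v))
      (fun v w hvw => neg_injective (ι₃_injective hvw)) (fun v w => by rw [neg_add, ι₃_add])
      ?_ ?_ ?_ ?_ ξ h b hb
    · intro v w hvw; simpa only [map_neg] using mono_f0 _ _ hvw
    · intro v w hvw; simpa only [map_neg] using mono_f1 _ _ hvw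
    · intro v w hvw; simpa only [map_neg] using mono_f2 _ _ hvw
    · intro v w hvw; simpa only [map_neg] using mono_f3 _ _ hvw
  have h1 := ha.le m hmem
  have h2 := hb.le m hmem
  rw [ha0] at h1
  rw [hb0] at h2
  simp only [neg_zero] at h2
  rw [ι₂_le_iff] at h1 h2
  simp only [Pi.neg_apply, Pi.zero_apply] at h1 h2
  apply hm
  ext i; fin_cases i
  · simp only [Fin.zero_eta, Pi.zero_apply]; omega
  · simp only [Fin.mk_one, Pi.zero_apply]; omega

end Groth.Agent.R2.H71.LaurentDom
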