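import Mathlib
import Groth.Agent.R2.H71LaurentFace
import Groth.Agent.R2.H71LaurentDom

/-!
# Vanishing of `H²` of the unit complex of the Laurent cosimplicial ring (helper71)
-/

set_option autoImplicit false
universe u

namespace Groth.Agent.R2.H71.LaurentCoc

open AddMonoidAlgebra Groth.Agent.R2.H71.LaurentFace

variable {A : Type u} [CommRing A]

section K

/-- elements all of whose coefficients lie in `J` -/
noncomputable def K (G : Type*) [AddMonoid G] (J : Ideal A) : Ideal (AddMonoidAlgebra A G) :=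
  RingHom.ker (AddMonoidAlgebra.mapRingHom G (Ideal.Quotient.mk J))

variable {G : Type*} [AddMonoid G]

lemma mem_K {J : Ideal A} {x : AddMonoidAlgebra A G} : x ∈ K G J ↔ ∀ m, x.coeff m ∈ J := by
  unfold K
  rw [RingHom.mem_ker]
  constructor
  · intro h m
    have := congrArg (fun y => y.coeff m) h
    simpa [Ideal.Quotient.eq_zero_iff_mem] using this
  · intro h
    ext m
    simp [Ideal.Quotient.eq_zero_iff_mem.mpr (h m)]

lemma K_mono {J J' : Ideal A} (h : J ≤ J') : K G J ≤ K G J' :=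
  fun _ hx => mem_K.mpr fun m => h (mem_K.mp hx m)

lemma eq_zero_of_mem_K_bot {x : AddMonoidAlgebra A G} (hx : x ∈ K G (⊥ : Ideal A)) : x = 0 := by
  ext m
  simpa using mem_K.mp hx m

lemma mul_mem_K {J J' : Ideal A} {x y : AddMonoidAlgebra A G} (hx : x ∈ K G J)
    (hy : y ∈ K G J') : x * y ∈ K G (J * J') := by
  classical
  rw [mem_K] at hx hy ⊢
  intro m
  rw [AddMonoidAlgebra.coeff_mul]
  unfold Finsupp.sum
  refine Ideal.sum_mem _ fun a _ => Ideal.sum_mem _ fun b _ => ?_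
  beta_reduce
  split_ifs
  · exact Ideal.mul_mem_mul (hx a) (hy b)
  · exact zero_mem _

lemma pow_mem_K {J : Ideal A} {x : AddMonoidAlgebra A G} (hx : x ∈ K G J) (n : ℕ) :
    x ^ n ∈ K G (J ^ n) := by
  induction n with
  | zero =>
    rw [pow_zero, pow_zero, Ideal.one_eq_top]
    exact mem_K.mpr fun _ => Submodule.mem_top
  | succ n ih =>
    rw [pow_succ, pow_succ]
    exact mul_mem_K ih hx

lemma map_mem_K {G' : Type*} [AddMonoid G'] (φ : G →+ G') {J : Ideal A}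
    {x : AddMonoidAlgebra A G} (hx : x ∈ K G J) :
    AddMonoidAlgebra.mapDomainRingHom A φ x ∈ K G' J := by
  unfold K at hx ⊢
  rw [RingHom.mem_ker] at hx ⊢
  have := RingHom.congr_fun
    (AddMonoidAlgebra.mapRingHom_comp_mapDomainRingHom (Ideal.Quotient.mk J) φ) x
  simp only [RingHom.comp_apply] at this
  rw [this, hx, map_zero]

end K

section Defs

variable (A)

/-- ring-level face maps -/
noncomputable def d0 : AddMonoidAlgebra A (Fin 2 → ℤ) →+* AddMonoidAlgebra A (Fin 3 → ℤ) :=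
  AddMonoidAlgebra.mapDomainRingHom A f0
noncomputable def d1 : AddMonoidAlgebra A (Fin 2 → ℤ) →+* AddMonoidAlgebra A (Fin 3 → ℤ) :=
  AddMonoidAlgebra.mapDomainRingHom A f1
noncomputable def d2 : AddMonoidAlgebra A (Fin 2 → ℤ) →+* AddMonoidAlgebra A (Fin 3 → ℤ) :=
  AddMonoidAlgebra.mapDomainRingHom A f2
noncomputable def d3 : AddMonoidAlgebra A (Fin 2 → ℤ) →+* AddMonoidAlgebra A (Fin 3 → ℤ) :=
  AddMonoidAlgebra.mapDomainRingHom A f3
noncomputable def e0 : AddMonoidAlgebra A (Fin 1 → ℤ) →+* AddMonoidAlgebra A (Fin 2 → ℤ) :=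
  AddMonoidAlgebra.mapDomainRingHom A g0
noncomputable def e1 : AddMonoidAlgebra A (Fin 1 → ℤ) →+* AddMonoidAlgebra A (Fin 2 → ℤ) :=
  AddMonoidAlgebra.mapDomainRingHom A g1
noncomputable def e2 : AddMonoidAlgebra A (Fin 1 → ℤ) →+* AddMonoidAlgebra A (Fin 2 → ℤ) :=
  AddMonoidAlgebra.mapDomainRingHom A g2

variable {A}

/-- the coboundary on 2-cochains -/
noncomputable def D2 (ξ : (AddMonoidAlgebra A (Fin 2 → ℤ))ˣ) : (AddMonoidAlgebra A (Fin 3 → ℤ))ˣ :=
  Units.map (d0 A).toMonoidHom ξ * (Units.map (d1 A).toMonoidHom ξ)⁻¹ *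
    Units.map (d2 A).toMonoidHom ξ * (Units.map (d3 A).toMonoidHom ξ)⁻¹

/-- the coboundary on 1-cochains -/
noncomputable def D1 (η : (AddMonoidAlgebra A (Fin 1 → ℤ))ˣ) : (AddMonoidAlgebra A (Fin 2 → ℤ))ˣ :=
  Units.map (e0 A).toMonoidHom η * (Units.map (e1 A).toMonoidHom η)⁻¹ *
    Units.map (e2 A).toMonoidHom η

lemma val_map {R S : Type*} [Semiring R] [Semiring S] (f : R →+* S) (x : Rˣ) :
    ((Units.map f.toMonoidHom x : Sˣ) : S) = f x := rfl

lemma D2_mul (ξ ξ' : (AddMonoidAlgebra A (Fin 2 → ℤ))ˣ) : D2 (ξ * ξ') = D2 ξ * D2 ξ' := by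
  unfold D2
  apply Additive.ofMul.injective
  simp only [map_mul, ofMul_mul, ofMul_inv]
  abel

lemma D2_inv (ξ : (AddMonoidAlgebra A (Fin 2 → ℤ))ˣ) : D2 ξ⁻¹ = (D2 ξ)⁻¹ := by
  unfold D2
  apply Additive.ofMul.injective
  simp only [map_inv, ofMul_mul, ofMul_inv]
  abel

lemma D1_mul (η η' : (AddMonoidAlgebra A (Fin 1 → ℤ))ˣ) : D1 (η * η') = D1 η * D1 η' := by
  unfold D1
  apply Additive.ofMul.injective
  simp only [map_mul, ofMul_mul, ofMul_inv]
  abel

lemma D1_one : D1 (1 : (AddMonoidAlgebra A (Fin 1 → ℤ))ˣ) = 1 := by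
  unfold D1
  simp

/-- cosimplicial identities -/
lemma d_e (i : (Fin 2 → ℤ) →+ (Fin 3 → ℤ)) (j : (Fin 1 → ℤ) →+ (Fin 2 → ℤ))
    (i' : (Fin 2 → ℤ) →+ (Fin 3 → ℤ)) (j' : (Fin 1 → ℤ) →+ (Fin 2 → ℤ))
    (h : ∀ w, i (j w) = i' (j' w)) (η : (AddMonoidAlgebra A (Fin 1 → ℤ))ˣ) :
    Units.map (AddMonoidAlgebra.mapDomainRingHom A i).toMonoidHom
      (Units.map (AddMonoidAlgebra.mapDomainRingHom A j).toMonoidHom η) =
    Units.map (AddMonoidAlgebra.mapDomainRingHom A i').toMonoidHom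
      (Units.map (AddMonoidAlgebra.mapDomainRingHom A j').toMonoidHom η) := by
  have hcomp : i.comp j = i'.comp j' := by
    ext w k
    exact congrFun (h _) k
  apply Units.ext
  rw [val_map, val_map, val_map, val_map, ← RingHom.comp_apply, ← RingHom.comp_apply,
    ← AddMonoidAlgebra.mapDomainRingHom_comp, ← AddMonoidAlgebra.mapDomainRingHom_comp, hcomp]

lemma D2_D1 (η : (AddMonoidAlgebra A (Fin 1 → ℤ))ˣ) : D2 (D1 η) = 1 := by
  have h1 := d_e f0 g0 f1 g0 (fun w => by rw [g0_apply, f0_apply, f1_apply]; simp) η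
  have h2 := d_e f0 g1 f2 g0 (fun w => by
    rw [g0_apply, g1_apply, f0_apply, f2_apply]; simp) η
  have h3 := d_e f0 g2 f3 g0 (fun w => by
    rw [g0_apply, g2_apply, f0_apply, f3_apply]; simp) η
  have h4 := d_e f1 g1 f2 g1 (fun w => by rw [g1_apply, f1_apply, f2_apply]; simp) η
  have h5 := d_e f1 g2 f3 g1 (fun w => by
    rw [g1_apply, g2_apply, f1_apply, f3_apply]; simp) η
  have h6 := d_e f2 g2 f3 g2 (fun w => by rw [g2_apply, f2_apply, f3_apply]; simp) η
  unfold D2 D1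
  simp only [map_mul, map_inv]
  unfold d0 d1 d2 d3 e0 e1 e2
  rw [h1, h2, h3, h4, h5, h6]
  apply Additive.ofMul.injective
  simp only [ofMul_mul, ofMul_inv, ofMul_one]
  abel

/-- the ring-level cocycle identity -/
lemma cocycle_ring (ξ : (AddMonoidAlgebra A (Fin 2 → ℤ))ˣ) (h : D2 ξ = 1) :
    d0 A (ξ : AddMonoidAlgebra A (Fin 2 → ℤ)) * d2 A ξ = d1 A ξ * d3 A ξ := by
  unfold D2 at h
  have h2 : Units.map (d0 A).toMonoidHom ξ * (Units.map (d1 A).toMonoidHom ξ)⁻¹ *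
      Units.map (d2 A).toMonoidHom ξ * (Units.map (d3 A).toMonoidHom ξ)⁻¹ =
      (Units.map (d0 A).toMonoidHom ξ * Units.map (d2 A).toMonoidHom ξ) *
        (Units.map (d1 A).toMonoidHom ξ * Units.map (d3 A).toMonoidHom ξ)⁻¹ := by
    apply Additive.ofMul.injective
    simp only [ofMul_mul, ofMul_inv]
    abel
  rw [h2] at h
  have h3 := congrArg Units.val (mul_inv_eq_one.mp h)
  simpa only [Units.val_mul, val_map] using h3

end Defs

end Groth.Agent.R2.H71.LaurentCoc
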