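import Mathlib
import Groth.Agent.R2.H71LaurentFace
import Groth.Agent.R2.H71LaurentDom
import Groth.Agent.R2.H71LaurentCoc

/-!
# Vanishing of `H²` of the unit complex of the Laurent cosimplicial ring: main argument (helper71)
-/

set_option autoImplicit false
universe u

namespace Groth.Agent.R2.H71.LaurentCoc

open AddMonoidAlgebra Groth.Agent.R2.H71.LaurentFace

variable {A : Type u} [CommRing A]

/-- additive coefficient analysis -/
lemma add_analysis (J' : Ideal A) (m : AddMonoidAlgebra A (Fin 2 → ℤ))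
    (h : d0 A m + d2 A m - d1 A m - d3 A m ∈ K (Fin 3 → ℤ) J')
    (e : AddMonoidAlgebra A (Fin 1 → ℤ)) (he : ∀ w, e.coeff w = m.coeff ![0, w 0]) :
    m - (e0 A e + e2 A e - e1 A e) ∈ K (Fin 2 → ℤ) J' := by
  classical
  have key : ∀ x y z : ℤ, ((if x = 0 then m.coeff ![y, z] else 0) +
      (if y = z then m.coeff ![x, y] else 0)
      - (if x = y then m.coeff ![x, z] else 0) - (if z = 0 then m.coeff ![x, y] else 0)) ∈ J' := by
    intro x y z
    have := mem_K.mp h ![x, y, z]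
    simp only [d0, d1, d2, d3, AddMonoidAlgebra.mapDomainRingHom_apply, AddMonoidAlgebra.coeff_sub,
      AddMonoidAlgebra.coeff_add, Finsupp.coe_sub, Finsupp.coe_add, Pi.sub_apply, Pi.add_apply,
      coeff_f0, coeff_f1, coeff_f2, coeff_f3] at this
    simp only [Matrix.cons_val_zero, Matrix.cons_val_one, Matrix.cons_val_two,
      Matrix.head_cons, Matrix.tail_cons] at this
    convert this using 3
  rw [mem_K]
  intro v
  obtain ⟨a, b, rfl⟩ : ∃ a b, v = ![a, b] := ⟨v 0, v 1, by ext i; fin_cases i <;> rfl⟩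
  have hc : (m - (e0 A e + e2 A e - e1 A e)).coeff ![a, b] =
      m.coeff ![a, b] - ((if a = 0 then m.coeff ![0, b] else 0) +
        (if b = 0 then m.coeff ![0, a] else 0)
        - (if a = b then m.coeff ![0, a] else 0)) := by
    simp only [e0, e1, e2, AddMonoidAlgebra.mapDomainRingHom_apply, AddMonoidAlgebra.coeff_sub,
      AddMonoidAlgebra.coeff_add, Finsupp.coe_sub, Finsupp.coe_add, Pi.sub_apply, Pi.add_apply,
      coeff_g0, coeff_g1, coeff_g2, he]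
    simp
  rw [hc]
  by_cases ha : a = 0
  · subst ha
    by_cases hb : b = 0
    · subst hb; simp
    · have : (0 : ℤ) ≠ b := fun h => hb h.symm
      simp [hb, this]
  · have ha' : (0 : ℤ) ≠ a := fun h => ha h.symm
    by_cases hb : b = 0
    · subst hb
      have := key 0 a 0
      simpa [ha, ha'] using this
    · by_cases hab : a = b
      · subst hab
        have := key 0 a a
        simpa [ha, ha'] using this
      · have := key 0 a b
        simpa [ha, hb, hab, ha'] using this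

lemma map_eq_one_add (f : AddMonoidAlgebra A (Fin 2 → ℤ) →+* AddMonoidAlgebra A (Fin 3 → ℤ))
    (x m : AddMonoidAlgebra A (Fin 2 → ℤ)) (h : x = 1 + m) : f x = 1 + f m := by
  rw [h, map_add, map_one]

/-- one step of the induction on the nilpotency order -/
lemma step (I : Ideal A) (r : ℕ) (hI : I ^ r = ⊥) (k : ℕ) (hk : 1 ≤ k)
    (ξ : (AddMonoidAlgebra A (Fin 2 → ℤ))ˣ) (hcoc : D2 ξ = 1)
    (hξ : (ξ : AddMonoidAlgebra A (Fin 2 → ℤ)) - 1 ∈ K (Fin 2 → ℤ) (I ^ k)) :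
    ∃ η₁ : (AddMonoidAlgebra A (Fin 1 → ℤ))ˣ,
      ((ξ * (D1 η₁)⁻¹ : (AddMonoidAlgebra A (Fin 2 → ℤ))ˣ) : AddMonoidAlgebra A (Fin 2 → ℤ)) - 1
        ∈ K (Fin 2 → ℤ) (I ^ (k + 1)) := by
  set m : AddMonoidAlgebra A (Fin 2 → ℤ) := (ξ : AddMonoidAlgebra A (Fin 2 → ℤ)) - 1 with hm
  have hξm : (ξ : AddMonoidAlgebra A (Fin 2 → ℤ)) = 1 + m := by rw [hm]; ring
  have hJJ : I ^ k * I ^ k ≤ I ^ (k + 1) := by
    rw [← pow_add]; exact Ideal.pow_le_pow_right (by omega)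
  have hring := cocycle_ring ξ hcoc
  rw [map_eq_one_add (d0 A) _ m hξm, map_eq_one_add (d1 A) _ m hξm,
    map_eq_one_add (d2 A) _ m hξm, map_eq_one_add (d3 A) _ m hξm] at hring
  have ha0 : d0 A m ∈ K (Fin 3 → ℤ) (I ^ k) := map_mem_K f0 hξ
  have ha1 : d1 A m ∈ K (Fin 3 → ℤ) (I ^ k) := map_mem_K f1 hξ
  have ha2 : d2 A m ∈ K (Fin 3 → ℤ) (I ^ k) := map_mem_K f2 hξ
  have ha3 : d3 A m ∈ K (Fin 3 → ℤ) (I ^ k) := map_mem_K f3 hξ
  have hadd : d0 A m + d2 A m - d1 A m - d3 A m = d1 A m * d3 A m - d0 A m * d2 A m := by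
    linear_combination hring
  have hadd' : d0 A m + d2 A m - d1 A m - d3 A m ∈ K (Fin 3 → ℤ) (I ^ (k + 1)) := by
    rw [hadd]
    exact K_mono hJJ (sub_mem (mul_mem_K ha1 ha3) (mul_mem_K ha0 ha2))
  -- the 1-cochain
  have hinj : Function.Injective (fun w : Fin 1 → ℤ => (![0, w 0] : Fin 2 → ℤ)) := by
    intro w w' h
    have h1 := congrFun h 1
    simp only [Matrix.cons_val_one, Matrix.cons_val_fin_one] at h1
    ext i; fin_cases i; exact h1
  set e : AddMonoidAlgebra A (Fin 1 → ℤ) :=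
    AddMonoidAlgebra.comapDomain (fun w : Fin 1 → ℤ => (![0, w 0] : Fin 2 → ℤ)) hinj m with he_def
  have he : ∀ w, e.coeff w = m.coeff ![0, w 0] := by
    intro w
    rw [he_def, AddMonoidAlgebra.coeff_comapDomain, Finsupp.comapDomain_apply]
  have heK : e ∈ K (Fin 1 → ℤ) (I ^ k) := mem_K.mpr fun w => by rw [he]; exact mem_K.mp hξ _
  have hw := add_analysis (I ^ (k + 1)) m hadd' e he
  have henil : IsNilpotent e := by
    refine ⟨r, eq_zero_of_mem_K_bot ?_⟩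
    have h1 := pow_mem_K heK r
    refine K_mono ?_ h1
    rw [← pow_mul, ← hI]
    exact Ideal.pow_le_pow_right (Nat.le_mul_of_pos_left r hk)
  obtain ⟨η₁, hη₁⟩ := henil.isUnit_one_add
  refine ⟨η₁, ?_⟩
  have hb0 : e0 A e ∈ K (Fin 2 → ℤ) (I ^ k) := map_mem_K g0 heK
  have hb1 : e1 A e ∈ K (Fin 2 → ℤ) (I ^ k) := map_mem_K g1 heK
  have hb2 : e2 A e ∈ K (Fin 2 → ℤ) (I ^ k) := map_mem_K g2 heK
  have hE0 : ((Units.map (e0 A).toMonoidHom η₁ : (AddMonoidAlgebra A (Fin 2 → ℤ))ˣ) :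
      AddMonoidAlgebra A (Fin 2 → ℤ)) = 1 + e0 A e := by
    rw [val_map, hη₁, map_add, map_one]
  have hE1 : ((Units.map (e1 A).toMonoidHom η₁ : (AddMonoidAlgebra A (Fin 2 → ℤ))ˣ) :
      AddMonoidAlgebra A (Fin 2 → ℤ)) = 1 + e1 A e := by
    rw [val_map, hη₁, map_add, map_one]
  have hE2 : ((Units.map (e2 A).toMonoidHom η₁ : (AddMonoidAlgebra A (Fin 2 → ℤ))ˣ) :
      AddMonoidAlgebra A (Fin 2 → ℤ)) = 1 + e2 A e := by
    rw [val_map, hη₁, map_add, map_one]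
  set u : (AddMonoidAlgebra A (Fin 2 → ℤ))ˣ :=
    Units.map (e0 A).toMonoidHom η₁ * Units.map (e2 A).toMonoidHom η₁ with hu
  have hrew : ξ * (D1 η₁)⁻¹ = ξ * Units.map (e1 A).toMonoidHom η₁ * u⁻¹ := by
    rw [hu]
    unfold D1
    apply Additive.ofMul.injective
    simp only [ofMul_mul, ofMul_inv]
    abel
  rw [hrew]
  have huu : (u : AddMonoidAlgebra A (Fin 2 → ℤ)) * ((u⁻¹ : (AddMonoidAlgebra A (Fin 2 → ℤ))ˣ) :
      AddMonoidAlgebra A (Fin 2 → ℤ)) = 1 := Units.mul_inv u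
  have hval : ((ξ * Units.map (e1 A).toMonoidHom η₁ * u⁻¹ : (AddMonoidAlgebra A (Fin 2 → ℤ))ˣ) :
      AddMonoidAlgebra A (Fin 2 → ℤ)) - 1 =
      ((ξ : AddMonoidAlgebra A (Fin 2 → ℤ)) *
        ((Units.map (e1 A).toMonoidHom η₁ : (AddMonoidAlgebra A (Fin 2 → ℤ))ˣ) :
          AddMonoidAlgebra A (Fin 2 → ℤ)) - (u : AddMonoidAlgebra A (Fin 2 → ℤ))) *
        ((u⁻¹ : (AddMonoidAlgebra A (Fin 2 → ℤ))ˣ) : AddMonoidAlgebra A (Fin 2 → ℤ)) := by
    simp only [Units.val_mul]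
    linear_combination huu
  rw [hval]
  refine Ideal.mul_mem_right _ _ ?_
  have hdiff : (ξ : AddMonoidAlgebra A (Fin 2 → ℤ)) *
        ((Units.map (e1 A).toMonoidHom η₁ : (AddMonoidAlgebra A (Fin 2 → ℤ))ˣ) :
          AddMonoidAlgebra A (Fin 2 → ℤ)) - (u : AddMonoidAlgebra A (Fin 2 → ℤ)) =
      (m - (e0 A e + e2 A e - e1 A e)) + m * e1 A e - e0 A e * e2 A e := by
    rw [hu, Units.val_mul, hE0, hE1, hE2, hξm]
    ring
  rw [hdiff]
  exact sub_mem (add_mem hw (K_mono hJJ (mul_mem_K hξ hb1))) (K_mono hJJ (mul_mem_K hb0 hb2))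

/-- the unipotent case -/
lemma unipotent (I : Ideal A) (r : ℕ) (hI : I ^ r = ⊥) :
    ∀ (n k : ℕ), 1 ≤ k → r ≤ k + n → ∀ ξ : (AddMonoidAlgebra A (Fin 2 → ℤ))ˣ, D2 ξ = 1 →
      (ξ : AddMonoidAlgebra A (Fin 2 → ℤ)) - 1 ∈ K (Fin 2 → ℤ) (I ^ k) → ∃ η, ξ = D1 η := by
  intro n
  induction n with
  | zero =>
    intro k _ hrk ξ _ hξ
    refine ⟨1, ?_⟩
    rw [D1_one]
    have h0 : (ξ : AddMonoidAlgebra A (Fin 2 → ℤ)) - 1 = 0 := by
      apply eq_zero_of_mem_K_bot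
      refine K_mono ?_ hξ
      rw [← hI]
      exact Ideal.pow_le_pow_right (by omega)
    exact Units.ext (sub_eq_zero.mp h0)
  | succ n ih =>
    intro k hk hrk ξ hcoc hξ
    obtain ⟨η₁, hη₁⟩ := step I r hI k hk ξ hcoc hξ
    have hcoc' : D2 (ξ * (D1 η₁)⁻¹) = 1 := by
      rw [D2_mul, D2_inv, D2_D1, hcoc]; simp
    obtain ⟨η', hη'⟩ := ih (k + 1) (by omega) (by omega) (ξ * (D1 η₁)⁻¹) hcoc' hη₁
    refine ⟨η' * η₁, ?_⟩
    rw [D1_mul, ← hη']
    simp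

/-- non-constant coefficients of a cocycle lie in every prime -/
lemma coeff_mem_prime (ξ : (AddMonoidAlgebra A (Fin 2 → ℤ))ˣ) (hcoc : D2 ξ = 1)
    (p : Ideal A) [p.IsPrime] (m : Fin 2 → ℤ) (hm : m ≠ 0) :
    (ξ : AddMonoidAlgebra A (Fin 2 → ℤ)).coeff m ∈ p := by
  set π := Ideal.Quotient.mk p with hπ
  set P2 := AddMonoidAlgebra.mapRingHom (Fin 2 → ℤ) π with hP2
  set P3 := AddMonoidAlgebra.mapRingHom (Fin 3 → ℤ) π with hP3
  have hring := cocycle_ring ξ hcoc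
  have nat : ∀ (f : (Fin 2 → ℤ) →+ (Fin 3 → ℤ)) (x : AddMonoidAlgebra A (Fin 2 → ℤ)),
      AddMonoidAlgebra.mapDomain f (P2 x) = P3 (AddMonoidAlgebra.mapDomainRingHom A f x) := by
    intro f x
    have := RingHom.congr_fun (AddMonoidAlgebra.mapRingHom_comp_mapDomainRingHom π f) x
    simp only [RingHom.comp_apply] at this
    rw [hP3, this, AddMonoidAlgebra.mapDomainRingHom_apply]
  have h' : AddMonoidAlgebra.mapDomain f0 (P2 ξ) * AddMonoidAlgebra.mapDomain f2 (P2 ξ) =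
      AddMonoidAlgebra.mapDomain f1 (P2 ξ) * AddMonoidAlgebra.mapDomain f3 (P2 ξ) := by
    rw [nat, nat, nat, nat, ← map_mul, ← map_mul]
    exact congrArg P3 hring
  have hne : P2 (ξ : AddMonoidAlgebra A (Fin 2 → ℤ)) ≠ 0 := (ξ.isUnit.map P2).ne_zero
  have := LaurentDom.coeff_eq_zero_of_cocycle (P2 ξ) hne h' m hm
  rw [hP2, AddMonoidAlgebra.coeff_mapRingHom] at this
  exact Ideal.Quotient.eq_zero_iff_mem.mp this

lemma isUnit_coeff_zero (ξ : (AddMonoidAlgebra A (Fin 2 → ℤ))ˣ) (hcoc : D2 ξ = 1) :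
    IsUnit ((ξ : AddMonoidAlgebra A (Fin 2 → ℤ)).coeff 0) := by
  by_contra h
  obtain ⟨M, hM, hc⟩ := exists_max_ideal_of_mem_nonunits (mem_nonunits_iff.mpr h)
  haveI := hM.isPrime
  have hall : ∀ m, (ξ : AddMonoidAlgebra A (Fin 2 → ℤ)).coeff m ∈ M := by
    intro m
    by_cases hm : m = 0
    · subst hm; exact hc
    · exact coeff_mem_prime ξ hcoc M m hm
  have hK : (ξ : AddMonoidAlgebra A (Fin 2 → ℤ)) ∈ K (Fin 2 → ℤ) M := mem_K.mpr hall
  have h0 : AddMonoidAlgebra.mapRingHom (Fin 2 → ℤ) (Ideal.Quotient.mk M)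
      (ξ : AddMonoidAlgebra A (Fin 2 → ℤ)) = 0 := hK
  haveI : Nontrivial (A ⧸ M) := Ideal.Quotient.nontrivial_iff.mpr hM.ne_top
  exact (ξ.isUnit.map (AddMonoidAlgebra.mapRingHom (Fin 2 → ℤ) (Ideal.Quotient.mk M))).ne_zero h0

/-- Main theorem: a 2-cocycle of units of Laurent polynomial rings is a coboundary. -/
theorem exists_eq_D1 (ξ : (AddMonoidAlgebra A (Fin 2 → ℤ))ˣ) (hcoc : D2 ξ = 1) :
    ∃ η, ξ = D1 η := by
  classical
  obtain ⟨c, hc⟩ := isUnit_coeff_zero ξ hcoc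
  set C1 : (AddMonoidAlgebra A (Fin 1 → ℤ))ˣ :=
    Units.map (AddMonoidAlgebra.singleZeroRingHom (R := A) (M := Fin 1 → ℤ)).toMonoidHom c with hC1
  set C2 : (AddMonoidAlgebra A (Fin 2 → ℤ))ˣ :=
    Units.map (AddMonoidAlgebra.singleZeroRingHom (R := A) (M := Fin 2 → ℤ)).toMonoidHom c with hC2
  have hmapC : ∀ g : (Fin 1 → ℤ) →+ (Fin 2 → ℤ),
      Units.map (AddMonoidAlgebra.mapDomainRingHom A g).toMonoidHom C1 = C2 := by
    intro g
    apply Units.ext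
    rw [val_map, hC1, hC2, val_map, val_map]
    simp
  have hD1C : D1 C1 = C2 := by
    unfold D1 e0 e1 e2
    rw [hmapC, hmapC, hmapC]
    simp
  have hD2C : D2 C2 = 1 := by rw [← hD1C, D2_D1]
  set ξ₁ := ξ * C2⁻¹ with hξ₁
  have hcoc₁ : D2 ξ₁ = 1 := by rw [hξ₁, D2_mul, D2_inv, hcoc, hD2C]; simp
  set S : Finset A := (((ξ : AddMonoidAlgebra A (Fin 2 → ℤ)).coeff.support.erase 0).image
    fun m => (ξ : AddMonoidAlgebra A (Fin 2 → ℤ)).coeff m) with hS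
  set I : Ideal A := Ideal.span (S : Set A) with hI
  have hIfg : I.FG := ⟨S, rfl⟩
  have hInil : I ≤ nilradical A := by
    rw [hI, Ideal.span_le]
    intro x hx
    rw [hS, Finset.mem_coe, Finset.mem_image] at hx
    obtain ⟨m, hm, rfl⟩ := hx
    have hm0 : m ≠ 0 := (Finset.mem_erase.mp hm).1
    rw [SetLike.mem_coe, mem_nilradical, nilpotent_iff_mem_prime]
    intro p hp
    haveI := hp
    exact coeff_mem_prime ξ hcoc p m hm0
  obtain ⟨r, hr⟩ := (hIfg.isNilpotent_iff_le_nilradical.mpr hInil)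
  rw [Ideal.zero_eq_bot] at hr
  have hval : (ξ₁ : AddMonoidAlgebra A (Fin 2 → ℤ)) =
      (ξ : AddMonoidAlgebra A (Fin 2 → ℤ)) * AddMonoidAlgebra.single 0 ((c⁻¹ : Aˣ) : A) := by
    rw [hξ₁, Units.val_mul, hC2, ← map_inv, val_map]
    rfl
  have hmem : (ξ₁ : AddMonoidAlgebra A (Fin 2 → ℤ)) - 1 ∈ K (Fin 2 → ℤ) (I ^ 1) := by
    rw [pow_one, mem_K]
    intro m
    rw [hval, AddMonoidAlgebra.coeff_sub, Finsupp.sub_apply, AddMonoidAlgebra.coeff_mul_single_zero,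
      AddMonoidAlgebra.one_def, AddMonoidAlgebra.coeff_single, Finsupp.single_apply]
    by_cases hm : m = 0
    · subst hm
      rw [if_pos rfl, ← hc, Units.mul_inv, sub_self]
      exact zero_mem _
    · rw [if_neg (Ne.symm hm), sub_zero]
      by_cases hz : (ξ : AddMonoidAlgebra A (Fin 2 → ℤ)).coeff m = 0
      · rw [hz, zero_mul]; exact zero_mem _
      · refine Ideal.mul_mem_right _ _ (Ideal.subset_span ?_)
        rw [hS, Finset.mem_coe, Finset.mem_image]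
        exact ⟨m, Finset.mem_erase.mpr ⟨hm, Finsupp.mem_support_iff.mpr hz⟩, rfl⟩
  obtain ⟨η, hη⟩ := unipotent I r hr r 1 le_rfl (by omega) ξ₁ hcoc₁ hmem
  refine ⟨η * C1, ?_⟩
  rw [D1_mul, hD1C, ← hη, hξ₁]
  simp

end Groth.Agent.R2.H71.LaurentCoc
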