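import Mathlib

/-!
# Length of quotients by ideals: the colon exact sequence (helper71)

For an ideal `J` of a commutative ring `R` and `x : R`, with `K = (J : x)`,
`0 → R/K --x--> R/J → R/(J + (x)) → 0` is exact, so `length R/J = length R/K + length R/(J + (x))`.
Consequences: if `x` is regular modulo `J` then `length R/(J + (xz)) = length R/(J + (z)) + length R/(J + (x))`
and `length R/(J + (x^n)) = n * length R/(J + (x))`.
-/

set_option autoImplicit false
universe u

namespace Groth.Agent.R2.H71.Len

variable {R : Type u} [CommRing R]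

/-- The colon exact sequence, on lengths. -/
theorem length_quotient_eq_add (J K : Ideal R) (x : R) (hK : ∀ y, y ∈ K ↔ x * y ∈ J) :
    Module.length R (R ⧸ J) =
      Module.length R (R ⧸ K) + Module.length R (R ⧸ (J ⊔ Ideal.span {x})) := by
  let f : (R ⧸ K) →ₗ[R] (R ⧸ J) :=
    Submodule.mapQ K J (LinearMap.mulLeft R x) (fun y hy => (hK y).mp hy)
  let g : (R ⧸ J) →ₗ[R] (R ⧸ (J ⊔ Ideal.span {x})) :=
    Submodule.mapQ J (J ⊔ Ideal.span {x}) LinearMap.id (fun y hy => Submodule.mem_sup_left hy)
  have hf_mk : ∀ r : R, f (Submodule.Quotient.mk r) = Submodule.Quotient.mk (x * r) := fun r => rfl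
  have hg_mk : ∀ r : R, g (Submodule.Quotient.mk r) = Submodule.Quotient.mk r := fun r => rfl
  apply Module.length_eq_add_of_exact f g
  · rw [injective_iff_map_eq_zero]
    intro y hy
    obtain ⟨r, rfl⟩ := Submodule.Quotient.mk_surjective _ y
    rw [hf_mk, Submodule.Quotient.mk_eq_zero] at hy
    rw [Submodule.Quotient.mk_eq_zero]
    exact (hK r).mpr hy
  · intro z
    obtain ⟨r, rfl⟩ := Submodule.Quotient.mk_surjective _ z
    exact ⟨Submodule.Quotient.mk r, hg_mk r⟩
  · intro y
    obtain ⟨r, rfl⟩ := Submodule.Quotient.mk_surjective _ y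
    rw [hg_mk, Submodule.Quotient.mk_eq_zero]
    constructor
    · intro hr
      obtain ⟨i, hi, c, hc, rfl⟩ := Submodule.mem_sup.mp hr
      obtain ⟨a, rfl⟩ := Ideal.mem_span_singleton'.mp hc
      refine ⟨Submodule.Quotient.mk a, ?_⟩
      rw [hf_mk, Submodule.Quotient.eq]
      have : x * a - (i + a * x) = -i := by ring
      rw [this]
      exact J.neg_mem hi
    · rintro ⟨z, hz⟩
      obtain ⟨a, rfl⟩ := Submodule.Quotient.mk_surjective _ z
      rw [hf_mk, Submodule.Quotient.eq] at hz
      have : r = -(x * a - r) + a * x := by ring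
      rw [this]
      exact Submodule.add_mem_sup (J.neg_mem hz)
        (Ideal.mul_mem_left _ _ (Ideal.mem_span_singleton_self x))

/-- If `x` is regular modulo `J`, `length R/(J + (xz)) = length R/(J + (z)) + length R/(J + (x))`. -/
theorem length_quotient_sup_span_mul (J : Ideal R) (x z : R) (hreg : ∀ y, x * y ∈ J → y ∈ J) :
    Module.length R (R ⧸ (J ⊔ Ideal.span {x * z})) =
      Module.length R (R ⧸ (J ⊔ Ideal.span {z})) + Module.length R (R ⧸ (J ⊔ Ideal.span {x})) := by
  have hsup : J ⊔ Ideal.span {x * z} ⊔ Ideal.span {x} = J ⊔ Ideal.span {x} := by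
    rw [sup_assoc]
    congr 1
    apply sup_eq_right.mpr
    rw [Ideal.span_singleton_le_iff_mem]
    exact Ideal.mul_mem_right _ _ (Ideal.mem_span_singleton_self x)
  rw [length_quotient_eq_add (J ⊔ Ideal.span {x * z}) (J ⊔ Ideal.span {z}) x ?_, hsup]
  intro y
  constructor
  · intro hy
    obtain ⟨i, hi, c, hc, rfl⟩ := Submodule.mem_sup.mp hy
    obtain ⟨a, rfl⟩ := Ideal.mem_span_singleton'.mp hc
    have : x * (i + a * z) = x * i + a * (x * z) := by ring
    rw [this]
    exact Submodule.add_mem_sup (J.mul_mem_left _ hi)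
      (Ideal.mul_mem_left _ _ (Ideal.mem_span_singleton_self _))
  · intro hy
    obtain ⟨i, hi, c, hc, hic⟩ := Submodule.mem_sup.mp hy
    obtain ⟨a, rfl⟩ := Ideal.mem_span_singleton'.mp hc
    have h1 : x * (y - a * z) ∈ J := by
      have : x * (y - a * z) = i := by rw [mul_sub, ← hic]; ring
      rw [this]; exact hi
    have h2 := hreg _ h1
    have : y = (y - a * z) + a * z := by ring
    rw [this]
    exact Submodule.add_mem_sup h2 (Ideal.mul_mem_left _ _ (Ideal.mem_span_singleton_self _))

/-- If `x` is regular modulo `J`, `length R/(J + (x^n)) = n * length R/(J + (x))`. -/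
theorem length_quotient_sup_span_pow (J : Ideal R) (x : R) (hreg : ∀ y, x * y ∈ J → y ∈ J) (n : ℕ) :
    Module.length R (R ⧸ (J ⊔ Ideal.span {x ^ n})) =
      (n : ℕ∞) * Module.length R (R ⧸ (J ⊔ Ideal.span {x})) := by
  induction n with
  | zero =>
    rw [pow_zero, Ideal.span_singleton_one, sup_top_eq, Nat.cast_zero, zero_mul]
    exact Module.length_eq_zero
  | succ n ih =>
    rw [pow_succ', length_quotient_sup_span_mul J x (x ^ n) hreg, ih, Nat.cast_succ, add_mul, one_mul]

/-- The quotient by a maximal ideal has length one. -/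
theorem length_quotient_of_isMaximal (m : Ideal R) [hm : m.IsMaximal] :
    Module.length R (R ⧸ m) = 1 := by
  rw [Module.length_eq_one_iff]
  exact isSimpleModule_iff_isCoatom.mpr (Ideal.isMaximal_def.mp hm)

end Groth.Agent.R2.H71.Len
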