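import Mathlib

/-!
# MacMahon master theorem, part A: counting (helper71)

Functions `Fin n → ι` up to permutation of `Fin n` are classified by their fibre cardinalities
`cnt f : ι → ℕ`; the generating function of `∑_{l, ∑ l = n} ∏ k, lam k ^ l k`.
-/

set_option autoImplicit false
set_option linter.unusedSectionVars false
universe u v

namespace Groth.Agent.R2.H71.MM

open Finset

section Count

variable {ι : Type v} [Fintype ι] [DecidableEq ι] {n : ℕ}

/-- fibre cardinalities of `f`. -/
def cnt (f : Fin n → ι) (k : ι) : ℕ := #{i | f i = k}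

lemma sum_cnt (f : Fin n → ι) : ∑ k, cnt f k = n := by
  have h := Finset.card_eq_sum_card_fiberwise (f := f) (s := Finset.univ) (t := Finset.univ)
    (fun _ _ => Finset.mem_coe.mpr (Finset.mem_univ _))
  simp only [Finset.card_univ, Fintype.card_fin] at h
  exact h.symm

lemma cnt_comp_perm (f : Fin n → ι) (σ : Equiv.Perm (Fin n)) : cnt (f ∘ σ) = cnt f := by
  funext k
  unfold cnt
  refine Finset.card_bij (fun i _ => σ i) ?_ ?_ ?_
  · intro i hi
    simpa using hi
  · intro i _ j _ hij
    exact σ.injective hij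
  · intro j hj
    refine ⟨σ.symm j, ?_, by simp⟩
    simpa using hj

lemma card_fibre (f : Fin n → ι) (k : ι) : Fintype.card {i // f i = k} = cnt f k := by
  rw [Fintype.card_subtype]
  rfl

lemma exists_perm_of_cnt_eq (f g : Fin n → ι) (h : cnt f = cnt g) :
    ∃ σ : Equiv.Perm (Fin n), g ∘ σ = f := by
  have e : ∀ k, {i // f i = k} ≃ {i // g i = k} := fun k =>
    Fintype.equivOfCardEq (by rw [card_fibre, card_fibre, h])
  refine ⟨Equiv.ofFiberEquiv e, ?_⟩
  funext i
  exact Equiv.ofFiberEquiv_map e i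

lemma exists_cnt_eq (l : ι → ℕ) (hl : ∑ k, l k = n) : ∃ f : Fin n → ι, cnt f = l := by
  have hcard : Fintype.card (Σ k, Fin (l k)) = Fintype.card (Fin n) := by
    rw [Fintype.card_sigma, Fintype.card_fin]
    simpa using hl
  let e : (Σ k, Fin (l k)) ≃ Fin n := Fintype.equivOfCardEq hcard
  refine ⟨fun i => (e.symm i).1, ?_⟩
  funext k
  rw [← card_fibre]
  have e2 : {i : Fin n // (e.symm i).1 = k} ≃ Fin (l k) :=
    (e.symm.subtypeEquiv (p := fun i => (e.symm i).1 = k) (q := fun x => x.1 = k)
      (fun _ => Iff.rfl)).trans (Equiv.sigmaSubtype k)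
  rw [Fintype.card_congr e2, Fintype.card_fin]

lemma prod_comp_eq_prod_pow {A : Type u} [CommMonoid A] (f : Fin n → ι) (lam : ι → A) :
    ∏ i, lam (f i) = ∏ k, lam k ^ cnt f k := by
  rw [← Finset.prod_fiberwise_of_maps_to (s := Finset.univ) (t := Finset.univ) (g := f)
    (fun _ _ => Finset.mem_univ _)]
  refine Finset.prod_congr rfl fun k _ => ?_
  rw [Finset.prod_congr rfl (fun i hi => by rw [(Finset.mem_filter.mp hi).2] : ∀ i ∈ ({i | f i = k} : Finset (Fin n)), lam (f i) = lam k)]
  rw [Finset.prod_const]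
  rfl

/-- a chosen function with prescribed fibre cardinalities. -/
noncomputable def rep (l : ι → ℕ) (hl : ∑ k, l k = n) : Fin n → ι := (exists_cnt_eq l hl).choose

lemma cnt_rep (l : ι → ℕ) (hl : ∑ k, l k = n) : cnt (rep l hl) = l :=
  (exists_cnt_eq l hl).choose_spec

/-- the canonical representative of the orbit of `f`. -/
noncomputable def crep (f : Fin n → ι) : Fin n → ι := rep (cnt f) (sum_cnt f)

lemma cnt_crep (f : Fin n → ι) : cnt (crep f) = cnt f := cnt_rep _ _

lemma crep_congr {f g : Fin n → ι} (h : cnt f = cnt g) : crep f = crep g := by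
  unfold crep
  congr 1

lemma crep_crep (f : Fin n → ι) : crep (crep f) = crep f := crep_congr (cnt_crep f)

end Count

section GenFun

variable {ι : Type v} [Fintype ι] [DecidableEq ι] {A : Type u} [CommRing A]

open PowerSeries

/-- `∑_{l : ι → ℕ, ∑ l = n} ∏ k, lam k ^ l k`, the complete homogeneous symmetric function. -/
noncomputable def hN (lam : ι → A) (n : ℕ) : A :=
  ∑ l ∈ Finset.piAntidiag (Finset.univ : Finset ι) n, ∏ k, lam k ^ l k

lemma geom_mul (a : A) : (1 - PowerSeries.C a * PowerSeries.X) * PowerSeries.mk (fun m => a ^ m) = 1 := by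
  ext m
  rw [sub_mul, one_mul, map_sub, PowerSeries.coeff_mk, mul_assoc, PowerSeries.coeff_C_mul]
  cases m with
  | zero => simp
  | succ m =>
    rw [pow_succ, mul_comm PowerSeries.X, PowerSeries.coeff_succ_mul_X, PowerSeries.coeff_mk]
    simp [mul_comm]

theorem prod_one_sub_mul_hN (lam : ι → A) :
    (∏ k, (1 - PowerSeries.C (lam k) * PowerSeries.X)) * PowerSeries.mk (hN lam) = 1 := by
  have h1 : PowerSeries.mk (hN lam) = ∏ k, PowerSeries.mk (fun m => lam k ^ m) := by
    ext m
    rw [PowerSeries.coeff_mk, PowerSeries.coeff_prod]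
    unfold hN
    -- compare finsuppAntidiag and piAntidiag
    simp only [PowerSeries.coeff_mk]
    symm
    refine Finset.sum_bij (fun (l : ι →₀ ℕ) _ => (l : ι → ℕ)) ?_ ?_ ?_ ?_
    · intro l hl
      rw [Finset.mem_finsuppAntidiag] at hl
      rw [Finset.mem_piAntidiag]
      exact ⟨hl.1, fun i _ => Finset.mem_univ i⟩
    · intro l _ l' _ h
      exact DFunLike.coe_injective h
    · intro f hf
      rw [Finset.mem_piAntidiag] at hf
      refine ⟨Finsupp.equivFunOnFinite.symm f, ?_, rfl⟩
      rw [Finset.mem_finsuppAntidiag]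
      exact ⟨hf.1, Finset.subset_univ _⟩
    · intro l _
      rfl
  rw [h1, ← Finset.prod_mul_distrib]
  exact Finset.prod_eq_one fun k _ => geom_mul (lam k)

end GenFun

end Groth.Agent.R2.H71.MM
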