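import Mathlib
import Groth.Agent.R2.H71MMCount

/-!
# MacMahon master theorem, part B: the trace of `u^{⊗ n}` on symmetric tensors (helper71)
-/

set_option autoImplicit false
set_option linter.unusedSectionVars false
universe u v

namespace Groth.Agent.R2.H71.MM

open Finset Module TensorProduct PiTensorProduct

section Trace

variable {A : Type u} [CommRing A] {M : Type u} [AddCommGroup M] [Module A M]
  {ι : Type v} [Fintype ι] [DecidableEq ι] (b : Basis ι A M) (n : ℕ)

/-- the symmetric tensors. -/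
abbrev Gam (A : Type u) [CommRing A] (M : Type u) [AddCommGroup M] [Module A M] (n : ℕ) :
    Submodule A (⨂[A] _i : Fin n, M) :=
  ⨅ σ : Equiv.Perm (Fin n),
    LinearMap.eqLocus ((PiTensorProduct.reindex A (fun _ : Fin n => M) σ).toLinearMap) LinearMap.id

/-- the tensor basis. -/
noncomputable abbrev Bn : Basis (Fin n → ι) A (⨂[A] _i : Fin n, M) :=
  Basis.piTensorProduct (fun _ : Fin n => b)

lemma mem_Gam_iff (x : ⨂[A] _i : Fin n, M) :
    x ∈ Gam A M n ↔ ∀ σ : Equiv.Perm (Fin n),
      PiTensorProduct.reindex A (fun _ : Fin n => M) σ x = x := by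
  simp only [Gam, Submodule.mem_iInf, LinearMap.mem_eqLocus, LinearEquiv.coe_coe,
    LinearMap.id_coe, id_eq]

lemma repr_reindex (σ : Equiv.Perm (Fin n)) (x : ⨂[A] _i : Fin n, M) (f : Fin n → ι) :
    (Bn b n).repr (PiTensorProduct.reindex A (fun _ : Fin n => M) σ x) f =
      (Bn b n).repr x (f ∘ σ) := by
  induction x using PiTensorProduct.induction_on with
  | smul_tprod r m =>
    rw [map_smul, map_smul, map_smul, Finsupp.smul_apply, Finsupp.smul_apply, reindex_tprod]
    congr 1
    rw [Basis.piTensorProduct_repr_tprod_apply, Basis.piTensorProduct_repr_tprod_apply]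
    exact (Equiv.prod_comp σ (fun i => (b.repr (m (σ.symm i))) (f i))).symm.trans (by simp)
  | add x y hx hy =>
    rw [map_add, map_add, map_add, Finsupp.add_apply, Finsupp.add_apply, hx, hy]

lemma mem_Gam_iff_repr (x : ⨂[A] _i : Fin n, M) :
    x ∈ Gam A M n ↔ ∀ (σ : Equiv.Perm (Fin n)) (f : Fin n → ι),
      (Bn b n).repr x (f ∘ σ) = (Bn b n).repr x f := by
  rw [mem_Gam_iff]
  refine forall_congr' fun σ => ?_
  rw [← (Bn b n).repr.injective.eq_iff, Finsupp.ext_iff]
  refine forall_congr' fun f => ?_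
  rw [repr_reindex]

lemma repr_eq_of_cnt_eq {x : ⨂[A] _i : Fin n, M} (hx : x ∈ Gam A M n) {f g : Fin n → ι}
    (h : cnt f = cnt g) : (Bn b n).repr x f = (Bn b n).repr x g := by
  obtain ⟨σ, rfl⟩ := exists_perm_of_cnt_eq f g h
  exact (mem_Gam_iff_repr b n x).mp hx σ g

/-- the index type: fibre-cardinality vectors of total `n`. -/
abbrev Idx (ι : Type v) [Fintype ι] [DecidableEq ι] (n : ℕ) : Type v :=
  ↥(Finset.piAntidiag (Finset.univ : Finset ι) n)

lemma Idx.sum_eq (l : Idx ι n) : ∑ k, l.1 k = n := (Finset.mem_piAntidiag.mp l.2).1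

/-- the class of `f`. -/
def lof (f : Fin n → ι) : Idx ι n :=
  ⟨cnt f, Finset.mem_piAntidiag.mpr ⟨sum_cnt f, fun _ _ => Finset.mem_univ _⟩⟩

/-- the representative of a class. -/
noncomputable def repI (l : Idx ι n) : Fin n → ι := rep l.1 (Idx.sum_eq n l)

lemma lof_repI (l : Idx ι n) : lof n (repI n l) = l := Subtype.ext (cnt_rep _ _)

lemma repI_lof (f : Fin n → ι) : repI n (lof n f) = crep f := rfl

lemma lof_comp_perm (f : Fin n → ι) (σ : Equiv.Perm (Fin n)) : lof n (f ∘ σ) = lof n f :=
  Subtype.ext (cnt_comp_perm f σ)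

/-- the symmetric tensor with coordinates `c`. -/
noncomputable def Sn : (Idx ι n → A) →ₗ[A] (⨂[A] _i : Fin n, M) where
  toFun c := ∑ f : Fin n → ι, c (lof n f) • Bn b n f
  map_add' c c' := by
    simp only [Pi.add_apply, add_smul, Finset.sum_add_distrib]
  map_smul' r c := by
    simp only [Pi.smul_apply, smul_eq_mul, RingHom.id_apply, Finset.smul_sum, mul_smul]

lemma repr_Sn (c : Idx ι n → A) (f : Fin n → ι) : (Bn b n).repr (Sn b n c) f = c (lof n f) := by
  change (Bn b n).repr (∑ g : Fin n → ι, c (lof n g) • Bn b n g) f = _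
  rw [Basis.repr_sum_self]

lemma Sn_mem (c : Idx ι n → A) : Sn b n c ∈ Gam A M n := by
  rw [mem_Gam_iff_repr b]
  intro σ f
  rw [repr_Sn, repr_Sn, lof_comp_perm]

/-- coordinates on the symmetric tensors. -/
noncomputable def En : Gam A M n ≃ₗ[A] (Idx ι n → A) where
  toFun v := fun l => (Bn b n).repr v.1 (repI n l)
  map_add' v w := by
    funext l
    simp
  map_smul' r v := by
    funext l
    simp
  invFun c := ⟨Sn b n c, Sn_mem b n c⟩
  left_inv v := by
    apply Subtype.ext
    apply (Bn b n).repr.injective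
    ext f
    rw [repr_Sn]
    exact repr_eq_of_cnt_eq b n v.2 (by rw [repI_lof, cnt_crep])
  right_inv c := by
    funext l
    change (Bn b n).repr (Sn b n c) (repI n l) = c l
    rw [repr_Sn, lof_repI]

/-- the matrix of `u`. -/
noncomputable def matOf (u : M →ₗ[A] M) : ι → ι → A := fun k j => b.repr (u (b j)) k

/-- MacMahon's coefficient. -/
noncomputable def aN (U : ι → ι → A) (n : ℕ) : A :=
  ∑ f : Fin n → ι, ∏ i, U (crep f i) (f i)

lemma repr_map_basis (u : M →ₗ[A] M) (f g : Fin n → ι) :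
    (Bn b n).repr (PiTensorProduct.map (fun _ : Fin n => u) (Bn b n f)) g =
      ∏ i, matOf b u (g i) (f i) := by
  rw [Basis.piTensorProduct_apply, PiTensorProduct.map_tprod,
    Basis.piTensorProduct_repr_tprod_apply]
  rfl

theorem trace_eq (u : M →ₗ[A] M) (γ : Gam A M n →ₗ[A] Gam A M n)
    (hγ : ∀ x : Gam A M n, ((γ x : Gam A M n) : ⨂[A] _i : Fin n, M) =
      PiTensorProduct.map (fun _ : Fin n => u) (x : ⨂[A] _i : Fin n, M)) :
    LinearMap.trace A _ γ = aN (matOf b u) n := by
  rw [← LinearMap.trace_conj' γ (En b n),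
    LinearMap.trace_eq_matrix_trace A (Pi.basisFun A (Idx ι n))]
  unfold Matrix.trace
  simp only [Matrix.diag_apply, LinearMap.toMatrix_apply, Pi.basisFun_apply, Pi.basisFun_repr]
  -- each diagonal entry
  have hdiag : ∀ l : Idx ι n, ((En b n).conj γ) (Pi.single l 1) l =
      ∑ f : Fin n → ι, if lof n f = l then ∏ i, matOf b u (repI n l i) (f i) else 0 := by
    intro l
    rw [LinearEquiv.conj_apply]
    change (Bn b n).repr ((γ ((En b n).symm (Pi.single l 1)) : Gam A M n) :
      ⨂[A] _i : Fin n, M) (repI n l) = _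
    rw [hγ]
    change (Bn b n).repr (PiTensorProduct.map (fun _ : Fin n => u)
      (Sn b n (Pi.single l 1))) (repI n l) = _
    change (Bn b n).repr (PiTensorProduct.map (fun _ : Fin n => u)
      (∑ f : Fin n → ι, (Pi.single l (1 : A) : Idx ι n → A) (lof n f) • Bn b n f)) (repI n l) = _
    rw [map_sum, map_sum, Finsupp.finsetSum_apply]
    refine Finset.sum_congr rfl fun f _ => ?_
    rw [map_smul, map_smul, Finsupp.smul_apply, repr_map_basis, Pi.single_apply]
    split_ifs with h
    · rw [smul_eq_mul, one_mul]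
    · rw [zero_smul]
  simp only [hdiag]
  rw [Finset.sum_comm]
  unfold aN
  refine Finset.sum_congr rfl fun f _ => ?_
  rw [Finset.sum_ite_eq Finset.univ (lof n f)
    (fun l => ∏ i, matOf b u (repI n l i) (f i))]
  simp only [Finset.mem_univ, if_true]
  rfl

end Trace

end Groth.Agent.R2.H71.MM
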