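import Mathlib

/-!
# Triangularisation over an algebraically closed field (helper71)
-/

set_option autoImplicit false
universe u

namespace Groth.Agent.R2.H71.MM

open Module

/-- over an algebraically closed field every endomorphism of a finite dimensional space has an
upper triangular matrix in a suitable basis. -/
theorem exists_triangular_basis (K : Type u) [Field K] [IsAlgClosed K] :
    ∀ (n : ℕ) (V : Type u) [AddCommGroup V] [Module K V] [FiniteDimensional K V],
      finrank K V = n → ∀ u : V →ₗ[K] V,
      ∃ b : Basis (Fin n) K V, ∀ i j : Fin n, j < i → b.repr (u (b j)) i = 0 := by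
  intro n
  induction n with
  | zero =>
    intro V _ _ _ hV u
    exact ⟨Module.finBasisOfFinrankEq K V hV, fun i => i.elim0⟩
  | succ n ih =>
    intro V _ _ _ hV u
    have hpos : 0 < finrank K V := by rw [hV]; exact Nat.succ_pos n
    have : Nontrivial V := Module.nontrivial_of_finrank_pos hpos
    obtain ⟨μ, hμ⟩ := Module.End.exists_eigenvalue u
    obtain ⟨v, hv⟩ := hμ.exists_hasEigenvector
    have hv0 : v ≠ 0 := hv.2
    have huv : u v = μ • v := hv.apply_eq_smul
    set L : Submodule K V := Submodule.span K {v} with hL
    have hLu : L ≤ L.comap u := by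
      rw [hL, Submodule.span_le]
      intro x hx
      rw [Set.mem_singleton_iff.mp hx]
      change u v ∈ L
      rw [huv]
      exact Submodule.smul_mem _ _ (Submodule.mem_span_singleton_self v)
    let ubar : (V ⧸ L) →ₗ[K] (V ⧸ L) := L.mapQ L u hLu
    have hW : finrank K (V ⧸ L) = n := by
      have h1 := Submodule.finrank_quotient_add_finrank L
      have h2 : finrank K L = 1 := by rw [hL]; exact finrank_span_singleton hv0
      rw [hV, h2] at h1
      omega
    obtain ⟨bbar, hbbar⟩ := ih (V ⧸ L) hW ubar
    -- lifts
    have hsurj : ∀ j : Fin n, ∃ w : V, L.mkQ w = bbar j := fun j => L.mkQ_surjective (bbar j)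
    choose w hw using hsurj
    let c : Fin (n + 1) → V := Fin.cons v w
    have hwli : LinearIndependent K w := by
      apply LinearIndependent.of_comp L.mkQ
      have : (L.mkQ ∘ w) = bbar := funext hw
      rw [this]
      exact bbar.linearIndependent
    have hcli : LinearIndependent K c := by
      rw [linearIndependent_finCons]
      refine ⟨hwli, ?_⟩
      intro hmem
      obtain ⟨a, ha⟩ := (Submodule.mem_span_range_iff_exists_fun K).mp hmem
      have h0 : L.mkQ v = 0 := by
        rw [Submodule.mkQ_apply, Submodule.Quotient.mk_eq_zero]
        exact Submodule.mem_span_singleton_self v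
      have h1 : ∑ j, a j • bbar j = 0 := by
        rw [← h0, ← ha, map_sum]
        refine Finset.sum_congr rfl fun j _ => ?_
        rw [map_smul, hw]
      have h2 : ∀ j, a j = 0 := by
        have := Fintype.linearIndependent_iff.mp bbar.linearIndependent a h1
        exact this
      apply hv0
      rw [← ha]
      exact Finset.sum_eq_zero fun j _ => by rw [h2 j, zero_smul]
    let b : Basis (Fin (n + 1)) K V :=
      basisOfLinearIndependentOfCardEqFinrank hcli (by rw [Fintype.card_fin, hV])
    have hb : ∀ k, b k = c k := fun k => by
      simp [b]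
    have hb0 : b 0 = v := by rw [hb]; rfl
    have hbs : ∀ j : Fin n, b j.succ = w j := fun j => by rw [hb]; rfl
    -- coordinates via the quotient
    have hcoord : ∀ (x : V) (i : Fin n), b.repr x i.succ = bbar.repr (L.mkQ x) i := by
      intro x i
      have key : (Finsupp.lapply i.succ).comp (b.repr : V →ₗ[K] (Fin (n + 1) →₀ K)) =
          ((Finsupp.lapply i).comp (bbar.repr : (V ⧸ L) →ₗ[K] (Fin n →₀ K))).comp L.mkQ := by
        apply b.ext
        intro k
        simp only [LinearMap.comp_apply, LinearEquiv.coe_coe, Finsupp.lapply_apply,
          Basis.repr_self]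
        refine Fin.cases ?_ (fun k' => ?_) k
        · rw [hb0]
          have h0 : L.mkQ v = 0 := by
            rw [Submodule.mkQ_apply, Submodule.Quotient.mk_eq_zero]
            exact Submodule.mem_span_singleton_self v
          rw [h0, map_zero, Finsupp.zero_apply, Finsupp.single_apply, if_neg (Fin.succ_ne_zero i).symm]
        · rw [hbs, hw, Basis.repr_self, Finsupp.single_apply, Finsupp.single_apply]
          by_cases hki : k' = i
          · rw [if_pos hki, if_pos (by rw [hki])]
          · rw [if_neg hki, if_neg (fun h => hki (Fin.succ_injective _ h))]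
      exact congrArg (fun φ : V →ₗ[K] K => φ x) key
    refine ⟨b, fun i j hji => ?_⟩
    -- `i` is a successor
    have hi0 : i ≠ 0 := by
      intro h0
      rw [h0] at hji
      exact absurd hji (Fin.not_lt_zero _)
    obtain ⟨i', rfl⟩ := Fin.exists_succ_eq.mpr hi0
    rw [hcoord]
    have hmk : L.mkQ (u (b j)) = ubar (L.mkQ (b j)) := by
      simp [ubar, Submodule.mapQ_apply]
    rw [hmk]
    rcases Fin.eq_zero_or_eq_succ j with rfl | ⟨j', rfl⟩
    · rw [hb0]
      have h0 : L.mkQ v = 0 := by
        rw [Submodule.mkQ_apply, Submodule.Quotient.mk_eq_zero]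
        exact Submodule.mem_span_singleton_self v
      rw [h0, map_zero, map_zero, Finsupp.zero_apply]
    · rw [hbs, hw]
      exact hbbar i' j' (Fin.succ_lt_succ_iff.mp hji)
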