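import Mathlib
import Groth.Prelude.Def_SGA4hB
import Groth.Agent.R2.H71MMCount
import Groth.Agent.R2.H71MMTrace
import Groth.Agent.R2.H71MMTri

/-!
# MacMahon master theorem, part D: assembly (helper71)

`det(1 - tU) * ∑ₙ aN U n tⁿ = 1`, by reduction to the universal matrix, embedding into an
algebraically closed field and triangularisation.
-/

set_option autoImplicit false
set_option linter.unusedSectionVars false
universe u v

namespace Groth.Agent.R2.H71.MM

open Finset Module Polynomial

section Det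

variable {A : Type u} [CommRing A] {ι : Type v} [Fintype ι] [DecidableEq ι]

/-- `det(1 - tU)`. -/
noncomputable def DU (U : ι → ι → A) : A[X] :=
  Matrix.det (1 - (X : A[X]) • (Matrix.of U).map Polynomial.C)

lemma detOneSub_eq {M : Type u} [AddCommGroup M] [Module A M] (b : Basis ι A M) (u : M →ₗ[A] M) :
    SGA4h.detOneSub (ModuleCat.of A M) (ModuleCat.ofHom u) = DU (matOf b u) := by
  unfold SGA4h.detOneSub DU
  rw [← LinearMap.det_toMatrix (Algebra.TensorProduct.basis A[X] b)]
  congr 1
  rw [ModuleCat.hom_ofHom]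
  have e1 : LinearMap.toMatrix (Algebra.TensorProduct.basis A[X] b)
      (Algebra.TensorProduct.basis A[X] b) LinearMap.id = 1 :=
    LinearMap.toMatrix_id _
  have e2 : LinearMap.toMatrix (Algebra.TensorProduct.basis A[X] b)
      (Algebra.TensorProduct.basis A[X] b)
      ((X : A[X]) • LinearMap.baseChange A[X] u) = (X : A[X]) • (Matrix.of (matOf b u)).map ⇑C := by
    refine ((LinearMap.toMatrix (Algebra.TensorProduct.basis A[X] b)
      (Algebra.TensorProduct.basis A[X] b)).map_smul (X : A[X])
      (LinearMap.baseChange A[X] u)).trans ?_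
    rw [LinearMap.toMatrix_baseChange]
    congr 1
    ext i j
    simp [matOf, LinearMap.toMatrix_apply, Polynomial.algebraMap_eq]
  refine ((LinearMap.toMatrix (Algebra.TensorProduct.basis A[X] b)
    (Algebra.TensorProduct.basis A[X] b)).map_sub LinearMap.id
    ((X : A[X]) • LinearMap.baseChange A[X] u)).trans ?_
  exact congrArg₂ (· - ·) e1 e2

/-- MacMahon's identity for `U`. -/
def MMT (U : ι → ι → A) : Prop :=
  ((DU U : A[X]) : PowerSeries A) * PowerSeries.mk (aN U) = 1

variable {A' : Type*} [CommRing A']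

lemma DU_map (φ : A →+* A') (U : ι → ι → A) :
    DU (fun k j => φ (U k j)) = (DU U).map φ := by
  unfold DU
  have h := RingHom.map_det (Polynomial.mapRingHom φ)
    (1 - (X : A[X]) • (Matrix.of U).map Polynomial.C)
  rw [Polynomial.coe_mapRingHom] at h
  rw [h]
  congr 1
  ext i j : 1
  simp [Matrix.one_apply, apply_ite]

lemma aN_map (φ : A →+* A') (U : ι → ι → A) (n : ℕ) :
    aN (fun k j => φ (U k j)) n = φ (aN U n) := by
  unfold aN
  rw [map_sum]
  refine Finset.sum_congr rfl fun f _ => ?_
  rw [map_prod]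

lemma map_lhs (φ : A →+* A') (U : ι → ι → A) :
    PowerSeries.map φ (((DU U : A[X]) : PowerSeries A) * PowerSeries.mk (aN U)) =
      ((DU (fun k j => φ (U k j)) : A'[X]) : PowerSeries A') *
        PowerSeries.mk (aN (fun k j => φ (U k j))) := by
  rw [map_mul, DU_map, Polynomial.polynomial_map_coe]
  congr 1
  ext n
  rw [PowerSeries.coeff_map, PowerSeries.coeff_mk, PowerSeries.coeff_mk, aN_map]

lemma MMT_map (φ : A →+* A') {U : ι → ι → A} (h : MMT U) : MMT (fun k j => φ (U k j)) := by
  unfold MMT at h ⊢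
  rw [← map_lhs, h, map_one]

lemma MMT_of_map_injective (φ : A →+* A') (hφ : Function.Injective φ) {U : ι → ι → A}
    (h : MMT (fun k j => φ (U k j))) : MMT U := by
  unfold MMT at h ⊢
  rw [← map_lhs] at h
  have hinj : Function.Injective (PowerSeries.map φ) := by
    intro x y hxy
    ext n
    apply hφ
    rw [← PowerSeries.coeff_map, ← PowerSeries.coeff_map, hxy]
  apply hinj
  rw [h, map_one]

end Det

section Tri

variable {A : Type u} [CommRing A] {r : ℕ}

lemma rep_congr {ι : Type v} [Fintype ι] [DecidableEq ι] {n : ℕ} {l l' : ι → ℕ} (h : l = l')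
    (hl : ∑ k, l k = n) (hl' : ∑ k, l' k = n) : rep l hl = rep l' hl' := by
  subst h
  rfl

lemma crep_rep {ι : Type v} [Fintype ι] [DecidableEq ι] {n : ℕ} (l : ι → ℕ)
    (hl : ∑ k, l k = n) : crep (rep l hl) = rep l hl :=
  rep_congr (cnt_rep l hl) _ _

lemma prod_eq_zero_of_crep_ne (T : Fin r → Fin r → A) (hT : ∀ i j : Fin r, j < i → T i j = 0)
    {n : ℕ} (f : Fin n → Fin r) (hf : crep f ≠ f) : ∏ i, T (crep f i) (f i) = 0 := by
  by_cases hex : ∃ i, f i < crep f i
  · obtain ⟨i, hi⟩ := hex
    exact Finset.prod_eq_zero (Finset.mem_univ i) (hT _ _ hi)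
  · exfalso
    apply hf
    simp only [not_exists, not_lt] at hex
    obtain ⟨σ, hσ⟩ := exists_perm_of_cnt_eq (crep f) f (cnt_crep f)
    have hsum : ∑ i, ((crep f i : Fin r) : ℕ) = ∑ i, ((f i : Fin r) : ℕ) := by
      rw [← hσ]
      exact Equiv.sum_comp σ (fun i => ((f i : Fin r) : ℕ))
    have hall := (Finset.sum_eq_sum_iff_of_le (s := Finset.univ)
      (f := fun i => ((crep f i : Fin r) : ℕ)) (g := fun i => ((f i : Fin r) : ℕ))
      (fun i _ => hex i)).mp hsum
    funext i
    exact Fin.ext (hall i (Finset.mem_univ i))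

lemma aN_triangular (T : Fin r → Fin r → A) (hT : ∀ i j : Fin r, j < i → T i j = 0) (n : ℕ) :
    aN T n = hN (fun k => T k k) n := by
  classical
  unfold aN hN
  rw [← Finset.sum_filter_of_ne (p := fun f : Fin n → Fin r => crep f = f)
    (fun f _ hne => by
      by_contra hcf
      exact hne (prod_eq_zero_of_crep_ne T hT f hcf))]
  refine Finset.sum_bij (fun f _ => cnt f) ?_ ?_ ?_ ?_
  · intro f _
    exact Finset.mem_piAntidiag.mpr ⟨sum_cnt f, fun _ _ => Finset.mem_univ _⟩
  · intro f hf g hg hfg
    rw [Finset.mem_filter] at hf hg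
    rw [← hf.2, ← hg.2]
    exact crep_congr hfg
  · intro l hl
    have hl' := (Finset.mem_piAntidiag.mp hl).1
    refine ⟨rep l hl', ?_, cnt_rep l hl'⟩
    rw [Finset.mem_filter]
    exact ⟨Finset.mem_univ _, crep_rep l hl'⟩
  · intro f hf
    rw [Finset.mem_filter] at hf
    rw [hf.2]
    exact prod_comp_eq_prod_pow f (fun k => T k k)

lemma DU_triangular (T : Fin r → Fin r → A) (hT : ∀ i j : Fin r, j < i → T i j = 0) :
    DU T = ∏ k, (1 - Polynomial.C (T k k) * X) := by
  unfold DU
  rw [Matrix.det_of_isUpperTriangular]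
  · refine Finset.prod_congr rfl fun k _ => ?_
    rw [Matrix.sub_apply, Matrix.one_apply_eq, Matrix.smul_apply, Matrix.map_apply,
      Matrix.of_apply, smul_eq_mul, mul_comm]
  · intro i j hij
    have hij' : j < i := hij
    rw [Matrix.sub_apply, Matrix.one_apply_ne (ne_of_lt hij').symm, Matrix.smul_apply,
      Matrix.map_apply, Matrix.of_apply, hT i j hij', map_zero, smul_zero, sub_zero]

lemma MMT_triangular (T : Fin r → Fin r → A) (hT : ∀ i j : Fin r, j < i → T i j = 0) :
    MMT T := by
  unfold MMT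
  rw [DU_triangular T hT]
  have h1 : (PowerSeries.mk (aN T) : PowerSeries A) = PowerSeries.mk (hN (fun k => T k k)) := by
    congr 1
    funext n
    exact aN_triangular T hT n
  rw [h1, ← prod_one_sub_mul_hN (fun k => T k k)]
  congr 1
  rw [← Polynomial.coeToPowerSeries.ringHom_apply, map_prod]
  refine Finset.prod_congr rfl fun k _ => ?_
  simp

end Tri

section Field

variable {A : Type u} [CommRing A] {M : Type u} [AddCommGroup M] [Module A M]

/-- the endomorphism of the symmetric tensors induced by `u`. -/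
noncomputable def gamOf (u : M →ₗ[A] M) (n : ℕ) : Gam A M n →ₗ[A] Gam A M n :=
  (PiTensorProduct.map (fun _ : Fin n => u)).restrict (p := Gam A M n) (q := Gam A M n)
    (fun x hx => by
      rw [mem_Gam_iff] at hx ⊢
      intro σ
      have h := PiTensorProduct.map_reindex (fun _ : Fin n => u) σ x
      rw [← h, hx σ])

lemma gamOf_coe (u : M →ₗ[A] M) (n : ℕ) (x : Gam A M n) :
    ((gamOf u n x : Gam A M n) : PiTensorProduct A (fun _ : Fin n => M)) =
      PiTensorProduct.map (fun _ : Fin n => u) (x : PiTensorProduct A (fun _ : Fin n => M)) := rfl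

/-- the identity is independent of the basis. -/
lemma MMT_iff_of_bases {ι ι' : Type v} [Fintype ι] [DecidableEq ι] [Fintype ι'] [DecidableEq ι']
    (b : Basis ι A M) (b' : Basis ι' A M) (u : M →ₗ[A] M) :
    MMT (matOf b u) ↔ MMT (matOf b' u) := by
  unfold MMT
  rw [← detOneSub_eq b u, ← detOneSub_eq b' u]
  have h : (aN (matOf b u) : ℕ → A) = aN (matOf b' u) := by
    funext n
    rw [← trace_eq b n u (gamOf u n) (gamOf_coe u n), ← trace_eq b' n u (gamOf u n) (gamOf_coe u n)]
  rw [h]

theorem MMT_field (K : Type u) [Field K] [IsAlgClosed K] (r : ℕ) (U : Fin r → Fin r → K) :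
    MMT U := by
  let u : (Fin r → K) →ₗ[K] (Fin r → K) := Matrix.toLin' (Matrix.of U)
  have hU : matOf (Pi.basisFun K (Fin r)) u = U := by
    funext k j
    simp [matOf, u, Matrix.toLin'_apply]
  obtain ⟨b₁, hb₁⟩ := exists_triangular_basis K r (Fin r → K) (Module.finrank_fin_fun K) u
  rw [← hU, MMT_iff_of_bases (Pi.basisFun K (Fin r)) b₁ u]
  exact MMT_triangular _ (fun i j hji => hb₁ i j hji)

end Field

/-- **MacMahon's master theorem** for matrices over any commutative ring. -/
theorem MMT_all (A : Type u) [CommRing A] (r : ℕ) (U : Fin r → Fin r → A) : MMT U := by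
  let A₀ := MvPolynomial (Fin r × Fin r) ℤ
  let U₀ : Fin r → Fin r → A₀ := fun k j => MvPolynomial.X (k, j)
  let K := AlgebraicClosure (FractionRing A₀)
  let ψ : A₀ →+* K := (algebraMap (FractionRing A₀) K).comp (algebraMap A₀ (FractionRing A₀))
  have hψ : Function.Injective ψ :=
    (algebraMap (FractionRing A₀) K).injective.comp (IsFractionRing.injective A₀ (FractionRing A₀))
  have h₀ : MMT U₀ := MMT_of_map_injective ψ hψ (MMT_field K r _)
  let φ : A₀ →+* A := MvPolynomial.eval₂Hom (Int.castRingHom A) (fun p => U p.1 p.2)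
  have h₁ := MMT_map φ h₀
  have hφ : (fun k j => φ (U₀ k j)) = U := by
    funext k j
    change MvPolynomial.eval₂ (Int.castRingHom A) (fun p : Fin r × Fin r => U p.1 p.2)
      (MvPolynomial.X (k, j)) = U k j
    rw [MvPolynomial.eval₂_X]
  rwa [hφ] at h₁

end Groth.Agent.R2.H71.MM
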