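import Mathlib
import Groth.Prelude.Def_W4c2arithlefschetzNode

/-!
# Structure of the formal double point `B[[x,y]]/(xy - π)`: axis maps
-/

set_option autoImplicit false
set_option linter.unusedSectionVars false
universe u

open MvPowerSeries

namespace Groth.Agent.R2.H71.NodeAlg

theorem exists_ne (i : Fin 2) : ∃ j : Fin 2, i ≠ j := by
  revert i; rw [Fin.forall_fin_two]; exact ⟨⟨1, by decide⟩, ⟨0, by decide⟩⟩

section Axis

variable {k : Type u} [CommRing k]

/-- Restriction of a two-variable power series to the `j`-axis (the other variable is set to `0`). -/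
noncomputable def axis (j : Fin 2) : MvPowerSeries (Fin 2) k →+* PowerSeries k where
  toFun f := PowerSeries.mk fun n => coeff (Finsupp.single j n) f
  map_one' := by
    ext n
    rw [PowerSeries.coeff_mk, PowerSeries.coeff_one, MvPowerSeries.coeff_one]
    by_cases h : n = 0
    · simp [h]
    · rw [if_neg h, if_neg]
      intro h'
      exact h (by simpa using DFunLike.congr_fun h' j)
  map_mul' f g := by
    classical
    ext n
    rw [PowerSeries.coeff_mk, PowerSeries.coeff_mul, MvPowerSeries.coeff_mul,
      Finsupp.antidiagonal_single, Finset.sum_map]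
    refine Finset.sum_congr rfl fun p _ => ?_
    simp [PowerSeries.coeff_mk]
  map_zero' := by
    ext n
    simp
  map_add' f g := by
    ext n
    simp

@[simp] theorem coeff_axis (j : Fin 2) (f : MvPowerSeries (Fin 2) k) (n : ℕ) :
    PowerSeries.coeff n (axis j f) = coeff (Finsupp.single j n) f := by
  simp [axis]

theorem axis_X_same (j : Fin 2) : axis j (X j : MvPowerSeries (Fin 2) k) = PowerSeries.X := by
  classical
  ext n
  rw [coeff_axis, PowerSeries.coeff_X, MvPowerSeries.coeff_X]
  by_cases h : n = 1
  · simp [h]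
  · rw [if_neg h, if_neg]
    intro h'
    exact h (by simpa using DFunLike.congr_fun h' j)

theorem axis_X_ne {i j : Fin 2} (h : i ≠ j) : axis j (X i : MvPowerSeries (Fin 2) k) = 0 := by
  classical
  ext n
  rw [coeff_axis, MvPowerSeries.coeff_X, if_neg, map_zero]
  intro h'
  have := DFunLike.congr_fun h' i
  simp [Finsupp.single_eq_of_ne h] at this

theorem axis_C (j : Fin 2) (a : k) : axis j (C a : MvPowerSeries (Fin 2) k) = PowerSeries.C a := by
  classical
  ext n
  rw [coeff_axis, PowerSeries.coeff_C, MvPowerSeries.coeff_C]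
  by_cases h : n = 0
  · simp [h]
  · rw [if_neg h, if_neg]
    intro h'
    exact h (by simpa using DFunLike.congr_fun h' j)

/-- The kernel of the `j`-axis map consists of the multiples of the other variable. -/
theorem axis_eq_zero_iff {i j : Fin 2} (h : i ≠ j) (f : MvPowerSeries (Fin 2) k) :
    axis j f = 0 ↔ (X i : MvPowerSeries (Fin 2) k) ∣ f := by
  rw [X_dvd_iff]
  constructor
  · intro hf m hm
    have hm' : m = Finsupp.single j (m j) := by
      ext l
      fin_cases i <;> fin_cases j <;> fin_cases l <;> simp_all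
    rw [hm']
    have := congrArg (PowerSeries.coeff (m j)) hf
    simpa using this
  · intro hf
    ext n
    rw [coeff_axis, map_zero]
    exact hf _ (by simp [Finsupp.single_eq_of_ne h])

theorem axis_X0_mul_X1 (j : Fin 2) :
    axis j (X 0 : MvPowerSeries (Fin 2) k) * axis j (X 1 : MvPowerSeries (Fin 2) k) = 0 := by
  revert j
  rw [Fin.forall_fin_two]
  exact ⟨by rw [axis_X_ne (i := 1) (j := 0) (by decide), mul_zero],
    by rw [axis_X_ne (i := 0) (j := 1) (by decide), zero_mul]⟩

end Axis


section Node

open ArLef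

variable {B : Type u} [CommRing B] [IsLocalRing B] (π : B)

/-- The class in the node algebra of a power series. -/
noncomputable abbrev mk : MvPowerSeries (Fin 2) B →+* NodeAlg B π :=
  Ideal.Quotient.mk _

theorem mk_surjective : Function.Surjective (mk π) := Ideal.Quotient.mk_surjective

theorem mk_X0 : mk π (X 0) = NodeAlg.t π := rfl
theorem mk_X1 : mk π (X 1) = NodeAlg.e π := rfl
theorem mk_C (b : B) : mk π (C b) = algebraMap B (NodeAlg B π) b := rfl

theorem t_mul_e : NodeAlg.t π * NodeAlg.e π = algebraMap B (NodeAlg B π) π := by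
  rw [← mk_X0, ← mk_X1, ← mk_C, ← map_mul, ← sub_eq_zero, ← map_sub,
    Ideal.Quotient.eq_zero_iff_mem]
  exact Ideal.mem_span_singleton_self _

/-- The variable of index `i`, in the node algebra. -/
noncomputable def var (i : Fin 2) : NodeAlg B π := mk π (X i)

theorem var_zero : var π 0 = NodeAlg.t π := rfl
theorem var_one : var π 1 = NodeAlg.e π := rfl

variable {π}

/-- The map to the `j`-branch of the closed fibre: `B[[x,y]]/(xy-π) → κ[[X]]`, killing the other
variable and reducing coefficients modulo the maximal ideal. -/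
noncomputable def branch (hπ : π ∈ IsLocalRing.maximalIdeal B) (j : Fin 2) :
    NodeAlg B π →+* PowerSeries (IsLocalRing.ResidueField B) :=
  Ideal.Quotient.lift _ ((axis j).comp (MvPowerSeries.map (IsLocalRing.residue B))) (by
    intro a ha
    rw [Ideal.mem_span_singleton'] at ha
    obtain ⟨c, rfl⟩ := ha
    have h1 : (IsLocalRing.residue B) π = 0 := (IsLocalRing.residue_eq_zero_iff π).mpr hπ
    have h2 : (axis j) ((MvPowerSeries.map (IsLocalRing.residue B))
        (X 0 * X 1 - C π : MvPowerSeries (Fin 2) B)) = 0 := by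
      rw [map_sub, map_mul, MvPowerSeries.map_X, MvPowerSeries.map_X, MvPowerSeries.map_C, h1,
        map_zero, sub_zero, map_mul, axis_X0_mul_X1]
    rw [RingHom.comp_apply, map_mul, map_mul, h2, mul_zero])

theorem branch_mk (hπ : π ∈ IsLocalRing.maximalIdeal B) (j : Fin 2) (f : MvPowerSeries (Fin 2) B) :
    branch hπ j (mk π f) = axis j (MvPowerSeries.map (IsLocalRing.residue B) f) := rfl

theorem branch_var_same (hπ : π ∈ IsLocalRing.maximalIdeal B) (j : Fin 2) :
    branch hπ j (var π j) = PowerSeries.X := by
  rw [var, branch_mk, MvPowerSeries.map_X, axis_X_same]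

theorem branch_var_ne (hπ : π ∈ IsLocalRing.maximalIdeal B) {i j : Fin 2} (h : i ≠ j) :
    branch hπ j (var π i) = 0 := by
  rw [var, branch_mk, MvPowerSeries.map_X, axis_X_ne h]

theorem branch_algebraMap (hπ : π ∈ IsLocalRing.maximalIdeal B) (j : Fin 2) (b : B) :
    branch hπ j (algebraMap B (NodeAlg B π) b) = PowerSeries.C (IsLocalRing.residue B b) := by
  rw [← mk_C, branch_mk, MvPowerSeries.map_C, axis_C]

theorem var_mul_var {i j : Fin 2} (h : i ≠ j) :
    var π i * var π j = algebraMap B (NodeAlg B π) π := by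
  revert i j
  rw [Fin.forall_fin_two]
  constructor
  · rw [Fin.forall_fin_two]
    exact ⟨fun h => absurd rfl h, fun _ => t_mul_e π⟩
  · rw [Fin.forall_fin_two]
    exact ⟨fun _ => (mul_comm _ _).trans (t_mul_e π), fun h => absurd rfl h⟩

theorem mem_maximalIdeal_of_eq (hmax : IsLocalRing.maximalIdeal B = Ideal.span {π}) :
    π ∈ IsLocalRing.maximalIdeal B := hmax ▸ Ideal.mem_span_singleton_self π

/-- When `π` generates the maximal ideal of `B`, the kernel of the `j`-branch map is generated by
the other variable. -/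
theorem branch_eq_zero_iff (hmax : IsLocalRing.maximalIdeal B = Ideal.span {π}) {i j : Fin 2}
    (h : i ≠ j) (a : NodeAlg B π) :
    branch (mem_maximalIdeal_of_eq hmax) j a = 0 ↔ var π i ∣ a := by
  classical
  constructor
  · intro ha
    obtain ⟨f, rfl⟩ := mk_surjective π a
    rw [branch_mk, axis_eq_zero_iff h, X_dvd_iff] at ha
    have hc : ∀ m : Fin 2 →₀ ℕ, m i = 0 → ∃ c : B, coeff m f = π * c := by
      intro m hm
      have h1 := ha m hm
      rw [MvPowerSeries.coeff_map, IsLocalRing.residue_eq_zero_iff, hmax,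
        Ideal.mem_span_singleton] at h1
      exact h1
    let g : MvPowerSeries (Fin 2) B := fun m =>
      if hm : m i = 0 then Classical.choose (hc m hm) else 0
    have hg : ∀ m, m i = 0 → coeff m f = π * coeff m g := by
      intro m hm
      have : coeff m g = Classical.choose (hc m hm) := by
        change g m = _
        simp only [g, dif_pos hm]
      rw [this]
      exact Classical.choose_spec (hc m hm)
    have hdvd : (X i : MvPowerSeries (Fin 2) B) ∣ f - C π * g := by
      rw [X_dvd_iff]
      intro m hm
      rw [map_sub, MvPowerSeries.coeff_C_mul, hg m hm, sub_self]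
    obtain ⟨q, hq⟩ := hdvd
    have hf : f = X i * q + C π * g := by rw [← hq]; ring
    rw [hf, map_add, map_mul, map_mul, mk_C, ← var_mul_var (π := π) h]
    exact ⟨mk π q + var π j * mk π g, by rw [var]; ring⟩
  · rintro ⟨c, rfl⟩
    rw [map_mul, branch_var_ne _ h, zero_mul]

end Node

section DVR

open ArLef

variable {B : Type u} [CommRing B] [IsDomain B] [IsDiscreteValuationRing B] {π : B}

theorem maximalIdeal_eq (hπ : Irreducible π) : IsLocalRing.maximalIdeal B = Ideal.span {π} :=
  hπ.maximalIdeal_eq

/-- `π` is a non-zero-divisor of the node algebra. -/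
theorem pi_regular (hπ : Irreducible π) (a : NodeAlg B π)
    (ha : algebraMap B (NodeAlg B π) π * a = 0) : a = 0 := by
  classical
  obtain ⟨f, rfl⟩ := mk_surjective π a
  rw [← mk_C, ← map_mul, Ideal.Quotient.eq_zero_iff_mem, Ideal.mem_span_singleton'] at ha
  obtain ⟨g, hg⟩ := ha
  -- `C π * f = g * (xy - C π)`
  set s : Fin 2 →₀ ℕ := Finsupp.single 0 1 + Finsupp.single 1 1 with hs
  have hX : (X 0 * X 1 : MvPowerSeries (Fin 2) B) = monomial s 1 := by
    rw [X_def, X_def, monomial_mul_monomial, one_mul]
  have h1 : monomial s (1 : B) * g = C π * (f + g) := by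
    rw [← hX]; linear_combination hg
  have hg' : ∀ n, coeff n g = π * coeff (s + n) (f + g) := by
    intro n
    rw [← coeff_C_mul, ← h1, coeff_add_monomial_mul, one_mul]
  let g' : MvPowerSeries (Fin 2) B := fun n => coeff (s + n) (f + g)
  have hgg : g = C π * g' := by
    ext n
    rw [hg' n, coeff_C_mul]
    rfl
  have h2 : C π * f = C π * ((X 0 * X 1 - C π) * g') := by
    rw [← hg]
    conv_lhs => rw [hgg]
    ring
  have h3 : f = (X 0 * X 1 - C π) * g' := by
    ext n
    have := congrArg (coeff n) h2
    rw [coeff_C_mul, coeff_C_mul] at this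
    exact mul_left_cancel₀ hπ.ne_zero this
  rw [Ideal.Quotient.eq_zero_iff_mem, Ideal.mem_span_singleton']
  exact ⟨g', by rw [h3]; ring⟩

/-- The variables are non-zero-divisors. -/
theorem var_regular (hπ : Irreducible π) (i : Fin 2) (a : NodeAlg B π) (ha : var π i * a = 0) :
    a = 0 := by
  obtain ⟨j, hij⟩ := exists_ne i
  apply pi_regular hπ
  rw [← var_mul_var hij, mul_comm (var π i), mul_assoc, ha, mul_zero]

/-- The variables are prime elements. -/
theorem var_dvd_mul (hπ : Irreducible π) (i : Fin 2) {a b : NodeAlg B π} (h : var π i ∣ a * b) :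
    var π i ∣ a ∨ var π i ∣ b := by
  obtain ⟨j, hij⟩ := exists_ne i
  rw [← branch_eq_zero_iff (maximalIdeal_eq hπ) hij] at h ⊢
  rw [← branch_eq_zero_iff (maximalIdeal_eq hπ) hij]
  rw [map_mul] at h
  exact mul_eq_zero.mp h

theorem not_var_dvd_var (hπ : Irreducible π) {i j : Fin 2} (hij : i ≠ j) :
    ¬ var π i ∣ var π j := by
  rw [← branch_eq_zero_iff (maximalIdeal_eq hπ) hij, branch_var_same]
  exact PowerSeries.X_ne_zero

theorem not_var_dvd_unit (hπ : Irreducible π) (i : Fin 2) {u : NodeAlg B π} (hu : IsUnit u) :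
    ¬ var π i ∣ u := by
  obtain ⟨j, hij⟩ := exists_ne i
  rw [← branch_eq_zero_iff (maximalIdeal_eq hπ) hij]
  exact (hu.map _).ne_zero

theorem var_dvd_mul_unit (hπ : Irreducible π) (i : Fin 2) {a u : NodeAlg B π} (hu : IsUnit u)
    (h : var π i ∣ a * u) : var π i ∣ a := by
  rcases var_dvd_mul hπ i h with h | h
  · exact h
  · exact absurd h (not_var_dvd_unit hπ i hu)

end DVR

end Groth.Agent.R2.H71.NodeAlg
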