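import Mathlib
import Groth.Agent.R2.H71NodeAxis

/-!
# Fixed-point ideals of endomorphisms of the node algebra (helper71)

* `exists_decomp`: every element of `N = B[[x,y]]/(xy - π)` is `b + t r₁ + e r₂`.
* `span_te_le_jacobson`: `(t, e)` is contained in the Jacobson radical of `N`.
* `fixIdeal_le`: the fixed-point ideal of a ring endomorphism `σ` of `N` (with `B` noetherian) is contained in
  any ideal containing `σ t - t`, `σ e - e` and all `σ b - b`, `b ∈ B` (Nakayama).
-/

set_option autoImplicit false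
universe u

open MvPowerSeries

namespace Groth.Agent.R2.H71.NodeAlg

section Decomp

variable {k : Type u} [CommRing k]

/-- A power series in two variables is `c + x g₀ + y g₁`. -/
theorem mv_decomp (f : MvPowerSeries (Fin 2) k) :
    ∃ g0 g1 : MvPowerSeries (Fin 2) k, f = C (constantCoeff f) + X 0 * g0 + X 1 * g1 := by
  classical
  let f0 : MvPowerSeries (Fin 2) k := fun m => if m 0 = 0 then coeff m f else 0
  have h0 : (X 0 : MvPowerSeries (Fin 2) k) ∣ f - f0 := by
    rw [X_dvd_iff]
    intro m hm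
    rw [map_sub]
    show coeff m f - (if m 0 = 0 then coeff m f else 0) = 0
    rw [if_pos hm, sub_self]
  have h1 : (X 1 : MvPowerSeries (Fin 2) k) ∣ f0 - C (constantCoeff f) := by
    rw [X_dvd_iff]
    intro m hm
    rw [map_sub, coeff_C]
    show (if m 0 = 0 then coeff m f else 0) - _ = 0
    by_cases h : m 0 = 0
    · have hm0 : m = 0 := by
        ext i
        fin_cases i
        · exact h
        · exact hm
      subst hm0
      rw [if_pos h, if_pos rfl, coeff_zero_eq_constantCoeff_apply, sub_self]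
    · rw [if_neg h, if_neg, sub_self]
      rintro rfl
      exact h rfl
  obtain ⟨g0, hg0⟩ := h0
  obtain ⟨g1, hg1⟩ := h1
  refine ⟨g0, g1, ?_⟩
  rw [← hg0, ← hg1]
  ring

end Decomp

section Node

open ArLef

variable {B : Type u} [CommRing B] [IsLocalRing B] (π : B)

theorem exists_decomp (r : NodeAlg B π) :
    ∃ (b : B) (r1 r2 : NodeAlg B π),
      r = algebraMap B (NodeAlg B π) b + NodeAlg.t π * r1 + NodeAlg.e π * r2 := by
  obtain ⟨f, rfl⟩ := mk_surjective π r
  obtain ⟨g0, g1, hf⟩ := mv_decomp f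
  refine ⟨constantCoeff f, mk π g0, mk π g1, ?_⟩
  conv_lhs => rw [hf]
  rw [map_add, map_add, map_mul, map_mul]
  rfl

omit [IsLocalRing B] in
theorem isUnit_mk_of_isUnit_constantCoeff {f : MvPowerSeries (Fin 2) B}
    (h : IsUnit (constantCoeff f)) : IsUnit (mk π f) :=
  ((MvPowerSeries.isUnit_iff_constantCoeff).mpr h).map (mk π)

theorem span_te_le_jacobson :
    Ideal.span ({NodeAlg.t π, NodeAlg.e π} : Set (NodeAlg B π)) ≤ Ideal.jacobson ⊥ := by
  intro x hx
  rw [Ideal.mem_span_pair] at hx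
  obtain ⟨a, b, rfl⟩ := hx
  rw [Ideal.mem_jacobson_bot]
  intro y
  obtain ⟨fa, rfl⟩ := mk_surjective π a
  obtain ⟨fb, rfl⟩ := mk_surjective π b
  obtain ⟨fy, rfl⟩ := mk_surjective π y
  rw [← mk_X0, ← mk_X1]
  have : (mk π fa * mk π (X 0) + mk π fb * mk π (X 1)) * mk π fy + 1 =
      mk π ((fa * X 0 + fb * X 1) * fy + 1) := by
    simp only [map_add, map_mul, map_one]
  rw [this]
  apply isUnit_mk_of_isUnit_constantCoeff
  simp

end Node

section Fix

open ArLef

variable {B : Type u} [CommRing B] [IsLocalRing B] [IsNoetherianRing B] (π : B)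

instance : IsNoetherianRing (NodeAlg B π) := by
  unfold NodeAlg
  infer_instance

/-- The fixed-point ideal of an endomorphism of the node algebra is generated by the images of the
differences on `B`, `t` and `e` (Nakayama). -/
theorem fixIdeal_le (σ : NodeAlg B π →+* NodeAlg B π) (J : Ideal (NodeAlg B π))
    (hB : ∀ b : B, σ (algebraMap B (NodeAlg B π) b) - algebraMap B (NodeAlg B π) b ∈ J)
    (ht : σ (NodeAlg.t π) - NodeAlg.t π ∈ J) (he : σ (NodeAlg.e π) - NodeAlg.e π ∈ J) :
    fixIdeal σ ≤ J := by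
  apply Submodule.le_of_le_smul_of_le_jacobson_bot
    (I := Ideal.span ({NodeAlg.t π, NodeAlg.e π} : Set (NodeAlg B π)))
  · exact IsNoetherian.noetherian _
  · exact span_te_le_jacobson π
  · rw [fixIdeal, Ideal.span_le]
    rintro _ ⟨r, rfl⟩
    obtain ⟨b, r1, r2, rfl⟩ := exists_decomp π r
    have hr1 : σ r1 - r1 ∈ fixIdeal σ := Ideal.subset_span ⟨r1, rfl⟩
    have hr2 : σ r2 - r2 ∈ fixIdeal σ := Ideal.subset_span ⟨r2, rfl⟩
    have htm : NodeAlg.t π ∈ Ideal.span ({NodeAlg.t π, NodeAlg.e π} : Set (NodeAlg B π)) :=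
      Ideal.subset_span (by simp)
    have hem : NodeAlg.e π ∈ Ideal.span ({NodeAlg.t π, NodeAlg.e π} : Set (NodeAlg B π)) :=
      Ideal.subset_span (by simp)
    have key : σ (algebraMap B (NodeAlg B π) b + NodeAlg.t π * r1 + NodeAlg.e π * r2) -
        (algebraMap B (NodeAlg B π) b + NodeAlg.t π * r1 + NodeAlg.e π * r2) =
        ((σ (algebraMap B (NodeAlg B π) b) - algebraMap B (NodeAlg B π) b) +
          (σ (NodeAlg.t π) - NodeAlg.t π) * σ r1 + (σ (NodeAlg.e π) - NodeAlg.e π) * σ r2) +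
        (NodeAlg.t π • (σ r1 - r1) + NodeAlg.e π • (σ r2 - r2)) := by
      simp only [map_add, map_mul, smul_eq_mul]
      ring
    show σ (algebraMap B (NodeAlg B π) b + NodeAlg.t π * r1 + NodeAlg.e π * r2) -
        (algebraMap B (NodeAlg B π) b + NodeAlg.t π * r1 + NodeAlg.e π * r2) ∈ J ⊔ _
    rw [key]
    apply Submodule.add_mem_sup
    · exact J.add_mem (J.add_mem (hB b) (J.mul_mem_right _ ht)) (J.mul_mem_right _ he)
    · exact Submodule.add_mem _ (Submodule.smul_mem_smul htm hr1) (Submodule.smul_mem_smul hem hr2)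

end Fix

end Groth.Agent.R2.H71.NodeAlg

namespace Groth.Agent.R2.H71.NodeAlg

section DVR2

open ArLef

variable {B : Type u} [CommRing B] [IsDomain B] [IsDiscreteValuationRing B] {π : B}

/-- `(t) ∩ (e) = (π)`. -/
theorem pi_dvd_of_var_dvd (hπ : Irreducible π) {i j : Fin 2} (hij : i ≠ j) {s : NodeAlg B π}
    (hi : var π i ∣ s) (hj : var π j ∣ s) : algebraMap B (NodeAlg B π) π ∣ s := by
  obtain ⟨a, rfl⟩ := hi
  rcases var_dvd_mul hπ j hj with h | h
  · exact absurd h (not_var_dvd_var hπ hij.symm)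
  · obtain ⟨a', rfl⟩ := h
    exact ⟨a', by rw [← var_mul_var hij, mul_assoc]⟩

/-- The branch maps send `(t, e)` into `(X)`. -/
theorem branch_mem_span_X (hπ : Irreducible π) (j : Fin 2) {x : NodeAlg B π}
    (hx : x ∈ Ideal.span ({NodeAlg.t π, NodeAlg.e π} : Set (NodeAlg B π))) :
    branch (mem_maximalIdeal_of_eq (maximalIdeal_eq hπ)) j x ∈
      Ideal.span ({PowerSeries.X} : Set (PowerSeries (IsLocalRing.ResidueField B))) := by
  rw [Ideal.mem_span_pair] at hx
  obtain ⟨a, b, rfl⟩ := hx
  rw [map_add, map_mul, map_mul, ← var_zero, ← var_one]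
  have h0 : branch (mem_maximalIdeal_of_eq (maximalIdeal_eq hπ)) j (var π 0) ∈
      Ideal.span ({PowerSeries.X} : Set (PowerSeries (IsLocalRing.ResidueField B))) := by
    by_cases h : (0 : Fin 2) = j
    · subst h
      rw [branch_var_same]
      exact Ideal.mem_span_singleton_self _
    · rw [branch_var_ne _ h]
      exact Ideal.zero_mem _
  have h1 : branch (mem_maximalIdeal_of_eq (maximalIdeal_eq hπ)) j (var π 1) ∈
      Ideal.span ({PowerSeries.X} : Set (PowerSeries (IsLocalRing.ResidueField B))) := by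
    by_cases h : (1 : Fin 2) = j
    · subst h
      rw [branch_var_same]
      exact Ideal.mem_span_singleton_self _
    · rw [branch_var_ne _ h]
      exact Ideal.zero_mem _
  exact Ideal.add_mem _ (Ideal.mul_mem_left _ _ h0) (Ideal.mul_mem_left _ _ h1)

/-- The branch maps send `(t, e)^n` into `(X^n)`. -/
theorem X_pow_dvd_branch (hπ : Irreducible π) (j : Fin 2) (n : ℕ) {x : NodeAlg B π}
    (hx : x ∈ Ideal.span ({NodeAlg.t π, NodeAlg.e π} : Set (NodeAlg B π)) ^ n) :
    (PowerSeries.X : PowerSeries (IsLocalRing.ResidueField B)) ^ n ∣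
      branch (mem_maximalIdeal_of_eq (maximalIdeal_eq hπ)) j x := by
  have h1 : Ideal.span ({NodeAlg.t π, NodeAlg.e π} : Set (NodeAlg B π)) ≤
      Ideal.comap (branch (mem_maximalIdeal_of_eq (maximalIdeal_eq hπ)) j)
        (Ideal.span ({PowerSeries.X} : Set (PowerSeries (IsLocalRing.ResidueField B)))) :=
    fun y hy => branch_mem_span_X hπ j hy
  have h2 := (Ideal.pow_right_mono h1 n).trans (Ideal.le_comap_pow _ n)
  have h3 := h2 hx
  rw [Ideal.mem_comap, Ideal.span_singleton_pow, Ideal.mem_span_singleton] at h3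
  exact h3

end DVR2

end Groth.Agent.R2.H71.NodeAlg
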