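import Mathlib
import Groth.Agent.R2.H71NodeFix
import Groth.Agent.R2.H71Length

/-!
# The node algebra over a local ring with principal maximal ideal `(π)` (helper71)

General facts valid both for a DVR with uniformizer `π` and for a field with `π = 0`:
the variables are prime, `(t, e)` is maximal.
-/

set_option autoImplicit false
universe u

open MvPowerSeries

namespace Groth.Agent.R2.H71.NodeAlg

section Gen

open ArLef

variable {B : Type u} [CommRing B] [IsLocalRing B] {π : B}

/-- The variables are prime elements. -/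
theorem var_dvd_mul' (hmax : IsLocalRing.maximalIdeal B = Ideal.span {π}) (i : Fin 2)
    {a b : NodeAlg B π} (h : var π i ∣ a * b) : var π i ∣ a ∨ var π i ∣ b := by
  obtain ⟨j, hij⟩ := Groth.Agent.R2.H71.NodeAlg.exists_ne i
  rw [← branch_eq_zero_iff hmax hij] at h ⊢
  rw [← branch_eq_zero_iff hmax hij]
  rw [map_mul] at h
  exact mul_eq_zero.mp h

theorem not_var_dvd_var' (hmax : IsLocalRing.maximalIdeal B = Ideal.span {π}) {i j : Fin 2}
    (hij : i ≠ j) : ¬ var π i ∣ var π j := by
  rw [← branch_eq_zero_iff hmax hij, branch_var_same]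
  exact PowerSeries.X_ne_zero

theorem not_var_dvd_unit' (hmax : IsLocalRing.maximalIdeal B = Ideal.span {π}) (i : Fin 2)
    {u : NodeAlg B π} (hu : IsUnit u) : ¬ var π i ∣ u := by
  obtain ⟨j, hij⟩ := Groth.Agent.R2.H71.NodeAlg.exists_ne i
  rw [← branch_eq_zero_iff hmax hij]
  exact (hu.map _).ne_zero

/-- `var i` is regular modulo `var j` for `i ≠ j`. -/
theorem var_mul_mem_span_var (hmax : IsLocalRing.maximalIdeal B = Ideal.span {π}) {i j : Fin 2}
    (hij : i ≠ j) {y : NodeAlg B π} (h : var π i * y ∈ Ideal.span ({var π j} : Set (NodeAlg B π))) :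
    y ∈ Ideal.span ({var π j} : Set (NodeAlg B π)) := by
  rw [Ideal.mem_span_singleton] at h ⊢
  rcases var_dvd_mul' hmax j h with h' | h'
  · exact absurd h' (not_var_dvd_var' hmax hij.symm)
  · exact h'

/-- If `var i * x = 0` then the other variable divides `x`. -/
theorem var_dvd_of_var_mul_eq_zero (hmax : IsLocalRing.maximalIdeal B = Ideal.span {π}) {i j : Fin 2}
    (hij : i ≠ j) {x : NodeAlg B π} (h : var π i * x = 0) : var π j ∣ x := by
  rw [← branch_eq_zero_iff hmax hij.symm]
  have := congrArg (branch (mem_maximalIdeal_of_eq hmax) i) h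
  rw [map_mul, branch_var_same, map_zero] at this
  rcases mul_eq_zero.mp this with h' | h'
  · exact absurd h' PowerSeries.X_ne_zero
  · exact h'

theorem branch_mem_span_X' (hmax : IsLocalRing.maximalIdeal B = Ideal.span {π}) (j : Fin 2)
    {x : NodeAlg B π}
    (hx : x ∈ Ideal.span ({NodeAlg.t π, NodeAlg.e π} : Set (NodeAlg B π))) :
    branch (mem_maximalIdeal_of_eq hmax) j x ∈
      Ideal.span ({PowerSeries.X} : Set (PowerSeries (IsLocalRing.ResidueField B))) := by
  rw [Ideal.mem_span_pair] at hx
  obtain ⟨a, b, rfl⟩ := hx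
  rw [map_add, map_mul, map_mul, ← var_zero, ← var_one]
  have h0 : branch (mem_maximalIdeal_of_eq hmax) j (var π 0) ∈
      Ideal.span ({PowerSeries.X} : Set (PowerSeries (IsLocalRing.ResidueField B))) := by
    by_cases h : (0 : Fin 2) = j
    · subst h
      rw [branch_var_same]
      exact Ideal.mem_span_singleton_self _
    · rw [branch_var_ne _ h]
      exact Ideal.zero_mem _
  have h1 : branch (mem_maximalIdeal_of_eq hmax) j (var π 1) ∈
      Ideal.span ({PowerSeries.X} : Set (PowerSeries (IsLocalRing.ResidueField B))) := by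
    by_cases h : (1 : Fin 2) = j
    · subst h
      rw [branch_var_same]
      exact Ideal.mem_span_singleton_self _
    · rw [branch_var_ne _ h]
      exact Ideal.zero_mem _
  exact Ideal.add_mem _ (Ideal.mul_mem_left _ _ h0) (Ideal.mul_mem_left _ _ h1)

/-- `(t, e)` is a maximal ideal of the node algebra. -/
theorem isMaximal_span_te (hmax : IsLocalRing.maximalIdeal B = Ideal.span {π}) :
    (Ideal.span ({NodeAlg.t π, NodeAlg.e π} : Set (NodeAlg B π))).IsMaximal := by
  rw [Ideal.isMaximal_iff]
  constructor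
  · intro h1
    have := branch_mem_span_X' hmax 0 h1
    rw [map_one, Ideal.mem_span_singleton] at this
    have hu : IsUnit (PowerSeries.X : PowerSeries (IsLocalRing.ResidueField B)) :=
      isUnit_of_dvd_one this
    have := PowerSeries.isUnit_iff_constantCoeff.mp hu
    rw [PowerSeries.constantCoeff_X] at this
    exact not_isUnit_zero this
  · intro J x hmJ hx hxJ
    obtain ⟨b, r1, r2, rfl⟩ := exists_decomp π x
    have htm : NodeAlg.t π ∈ Ideal.span ({NodeAlg.t π, NodeAlg.e π} : Set (NodeAlg B π)) :=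
      Ideal.subset_span (by simp)
    have hem : NodeAlg.e π ∈ Ideal.span ({NodeAlg.t π, NodeAlg.e π} : Set (NodeAlg B π)) :=
      Ideal.subset_span (by simp)
    have hb : IsUnit b := by
      by_contra hb
      have hbm : b ∈ IsLocalRing.maximalIdeal B := (IsLocalRing.mem_maximalIdeal b).mpr hb
      rw [hmax, Ideal.mem_span_singleton] at hbm
      obtain ⟨c, rfl⟩ := hbm
      apply hx
      rw [map_mul, ← t_mul_e π]
      refine Ideal.add_mem _ (Ideal.add_mem _ ?_ (Ideal.mul_mem_right _ _ htm))
        (Ideal.mul_mem_right _ _ hem)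
      exact Ideal.mul_mem_right _ _ (Ideal.mul_mem_right _ _ htm)
    have hbJ : algebraMap B (NodeAlg B π) b ∈ J := by
      have : algebraMap B (NodeAlg B π) b =
          (algebraMap B (NodeAlg B π) b + NodeAlg.t π * r1 + NodeAlg.e π * r2) -
            NodeAlg.t π * r1 - NodeAlg.e π * r2 := by ring
      rw [this]
      exact J.sub_mem (J.sub_mem hxJ (J.mul_mem_right _ (hmJ htm))) (J.mul_mem_right _ (hmJ hem))
    have hu : IsUnit (algebraMap B (NodeAlg B π) b) := hb.map _
    have := Ideal.eq_top_of_isUnit_mem J hbJ hu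
    rw [this]
    trivial

theorem length_quotient_span_te (hmax : IsLocalRing.maximalIdeal B = Ideal.span {π}) :
    Module.length (NodeAlg B π)
      (NodeAlg B π ⧸ Ideal.span ({NodeAlg.t π, NodeAlg.e π} : Set (NodeAlg B π))) = 1 := by
  have := isMaximal_span_te hmax
  exact Len.length_quotient_of_isMaximal _

end Gen

section DVR3

open ArLef

variable {B : Type u} [CommRing B] [IsDomain B] [IsDiscreteValuationRing B] {π : B}

/-- A divisor of `t^a e^b` not divisible by `t` or `e` is a unit. -/
theorem isUnit_of_dvd_var_pow_mul (hπ : Irreducible π) {g : NodeAlg B π}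
    (h0 : ¬ var π 0 ∣ g) (h1 : ¬ var π 1 ∣ g) :
    ∀ (a b : ℕ), g ∣ var π 0 ^ a * var π 1 ^ b → IsUnit g := by
  intro a
  induction a with
  | zero =>
    intro b
    induction b with
    | zero =>
      intro h
      rw [pow_zero, pow_zero, mul_one] at h
      exact isUnit_of_dvd_one h
    | succ b ihb =>
      intro h
      obtain ⟨c, hc⟩ := h
      rw [pow_zero, one_mul] at hc ihb
      have h2 : var π 1 ∣ g * c := ⟨var π 1 ^ b, by rw [← hc, pow_succ']⟩
      rcases var_dvd_mul hπ 1 h2 with h3 | h3
      · exact absurd h3 h1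
      · obtain ⟨c', rfl⟩ := h3
        apply ihb
        refine ⟨c', ?_⟩
        rw [← sub_eq_zero]
        apply var_regular hπ 1
        rw [mul_sub, sub_eq_zero, ← pow_succ', hc]
        ring
  | succ a iha =>
    intro b h
    obtain ⟨c, hc⟩ := h
    have h2 : var π 0 ∣ g * c := ⟨var π 0 ^ a * var π 1 ^ b, by rw [← hc, pow_succ']; ring⟩
    rcases var_dvd_mul hπ 0 h2 with h3 | h3
    · exact absurd h3 h0
    · obtain ⟨c', rfl⟩ := h3
      apply iha b
      refine ⟨c', ?_⟩
      rw [← sub_eq_zero]
      apply var_regular hπ 0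
      rw [mul_sub, sub_eq_zero]
      have : var π 0 * (var π 0 ^ a * var π 1 ^ b) = var π 0 ^ (a + 1) * var π 1 ^ b := by
        rw [pow_succ']; ring
      rw [this, hc]
      ring

end DVR3

end Groth.Agent.R2.H71.NodeAlg

namespace Groth.Agent.R2.H71.NodeAlg

section DVR4

open ArLef

variable {B : Type u} [CommRing B] [IsDomain B] [IsDiscreteValuationRing B] {π : B}

/-- `π` is regular modulo `α e - t` for a unit `α`. -/
theorem pi_mul_mem_span_switch (hπ : Irreducible π) (α : (NodeAlg B π)ˣ) {r : NodeAlg B π}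
    (hr : algebraMap B (NodeAlg B π) π * r ∈
      Ideal.span ({(α : NodeAlg B π) * NodeAlg.e π - NodeAlg.t π} : Set (NodeAlg B π))) :
    r ∈ Ideal.span ({(α : NodeAlg B π) * NodeAlg.e π - NodeAlg.t π} : Set (NodeAlg B π)) := by
  set h : NodeAlg B π := (α : NodeAlg B π) * NodeAlg.e π - NodeAlg.t π with hh
  have hmax := maximalIdeal_eq hπ
  have hπm := mem_maximalIdeal_of_eq hmax
  have h01 : (0 : Fin 2) ≠ 1 := by decide
  have h10 : (1 : Fin 2) ≠ 0 := by decide
  have hb0 : branch hπm 0 h = -PowerSeries.X := by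
    rw [hh, map_sub, map_mul]
    rw [← var_one, ← var_zero, branch_var_ne _ h10, branch_var_same, mul_zero, zero_sub]
  have hb1 : branch hπm 1 h = branch hπm 1 α * PowerSeries.X := by
    rw [hh, map_sub, map_mul]
    rw [← var_one, ← var_zero, branch_var_ne _ h01, branch_var_same, sub_zero]
  rw [Ideal.mem_span_singleton'] at hr
  obtain ⟨s, hs⟩ := hr
  have hκ : IsLocalRing.residue B π = 0 := (IsLocalRing.residue_eq_zero_iff π).mpr hπm
  have hs0 : branch hπm 0 s = 0 := by
    have := congrArg (branch hπm 0) hs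
    rw [map_mul, map_mul, hb0, branch_algebraMap, hκ, map_zero, zero_mul, mul_neg,
      neg_eq_zero] at this
    rcases mul_eq_zero.mp this with h' | h'
    · exact h'
    · exact absurd h' PowerSeries.X_ne_zero
  have hs1 : branch hπm 1 s = 0 := by
    have := congrArg (branch hπm 1) hs
    rw [map_mul, map_mul, hb1, branch_algebraMap, hκ, map_zero, zero_mul] at this
    rcases mul_eq_zero.mp this with h' | h'
    · exact h'
    · rcases mul_eq_zero.mp h' with h'' | h''
      · exact absurd h'' ((α.isUnit.map _).ne_zero)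
      · exact absurd h'' PowerSeries.X_ne_zero
  rw [branch_eq_zero_iff hmax h10] at hs0
  rw [branch_eq_zero_iff hmax h01] at hs1
  obtain ⟨a', ha'⟩ := pi_dvd_of_var_dvd hπ h10 hs0 hs1
  have h3 : algebraMap B (NodeAlg B π) π * (r - a' * h) = 0 := by
    rw [mul_sub, ← hs, ha']
    ring
  have h4 := sub_eq_zero.mp (pi_regular hπ _ h3)
  rw [h4]
  exact Ideal.mul_mem_left _ _ (Ideal.mem_span_singleton_self h)

/-- `e` is regular modulo `α e - t` for a unit `α`. -/
theorem e_mul_mem_span_switch (hπ : Irreducible π) (α : (NodeAlg B π)ˣ) {r : NodeAlg B π}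
    (hr : NodeAlg.e π * r ∈
      Ideal.span ({(α : NodeAlg B π) * NodeAlg.e π - NodeAlg.t π} : Set (NodeAlg B π))) :
    r ∈ Ideal.span ({(α : NodeAlg B π) * NodeAlg.e π - NodeAlg.t π} : Set (NodeAlg B π)) := by
  apply pi_mul_mem_span_switch hπ α
  rw [← t_mul_e π, mul_assoc]
  exact Ideal.mul_mem_left _ _ hr

end DVR4

end Groth.Agent.R2.H71.NodeAlg
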