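import Mathlib
import Groth.Agent.R2.H71NodeLen

/-!
# The core length computation in the node algebra (helper71)

`length N/(a t, b e, t^(p+1) e^(q+1)) = 1 + (p+1) length N/(t, b) + (q+1) length N/(e, a)` when `e ∤ a`, `t ∤ b`,
`b ∈ (a, t^p e^q)`, `a ∈ (b, t^p e^q)` in the explicit form given below.
-/

set_option autoImplicit false
universe u

namespace Groth.Agent.R2.H71.NodeAlg

section Core

open ArLef

variable {B : Type u} [CommRing B] [IsDomain B] [IsDiscreteValuationRing B] {π : B}

theorem length_core (hπ : Irreducible π) (a b c₁ c₂ w : NodeAlg B π) (p q : ℕ)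
    (hea : ¬ NodeAlg.e π ∣ a) (htb : ¬ NodeAlg.t π ∣ b)
    (hb_eq : b = c₁ * (w * (NodeAlg.t π ^ p * NodeAlg.e π ^ q) - a))
    (ha_eq : a = c₂ * (w * (NodeAlg.t π ^ p * NodeAlg.e π ^ q) - b)) :
    Module.length (NodeAlg B π) (NodeAlg B π ⧸
        (Ideal.span {a * NodeAlg.t π} ⊔ Ideal.span {b * NodeAlg.e π} ⊔
          Ideal.span {NodeAlg.t π ^ (p + 1) * NodeAlg.e π ^ (q + 1)} : Ideal (NodeAlg B π))) =
      1 + ((p + 1 : ℕ) : ℕ∞) * Module.length (NodeAlg B π)
            (NodeAlg B π ⧸ Ideal.span ({NodeAlg.t π, b} : Set (NodeAlg B π))) +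
        ((q + 1 : ℕ) : ℕ∞) * Module.length (NodeAlg B π)
            (NodeAlg B π ⧸ Ideal.span ({NodeAlg.e π, a} : Set (NodeAlg B π))) := by
  classical
  have hmax := maximalIdeal_eq hπ
  have hte := t_mul_e π
  have h01 : (0 : Fin 2) ≠ 1 := by decide
  have h10 : (1 : Fin 2) ≠ 0 := by decide
  set T : NodeAlg B π := NodeAlg.t π with hT
  set E : NodeAlg B π := NodeAlg.e π with hE
  have hT0 : var π 0 = T := rfl
  have hE1 : var π 1 = E := rfl
  have hTb : ¬ T ∣ b := htb
  have hEa : ¬ E ∣ a := hea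
  have hTE : ¬ T ∣ E := not_var_dvd_var hπ h01
  have hET : ¬ E ∣ T := not_var_dvd_var hπ h10
  have hTprime : ∀ {x y : NodeAlg B π}, T ∣ x * y → T ∣ x ∨ T ∣ y :=
    fun h => var_dvd_mul hπ 0 h
  have hEprime : ∀ {x y : NodeAlg B π}, E ∣ x * y → E ∣ x ∨ E ∣ y :=
    fun h => var_dvd_mul hπ 1 h
  have hTreg : ∀ x : NodeAlg B π, T * x = 0 → x = 0 := fun x h => var_regular hπ 0 x h
  have hEreg : ∀ x : NodeAlg B π, E * x = 0 → x = 0 := fun x h => var_regular hπ 1 x h
  set I : Ideal (NodeAlg B π) :=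
    Ideal.span {a * T} ⊔ Ideal.span {b * E} ⊔ Ideal.span {T ^ (p + 1) * E ^ (q + 1)} with hI
  have haTI : a * T ∈ I :=
    Submodule.mem_sup_left (Submodule.mem_sup_left (Ideal.mem_span_singleton_self _))
  have hbEI : b * E ∈ I :=
    Submodule.mem_sup_left (Submodule.mem_sup_right (Ideal.mem_span_singleton_self _))
  have hPI : T ^ (p + 1) * E ^ (q + 1) ∈ I :=
    Submodule.mem_sup_right (Ideal.mem_span_singleton_self _)
  -- Step 1: colon by `T`
  set K₁ : Ideal (NodeAlg B π) :=
    Ideal.span {a} ⊔ Ideal.span {b * E} ⊔ Ideal.span {T ^ p * E ^ (q + 1)} with hK₁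
  have hK₁mem : ∀ y, y ∈ K₁ ↔ T * y ∈ I := by
    intro y
    constructor
    · intro hy
      obtain ⟨pq, hpq, r, hr, rfl⟩ := Submodule.mem_sup.mp hy
      obtain ⟨p', hp, q', hq, rfl⟩ := Submodule.mem_sup.mp hpq
      obtain ⟨c, rfl⟩ := Ideal.mem_span_singleton'.mp hp
      obtain ⟨d, rfl⟩ := Ideal.mem_span_singleton'.mp hq
      obtain ⟨f, rfl⟩ := Ideal.mem_span_singleton'.mp hr
      have : T * (c * a + d * (b * E) + f * (T ^ p * E ^ (q + 1))) =
          c * (a * T) + (T * d) * (b * E) + f * (T ^ (p + 1) * E ^ (q + 1)) := by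
        ring
      rw [this]
      exact I.add_mem (I.add_mem (I.mul_mem_left _ haTI) (I.mul_mem_left _ hbEI))
        (I.mul_mem_left _ hPI)
    · intro hy
      obtain ⟨pq, hpq, r, hr, hsum⟩ := Submodule.mem_sup.mp hy
      obtain ⟨p', hp, q', hq, rfl⟩ := Submodule.mem_sup.mp hpq
      obtain ⟨c, rfl⟩ := Ideal.mem_span_singleton'.mp hp
      obtain ⟨d, rfl⟩ := Ideal.mem_span_singleton'.mp hq
      obtain ⟨f, rfl⟩ := Ideal.mem_span_singleton'.mp hr
      have h1 : T * (y - c * a - f * (T ^ p * E ^ (q + 1))) = d * (b * E) := by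
        rw [mul_sub, mul_sub, ← hsum]; ring
      have h2 : T ∣ d * (b * E) := ⟨_, h1.symm⟩
      have h3 : T ∣ d := by
        rcases hTprime h2 with h | h
        · exact h
        · rcases hTprime h with h' | h'
          · exact absurd h' hTb
          · exact absurd h' hTE
      obtain ⟨d', rfl⟩ := h3
      have h4 : T * (y - c * a - f * (T ^ p * E ^ (q + 1)) - d' * (b * E)) = 0 := by
        rw [mul_sub, h1]; ring
      have h5 := hTreg _ h4
      have : y = c * a + d' * (b * E) + f * (T ^ p * E ^ (q + 1)) := by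
        linear_combination h5
      rw [this]
      exact Submodule.add_mem_sup (Submodule.add_mem_sup
        (Ideal.mul_mem_left _ _ (Ideal.mem_span_singleton_self _))
        (Ideal.mul_mem_left _ _ (Ideal.mem_span_singleton_self _)))
        (Ideal.mul_mem_left _ _ (Ideal.mem_span_singleton_self _))
  have hL1 := Len.length_quotient_eq_add I K₁ T hK₁mem
  have hIT : I ⊔ Ideal.span {T} = Ideal.span {T} ⊔ Ideal.span {E * b} := by
    have hTm : T ∈ Ideal.span ({T} : Set (NodeAlg B π)) ⊔ Ideal.span {E * b} :=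
      Submodule.mem_sup_left (Ideal.mem_span_singleton_self _)
    apply le_antisymm
    · refine sup_le (sup_le (sup_le ?_ ?_) ?_) le_sup_left
      · rw [Ideal.span_singleton_le_iff_mem]
        exact Ideal.mul_mem_left _ _ hTm
      · rw [Ideal.span_singleton_le_iff_mem, mul_comm b E]
        exact Submodule.mem_sup_right (Ideal.mem_span_singleton_self _)
      · rw [Ideal.span_singleton_le_iff_mem, pow_succ' T]
        exact Ideal.mul_mem_right _ _ (Ideal.mul_mem_right _ _ hTm)
    · refine sup_le le_sup_right ?_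
      rw [Ideal.span_singleton_le_iff_mem, mul_comm E b]
      exact Submodule.mem_sup_left hbEI
  have hL1' := Len.length_quotient_sup_span_mul (Ideal.span {T}) E b
    (fun y hy => by
      rw [← hT0] at hy ⊢
      rw [← hE1] at hy
      exact var_mul_mem_span_var hmax h10 hy)
  have hTEsup : Ideal.span ({T} : Set (NodeAlg B π)) ⊔ Ideal.span {E} = Ideal.span {T, E} := by
    rw [← Ideal.span_union]; rfl
  have hTbsup : Ideal.span ({T} : Set (NodeAlg B π)) ⊔ Ideal.span {b} = Ideal.span {T, b} := by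
    rw [← Ideal.span_union]; rfl
  have hEasup : Ideal.span ({E} : Set (NodeAlg B π)) ⊔ Ideal.span {a} = Ideal.span {E, a} := by
    rw [← Ideal.span_union]; rfl
  rw [hTEsup, hTbsup, length_quotient_span_te hmax] at hL1'
  -- Step 2: colon by `E`
  set K₂ : Ideal (NodeAlg B π) := Ideal.span {a} ⊔ Ideal.span {T ^ p * E ^ q} with hK₂
  have hbK₂ : b ∈ K₂ := by
    rw [hb_eq]
    refine Ideal.mul_mem_left _ _ (Ideal.sub_mem _ ?_ ?_)
    · exact Ideal.mul_mem_left _ _ (Submodule.mem_sup_right (Ideal.mem_span_singleton_self _))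
    · exact Submodule.mem_sup_left (Ideal.mem_span_singleton_self _)
  have hK₂mem : ∀ y, y ∈ K₂ ↔ E * y ∈ K₁ := by
    intro y
    constructor
    · intro hy
      obtain ⟨p', hp, q', hq, rfl⟩ := Submodule.mem_sup.mp hy
      obtain ⟨c, rfl⟩ := Ideal.mem_span_singleton'.mp hp
      obtain ⟨f, rfl⟩ := Ideal.mem_span_singleton'.mp hq
      have : E * (c * a + f * (T ^ p * E ^ q)) = (E * c) * a + f * (T ^ p * E ^ (q + 1)) := by
        ring
      rw [this]
      exact Submodule.add_mem_sup (Submodule.mem_sup_left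
        (Ideal.mul_mem_left _ _ (Ideal.mem_span_singleton_self _)))
        (Ideal.mul_mem_left _ _ (Ideal.mem_span_singleton_self _))
    · intro hy
      obtain ⟨pq, hpq, r, hr, hsum⟩ := Submodule.mem_sup.mp hy
      obtain ⟨p', hp, q', hq, rfl⟩ := Submodule.mem_sup.mp hpq
      obtain ⟨c, rfl⟩ := Ideal.mem_span_singleton'.mp hp
      obtain ⟨d, rfl⟩ := Ideal.mem_span_singleton'.mp hq
      obtain ⟨f, rfl⟩ := Ideal.mem_span_singleton'.mp hr
      have h1 : E * (y - d * b - f * (T ^ p * E ^ q)) = c * a := by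
        rw [mul_sub, mul_sub, ← hsum]; ring
      have h2 : E ∣ c * a := ⟨_, h1.symm⟩
      have h3 : E ∣ c := by
        rcases hEprime h2 with h | h
        · exact h
        · exact absurd h hEa
      obtain ⟨c', rfl⟩ := h3
      have h4 : E * (y - d * b - f * (T ^ p * E ^ q) - c' * a) = 0 := by
        rw [mul_sub, h1]; ring
      have h5 := hEreg _ h4
      have : y = c' * a + d * b + f * (T ^ p * E ^ q) := by
        linear_combination h5
      rw [this]
      exact K₂.add_mem (K₂.add_mem
        (Ideal.mul_mem_left _ _ (Submodule.mem_sup_left (Ideal.mem_span_singleton_self _)))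
        (Ideal.mul_mem_left _ _ hbK₂))
        (Ideal.mul_mem_left _ _ (Submodule.mem_sup_right (Ideal.mem_span_singleton_self _)))
  have hL2 := Len.length_quotient_eq_add K₁ K₂ E hK₂mem
  have hK₁E : K₁ ⊔ Ideal.span {E} = Ideal.span {E, a} := by
    rw [← hEasup]
    have hEm : E ∈ Ideal.span ({E} : Set (NodeAlg B π)) ⊔ Ideal.span {a} :=
      Submodule.mem_sup_left (Ideal.mem_span_singleton_self _)
    apply le_antisymm
    · refine sup_le (sup_le (sup_le le_sup_right ?_) ?_) le_sup_left
      · rw [Ideal.span_singleton_le_iff_mem]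
        exact Ideal.mul_mem_left _ _ hEm
      · rw [Ideal.span_singleton_le_iff_mem, pow_succ' E]
        exact Ideal.mul_mem_left _ _ (Ideal.mul_mem_right _ _ hEm)
    · refine sup_le le_sup_right ?_
      exact le_sup_of_le_left (le_sup_of_le_left le_sup_left)
  rw [hK₁E] at hL2
  -- Step 3: `length N/K₂ = p s₁ + q s₂`
  -- `E` is regular modulo `a`
  have hErega : ∀ y, E * y ∈ Ideal.span ({a} : Set (NodeAlg B π)) →
      y ∈ Ideal.span ({a} : Set (NodeAlg B π)) := by
    intro y hy
    rw [Ideal.mem_span_singleton'] at hy ⊢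
    obtain ⟨s, hs⟩ := hy
    have h1 : E ∣ s * a := ⟨y, hs⟩
    rcases hEprime h1 with h | h
    · obtain ⟨s', rfl⟩ := h
      refine ⟨s', ?_⟩
      have : E * (s' * a - y) = 0 := by rw [mul_sub, ← hs]; ring
      exact sub_eq_zero.mp (hEreg _ this)
    · exact absurd h hEa
  have hLE : Module.length (NodeAlg B π) (NodeAlg B π ⧸ (Ideal.span {a} ⊔ Ideal.span {E ^ q})) =
      (q : ℕ∞) * Module.length (NodeAlg B π) (NodeAlg B π ⧸ Ideal.span ({E, a} : Set (NodeAlg B π))) := by
    rw [Len.length_quotient_sup_span_pow (Ideal.span {a}) E hErega q, sup_comm, hEasup]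
  have hLT : Module.length (NodeAlg B π) (NodeAlg B π ⧸ (Ideal.span {a} ⊔ Ideal.span {T ^ p})) =
        (p : ℕ∞) * Module.length (NodeAlg B π) (NodeAlg B π ⧸ Ideal.span ({T, b} : Set (NodeAlg B π))) ∧
      (∀ y, T ^ p * y ∈ Ideal.span ({a} : Set (NodeAlg B π)) →
        y ∈ Ideal.span ({a} : Set (NodeAlg B π))) := by
    rcases Nat.eq_zero_or_pos p with hp0 | hppos
    · subst hp0
      constructor
      · rw [pow_zero, Ideal.span_singleton_one, sup_top_eq, Nat.cast_zero, zero_mul]
        exact Module.length_eq_zero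
      · intro y hy
        rwa [pow_zero, one_mul] at hy
    · obtain ⟨p', rfl⟩ : ∃ p', p = p' + 1 := ⟨p - 1, by omega⟩
      have hTP : T ∣ w * (T ^ (p' + 1) * E ^ q) :=
        ⟨w * (T ^ p' * E ^ q), by rw [pow_succ' T]; ring⟩
      have hTa : ¬ T ∣ a := by
        intro hTa
        apply hTb
        rw [hb_eq]
        exact Dvd.dvd.mul_left (dvd_sub hTP hTa) _
      have hTrega : ∀ y, T * y ∈ Ideal.span ({a} : Set (NodeAlg B π)) →
          y ∈ Ideal.span ({a} : Set (NodeAlg B π)) := by
        intro y hy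
        rw [Ideal.mem_span_singleton'] at hy ⊢
        obtain ⟨s, hs⟩ := hy
        have h1 : T ∣ s * a := ⟨y, hs⟩
        rcases hTprime h1 with h | h
        · obtain ⟨s', rfl⟩ := h
          refine ⟨s', ?_⟩
          have : T * (s' * a - y) = 0 := by rw [mul_sub, ← hs]; ring
          exact sub_eq_zero.mp (hTreg _ this)
        · exact absurd h hTa
      have hTpow : ∀ n : ℕ, ∀ y, T ^ n * y ∈ Ideal.span ({a} : Set (NodeAlg B π)) →
          y ∈ Ideal.span ({a} : Set (NodeAlg B π)) := by
        intro n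
        induction n with
        | zero => intro y hy; rwa [pow_zero, one_mul] at hy
        | succ n ih =>
          intro y hy
          apply ih
          apply hTrega
          rw [← mul_assoc, ← pow_succ']
          exact hy
      refine ⟨?_, hTpow (p' + 1)⟩
      rw [Len.length_quotient_sup_span_pow (Ideal.span {a}) T hTrega (p' + 1)]
      congr 1
      have e2 : Ideal.span ({a} : Set (NodeAlg B π)) ⊔ Ideal.span {T} = Ideal.span {T, b} := by
        rw [← hTbsup]
        have hTm : T ∈ Ideal.span ({T} : Set (NodeAlg B π)) ⊔ Ideal.span {b} :=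
          Submodule.mem_sup_left (Ideal.mem_span_singleton_self _)
        have hTm' : T ∈ Ideal.span ({a} : Set (NodeAlg B π)) ⊔ Ideal.span {T} :=
          Submodule.mem_sup_right (Ideal.mem_span_singleton_self _)
        obtain ⟨z, hz⟩ := hTP
        apply le_antisymm
        · refine sup_le ?_ le_sup_left
          rw [Ideal.span_singleton_le_iff_mem, ha_eq, hz]
          refine Ideal.mul_mem_left _ _ (Ideal.sub_mem _ ?_ ?_)
          · exact Ideal.mul_mem_right _ _ hTm
          · exact Submodule.mem_sup_right (Ideal.mem_span_singleton_self _)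
        · refine sup_le le_sup_right ?_
          rw [Ideal.span_singleton_le_iff_mem, hb_eq, hz]
          refine Ideal.mul_mem_left _ _ (Ideal.sub_mem _ ?_ ?_)
          · exact Ideal.mul_mem_right _ _ hTm'
          · exact Submodule.mem_sup_left (Ideal.mem_span_singleton_self _)
      rw [e2]
  have hL3 : Module.length (NodeAlg B π) (NodeAlg B π ⧸ K₂) =
      (p : ℕ∞) * Module.length (NodeAlg B π) (NodeAlg B π ⧸ Ideal.span ({T, b} : Set (NodeAlg B π))) +
        (q : ℕ∞) * Module.length (NodeAlg B π) (NodeAlg B π ⧸ Ideal.span ({E, a} : Set (NodeAlg B π))) := by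
    rw [hK₂, Len.length_quotient_sup_span_mul (Ideal.span {a}) (T ^ p) (E ^ q) hLT.2, hLE, hLT.1,
      add_comm]
  rw [hL1, hIT, hL1', hL2, hL3]
  push_cast
  ring

end Core

end Groth.Agent.R2.H71.NodeAlg
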