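import Mathlib.CategoryTheory.Monoidal.Braided.Basic
import Mathlib.CategoryTheory.Monoidal.NaturalTransformation
import Mathlib.CategoryTheory.Groupoid
import Mathlib.CategoryTheory.Equivalence
import Mathlib.CategoryTheory.Whiskering

/-!
# The free commutative Picard category on a symmetric monoidal category

Objects: formal expressions in objects of `A`, a unit, binary tensor and a formal inverse.
Morphisms: formal composites of structural morphisms, modulo the relations of a symmetric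
monoidal groupoid, functoriality of `of` and the axioms making `of` a symmetric lax monoidal functor.
-/

set_option autoImplicit false
universe v v' u u'

namespace Groth.Agent.R2.H71.PicFree

open CategoryTheory MonoidalCategory

/-- Formal objects. -/
inductive FObj (A : Type u) : Type u
  | of : A → FObj A
  | unit : FObj A
  | tensor : FObj A → FObj A → FObj A
  | inv : FObj A → FObj A

variable {A : Type u} [Category.{v} A] [MonoidalCategory A]

/-- Formal morphisms. -/
inductive FHom : FObj A → FObj A → Type (max u v)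
  | id (X : FObj A) : FHom X X
  | comp {X Y Z : FObj A} (f : FHom X Y) (g : FHom Y Z) : FHom X Z
  | symm {X Y : FObj A} (f : FHom X Y) : FHom Y X
  | tensor {W X Y Z : FObj A} (f : FHom W Y) (g : FHom X Z) : FHom (W.tensor X) (Y.tensor Z)
  | assoc (X Y Z : FObj A) : FHom ((X.tensor Y).tensor Z) (X.tensor (Y.tensor Z))
  | lunit (X : FObj A) : FHom (FObj.unit.tensor X) X
  | runit (X : FObj A) : FHom (X.tensor FObj.unit) X
  | braid (X Y : FObj A) : FHom (X.tensor Y) (Y.tensor X)
  | ofHom {a b : A} (f : a ⟶ b) : FHom (FObj.of a) (FObj.of b)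
  | mu (a b : A) : FHom ((FObj.of a).tensor (FObj.of b)) (FObj.of (a ⊗ b))
  | eps : FHom FObj.unit (FObj.of (𝟙_ A))
  | eta (X : FObj A) : FHom (X.tensor X.inv) FObj.unit

variable [SymmetricCategory A]

/-- The relations. -/
inductive FRel : ∀ {X Y : FObj A}, FHom X Y → FHom X Y → Prop
  | refl {X Y : FObj A} (f : FHom X Y) : FRel f f
  | symm' {X Y : FObj A} {f g : FHom X Y} : FRel f g → FRel g f
  | trans {X Y : FObj A} {f g h : FHom X Y} : FRel f g → FRel g h → FRel f h
  | comp_congr {X Y Z : FObj A} {f f' : FHom X Y} {g g' : FHom Y Z} :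
      FRel f f' → FRel g g' → FRel (f.comp g) (f'.comp g')
  | symm_congr {X Y : FObj A} {f f' : FHom X Y} : FRel f f' → FRel f.symm f'.symm
  | tensor_congr {W X Y Z : FObj A} {f f' : FHom W Y} {g g' : FHom X Z} :
      FRel f f' → FRel g g' → FRel (f.tensor g) (f'.tensor g')
  | id_comp {X Y : FObj A} (f : FHom X Y) : FRel ((FHom.id X).comp f) f
  | comp_id {X Y : FObj A} (f : FHom X Y) : FRel (f.comp (FHom.id Y)) f
  | assoc {W X Y Z : FObj A} (f : FHom W X) (g : FHom X Y) (h : FHom Y Z) :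
      FRel ((f.comp g).comp h) (f.comp (g.comp h))
  | comp_symm {X Y : FObj A} (f : FHom X Y) : FRel (f.comp f.symm) (FHom.id X)
  | symm_comp {X Y : FObj A} (f : FHom X Y) : FRel (f.symm.comp f) (FHom.id Y)
  | tensor_id (X Y : FObj A) : FRel ((FHom.id X).tensor (FHom.id Y)) (FHom.id (X.tensor Y))
  | tensor_comp {X₁ Y₁ Z₁ X₂ Y₂ Z₂ : FObj A} (f₁ : FHom X₁ Y₁) (f₂ : FHom X₂ Y₂)
      (g₁ : FHom Y₁ Z₁) (g₂ : FHom Y₂ Z₂) :
      FRel ((f₁.tensor f₂).comp (g₁.tensor g₂)) ((f₁.comp g₁).tensor (f₂.comp g₂))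
  | assoc_nat {X₁ X₂ X₃ Y₁ Y₂ Y₃ : FObj A} (f₁ : FHom X₁ Y₁) (f₂ : FHom X₂ Y₂) (f₃ : FHom X₃ Y₃) :
      FRel (((f₁.tensor f₂).tensor f₃).comp (FHom.assoc Y₁ Y₂ Y₃))
        ((FHom.assoc X₁ X₂ X₃).comp (f₁.tensor (f₂.tensor f₃)))
  | lunit_nat {X Y : FObj A} (f : FHom X Y) :
      FRel (((FHom.id FObj.unit).tensor f).comp (FHom.lunit Y)) ((FHom.lunit X).comp f)
  | runit_nat {X Y : FObj A} (f : FHom X Y) :
      FRel ((f.tensor (FHom.id FObj.unit)).comp (FHom.runit Y)) ((FHom.runit X).comp f)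
  | pentagon (W X Y Z : FObj A) : FRel
      (((FHom.assoc W X Y).tensor (FHom.id Z)).comp
        ((FHom.assoc W (X.tensor Y) Z).comp ((FHom.id W).tensor (FHom.assoc X Y Z))))
      ((FHom.assoc (W.tensor X) Y Z).comp (FHom.assoc W X (Y.tensor Z)))
  | triangle (X Y : FObj A) : FRel
      ((FHom.assoc X FObj.unit Y).comp ((FHom.id X).tensor (FHom.lunit Y)))
      ((FHom.runit X).tensor (FHom.id Y))
  | braid_nat {X X' Y Y' : FObj A} (f : FHom X X') (g : FHom Y Y') :
      FRel ((f.tensor g).comp (FHom.braid X' Y')) ((FHom.braid X Y).comp (g.tensor f))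
  | hexagon_forward (X Y Z : FObj A) : FRel
      ((FHom.assoc X Y Z).comp ((FHom.braid X (Y.tensor Z)).comp (FHom.assoc Y Z X)))
      (((FHom.braid X Y).tensor (FHom.id Z)).comp
        ((FHom.assoc Y X Z).comp ((FHom.id Y).tensor (FHom.braid X Z))))
  | hexagon_reverse (X Y Z : FObj A) : FRel
      ((FHom.assoc X Y Z).symm.comp ((FHom.braid (X.tensor Y) Z).comp (FHom.assoc Z X Y).symm))
      (((FHom.id X).tensor (FHom.braid Y Z)).comp
        ((FHom.assoc X Z Y).symm.comp ((FHom.braid X Z).tensor (FHom.id Y))))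
  | braid_symm (X Y : FObj A) : FRel ((FHom.braid X Y).comp (FHom.braid Y X)) (FHom.id _)
  | ofHom_id (a : A) : FRel (FHom.ofHom (𝟙 a)) (FHom.id (FObj.of a))
  | ofHom_comp {a b c : A} (f : a ⟶ b) (g : b ⟶ c) :
      FRel (FHom.ofHom (f ≫ g)) ((FHom.ofHom f).comp (FHom.ofHom g))
  | mu_nat {a a' b b' : A} (f : a ⟶ a') (g : b ⟶ b') :
      FRel (((FHom.ofHom f).tensor (FHom.ofHom g)).comp (FHom.mu a' b'))
        ((FHom.mu a b).comp (FHom.ofHom (f ⊗ₘ g)))
  | mu_assoc (a b c : A) : FRel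
      (((FHom.mu a b).tensor (FHom.id (FObj.of c))).comp
        ((FHom.mu (a ⊗ b) c).comp (FHom.ofHom (α_ a b c).hom)))
      ((FHom.assoc (FObj.of a) (FObj.of b) (FObj.of c)).comp
        (((FHom.id (FObj.of a)).tensor (FHom.mu b c)).comp (FHom.mu a (b ⊗ c))))
  | mu_lunit (a : A) : FRel (FHom.lunit (FObj.of a))
      ((FHom.eps.tensor (FHom.id (FObj.of a))).comp
        ((FHom.mu (𝟙_ A) a).comp (FHom.ofHom (λ_ a).hom)))
  | mu_runit (a : A) : FRel (FHom.runit (FObj.of a))
      (((FHom.id (FObj.of a)).tensor FHom.eps).comp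
        ((FHom.mu a (𝟙_ A)).comp (FHom.ofHom (ρ_ a).hom)))
  | mu_braid (a b : A) : FRel ((FHom.mu a b).comp (FHom.ofHom (β_ a b).hom))
      ((FHom.braid (FObj.of a) (FObj.of b)).comp (FHom.mu b a))

instance setoidHom (X Y : FObj A) : Setoid (FHom X Y) :=
  ⟨FRel, ⟨FRel.refl, FRel.symm', FRel.trans⟩⟩

instance categoryFObj : Category.{max u v} (FObj A) where
  Hom X Y := Quotient (setoidHom X Y)
  id X := ⟦FHom.id X⟧
  comp := Quotient.map₂ FHom.comp (fun _ _ hf _ _ hg => FRel.comp_congr hf hg)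
  id_comp := by
    rintro X Y ⟨f⟩
    exact Quotient.sound (FRel.id_comp f)
  comp_id := by
    rintro X Y ⟨f⟩
    exact Quotient.sound (FRel.comp_id f)
  assoc := by
    rintro W X Y Z ⟨f⟩ ⟨g⟩ ⟨h⟩
    exact Quotient.sound (FRel.assoc f g h)

/-- The class of a formal morphism. -/
abbrev homMk {X Y : FObj A} (f : FHom X Y) : X ⟶ Y := Quotient.mk (setoidHom X Y) f

theorem homMk_sound {X Y : FObj A} {f g : FHom X Y} (h : FRel f g) : homMk f = homMk g :=
  Quotient.sound h

theorem homMk_surjective {X Y : FObj A} (f : X ⟶ Y) : ∃ f' : FHom X Y, f = homMk f' := by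
  induction f using Quotient.inductionOn with | _ f' => exact ⟨f', rfl⟩

@[simp] theorem homMk_id (X : FObj A) : homMk (FHom.id X) = 𝟙 X := rfl

@[simp] theorem homMk_comp {X Y Z : FObj A} (f : FHom X Y) (g : FHom Y Z) :
    homMk (f.comp g) = homMk f ≫ homMk g := rfl

/-- Every morphism is an isomorphism. -/
def isoMk {X Y : FObj A} (f : FHom X Y) : X ≅ Y where
  hom := homMk f
  inv := homMk f.symm
  hom_inv_id := Quotient.sound (FRel.comp_symm f)
  inv_hom_id := Quotient.sound (FRel.symm_comp f)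

instance isGroupoidFObj : IsGroupoid (FObj A) where
  all_isIso f := by
    obtain ⟨f', rfl⟩ := homMk_surjective f
    exact (isoMk f').isIso_hom

theorem homMk_symm {X Y : FObj A} (f : FHom X Y) : homMk f.symm = inv (homMk f) := by
  symm
  apply IsIso.inv_eq_of_hom_inv_id
  exact (isoMk f).hom_inv_id

instance monoidalStructFObj : MonoidalCategoryStruct (FObj A) where
  tensorObj X Y := FObj.tensor X Y
  tensorUnit := FObj.unit
  tensorHom := Quotient.map₂ FHom.tensor (fun _ _ hf _ _ hg => FRel.tensor_congr hf hg)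
  whiskerLeft X _ _ f :=
    Quotient.map₂ FHom.tensor (fun _ _ hf _ _ hg => FRel.tensor_congr hf hg) (homMk (FHom.id X)) f
  whiskerRight f Y :=
    Quotient.map₂ FHom.tensor (fun _ _ hf _ _ hg => FRel.tensor_congr hf hg) f (homMk (FHom.id Y))
  associator X Y Z := isoMk (FHom.assoc X Y Z)
  leftUnitor X := isoMk (FHom.lunit X)
  rightUnitor X := isoMk (FHom.runit X)

@[simp] theorem homMk_tensor {W X Y Z : FObj A} (f : FHom W Y) (g : FHom X Z) :
    homMk (f.tensor g) = homMk f ⊗ₘ homMk g := rfl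

theorem tensor_eq (X Y : FObj A) : X.tensor Y = X ⊗ Y := rfl
theorem unit_eq : (FObj.unit : FObj A) = 𝟙_ (FObj A) := rfl

theorem homMk_assoc (X Y Z : FObj A) : homMk (FHom.assoc X Y Z) = (α_ X Y Z).hom := rfl
theorem homMk_lunit (X : FObj A) : homMk (FHom.lunit X) = (λ_ X).hom := rfl
theorem homMk_runit (X : FObj A) : homMk (FHom.runit X) = (ρ_ X).hom := rfl

instance monoidalFObj : MonoidalCategory (FObj A) :=
  MonoidalCategory.ofTensorHom
    (id_tensorHom_id := fun X Y => Quotient.sound (FRel.tensor_id X Y))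
    (id_tensorHom := fun X {Y₁ Y₂} f => rfl)
    (tensorHom_id := fun {X₁ X₂} f Y => rfl)
    (tensorHom_comp_tensorHom := by
      rintro X₁ Y₁ Z₁ X₂ Y₂ Z₂ ⟨f₁⟩ ⟨f₂⟩ ⟨g₁⟩ ⟨g₂⟩
      exact Quotient.sound (FRel.tensor_comp f₁ f₂ g₁ g₂))
    (associator_naturality := by
      rintro X₁ X₂ X₃ Y₁ Y₂ Y₃ ⟨f₁⟩ ⟨f₂⟩ ⟨f₃⟩
      exact Quotient.sound (FRel.assoc_nat f₁ f₂ f₃))
    (leftUnitor_naturality := by
      rintro X Y ⟨f⟩
      exact Quotient.sound (FRel.lunit_nat f))
    (rightUnitor_naturality := by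
      rintro X Y ⟨f⟩
      exact Quotient.sound (FRel.runit_nat f))
    (pentagon := fun W X Y Z => Quotient.sound (FRel.pentagon W X Y Z))
    (triangle := fun X Y => Quotient.sound (FRel.triangle X Y))


theorem homMk_whiskerLeft (X : FObj A) {Y Z : FObj A} (f : FHom Y Z) :
    homMk ((FHom.id X).tensor f) = X ◁ homMk f := rfl

theorem homMk_whiskerRight {X Y : FObj A} (f : FHom X Y) (Z : FObj A) :
    homMk (f.tensor (FHom.id Z)) = homMk f ▷ Z := rfl

theorem homMk_assoc_symm (X Y Z : FObj A) : homMk (FHom.assoc X Y Z).symm = (α_ X Y Z).inv := rfl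

/-- The braiding isomorphism. -/
def braidIso (X Y : FObj A) : X ⊗ Y ≅ Y ⊗ X where
  hom := homMk (FHom.braid X Y)
  inv := homMk (FHom.braid Y X)
  hom_inv_id := Quotient.sound (FRel.braid_symm X Y)
  inv_hom_id := Quotient.sound (FRel.braid_symm Y X)

instance symmetricFObj : SymmetricCategory (FObj A) where
  braiding := braidIso
  braiding_naturality_right := by
    rintro X Y Z ⟨f⟩
    exact Quotient.sound (FRel.braid_nat (FHom.id X) f)
  braiding_naturality_left := by
    rintro X Y ⟨f⟩ Z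
    exact Quotient.sound (FRel.braid_nat f (FHom.id Z))
  hexagon_forward X Y Z := Quotient.sound (FRel.hexagon_forward X Y Z)
  hexagon_reverse X Y Z := Quotient.sound (FRel.hexagon_reverse X Y Z)
  symmetry X Y := Quotient.sound (FRel.braid_symm X Y)

theorem homMk_braid (X Y : FObj A) : homMk (FHom.braid X Y) = (β_ X Y).hom := rfl

variable (A) in
/-- The canonical functor `A ⥤ FObj A`. -/
def ι : A ⥤ FObj A where
  obj := FObj.of
  map f := homMk (FHom.ofHom f)
  map_id a := Quotient.sound (FRel.ofHom_id a)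
  map_comp f g := Quotient.sound (FRel.ofHom_comp f g)

@[simp] theorem ι_obj (a : A) : (ι A).obj a = FObj.of a := rfl
theorem ι_map {a b : A} (f : a ⟶ b) : (ι A).map f = homMk (FHom.ofHom f) := rfl

instance laxBraidedι : (ι A).LaxBraided where
  ε := homMk FHom.eps
  μ a b := homMk (FHom.mu a b)
  μ_natural_left {a a'} f b := by
    have h := homMk_sound (FRel.mu_nat f (𝟙 b))
    have h2 : homMk (FHom.ofHom (𝟙 b)) = 𝟙 (FObj.of b) := Quotient.sound (FRel.ofHom_id b)
    rw [homMk_comp, homMk_tensor, h2, homMk_comp, MonoidalCategory.tensorHom_id,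
      MonoidalCategory.tensorHom_id] at h
    exact h
  μ_natural_right {a a'} b f := by
    have h := homMk_sound (FRel.mu_nat (𝟙 b) f)
    have h2 : homMk (FHom.ofHom (𝟙 b)) = 𝟙 (FObj.of b) := Quotient.sound (FRel.ofHom_id b)
    rw [homMk_comp, homMk_tensor, h2, homMk_comp, MonoidalCategory.id_tensorHom,
      MonoidalCategory.id_tensorHom] at h
    exact h
  associativity a b c := Quotient.sound (FRel.mu_assoc a b c)
  left_unitality a := Quotient.sound (FRel.mu_lunit a)
  right_unitality a := Quotient.sound (FRel.mu_runit a)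
  braided a b := Quotient.sound (FRel.mu_braid a b)

theorem ι_ε : Functor.LaxMonoidal.ε (ι A) = homMk FHom.eps := rfl
theorem ι_μ (a b : A) : Functor.LaxMonoidal.μ (ι A) a b = homMk (FHom.mu a b) := rfl

/-- The counit-like isomorphism `X ⊗ X⁻¹ ≅ 𝟙`. -/
def etaIso (X : FObj A) : X ⊗ X.inv ≅ 𝟙_ (FObj A) := isoMk (FHom.eta X)


section Inverse

variable {C : Type u} [Category.{v} C] [MonoidalCategory C]

/-- If `X ⊗ Y ≅ 𝟙` and `Y ⊗ X ≅ 𝟙` then `tensorLeft X` is an equivalence. -/
theorem tensorLeft_isEquivalence_of_inverse (X Y : C) (e₁ : X ⊗ Y ≅ 𝟙_ C) (e₂ : Y ⊗ X ≅ 𝟙_ C) :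
    (tensorLeft X).IsEquivalence := by
  let unitIso : 𝟭 C ≅ tensorLeft X ⋙ tensorLeft Y :=
    NatIso.ofComponents (fun Z => (λ_ Z).symm ≪≫ whiskerRightIso e₂.symm Z ≪≫ α_ Y X Z)
      (by
        intro Z Z' f
        dsimp
        simp only [Category.assoc, whiskerRightIso_hom, Iso.symm_hom]
        rw [leftUnitor_inv_naturality_assoc, whisker_exchange_assoc, associator_naturality_right])
  let counitIso : tensorLeft Y ⋙ tensorLeft X ≅ 𝟭 C :=
    NatIso.ofComponents (fun Z => (α_ X Y Z).symm ≪≫ whiskerRightIso e₁ Z ≪≫ λ_ Z)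
      (by
        intro Z Z' f
        dsimp
        simp only [Category.assoc, whiskerRightIso_hom]
        rw [associator_inv_naturality_right_assoc, whisker_exchange_assoc, leftUnitor_naturality])
  exact (CategoryTheory.Equivalence.mk (tensorLeft X) (tensorLeft Y) unitIso
    counitIso).isEquivalence_functor

/-- If `X ⊗ Y ≅ 𝟙` and `Y ⊗ X ≅ 𝟙` then `tensorRight X` is an equivalence. -/
theorem tensorRight_isEquivalence_of_inverse (X Y : C) (e₁ : X ⊗ Y ≅ 𝟙_ C) (e₂ : Y ⊗ X ≅ 𝟙_ C) :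
    (tensorRight X).IsEquivalence := by
  let unitIso : 𝟭 C ≅ tensorRight X ⋙ tensorRight Y :=
    NatIso.ofComponents (fun Z => (ρ_ Z).symm ≪≫ whiskerLeftIso Z e₁.symm ≪≫ (α_ Z X Y).symm)
      (by
        intro Z Z' f
        dsimp
        simp only [Category.assoc, whiskerLeftIso_hom, Iso.symm_hom]
        rw [rightUnitor_inv_naturality_assoc, ← whisker_exchange_assoc,
          associator_inv_naturality_left])
  let counitIso : tensorRight Y ⋙ tensorRight X ≅ 𝟭 C :=
    NatIso.ofComponents (fun Z => (α_ Z Y X) ≪≫ whiskerLeftIso Z e₂ ≪≫ ρ_ Z)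
      (by
        intro Z Z' f
        dsimp
        simp only [Category.assoc, whiskerLeftIso_hom]
        rw [associator_naturality_left_assoc, ← whisker_exchange_assoc, rightUnitor_naturality])
  exact (CategoryTheory.Equivalence.mk (tensorRight X) (tensorRight Y) unitIso
    counitIso).isEquivalence_functor

end Inverse

/-- `FObj A` is a Picard category. -/
theorem picard_FObj (X : FObj A) :
    (tensorLeft X).IsEquivalence ∧ (tensorRight X).IsEquivalence :=
  ⟨tensorLeft_isEquivalence_of_inverse X X.inv (etaIso X) ((β_ X.inv X) ≪≫ etaIso X),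
    tensorRight_isEquivalence_of_inverse X X.inv (etaIso X) ((β_ X.inv X) ≪≫ etaIso X)⟩

end Groth.Agent.R2.H71.PicFree
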