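import Groth.Agent.R2.H71PicFree

/-!
# Lifting a symmetric lax monoidal functor to the free Picard category
-/

set_option autoImplicit false
universe v v' u u'

namespace Groth.Agent.R2.H71.PicFree

open CategoryTheory MonoidalCategory

variable {A : Type u} [Category.{v} A] [MonoidalCategory A] [SymmetricCategory A]
variable {P : Type u'} [Category.{v'} P] [MonoidalCategory P] [SymmetricCategory P] [IsGroupoid P]
  (hP : ∀ X : P, (tensorLeft X).IsEquivalence ∧ (tensorRight X).IsEquivalence)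

/-- A chosen inverse of an object of a Picard category. -/
noncomputable def invObj (Y : P) : P :=
  haveI := (hP Y).1
  (tensorLeft Y).objPreimage (𝟙_ P)

/-- The chosen inverse is an inverse. -/
noncomputable def invIso (Y : P) : Y ⊗ invObj hP Y ≅ 𝟙_ P :=
  haveI := (hP Y).1
  (tensorLeft Y).objObjPreimageIso (𝟙_ P)

variable (Φ : A ⥤ P) [Φ.LaxBraided]

/-- The lift on objects. -/
noncomputable def liftObj : FObj A → P
  | .of a => Φ.obj a
  | .unit => 𝟙_ P
  | .tensor X Y => liftObj X ⊗ liftObj Y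
  | .inv X => invObj hP (liftObj X)

/-- The lift on formal morphisms. -/
noncomputable def liftHom : ∀ {X Y : FObj A}, FHom X Y → (liftObj hP Φ X ⟶ liftObj hP Φ Y)
  | _, _, .id _ => 𝟙 _
  | _, _, .comp f g => liftHom f ≫ liftHom g
  | _, _, .symm f => inv (liftHom f)
  | _, _, .tensor f g => liftHom f ⊗ₘ liftHom g
  | _, _, .assoc _ _ _ => (α_ _ _ _).hom
  | _, _, .lunit _ => (λ_ _).hom
  | _, _, .runit _ => (ρ_ _).hom
  | _, _, .braid _ _ => (β_ _ _).hom
  | _, _, .ofHom f => Φ.map f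
  | _, _, .mu a b => Functor.LaxMonoidal.μ Φ a b
  | _, _, .eps => Functor.LaxMonoidal.ε Φ
  | _, _, .eta X => (invIso hP (liftObj hP Φ X)).hom

theorem liftHom_sound {X Y : FObj A} {f g : FHom X Y} (h : FRel f g) :
    liftHom hP Φ f = liftHom hP Φ g := by
  induction h with
  | refl f => rfl
  | symm' _ ih => exact ih.symm
  | trans _ _ ih₁ ih₂ => exact ih₁.trans ih₂
  | comp_congr _ _ ih₁ ih₂ => simp only [liftHom, ih₁, ih₂]
  | symm_congr _ ih => simp only [liftHom, ih]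
  | tensor_congr _ _ ih₁ ih₂ => exact congrArg₂ (· ⊗ₘ ·) ih₁ ih₂
  | id_comp f => simp only [liftHom, Category.id_comp]
  | comp_id f => simp only [liftHom, Category.comp_id]
  | assoc f g h => simp only [liftHom, Category.assoc]
  | comp_symm f => simp only [liftHom, IsIso.hom_inv_id]
  | symm_comp f => simp only [liftHom, IsIso.inv_hom_id]
  | tensor_id X Y => simp only [liftHom, liftObj, MonoidalCategory.id_tensorHom_id]
  | tensor_comp f₁ f₂ g₁ g₂ => exact MonoidalCategory.tensorHom_comp_tensorHom _ _ _ _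
  | assoc_nat f₁ f₂ f₃ => exact MonoidalCategory.associator_naturality _ _ _
  | lunit_nat f =>
    simp only [liftHom, liftObj, MonoidalCategory.id_tensorHom,
      MonoidalCategory.leftUnitor_naturality]
  | runit_nat f =>
    simp only [liftHom, liftObj, MonoidalCategory.tensorHom_id,
      MonoidalCategory.rightUnitor_naturality]
  | pentagon W X Y Z =>
    simp only [liftHom, liftObj, MonoidalCategory.id_tensorHom, MonoidalCategory.tensorHom_id,
      MonoidalCategory.pentagon]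
  | triangle X Y =>
    simp only [liftHom, liftObj, MonoidalCategory.id_tensorHom, MonoidalCategory.tensorHom_id,
      MonoidalCategory.triangle]
  | braid_nat f g =>
    simp only [liftHom, liftObj, BraidedCategory.braiding_naturality]
  | hexagon_forward X Y Z =>
    simp only [liftHom, liftObj, MonoidalCategory.id_tensorHom, MonoidalCategory.tensorHom_id]
    exact BraidedCategory.hexagon_forward _ _ _
  | hexagon_reverse X Y Z =>
    simp only [liftHom, liftObj, MonoidalCategory.id_tensorHom, MonoidalCategory.tensorHom_id,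
      IsIso.Iso.inv_hom]
    exact BraidedCategory.hexagon_reverse _ _ _
  | braid_symm X Y => simp only [liftHom, liftObj, SymmetricCategory.symmetry]
  | ofHom_id a => simp only [liftHom, liftObj, Functor.map_id]
  | ofHom_comp f g => exact Functor.map_comp _ _ _
  | mu_nat f g => simp only [liftHom, liftObj, Functor.LaxMonoidal.μ_natural]
  | mu_assoc a b c =>
    simp only [liftHom, liftObj, MonoidalCategory.id_tensorHom, MonoidalCategory.tensorHom_id,
      Functor.LaxMonoidal.associativity]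
  | mu_lunit a =>
    simp only [liftHom, liftObj, MonoidalCategory.tensorHom_id]
    exact Functor.LaxMonoidal.left_unitality Φ a
  | mu_runit a =>
    simp only [liftHom, liftObj, MonoidalCategory.id_tensorHom]
    exact Functor.LaxMonoidal.right_unitality Φ a
  | mu_braid a b =>
    simp only [liftHom, liftObj]
    exact Functor.LaxBraided.braided a b


/-- The lifted functor. -/
noncomputable def lift : FObj A ⥤ P where
  obj := liftObj hP Φ
  map {X Y} f := Quotient.lift (liftHom hP Φ) (fun _ _ h => liftHom_sound hP Φ h) f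
  map_id X := rfl
  map_comp := by
    rintro X Y Z ⟨f⟩ ⟨g⟩
    rfl

theorem lift_obj (X : FObj A) : (lift hP Φ).obj X = liftObj hP Φ X := rfl

theorem lift_map_homMk {X Y : FObj A} (f : FHom X Y) :
    (lift hP Φ).map (homMk f) = liftHom hP Φ f := rfl

theorem lift_obj_tensor (X Y : FObj A) :
    (lift hP Φ).obj (X ⊗ Y) = (lift hP Φ).obj X ⊗ (lift hP Φ).obj Y := rfl

theorem lift_obj_unit : (lift hP Φ).obj (𝟙_ (FObj A)) = 𝟙_ P := rfl

theorem lift_map_tensorHom {W X Y Z : FObj A} (f : W ⟶ Y) (g : X ⟶ Z) :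
    (lift hP Φ).map (f ⊗ₘ g) = (lift hP Φ).map f ⊗ₘ (lift hP Φ).map g := by
  obtain ⟨f, rfl⟩ := homMk_surjective f
  obtain ⟨g, rfl⟩ := homMk_surjective g
  rfl

theorem lift_map_whiskerLeft (X : FObj A) {Y Z : FObj A} (g : Y ⟶ Z) :
    (lift hP Φ).map (X ◁ g) = (lift hP Φ).obj X ◁ (lift hP Φ).map g := by
  obtain ⟨g, rfl⟩ := homMk_surjective g
  exact MonoidalCategory.id_tensorHom _ _

theorem lift_map_whiskerRight {X Y : FObj A} (f : X ⟶ Y) (Z : FObj A) :
    (lift hP Φ).map (f ▷ Z) = (lift hP Φ).map f ▷ (lift hP Φ).obj Z := by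
  obtain ⟨f, rfl⟩ := homMk_surjective f
  exact MonoidalCategory.tensorHom_id _ _

theorem lift_map_associator (X Y Z : FObj A) :
    (lift hP Φ).map (α_ X Y Z).hom =
      (α_ ((lift hP Φ).obj X) ((lift hP Φ).obj Y) ((lift hP Φ).obj Z)).hom := rfl

theorem lift_map_leftUnitor (X : FObj A) :
    (lift hP Φ).map (λ_ X).hom = (λ_ ((lift hP Φ).obj X)).hom := rfl

theorem lift_map_rightUnitor (X : FObj A) :
    (lift hP Φ).map (ρ_ X).hom = (ρ_ ((lift hP Φ).obj X)).hom := rfl

theorem lift_map_braiding (X Y : FObj A) :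
    (lift hP Φ).map (β_ X Y).hom = (β_ ((lift hP Φ).obj X) ((lift hP Φ).obj Y)).hom := rfl

section Aux

variable {Q : Type u'} [Category.{v'} Q] [MonoidalCategory Q]

theorem aux_nat_left {a b : Q} (g : a ⟶ b) (c : Q) :
    g ▷ c ≫ 𝟙 (b ⊗ c) = 𝟙 (a ⊗ c) ≫ (g ⊗ₘ 𝟙 c) := by simp

theorem aux_nat_right (c : Q) {a b : Q} (g : a ⟶ b) :
    c ◁ g ≫ 𝟙 (c ⊗ b) = 𝟙 (c ⊗ a) ≫ (𝟙 c ⊗ₘ g) := by simp

theorem aux_assoc (a b c : Q) :
    𝟙 (a ⊗ b) ▷ c ≫ 𝟙 ((a ⊗ b) ⊗ c) ≫ (α_ a b c).hom =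
      (α_ a b c).hom ≫ a ◁ 𝟙 (b ⊗ c) ≫ 𝟙 (a ⊗ (b ⊗ c)) := by simp

theorem aux_left_unit (a : Q) :
    (λ_ a).hom = 𝟙 (𝟙_ Q) ▷ a ≫ 𝟙 (𝟙_ Q ⊗ a) ≫ (λ_ a).hom := by simp

theorem aux_right_unit (a : Q) :
    (ρ_ a).hom = a ◁ 𝟙 (𝟙_ Q) ≫ 𝟙 (a ⊗ 𝟙_ Q) ≫ (ρ_ a).hom := by simp

theorem aux_braided [BraidedCategory Q] (a b : Q) :
    𝟙 (a ⊗ b) ≫ (β_ a b).hom = (β_ a b).hom ≫ 𝟙 (b ⊗ a) := by simp

theorem aux_unit {a b : Q} (e : a ⟶ b) : (𝟙 a ≫ e) ≫ 𝟙 b = e := by simp

theorem aux_tensor {a b c : Q} (m : a ⊗ b ⟶ c) :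
    (𝟙 (a ⊗ b) ≫ m) ≫ 𝟙 c = (𝟙 a ⊗ₘ 𝟙 b) ≫ m := by simp

end Aux

/-- The lift is (strictly) symmetric monoidal. -/
noncomputable instance laxBraidedLift : (lift hP Φ).LaxBraided where
  ε := 𝟙 (𝟙_ P)
  μ X Y := 𝟙 (liftObj hP Φ X ⊗ liftObj hP Φ Y)
  μ_natural_left {X Y} f X' := by
    obtain ⟨f, rfl⟩ := homMk_surjective f
    exact aux_nat_left (liftHom hP Φ f) (liftObj hP Φ X')
  μ_natural_right {X Y} X' f := by
    obtain ⟨f, rfl⟩ := homMk_surjective f
    exact aux_nat_right (liftObj hP Φ X') (liftHom hP Φ f)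
  associativity X Y Z := aux_assoc (liftObj hP Φ X) (liftObj hP Φ Y) (liftObj hP Φ Z)
  left_unitality X := aux_left_unit (liftObj hP Φ X)
  right_unitality X := aux_right_unit (liftObj hP Φ X)
  braided X Y := aux_braided (liftObj hP Φ X) (liftObj hP Φ Y)

theorem lift_ε : Functor.LaxMonoidal.ε (lift hP Φ) = 𝟙 (𝟙_ P) := rfl
theorem lift_μ (X Y : FObj A) :
    Functor.LaxMonoidal.μ (lift hP Φ) X Y = 𝟙 (liftObj hP Φ X ⊗ liftObj hP Φ Y) := rfl

/-- The lift extends `Φ`. -/
noncomputable def liftIso : ι A ⋙ lift hP Φ ≅ Φ :=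
  NatIso.ofComponents (fun a => Iso.refl (Φ.obj a)) (by
    intro a b f
    exact (Category.comp_id (Φ.map f)).trans (Category.id_comp (Φ.map f)).symm)

theorem liftIso_hom_app (a : A) : (liftIso hP Φ).hom.app a = 𝟙 (Φ.obj a) := rfl

instance liftIso_isMonoidal : NatTrans.IsMonoidal (liftIso hP Φ).hom where
  unit := aux_unit (Functor.LaxMonoidal.ε Φ)
  tensor a b := aux_tensor (Functor.LaxMonoidal.μ Φ a b)

end Groth.Agent.R2.H71.PicFree
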