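import Mathlib

/-!
# The action of `End(𝟙)` on the objects of a monoidal category (helper71)

`act φ Z = λ⁻¹ ≫ (φ ▷ Z) ≫ λ : Z ⟶ Z`; it is natural in `Z`, multiplicative in `φ`, compatible with tensor
products (using a braiding for the right-hand factor), injective when `- ⊗ Z` is faithful and surjective
when `- ⊗ Z` is full.
-/

set_option autoImplicit false
universe v u

open CategoryTheory MonoidalCategory

namespace Groth.Agent.R2.H71.PicTorsor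

variable {D : Type u} [Category.{v} D] [MonoidalCategory D]

/-- The endomorphism of `Z` induced by an endomorphism of the unit. -/
def act (φ : 𝟙_ D ⟶ 𝟙_ D) (Z : D) : Z ⟶ Z := (λ_ Z).inv ≫ (φ ▷ Z) ≫ (λ_ Z).hom

theorem act_id (Z : D) : act (𝟙 (𝟙_ D)) Z = 𝟙 Z := by
  simp [act]

theorem act_comp (φ ψ : 𝟙_ D ⟶ 𝟙_ D) (Z : D) : act (φ ≫ ψ) Z = act φ Z ≫ act ψ Z := by
  simp [act]

theorem act_naturality (φ : 𝟙_ D ⟶ 𝟙_ D) {Z W : D} (f : Z ⟶ W) : act φ Z ≫ f = f ≫ act φ W := by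
  unfold act
  rw [Category.assoc, Category.assoc, ← leftUnitor_naturality, ← whisker_exchange_assoc,
    leftUnitor_inv_naturality_assoc]

theorem act_whiskerRight (φ : 𝟙_ D ⟶ 𝟙_ D) (Z W : D) : act φ Z ▷ W = act φ (Z ⊗ W) := by
  unfold act
  rw [comp_whiskerRight, comp_whiskerRight, leftUnitor_tensor_hom, leftUnitor_tensor_inv]
  simp only [Category.assoc]
  rw [← associator_naturality_left_assoc, Iso.hom_inv_id_assoc]

theorem whiskerLeft_act [BraidedCategory D] (φ : 𝟙_ D ⟶ 𝟙_ D) (Z W : D) :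
    Z ◁ act φ W = act φ (Z ⊗ W) := by
  have h1 : (Z ◁ act φ W) ≫ (β_ Z W).hom = (β_ Z W).hom ≫ (act φ W ▷ Z) :=
    BraidedCategory.braiding_naturality_right Z (act φ W)
  rw [act_whiskerRight, ← act_naturality] at h1
  exact (cancel_mono (β_ Z W).hom).mp h1

theorem act_tensorHom [BraidedCategory D] (φ ψ : 𝟙_ D ⟶ 𝟙_ D) (Z W : D) :
    act φ Z ⊗ₘ act ψ W = act (φ ≫ ψ) (Z ⊗ W) := by
  rw [MonoidalCategory.tensorHom_def, act_whiskerRight, whiskerLeft_act, act_comp]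

theorem act_tensorHom' [BraidedCategory D] (φ ψ : 𝟙_ D ⟶ 𝟙_ D) (Z W : D) :
    act φ Z ⊗ₘ act ψ W = act (ψ ≫ φ) (Z ⊗ W) := by
  rw [MonoidalCategory.tensorHom_def', act_whiskerRight, whiskerLeft_act, act_comp]

theorem act_injective (Z : D) [(tensorRight Z).Faithful] {φ ψ : 𝟙_ D ⟶ 𝟙_ D}
    (h : act φ Z = act ψ Z) : φ = ψ := by
  apply (tensorRight Z).map_injective
  show φ ▷ Z = ψ ▷ Z
  unfold act at h
  have h2 := (cancel_epi (λ_ Z).inv).mp h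
  exact (cancel_mono (λ_ Z).hom).mp h2

theorem act_surjective (Z : D) [(tensorRight Z).Full] (u : Z ⟶ Z) :
    ∃ φ : 𝟙_ D ⟶ 𝟙_ D, act φ Z = u := by
  obtain ⟨φ, hφ⟩ := (tensorRight Z).map_surjective ((λ_ Z).hom ≫ u ≫ (λ_ Z).inv)
  refine ⟨φ, ?_⟩
  have hφ' : φ ▷ Z = (λ_ Z).hom ≫ u ≫ (λ_ Z).inv := hφ
  unfold act
  rw [hφ']
  simp

/-- Endomorphisms of the unit commute. -/
theorem end_unit_comm (φ ψ : 𝟙_ D ⟶ 𝟙_ D) : φ ≫ ψ = ψ ≫ φ := by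
  have h1 : φ ▷ 𝟙_ D = (ρ_ (𝟙_ D)).hom ≫ φ ≫ (ρ_ (𝟙_ D)).inv := by
    rw [← rightUnitor_naturality_assoc, Iso.hom_inv_id, Category.comp_id]
  have h2 : 𝟙_ D ◁ ψ = (λ_ (𝟙_ D)).hom ≫ ψ ≫ (λ_ (𝟙_ D)).inv := by
    rw [← leftUnitor_naturality_assoc, Iso.hom_inv_id, Category.comp_id]
  have hl : λ_ (𝟙_ D) = ρ_ (𝟙_ D) := Iso.ext unitors_equal
  rw [hl] at h2
  have h3 := whisker_exchange φ ψ
  rw [h1, h2] at h3
  simp only [Category.assoc, Iso.inv_hom_id_assoc] at h3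
  have h4 := (cancel_epi (ρ_ (𝟙_ D)).hom).mp h3
  have h5 : (ψ ≫ φ) ≫ (ρ_ (𝟙_ D)).inv = (φ ≫ ψ) ≫ (ρ_ (𝟙_ D)).inv := by
    simpa only [Category.assoc] using h4
  exact ((cancel_mono (ρ_ (𝟙_ D)).inv).mp h5).symm

end Groth.Agent.R2.H71.PicTorsor
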