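import Groth.Agent.R2.H71PicLift

/-!
# Monoidal natural transformations out of the free Picard category are determined on generators
-/

set_option autoImplicit false
universe v v' u u'

namespace Groth.Agent.R2.H71.PicFree

open CategoryTheory MonoidalCategory Functor.LaxMonoidal

variable {A : Type u} [Category.{v} A] [MonoidalCategory A] [SymmetricCategory A]
variable {P : Type u'} [Category.{v'} P] [MonoidalCategory P] [SymmetricCategory P] [IsGroupoid P]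
  (hP : ∀ X : P, (tensorLeft X).IsEquivalence ∧ (tensorRight X).IsEquivalence)
variable (Ψ Ψ' : FObj A ⥤ P) [Ψ.LaxBraided] [Ψ'.LaxBraided]
  (τ : ι A ⋙ Ψ ⟶ ι A ⋙ Ψ')

/-- The value at the unit of the extension. -/
noncomputable def extUnit : Ψ.obj FObj.unit ⟶ Ψ'.obj FObj.unit :=
  inv (ε Ψ) ≫ ε Ψ'

/-- The target morphism determining the extension at a formal inverse. -/
noncomputable def extInvAux (X : FObj A) (θX : Ψ.obj X ⟶ Ψ'.obj X) :
    Ψ'.obj X ⊗ Ψ.obj X.inv ⟶ Ψ'.obj X ⊗ Ψ'.obj X.inv :=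
  inv (θX ▷ Ψ.obj X.inv) ≫ μ Ψ X X.inv ≫ Ψ.map (homMk (FHom.eta X)) ≫ extUnit Ψ Ψ' ≫
    inv (Ψ'.map (homMk (FHom.eta X))) ≫ inv (μ Ψ' X X.inv)

/-- The components of the extension of `τ`. -/
noncomputable def extApp : ∀ X : FObj A, Ψ.obj X ⟶ Ψ'.obj X
  | .of a => τ.app a
  | .unit => extUnit Ψ Ψ'
  | .tensor X Y => inv (μ Ψ X Y) ≫ (extApp X ⊗ₘ extApp Y) ≫ μ Ψ' X Y
  | .inv X =>
    haveI := (hP (Ψ'.obj X)).1
    (tensorLeft (Ψ'.obj X)).preimage (extInvAux Ψ Ψ' X (extApp X))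

theorem extApp_of (a : A) : extApp hP Ψ Ψ' τ ((ι A).obj a) = τ.app a := rfl

@[reassoc]
theorem extApp_unit : ε Ψ ≫ extApp hP Ψ Ψ' τ (𝟙_ (FObj A)) = ε Ψ' := by
  change ε Ψ ≫ inv (ε Ψ) ≫ ε Ψ' = ε Ψ'
  rw [IsIso.hom_inv_id_assoc]

@[reassoc]
theorem extApp_tensor (X Y : FObj A) :
    μ Ψ X Y ≫ extApp hP Ψ Ψ' τ (X ⊗ Y) =
      (extApp hP Ψ Ψ' τ X ⊗ₘ extApp hP Ψ Ψ' τ Y) ≫ μ Ψ' X Y := by
  change μ Ψ X Y ≫ inv (μ Ψ X Y) ≫ _ ≫ _ = _
  rw [IsIso.hom_inv_id_assoc]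

theorem extApp_inv (X : FObj A) :
    Ψ'.obj X ◁ extApp hP Ψ Ψ' τ X.inv = extInvAux Ψ Ψ' X (extApp hP Ψ Ψ' τ X) := by
  have := (hP (Ψ'.obj X)).1
  exact (tensorLeft (Ψ'.obj X)).map_preimage _

/-- Naturality with respect to the inverse pairing. -/
theorem extApp_eta (X : FObj A) :
    Ψ.map (homMk (FHom.eta X)) ≫ extApp hP Ψ Ψ' τ (𝟙_ (FObj A)) =
      extApp hP Ψ Ψ' τ (X ⊗ X.inv) ≫ Ψ'.map (homMk (FHom.eta X)) := by
  apply (cancel_epi (μ Ψ X X.inv)).1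
  rw [extApp_tensor_assoc, MonoidalCategory.tensorHom_def, Category.assoc, extApp_inv]
  unfold extInvAux
  change _ ≫ _ ≫ extUnit Ψ Ψ' = _
  simp only [Category.assoc, IsIso.hom_inv_id_assoc, IsIso.inv_hom_id_assoc]
  have h : inv (Ψ'.map (homMk (FHom.eta X))) ≫ Ψ'.map (homMk (FHom.eta X)) = 𝟙 _ :=
    IsIso.inv_hom_id _
  erw [h, Category.comp_id]
  rfl

variable [NatTrans.IsMonoidal τ]

theorem extApp_naturality {X Y : FObj A} (f : FHom X Y) :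
    Ψ.map (homMk f) ≫ extApp hP Ψ Ψ' τ Y = extApp hP Ψ Ψ' τ X ≫ Ψ'.map (homMk f) := by
  induction f with
  | id X => rw [homMk_id, Ψ.map_id, Ψ'.map_id, Category.id_comp, Category.comp_id]
  | comp f g ihf ihg =>
    rw [homMk_comp, Ψ.map_comp, Ψ'.map_comp, Category.assoc, ihg, ← Category.assoc, ihf,
      Category.assoc]
  | symm f ih =>
    rw [homMk_symm, Functor.map_inv, Functor.map_inv, IsIso.inv_comp_eq, ← Category.assoc,
      IsIso.eq_comp_inv]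
    exact ih.symm
  | @tensor W X Y Z f g ihf ihg =>
    change Ψ.map (homMk f ⊗ₘ homMk g) ≫ extApp hP Ψ Ψ' τ (Y ⊗ Z) =
      extApp hP Ψ Ψ' τ (W ⊗ X) ≫ Ψ'.map (homMk f ⊗ₘ homMk g)
    apply (cancel_epi (μ Ψ W X)).1
    rw [← μ_natural_assoc, extApp_tensor, extApp_tensor_assoc, ← μ_natural,
      MonoidalCategory.tensorHom_comp_tensorHom_assoc,
      MonoidalCategory.tensorHom_comp_tensorHom_assoc, ihf, ihg]
  | assoc X Y Z =>
    change Ψ.map (α_ X Y Z).hom ≫ extApp hP Ψ Ψ' τ (X ⊗ (Y ⊗ Z)) =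
      extApp hP Ψ Ψ' τ ((X ⊗ Y) ⊗ Z) ≫ Ψ'.map (α_ X Y Z).hom
    apply (cancel_epi (μ Ψ X Y ▷ Ψ.obj Z ≫ μ Ψ (X ⊗ Y) Z)).1
    simp only [Category.assoc]
    rw [associativity_assoc, extApp_tensor, extApp_tensor_assoc,
      MonoidalCategory.whiskerLeft_comp_tensorHom_assoc, extApp_tensor,
      MonoidalCategory.whiskerRight_comp_tensorHom_assoc, extApp_tensor,
      ← MonoidalCategory.tensorHom_comp_whiskerRight_assoc, associativity,
      MonoidalCategory.associator_naturality_assoc,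
      ← MonoidalCategory.tensorHom_comp_whiskerLeft_assoc]
  | lunit X =>
    change Ψ.map (λ_ X).hom ≫ extApp hP Ψ Ψ' τ X =
      extApp hP Ψ Ψ' τ (𝟙_ (FObj A) ⊗ X) ≫ Ψ'.map (λ_ X).hom
    apply (cancel_epi (ε Ψ ▷ Ψ.obj X ≫ μ Ψ (𝟙_ (FObj A)) X)).1
    simp only [Category.assoc]
    rw [← left_unitality_assoc, extApp_tensor_assoc,
      MonoidalCategory.whiskerRight_comp_tensorHom_assoc, extApp_unit,
      ← tensorUnit_whiskerLeft_comp_leftUnitor_hom, MonoidalCategory.leftUnitor_naturality]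
  | runit X =>
    change Ψ.map (ρ_ X).hom ≫ extApp hP Ψ Ψ' τ X =
      extApp hP Ψ Ψ' τ (X ⊗ 𝟙_ (FObj A)) ≫ Ψ'.map (ρ_ X).hom
    apply (cancel_epi (Ψ.obj X ◁ ε Ψ ≫ μ Ψ X (𝟙_ (FObj A)))).1
    simp only [Category.assoc]
    rw [← right_unitality_assoc, extApp_tensor_assoc,
      MonoidalCategory.whiskerLeft_comp_tensorHom_assoc, extApp_unit,
      ← whiskerRight_tensorUnit_comp_rightUnitor_hom, MonoidalCategory.rightUnitor_naturality]
  | braid X Y =>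
    change Ψ.map (β_ X Y).hom ≫ extApp hP Ψ Ψ' τ (Y ⊗ X) =
      extApp hP Ψ Ψ' τ (X ⊗ Y) ≫ Ψ'.map (β_ X Y).hom
    apply (cancel_epi (μ Ψ X Y)).1
    rw [Functor.LaxBraided.braided_assoc, extApp_tensor, extApp_tensor_assoc,
      Functor.LaxBraided.braided, BraidedCategory.braiding_naturality_assoc]
  | @ofHom a b f =>
    exact τ.naturality f
  | mu a b =>
    change Ψ.map (μ (ι A) a b) ≫ τ.app (a ⊗ b) =
      extApp hP Ψ Ψ' τ ((ι A).obj a ⊗ (ι A).obj b) ≫ Ψ'.map (μ (ι A) a b)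
    apply (cancel_epi (μ Ψ ((ι A).obj a) ((ι A).obj b))).1
    have h := NatTrans.IsMonoidal.tensor (τ := τ) a b
    rw [comp_μ, comp_μ, Category.assoc] at h
    rw [extApp_tensor_assoc, h]
    rfl
  | eps =>
    change Ψ.map (ε (ι A)) ≫ τ.app (𝟙_ A) =
      extApp hP Ψ Ψ' τ (𝟙_ (FObj A)) ≫ Ψ'.map (ε (ι A))
    apply (cancel_epi (ε Ψ)).1
    have h := NatTrans.IsMonoidal.unit (τ := τ)
    rw [comp_ε, comp_ε, Category.assoc] at h
    rw [extApp_unit_assoc, h]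
  | eta X => exact extApp_eta hP Ψ Ψ' τ X


/-- The extension of `τ` to a natural transformation `Ψ ⟶ Ψ'`. -/
noncomputable def ext : Ψ ⟶ Ψ' where
  app := extApp hP Ψ Ψ' τ
  naturality X Y f := by
    obtain ⟨f, rfl⟩ := homMk_surjective f
    exact extApp_naturality hP Ψ Ψ' τ f

theorem ext_app (X : FObj A) : (ext hP Ψ Ψ' τ).app X = extApp hP Ψ Ψ' τ X := rfl

instance ext_isMonoidal : NatTrans.IsMonoidal (ext hP Ψ Ψ' τ) where
  unit := extApp_unit hP Ψ Ψ' τ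
  tensor X Y := extApp_tensor hP Ψ Ψ' τ X Y

theorem whiskerLeft_ext : Functor.whiskerLeft (ι A) (ext hP Ψ Ψ' τ) = τ := by
  ext a
  rfl

omit [NatTrans.IsMonoidal τ] in
/-- Uniqueness of the extension. -/
theorem ext_unique (θ : Ψ ⟶ Ψ') [NatTrans.IsMonoidal θ]
    (hθ : Functor.whiskerLeft (ι A) θ = τ) (X : FObj A) :
    θ.app X = extApp hP Ψ Ψ' τ X := by
  induction X with
  | of a =>
    have := congrArg (fun t => t.app a) hθ
    exact this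
  | unit =>
    have h := NatTrans.IsMonoidal.unit (τ := θ)
    change θ.app (𝟙_ (FObj A)) = inv (ε Ψ) ≫ ε Ψ'
    rw [← h, IsIso.inv_hom_id_assoc]
  | tensor X Y ihX ihY =>
    have h := NatTrans.IsMonoidal.tensor (τ := θ) X Y
    change θ.app (X ⊗ Y) = inv (μ Ψ X Y) ≫ (extApp hP Ψ Ψ' τ X ⊗ₘ extApp hP Ψ Ψ' τ Y) ≫ μ Ψ' X Y
    rw [← ihX, ← ihY, ← h, IsIso.inv_hom_id_assoc]
  | inv X ih =>
    have := (hP (Ψ'.obj X)).1
    apply (tensorLeft (Ψ'.obj X)).map_injective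
    change Ψ'.obj X ◁ θ.app X.inv = Ψ'.obj X ◁ extApp hP Ψ Ψ' τ X.inv
    rw [extApp_inv]
    unfold extInvAux
    have h1 := NatTrans.IsMonoidal.tensor (τ := θ) X X.inv
    have h2 := θ.naturality (homMk (FHom.eta X))
    have h3 : θ.app (𝟙_ (FObj A)) = extUnit Ψ Ψ' := by
      have h := NatTrans.IsMonoidal.unit (τ := θ)
      change θ.app (𝟙_ (FObj A)) = inv (ε Ψ) ≫ ε Ψ'
      rw [← h, IsIso.inv_hom_id_assoc]
    rw [← ih, IsIso.eq_inv_comp, ← MonoidalCategory.tensorHom_def, ← h3]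
    have h2' : θ.app (X ⊗ X.inv) = Ψ.map (homMk (FHom.eta X)) ≫ θ.app (𝟙_ (FObj A)) ≫
        inv (Ψ'.map (homMk (FHom.eta X))) := by
      rw [← Category.assoc, IsIso.eq_comp_inv]
      exact h2.symm
    calc (θ.app X ⊗ₘ θ.app X.inv)
        = ((θ.app X ⊗ₘ θ.app X.inv) ≫ μ Ψ' X X.inv) ≫ inv (μ Ψ' X X.inv) := by
          rw [Category.assoc, IsIso.hom_inv_id, Category.comp_id]
      _ = (μ Ψ X X.inv ≫ θ.app (X ⊗ X.inv)) ≫ inv (μ Ψ' X X.inv) := by rw [h1]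
      _ = _ := by rw [h2']; simp only [Category.assoc]; rfl

end Groth.Agent.R2.H71.PicFree
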