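import Mathlib
import Groth.Prelude.Def_W4c2arithlefschetzNode
import Groth.Agent.R2.H71Length

/-!
# Fixed-point ideals of endomorphisms of `B[[X]]`, and lengths under surjections (helper71)
-/

set_option autoImplicit false
universe u

namespace Groth.Agent.R2.H71.PS

open PowerSeries ArLef

section Fix

variable {B : Type u} [CommRing B]

theorem span_X_le_jacobson :
    Ideal.span ({X} : Set (PowerSeries B)) ≤ Ideal.jacobson ⊥ := by
  intro x hx
  rw [Ideal.mem_span_singleton'] at hx
  obtain ⟨a, rfl⟩ := hx
  rw [Ideal.mem_jacobson_bot]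
  intro y
  rw [PowerSeries.isUnit_iff_constantCoeff]
  simp

/-- The fixed-point ideal of an endomorphism of `B[[X]]` is generated by the differences on `B` and `X`
(Nakayama). -/
theorem fixIdeal_le [IsNoetherianRing B] (σ : PowerSeries B →+* PowerSeries B)
    (J : Ideal (PowerSeries B))
    (hB : ∀ b : B, σ (algebraMap B (PowerSeries B) b) - algebraMap B (PowerSeries B) b ∈ J)
    (hX : σ X - X ∈ J) : fixIdeal σ ≤ J := by
  apply Submodule.le_of_le_smul_of_le_jacobson_bot (I := Ideal.span ({X} : Set (PowerSeries B)))
  · exact IsNoetherian.noetherian _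
  · exact span_X_le_jacobson
  · rw [fixIdeal, Ideal.span_le]
    rintro _ ⟨r, rfl⟩
    have hr := PowerSeries.eq_X_mul_shift_add_const r
    set r1 : PowerSeries B := PowerSeries.mk fun p => coeff (p + 1) r with hr1
    set b : B := PowerSeries.constantCoeff (R := B) r with hb
    have hr1m : σ r1 - r1 ∈ fixIdeal σ := Ideal.subset_span ⟨r1, rfl⟩
    have hXm : (X : PowerSeries B) ∈ Ideal.span ({X} : Set (PowerSeries B)) :=
      Ideal.mem_span_singleton_self _
    have key : σ r - r = ((σ (algebraMap B (PowerSeries B) b) - algebraMap B (PowerSeries B) b) +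
        (σ X - X) * σ r1) + (X : PowerSeries B) • (σ r1 - r1) := by
      conv_lhs => rw [hr]
      simp only [map_add, map_mul, smul_eq_mul, PowerSeries.algebraMap_eq]
      ring
    show σ r - r ∈ J ⊔ _
    rw [key]
    apply Submodule.add_mem_sup
    · exact J.add_mem (hB b) (J.mul_mem_right _ hX)
    · exact Submodule.smul_mem_smul hXm hr1m

end Fix

section Surj

variable {R S : Type u} [CommRing R] [CommRing S] [Algebra R S]

/-- Lengths of quotients by ideals along a surjective ring homomorphism. -/
theorem length_quotient_map (hsurj : Function.Surjective (algebraMap R S)) (I : Ideal R)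
    (hker : RingHom.ker (algebraMap R S) ≤ I) :
    Module.length R (R ⧸ I) = Module.length S (S ⧸ I.map (algebraMap R S)) := by
  rw [← Module.length_eq_of_surjective (S := R) (R := S) (M := S ⧸ I.map (algebraMap R S)) hsurj]
  let g : R →ₗ[R] (S ⧸ I.map (algebraMap R S)) :=
    ((Submodule.mkQ (I.map (algebraMap R S))).restrictScalars R).comp (Algebra.linearMap R S)
  have hg : ∀ r, g r = Submodule.Quotient.mk (algebraMap R S r) := fun r => rfl
  have hI : I ≤ LinearMap.ker g := by
    intro r hr
    rw [LinearMap.mem_ker, hg, Submodule.Quotient.mk_eq_zero]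
    exact Ideal.mem_map_of_mem _ hr
  let f : (R ⧸ I) →ₗ[R] (S ⧸ I.map (algebraMap R S)) := Submodule.liftQ I g hI
  have hf : ∀ r, f (Submodule.Quotient.mk r) = Submodule.Quotient.mk (algebraMap R S r) :=
    fun r => rfl
  refine (LinearEquiv.ofBijective f ⟨?_, ?_⟩).length_eq
  · rw [injective_iff_map_eq_zero]
    intro x hx
    obtain ⟨r, rfl⟩ := Submodule.Quotient.mk_surjective _ x
    rw [hf, Submodule.Quotient.mk_eq_zero] at hx
    rw [Submodule.Quotient.mk_eq_zero]
    have h1 : r ∈ Ideal.comap (algebraMap R S) (I.map (algebraMap R S)) := hx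
    rw [Ideal.comap_map_of_surjective _ hsurj] at h1
    have h2 : I ⊔ Ideal.comap (algebraMap R S) ⊥ ≤ I := sup_le le_rfl hker
    exact h2 h1
  · intro y
    obtain ⟨s, rfl⟩ := Submodule.Quotient.mk_surjective _ y
    obtain ⟨r, rfl⟩ := hsurj s
    exact ⟨Submodule.Quotient.mk r, hf r⟩

end Surj

section DVR

variable {B : Type u} [CommRing B] [IsLocalRing B] {π : B}

/-- The kernel of reduction of coefficients is generated by `π`. -/
theorem map_residue_eq_zero_iff (hmax : IsLocalRing.maximalIdeal B = Ideal.span {π})
    (r : PowerSeries B) :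
    PowerSeries.map (IsLocalRing.residue B) r = 0 ↔ algebraMap B (PowerSeries B) π ∣ r := by
  constructor
  · intro h
    have hc : ∀ n, ∃ c : B, coeff n r = π * c := by
      intro n
      have h1 := congrArg (coeff n) h
      rw [PowerSeries.coeff_map, map_zero, IsLocalRing.residue_eq_zero_iff, hmax,
        Ideal.mem_span_singleton] at h1
      exact h1
    refine ⟨PowerSeries.mk fun n => Classical.choose (hc n), ?_⟩
    ext n
    rw [PowerSeries.algebraMap_eq, PowerSeries.coeff_C_mul, PowerSeries.coeff_mk]
    exact Classical.choose_spec (hc n)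
  · rintro ⟨c, rfl⟩
    have hπm : π ∈ IsLocalRing.maximalIdeal B := hmax ▸ Ideal.mem_span_singleton_self π
    rw [map_mul, PowerSeries.algebraMap_eq, PowerSeries.map_C,
      (IsLocalRing.residue_eq_zero_iff π).mpr hπm, map_zero, zero_mul]

end DVR

end Groth.Agent.R2.H71.PS
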