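import Mathlib
import Groth.Prelude.Def_Tame

/-!
# Tame symbols: local theory (helper71)

The local symbol `theta` in the residue field of a local ring and its independence of the chosen
factorisation (raised to the length of `R/π`).
-/

set_option autoImplicit false
universe u

namespace Groth.Agent.R2.H71.Tame

open IsLocalRing

section Sign

theorem neg_one_pow_mul_self {M : Type*} [Monoid M] [HasDistribNeg M] (s m : ℕ) :
    (-1 : M) ^ (s * m * m) = (-1 : M) ^ (s * m) := by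
  rcases Nat.even_or_odd m with hm | hm
  · rw [Even.neg_one_pow (by simp [hm]), Even.neg_one_pow (by simp [hm])]
  · rcases Nat.even_or_odd s with hs | hs
    · rw [Even.neg_one_pow (by simp [hs]), Even.neg_one_pow (by simp [hs])]
    · rw [Odd.neg_one_pow ((hs.mul hm).mul hm), Odd.neg_one_pow (hs.mul hm)]

end Sign

section Theta

variable (R : Type u) [CommRing R] [IsLocalRing R]

/-- The local symbol `(-1)^{e₁e₂} ū₁^{e₂} ū₂^{-e₁}` in the residue field. -/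
noncomputable def theta (u₁ u₂ : Rˣ) (e₁ e₂ : ℕ) : ResidueField R :=
  (-1 : ResidueField R) ^ (e₁ * e₂) * residue R (u₁ : R) ^ e₂ * (residue R (u₂ : R) ^ e₁)⁻¹

variable {R}

lemma residue_unit_ne_zero (u : Rˣ) : residue R (u : R) ≠ 0 :=
  (residue_ne_zero_iff_isUnit _).mpr u.isUnit

lemma theta_ne_zero (u₁ u₂ : Rˣ) (e₁ e₂ : ℕ) : theta R u₁ u₂ e₁ e₂ ≠ 0 := by
  unfold theta
  have h1 := residue_unit_ne_zero u₁
  have h2 := residue_unit_ne_zero u₂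
  have h3 : (-1 : ResidueField R) ≠ 0 := neg_ne_zero.mpr one_ne_zero
  exact mul_ne_zero (mul_ne_zero (pow_ne_zero _ h3) (pow_ne_zero _ h1))
    (inv_ne_zero (pow_ne_zero _ h2))

/-- `theta ^ m` in terms of `n_i = e_i m`. -/
lemma theta_pow (u₁ u₂ : Rˣ) (e₁ e₂ m : ℕ) :
    theta R u₁ u₂ e₁ e₂ ^ m =
      (-1 : ResidueField R) ^ ((e₁ * m) * (e₂ * m)) * residue R (u₁ : R) ^ (e₂ * m) *
        (residue R (u₂ : R) ^ (e₁ * m))⁻¹ := by
  unfold theta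
  rw [mul_pow, mul_pow, inv_pow, ← pow_mul, ← pow_mul, ← pow_mul]
  have : (-1 : ResidueField R) ^ (e₁ * m * (e₂ * m)) = (-1 : ResidueField R) ^ (e₁ * e₂ * m) := by
    have h := neg_one_pow_mul_self (M := ResidueField R) (e₁ * e₂) m
    rw [← h]
    congr 1
    ring
  rw [this]

/-- Independence of the local symbol (to the power of the order of the parameter) of the
chosen factorisation. -/
theorem theta_pow_eq {a₁ a₂ : R} {π π' : R} (hπ : π ∈ nonZeroDivisors R)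
    (hπ' : π' ∈ nonZeroDivisors R) (hfin : Ring.ord R π ≠ ⊤) (hfin' : Ring.ord R π' ≠ ⊤)
    {u₁ u₂ u₁' u₂' : Rˣ} {e₁ e₂ e₁' e₂' : ℕ}
    (h₁ : a₁ = u₁ * π ^ e₁) (h₂ : a₂ = u₂ * π ^ e₂)
    (h₁' : a₁ = u₁' * π' ^ e₁') (h₂' : a₂ = u₂' * π' ^ e₂') :
    theta R u₁ u₂ e₁ e₂ ^ (Ring.ord R π).toNat =
      theta R u₁' u₂' e₁' e₂' ^ (Ring.ord R π').toNat := by
  obtain ⟨m, hm⟩ := ENat.ne_top_iff_exists.mp hfin
  obtain ⟨m', hm'⟩ := ENat.ne_top_iff_exists.mp hfin'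
  rw [← hm, ← hm', ENat.toNat_natCast, ENat.toNat_natCast]
  -- orders of a₁, a₂
  have ho : ∀ (u : Rˣ) (e : ℕ) (p : R), p ∈ nonZeroDivisors R → ∀ k : ℕ, (k : ℕ∞) = Ring.ord R p →
      Ring.ord R ((u : R) * p ^ e) = ((e * k : ℕ) : ℕ∞) := by
    intro u e p hp k hk
    rw [Ring.ord_mul_of_isUnit_left u.isUnit, Ring.ord_pow hp, ← hk]
    simp
  have hn1 : e₁ * m = e₁' * m' := by
    have := (ho u₁ e₁ π hπ m hm).symm.trans ((congrArg (Ring.ord R) (h₁.symm.trans h₁')).trans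
      (ho u₁' e₁' π' hπ' m' hm'))
    exact_mod_cast this
  have hn2 : e₂ * m = e₂' * m' := by
    have := (ho u₂ e₂ π hπ m hm).symm.trans ((congrArg (Ring.ord R) (h₂.symm.trans h₂')).trans
      (ho u₂' e₂' π' hπ' m' hm'))
    exact_mod_cast this
  rw [theta_pow, theta_pow, ← hn1, ← hn2]
  set n₁ := e₁ * m with hn₁
  set n₂ := e₂ * m with hn₂
  -- key identity of units
  have hE : a₁ ^ n₂ * (u₂ : R) ^ n₁ = a₂ ^ n₁ * (u₁ : R) ^ n₂ := by
    rw [h₁, h₂, mul_pow, mul_pow, ← pow_mul, ← pow_mul]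
    have : e₁ * n₂ = e₂ * n₁ := by rw [hn₁, hn₂]; ring
    rw [this]; ring
  have hE' : a₁ ^ n₂ * (u₂' : R) ^ n₁ = a₂ ^ n₁ * (u₁' : R) ^ n₂ := by
    rw [h₁', h₂', mul_pow, mul_pow, ← pow_mul, ← pow_mul]
    have : e₁' * n₂ = e₂' * n₁ := by rw [hn1, hn2]; ring
    rw [this]; ring
  have ha₂ : a₂ ^ n₁ ∈ nonZeroDivisors R := by
    apply pow_mem
    rw [h₂]
    exact mul_mem (IsUnit.mem_nonZeroDivisors u₂.isUnit) (pow_mem hπ _)
  have hU : (u₁ : R) ^ n₂ * (u₂' : R) ^ n₁ = (u₁' : R) ^ n₂ * (u₂ : R) ^ n₁ := by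
    have h3 : a₂ ^ n₁ * ((u₁ : R) ^ n₂ * (u₂' : R) ^ n₁) =
        a₂ ^ n₁ * ((u₁' : R) ^ n₂ * (u₂ : R) ^ n₁) := by
      calc a₂ ^ n₁ * ((u₁ : R) ^ n₂ * (u₂' : R) ^ n₁)
          = (a₂ ^ n₁ * (u₁ : R) ^ n₂) * (u₂' : R) ^ n₁ := by ring
        _ = (a₁ ^ n₂ * (u₂ : R) ^ n₁) * (u₂' : R) ^ n₁ := by rw [hE]
        _ = (a₁ ^ n₂ * (u₂' : R) ^ n₁) * (u₂ : R) ^ n₁ := by ring
        _ = (a₂ ^ n₁ * (u₁' : R) ^ n₂) * (u₂ : R) ^ n₁ := by rw [hE']
        _ = a₂ ^ n₁ * ((u₁' : R) ^ n₂ * (u₂ : R) ^ n₁) := by ring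
    have h4 : a₂ ^ n₁ * ((u₁ : R) ^ n₂ * (u₂' : R) ^ n₁ - (u₁' : R) ^ n₂ * (u₂ : R) ^ n₁) = 0 := by
      rw [mul_sub, h3, sub_self]
    exact sub_eq_zero.mp ((mem_nonZeroDivisors_iff.mp ha₂).1 _ h4)
  have hUres := congrArg (residue R) hU
  simp only [map_mul, map_pow] at hUres
  have hu2 := pow_ne_zero n₁ (residue_unit_ne_zero u₂)
  have hu2' := pow_ne_zero n₁ (residue_unit_ne_zero u₂')
  have hfinal : residue R (u₁ : R) ^ n₂ * (residue R (u₂ : R) ^ n₁)⁻¹ =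
      residue R (u₁' : R) ^ n₂ * (residue R (u₂' : R) ^ n₁)⁻¹ := by
    rw [← div_eq_mul_inv, ← div_eq_mul_inv, div_eq_div_iff hu2 hu2']
    exact hUres
  rw [mul_assoc, hfinal, ← mul_assoc]

/-- Compatibility of `theta` with local homomorphisms. -/
lemma theta_map {R' : Type u} [CommRing R'] [IsLocalRing R'] (ψ : R →+* R') [IsLocalHom ψ]
    (u₁ u₂ : Rˣ) (e₁ e₂ : ℕ) :
    ResidueField.map ψ (theta R u₁ u₂ e₁ e₂) =
      theta R' (Units.map ψ.toMonoidHom u₁) (Units.map ψ.toMonoidHom u₂) e₁ e₂ := by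
  unfold theta
  simp only [map_mul, map_pow, map_inv₀, map_neg, map_one, ResidueField.map_residue]
  rfl

end Theta

end Groth.Agent.R2.H71.Tame
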