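import Groth.Agent.R2.H71Tame9

/-!
# Localising a finite extension at a maximal ideal of the base (helper71)
-/

set_option autoImplicit false
set_option linter.style.haveILetI false
set_option linter.unusedSectionVars false
universe u

namespace Groth.Agent.R2.H71.Tame

open IsLocalRing CycAlg Groth.Agent.R2.H71.Blow

section LocExt

variable {B : Type u} [CommRing B] (C : Type u) [CommRing C] [Algebra B C]

/-- The localisation of the `B`-algebra `C` at the complement of a maximal ideal `q` of `B`. -/
abbrev LocExt (q : MaximalSpectrum B) : Type u :=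
  Localization (Algebra.algebraMapSubmonoid C q.asIdeal.primeCompl)

variable {C}
variable [Algebra.IsIntegral B C] (q : MaximalSpectrum B)

lemma comap_locExt_comap (s : Ideal (LocExt C q)) :
    (s.comap (algebraMap C (LocExt C q))).comap (algebraMap B C) =
      (s.comap (algebraMap (Localization.AtPrime q.asIdeal) (LocExt C q))).comap
        (algebraMap B (Localization.AtPrime q.asIdeal)) := by
  rw [Ideal.comap_comap, Ideal.comap_comap, ← IsScalarTower.algebraMap_eq,
    ← IsScalarTower.algebraMap_eq]

/-- The maximal ideal of `C` under a maximal ideal of `C_q`. -/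
noncomputable def comapMax [Module.Finite B C] (s : MaximalSpectrum (LocExt C q)) :
    MaximalSpectrum C :=
  ⟨s.asIdeal.comap (algebraMap C (LocExt C q)), by
    haveI := s.isMaximal
    haveI := q.isMaximal
    haveI : Algebra.IsIntegral (Localization.AtPrime q.asIdeal) (LocExt C q) :=
      Algebra.IsIntegral.of_finite _ _
    haveI : (s.asIdeal.comap (algebraMap C (LocExt C q))).IsPrime := Ideal.comap_isPrime _ _
    apply Ideal.isMaximal_of_isIntegral_of_isMaximal_comap (R := B)
    rw [comap_locExt_comap]
    have h1 : s.asIdeal.comap (algebraMap (Localization.AtPrime q.asIdeal) (LocExt C q)) =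
        maximalIdeal (Localization.AtPrime q.asIdeal) :=
      IsLocalRing.eq_maximalIdeal (Ideal.isMaximal_comap_of_isIntegral_of_isMaximal s.asIdeal)
    rw [h1]
    have h2 := Localization.AtPrime.under_maximalIdeal (I := q.asIdeal)
    rw [Ideal.under_def] at h2
    rw [h2]
    exact q.isMaximal⟩

lemma under_comapMax [Module.Finite B C] (s : MaximalSpectrum (LocExt C q)) :
    under (B := B) (comapMax q s) = q := by
  haveI := s.isMaximal
  haveI := q.isMaximal
  haveI : Algebra.IsIntegral (Localization.AtPrime q.asIdeal) (LocExt C q) :=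
    Algebra.IsIntegral.of_finite _ _
  apply MaximalSpectrum.ext
  change (s.asIdeal.comap (algebraMap C (LocExt C q))).comap (algebraMap B C) = q.asIdeal
  rw [comap_locExt_comap]
  have h1 : s.asIdeal.comap (algebraMap (Localization.AtPrime q.asIdeal) (LocExt C q)) =
      maximalIdeal (Localization.AtPrime q.asIdeal) :=
    IsLocalRing.eq_maximalIdeal (Ideal.isMaximal_comap_of_isIntegral_of_isMaximal s.asIdeal)
  rw [h1]
  have h2 := Localization.AtPrime.under_maximalIdeal (I := q.asIdeal)
  rwa [Ideal.under_def] at h2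

lemma comapMax_injective [Module.Finite B C] : Function.Injective (comapMax (C := C) q) := by
  intro s s' h
  apply MaximalSpectrum.ext
  have h1 := congrArg MaximalSpectrum.asIdeal h
  change s.asIdeal.comap (algebraMap C (LocExt C q)) = s'.asIdeal.comap (algebraMap C (LocExt C q))
    at h1
  rw [← IsLocalization.map_under (Algebra.algebraMapSubmonoid C q.asIdeal.primeCompl)
      (LocExt C q) s.asIdeal,
    ← IsLocalization.map_under (Algebra.algebraMapSubmonoid C q.asIdeal.primeCompl)
      (LocExt C q) s'.asIdeal, Ideal.under_def, Ideal.under_def, h1]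

lemma comapMax_surjective [Module.Finite B C] (r : MaximalSpectrum C) (hr : under (B := B) r = q) :
    ∃ s : MaximalSpectrum (LocExt C q), comapMax q s = r := by
  haveI := r.isMaximal
  set T := Algebra.algebraMapSubmonoid C q.asIdeal.primeCompl with hT
  have hdis : Disjoint (T : Set C) (r.asIdeal : Set C) := by
    rw [Set.disjoint_left]
    rintro x ⟨b, hb, rfl⟩ hx
    apply hb
    have : b ∈ (under (B := B) r).asIdeal := hx
    rwa [hr] at this
  have hprime : (r.asIdeal.map (algebraMap C (LocExt C q))).IsPrime :=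
    IsLocalization.isPrime_of_isPrime_disjoint T (LocExt C q) r.asIdeal r.isMaximal.isPrime hdis
  have hcomap : (r.asIdeal.map (algebraMap C (LocExt C q))).comap (algebraMap C (LocExt C q)) =
      r.asIdeal := by
    have := IsLocalization.under_map_of_isPrime_disjoint T (LocExt C q) r.isMaximal.isPrime hdis
    rwa [Ideal.under_def] at this
  obtain ⟨𝔫, h𝔫, hle⟩ := Ideal.exists_le_maximal _ hprime.ne_top
  have h1 : r.asIdeal ≤ 𝔫.comap (algebraMap C (LocExt C q)) := by
    rw [← hcomap]; exact Ideal.comap_mono hle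
  have h2 : 𝔫.comap (algebraMap C (LocExt C q)) ≠ ⊤ := by
    haveI := h𝔫.isPrime
    exact (Ideal.comap_isPrime (algebraMap C (LocExt C q)) 𝔫).ne_top
  have h3 : r.asIdeal = 𝔫.comap (algebraMap C (LocExt C q)) := r.isMaximal.eq_of_le h2 h1
  exact ⟨⟨𝔫, h𝔫⟩, MaximalSpectrum.ext h3.symm⟩

end LocExt

section Dim

variable {R : Type u} [CommRing R] [IsLocalRing R]

/-- A local ring of Krull dimension `≤ 1` containing a nonunit nonzerodivisor has dimension `1`. -/
lemma ringKrullDim_eq_one_of_nzd [Ring.KrullDimLE 1 R] {x : R} (hx : x ∈ nonZeroDivisors R)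
    (hxm : x ∈ maximalIdeal R) : ringKrullDim R = 1 := by
  have h1 : ringKrullDim R ≤ 1 := by
    have : Order.krullDim (PrimeSpectrum R) ≤ ((1 : ℕ) : WithBot ℕ∞) := Order.KrullDimLE.krullDim_le
    exact_mod_cast this
  have h0 : ¬ ringKrullDim R ≤ 0 := by
    intro h
    haveI : Ring.KrullDimLE 0 R := by
      rw [Ring.KrullDimLE, Order.krullDimLE_iff]
      exact_mod_cast h
    obtain ⟨k, hk⟩ := (Ring.KrullDimLE.isNilpotent_iff_mem_maximalIdeal (R := R)).mpr hxm
    have h2 : x ^ k ∈ nonZeroDivisors R := pow_mem hx k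
    rw [hk] at h2
    exact zero_notMem_nonZeroDivisors h2
  have h2 : (0 : WithBot ℕ∞) ≤ ringKrullDim R := ringKrullDim_nonneg_of_nontrivial
  -- case analysis in `WithBot ℕ∞`
  generalize ringKrullDim R = d at h1 h0 h2
  induction d using WithBot.recBotCoe with
  | bot => simp at h2
  | coe d =>
    induction d using ENat.recTopCoe with
    | top =>
      have h3 : (⊤ : ℕ∞) ≤ 1 := by exact_mod_cast h1
      exact absurd (top_le_iff.mp h3) ENat.one_ne_top
    | coe d =>
      have h1' : d ≤ 1 := by exact_mod_cast h1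
      have h0' : ¬ d ≤ 0 := by
        intro h; apply h0; exact_mod_cast h
      have : d = 1 := by omega
      subst this
      rfl

end Dim

section FinExtLoc

variable {B : Type u} [CommRing B] {C : Type u} [CommRing C] [Algebra B C]
  (q : MaximalSpectrum B)

lemma exists_denom_locExt (hBC : GoodExt B C) :
    ∃ d' ∈ nonZeroDivisors (Localization.AtPrime q.asIdeal), ∀ e : LocExt C q,
      ∃ x : Localization.AtPrime q.asIdeal,
        algebraMap (Localization.AtPrime q.asIdeal) (LocExt C q) x =
          algebraMap (Localization.AtPrime q.asIdeal) (LocExt C q) d' * e := by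
  obtain ⟨d, hd, hd'⟩ := hBC.denom
  refine ⟨algebraMap B _ d, IsLocalization.map_nonZeroDivisors_le q.asIdeal.primeCompl _
    ⟨d, hd, rfl⟩, fun e => ?_⟩
  obtain ⟨⟨c, t⟩, rfl⟩ := IsLocalization.mk'_surjective
    (Algebra.algebraMapSubmonoid C q.asIdeal.primeCompl) e
  obtain ⟨s, hs, hst⟩ := t.2
  obtain ⟨b, hb⟩ := hd' c
  refine ⟨IsLocalization.mk' _ b ⟨s, hs⟩, ?_⟩
  rw [IsLocalization.algebraMap_mk' (S := C) (Rₘ := Localization.AtPrime q.asIdeal)
    (Sₘ := LocExt C q), hb]
  have ht : (⟨algebraMap B C s, Algebra.mem_algebraMapSubmonoid_of_mem ⟨s, hs⟩⟩ :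
      Algebra.algebraMapSubmonoid C q.asIdeal.primeCompl) = t := Subtype.ext hst
  rw [ht, ← IsScalarTower.algebraMap_apply B (Localization.AtPrime q.asIdeal) (LocExt C q),
    IsScalarTower.algebraMap_apply B C (LocExt C q)]
  exact (IsLocalization.mul_mk'_eq_mk'_of_mul _ _ _).symm

variable [IsNoetherianRing B]

lemma isFinExt_locExt (hBC : GoodExt B C)
    (hdim : ringKrullDim (Localization.AtPrime q.asIdeal) = 1) :
    IsFinExt (Localization.AtPrime q.asIdeal) (LocExt C q)
      (maximalIdeal (Localization.AtPrime q.asIdeal)) := by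
  haveI := hBC.fin
  refine ⟨localizationAlgebra_injective _ _ hBC.inj, inferInstance, ?_⟩
  obtain ⟨d', hd', hden⟩ := exists_denom_locExt q hBC
  obtain ⟨n, hn⟩ := exists_pow_maximalIdeal_le_span (Localization.AtPrime q.asIdeal) hdim hd'
  refine ⟨n, fun r hr e => ?_⟩
  obtain ⟨c, hc⟩ := Ideal.mem_span_singleton'.mp (hn hr)
  obtain ⟨x, hx⟩ := hden e
  refine ⟨c * x, ?_⟩
  rw [map_mul, hx, Algebra.smul_def, ← hc, map_mul]; ring

end FinExtLoc

section Transport

lemma length_self_ringEquiv {S S' : Type u} [CommRing S] [CommRing S'] (ψ : S ≃+* S') :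
    Module.length S S = Module.length S' S' := by
  apply WithBot.coe_injective
  rw [Module.coe_length, Module.coe_length]
  exact Order.krullDim_eq_of_orderIso ψ.idealComapOrderIso.symm

/-- The order of vanishing is invariant under ring isomorphisms. -/
lemma ord_ringEquiv {L L' : Type u} [CommRing L] [CommRing L'] (φ : L ≃+* L') (x : L) :
    Ring.ord L' (φ x) = Ring.ord L x := by
  unfold Ring.ord
  rw [Module.length_eq_of_surjective (S := L) (R := L ⧸ Ideal.span {x})
      (M := L ⧸ Ideal.span {x}) Ideal.Quotient.mk_surjective,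
    Module.length_eq_of_surjective (S := L') (R := L' ⧸ Ideal.span {φ x})
      (M := L' ⧸ Ideal.span {φ x}) Ideal.Quotient.mk_surjective]
  have hI : Ideal.span {φ x} = (Ideal.span {x}).map (φ : L →+* L') := by
    rw [Ideal.map_span, Set.image_singleton]; rfl
  exact (length_self_ringEquiv (Ideal.quotientEquiv _ _ φ hI)).symm

lemma mem_nonZeroDivisors_ringEquiv {L L' : Type u} [CommRing L] [CommRing L'] (φ : L ≃+* L')
    {x : L} (hx : x ∈ nonZeroDivisors L) : φ x ∈ nonZeroDivisors L' := by
  rw [mem_nonZeroDivisors_iff_right] at hx ⊢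
  intro y hy
  have h1 : φ.symm y * x = 0 := by
    apply φ.injective
    rw [map_mul, φ.apply_symm_apply, hy, map_zero]
  have := hx _ h1
  rw [← φ.apply_symm_apply y, this, map_zero]

instance isLocalHom_ringEquiv_toRingHom {L L' : Type u} [CommRing L] [CommRing L']
    (φ : L ≃+* L') : IsLocalHom φ.toRingHom :=
  ⟨fun a ha => by
    have h := ha.map φ.symm.toRingHom
    simpa using h⟩

variable {R : Type u} [CommRing R] [IsNoetherianRing R] [IsLocalRing R]

/-- The tame symbol of a one-dimensional local ring computed from a finite extension `E` whose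
localisations at maximal ideals are identified with local rings `L s` carrying factorisations. -/
theorem tameSymbol_eq_prod_of_iso (hR : ringKrullDim R = 1) {x y : R}
    (hx : x ∈ nonZeroDivisors R) (hy : y ∈ nonZeroDivisors R)
    (E : Type u) [CommRing E] [Algebra R E] (hE : IsFinExt R E (maximalIdeal R))
    [Fintype (MaximalSpectrum E)]
    [hloc : ∀ s : MaximalSpectrum E, IsLocalHom (algebraMap R (Localization.AtPrime s.asIdeal))]
    (L : MaximalSpectrum E → Type u) [∀ s, CommRing (L s)] [∀ s, IsLocalRing (L s)]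
    (φ : ∀ s, L s ≃+* Localization.AtPrime s.asIdeal)
    (π : ∀ s, L s) (hπ : ∀ s, π s ∈ nonZeroDivisors (L s))
    (u w : ∀ s, (L s)ˣ) (e f : MaximalSpectrum E → ℕ)
    (hfx : ∀ s, algebraMap R (Localization.AtPrime s.asIdeal) x =
      φ s ((u s : L s) * π s ^ e s))
    (hfy : ∀ s, algebraMap R (Localization.AtPrime s.asIdeal) y =
      φ s ((w s : L s) * π s ^ f s)) :
    tameSymbol R x y = ∏ s : MaximalSpectrum E,
      Algebra.norm (ResidueField R) (ResidueField.map (φ s).toRingHom
        (theta (L s) (u s) (w s) (e s) (f s))) ^ (Ring.ord (L s) (π s)).toNat := by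
  let D : TameData R x y :=
    { B := E
      isFinExt := hE
      isLocalHom := hloc
      π := fun s => φ s (π s)
      π_mem := fun s => mem_nonZeroDivisors_ringEquiv (φ s) (hπ s)
      u₁ := fun s => Units.map (φ s).toRingHom.toMonoidHom (u s)
      u₂ := fun s => Units.map (φ s).toRingHom.toMonoidHom (w s)
      e₁ := e
      e₂ := f
      fac₁ := fun s => by rw [hfx s, map_mul, map_pow]; rfl
      fac₂ := fun s => by rw [hfy s, map_mul, map_pow]; rfl }
  rw [tameSymbol_eq_value hR hx hy D]
  change (∏ᶠ s : MaximalSpectrum E, D.localFactor s) = _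
  rw [finprod_eq_prod_of_fintype]
  apply Finset.prod_congr rfl
  intro s _
  rw [localFactor_eq_TameG]
  unfold TameG
  change Algebra.norm (ResidueField R) (theta (Localization.AtPrime s.asIdeal)
    (Units.map (φ s).toRingHom.toMonoidHom (u s)) (Units.map (φ s).toRingHom.toMonoidHom (w s))
    (e s) (f s)) ^ (Ring.ord (Localization.AtPrime s.asIdeal) (φ s (π s))).toNat = _
  rw [← theta_map (φ s).toRingHom, ord_ringEquiv]

end Transport

end Groth.Agent.R2.H71.Tame
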