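import Groth.Agent.R2.H71Tame10

/-!
# The tame symbol as a product of norms of local tame symbols (helper71)
-/

set_option autoImplicit false
set_option linter.style.haveILetI false
set_option linter.unusedSectionVars false
universe u

namespace Groth.Agent.R2.H71.Tame

open IsLocalRing CycAlg Groth.Agent.R2.H71.Blow

section UnitCase

variable {R : Type u} [CommRing R] [IsLocalRing R]

lemma tameSymbol_eq_one_of_isUnit {x y : R} (hx : IsUnit x) (hy : IsUnit y) :
    tameSymbol R x y = 1 := by
  unfold tameSymbol
  split_ifs with h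
  · exact value_eq_one_of_isUnit _ hx hy
  · rfl

end UnitCase

section Ass

variable {A : Type u} [CommRing A] [IsNoetherianRing A] [IsLocalRing A]
  {B : Type u} [CommRing B] [Algebra A B]

/-- If the maximal ideal is not an associated prime of the finite `A`-module `B`, nonzerodivisors
of `A` stay nonzerodivisors in `B`. -/
lemma algebraMap_mem_nonZeroDivisors_of_not_ass (hA : ringKrullDim A = 1) [Module.Finite A B]
    (hass : maximalIdeal A ∉ associatedPrimes A B) {x : A} (hx : x ∈ nonZeroDivisors A) :
    algebraMap A B x ∈ nonZeroDivisors B := by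
  by_contra hcon
  have hnr : ¬ IsSMulRegular B x := by
    intro hreg
    apply hcon
    rw [mem_nonZeroDivisors_iff_right]
    intro b hb
    apply hreg
    change x • b = x • 0
    rw [smul_zero, Algebra.smul_def, mul_comm]
    exact hb
  have hmem : x ∈ ({r : A | IsSMulRegular B r})ᶜ := hnr
  rw [← biUnion_associatedPrimes_eq_compl_regular A B] at hmem
  simp only [Set.mem_iUnion, SetLike.mem_coe, exists_prop] at hmem
  obtain ⟨p, hp, hxp⟩ := hmem
  haveI : p.IsPrime := hp.isPrime
  have := prime_eq_maximalIdeal_of_mem A hA hx p hxp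
  exact hass (this ▸ hp)

end Ass

section LocalNorm

variable {A : Type u} [CommRing A] [IsNoetherianRing A] [IsLocalRing A]
  {B : Type u} [CommRing B] [Algebra A B]

instance isScalarTower_locExt (C : Type u) [CommRing C] [Algebra A C] [Algebra B C]
    [IsScalarTower A B C] (q : MaximalSpectrum B) :
    IsScalarTower A (Localization.AtPrime q.asIdeal) (LocExt C q) :=
  IsScalarTower.of_algebraMap_eq fun x => by
    rw [IsScalarTower.algebraMap_apply A C (LocExt C q),
      IsScalarTower.algebraMap_apply A B (Localization.AtPrime q.asIdeal),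
      ← IsScalarTower.algebraMap_apply B (Localization.AtPrime q.asIdeal) (LocExt C q),
      IsScalarTower.algebraMap_apply B C (LocExt C q), ← IsScalarTower.algebraMap_apply A B C]

variable {n : ℕ} {a : Fin n → A}

/-- The local factor of the tame symbol of `(a i, a j)` at a maximal ideal of `F.B`. -/
noncomputable def FacData.g (F : FacData A a) (i j : Fin n) (r : MaximalSpectrum F.B) :
    ResidueField A :=
  F.G r (F.v i r) (F.v j r) (F.e i r) (F.e j r) ^ F.m r

lemma residueField_map_eq_mapAlgEquiv' {L L' : Type u} [CommRing L] [CommRing L'] [IsLocalRing L]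
    [IsLocalRing L'] [Algebra A L] [Algebra A L'] [IsLocalHom (algebraMap A L)]
    [IsLocalHom (algebraMap A L')] (e : L ≃ₐ[A] L') (x : ResidueField L) :
    ResidueField.map e.toRingEquiv.toRingHom x = ResidueField.mapAlgEquiv' e x := by
  obtain ⟨y, rfl⟩ := residue_surjective x
  rfl

theorem norm_tameSymbol_locExt (hA : ringKrullDim A = 1) (ha : ∀ i, a i ∈ nonZeroDivisors A)
    (F : FacData A a) [Algebra B F.B] [IsScalarTower A B F.B]
    (hAB : GoodExt A B) (hBC : GoodExt B F.B) (q : MaximalSpectrum B)
    [Fintype (MaximalSpectrum (LocExt F.B q))]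
    [IsLocalHom (algebraMap A (Localization.AtPrime q.asIdeal))] (i j : Fin n)
    (hnu : ∃ k, ¬ IsUnit (a k)) :
    haveI := hBC.fin
    Algebra.norm (ResidueField A) (tameSymbol (Localization.AtPrime q.asIdeal)
      (algebraMap A (Localization.AtPrime q.asIdeal) (a i))
      (algebraMap A (Localization.AtPrime q.asIdeal) (a j))) =
      ∏ s : MaximalSpectrum (LocExt F.B q), F.g i j (comapMax q s) := by
  haveI := hAB.fin
  haveI := hBC.fin
  haveI : IsNoetherianRing B := isNoetherianRing_of_finite (A := A)
  haveI : Algebra.IsIntegral B F.B := Algebra.IsIntegral.of_finite B F.B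
  haveI := q.isMaximal
  -- nonzerodivisors in the localisation
  have hnz : ∀ k, algebraMap A (Localization.AtPrime q.asIdeal) (a k) ∈
      nonZeroDivisors (Localization.AtPrime q.asIdeal) := by
    intro k
    rw [IsScalarTower.algebraMap_apply A B (Localization.AtPrime q.asIdeal)]
    exact IsLocalization.map_nonZeroDivisors_le q.asIdeal.primeCompl _
      ⟨_, hAB.nzd _ (ha k), rfl⟩
  obtain ⟨k, hk⟩ := hnu
  haveI := krullDimLE_one_localization hA q
  have hdim : ringKrullDim (Localization.AtPrime q.asIdeal) = 1 :=
    ringKrullDim_eq_one_of_nzd (hnz k) ((IsLocalRing.mem_maximalIdeal _).mpr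
      (fun hu => hk (isUnit_of_map_unit (algebraMap A (Localization.AtPrime q.asIdeal)) _ hu)))
  have hE := isFinExt_locExt q hBC hdim
  haveI : Algebra.IsIntegral (Localization.AtPrime q.asIdeal) (LocExt F.B q) :=
    Algebra.IsIntegral.of_finite _ _
  haveI hloc' : ∀ s : MaximalSpectrum (LocExt F.B q),
      IsLocalHom (algebraMap (Localization.AtPrime q.asIdeal) (Localization.AtPrime s.asIdeal)) :=
    fun s => isLocalHom_of_integral s
  let φ : ∀ s : MaximalSpectrum (LocExt F.B q),
      Localization.AtPrime (comapMax q s).asIdeal ≃ₐ[F.B] Localization.AtPrime s.asIdeal :=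
    fun s => IsLocalization.localizationLocalizationAtPrimeIsoLocalization
      (Algebra.algebraMapSubmonoid F.B q.asIdeal.primeCompl) s.asIdeal
  have hfac : ∀ (k : Fin n) (s : MaximalSpectrum (LocExt F.B q)),
      algebraMap (Localization.AtPrime q.asIdeal) (Localization.AtPrime s.asIdeal)
        (algebraMap A (Localization.AtPrime q.asIdeal) (a k)) =
      (φ s).toRingEquiv ((F.v k (comapMax q s) : Localization.AtPrime (comapMax q s).asIdeal) *
        F.π (comapMax q s) ^ F.e k (comapMax q s)) := by
    intro k s
    rw [← F.fac k (comapMax q s),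
      IsScalarTower.algebraMap_apply A F.B (Localization.AtPrime (comapMax q s).asIdeal)]
    change _ = (φ s) (algebraMap F.B _ (algebraMap A F.B (a k)))
    rw [(φ s).commutes,
      ← IsScalarTower.algebraMap_apply A (Localization.AtPrime q.asIdeal)
        (Localization.AtPrime s.asIdeal),
      IsScalarTower.algebraMap_apply A F.B (Localization.AtPrime s.asIdeal)]
  have key := tameSymbol_eq_prod_of_iso hdim (hnz i) (hnz j) (LocExt F.B q) hE
    (L := fun s => Localization.AtPrime (comapMax q s).asIdeal)
    (fun s => (φ s).toRingEquiv) (fun s => F.π (comapMax q s))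
    (fun s => F.π_mem (comapMax q s)) (fun s => F.v i (comapMax q s))
    (fun s => F.v j (comapMax q s)) (fun s => F.e i (comapMax q s))
    (fun s => F.e j (comapMax q s)) (hfac i) (hfac j)
  rw [key, map_prod]
  apply Finset.prod_congr rfl
  intro s _
  rw [map_pow]
  unfold FacData.g FacData.G FacData.m
  congr 1
  haveI := F.isLocalHom (comapMax q s)
  haveI : IsLocalHom (algebraMap A (Localization.AtPrime s.asIdeal)) := by
    rw [IsScalarTower.algebraMap_eq A (Localization.AtPrime q.asIdeal)
      (Localization.AtPrime s.asIdeal)]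
    exact RingHom.isLocalHom_comp _ _
  rw [Algebra.norm_norm]
  let e' : Localization.AtPrime (comapMax q s).asIdeal ≃ₐ[A] Localization.AtPrime s.asIdeal :=
    (φ s).restrictScalars A
  have h1 := residueField_map_eq_mapAlgEquiv' e'
    (theta (Localization.AtPrime (comapMax q s).asIdeal) (F.v i (comapMax q s))
      (F.v j (comapMax q s)) (F.e i (comapMax q s)) (F.e j (comapMax q s)))
  have h3 : ResidueField.map (φ s).toRingEquiv.toRingHom
      (theta (Localization.AtPrime (comapMax q s).asIdeal) (F.v i (comapMax q s))
        (F.v j (comapMax q s)) (F.e i (comapMax q s)) (F.e j (comapMax q s))) =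
      ResidueField.mapAlgEquiv' e'
        (theta (Localization.AtPrime (comapMax q s).asIdeal) (F.v i (comapMax q s))
          (F.v j (comapMax q s)) (F.e i (comapMax q s)) (F.e j (comapMax q s))) := h1
  rw [h3, Algebra.norm_eq_of_algEquiv]

end LocalNorm

section GlobalNorm

variable {A : Type u} [CommRing A] [IsNoetherianRing A] [IsLocalRing A]

/-- **The tame symbol is the product of the norms of the local tame symbols of a finite
extension.** -/
theorem tameSymbol_eq_finprod_norm (hA : ringKrullDim A = 1) (B : Type u) [CommRing B]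
    [Algebra A B] (hB : IsFinExt A B (maximalIdeal A))
    (hass : maximalIdeal A ∉ associatedPrimes A B)
    [hloc : ∀ q : MaximalSpectrum B, IsLocalHom (algebraMap A (Localization.AtPrime q.asIdeal))]
    {x y : A} (hx : x ∈ nonZeroDivisors A) (hy : y ∈ nonZeroDivisors A) :
    tameSymbol A x y = ∏ᶠ q : MaximalSpectrum B, Algebra.norm (ResidueField A)
      (tameSymbol (Localization.AtPrime q.asIdeal)
        (algebraMap A (Localization.AtPrime q.asIdeal) x)
        (algebraMap A (Localization.AtPrime q.asIdeal) y)) := by
  classical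
  haveI : Module.Finite A B := hB.2.1
  by_cases hu : IsUnit x ∧ IsUnit y
  · rw [tameSymbol_eq_one_of_isUnit hu.1 hu.2]
    symm
    rw [finprod_congr (fun q => by
      rw [tameSymbol_eq_one_of_isUnit (hu.1.map _) (hu.2.map _), map_one]), finprod_one]
  · have ha : ∀ i, (![x, y] : Fin 2 → A) i ∈ nonZeroDivisors A := by
      intro i; fin_cases i <;> simpa
    have hnu : ∃ k, ¬ IsUnit ((![x, y] : Fin 2 → A) k) := by
      rcases not_and_or.mp hu with h | h
      · exact ⟨0, h⟩
      · exact ⟨1, h⟩
    have hAB : GoodExt A B := by
      rcases not_and_or.mp hu with h | h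
      · exact goodExt_of_isFinExt hB hx h (algebraMap_mem_nonZeroDivisors_of_not_ass hA hass hx)
      · exact goodExt_of_isFinExt hB hy h (algebraMap_mem_nonZeroDivisors_of_not_ass hA hass hy)
    obtain ⟨F, algB, -, tB, -, gB, -⟩ := exists_common_facData hA hAB hAB ![x, y] ha
    letI := algB
    haveI := tB
    haveI := gB.fin
    haveI : Algebra.IsIntegral B F.B := Algebra.IsIntegral.of_finite B F.B
    have hB1 : OneDim B := OneDim.of_goodExt hAB (oneDim_of_local A hA)
    haveI := hB1.fin_max
    haveI := F.finite_maximalSpectrum hA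
    haveI : Fintype (MaximalSpectrum B) := Fintype.ofFinite _
    haveI : Fintype (MaximalSpectrum F.B) := Fintype.ofFinite _
    haveI : ∀ q : MaximalSpectrum B, Finite (MaximalSpectrum (LocExt F.B q)) := fun q =>
      Finite.of_injective (comapMax q) (comapMax_injective q)
    haveI : ∀ q : MaximalSpectrum B, Fintype (MaximalSpectrum (LocExt F.B q)) := fun q =>
      Fintype.ofFinite _
    rw [finprod_eq_prod_of_fintype]
    have h1 := tameSymbol_eq_prod hA ha F 0 1
    have h2 : ∀ q : MaximalSpectrum B, Algebra.norm (ResidueField A)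
        (tameSymbol (Localization.AtPrime q.asIdeal)
          (algebraMap A (Localization.AtPrime q.asIdeal) x)
          (algebraMap A (Localization.AtPrime q.asIdeal) y)) =
        ∏ s : MaximalSpectrum (LocExt F.B q), F.g 0 1 (comapMax q s) := fun q =>
      norm_tameSymbol_locExt hA ha F hAB gB q 0 1 hnu
    rw [Finset.prod_congr rfl (fun q _ => h2 q)]
    refine h1.trans ?_
    change ∏ r : MaximalSpectrum F.B, F.g 0 1 r = _
    rw [← Finset.prod_fiberwise Finset.univ (fun r : MaximalSpectrum F.B => under (B := B) r)]
    apply Finset.prod_congr rfl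
    intro q _
    symm
    apply Finset.prod_nbij (comapMax q)
    · intro s _
      exact Finset.mem_filter.mpr ⟨Finset.mem_univ _, under_comapMax q s⟩
    · intro s _ s' _ h
      exact comapMax_injective q h
    · intro r hr
      obtain ⟨s, hs⟩ := comapMax_surjective q r (Finset.mem_filter.mp hr).2
      exact ⟨s, Finset.mem_coe.mpr (Finset.mem_univ _), hs⟩
    · intro s _
      rfl

end GlobalNorm

end Groth.Agent.R2.H71.Tame
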