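import Mathlib

/-!
# A length formula over semilocal rings (helper71)

For a ring `C` with finitely many maximal ideals, an `R₀`-algebra structure on `C` and a
`C`-module `M` of finite length:
`length_{R₀} M = ∑_r length_{R₀}(C/r) * length_{C_r}(M_r)`.
-/

set_option autoImplicit false
universe u v w v₁ v₂ v₃

namespace Groth.Agent.R2.H71.Tame

open Module

section LocLen

variable {C : Type u} [CommRing C]

/-- The length of the localisation of `M` at the maximal ideal `r`. -/
noncomputable def locLen (r : MaximalSpectrum C) (M : Type v) [AddCommGroup M] [Module C M] : ℕ∞ :=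
  Module.length (Localization.AtPrime r.asIdeal) (LocalizedModule r.asIdeal.primeCompl M)

lemma locLen_add (r : MaximalSpectrum C) {N : Type v₁} {M : Type v₂} {Q : Type v₃}
    [AddCommGroup N] [Module C N]
    [AddCommGroup M] [Module C M] [AddCommGroup Q] [Module C Q]
    (f : N →ₗ[C] M) (g : M →ₗ[C] Q) (hf : Function.Injective f) (hg : Function.Surjective g)
    (hex : Function.Exact f g) : locLen r M = locLen r N + locLen r Q :=
  Module.length_eq_add_of_exact (LocalizedModule.map r.asIdeal.primeCompl f)
    (LocalizedModule.map r.asIdeal.primeCompl g)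
    (LocalizedModule.map_injective _ f hf) (LocalizedModule.map_surjective _ g hg)
    (LocalizedModule.map_exact _ f g hex)

lemma locLen_of_subsingleton (r : MaximalSpectrum C) (M : Type v) [AddCommGroup M] [Module C M]
    [Subsingleton M] : locLen r M = 0 := by
  unfold locLen
  rw [Module.length_eq_zero_iff, LocalizedModule.subsingleton_iff]
  intro m
  exact ⟨1, one_mem _, Subsingleton.elim _ _⟩

lemma locLen_congr (r : MaximalSpectrum C) {M : Type v₁} {M' : Type v₂} [AddCommGroup M] [Module C M]
    [AddCommGroup M'] [Module C M'] (e : M ≃ₗ[C] M') : locLen r M = locLen r M' := by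
  have h0 : locLen r PUnit.{v₁+1} = 0 := locLen_of_subsingleton r _
  have := locLen_add r (0 : PUnit.{v₁+1} →ₗ[C] M) (e : M →ₗ[C] M')
    (fun x y _ => Subsingleton.elim _ _) e.surjective (by
      intro x
      constructor
      · intro hx
        exact ⟨0, by simpa using (e.injective (by simpa using hx)).symm⟩
      · rintro ⟨y, rfl⟩
        simp)
  rw [this, h0, zero_add]

open Classical in
/-- The localisation of `C/m` at a maximal ideal `r`: length `1` if `r = m` and `0` otherwise. -/
lemma locLen_quot_maximal (r₀ r : MaximalSpectrum C) :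
    locLen r (C ⧸ r₀.asIdeal) = if r = r₀ then 1 else 0 := by
  have := r₀.isMaximal
  have := r.isMaximal
  split_ifs with h
  · subst h
    unfold locLen
    rw [Module.length_eq_one_iff]
    set P := r.asIdeal.primeCompl with hP
    set T := LocalizedModule P (C ⧸ r.asIdeal) with hT
    -- elements outside `r` act injectively on `C/r`
    have hinj : ∀ c : C, c ∉ r.asIdeal → ∀ x : C ⧸ r.asIdeal, c • x = 0 → x = 0 := by
      intro c hc x hx
      obtain ⟨y, rfl⟩ := Ideal.Quotient.mk_surjective x
      rw [Algebra.smul_def, Ideal.Quotient.algebraMap_eq, ← map_mul] at hx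
      rw [Ideal.Quotient.eq_zero_iff_mem] at hx ⊢
      exact (r.isMaximal.isPrime.mem_or_mem hx).resolve_left hc
    have hnt : Nontrivial T := by
      refine ⟨LocalizedModule.mk (1 : C ⧸ r.asIdeal) 1, 0, ?_⟩
      intro h0
      rw [← LocalizedModule.zero_mk 1, LocalizedModule.mk_eq] at h0
      obtain ⟨c, hc⟩ := h0
      simp only [one_smul, smul_zero] at hc
      have := hinj c.1 c.2 1 hc
      exact one_ne_zero this
    rw [isSimpleModule_iff]
    have : Nontrivial (Submodule (Localization.AtPrime r.asIdeal) T) :=
      (Submodule.nontrivial_iff _).mpr hnt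
    refine ⟨fun N => ?_⟩
    by_cases hN : N = ⊥
    · exact Or.inl hN
    right
    rw [eq_top_iff]
    -- pick a nonzero element of N
    obtain ⟨t, htN, ht0⟩ := (Submodule.ne_bot_iff N).mp hN
    induction t using LocalizedModule.induction_on with
    | h x s =>
    have hx1 : LocalizedModule.mk x (1 : P) ∈ N := by
      have : LocalizedModule.mk x (1 : P) = (algebraMap C (Localization.AtPrime r.asIdeal) s.1) •
          LocalizedModule.mk x s := by
        rw [algebraMap_smul, LocalizedModule.smul'_mk]
        rw [LocalizedModule.mk_eq]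
        exact ⟨1, by simp [Submonoid.smul_def]⟩
      rw [this]
      exact N.smul_mem _ htN
    have hx0 : x ≠ 0 := by
      rintro rfl
      exact ht0 (LocalizedModule.zero_mk s)
    -- x generates C/r over C
    obtain ⟨x', rfl⟩ := Ideal.Quotient.mk_surjective x
    have hx' : x' ∉ r.asIdeal := fun h => hx0 (Ideal.Quotient.eq_zero_iff_mem.mpr h)
    obtain ⟨y', hy'⟩ := Ideal.Quotient.exists_inv (I := r.asIdeal) (a := Ideal.Quotient.mk _ x')
      (by simpa using hx0)
    intro t _
    induction t using LocalizedModule.induction_on with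
    | h z s' =>
    obtain ⟨z', rfl⟩ := Ideal.Quotient.mk_surjective z
    have : LocalizedModule.mk (Ideal.Quotient.mk r.asIdeal z') s' =
        (Localization.mk (z' * Quotient.out y') s' : Localization.AtPrime r.asIdeal) •
          LocalizedModule.mk (Ideal.Quotient.mk r.asIdeal x') (1 : P) := by
      rw [LocalizedModule.mk_smul_mk, mul_one]
      congr 1
      have hy'' : Ideal.Quotient.mk r.asIdeal (Quotient.out y') = y' := by
        conv_rhs => rw [← Quotient.out_eq y']
        rfl
      rw [Algebra.smul_def, Ideal.Quotient.algebraMap_eq, map_mul, hy'',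
        mul_assoc, mul_comm y', hy', mul_one]
    rw [this]
    exact N.smul_mem _ hx1
  · unfold locLen
    rw [Module.length_eq_zero_iff, LocalizedModule.subsingleton_iff]
    intro x
    have hne : ¬ r₀.asIdeal ≤ r.asIdeal := by
      intro hle
      exact h (MaximalSpectrum.ext (r₀.isMaximal.eq_of_le r.isMaximal.ne_top hle)).symm
    obtain ⟨t, ht0, htr⟩ := SetLike.not_le_iff_exists.mp hne
    refine ⟨t, htr, ?_⟩
    obtain ⟨y, rfl⟩ := Ideal.Quotient.mk_surjective x
    rw [Algebra.smul_def, Ideal.Quotient.algebraMap_eq, ← map_mul]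
    exact Ideal.Quotient.eq_zero_iff_mem.mpr (Ideal.mul_mem_right _ _ ht0)

end LocLen

section LF

variable {R₀ : Type w} [CommRing R₀] {C : Type u} [CommRing C] [Algebra R₀ C]

open Classical in
/-- **Length formula.** -/
theorem length_eq_sum_locLen [Fintype (MaximalSpectrum C)] {M : Type v} [AddCommGroup M]
    [Module C M] (h : IsFiniteLength C M) :
    ∀ [Module R₀ M] [IsScalarTower R₀ C M], Module.length R₀ M =
      ∑ r : MaximalSpectrum C, Module.length R₀ (C ⧸ r.asIdeal) * locLen r M := by
  induction h with
  | of_subsingleton =>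
    intro _ _
    rw [Module.length_eq_zero]
    symm
    apply Finset.sum_eq_zero
    intro r _
    rw [locLen_of_subsingleton, mul_zero]
  | @of_simple_quotient M _ _ N hs hN ih =>
    intro _ _
    have h1 : Module.length R₀ M = Module.length R₀ N + Module.length R₀ (M ⧸ N) :=
      Module.length_eq_add_of_exact (N.subtype.restrictScalars R₀) (N.mkQ.restrictScalars R₀)
        (Submodule.subtype_injective N) (Submodule.mkQ_surjective N)
        (by
          intro x
          simp only [LinearMap.coe_restrictScalars, Submodule.mkQ_apply, Submodule.subtype_apply,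
            Submodule.Quotient.mk_eq_zero, Set.mem_range, Subtype.exists, exists_prop,
            exists_eq_right])
    have h2 : ∀ r : MaximalSpectrum C, locLen r M = locLen r N + locLen r (M ⧸ N) := fun r =>
      locLen_add r N.subtype N.mkQ (Submodule.subtype_injective N) (Submodule.mkQ_surjective N)
        (by
          intro x
          simp only [Submodule.mkQ_apply, Submodule.subtype_apply,
            Submodule.Quotient.mk_eq_zero, Set.mem_range, Subtype.exists, exists_prop,
            exists_eq_right])
    obtain ⟨m, hm, ⟨e⟩⟩ := isSimpleModule_iff_quot_maximal.mp hs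
    let r₀ : MaximalSpectrum C := ⟨m, hm⟩
    have h3 : Module.length R₀ (M ⧸ N) = Module.length R₀ (C ⧸ r₀.asIdeal) :=
      (e.restrictScalars R₀).length_eq
    have h4 : ∀ r : MaximalSpectrum C, locLen r (M ⧸ N) = if r = r₀ then 1 else 0 := fun r => by
      rw [locLen_congr r e]
      exact locLen_quot_maximal r₀ r
    rw [h1, ih, h3]
    simp_rw [h2, h4, mul_add, Finset.sum_add_distrib]
    congr 1
    rw [Finset.sum_eq_single r₀]
    · simp
    · intro r _ hr
      simp [hr]
    · intro h
      exact absurd (Finset.mem_univ _) h

end LF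

section Cyclic

variable {R₀ : Type w} [CommRing R₀] {C : Type u} [CommRing C] [Algebra R₀ C]

/-- The localised length of `C/(p)` is the order of `p` in the localisation. -/
lemma locLen_quot_span (r : MaximalSpectrum C) (p : C) :
    locLen r (C ⧸ Ideal.span {p}) =
      Ring.ord (Localization.AtPrime r.asIdeal) (algebraMap C (Localization.AtPrime r.asIdeal) p) := by
  unfold locLen Ring.ord
  set P := r.asIdeal.primeCompl
  set L := Localization.AtPrime r.asIdeal
  let I : Submodule C C := Ideal.span {p}
  have e1 : LocalizedModule P (C ⧸ I) ≃ₗ[L] L ⧸ I.localized' L P (Algebra.linearMap C L) :=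
    IsLocalizedModule.mapEquiv P (LocalizedModule.mkLinearMap P (C ⧸ I))
      (I.toLocalizedQuotient' L P (Algebra.linearMap C L)) L (LinearEquiv.refl C _)
  have hI : I.localized' L P (Algebra.linearMap C L) = Ideal.span {algebraMap C L p} := by
    change (Submodule.span C {p}).localized' L P (Algebra.linearMap C L) = _
    rw [Submodule.localized'_span, Set.image_singleton]
    rfl
  have e2 : (L ⧸ I.localized' L P (Algebra.linearMap C L)) ≃ₗ[L] L ⧸ Ideal.span {algebraMap C L p} :=
    Submodule.quotEquivOfEq _ _ hI
  exact (e1.trans e2).length_eq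

/-- **Length formula for cyclic modules.** -/
theorem length_quot_span_eq_sum [Fintype (MaximalSpectrum C)] (p : C)
    (hfin : IsFiniteLength C (C ⧸ Ideal.span {p})) :
    Module.length R₀ (C ⧸ Ideal.span {p}) =
      ∑ r : MaximalSpectrum C, Module.length R₀ (C ⧸ r.asIdeal) *
        Ring.ord (Localization.AtPrime r.asIdeal)
          (algebraMap C (Localization.AtPrime r.asIdeal) p) := by
  rw [length_eq_sum_locLen hfin]
  simp_rw [locLen_quot_span]

end Cyclic

section Weights

open IsLocalRing

variable {R₀ : Type w} [CommRing R₀] {C : Type u} [CommRing C] [Algebra R₀ C]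

/-- The canonical map `C/r → κ(C_r)` as an `R₀`-algebra map. -/
noncomputable def quotToResidueField (r : MaximalSpectrum C) :
    (C ⧸ r.asIdeal) →ₐ[R₀] ResidueField (Localization.AtPrime r.asIdeal) :=
  Ideal.Quotient.liftₐ r.asIdeal
    ((IsScalarTower.toAlgHom R₀ (Localization.AtPrime r.asIdeal)
      (ResidueField (Localization.AtPrime r.asIdeal))).comp
      (IsScalarTower.toAlgHom R₀ C (Localization.AtPrime r.asIdeal)))
    (by
      intro a ha
      haveI := r.isMaximal
      change residue _ (algebraMap C (Localization.AtPrime r.asIdeal) a) = 0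
      rw [residue_eq_zero_iff]
      exact (IsLocalization.AtPrime.to_map_mem_maximal_iff (Localization.AtPrime r.asIdeal)
        r.asIdeal a).mpr ha)

lemma quotToResidueField_mk (r : MaximalSpectrum C) (c : C) :
    quotToResidueField (R₀ := R₀) r (Ideal.Quotient.mk _ c) =
      residue _ (algebraMap C (Localization.AtPrime r.asIdeal) c) := rfl

lemma quotToResidueField_bijective (r : MaximalSpectrum C) :
    Function.Bijective (quotToResidueField (R₀ := R₀) r) := by
  haveI := r.isMaximal
  letI := Ideal.Quotient.field r.asIdeal
  refine ⟨(quotToResidueField (R₀ := R₀) r).toRingHom.injective, ?_⟩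
  intro x
  obtain ⟨y, hy⟩ := (IsLocalization.AtPrime.equivQuotMaximalIdeal r.asIdeal
    (Localization.AtPrime r.asIdeal)).surjective x
  obtain ⟨c, rfl⟩ := Ideal.Quotient.mk_surjective y
  exact ⟨Ideal.Quotient.mk _ c, hy⟩

/-- `C/r ≃ κ(C_r)` as `R₀`-modules. -/
noncomputable def quotEquivResidueField (r : MaximalSpectrum C) :
    (C ⧸ r.asIdeal) ≃ₗ[R₀] ResidueField (Localization.AtPrime r.asIdeal) :=
  (AlgEquiv.ofBijective (quotToResidueField (R₀ := R₀) r)
    (quotToResidueField_bijective r)).toLinearEquiv

/-- The weight `length_{R₀}(C/r)` as a residue degree. -/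
lemma length_quot_maximal_eq_finrank (L₀ : Type v) [CommRing L₀] [IsLocalRing L₀] [Algebra R₀ L₀]
    (r : MaximalSpectrum C) [Algebra L₀ (Localization.AtPrime r.asIdeal)]
    [IsLocalHom (algebraMap L₀ (Localization.AtPrime r.asIdeal))]
    [IsScalarTower R₀ L₀ (Localization.AtPrime r.asIdeal)]
    (hsurj : Function.Surjective (algebraMap R₀ (ResidueField L₀)))
    [Module.Finite (ResidueField L₀) (ResidueField (Localization.AtPrime r.asIdeal))] :
    Module.length R₀ (C ⧸ r.asIdeal) =
      Module.finrank (ResidueField L₀) (ResidueField (Localization.AtPrime r.asIdeal)) := by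
  rw [(quotEquivResidueField (R₀ := R₀) r).length_eq,
    Module.length_eq_of_surjective (S := R₀) (R := ResidueField L₀) hsurj,
    Module.length_eq_finrank]

end Weights

end Groth.Agent.R2.H71.Tame
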