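import Groth.Agent.R2.H71Blow8
import Groth.Agent.R2.H71Tame1
import Groth.Agent.R2.H71Tame2

/-!
# Tame data: basic structure (helper71)
-/

set_option autoImplicit false
universe u

namespace Groth.Agent.R2.H71.Tame

open IsLocalRing CycAlg Groth.Agent.R2.H71.Blow

section LocalHom

variable {A : Type u} [CommRing A] [IsLocalRing A] {B : Type u} [CommRing B] [Algebra A B]

lemma comap_eq_maximalIdeal [Algebra.IsIntegral A B] (q : MaximalSpectrum B) :
    q.asIdeal.comap (algebraMap A B) = maximalIdeal A :=
  haveI := q.isMaximal
  IsLocalRing.eq_maximalIdeal (Ideal.isMaximal_comap_of_isIntegral_of_isMaximal q.asIdeal)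

theorem isLocalHom_of_integral [Algebra.IsIntegral A B] (q : MaximalSpectrum B) :
    IsLocalHom (algebraMap A (Localization.AtPrime q.asIdeal)) := by
  constructor
  intro a ha
  by_contra hna
  have hm : a ∈ maximalIdeal A := (IsLocalRing.mem_maximalIdeal a).mpr hna
  rw [← comap_eq_maximalIdeal q, Ideal.mem_comap] at hm
  have h1 : algebraMap B (Localization.AtPrime q.asIdeal) (algebraMap A B a) ∈
      maximalIdeal (Localization.AtPrime q.asIdeal) :=
    (IsLocalization.AtPrime.to_map_mem_maximal_iff _ q.asIdeal _).mpr hm
  rw [← IsScalarTower.algebraMap_apply] at h1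
  exact ((IsLocalRing.mem_maximalIdeal _).mp h1) ha

/-- An element which is a nonzerodivisor in all localisations at maximal ideals is a
nonzerodivisor. -/
lemma mem_nonZeroDivisors_of_localization {x : B}
    (h : ∀ q : MaximalSpectrum B,
      algebraMap B (Localization.AtPrime q.asIdeal) x ∈
        nonZeroDivisors (Localization.AtPrime q.asIdeal)) : x ∈ nonZeroDivisors B := by
  rw [mem_nonZeroDivisors_iff_right]
  intro b hb
  apply eq_zero_of_localization
  intro J hJ
  have h1 := h ⟨J, hJ⟩
  have h2 : algebraMap B (Localization.AtPrime J) b * algebraMap B (Localization.AtPrime J) x = 0 := by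
    rw [← map_mul, hb, map_zero]
  exact (mem_nonZeroDivisors_iff_right.mp h1) _ h2

end LocalHom

section Dim

variable {A : Type u} [CommRing A] [IsNoetherianRing A] [IsLocalRing A]
  {B : Type u} [CommRing B] [Algebra A B]

lemma ringKrullDim_le_of_finite [Module.Finite A B] : ringKrullDim B ≤ ringKrullDim A := by
  haveI : Algebra.IsIntegral A B := Algebra.IsIntegral.of_finite A B
  apply Order.krullDim_le_of_strictMono (PrimeSpectrum.comap (algebraMap A B))
  intro P Q hPQ
  have : P.asIdeal < Q.asIdeal := hPQ
  exact Ideal.IsIntegral.comap_lt_comap (R := A) this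

lemma krullDimLE_one_localization (hA : ringKrullDim A = 1) [Module.Finite A B]
    (q : MaximalSpectrum B) : Ring.KrullDimLE 1 (Localization.AtPrime q.asIdeal) := by
  haveI := q.isMaximal
  rw [Ring.KrullDimLE, Order.krullDimLE_iff]
  change ringKrullDim (Localization.AtPrime q.asIdeal) ≤ _
  rw [IsLocalization.AtPrime.ringKrullDim_eq_height q.asIdeal]
  have h1 : (q.asIdeal.height : WithBot ℕ∞) ≤ ringKrullDim B :=
    Ideal.height_le_ringKrullDim_of_ne_top q.isMaximal.ne_top
  have h2 := h1.trans (ringKrullDim_le_of_finite (A := A) (B := B))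
  rw [hA] at h2
  exact_mod_cast h2

lemma isNoetherianRing_of_finite [Module.Finite A B] : IsNoetherianRing B :=
  Algebra.FiniteType.isNoetherianRing A B

lemma ord_ne_top_of_finite (hA : ringKrullDim A = 1) [Module.Finite A B]
    (q : MaximalSpectrum B) {x : Localization.AtPrime q.asIdeal}
    (hx : x ∈ nonZeroDivisors (Localization.AtPrime q.asIdeal)) :
    Ring.ord (Localization.AtPrime q.asIdeal) x ≠ ⊤ := by
  haveI := krullDimLE_one_localization hA q
  haveI : IsNoetherianRing B := isNoetherianRing_of_finite (A := A)
  exact Ring.ord_ne_top hx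

end Dim

section FacData

/-- A finite good extension of `A` together with simultaneous local factorisations of a finite
family of elements of `A`. -/
structure FacData (A : Type u) [CommRing A] [IsLocalRing A] {n : ℕ} (a : Fin n → A) :
    Type (u + 1) where
  /-- the extension ring -/
  B : Type u
  [commRing : CommRing B]
  [algebra : Algebra A B]
  good : GoodExt A B
  /-- the local parameters -/
  π : (q : MaximalSpectrum B) → Localization.AtPrime q.asIdeal
  π_mem : ∀ q, π q ∈ nonZeroDivisors (Localization.AtPrime q.asIdeal)
  /-- the unit parts -/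
  v : Fin n → (q : MaximalSpectrum B) → (Localization.AtPrime q.asIdeal)ˣ
  /-- the exponents -/
  e : Fin n → MaximalSpectrum B → ℕ
  fac : ∀ i q, algebraMap A (Localization.AtPrime q.asIdeal) (a i) =
    (v i q : Localization.AtPrime q.asIdeal) * π q ^ e i q

attribute [instance] FacData.commRing FacData.algebra

variable {A : Type u} [CommRing A] [IsNoetherianRing A] [IsLocalRing A] {n : ℕ} {a : Fin n → A}

/-- The tame datum for the pair `(a i, a j)` attached to factorisation data. -/
noncomputable def FacData.tame (hA : ringKrullDim A = 1) (F : FacData A a) (i j : Fin n) :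
    TameData A (a i) (a j) where
  B := F.B
  isFinExt := isFinExt_of_goodExt hA F.good
  isLocalHom := fun q => by
    haveI := F.good.fin
    haveI : Algebra.IsIntegral A F.B := Algebra.IsIntegral.of_finite A F.B
    exact isLocalHom_of_integral q
  π := F.π
  π_mem := F.π_mem
  u₁ := F.v i
  u₂ := F.v j
  e₁ := F.e i
  e₂ := F.e j
  fac₁ := F.fac i
  fac₂ := F.fac j

end FacData

end Groth.Agent.R2.H71.Tame
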