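import Groth.Agent.R2.H71Tame3

/-!
# Global lifts of local parameters in a semilocal ring (helper71)
-/

set_option autoImplicit false
set_option linter.style.haveILetI false
universe u

namespace Groth.Agent.R2.H71.Tame

open IsLocalRing

section Stab

variable {L : Type u} [CommRing L] [IsLocalRing L]

/-- In a local ring, if `L/(π)` is Artinian, a power of any nonunit lies in `(π)`. -/
lemma exists_pow_mem_span_of_artinian (π x : L) (hx : x ∈ maximalIdeal L)
    [IsArtinian L (L ⧸ Ideal.span {π})] : ∃ j : ℕ, x ^ j ∈ Ideal.span {π} := by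
  let K : ℕ → Submodule L (L ⧸ Ideal.span {π}) := fun j =>
    Submodule.span L {Submodule.Quotient.mk (x ^ j)}
  have hK : ∀ j, K (j + 1) ≤ K j := by
    intro j
    rw [Submodule.span_le, Set.singleton_subset_iff]
    have : (Submodule.Quotient.mk (x ^ (j + 1)) : L ⧸ Ideal.span {π}) =
        x • Submodule.Quotient.mk (x ^ j) := by
      rw [← Submodule.Quotient.mk_smul, smul_eq_mul, pow_succ, mul_comm]
    rw [this]
    exact Submodule.smul_mem _ _ (Submodule.subset_span rfl)
  let f : ℕ →o (Submodule L (L ⧸ Ideal.span {π}))ᵒᵈ :=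
    ⟨fun j => OrderDual.toDual (K j), monotone_nat_of_le_succ fun j => hK j⟩
  obtain ⟨n, hn⟩ := IsArtinian.monotone_stabilizes f
  have h1 : K n = K (n + 1) := congrArg OrderDual.ofDual (hn (n + 1) (Nat.le_succ n))
  have h2 : (Submodule.Quotient.mk (x ^ n) : L ⧸ Ideal.span {π}) ∈ K (n + 1) := by
    rw [← h1]; exact Submodule.subset_span rfl
  obtain ⟨c, hc⟩ := Submodule.mem_span_singleton.mp h2
  rw [← Submodule.Quotient.mk_smul, eq_comm, ← sub_eq_zero, ← Submodule.Quotient.mk_sub,
    Submodule.Quotient.mk_eq_zero] at hc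
  refine ⟨n, ?_⟩
  have hu : IsUnit (1 - c * x) := by
    by_contra hnu
    have h3 : 1 - c * x ∈ maximalIdeal L := (IsLocalRing.mem_maximalIdeal _).mpr hnu
    have h4 : c * x ∈ maximalIdeal L := Ideal.mul_mem_left _ _ hx
    have h5 : (1 : L) ∈ maximalIdeal L := by
      have : (1 : L) = (1 - c * x) + c * x := by ring
      rw [this]; exact Ideal.add_mem _ h3 h4
    exact (Ideal.ne_top_iff_one _).mp (IsLocalRing.maximalIdeal.isMaximal L).ne_top h5
  obtain ⟨w, hw⟩ := hu
  have h6 : x ^ n = (w⁻¹ : Lˣ) * (x ^ n - c • x ^ (n + 1)) := by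
    have : x ^ n - c • x ^ (n + 1) = (w : L) * x ^ n := by
      rw [hw, smul_eq_mul, pow_succ]; ring
    rw [this, ← mul_assoc, Units.inv_mul, one_mul]
  rw [h6]
  exact Ideal.mul_mem_left _ _ hc

lemma isArtinian_quot_of_ord_ne_top {π : L} (h : Ring.ord L π ≠ ⊤) :
    IsArtinian L (L ⧸ Ideal.span {π}) := by
  have h1 : IsFiniteLength L (L ⧸ Ideal.span {π}) := Module.length_ne_top_iff.mp h
  exact (isFiniteLength_iff_isNoetherian_isArtinian.mp h1).2

end Stab

section GlobalParam

variable {B : Type u} [CommRing B]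

/-- A local nonzerodivisor of finite order at a maximal ideal `q` of a semilocal ring is, up to a
unit, the image of a global element which is `≡ 1` modulo all other maximal ideals. -/
theorem exists_global_param' [Finite (MaximalSpectrum B)] (q : MaximalSpectrum B)
    (L : Type u) [CommRing L] [Algebra B L] [IsLocalRing L] [IsLocalization.AtPrime L q.asIdeal]
    (π : L) (hfin : Ring.ord L π ≠ ⊤) :
    ∃ p : B, (∃ s : Lˣ, algebraMap B L p = s * π) ∧
      ∀ q' : MaximalSpectrum B, q' ≠ q → p - 1 ∈ q'.asIdeal := by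
  classical
  haveI : Fintype (MaximalSpectrum B) := Fintype.ofFinite _
  haveI := q.isMaximal
  haveI := isArtinian_quot_of_ord_ne_top hfin
  obtain ⟨⟨p₀, s₀⟩, hp₀⟩ := IsLocalization.mk'_surjective q.asIdeal.primeCompl π
  have hp₀' : π * algebraMap B L s₀ = algebraMap B L p₀ := by
    rw [← hp₀]; exact IsLocalization.mk'_spec _ _ _
  let I : Ideal B := Ideal.comap (algebraMap B L) (Ideal.span {π} * maximalIdeal L)
  have hI : ∀ q' : MaximalSpectrum B, q' ≠ q → I ⊔ q'.asIdeal = ⊤ := by
    intro q' hne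
    haveI := q'.isMaximal
    have hnle : ¬ q.asIdeal ≤ q'.asIdeal := fun hle =>
      hne (MaximalSpectrum.ext (q.isMaximal.eq_of_le q'.isMaximal.ne_top hle)).symm
    obtain ⟨t, htq, htq'⟩ := SetLike.not_le_iff_exists.mp hnle
    have hx : algebraMap B L t ∈ maximalIdeal L :=
      (IsLocalization.AtPrime.to_map_mem_maximal_iff L q.asIdeal t).mpr htq
    obtain ⟨j, hj⟩ := exists_pow_mem_span_of_artinian π (algebraMap B L t) hx
    have htI : t ^ (j + 1) ∈ I := by
      change algebraMap B L (t ^ (j + 1)) ∈ Ideal.span {π} * maximalIdeal L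
      rw [map_pow, pow_succ]
      exact Ideal.mul_mem_mul hj hx
    by_contra hcon
    have hle : I ≤ q'.asIdeal := by
      have := q'.isMaximal.eq_of_le hcon le_sup_right
      rw [this]; exact le_sup_left
    exact htq' (q'.isMaximal.isPrime.mem_of_pow_mem _ (hle htI))
  let f : MaximalSpectrum B → Ideal B := fun q' => if q' = q then I else q'.asIdeal
  have hcop : Pairwise (Function.onFun IsCoprime f) := by
    intro q₁ q₂ hne
    simp only [Function.onFun, f]
    by_cases h1 : q₁ = q
    · have h2 : q₂ ≠ q := fun h => hne (h1.trans h.symm)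
      rw [if_pos h1, if_neg h2, Ideal.isCoprime_iff_sup_eq]
      exact hI q₂ h2
    · by_cases h2 : q₂ = q
      · rw [if_neg h1, if_pos h2, Ideal.isCoprime_iff_sup_eq, sup_comm]
        exact hI q₁ h1
      · rw [if_neg h1, if_neg h2]
        haveI := q₁.isMaximal
        haveI := q₂.isMaximal
        exact Ideal.isCoprime_of_isMaximal (fun h => hne (MaximalSpectrum.ext h))
  obtain ⟨p, hp⟩ := Ideal.exists_forall_sub_mem_ideal hcop
    (fun q' => if q' = q then p₀ else 1)
  refine ⟨p, ?_, ?_⟩
  · have h1 : p - p₀ ∈ I := by simpa [f] using hp q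
    have h2 : algebraMap B L (p - p₀) ∈ Ideal.span {π} * maximalIdeal L := h1
    obtain ⟨y, hy, hy'⟩ := Ideal.mem_span_singleton_mul.mp h2
    have hs₀ : IsUnit (algebraMap B L s₀) := IsLocalization.map_units L s₀
    have hu : IsUnit (algebraMap B L s₀ + y) := by
      by_contra hnu
      have h3 : algebraMap B L s₀ + y ∈ maximalIdeal L := (IsLocalRing.mem_maximalIdeal _).mpr hnu
      have h4 : algebraMap B L s₀ ∈ maximalIdeal L := by
        have : algebraMap B L (s₀ : B) = (algebraMap B L s₀ + y) - y := by ring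
        rw [this]; exact Ideal.sub_mem _ h3 hy
      exact ((IsLocalRing.mem_maximalIdeal _).mp h4) hs₀
    obtain ⟨w, hw⟩ := hu
    refine ⟨w, ?_⟩
    have : algebraMap B L p = algebraMap B L p₀ + algebraMap B L (p - p₀) := by
      rw [← map_add]; congr 1; ring
    rw [this, ← hy', ← hp₀', hw]; ring
  · intro q' hne
    simpa [f, hne] using hp q'

theorem exists_global_param [Finite (MaximalSpectrum B)] (q : MaximalSpectrum B)
    (π : Localization.AtPrime q.asIdeal)
    (hfin : Ring.ord (Localization.AtPrime q.asIdeal) π ≠ ⊤) :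
    ∃ p : B, (∃ s : (Localization.AtPrime q.asIdeal)ˣ,
        algebraMap B (Localization.AtPrime q.asIdeal) p = s * π) ∧
      ∀ q' : MaximalSpectrum B, q' ≠ q → p - 1 ∈ q'.asIdeal :=
  exists_global_param' q (Localization.AtPrime q.asIdeal) π hfin

end GlobalParam

end Groth.Agent.R2.H71.Tame
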