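import Groth.Agent.R2.H71Tame4

/-!
# Tame data: comparison along a good extension (helper71)
-/

set_option autoImplicit false
set_option linter.style.haveILetI false
set_option linter.unusedSectionVars false
universe u

namespace Groth.Agent.R2.H71.Tame

open IsLocalRing CycAlg Groth.Agent.R2.H71.Blow

section Under

variable {B C : Type u} [CommRing B] [CommRing C] [Algebra B C] [Algebra.IsIntegral B C]

/-- The maximal ideal of `B` under a maximal ideal of an integral extension `C`. -/
def under (r : MaximalSpectrum C) : MaximalSpectrum B :=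
  haveI := r.isMaximal
  ⟨r.asIdeal.comap (algebraMap B C), Ideal.isMaximal_comap_of_isIntegral_of_isMaximal r.asIdeal⟩

/-- The induced local homomorphism `B_q → C_r`. -/
noncomputable def locHom (r : MaximalSpectrum C) :
    Localization.AtPrime (under (B := B) r).asIdeal →+* Localization.AtPrime r.asIdeal :=
  Localization.localRingHom _ _ (algebraMap B C) rfl

/-- `C_r` as an algebra over `B_q`. -/
@[reducible] noncomputable def locAlg (r : MaximalSpectrum C) :
    Algebra (Localization.AtPrime (under (B := B) r).asIdeal) (Localization.AtPrime r.asIdeal) :=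
  (locHom r).toAlgebra

attribute [local instance] locAlg

instance isLocalHom_locAlg (r : MaximalSpectrum C) :
    IsLocalHom (algebraMap (Localization.AtPrime (under (B := B) r).asIdeal)
      (Localization.AtPrime r.asIdeal)) :=
  Localization.isLocalHom_localRingHom _ _ _ rfl

lemma locAlg_algebraMap (r : MaximalSpectrum C) (b : B) :
    algebraMap (Localization.AtPrime (under (B := B) r).asIdeal) (Localization.AtPrime r.asIdeal)
      (algebraMap B _ b) = algebraMap B (Localization.AtPrime r.asIdeal) b := by
  rw [IsScalarTower.algebraMap_apply B C (Localization.AtPrime r.asIdeal)]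
  exact Localization.localRingHom_to_map _ _ _ rfl b

instance isScalarTower_locAlg (r : MaximalSpectrum C) :
    IsScalarTower B (Localization.AtPrime (under (B := B) r).asIdeal)
      (Localization.AtPrime r.asIdeal) :=
  IsScalarTower.of_algebraMap_eq fun b => (locAlg_algebraMap r b).symm

instance isScalarTower_locAlg' {A : Type u} [CommRing A] [Algebra A B] [Algebra A C]
    [IsScalarTower A B C] (r : MaximalSpectrum C) :
    IsScalarTower A (Localization.AtPrime (under (B := B) r).asIdeal)
      (Localization.AtPrime r.asIdeal) :=
  IsScalarTower.of_algebraMap_eq fun a => by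
    rw [IsScalarTower.algebraMap_apply A B (Localization.AtPrime r.asIdeal),
      IsScalarTower.algebraMap_apply A B (Localization.AtPrime (under (B := B) r).asIdeal),
      locAlg_algebraMap]

/-- The residue degree of `r` over the maximal ideal under it. -/
noncomputable def deg (r : MaximalSpectrum C) : ℕ :=
  Module.finrank (ResidueField (Localization.AtPrime (under (B := B) r).asIdeal))
    (ResidueField (Localization.AtPrime r.asIdeal))

lemma algebraMap_residueField_surjective (q : MaximalSpectrum B) :
    Function.Surjective (algebraMap B (ResidueField (Localization.AtPrime q.asIdeal))) := by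
  intro x
  obtain ⟨y, rfl⟩ := (quotToResidueField_bijective (R₀ := B) q).2 x
  obtain ⟨b, rfl⟩ := Ideal.Quotient.mk_surjective y
  exact ⟨b, rfl⟩

lemma finite_residueField [Module.Finite B C] (r : MaximalSpectrum C) :
    Module.Finite (ResidueField (Localization.AtPrime (under (B := B) r).asIdeal))
      (ResidueField (Localization.AtPrime r.asIdeal)) := by
  haveI : Module.Finite B (ResidueField (Localization.AtPrime r.asIdeal)) :=
    Module.Finite.equiv (quotEquivResidueField (R₀ := B) r)
  exact Module.Finite.of_restrictScalars_finite B _ _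

lemma length_quot_eq_deg [Module.Finite B C] (r : MaximalSpectrum C) :
    Module.length B (C ⧸ r.asIdeal) = (deg (B := B) r : ℕ∞) := by
  haveI := finite_residueField (B := B) r
  exact length_quot_maximal_eq_finrank (R₀ := B)
    (Localization.AtPrime (under (B := B) r).asIdeal) r
    (algebraMap_residueField_surjective _)

end Under

section Sum

variable {B C : Type u} [CommRing B] [CommRing C] [Algebra B C] [Algebra.IsIntegral B C]

attribute [local instance] locAlg

lemma length_quot_self_maximal (q : MaximalSpectrum B) : Module.length B (B ⧸ q.asIdeal) = 1 := by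
  rw [Module.length_eq_one_iff]
  exact isSimpleModule_iff_quot_maximal.mpr ⟨q.asIdeal, q.isMaximal, ⟨LinearEquiv.refl _ _⟩⟩

/-- Comparison of the total orders of a global nonzerodivisor of `B` in `B` and in `C`. -/
lemma sum_ord_eq (hB : OneDim B) (hBC : GoodExt B C) [Fintype (MaximalSpectrum B)]
    [Fintype (MaximalSpectrum C)] {p : B} (hp : p ∈ nonZeroDivisors B) :
    ∑ r : MaximalSpectrum C, (deg (B := B) r : ℕ∞) *
        Ring.ord (Localization.AtPrime r.asIdeal) (algebraMap B (Localization.AtPrime r.asIdeal) p) =
      ∑ q : MaximalSpectrum B,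
        Ring.ord (Localization.AtPrime q.asIdeal) (algebraMap B (Localization.AtPrime q.asIdeal) p) := by
  haveI := hBC.fin
  have hC : OneDim C := OneDim.of_goodExt hBC hB
  have h1 := length_quot_span_eq_sum (R₀ := B) (C := C) (algebraMap B C p)
    (Module.length_ne_top_iff.mp (hC.len _ (hBC.nzd p hp)))
  have h2 := length_quot_span_eq_sum (R₀ := B) (C := B) p
    (Module.length_ne_top_iff.mp (hB.len _ hp))
  have h3 : Module.length B (C ⧸ Ideal.span {algebraMap B C p}) =
      Module.length B (B ⧸ Ideal.span {p}) := by
    rw [← length_quot_xsub_eq hBC hB hp]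
    have e1 := Submodule.Quotient.restrictScalarsEquiv B (Ideal.span {algebraMap B C p})
    have e2 := Submodule.quotEquivOfEq _ _ (span_restrictScalars_eq (A := B) (B := C) p)
    exact (e1.symm.trans e2).length_eq
  rw [h3, h2] at h1
  simp_rw [length_quot_self_maximal, one_mul] at h1
  rw [h1]
  apply Finset.sum_congr rfl
  intro r _
  rw [length_quot_eq_deg, ← IsScalarTower.algebraMap_apply]

end Sum

section LocalSum

variable {B C : Type u} [CommRing B] [CommRing C] [Algebra B C] [Algebra.IsIntegral B C]

attribute [local instance] locAlg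

lemma isUnit_algebraMap_of_sub_one_mem {R : Type u} [CommRing R] (q' : MaximalSpectrum R) {p : R}
    (hp : p - 1 ∈ q'.asIdeal) : IsUnit (algebraMap R (Localization.AtPrime q'.asIdeal) p) := by
  have hnot : p ∉ q'.asIdeal := by
    intro h
    have : (1 : R) ∈ q'.asIdeal := by
      have h1 : (1 : R) = p - (p - 1) := by ring
      rw [h1]; exact Ideal.sub_mem _ h hp
    exact q'.isMaximal.ne_top ((Ideal.eq_top_iff_one _).mpr this)
  exact IsLocalization.map_units (Localization.AtPrime q'.asIdeal)
    (⟨p, hnot⟩ : q'.asIdeal.primeCompl)

/-- The local length formula for a local parameter at `q`: its order is the sum of the orders at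
the maximal ideals of `C` over `q`, weighted by residue degrees. -/
lemma sum_deg_ord_eq (hB : OneDim B) (hBC : GoodExt B C) [Fintype (MaximalSpectrum B)]
    [Fintype (MaximalSpectrum C)] [DecidableEq (MaximalSpectrum B)]
    (q : MaximalSpectrum B) (π : ∀ q' : MaximalSpectrum B, Localization.AtPrime q'.asIdeal)
    (hπ : π q ∈ nonZeroDivisors (Localization.AtPrime q.asIdeal))
    (hfin : Ring.ord (Localization.AtPrime q.asIdeal) (π q) ≠ ⊤)
    (hfinC : ∀ r : MaximalSpectrum C, ∀ x ∈ nonZeroDivisors (Localization.AtPrime r.asIdeal),
      Ring.ord (Localization.AtPrime r.asIdeal) x ≠ ⊤) :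
    (∑ r ∈ Finset.univ.filter (fun r : MaximalSpectrum C => under (B := B) r = q),
      deg (B := B) r * (Ring.ord (Localization.AtPrime r.asIdeal)
        (algebraMap (Localization.AtPrime (under (B := B) r).asIdeal)
          (Localization.AtPrime r.asIdeal) (π (under r)))).toNat) =
      (Ring.ord (Localization.AtPrime q.asIdeal) (π q)).toNat ∧
    ∀ r : MaximalSpectrum C, under (B := B) r = q →
      algebraMap (Localization.AtPrime (under (B := B) r).asIdeal)
          (Localization.AtPrime r.asIdeal) (π (under r)) ∈
        nonZeroDivisors (Localization.AtPrime r.asIdeal) := by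
  haveI := hB.fin_max
  obtain ⟨p, ⟨s, hs⟩, hp1⟩ := exists_global_param q (π q) hfin
  -- `p` is a global nonzerodivisor
  have hpn : p ∈ nonZeroDivisors B := by
    apply mem_nonZeroDivisors_of_localization
    intro q'
    by_cases h : q' = q
    · subst h
      rw [hs]
      exact mul_mem (IsUnit.mem_nonZeroDivisors s.isUnit) hπ
    · exact IsUnit.mem_nonZeroDivisors (isUnit_algebraMap_of_sub_one_mem q' (hp1 q' h))
  have hs' : ∀ q'' : MaximalSpectrum B, q'' = q → ∃ s' : (Localization.AtPrime q''.asIdeal)ˣ,
      algebraMap B (Localization.AtPrime q''.asIdeal) p = s' * π q'' := by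
    rintro _ rfl; exact ⟨s, hs⟩
  -- image of `p` in `C_r` for `r` over `q`
  have hr1 : ∀ r : MaximalSpectrum C, under (B := B) r = q →
      ∃ t : (Localization.AtPrime r.asIdeal)ˣ, algebraMap B (Localization.AtPrime r.asIdeal) p =
        t * algebraMap (Localization.AtPrime (under (B := B) r).asIdeal)
          (Localization.AtPrime r.asIdeal) (π (under r)) := by
    intro r hr
    obtain ⟨s', hs'⟩ := hs' (under r) hr
    refine ⟨Units.map (algebraMap (Localization.AtPrime (under (B := B) r).asIdeal)
      (Localization.AtPrime r.asIdeal)).toMonoidHom s', ?_⟩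
    rw [← locAlg_algebraMap r p, hs', map_mul]
    rfl
  have hpC : ∀ r : MaximalSpectrum C, algebraMap B (Localization.AtPrime r.asIdeal) p ∈
      nonZeroDivisors (Localization.AtPrime r.asIdeal) := by
    intro r
    rw [IsScalarTower.algebraMap_apply B C (Localization.AtPrime r.asIdeal)]
    exact IsLocalization.map_nonZeroDivisors_le r.asIdeal.primeCompl _
      ⟨_, hBC.nzd p hpn, rfl⟩
  have hnzd : ∀ r : MaximalSpectrum C, under (B := B) r = q →
      algebraMap (Localization.AtPrime (under (B := B) r).asIdeal)
          (Localization.AtPrime r.asIdeal) (π (under r)) ∈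
        nonZeroDivisors (Localization.AtPrime r.asIdeal) := by
    intro r hr
    obtain ⟨t, ht⟩ := hr1 r hr
    have := hpC r
    rw [ht] at this
    exact (mul_mem_nonZeroDivisors.mp this).2
  refine ⟨?_, hnzd⟩
  have hsum := sum_ord_eq hB hBC hpn
  -- right hand side
  have hR : ∑ q' : MaximalSpectrum B, Ring.ord (Localization.AtPrime q'.asIdeal)
      (algebraMap B (Localization.AtPrime q'.asIdeal) p) =
      Ring.ord (Localization.AtPrime q.asIdeal) (π q) := by
    rw [Finset.sum_eq_single q]
    · rw [hs, Ring.ord_mul_of_isUnit_left s.isUnit]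
    · intro q' _ hne
      exact Ring.ord_of_isUnit (isUnit_algebraMap_of_sub_one_mem q' (hp1 q' hne))
    · intro h; exact absurd (Finset.mem_univ _) h
  -- left hand side
  have hL : ∑ r : MaximalSpectrum C, (deg (B := B) r : ℕ∞) *
        Ring.ord (Localization.AtPrime r.asIdeal) (algebraMap B (Localization.AtPrime r.asIdeal) p) =
      ((∑ r ∈ Finset.univ.filter (fun r : MaximalSpectrum C => under (B := B) r = q),
      deg (B := B) r * (Ring.ord (Localization.AtPrime r.asIdeal)
        (algebraMap (Localization.AtPrime (under (B := B) r).asIdeal)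
          (Localization.AtPrime r.asIdeal) (π (under r)))).toNat : ℕ) : ℕ∞) := by
    rw [Nat.cast_sum, Finset.sum_filter]
    apply Finset.sum_congr rfl
    intro r _
    split_ifs with hr
    · obtain ⟨t, ht⟩ := hr1 r hr
      rw [ht, Ring.ord_mul_of_isUnit_left t.isUnit, Nat.cast_mul,
        ENat.natCast_toNat (hfinC r _ (hnzd r hr))]
    · have hu : IsUnit (algebraMap B (Localization.AtPrime r.asIdeal) p) := by
        rw [IsScalarTower.algebraMap_apply B C (Localization.AtPrime r.asIdeal)]
        apply isUnit_algebraMap_of_sub_one_mem r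
        have := hp1 (under r) hr
        change algebraMap B C (p - 1) ∈ r.asIdeal at this
        rwa [map_sub, map_one] at this
      rw [Ring.ord_of_isUnit hu, mul_zero]
  rw [hL, hR] at hsum
  have := congrArg ENat.toNat hsum
  rwa [ENat.toNat_natCast] at this

end LocalSum

section Norm

variable {A B C : Type u} [CommRing A] [IsLocalRing A] [CommRing B] [CommRing C] [Algebra A B]
  [Algebra A C] [Algebra B C] [IsScalarTower A B C] [Algebra.IsIntegral B C]

attribute [local instance] locAlg

lemma residueField_map_algebraMap {R S : Type u} [CommRing R] [CommRing S] [IsLocalRing R]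
    [IsLocalRing S] [Algebra R S] [IsLocalHom (algebraMap R S)] (x : ResidueField R) :
    ResidueField.map (algebraMap R S) x = algebraMap (ResidueField R) (ResidueField S) x := by
  obtain ⟨y, rfl⟩ := residue_surjective x
  rfl

lemma norm_algebraMap_residue (r : MaximalSpectrum C)
    [IsLocalHom (algebraMap A (Localization.AtPrime (under (B := B) r).asIdeal))]
    [IsLocalHom (algebraMap A (Localization.AtPrime r.asIdeal))]
    (x : ResidueField (Localization.AtPrime (under (B := B) r).asIdeal)) :
    Algebra.norm (ResidueField A)
      (algebraMap (ResidueField (Localization.AtPrime (under (B := B) r).asIdeal))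
        (ResidueField (Localization.AtPrime r.asIdeal)) x) =
      Algebra.norm (ResidueField A) x ^ deg (B := B) r := by
  rw [← Algebra.norm_norm (S := ResidueField (Localization.AtPrime (under (B := B) r).asIdeal)),
    Algebra.norm_algebraMap, map_pow]
  rfl

end Norm

section Compare

variable {A : Type u} [CommRing A] [IsNoetherianRing A] [IsLocalRing A] {a₁ a₂ : A}

attribute [local instance] locAlg

/-- The norm of the local symbol of a tame datum at `q`. -/
noncomputable def TameG (D : TameData A a₁ a₂) (q : MaximalSpectrum D.B) : ResidueField A :=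
  haveI := D.isLocalHom q
  Algebra.norm (ResidueField A)
    (theta (Localization.AtPrime q.asIdeal) (D.u₁ q) (D.u₂ q) (D.e₁ q) (D.e₂ q))

lemma localFactor_eq_TameG (D : TameData A a₁ a₂) (q : MaximalSpectrum D.B) :
    D.localFactor q = TameG D q ^ (Ring.ord (Localization.AtPrime q.asIdeal) (D.π q)).toNat := rfl

lemma localFactor_eq_pow (D D' : TameData A a₁ a₂) [Algebra D.B D'.B] [IsScalarTower A D.B D'.B]
    [Algebra.IsIntegral D.B D'.B] (r : MaximalSpectrum D'.B)
    (hnz : algebraMap (Localization.AtPrime (under (B := D.B) r).asIdeal)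
        (Localization.AtPrime r.asIdeal) (D.π (under r)) ∈
      nonZeroDivisors (Localization.AtPrime r.asIdeal))
    (hfin : ∀ x ∈ nonZeroDivisors (Localization.AtPrime r.asIdeal),
      Ring.ord (Localization.AtPrime r.asIdeal) x ≠ ⊤) :
    D'.localFactor r = TameG D (under r) ^ (deg (B := D.B) r *
      (Ring.ord (Localization.AtPrime r.asIdeal)
        (algebraMap (Localization.AtPrime (under (B := D.B) r).asIdeal)
          (Localization.AtPrime r.asIdeal) (D.π (under r)))).toNat) := by
  haveI := D.isLocalHom (under r)
  haveI := D'.isLocalHom r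
  set q := under (B := D.B) r with hq
  set ψ := algebraMap (Localization.AtPrime q.asIdeal) (Localization.AtPrime r.asIdeal) with hψ
  have h₁' : algebraMap A (Localization.AtPrime r.asIdeal) a₁ =
      ((Units.map ψ.toMonoidHom (D.u₁ q) : (Localization.AtPrime r.asIdeal)ˣ) :
        Localization.AtPrime r.asIdeal) * ψ (D.π q) ^ D.e₁ q := by
    rw [IsScalarTower.algebraMap_apply A (Localization.AtPrime q.asIdeal)
      (Localization.AtPrime r.asIdeal), D.fac₁ q, map_mul, map_pow]
    rfl
  have h₂' : algebraMap A (Localization.AtPrime r.asIdeal) a₂ =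
      ((Units.map ψ.toMonoidHom (D.u₂ q) : (Localization.AtPrime r.asIdeal)ˣ) :
        Localization.AtPrime r.asIdeal) * ψ (D.π q) ^ D.e₂ q := by
    rw [IsScalarTower.algebraMap_apply A (Localization.AtPrime q.asIdeal)
      (Localization.AtPrime r.asIdeal), D.fac₂ q, map_mul, map_pow]
    rfl
  have key := theta_pow_eq (R := Localization.AtPrime r.asIdeal) (D'.π_mem r) hnz
    (hfin _ (D'.π_mem r)) (hfin _ hnz) (D'.fac₁ r) (D'.fac₂ r) h₁' h₂'
  rw [localFactor_eq_TameG]
  unfold TameG
  rw [← map_pow, key, ← theta_map ψ, residueField_map_algebraMap, map_pow,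
    norm_algebraMap_residue, ← pow_mul]

end Compare

section Global

variable {A : Type u} [CommRing A] [IsNoetherianRing A] [IsLocalRing A] {a₁ a₂ : A}

attribute [local instance] locAlg

/-- **Comparison of tame data along a good extension.** -/
theorem value_eq_of_goodExt (hA : ringKrullDim A = 1) (D D' : TameData A a₁ a₂)
    [Algebra D.B D'.B] [IsScalarTower A D.B D'.B] (hAB : GoodExt A D.B)
    (hBC : GoodExt D.B D'.B) : D'.value = D.value := by
  classical
  haveI : Module.Finite A D.B := hAB.fin
  haveI : Module.Finite D.B D'.B := hBC.fin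
  haveI : Module.Finite A D'.B := Module.Finite.trans D.B D'.B
  haveI : Algebra.IsIntegral D.B D'.B := Algebra.IsIntegral.of_finite D.B D'.B
  have hB : OneDim D.B := OneDim.of_goodExt hAB (oneDim_of_local A hA)
  have hC : OneDim D'.B := OneDim.of_goodExt hBC hB
  haveI := hB.fin_max
  haveI := hC.fin_max
  haveI : Fintype (MaximalSpectrum D.B) := Fintype.ofFinite _
  haveI : Fintype (MaximalSpectrum D'.B) := Fintype.ofFinite _
  have hfinC : ∀ r : MaximalSpectrum D'.B, ∀ x ∈ nonZeroDivisors (Localization.AtPrime r.asIdeal),
      Ring.ord (Localization.AtPrime r.asIdeal) x ≠ ⊤ := fun r x hx =>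
    ord_ne_top_of_finite (A := A) hA r hx
  have hsum := fun q : MaximalSpectrum D.B => sum_deg_ord_eq hB hBC q D.π (D.π_mem q)
    (ord_ne_top_of_finite (A := A) hA q (D.π_mem q)) hfinC
  unfold TameData.value
  rw [finprod_eq_prod_of_fintype, finprod_eq_prod_of_fintype]
  have h1 : ∀ r : MaximalSpectrum D'.B, D'.localFactor r =
      TameG D (under r) ^ (deg (B := D.B) r *
      (Ring.ord (Localization.AtPrime r.asIdeal)
        (algebraMap (Localization.AtPrime (under (B := D.B) r).asIdeal)
          (Localization.AtPrime r.asIdeal) (D.π (under r)))).toNat) := fun r =>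
    localFactor_eq_pow D D' r ((hsum (under r)).2 r rfl) (hfinC r)
  rw [Finset.prod_congr rfl (fun r _ => h1 r),
    ← Finset.prod_fiberwise Finset.univ (fun r : MaximalSpectrum D'.B => under (B := D.B) r)]
  apply Finset.prod_congr rfl
  intro q _
  rw [localFactor_eq_TameG, ← (hsum q).1, ← Finset.prod_pow_eq_pow_sum]
  apply Finset.prod_congr rfl
  intro r hr
  have hr' : under (B := D.B) r = q := (Finset.mem_filter.mp hr).2
  have : TameG D (under r) = TameG D q := congrArg (TameG D) hr'
  rw [this]

end Global

end Groth.Agent.R2.H71.Tame
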