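import Groth.Agent.R2.H71Tame5

/-!
# Tame data: common refinements and independence of the value (helper71)
-/

set_option autoImplicit false
set_option linter.style.haveILetI false
set_option linter.unusedSectionVars false
universe u

namespace Groth.Agent.R2.H71.Tame

open IsLocalRing CycAlg Groth.Agent.R2.H71.Blow

section GoodOfTame

variable {A : Type u} [CommRing A] [IsNoetherianRing A] [IsLocalRing A] {a₁ a₂ : A}

lemma algebraMap_mem_nonZeroDivisors_left (D : TameData A a₁ a₂) :
    algebraMap A D.B a₁ ∈ nonZeroDivisors D.B := by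
  apply mem_nonZeroDivisors_of_localization
  intro q
  rw [← IsScalarTower.algebraMap_apply, D.fac₁ q]
  exact mul_mem (IsUnit.mem_nonZeroDivisors (D.u₁ q).isUnit) (pow_mem (D.π_mem q) _)

lemma algebraMap_mem_nonZeroDivisors_right (D : TameData A a₁ a₂) :
    algebraMap A D.B a₂ ∈ nonZeroDivisors D.B := by
  apply mem_nonZeroDivisors_of_localization
  intro q
  rw [← IsScalarTower.algebraMap_apply, D.fac₂ q]
  exact mul_mem (IsUnit.mem_nonZeroDivisors (D.u₂ q).isUnit) (pow_mem (D.π_mem q) _)

/-- A finite extension in the sense of `IsFinExt` in which some nonunit nonzerodivisor of `A`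
stays a nonzerodivisor is a good extension. -/
lemma goodExt_of_isFinExt {B : Type u} [CommRing B] [Algebra A B]
    (hB : IsFinExt A B (maximalIdeal A)) {a : A} (ha : a ∈ nonZeroDivisors A)
    (hnu : ¬ IsUnit a) (haB : algebraMap A B a ∈ nonZeroDivisors B) : GoodExt A B := by
  obtain ⟨hinj, hfin, n, hn⟩ := hB
  have ham : a ∈ maximalIdeal A := (IsLocalRing.mem_maximalIdeal a).mpr hnu
  have hd : a ^ n ∈ maximalIdeal A ^ n := Ideal.pow_mem_pow ham n
  have hdB : algebraMap A B (a ^ n) ∈ nonZeroDivisors B := by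
    rw [map_pow]; exact pow_mem haB n
  have hden : ∀ b : B, ∃ c : A, algebraMap A B c = algebraMap A B (a ^ n) * b := by
    intro b
    obtain ⟨c, hc⟩ := hn _ hd b
    exact ⟨c, by rw [hc, Algebra.smul_def]⟩
  refine ⟨hinj, hfin, ?_, ⟨a ^ n, pow_mem ha n, hden⟩⟩
  intro x hx
  rw [mem_nonZeroDivisors_iff_right]
  intro b hb
  obtain ⟨c, hc⟩ := hden b
  have h1 : algebraMap A B (c * x) = 0 := by
    rw [map_mul, hc, mul_assoc, hb, mul_zero]
  have h2 : c * x = 0 := hinj (by rw [h1, map_zero])
  have h3 : c = 0 := (mem_nonZeroDivisors_iff_right.mp hx) c h2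
  rw [h3, map_zero] at hc
  have h4 : b * algebraMap A B (a ^ n) = 0 := by rw [mul_comm, ← hc]
  exact (mem_nonZeroDivisors_iff_right.mp hdB) b h4

lemma goodExt_of_tameData (D : TameData A a₁ a₂) (h₁ : a₁ ∈ nonZeroDivisors A)
    (h₂ : a₂ ∈ nonZeroDivisors A) (hnu : ¬ (IsUnit a₁ ∧ IsUnit a₂)) : GoodExt A D.B := by
  rcases not_and_or.mp hnu with h | h
  · exact goodExt_of_isFinExt D.isFinExt h₁ h (algebraMap_mem_nonZeroDivisors_left D)
  · exact goodExt_of_isFinExt D.isFinExt h₂ h (algebraMap_mem_nonZeroDivisors_right D)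

end GoodOfTame

section Embed

variable {A B : Type u} [CommRing A] [CommRing B] [Algebra A B]

/-- A good extension embeds into the total ring of fractions of `A`. -/
theorem exists_algHom_fractionRing (h : GoodExt A B) :
    ∃ ι : B →ₐ[A] FractionRing A, Function.Injective ι ∧
      ∀ b ∈ nonZeroDivisors B, IsUnit (ι b) := by
  obtain ⟨d, hd, hd'⟩ := h.denom
  choose ν hν using hd'
  set Q := FractionRing A with hQ
  have hu : IsUnit (algebraMap A Q d) := IsLocalization.map_units Q ⟨d, hd⟩
  obtain ⟨δ, hδ⟩ := hu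
  have hδ1 : algebraMap A Q d * (δ⁻¹ : Qˣ) = 1 := by rw [← hδ]; exact Units.mul_inv δ
  have hν_add : ∀ b b', ν (b + b') = ν b + ν b' := fun b b' =>
    h.inj (by rw [map_add, hν, hν, hν, mul_add])
  have hν_mul : ∀ b b', ν (b * b') * d = ν b * ν b' := fun b b' =>
    h.inj (by rw [map_mul, map_mul, hν, hν, hν]; ring)
  have hν_one : ν 1 = d := h.inj (by rw [hν, mul_one])
  have hν_alg : ∀ a, ν (algebraMap A B a) = d * a := fun a =>
    h.inj (by rw [hν, map_mul])
  have hν_zero : ν 0 = 0 := h.inj (by rw [hν, mul_zero, map_zero])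
  let ι : B →ₐ[A] Q :=
    { toFun := fun b => algebraMap A Q (ν b) * (δ⁻¹ : Qˣ)
      map_one' := by rw [hν_one]; exact hδ1
      map_mul' := by
        intro b b'
        have h1 : algebraMap A Q (ν (b * b')) * algebraMap A Q d =
            algebraMap A Q (ν b) * algebraMap A Q (ν b') := by
          rw [← map_mul, hν_mul, map_mul]
        calc algebraMap A Q (ν (b * b')) * (δ⁻¹ : Qˣ)
            = algebraMap A Q (ν (b * b')) * (algebraMap A Q d * (δ⁻¹ : Qˣ)) * (δ⁻¹ : Qˣ) := by
              rw [hδ1, mul_one]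
          _ = (algebraMap A Q (ν (b * b')) * algebraMap A Q d) * (δ⁻¹ : Qˣ) * (δ⁻¹ : Qˣ) := by ring
          _ = algebraMap A Q (ν b) * (δ⁻¹ : Qˣ) * (algebraMap A Q (ν b') * (δ⁻¹ : Qˣ)) := by
              rw [h1]; ring
      map_zero' := by rw [hν_zero, map_zero, zero_mul]
      map_add' := by intro b b'; rw [hν_add, map_add, add_mul]
      commutes' := by
        intro a
        rw [hν_alg, map_mul, mul_comm (algebraMap A Q d), mul_assoc, hδ1, mul_one] }
  have hι : ∀ b, ι b = algebraMap A Q (ν b) * (δ⁻¹ : Qˣ) := fun b => rfl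
  have hdB : algebraMap A B d ∈ nonZeroDivisors B := h.nzd d hd
  refine ⟨ι, ?_, ?_⟩
  · rw [injective_iff_map_eq_zero]
    intro b hb
    rw [hι] at hb
    have h1 : algebraMap A Q (ν b) = 0 := by
      have := congrArg (· * (δ : Q)) hb
      simpa [mul_assoc] using this
    have h2 : ν b = 0 := IsFractionRing.injective A Q (by rw [h1, map_zero])
    have h3 := hν b
    rw [h2, map_zero] at h3
    have h4 : b * algebraMap A B d = 0 := by rw [mul_comm, ← h3]
    exact (mem_nonZeroDivisors_iff_right.mp hdB) b h4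
  · intro b hb
    have hνb : ν b ∈ nonZeroDivisors A := by
      rw [mem_nonZeroDivisors_iff_right]
      intro t ht
      have h3 : algebraMap A B t * (algebraMap A B d * b) = 0 := by
        rw [← hν, ← map_mul, ht, map_zero]
      have h4 : algebraMap A B d * b ∈ nonZeroDivisors B := mul_mem hdB hb
      have h5 := (mem_nonZeroDivisors_iff_right.mp h4) _ h3
      exact h.inj (by rw [h5, map_zero])
    rw [hι]
    exact (IsLocalization.map_units Q ⟨ν b, hνb⟩).mul (δ⁻¹).isUnit

end Embed

section Units

variable {A : Type u} [CommRing A] [IsLocalRing A] {a₁ a₂ : A}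

/-- If both entries are units, every local factor of any tame datum is `1`
(same argument as helper58's `H58TameDVR.localFactor_eq_one_of_isUnit`). -/
theorem localFactor_eq_one_of_isUnit (D : TameData A a₁ a₂) (h₁ : IsUnit a₁) (h₂ : IsUnit a₂)
    (q : MaximalSpectrum D.B) : D.localFactor q = 1 := by
  unfold TameData.localFactor
  by_cases he : D.e₁ q = 0 ∧ D.e₂ q = 0
  · rw [he.1, he.2]
    simp
  · have hπ : IsUnit (D.π q) := by
      rcases not_and_or.1 he with h | h
      · have hu : IsUnit ((D.u₁ q : Localization.AtPrime q.asIdeal) * D.π q ^ D.e₁ q) := by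
          rw [← D.fac₁ q]; exact h₁.map _
        exact (isUnit_pow_iff h).1 ((IsUnit.mul_iff.1 hu).2)
      · have hu : IsUnit ((D.u₂ q : Localization.AtPrime q.asIdeal) * D.π q ^ D.e₂ q) := by
          rw [← D.fac₂ q]; exact h₂.map _
        exact (isUnit_pow_iff h).1 ((IsUnit.mul_iff.1 hu).2)
    rw [Ring.ord_of_isUnit hπ]
    simp

theorem value_eq_one_of_isUnit (D : TameData A a₁ a₂) (h₁ : IsUnit a₁) (h₂ : IsUnit a₂) :
    D.value = 1 := by
  unfold TameData.value
  rw [finprod_congr (localFactor_eq_one_of_isUnit D h₁ h₂), finprod_one]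

end Units

section Refine

variable {A : Type u} [CommRing A]

lemma goodExt_to_subalgebra {B : Type u} [CommRing B] [Algebra A B] {Q : Type u} [CommRing Q]
    [Algebra A Q] [IsFractionRing A Q] (hB : GoodExt A B) (ι : B →ₐ[A] Q)
    (hι : Function.Injective ι) (hιu : ∀ b ∈ nonZeroDivisors B, IsUnit (ι b))
    (S : Subalgebra A Q) (hfg : S.toSubmodule.FG) [Algebra B S] [IsScalarTower A B S]
    (halg : ∀ b, ((algebraMap B S b : S) : Q) = ι b) : GoodExt B S := by
  have hAS : GoodExt A S := GoodExt.of_subalgebra S hfg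
  refine ⟨?_, ?_, ?_, ?_⟩
  · intro b b' hbb
    apply hι
    rw [← halg, ← halg, hbb]
  · haveI : Module.Finite A S := Module.Finite.of_fg hfg
    exact Module.Finite.of_restrictScalars_finite A B S
  · intro b hb
    rw [mem_nonZeroDivisors_iff_right]
    intro x hx
    have h1 : (x : Q) * ι b = 0 := by
      rw [← halg]
      have := congrArg Subtype.val hx
      simpa using this
    exact Subtype.ext ((hιu b hb).mul_left_eq_zero.mp h1)
  · obtain ⟨d, hd, hd'⟩ := hAS.denom
    refine ⟨algebraMap A B d, hB.nzd d hd, fun x => ?_⟩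
    obtain ⟨a, ha⟩ := hd' x
    exact ⟨algebraMap A B a, by
      rw [← IsScalarTower.algebraMap_apply, ← IsScalarTower.algebraMap_apply, ha]⟩

lemma fg_range_of_finite {B : Type u} [CommRing B] [Algebra A B] [Module.Finite A B]
    {Q : Type u} [CommRing Q] [Algebra A Q] (ι : B →ₐ[A] Q) : ι.range.toSubmodule.FG := by
  have h : ι.range.toSubmodule = Submodule.map ι.toLinearMap ⊤ := by
    ext x
    simp
  rw [h]
  exact (Module.Finite.fg_top).map _

variable [IsNoetherianRing A] [IsLocalRing A]

/-- Two good extensions of `A` are dominated by a common good extension carrying simultaneous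
local factorisations of a given finite family of nonzerodivisors. -/
theorem exists_common_facData (hA : ringKrullDim A = 1) {B B' : Type u} [CommRing B]
    [CommRing B'] [Algebra A B] [Algebra A B'] (hB : GoodExt A B) (hB' : GoodExt A B') {n : ℕ}
    (a : Fin n → A) (ha : ∀ i, a i ∈ nonZeroDivisors A) :
    ∃ (F : FacData A a) (_ : Algebra B F.B) (_ : Algebra B' F.B) (_ : IsScalarTower A B F.B)
      (_ : IsScalarTower A B' F.B), GoodExt B F.B ∧ GoodExt B' F.B := by
  obtain ⟨ι, hι, hιu⟩ := exists_algHom_fractionRing hB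
  obtain ⟨ι', hι', hιu'⟩ := exists_algHom_fractionRing hB'
  haveI := hB.fin
  haveI := hB'.fin
  let S : Subalgebra A (FractionRing A) := ι.range ⊔ ι'.range
  have hfg : S.toSubmodule.FG := by
    change (ι.range ⊔ ι'.range).toSubmodule.FG
    rw [← Subalgebra.mul_toSubmodule]
    exact (fg_range_of_finite ι).mul (fg_range_of_finite ι')
  letI algBS : Algebra B S :=
    (ι.codRestrict S (fun b => Algebra.mem_sup_left (ι.mem_range_self b))).toRingHom.toAlgebra
  letI algB'S : Algebra B' S :=
    (ι'.codRestrict S (fun b => Algebra.mem_sup_right (ι'.mem_range_self b))).toRingHom.toAlgebra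
  haveI tBS : IsScalarTower A B S :=
    IsScalarTower.of_algebraMap_eq (fun x => Subtype.ext (ι.commutes x).symm)
  haveI tB'S : IsScalarTower A B' S :=
    IsScalarTower.of_algebraMap_eq (fun x => Subtype.ext (ι'.commutes x).symm)
  have hBS : GoodExt B S := goodExt_to_subalgebra hB ι hι hιu S hfg (fun _ => rfl)
  have hB'S : GoodExt B' S := goodExt_to_subalgebra hB' ι' hι' hιu' S hfg (fun _ => rfl)
  have hAS : GoodExt A S := GoodExt.of_subalgebra S hfg
  have hS1 : OneDim S := OneDim.of_goodExt hAS (oneDim_of_local A hA)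
  obtain ⟨C, _, _, hSC, hfac⟩ := exists_localFac (∑ i, Lnat S (algebraMap A S (a i))) S hS1 n
    (fun i => algebraMap A S (a i)) (fun i => hAS.nzd _ (ha i)) le_rfl
  letI algAC : Algebra A C := ((algebraMap S C).comp (algebraMap A S)).toAlgebra
  letI algBC : Algebra B C := ((algebraMap S C).comp (algebraMap B S)).toAlgebra
  letI algB'C : Algebra B' C := ((algebraMap S C).comp (algebraMap B' S)).toAlgebra
  haveI tASC : IsScalarTower A S C := IsScalarTower.of_algebraMap_eq (fun _ => rfl)
  haveI tBSC : IsScalarTower B S C := IsScalarTower.of_algebraMap_eq (fun _ => rfl)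
  haveI tB'SC : IsScalarTower B' S C := IsScalarTower.of_algebraMap_eq (fun _ => rfl)
  haveI tABC : IsScalarTower A B C := IsScalarTower.of_algebraMap_eq (fun x => by
    change algebraMap S C (algebraMap A S x) = algebraMap S C (algebraMap B S (algebraMap A B x))
    rw [← IsScalarTower.algebraMap_apply A B S])
  haveI tAB'C : IsScalarTower A B' C := IsScalarTower.of_algebraMap_eq (fun x => by
    change algebraMap S C (algebraMap A S x) = algebraMap S C (algebraMap B' S (algebraMap A B' x))
    rw [← IsScalarTower.algebraMap_apply A B' S])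
  have hAC : GoodExt A C := hAS.trans hSC
  have hBC : GoodExt B C := hBS.trans hSC
  have hB'C : GoodExt B' C := hB'S.trans hSC
  choose π hπ hfac' using hfac
  choose v e hve using hfac'
  refine ⟨{ B := C, good := hAC, π := π, π_mem := hπ, v := fun i q => v q i, e := fun i q => e q i,
            fac := fun i q => ?_ }, algBC, algB'C, tABC, tAB'C, hBC, hB'C⟩
  rw [IsScalarTower.algebraMap_apply A S (Localization.AtPrime q.asIdeal)]
  exact hve q i

end Refine

section Main

variable {A : Type u} [CommRing A] [IsNoetherianRing A] [IsLocalRing A]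

/-- **Independence of the tame symbol of the chosen tame data.** -/
theorem tameData_value_eq (hA : ringKrullDim A = 1) {a₁ a₂ : A} (h₁ : a₁ ∈ nonZeroDivisors A)
    (h₂ : a₂ ∈ nonZeroDivisors A) (D D' : TameData A a₁ a₂) : D.value = D'.value := by
  by_cases hu : IsUnit a₁ ∧ IsUnit a₂
  · rw [value_eq_one_of_isUnit D hu.1 hu.2, value_eq_one_of_isUnit D' hu.1 hu.2]
  · have hB := goodExt_of_tameData D h₁ h₂ hu
    have hB' := goodExt_of_tameData D' h₁ h₂ hu
    obtain ⟨F, algB, algB', tB, tB', gB, gB'⟩ := exists_common_facData hA hB hB' ![a₁, a₂]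
      (by intro i; fin_cases i <;> simpa)
    have e1 := @value_eq_of_goodExt A _ _ _ a₁ a₂ hA D (F.tame hA 0 1) algB tB hB gB
    have e2 := @value_eq_of_goodExt A _ _ _ a₁ a₂ hA D' (F.tame hA 0 1) algB' tB' hB' gB'
    exact e1.symm.trans e2

end Main

end Groth.Agent.R2.H71.Tame
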