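import Groth.Agent.R2.H71Tame6

/-!
# Tame symbols: local identities for `theta` (helper71)
-/

set_option autoImplicit false
set_option linter.style.haveILetI false
set_option linter.unusedSectionVars false
set_option linter.unusedSimpArgs false
set_option linter.unreachableTactic false
set_option linter.unusedTactic false
universe u

namespace Groth.Agent.R2.H71.Tame

open IsLocalRing

section ThetaLaws

variable {R : Type u} [CommRing R] [IsLocalRing R]

lemma theta_mul_left (u u' w : Rˣ) (e e' f : ℕ) :
    theta R (u * u') w (e + e') f = theta R u w e f * theta R u' w e' f := by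
  unfold theta
  have hw := residue_unit_ne_zero w
  rw [Units.val_mul, map_mul, add_mul, pow_add, pow_add, mul_pow, mul_inv]
  ring

lemma theta_mul_right (w u u' : Rˣ) (f e e' : ℕ) :
    theta R w (u * u') f (e + e') = theta R w u f e * theta R w u' f e' := by
  unfold theta
  rw [Units.val_mul, map_mul, mul_add, pow_add, pow_add, mul_pow, mul_inv]
  ring

lemma theta_self (u : Rˣ) (e : ℕ) : theta R u u e e = (-1) ^ e := by
  unfold theta
  have hu := pow_ne_zero e (residue_unit_ne_zero u)
  rw [mul_assoc, mul_inv_cancel₀ hu, mul_one]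
  have := neg_one_pow_mul_self (M := ResidueField R) 1 e
  rwa [one_mul] at this

lemma theta_unit_left (c u : Rˣ) (e : ℕ) : theta R c u 0 e = residue R (c : R) ^ e := by
  unfold theta
  simp

/-- cancellation of powers of a nonunit nonzerodivisor -/
lemma pow_mul_unit_eq {π : R} (hπ : π ∈ nonZeroDivisors R) (hπm : π ∈ maximalIdeal R)
    {x y : R} (hx : IsUnit x) (hy : IsUnit y) {i j : ℕ} (h : π ^ i * x = π ^ j * y) :
    i = j ∧ x = y := by
  have key : ∀ {i j : ℕ} {x y : R}, IsUnit x → IsUnit y → i ≤ j → π ^ i * x = π ^ j * y →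
      i = j ∧ x = y := by
    intro i j x y hx hy hij h
    obtain ⟨k, rfl⟩ := Nat.exists_eq_add_of_le hij
    have h1 : π ^ i * (x - π ^ k * y) = 0 := by
      rw [mul_sub, h, pow_add]; ring
    have h2 : x - π ^ k * y = 0 := by
      have := (mem_nonZeroDivisors_iff.mp (pow_mem hπ i)).1 _ h1
      exact this
    have h3 : x = π ^ k * y := sub_eq_zero.mp h2
    rcases Nat.eq_zero_or_pos k with rfl | hk
    · exact ⟨rfl, by simpa using h3⟩
    · exfalso
      have h4 : π ^ k * y ∈ maximalIdeal R :=
        Ideal.mul_mem_right _ _ (Ideal.pow_mem_of_mem _ hπm k hk)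
      rw [← h3] at h4
      exact ((IsLocalRing.mem_maximalIdeal _).mp h4) hx
  rcases le_total i j with hij | hij
  · exact key hx hy hij h
  · obtain ⟨h1, h2⟩ := key hy hx hij h.symm
    exact ⟨h1.symm, h2.symm⟩

lemma isUnit_sub_of_mem {x m : R} (hx : IsUnit x) (hm : m ∈ maximalIdeal R) : IsUnit (m - x) := by
  by_contra hnu
  have h1 : m - x ∈ maximalIdeal R := (IsLocalRing.mem_maximalIdeal _).mpr hnu
  have h2 : x ∈ maximalIdeal R := by
    have : x = m - (m - x) := by ring
    rw [this]; exact Ideal.sub_mem _ hm h1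
  exact ((IsLocalRing.mem_maximalIdeal _).mp h2) hx

/-- The Steinberg-type relation for the local symbols of `(a, b - a)`, `(b, b)`, `(b, b - a)`,
`(a, b)` where `a = u π^e`, `b = w π^f`, `b - a = z π^g`. -/
theorem theta_steinberg {π : R} (hπ : π ∈ nonZeroDivisors R) (hπm : π ∈ maximalIdeal R)
    (u w z : Rˣ) (e f g : ℕ)
    (h : (w : R) * π ^ f - (u : R) * π ^ e = (z : R) * π ^ g) :
    theta R u z e g * theta R w w f f = theta R w z f g * theta R u w e f := by
  have hx := residue_unit_ne_zero u
  have hy := residue_unit_ne_zero w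
  have ht := residue_unit_ne_zero z
  rw [theta_self]
  unfold theta
  rcases lt_trichotomy e f with hef | hef | hef
  · -- e < f : g = e, z̄ = -ū
    obtain ⟨k, rfl⟩ := Nat.exists_eq_add_of_lt hef
    have hk : π ^ (k + 1) ∈ maximalIdeal R := Ideal.pow_mem_of_mem _ hπm _ (Nat.succ_pos k)
    have hunit : IsUnit ((w : R) * π ^ (k + 1) - (u : R)) :=
      isUnit_sub_of_mem u.isUnit (Ideal.mul_mem_left _ _ hk)
    have h1 : π ^ g * (z : R) = π ^ e * ((w : R) * π ^ (k + 1) - (u : R)) := by
      rw [mul_comm, ← h, pow_add, pow_add]; ring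
    obtain ⟨rfl, hz⟩ := pow_mul_unit_eq hπ hπm z.isUnit hunit h1
    have hzres : residue R (z : R) = - residue R (u : R) := by
      rw [hz, map_sub, map_mul, (residue_eq_zero_iff _).mpr hk, mul_zero, zero_sub]
    rw [hzres]
    rcases Nat.even_or_odd g with hg | hg <;> rcases Nat.even_or_odd k with hk' | hk' <;>
      simp [Even.neg_one_pow, Odd.neg_one_pow, Even.neg_pow, Odd.neg_pow, Nat.even_add,
        Nat.even_mul, Nat.even_add_one, hg, hk', pow_add, parity_simps] <;> field_simp
  · -- e = f
    subst hef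
    rcases lt_trichotomy g e with hge | hge | hge
    · exfalso
      obtain ⟨k, rfl⟩ := Nat.exists_eq_add_of_lt hge
      have hk : π ^ (k + 1) ∈ maximalIdeal R := Ideal.pow_mem_of_mem _ hπm _ (Nat.succ_pos k)
      have h1 : π ^ g * ((z : R) - π ^ (k + 1) * ((w : R) - (u : R))) = 0 := by
        have : (z : R) * π ^ g = π ^ g * (π ^ (k + 1) * ((w : R) - (u : R))) := by
          rw [← h, pow_add, pow_add]; ring
        rw [mul_sub, ← this]; ring
      have h2 := (mem_nonZeroDivisors_iff.mp (pow_mem hπ g)).1 _ h1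
      have h3 : (z : R) = π ^ (k + 1) * ((w : R) - (u : R)) := sub_eq_zero.mp h2
      have h4 : (z : R) ∈ maximalIdeal R := by rw [h3]; exact Ideal.mul_mem_right _ _ hk
      exact ((IsLocalRing.mem_maximalIdeal _).mp h4) z.isUnit
    · subst hge
      have h1 : π ^ g * ((z : R) - ((w : R) - (u : R))) = 0 := by
        have : (z : R) * π ^ g = π ^ g * ((w : R) - (u : R)) := by rw [← h]; ring
        rw [mul_sub, ← this]; ring
      have h2 := (mem_nonZeroDivisors_iff.mp (pow_mem hπ g)).1 _ h1
      have h3 : (z : R) = (w : R) - (u : R) := sub_eq_zero.mp h2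
      rcases Nat.even_or_odd g with hg | hg <;>
        simp [Even.neg_one_pow, Odd.neg_one_pow, Nat.even_mul, hg, parity_simps] <;> field_simp
    · obtain ⟨k, rfl⟩ := Nat.exists_eq_add_of_lt hge
      have hk : π ^ (k + 1) ∈ maximalIdeal R := Ideal.pow_mem_of_mem _ hπm _ (Nat.succ_pos k)
      have h1 : π ^ e * ((w : R) - (u : R) - (z : R) * π ^ (k + 1)) = 0 := by
        have : (z : R) * π ^ (e + k + 1) = π ^ e * ((z : R) * π ^ (k + 1)) := by
          rw [pow_add, pow_add, pow_add]; ring
        rw [mul_sub, ← this, ← h]; ring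
      have h2 := (mem_nonZeroDivisors_iff.mp (pow_mem hπ e)).1 _ h1
      have h3 : (w : R) - (u : R) = (z : R) * π ^ (k + 1) := sub_eq_zero.mp h2
      have hres : residue R (w : R) = residue R (u : R) := by
        have := congrArg (residue R) h3
        rw [map_sub, map_mul, (residue_eq_zero_iff _).mpr hk, mul_zero, sub_eq_zero] at this
        exact this
      rw [hres]
      rcases Nat.even_or_odd e with he | he <;> rcases Nat.even_or_odd k with hk' | hk' <;>
        simp [Even.neg_one_pow, Odd.neg_one_pow, Nat.even_add, Nat.even_mul, Nat.even_add_one,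
          he, hk', pow_add, parity_simps] <;> field_simp
  · -- f < e : g = f, z̄ = w̄
    obtain ⟨k, rfl⟩ := Nat.exists_eq_add_of_lt hef
    have hk : π ^ (k + 1) ∈ maximalIdeal R := Ideal.pow_mem_of_mem _ hπm _ (Nat.succ_pos k)
    have hunit : IsUnit ((w : R) - (u : R) * π ^ (k + 1)) := by
      have := isUnit_sub_of_mem w.isUnit (Ideal.mul_mem_left _ (u : R) hk)
      have h2 : (w : R) - (u : R) * π ^ (k + 1) = -((u : R) * π ^ (k + 1) - (w : R)) := by ring
      rw [h2]; exact this.neg
    have h1 : π ^ g * (z : R) = π ^ f * ((w : R) - (u : R) * π ^ (k + 1)) := by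
      rw [mul_comm, ← h, pow_add, pow_add]; ring
    obtain ⟨rfl, hz⟩ := pow_mul_unit_eq hπ hπm z.isUnit hunit h1
    have hzres : residue R (z : R) = residue R (w : R) := by
      rw [hz, map_sub, map_mul, (residue_eq_zero_iff _).mpr hk, mul_zero, sub_zero]
    rw [hzres]
    rcases Nat.even_or_odd g with hg | hg <;> rcases Nat.even_or_odd k with hk' | hk' <;>
      simp [Even.neg_one_pow, Odd.neg_one_pow, Nat.even_add, Nat.even_mul, Nat.even_add_one,
        hg, hk', pow_add, parity_simps] <;> field_simp

end ThetaLaws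

end Groth.Agent.R2.H71.Tame
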