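import Groth.Agent.R2.H71Tame7

/-!
# Tame symbols: the laws (helper71)
-/

set_option autoImplicit false
set_option linter.style.haveILetI false
set_option linter.unusedSectionVars false
universe u

namespace Groth.Agent.R2.H71.Tame

open IsLocalRing CycAlg Groth.Agent.R2.H71.Blow

section TameOf

variable {A : Type u} [CommRing A] [IsNoetherianRing A] [IsLocalRing A] {n : ℕ} {a : Fin n → A}

lemma FacData.isLocalHom (F : FacData A a) (q : MaximalSpectrum F.B) :
    IsLocalHom (algebraMap A (Localization.AtPrime q.asIdeal)) := by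
  haveI := F.good.fin
  haveI : Algebra.IsIntegral A F.B := Algebra.IsIntegral.of_finite A F.B
  exact isLocalHom_of_integral q

/-- The tame datum on `F.B` for a pair `(x, y)` with given factorisations. -/
@[reducible] noncomputable def FacData.tameOf (hA : ringKrullDim A = 1) (F : FacData A a) (x y : A)
    (ux uy : (q : MaximalSpectrum F.B) → (Localization.AtPrime q.asIdeal)ˣ)
    (ex ey : MaximalSpectrum F.B → ℕ)
    (hx : ∀ q, algebraMap A (Localization.AtPrime q.asIdeal) x =
      (ux q : Localization.AtPrime q.asIdeal) * F.π q ^ ex q)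
    (hy : ∀ q, algebraMap A (Localization.AtPrime q.asIdeal) y =
      (uy q : Localization.AtPrime q.asIdeal) * F.π q ^ ey q) : TameData A x y where
  B := F.B
  isFinExt := isFinExt_of_goodExt hA F.good
  isLocalHom := F.isLocalHom
  π := F.π
  π_mem := F.π_mem
  u₁ := ux
  u₂ := uy
  e₁ := ex
  e₂ := ey
  fac₁ := hx
  fac₂ := hy

/-- The residue degree of a maximal ideal of `F.B` over `A`. -/
noncomputable def FacData.d (F : FacData A a) (q : MaximalSpectrum F.B) : ℕ :=
  haveI := F.isLocalHom q
  Module.finrank (ResidueField A) (ResidueField (Localization.AtPrime q.asIdeal))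

/-- The order of the local parameter. -/
noncomputable def FacData.m (F : FacData A a) (q : MaximalSpectrum F.B) : ℕ :=
  (Ring.ord (Localization.AtPrime q.asIdeal) (F.π q)).toNat

/-- The norm of the local symbol. -/
noncomputable def FacData.G (F : FacData A a) (q : MaximalSpectrum F.B)
    (ux uy : (Localization.AtPrime q.asIdeal)ˣ) (ex ey : ℕ) : ResidueField A :=
  haveI := F.isLocalHom q
  Algebra.norm (ResidueField A) (theta (Localization.AtPrime q.asIdeal) ux uy ex ey)

lemma FacData.finite_maximalSpectrum (hA : ringKrullDim A = 1) (F : FacData A a) :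
    Finite (MaximalSpectrum F.B) :=
  (OneDim.of_goodExt F.good (oneDim_of_local A hA)).fin_max

lemma FacData.value_tameOf (hA : ringKrullDim A = 1) (F : FacData A a)
    [Fintype (MaximalSpectrum F.B)] (x y : A)
    (ux uy : (q : MaximalSpectrum F.B) → (Localization.AtPrime q.asIdeal)ˣ)
    (ex ey : MaximalSpectrum F.B → ℕ)
    (hx : ∀ q, algebraMap A (Localization.AtPrime q.asIdeal) x =
      (ux q : Localization.AtPrime q.asIdeal) * F.π q ^ ex q)
    (hy : ∀ q, algebraMap A (Localization.AtPrime q.asIdeal) y =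
      (uy q : Localization.AtPrime q.asIdeal) * F.π q ^ ey q) :
    (F.tameOf hA x y ux uy ex ey hx hy).value =
      ∏ q : MaximalSpectrum F.B, F.G q (ux q) (uy q) (ex q) (ey q) ^ F.m q := by
  change (∏ᶠ q : MaximalSpectrum F.B, (F.tameOf hA x y ux uy ex ey hx hy).localFactor q) = _
  rw [finprod_eq_prod_of_fintype]
  rfl

theorem tameSymbol_eq_value (hA : ringKrullDim A = 1) {a₁ a₂ : A}
    (h₁ : a₁ ∈ nonZeroDivisors A) (h₂ : a₂ ∈ nonZeroDivisors A) (D : TameData A a₁ a₂) :
    tameSymbol A a₁ a₂ = D.value := by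
  unfold tameSymbol
  rw [dif_pos ⟨D⟩]
  exact tameData_value_eq hA h₁ h₂ _ D

end TameOf

section GLaws

variable {A : Type u} [CommRing A] [IsNoetherianRing A] [IsLocalRing A] {n : ℕ} {a : Fin n → A}
  (F : FacData A a) (q : MaximalSpectrum F.B)

lemma FacData.G_mul_left (u u' w : (Localization.AtPrime q.asIdeal)ˣ) (e e' f : ℕ) :
    F.G q (u * u') w (e + e') f = F.G q u w e f * F.G q u' w e' f := by
  unfold FacData.G
  rw [theta_mul_left, map_mul]

lemma FacData.G_mul_right (w u u' : (Localization.AtPrime q.asIdeal)ˣ) (f e e' : ℕ) :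
    F.G q w (u * u') f (e + e') = F.G q w u f e * F.G q w u' f e' := by
  unfold FacData.G
  rw [theta_mul_right, map_mul]

lemma FacData.G_self (u : (Localization.AtPrime q.asIdeal)ˣ) (e : ℕ) :
    F.G q u u e e = (-1) ^ (e * F.d q) := by
  unfold FacData.G FacData.d
  haveI := F.isLocalHom q
  rw [theta_self]
  have : ((-1 : ResidueField (Localization.AtPrime q.asIdeal)) ^ e) =
      algebraMap (ResidueField A) (ResidueField (Localization.AtPrime q.asIdeal)) ((-1) ^ e) := by
    rw [map_pow, map_neg, map_one]
  rw [this, Algebra.norm_algebraMap, ← pow_mul]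

lemma FacData.G_unit_left (c : Aˣ) (cq u : (Localization.AtPrime q.asIdeal)ˣ)
    (hc : (cq : Localization.AtPrime q.asIdeal) = algebraMap A _ (c : A)) (e : ℕ) :
    F.G q cq u 0 e = residue A (c : A) ^ (e * F.d q) := by
  unfold FacData.G FacData.d
  haveI := F.isLocalHom q
  rw [theta_unit_left, hc]
  have : residue (Localization.AtPrime q.asIdeal) (algebraMap A _ (c : A)) =
      algebraMap (ResidueField A) (ResidueField (Localization.AtPrime q.asIdeal))
        (residue A (c : A)) := rfl
  rw [this, ← map_pow, Algebra.norm_algebraMap, ← pow_mul]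

lemma FacData.finite_residueField (q : MaximalSpectrum F.B) :
    haveI := F.isLocalHom q
    Module.Finite (ResidueField A) (ResidueField (Localization.AtPrime q.asIdeal)) := by
  haveI := F.isLocalHom q
  haveI := F.good.fin
  haveI : Module.Finite A (ResidueField (Localization.AtPrime q.asIdeal)) :=
    Module.Finite.equiv (quotEquivResidueField (R₀ := A) q)
  exact Module.Finite.of_restrictScalars_finite A _ _

lemma FacData.G_ne_zero (ux uy : (Localization.AtPrime q.asIdeal)ˣ) (ex ey : ℕ) :
    F.G q ux uy ex ey ≠ 0 := by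
  unfold FacData.G
  haveI := F.isLocalHom q
  haveI := F.finite_residueField q
  rw [Ne, Algebra.norm_eq_zero_iff]
  exact theta_ne_zero _ _ _ _

end GLaws

section Steinberg

variable {A : Type u} [CommRing A] [IsNoetherianRing A] [IsLocalRing A] {n : ℕ} {a : Fin n → A}
  (F : FacData A a) (q : MaximalSpectrum F.B)

lemma FacData.G_steinberg (hπm : F.π q ∈ maximalIdeal (Localization.AtPrime q.asIdeal))
    (u w z : (Localization.AtPrime q.asIdeal)ˣ) (e f g : ℕ)
    (h : (w : Localization.AtPrime q.asIdeal) * F.π q ^ f - (u : Localization.AtPrime q.asIdeal) * F.π q ^ e =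
      (z : Localization.AtPrime q.asIdeal) * F.π q ^ g) :
    F.G q u z e g * F.G q w w f f = F.G q w z f g * F.G q u w e f := by
  unfold FacData.G
  rw [← map_mul, ← map_mul, theta_steinberg (F.π_mem q) hπm u w z e f g h]

lemma FacData.m_eq_zero_of_isUnit (h : IsUnit (F.π q)) : F.m q = 0 := by
  unfold FacData.m
  rw [Ring.ord_of_isUnit h]
  rfl

/-- Steinberg relation for the local factors, including the case of a unit parameter. -/
lemma FacData.G_steinberg_pow (u w z : (Localization.AtPrime q.asIdeal)ˣ) (e f g : ℕ)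
    (h : (w : Localization.AtPrime q.asIdeal) * F.π q ^ f - (u : Localization.AtPrime q.asIdeal) * F.π q ^ e =
      (z : Localization.AtPrime q.asIdeal) * F.π q ^ g) :
    F.G q u z e g ^ F.m q * F.G q w w f f ^ F.m q =
      F.G q w z f g ^ F.m q * F.G q u w e f ^ F.m q := by
  by_cases hu : IsUnit (F.π q)
  · rw [F.m_eq_zero_of_isUnit q hu]; simp
  · have hπm : F.π q ∈ maximalIdeal (Localization.AtPrime q.asIdeal) :=
      (IsLocalRing.mem_maximalIdeal _).mpr hu
    rw [← mul_pow, ← mul_pow, F.G_steinberg q hπm u w z e f g h]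

end Steinberg

section LengthFormula

variable {A : Type u} [CommRing A] [IsNoetherianRing A] [IsLocalRing A] {n : ℕ} {a : Fin n → A}

lemma FacData.length_quot_eq_d (F : FacData A a) (q : MaximalSpectrum F.B) :
    Module.length A (F.B ⧸ q.asIdeal) = (F.d q : ℕ∞) := by
  haveI := F.isLocalHom q
  haveI := F.finite_residueField q
  exact length_quot_maximal_eq_finrank (R₀ := A) A q residue_surjective

lemma FacData.sum_d_e_m (hA : ringKrullDim A = 1) (F : FacData A a)
    [Fintype (MaximalSpectrum F.B)] {b : A} (hb : b ∈ nonZeroDivisors A)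
    (ub : (q : MaximalSpectrum F.B) → (Localization.AtPrime q.asIdeal)ˣ)
    (eb : MaximalSpectrum F.B → ℕ)
    (hfac : ∀ q, algebraMap A (Localization.AtPrime q.asIdeal) b =
      (ub q : Localization.AtPrime q.asIdeal) * F.π q ^ eb q) :
    ∑ q : MaximalSpectrum F.B, F.d q * (eb q * F.m q) =
      (Module.length A (A ⧸ Ideal.span {b})).toNat := by
  haveI := F.good.fin
  have hA1 : OneDim A := oneDim_of_local A hA
  have hC : OneDim F.B := OneDim.of_goodExt F.good hA1
  have h1 := length_quot_span_eq_sum (R₀ := A) (C := F.B) (algebraMap A F.B b)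
    (Module.length_ne_top_iff.mp (hC.len _ (F.good.nzd b hb)))
  have h3 : Module.length A (F.B ⧸ Ideal.span {algebraMap A F.B b}) =
      Module.length A (A ⧸ Ideal.span {b}) := by
    rw [← length_quot_xsub_eq F.good hA1 hb]
    have e1 := Submodule.Quotient.restrictScalarsEquiv A (Ideal.span {algebraMap A F.B b})
    have e2 := Submodule.quotEquivOfEq _ _ (span_restrictScalars_eq (A := A) (B := F.B) b)
    exact (e1.symm.trans e2).length_eq
  rw [h3] at h1
  have h4 : ∀ q : MaximalSpectrum F.B, Module.length A (F.B ⧸ q.asIdeal) *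
      Ring.ord (Localization.AtPrime q.asIdeal)
        (algebraMap F.B (Localization.AtPrime q.asIdeal) (algebraMap A F.B b)) =
      ((F.d q * (eb q * F.m q) : ℕ) : ℕ∞) := by
    intro q
    rw [F.length_quot_eq_d q, ← IsScalarTower.algebraMap_apply, hfac q,
      Ring.ord_mul_of_isUnit_left (ub q).isUnit, Ring.ord_pow (F.π_mem q)]
    have hm : Ring.ord (Localization.AtPrime q.asIdeal) (F.π q) = (F.m q : ℕ∞) :=
      (ENat.natCast_toNat (ord_ne_top_of_finite (A := A) hA q (F.π_mem q))).symm
    rw [hm]
    push_cast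
    rfl
  rw [Finset.sum_congr rfl (fun q _ => h4 q), ← Nat.cast_sum] at h1
  rw [h1, ENat.toNat_natCast]

end LengthFormula

end Groth.Agent.R2.H71.Tame
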