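import Groth.Agent.R2.H71Tame8

/-!
# Tame symbols: the laws, assembled (helper71)
-/

set_option autoImplicit false
set_option linter.style.haveILetI false
set_option linter.unusedSectionVars false
universe u

namespace Groth.Agent.R2.H71.Tame

open IsLocalRing CycAlg Groth.Agent.R2.H71.Blow

section Laws

variable {A : Type u} [CommRing A] [IsNoetherianRing A] [IsLocalRing A]

theorem exists_facData (hA : ringKrullDim A = 1) {n : ℕ} (a : Fin n → A)
    (ha : ∀ i, a i ∈ nonZeroDivisors A) : Nonempty (FacData A a) := by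
  obtain ⟨F, -⟩ := exists_common_facData hA (GoodExt.refl (A := A)) (GoodExt.refl (A := A)) a ha
  exact ⟨F⟩

variable (hA : ringKrullDim A = 1) {n : ℕ} {a : Fin n → A} (ha : ∀ i, a i ∈ nonZeroDivisors A)

include hA ha in
theorem tameSymbol_eq_prod (F : FacData A a) [Fintype (MaximalSpectrum F.B)] (i j : Fin n) :
    tameSymbol A (a i) (a j) =
      ∏ q : MaximalSpectrum F.B, F.G q (F.v i q) (F.v j q) (F.e i q) (F.e j q) ^ F.m q :=
  (tameSymbol_eq_value hA (ha i) (ha j) (F.tameOf hA (a i) (a j) (F.v i) (F.v j) (F.e i) (F.e j)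
    (F.fac i) (F.fac j))).trans (F.value_tameOf hA _ _ _ _ _ _ _ _)

include hA ha in
theorem tameSymbol_ne_zero_idx (F : FacData A a) [Fintype (MaximalSpectrum F.B)] (i j : Fin n) : tameSymbol A (a i) (a j) ≠ 0 := by
  rw [tameSymbol_eq_prod hA ha F i j, Finset.prod_ne_zero_iff]
  intro q _
  exact pow_ne_zero _ (F.G_ne_zero q _ _ _ _)

include hA ha in
theorem tameSymbol_mul_left_idx (F : FacData A a) [Fintype (MaximalSpectrum F.B)] (i j k : Fin n) :
    tameSymbol A (a i * a j) (a k) = tameSymbol A (a i) (a k) * tameSymbol A (a j) (a k) := by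
  have hx : ∀ q : MaximalSpectrum F.B, algebraMap A (Localization.AtPrime q.asIdeal) (a i * a j) =
      ((F.v i q * F.v j q : (Localization.AtPrime q.asIdeal)ˣ) : Localization.AtPrime q.asIdeal) *
        F.π q ^ (F.e i q + F.e j q) := by
    intro q
    rw [map_mul, F.fac i q, F.fac j q, Units.val_mul, pow_add]; ring
  rw [tameSymbol_eq_value hA (mul_mem (ha i) (ha j)) (ha k)
    (F.tameOf hA (a i * a j) (a k) (fun q => F.v i q * F.v j q) (F.v k)
      (fun q => F.e i q + F.e j q) (F.e k) hx (F.fac k)),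
    F.value_tameOf, tameSymbol_eq_prod hA ha F i k, tameSymbol_eq_prod hA ha F j k,
    ← Finset.prod_mul_distrib]
  apply Finset.prod_congr rfl
  intro q _
  rw [F.G_mul_left, mul_pow]

include hA ha in
theorem tameSymbol_mul_right_idx (F : FacData A a) [Fintype (MaximalSpectrum F.B)] (i j k : Fin n) :
    tameSymbol A (a k) (a i * a j) = tameSymbol A (a k) (a i) * tameSymbol A (a k) (a j) := by
  have hx : ∀ q : MaximalSpectrum F.B, algebraMap A (Localization.AtPrime q.asIdeal) (a i * a j) =
      ((F.v i q * F.v j q : (Localization.AtPrime q.asIdeal)ˣ) : Localization.AtPrime q.asIdeal) *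
        F.π q ^ (F.e i q + F.e j q) := by
    intro q
    rw [map_mul, F.fac i q, F.fac j q, Units.val_mul, pow_add]; ring
  rw [tameSymbol_eq_value hA (ha k) (mul_mem (ha i) (ha j))
    (F.tameOf hA (a k) (a i * a j) (F.v k) (fun q => F.v i q * F.v j q) (F.e k)
      (fun q => F.e i q + F.e j q) (F.fac k) hx),
    F.value_tameOf, tameSymbol_eq_prod hA ha F k i, tameSymbol_eq_prod hA ha F k j,
    ← Finset.prod_mul_distrib]
  apply Finset.prod_congr rfl
  intro q _
  rw [F.G_mul_right, mul_pow]

include hA ha in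
theorem tameSymbol_self_idx (F : FacData A a) [Fintype (MaximalSpectrum F.B)] (i : Fin n) :
    tameSymbol A (a i) (a i) = (-1) ^ (Module.length A (A ⧸ Ideal.span {a i})).toNat := by
  rw [tameSymbol_eq_prod hA ha F i i, ← F.sum_d_e_m hA (ha i) (F.v i) (F.e i) (F.fac i),
    ← Finset.prod_pow_eq_pow_sum]
  apply Finset.prod_congr rfl
  intro q _
  rw [F.G_self, ← pow_mul]
  congr 1
  ring

include hA ha in
theorem tameSymbol_unit_idx (F : FacData A a) [Fintype (MaximalSpectrum F.B)] (c : Aˣ) (i : Fin n) :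
    tameSymbol A (c : A) (a i) =
      residue A (c : A) ^ (Module.length A (A ⧸ Ideal.span {a i})).toNat := by
  have hx : ∀ q : MaximalSpectrum F.B, algebraMap A (Localization.AtPrime q.asIdeal) (c : A) =
      ((Units.map (algebraMap A (Localization.AtPrime q.asIdeal)).toMonoidHom c :
        (Localization.AtPrime q.asIdeal)ˣ) : Localization.AtPrime q.asIdeal) * F.π q ^ 0 := by
    intro q
    rw [pow_zero, mul_one]
    rfl
  rw [tameSymbol_eq_value hA (IsUnit.mem_nonZeroDivisors c.isUnit) (ha i)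
    (F.tameOf hA (c : A) (a i) (fun q => Units.map (algebraMap A _).toMonoidHom c) (F.v i)
      (fun _ => 0) (F.e i) hx (F.fac i)),
    F.value_tameOf, ← F.sum_d_e_m hA (ha i) (F.v i) (F.e i) (F.fac i),
    ← Finset.prod_pow_eq_pow_sum]
  apply Finset.prod_congr rfl
  intro q _
  rw [F.G_unit_left q c _ _ rfl, ← pow_mul]
  congr 1
  ring

include hA ha in
theorem tameSymbol_steinberg_idx (F : FacData A a) [Fintype (MaximalSpectrum F.B)] (i j k : Fin n) (hrel : a k = a j - a i) :
    tameSymbol A (a i) (a k) * tameSymbol A (a j) (a j) =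
      tameSymbol A (a j) (a k) * tameSymbol A (a i) (a j) := by
  rw [tameSymbol_eq_prod hA ha F i k, tameSymbol_eq_prod hA ha F j j,
    tameSymbol_eq_prod hA ha F j k, tameSymbol_eq_prod hA ha F i j,
    ← Finset.prod_mul_distrib, ← Finset.prod_mul_distrib]
  apply Finset.prod_congr rfl
  intro q _
  apply F.G_steinberg_pow
  rw [← F.fac j q, ← F.fac i q, ← F.fac k q, hrel, map_sub]

end Laws

section Final

variable {A : Type u} [CommRing A] [IsNoetherianRing A] [IsLocalRing A]

theorem tameSymbol_ne_zero (hA : ringKrullDim A = 1) {x y : A} (hx : x ∈ nonZeroDivisors A)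
    (hy : y ∈ nonZeroDivisors A) : tameSymbol A x y ≠ 0 := by
  have ha : ∀ i, (![x, y] : Fin 2 → A) i ∈ nonZeroDivisors A := by
    intro i; fin_cases i <;> simpa
  obtain ⟨F⟩ := exists_facData hA ![x, y] ha
  haveI := F.finite_maximalSpectrum hA
  haveI : Fintype (MaximalSpectrum F.B) := Fintype.ofFinite _
  exact tameSymbol_ne_zero_idx hA ha F 0 1

theorem tameSymbol_mul_left (hA : ringKrullDim A = 1) {x x' y : A} (hx : x ∈ nonZeroDivisors A)
    (hx' : x' ∈ nonZeroDivisors A) (hy : y ∈ nonZeroDivisors A) :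
    tameSymbol A (x * x') y = tameSymbol A x y * tameSymbol A x' y := by
  have ha : ∀ i, (![x, x', y] : Fin 3 → A) i ∈ nonZeroDivisors A := by
    intro i; fin_cases i <;> simpa
  obtain ⟨F⟩ := exists_facData hA ![x, x', y] ha
  haveI := F.finite_maximalSpectrum hA
  haveI : Fintype (MaximalSpectrum F.B) := Fintype.ofFinite _
  exact tameSymbol_mul_left_idx hA ha F 0 1 2

theorem tameSymbol_mul_right (hA : ringKrullDim A = 1) {x x' y : A} (hx : x ∈ nonZeroDivisors A)
    (hx' : x' ∈ nonZeroDivisors A) (hy : y ∈ nonZeroDivisors A) :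
    tameSymbol A y (x * x') = tameSymbol A y x * tameSymbol A y x' := by
  have ha : ∀ i, (![x, x', y] : Fin 3 → A) i ∈ nonZeroDivisors A := by
    intro i; fin_cases i <;> simpa
  obtain ⟨F⟩ := exists_facData hA ![x, x', y] ha
  haveI := F.finite_maximalSpectrum hA
  haveI : Fintype (MaximalSpectrum F.B) := Fintype.ofFinite _
  exact tameSymbol_mul_right_idx hA ha F 0 1 2

theorem tameSymbol_self (hA : ringKrullDim A = 1) {b : A} (hb : b ∈ nonZeroDivisors A) :
    tameSymbol A b b = (-1) ^ (Module.length A (A ⧸ Ideal.span {b})).toNat := by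
  have ha : ∀ i, (![b] : Fin 1 → A) i ∈ nonZeroDivisors A := by
    intro i; fin_cases i; simpa
  obtain ⟨F⟩ := exists_facData hA ![b] ha
  haveI := F.finite_maximalSpectrum hA
  haveI : Fintype (MaximalSpectrum F.B) := Fintype.ofFinite _
  exact tameSymbol_self_idx hA ha F 0

theorem tameSymbol_unit (hA : ringKrullDim A = 1) (c : Aˣ) {b : A} (hb : b ∈ nonZeroDivisors A) :
    tameSymbol A (c : A) b = residue A (c : A) ^ (Module.length A (A ⧸ Ideal.span {b})).toNat := by
  have ha : ∀ i, (![b] : Fin 1 → A) i ∈ nonZeroDivisors A := by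
    intro i; fin_cases i; simpa
  obtain ⟨F⟩ := exists_facData hA ![b] ha
  haveI := F.finite_maximalSpectrum hA
  haveI : Fintype (MaximalSpectrum F.B) := Fintype.ofFinite _
  exact tameSymbol_unit_idx hA ha F c 0

theorem tameSymbol_steinberg (hA : ringKrullDim A = 1) {x y : A} (hx : x ∈ nonZeroDivisors A)
    (hy : y ∈ nonZeroDivisors A) (hyx : y - x ∈ nonZeroDivisors A) :
    tameSymbol A x (y - x) * tameSymbol A y y = tameSymbol A y (y - x) * tameSymbol A x y := by
  have ha : ∀ i, (![x, y, y - x] : Fin 3 → A) i ∈ nonZeroDivisors A := by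
    intro i; fin_cases i <;> simpa
  obtain ⟨F⟩ := exists_facData hA ![x, y, y - x] ha
  haveI := F.finite_maximalSpectrum hA
  haveI : Fintype (MaximalSpectrum F.B) := Fintype.ofFinite _
  exact tameSymbol_steinberg_idx hA ha F 0 1 2 rfl

end Final

end Groth.Agent.R2.H71.Tame
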