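import Mathlib
import Groth.Agent.Lib.Helper6ReducedSmooth

/-!
# Integral elements of smooth algebras over a field are separable (helper72)

* `separable_minpoly_of_smooth`: if `A` is a smooth algebra over a field `k` and `a : A` is integral
  over `k`, then the minimal polynomial of `a` over `k` is separable (smooth algebras are
  geometrically reduced).
* `der_eq_zero_of_separable`: an additive map `D : A → N` into an `A`-module satisfying the Leibniz
  rule and killing the constants from `k` vanishes on every root of a separable polynomial over `k`.
-/

set_option autoImplicit false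
set_option linter.style.haveILetI false

universe u

namespace Groth.Agent.R2.H72.SmoothSep

open TensorProduct Polynomial

section Der

variable {k A N : Type*} [Field k] [CommRing A] [Algebra k A] [AddCommGroup N] [Module A N]

theorem der_aeval (D : A →+ N) (hmul : ∀ x y : A, D (x * y) = x • D y + y • D x)
    (hconst : ∀ c : k, D (algebraMap k A c) = 0) (a : A) (q : k[X]) :
    D (aeval a q) = aeval a (derivative q) • D a := by
  induction q using Polynomial.induction_on with
  | C c => simp [hconst]
  | add p q hp hq => simp [map_add, hp, hq, add_smul]
  | monomial n c ih =>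
    have h1 : aeval a (C c * X ^ (n + 1)) = aeval a (C c * X ^ n) * a := by
      simp [pow_succ, mul_assoc]
    have h2 : derivative (C c * X ^ (n + 1)) = derivative (C c * X ^ n) * X + C c * X ^ n := by
      rw [pow_succ, ← mul_assoc, derivative_mul, derivative_X, mul_one]
    rw [h1, hmul, ih, h2, map_add, map_mul (aeval a) (derivative _) X, aeval_X, add_smul,
      smul_smul, add_comm]
    congr 1
    rw [mul_comm]

theorem der_eq_zero_of_separable (D : A →+ N) (hmul : ∀ x y : A, D (x * y) = x • D y + y • D x)
    (hconst : ∀ c : k, D (algebraMap k A c) = 0) (a : A) (p : k[X]) (hp : p.Separable)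
    (ha : aeval a p = 0) : D a = 0 := by
  obtain ⟨u, v, huv⟩ := hp
  have h1 : aeval a v * aeval a (derivative p) = 1 := by
    have := congrArg (aeval a) huv
    simpa [ha] using this
  have h2 : aeval a (derivative p) • D a = 0 := by
    rw [← der_aeval D hmul hconst a p, ha, map_zero]
  calc D a = (aeval a v * aeval a (derivative p)) • D a := by rw [h1, one_smul]
    _ = 0 := by rw [mul_smul, h2, smul_zero]

end Der

/-- In a smooth algebra over a field, integral elements have separable minimal polynomials. -/
theorem separable_minpoly_of_smooth {k A : Type u} [Field k] [CommRing A] [Algebra k A]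
    [Algebra.Smooth k A] [Nontrivial A] (a : A) (ha : IsIntegral k a) : (minpoly k a).Separable := by
  classical
  let K := AlgebraicClosure k
  haveI : Algebra.Smooth K (K ⊗[k] A) := inferInstance
  haveI : IsReduced (K ⊗[k] A) := Groth.Agent.Lib.Helper6.isReduced_of_smooth K (K ⊗[k] A)
  set b : K ⊗[k] A := (1 : K) ⊗ₜ[k] a with hb
  set n := (minpoly k a).natDegree with hn
  have hpow : ∀ i : ℕ, b ^ i = (1 : K) ⊗ₜ[k] (a ^ i) := by
    intro i
    rw [hb, Algebra.TensorProduct.tmul_pow, one_pow]
  have hli : LinearIndependent K (fun i : Fin n => b ^ (i : ℕ)) := by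
    have h0 := linearIndependent_pow (K := k) a
    have h1 := Module.Flat.linearIndependent_one_tmul (S := K) h0
    convert h1 using 2 with i
    exact hpow _
  have hroot : aeval b ((minpoly k a).map (algebraMap k K)) = 0 := by
    rw [aeval_map_algebraMap]
    have h1 : aeval b (minpoly k a) =
        (Algebra.TensorProduct.includeRight : A →ₐ[k] K ⊗[k] A) (aeval a (minpoly k a)) := by
      rw [← aeval_algHom_apply]
      rfl
    rw [h1, minpoly.aeval, map_zero]
  have hmonic : ((minpoly k a).map (algebraMap k K)).Monic := (minpoly.monic ha).map _
  have hmin : (minpoly k a).map (algebraMap k K) = minpoly K b := by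
    refine minpoly.unique K b hmonic hroot ?_
    intro q hq hqb
    by_contra hlt
    rw [not_le, degree_eq_natDegree hq.ne_zero, degree_eq_natDegree hmonic.ne_zero,
      Nat.cast_lt, natDegree_map] at hlt
    have hsum : aeval b q = ∑ i : Fin n, q.coeff (i : ℕ) • b ^ (i : ℕ) := by
      rw [aeval_eq_sum_range' hlt, Finset.sum_range]
    rw [hsum] at hqb
    have hz := Fintype.linearIndependent_iff.1 hli (fun i => q.coeff (i : ℕ)) hqb
    have : q = 0 := by
      ext i
      by_cases hi : i < n
      · simpa using hz ⟨i, hi⟩
      · rw [coeff_zero, coeff_eq_zero_of_natDegree_lt (lt_of_lt_of_le hlt (not_lt.1 hi))]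
    exact hq.ne_zero this
  have hrad : IsRadical (minpoly K b) := minpoly.isRadical K b
  have hbint : IsIntegral K b := ⟨_, hmonic, by rwa [← aeval_def]⟩
  have hsq : Squarefree (minpoly K b) := hrad.squarefree (minpoly.ne_zero hbint)
  have hsep : (minpoly K b).Separable := PerfectField.separable_iff_squarefree.2 hsq
  rw [← hmin, separable_map] at hsep
  exact hsep

end Groth.Agent.R2.H72.SmoothSep
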