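import Mathlib
import Groth.Prelude.Def_Omega4
import Groth.Agent.Lib.Helper18OmLS1
import Groth.Agent.Lib.Helper13ModAffine
import Groth.Agent.R2.H72SmoothSep

/-!
# Derivations of a smooth proper scheme over a field kill the global functions (helper72)

`der_app_top_eq_zero`: for a field `k`, a smooth universally closed morphism `f : X ⟶ Spec k`, an
`O_X`-module `F` and a `k`-derivation `D : O_X → F`, one has `D s = 0` for all `s ∈ Γ(X, O_X)`.

Proof: `s` is integral over `k` (Mathlib: `isIntegral_appTop_of_universallyClosed`); on every affine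
open `V` the ring `Γ(X, V)` is a smooth `k`-algebra, hence geometrically reduced, so the minimal
polynomial of `s|_V` is separable and `D (s|_V) = 0`; conclude by the sheaf property of `F`.
-/

set_option autoImplicit false
set_option linter.style.haveILetI false

universe u

namespace Groth.Agent.R2.H72.DOmegaZero

open CategoryTheory AlgebraicGeometry TopologicalSpace Opposite Polynomial

theorem der_app_top_eq_zero (k : Type u) [Field k] (X : Scheme.{u})
    (f : X ⟶ Spec (CommRingCat.of k)) [UniversallyClosed f] [Smooth f] {F : X.Modules}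
    (D : OmegaSh.Der f F) (s : Γ(X, ⊤)) : D.app ⊤ s = 0 := by
  have hint := isIntegral_appTop_of_universallyClosed f
  apply Groth.Agent.Helper13ModAffine.section_ext_affine F (D.app ⊤ s) 0
  intro V hV hle
  rw [map_zero, ← Groth.Agent.Helper18OmLS.der_map D hle s]
  by_cases hsub : Subsingleton Γ(X, V)
  · rw [Subsingleton.elim (X.presheaf.map (homOfLE hle).op s) 0, map_zero]
  haveI : Nontrivial Γ(X, V) := not_subsingleton_iff_nontrivial.1 hsub
  have hVle : V ≤ f ⁻¹ᵁ ⊤ := le_top
  let φ : k →+* Γ(X, V) :=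
    (f.appLE ⊤ V hVle).hom.comp (Scheme.ΓSpecIso (CommRingCat.of k)).inv.hom
  have hφ : φ.Smooth := by
    apply RingHom.Smooth.respectsIso.2
      (e := (Scheme.ΓSpecIso (CommRingCat.of k)).symm.commRingCatIsoToRingEquiv)
    exact Smooth.smooth_appLE f (isAffineOpen_top _) hV hVle
  letI : Algebra k Γ(X, V) := φ.toAlgebra
  haveI : Algebra.Smooth k Γ(X, V) := hφ
  set a : Γ(X, V) := X.presheaf.map (homOfLE hle).op s with ha
  have hφe : φ.comp (Scheme.ΓSpecIso (CommRingCat.of k)).hom.hom =
      (X.presheaf.map (homOfLE hle).op).hom.comp f.appTop.hom := by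
    ext c
    simp only [φ, RingHom.comp_apply]
    have h1 : (Scheme.ΓSpecIso (CommRingCat.of k)).inv.hom
        ((Scheme.ΓSpecIso (CommRingCat.of k)).hom.hom c) = c :=
      congr($((Scheme.ΓSpecIso (CommRingCat.of k)).hom_inv_id) c)
    rw [h1]
    rfl
  have haint : IsIntegral k a := by
    obtain ⟨p, hp, hps⟩ := hint s
    refine ⟨p.map (Scheme.ΓSpecIso (CommRingCat.of k)).hom.hom, hp.map _, ?_⟩
    rw [eval₂_map]
    change eval₂ (φ.comp _) a p = 0
    rw [hφe, ha, ← Polynomial.hom_eval₂, hps, map_zero]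
  have hconst : ∀ c : k, D.app V (algebraMap k Γ(X, V) c) = 0 := by
    intro c
    change D.app V (X.presheaf.map (homOfLE hVle).op
      (f.app ⊤ ((Scheme.ΓSpecIso (CommRingCat.of k)).inv.hom c))) = 0
    rw [Groth.Agent.Helper18OmLS.der_map D hVle]
    have h0 : D.app (f ⁻¹ᵁ ⊤) (f.app ⊤ ((Scheme.ΓSpecIso (CommRingCat.of k)).inv.hom c)) = 0 :=
      D.d_app (X := op ⊤) ((Scheme.ΓSpecIso (CommRingCat.of k)).inv.hom c)
    rw [h0, map_zero]
  exact Groth.Agent.R2.H72.SmoothSep.der_eq_zero_of_separable (k := k) (D.app V)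
    (fun x y => Groth.Agent.Helper18OmLS.der_mul D x y) hconst a (minpoly k a)
    (Groth.Agent.R2.H72.SmoothSep.separable_minpoly_of_smooth a haint) (minpoly.aeval k a)

end Groth.Agent.R2.H72.DOmegaZero
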