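import Mathlib
import Groth.Prelude.Def_AnFib

/-!
# Base change of elementary fibrations (helper72)

`isElementaryFibration_pullback_snd`: the base change of an elementary fibration (`An.IsElementaryFibration`)
along any morphism of schemes is an elementary fibration.  Density in the fibres is obtained from the
irreducibility of the geometric fibres.
-/

set_option autoImplicit false
set_option linter.style.haveILetI false
open CategoryTheory CategoryTheory.Limits AlgebraicGeometry

universe u

namespace Groth.Agent.R2.H72.ElemFib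

variable {X S S' : Scheme.{u}}

theorem isElementaryFibration_pullback_snd (f : X ⟶ S) (u : S' ⟶ S)
    (hf : An.IsElementaryFibration f) : An.IsElementaryFibration (pullback.snd f u) := by
  obtain ⟨Xb, Y, j, fb, i, hjf, hj, hi, hrange, hdense, hsm, hproj, hgeom, hfin, het, hsurj⟩ := hf
  subst hjf
  let j' : pullback (j ≫ fb) u ⟶ pullback fb u :=
    pullback.map (j ≫ fb) u fb u j (𝟙 S') (𝟙 S) (by simp) (by simp)
  let i' : pullback (i ≫ fb) u ⟶ pullback fb u :=
    pullback.map (i ≫ fb) u fb u i (𝟙 S') (𝟙 S) (by simp) (by simp)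
  haveI : MorphismProperty.IsStableUnderComposition @IsClosedImmersion.{u} :=
    (inferInstance : MorphismProperty.IsMultiplicative @IsClosedImmersion.{u}).toIsStableUnderComposition
  haveI : MorphismProperty.IsStableUnderComposition @IsOpenImmersion.{u} :=
    (inferInstance : MorphismProperty.IsMultiplicative @IsOpenImmersion.{u}).toIsStableUnderComposition
  have hj' : IsOpenImmersion j' :=
    MorphismProperty.pullbackMap (P := @IsOpenImmersion.{u}) hj
      (inferInstance : IsOpenImmersion (𝟙 S')) rfl (Category.id_comp u).symm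
  have hi' : IsClosedImmersion i' :=
    MorphismProperty.pullbackMap (P := @IsClosedImmersion.{u}) hi
      (inferInstance : IsClosedImmersion (𝟙 S')) rfl (Category.id_comp u).symm
  have hrj : Set.range j'.base = (pullback.fst fb u).base ⁻¹' Set.range j.base := by
    have h := Scheme.Pullback.range_map (j ≫ fb) u fb u j (𝟙 S') (𝟙 S) (by simp) (by simp)
    refine h.trans ?_
    have h1 : Set.range (𝟙 S' : S' ⟶ S') = Set.univ := by
      ext x
      simp
    rw [h1, Set.preimage_univ, Set.inter_univ]
  have hri : Set.range i'.base = (pullback.fst fb u).base ⁻¹' Set.range i.base := by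
    have h := Scheme.Pullback.range_map (i ≫ fb) u fb u i (𝟙 S') (𝟙 S) (by simp) (by simp)
    refine h.trans ?_
    have h1 : Set.range (𝟙 S' : S' ⟶ S') = Set.univ := by
      ext x
      simp
    rw [h1, Set.preimage_univ, Set.inter_univ]
  refine ⟨pullback fb u, pullback (i ≫ fb) u, j', pullback.snd fb u, i', ?_, hj', hi', ?_, ?_, ?_, ?_, ?_,
    ?_, ?_, ?_⟩
  · exact (pullback.lift_snd _ _ _).trans (Category.comp_id _)
  · rw [hrj, hri, hrange]
    rfl
  · -- fibrewise density
    intro s'
    let σ' : Spec (CommRingCat.of (AlgebraicClosure (S'.residueField s'))) ⟶ S' :=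
      Spec.map (CommRingCat.ofHom
        (algebraMap (S'.residueField s') (AlgebraicClosure (S'.residueField s')))) ≫
        S'.fromSpecResidueField s'
    have hσ0 : ∀ y, σ' y = s' := by
      intro y
      have h0 : σ' y ∈ Set.range (S'.fromSpecResidueField s') := ⟨_, rfl⟩
      rw [Scheme.range_fromSpecResidueField] at h0
      exact h0
    have hσ : Set.range σ' = {s'} := by
      apply Set.Subset.antisymm
      · rintro _ ⟨y, rfl⟩
        exact hσ0 y
      · intro x hx
        rw [Set.mem_singleton_iff.1 hx]
        obtain ⟨y⟩ : Nonempty ↥(Spec (CommRingCat.of (AlgebraicClosure (S'.residueField s')))) :=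
          inferInstance
        exact ⟨y, hσ0 y⟩
    obtain ⟨h1, -⟩ := hgeom (AlgebraicClosure (S'.residueField s')) (σ' ≫ u)
    haveI : IrreducibleSpace ↥(pullback (pullback.snd fb u) σ') :=
      (Scheme.homeoOfIso (pullbackLeftPullbackSndIso fb u σ')).irreducibleSpace_iff.2 h1
    have hF : (pullback.snd fb u) ⁻¹' {s'} = Set.range (pullback.fst (pullback.snd fb u) σ') := by
      rw [Scheme.Pullback.range_fst, hσ]
    have hirr : IsIrreducible ((pullback.snd fb u) ⁻¹' {s'}) := by
      rw [hF, ← Set.image_univ]
      exact (IrreducibleSpace.isIrreducible_univ _).image _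
        (pullback.fst (pullback.snd fb u) σ').continuous.continuousOn
    obtain ⟨z₀⟩ : Nonempty ↥(pullback fb (σ' ≫ u)) := h1.toNonempty
    have hx₀ : fb (pullback.fst fb (σ' ≫ u) z₀) = u s' := by
      have h2 : (pullback.fst fb (σ' ≫ u) ≫ fb) z₀ = (pullback.snd fb (σ' ≫ u) ≫ σ' ≫ u) z₀ := by
        rw [pullback.condition]
      rw [Scheme.Hom.comp_apply, Scheme.Hom.comp_apply, Scheme.Hom.comp_apply, hσ0] at h2
      exact h2
    have hcl := hdense (u s') hx₀
    obtain ⟨x, hxj, hxs⟩ : (Set.range j ∩ fb ⁻¹' {u s'}).Nonempty := by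
      by_contra hne
      rw [Set.not_nonempty_iff_eq_empty] at hne
      rw [hne, closure_empty] at hcl
      exact hcl
    obtain ⟨z, hz1, hz2⟩ := Scheme.Pullback.exists_preimage_pullback (f := fb) (g := u) x s' hxs
    have hne : ((pullback.snd fb u) ⁻¹' {s'} ∩ Set.range j').Nonempty := by
      refine ⟨z, hz2, ?_⟩
      rw [hrj]
      show pullback.fst fb u z ∈ Set.range j
      rw [hz1]
      exact hxj
    have h3 := subset_closure_inter_of_isPreirreducible_of_isOpen hirr.isPreirreducible
      hj'.base_open.isOpen_range hne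
    rwa [Set.inter_comm] at h3
  · haveI := hsm
    infer_instance
  · -- strongly projective
    obtain ⟨n, c, hc, hcf⟩ := hproj
    have s1 : ∀ t' : S' ⟶ Spec (CommRingCat.of (ULift.{u} ℤ)),
        t' = u ≫ specULiftZIsTerminal.from S →
        IsPullback (pullback.fst (CohB1.ProjSpace.toSpec n (ULift.{u} ℤ)) t')
          (pullback.snd (CohB1.ProjSpace.toSpec n (ULift.{u} ℤ)) t')
          (CohB1.ProjSpace.toSpec n (ULift.{u} ℤ)) (u ≫ specULiftZIsTerminal.from S) := by
      rintro _ rfl
      exact IsPullback.of_hasPullback _ _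
    have t1 := IsPullback.of_hasPullback (CohB1.ProjSpace.toSpec n (ULift.{u} ℤ))
      (specULiftZIsTerminal.from S)
    have H1 := IsPullback.of_right' (s1 (specULiftZIsTerminal.from S')
      (specULiftZIsTerminal.hom_ext _ _)) t1
    have s2 : IsPullback (pullback.snd fb u) (pullback.fst fb u) u
        (c ≫ pullback.snd (CohB1.ProjSpace.toSpec n (ULift.{u} ℤ))
          (specULiftZIsTerminal.from S)) := by
      have hcf' : c ≫ pullback.snd (CohB1.ProjSpace.toSpec n (ULift.{u} ℤ))
          (specULiftZIsTerminal.from S) = fb := hcf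
      rw [hcf']
      exact (IsPullback.of_hasPullback fb u).flip
    have H2 := IsPullback.of_right' s2 H1.flip
    refine ⟨n, H1.flip.lift (pullback.snd fb u) (pullback.fst fb u ≫ c) (s2.w.trans (Category.assoc _ _ _).symm),
      ?_, ?_⟩
    · exact MorphismProperty.of_isPullback (P := @IsClosedImmersion.{u}) H2.flip hc
    · exact H1.flip.lift_fst _ _ _
  · -- geometric fibres
    intro Ω _ _ σ'
    obtain ⟨h1, h2⟩ := hgeom Ω (σ' ≫ u)
    let e : pullback (pullback.snd fb u) σ' ≅ pullback fb (σ' ≫ u) := pullbackLeftPullbackSndIso fb u σ'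
    constructor
    · exact (Scheme.homeoOfIso e).irreducibleSpace_iff.2 h1
    · rw [← h2]
      exact IsHomeomorph.topologicalKrullDim_eq _ (Scheme.homeoOfIso e).isHomeomorph
  · have h : i' ≫ pullback.snd fb u = pullback.snd (i ≫ fb) u :=
      (pullback.lift_snd _ _ _).trans (Category.comp_id _)
    rw [h]
    haveI := hfin
    infer_instance
  · have h : i' ≫ pullback.snd fb u = pullback.snd (i ≫ fb) u :=
      (pullback.lift_snd _ _ _).trans (Category.comp_id _)
    rw [h]
    haveI := het
    infer_instance
  · have h : i' ≫ pullback.snd fb u = pullback.snd (i ≫ fb) u :=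
      (pullback.lift_snd _ _ _).trans (Category.comp_id _)
    rw [h]
    haveI : Surjective (i ≫ fb) := ⟨hsurj⟩
    exact (inferInstance : Surjective (pullback.snd (i ≫ fb) u)).surj

end Groth.Agent.R2.H72.ElemFib
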