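import Groth.Agent.R2.H34GenEtale

/-!
# Finiteness of the function field extension of a generically unramified morphism (helper72)

Complement to helper34's `R2/H34GenEtale`: for a morphism locally of finite type between integral schemes,
dominant, which is formally unramified on a nonempty open, `K(X)/K(Y)` is a finite extension.
-/

set_option autoImplicit false
universe u

open AlgebraicGeometry CategoryTheory TopologicalSpace Opposite

namespace Groth.Agent.R2.H72.GenEtaleFin

open Groth.Agent.R2.H34.GenEtale

variable {X Y : Scheme.{u}} [IsIntegral X] [IsIntegral Y]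

theorem finite_of_formallyUnramified (f : X ⟶ Y) [LocallyOfFiniteType f]
    (e : f (genericPoint X) = genericPoint Y) (U : X.Opens) (hU : (U : Set X).Nonempty)
    (h : FormallyUnramified (U.ι ≫ f)) :
    letI := ffAlgebra f e
    Module.Finite Y.functionField X.functionField := by
  letI alg := ffAlgebra f e
  have hξU : genericPoint X ∈ U :=
    ((genericPoint_spec X).mem_open_set_iff U.isOpen).mpr (by simpa [Set.univ_inter] using hU)
  let u : U.toScheme := ⟨genericPoint X, hξU⟩
  have h1 : ((U.ι ≫ f).stalkMap u).hom.FormallyUnramified :=
    FormallyUnramified.stalkMap (U.ι ≫ f) u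
  rw [Scheme.Hom.stalkMap_comp] at h1
  have h2 : (f.stalkMap (genericPoint X)).hom.FormallyUnramified :=
    (RingHom.FormallyUnramified.respectsIso.cancel_right_isIso (f.stalkMap (U.ι u))
      (U.ι.stalkMap u)).mp h1
  haveI hiso := isIso_stalkSpecializes_of_eq Y e
  have h3 : (Y.presheaf.stalkSpecializes (specializes_of_eq e) ≫
      f.stalkMap (genericPoint X)).hom.FormallyUnramified :=
    (RingHom.FormallyUnramified.respectsIso.cancel_left_isIso
      (Y.presheaf.stalkSpecializes (specializes_of_eq e)) (f.stalkMap (genericPoint X))).mpr h2
  have h4 : (f.stalkMap (genericPoint X)).hom.EssFiniteType := LocallyOfFiniteType.stalkMap f _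
  have h5 : (Y.presheaf.stalkSpecializes (specializes_of_eq e) ≫
      f.stalkMap (genericPoint X)).hom.EssFiniteType :=
    (RingHom.EssFiniteType.respectsIso.cancel_left_isIso
      (Y.presheaf.stalkSpecializes (specializes_of_eq e)) (f.stalkMap (genericPoint X))).mpr h4
  haveI : Algebra.FormallyUnramified Y.functionField X.functionField := by
    rw [← RingHom.formallyUnramified_algebraMap, RingHom.algebraMap_toAlgebra]
    exact h3
  haveI : Algebra.EssFiniteType Y.functionField X.functionField := by
    rw [← RingHom.essFiniteType_algebraMap, RingHom.algebraMap_toAlgebra]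
    exact h5
  exact Algebra.FormallyUnramified.finite_of_free Y.functionField X.functionField

end Groth.Agent.R2.H72.GenEtaleFin
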