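import Groth.Agent.R2.H72GrBdd

/-!
# Vanishing in high degrees for ideals containing the irrelevant ideal (helper72)

The argument of `H72GrBdd` for a homogeneous ideal `a ⊇ R_+` of a Noetherian positively graded ring (for
instance the *maximal ideal of a *local ring): `H^i_a(M)_n = 0` for `n ≫ 0`, `M` finitely generated.
-/

set_option autoImplicit false
set_option linter.unusedSectionVars false
open DirectSum

noncomputable section

namespace Groth.Agent.R2.H72.GrBddLocal

open Groth.Agent.R2.H72.GrLCBasic Groth.Agent.R2.H72.GrMod Groth.Agent.R2.H72.GrLCLES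
  Groth.Agent.R2.H72.GrLCTors Groth.Agent.R2.H72.GrKoszul Groth.Agent.R2.H72.GrReg
  Groth.Agent.R2.H72.GrRegGen Groth.Agent.R2.H72.GrBdd
open Groth.Agent.Lib.Helper29GrEss Groth.Agent.Lib.Helper29GrGam

universe u

variable {R : Type u} [CommRing R] {𝒜 : ℤ → AddSubgroup R} [GradedRing 𝒜]

variable (𝒜) in
/-- The irrelevant ideal. -/
def irrH : HomogeneousIdeal 𝒜 :=
  ⟨Ideal.span (⋃ n ∈ Set.Ioi (0 : ℤ), (𝒜 n : Set R)),
    Ideal.homogeneous_span 𝒜 _ (fun _ hr => by
      obtain ⟨n, _, hn⟩ := Set.mem_iUnion₂.1 hr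
      exact ⟨n, hn⟩)⟩

theorem irrH_toIdeal : (irrH 𝒜).toIdeal = Ideal.span (⋃ n ∈ Set.Ioi (0 : ℤ), (𝒜 n : Set R)) := rfl

/-- Elements of the irrelevant ideal of a positively graded ring have no components in degrees `≤ 0`. -/
theorem decompose_irrH_eq_zero (hpos : ∀ n : ℤ, n < 0 → 𝒜 n = ⊥) (p : R)
    (hp : p ∈ (irrH 𝒜).toIdeal) : ∀ j : ℤ, j ≤ 0 → ((decompose 𝒜 p) j : R) = 0 := by
  classical
  rw [irrH_toIdeal] at hp
  refine Submodule.span_induction (p := fun p _ => ∀ j : ℤ, j ≤ 0 → ((decompose 𝒜 p) j : R) = 0)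
    ?_ ?_ ?_ ?_ hp
  · intro x hx j hj
    obtain ⟨n, hn, hxn⟩ := Set.mem_iUnion₂.1 hx
    have hn' : (0 : ℤ) < n := hn
    exact DirectSum.decompose_of_mem_ne 𝒜 hxn (by omega)
  · intro j _
    rw [DirectSum.decompose_zero]
    rfl
  · intro x y _ _ hx hy j hj
    rw [DirectSum.decompose_add, DirectSum.add_apply, AddSubgroup.coe_add, hx j hj, hy j hj, add_zero]
  · intro c x _ hx j hj
    induction c using DirectSum.Decomposition.inductionOn 𝒜 with
    | zero =>
      rw [zero_smul, DirectSum.decompose_zero]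
      rfl
    | homogeneous c =>
      rename_i d
      by_cases hd : d < 0
      · have h0 : (c : R) = 0 :=
          Groth.Agent.Lib.Helper29GrStd.eq_zero_of_mem_of_eq_bot (hpos d hd) c.2
        rw [h0, zero_smul, DirectSum.decompose_zero]
        rfl
      · have h1 := decompose_smul_of_mem 𝒜 𝒜 c.2 x j
        rw [h1, hx (j - d) (by omega), smul_zero]
    | add c c' hc hc' =>
      rw [add_smul, DirectSum.decompose_add, DirectSum.add_apply, AddSubgroup.coe_add, hc, hc',
        add_zero]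

/-- In a *local positively graded ring the irrelevant ideal lies in the *maximal ideal. -/
theorem irrH_le_of_isStarLocal (hpos : ∀ n : ℤ, n < 0 → 𝒜 n = ⊥) (m : HomogeneousIdeal 𝒜)
    (hm : GrLC.IsStarLocal 𝒜 m) : (irrH 𝒜).toIdeal ≤ m.toIdeal := by
  classical
  by_contra hle
  have hlt : m < irrH 𝒜 ⊔ m := by
    refine lt_of_le_of_ne le_sup_right ?_
    intro heq
    apply hle
    have h1 : irrH 𝒜 ≤ irrH 𝒜 ⊔ m := le_sup_left
    rw [← heq] at h1
    exact h1
  have htop : irrH 𝒜 ⊔ m = ⊤ := hm.1.2 _ hlt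
  have h1 : (1 : R) ∈ (irrH 𝒜 ⊔ m).toIdeal := by
    rw [htop]
    exact Submodule.mem_top
  rw [HomogeneousIdeal.toIdeal_sup] at h1
  obtain ⟨p, hp, q, hq, hpq⟩ := Submodule.mem_sup.1 h1
  have h2 : ((decompose 𝒜 (p + q)) 0 : R) = 1 := by
    rw [hpq]
    exact DirectSum.decompose_of_mem_same 𝒜 (SetLike.GradedOne.one_mem)
  rw [DirectSum.decompose_add, DirectSum.add_apply, AddSubgroup.coe_add,
    decompose_irrH_eq_zero hpos p hp 0 le_rfl, zero_add] at h2
  have h3 : ((decompose 𝒜 q) 0 : R) ∈ m.toIdeal := m.isHomogeneous 0 hq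
  rw [h2] at h3
  have h4 : m = ⊤ := by
    apply HomogeneousIdeal.toIdeal_injective
    rw [HomogeneousIdeal.toIdeal_top]
    exact (Ideal.eq_top_iff_one _).2 h3
  exact hm.1.1 h4

section General

variable [IsNoetherianRing R] (a : HomogeneousIdeal 𝒜)

/-- A homogeneous ideal of a Noetherian positively graded ring is generated by finitely many homogeneous
elements of degrees `≥ 0`. -/
theorem exists_gens_nonneg (hpos : ∀ n : ℤ, n < 0 → 𝒜 n = ⊥) :
    ∃ (t : Finset R) (deg : R → ℤ), (∀ y ∈ t, y ∈ 𝒜 (deg y) ∧ 0 ≤ deg y) ∧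
      a.toIdeal = Ideal.span (t : Set R) := by
  classical
  obtain ⟨S, hS⟩ := (Ideal.IsHomogeneous.iff_exists (𝒜 := 𝒜) (I := a.toIdeal)).1 a.isHomogeneous
  have hfg : (Submodule.span R ((↑) '' S : Set R)).FG := by
    have h := IsNoetherian.noetherian a.toIdeal
    rw [hS] at h
    exact h
  obtain ⟨t, hsub, hspan⟩ := (Submodule.fg_span_iff_fg_span_finset_subset _).1 hfg
  have h : ∀ y : R, ∃ n : ℤ, y ∈ t → (y ∈ 𝒜 n ∧ 0 ≤ n) := by
    intro y
    by_cases hy : y ∈ t
    · obtain ⟨z, _, rfl⟩ := hsub hy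
      obtain ⟨n, hn⟩ := z.2
      by_cases hn0 : 0 ≤ n
      · exact ⟨n, fun _ => ⟨hn, hn0⟩⟩
      · have h0 : (z : R) = 0 :=
          Groth.Agent.Lib.Helper29GrStd.eq_zero_of_mem_of_eq_bot (hpos n (by omega)) hn
        exact ⟨0, fun _ => ⟨h0 ▸ zero_mem _, le_rfl⟩⟩
    · exact ⟨0, fun h => absurd h hy⟩
  choose deg hdeg using h
  refine ⟨t, deg, fun y hy => hdeg y hy, ?_⟩
  rw [hS]
  exact hspan

variable {a}

theorem bdd_of_torsion' (hle : (irrH 𝒜).toIdeal ≤ a.toIdeal) (X : GrLC.GMod.{u} 𝒜)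
    [Module.Finite R X.carrier] (htors : GrLC.gam a.toIdeal X.carrier = ⊤) : Bdd a X := by
  have htors' : GrLC.gam (irrH 𝒜).toIdeal X.carrier = ⊤ := by
    rw [eq_top_iff]
    intro m _
    have hm : m ∈ GrLC.gam a.toIdeal X.carrier := by rw [htors]; trivial
    obtain ⟨n, hn⟩ := hm
    exact ⟨n, fun r hr => hn r (Ideal.pow_right_mono hle n hr)⟩
  obtain ⟨n₀, hn₀⟩ := exists_bound_of_torsion_gen (a := irrH 𝒜) rfl X htors'
  refine ⟨n₀, fun i n hn => ?_⟩
  cases i with
  | zero =>
    rw [van_zero_iff]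
    intro m hm _
    rw [hn₀ n hn] at hm
    exact AddSubgroup.mem_bot.1 hm
  | succ i => exact van_succ_of_torsion htors i n

/-- The inductive step, for an ideal containing the irrelevant ideal. -/
theorem bdd_step' (hpos : ∀ n : ℤ, n < 0 → 𝒜 n = ⊥) (hle : (irrH 𝒜).toIdeal ≤ a.toIdeal)
    (X : GrLC.GMod.{u} 𝒜) (hN : IsNoetherian R X.carrier)
    (ih : ∀ (P : Submodule R X.carrier) (hP : P.IsHomogeneous X.gr), P ≠ ⊥ →
      Bdd a (quotG X P hP)) : Bdd a X := by
  classical
  by_cases hΓ : GrLC.gam a.toIdeal X.carrier = ⊥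
  · have hvan0 : ∀ e, Van a X 0 e := by
      intro e
      rw [van_zero_iff]
      intro m _ hm
      rw [hΓ] at hm
      exact (Submodule.mem_bot R).1 hm
    obtain ⟨t, deg, ht, hspan⟩ := exists_gens_nonneg a hpos
    by_cases hall : ∀ y ∈ t, ∀ m : X.carrier, y • m = 0
    · have h0 : ∀ m : X.carrier, m = 0 := by
        intro m
        have hm : m ∈ GrLC.gam a.toIdeal X.carrier := by
          refine ⟨1, fun r hr => ?_⟩
          rw [pow_one, hspan] at hr
          refine Submodule.span_induction (p := fun r _ => r • m = 0) ?_ ?_ ?_ ?_ hr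
          · intro y hy
            exact hall y hy m
          · exact zero_smul R m
          · intro r r' _ _ h h'
            rw [add_smul, h, h', add_zero]
          · intro c r _ h
            rw [smul_eq_mul, mul_smul, h, smul_zero]
        rw [hΓ] at hm
        exact (Submodule.mem_bot R).1 hm
      have hsub : Subsingleton X.carrier := ⟨fun m m' => by rw [h0 m, h0 m']⟩
      exact bdd_of_subsingleton
    · push Not at hall
      obtain ⟨y, hyt, m0, hm0⟩ := hall
      have hy : y ∈ 𝒜 (deg y) := (ht y hyt).1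
      have hδ : 0 ≤ deg y := (ht y hyt).2
      have hya : y ∈ a.toIdeal := by
        rw [hspan]
        exact Ideal.subset_span hyt
      have hP : (LinearMap.range (mulMap X y (deg y))).IsHomogeneous X.gr :=
        range_isHomogeneous X.gr (shiftG X (-(deg y))).gr (mulMap X y (deg y)) (mulMap_grHom hy)
      have hPne : LinearMap.range (mulMap X y (deg y)) ≠ ⊥ := by
        intro h
        apply hm0
        have h1 : y • m0 ∈ LinearMap.range (mulMap X y (deg y)) := ⟨m0, rfl⟩
        rw [h] at h1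
        exact (Submodule.mem_bot R).1 h1
      have hNb : Bdd a (quotG X _ hP) := ih _ hP hPne
      have hker : ∀ m : X.carrier, (LinearMap.range (mulMap X y (deg y))).mkQ m = 0 ↔
          ∃ m', y • m' = m := by
        intro m
        rw [Submodule.mkQ_apply, Submodule.Quotient.mk_eq_zero]
        exact Iff.rfl
      by_cases hK : kerY X y (deg y) = ⊥
      · obtain ⟨rN, hrN⟩ := hNb
        refine ⟨rN, fun i n hn => ?_⟩
        cases i with
        | zero => exact hvan0 n
        | succ i =>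
          refine van_of_van_quot (N := quotG X _ hP) hy hya _ (Submodule.mkQ_surjective _)
            (quotG_mk_grHom X _ hP) hker ?_ i n ?_
          · intro m hm
            have h1 : m ∈ kerY X y (deg y) := hm
            rw [hK] at h1
            rw [(Submodule.mem_bot R).1 h1]
            exact zero_mem _
          · intro j
            apply hrN
            have h1 : (0 : ℤ) ≤ (j + 1) • deg y := nsmul_nonneg hδ _
            omega
      · have hQ : Bdd a (quotG X (kerY X y (deg y)) (kerY_isHomogeneous X hy)) :=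
          ih _ (kerY_isHomogeneous X hy) hK
        exact bdd_of_ses (ses2 hy _ (Submodule.mkQ_surjective _) (quotG_mk_grHom X _ hP) hker)
          (bdd_QG X hy hQ) hNb
  · have hΓh : (GrLC.gam a.toIdeal X.carrier).IsHomogeneous X.gr := gam_isHomogeneous 𝒜 X.gr a
    refine bdd_of_ses (sesSub X _ hΓh) ?_ (ih _ hΓh hΓ)
    have : Module.Finite R (subG X _ hΓh).carrier :=
      inferInstanceAs (Module.Finite R ↥(GrLC.gam a.toIdeal X.carrier))
    apply bdd_of_torsion' hle
    rw [eq_top_iff]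
    rintro ⟨m, hm⟩ _
    obtain ⟨n, hn⟩ := hm
    exact ⟨n, fun r hr => Subtype.ext (hn r hr)⟩

/-- Vanishing in high degrees for a homogeneous ideal containing the irrelevant ideal. -/
theorem bdd_of_finite' (hpos : ∀ n : ℤ, n < 0 → 𝒜 n = ⊥) (hle : (irrH 𝒜).toIdeal ≤ a.toIdeal)
    (X : GrLC.GMod.{u} 𝒜) [Module.Finite R X.carrier] : Bdd a X := by
  have : IsNoetherian R X.carrier := isNoetherian_of_isNoetherianRing_of_finite R X.carrier
  refine gmod_induction (Bdd a) ?_ (fun Y hY ih => bdd_step' hpos hle Y hY ih) X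
  intro Y Z f g hf hg hgf hfg h
  exact bdd_of_retract g f hg hf hfg h

end General

end Groth.Agent.R2.H72.GrBddLocal
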