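import Mathlib
import Groth.Agent.Lib.Helper5GrLoc
import Groth.Agent.Lib.Helper28FibreTrans
import Groth.Agent.R2.H72GrBddLocal

/-!
# H72GrDim: heights of primes versus their homogeneous cores in ℤ-graded Noetherian rings

* `ringKrullDim_laurent_le_one`: `dim K[ℤ] ≤ 1` for a field `K`;
* `height_le_height_core_add_one`: `ht p ≤ ht p* + 1` for a prime `p` of a ℤ-graded Noetherian ring
  (via `Helper5.GrLoc.core` with `M = R`);
* `ringKrullDim_le_height_of_isStarLocal`: for a positively graded *local Noetherian ring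
  `dim R ≤ ht m`.
-/

set_option autoImplicit false
universe u

namespace Groth.Agent.R2.H72.GrDim
open Groth.Agent.Lib.Helper28 Groth.Agent.Lib.Helper5 Groth.Agent.Lib.Helper5.GenDepth
  Groth.Agent.Lib.Helper5.FBC Groth.Agent.Lib.Helper5.Coact
  Groth.Agent.Lib.Helper5.TensorFieldsCM Groth.Agent.Lib.Helper5.GrLoc TensorProduct

open Polynomial LaurentPolynomial in
theorem ringKrullDim_laurent_le_one (K : Type u) [Field K] :
    ringKrullDim (AddMonoidAlgebra K ℤ) ≤ 1 := by
  change ringKrullDim (LaurentPolynomial K) ≤ 1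
  rw [ringKrullDim_le_iff_height_le]
  intro J hJ
  have h1 : (J.under K[X]).height = J.height :=
    IsLocalization.height_under (Submonoid.powers (X : K[X])) J
  have h2 : ringKrullDim K[X] ≤ 1 := Ring.krullDimLE_iff.mp inferInstance
  have h3 : (J.under K[X]).IsPrime := inferInstance
  have h4 := Ideal.height_le_ringKrullDim_of_ne_top h3.ne_top
  rw [← h1]
  exact h4.trans h2

/-- The fibre local rings of `R → R[ℤ]` have dimension at most one. -/
theorem ringKrullDim_fibLocRing_le_one (R : Type u) [CommRing R]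
    (Q : Ideal (AddMonoidAlgebra R ℤ)) [Q.IsPrime] :
    ringKrullDim (EGA4.FibLocRing R (AddMonoidAlgebra R ℤ) Q) ≤ 1 := by
  obtain ⟨Q', hQ', hQQ'⟩ := exists_prime_fiber_comap_eq (A := R) Q
  obtain ⟨e⟩ := nonempty_localization_fiber_equiv (Q.comap (algebraMap R (AddMonoidAlgebra R ℤ)))
    Q' Q hQQ'
  rw [← ringKrullDim_eq_of_ringEquiv e,
    IsLocalization.AtPrime.ringKrullDim_eq_height Q' (Localization.AtPrime Q')]
  refine (Ideal.height_le_ringKrullDim_of_ne_top hQ'.ne_top).trans ?_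
  rw [ringKrullDim_eq_of_ringEquiv (AddMonoidAlgebra.scalarTensorEquiv R (M := ℤ)
    (Q.comap (algebraMap R (AddMonoidAlgebra R ℤ))).ResidueField).toRingEquiv]
  exact ringKrullDim_laurent_le_one _

section Core

variable {R : Type u} [CommRing R] [IsNoetherianRing R] (𝒜 : ℤ → AddSubgroup R) [GradedRing 𝒜]

theorem dm_self (p : Ideal R) [p.IsPrime] : dm p R = (p.height : WithBot ℕ∞) := by
  obtain ⟨-, h2⟩ := FinDimDepth.transport_aux p R (Localization.AtPrime p)
    (Localization.AtPrime p) (Algebra.linearMap R (Localization.AtPrime p))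
  unfold dm
  rw [← h2, Module.supportDim_self_eq_ringKrullDim,
    IsLocalization.AtPrime.ringKrullDim_eq_height p (Localization.AtPrime p)]

/-- `ht p ≤ ht p* + 1` for a prime of a ℤ-graded Noetherian ring. -/
theorem height_le_height_core_add_one (p : Ideal R) [p.IsPrime] :
    p.height ≤ (Ideal.homogeneousCore 𝒜 p).toIdeal.height + 1 := by
  classical
  have hcore : (Ideal.homogeneousCore 𝒜 p).toIdeal.IsPrime :=
    Ideal.IsPrime.homogeneousCore inferInstance
  have hN := isNoetherianRing_addMonoidAlgebra ℤ R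
  have hU := uniqueSums ℤ
  have h𝔓prime : (p.map (algebraMap R (AddMonoidAlgebra R ℤ))).IsPrime := map_isPrime p
  have h𝔓'prime : ((p.map (algebraMap R (AddMonoidAlgebra R ℤ))).comap
      ((tau 𝒜 : AddMonoidAlgebra R ℤ ≃+* AddMonoidAlgebra R ℤ) :
        AddMonoidAlgebra R ℤ →+* AddMonoidAlgebra R ℤ)).IsPrime := Ideal.comap_isPrime _ _
  have hl1 := isLocalRing_fibLocRing (A := R) (p.map (algebraMap R (AddMonoidAlgebra R ℤ)))
  have hl2 := isLocalRing_fibLocRing (A := R)
    ((p.map (algebraMap R (AddMonoidAlgebra R ℤ))).comap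
      ((tau 𝒜 : AddMonoidAlgebra R ℤ ≃+* AddMonoidAlgebra R ℤ) :
        AddMonoidAlgebra R ℤ →+* AddMonoidAlgebra R ℤ))
  obtain ⟨-, m2⟩ := core 𝒜 p _ rfl _ rfl R ((AddMonoidAlgebra R ℤ) ⊗[R] R)
    (LinearEquiv.refl _ _) (tauM 𝒜 𝒜) (tauM_smul 𝒜 𝒜)
  rw [dm_self, dm_self] at m2
  have h1 := ringKrullDim_fibLocRing_le_one R
    ((p.map (algebraMap R (AddMonoidAlgebra R ℤ))).comap
      ((tau 𝒜 : AddMonoidAlgebra R ℤ ≃+* AddMonoidAlgebra R ℤ) :
        AddMonoidAlgebra R ℤ →+* AddMonoidAlgebra R ℤ))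
  have h0 : (0 : WithBot ℕ∞) ≤ ringKrullDim (EGA4.FibLocRing R (AddMonoidAlgebra R ℤ)
      (p.map (algebraMap R (AddMonoidAlgebra R ℤ)))) := ringKrullDim_nonneg_of_nontrivial
  have h2 : (p.height : WithBot ℕ∞) ≤
      ((Ideal.homogeneousCore 𝒜 p).toIdeal.height : WithBot ℕ∞) + 1 := by
    calc (p.height : WithBot ℕ∞) = (p.height : WithBot ℕ∞) + 0 := (add_zero _).symm
      _ ≤ (p.height : WithBot ℕ∞) + ringKrullDim (EGA4.FibLocRing R (AddMonoidAlgebra R ℤ)
            (p.map (algebraMap R (AddMonoidAlgebra R ℤ)))) := by gcongr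
      _ = _ := m2
      _ ≤ _ := by gcongr
  exact_mod_cast h2

end Core

section StarLocal

open DirectSum Groth.Agent.R2.H72.GrBddLocal

variable {R : Type u} [CommRing R] [IsNoetherianRing R] (𝒜 : ℤ → AddSubgroup R) [GradedRing 𝒜]

omit [IsNoetherianRing R] in
theorem one_notMem_of_isStarLocal (m : HomogeneousIdeal 𝒜) (hm : GrLC.IsStarLocal 𝒜 m) :
    (1 : R) ∉ m.toIdeal := by
  intro h1
  apply hm.1.1
  apply HomogeneousIdeal.toIdeal_injective
  rw [HomogeneousIdeal.toIdeal_top]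
  exact (Ideal.eq_top_iff_one _).2 h1

/-- In a Noetherian *local ring every proper homogeneous ideal lies in the *maximal ideal. -/
theorem le_of_isStarLocal (m : HomogeneousIdeal 𝒜) (hm : GrLC.IsStarLocal 𝒜 m)
    (J : HomogeneousIdeal 𝒜) (hJ : J.toIdeal ≠ ⊤) : J.toIdeal ≤ m.toIdeal := by
  classical
  let S : Set (Ideal R) := {K | K.IsHomogeneous 𝒜 ∧ K ≠ ⊤ ∧ J.toIdeal ≤ K}
  have hne : S.Nonempty := ⟨J.toIdeal, J.isHomogeneous, hJ, le_rfl⟩
  obtain ⟨K, hKS, hKmax⟩ := set_has_maximal_iff_noetherian.2 (inferInstance : IsNoetherian R R) S hne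
  obtain ⟨hKh, hKtop, hJK⟩ := hKS
  have hco : IsCoatom (⟨K, hKh⟩ : HomogeneousIdeal 𝒜) := by
    refine ⟨?_, ?_⟩
    · intro h
      apply hKtop
      have := congrArg HomogeneousIdeal.toIdeal h
      rwa [HomogeneousIdeal.toIdeal_top] at this
    · intro K' hlt
      by_contra hK'
      have hK'top : HomogeneousIdeal.toIdeal K' ≠ ⊤ := by
        intro h
        apply hK'
        apply HomogeneousIdeal.toIdeal_injective
        rw [HomogeneousIdeal.toIdeal_top]
        exact h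
      have hle : K ≤ HomogeneousIdeal.toIdeal K' := hlt.le
      have hmem : HomogeneousIdeal.toIdeal K' ∈ S :=
        ⟨HomogeneousIdeal.isHomogeneous K', hK'top, hJK.trans hle⟩
      have hnot := hKmax (HomogeneousIdeal.toIdeal K') hmem
      apply hnot
      refine lt_of_le_of_ne hle ?_
      intro heq
      apply hlt.ne
      apply HomogeneousIdeal.toIdeal_injective
      exact heq
  have hKm := hm.2 _ hco
  rw [← hKm]
  exact hJK

omit [IsNoetherianRing R] in
/-- In a positively graded *local ring the *maximal ideal is a maximal ideal. -/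
theorem isMaximal_of_isStarLocal (hpos : ∀ n : ℤ, n < 0 → 𝒜 n = ⊥) (m : HomogeneousIdeal 𝒜)
    (hm : GrLC.IsStarLocal 𝒜 m) : m.toIdeal.IsMaximal := by
  classical
  rw [Ideal.isMaximal_iff]
  refine ⟨one_notMem_of_isStarLocal 𝒜 m hm, ?_⟩
  intro J x hmJ hx hxJ
  have hirr := irrH_le_of_isStarLocal hpos m hm
  -- components of nonzero degree lie in `m`
  have hcomp : ∀ i : ℤ, i ≠ 0 → ((decompose 𝒜 x) i : R) ∈ m.toIdeal := by
    intro i hi
    rcases lt_or_gt_of_ne hi with h | h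
    · have h0 : ((decompose 𝒜 x) i : R) = 0 :=
        Groth.Agent.Lib.Helper29GrStd.eq_zero_of_mem_of_eq_bot (hpos i h) ((decompose 𝒜 x) i).2
      rw [h0]
      exact zero_mem _
    · apply hirr
      rw [irrH_toIdeal]
      apply Ideal.subset_span
      exact Set.mem_iUnion₂.2 ⟨i, h, ((decompose 𝒜 x) i).2⟩
  have hsum : x = ((decompose 𝒜 x) 0 : R) +
      ∑ i ∈ ((decompose 𝒜 x).support.erase 0), ((decompose 𝒜 x) i : R) := by
    conv_lhs => rw [← DirectSum.sum_support_decompose 𝒜 x]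
    by_cases h0 : (0 : ℤ) ∈ (decompose 𝒜 x).support
    · rw [Finset.add_sum_erase _ (fun i => ((decompose 𝒜 x) i : R)) h0]
    · rw [Finset.erase_eq_of_notMem h0]
      have : ((decompose 𝒜 x) 0 : R) = 0 := by
        have := DFinsupp.notMem_support_iff.1 h0
        rw [this]
        rfl
      rw [this, zero_add]
  have hrest : ∑ i ∈ ((decompose 𝒜 x).support.erase 0), ((decompose 𝒜 x) i : R) ∈ m.toIdeal :=
    Ideal.sum_mem _ (fun i hi => hcomp i (Finset.ne_of_mem_erase hi))
  set x0 : R := ((decompose 𝒜 x) 0 : R) with hx0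
  have hx0mem : x0 ∈ 𝒜 0 := ((decompose 𝒜 x) 0).2
  have hx0m : x0 ∉ m.toIdeal := by
    intro h
    apply hx
    rw [hsum]
    exact add_mem h hrest
  have hx0J : x0 ∈ J := by
    have : x0 = x - ∑ i ∈ ((decompose 𝒜 x).support.erase 0), ((decompose 𝒜 x) i : R) := by
      rw [eq_sub_iff_add_eq]
      exact hsum.symm
    rw [this]
    exact sub_mem hxJ (hmJ hrest)
  let P : HomogeneousIdeal 𝒜 := ⟨Ideal.span {x0}, Ideal.homogeneous_span 𝒜 _ (fun r hr => by
    rw [Set.mem_singleton_iff] at hr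
    exact ⟨0, hr ▸ hx0mem⟩)⟩
  have hxP : x0 ∈ (P ⊔ m).toIdeal := by
    rw [HomogeneousIdeal.toIdeal_sup]
    exact Submodule.mem_sup_left (Ideal.subset_span rfl)
  have hlt : m < P ⊔ m := by
    refine lt_of_le_of_ne le_sup_right ?_
    intro heq
    apply hx0m
    rw [heq]
    exact hxP
  have htop : P ⊔ m = ⊤ := hm.1.2 _ hlt
  have h1 : (1 : R) ∈ (P ⊔ m).toIdeal := by
    rw [htop]
    exact Submodule.mem_top
  rw [HomogeneousIdeal.toIdeal_sup] at h1
  obtain ⟨p, hp, q, hq, hpq⟩ := Submodule.mem_sup.1 h1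
  rw [← hpq]
  refine add_mem ?_ (hmJ hq)
  have hPJ : P.toIdeal ≤ J := by
    change Ideal.span {x0} ≤ J
    rw [Ideal.span_singleton_le_iff_mem]
    exact hx0J
  exact hPJ hp

/-- In a positively graded *local Noetherian ring, `dim R ≤ ht m`. -/
theorem ringKrullDim_le_height_of_isStarLocal (hpos : ∀ n : ℤ, n < 0 → 𝒜 n = ⊥)
    (m : HomogeneousIdeal 𝒜) (hm : GrLC.IsStarLocal 𝒜 m) :
    ringKrullDim R ≤ (m.toIdeal.height : WithBot ℕ∞) := by
  classical
  haveI hmmax : m.toIdeal.IsMaximal := isMaximal_of_isStarLocal 𝒜 hpos m hm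
  rw [ringKrullDim_le_iff_isMaximal_height_le]
  intro M hM
  haveI : M.IsPrime := hM.isPrime
  haveI hcore : (Ideal.homogeneousCore 𝒜 M).toIdeal.IsPrime :=
    Ideal.IsPrime.homogeneousCore inferInstance
  have hcM : (Ideal.homogeneousCore 𝒜 M).toIdeal ≤ M := Ideal.toIdeal_homogeneousCore_le 𝒜 M
  have hctop : (Ideal.homogeneousCore 𝒜 M).toIdeal ≠ ⊤ := by
    intro h
    apply hM.ne_top
    rw [eq_top_iff, ← h]
    exact hcM
  have hcm := le_of_isStarLocal 𝒜 m hm (Ideal.homogeneousCore 𝒜 M) hctop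
  by_cases heq : (Ideal.homogeneousCore 𝒜 M).toIdeal = m.toIdeal
  · have hmM : m.toIdeal ≤ M := heq ▸ hcM
    have : m.toIdeal = M := hmmax.eq_of_le hM.ne_top hmM
    rw [this]
  · have hlt : (Ideal.homogeneousCore 𝒜 M).toIdeal < m.toIdeal := lt_of_le_of_ne hcm heq
    have h1 := Ideal.height_add_one_le_of_lt_of_isPrime hlt
    have h2 := height_le_height_core_add_one 𝒜 M
    exact_mod_cast h2.trans h1

theorem height_eq_ringKrullDim_of_isStarLocal (hpos : ∀ n : ℤ, n < 0 → 𝒜 n = ⊥)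
    (m : HomogeneousIdeal 𝒜) (hm : GrLC.IsStarLocal 𝒜 m) :
    (m.toIdeal.height : WithBot ℕ∞) = ringKrullDim R := by
  haveI hmmax : m.toIdeal.IsMaximal := isMaximal_of_isStarLocal 𝒜 hpos m hm
  exact le_antisymm (Ideal.height_le_ringKrullDim_of_ne_top hmmax.ne_top)
    (ringKrullDim_le_height_of_isStarLocal 𝒜 hpos m hm)

end StarLocal

end Groth.Agent.R2.H72.GrDim
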