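import Groth.Agent.R2.H72GrTop
import Groth.Agent.R2.H72GrBddLocal
import Groth.Agent.R2.H72GrDim
import Groth.Agent.S0318
import Groth.Agent.Lib.Helper28DepthMore

/-!
# The a-invariant of a quotient by a homogeneous regular sequence (helper72)

* `endDeg_shift`, `endDeg_congr`: bookkeeping for ends of ℤ-graded objects;
* `endDeg_quot_reg`: if `H^i_a(X) = 0` and `x` is a homogeneous `X`-regular element of degree `δ` in `a`,
  then `end H^i_a(X/xX) = end H^{i+1}_a(X) + δ`;
* `endDeg_quot_regList`: the iterated form for weakly regular sequences;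
* `van_self_of_lt_height`: `H^i_a(R) = 0` for `i < ht a` when `R` is Cohen–Macaulay.
-/

set_option autoImplicit false
set_option linter.unusedSectionVars false
open DirectSum
open scoped Pointwise

noncomputable section

namespace Groth.Agent.R2.H72.GrAInv

open Groth.Agent.R2.H72.GrLCBasic Groth.Agent.R2.H72.GrMod Groth.Agent.R2.H72.GrLCLES
  Groth.Agent.R2.H72.GrLCTors Groth.Agent.R2.H72.GrKoszul Groth.Agent.R2.H72.GrReg
  Groth.Agent.R2.H72.GrRegGen Groth.Agent.R2.H72.GrBdd Groth.Agent.R2.H72.GrBddLocal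

universe u v

/-! ### Ends -/

section EndDeg

theorem endDeg_eq_bot_of_forall {G : Type u} [AddCommGroup G] (𝒢 : ℤ → AddSubgroup G)
    (h : ∀ j, 𝒢 j = ⊥) : GrLC.endDeg 𝒢 = ⊥ := by
  unfold GrLC.endDeg
  rw [eq_bot_iff, iSup₂_le_iff]
  intro j hj
  exact absurd (h j) hj

theorem endDeg_eq_coe_of {G : Type u} [AddCommGroup G] (𝒢 : ℤ → AddSubgroup G) (a : ℤ)
    (ha : 𝒢 a ≠ ⊥) (h : ∀ j, a < j → 𝒢 j = ⊥) :
    GrLC.endDeg 𝒢 = ((a : WithTop ℤ) : WithBot (WithTop ℤ)) := by
  apply le_antisymm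
  · exact (endDeg_le_iff' 𝒢 a).2 h
  · unfold GrLC.endDeg
    exact le_iSup₂ (f := fun (n : ℤ) (_ : 𝒢 n ≠ ⊥) => ((n : WithTop ℤ) : WithBot (WithTop ℤ))) a ha

/-- The abstract shift formula for ends. -/
theorem endDeg_shift {G : Type u} [AddCommGroup G] {G' : Type v} [AddCommGroup G']
    (𝒢 : ℤ → AddSubgroup G) (𝒢' : ℤ → AddSubgroup G') (δ : ℤ)
    (hU : ∀ e, 𝒢 (e + -δ) = ⊥ → 𝒢' e = ⊥)
    (hL : ∀ e, 𝒢 e ≠ ⊥ → (∀ j, e < j → 𝒢 j = ⊥) → 𝒢' (e + δ) ≠ ⊥)
    (hB : ∃ r : ℤ, ∀ j, r ≤ j → 𝒢 j = ⊥) :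
    GrLC.endDeg 𝒢' = GrLC.endDeg 𝒢 + ((δ : WithTop ℤ) : WithBot (WithTop ℤ)) := by
  classical
  by_cases hall : ∀ j, 𝒢 j = ⊥
  · rw [endDeg_eq_bot_of_forall 𝒢 hall, endDeg_eq_bot_of_forall 𝒢' (fun e => hU e (hall _)),
      WithBot.bot_add]
  · push Not at hall
    obtain ⟨j0, hj0⟩ := hall
    obtain ⟨r, hr⟩ := hB
    obtain ⟨a, ha, hamax⟩ := Int.exists_greatest_of_bdd (P := fun j => 𝒢 j ≠ ⊥)
      ⟨r, fun j hj => by
        by_contra hlt
        push Not at hlt
        exact hj (hr j hlt.le)⟩ ⟨j0, hj0⟩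
    have htop : ∀ j, a < j → 𝒢 j = ⊥ := by
      intro j hj
      by_contra hne
      have := hamax j hne
      omega
    rw [endDeg_eq_coe_of 𝒢 a ha htop, endDeg_eq_coe_of 𝒢' (a + δ) (hL a ha htop)
      (fun j hj => hU j (htop _ (by omega)))]
    rfl

theorem endDeg_congr {G : Type u} [AddCommGroup G] {G' : Type v} [AddCommGroup G']
    (𝒢 : ℤ → AddSubgroup G) (𝒢' : ℤ → AddSubgroup G') (h : ∀ j, 𝒢 j = ⊥ ↔ 𝒢' j = ⊥) :
    GrLC.endDeg 𝒢 = GrLC.endDeg 𝒢' := by
  unfold GrLC.endDeg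
  apply le_antisymm
  · rw [iSup₂_le_iff]
    intro j hj
    exact le_iSup₂ (f := fun (n : ℤ) (_ : 𝒢' n ≠ ⊥) => ((n : WithTop ℤ) : WithBot (WithTop ℤ))) j
      (fun h' => hj ((h j).2 h'))
  · rw [iSup₂_le_iff]
    intro j hj
    exact le_iSup₂ (f := fun (n : ℤ) (_ : 𝒢 n ≠ ⊥) => ((n : WithTop ℤ) : WithBot (WithTop ℤ))) j
      (fun h' => hj ((h j).1 h'))

end EndDeg

/-! ### Transfer of vanishing from ungraded local cohomology -/

section Transfer

variable {ι : Type} [AddCommGroup ι] [DecidableEq ι] [Module.Free ℤ ι] [Module.Finite ℤ ι]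
variable {R : Type u} [CommRing R] [IsNoetherianRing R] {𝒜 : ι → AddSubgroup R} [GradedRing 𝒜]

theorem van_of_locCoh_eq_zero (a : HomogeneousIdeal 𝒜) (X : GrLC.GMod.{u} 𝒜) (i : ℕ)
    (h : ∀ y : LocCoh.H a.toIdeal i X.carrier, y = 0) (k : ι) : Van a X i k := by
  intro E
  obtain ⟨e⟩ := Groth.Agent.S13224.result R 𝒜 a X.carrier X.gr E i
  rw [Submodule.eq_bot_iff]
  intro x _
  apply e.injective
  rw [map_zero]
  exact h _

end Transfer

variable {R : Type u} [CommRing R] {𝒜 : ℤ → AddSubgroup R} [GradedRing 𝒜] [IsNoetherianRing R]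

/-! ### One regular element -/

section Step

variable {a : HomogeneousIdeal 𝒜} {X N : GrLC.GMod.{u} 𝒜} {x : R} {δ : ℤ}

theorem Hgr_eq_bot_iff {Y : GrLC.GMod.{u} 𝒜} (E : GrLC.StarInjRes 𝒜 Y.gr) (i : ℕ) (e : ℤ) :
    E.Hgr a i e = ⊥ ↔ Van a Y i e := by
  rw [van_iff E i e]
  exact toAddSubgroup_eq_bot_iff' _

/-- `end H^i_a(X/xX) = end H^{i+1}_a(X) + deg x` when `H^i_a(X) = 0`. -/
theorem endDeg_quot_reg (hbdd : Bdd a X) (hx : x ∈ 𝒜 δ) (hxa : x ∈ a.toIdeal)
    (hδ : x = 0 ∨ 0 ≤ δ)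
    (π : X.carrier →ₗ[R] N.carrier) (hπ : Function.Surjective π)
    (hπg : GrLC.IsGrHom X.gr N.gr π) (hker : ∀ m, π m = 0 ↔ ∃ m', x • m' = m)
    (hreg : ∀ m : X.carrier, x • m = 0 → m = 0)
    (i : ℕ) (hvan : ∀ e, Van a X i e) (E : GrLC.StarInjRes 𝒜 X.gr) (F : GrLC.StarInjRes 𝒜 N.gr) :
    GrLC.endDeg (F.Hgr a i) =
      GrLC.endDeg (E.Hgr a (i + 1)) + ((δ : WithTop ℤ) : WithBot (WithTop ℤ)) := by
  have htors : ∀ m : X.carrier, x • m = 0 → m ∈ GrLC.gam a.toIdeal X.carrier := by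
    intro m hm
    rw [hreg m hm]
    exact zero_mem _
  apply endDeg_shift (E.Hgr a (i + 1)) (F.Hgr a i) δ
  · intro e he
    rw [Hgr_eq_bot_iff] at he ⊢
    exact van_quot hx π hπ hπg hker htors i e (hvan e) he
  · intro e hne htop hN
    rw [Hgr_eq_bot_iff] at hN
    apply hne
    rw [Hgr_eq_bot_iff, van_iff E (i + 1) e, Submodule.eq_bot_iff]
    have hinj : ∀ c : E.H a (i + 1), c ∈ E.Hcomp a (i + 1) e → x • c = 0 → c = 0 :=
      fun c hc h0 => smul_eq_zero_imp hx π hπ hπg hker htors i e hN E c hc h0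
    intro c hc
    rcases hδ with h0 | hδ
    · apply hinj c hc
      rw [h0, zero_smul]
    · rcases eq_or_lt_of_le hδ with h0 | hpos
      · -- degree zero: `x` acts nilpotently
        obtain ⟨n, hn⟩ := exists_pow_smul_eq_zero E hxa (i + 1) c
        have key : ∀ n : ℕ, ∀ c : E.H a (i + 1), c ∈ E.Hcomp a (i + 1) e → x ^ n • c = 0 → c = 0 := by
          intro n
          induction n with
          | zero =>
            intro c _ h
            rwa [pow_zero, one_smul] at h
          | succ n ih =>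
            intro c hc h
            apply ih c hc
            have h1 : x ^ n • c ∈ E.Hcomp a (i + 1) e := by
              have hxn : x ^ n ∈ 𝒜 (n • δ) := SetLike.pow_mem_graded n hx
              have h2 := smul_mem_Hcomp E hxn (i + 1) e hc
              rw [← h0, smul_zero, zero_add] at h2
              exact h2
            apply hinj _ h1
            rw [← mul_smul, ← pow_succ']
            exact h
        exact key n c hc hn
      · apply hinj c hc
        have h1 : x • c ∈ E.Hcomp a (i + 1) (δ + e) := smul_mem_Hcomp E hx (i + 1) e hc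
        have h2 : E.Hgr a (i + 1) (δ + e) = ⊥ := htop _ (by omega)
        rw [Hgr_eq_bot_iff, van_iff E] at h2
        rw [h2, Submodule.mem_bot] at h1
        exact h1
  · obtain ⟨r, hr⟩ := hbdd
    exact ⟨r, fun j hj => (Hgr_eq_bot_iff E (i + 1) j).2 (hr (i + 1) j hj)⟩

theorem van_quot_of_lt (hx : x ∈ 𝒜 δ)
    (π : X.carrier →ₗ[R] N.carrier) (hπ : Function.Surjective π)
    (hπg : GrLC.IsGrHom X.gr N.gr π) (hker : ∀ m, π m = 0 ↔ ∃ m', x • m' = m)
    (hreg : ∀ m : X.carrier, x • m = 0 → m = 0)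
    (c : ℕ) (hV : ∀ i, i < c → ∀ e, Van a X i e) : ∀ i, i + 1 < c → ∀ e, Van a N i e := by
  intro i hi e
  have htors : ∀ m : X.carrier, x • m = 0 → m ∈ GrLC.gam a.toIdeal X.carrier := by
    intro m hm
    rw [hreg m hm]
    exact zero_mem _
  exact van_quot hx π hπ hπg hker htors i e (hV i (by omega) e) (hV (i + 1) hi _)

end Step

/-! ### Regular sequences -/

section Seq

variable {a : HomogeneousIdeal 𝒜}

theorem smul_top_isHomogeneous (X : GrLC.GMod.{u} 𝒜) {x : R} {δ : ℤ} (hx : x ∈ 𝒜 δ) :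
    (x • (⊤ : Submodule R X.carrier)).IsHomogeneous X.gr := by
  intro k m hm
  obtain ⟨m', -, rfl⟩ := (Submodule.mem_smul_pointwise_iff_exists _ _ _).1 hm
  have h := cmp_map (X := shiftG X (-δ)) (Y := X) (mulMap X x δ) (mulMap_grHom hx) k m'
  change cmp X k (mulMap X x δ m') ∈ _
  rw [h]
  exact Submodule.smul_mem_pointwise_smul _ _ _ Submodule.mem_top

/-- The inverse of a bijective homomorphism of graded modules is a homomorphism of graded modules. -/
theorem symm_grHom {X N : GrLC.GMod.{u} 𝒜} (e : X.carrier ≃ₗ[R] N.carrier)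
    (he : GrLC.IsGrHom X.gr N.gr e.toLinearMap) : GrLC.IsGrHom N.gr X.gr e.symm.toLinearMap := by
  intro k n hn
  have h := cmp_map e.toLinearMap he k (e.symm n)
  have h1 : e.toLinearMap (e.symm n) = n := e.apply_symm_apply n
  rw [h1, cmp_of_mem N hn] at h
  have h2 : e.symm n = cmp X k (e.symm n) := by
    apply e.injective
    rw [e.apply_symm_apply]
    exact h
  change e.symm n ∈ X.gr k
  rw [h2]
  exact cmp_mem X k _

theorem van_congr_of_equiv {X N : GrLC.GMod.{u} 𝒜} (e : X.carrier ≃ₗ[R] N.carrier)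
    (he : GrLC.IsGrHom X.gr N.gr e.toLinearMap) (i : ℕ) (k : ℤ) : Van a X i k ↔ Van a N i k := by
  have he' := symm_grHom e he
  constructor
  · intro h
    exact van_of_retract e.symm.toLinearMap e.toLinearMap he' he
      (by ext n; exact e.apply_symm_apply n) i k h
  · intro h
    exact van_of_retract e.toLinearMap e.symm.toLinearMap he he'
      (by ext m; exact e.symm_apply_apply m) i k h

theorem coe_add_coe (x : WithBot (WithTop ℤ)) (p q : ℤ) :
    x + ((p : WithTop ℤ) : WithBot (WithTop ℤ)) + ((q : WithTop ℤ) : WithBot (WithTop ℤ)) =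
      x + (((p + q : ℤ) : WithTop ℤ) : WithBot (WithTop ℤ)) := by
  rw [add_assoc]
  rfl

/-- The a-invariant formula for a weakly regular sequence of homogeneous elements of `a`: if
`H^i_a(X) = 0` for `i < c` then `end H^{c-t}_a(X/(x_1..x_t)X) = end H^c_a(X) + Σ deg x_j`. -/
theorem endDeg_quot_regList (hpos : ∀ n : ℤ, n < 0 → 𝒜 n = ⊥)
    (hle : (irrH 𝒜).toIdeal ≤ a.toIdeal) (rs : List R) (ds : List ℤ)
    (hrd : List.Forall₂ (fun r d => r ∈ 𝒜 d) rs ds) :
    (∀ r ∈ rs, r ∈ a.toIdeal) →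
    ∀ (X N : GrLC.GMod.{u} 𝒜) [Module.Finite R X.carrier]
      (_ : RingTheory.Sequence.IsWeaklyRegular X.carrier rs)
      (π : X.carrier →ₗ[R] N.carrier) (_ : Function.Surjective π)
      (_ : GrLC.IsGrHom X.gr N.gr π)
      (_ : LinearMap.ker π = Ideal.ofList rs • (⊤ : Submodule R X.carrier))
      (c : ℕ) (_ : rs.length ≤ c) (_ : ∀ i, i < c → ∀ e, Van a X i e)
      (E : GrLC.StarInjRes 𝒜 X.gr) (F : GrLC.StarInjRes 𝒜 N.gr),
      GrLC.endDeg (F.Hgr a (c - rs.length)) =
        GrLC.endDeg (E.Hgr a c) + (((ds.sum : ℤ) : WithTop ℤ) : WithBot (WithTop ℤ)) := by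
  induction hrd with
  | nil =>
    intro _ X N _ _ π hπ hπg hker c _ _ E F
    have hker' : LinearMap.ker π = ⊥ := by
      rw [hker, Ideal.ofList_nil, Submodule.bot_smul]
    have hinj : Function.Injective π := LinearMap.ker_eq_bot.1 hker'
    let e : X.carrier ≃ₗ[R] N.carrier := LinearEquiv.ofBijective π ⟨hinj, hπ⟩
    have he : GrLC.IsGrHom X.gr N.gr e.toLinearMap := hπg
    rw [List.length_nil, Nat.sub_zero, List.sum_nil]
    have h1 : GrLC.endDeg (F.Hgr a c) = GrLC.endDeg (E.Hgr a c) := by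
      apply endDeg_congr
      intro j
      rw [Hgr_eq_bot_iff, Hgr_eq_bot_iff]
      exact (van_congr_of_equiv e he c j).symm
    rw [h1]
    change _ = GrLC.endDeg (E.Hgr a c) + 0
    rw [add_zero]
  | @cons x δ rs ds hx _ ih =>
    intro hmem X N _ hreg π hπ hπg hker c hc hV E F
    have hxa : x ∈ a.toIdeal := hmem x (List.mem_cons_self)
    have hmem' : ∀ r ∈ rs, r ∈ a.toIdeal := fun r hr => hmem r (List.mem_cons_of_mem _ hr)
    obtain ⟨hxreg, hreg'⟩ := (RingTheory.Sequence.isWeaklyRegular_cons_iff X.carrier x rs).1 hreg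
    have hregx : ∀ m : X.carrier, x • m = 0 → m = 0 := by
      intro m hm
      apply hxreg
      change x • m = x • 0
      rw [hm, smul_zero]
    have hδ : x = 0 ∨ 0 ≤ δ := by
      by_cases h : 0 ≤ δ
      · exact Or.inr h
      · left
        push Not at h
        exact Groth.Agent.Lib.Helper29GrStd.eq_zero_of_mem_of_eq_bot (hpos δ h) hx
    -- the quotient by `x`
    let P : Submodule R X.carrier := x • (⊤ : Submodule R X.carrier)
    have hP : P.IsHomogeneous X.gr := smul_top_isHomogeneous X hx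
    let X' : GrLC.GMod.{u} 𝒜 := quotG X P hP
    have hfin' : Module.Finite R X'.carrier :=
      inferInstanceAs (Module.Finite R (X.carrier ⧸ P))
    have hPle : P ≤ LinearMap.ker π := by
      rw [hker, Ideal.ofList_cons, Submodule.sup_smul, Submodule.ideal_span_singleton_smul]
      exact le_sup_left
    let π' : X'.carrier →ₗ[R] N.carrier := P.liftQ π hPle
    have hπ' : Function.Surjective π' := by
      intro n
      obtain ⟨m, rfl⟩ := hπ n
      exact ⟨P.mkQ m, rfl⟩
    have hπg' : GrLC.IsGrHom X'.gr N.gr π' := by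
      rintro k _ ⟨m, hm, rfl⟩
      exact hπg k m hm
    have hker' : LinearMap.ker π' = Ideal.ofList rs • (⊤ : Submodule R X'.carrier) := by
      change LinearMap.ker (P.liftQ π hPle) = _
      rw [Submodule.ker_liftQ, hker, Submodule.map_smul'', Submodule.map_top,
        Submodule.range_mkQ, Ideal.ofList_cons, Submodule.sup_smul,
        Submodule.ideal_span_singleton_smul]
      have hbot : x • (⊤ : Submodule R (X.carrier ⧸ P)) = ⊥ := by
        rw [eq_bot_iff]
        intro y hy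
        obtain ⟨y', -, rfl⟩ := (Submodule.mem_smul_pointwise_iff_exists _ _ _).1 hy
        obtain ⟨m, rfl⟩ := P.mkQ_surjective y'
        rw [Submodule.mem_bot, ← map_smul, Submodule.mkQ_apply, Submodule.Quotient.mk_eq_zero]
        exact Submodule.smul_mem_pointwise_smul _ _ _ Submodule.mem_top
      rw [hbot, bot_sup_eq]
      rfl
    have hkerx : ∀ m, P.mkQ m = 0 ↔ ∃ m', x • m' = m := by
      intro m
      rw [Submodule.mkQ_apply, Submodule.Quotient.mk_eq_zero]
      constructor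
      · intro h
        obtain ⟨m', -, h'⟩ := (Submodule.mem_smul_pointwise_iff_exists _ _ _).1 h
        exact ⟨m', h'⟩
      · rintro ⟨m', rfl⟩
        exact Submodule.smul_mem_pointwise_smul _ _ _ Submodule.mem_top
    obtain ⟨c', rfl⟩ : ∃ c', c = c' + 1 := ⟨c - 1, by
      rw [List.length_cons] at hc
      omega⟩
    have hc' : rs.length ≤ c' := by
      rw [List.length_cons] at hc
      omega
    have hbdd : Bdd a X := bdd_of_finite' hpos hle X
    have hstep := endDeg_quot_reg (N := X') hbdd hx hxa hδ P.mkQ P.mkQ_surjective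
      (quotG_mk_grHom X P hP) hkerx hregx c' (hV c' (by omega)) E (someRes X')
    have hV' : ∀ i, i < c' → ∀ e, Van a X' i e := fun i hi =>
      van_quot_of_lt (N := X') hx P.mkQ P.mkQ_surjective (quotG_mk_grHom X P hP) hkerx hregx
        (c' + 1) hV i (by omega)
    have hrec := ih hmem' X' N hreg' π' hπ' hπg' hker' c' hc' hV' (someRes X') F
    rw [List.length_cons, Nat.succ_sub_succ, hrec, hstep, List.sum_cons, coe_add_coe]

end Seq

/-! ### Vanishing below the height in the Cohen–Macaulay case -/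

section CM

omit [IsNoetherianRing R] in
/-- `H^i_a(R) = 0` for `i < ht a` when `R` is Cohen–Macaulay. -/
theorem van_self_of_lt_height [LocCoh.IsCohenMacaulayRing R] (a : HomogeneousIdeal 𝒜)
    (ha : a.toIdeal ≠ ⊤) (i : ℕ) (hi : (i : ℕ∞) < a.toIdeal.height) (e : ℤ) :
    Van a (GrLC.GMod.of 𝒜 R 𝒜) i e := by
  apply van_of_locCoh_eq_zero a (GrLC.GMod.of 𝒜 R 𝒜) i _ e
  have hdepth := Groth.Agent.Lib.Helper28.idealDepth_self_eq_height_of_isCohenMacaulayRing
    (R := R) inferInstance a.toIdeal ha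
  have hIM : a.toIdeal • (⊤ : Submodule R R) ≠ ⊤ := by
    rw [smul_eq_mul, Ideal.mul_top]
    exact ha
  exact Groth.Agent.Lib.Helper8.LC.H_eq_zero_of_lt_depth a.toIdeal (i + 1) R hIM
    (by rw [hdepth]; exact Order.add_one_le_of_lt hi) i (Nat.lt_succ_self i)

omit [IsNoetherianRing R] in
/-- In a positively graded *local Cohen–Macaulay ring, `H^i_m(R) = 0` for `i < dim R`. -/
theorem van_self_of_lt_dim [LocCoh.IsCohenMacaulayRing R] (hpos : ∀ n : ℤ, n < 0 → 𝒜 n = ⊥)
    (m : HomogeneousIdeal 𝒜) (hm : GrLC.IsStarLocal 𝒜 m) (n : ℕ) (hn : ringKrullDim R = n)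
    (i : ℕ) (hi : i < n) (e : ℤ) : Van m (GrLC.GMod.of 𝒜 R 𝒜) i e := by
  have hmax := Groth.Agent.R2.H72.GrDim.isMaximal_of_isStarLocal 𝒜 hpos m hm
  have hht := Groth.Agent.R2.H72.GrDim.height_eq_ringKrullDim_of_isStarLocal 𝒜 hpos m hm
  rw [hn] at hht
  have hht' : m.toIdeal.height = (n : ℕ∞) := by exact_mod_cast hht
  apply van_self_of_lt_height m hmax.ne_top i
  rw [hht']
  exact_mod_cast hi

end CM

/-! ### List bookkeeping -/

section Lists

theorem forall₂_ofFn {α β : Type*} (r : α → β → Prop) :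
    ∀ (t : ℕ) (f : Fin t → α) (g : Fin t → β), (∀ i, r (f i) (g i)) →
      List.Forall₂ r (List.ofFn f) (List.ofFn g) := by
  intro t
  induction t with
  | zero =>
    intro f g _
    rw [List.ofFn_zero, List.ofFn_zero]
    exact List.Forall₂.nil
  | succ t ih =>
    intro f g h
    rw [List.ofFn_succ, List.ofFn_succ]
    exact List.Forall₂.cons (h 0) (ih _ _ (fun i => h i.succ))

theorem ofList_ofFn {S : Type*} [CommRing S] {t : ℕ} (f : Fin t → S) :
    Ideal.ofList (List.ofFn f) = Ideal.span (Set.range f) := by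
  unfold Ideal.ofList
  congr 1
  ext y
  simp only [Set.mem_ofPred_eq, List.mem_ofFn, Set.mem_range]

end Lists

end Groth.Agent.R2.H72.GrAInv
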