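import Groth.Agent.R2.H72GrRegGen

/-!
# Vanishing of graded local cohomology in high degrees (helper72)

For a Noetherian positively `ℤ`-graded ring `R` with irrelevant ideal `a = R_+` and a finitely generated
graded module `M`, there is `r` with `H^i_a(M)_n = 0` for all `i` and all `n ≥ r`.  The proof is a
Noetherian induction on graded quotients of `M` (no associated primes, no dimension theory).
-/

set_option autoImplicit false
set_option linter.unusedSectionVars false
open DirectSum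

noncomputable section

namespace Groth.Agent.R2.H72.GrBdd

open Groth.Agent.R2.H72.GrLCBasic Groth.Agent.R2.H72.GrMod Groth.Agent.R2.H72.GrLCLES
  Groth.Agent.R2.H72.GrLCTors Groth.Agent.R2.H72.GrKoszul Groth.Agent.R2.H72.GrReg
  Groth.Agent.R2.H72.GrRegGen
open Groth.Agent.Lib.Helper29GrEss Groth.Agent.Lib.Helper29GrGam

universe u

/-! ### The Noetherian induction principle for graded modules -/

section Induction

variable {ι : Type} [AddCommGroup ι] [DecidableEq ι]
variable {R : Type u} [CommRing R] {𝒜 : ι → AddSubgroup R} [GradedRing 𝒜]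

/-- `0 → P → X → X/P → 0`. -/
def sesSub (X : GrLC.GMod.{u} 𝒜) (P : Submodule R X.carrier) (hP : P.IsHomogeneous X.gr) :
    SES (subG X P hP) X (quotG X P hP) where
  f := P.subtype
  g := P.mkQ
  f_gr := subG_incl_grHom X P hP
  g_gr := quotG_mk_grHom X P hP
  f_inj := Submodule.injective_subtype _
  g_surj := P.mkQ_surjective
  exact m := by
    constructor
    · intro h
      exact ⟨⟨m, (Submodule.Quotient.mk_eq_zero P).1 h⟩, rfl⟩
    · rintro ⟨m', rfl⟩
      exact (Submodule.Quotient.mk_eq_zero P).2 m'.2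

variable (X : GrLC.GMod.{u} 𝒜) (P : Submodule R X.carrier) (hP : P.IsHomogeneous X.gr)
  (P' : Submodule R (quotG X P hP).carrier) (hP' : P'.IsHomogeneous (quotG X P hP).gr)

/-- The preimage in `X` of a submodule of `X/P`. -/
def pre : Submodule R X.carrier := P'.comap P.mkQ

include hP' in
theorem pre_isHomogeneous : (pre X P hP P').IsHomogeneous X.gr :=
  comap_isHomogeneous X.gr (quotG X P hP).gr P.mkQ (quotG_mk_grHom X P hP) hP'

theorem le_pre : P ≤ pre X P hP P' := by
  intro x hx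
  show P.mkQ x ∈ P'
  have h0 : P.mkQ x = 0 := (Submodule.Quotient.mk_eq_zero P).2 hx
  rw [h0]
  exact zero_mem _

theorem lt_pre (hne : P' ≠ ⊥) : P < pre X P hP P' := by
  refine lt_of_le_of_ne (le_pre X P hP P') ?_
  intro heq
  apply hne
  rw [eq_bot_iff]
  intro y hy
  obtain ⟨x, rfl⟩ := P.mkQ_surjective y
  have hx : x ∈ pre X P hP P' := hy
  rw [← heq] at hx
  exact (Submodule.mem_bot R).2 ((Submodule.Quotient.mk_eq_zero P).2 hx)

/-- The map `X/Q → (X/P)/P'` for `Q` the preimage of `P'`. -/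
def toQQ : (quotG X (pre X P hP P') (pre_isHomogeneous X P hP P' hP')).carrier →ₗ[R]
    (quotG (quotG X P hP) P' hP').carrier :=
  (pre X P hP P').liftQ (P'.mkQ ∘ₗ P.mkQ) (by
    intro x hx
    exact (Submodule.Quotient.mk_eq_zero P').2 hx)

/-- The map `(X/P)/P' → X/Q` for `Q` the preimage of `P'`. -/
def ofQQ : (quotG (quotG X P hP) P' hP').carrier →ₗ[R]
    (quotG X (pre X P hP P') (pre_isHomogeneous X P hP P' hP')).carrier :=
  P'.liftQ (P.liftQ (pre X P hP P').mkQ (by
      intro x hx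
      exact (Submodule.Quotient.mk_eq_zero _).2 (le_pre X P hP P' hx))) (by
    intro y hy
    obtain ⟨x, rfl⟩ := P.mkQ_surjective y
    exact (Submodule.Quotient.mk_eq_zero _).2 hy)

theorem ofQQ_toQQ : ofQQ X P hP P' hP' ∘ₗ toQQ X P hP P' hP' = LinearMap.id := by
  apply LinearMap.ext
  intro z
  obtain ⟨x, rfl⟩ := (pre X P hP P').mkQ_surjective z
  rfl

theorem toQQ_ofQQ : toQQ X P hP P' hP' ∘ₗ ofQQ X P hP P' hP' = LinearMap.id := by
  apply LinearMap.ext
  intro z
  obtain ⟨y, rfl⟩ := P'.mkQ_surjective z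
  obtain ⟨x, rfl⟩ := P.mkQ_surjective y
  rfl

theorem toQQ_grHom : GrLC.IsGrHom
    (quotG X (pre X P hP P') (pre_isHomogeneous X P hP P' hP')).gr
    (quotG (quotG X P hP) P' hP').gr (toQQ X P hP P' hP') := by
  rintro e _ ⟨x, hx, rfl⟩
  exact ⟨P.mkQ x, ⟨x, hx, rfl⟩, rfl⟩

theorem ofQQ_grHom : GrLC.IsGrHom (quotG (quotG X P hP) P' hP').gr
    (quotG X (pre X P hP P') (pre_isHomogeneous X P hP P' hP')).gr (ofQQ X P hP P' hP') := by
  rintro e _ ⟨_, ⟨x, hx, rfl⟩, rfl⟩
  exact ⟨x, hx, rfl⟩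

end Induction

section Principle

variable {ι : Type} [AddCommGroup ι] [DecidableEq ι]
variable {R : Type u} [CommRing R] {𝒜 : ι → AddSubgroup R} [GradedRing 𝒜]

/-- The identification `X/⊥ → X`. -/
def unBot (X : GrLC.GMod.{u} 𝒜) :
    (quotG X ⊥ (Groth.Agent.Lib.Helper29GrSub.IsHomogeneous.bot X.gr)).carrier →ₗ[R] X.carrier :=
  (Submodule.quotEquivOfEqBot (⊥ : Submodule R X.carrier) rfl).toLinearMap

theorem unBot_mk (X : GrLC.GMod.{u} 𝒜) (x : X.carrier) :
    unBot X ((⊥ : Submodule R X.carrier).mkQ x) = x :=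
  Submodule.quotEquivOfEqBot_apply_mk _ _ x

/-- Noetherian induction for graded modules: a property invariant under graded isomorphisms which holds
for a Noetherian graded module as soon as it holds for all its proper graded quotients holds for all
Noetherian graded modules. -/
theorem gmod_induction (Pr : GrLC.GMod.{u} 𝒜 → Prop)
    (hiso : ∀ (X Y : GrLC.GMod.{u} 𝒜) (f : X.carrier →ₗ[R] Y.carrier)
      (g : Y.carrier →ₗ[R] X.carrier), GrLC.IsGrHom X.gr Y.gr f → GrLC.IsGrHom Y.gr X.gr g →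
      g ∘ₗ f = LinearMap.id → f ∘ₗ g = LinearMap.id → Pr X → Pr Y)
    (hstep : ∀ X : GrLC.GMod.{u} 𝒜, IsNoetherian R X.carrier →
      (∀ (P : Submodule R X.carrier) (hP : P.IsHomogeneous X.gr), P ≠ ⊥ → Pr (quotG X P hP)) → Pr X)
    (X : GrLC.GMod.{u} 𝒜) [IsNoetherian R X.carrier] : Pr X := by
  have key : ∀ P : Submodule R X.carrier, ∀ hP : P.IsHomogeneous X.gr, Pr (quotG X P hP) := by
    intro P
    induction P using WellFoundedGT.induction with
    | ind P ih =>
      intro hP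
      apply hstep (quotG X P hP) (inferInstanceAs (IsNoetherian R (X.carrier ⧸ P)))
      intro P' hP' hne
      have h1 := ih (pre X P hP P') (lt_pre X P hP P' hne) (pre_isHomogeneous X P hP P' hP')
      exact hiso _ _ (toQQ X P hP P' hP') (ofQQ X P hP P' hP') (toQQ_grHom X P hP P' hP')
        (ofQQ_grHom X P hP P' hP') (ofQQ_toQQ X P hP P' hP') (toQQ_ofQQ X P hP P' hP') h1
  have h0 := key ⊥ (Groth.Agent.Lib.Helper29GrSub.IsHomogeneous.bot X.gr)
  refine hiso _ X (unBot X) (⊥ : Submodule R X.carrier).mkQ ?_ (quotG_mk_grHom X ⊥ _) ?_ ?_ h0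
  · rintro e _ ⟨x, hx, rfl⟩
    have h1 := unBot_mk X x
    exact h1 ▸ hx
  · apply LinearMap.ext
    intro z
    obtain ⟨x, rfl⟩ := (⊥ : Submodule R X.carrier).mkQ_surjective z
    show (⊥ : Submodule R X.carrier).mkQ (unBot X ((⊥ : Submodule R X.carrier).mkQ x)) = _
    rw [unBot_mk]
    rfl
  · apply LinearMap.ext
    intro x
    exact unBot_mk X x

end Principle

/-! ### Bounded local cohomology -/

section Bdd

variable {R : Type u} [CommRing R] {𝒜 : ℤ → AddSubgroup R} [GradedRing 𝒜]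
variable (a : HomogeneousIdeal 𝒜)

/-- All graded local cohomology modules of `X` vanish in degrees `≥ r`, for some `r`. -/
def Bdd (X : GrLC.GMod.{u} 𝒜) : Prop := ∃ r : ℤ, ∀ (i : ℕ) (n : ℤ), r ≤ n → Van a X i n

variable {a} {X Y M' M M'' : GrLC.GMod.{u} 𝒜}

theorem bdd_of_ses (S : SES M' M M'') (h' : Bdd a M') (h'' : Bdd a M'') : Bdd a M := by
  obtain ⟨r', hr'⟩ := h'
  obtain ⟨r'', hr''⟩ := h''
  refine ⟨max r' r'', fun i n hn => van_mid S i n (hr' i n ?_) (hr'' i n ?_)⟩
  · exact le_trans (le_max_left _ _) hn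
  · exact le_trans (le_max_right _ _) hn

theorem bdd_shiftG (d : ℤ) (h : Bdd a X) : Bdd a (shiftG X d) := by
  obtain ⟨r, hr⟩ := h
  refine ⟨r - d, fun i n hn => (van_shiftG d i n).2 (hr i (n + d) (by omega))⟩

theorem bdd_of_retract (f : X.carrier →ₗ[R] Y.carrier) (g : Y.carrier →ₗ[R] X.carrier)
    (hf : GrLC.IsGrHom X.gr Y.gr f) (hg : GrLC.IsGrHom Y.gr X.gr g) (hgf : g ∘ₗ f = LinearMap.id)
    (h : Bdd a Y) : Bdd a X := by
  obtain ⟨r, hr⟩ := h
  exact ⟨r, fun i n hn => van_of_retract f g hf hg hgf i n (hr i n hn)⟩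

theorem bdd_of_subsingleton [Subsingleton X.carrier] : Bdd a X :=
  ⟨0, fun i n _ => van_of_subsingleton a X i n⟩

end Bdd

/-! ### Finitely generated torsion modules are bounded above -/

section Torsion

variable {R : Type u} [CommRing R] {𝒜 : ℤ → AddSubgroup R} [GradedRing 𝒜]
variable (a : HomogeneousIdeal 𝒜)

/-- The irrelevant ideal of a Noetherian graded ring is generated by finitely many homogeneous elements of
positive degrees. -/
theorem exists_gens [IsNoetherianRing R]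
    (ha : a.toIdeal = Ideal.span (⋃ n ∈ Set.Ioi (0 : ℤ), (𝒜 n : Set R))) :
    ∃ (t : Finset R) (deg : R → ℤ), (∀ y ∈ t, y ∈ 𝒜 (deg y) ∧ 0 < deg y) ∧
      a.toIdeal = Ideal.span (t : Set R) := by
  classical
  have hfg : (Submodule.span R (⋃ n ∈ Set.Ioi (0 : ℤ), (𝒜 n : Set R))).FG := by
    have h := IsNoetherian.noetherian a.toIdeal
    rw [ha] at h
    exact h
  obtain ⟨t, hsub, hspan⟩ := (Submodule.fg_span_iff_fg_span_finset_subset _).1 hfg
  have h : ∀ y : R, ∃ n : ℤ, y ∈ t → (y ∈ 𝒜 n ∧ 0 < n) := by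
    intro y
    by_cases hy : y ∈ t
    · obtain ⟨n, hn, hyn⟩ := Set.mem_iUnion₂.1 (hsub hy)
      exact ⟨n, fun _ => ⟨hyn, hn⟩⟩
    · exact ⟨0, fun h => absurd h hy⟩
  choose deg hdeg using h
  refine ⟨t, deg, fun y hy => hdeg y hy, ?_⟩
  rw [ha]
  exact hspan

variable {a}

theorem mem_of_pos (ha : a.toIdeal = Ideal.span (⋃ n ∈ Set.Ioi (0 : ℤ), (𝒜 n : Set R))) {n : ℤ}
    (hn : 0 < n) {r : R} (hr : r ∈ 𝒜 n) : r ∈ a.toIdeal := by
  rw [ha]
  exact Ideal.subset_span (Set.mem_iUnion₂.2 ⟨n, hn, hr⟩)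

/-- Homogeneous elements of large degree lie in a high power of the irrelevant ideal. -/
theorem piece_le_pow_gen (ha : a.toIdeal = Ideal.span (⋃ n ∈ Set.Ioi (0 : ℤ), (𝒜 n : Set R)))
    (t : Finset R) (deg : R → ℤ) (ht : ∀ y ∈ t, y ∈ 𝒜 (deg y) ∧ 0 < deg y)
    (hspan : a.toIdeal = Ideal.span (t : Set R)) (Δ : ℤ) (hΔ1 : 1 ≤ Δ) (hΔ : ∀ y ∈ t, deg y ≤ Δ) :
    ∀ (K : ℕ) (n : ℤ), (K : ℤ) * Δ ≤ n → ∀ r ∈ 𝒜 n, r ∈ a.toIdeal ^ K := by
  classical
  intro K
  induction K with
  | zero =>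
    intro n _ r _
    rw [pow_zero, Ideal.one_eq_top]
    exact Submodule.mem_top
  | succ K ih =>
    intro n hn r hr
    have hΔK : 0 ≤ (K : ℤ) * Δ := mul_nonneg (Int.natCast_nonneg K) (by omega)
    have hn' : (K : ℤ) * Δ + Δ ≤ n := by
      have : ((K + 1 : ℕ) : ℤ) * Δ = (K : ℤ) * Δ + Δ := by push_cast; ring
      omega
    have hra : r ∈ a.toIdeal := mem_of_pos ha (by omega) hr
    rw [hspan] at hra
    obtain ⟨f, -, rfl⟩ := Submodule.mem_span_finset.mp hra
    have hcomp := Groth.Agent.Lib.Helper29GrStd.decompose_sum_smul 𝒜 𝒜 t deg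
      (fun p hp => (ht p hp).1) f n
    rw [DirectSum.decompose_of_mem_same 𝒜 hr] at hcomp
    rw [hcomp, pow_succ]
    refine Ideal.sum_mem _ fun p hp => ?_
    have h2 : ((decompose 𝒜 (f p)) (n - deg p) : R) ∈ a.toIdeal ^ K := by
      apply ih (n - deg p)
      · have := hΔ p hp
        omega
      · exact SetLike.coe_mem _
    have h4 : p ∈ a.toIdeal := by
      rw [hspan]
      exact Ideal.subset_span hp
    exact Ideal.mul_mem_mul h2 h4

/-- A finitely generated graded module which is torsion for the irrelevant ideal vanishes in high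
degrees. -/
theorem exists_bound_of_torsion_gen [IsNoetherianRing R]
    (ha : a.toIdeal = Ideal.span (⋃ n ∈ Set.Ioi (0 : ℤ), (𝒜 n : Set R)))
    (X : GrLC.GMod.{u} 𝒜) [Module.Finite R X.carrier]
    (htors : GrLC.gam a.toIdeal X.carrier = ⊤) : ∃ n₀ : ℤ, ∀ n, n₀ ≤ n → X.gr n = ⊥ := by
  classical
  obtain ⟨t, deg, ht, hspan⟩ := exists_gens a ha
  obtain ⟨Δ0, hΔ0⟩ := Finset.exists_le (t.image deg)
  obtain ⟨S, hS, hSspan⟩ := Groth.Agent.Lib.Helper29GrBaer.exists_homogeneous_generators (R := R) X.gr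
  choose! degM hdegM using hS
  have htors' : ∀ m : X.carrier, ∃ k : ℕ, ∀ r ∈ a.toIdeal ^ k, r • m = 0 := by
    intro m
    have hm : m ∈ GrLC.gam a.toIdeal X.carrier := by rw [htors]; trivial
    exact hm
  choose kk hkk using htors'
  obtain ⟨J, hJ⟩ := Finset.exists_le (S.image degM)
  obtain ⟨K, hK⟩ := Finset.exists_le (S.image kk)
  set Δ := max Δ0 1 with hΔdef
  have hΔ1 : 1 ≤ Δ := le_max_right _ _
  have hΔ : ∀ y ∈ t, deg y ≤ Δ := fun y hy =>
    le_trans (hΔ0 _ (Finset.mem_image_of_mem deg hy)) (le_max_left _ _)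
  refine ⟨J + K * Δ, fun n hn => ?_⟩
  rw [eq_bot_iff]
  intro x hx
  rw [AddSubgroup.mem_bot]
  have hx' : x ∈ Submodule.span R (S : Set X.carrier) := by rw [hSspan]; exact Submodule.mem_top
  obtain ⟨f, -, rfl⟩ := Submodule.mem_span_finset.mp hx'
  have h1' := Groth.Agent.Lib.Helper29GrStd.decompose_sum_smul 𝒜 X.gr S degM hdegM f n
  rw [DirectSum.decompose_of_mem_same X.gr hx] at h1'
  rw [h1']
  refine Finset.sum_eq_zero fun s hs => ?_
  have hd : degM s ≤ J := hJ _ (Finset.mem_image_of_mem degM hs)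
  have hk : kk s ≤ K := hK _ (Finset.mem_image_of_mem kk hs)
  have hc : ((decompose 𝒜 (f s)) (n - degM s) : R) ∈ a.toIdeal ^ K := by
    apply piece_le_pow_gen ha t deg ht hspan Δ hΔ1 hΔ K (n - degM s)
    · omega
    · exact SetLike.coe_mem _
  exact hkk s _ (Ideal.pow_le_pow_right hk hc)

end Torsion

/-! ### The main induction -/

section Main

variable {R : Type u} [CommRing R] [IsNoetherianRing R] {𝒜 : ℤ → AddSubgroup R} [GradedRing 𝒜]
variable {a : HomogeneousIdeal 𝒜}

theorem bdd_of_torsion (ha : a.toIdeal = Ideal.span (⋃ n ∈ Set.Ioi (0 : ℤ), (𝒜 n : Set R)))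
    (X : GrLC.GMod.{u} 𝒜) [Module.Finite R X.carrier]
    (htors : GrLC.gam a.toIdeal X.carrier = ⊤) : Bdd a X := by
  obtain ⟨n₀, hn₀⟩ := exists_bound_of_torsion_gen ha X htors
  refine ⟨n₀, fun i n hn => ?_⟩
  cases i with
  | zero =>
    rw [van_zero_iff]
    intro m hm _
    rw [hn₀ n hn] at hm
    exact AddSubgroup.mem_bot.1 hm
  | succ i => exact van_succ_of_torsion htors i n

/-- The kernel of multiplication by `y`, as a submodule of `X`. -/
def kerY (X : GrLC.GMod.{u} 𝒜) (y : R) (δ : ℤ) : Submodule R X.carrier := kerMul X y δ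

theorem mem_kerY (X : GrLC.GMod.{u} 𝒜) (y : R) (δ : ℤ) (m : X.carrier) :
    m ∈ kerY X y δ ↔ y • m = 0 := Iff.rfl

theorem kerY_isHomogeneous (X : GrLC.GMod.{u} 𝒜) {y : R} {δ : ℤ} (hy : y ∈ 𝒜 δ) :
    (kerY X y δ).IsHomogeneous X.gr := by
  intro j x hx
  rw [mem_kerY] at hx ⊢
  have h1 := decompose_smul_of_mem 𝒜 X.gr hy x (j + δ)
  rw [add_sub_cancel_right, hx, DirectSum.decompose_zero] at h1
  exact h1.symm

/-- The identity `X(-δ)/K → (X/K)(-δ)`. -/
def idTo (X : GrLC.GMod.{u} 𝒜) {y : R} {δ : ℤ} (hy : y ∈ 𝒜 δ) :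
    (QG X hy).carrier →ₗ[R] (shiftG (quotG X (kerY X y δ) (kerY_isHomogeneous X hy)) (-δ)).carrier :=
  LinearMap.id

/-- The identity `(X/K)(-δ) → X(-δ)/K`. -/
def idFrom (X : GrLC.GMod.{u} 𝒜) {y : R} {δ : ℤ} (hy : y ∈ 𝒜 δ) :
    (shiftG (quotG X (kerY X y δ) (kerY_isHomogeneous X hy)) (-δ)).carrier →ₗ[R] (QG X hy).carrier :=
  LinearMap.id

theorem idTo_grHom (X : GrLC.GMod.{u} 𝒜) {y : R} {δ : ℤ} (hy : y ∈ 𝒜 δ) :
    GrLC.IsGrHom (QG X hy).gr
      (shiftG (quotG X (kerY X y δ) (kerY_isHomogeneous X hy)) (-δ)).gr (idTo X hy) :=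
  fun _ _ h => h

theorem idFrom_grHom (X : GrLC.GMod.{u} 𝒜) {y : R} {δ : ℤ} (hy : y ∈ 𝒜 δ) :
    GrLC.IsGrHom (shiftG (quotG X (kerY X y δ) (kerY_isHomogeneous X hy)) (-δ)).gr (QG X hy).gr
      (idFrom X hy) :=
  fun _ _ h => h

theorem bdd_QG (X : GrLC.GMod.{u} 𝒜) {y : R} {δ : ℤ} (hy : y ∈ 𝒜 δ)
    (h : Bdd a (quotG X (kerY X y δ) (kerY_isHomogeneous X hy))) : Bdd a (QG X hy) :=
  bdd_of_retract (idTo X hy) (idFrom X hy) (idTo_grHom X hy) (idFrom_grHom X hy) rfl
    (bdd_shiftG (-δ) h)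

/-- The inductive step: a Noetherian graded module all of whose proper graded quotients have bounded
local cohomology has bounded local cohomology. -/
theorem bdd_step (ha : a.toIdeal = Ideal.span (⋃ n ∈ Set.Ioi (0 : ℤ), (𝒜 n : Set R)))
    (X : GrLC.GMod.{u} 𝒜) (hN : IsNoetherian R X.carrier)
    (ih : ∀ (P : Submodule R X.carrier) (hP : P.IsHomogeneous X.gr), P ≠ ⊥ →
      Bdd a (quotG X P hP)) : Bdd a X := by
  classical
  by_cases hΓ : GrLC.gam a.toIdeal X.carrier = ⊥
  · have hvan0 : ∀ e, Van a X 0 e := by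
      intro e
      rw [van_zero_iff]
      intro m _ hm
      rw [hΓ] at hm
      exact (Submodule.mem_bot R).1 hm
    obtain ⟨t, deg, ht, hspan⟩ := exists_gens a ha
    by_cases hall : ∀ y ∈ t, ∀ m : X.carrier, y • m = 0
    · have h0 : ∀ m : X.carrier, m = 0 := by
        intro m
        have hm : m ∈ GrLC.gam a.toIdeal X.carrier := by
          refine ⟨1, fun r hr => ?_⟩
          rw [pow_one, hspan] at hr
          refine Submodule.span_induction (p := fun r _ => r • m = 0) ?_ ?_ ?_ ?_ hr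
          · intro y hy
            exact hall y hy m
          · exact zero_smul R m
          · intro r r' _ _ h h'
            rw [add_smul, h, h', add_zero]
          · intro c r _ h
            rw [smul_eq_mul, mul_smul, h, smul_zero]
        rw [hΓ] at hm
        exact (Submodule.mem_bot R).1 hm
      have hsub : Subsingleton X.carrier := ⟨fun m m' => by rw [h0 m, h0 m']⟩
      exact bdd_of_subsingleton
    · push Not at hall
      obtain ⟨y, hyt, m0, hm0⟩ := hall
      have hy : y ∈ 𝒜 (deg y) := (ht y hyt).1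
      have hδ : 0 < deg y := (ht y hyt).2
      have hya : y ∈ a.toIdeal := by
        rw [hspan]
        exact Ideal.subset_span hyt
      have hP : (LinearMap.range (mulMap X y (deg y))).IsHomogeneous X.gr :=
        range_isHomogeneous X.gr (shiftG X (-(deg y))).gr (mulMap X y (deg y)) (mulMap_grHom hy)
      have hPne : LinearMap.range (mulMap X y (deg y)) ≠ ⊥ := by
        intro h
        apply hm0
        have h1 : y • m0 ∈ LinearMap.range (mulMap X y (deg y)) := ⟨m0, rfl⟩
        rw [h] at h1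
        exact (Submodule.mem_bot R).1 h1
      have hNb : Bdd a (quotG X _ hP) := ih _ hP hPne
      have hker : ∀ m : X.carrier, (LinearMap.range (mulMap X y (deg y))).mkQ m = 0 ↔
          ∃ m', y • m' = m := by
        intro m
        rw [Submodule.mkQ_apply, Submodule.Quotient.mk_eq_zero]
        exact Iff.rfl
      by_cases hK : kerY X y (deg y) = ⊥
      · obtain ⟨rN, hrN⟩ := hNb
        refine ⟨rN, fun i n hn => ?_⟩
        cases i with
        | zero => exact hvan0 n
        | succ i =>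
          refine van_of_van_quot (N := quotG X _ hP) hy hya _ (Submodule.mkQ_surjective _)
            (quotG_mk_grHom X _ hP) hker ?_ i n ?_
          · intro m hm
            have h1 : m ∈ kerY X y (deg y) := hm
            rw [hK] at h1
            rw [(Submodule.mem_bot R).1 h1]
            exact zero_mem _
          · intro j
            apply hrN
            have h1 : (0 : ℤ) ≤ (j + 1) • deg y := nsmul_nonneg hδ.le _
            omega
      · have hQ : Bdd a (quotG X (kerY X y (deg y)) (kerY_isHomogeneous X hy)) :=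
          ih _ (kerY_isHomogeneous X hy) hK
        exact bdd_of_ses (ses2 hy _ (Submodule.mkQ_surjective _) (quotG_mk_grHom X _ hP) hker)
          (bdd_QG X hy hQ) hNb
  · have hΓh : (GrLC.gam a.toIdeal X.carrier).IsHomogeneous X.gr := gam_isHomogeneous 𝒜 X.gr a
    refine bdd_of_ses (sesSub X _ hΓh) ?_ (ih _ hΓh hΓ)
    have : Module.Finite R (subG X _ hΓh).carrier :=
      inferInstanceAs (Module.Finite R ↥(GrLC.gam a.toIdeal X.carrier))
    apply bdd_of_torsion ha
    rw [eq_top_iff]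
    rintro ⟨m, hm⟩ _
    obtain ⟨n, hn⟩ := hm
    exact ⟨n, fun r hr => Subtype.ext (hn r hr)⟩

/-- **Vanishing in high degrees**: the graded local cohomology of a finitely generated graded module
over a Noetherian graded ring, with support in the irrelevant ideal, vanishes in all degrees `≥ r`. -/
theorem bdd_of_finite (ha : a.toIdeal = Ideal.span (⋃ n ∈ Set.Ioi (0 : ℤ), (𝒜 n : Set R)))
    (X : GrLC.GMod.{u} 𝒜) [Module.Finite R X.carrier] : Bdd a X := by
  have : IsNoetherian R X.carrier := isNoetherian_of_isNoetherianRing_of_finite R X.carrier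
  refine gmod_induction (Bdd a) ?_ (fun Y hY ih => bdd_step ha Y hY ih) X
  intro Y Z f g hf hg hgf hfg h
  exact bdd_of_retract g f hg hf hfg h

end Main

end Groth.Agent.R2.H72.GrBdd
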