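import Groth.Agent.R2.H72GrBdd

/-!
# Finiteness of the pieces of graded local cohomology over the degree zero subring (helper72)

For a Noetherian graded ring `R`, the irrelevant ideal `a = R_+` and a finitely generated graded module `M`,
every piece `H^i_a(M)_n` is a finitely generated module over `R_0`.
-/

set_option autoImplicit false
set_option linter.unusedSectionVars false
open DirectSum

noncomputable section

namespace Groth.Agent.R2.H72.GrFinH

open Groth.Agent.R2.H72.GrLCBasic Groth.Agent.R2.H72.GrMod Groth.Agent.R2.H72.GrLCLES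
  Groth.Agent.R2.H72.GrLCTors Groth.Agent.R2.H72.GrKoszul Groth.Agent.R2.H72.GrReg
  Groth.Agent.R2.H72.GrRegGen Groth.Agent.R2.H72.GrBdd
open Groth.Agent.Lib.Helper29GrEss Groth.Agent.Lib.Helper29GrGam

universe u

/-! ### Pieces of a Noetherian graded module are Noetherian over the degree zero subring -/

section Pieces

variable {ι : Type} [AddCommGroup ι] [DecidableEq ι]
variable {R : Type u} [CommRing R] {𝒜 : ι → AddSubgroup R} [GradedRing 𝒜]

/-- An `R_0`-submodule of a graded piece `X_n` of a Noetherian graded module is finitely generated. -/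
theorem fg_of_le_comp (X : GrLC.GMod.{u} 𝒜) [IsNoetherian R X.carrier] (n : ι)
    (N : Submodule (GrLC.deg0 𝒜) X.carrier) (hN : N ≤ GrLC.comp 𝒜 X.gr n) : N.FG := by
  classical
  have hfg : (Submodule.span R (N : Set X.carrier)).FG := IsNoetherian.noetherian _
  obtain ⟨t, hsub, hspan⟩ := (Submodule.fg_span_iff_fg_span_finset_subset _).1 hfg
  refine ⟨t, le_antisymm (Submodule.span_le.2 hsub) ?_⟩
  intro x hx
  have hx' : x ∈ Submodule.span R (t : Set X.carrier) := by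
    rw [← hspan]
    exact Submodule.subset_span hx
  obtain ⟨f, -, rfl⟩ := Submodule.mem_span_finset.mp hx'
  have hdeg : ∀ s ∈ t, s ∈ X.gr n := fun s hs => hN (hsub hs)
  have h1 := Groth.Agent.Lib.Helper29GrStd.decompose_sum_smul 𝒜 X.gr t (fun _ => n) hdeg f n
  have hxn : (∑ s ∈ t, f s • s) ∈ X.gr n := hN hx
  rw [DirectSum.decompose_of_mem_same X.gr hxn] at h1
  rw [h1]
  refine Submodule.sum_mem _ fun s hs => ?_
  have key : ∀ j : ι, j = 0 → ∀ c : ↥(𝒜 j), (c : R) ∈ 𝒜 0 := by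
    rintro j rfl c
    exact c.2
  have h0 : ((decompose 𝒜 (f s)) (n - n) : R) ∈ 𝒜 0 := key (n - n) (sub_self n) _
  have h2 : ((decompose 𝒜 (f s)) (n - n) : R) • s =
      (⟨((decompose 𝒜 (f s)) (n - n) : R), h0⟩ : GrLC.deg0 𝒜) • s := rfl
  rw [h2]
  exact Submodule.smul_mem _ _ (Submodule.subset_span hs)

/-- The pieces of a Noetherian graded module are Noetherian modules over `R_0`. -/
theorem isNoetherian_comp (X : GrLC.GMod.{u} 𝒜) [IsNoetherian R X.carrier] (n : ι) :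
    IsNoetherian (GrLC.deg0 𝒜) ↥(GrLC.comp 𝒜 X.gr n) := by
  rw [isNoetherian_def]
  intro N
  have h1 : (N.map (GrLC.comp 𝒜 X.gr n).subtype).FG := by
    apply fg_of_le_comp X n
    rintro _ ⟨y, _, rfl⟩
    exact y.2
  exact Submodule.fg_of_fg_map_injective _ (Submodule.injective_subtype _) h1

end Pieces

/-! ### Transfer of the Noetherian property of pieces along maps -/

section Transfer

variable {ι : Type} [AddCommGroup ι] [DecidableEq ι]
variable {R : Type u} [CommRing R] {𝒜 : ι → AddSubgroup R} [GradedRing 𝒜]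
variable (a : HomogeneousIdeal 𝒜)

/-- The map induced on a homogeneous piece of graded local cohomology by a chain map. -/
def hcompMap {X Y : GrLC.GMod.{u} 𝒜} {E : GrLC.StarInjRes 𝒜 X.gr} {E' : GrLC.StarInjRes 𝒜 Y.gr}
    {f : X.carrier →ₗ[R] Y.carrier} (φ : ResHom E E' f) (i : ℕ) (k : ι) :
    ↥(E.Hcomp a i k) →ₗ[GrLC.deg0 𝒜] ↥(E'.Hcomp a i k) :=
  ((Hmap φ a i).restrictScalars (GrLC.deg0 𝒜)).restrict
    (fun _ hx => Hmap_mem_Hcomp φ a i k hx)

theorem hcompMap_coe {X Y : GrLC.GMod.{u} 𝒜} {E : GrLC.StarInjRes 𝒜 X.gr}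
    {E' : GrLC.StarInjRes 𝒜 Y.gr} {f : X.carrier →ₗ[R] Y.carrier} (φ : ResHom E E' f) (i : ℕ)
    (k : ι) (x : ↥(E.Hcomp a i k)) :
    ((hcompMap a φ i k x : ↥(E'.Hcomp a i k)) : E'.H a i) = Hmap φ a i (x : E.H a i) := rfl

/-- All pieces of the graded local cohomology of `X` are Noetherian modules over `R_0`. -/
def FinH (X : GrLC.GMod.{u} 𝒜) : Prop :=
  ∀ (E : GrLC.StarInjRes 𝒜 X.gr) (i : ℕ) (k : ι), IsNoetherian (GrLC.deg0 𝒜) ↥(E.Hcomp a i k)

variable {a} {X Y M' M M'' : GrLC.GMod.{u} 𝒜}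

/-- Noetherian pieces pass to homogeneous retracts, whatever the resolutions. -/
theorem noeth_of_retract (f : X.carrier →ₗ[R] Y.carrier) (g : Y.carrier →ₗ[R] X.carrier)
    (hf : GrLC.IsGrHom X.gr Y.gr f) (hg : GrLC.IsGrHom Y.gr X.gr g) (hgf : g ∘ₗ f = LinearMap.id)
    (E : GrLC.StarInjRes 𝒜 X.gr) (E' : GrLC.StarInjRes 𝒜 Y.gr) (i : ℕ) (k : ι)
    (h : IsNoetherian (GrLC.deg0 𝒜) ↥(E'.Hcomp a i k)) :
    IsNoetherian (GrLC.deg0 𝒜) ↥(E.Hcomp a i k) := by
  obtain ⟨φ⟩ := exists_resHom E E' f hf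
  obtain ⟨ψ⟩ := exists_resHom E' E g hg
  apply isNoetherian_of_injective (hcompMap a φ i k)
  intro x y hxy
  apply Subtype.ext
  have h1 : Hmap φ a i (x : E.H a i) = Hmap φ a i (y : E.H a i) := congrArg Subtype.val hxy
  rw [← Hmap_comp_eq_id a hgf φ ψ i x, ← Hmap_comp_eq_id a hgf φ ψ i y, h1]

theorem finH_of_retract (f : X.carrier →ₗ[R] Y.carrier) (g : Y.carrier →ₗ[R] X.carrier)
    (hf : GrLC.IsGrHom X.gr Y.gr f) (hg : GrLC.IsGrHom Y.gr X.gr g) (hgf : g ∘ₗ f = LinearMap.id)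
    (h : FinH a Y) : FinH a X :=
  fun E i k => noeth_of_retract f g hf hg hgf E (someRes Y) i k (h (someRes Y) i k)

/-- Independence of the resolution. -/
theorem noeth_of_res (E E' : GrLC.StarInjRes 𝒜 X.gr) (i : ℕ) (k : ι)
    (h : IsNoetherian (GrLC.deg0 𝒜) ↥(E'.Hcomp a i k)) :
    IsNoetherian (GrLC.deg0 𝒜) ↥(E.Hcomp a i k) :=
  noeth_of_retract LinearMap.id LinearMap.id (fun _ _ h => h) (fun _ _ h => h) rfl E E' i k h

/-- A vanishing piece is Noetherian. -/
theorem noeth_of_van (E : GrLC.StarInjRes 𝒜 X.gr) (i : ℕ) (k : ι) (h : Van a X i k) :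
    IsNoetherian (GrLC.deg0 𝒜) ↥(E.Hcomp a i k) := by
  have h0 : E.Hcomp a i k = ⊥ := h E
  have : Subsingleton ↥(E.Hcomp a i k) := by
    rw [h0]
    infer_instance
  infer_instance

/-- Exactness in the middle: Noetherian pieces for the outer terms give them for the middle term. -/
theorem noeth_mid (S : SES M' M M'') (E' : GrLC.StarInjRes 𝒜 M'.gr) (E : GrLC.StarInjRes 𝒜 M.gr)
    (E'' : GrLC.StarInjRes 𝒜 M''.gr) (i : ℕ) (k : ι)
    (h' : IsNoetherian (GrLC.deg0 𝒜) ↥(E'.Hcomp a i k))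
    (h'' : IsNoetherian (GrLC.deg0 𝒜) ↥(E''.Hcomp a i k)) :
    IsNoetherian (GrLC.deg0 𝒜) ↥(E.Hcomp a i k) := by
  obtain ⟨φ⟩ := exists_resHom E' E S.f S.f_gr
  obtain ⟨ψ⟩ := exists_resHom E E'' S.g S.g_gr
  refine isNoetherian_of_range_eq_ker (hcompMap a φ i k) (hcompMap a ψ i k) ?_
  apply le_antisymm
  · rintro _ ⟨x, rfl⟩
    rw [LinearMap.mem_ker]
    apply Subtype.ext
    exact Hmap_comp_zero a S φ ψ i (x : E'.H a i)
  · intro y hy
    rw [LinearMap.mem_ker] at hy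
    have h0 : Hmap ψ a i (y : E.H a i) = 0 := congrArg Subtype.val hy
    obtain ⟨x, hx, hxy⟩ := exact_mid a S φ ψ i k (y : E.H a i) y.2 h0
    exact ⟨⟨x, hx⟩, Subtype.ext hxy⟩

theorem finH_mid (S : SES M' M M'') (h' : FinH a M') (h'' : FinH a M'') : FinH a M :=
  fun E i k => noeth_mid S (someRes M') E (someRes M'') i k (h' _ i k) (h'' _ i k)

theorem finH_shiftG (d : ι) (h : FinH a X) : FinH a (shiftG X d) := by
  intro E i k
  apply noeth_of_res E (shiftRes (someRes X) d) i k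
  exact h (someRes X) i (k + d)

theorem finH_of_subsingleton [Subsingleton X.carrier] : FinH a X :=
  fun E i k => noeth_of_van E i k (van_of_subsingleton a X i k)

end Transfer

/-! ### The connecting homomorphism on the horseshoe resolution -/

section Connecting

variable {ι : Type} [AddCommGroup ι] [DecidableEq ι]
variable {R : Type u} [CommRing R] {𝒜 : ι → AddSubgroup R} [GradedRing 𝒜]
variable (a : HomogeneousIdeal 𝒜)
variable {M' M M'' : GrLC.GMod.{u} 𝒜}
variable {S : SES M' M M''} {E' : GrLC.StarInjRes 𝒜 M'.gr} {E'' : GrLC.StarInjRes 𝒜 M''.gr}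
  (D : HData S E' E'')

theorem tau_mem_cocyc (i : ℕ) (z : (E''.X i).carrier) (hz : z ∈ E''.cocyc a i) :
    D.τ i z ∈ E'.cocyc a (i + 1) := by
  refine ⟨map_mem_gam a.toIdeal (D.τ i) hz.1, ?_⟩
  have hd : E''.d i z = 0 := hz.2
  show E'.d (i + 1) (D.τ i z) = 0
  rw [d_τ, hd, map_zero, neg_zero]

/-- The twisting map on cocycles. -/
def tauC (i : ℕ) : ↥(E''.cocyc a i) →ₗ[R] ↥(E'.cocyc a (i + 1)) :=
  (D.τ i).restrict (fun z hz => tau_mem_cocyc a D i z hz)

theorem tauC_coe (i : ℕ) (z : ↥(E''.cocyc a i)) :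
    ((tauC a D i z : ↥(E'.cocyc a (i + 1))) : (E'.X (i + 1)).carrier) =
      D.τ i (z : (E''.X i).carrier) := rfl

theorem tau_cobdy (i : ℕ) (z : (E''.X i).carrier) (hz : z ∈ E''.cobdy a i) :
    D.τ i z ∈ E'.cobdy a (i + 1) := by
  show D.τ i z ∈ (GrLC.gam a.toIdeal (E'.X i).carrier).map (E'.d i)
  cases i with
  | zero =>
    have h0 : z = 0 := (Submodule.mem_bot R).mp hz
    rw [h0, map_zero]
    exact zero_mem _
  | succ n =>
    obtain ⟨u, hu, rfl⟩ := hz
    refine ⟨-D.τ n u, neg_mem (map_mem_gam a.toIdeal (D.τ n) hu), ?_⟩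
    rw [map_neg, D.τ_succ]

/-- The connecting homomorphism `H^i(M'') → H^{i+1}(M')` computed on the horseshoe resolution. -/
def delta (i : ℕ) : E''.H a i →ₗ[R] E'.H a (i + 1) :=
  Submodule.liftQ _ (E'.toH a (i + 1) ∘ₗ tauC a D i) (by
    intro z hz
    rw [LinearMap.mem_ker, LinearMap.comp_apply, toH_eq_zero_iff]
    exact tau_cobdy a D i _ hz)

theorem delta_toH (i : ℕ) (z : ↥(E''.cocyc a i)) :
    delta a D i (E''.toH a i z) = E'.toH a (i + 1) (tauC a D i z) := rfl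

theorem delta_mem_Hcomp (i : ℕ) (k : ι) {w : E''.H a i} (hw : w ∈ E''.Hcomp a i k) :
    delta a D i w ∈ E'.Hcomp a (i + 1) k := by
  obtain ⟨z, hzk, rfl⟩ := hw
  exact ⟨tauC a D i z, D.τ_gr i k _ hzk, rfl⟩

/-- Exactness at `H^{i+1}(M')`, in each degree. -/
theorem exists_delta_eq (i : ℕ) (k : ι) (x : E'.H a (i + 1)) (hx : x ∈ E'.Hcomp a (i + 1) k)
    (h0 : Hmap (inlHom D) a (i + 1) x = 0) : ∃ w ∈ E''.Hcomp a i k, delta a D i w = x := by
  obtain ⟨z, hzk, rfl⟩ := hx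
  obtain ⟨z', hzΓ, hzd⟩ := z
  have hzk' : z' ∈ (E'.X (i + 1)).gr k := hzk
  rw [Hmap_toH, toH_eq_zero_iff] at h0
  have hk : ((z', 0) : (E'.X (i + 1)).carrier × (E''.X (i + 1)).carrier) ∈
      ((horseshoe D).X (i + 1)).gr k := ⟨hzk', zero_mem _⟩
  obtain ⟨⟨u', u''⟩, huΓ, huk, hud⟩ := exists_homog_cobdy a (horseshoe D) i k hk h0
  have hΓ := (mem_gam_prod (E'.X i) (E''.X i) a.toIdeal (u', u'')).1 huΓ
  have e1 : E'.d i u' + D.τ i u'' = z' := congrArg Prod.fst hud
  have e2 : E''.d i u'' = 0 := congrArg Prod.snd hud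
  have hu''k : u'' ∈ (E''.X i).gr k := huk.2
  refine ⟨E''.toH a i ⟨u'', hΓ.2, e2⟩, ⟨⟨u'', hΓ.2, e2⟩, hu''k, rfl⟩, ?_⟩
  rw [delta_toH, ← sub_eq_zero, ← map_sub, toH_eq_zero_iff]
  show D.τ i u'' - z' ∈ (GrLC.gam a.toIdeal (E'.X i).carrier).map (E'.d i)
  refine ⟨-u', neg_mem hΓ.1, ?_⟩
  rw [map_neg, ← e1]
  abel

/-- The connecting homomorphism on a homogeneous piece. -/
def deltaK (i : ℕ) (k : ι) : ↥(E''.Hcomp a i k) →ₗ[GrLC.deg0 𝒜] ↥(E'.Hcomp a (i + 1) k) :=
  ((delta a D i).restrictScalars (GrLC.deg0 𝒜)).restrict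
    (fun _ hw => delta_mem_Hcomp a D i k hw)

theorem deltaK_coe (i : ℕ) (k : ι) (w : ↥(E''.Hcomp a i k)) :
    ((deltaK a D i k w : ↥(E'.Hcomp a (i + 1) k)) : E'.H a (i + 1)) =
      delta a D i (w : E''.H a i) := rfl

/-- A module squeezed between two Noetherian modules is Noetherian. -/
theorem noeth_of_ker_le_range {A : Type*} [Ring A] {P Q T : Type*} [AddCommGroup P] [AddCommGroup Q]
    [AddCommGroup T] [Module A P] [Module A Q] [Module A T] [IsNoetherian A P] [IsNoetherian A T]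
    (f : P →ₗ[A] Q) (g : Q →ₗ[A] T) (h : LinearMap.ker g ≤ LinearMap.range f) :
    IsNoetherian A Q := by
  have h1 : IsNoetherian A ↥(LinearMap.range f) :=
    isNoetherian_of_surjective f.rangeRestrict (LinearMap.range_rangeRestrict f)
  have h2 : IsNoetherian A ↥(LinearMap.ker g) := isNoetherian_of_le h
  exact isNoetherian_of_range_eq_ker (LinearMap.ker g).subtype g (Submodule.range_subtype _)

theorem noeth_left_h (i : ℕ) (k : ι)
    (h'' : IsNoetherian (GrLC.deg0 𝒜) ↥(E''.Hcomp a i k))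
    (h : IsNoetherian (GrLC.deg0 𝒜) ↥((horseshoe D).Hcomp a (i + 1) k)) :
    IsNoetherian (GrLC.deg0 𝒜) ↥(E'.Hcomp a (i + 1) k) := by
  refine noeth_of_ker_le_range (deltaK a D i k) (hcompMap a (inlHom D) (i + 1) k) ?_
  intro x hx
  rw [LinearMap.mem_ker] at hx
  have h0 : Hmap (inlHom D) a (i + 1) (x : E'.H a (i + 1)) = 0 := congrArg Subtype.val hx
  obtain ⟨w, hw, hwx⟩ := exists_delta_eq a D i k (x : E'.H a (i + 1)) x.2 h0
  exact ⟨⟨w, hw⟩, Subtype.ext hwx⟩

end Connecting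

section Left

variable {ι : Type} [AddCommGroup ι] [DecidableEq ι]
variable {R : Type u} [CommRing R] {𝒜 : ι → AddSubgroup R} [GradedRing 𝒜]
variable {a : HomogeneousIdeal 𝒜}
variable {M' M M'' : GrLC.GMod.{u} 𝒜}

/-- Noetherian pieces for `H^i(M'')_k` and `H^{i+1}(M)_k` give them for `H^{i+1}(M')_k`. -/
theorem noeth_left (S : SES M' M M'') (E' : GrLC.StarInjRes 𝒜 M'.gr) (E : GrLC.StarInjRes 𝒜 M.gr)
    (E'' : GrLC.StarInjRes 𝒜 M''.gr) (i : ℕ) (k : ι)
    (h'' : IsNoetherian (GrLC.deg0 𝒜) ↥(E''.Hcomp a i k))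
    (h : IsNoetherian (GrLC.deg0 𝒜) ↥(E.Hcomp a (i + 1) k)) :
    IsNoetherian (GrLC.deg0 𝒜) ↥(E'.Hcomp a (i + 1) k) := by
  obtain ⟨D⟩ := exists_hData S E' E''
  exact noeth_left_h a D i k h'' (noeth_of_res (horseshoe D) E (i + 1) k h)

/-- Noetherian pieces for `H^0(M)_k` give them for `H^0(M')_k`. -/
theorem noeth_left_zero (S : SES M' M M'') (E' : GrLC.StarInjRes 𝒜 M'.gr)
    (E : GrLC.StarInjRes 𝒜 M.gr) (k : ι)
    (h : IsNoetherian (GrLC.deg0 𝒜) ↥(E.Hcomp a 0 k)) :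
    IsNoetherian (GrLC.deg0 𝒜) ↥(E'.Hcomp a 0 k) := by
  obtain ⟨φ⟩ := exists_resHom E' E S.f S.f_gr
  obtain ⟨ψ⟩ := exists_resHom E (someRes M'') S.g S.g_gr
  apply isNoetherian_of_injective (hcompMap a φ 0 k)
  rw [← LinearMap.ker_eq_bot, LinearMap.ker_eq_bot']
  intro x hx
  apply Subtype.ext
  have h1 : Hmap φ a 0 (x : E'.H a 0) = 0 := congrArg Subtype.val hx
  exact inj_zero a S φ ψ (x : E'.H a 0) h1

end Left

/-! ### The zeroth local cohomology -/

section Zero

variable {ι : Type} [AddCommGroup ι] [DecidableEq ι]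
variable {R : Type u} [CommRing R] {𝒜 : ι → AddSubgroup R} [GradedRing 𝒜]
variable (a : HomogeneousIdeal 𝒜) {X : GrLC.GMod.{u} 𝒜} (E : GrLC.StarInjRes 𝒜 X.gr)

/-- The `a`-torsion of `X` as a graded module. -/
def gamG (X : GrLC.GMod.{u} 𝒜) : GrLC.GMod.{u} 𝒜 :=
  subG X (GrLC.gam a.toIdeal X.carrier) (gam_isHomogeneous 𝒜 X.gr a)

/-- The map from the torsion of `X` to `H^0`. -/
def gamToH : (gamG a X).carrier →ₗ[R] E.H a 0 :=
  E.toH a 0 ∘ₗ (E.ε.restrict (p := GrLC.gam a.toIdeal X.carrier) (q := E.cocyc a 0)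
    (fun m hm => ⟨map_mem_gam a.toIdeal E.ε hm, d_ε E m⟩))

theorem gamToH_mem (k : ι) (m : (gamG a X).carrier) (hm : m ∈ (gamG a X).gr k) :
    gamToH a E m ∈ E.Hcomp a 0 k :=
  ⟨_, E.ε_grHom k _ hm, rfl⟩

/-- The pieces of `H^0_a(X)` are Noetherian over `R_0` when `X` is Noetherian. -/
theorem noeth_zero [IsNoetherian R X.carrier] (k : ι) :
    IsNoetherian (GrLC.deg0 𝒜) ↥(E.Hcomp a 0 k) := by
  have hN : IsNoetherian R (gamG a X).carrier :=
    inferInstanceAs (IsNoetherian R ↥(GrLC.gam a.toIdeal X.carrier))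
  have h1 : IsNoetherian (GrLC.deg0 𝒜) ↥(GrLC.comp 𝒜 (gamG a X).gr k) :=
    isNoetherian_comp (gamG a X) k
  refine isNoetherian_of_surjective
    (((gamToH a E).restrictScalars (GrLC.deg0 𝒜)).restrict
      (p := GrLC.comp 𝒜 (gamG a X).gr k) (q := E.Hcomp a 0 k)
      (fun m hm => gamToH_mem a E k m hm)) ?_
  rw [LinearMap.range_eq_top]
  rintro ⟨_, ⟨⟨z, hzΓ, hzd⟩, hzk, rfl⟩⟩
  obtain ⟨m, rfl⟩ := exists_of_d_zero_eq_zero E hzd
  have hmk : m ∈ X.gr k := mem_gr_of_map_mem E.ε E.ε_grHom E.ε_injective hzk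
  have hmΓ : m ∈ GrLC.gam a.toIdeal X.carrier := by
    obtain ⟨n, hn⟩ := hzΓ
    refine ⟨n, fun r hr => ?_⟩
    apply E.ε_injective
    rw [map_smul, hn r hr, map_zero]
  exact ⟨⟨⟨m, hmΓ⟩, hmk⟩, rfl⟩

end Zero

/-! ### The main induction -/

section Main

variable {R : Type u} [CommRing R] [IsNoetherianRing R] {𝒜 : ℤ → AddSubgroup R} [GradedRing 𝒜]
variable {a : HomogeneousIdeal 𝒜}

theorem finH_of_torsion (X : GrLC.GMod.{u} 𝒜) [IsNoetherian R X.carrier]
    (htors : GrLC.gam a.toIdeal X.carrier = ⊤) : FinH a X := by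
  intro E i k
  cases i with
  | zero => exact noeth_zero a E k
  | succ i => exact noeth_of_van E (i + 1) k (van_succ_of_torsion htors i k)

theorem finH_QG (X : GrLC.GMod.{u} 𝒜) {y : R} {δ : ℤ} (hy : y ∈ 𝒜 δ)
    (h : FinH a (quotG X (kerY X y δ) (kerY_isHomogeneous X hy))) : FinH a (QG X hy) :=
  finH_of_retract (idTo X hy) (idFrom X hy) (idTo_grHom X hy) (idFrom_grHom X hy) rfl
    (finH_shiftG (-δ) h)

/-- Descending induction on the degree. -/
theorem descend (Pk : ℤ → Prop) (r δ : ℤ) (hδ : 0 < δ) (hbig : ∀ k, r ≤ k → Pk k)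
    (hstep : ∀ k, Pk k → Pk (k + -δ)) : ∀ k, Pk k := by
  have key : ∀ n : ℕ, ∀ k : ℤ, r - k ≤ n → Pk k := by
    intro n
    induction n with
    | zero =>
      intro k hk
      exact hbig k (by omega)
    | succ n ih =>
      intro k hk
      have h1 : Pk (k + δ) := ih (k + δ) (by push_cast at hk; omega)
      have h2 := hstep (k + δ) h1
      have e : k + δ + -δ = k := by omega
      rw [e] at h2
      exact h2
  intro k
  exact key (r - k).toNat k (Int.self_le_toNat _)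

/-- The regular case: `y` a non-zerodivisor on `X`, `X/yX` has finite pieces. -/
theorem finH_of_reg (ha : a.toIdeal = Ideal.span (⋃ n ∈ Set.Ioi (0 : ℤ), (𝒜 n : Set R)))
    (X N : GrLC.GMod.{u} 𝒜) [IsNoetherian R X.carrier] {y : R} {δ : ℤ} (hy : y ∈ 𝒜 δ) (hδ : 0 < δ)
    (π : X.carrier →ₗ[R] N.carrier) (hπ : Function.Surjective π)
    (hπg : GrLC.IsGrHom X.gr N.gr π) (hker : ∀ m, π m = 0 ↔ ∃ m', y • m' = m)
    (hreg : ∀ m : X.carrier, y • m = 0 → m = 0) (hN : FinH a N) : FinH a X := by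
  have hfin : Module.Finite R X.carrier := Module.IsNoetherian.finite R X.carrier
  obtain ⟨r, hr⟩ := bdd_of_finite ha X
  intro E i k
  cases i with
  | zero => exact noeth_zero a E k
  | succ i =>
    refine descend (fun k => IsNoetherian (GrLC.deg0 𝒜) ↥(E.Hcomp a (i + 1) k)) r δ hδ ?_ ?_ k
    · intro k hk
      exact noeth_of_van E (i + 1) k (hr (i + 1) k hk)
    · intro k hk
      exact noeth_left (sesReg hy π hπ hπg hker hreg) (shiftRes E (-δ)) E (someRes N) i k
        (hN _ i k) hk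

/-- The inductive step. -/
theorem finH_step (ha : a.toIdeal = Ideal.span (⋃ n ∈ Set.Ioi (0 : ℤ), (𝒜 n : Set R)))
    (X : GrLC.GMod.{u} 𝒜) (hN : IsNoetherian R X.carrier)
    (ih : ∀ (P : Submodule R X.carrier) (hP : P.IsHomogeneous X.gr), P ≠ ⊥ →
      FinH a (quotG X P hP)) : FinH a X := by
  classical
  by_cases hΓ : GrLC.gam a.toIdeal X.carrier = ⊥
  · obtain ⟨t, deg, ht, hspan⟩ := exists_gens a ha
    by_cases hall : ∀ y ∈ t, ∀ m : X.carrier, y • m = 0
    · have h0 : ∀ m : X.carrier, m = 0 := by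
        intro m
        have hm : m ∈ GrLC.gam a.toIdeal X.carrier := by
          refine ⟨1, fun r hr => ?_⟩
          rw [pow_one, hspan] at hr
          refine Submodule.span_induction (p := fun r _ => r • m = 0) ?_ ?_ ?_ ?_ hr
          · intro y hy
            exact hall y hy m
          · exact zero_smul R m
          · intro r r' _ _ h h'
            rw [add_smul, h, h', add_zero]
          · intro c r _ h
            rw [smul_eq_mul, mul_smul, h, smul_zero]
        rw [hΓ] at hm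
        exact (Submodule.mem_bot R).1 hm
      have hsub : Subsingleton X.carrier := ⟨fun m m' => by rw [h0 m, h0 m']⟩
      exact finH_of_subsingleton
    · push Not at hall
      obtain ⟨y, hyt, m0, hm0⟩ := hall
      have hy : y ∈ 𝒜 (deg y) := (ht y hyt).1
      have hδ : 0 < deg y := (ht y hyt).2
      have hP : (LinearMap.range (mulMap X y (deg y))).IsHomogeneous X.gr :=
        range_isHomogeneous X.gr (shiftG X (-(deg y))).gr (mulMap X y (deg y)) (mulMap_grHom hy)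
      have hPne : LinearMap.range (mulMap X y (deg y)) ≠ ⊥ := by
        intro h
        apply hm0
        have h1 : y • m0 ∈ LinearMap.range (mulMap X y (deg y)) := ⟨m0, rfl⟩
        rw [h] at h1
        exact (Submodule.mem_bot R).1 h1
      have hNb : FinH a (quotG X _ hP) := ih _ hP hPne
      have hker : ∀ m : X.carrier, (LinearMap.range (mulMap X y (deg y))).mkQ m = 0 ↔
          ∃ m', y • m' = m := by
        intro m
        rw [Submodule.mkQ_apply, Submodule.Quotient.mk_eq_zero]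
        exact Iff.rfl
      by_cases hK : kerY X y (deg y) = ⊥
      · refine finH_of_reg ha X (quotG X _ hP) hy hδ _ (Submodule.mkQ_surjective _)
          (quotG_mk_grHom X _ hP) hker ?_ hNb
        intro m hm
        have h1 : m ∈ kerY X y (deg y) := hm
        rw [hK] at h1
        exact (Submodule.mem_bot R).1 h1
      · have hQ : FinH a (quotG X (kerY X y (deg y)) (kerY_isHomogeneous X hy)) :=
          ih _ (kerY_isHomogeneous X hy) hK
        exact finH_mid (ses2 hy _ (Submodule.mkQ_surjective _) (quotG_mk_grHom X _ hP) hker)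
          (finH_QG X hy hQ) hNb
  · have hΓh : (GrLC.gam a.toIdeal X.carrier).IsHomogeneous X.gr := gam_isHomogeneous 𝒜 X.gr a
    refine finH_mid (sesSub X _ hΓh) ?_ (ih _ hΓh hΓ)
    have : IsNoetherian R (subG X _ hΓh).carrier :=
      inferInstanceAs (IsNoetherian R ↥(GrLC.gam a.toIdeal X.carrier))
    apply finH_of_torsion
    rw [eq_top_iff]
    rintro ⟨m, hm⟩ _
    obtain ⟨n, hn⟩ := hm
    exact ⟨n, fun r hr => Subtype.ext (hn r hr)⟩

/-- **Finiteness of the pieces**: for a finitely generated graded module over a Noetherian graded ring, every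
piece of the graded local cohomology with support in the irrelevant ideal is Noetherian over `R_0`. -/
theorem finH_of_finite (ha : a.toIdeal = Ideal.span (⋃ n ∈ Set.Ioi (0 : ℤ), (𝒜 n : Set R)))
    (X : GrLC.GMod.{u} 𝒜) [Module.Finite R X.carrier] : FinH a X := by
  have : IsNoetherian R X.carrier := isNoetherian_of_isNoetherianRing_of_finite R X.carrier
  refine gmod_induction (FinH a) ?_ (fun Y hY ih => finH_step ha Y hY ih) X
  intro Y Z f g hf hg hgf hfg h
  exact finH_of_retract g f hg hf hfg h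

end Main

end Groth.Agent.R2.H72.GrFinH
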