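import Groth.Agent.R2.H72GrAInv
import Groth.Agent.R2.H72GrFinH

/-!
# Monotonicity of the Hilbert function of a standard graded ring of positive depth (helper72)

* Part A (Mathlib only): the "generic linear form" `∑ x_i T^i ∈ R[T]`; if it is a non-zerodivisor then
  `dim_k V ≤ dim_k W` for `k`-subspaces `V, W ⊆ R` with `x_i V ⊆ W` (truncated-degree injections
  `V^N → W^{N+r}` and counting). No extension of the ground field is needed.
* Part B: for a positively graded ring `R` with `R_0` a field, `R_+` is the *maximal ideal; if `H^0_{R_+}(R) = 0`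
  then `∑ x_i T^i` is a non-zerodivisor (McCoy) for generators `x_i ∈ R_1` of `R_+`.
* `finrank_comp_le_succ`: for `R` Cohen–Macaulay standard graded over a field with `dim R ≥ 1`,
  `dim R_n ≤ dim R_{n+1}`.
-/

set_option autoImplicit false
set_option linter.unusedSectionVars false
open DirectSum Polynomial

noncomputable section

namespace Groth.Agent.R2.H72.GrMono

universe u

/-! ### Part A -/

section PartA

/-- counting lemma -/
theorem le_of_forall_mul_le (p q r : ℕ) (h : ∀ N : ℕ, N * p ≤ (N + r) * q) : p ≤ q := by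
  by_contra hlt
  push Not at hlt
  have h1 := h (r * q + 1)
  have h2 : (r * q + 1) * (q + 1) ≤ (r * q + 1) * p := Nat.mul_le_mul_left _ hlt
  nlinarith

variable {R : Type u} [CommRing R]

/-- The coefficients of the product of `∑ x_i T^i` and `∑ c_j T^j`. -/
def coefFn {r N : ℕ} (x : Fin r → R) (c : Fin N → R) (s : ℕ) : R :=
  ∑ i : Fin r, ∑ j : Fin N, if (i : ℕ) + (j : ℕ) = s then x i * c j else 0

/-- The polynomial `∑ x_i T^i`. -/
def genPoly {r : ℕ} (x : Fin r → R) : R[X] := ∑ i : Fin r, monomial (i : ℕ) (x i)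

theorem coeff_genPoly_mul {r N : ℕ} (x : Fin r → R) (c : Fin N → R) (s : ℕ) :
    (genPoly x * genPoly c).coeff s = coefFn x c s := by
  unfold genPoly coefFn
  rw [Finset.sum_mul_sum]
  simp only [monomial_mul_monomial, finsetSum_coeff, coeff_monomial]

theorem coeff_genPoly {N : ℕ} (c : Fin N → R) (j : Fin N) : (genPoly c).coeff (j : ℕ) = c j := by
  unfold genPoly
  simp only [finsetSum_coeff, coeff_monomial]
  rw [Finset.sum_eq_single j]
  · simp
  · intro b _ hb
    rw [if_neg]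
    intro h
    exact hb (Fin.ext h)
  · intro h
    exact absurd (Finset.mem_univ j) h

theorem coefFn_eq_zero_of_le {r N : ℕ} (x : Fin r → R) (c : Fin N → R) (s : ℕ) (hs : N + r ≤ s) :
    coefFn x c s = 0 := by
  unfold coefFn
  apply Finset.sum_eq_zero
  intro i _
  apply Finset.sum_eq_zero
  intro j _
  rw [if_neg]
  have := i.2
  have := j.2
  omega

theorem eq_zero_of_coefFn_eq_zero {r N : ℕ} (x : Fin r → R) (hx : genPoly x ∈ nonZeroDivisors R[X])
    (c : Fin N → R) (h : ∀ s : Fin (N + r), coefFn x c (s : ℕ) = 0) : c = 0 := by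
  have h0 : genPoly x * genPoly c = 0 := by
    ext s
    rw [coeff_genPoly_mul, coeff_zero]
    by_cases hs : s < N + r
    · exact h ⟨s, hs⟩
    · exact coefFn_eq_zero_of_le x c s (by omega)
  have h1 : genPoly c = 0 := by
    rw [mul_comm] at h0
    exact (mem_nonZeroDivisors_iff_right.1 hx) _ h0
  funext j
  rw [← coeff_genPoly c j, h1]
  simp

theorem coefFn_add {r N : ℕ} (x : Fin r → R) (c c' : Fin N → R) (s : ℕ) :
    coefFn x (c + c') s = coefFn x c s + coefFn x c' s := by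
  unfold coefFn
  rw [← Finset.sum_add_distrib]
  apply Finset.sum_congr rfl
  intro i _
  rw [← Finset.sum_add_distrib]
  apply Finset.sum_congr rfl
  intro j _
  split_ifs
  · rw [Pi.add_apply, mul_add]
  · rw [add_zero]

theorem coefFn_smul {r N : ℕ} (x : Fin r → R) (a : R) (c : Fin N → R) (s : ℕ) :
    coefFn x (fun j => a * c j) s = a * coefFn x c s := by
  unfold coefFn
  rw [Finset.mul_sum]
  apply Finset.sum_congr rfl
  intro i _
  rw [Finset.mul_sum]
  apply Finset.sum_congr rfl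
  intro j _
  split_ifs
  · ring
  · rw [mul_zero]

variable (k : Subring R) (V W : Submodule k R)

theorem coefFn_mem {r N : ℕ} (x : Fin r → R) (hxVW : ∀ i, ∀ v ∈ V, x i * v ∈ W)
    (c : Fin N → V) (s : ℕ) : coefFn x (fun j => (c j : R)) s ∈ W := by
  unfold coefFn
  apply Submodule.sum_mem
  intro i _
  apply Submodule.sum_mem
  intro j _
  split_ifs
  · exact hxVW i _ (c j).2
  · exact W.zero_mem

/-- The truncated multiplication map. -/
def truncMap {r : ℕ} (x : Fin r → R) (hxVW : ∀ i, ∀ v ∈ V, x i * v ∈ W) (N : ℕ) :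
    (Fin N → V) →ₗ[k] (Fin (N + r) → W) where
  toFun c s := ⟨coefFn x (fun j => (c j : R)) (s : ℕ), coefFn_mem k V W x hxVW c s⟩
  map_add' c c' := by
    funext s
    apply Subtype.ext
    exact coefFn_add x (fun j => (c j : R)) (fun j => (c' j : R)) s
  map_smul' a c := by
    funext s
    apply Subtype.ext
    exact coefFn_smul x (a : R) (fun j => (c j : R)) s

theorem truncMap_injective {r : ℕ} (x : Fin r → R) (hx : genPoly x ∈ nonZeroDivisors R[X])
    (hxVW : ∀ i, ∀ v ∈ V, x i * v ∈ W) (N : ℕ) :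
    Function.Injective (truncMap k V W x hxVW N) := by
  rw [injective_iff_map_eq_zero]
  intro c hc
  have h : ∀ s : Fin (N + r), coefFn x (fun j => (c j : R)) (s : ℕ) = 0 := by
    intro s
    have := congrFun hc s
    exact congrArg Subtype.val this
  have h2 := eq_zero_of_coefFn_eq_zero x hx _ h
  funext j
  apply Subtype.ext
  exact congrFun h2 j

theorem finrank_le_of_genPoly [Nontrivial k] [Module.Free k V] [Module.Finite k V]
    [Module.Free k W] [Module.Finite k W] {r : ℕ} (x : Fin r → R)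
    (hx : genPoly x ∈ nonZeroDivisors R[X]) (hxVW : ∀ i, ∀ v ∈ V, x i * v ∈ W) :
    Module.finrank k V ≤ Module.finrank k W := by
  apply le_of_forall_mul_le _ _ r
  intro N
  have h := LinearMap.finrank_le_finrank_of_injective (truncMap_injective k V W x hx hxVW N)
  rw [Module.finrank_pi_fintype, Module.finrank_pi_fintype] at h
  simpa using h

end PartA

/-! ### Part B -/

open Groth.Agent.R2.H72.GrLCBasic Groth.Agent.R2.H72.GrMod Groth.Agent.R2.H72.GrLCLES
  Groth.Agent.R2.H72.GrBddLocal Groth.Agent.R2.H72.GrFinH Groth.Agent.R2.H72.GrAInv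
  Groth.Agent.R2.H72.GrDim

section PartB

variable {R : Type u} [CommRing R] {𝒜 : ℤ → AddSubgroup R} [GradedRing 𝒜]

/-- Membership in the irrelevant ideal of a positively graded ring: the component of degree zero vanishes. -/
theorem mem_irrH_iff (hpos : ∀ n : ℤ, n < 0 → 𝒜 n = ⊥) (x : R) :
    x ∈ (irrH 𝒜).toIdeal ↔ ((decompose 𝒜 x) 0 : R) = 0 := by
  classical
  constructor
  · intro hx
    exact decompose_irrH_eq_zero hpos x hx 0 le_rfl
  · intro h0
    rw [← DirectSum.sum_support_decompose 𝒜 x]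
    apply Ideal.sum_mem
    intro i _
    rcases lt_trichotomy i 0 with h | h | h
    · have hz : ((decompose 𝒜 x) i : R) = 0 :=
        Groth.Agent.Lib.Helper29GrStd.eq_zero_of_mem_of_eq_bot (hpos i h) ((decompose 𝒜 x) i).2
      rw [hz]
      exact zero_mem _
    · rw [h, h0]
      exact zero_mem _
    · rw [irrH_toIdeal]
      apply Ideal.subset_span
      exact Set.mem_iUnion₂.2 ⟨i, h, ((decompose 𝒜 x) i).2⟩

/-- A homogeneous ideal not contained in the irrelevant ideal is the unit ideal, when `R_0` is a field. -/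
theorem eq_top_of_not_le_irrH (hpos : ∀ n : ℤ, n < 0 → 𝒜 n = ⊥) (h0 : IsField (GrLC.deg0 𝒜))
    (J : HomogeneousIdeal 𝒜) (hJ : ¬ J.toIdeal ≤ (irrH 𝒜).toIdeal) : J = ⊤ := by
  classical
  obtain ⟨x, hxJ, hx⟩ := Set.not_subset.1 hJ
  have hx0 : ((decompose 𝒜 x) 0 : R) ≠ 0 := fun h => hx ((mem_irrH_iff hpos x).2 h)
  have hx0J : ((decompose 𝒜 x) 0 : R) ∈ J.toIdeal := J.isHomogeneous 0 hxJ
  let y : GrLC.deg0 𝒜 := ⟨((decompose 𝒜 x) 0 : R), ((decompose 𝒜 x) 0).2⟩
  have hy : y ≠ 0 := by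
    intro h
    apply hx0
    exact congrArg Subtype.val h
  obtain ⟨z, hz⟩ := h0.mul_inv_cancel hy
  have hz' : ((decompose 𝒜 x) 0 : R) * (z : R) = 1 := congrArg Subtype.val hz
  apply HomogeneousIdeal.toIdeal_injective
  rw [HomogeneousIdeal.toIdeal_top, Ideal.eq_top_iff_one, ← hz']
  exact Ideal.mul_mem_right _ _ hx0J

theorem irrH_ne_top (hpos : ∀ n : ℤ, n < 0 → 𝒜 n = ⊥) [Nontrivial R] : irrH 𝒜 ≠ ⊤ := by
  classical
  intro h
  have h1 : (1 : R) ∈ (irrH 𝒜).toIdeal := by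
    rw [h, HomogeneousIdeal.toIdeal_top]
    exact Submodule.mem_top
  rw [mem_irrH_iff hpos] at h1
  have h2 : ((decompose 𝒜 (1 : R)) 0 : R) = 1 :=
    DirectSum.decompose_of_mem_same 𝒜 (SetLike.GradedOne.one_mem)
  rw [h2] at h1
  exact one_ne_zero h1

/-- `R_+` is the *maximal ideal of a positively graded ring with `R_0` a field. -/
theorem isStarLocal_irrH (hpos : ∀ n : ℤ, n < 0 → 𝒜 n = ⊥) (h0 : IsField (GrLC.deg0 𝒜))
    [Nontrivial R] : GrLC.IsStarLocal 𝒜 (irrH 𝒜) := by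
  classical
  have hco : IsCoatom (irrH 𝒜) := by
    refine ⟨irrH_ne_top hpos, ?_⟩
    intro J hlt
    apply eq_top_of_not_le_irrH hpos h0 J
    intro hle
    have hle' : J ≤ irrH 𝒜 := hle
    exact absurd (le_antisymm hle' hlt.le) hlt.ne'
  refine ⟨hco, ?_⟩
  intro n hn
  have hle : n.toIdeal ≤ (irrH 𝒜).toIdeal := by
    by_contra h
    exact hn.1 (eq_top_of_not_le_irrH hpos h0 n h)
  by_contra hne
  have hlt : n < irrH 𝒜 := lt_of_le_of_ne hle hne
  exact irrH_ne_top hpos (hn.2 _ hlt)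

/-- If `H^0_a(X) = 0` then `Γ_a(X) = 0`. -/
theorem gam_eq_bot_of_van (a : HomogeneousIdeal 𝒜) (X : GrLC.GMod.{u} 𝒜)
    (h : ∀ e : ℤ, Van a X 0 e) : GrLC.gam a.toIdeal X.carrier = ⊥ := by
  classical
  rw [eq_bot_iff]
  intro z hz
  rw [Submodule.mem_bot]
  apply eq_zero_of_cmp_eq_zero
  intro e
  have hze : cmp X e z ∈ GrLC.gam a.toIdeal X.carrier := cmp_mem_gam a e hz
  let E := someRes X
  let w : (gamG a X).carrier := ⟨cmp X e z, hze⟩
  have hw : w ∈ (gamG a X).gr e := cmp_mem X e z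
  have h1 : gamToH a E w ∈ E.Hcomp a 0 e := gamToH_mem a E e w hw
  rw [h e E, Submodule.mem_bot] at h1
  have h2 : (E.ε (cmp X e z) : (E.X 0).carrier) ∈ E.cobdy a 0 :=
    (toH_eq_zero_iff (E := E) a 0 _).1 h1
  have h3 : E.ε (cmp X e z) = 0 := (Submodule.mem_bot R).mp h2
  apply E.ε_injective
  rw [h3, map_zero]

end PartB

/-! ### The main theorem -/

section Main

variable {R : Type u} [CommRing R] {𝒜 : ℤ → AddSubgroup R} [GradedRing 𝒜]

/-- McCoy: the generic linear form is a non-zerodivisor when `Γ_a(R) = 0` and the `x_i` generate `a`. -/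
theorem genPoly_mem_nonZeroDivisors (a : HomogeneousIdeal 𝒜) (hgam : GrLC.gam a.toIdeal R = ⊥)
    {r : ℕ} (x : Fin r → R) (hspan : a.toIdeal ≤ Ideal.span (Set.range x)) :
    genPoly x ∈ nonZeroDivisors R[X] := by
  rw [Polynomial.mem_nonZeroDivisors_iff]
  intro c hc
  have h1 : ∀ i, c * x i = 0 := by
    intro i
    have h := congrArg (fun p => p.coeff (i : ℕ)) hc
    simpa [coeff_smul, coeff_genPoly] using h
  have h2 : c ∈ GrLC.gam a.toIdeal R := by
    refine ⟨1, fun y hy => ?_⟩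
    rw [pow_one] at hy
    have hy' := hspan hy
    refine Submodule.span_induction (p := fun y _ => y • c = 0) ?_ ?_ ?_ ?_ hy'
    · rintro _ ⟨i, rfl⟩
      rw [smul_eq_mul, mul_comm]
      exact h1 i
    · exact zero_smul _ _
    · intro y z _ _ hy hz
      rw [add_smul, hy, hz, add_zero]
    · intro t y _ hy
      rw [smul_assoc, hy, smul_zero]
  rw [hgam, Submodule.mem_bot] at h2
  exact h2

/-- The Hilbert function of a Cohen–Macaulay standard graded ring of positive dimension over a field is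
non-decreasing. -/
theorem finrank_comp_le_succ [LocCoh.IsCohenMacaulayRing R] (hpos : ∀ n : ℤ, n < 0 → 𝒜 n = ⊥)
    (h0 : IsField (GrLC.deg0 𝒜))
    (hstd : Ideal.span (⋃ n ∈ Set.Ioi (0 : ℤ), (𝒜 n : Set R)) =
      Ideal.span ((𝒜 1 : AddSubgroup R) : Set R))
    (h1 : 1 ≤ ringKrullDim R) (n : ℤ) :
    Module.finrank (GrLC.deg0 𝒜) (GrLC.comp 𝒜 𝒜 n) ≤
      Module.finrank (GrLC.deg0 𝒜) (GrLC.comp 𝒜 𝒜 (n + 1)) := by
  classical
  have hntR : Nontrivial R := by
    by_contra hnt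
    rw [not_nontrivial_iff_subsingleton] at hnt
    have h2 : ringKrullDim R = ⊥ := ringKrullDim_eq_bot_of_subsingleton
    rw [h2] at h1
    simp at h1
  have hm := isStarLocal_irrH (𝒜 := 𝒜) hpos h0
  have hht := height_eq_ringKrullDim_of_isStarLocal 𝒜 hpos (irrH 𝒜) hm
  have hmax := isMaximal_of_isStarLocal 𝒜 hpos (irrH 𝒜) hm
  have hpos_ht : ((0 : ℕ) : ℕ∞) < (irrH 𝒜).toIdeal.height := by
    have h2 : (1 : WithBot ℕ∞) ≤ ((irrH 𝒜).toIdeal.height : WithBot ℕ∞) := by
      rw [hht]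
      exact h1
    have h3 : (1 : ℕ∞) ≤ (irrH 𝒜).toIdeal.height := by exact_mod_cast h2
    exact lt_of_lt_of_le (by simp) h3
  have hvan : ∀ e, Van (irrH 𝒜) (GrLC.GMod.of 𝒜 R 𝒜) 0 e := fun e =>
    van_self_of_lt_height (irrH 𝒜) hmax.ne_top 0 hpos_ht e
  have hgam : GrLC.gam (irrH 𝒜).toIdeal R = ⊥ :=
    gam_eq_bot_of_van (irrH 𝒜) (GrLC.GMod.of 𝒜 R 𝒜) hvan
  -- generators of degree one
  have hfg : (Submodule.span R ((𝒜 1 : AddSubgroup R) : Set R)).FG :=
    IsNoetherian.noetherian (Ideal.span ((𝒜 1 : AddSubgroup R) : Set R))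
  obtain ⟨s', hsub, hspan⟩ := (Submodule.fg_span_iff_fg_span_finset_subset _).1 hfg
  let x : Fin s'.card → R := fun i => ((s'.equivFin.symm i : ↥s') : R)
  have hxmem : ∀ i, x i ∈ 𝒜 1 := fun i => hsub (s'.equivFin.symm i).2
  have hrange : (s' : Set R) ⊆ Set.range x := by
    intro y hy
    refine ⟨s'.equivFin ⟨y, hy⟩, ?_⟩
    change ((s'.equivFin.symm (s'.equivFin ⟨y, hy⟩) : ↥s') : R) = y
    rw [Equiv.symm_apply_apply]
  have hle : (irrH 𝒜).toIdeal ≤ Ideal.span (Set.range x) := by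
    rw [irrH_toIdeal, hstd]
    have h2 : Ideal.span ((𝒜 1 : AddSubgroup R) : Set R) = Submodule.span R (s' : Set R) := hspan
    rw [h2]
    exact Submodule.span_mono hrange
  have hx := genPoly_mem_nonZeroDivisors (irrH 𝒜) hgam x hle
  have hxVW : ∀ i, ∀ v ∈ GrLC.comp 𝒜 𝒜 n, x i * v ∈ GrLC.comp 𝒜 𝒜 (n + 1) := by
    intro i v hv
    have h2 : x i * v ∈ 𝒜 (1 + n) := SetLike.GradedMul.mul_mem (hxmem i) hv
    rw [add_comm] at h2
    exact h2
  -- finiteness and freeness over the field `R_0`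
  have hN : IsNoetherian R (GrLC.GMod.of 𝒜 R 𝒜).carrier := inferInstanceAs (IsNoetherian R R)
  have hn1 : IsNoetherian (GrLC.deg0 𝒜) (GrLC.comp 𝒜 𝒜 n) :=
    isNoetherian_comp (GrLC.GMod.of 𝒜 R 𝒜) n
  have hn2 : IsNoetherian (GrLC.deg0 𝒜) (GrLC.comp 𝒜 𝒜 (n + 1)) :=
    isNoetherian_comp (GrLC.GMod.of 𝒜 R 𝒜) (n + 1)
  have hf1 : Module.Finite (GrLC.deg0 𝒜) (GrLC.comp 𝒜 𝒜 n) := Module.IsNoetherian.finite _ _
  have hf2 : Module.Finite (GrLC.deg0 𝒜) (GrLC.comp 𝒜 𝒜 (n + 1)) := Module.IsNoetherian.finite _ _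
  have hnt : Nontrivial (GrLC.deg0 𝒜) := h0.nontrivial
  let hF : Field (GrLC.deg0 𝒜) := h0.toField
  have hfr1 : Module.Free (GrLC.deg0 𝒜) (GrLC.comp 𝒜 𝒜 n) := Module.Free.of_divisionRing _ _
  have hfr2 : Module.Free (GrLC.deg0 𝒜) (GrLC.comp 𝒜 𝒜 (n + 1)) := Module.Free.of_divisionRing _ _
  exact finrank_le_of_genPoly (GrLC.deg0 𝒜) (GrLC.comp 𝒜 𝒜 n) (GrLC.comp 𝒜 𝒜 (n + 1)) x hx hxVW

end Main

end Groth.Agent.R2.H72.GrMono
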