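import Groth.Agent.R2.H72GrSerre
import Groth.Agent.R2.H72GrMono

/-!
# The Serre formula in a standard graded *local ring with Artinian `R_0` (helper72)

* `proj0 hpos : R →+* R_0`, the projection of a positively graded ring onto its degree-zero part;
* in a Noetherian positively graded *local ring `(R, m)` with `R_0` Artinian, a power of `m` lies in the
  irrelevant ideal (`exists_pow_le_irrH`);
* `serre_formula_local`: the Serre formula `H_M(n) - P_M(n) = Σ_{i ≤ d} (-1)^i ℓ(H^i_m(M)_n)`.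
-/

set_option autoImplicit false
set_option linter.unusedSectionVars false
open DirectSum

noncomputable section

namespace Groth.Agent.R2.H72.GrSerreCtx

open Groth.Agent.R2.H72.GrBddLocal Groth.Agent.R2.H72.GrArt Groth.Agent.R2.H72.GrMono
  Groth.Agent.R2.H72.GrDim Groth.Agent.R2.H72.GrSerre Groth.Agent.R2.H72.GrMod

universe u

section Proj

variable {R : Type u} [CommRing R] {𝒜 : ℤ → AddSubgroup R} [GradedRing 𝒜]

theorem sub_decompose_zero_mem_irrH (hpos : ∀ n : ℤ, n < 0 → 𝒜 n = ⊥) (x : R) :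
    x - ((decompose 𝒜 x) 0 : R) ∈ (irrH 𝒜).toIdeal := by
  classical
  rw [mem_irrH_iff hpos, DirectSum.decompose_sub, DirectSum.sub_apply, AddSubgroup.coe_sub,
    DirectSum.decompose_of_mem_same 𝒜 ((decompose 𝒜 x) 0).2, sub_self]

theorem decompose_mul_zero (hpos : ∀ n : ℤ, n < 0 → 𝒜 n = ⊥) (x y : R) :
    ((decompose 𝒜 (x * y)) 0 : R) = ((decompose 𝒜 x) 0 : R) * ((decompose 𝒜 y) 0 : R) := by
  classical
  have h1 : x * y - ((decompose 𝒜 x) 0 : R) * ((decompose 𝒜 y) 0 : R) ∈ (irrH 𝒜).toIdeal := by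
    have e : x * y - ((decompose 𝒜 x) 0 : R) * ((decompose 𝒜 y) 0 : R)
        = x * (y - ((decompose 𝒜 y) 0 : R)) + (x - ((decompose 𝒜 x) 0 : R)) * ((decompose 𝒜 y) 0 : R) := by
      ring
    rw [e]
    exact Ideal.add_mem _ (Ideal.mul_mem_left _ _ (sub_decompose_zero_mem_irrH hpos y))
      (Ideal.mul_mem_right _ _ (sub_decompose_zero_mem_irrH hpos x))
  rw [mem_irrH_iff hpos, DirectSum.decompose_sub, DirectSum.sub_apply, AddSubgroup.coe_sub,
    sub_eq_zero] at h1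
  rw [h1]
  have h2 : ((decompose 𝒜 x) 0 : R) * ((decompose 𝒜 y) 0 : R) ∈ 𝒜 (0 + 0) :=
    SetLike.GradedMul.mul_mem ((decompose 𝒜 x) 0).2 ((decompose 𝒜 y) 0).2
  rw [add_zero] at h2
  exact DirectSum.decompose_of_mem_same 𝒜 h2

/-- The projection of a positively graded ring onto its degree-zero subring. -/
def proj0 (hpos : ∀ n : ℤ, n < 0 → 𝒜 n = ⊥) : R →+* GrLC.deg0 𝒜 where
  toFun x := ⟨((decompose 𝒜 x) 0 : R), ((decompose 𝒜 x) 0).2⟩
  map_one' := by
    apply Subtype.ext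
    exact DirectSum.decompose_of_mem_same 𝒜 (SetLike.GradedOne.one_mem)
  map_mul' x y := by
    apply Subtype.ext
    exact decompose_mul_zero hpos x y
  map_zero' := by
    apply Subtype.ext
    change ((decompose 𝒜 (0 : R)) 0 : R) = 0
    rw [DirectSum.decompose_zero]
    rfl
  map_add' x y := by
    apply Subtype.ext
    change ((decompose 𝒜 (x + y)) 0 : R) = ((decompose 𝒜 x) 0 : R) + ((decompose 𝒜 y) 0 : R)
    rw [DirectSum.decompose_add]
    rfl

theorem proj0_apply (hpos : ∀ n : ℤ, n < 0 → 𝒜 n = ⊥) (x : R) :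
    ((proj0 hpos x : GrLC.deg0 𝒜) : R) = ((decompose 𝒜 x) 0 : R) := rfl

theorem proj0_coe (hpos : ∀ n : ℤ, n < 0 → 𝒜 n = ⊥) (r : GrLC.deg0 𝒜) :
    proj0 hpos (r : R) = r := by
  apply Subtype.ext
  exact DirectSum.decompose_of_mem_same 𝒜 r.2

theorem ker_proj0 (hpos : ∀ n : ℤ, n < 0 → 𝒜 n = ⊥) :
    RingHom.ker (proj0 hpos) = (irrH 𝒜).toIdeal := by
  ext x
  rw [RingHom.mem_ker, mem_irrH_iff hpos]
  constructor
  · intro h
    exact congrArg Subtype.val h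
  · intro h
    exact Subtype.ext h

/-- The preimage of an ideal of `R_0` under the projection is a homogeneous ideal. -/
theorem comap_proj0_isHomogeneous (hpos : ∀ n : ℤ, n < 0 → 𝒜 n = ⊥) (q : Ideal (GrLC.deg0 𝒜)) :
    (q.comap (proj0 hpos)).IsHomogeneous 𝒜 := by
  classical
  intro i x hx
  rw [Ideal.mem_comap] at hx ⊢
  by_cases hi : i = 0
  · subst hi
    have e : proj0 hpos ((decompose 𝒜 x) 0 : R) = proj0 hpos x := by
      apply Subtype.ext
      exact DirectSum.decompose_of_mem_same 𝒜 ((decompose 𝒜 x) 0).2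
    rw [e]
    exact hx
  · have e : proj0 hpos ((decompose 𝒜 x) i : R) = 0 := by
      apply Subtype.ext
      exact DirectSum.decompose_of_mem_ne 𝒜 ((decompose 𝒜 x) i).2 hi
    rw [e]
    exact zero_mem _

end Proj

section Local

variable {R : Type u} [CommRing R] [IsNoetherianRing R] {𝒜 : ℤ → AddSubgroup R} [GradedRing 𝒜]

/-- In a Noetherian positively graded *local ring every maximal ideal of `R_0` is `m ∩ R_0`. -/
theorem eq_m0_of_isMaximal (hpos : ∀ n : ℤ, n < 0 → 𝒜 n = ⊥) (m : HomogeneousIdeal 𝒜)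
    (hm : GrLC.IsStarLocal 𝒜 m) (q : Ideal (GrLC.deg0 𝒜)) (hq : q.IsMaximal) : q = m0 m := by
  have hmax := m0_isMaximal m hm
  let J : HomogeneousIdeal 𝒜 := ⟨q.comap (proj0 hpos), comap_proj0_isHomogeneous hpos q⟩
  have hJ : J.toIdeal ≠ ⊤ := by
    intro h
    apply hq.ne_top
    rw [Ideal.eq_top_iff_one]
    have h1 : (1 : R) ∈ q.comap (proj0 hpos) := by
      have : (1 : R) ∈ J.toIdeal := by rw [h]; trivial
      exact this
    rw [Ideal.mem_comap, map_one] at h1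
    exact h1
  have hle : J.toIdeal ≤ m.toIdeal := le_of_isStarLocal 𝒜 m hm J hJ
  have hqm : q ≤ m0 m := by
    intro r hr
    rw [mem_m0]
    apply hle
    change (r : R) ∈ q.comap (proj0 hpos)
    rw [Ideal.mem_comap, proj0_coe]
    exact hr
  exact hq.eq_of_le hmax.ne_top hqm

/-- In a Noetherian positively graded *local ring with `R_0` Artinian, `m ∩ R_0` is nilpotent. -/
theorem exists_m0_pow_eq_bot [IsArtinianRing (GrLC.deg0 𝒜)] (hpos : ∀ n : ℤ, n < 0 → 𝒜 n = ⊥)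
    (m : HomogeneousIdeal 𝒜) (hm : GrLC.IsStarLocal 𝒜 m) : ∃ N : ℕ, (m0 m) ^ N = ⊥ := by
  have hle : m0 m ≤ Ideal.jacobson (⊥ : Ideal (GrLC.deg0 𝒜)) := by
    rw [Ideal.jacobson]
    apply le_sInf
    rintro q ⟨_, hq⟩
    rw [eq_m0_of_isMaximal hpos m hm q hq]
  obtain ⟨N, hN⟩ := IsArtinianRing.isNilpotent_jacobson_bot (R := GrLC.deg0 𝒜)
  refine ⟨N, ?_⟩
  rw [eq_bot_iff]
  calc (m0 m) ^ N ≤ (Ideal.jacobson (⊥ : Ideal (GrLC.deg0 𝒜))) ^ N := Ideal.pow_right_mono hle N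
    _ = ⊥ := hN

/-- In a Noetherian positively graded *local ring with `R_0` Artinian, a power of `m` lies in the irrelevant
ideal. -/
theorem exists_pow_le_irrH [IsArtinianRing (GrLC.deg0 𝒜)] (hpos : ∀ n : ℤ, n < 0 → 𝒜 n = ⊥)
    (m : HomogeneousIdeal 𝒜) (hm : GrLC.IsStarLocal 𝒜 m) :
    ∃ N : ℕ, m.toIdeal ^ N ≤ (irrH 𝒜).toIdeal := by
  obtain ⟨N, hN⟩ := exists_m0_pow_eq_bot hpos m hm
  refine ⟨N, ?_⟩
  have h1 : m.toIdeal ≤ (m0 m).comap (proj0 hpos) := by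
    intro x hx
    rw [Ideal.mem_comap, mem_m0]
    exact m.isHomogeneous 0 hx
  calc m.toIdeal ^ N ≤ ((m0 m).comap (proj0 hpos)) ^ N := Ideal.pow_right_mono h1 N
    _ ≤ ((m0 m) ^ N).comap (proj0 hpos) := Ideal.le_comap_pow _ N
    _ = (irrH 𝒜).toIdeal := by rw [hN, ← ker_proj0 hpos]; rfl

end Local

section Final

variable {R : Type u} [CommRing R] [IsNoetherianRing R] {𝒜 : ℤ → AddSubgroup R} [GradedRing 𝒜]
  [IsArtinianRing (GrLC.deg0 𝒜)]

/-- Data of the standard graded *local situation: a finite set of degree-one generators of the irrelevant ideal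
such that every graded module killed by them is `m`-torsion. -/
theorem exists_gens (hpos : ∀ n : ℤ, n < 0 → 𝒜 n = ⊥)
    (hstd : Ideal.span (⋃ n ∈ Set.Ioi (0 : ℤ), (𝒜 n : Set R)) = Ideal.span ((𝒜 1 : AddSubgroup R) : Set R))
    (m : HomogeneousIdeal 𝒜) (hm : GrLC.IsStarLocal 𝒜 m) :
    ∃ G : Finset R, (∀ x ∈ G, x ∈ 𝒜 1) ∧
      ∀ (Y : GrLC.GMod.{u} 𝒜), Kills G Y → GrLC.gam m.toIdeal Y.carrier = ⊤ := by
  classical
  obtain ⟨N, hN⟩ := exists_pow_le_irrH hpos m hm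
  have hfg : (Submodule.span R ((𝒜 1 : AddSubgroup R) : Set R)).FG :=
    IsNoetherian.noetherian (Ideal.span ((𝒜 1 : AddSubgroup R) : Set R))
  obtain ⟨G, hsub, hspan⟩ := (Submodule.fg_span_iff_fg_span_finset_subset _).1 hfg
  refine ⟨G, fun x hx => hsub hx, ?_⟩
  intro Y hY
  rw [eq_top_iff]
  intro y _
  refine ⟨N, fun r hr => ?_⟩
  have hr' : r ∈ Submodule.span R (G : Set R) := by
    have h1 := hN hr
    rw [irrH_toIdeal, hstd] at h1
    have h2 : Ideal.span ((𝒜 1 : AddSubgroup R) : Set R) = Submodule.span R (G : Set R) := hspan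
    rw [h2] at h1
    exact h1
  refine Submodule.span_induction (p := fun r _ => r • y = 0) ?_ ?_ ?_ ?_ hr'
  · intro x hx
    exact hY x hx y
  · exact zero_smul R y
  · intro x z _ _ hx hz
    rw [add_smul, hx, hz, add_zero]
  · intro c x _ hx
    rw [smul_eq_mul, mul_smul, hx, smul_zero]

/-- **The Serre formula** in a standard graded Noetherian *local ring `(R, m)` of dimension `d` with `R_0`
Artinian: `H_M(n) - P_M(n) = Σ_{i ≤ d} (-1)^i ℓ(H^i_m(M)_n)` for every finitely generated graded module `M`. -/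
theorem serre_formula_local (hpos : ∀ n : ℤ, n < 0 → 𝒜 n = ⊥)
    (hstd : Ideal.span (⋃ n ∈ Set.Ioi (0 : ℤ), (𝒜 n : Set R)) = Ideal.span ((𝒜 1 : AddSubgroup R) : Set R))
    (m : HomogeneousIdeal 𝒜) (hm : GrLC.IsStarLocal 𝒜 m) (d : ℕ) (hd : ringKrullDim R = d)
    (M : GrLC.GMod.{u} 𝒜) [Module.Finite R M.carrier] (P : Polynomial ℚ)
    (hP : ∃ N : ℤ, ∀ n : ℤ, N ≤ n → P.eval (n : ℚ) = (hfun M n : ℚ)) (n : ℤ) :
    (hfun M n : ℚ) - P.eval (n : ℚ) = ((chi m d M n : ℤ) : ℚ) := by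
  have hmax : (m0 m).IsMaximal := m0_isMaximal m hm
  have hle := irrH_le_of_isStarLocal hpos m hm
  have hd' : ringKrullDim R < ((d + 1 : ℕ) : WithBot ℕ∞) := by
    rw [hd]
    exact_mod_cast Nat.lt_succ_self d
  obtain ⟨G, hG1, htorsG⟩ := exists_gens hpos hstd m hm
  exact serre_formula hpos hle d hd' G hG1 htorsG M P hP n

end Final

section CM

variable {R : Type u} [CommRing R] {𝒜 : ℤ → AddSubgroup R} [GradedRing 𝒜]

theorem hlen_eq_zero_iff (a : HomogeneousIdeal 𝒜) {X : GrLC.GMod.{u} 𝒜} (hflh : FLH a X) (i : ℕ) (k : ℤ) :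
    hlen a X i k = 0 ↔ Van a X i k := by
  constructor
  · intro h
    rw [van_iff (someRes X) i k]
    unfold hlen len at h
    have hfl := hflh (someRes X) i k
    have hne : Module.length (GrLC.deg0 𝒜) ↥((someRes X).Hcomp a i k) ≠ ⊤ :=
      Module.length_ne_top_iff.2 hfl
    have h0 : Module.length (GrLC.deg0 𝒜) ↥((someRes X).Hcomp a i k) = 0 := by
      rcases (ENat.toNat_eq_zero).1 h with h | h
      · exact h
      · exact absurd h hne
    have hsub : Subsingleton ↥((someRes X).Hcomp a i k) := Module.length_eq_zero_iff.1 h0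
    exact Submodule.subsingleton_iff_eq_bot.1 hsub
  · exact hlen_eq_zero_of_van a i k

variable [LocCoh.IsCohenMacaulayRing R] [IsArtinianRing (GrLC.deg0 𝒜)]

/-- For a Cohen–Macaulay standard graded *local ring of dimension `d`: `H_R(n) - P_R(n) = (-1)^d ℓ(H^d_m(R)_n)`. -/
theorem serre_formula_cm (hpos : ∀ n : ℤ, n < 0 → 𝒜 n = ⊥)
    (hstd : Ideal.span (⋃ n ∈ Set.Ioi (0 : ℤ), (𝒜 n : Set R)) = Ideal.span ((𝒜 1 : AddSubgroup R) : Set R))
    (m : HomogeneousIdeal 𝒜) (hm : GrLC.IsStarLocal 𝒜 m) (d : ℕ) (hd : ringKrullDim R = d)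
    (P : Polynomial ℚ)
    (hP : ∃ N : ℤ, ∀ n : ℤ, N ≤ n → P.eval (n : ℚ) = (hfun (GrLC.GMod.of 𝒜 R 𝒜) n : ℚ)) (n : ℤ) :
    (hfun (GrLC.GMod.of 𝒜 R 𝒜) n : ℚ) - P.eval (n : ℚ)
      = (-1 : ℚ) ^ d * (hlen m (GrLC.GMod.of 𝒜 R 𝒜) d n : ℚ) := by
  have hfin : Module.Finite R (GrLC.GMod.of 𝒜 R 𝒜).carrier := inferInstanceAs (Module.Finite R R)
  rw [serre_formula_local hpos hstd m hm d hd (GrLC.GMod.of 𝒜 R 𝒜) P hP n]
  unfold chi
  rw [Finset.sum_range_succ, Finset.sum_eq_zero, zero_add]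
  · push_cast
    rfl
  · intro i hi
    rw [hlen_eq_zero_of_van m i n
      (Groth.Agent.R2.H72.GrAInv.van_self_of_lt_dim hpos m hm d hd i (Finset.mem_range.1 hi) n),
      Nat.cast_zero, mul_zero]

/-- The a-invariant of a Cohen–Macaulay standard graded *local ring read off the Hilbert function. -/
theorem endDeg_top_eq_iSup (hpos : ∀ n : ℤ, n < 0 → 𝒜 n = ⊥)
    (hstd : Ideal.span (⋃ n ∈ Set.Ioi (0 : ℤ), (𝒜 n : Set R)) = Ideal.span ((𝒜 1 : AddSubgroup R) : Set R))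
    (m : HomogeneousIdeal 𝒜) (hm : GrLC.IsStarLocal 𝒜 m) (d : ℕ) (hd : ringKrullDim R = d)
    (I : GrLC.StarInjRes 𝒜 (GrLC.GMod.of 𝒜 R 𝒜).gr) (P : Polynomial ℚ)
    (hP : ∃ N : ℤ, ∀ n : ℤ, N ≤ n → P.eval (n : ℚ) = (hfun (GrLC.GMod.of 𝒜 R 𝒜) n : ℚ)) :
    GrLC.endDeg (I.Hgr m d) = ⨆ (n : ℤ) (_ : P.eval (n : ℚ) ≠ (hfun (GrLC.GMod.of 𝒜 R 𝒜) n : ℚ)),
      ((n : WithTop ℤ) : WithBot (WithTop ℤ)) := by
  have hfin : Module.Finite R (GrLC.GMod.of 𝒜 R 𝒜).carrier := inferInstanceAs (Module.Finite R R)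
  have hflh : FLH m (GrLC.GMod.of 𝒜 R 𝒜) :=
    flh_of_artH (artH_of_isStarLocal hpos m hm (GrLC.GMod.of 𝒜 R 𝒜))
  unfold GrLC.endDeg
  apply iSup_congr
  intro n
  refine iSup_congr_Prop ?_ (fun _ => rfl)
  rw [not_iff_not, Groth.Agent.R2.H72.GrAInv.Hgr_eq_bot_iff, ← hlen_eq_zero_iff m hflh d n]
  have h := serre_formula_cm hpos hstd m hm d hd P hP n
  constructor
  · intro h0
    rw [h0, Nat.cast_zero, mul_zero, sub_eq_zero] at h
    exact h.symm
  · intro h0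
    rw [h0, sub_self] at h
    have h1 : (-1 : ℚ) ^ d ≠ 0 := pow_ne_zero d (by norm_num)
    have h2 := (mul_eq_zero.1 h.symm).resolve_left h1
    exact_mod_cast h2

end CM

end Groth.Agent.R2.H72.GrSerreCtx
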