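import Groth.Agent.R2.H72GrBdd
import Groth.Agent.S11625

/-!
# Grothendieck vanishing and the top graded local cohomology (helper72)

* `van_of_supportDim_lt`: `H^i_a(X)_k = 0` for `i > dim Supp X` (from the ungraded statement and the comparison
  of graded and ungraded local cohomology).
* `TopGen`: if `H^{i+1}_a` vanishes on all finitely generated graded modules and `a` is generated in degree one,
  then `H^i_a(X)_k = R_1 · H^i_a(X)_{k-1}` for `i ≥ 1` (i.e. `H^i_a(X) = a H^i_a(X)`).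
-/

set_option autoImplicit false
set_option linter.unusedSectionVars false
open DirectSum

noncomputable section

namespace Groth.Agent.R2.H72.GrTop

open Groth.Agent.R2.H72.GrLCBasic Groth.Agent.R2.H72.GrMod Groth.Agent.R2.H72.GrLCLES
  Groth.Agent.R2.H72.GrLCTors Groth.Agent.R2.H72.GrKoszul Groth.Agent.R2.H72.GrReg
  Groth.Agent.R2.H72.GrRegGen Groth.Agent.R2.H72.GrBdd
open Groth.Agent.Lib.Helper29GrEss Groth.Agent.Lib.Helper29GrGam

universe u

section GV

variable {ι : Type} [AddCommGroup ι] [DecidableEq ι] [Module.Free ℤ ι] [Module.Finite ℤ ι]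
variable {R : Type u} [CommRing R] [IsNoetherianRing R] {𝒜 : ι → AddSubgroup R} [GradedRing 𝒜]
variable (a : HomogeneousIdeal 𝒜)

/-- **Grothendieck vanishing** for graded local cohomology. -/
theorem van_of_supportDim_lt (X : GrLC.GMod.{u} 𝒜) (i : ℕ)
    (hi : Module.supportDim R X.carrier < (i : WithBot ℕ∞)) (k : ι) : Van a X i k := by
  intro E
  obtain ⟨e⟩ := Groth.Agent.S13224.result R 𝒜 a X.carrier X.gr E i
  have hsub : Subsingleton (LocCoh.H a.toIdeal i X.carrier) :=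
    Groth.Agent.S11625.result R a.toIdeal X.carrier i hi
  rw [Submodule.eq_bot_iff]
  intro x _
  exact e.injective (Subsingleton.elim _ _)

/-- Vanishing above the Krull dimension of the ring. -/
theorem van_of_ringKrullDim_lt (X : GrLC.GMod.{u} 𝒜) (i : ℕ)
    (hi : ringKrullDim R < (i : WithBot ℕ∞)) (k : ι) : Van a X i k :=
  van_of_supportDim_lt a X i (lt_of_le_of_lt (Module.supportDim_le_ringKrullDim R X.carrier) hi) k

end GV

/-! ### `H^i = a H^i` at the top -/

section Top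

variable {R : Type u} [CommRing R] [IsNoetherianRing R] {𝒜 : ℤ → AddSubgroup R} [GradedRing 𝒜]
variable (a : HomogeneousIdeal 𝒜)

/-- The subgroup of `H^i_a(X)` generated by the products `x • h` with `x ∈ R_1` and `h ∈ H^i_a(X)_{k-1}`. -/
def mulSpan {X : GrLC.GMod.{u} 𝒜} (E : GrLC.StarInjRes 𝒜 X.gr) (i : ℕ) (k : ℤ) :
    AddSubgroup (E.H a i) :=
  AddSubgroup.closure {z | ∃ x ∈ 𝒜 1, ∃ h ∈ E.Hcomp a i (k + -1), z = x • h}

variable {a}

theorem smul_mem_mulSpan {X : GrLC.GMod.{u} 𝒜} (E : GrLC.StarInjRes 𝒜 X.gr) (i : ℕ) (k : ℤ)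
    {x : R} (hx : x ∈ 𝒜 1) {h : E.H a i} (hh : h ∈ E.Hcomp a i (k + -1)) :
    x • h ∈ mulSpan a E i k :=
  AddSubgroup.subset_closure ⟨x, hx, h, hh, rfl⟩

theorem mulSpan_le {X : GrLC.GMod.{u} 𝒜} (E : GrLC.StarInjRes 𝒜 X.gr) (i : ℕ) (k : ℤ)
    {z : E.H a i} (hz : z ∈ mulSpan a E i k) : z ∈ E.Hcomp a i k := by
  refine AddSubgroup.closure_induction (p := fun z _ => z ∈ E.Hcomp a i k) ?_ ?_ ?_ ?_ hz
  · rintro _ ⟨x, hx, h, hh, rfl⟩
    have h1 := smul_mem_Hcomp E hx i (k + -1) hh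
    have e : (1 : ℤ) + (k + -1) = k := by omega
    rw [e] at h1
    exact h1
  · exact zero_mem _
  · intro _ _ _ _ h1 h2
    exact add_mem h1 h2
  · intro _ _ h1
    exact neg_mem h1

theorem Hmap_mem_mulSpan {X Y : GrLC.GMod.{u} 𝒜} {E : GrLC.StarInjRes 𝒜 X.gr}
    {E' : GrLC.StarInjRes 𝒜 Y.gr} {f : X.carrier →ₗ[R] Y.carrier} (φ : ResHom E E' f) (i : ℕ)
    (k : ℤ) {z : E.H a i} (hz : z ∈ mulSpan a E i k) : Hmap φ a i z ∈ mulSpan a E' i k := by
  refine AddSubgroup.closure_induction (p := fun z _ => Hmap φ a i z ∈ mulSpan a E' i k)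
    ?_ ?_ ?_ ?_ hz
  · rintro _ ⟨x, hx, h, hh, rfl⟩
    rw [map_smul]
    exact smul_mem_mulSpan E' i k hx (Hmap_mem_Hcomp φ a i _ hh)
  · rw [map_zero]
    exact zero_mem _
  · intro _ _ _ _ h1 h2
    rw [map_add]
    exact add_mem h1 h2
  · intro _ _ h1
    rw [map_neg]
    exact neg_mem h1

theorem exists_preimage_mulSpan {X Y : GrLC.GMod.{u} 𝒜} {E : GrLC.StarInjRes 𝒜 X.gr}
    {E' : GrLC.StarInjRes 𝒜 Y.gr} {f : X.carrier →ₗ[R] Y.carrier} (φ : ResHom E E' f) (i : ℕ)
    (k : ℤ)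
    (hsurj : ∀ w ∈ E'.Hcomp a i (k + -1), ∃ y ∈ E.Hcomp a i (k + -1), Hmap φ a i y = w)
    {z : E'.H a i} (hz : z ∈ mulSpan a E' i k) : ∃ s ∈ mulSpan a E i k, Hmap φ a i s = z := by
  refine AddSubgroup.closure_induction
    (p := fun z _ => ∃ s ∈ mulSpan a E i k, Hmap φ a i s = z) ?_ ?_ ?_ ?_ hz
  · rintro _ ⟨x, hx, h, hh, rfl⟩
    obtain ⟨y, hy, hyh⟩ := hsurj h hh
    exact ⟨x • y, smul_mem_mulSpan E i k hx hy, by rw [map_smul, hyh]⟩
  · exact ⟨0, zero_mem _, map_zero _⟩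
  · rintro _ _ _ _ ⟨s1, hs1, rfl⟩ ⟨s2, hs2, rfl⟩
    exact ⟨s1 + s2, add_mem hs1 hs2, map_add _ _ _⟩
  · rintro _ _ ⟨s1, hs1, rfl⟩
    exact ⟨-s1, neg_mem hs1, map_neg _ _⟩

variable (a) in
/-- `H^i_a(X)_k = R_1 · H^i_a(X)_{k-1}` for all `k`. -/
def TopGen (X : GrLC.GMod.{u} 𝒜) (i : ℕ) : Prop :=
  ∀ (E : GrLC.StarInjRes 𝒜 X.gr) (k : ℤ) (h : E.H a i), h ∈ E.Hcomp a i k → h ∈ mulSpan a E i k

variable {X Y M' M M'' : GrLC.GMod.{u} 𝒜}

theorem topGen_of_retract (f : X.carrier →ₗ[R] Y.carrier) (g : Y.carrier →ₗ[R] X.carrier)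
    (hf : GrLC.IsGrHom X.gr Y.gr f) (hg : GrLC.IsGrHom Y.gr X.gr g) (hgf : g ∘ₗ f = LinearMap.id)
    (i : ℕ) (h : TopGen a Y i) : TopGen a X i := by
  intro E k c hc
  obtain ⟨φ⟩ := exists_resHom E (someRes Y) f hf
  obtain ⟨ψ⟩ := exists_resHom (someRes Y) E g hg
  have h1 := h (someRes Y) k (Hmap φ a i c) (Hmap_mem_Hcomp φ a i k hc)
  have h2 := Hmap_mem_mulSpan ψ i k h1
  rw [Hmap_comp_eq_id a hgf φ ψ i c] at h2
  exact h2

theorem topGen_of_subsingleton [Subsingleton X.carrier] (i : ℕ) : TopGen a X i := by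
  intro E k c hc
  have h0 : E.Hcomp a i k = ⊥ := van_of_subsingleton a X i k E
  rw [h0, Submodule.mem_bot] at hc
  rw [hc]
  exact zero_mem _

/-- If `H^i(M') = 0 = H^{i+1}(M')` then `H^i(M) = a H^i(M)` follows from the same for `M''`. -/
theorem topGen_of_ses_van (S : SES M' M M'') (i : ℕ) (h0 : ∀ k, Van a M' i k)
    (h1 : ∀ k, Van a M' (i + 1) k) (h : TopGen a M'' i) : TopGen a M i := by
  intro E k c hc
  obtain ⟨φ⟩ := exists_resHom (someRes M') E S.f S.f_gr
  obtain ⟨ψ⟩ := exists_resHom E (someRes M'') S.g S.g_gr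
  have hc'' := h (someRes M'') k (Hmap ψ a i c) (Hmap_mem_Hcomp ψ a i k hc)
  obtain ⟨s, hs, hsc⟩ := exists_preimage_mulSpan ψ i k
    (fun w hw => surj_of_van a S φ ψ i (k + -1) (h1 (k + -1) (someRes M')) w hw) hc''
  have hd : c - s ∈ E.Hcomp a i k := sub_mem hc (mulSpan_le E i k hs)
  have hd0 : Hmap ψ a i (c - s) = 0 := by rw [map_sub, hsc, sub_self]
  obtain ⟨u, hu, huc⟩ := exact_mid a S φ ψ i k (c - s) hd hd0
  rw [h0 k (someRes M'), Submodule.mem_bot] at hu
  rw [hu, map_zero] at huc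
  have e : c = s := (sub_eq_zero.1 huc.symm)
  rw [e]
  exact hs

/-- The step through a quotient `N = X/yX` by an element of degree one. -/
theorem topGen_of_quot {N : GrLC.GMod.{u} 𝒜} {y : R} (hy : y ∈ 𝒜 1)
    (π : X.carrier →ₗ[R] N.carrier) (hπ : Function.Surjective π)
    (hπg : GrLC.IsGrHom X.gr N.gr π) (hker : ∀ m, π m = 0 ↔ ∃ m', y • m' = m) (i : ℕ)
    (hK : ∀ k, Van a (KG X hy) (i + 1) k) (hQ : ∀ k, Van a (QG X hy) (i + 1) k)
    (h : TopGen a N i) : TopGen a X i := by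
  intro E k c hc
  set E1 := shiftRes E (-1) with hE1
  set EQ := someRes (QG X hy) with hEQ
  set EK := someRes (KG X hy) with hEK
  set EN := someRes N with hEN
  obtain ⟨p⟩ := exists_resHom E1 EQ (kerMul X y 1).mkQ (quotG_mk_grHom _ _ _)
  obtain ⟨μ⟩ := exists_resHom EQ E (mulBar X hy) (mulBar_grHom hy)
  obtain ⟨j⟩ := exists_resHom EK E1 (kerMul X y 1).subtype (subG_incl_grHom _ _ _)
  obtain ⟨ψ⟩ := exists_resHom E EN π hπg
  have hc'' := h EN k (Hmap ψ a i c) (Hmap_mem_Hcomp ψ a i k hc)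
  obtain ⟨s, hs, hsc⟩ := exists_preimage_mulSpan ψ i k
    (fun w hw => surj_of_van a (ses2 hy π hπ hπg hker) μ ψ i (k + -1) (hQ (k + -1) EQ) w hw) hc''
  have hd : c - s ∈ E.Hcomp a i k := sub_mem hc (mulSpan_le E i k hs)
  have hd0 : Hmap ψ a i (c - s) = 0 := by rw [map_sub, hsc, sub_self]
  obtain ⟨u, hu, huc⟩ := exact_mid a (ses2 hy π hπ hπg hker) μ ψ i k (c - s) hd hd0
  obtain ⟨v, hv, hvu⟩ := surj_of_van a (ses1 X hy) j p i k (hK k EK) u hu
  have hcomp : Hmap (mulHom E hy) a i v = Hmap μ a i (Hmap p a i v) := by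
    have h1 := Hmap_congr a (mulBar_comp (M := X) hy) (μ.comp p) (mulHom E hy) i
    have h2 := LinearMap.congr_fun (Hmap_comp p a μ i) v
    exact (LinearMap.congr_fun h1 v).symm.trans h2
  have h4 : Hmap (mulHom E hy) a i v = c - s :=
    hcomp.trans ((congrArg (Hmap μ a i) hvu).trans huc)
  have key : ∀ v' : E.H a i, v' ∈ E.Hcomp a i (k + -1) → y • v' = c - s →
      c ∈ mulSpan a E i k := by
    intro v' hv' h5
    have h3 : y • v' ∈ mulSpan a E i k := smul_mem_mulSpan E i k hy hv'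
    have e : c = s + y • v' := by rw [h5]; abel
    rw [e]
    exact add_mem hs h3
  exact key v ((mem_Hcomp_shiftRes E (-1) a i k v).1 hv) ((Hmap_mulHom E hy i v).symm.trans h4)

end Top

section Induction

variable {R : Type u} [CommRing R] [IsNoetherianRing R] {𝒜 : ℤ → AddSubgroup R} [GradedRing 𝒜]
variable {a : HomogeneousIdeal 𝒜}

/-- An ideal generated in degree one is generated by a finite set of elements of degree one. -/
theorem exists_gens_one (hgen : a.toIdeal = Ideal.span ((𝒜 1 : AddSubgroup R) : Set R)) :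
    ∃ t : Finset R, (∀ y ∈ t, y ∈ 𝒜 1) ∧ a.toIdeal = Ideal.span (t : Set R) := by
  classical
  have hfg : (Submodule.span R ((𝒜 1 : AddSubgroup R) : Set R)).FG := by
    have h := IsNoetherian.noetherian a.toIdeal
    rw [hgen] at h
    exact h
  obtain ⟨t, hsub, hspan⟩ := (Submodule.fg_span_iff_fg_span_finset_subset _).1 hfg
  refine ⟨t, fun y hy => hsub hy, ?_⟩
  rw [hgen]
  exact hspan

/-- The inductive step for `TopGen`. -/
theorem topGen_step (hgen : a.toIdeal = Ideal.span ((𝒜 1 : AddSubgroup R) : Set R)) (i : ℕ)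
    (hGV : ∀ Y : GrLC.GMod.{u} 𝒜, Module.Finite R Y.carrier → ∀ k, Van a Y (i + 1 + 1) k)
    (X : GrLC.GMod.{u} 𝒜) (hN : IsNoetherian R X.carrier)
    (ih : ∀ (P : Submodule R X.carrier) (hP : P.IsHomogeneous X.gr), P ≠ ⊥ →
      TopGen a (quotG X P hP) (i + 1)) : TopGen a X (i + 1) := by
  classical
  by_cases hΓ : GrLC.gam a.toIdeal X.carrier = ⊥
  · obtain ⟨t, ht, hspan⟩ := exists_gens_one hgen
    by_cases hall : ∀ y ∈ t, ∀ m : X.carrier, y • m = 0
    · have h0 : ∀ m : X.carrier, m = 0 := by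
        intro m
        have hm : m ∈ GrLC.gam a.toIdeal X.carrier := by
          refine ⟨1, fun r hr => ?_⟩
          rw [pow_one, hspan] at hr
          refine Submodule.span_induction (p := fun r _ => r • m = 0) ?_ ?_ ?_ ?_ hr
          · intro y hy
            exact hall y hy m
          · exact zero_smul R m
          · intro r r' _ _ h h'
            rw [add_smul, h, h', add_zero]
          · intro c r _ h
            rw [smul_eq_mul, mul_smul, h, smul_zero]
        rw [hΓ] at hm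
        exact (Submodule.mem_bot R).1 hm
      have hsub : Subsingleton X.carrier := ⟨fun m m' => by rw [h0 m, h0 m']⟩
      exact topGen_of_subsingleton (i + 1)
    · push Not at hall
      obtain ⟨y, hyt, m0, hm0⟩ := hall
      have hy : y ∈ 𝒜 1 := ht y hyt
      have hP : (LinearMap.range (mulMap X y 1)).IsHomogeneous X.gr :=
        range_isHomogeneous X.gr (shiftG X (-1)).gr (mulMap X y 1) (mulMap_grHom hy)
      have hPne : LinearMap.range (mulMap X y 1) ≠ ⊥ := by
        intro h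
        apply hm0
        have h1 : y • m0 ∈ LinearMap.range (mulMap X y 1) := ⟨m0, rfl⟩
        rw [h] at h1
        exact (Submodule.mem_bot R).1 h1
      have hker : ∀ m : X.carrier, (LinearMap.range (mulMap X y 1)).mkQ m = 0 ↔
          ∃ m', y • m' = m := by
        intro m
        rw [Submodule.mkQ_apply, Submodule.Quotient.mk_eq_zero]
        exact Iff.rfl
      have hXN : IsNoetherian R (shiftG X (-1)).carrier := hN
      have hKfin : Module.Finite R (KG X hy).carrier :=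
        inferInstanceAs (Module.Finite R ↥(kerMul X y 1))
      have hQfin : Module.Finite R (QG X hy).carrier :=
        inferInstanceAs (Module.Finite R ((shiftG X (-1)).carrier ⧸ kerMul X y 1))
      exact topGen_of_quot hy _ (Submodule.mkQ_surjective _) (quotG_mk_grHom X _ hP) hker (i + 1)
        (hGV _ hKfin) (hGV _ hQfin) (ih _ hP hPne)
  · have hΓh : (GrLC.gam a.toIdeal X.carrier).IsHomogeneous X.gr := gam_isHomogeneous 𝒜 X.gr a
    have htors : GrLC.gam a.toIdeal (subG X _ hΓh).carrier = ⊤ := by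
      rw [eq_top_iff]
      rintro ⟨m, hm⟩ _
      obtain ⟨n, hn⟩ := hm
      exact ⟨n, fun r hr => Subtype.ext (hn r hr)⟩
    exact topGen_of_ses_van (sesSub X _ hΓh) (i + 1)
      (fun k => van_succ_of_torsion htors i k) (fun k => van_succ_of_torsion htors (i + 1) k)
      (ih _ hΓh hΓ)

/-- If `a` is generated in degree one and `H^{i+2}_a` vanishes on all finitely generated graded modules, then
`H^{i+1}_a(X)_k = R_1 · H^{i+1}_a(X)_{k-1}` for every finitely generated graded module `X`. -/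
theorem topGen_of_finite (hgen : a.toIdeal = Ideal.span ((𝒜 1 : AddSubgroup R) : Set R)) (i : ℕ)
    (hGV : ∀ Y : GrLC.GMod.{u} 𝒜, Module.Finite R Y.carrier → ∀ k, Van a Y (i + 1 + 1) k)
    (X : GrLC.GMod.{u} 𝒜) [Module.Finite R X.carrier] : TopGen a X (i + 1) := by
  have : IsNoetherian R X.carrier := isNoetherian_of_isNoetherianRing_of_finite R X.carrier
  refine gmod_induction (fun Y => TopGen a Y (i + 1)) ?_
    (fun Y hY ih => topGen_step hgen i hGV Y hY ih) X
  intro Y Z f g hf hg hgf hfg h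
  exact topGen_of_retract g f hg hf hfg (i + 1) h

/-- Upward propagation of vanishing: if `H^{i+1}_a(X)_n = 0` then `H^{i+1}_a(X)_k = 0` for all `k ≥ n`. -/
theorem van_of_le (hgen : a.toIdeal = Ideal.span ((𝒜 1 : AddSubgroup R) : Set R)) (i : ℕ)
    (hGV : ∀ Y : GrLC.GMod.{u} 𝒜, Module.Finite R Y.carrier → ∀ k, Van a Y (i + 1 + 1) k)
    (X : GrLC.GMod.{u} 𝒜) [Module.Finite R X.carrier] (E : GrLC.StarInjRes 𝒜 X.gr) (n : ℤ)
    (hn : E.Hcomp a (i + 1) n = ⊥) : ∀ k : ℤ, n ≤ k → E.Hcomp a (i + 1) k = ⊥ := by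
  intro k hk
  induction k, hk using Int.leInduction with
  | base => exact hn
  | succ k _ ih =>
    rw [Submodule.eq_bot_iff]
    intro c hc
    have h1 := topGen_of_finite hgen i hGV X E (k + 1) c hc
    have h2 : mulSpan a E (i + 1) (k + 1) = ⊥ := by
      rw [mulSpan, AddSubgroup.closure_eq_bot_iff]
      rintro _ ⟨x, _, h, hh, rfl⟩
      have e : k + 1 + -1 = k := by omega
      rw [e, ih, Submodule.mem_bot] at hh
      rw [Set.mem_singleton_iff, hh, smul_zero]
    rw [h2] at h1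
    exact (AddSubgroup.mem_bot).1 h1

end Induction

end Groth.Agent.R2.H72.GrTop
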