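import Groth.Agent.R2.H72GrSyzLC
import Groth.Agent.R2.H72GrSerreCtx
import Groth.Agent.R2.H72GrMono
import Groth.Agent.R2.H72GrTop
import Groth.Agent.R2.H72GrAInv
import Groth.Agent.Lib.Helper8LCDepth
import Groth.Agent.S16323

/-!
# Sharpness of the Hilbert function / Hilbert polynomial bound for Cohen–Macaulay modules (helper72)

Over `S = k[x_0..x_n]`, for a finitely generated graded Cohen–Macaulay module `M` with a minimal graded free
resolution of length `ℓ` and regularity `ρ`, `H_M(d) ≠ P_M(d)` at `d = ρ + ℓ - n - 1`.  The proof combines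
the Serre formula `H_M - P_M = Σ (-1)^i ℓ(H^i_𝔪(M)_•)`, the vanishing of local cohomology outside the
dimension of a Cohen–Macaulay module, the Eisenbud–Goto description of the regularity, and the graded
Auslander–Buchsbaum formula (milestone `S16323`).
-/

set_option autoImplicit false
set_option linter.unusedSectionVars false
open DirectSum

noncomputable section

namespace Groth.Agent.R2.H72.GrCMHilb

open Groth.Agent.R2.H72.GrLCBasic Groth.Agent.R2.H72.GrMod Groth.Agent.R2.H72.GrLCLES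
  Groth.Agent.R2.H72.GrLCTors Groth.Agent.R2.H72.GrConv Groth.Agent.R2.H72.GrLCFinLen
  Groth.Agent.R2.H72.GrFree Groth.Agent.R2.H72.GrRegPoly Groth.Agent.R2.H72.GrPolyLC
  Groth.Agent.R2.H72.GrReg Groth.Agent.R2.H72.GrSyzLC Groth.Agent.R2.H72.GrSerre
  Groth.Agent.R2.H72.GrSerreCtx Groth.Agent.R2.H72.GrMono Groth.Agent.R2.H72.GrTop
  Groth.Agent.R2.H72.GrAInv Groth.Agent.R2.H72.GrBddLocal Groth.Agent.R2.H72.GrArt

universe u

section Ring

variable (k : Type u) [Field k] (n : ℕ)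

theorem hposA : ∀ j : ℤ, j < 0 → A k n j = ⊥ := by
  intro j hj
  rw [eq_bot_iff]
  intro p hp
  have hp' : p ∈ GrSyz.stdGr k (Fin (n + 1)) j := hp
  have h0 : GrSyz.stdGr k (Fin (n + 1)) j = ⊥ := by
    apply Submodule.finrank_eq_zero.1
    exact Groth.Agent.Helper13Hilb.finrank_stdGr_neg k _ j hj
  rw [h0] at hp'
  exact (AddSubgroup.mem_bot).2 ((Submodule.mem_bot k).1 hp')

theorem eq_C_of_mem_zero (p : MvPolynomial (Fin (n + 1)) k) (hp : p ∈ A k n 0) :
    p = MvPolynomial.C (MvPolynomial.constantCoeff p) := by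
  have hp' : p.IsWeightedHomogeneous (fun _ : Fin (n + 1) => (1 : ℤ)) 0 := hp
  ext d
  rw [MvPolynomial.coeff_C]
  by_cases hd : d = 0
  · subst hd
    rw [if_pos rfl]
    rfl
  · rw [if_neg (Ne.symm hd)]
    apply hp'.coeff_eq_zero
    rw [Groth.Agent.Helper13Hilb.weight_one_int]
    intro h
    apply hd
    have h1 : d.degree = 0 := by exact_mod_cast h
    exact (Finsupp.degree_eq_zero_iff d).1 h1

theorem C_mem_zero (c : k) : (MvPolynomial.C c : MvPolynomial (Fin (n + 1)) k) ∈ A k n 0 :=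
  MvPolynomial.isWeightedHomogeneous_C _ c

theorem isField_deg0 : IsField (GrLC.deg0 (A k n)) := by
  refine ⟨⟨0, 1, zero_ne_one⟩, mul_comm, ?_⟩
  rintro ⟨p, hp⟩ hne
  have hpC := eq_C_of_mem_zero k n p hp
  have hc : MvPolynomial.constantCoeff p ≠ 0 := by
    intro h0
    apply hne
    apply Subtype.ext
    change p = 0
    rw [hpC, h0, map_zero]
  refine ⟨⟨MvPolynomial.C (MvPolynomial.constantCoeff p)⁻¹, C_mem_zero k n _⟩, ?_⟩
  apply Subtype.ext
  change p * MvPolynomial.C (MvPolynomial.constantCoeff p)⁻¹ = 1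
  rw [hpC, MvPolynomial.constantCoeff_C, ← map_mul, mul_inv_cancel₀ hc, map_one]

instance : IsArtinianRing (GrLC.deg0 (A k n)) := by
  let _ := (isField_deg0 k n).toField
  infer_instance

theorem irr_eq : irr k n = irrH (A k n) := by
  apply HomogeneousIdeal.toIdeal_injective
  change Ideal.span {p : MvPolynomial (Fin (n + 1)) k | ∃ j : ℤ, 0 < j ∧ p ∈ GrSyz.stdGr k (Fin (n + 1)) j}
    = Ideal.span (⋃ j ∈ Set.Ioi (0 : ℤ), (A k n j : Set (MvPolynomial (Fin (n + 1)) k)))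
  congr 1
  ext p
  simp only [Set.mem_ofPred_eq, Set.mem_iUnion, Set.mem_Ioi, exists_prop]
  rfl

theorem hstdA : Ideal.span (⋃ j ∈ Set.Ioi (0 : ℤ), (A k n j : Set (MvPolynomial (Fin (n + 1)) k)))
    = Ideal.span ((A k n 1 : AddSubgroup (MvPolynomial (Fin (n + 1)) k)) : Set _) := by
  apply le_antisymm
  · have h1 : (irr k n).toIdeal ≤ Groth.Agent.R2.H72.GrKoszul.listIdeal (varList k n) :=
      irr_le_listIdeal
    have h2 : (irr k n).toIdeal = Ideal.span (⋃ j ∈ Set.Ioi (0 : ℤ), (A k n j : Set _)) := by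
      rw [irr_eq]; rfl
    rw [← h2]
    refine le_trans h1 ?_
    unfold Groth.Agent.R2.H72.GrKoszul.listIdeal
    apply Ideal.span_mono
    rintro p ⟨x, _, rfl⟩
    exact x.2
  · apply Ideal.span_mono
    intro p hp
    exact Set.mem_iUnion₂.2 ⟨1, by simp, hp⟩

theorem isStarLocal_irr : GrLC.IsStarLocal (A k n) (irr k n) := by
  rw [irr_eq]
  exact isStarLocal_irrH (hposA k n) (isField_deg0 k n)

theorem ringKrullDim_eq : ringKrullDim (MvPolynomial (Fin (n + 1)) k) = ((n + 1 : ℕ) : WithBot ℕ∞) := by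
  rw [MvPolynomial.ringKrullDim_of_isNoetherianRing, ringKrullDim_eq_zero_of_field]
  simp

end Ring

section Mod

variable {k : Type u} [Field k] {n : ℕ}
variable {M : Type u} [AddCommGroup M] [Module k M] [Module (MvPolynomial (Fin (n + 1)) k) M]
  [IsScalarTower k (MvPolynomial (Fin (n + 1)) k) M]
  (ℳ : ℤ → Submodule k M) [DirectSum.Decomposition ℳ]
  [SetLike.GradedSMul (GrSyz.stdGr k (Fin (n + 1))) ℳ]

/-- The ring isomorphism `k ≃ S_0`, as a function. -/
def toDeg0 (c : k) : GrLC.deg0 (A k n) := ⟨MvPolynomial.C c, C_mem_zero k n c⟩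

theorem toDeg0_bijective : Function.Bijective (toDeg0 (k := k) (n := n)) := by
  constructor
  · intro c c' h
    exact MvPolynomial.C_injective _ _ (congrArg Subtype.val h)
  · rintro ⟨p, hp⟩
    exact ⟨MvPolynomial.constantCoeff p, Subtype.ext (eq_C_of_mem_zero k n p hp).symm⟩

/-- The pieces of `M` as `k`-spaces and as `S_0`-modules have the same underlying group. -/
def pieceEquiv (d : ℤ) : ↥(ℳ d) ≃+ ↥(GrLC.comp (A k n) (Mg k n ℳ).gr d) where
  toFun x := ⟨x.1, x.2⟩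
  invFun x := ⟨x.1, x.2⟩
  left_inv _ := rfl
  right_inv _ := rfl
  map_add' _ _ := rfl

theorem hfun_Mg (d : ℤ) : hfun (Mg k n ℳ) d = Module.finrank k ↥(ℳ d) := by
  let hF : Field (GrLC.deg0 (A k n)) := (isField_deg0 k n).toField
  unfold hfun len
  rw [Module.length_eq_rank]
  have h := rank_eq_of_equiv_equiv (toDeg0 (k := k) (n := n)) (pieceEquiv ℳ d) toDeg0_bijective
    (by
      intro c x
      apply Subtype.ext
      have e1 : ((pieceEquiv (n := n) ℳ d (c • x)).1 : M) = c • (x : M) := rfl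
      have e2 : ((toDeg0 (k := k) (n := n) c • pieceEquiv (n := n) ℳ d x).1 : M) =
          (MvPolynomial.C c : MvPolynomial (Fin (n + 1)) k) • (x : M) := rfl
      refine e1.trans (Eq.trans ?_ e2.symm)
      rw [← MvPolynomial.algebraMap_eq, algebraMap_smul])
  rw [← h]
  simp [Module.finrank]

variable [Module.Finite (MvPolynomial (Fin (n + 1)) k) M]

instance : Module.Finite (MvPolynomial (Fin (n + 1)) k) (Mg k n ℳ).carrier :=
  inferInstanceAs (Module.Finite (MvPolynomial (Fin (n + 1)) k) M)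

theorem flh_Mg : FLH (irr k n) (Mg k n ℳ) :=
  flh_of_artH (artH_of_isStarLocal (hposA k n) (irr k n) (isStarLocal_irr k n) (Mg k n ℳ))

theorem van_of_lt_depth (δ : ℕ)
    (hIM : (irr k n).toIdeal • (⊤ : Submodule (MvPolynomial (Fin (n + 1)) k) M) ≠ ⊤)
    (hδ : (δ : ℕ∞) ≤ LocCoh.idealDepth (irr k n).toIdeal M) (i : ℕ) (hi : i < δ) (e : ℤ) :
    Van (irr k n) (Mg k n ℳ) i e := by
  apply van_of_locCoh_eq_zero (irr k n) (Mg k n ℳ) i _ e
  exact Groth.Agent.Lib.Helper8.LC.H_eq_zero_of_lt_depth (irr k n).toIdeal δ M hIM hδ i hi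

theorem van_of_dim_lt (δ : ℕ)
    (hsd : Module.supportDim (MvPolynomial (Fin (n + 1)) k) M = ((δ : ℕ∞) : WithBot ℕ∞))
    (i : ℕ) (hi : δ < i) (e : ℤ) : Van (irr k n) (Mg k n ℳ) i e := by
  apply van_of_supportDim_lt (irr k n) (Mg k n ℳ) i _ e
  change Module.supportDim (MvPolynomial (Fin (n + 1)) k) M < _
  rw [hsd]
  exact_mod_cast hi

end Mod

section Main

variable {k : Type u} [Field k] [IsAlgClosed k] [CharZero k] {n : ℕ}
variable {M : Type u} [AddCommGroup M] [Module k M] [Module (MvPolynomial (Fin (n + 1)) k) M]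
  [IsScalarTower k (MvPolynomial (Fin (n + 1)) k) M] [Module.Finite (MvPolynomial (Fin (n + 1)) k) M]
  (ℳ : ℤ → Submodule k M) [DirectSum.Decomposition ℳ]
  [SetLike.GradedSMul (GrSyz.stdGr k (Fin (n + 1))) ℳ]

/-- For a Cohen–Macaulay graded module over the polynomial ring, the Hilbert function differs from the Hilbert
polynomial in degree `reg M + pd M - n - 1`. -/
theorem finrank_ne_eval
    (hCM : Module.supportDim (MvPolynomial (Fin (n + 1)) k) M =
      ((LocCoh.idealDepth (GrSyz.irrel (GrSyz.stdGr k (Fin (n + 1)))).toIdeal M : ℕ∞) : WithBot ℕ∞))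
    (F : GrSyz.FreeRes (GrSyz.stdGr k (Fin (n + 1))) ℳ)
    (hF : F.IsMinimal (GrSyz.irrel (GrSyz.stdGr k (Fin (n + 1)))).toIdeal)
    (ℓ : ℕ) (hℓ : F.HasLengthLE ℓ) (hℓ' : F.rk ℓ ≠ 0)
    (ρ : ℤ) (hρ : F.IsGenLE ρ) (hρ' : ∃ (i : ℕ) (b : Fin (F.rk i)), F.deg i b = ρ + i)
    (P : Polynomial ℚ)
    (hP : ∃ d₁ : ℤ, ∀ d : ℤ, d₁ ≤ d → ((Module.finrank k ↥(ℳ d) : ℤ) : ℚ) = P.eval (d : ℚ)) :
    ((Module.finrank k ↥(ℳ (ρ + ℓ - n - 1)) : ℤ) : ℚ) ≠ P.eval ((ρ + ℓ - n - 1 : ℤ) : ℚ) := by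
  classical
  have hAB := Groth.Agent.S16323.result k n M ℳ F hF ℓ hℓ hℓ'
  have hne : LocCoh.idealDepth (GrSyz.irrel (GrSyz.stdGr k (Fin (n + 1)))).toIdeal M ≠ ⊤ := by
    intro h
    rw [h, add_top] at hAB
    exact ENat.top_ne_natCast _ hAB
  obtain ⟨δ, hδ⟩ := ENat.ne_top_iff_exists.1 hne
  rw [← hδ] at hAB hCM
  have hsum : ℓ + δ = n + 1 := by exact_mod_cast hAB
  have hIM : (irr k n).toIdeal • (⊤ : Submodule (MvPolynomial (Fin (n + 1)) k) M) ≠ ⊤ := by
    intro h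
    apply hne
    have h' : (GrSyz.irrel (GrSyz.stdGr k (Fin (n + 1)))).toIdeal •
        (⊤ : Submodule (MvPolynomial (Fin (n + 1)) k) M) = ⊤ := h
    unfold LocCoh.idealDepth
    rw [if_pos h']
  have hvlt : ∀ i, i < δ → ∀ e, Van (irr k n) (Mg k n ℳ) i e := fun i hi e =>
    van_of_lt_depth ℳ δ hIM (le_of_eq hδ) i hi e
  have hvgt : ∀ i, δ < i → ∀ e, Van (irr k n) (Mg k n ℳ) i e := fun i hi e =>
    van_of_dim_lt ℳ δ hCM i hi e
  have hng : ¬ F.IsGenLE (ρ - 1) := by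
    obtain ⟨i, b, hb⟩ := hρ'
    intro h
    have := h i b
    omega
  have h1 := (isGenLE_iff_van F hF ρ).1 hρ
  have hnv : ¬ Van (irr k n) (Mg k n ℳ) δ (ρ - δ) := by
    intro hv
    apply hng
    rw [isGenLE_iff_van F hF (ρ - 1)]
    intro q e he
    by_cases hq : q = δ
    · subst hq
      by_cases he' : ρ - q < e
      · exact h1 q e he'
      · have hee : e = ρ - q := by omega
        rw [hee]
        exact hv
    · rcases Nat.lt_or_gt_of_ne hq with h | h
      · exact hvlt q h e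
      · exact hvgt q h e
  have hP' : ∃ N : ℤ, ∀ m : ℤ, N ≤ m → P.eval (m : ℚ) = (hfun (Mg k n ℳ) m : ℚ) := by
    obtain ⟨d₁, hd₁⟩ := hP
    refine ⟨d₁, fun m hm => ?_⟩
    rw [hfun_Mg, ← hd₁ m hm]
    push_cast
    rfl
  have hserre := serre_formula_local (hposA k n) (hstdA k n) (irr k n) (isStarLocal_irr k n) (n + 1)
    (ringKrullDim_eq k n) (Mg k n ℳ) P hP' (ρ - δ)
  have hchi : chi (irr k n) (n + 1) (Mg k n ℳ) (ρ - δ) =
      (-1 : ℤ) ^ δ * (hlen (irr k n) (Mg k n ℳ) δ (ρ - δ) : ℤ) := by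
    unfold chi
    rw [Finset.sum_eq_single δ]
    · intro i _ hi
      rcases Nat.lt_or_gt_of_ne hi with h | h
      · rw [hlen_eq_zero_of_van (irr k n) i _ (hvlt i h _), Nat.cast_zero, mul_zero]
      · rw [hlen_eq_zero_of_van (irr k n) i _ (hvgt i h _), Nat.cast_zero, mul_zero]
    · intro h
      exfalso
      apply h
      rw [Finset.mem_range]
      omega
  have hlen_ne : hlen (irr k n) (Mg k n ℳ) δ (ρ - δ) ≠ 0 := by
    intro h
    exact hnv ((hlen_eq_zero_iff (irr k n) (flh_Mg ℳ) δ (ρ - δ)).1 h)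
  have hidx : (ρ + ℓ - n - 1 : ℤ) = ρ - δ := by
    have : (ℓ : ℤ) + δ = n + 1 := by exact_mod_cast hsum
    omega
  rw [hidx]
  intro heq
  rw [hfun_Mg, hchi] at hserre
  have h0 : (((-1 : ℤ) ^ δ * (hlen (irr k n) (Mg k n ℳ) δ (ρ - δ) : ℤ) : ℤ) : ℚ) = 0 := by
    rw [← hserre, ← heq]
    push_cast
    ring
  have h2 : (-1 : ℤ) ^ δ * (hlen (irr k n) (Mg k n ℳ) δ (ρ - δ) : ℤ) = 0 := by exact_mod_cast h0
  rcases mul_eq_zero.1 h2 with h3 | h3
  · exact absurd h3 (pow_ne_zero δ (by norm_num))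
  · exact hlen_ne (by exact_mod_cast h3)

end Main

end Groth.Agent.R2.H72.GrCMHilb
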