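import Mathlib
import Groth.Prelude.Def_GrLC

/-!
# Conversion of gradings valued in an arbitrary `SetLike` type to `AddSubgroup`-valued gradings (helper72)

The prelude's `GrLC` notions are stated for a grading `𝒜 : ι → σ` of the ring and `ℳ : ι → τ` of the module
with arbitrary `SetLike` carriers; the earlier library (`Helper29*`) works with `AddSubgroup`-valued families.
This file converts the data: `fam ℳ g = AddSubgroup.ofClass (ℳ g)`, decompositions, graded ring / graded
scalar multiplication instances, bundled graded modules, *injectivity, *injective resolutions and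
homogeneous ideals; the graded local cohomology of the converted resolution is literally the same module,
with the same pieces.
-/

set_option autoImplicit false
set_option linter.unusedSectionVars false
open DirectSum

noncomputable section

namespace Groth.Agent.R2.H72.GrConv

universe u

variable {ι : Type} [AddCommGroup ι] [DecidableEq ι]

section Fam

variable {M : Type u} [AddCommGroup M] {τ : Type u} [SetLike τ M] [AddSubgroupClass τ M]

/-- The `AddSubgroup`-valued family with the same pieces. -/
def fam (ℳ : ι → τ) : ι → AddSubgroup M := fun g => AddSubgroup.ofClass (ℳ g)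

@[simp] theorem mem_fam (ℳ : ι → τ) {g : ι} {x : M} : x ∈ fam ℳ g ↔ x ∈ ℳ g := Iff.rfl

/-- The identification of the pieces. -/
def toFamPiece (ℳ : ι → τ) (g : ι) : ↥(ℳ g) →+ ↥(fam ℳ g) where
  toFun x := ⟨x.1, x.2⟩
  map_zero' := rfl
  map_add' _ _ := rfl

/-- The identification of the pieces, backwards. -/
def ofFamPiece (ℳ : ι → τ) (g : ι) : ↥(fam ℳ g) →+ ↥(ℳ g) where
  toFun x := ⟨x.1, x.2⟩
  map_zero' := rfl
  map_add' _ _ := rfl

theorem coe_map_toFamPiece (ℳ : ι → τ) (y : ⨁ g, ℳ g) :
    DirectSum.coeAddMonoidHom (fam ℳ) (DirectSum.map (toFamPiece ℳ) y) =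
      DirectSum.coeAddMonoidHom ℳ y := by
  classical
  induction y using DirectSum.induction_on with
  | zero => simp
  | of g x =>
    rw [DirectSum.map_of, DirectSum.coeAddMonoidHom_of, DirectSum.coeAddMonoidHom_of]
    rfl
  | add x y hx hy => rw [map_add, map_add, map_add, hx, hy]

theorem coe_map_ofFamPiece (ℳ : ι → τ) (y : ⨁ g, fam ℳ g) :
    DirectSum.coeAddMonoidHom ℳ (DirectSum.map (ofFamPiece ℳ) y) =
      DirectSum.coeAddMonoidHom (fam ℳ) y := by
  classical
  induction y using DirectSum.induction_on with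
  | zero => simp
  | of g x =>
    rw [DirectSum.map_of, DirectSum.coeAddMonoidHom_of, DirectSum.coeAddMonoidHom_of]
    rfl
  | add x y hx hy => rw [map_add, map_add, map_add, hx, hy]

theorem map_of_map_to (ℳ : ι → τ) (y : ⨁ g, ℳ g) :
    DirectSum.map (ofFamPiece ℳ) (DirectSum.map (toFamPiece ℳ) y) = y := by
  classical
  induction y using DirectSum.induction_on with
  | zero => simp
  | of g x => rw [DirectSum.map_of, DirectSum.map_of]; rfl
  | add x y hx hy => rw [map_add, map_add, hx, hy]

theorem map_to_map_of (ℳ : ι → τ) (y : ⨁ g, fam ℳ g) :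
    DirectSum.map (toFamPiece ℳ) (DirectSum.map (ofFamPiece ℳ) y) = y := by
  classical
  induction y using DirectSum.induction_on with
  | zero => simp
  | of g x => rw [DirectSum.map_of, DirectSum.map_of]; rfl
  | add x y hx hy => rw [map_add, map_add, hx, hy]

/-- The decomposition of the converted family. -/
@[instance_reducible]
def famDecomposition (ℳ : ι → τ) [DirectSum.Decomposition ℳ] : DirectSum.Decomposition (fam ℳ) where
  decompose' x := DirectSum.map (toFamPiece ℳ) (DirectSum.decompose ℳ x)
  left_inv x := by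
    show DirectSum.coeAddMonoidHom (fam ℳ) (DirectSum.map (toFamPiece ℳ) (DirectSum.decompose ℳ x)) = x
    rw [coe_map_toFamPiece]
    exact DirectSum.Decomposition.left_inv x
  right_inv y := by
    show DirectSum.map (toFamPiece ℳ)
      (DirectSum.decompose ℳ (DirectSum.coeAddMonoidHom (fam ℳ) y)) = y
    rw [← coe_map_ofFamPiece]
    have h : DirectSum.decompose ℳ (DirectSum.coeAddMonoidHom ℳ (DirectSum.map (ofFamPiece ℳ) y)) =
        DirectSum.map (ofFamPiece ℳ) y := DirectSum.Decomposition.right_inv _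
    rw [h, map_to_map_of]

instance instFamDecomposition (ℳ : ι → τ) [DirectSum.Decomposition ℳ] :
    DirectSum.Decomposition (fam ℳ) := famDecomposition ℳ

theorem decompose_fam (ℳ : ι → τ) [DirectSum.Decomposition ℳ] (x : M) (g : ι) :
    ((DirectSum.decompose (fam ℳ) x) g : M) = ((DirectSum.decompose ℳ x) g : M) := by
  show ((DirectSum.map (toFamPiece ℳ) (DirectSum.decompose ℳ x)) g : M) = _
  rw [DirectSum.map_apply]
  rfl

end Fam

section Ring

variable {R : Type u} [CommRing R] {σ : Type u} [SetLike σ R] [AddSubgroupClass σ R]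
variable (𝒜 : ι → σ) [GradedRing 𝒜]

instance instFamGradedMonoid : SetLike.GradedMonoid (fam 𝒜) where
  one_mem := SetLike.GradedOne.one_mem (A := 𝒜)
  mul_mem _ _ _ _ ha hb := SetLike.GradedMul.mul_mem (A := 𝒜) ha hb

instance instFamGradedRing : GradedRing (fam 𝒜) where
  toDecomposition := famDecomposition 𝒜

variable {M : Type u} [AddCommGroup M] [Module R M] {τ : Type u} [SetLike τ M] [AddSubgroupClass τ M]
  (ℳ : ι → τ)

instance instFamGradedSMul [SetLike.GradedSMul 𝒜 ℳ] : SetLike.GradedSMul (fam 𝒜) (fam ℳ) where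
  smul_mem := by
    intro i j a b ha hb
    exact SetLike.GradedSMul.smul_mem (A := 𝒜) (B := ℳ) ha hb

/-- Graded scalar multiplication over the converted ring grading, for any family of pieces. -/
theorem gradedSMul_fam_left [SetLike.GradedSMul 𝒜 ℳ] : SetLike.GradedSMul (fam 𝒜) ℳ where
  smul_mem := by
    intro i j a b ha hb
    exact SetLike.GradedSMul.smul_mem (A := 𝒜) (B := ℳ) ha hb

/-- Graded scalar multiplication over the original ring grading, from the converted one. -/
theorem gradedSMul_of_fam_left [SetLike.GradedSMul (fam 𝒜) ℳ] : SetLike.GradedSMul 𝒜 ℳ where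
  smul_mem := by
    intro i j a b ha hb
    exact SetLike.GradedSMul.smul_mem (A := fam 𝒜) (B := ℳ) ha hb

end Ring

section GMod

variable {R : Type u} [CommRing R] {σ : Type u} [SetLike σ R] [AddSubgroupClass σ R]
variable (𝒜 : ι → σ) [GradedRing 𝒜]

/-- A bundled graded module over `𝒜` as a bundled graded module over the converted grading. -/
def toFam (X : GrLC.GMod.{u} 𝒜) : GrLC.GMod.{u} (fam 𝒜) :=
  { carrier := X.carrier
    gr := X.gr
    dec := X.dec
    gsmul := gradedSMul_fam_left 𝒜 X.gr }

/-- A bundled graded module over the converted grading as one over `𝒜`. -/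
def ofFam (X : GrLC.GMod.{u} (fam 𝒜)) : GrLC.GMod.{u} 𝒜 :=
  { carrier := X.carrier
    gr := X.gr
    dec := X.dec
    gsmul := gradedSMul_of_fam_left 𝒜 X.gr }

variable {L : Type u} [AddCommGroup L] [Module R L] (𝓛 : ι → AddSubgroup L)
  [DirectSum.Decomposition 𝓛] [SetLike.GradedSMul 𝒜 𝓛]

/-- *injectivity over `𝒜` gives *injectivity over the converted grading. -/
theorem isStarInj_fam (h : GrLC.IsStarInj 𝒜 𝓛) :
    @GrLC.IsStarInj ι _ _ R _ _ _ _ (fam 𝒜) _ L _ _ _ _ _ 𝓛 _ (gradedSMul_fam_left 𝒜 𝓛) := by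
  intro A B f hf hinj g hg
  exact h (ofFam 𝒜 A) (ofFam 𝒜 B) f hf hinj g hg

end GMod

section Res

variable {R : Type u} [CommRing R] {σ : Type u} [SetLike σ R] [AddSubgroupClass σ R]
variable {𝒜 : ι → σ} [GradedRing 𝒜]
variable {M : Type u} [AddCommGroup M] [Module R M] {τ : Type u} [SetLike τ M] [AddSubgroupClass τ M]
  {ℳ : ι → τ} [DirectSum.Decomposition ℳ] [SetLike.GradedSMul 𝒜 ℳ]

/-- The converted *injective resolution: same terms, differentials and augmentation. -/
def convRes (E : GrLC.StarInjRes 𝒜 ℳ) : GrLC.StarInjRes (fam 𝒜) (fam ℳ) where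
  X n := toFam 𝒜 (E.X n)
  d n := E.d n
  ε := E.ε
  d_grHom n := E.d_grHom n
  ε_grHom := E.ε_grHom
  ε_injective := E.ε_injective
  exact_zero := E.exact_zero
  exact_succ := E.exact_succ
  starInj n := isStarInj_fam 𝒜 (E.X n).gr (E.starInj n)

/-- The converted homogeneous ideal: same underlying ideal. -/
def convIdeal (a : HomogeneousIdeal 𝒜) : HomogeneousIdeal (fam 𝒜) :=
  ⟨a.toIdeal, fun g r hr => by
    have h := a.isHomogeneous g hr
    rw [decompose_fam]
    exact h⟩

@[simp] theorem convIdeal_toIdeal (a : HomogeneousIdeal 𝒜) : (convIdeal a).toIdeal = a.toIdeal := rfl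

theorem mem_Hcomp_conv (E : GrLC.StarInjRes 𝒜 ℳ) (a : HomogeneousIdeal 𝒜) (i : ℕ) (g : ι)
    (x : E.H a i) : x ∈ (convRes E).Hcomp (convIdeal a) i g ↔ x ∈ E.Hcomp a i g := Iff.rfl

theorem Hcomp_conv_eq_bot_iff (E : GrLC.StarInjRes 𝒜 ℳ) (a : HomogeneousIdeal 𝒜) (i : ℕ) (g : ι) :
    (convRes E).Hcomp (convIdeal a) i g = ⊥ ↔ E.Hcomp a i g = ⊥ := by
  rw [Submodule.eq_bot_iff, Submodule.eq_bot_iff]
  exact Iff.rfl

theorem Hgr_conv (E : GrLC.StarInjRes 𝒜 ℳ) (a : HomogeneousIdeal 𝒜) (i : ℕ) :
    (convRes E).Hgr (convIdeal a) i = E.Hgr a i := by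
  funext g
  ext x
  exact Iff.rfl

end Res

end Groth.Agent.R2.H72.GrConv
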