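import Groth.Agent.R2.H72GrLCLES

/-!
# Free graded modules with chosen basis degrees, as bundled graded modules (helper72)

`freeG deg` is `Fin m → R` with `v` homogeneous of degree `g` iff `v b ∈ 𝒜 (g - deg b)` for all `b`, i.e.
the direct sum of the shifted copies `R(-deg b)`.  Matrices with homogeneous entries of the right degrees
and linear combinations of homogeneous elements are homogeneous maps; the local cohomology of `freeG deg`
vanishes where that of all the `R(-deg b)` does.
-/

set_option autoImplicit false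
set_option linter.unusedSectionVars false
open DirectSum

noncomputable section

namespace Groth.Agent.R2.H72.GrFree

open Groth.Agent.R2.H72.GrLCBasic Groth.Agent.R2.H72.GrMod Groth.Agent.R2.H72.GrLCLES

universe u

variable {ι : Type} [AddCommGroup ι] [DecidableEq ι]
variable {R : Type u} [CommRing R] {𝒜 : ι → AddSubgroup R} [GradedRing 𝒜]

variable (𝒜) in
/-- The ring as a graded module over itself. -/
def Sg : GrLC.GMod.{u} 𝒜 := GrLC.GMod.of 𝒜 R 𝒜

section Free

variable {m : ℕ} (deg : Fin m → ι)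

variable (𝒜) in
/-- The pieces of the free graded module with basis degrees `deg`. -/
def freeGr (g : ι) : AddSubgroup (Fin m → R) where
  carrier := {v | ∀ b, v b ∈ 𝒜 (g - deg b)}
  zero_mem' := fun _ => zero_mem _
  add_mem' := fun hv hw b => add_mem (hv b) (hw b)
  neg_mem' := fun hv b => neg_mem (hv b)

theorem mem_freeGr {g : ι} {v : Fin m → R} : v ∈ freeGr 𝒜 deg g ↔ ∀ b, v b ∈ 𝒜 (g - deg b) :=
  Iff.rfl

theorem single_mem_freeGr (b : Fin m) {h : ι} {x : R} (hx : x ∈ 𝒜 h) :
    Pi.single b x ∈ freeGr 𝒜 deg (h + deg b) := by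
  intro b'
  by_cases hb : b' = b
  · subst hb
    rw [Pi.single_eq_same, add_sub_cancel_right]
    exact hx
  · rw [Pi.single_eq_of_ne hb]
    exact zero_mem _

/-- A homogeneous element of the ring placed in one coordinate. -/
def singlePiece (b : Fin m) (h : ι) : ↥(𝒜 h) →+ ↥(freeGr 𝒜 deg (h + deg b)) where
  toFun x := ⟨Pi.single b (x : R), single_mem_freeGr deg b x.2⟩
  map_zero' := Subtype.ext (Pi.single_zero b)
  map_add' x y := Subtype.ext (by
    show (Pi.single b ((x + y : ↥(𝒜 h)) : R) : Fin m → R) =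
      (Pi.single b (x : R) : Fin m → R) + (Pi.single b (y : R) : Fin m → R)
    rw [AddSubgroup.coe_add, Pi.single_add])

theorem singlePiece_coe (b : Fin m) (h : ι) (x : ↥(𝒜 h)) :
    ((singlePiece deg b h x : ↥(freeGr 𝒜 deg (h + deg b))) : Fin m → R) = Pi.single b (x : R) := rfl

/-- The decomposition of the `b`-th coordinate. -/
def coordDec (b : Fin m) : R →+ ⨁ g, freeGr 𝒜 deg g :=
  (DirectSum.toAddMonoid fun h =>
      (DirectSum.of (fun g => ↥(freeGr 𝒜 deg g)) (h + deg b)).comp (singlePiece deg b h)).comp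
    (DirectSum.decomposeAddEquiv 𝒜).toAddMonoidHom

theorem coe_toAddMonoid_single (b : Fin m) (y : ⨁ h, 𝒜 h) :
    DirectSum.coeAddMonoidHom (freeGr 𝒜 deg)
      (DirectSum.toAddMonoid (fun h =>
        (DirectSum.of (fun g => ↥(freeGr 𝒜 deg g)) (h + deg b)).comp (singlePiece deg b h)) y) =
      Pi.single b (DirectSum.coeAddMonoidHom 𝒜 y) := by
  classical
  induction y using DirectSum.induction_on with
  | zero => rw [map_zero, map_zero, map_zero, Pi.single_zero]
  | of h x =>
    rw [DirectSum.toAddMonoid_of, AddMonoidHom.comp_apply, DirectSum.coeAddMonoidHom_of,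
      DirectSum.coeAddMonoidHom_of]
    exact singlePiece_coe deg b h x
  | add x y hx hy => rw [map_add, map_add, map_add, hx, hy, Pi.single_add]

theorem coe_coordDec (b : Fin m) (x : R) :
    DirectSum.coeAddMonoidHom (freeGr 𝒜 deg) (coordDec deg b x) = Pi.single b x := by
  unfold coordDec
  rw [AddMonoidHom.comp_apply, coe_toAddMonoid_single]
  congr 1
  exact DirectSum.Decomposition.left_inv x

theorem of_congr {𝒢 : ι → AddSubgroup (Fin m → R)} {i j : ι} (h : i = j) (v : Fin m → R)
    (hv : v ∈ 𝒢 i) (hv' : v ∈ 𝒢 j) :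
    DirectSum.of (fun g => ↥(𝒢 g)) i ⟨v, hv⟩ = DirectSum.of (fun g => ↥(𝒢 g)) j ⟨v, hv'⟩ := by
  subst h
  rfl

theorem coordDec_of_mem (b : Fin m) {g : ι} {x : R} (hx : x ∈ 𝒜 (g - deg b))
    (hv : Pi.single b x ∈ freeGr 𝒜 deg g) :
    coordDec deg b x = DirectSum.of (fun g => ↥(freeGr 𝒜 deg g)) g ⟨Pi.single b x, hv⟩ := by
  unfold coordDec
  rw [AddMonoidHom.comp_apply]
  have h1 : (DirectSum.decomposeAddEquiv 𝒜).toAddMonoidHom x =
      DirectSum.of (fun h => ↥(𝒜 h)) (g - deg b) ⟨x, hx⟩ := DirectSum.decompose_of_mem 𝒜 hx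
  rw [h1, DirectSum.toAddMonoid_of, AddMonoidHom.comp_apply]
  show DirectSum.of (fun g => ↥(freeGr 𝒜 deg g)) (g - deg b + deg b)
    ⟨Pi.single b x, single_mem_freeGr deg b hx⟩ = _
  exact of_congr (sub_add_cancel g (deg b)) _ _ hv

/-- The decomposition map of the free graded module. -/
def freeDecHom : (Fin m → R) →+ ⨁ g, freeGr 𝒜 deg g :=
  ∑ b : Fin m, (coordDec (𝒜 := 𝒜) deg b).comp (Pi.evalAddMonoidHom (fun _ : Fin m => R) b)

theorem freeDecHom_apply (v : Fin m → R) :
    freeDecHom (𝒜 := 𝒜) deg v = ∑ b : Fin m, coordDec deg b (v b) := by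
  unfold freeDecHom
  rw [AddMonoidHom.finsetSum_apply]
  rfl

/-- The decomposition of the free graded module. -/
@[instance_reducible]
def freeDecomposition : DirectSum.Decomposition (freeGr 𝒜 deg) :=
  DirectSum.Decomposition.ofAddHom (freeGr 𝒜 deg) (freeDecHom deg)
    (by
      apply AddMonoidHom.ext
      intro v
      rw [AddMonoidHom.comp_apply, freeDecHom_apply, map_sum]
      simp_rw [coe_coordDec]
      exact Finset.univ_sum_single v)
    (by
      apply DirectSum.addHom_ext
      rintro g ⟨v, hv⟩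
      rw [AddMonoidHom.comp_apply, DirectSum.coeAddMonoidHom_of, freeDecHom_apply,
        AddMonoidHom.id_apply]
      have hs : ∀ b, Pi.single b (v b) ∈ freeGr 𝒜 deg g := by
        intro b
        have h := single_mem_freeGr deg b (hv b)
        rw [sub_add_cancel] at h
        exact h
      have h1 : ∀ b ∈ Finset.univ, coordDec deg b (v b) =
          DirectSum.of (fun g => ↥(freeGr 𝒜 deg g)) g ⟨Pi.single b (v b), hs b⟩ :=
        fun b _ => coordDec_of_mem deg b (hv b) (hs b)
      rw [Finset.sum_congr rfl h1, ← map_sum]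
      congr 1
      apply Subtype.ext
      rw [AddSubgroup.val_finsetSum]
      exact Finset.univ_sum_single v)

theorem free_gradedSMul : SetLike.GradedSMul 𝒜 (freeGr 𝒜 deg) where
  smul_mem := by
    intro i j x v hx hv b
    have h := SetLike.GradedMul.mul_mem (A := 𝒜) hx (hv b)
    rw [vadd_eq_add, add_sub_assoc]
    exact h

variable (𝒜) in
/-- The free graded module with basis degrees `deg`. -/
def freeG : GrLC.GMod.{u} 𝒜 :=
  { carrier := Fin m → R
    gr := freeGr 𝒜 deg
    dec := freeDecomposition deg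
    gsmul := free_gradedSMul deg }

/-! ### Homogeneous maps from and between free graded modules -/

theorem mulVecLin_grHom {n : ℕ} (deg' : Fin n → ι) (D : Matrix (Fin m) (Fin n) R)
    (hD : ∀ a b, D a b ∈ 𝒜 (deg' b - deg a)) :
    GrLC.IsGrHom (freeG 𝒜 deg').gr (freeG 𝒜 deg).gr (Matrix.mulVecLin D) := by
  intro g v hv a
  rw [Matrix.mulVecLin_apply]
  show ∑ b, D a b * v b ∈ 𝒜 (g - deg a)
  apply sum_mem
  intro b _
  have h := SetLike.GradedMul.mul_mem (A := 𝒜) (hD a b) (hv b)
  have e : deg' b - deg a + (g - deg' b) = g - deg a := by abel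
  rw [e] at h
  exact h

theorem linearCombination_grHom (X : GrLC.GMod.{u} 𝒜) (aug : Fin m → X.carrier)
    (haug : ∀ b, aug b ∈ X.gr (deg b)) :
    GrLC.IsGrHom (freeG 𝒜 deg).gr X.gr (Fintype.linearCombination R aug) := by
  intro g v hv
  rw [Fintype.linearCombination_apply]
  apply sum_mem
  intro b _
  have h := SetLike.GradedSMul.smul_mem (A := 𝒜) (B := X.gr) (hv b) (haug b)
  rw [vadd_eq_add, sub_add_cancel] at h
  exact h

end Free

/-! ### Local cohomology of a free graded module -/

section FreeVan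

variable {a : HomogeneousIdeal 𝒜}

theorem sesFree_aux1 {m : ℕ} (deg : Fin (m + 1) → ι) (g : ι) (x : R) (hx : x ∈ 𝒜 (g + -deg 0))
    (b : Fin (m + 1)) : (Pi.single (0 : Fin (m + 1)) x : Fin (m + 1) → R) b ∈ 𝒜 (g - deg b) := by
  by_cases hb : b = 0
  · subst hb
    rw [Pi.single_eq_same, sub_eq_add_neg]
    exact hx
  · rw [Pi.single_eq_of_ne hb]
    exact zero_mem _

theorem sesFree_aux2 {m : ℕ} (w : Fin m → R) :
    (fun b : Fin m => (Fin.cons 0 w : Fin (m + 1) → R) b.succ) = w := by
  funext b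
  rw [Fin.cons_succ]

theorem sesFree_aux3 {m : ℕ} (v : Fin (m + 1) → R) (hv : (fun b : Fin m => v b.succ) = 0) :
    (Pi.single (0 : Fin (m + 1)) (v 0) : Fin (m + 1) → R) = v := by
  funext b
  refine Fin.cases ?_ (fun b' => ?_) b
  · rw [Pi.single_eq_same]
  · rw [Pi.single_eq_of_ne (Fin.succ_ne_zero b')]
    exact (congrFun hv b').symm

theorem sesFree_aux4 {m : ℕ} (x : R) :
    (fun b : Fin m => (Pi.single (0 : Fin (m + 1)) x : Fin (m + 1) → R) b.succ) = 0 := by
  funext b
  rw [Pi.single_eq_of_ne (Fin.succ_ne_zero b)]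
  rfl

theorem sesFree_aux5 {m : ℕ} :
    Function.Injective (fun x : R => (Pi.single (0 : Fin (m + 1)) x : Fin (m + 1) → R)) :=
  Pi.single_injective (M := fun _ : Fin (m + 1) => R) 0

theorem sesFree_aux6 {m : ℕ} (v : Fin (m + 1) → R) :
    (fun b : Fin m => v b.succ) = 0 ↔
      ∃ x : R, (Pi.single (0 : Fin (m + 1)) x : Fin (m + 1) → R) = v := by
  constructor
  · intro hv
    exact ⟨v 0, sesFree_aux3 v hv⟩
  · rintro ⟨x, rfl⟩
    exact sesFree_aux4 x

/-- `0 → R(-deg 0) → free (m+1) → free m → 0`. -/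
def sesFree {m : ℕ} (deg : Fin (m + 1) → ι) :
    SES (shiftG (Sg 𝒜) (-deg 0)) (freeG 𝒜 deg) (freeG 𝒜 (fun b : Fin m => deg b.succ)) where
  f := LinearMap.single R (fun _ : Fin (m + 1) => R) 0
  g := LinearMap.funLeft R R Fin.succ
  f_gr := fun g x hx b => sesFree_aux1 (R := R) (𝒜 := 𝒜) deg g x hx b
  g_gr := fun _ _ hv b => hv b.succ
  f_inj := sesFree_aux5 (R := R)
  g_surj := fun w => ⟨Fin.cons 0 w, sesFree_aux2 w⟩
  exact v := sesFree_aux6 (R := R) v

/-- The local cohomology of a free graded module vanishes where that of all its summands does. -/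
theorem van_freeG (i : ℕ) (e : ι) : ∀ (m : ℕ) (deg : Fin m → ι),
    (∀ b, Van a (Sg 𝒜) i (e - deg b)) → Van a (freeG 𝒜 deg) i e
  | 0, deg, _ => by
    have : Subsingleton (freeG 𝒜 deg).carrier :=
      inferInstanceAs (Subsingleton (Fin 0 → R))
    exact van_of_subsingleton a _ i e
  | m + 1, deg, h => by
    have h1 : Van a (shiftG (Sg 𝒜) (-deg 0)) i e := by
      rw [van_shiftG, ← sub_eq_add_neg]
      exact h 0
    have h2 : Van a (freeG 𝒜 (fun b : Fin m => deg b.succ)) i e :=
      van_freeG i e m _ (fun b => h b.succ)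
    exact van_mid (sesFree deg) i e h1 h2

end FreeVan

end Groth.Agent.R2.H72.GrFree
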