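import Groth.Agent.R2.H72GrSerreCtx

/-!
# The degree of the Hilbert polynomial is less than the dimension (helper72)

For a standard graded Noetherian *local ring `(R, m)` with `R_0` Artinian and a finitely generated graded module
`M` with `dim Supp M ≤ s`, the function `g_M(n) = H_M(n) - Σ_i (-1)^i ℓ(H^i_m(M)_n)` (which is the Hilbert
polynomial of `M`) has vanishing `s`-th difference: `deg P_M < s`.

* operators on functions `ℤ → ℚ`: `key_ops`;
* homogeneous prime avoidance for positively `ℤ`-graded rings: `exists_homogeneous_avoid`;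
* `Dl_pow_gq_of_supportDim_le`.
-/

set_option autoImplicit false
set_option linter.unusedSectionVars false
open DirectSum
open scoped Pointwise

noncomputable section

namespace Groth.Agent.R2.H72.GrHilbDim

open Groth.Agent.R2.H72.GrBddLocal Groth.Agent.R2.H72.GrArt Groth.Agent.R2.H72.GrMono
  Groth.Agent.R2.H72.GrDim Groth.Agent.R2.H72.GrSerre Groth.Agent.R2.H72.GrMod
  Groth.Agent.R2.H72.GrSerreCtx Groth.Agent.R2.H72.GrLCLES Groth.Agent.R2.H72.GrLCTors
  Groth.Agent.R2.H72.GrBdd Groth.Agent.R2.H72.GrFinH Groth.Agent.R2.H72.GrRegGen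
  Groth.Agent.R2.H72.GrAInv

universe u

/-! ### Operators on functions `ℤ → ℚ` -/

section Ops

/-- The backward shift `f ↦ f(· - 1)`. -/
def Tsh : Module.End ℚ (ℤ → ℚ) := 1 - Dl

theorem Tsh_apply (f : ℤ → ℚ) (n : ℤ) : Tsh f n = f (n + -1) := by
  unfold Tsh
  rw [LinearMap.sub_apply, Pi.sub_apply, Dl_apply]
  simp

theorem Tsh_pow_apply (k : ℕ) (f : ℤ → ℚ) (n : ℤ) : (Tsh ^ k) f n = f (n + -(k : ℤ)) := by
  induction k generalizing n with
  | zero => simp
  | succ k ih =>
    rw [pow_succ', Module.End.mul_apply, Tsh_apply, ih]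
    congr 1
    push_cast
    ring

/-- The evaluation of polynomials at the difference operator. -/
def A : Polynomial ℚ →ₐ[ℚ] Module.End ℚ (ℤ → ℚ) := Polynomial.aeval Dl

theorem A_X : A Polynomial.X = Dl := Polynomial.aeval_X Dl

theorem A_X_pow (j : ℕ) : A (Polynomial.X ^ j) = Dl ^ j := by
  rw [map_pow, A_X]

theorem A_mul_apply (p q : Polynomial ℚ) (f : ℤ → ℚ) : A (p * q) f = A p (A q f) := by
  rw [map_mul, Module.End.mul_apply]

theorem A_one_sub_X : A (1 - Polynomial.X) = Tsh := by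
  unfold Tsh
  rw [map_sub, map_one, A_X]

/-- If `g` is killed by a power of `Dl` and by `k + Dl W` with `k ≠ 0` then `g = 0`. -/
theorem eq_zero_of_A (N : ℕ) (k : ℚ) (hk : k ≠ 0) (W : Polynomial ℚ) (g : ℤ → ℚ)
    (hN : (Dl ^ N) g = 0) (h : A (Polynomial.C k + Polynomial.X * W) g = 0) : g = 0 := by
  induction N with
  | zero => simpa using hN
  | succ j ih =>
    apply ih
    have e : Polynomial.X ^ j * (Polynomial.C k + Polynomial.X * W)
        = Polynomial.C k * Polynomial.X ^ j + W * Polynomial.X ^ (j + 1) := by ring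
    have h1 : A (Polynomial.X ^ j * (Polynomial.C k + Polynomial.X * W)) g = 0 := by
      rw [A_mul_apply, h, map_zero]
    rw [e, map_add, LinearMap.add_apply, A_mul_apply, A_mul_apply, A_X_pow, A_X_pow, hN, map_zero,
      add_zero] at h1
    have h2 : A (Polynomial.C k) ((Dl ^ j) g) = k • (Dl ^ j) g := by
      unfold A
      rw [Polynomial.aeval_C]
      rfl
    rw [h2] at h1
    exact (smul_eq_zero.1 h1).resolve_left hk

/-- The key step: if `f` is polynomial-like and its `k`-step difference has vanishing `s`-th difference then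
`f` has vanishing `(s+1)`-st difference. -/
theorem key_ops (N s k : ℕ) (hk : 0 < k) (f : ℤ → ℚ) (hN : (Dl ^ N) f = 0)
    (h : (Dl ^ s) (f - (Tsh ^ k) f) = 0) : (Dl ^ (s + 1)) f = 0 := by
  let p : Polynomial ℚ := ∑ j ∈ Finset.range k, (1 - Polynomial.X) ^ j
  have hp : Polynomial.X * p = 1 - (1 - Polynomial.X) ^ k := by
    have := mul_neg_geom_sum (1 - Polynomial.X : Polynomial ℚ) k
    rw [sub_sub_cancel] at this
    exact this
  have hp0 : p.eval 0 = (k : ℚ) := by
    simp [p, Polynomial.eval_finsetSum]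
  obtain ⟨W, hW⟩ : Polynomial.X ∣ p - Polynomial.C (k : ℚ) := by
    rw [Polynomial.X_dvd_iff, Polynomial.coeff_sub, Polynomial.coeff_C_zero,
      Polynomial.coeff_zero_eq_eval_zero, hp0, sub_self]
  have hpW : p = Polynomial.C (k : ℚ) + Polynomial.X * W := by
    rw [← hW]
    ring
  have h1 : f - (Tsh ^ k) f = A (Polynomial.X * p) f := by
    rw [hp, map_sub, map_one, map_pow, A_one_sub_X]
    rfl
  rw [h1, ← A_X_pow, ← A_mul_apply] at h
  have e : Polynomial.X ^ s * (Polynomial.X * p) = p * Polynomial.X ^ (s + 1) := by ring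
  rw [e, A_mul_apply, A_X_pow] at h
  apply eq_zero_of_A N (k : ℚ) (by exact_mod_cast hk.ne') W
  · rw [← Module.End.mul_apply, ← pow_add, add_comm, pow_add, Module.End.mul_apply, hN, map_zero]
  · rw [← hpW]
    exact h

/-- If the `d`-th difference of `f` vanishes and `f(-1) = ⋯ = f(-d) = 0` then `f(0) = 0`. -/
theorem eq_zero_at_zero (d : ℕ) : ∀ (f : ℤ → ℚ), (Dl ^ d) f = 0 →
    (∀ j : ℕ, 1 ≤ j → j ≤ d → f (-(j : ℤ)) = 0) → f 0 = 0 := by
  induction d with
  | zero =>
    intro f h _
    have := congrFun h 0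
    simpa using this
  | succ d ih =>
    intro f h hf
    have h1 : (Dl ^ d) (Dl f) = 0 := by
      rw [← Module.End.mul_apply, ← pow_succ]
      exact h
    have h2 := ih (Dl f) h1 (fun j hj1 hjd => by
      rw [Dl_apply, hf j hj1 (by omega)]
      have := hf (j + 1) (by omega) (by omega)
      have e : -(j : ℤ) + -1 = -((j + 1 : ℕ) : ℤ) := by push_cast; ring
      rw [e, this, sub_zero])
    rw [Dl_apply] at h2
    have h3 := hf 1 le_rfl (by omega)
    have e : (0 : ℤ) + -1 = -((1 : ℕ) : ℤ) := by norm_num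
    rw [e, h3, sub_zero] at h2
    exact h2

end Ops

/-! ### Homogeneous prime avoidance (after helper22's `Lib/Helper22GrAvoid`, for `ℤ`-gradings) -/

section Avoid

variable {R : Type u} [CommRing R] {𝒜 : ℤ → AddSubgroup R} [GradedRing 𝒜]

theorem exists_single (hpos : ∀ n : ℤ, n < 0 → 𝒜 n = ⊥) (I : Ideal R) (hIh : I.IsHomogeneous 𝒜)
    (hI : I ≤ (irrH 𝒜).toIdeal) (p : Ideal R) (h : ¬ I ≤ p) :
    ∃ (x : R) (d : ℕ), 0 < d ∧ x ∈ 𝒜 (d : ℤ) ∧ x ∈ I ∧ x ∉ p := by
  classical
  obtain ⟨z, hzI, hzp⟩ := Set.not_subset.mp h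
  by_contra hcon
  push Not at hcon
  apply hzp
  rw [← DirectSum.sum_support_decompose 𝒜 z]
  apply Ideal.sum_mem
  intro i _
  rcases lt_trichotomy i 0 with hi | hi | hi
  · have hz : ((decompose 𝒜 z) i : R) = 0 :=
      Groth.Agent.Lib.Helper29GrStd.eq_zero_of_mem_of_eq_bot (hpos i hi) ((decompose 𝒜 z) i).2
    rw [hz]
    exact zero_mem _
  · rw [hi, decompose_irrH_eq_zero hpos z (hI hzI) 0 le_rfl]
    exact zero_mem _
  · have hi' : ((i.toNat : ℕ) : ℤ) = i := Int.toNat_of_nonneg hi.le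
    refine hcon _ i.toNat (by omega) ?_ (hIh i hzI)
    rw [hi']
    exact ((decompose 𝒜 z) i).2

theorem exists_homogeneous_avoid (hpos : ∀ n : ℤ, n < 0 → 𝒜 n = ⊥) (I : Ideal R)
    (hIh : I.IsHomogeneous 𝒜) (hI : I ≤ (irrH 𝒜).toIdeal) (P : Finset (Ideal R))
    (hP : ∀ p ∈ P, p.IsPrime ∧ ¬ I ≤ p) :
    ∃ (x : R) (d : ℕ), 0 < d ∧ x ∈ 𝒜 (d : ℤ) ∧ x ∈ I ∧ ∀ p ∈ P, x ∉ p := by
  classical
  induction P using Finset.strongInduction with
  | H P ih =>
    rcases P.eq_empty_or_nonempty with rfl | ⟨q, hq⟩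
    · exact ⟨0, 1, one_pos, zero_mem _, zero_mem _, by simp⟩
    · by_cases hE : P.erase q = ∅
      · obtain ⟨x, d, hd, hxd, hxI, hxq⟩ := exists_single hpos I hIh hI q (hP q hq).2
        refine ⟨x, d, hd, hxd, hxI, fun p hp => ?_⟩
        have : p = q := by
          by_contra hne
          have : p ∈ P.erase q := Finset.mem_erase.mpr ⟨hne, hp⟩
          rw [hE] at this
          simp at this
        rw [this]
        exact hxq
      · have key : ∀ p ∈ P, ∃ (x : R) (d : ℕ), 0 < d ∧ x ∈ 𝒜 (d : ℤ) ∧ x ∈ I ∧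
            ∀ p' ∈ P.erase p, x ∉ p' := fun p hp =>
          ih (P.erase p) (Finset.erase_ssubset hp)
            (fun p' hp' => hP p' (Finset.mem_of_mem_erase hp'))
        choose! x d hd hxd hxI hxa using key
        by_cases hex : ∃ p ∈ P, x p ∉ p
        · obtain ⟨p, hp, hxp⟩ := hex
          refine ⟨x p, d p, hd p hp, hxd p hp, hxI p hp, fun p' hp' => ?_⟩
          by_cases h : p' = p
          · rw [h]; exact hxp
          · exact hxa p hp p' (Finset.mem_erase.mpr ⟨h, hp'⟩)
        · push Not at hex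
          obtain ⟨p0, hp0⟩ := Finset.nonempty_iff_ne_empty.mpr hE
          have hp0P : p0 ∈ P := Finset.mem_of_mem_erase hp0
          set y := ∏ p ∈ P.erase q, x p with hy
          set a := ∑ p ∈ P.erase q, d p with ha'
          have hya : y ∈ 𝒜 (a : ℤ) := by
            have := SetLike.prod_mem_graded 𝒜 (fun p => (d p : ℤ)) x (F := P.erase q)
              (fun p hp => hxd p (Finset.mem_of_mem_erase hp))
            rw [ha', Nat.cast_sum]
            exact this
          have ha : 0 < a :=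
            lt_of_lt_of_le (hd p0 hp0P)
              (Finset.single_le_sum (f := d) (fun _ _ => Nat.zero_le _) hp0)
          have hb : 0 < d q := hd q hq
          have hyI : y ∈ I := Ideal.prod_mem I hp0 (hxI p0 hp0P)
          refine ⟨y ^ d q + x q ^ a, a * d q, Nat.mul_pos ha hb, ?_, ?_, ?_⟩
          · apply AddSubgroup.add_mem
            · have := SetLike.pow_mem_graded (d q) hya
              rw [nsmul_eq_mul] at this
              have e : ((a * d q : ℕ) : ℤ) = (d q : ℤ) * (a : ℤ) := by push_cast; ring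
              rw [e]
              exact this
            · have := SetLike.pow_mem_graded a (hxd q hq)
              rw [nsmul_eq_mul] at this
              have e : ((a * d q : ℕ) : ℤ) = (a : ℤ) * (d q : ℤ) := by push_cast; ring
              rw [e]
              exact this
          · exact Ideal.add_mem _ (Ideal.pow_mem_of_mem _ hyI _ hb)
              (Ideal.pow_mem_of_mem _ (hxI q hq) _ ha)
          · intro p hp
            have hpp : p.IsPrime := (hP p hp).1
            by_cases h : p = q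
            · intro hmem
              have h1 : x q ^ a ∈ p := by
                rw [h]; exact Ideal.pow_mem_of_mem _ (hex q hq) _ ha
              have h2 : y ^ d q ∈ p := (Ideal.add_mem_iff_left _ h1).mp hmem
              have h3 : y ∈ p := hpp.mem_of_pow_mem _ h2
              obtain ⟨p', hp', hxp'⟩ := (Ideal.IsPrime.prod_mem_iff).mp h3
              rw [h] at hxp'
              exact hxa p' (Finset.mem_of_mem_erase hp') q
                (Finset.mem_erase.mpr ⟨(Finset.ne_of_mem_erase hp').symm, hq⟩) hxp'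
            · intro hmem
              have hyp : y ∈ p := Ideal.prod_mem p (Finset.mem_erase.mpr ⟨h, hp⟩) (hex p hp)
              have h1 : y ^ d q ∈ p := Ideal.pow_mem_of_mem _ hyp _ hb
              have h2 : x q ^ a ∈ p := (Ideal.add_mem_iff_right _ h1).mp hmem
              have h3 := hpp.mem_of_pow_mem _ h2
              exact hxa q hq p (Finset.mem_erase.mpr ⟨h, hp⟩) h3

end Avoid

/-! ### Homogeneous regular elements -/

section Reg

variable {R : Type u} [CommRing R] [IsNoetherianRing R] {𝒜 : ℤ → AddSubgroup R} [GradedRing 𝒜]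
  [IsArtinianRing (GrLC.deg0 𝒜)]

/-- A finitely generated graded module without `m`-torsion over a positively graded *local ring with Artinian
`R_0` has a homogeneous non-zerodivisor of positive degree which avoids the minimal primes of its support. -/
theorem exists_regular (hpos : ∀ n : ℤ, n < 0 → 𝒜 n = ⊥) (m : HomogeneousIdeal 𝒜)
    (hm : GrLC.IsStarLocal 𝒜 m) (X : GrLC.GMod.{u} 𝒜) [Module.Finite R X.carrier]
    (hΓ : GrLC.gam m.toIdeal X.carrier = ⊥) :
    ∃ (x : R) (k : ℕ), 0 < k ∧ x ∈ 𝒜 (k : ℤ) ∧ (∀ y : X.carrier, x • y = 0 → y = 0) ∧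
      ∀ p ∈ (Module.annihilator R X.carrier).minimalPrimes, x ∉ p := by
  classical
  obtain ⟨N, hN⟩ := exists_pow_le_irrH hpos m hm
  have hfin : (associatedPrimes R X.carrier).Finite := associatedPrimes.finite R X.carrier
  have hP : ∀ p ∈ hfin.toFinset, p.IsPrime ∧ ¬ (irrH 𝒜).toIdeal ≤ p := by
    intro p hp
    rw [Set.Finite.mem_toFinset] at hp
    have hp' : IsAssociatedPrime p X.carrier := hp
    refine ⟨hp'.isPrime, ?_⟩
    intro hle
    obtain ⟨hprime, y, hy⟩ := isAssociatedPrime_iff.1 hp'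
    have hyΓ : y ∈ GrLC.gam m.toIdeal X.carrier := by
      refine ⟨N, fun r hr => ?_⟩
      have h1 : r ∈ p := hle (hN hr)
      rw [hy, Submodule.mem_colon_singleton, Submodule.mem_bot] at h1
      exact h1
    rw [hΓ, Submodule.mem_bot] at hyΓ
    apply hprime.ne_top
    rw [hy, hyΓ, Ideal.eq_top_iff_one, Submodule.mem_colon_singleton, smul_zero]
    exact zero_mem _
  obtain ⟨x, k, hk, hxk, -, hx⟩ := exists_homogeneous_avoid hpos (irrH 𝒜).toIdeal
    (irrH 𝒜).isHomogeneous le_rfl hfin.toFinset hP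
  refine ⟨x, k, hk, hxk, ?_, ?_⟩
  · intro y hxy
    by_contra hy0
    have h1 : x ∈ {r : R | ∃ z : X.carrier, z ≠ 0 ∧ r • z = 0} := ⟨y, hy0, hxy⟩
    rw [← biUnion_associatedPrimes_eq_zero_divisors R X.carrier] at h1
    obtain ⟨p, hp, hxp⟩ := Set.mem_iUnion₂.1 h1
    exact hx p ((Set.Finite.mem_toFinset hfin).2 hp) hxp
  · intro p hp
    exact hx p ((Set.Finite.mem_toFinset hfin).2
      (Module.associatedPrimes.minimalPrimes_annihilator_subset_associatedPrimes R X.carrier hp))

end Reg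

/-! ### Graded Nakayama and invariance under isomorphisms -/

section Nak

variable {R : Type u} [CommRing R] {𝒜 : ℤ → AddSubgroup R} [GradedRing 𝒜]

/-- Graded Nakayama: a finitely generated graded module over a positively graded ring with `M = xM` for a
homogeneous `x` of positive degree is zero. -/
theorem eq_zero_of_smul_top_eq_top (hpos : ∀ n : ℤ, n < 0 → 𝒜 n = ⊥) (X : GrLC.GMod.{u} 𝒜)
    [Module.Finite R X.carrier] {x : R} {k : ℤ} (hk : 0 < k) (hx : x ∈ 𝒜 k)
    (h : x • (⊤ : Submodule R X.carrier) = ⊤) (y : X.carrier) : y = 0 := by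
  classical
  have hin : (⊤ : Submodule R X.carrier) ≤ Ideal.span {x} • (⊤ : Submodule R X.carrier) := by
    rw [Submodule.ideal_span_singleton_smul, h]
  obtain ⟨r, hr, hr0⟩ := Submodule.exists_sub_one_mem_and_smul_eq_zero_of_fg_of_le_smul
    (Ideal.span {x}) (⊤ : Submodule R X.carrier) Module.Finite.fg_top hin
  obtain ⟨t, ht⟩ := Ideal.mem_span_singleton'.1 hr
  have h0 : ((decompose 𝒜 (t * x)) 0 : R) = 0 := by
    rw [decompose_mul_zero hpos, DirectSum.decompose_of_mem_ne 𝒜 hx hk.ne', mul_zero]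
  have hhom : ∀ e, ∀ z ∈ X.gr e, z = 0 := by
    intro e z hz
    have h1 : r • z = 0 := hr0 z trivial
    have h2 : r = 1 + t * x := by rw [ht]; ring
    rw [h2, add_smul, one_smul] at h1
    have h3 : ((decompose X.gr (z + (t * x) • z)) e : X.carrier) = 0 := by
      rw [h1, DirectSum.decompose_zero]
      rfl
    rw [DirectSum.decompose_add, DirectSum.add_apply, AddSubgroup.coe_add,
      DirectSum.decompose_of_mem_same X.gr hz,
      Groth.Agent.Lib.Helper29GrEss.decompose_smul_of_mem_right 𝒜 X.gr hz (t * x) e, sub_self, h0,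
      zero_smul, add_zero] at h3
    exact h3
  rw [← DirectSum.sum_support_decompose X.gr y]
  apply Finset.sum_eq_zero
  intro e _
  exact hhom e _ ((decompose X.gr y) e).2

theorem hfun_congr {X Y : GrLC.GMod.{u} 𝒜} (f : X.carrier →ₗ[R] Y.carrier)
    (g : Y.carrier →ₗ[R] X.carrier) (hf : GrLC.IsGrHom X.gr Y.gr f) (hg : GrLC.IsGrHom Y.gr X.gr g)
    (hgf : g ∘ₗ f = LinearMap.id) (hfg : f ∘ₗ g = LinearMap.id) (n : ℤ) : hfun X n = hfun Y n := by
  unfold hfun
  apply len_congr
  exact LinearEquiv.ofLinearMap (compMap f hf n) (compMap g hg n)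
    (LinearMap.ext fun y => Subtype.ext (LinearMap.congr_fun hfg y.1))
    (LinearMap.ext fun y => Subtype.ext (LinearMap.congr_fun hgf y.1))

theorem gq_congr (a : HomogeneousIdeal 𝒜) (d : ℕ) {X Y : GrLC.GMod.{u} 𝒜}
    (f : X.carrier →ₗ[R] Y.carrier)
    (g : Y.carrier →ₗ[R] X.carrier) (hf : GrLC.IsGrHom X.gr Y.gr f) (hg : GrLC.IsGrHom Y.gr X.gr g)
    (hgf : g ∘ₗ f = LinearMap.id) (hfg : f ∘ₗ g = LinearMap.id) : gq a d X = gq a d Y := by
  funext n
  unfold gq gfun chi
  rw [hfun_congr f g hf hg hgf hfg n]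
  congr 2
  apply Finset.sum_congr rfl
  intro i _
  rw [hlen_congr a (LinearEquiv.ofLinearMap f g hfg hgf) hf hg i n]

end Nak

/-! ### The degree bound -/

section Bound

variable {R : Type u} [CommRing R] [IsNoetherianRing R] {𝒜 : ℤ → AddSubgroup R} [GradedRing 𝒜]
  [IsArtinianRing (GrLC.deg0 𝒜)]

/-- In a standard graded *local ring with `R_0` Artinian, the function `g_X` is polynomial-like. -/
theorem exists_Dl_pow_gq (hpos : ∀ n : ℤ, n < 0 → 𝒜 n = ⊥)
    (hstd : Ideal.span (⋃ n ∈ Set.Ioi (0 : ℤ), (𝒜 n : Set R)) = Ideal.span ((𝒜 1 : AddSubgroup R) : Set R))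
    (m : HomogeneousIdeal 𝒜) (hm : GrLC.IsStarLocal 𝒜 m) (d : ℕ)
    (hd : ringKrullDim R < ((d + 1 : ℕ) : WithBot ℕ∞)) :
    ∃ N : ℕ, ∀ (X : GrLC.GMod.{u} 𝒜) [Module.Finite R X.carrier], (Dl ^ N) (gq m d X) = 0 := by
  classical
  have hmax : (m0 m).IsMaximal := m0_isMaximal m hm
  have hle := irrH_le_of_isStarLocal hpos m hm
  obtain ⟨G, hG1, htorsG⟩ := exists_gens hpos hstd m hm
  refine ⟨G.card, fun X _ => ?_⟩
  apply Dl_pow_gq hpos hle d hd G hG1 htorsG G.card ∅ (Finset.empty_subset G) _ X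
  · intro x hx
    exact absurd hx (Finset.notMem_empty x)
  · rw [Finset.sdiff_empty]

/-- **The degree of the Hilbert polynomial is less than the dimension**: for a finitely generated graded module
`X` over a standard graded *local ring with `R_0` Artinian, `dim Supp X ≤ s` implies that the `s`-th difference
of `g_X` vanishes. -/
theorem Dl_pow_gq_of_supportDim_le (hpos : ∀ n : ℤ, n < 0 → 𝒜 n = ⊥)
    (hstd : Ideal.span (⋃ n ∈ Set.Ioi (0 : ℤ), (𝒜 n : Set R)) = Ideal.span ((𝒜 1 : AddSubgroup R) : Set R))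
    (m : HomogeneousIdeal 𝒜) (hm : GrLC.IsStarLocal 𝒜 m) (d : ℕ)
    (hd : ringKrullDim R < ((d + 1 : ℕ) : WithBot ℕ∞))
    (X : GrLC.GMod.{u} 𝒜) [Module.Finite R X.carrier] :
    ∀ s : ℕ, Module.supportDim R X.carrier ≤ (s : WithBot ℕ∞) → (Dl ^ s) (gq m d X) = 0 := by
  classical
  have hmax : (m0 m).IsMaximal := m0_isMaximal m hm
  have hle := irrH_le_of_isStarLocal hpos m hm
  obtain ⟨N, hN⟩ := exists_Dl_pow_gq hpos hstd m hm d hd
  have hNoeth : IsNoetherian R X.carrier := isNoetherian_of_isNoetherianRing_of_finite R X.carrier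
  refine gmod_induction
    (fun Y => ∀ s : ℕ, Module.supportDim R Y.carrier ≤ (s : WithBot ℕ∞) → (Dl ^ s) (gq m d Y) = 0)
    ?_ ?_ X
  · intro Y Z f g hf hg hgf hfg hY s hs
    rw [← gq_congr m d f g hf hg hgf hfg]
    apply hY s
    rw [Module.supportDim_eq_of_equiv (LinearEquiv.ofLinearMap f g hfg hgf)]
    exact hs
  · intro Y hYN ih s hs
    have hfin : Module.Finite R Y.carrier := Module.IsNoetherian.finite R Y.carrier
    by_cases hΓ : GrLC.gam m.toIdeal Y.carrier = ⊥
    · by_cases hY0 : ∀ y : Y.carrier, y = 0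
      · have htors : GrLC.gam m.toIdeal Y.carrier = ⊤ := by
          rw [eq_top_iff]
          intro y _
          rw [hY0 y]
          exact zero_mem _
        rw [gq_eq_zero_of_torsion d htors, map_zero]
      · obtain ⟨x, k, hk, hxk, hreg, hmin⟩ := exists_regular hpos m hm Y hΓ
        let P : Submodule R Y.carrier := x • (⊤ : Submodule R Y.carrier)
        have hP : P.IsHomogeneous Y.gr := smul_top_isHomogeneous Y hxk
        have hPne : P ≠ ⊥ := by
          intro hbot
          apply hY0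
          intro y
          apply hreg
          have h1 : x • y ∈ P := Submodule.smul_mem_pointwise_smul y x ⊤ Submodule.mem_top
          rw [hbot] at h1
          exact (Submodule.mem_bot R).1 h1
        have ihC := ih P hP hPne
        have hdim : Module.supportDim R (Y.carrier ⧸ P) + 1 ≤ Module.supportDim R Y.carrier :=
          Module.supportDim_quotSMulTop_succ_le_of_notMem_minimalPrimes hmin
        have hker : ∀ y : Y.carrier, P.mkQ y = 0 ↔ ∃ y', x • y' = y := by
          intro y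
          rw [Submodule.mkQ_apply, Submodule.Quotient.mk_eq_zero]
          constructor
          · intro h
            obtain ⟨y', -, h'⟩ := (Submodule.mem_smul_pointwise_iff_exists _ _ _).1 h
            exact ⟨y', h'⟩
          · rintro ⟨y', rfl⟩
            exact Submodule.smul_mem_pointwise_smul _ _ _ Submodule.mem_top
        have hfinC : Module.Finite R (quotG Y P hP).carrier :=
          inferInstanceAs (Module.Finite R (Y.carrier ⧸ P))
        have hfinS : Module.Finite R (shiftG Y (-(k : ℤ))).carrier :=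
          inferInstanceAs (Module.Finite R Y.carrier)
        have hrel : gq m d Y - (Tsh ^ k) (gq m d Y) = gq m d (quotG Y P hP) := by
          funext n
          have e1 := gfun_additive hpos hle d hd
            (sesReg (N := quotG Y P hP) hxk P.mkQ P.mkQ_surjective (quotG_mk_grHom Y P hP) hker hreg) n
          have e2 := gfun_shiftG (a := m) d Y (-(k : ℤ)) n
          rw [Pi.sub_apply, Tsh_pow_apply]
          unfold gq
          rw [e1, e2]
          push_cast
          ring
        cases s with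
        | zero =>
          exfalso
          have h1 : Module.supportDim R (Y.carrier ⧸ P) + 1 ≤ ((0 : ℕ) : WithBot ℕ∞) :=
            le_trans hdim hs
          have h2 : Module.supportDim R (Y.carrier ⧸ P) = ⊥ := by
            by_contra hne
            obtain ⟨c, hc⟩ := WithBot.ne_bot_iff_exists.1 hne
            rw [← hc] at h1
            have h3 : ((c + 1 : ℕ∞) : WithBot ℕ∞) ≤ ((0 : ℕ∞) : WithBot ℕ∞) := by
              exact_mod_cast h1
            have h4 : c + 1 ≤ (0 : ℕ∞) := WithBot.coe_le_coe.1 h3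
            simp at h4
          have h3 : Subsingleton (Y.carrier ⧸ P) := (Module.supportDim_eq_bot_iff_subsingleton R _).1 h2
          have h4 : P = ⊤ := Submodule.Quotient.subsingleton_iff.1 h3
          exact hY0 (eq_zero_of_smul_top_eq_top hpos Y (by exact_mod_cast hk) hxk h4)
        | succ s =>
          have h1 : Module.supportDim R (Y.carrier ⧸ P) ≤ (s : WithBot ℕ∞) := by
            have h2 : Module.supportDim R (Y.carrier ⧸ P) + 1 ≤ ((s + 1 : ℕ) : WithBot ℕ∞) :=
              le_trans hdim hs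
            rcases eq_or_ne (Module.supportDim R (Y.carrier ⧸ P)) ⊥ with h | hne
            · rw [h]
              exact bot_le
            · obtain ⟨c, hc⟩ := WithBot.ne_bot_iff_exists.1 hne
              rw [← hc] at h2 ⊢
              have h3 : ((c + 1 : ℕ∞) : WithBot ℕ∞) ≤ (((s : ℕ∞) + 1 : ℕ∞) : WithBot ℕ∞) := by
                exact_mod_cast h2
              have h4 : c + 1 ≤ (s : ℕ∞) + 1 := WithBot.coe_le_coe.1 h3
              have h5 : c ≤ (s : ℕ∞) := (ENat.add_le_add_iff_right ENat.one_ne_top).1 h4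
              exact_mod_cast WithBot.coe_le_coe.2 h5
          have h2 := ihC s h1
          rw [← hrel] at h2
          exact key_ops N s k hk (gq m d Y) (hN Y) h2
    · have hΓh : (GrLC.gam m.toIdeal Y.carrier).IsHomogeneous Y.gr := Groth.Agent.Lib.Helper29GrGam.gam_isHomogeneous 𝒜 Y.gr m
      have ihQ := ih _ hΓh hΓ
      have hfinQ : Module.Finite R (quotG Y _ hΓh).carrier :=
        inferInstanceAs (Module.Finite R (Y.carrier ⧸ GrLC.gam m.toIdeal Y.carrier))
      have hfinS : Module.Finite R (subG Y _ hΓh).carrier :=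
        inferInstanceAs (Module.Finite R ↥(GrLC.gam m.toIdeal Y.carrier))
      have hdim : Module.supportDim R (Y.carrier ⧸ GrLC.gam m.toIdeal Y.carrier) ≤ (s : WithBot ℕ∞) :=
        le_trans (Module.supportDim_le_of_surjective (GrLC.gam m.toIdeal Y.carrier).mkQ
          (Submodule.mkQ_surjective _)) hs
      have h1 := ihQ s hdim
      have htors : GrLC.gam m.toIdeal (subG Y _ hΓh).carrier = ⊤ := gamG_torsion m Y
      have hrel : gq m d Y = gq m d (quotG Y _ hΓh) := by
        funext n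
        have e1 := gfun_additive hpos hle d hd (sesSub Y _ hΓh) n
        have e2 := congrFun (gq_eq_zero_of_torsion (a := m) d htors) n
        unfold gq at e2 ⊢
        rw [e1]
        push_cast
        rw [e2]
        simp
      rw [hrel]
      exact h1

end Bound

/-! ### The lower bound for the a-invariant -/

section AInv

variable {R : Type u} [CommRing R] {𝒜 : ℤ → AddSubgroup R} [GradedRing 𝒜]

theorem hfun_self_neg (hpos : ∀ n : ℤ, n < 0 → 𝒜 n = ⊥) (n : ℤ) (hn : n < 0) :
    hfun (GrLC.GMod.of 𝒜 R 𝒜) n = 0 := by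
  unfold hfun
  have : Subsingleton ↥(GrLC.comp 𝒜 (GrLC.GMod.of 𝒜 R 𝒜).gr n) := by
    constructor
    rintro ⟨a, ha⟩ ⟨b, hb⟩
    apply Subtype.ext
    have ha' : a ∈ 𝒜 n := ha
    have hb' : b ∈ 𝒜 n := hb
    exact (Groth.Agent.Lib.Helper29GrStd.eq_zero_of_mem_of_eq_bot (hpos n hn) ha').trans
      (Groth.Agent.Lib.Helper29GrStd.eq_zero_of_mem_of_eq_bot (hpos n hn) hb').symm
  exact len_eq_zero_of_subsingleton

theorem hfun_self_zero_ne [IsNoetherianRing R] [IsArtinianRing (GrLC.deg0 𝒜)] [Nontrivial R] :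
    hfun (GrLC.GMod.of 𝒜 R 𝒜) 0 ≠ 0 := by
  have hfin : Module.Finite R (GrLC.GMod.of 𝒜 R 𝒜).carrier := inferInstanceAs (Module.Finite R R)
  have hfl := isFiniteLength_comp (GrLC.GMod.of 𝒜 R 𝒜) 0
  unfold hfun len
  intro h
  rcases (ENat.toNat_eq_zero).1 h with h | h
  · have hsub : Subsingleton ↥(GrLC.comp 𝒜 (GrLC.GMod.of 𝒜 R 𝒜).gr 0) := Module.length_eq_zero_iff.1 h
    have h1 : (1 : R) ∈ GrLC.comp 𝒜 (GrLC.GMod.of 𝒜 R 𝒜).gr 0 :=
      (SetLike.GradedOne.one_mem : (1 : R) ∈ 𝒜 0)
    have h2 := congrArg Subtype.val (Subsingleton.elim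
      (⟨(1 : R), h1⟩ : ↥(GrLC.comp 𝒜 (GrLC.GMod.of 𝒜 R 𝒜).gr 0)) 0)
    exact one_ne_zero (α := R) h2
  · exact (Module.length_ne_top_iff.2 hfl) h

variable [LocCoh.IsCohenMacaulayRing R] [IsArtinianRing (GrLC.deg0 𝒜)]

/-- **The a-invariant of a Cohen–Macaulay standard graded *local ring of dimension `d` is at least `-d`.** -/
theorem neg_dim_le_endDeg (hpos : ∀ n : ℤ, n < 0 → 𝒜 n = ⊥)
    (hstd : Ideal.span (⋃ n ∈ Set.Ioi (0 : ℤ), (𝒜 n : Set R)) = Ideal.span ((𝒜 1 : AddSubgroup R) : Set R))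
    (m : HomogeneousIdeal 𝒜) (hm : GrLC.IsStarLocal 𝒜 m) (d : ℕ) (hd : ringKrullDim R = d)
    (I : GrLC.StarInjRes 𝒜 (GrLC.GMod.of 𝒜 R 𝒜).gr) :
    (((-(d : ℤ) : ℤ) : WithTop ℤ) : WithBot (WithTop ℤ)) ≤ GrLC.endDeg (I.Hgr m d) := by
  classical
  have hnt : Nontrivial R := by
    by_contra hcon
    rw [not_nontrivial_iff_subsingleton] at hcon
    rw [ringKrullDim_eq_bot_of_subsingleton] at hd
    exact WithBot.bot_ne_coe hd
  have hfin : Module.Finite R (GrLC.GMod.of 𝒜 R 𝒜).carrier := inferInstanceAs (Module.Finite R R)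
  have hd' : ringKrullDim R < ((d + 1 : ℕ) : WithBot ℕ∞) := by
    rw [hd]
    exact_mod_cast Nat.lt_succ_self d
  have hsd : Module.supportDim R (GrLC.GMod.of 𝒜 R 𝒜).carrier ≤ (d : WithBot ℕ∞) := by
    have h1 : Module.supportDim R (GrLC.GMod.of 𝒜 R 𝒜).carrier = ringKrullDim R :=
      Module.supportDim_self_eq_ringKrullDim R
    rw [h1, hd]
  have hD := Dl_pow_gq_of_supportDim_le hpos hstd m hm d hd' (GrLC.GMod.of 𝒜 R 𝒜) d hsd
  by_contra hcon
  have hvan : ∀ n : ℤ, -(d : ℤ) ≤ n → Van m (GrLC.GMod.of 𝒜 R 𝒜) d n := by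
    intro n hn
    rw [← Hgr_eq_bot_iff I d n]
    by_contra hne
    apply hcon
    have h1 : (((n : ℤ) : WithTop ℤ) : WithBot (WithTop ℤ)) ≤ GrLC.endDeg (I.Hgr m d) := by
      unfold GrLC.endDeg
      exact le_iSup₂ (f := fun (n : ℤ) (_ : I.Hgr m d n ≠ ⊥) =>
        ((n : WithTop ℤ) : WithBot (WithTop ℤ))) n hne
    refine le_trans ?_ h1
    exact_mod_cast hn
  have hchi : ∀ n : ℤ, -(d : ℤ) ≤ n → chi m d (GrLC.GMod.of 𝒜 R 𝒜) n = 0 := by
    intro n hn
    unfold chi
    apply Finset.sum_eq_zero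
    intro i hi
    have hi' : i ≤ d := Nat.lt_succ_iff.1 (Finset.mem_range.1 hi)
    have hv : Van m (GrLC.GMod.of 𝒜 R 𝒜) i n := by
      rcases Nat.lt_or_ge i d with h | h
      · exact van_self_of_lt_dim hpos m hm d hd i h n
      · have : i = d := le_antisymm hi' h
        rw [this]
        exact hvan n hn
    rw [hlen_eq_zero_of_van m i n hv, Nat.cast_zero, mul_zero]
  have hf : ∀ n : ℤ, -(d : ℤ) ≤ n → gq m d (GrLC.GMod.of 𝒜 R 𝒜) n = (hfun (GrLC.GMod.of 𝒜 R 𝒜) n : ℚ) := by
    intro n hn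
    unfold gq gfun
    rw [hchi n hn]
    simp
  have h0 := eq_zero_at_zero d (gq m d (GrLC.GMod.of 𝒜 R 𝒜)) hD (fun j hj1 hjd => by
    rw [hf _ (by omega), hfun_self_neg hpos _ (by omega), Nat.cast_zero])
  rw [hf 0 (by omega)] at h0
  have h1 : hfun (GrLC.GMod.of 𝒜 R 𝒜) 0 = 0 := by exact_mod_cast h0
  exact hfun_self_zero_ne h1

end AInv

end Groth.Agent.R2.H72.GrHilbDim
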