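import Groth.Agent.R2.H72GrLCBasic
import Groth.Agent.Lib.Helper29GrShift
import Groth.Agent.Lib.Helper29GrRes

/-!
# Constructions on bundled graded modules (helper72)

Homogeneous components `cmp`, the graded submodule / quotient / shift / product of bundled graded modules
`GrLC.GMod 𝒜` (ring grading valued in `AddSubgroup R`), *injectivity of shifts and products, shifted
resolutions, and the vanishing predicate `Van a X i k` ("the degree `k` piece of `H^i_a(X)` is zero", for one
or equivalently every *injective resolution).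
-/

set_option autoImplicit false
set_option linter.unusedSectionVars false
open DirectSum

noncomputable section

namespace Groth.Agent.R2.H72.GrMod

open Groth.Agent.Lib.Helper29GrHom Groth.Agent.Lib.Helper29GrSub Groth.Agent.Lib.Helper29GrQuot
  Groth.Agent.Lib.Helper29GrShift Groth.Agent.Lib.Helper29GrGam Groth.Agent.Lib.Helper29GrEss
  Groth.Agent.R2.H72.GrLCBasic

universe u

variable {ι : Type} [AddCommGroup ι] [DecidableEq ι]
variable {R : Type u} [CommRing R] {𝒜 : ι → AddSubgroup R} [GradedRing 𝒜]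

/-! ## Homogeneous components -/

section Cmp

variable (X Y : GrLC.GMod.{u} 𝒜)

/-- The homogeneous component of degree `k`. -/
def cmp (k : ι) (x : X.carrier) : X.carrier := ((decompose X.gr x) k : X.carrier)

theorem cmp_mem (k : ι) (x : X.carrier) : cmp X k x ∈ X.gr k := SetLike.coe_mem _

theorem cmp_of_mem {k : ι} {x : X.carrier} (hx : x ∈ X.gr k) : cmp X k x = x :=
  DirectSum.decompose_of_mem_same _ hx

theorem cmp_of_mem_ne {j k : ι} {x : X.carrier} (hx : x ∈ X.gr j) (h : j ≠ k) : cmp X k x = 0 :=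
  DirectSum.decompose_of_mem_ne _ hx h

@[simp] theorem cmp_zero (k : ι) : cmp X k 0 = 0 := by
  unfold cmp; rw [DirectSum.decompose_zero]; rfl

theorem cmp_add (k : ι) (x y : X.carrier) : cmp X k (x + y) = cmp X k x + cmp X k y := by
  unfold cmp; rw [DirectSum.decompose_add, DirectSum.add_apply, AddSubgroup.coe_add]

theorem cmp_neg (k : ι) (x : X.carrier) : cmp X k (-x) = -cmp X k x := by
  have h := cmp_add X k x (-x)
  rw [add_neg_cancel, cmp_zero] at h
  exact (neg_eq_of_add_eq_zero_right h.symm).symm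

theorem cmp_sub (k : ι) (x y : X.carrier) : cmp X k (x - y) = cmp X k x - cmp X k y := by
  rw [sub_eq_add_neg, cmp_add, cmp_neg, sub_eq_add_neg]

variable {X Y}

theorem cmp_map (f : X.carrier →ₗ[R] Y.carrier) (hf : GrLC.IsGrHom X.gr Y.gr f) (k : ι)
    (x : X.carrier) : cmp Y k (f x) = f (cmp X k x) :=
  decompose_map Y.gr X.gr f hf x k

theorem cmp_mem_of_isHomogeneous {P : Submodule R X.carrier} (hP : P.IsHomogeneous X.gr) (k : ι)
    {x : X.carrier} (hx : x ∈ P) : cmp X k x ∈ P := hP k hx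

theorem cmp_mem_gam (a : HomogeneousIdeal 𝒜) (k : ι) {x : X.carrier}
    (hx : x ∈ GrLC.gam a.toIdeal X.carrier) : cmp X k x ∈ GrLC.gam a.toIdeal X.carrier :=
  gam_isHomogeneous 𝒜 X.gr a k hx

/-- An element all of whose components vanish is zero. -/
theorem eq_zero_of_cmp_eq_zero {x : X.carrier} (h : ∀ k, cmp X k x = 0) : x = 0 := by
  classical
  by_contra hx
  obtain ⟨d, hd⟩ := exists_component_ne_zero X.gr hx
  exact hd (h d)

end Cmp

/-! ## Sub, quotient, shift, product -/

section Constructions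

variable (X Y : GrLC.GMod.{u} 𝒜)

/-- A homogeneous submodule as a bundled graded module. -/
def subG (P : Submodule R X.carrier) (hP : P.IsHomogeneous X.gr) : GrLC.GMod.{u} 𝒜 :=
  { carrier := ↥P
    gr := subGr X.gr P
    dec := subDecomposition X.gr P hP
    gsmul := sub_gradedSMul X.gr P 𝒜 }

/-- The quotient by a homogeneous submodule as a bundled graded module. -/
def quotG (P : Submodule R X.carrier) (hP : P.IsHomogeneous X.gr) : GrLC.GMod.{u} 𝒜 :=
  { carrier := X.carrier ⧸ P
    gr := quotGr X.gr P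
    dec := quotDecomposition X.gr P hP
    gsmul := quot_gradedSMul X.gr P 𝒜 }

/-- The shifted module `X(d)`, with `X(d)_j = X_{j+d}`. -/
def shiftG (d : ι) : GrLC.GMod.{u} 𝒜 :=
  { carrier := X.carrier
    gr := shiftGr X.gr d
    dec := shiftDecomposition X.gr d
    gsmul := shift_gradedSMul 𝒜 X.gr d }

theorem subG_incl_grHom (P : Submodule R X.carrier) (hP : P.IsHomogeneous X.gr) :
    GrLC.IsGrHom (subG X P hP).gr X.gr P.subtype := fun _ _ h => h

theorem quotG_mk_grHom (P : Submodule R X.carrier) (hP : P.IsHomogeneous X.gr) :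
    GrLC.IsGrHom X.gr (quotG X P hP).gr P.mkQ := fun _ a ha => ⟨a, ha, rfl⟩

theorem mem_shiftG (d j : ι) (x : X.carrier) : x ∈ (shiftG X d).gr j ↔ x ∈ X.gr (j + d) := Iff.rfl

end Constructions

/-! ## Products -/

section Prod

variable (X Y : GrLC.GMod.{u} 𝒜)

/-- The pieces of the product. -/
def prodGr : ι → AddSubgroup (X.carrier × Y.carrier) := fun g => (X.gr g).prod (Y.gr g)

theorem mem_prodGr {g : ι} {p : X.carrier × Y.carrier} :
    p ∈ prodGr X Y g ↔ p.1 ∈ X.gr g ∧ p.2 ∈ Y.gr g := Iff.rfl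

/-- Inclusion of a piece of the first factor. -/
def inlPiece (g : ι) : ↥(X.gr g) →+ ↥(prodGr X Y g) where
  toFun x := ⟨((x : X.carrier), 0), ⟨x.2, zero_mem _⟩⟩
  map_zero' := rfl
  map_add' x y := by
    apply Subtype.ext
    show ((((x + y : ↥(X.gr g)) : X.carrier)), (0 : Y.carrier)) = ((x : X.carrier), 0) + ((y : X.carrier), 0)
    rw [Prod.mk_add_mk, add_zero, AddSubgroup.coe_add]

/-- Inclusion of a piece of the second factor. -/
def inrPiece (g : ι) : ↥(Y.gr g) →+ ↥(prodGr X Y g) where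
  toFun y := ⟨(0, (y : Y.carrier)), ⟨zero_mem _, y.2⟩⟩
  map_zero' := rfl
  map_add' x y := by
    apply Subtype.ext
    show ((0 : X.carrier), (((x + y : ↥(Y.gr g)) : Y.carrier))) = (0, (x : Y.carrier)) + (0, (y : Y.carrier))
    rw [Prod.mk_add_mk, add_zero, AddSubgroup.coe_add]

theorem coe_map_inlPiece (z : ⨁ g, X.gr g) :
    DirectSum.coeAddMonoidHom (prodGr X Y) (DirectSum.map (inlPiece X Y) z) =
      (DirectSum.coeAddMonoidHom X.gr z, 0) := by
  classical
  induction z using DirectSum.induction_on with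
  | zero => rw [map_zero, map_zero, map_zero]; rfl
  | of g x =>
    rw [DirectSum.map_of, DirectSum.coeAddMonoidHom_of, DirectSum.coeAddMonoidHom_of]
    rfl
  | add x y hx hy =>
    rw [map_add, map_add, map_add, hx, hy, Prod.mk_add_mk, add_zero]

theorem coe_map_inrPiece (z : ⨁ g, Y.gr g) :
    DirectSum.coeAddMonoidHom (prodGr X Y) (DirectSum.map (inrPiece X Y) z) =
      (0, DirectSum.coeAddMonoidHom Y.gr z) := by
  classical
  induction z using DirectSum.induction_on with
  | zero => rw [map_zero, map_zero, map_zero]; rfl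
  | of g x =>
    rw [DirectSum.map_of, DirectSum.coeAddMonoidHom_of, DirectSum.coeAddMonoidHom_of]
    rfl
  | add x y hx hy =>
    rw [map_add, map_add, map_add, hx, hy, Prod.mk_add_mk, add_zero]

/-- The decomposition map of the product. -/
def prodDecHom : X.carrier × Y.carrier →+ ⨁ g, prodGr X Y g :=
  ((DirectSum.map (inlPiece X Y)).comp
      ((DirectSum.decomposeAddEquiv X.gr).toAddMonoidHom.comp (AddMonoidHom.fst _ _))) +
    ((DirectSum.map (inrPiece X Y)).comp
      ((DirectSum.decomposeAddEquiv Y.gr).toAddMonoidHom.comp (AddMonoidHom.snd _ _)))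

theorem prodDecHom_apply (p : X.carrier × Y.carrier) :
    prodDecHom X Y p = DirectSum.map (inlPiece X Y) (DirectSum.decompose X.gr p.1) +
      DirectSum.map (inrPiece X Y) (DirectSum.decompose Y.gr p.2) := rfl

/-- The product decomposition. -/
@[instance_reducible]
def prodDecomposition : DirectSum.Decomposition (prodGr X Y) :=
  DirectSum.Decomposition.ofAddHom (prodGr X Y) (prodDecHom X Y)
    (by
      apply AddMonoidHom.ext
      intro p
      rw [AddMonoidHom.comp_apply, prodDecHom_apply, map_add, coe_map_inlPiece, coe_map_inrPiece]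
      have h1 : DirectSum.coeAddMonoidHom X.gr (DirectSum.decompose X.gr p.1) = p.1 :=
        DirectSum.Decomposition.left_inv p.1
      have h2 : DirectSum.coeAddMonoidHom Y.gr (DirectSum.decompose Y.gr p.2) = p.2 :=
        DirectSum.Decomposition.left_inv p.2
      rw [h1, h2, Prod.mk_add_mk, add_zero, zero_add]
      rfl)
    (by
      apply DirectSum.addHom_ext
      rintro g ⟨⟨x, y⟩, hx, hy⟩
      rw [AddMonoidHom.comp_apply, DirectSum.coeAddMonoidHom_of, prodDecHom_apply]
      have hx' : x ∈ X.gr g := hx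
      have hy' : y ∈ Y.gr g := hy
      show DirectSum.map (inlPiece X Y) (DirectSum.decompose X.gr x) +
        DirectSum.map (inrPiece X Y) (DirectSum.decompose Y.gr y) = _
      rw [DirectSum.decompose_of_mem X.gr hx', DirectSum.decompose_of_mem Y.gr hy',
        DirectSum.map_of, DirectSum.map_of, ← map_add, AddMonoidHom.id_apply]
      refine congrArg (DirectSum.of (fun i => ↥(prodGr X Y i)) g) ?_
      apply Subtype.ext
      show ((x, (0 : Y.carrier)) : X.carrier × Y.carrier) + ((0 : X.carrier), y) = (x, y)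
      rw [Prod.mk_add_mk, add_zero, zero_add])

theorem prod_gradedSMul : SetLike.GradedSMul 𝒜 (prodGr X Y) where
  smul_mem := by
    rintro i j r ⟨x, y⟩ hr ⟨hx, hy⟩
    exact ⟨SetLike.GradedSMul.smul_mem (A := 𝒜) (B := X.gr) hr hx,
      SetLike.GradedSMul.smul_mem (A := 𝒜) (B := Y.gr) hr hy⟩

/-- The product of two bundled graded modules. -/
def prodG : GrLC.GMod.{u} 𝒜 :=
  { carrier := X.carrier × Y.carrier
    gr := prodGr X Y
    dec := prodDecomposition X Y
    gsmul := prod_gradedSMul X Y }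

theorem inl_grHom : GrLC.IsGrHom X.gr (prodG X Y).gr (LinearMap.inl R X.carrier Y.carrier) :=
  fun _ _ hx => ⟨hx, zero_mem _⟩

theorem inr_grHom : GrLC.IsGrHom Y.gr (prodG X Y).gr (LinearMap.inr R X.carrier Y.carrier) :=
  fun _ _ hy => ⟨zero_mem _, hy⟩

theorem fst_grHom : GrLC.IsGrHom (prodG X Y).gr X.gr (LinearMap.fst R X.carrier Y.carrier) :=
  fun _ _ hp => hp.1

theorem snd_grHom : GrLC.IsGrHom (prodG X Y).gr Y.gr (LinearMap.snd R X.carrier Y.carrier) :=
  fun _ _ hp => hp.2

theorem cmp_prod_fst (k : ι) (p : X.carrier × Y.carrier) :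
    (cmp (prodG X Y) k p).1 = cmp X k p.1 :=
  (cmp_map (X := prodG X Y) (Y := X) (LinearMap.fst R X.carrier Y.carrier) (fst_grHom X Y) k p).symm

theorem cmp_prod_snd (k : ι) (p : X.carrier × Y.carrier) :
    (cmp (prodG X Y) k p).2 = cmp Y k p.2 :=
  (cmp_map (X := prodG X Y) (Y := Y) (LinearMap.snd R X.carrier Y.carrier) (snd_grHom X Y) k p).symm

theorem mem_gam_prod (a : Ideal R) (p : X.carrier × Y.carrier) :
    p ∈ GrLC.gam a (X.carrier × Y.carrier) ↔
      p.1 ∈ GrLC.gam a X.carrier ∧ p.2 ∈ GrLC.gam a Y.carrier := by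
  constructor
  · intro hp
    exact ⟨map_mem_gam a (LinearMap.fst R X.carrier Y.carrier) hp,
      map_mem_gam a (LinearMap.snd R X.carrier Y.carrier) hp⟩
  · rintro ⟨h1, h2⟩
    have e : p = LinearMap.inl R X.carrier Y.carrier p.1 + LinearMap.inr R X.carrier Y.carrier p.2 := by
      rw [LinearMap.inl_apply, LinearMap.inr_apply, Prod.mk_add_mk, add_zero, zero_add]
    rw [e]
    exact add_mem (map_mem_gam a _ h1) (map_mem_gam a _ h2)

/-- A product of *injective modules is *injective. -/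
theorem isStarInj_prodG (hX : GrLC.IsStarInj 𝒜 X.gr) (hY : GrLC.IsStarInj 𝒜 Y.gr) :
    GrLC.IsStarInj 𝒜 (prodG X Y).gr := by
  intro A B f hf hinj g hg
  obtain ⟨h1, hh1, e1⟩ := hX A B f hf hinj (LinearMap.fst R X.carrier Y.carrier ∘ₗ g)
    (fun k x hx => (hg k x hx).1)
  obtain ⟨h2, hh2, e2⟩ := hY A B f hf hinj (LinearMap.snd R X.carrier Y.carrier ∘ₗ g)
    (fun k x hx => (hg k x hx).2)
  refine ⟨LinearMap.prod h1 h2, fun k x hx => ⟨hh1 k x hx, hh2 k x hx⟩, ?_⟩
  apply LinearMap.ext
  intro x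
  have a1 := LinearMap.congr_fun e1 x
  have a2 := LinearMap.congr_fun e2 x
  exact Prod.ext a1 a2

end Prod

/-! ## Shifts -/

section Shift

variable (X : GrLC.GMod.{u} 𝒜)

/-- A shift of a *injective module is *injective. -/
theorem isStarInj_shiftG (d : ι) (hX : GrLC.IsStarInj 𝒜 X.gr) :
    GrLC.IsStarInj 𝒜 (shiftG X d).gr := by
  intro A B f hf hinj g hg
  have hf' : GrLC.IsGrHom (shiftG A (-d)).gr (shiftG B (-d)).gr f := fun k x hx => hf (k + -d) x hx
  have hg' : GrLC.IsGrHom (shiftG A (-d)).gr X.gr g := by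
    intro k x hx
    have h : g x ∈ X.gr (k + -d + d) := hg (k + -d) x hx
    rw [neg_add_cancel_right] at h
    exact h
  obtain ⟨h, hh, e⟩ := hX (shiftG A (-d)) (shiftG B (-d)) f hf' hinj g hg'
  refine ⟨h, ?_, e⟩
  intro k x hx
  have hx' : x ∈ B.gr (k + d + -d) := by
    rw [add_neg_cancel_right]
    exact hx
  exact hh (k + d) x hx'

variable {M : GrLC.GMod.{u} 𝒜}

/-- The shifted resolution. -/
def shiftRes (E : GrLC.StarInjRes 𝒜 M.gr) (d : ι) : GrLC.StarInjRes 𝒜 (shiftG M d).gr where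
  X n := shiftG (E.X n) d
  d n := E.d n
  ε := E.ε
  d_grHom n := fun k x hx => E.d_grHom n (k + d) x hx
  ε_grHom := fun k x hx => E.ε_grHom (k + d) x hx
  ε_injective := E.ε_injective
  exact_zero := E.exact_zero
  exact_succ := E.exact_succ
  starInj n := isStarInj_shiftG (E.X n) d (E.starInj n)

theorem mem_Hcomp_shiftRes (E : GrLC.StarInjRes 𝒜 M.gr) (d : ι) (a : HomogeneousIdeal 𝒜) (i : ℕ)
    (k : ι) (x : E.H a i) : x ∈ (shiftRes E d).Hcomp a i k ↔ x ∈ E.Hcomp a i (k + d) := Iff.rfl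

theorem Hcomp_shiftRes_eq_bot_iff (E : GrLC.StarInjRes 𝒜 M.gr) (d : ι) (a : HomogeneousIdeal 𝒜)
    (i : ℕ) (k : ι) : (shiftRes E d).Hcomp a i k = ⊥ ↔ E.Hcomp a i (k + d) = ⊥ := by
  rw [Submodule.eq_bot_iff, Submodule.eq_bot_iff]
  exact Iff.rfl

end Shift

/-! ## The vanishing predicate -/

section Van

variable (a : HomogeneousIdeal 𝒜)

/-- Some *injective resolution. -/
def someRes (X : GrLC.GMod.{u} 𝒜) : GrLC.StarInjRes 𝒜 X.gr :=
  Groth.Agent.Lib.Helper29GrRes.starInjRes 𝒜 X.gr

/-- The degree `k` piece of the `i`-th graded local cohomology of `X` vanishes. -/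
def Van (X : GrLC.GMod.{u} 𝒜) (i : ℕ) (k : ι) : Prop :=
  ∀ E : GrLC.StarInjRes 𝒜 X.gr, E.Hcomp a i k = ⊥

variable {a} {X Y : GrLC.GMod.{u} 𝒜}

theorem van_iff (E : GrLC.StarInjRes 𝒜 X.gr) (i : ℕ) (k : ι) :
    Van a X i k ↔ E.Hcomp a i k = ⊥ :=
  ⟨fun h => h E, fun h E' => (Hcomp_eq_bot_iff a E' E i k).mpr h⟩

theorem van_shiftG (d : ι) (i : ℕ) (k : ι) : Van a (shiftG X d) i k ↔ Van a X i (k + d) := by
  rw [van_iff (shiftRes (someRes X) d), van_iff (someRes X)]
  exact Hcomp_shiftRes_eq_bot_iff (someRes X) d a i k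

/-- Vanishing passes to homogeneous retracts. -/
theorem van_of_retract (f : X.carrier →ₗ[R] Y.carrier) (g : Y.carrier →ₗ[R] X.carrier)
    (hf : GrLC.IsGrHom X.gr Y.gr f) (hg : GrLC.IsGrHom Y.gr X.gr g) (hgf : g ∘ₗ f = LinearMap.id)
    (i : ℕ) (k : ι) (h : Van a Y i k) : Van a X i k := by
  intro E
  exact Hcomp_eq_bot_of_equiv a f g hf hg hgf i k (h (someRes Y))

end Van

/-! ## The zero module -/

section Zero

/-- The pieces of the zero module. -/
def zeroGr : ι → AddSubgroup PUnit.{u + 1} := fun _ => ⊥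

theorem mem_zeroGr (k : ι) (x : PUnit.{u + 1}) : x ∈ zeroGr.{u} k :=
  AddSubgroup.mem_bot.2 (Subsingleton.elim _ _)

/-- The decomposition of the zero module. -/
@[instance_reducible]
def zeroDecomposition : DirectSum.Decomposition (zeroGr.{u} (ι := ι)) where
  decompose' := fun _ => (0 : ⨁ i : ι, ↥(zeroGr.{u} i))
  left_inv := fun _ => Subsingleton.elim _ _
  right_inv := fun y => by
    apply DFinsupp.ext
    intro i
    apply Subtype.ext
    exact Subsingleton.elim _ _

/-- The zero graded module. -/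
def zeroG : GrLC.GMod.{u} 𝒜 :=
  { carrier := PUnit.{u + 1}
    gr := zeroGr.{u}
    dec := zeroDecomposition.{u}
    gsmul := ⟨fun _ _ _ _ _ _ => mem_zeroGr.{u} (ι := ι) _ _⟩ }

instance instSubsingletonZeroG : Subsingleton (zeroG.{u} (𝒜 := 𝒜)).carrier :=
  inferInstanceAs (Subsingleton PUnit.{u + 1})

theorem isStarInj_zeroG : GrLC.IsStarInj 𝒜 (zeroG.{u} (𝒜 := 𝒜)).gr := by
  intro A B f _ _ g _
  refine ⟨0, fun k _ _ => mem_zeroGr.{u} k _, ?_⟩
  apply LinearMap.ext
  intro x
  exact Subsingleton.elim _ _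

/-- The zero resolution of a graded module with only one element. -/
def zeroRes (X : GrLC.GMod.{u} 𝒜) [Subsingleton X.carrier] : GrLC.StarInjRes 𝒜 X.gr where
  X _ := zeroG.{u}
  d _ := 0
  ε := 0
  d_grHom _ := fun k _ _ => mem_zeroGr.{u} k _
  ε_grHom := fun k _ _ => mem_zeroGr.{u} k _
  ε_injective := fun _ _ _ => Subsingleton.elim _ _
  exact_zero := by
    apply le_antisymm
    · intro x _
      exact ⟨0, Subsingleton.elim _ _⟩
    · intro x _
      exact Subsingleton.elim _ _
  exact_succ _ := by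
    apply le_antisymm
    · intro x _
      exact ⟨0, Subsingleton.elim _ _⟩
    · intro x _
      exact Subsingleton.elim _ _
  starInj _ := isStarInj_zeroG

theorem van_of_subsingleton (a : HomogeneousIdeal 𝒜) (X : GrLC.GMod.{u} 𝒜) [Subsingleton X.carrier]
    (i : ℕ) (k : ι) : Van a X i k := by
  rw [van_iff (zeroRes X)]
  rw [Submodule.eq_bot_iff]
  intro x _
  obtain ⟨z, rfl⟩ := toH_surjective a i x
  have hsub : Subsingleton ((zeroRes X).X i).carrier := instSubsingletonZeroG
  have : z = 0 := Subtype.ext (hsub.elim _ _)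
  rw [this, map_zero]

end Zero

end Groth.Agent.R2.H72.GrMod
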