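import Groth.Agent.S13216
import Groth.Agent.S13220
import Groth.Agent.S5168
import Groth.Agent.Lib.Helper29ExtSes
import Groth.Agent.R2.H72GrMod

/-!
# The *injective envelope of `R/m`, `m` a graded maximal ideal, is an injective hull (helper72)

* `injective_of_ext_one`: a module `E` which is power torsion for a maximal ideal `I` of a Noetherian ring and
  has `Ext¹(R/I, E) = 0` is injective.
* `isInjectiveHull_of_isStarInjHull`: the statement of the title.
-/

set_option autoImplicit false
set_option linter.unusedSectionVars false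
open CategoryTheory CategoryTheory.Abelian DirectSum

noncomputable section

namespace Groth.Agent.R2.H72.GrInjHull

universe u

section Ungraded

variable {R : Type u} [CommRing R] (I : Ideal R)
variable {E : Type u} [AddCommGroup E] [Module R E]

/-- An element killed by a power of `I` has, if nonzero, a nonzero multiple killed by `I`. -/
theorem exists_socle_of_pow {Q : Type u} [AddCommGroup Q] [Module R Q] (k : ℕ) :
    ∀ (q : Q), (∀ r ∈ I ^ k, r • q = 0) → q ≠ 0 →
      ∃ r : R, r • q ≠ 0 ∧ ∀ a ∈ I, a • (r • q) = 0 := by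
  induction k with
  | zero =>
    intro q hk hq
    exfalso
    apply hq
    have := hk 1 (by rw [pow_zero, Ideal.one_eq_top]; trivial)
    rwa [one_smul] at this
  | succ k ih =>
    intro q hk hq
    by_cases h : ∀ a ∈ I, a • q = 0
    · exact ⟨1, by rwa [one_smul], fun a ha => by rw [one_smul]; exact h a ha⟩
    · push Not at h
      obtain ⟨a, ha, haq⟩ := h
      have hk' : ∀ r ∈ I ^ k, r • (a • q) = 0 := by
        intro r hr
        rw [smul_smul]
        apply hk
        rw [pow_succ]
        exact Ideal.mul_mem_mul hr ha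
      obtain ⟨r, hr1, hr2⟩ := ih (a • q) hk' haq
      refine ⟨r * a, ?_, ?_⟩
      · rwa [mul_smul]
      · intro b hb
        rw [mul_smul]
        exact hr2 b hb

theorem ext_subsingleton_of_subsingleton (Q : Type u) [AddCommGroup Q] [Module R Q] [Subsingleton Q]
    (Y : ModuleCat.{u} R) (n : ℕ) : Subsingleton (Ext.{u} (ModuleCat.of R Q) Y n) := by
  suffices ∀ x : Ext.{u} (ModuleCat.of R Q) Y n, x = 0 from
    ⟨fun x y => by rw [this x, this y]⟩
  intro x
  have h0 : (𝟙 (ModuleCat.of R Q)) = 0 := by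
    ext q
    exact Subsingleton.elim _ _
  rw [← Ext.mk₀_id_comp x, h0, Ext.mk₀_zero, Ext.zero_comp]

variable [IsNoetherianRing R] [hI : I.IsMaximal]

/-- `Ext¹(Q, E) = 0` for every quotient `Q` of a finite module killed by a power of the maximal ideal `I`,
provided `Ext¹(R/I, E) = 0`. -/
theorem ext_one_subsingleton_aux
    (h2 : Subsingleton (Ext.{u} (ModuleCat.of R (R ⧸ I)) (ModuleCat.of R E) 1))
    (M : Type u) [AddCommGroup M] [Module R M] [Module.Finite R M] (k : ℕ)
    (hk : ∀ r ∈ I ^ k, ∀ x : M, r • x = 0) (N : Submodule R M) :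
    ∀ (Q : Type u) [AddCommGroup Q] [Module R Q] (g : M →ₗ[R] Q), Function.Surjective g →
      LinearMap.ker g = N → Subsingleton (Ext.{u} (ModuleCat.of R Q) (ModuleCat.of R E) 1) := by
  have : IsNoetherian R M := isNoetherian_of_isNoetherianRing_of_finite R M
  induction N using IsNoetherian.induction with
  | hgt N ih =>
    intro Q _ _ g hg hker
    by_cases hQ : Subsingleton Q
    · exact ext_subsingleton_of_subsingleton Q _ 1
    · rw [not_subsingleton_iff_nontrivial] at hQ
      obtain ⟨q, hq⟩ := exists_ne (0 : Q)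
      have hkQ : ∀ r ∈ I ^ k, r • q = 0 := by
        obtain ⟨x, rfl⟩ := hg q
        intro r hr
        rw [← map_smul, hk r hr x, map_zero]
      obtain ⟨r, hrq, hsoc⟩ := exists_socle_of_pow I k q hkQ hq
      have hle : I ≤ LinearMap.ker (LinearMap.toSpanSingleton R Q (r • q)) := by
        intro a ha
        rw [LinearMap.mem_ker, LinearMap.toSpanSingleton_apply]
        exact hsoc a ha
      let f : (R ⧸ I) →ₗ[R] Q := Submodule.liftQ I (LinearMap.toSpanSingleton R Q (r • q)) hle
      have hf1 : f (Submodule.Quotient.mk 1) = r • q := by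
        change Submodule.liftQ I (LinearMap.toSpanSingleton R Q (r • q)) hle (Submodule.Quotient.mk 1) = _
        rw [Submodule.liftQ_apply, LinearMap.toSpanSingleton_apply, one_smul]
      have : IsSimpleModule R (R ⧸ I) := isSimpleModule_iff_isCoatom.2 (Ideal.isMaximal_def.1 hI)
      have hfinj : Function.Injective f := by
        rcases LinearMap.injective_or_eq_zero f with h | h
        · exact h
        · exfalso
          apply hrq
          rw [← hf1, h, LinearMap.zero_apply]
      let P : Submodule R Q := LinearMap.range f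
      have hex : Function.Exact f P.mkQ := by
        intro y
        rw [Submodule.mkQ_apply, Submodule.Quotient.mk_eq_zero]
        rfl
      have hlt : N < LinearMap.ker (P.mkQ ∘ₗ g) := by
        rw [← hker]
        refine lt_of_le_of_ne ?_ ?_
        · intro x hx
          rw [LinearMap.mem_ker] at hx ⊢
          rw [LinearMap.comp_apply, hx, map_zero]
        · intro heq
          obtain ⟨x, hx⟩ := hg (r • q)
          have hx1 : x ∈ LinearMap.ker (P.mkQ ∘ₗ g) := by
            rw [LinearMap.mem_ker, LinearMap.comp_apply, hx, Submodule.mkQ_apply,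
              Submodule.Quotient.mk_eq_zero]
            exact ⟨Submodule.Quotient.mk 1, hf1⟩
          rw [← heq, LinearMap.mem_ker, hx] at hx1
          exact hrq hx1
      have h3 := ih _ hlt (Q ⧸ P) (P.mkQ ∘ₗ g)
        (P.mkQ_surjective.comp hg) rfl
      exact Groth.Agent.Lib.Helper29ExtSes.subsingleton_of_ses f P.mkQ hfinj P.mkQ_surjective hex 1 h2 h3

/-- A module which is power torsion for a maximal ideal `I` and has `Ext¹(R/I, E) = 0` is injective. -/
theorem injective_of_ext_one (h1 : LocCoh.IsPowerTorsion I E)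
    (h2 : Subsingleton (Ext.{u} (ModuleCat.of R (R ⧸ I)) (ModuleCat.of R E) 1)) :
    Module.Injective R E := by
  rw [Groth.Agent.S5168.result R I E h1]
  intro M _ _ hfin hk N g
  obtain ⟨k, hk⟩ := hk
  have hk' : ∀ r ∈ I ^ k, ∀ x : M, r • x = 0 := by
    intro r hr x
    have : r • x ∈ (I ^ k) • (⊤ : Submodule R M) := Submodule.smul_mem_smul hr Submodule.mem_top
    rw [hk] at this
    exact (Submodule.mem_bot R).1 this
  have h3 : Subsingleton (Ext.{u} (ModuleCat.of R (M ⧸ N)) (ModuleCat.of R E) 1) :=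
    ext_one_subsingleton_aux I h2 M k hk' N (M ⧸ N) N.mkQ N.mkQ_surjective N.ker_mkQ
  have hex : Function.Exact N.subtype N.mkQ := by
    intro y
    rw [Submodule.mkQ_apply, Submodule.Quotient.mk_eq_zero]
    simp
  have hS := Groth.Agent.Lib.Helper29ExtSes.ses_shortExact N.subtype N.mkQ N.subtype_injective
    N.mkQ_surjective hex
  obtain ⟨x₂, hx₂⟩ := Ext.contravariant_sequence_exact₁ hS (ModuleCat.of R E)
    (Ext.mk₀ (ModuleCat.ofHom g)) (add_zero 1) (Subsingleton.elim _ _)
  obtain ⟨c', rfl⟩ := (Ext.mk₀_bijective _ _).2 x₂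
  rw [Ext.mk₀_comp_mk₀] at hx₂
  have h4 := (Ext.mk₀_bijective _ _).1 hx₂
  refine ⟨c'.hom, ?_⟩
  have h5 := congrArg ModuleCat.Hom.hom h4
  exact h5

end Ungraded

section Graded

open Groth.Agent.R2.H72.GrMod

variable {R : Type u} [CommRing R] [IsNoetherianRing R] {𝒜 : ℤ → AddSubgroup R} [GradedRing 𝒜]
  (m : HomogeneousIdeal 𝒜) [hm : m.toIdeal.IsMaximal]
  {E' : Type u} [AddCommGroup E'] [Module R E'] (𝓔 : ℤ → AddSubgroup E') [DirectSum.Decomposition 𝓔]
  [SetLike.GradedSMul 𝒜 𝓔]
  (e : (R ⧸ m.toIdeal) →ₗ[R] E') (he : GrLC.IsStarInjHull 𝒜 (GrLC.quotGr 𝒜 m) 𝓔 e)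

include he in
theorem isPowerTorsion_of_isStarInjHull : LocCoh.IsPowerTorsion m.toIdeal E' := by
  have : m.toIdeal.IsPrime := hm.isPrime
  have h := Groth.Agent.S13220.result R 𝒜 m E' 𝓔 e he
  intro x
  have hx : x ∈ GrLC.gam m.toIdeal E' := by rw [h]; trivial
  exact hx

include he in
theorem ext_one_subsingleton_of_isStarInjHull :
    Subsingleton (Ext.{u} (ModuleCat.of R (R ⧸ m.toIdeal)) (ModuleCat.of R E') 1) := by
  let X : GrLC.GMod.{u} 𝒜 := quotG (GrLC.GMod.of 𝒜 R 𝒜) (m.toIdeal : Submodule R R) m.isHomogeneous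
  have : Module.Finite R X.carrier :=
    inferInstanceAs (Module.Finite R (R ⧸ (m.toIdeal : Submodule R R)))
  exact Groth.Agent.S13216.result R 𝒜 X.carrier X.gr E' 𝓔 he.starInj 1 le_rfl

include he in
theorem injective_of_isStarInjHull : Module.Injective R E' :=
  injective_of_ext_one m.toIdeal (isPowerTorsion_of_isStarInjHull m 𝓔 e he)
    (ext_one_subsingleton_of_isStarInjHull m 𝓔 e he)

include he in
theorem range_isHomogeneous_of_isStarInjHull : (LinearMap.range e).IsHomogeneous 𝓔 := by
  have h1 : (Ideal.Quotient.mk m.toIdeal (1 : R)) ∈ GrLC.quotGr 𝒜 m 0 :=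
    ⟨1, (SetLike.GradedOne.one_mem : (1 : R) ∈ 𝒜 0), rfl⟩
  have h2 : e (Ideal.Quotient.mk m.toIdeal (1 : R)) ∈ 𝓔 0 := he.grHom 0 _ h1
  have h3 : LinearMap.range e = Submodule.span R {e (Ideal.Quotient.mk m.toIdeal (1 : R))} := by
    apply le_antisymm
    · rintro _ ⟨c, rfl⟩
      obtain ⟨r, rfl⟩ := Ideal.Quotient.mk_surjective c
      rw [Submodule.mem_span_singleton]
      refine ⟨r, ?_⟩
      rw [← map_smul]
      congr 1
      rw [Algebra.smul_def, map_one, mul_one]
      rfl
    · rw [Submodule.span_singleton_le_iff_mem]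
      exact LinearMap.mem_range_self e _
  rw [h3]
  exact Groth.Agent.Lib.Helper29GrHom.span_singleton_isHomogeneous 𝒜 𝓔 h2

include he in
/-- The *injective envelope of `R/m` for a graded maximal ideal `m` is an injective hull. -/
theorem isInjectiveHull_of_isStarInjHull : InjHull.IsInjectiveHull e := by
  refine ⟨⟨he.injective, ?_⟩, injective_of_isStarInjHull m 𝓔 e he⟩
  intro N hN
  obtain ⟨x, hxN, hx0⟩ := Submodule.exists_mem_ne_zero_of_ne_bot hN
  obtain ⟨h, r, _, hr0, hrN⟩ := Groth.Agent.Lib.Helper29GrEss.exists_smul_mem 𝒜 𝓔 (LinearMap.range e)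
    (range_isHomogeneous_of_isStarInjHull m 𝓔 e he) he.essential x hx0
  intro hbot
  apply hr0
  have : r • x ∈ N ⊓ LinearMap.range e := ⟨N.smul_mem r hxN, hrN⟩
  rw [hbot] at this
  exact (Submodule.mem_bot R).1 this

end Graded

end Groth.Agent.R2.H72.GrInjHull
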