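import Groth.Agent.R2.H72GrLCTors

/-!
# Koszul complexes of graded modules and the chase through local cohomology (helper72)

* `Cplx`: chain complexes `… → X 2 → X 1 → X 0` of bundled graded modules with homogeneous differentials;
  `sh` (shift by one with a zero term added), `cone` (the mapping cone of multiplication by a homogeneous
  element), `stalk`, `koszul M xs` (iterated cone).
* `Htpy C y`: a contracting homotopy for multiplication by `y`; the Koszul complex of `xs` has one for each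
  member of `xs`, hence its homology is killed by the ideal generated by `xs`.
* `van_B0`: the chase.  If the homology of `C` is killed by `a`, `C` is bounded, and
  `H^{i+q}_a(C.X (q+1))_e = 0` for all `q`, then `H^i_a(B_0)_e = 0` for the module `B_0` of boundaries in
  degree `0` (`i ≥ 1`).
-/

set_option autoImplicit false
set_option linter.unusedSectionVars false
open DirectSum

noncomputable section

namespace Groth.Agent.R2.H72.GrKoszul

open Groth.Agent.Lib.Helper29GrHom Groth.Agent.Lib.Helper29GrEss Groth.Agent.R2.H72.GrLCBasic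
  Groth.Agent.R2.H72.GrMod Groth.Agent.R2.H72.GrLCLES Groth.Agent.R2.H72.GrLCTors

universe u

variable {ι : Type} [AddCommGroup ι] [DecidableEq ι]
variable {R : Type u} [CommRing R] {𝒜 : ι → AddSubgroup R} [GradedRing 𝒜]

/-- A chain complex of graded modules, concentrated in non-negative degrees. -/
structure Cplx (𝒜 : ι → AddSubgroup R) [GradedRing 𝒜] where
  /-- the terms -/
  X : ℕ → GrLC.GMod.{u} 𝒜
  /-- the differentials -/
  d : ∀ n, (X (n + 1)).carrier →ₗ[R] (X n).carrier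
  d_gr : ∀ n, GrLC.IsGrHom (X (n + 1)).gr (X n).gr (d n)
  d_d : ∀ n x, d n (d (n + 1) x) = 0

namespace Cplx

variable (C : Cplx 𝒜)

/-- The terms of the shifted complex: a zero term in degree `0`, then the terms of `C`. -/
def shX : ℕ → GrLC.GMod.{u} 𝒜
  | 0 => zeroG
  | n + 1 => C.X n

instance : Subsingleton (C.shX 0).carrier := instSubsingletonZeroG

/-- The differentials of the shifted complex. -/
def shd : ∀ n, (C.shX (n + 1)).carrier →ₗ[R] (C.shX n).carrier
  | 0 => 0
  | n + 1 => C.d n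

theorem shd_gr : ∀ n, GrLC.IsGrHom (C.shX (n + 1)).gr (C.shX n).gr (C.shd n)
  | 0 => fun k _ _ => mem_zeroGr k _
  | n + 1 => C.d_gr n

theorem shd_shd : ∀ n x, C.shd n (C.shd (n + 1) x) = 0
  | 0 => fun _ => Subsingleton.elim _ _
  | n + 1 => C.d_d n

/-- The identification of `shX (n+1)` with `X n`. -/
def up (n : ℕ) : (C.shX (n + 1)).carrier →ₗ[R] (C.X n).carrier := LinearMap.id

/-- The identification of `X n` with `shX (n+1)`. -/
def down (n : ℕ) : (C.X n).carrier →ₗ[R] (C.shX (n + 1)).carrier := LinearMap.id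

@[simp] theorem up_down (n : ℕ) (z : (C.X n).carrier) : C.up n (C.down n z) = z := rfl
@[simp] theorem down_up (n : ℕ) (z : (C.shX (n + 1)).carrier) : C.down n (C.up n z) = z := rfl

theorem shd_succ (n : ℕ) (z : (C.shX (n + 2)).carrier) :
    C.up n (C.shd (n + 1) z) = C.d n (C.up (n + 1) z) := rfl

theorem up_gr (n : ℕ) : GrLC.IsGrHom (C.shX (n + 1)).gr (C.X n).gr (C.up n) := fun _ _ h => h
theorem down_gr (n : ℕ) : GrLC.IsGrHom (C.X n).gr (C.shX (n + 1)).gr (C.down n) := fun _ _ h => h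

/-! ## The cone of multiplication by a homogeneous element -/

section Cone

/-- The terms of the cone. -/
def coneX (δ : ι) (q : ℕ) : GrLC.GMod.{u} 𝒜 := prodG (shiftG (C.shX q) (-δ)) (C.X q)

/-- The differential of the cone: `(a, b) ↦ (-∂a, x a + ∂b)`. -/
def coned (x : R) (δ : ι) (q : ℕ) : (C.coneX δ (q + 1)).carrier →ₗ[R] (C.coneX δ q).carrier :=
  LinearMap.prod
    (-(C.shd q ∘ₗ LinearMap.fst R (C.shX (q + 1)).carrier (C.X (q + 1)).carrier))
    (x • (C.up q ∘ₗ LinearMap.fst R (C.shX (q + 1)).carrier (C.X (q + 1)).carrier) +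
      C.d q ∘ₗ LinearMap.snd R (C.shX (q + 1)).carrier (C.X (q + 1)).carrier)

theorem coned_apply (x : R) (δ : ι) (q : ℕ) (p : (C.coneX δ (q + 1)).carrier) :
    C.coned x δ q p = (-C.shd q p.1, x • C.up q p.1 + C.d q p.2) := rfl

theorem coned_gr {x : R} {δ : ι} (hx : x ∈ 𝒜 δ) (q : ℕ) :
    GrLC.IsGrHom (C.coneX δ (q + 1)).gr (C.coneX δ q).gr (C.coned x δ q) := by
  intro k p hp
  have h1 : p.1 ∈ (C.shX (q + 1)).gr (k + -δ) := hp.1
  have h2 : p.2 ∈ (C.X (q + 1)).gr k := hp.2
  have a1 : -C.shd q p.1 ∈ (C.shX q).gr (k + -δ) := neg_mem (C.shd_gr q (k + -δ) _ h1)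
  have a2 : x • C.up q p.1 ∈ (C.X q).gr k := mulMap_grHom hx k (C.up q p.1) h1
  have a3 : C.d q p.2 ∈ (C.X q).gr k := C.d_gr q k _ h2
  exact ⟨a1, add_mem a2 a3⟩

theorem coned_coned_aux (x : R) (q : ℕ) (a : (C.shX (q + 2)).carrier) (b : (C.X (q + 2)).carrier) :
    -C.shd q (-C.shd (q + 1) a) = 0 ∧
      x • C.up q (-C.shd (q + 1) a) + C.d q (x • C.up (q + 1) a + C.d (q + 1) b) = 0 := by
  constructor
  · rw [map_neg, C.shd_shd, neg_zero, neg_zero]
  · rw [map_neg, C.shd_succ, map_add, map_smul, C.d_d, add_zero, smul_neg, neg_add_cancel]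

theorem coned_coned (x : R) (δ : ι) (q : ℕ) (p : (C.coneX δ (q + 2)).carrier) :
    C.coned x δ q (C.coned x δ (q + 1) p) = 0 :=
  Prod.ext (C.coned_coned_aux x q p.1 p.2).1 (C.coned_coned_aux x q p.1 p.2).2

/-- The cone of multiplication by `x` on `C`. -/
def cone {x : R} {δ : ι} (hx : x ∈ 𝒜 δ) : Cplx 𝒜 where
  X := C.coneX δ
  d := C.coned x δ
  d_gr := C.coned_gr hx
  d_d := C.coned_coned x δ

end Cone

/-! ## Contracting homotopies -/

/-- A contracting homotopy for multiplication by `y` on the complex `C`. -/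
structure Htpy (y : R) where
  /-- the homotopy -/
  s : ∀ q, (C.X q).carrier →ₗ[R] (C.X (q + 1)).carrier
  h0 : ∀ z, C.d 0 (s 0 z) = y • z
  hs : ∀ q z, C.d (q + 1) (s (q + 1) z) + s q (C.d q z) = y • z

namespace Htpy

variable {C} {y : R} (h : C.Htpy y)

/-- The homotopy on the shifted complex. -/
def shs : ∀ q, (C.shX q).carrier →ₗ[R] (C.shX (q + 1)).carrier
  | 0 => 0
  | q + 1 => h.s q

theorem shs_zero (z : (C.shX 0).carrier) : h.shs 0 z = 0 := rfl

theorem shs_succ (q : ℕ) (z : (C.shX (q + 1)).carrier) :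
    C.up (q + 1) (h.shs (q + 1) z) = h.s q (C.up q z) := rfl

theorem sh_hs : ∀ (q : ℕ) (z : (C.shX (q + 1)).carrier),
    C.shd (q + 1) (h.shs (q + 1) z) + h.shs q (C.shd q z) = y • z
  | 0 => fun z => by
    have e : h.shs 0 (C.shd 0 z) = 0 := rfl
    rw [e, add_zero]
    exact h.h0 z
  | q + 1 => fun z => h.hs q z

end Htpy

section ConeHtpy

variable {C} {x y : R} {δ : ι} (hx : x ∈ 𝒜 δ)

theorem coneHtpy_aux0 (h : C.Htpy y) (a : (C.shX 0).carrier) (b : (C.X 0).carrier) :
    x • C.up 0 (-h.shs 0 a) + C.d 0 (h.s 0 b) = y • b := by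
  rw [h.shs_zero, neg_zero, map_zero, smul_zero, zero_add]
  exact h.h0 b

theorem coneHtpy_aux1 (h : C.Htpy y) (q : ℕ) (a : (C.shX (q + 1)).carrier) :
    -C.shd (q + 1) (-h.shs (q + 1) a) + -h.shs q (-C.shd q a) = y • a := by
  rw [map_neg, map_neg, neg_neg, neg_neg]
  exact h.sh_hs q a

theorem coneHtpy_aux2 (h : C.Htpy y) (q : ℕ) (a : (C.shX (q + 1)).carrier)
    (b : (C.X (q + 1)).carrier) :
    x • C.up (q + 1) (-h.shs (q + 1) a) + C.d (q + 1) (h.s (q + 1) b) +
      h.s q (x • C.up q a + C.d q b) = y • b := by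
  rw [map_neg, h.shs_succ, map_add, map_smul, smul_neg, ← h.hs q b]
  abel

/-- The cone inherits contracting homotopies. -/
def coneHtpy (h : C.Htpy y) : (C.cone hx).Htpy y where
  s q := LinearMap.prod
    (-(h.shs q ∘ₗ LinearMap.fst R (C.shX q).carrier (C.X q).carrier))
    (h.s q ∘ₗ LinearMap.snd R (C.shX q).carrier (C.X q).carrier)
  h0 p := Prod.ext (Subsingleton.elim (α := (C.shX 0).carrier) _ _) (coneHtpy_aux0 h p.1 p.2)
  hs q p := Prod.ext (coneHtpy_aux1 h q p.1) (coneHtpy_aux2 h q p.1 p.2)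

theorem coneSelf_aux0 (b : (C.X 0).carrier) :
    x • C.up 0 (C.down 0 b) + C.d 0 (0 : (C.X 1).carrier) = x • b := by
  rw [map_zero, add_zero, C.up_down]

theorem coneSelf_aux1 (q : ℕ) (a : (C.shX (q + 1)).carrier) (b : (C.X (q + 1)).carrier) :
    -C.shd (q + 1) (C.down (q + 1) b) + C.down q (x • C.up q a + C.d q b) = x • a := by
  have e1 : C.shd (q + 1) (C.down (q + 1) b) = C.down q (C.d q b) := rfl
  rw [e1, map_add, map_smul, C.down_up]
  abel

theorem coneSelf_aux2 (q : ℕ) (b : (C.X (q + 1)).carrier) :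
    x • C.up (q + 1) (C.down (q + 1) b) + C.d (q + 1) (0 : (C.X (q + 2)).carrier) +
      (0 : (C.X (q + 1)).carrier) = x • b := by
  rw [map_zero, add_zero, add_zero, C.up_down]

/-- The cone of multiplication by `x` has a contracting homotopy for `x`. -/
def coneSelfHtpy : (C.cone hx).Htpy x where
  s q := LinearMap.prod
    (C.down q ∘ₗ LinearMap.snd R (C.shX q).carrier (C.X q).carrier)
    (0 : (C.shX q).carrier × (C.X q).carrier →ₗ[R] (C.X (q + 1)).carrier)
  h0 p := Prod.ext (Subsingleton.elim (α := (C.shX 0).carrier) _ _) (coneSelf_aux0 p.2)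
  hs q p := Prod.ext (coneSelf_aux1 q p.1 p.2) (coneSelf_aux2 q p.2)

end ConeHtpy

/-- Cycles are pushed into boundaries by an element with a contracting homotopy. -/
theorem Htpy.smul_mem_range_succ {C : Cplx 𝒜} {y : R} (h : C.Htpy y) (q : ℕ) (z : (C.X (q + 1)).carrier)
    (hz : C.d q z = 0) : y • z ∈ LinearMap.range (C.d (q + 1)) := by
  refine ⟨h.s (q + 1) z, ?_⟩
  have e := h.hs q z
  rw [hz, map_zero, add_zero] at e
  exact e

theorem Htpy.smul_mem_range_zero {C : Cplx 𝒜} {y : R} (h : C.Htpy y) (z : (C.X 0).carrier) :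
    y • z ∈ LinearMap.range (C.d 0) := ⟨h.s 0 z, h.h0 z⟩

end Cplx

/-! ## The stalk complex and the Koszul complex -/

section Koszul

variable (M : GrLC.GMod.{u} 𝒜)

/-- The terms of the complex with `M` in degree zero. -/
def stalkX : ℕ → GrLC.GMod.{u} 𝒜
  | 0 => M
  | _ + 1 => zeroG

/-- The complex with `M` in degree zero. -/
def stalk : Cplx 𝒜 where
  X := stalkX M
  d _ := 0
  d_gr _ := fun _ _ _ => zero_mem _
  d_d _ _ := rfl

/-- The Koszul complex of a list of homogeneous elements of degree `δ` on `M`. -/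
def koszul (δ : ι) : List ↥(𝒜 δ) → Cplx 𝒜
  | [] => stalk M
  | x :: xs => (koszul δ xs).cone x.2

/-- The ideal generated by a list of homogeneous elements. -/
def listIdeal {δ : ι} (xs : List ↥(𝒜 δ)) : Ideal R := Ideal.span {r | ∃ x ∈ xs, (x : R) = r}

variable {M}

theorem koszul_subsingleton (δ : ι) : ∀ (xs : List ↥(𝒜 δ)) (q : ℕ), xs.length < q →
    Subsingleton ((koszul M δ xs).X q).carrier
  | [], q, hq => by
    obtain ⟨q', rfl⟩ : ∃ q', q = q' + 1 := ⟨q - 1, by simp at hq; omega⟩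
    exact instSubsingletonZeroG
  | x :: xs, q, hq => by
    obtain ⟨q', rfl⟩ : ∃ q', q = q' + 1 := ⟨q - 1, by simp at hq; omega⟩
    have h1 : Subsingleton ((koszul M δ xs).X q').carrier :=
      koszul_subsingleton δ xs q' (by simp at hq; omega)
    have h2 : Subsingleton ((koszul M δ xs).X (q' + 1)).carrier :=
      koszul_subsingleton δ xs (q' + 1) (by simp at hq; omega)
    show Subsingleton (((koszul M δ xs).X q').carrier × ((koszul M δ xs).X (q' + 1)).carrier)
    infer_instance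

theorem koszul_htpy (δ : ι) : ∀ (xs : List ↥(𝒜 δ)) (x : ↥(𝒜 δ)), x ∈ xs →
    Nonempty ((koszul M δ xs).Htpy (x : R))
  | [], x, hx => by simp at hx
  | y :: ys, x, hx => by
    rcases List.mem_cons.1 hx with rfl | h
    · exact ⟨Cplx.coneSelfHtpy x.2⟩
    · obtain ⟨h'⟩ := koszul_htpy δ ys x h
      exact ⟨Cplx.coneHtpy y.2 h'⟩

/-- The homology of the Koszul complex in positive degrees is killed by the ideal of the list. -/
theorem koszul_smul_mem_range_succ {δ : ι} (xs : List ↥(𝒜 δ)) (q : ℕ)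
    (z : ((koszul M δ xs).X (q + 1)).carrier) (hz : (koszul M δ xs).d q z = 0) (r : R)
    (hr : r ∈ listIdeal xs) : r • z ∈ LinearMap.range ((koszul M δ xs).d (q + 1)) := by
  induction hr using Submodule.span_induction with
  | mem y hy =>
    obtain ⟨x, hx, rfl⟩ := hy
    obtain ⟨h⟩ := koszul_htpy δ xs x hx
    exact h.smul_mem_range_succ q z hz
  | zero => rw [zero_smul]; exact zero_mem _
  | add p q' _ _ hp hq => rw [add_smul]; exact add_mem hp hq
  | smul c p _ hp => rw [smul_eq_mul, mul_smul]; exact Submodule.smul_mem _ c hp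

/-- The homology of the Koszul complex in degree zero is killed by the ideal of the list. -/
theorem koszul_smul_mem_range_zero {δ : ι} (xs : List ↥(𝒜 δ))
    (z : ((koszul M δ xs).X 0).carrier) (r : R)
    (hr : r ∈ listIdeal xs) : r • z ∈ LinearMap.range ((koszul M δ xs).d 0) := by
  induction hr using Submodule.span_induction with
  | mem y hy =>
    obtain ⟨x, hx, rfl⟩ := hy
    obtain ⟨h⟩ := koszul_htpy δ xs x hx
    exact h.smul_mem_range_zero z
  | zero => rw [zero_smul]; exact zero_mem _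
  | add p q' _ _ hp hq => rw [add_smul]; exact add_mem hp hq
  | smul c p _ hp => rw [smul_eq_mul, mul_smul]; exact Submodule.smul_mem _ c hp

end Koszul

/-! ## The chase -/

section Chase

open Groth.Agent.Lib.Helper29GrGam

variable (C : Cplx 𝒜)

/-- The boundaries in degree `q`, as a graded module. -/
def BG (q : ℕ) : GrLC.GMod.{u} 𝒜 :=
  subG (C.X q) (LinearMap.range (C.d q))
    (range_isHomogeneous (C.X q).gr (C.X (q + 1)).gr (C.d q) (C.d_gr q))

/-- The cycles in degree `q + 1`, as a graded module. -/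
def ZG (q : ℕ) : GrLC.GMod.{u} 𝒜 :=
  subG (C.X (q + 1)) (LinearMap.ker (C.d q))
    (ker_isHomogeneous (C.X q).gr (C.X (q + 1)).gr (C.d q) (C.d_gr q))

/-- The boundaries in degree `q + 1` inside the cycles. -/
def BinZ (q : ℕ) : Submodule R (ZG C q).carrier :=
  (LinearMap.range (C.d (q + 1))).comap (LinearMap.ker (C.d q)).subtype

theorem BinZ_isHomogeneous (q : ℕ) : (BinZ C q).IsHomogeneous (ZG C q).gr :=
  comap_isHomogeneous (ZG C q).gr (C.X (q + 1)).gr (LinearMap.ker (C.d q)).subtype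
    (subG_incl_grHom _ _ _)
    (range_isHomogeneous (C.X (q + 1)).gr (C.X (q + 2)).gr (C.d (q + 1)) (C.d_gr (q + 1)))

/-- The homology in degree `q + 1`, as a graded module. -/
def HG (q : ℕ) : GrLC.GMod.{u} 𝒜 := quotG (ZG C q) (BinZ C q) (BinZ_isHomogeneous C q)

/-- `0 → Z_{q+1} → X_{q+1} → B_q → 0`. -/
def sesZXB (q : ℕ) : SES (ZG C q) (C.X (q + 1)) (BG C q) where
  f := (LinearMap.ker (C.d q)).subtype
  g := (C.d q).rangeRestrict
  f_gr := subG_incl_grHom _ _ _
  g_gr := fun k x hx => C.d_gr q k x hx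
  f_inj := Submodule.injective_subtype _
  g_surj := LinearMap.surjective_rangeRestrict _
  exact m := by
    constructor
    · intro hm
      have h0 : C.d q m = 0 := congrArg Subtype.val hm
      exact ⟨⟨m, h0⟩, rfl⟩
    · rintro ⟨m', rfl⟩
      exact Subtype.ext m'.2

theorem range_le_ker (q : ℕ) : LinearMap.range (C.d (q + 1)) ≤ LinearMap.ker (C.d q) := by
  rintro _ ⟨w, rfl⟩
  exact C.d_d q w

/-- `0 → B_{q+1} → Z_{q+1} → H_{q+1} → 0`. -/
def sesBZH (q : ℕ) : SES (BG C (q + 1)) (ZG C q) (HG C q) where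
  f := Submodule.inclusion (range_le_ker C q)
  g := (BinZ C q).mkQ
  f_gr := fun _ _ hx => hx
  g_gr := quotG_mk_grHom _ _ _
  f_inj := Submodule.inclusion_injective _
  g_surj := Submodule.mkQ_surjective _
  exact m := by
    constructor
    · intro hm
      have h0 : m ∈ BinZ C q := (Submodule.Quotient.mk_eq_zero (BinZ C q)).1 hm
      exact ⟨⟨m.1, h0⟩, Subtype.ext rfl⟩
    · rintro ⟨b, rfl⟩
      exact (Submodule.Quotient.mk_eq_zero (BinZ C q)).2 b.2

/-- The quotient of `X 0` by the boundaries. -/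
def H0G : GrLC.GMod.{u} 𝒜 :=
  quotG (C.X 0) (LinearMap.range (C.d 0))
    (range_isHomogeneous (C.X 0).gr (C.X 1).gr (C.d 0) (C.d_gr 0))

/-- `0 → B_0 → X_0 → H_0 → 0`. -/
def sesBXH : SES (BG C 0) (C.X 0) (H0G C) where
  f := (LinearMap.range (C.d 0)).subtype
  g := (LinearMap.range (C.d 0)).mkQ
  f_gr := subG_incl_grHom _ _ _
  g_gr := quotG_mk_grHom _ _ _
  f_inj := Submodule.injective_subtype _
  g_surj := Submodule.mkQ_surjective _
  exact m := by
    constructor
    · intro hm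
      exact ⟨⟨m, (Submodule.Quotient.mk_eq_zero _).1 hm⟩, rfl⟩
    · rintro ⟨b, rfl⟩
      exact (Submodule.Quotient.mk_eq_zero _).2 b.2

variable {C} {a : HomogeneousIdeal 𝒜}

theorem gam_HG_eq_top (q : ℕ)
    (htors : ∀ z : (C.X (q + 1)).carrier, C.d q z = 0 → ∀ r ∈ a.toIdeal,
      r • z ∈ LinearMap.range (C.d (q + 1))) :
    GrLC.gam a.toIdeal (HG C q).carrier = ⊤ := by
  rw [eq_top_iff]
  intro t _
  obtain ⟨z, rfl⟩ := (BinZ C q).mkQ_surjective t
  refine ⟨1, fun r hr => ?_⟩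
  rw [pow_one] at hr
  have h1 : r • z ∈ BinZ C q := htors z.1 z.2 r hr
  have h2 : (BinZ C q).mkQ (r • z) = 0 := (Submodule.Quotient.mk_eq_zero _).2 h1
  exact (map_smul (BinZ C q).mkQ r z).symm.trans h2

theorem gam_H0G_eq_top
    (htors : ∀ z : (C.X 0).carrier, ∀ r ∈ a.toIdeal, r • z ∈ LinearMap.range (C.d 0)) :
    GrLC.gam a.toIdeal (H0G C).carrier = ⊤ := by
  rw [eq_top_iff]
  intro t _
  obtain ⟨z, rfl⟩ := (LinearMap.range (C.d 0)).mkQ_surjective t
  refine ⟨1, fun r hr => ?_⟩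
  rw [pow_one] at hr
  have h2 : (LinearMap.range (C.d 0)).mkQ (r • z) = 0 :=
    (Submodule.Quotient.mk_eq_zero _).2 (htors z r hr)
  exact (map_smul (LinearMap.range (C.d 0)).mkQ r z).symm.trans h2

variable [IsNoetherianRing R] [Module.Free ℤ ι] [Module.Finite ℤ ι]

/-- The chase: vanishing of the local cohomology of the terms (along a diagonal) gives vanishing for
the boundaries in degree zero. -/
theorem van_BG (N : ℕ) (hN : ∀ q, N < q → Subsingleton (C.X q).carrier)
    (htors : ∀ (q : ℕ) (z : (C.X (q + 1)).carrier), C.d q z = 0 → ∀ r ∈ a.toIdeal,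
      r • z ∈ LinearMap.range (C.d (q + 1)))
    (i : ℕ) (e : ι) (hvan : ∀ q, Van a (C.X (q + 1)) (i + q) e) :
    ∀ q, Van a (BG C q) (i + q) e := by
  have key : ∀ m q, N ≤ q + m → Van a (BG C q) (i + q) e := by
    intro m
    induction m with
    | zero =>
      intro q hq
      haveI : Subsingleton (C.X (q + 1)).carrier := hN (q + 1) (by omega)
      haveI : Subsingleton (BG C q).carrier := by
        constructor
        rintro ⟨_, w, rfl⟩ ⟨_, w', rfl⟩
        rw [Subsingleton.elim w w']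
      exact van_of_subsingleton a (BG C q) (i + q) e
    | succ m ih =>
      intro q hq
      have hB : Van a (BG C (q + 1)) (i + q + 1) e := ih (q + 1) (by omega)
      have hH : Van a (HG C q) (i + q + 1) e :=
        van_succ_of_torsion (gam_HG_eq_top q (htors q)) (i + q) e
      have hZ : Van a (ZG C q) (i + q + 1) e := van_mid (sesBZH C q) (i + q + 1) e hB hH
      exact van_right (sesZXB C q) (i + q) e (hvan q) hZ
  intro q
  exact key N q (Nat.le_add_left N q)

/-- Vanishing for the term in degree zero (`i ≥ 1`). -/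
theorem van_X0 (N : ℕ) (hN : ∀ q, N < q → Subsingleton (C.X q).carrier)
    (htors : ∀ (q : ℕ) (z : (C.X (q + 1)).carrier), C.d q z = 0 → ∀ r ∈ a.toIdeal,
      r • z ∈ LinearMap.range (C.d (q + 1)))
    (htors0 : ∀ z : (C.X 0).carrier, ∀ r ∈ a.toIdeal, r • z ∈ LinearMap.range (C.d 0))
    (i : ℕ) (e : ι) (hvan : ∀ q, Van a (C.X (q + 1)) (i + 1 + q) e) : Van a (C.X 0) (i + 1) e := by
  have hB : Van a (BG C 0) (i + 1) e := van_BG N hN htors (i + 1) e hvan 0
  have hH : Van a (H0G C) (i + 1) e := van_succ_of_torsion (gam_H0G_eq_top htors0) i e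
  exact van_mid (sesBXH C) (i + 1) e hB hH

/-- Vanishing of the degree `e` piece of `X_0 / B_0`. -/
theorem H0G_gr_eq_bot (N : ℕ) (hN : ∀ q, N < q → Subsingleton (C.X q).carrier)
    (htors : ∀ (q : ℕ) (z : (C.X (q + 1)).carrier), C.d q z = 0 → ∀ r ∈ a.toIdeal,
      r • z ∈ LinearMap.range (C.d (q + 1)))
    (htors0 : ∀ z : (C.X 0).carrier, ∀ r ∈ a.toIdeal, r • z ∈ LinearMap.range (C.d 0))
    (e : ι) (h0 : Van a (C.X 0) 0 e) (hvan : ∀ q, Van a (C.X (q + 1)) (1 + q) e) :
    ∀ z : (C.X 0).carrier, z ∈ (C.X 0).gr e → z ∈ LinearMap.range (C.d 0) := by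
  have hB : Van a (BG C 0) 1 e := van_BG N hN htors 1 e hvan 0
  have hH : Van a (H0G C) 0 e := van_right (sesBXH C) 0 e h0 hB
  rw [van_zero_iff] at hH
  intro z hz
  have h1 : (LinearMap.range (C.d 0)).mkQ z ∈ (H0G C).gr e := quotG_mk_grHom _ _ _ e z hz
  have h2 : (LinearMap.range (C.d 0)).mkQ z ∈ GrLC.gam a.toIdeal (H0G C).carrier := by
    rw [gam_H0G_eq_top htors0]; trivial
  exact (Submodule.Quotient.mk_eq_zero _).1 (hH _ h1 h2)

end Chase

/-! ## The Koszul complex: terms, degree zero -/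

section KoszulTerms

variable {a : HomogeneousIdeal 𝒜} {M : GrLC.GMod.{u} 𝒜}

/-- The split short exact sequence of a product. -/
def sesProd (X Y : GrLC.GMod.{u} 𝒜) : SES X (prodG X Y) Y where
  f := LinearMap.inl R X.carrier Y.carrier
  g := LinearMap.snd R X.carrier Y.carrier
  f_gr := inl_grHom X Y
  g_gr := snd_grHom X Y
  f_inj := LinearMap.inl_injective
  g_surj := LinearMap.snd_surjective
  exact m := by
    constructor
    · intro hm
      have hm' : m.2 = 0 := hm
      exact ⟨m.1, Prod.ext rfl hm'.symm⟩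
    · rintro ⟨x, rfl⟩
      rfl

theorem van_prodG {X Y : GrLC.GMod.{u} 𝒜} (i : ℕ) (e : ι) (hX : Van a X i e) (hY : Van a Y i e) :
    Van a (prodG X Y) i e := van_mid (sesProd X Y) i e hX hY

/-- The terms of the Koszul complex are sums of shifts of `M`. -/
theorem van_koszul_X (δ : ι) : ∀ (xs : List ↥(𝒜 δ)) (q j : ℕ) (e : ι),
    Van a M j (e + q • (-δ)) → Van a ((koszul M δ xs).X q) j e
  | [], 0, j, e, h => by
    rw [zero_smul, add_zero] at h
    exact h
  | [], q + 1, j, e, _ => by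
    haveI : Subsingleton ((koszul M δ []).X (q + 1)).carrier := instSubsingletonZeroG
    exact van_of_subsingleton a _ j e
  | x :: xs, 0, j, e, h => by
    have h1 : Van a (shiftG ((koszul M δ xs).shX 0) (-δ)) j e :=
      (van_shiftG (-δ) j e).2 (van_of_subsingleton a _ j _)
    exact van_prodG j e h1 (van_koszul_X δ xs 0 j e h)
  | x :: xs, q + 1, j, e, h => by
    have h0 : Van a ((koszul M δ xs).X q) j (e + -δ) := by
      apply van_koszul_X δ xs q j (e + -δ)
      have e1 : e + -δ + q • (-δ) = e + (q + 1) • (-δ) := by rw [succ_nsmul]; abel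
      rw [e1]
      exact h
    have h1 : Van a (shiftG ((koszul M δ xs).shX (q + 1)) (-δ)) j e := (van_shiftG (-δ) j e).2 h0
    exact van_prodG j e h1 (van_koszul_X δ xs (q + 1) j e h)

/-- The inclusion of `M` into the degree zero term of the Koszul complex. -/
def toX0 (δ : ι) : ∀ xs : List ↥(𝒜 δ), M.carrier →ₗ[R] ((koszul M δ xs).X 0).carrier
  | [] => LinearMap.id
  | _ :: xs => LinearMap.inr R ((koszul M δ xs).shX 0).carrier ((koszul M δ xs).X 0).carrier ∘ₗ
      toX0 δ xs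

/-- The projection of the degree zero term of the Koszul complex onto `M`. -/
def ofX0 (δ : ι) : ∀ xs : List ↥(𝒜 δ), ((koszul M δ xs).X 0).carrier →ₗ[R] M.carrier
  | [] => LinearMap.id
  | _ :: xs => ofX0 δ xs ∘ₗ
      LinearMap.snd R ((koszul M δ xs).shX 0).carrier ((koszul M δ xs).X 0).carrier

theorem toX0_gr (δ : ι) : ∀ xs : List ↥(𝒜 δ),
    GrLC.IsGrHom M.gr ((koszul M δ xs).X 0).gr (toX0 δ xs)
  | [] => fun _ _ h => h
  | _ :: xs => fun k m hm => ⟨zero_mem _, toX0_gr δ xs k m hm⟩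

theorem ofX0_gr (δ : ι) : ∀ xs : List ↥(𝒜 δ),
    GrLC.IsGrHom ((koszul M δ xs).X 0).gr M.gr (ofX0 δ xs)
  | [] => fun _ _ h => h
  | _ :: xs => fun k p hp => ofX0_gr δ xs k _ hp.2

theorem ofX0_toX0 (δ : ι) : ∀ (xs : List ↥(𝒜 δ)) (m : M.carrier), ofX0 δ xs (toX0 δ xs m) = m
  | [], _ => rfl
  | _ :: xs, m => ofX0_toX0 δ xs m

theorem toX0_ofX0 (δ : ι) : ∀ (xs : List ↥(𝒜 δ)) (p : ((koszul M δ xs).X 0).carrier),
    toX0 δ xs (ofX0 δ xs p) = p
  | [], _ => rfl
  | _ :: xs, p' => by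
    have h := toX0_ofX0 δ xs p'.2
    exact Prod.ext (Subsingleton.elim (α := ((koszul M δ xs).shX 0).carrier) _ _) h

theorem listIdeal_cons_le {δ : ι} (x : ↥(𝒜 δ)) (xs : List ↥(𝒜 δ)) :
    listIdeal xs ≤ listIdeal (x :: xs) := by
  apply Ideal.span_mono
  rintro r ⟨y, hy, rfl⟩
  exact ⟨y, List.mem_cons_of_mem _ hy, rfl⟩

theorem mem_listIdeal_head {δ : ι} (x : ↥(𝒜 δ)) (xs : List ↥(𝒜 δ)) :
    (x : R) ∈ listIdeal (x :: xs) :=
  Ideal.subset_span ⟨x, List.mem_cons_self, rfl⟩

/-- The boundaries in degree zero of the Koszul complex correspond to `(xs) M`. -/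
theorem ofX0_d_mem (δ : ι) : ∀ (xs : List ↥(𝒜 δ)) (w : ((koszul M δ xs).X 1).carrier),
    ofX0 δ xs ((koszul M δ xs).d 0 w) ∈ listIdeal xs • (⊤ : Submodule R M.carrier)
  | [], _ => by
    show ofX0 δ [] 0 ∈ _
    rw [map_zero]
    exact zero_mem _
  | x :: xs, w => by
    have e : ofX0 δ (x :: xs) ((koszul M δ (x :: xs)).d 0 w) =
        (x : R) • ofX0 δ xs ((koszul M δ xs).up 0 w.1) + ofX0 δ xs ((koszul M δ xs).d 0 w.2) := by
      show ofX0 δ xs ((x : R) • (koszul M δ xs).up 0 w.1 + (koszul M δ xs).d 0 w.2) = _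
      rw [map_add, map_smul]
    rw [e]
    refine add_mem ?_ ?_
    · exact Submodule.smul_mem_smul (mem_listIdeal_head x xs) Submodule.mem_top
    · exact Submodule.smul_mono_left (listIdeal_cons_le x xs) (ofX0_d_mem δ xs w.2)

end KoszulTerms

/-! ## Consequences for graded local cohomology -/

section Main

variable [IsNoetherianRing R] [Module.Free ℤ ι] [Module.Finite ℤ ι]
variable {a : HomogeneousIdeal 𝒜} {M : GrLC.GMod.{u} 𝒜} {δ : ι}

/-- One step of Mumford's theorem: if `a` is contained in the ideal generated by finitely many homogeneous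
elements of degree `δ`, and `H^{i+1+q}_a(M)_{e-(q+1)δ} = 0` for all `q ≥ 0`, then `H^{i+1}_a(M)_e = 0`. -/
theorem van_of_diagonal (xs : List ↥(𝒜 δ)) (hxs : a.toIdeal ≤ listIdeal xs) (i : ℕ) (e : ι)
    (h : ∀ q : ℕ, Van a M (i + 1 + q) (e + (q + 1) • (-δ))) : Van a M (i + 1) e := by
  have hX0 : Van a ((koszul M δ xs).X 0) (i + 1) e :=
    van_X0 xs.length (koszul_subsingleton δ xs)
      (fun q z hz r hr => koszul_smul_mem_range_succ xs q z hz r (hxs hr))
      (fun z r hr => koszul_smul_mem_range_zero xs z r (hxs hr)) i e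
      (fun q => van_koszul_X δ xs (q + 1) (i + 1 + q) e (h q))
  refine van_of_retract (toX0 δ xs) (ofX0 δ xs) (toX0_gr δ xs) (ofX0_gr δ xs) ?_ (i + 1) e hX0
  apply LinearMap.ext
  intro m
  exact ofX0_toX0 δ xs m

/-- Generation: if `H^0_a(M)_e = 0` and `H^{1+q}_a(M)_{e-(q+1)δ} = 0` for all `q ≥ 0`, then
`M_e ⊆ (xs) M`. -/
theorem mem_smul_top_of_diagonal (xs : List ↥(𝒜 δ)) (hxs : a.toIdeal ≤ listIdeal xs) (e : ι)
    (h0 : Van a M 0 e) (h : ∀ q : ℕ, Van a M (1 + q) (e + (q + 1) • (-δ)))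
    (m : M.carrier) (hm : m ∈ M.gr e) : m ∈ listIdeal xs • (⊤ : Submodule R M.carrier) := by
  have hX0 : Van a ((koszul M δ xs).X 0) 0 e := by
    refine van_of_retract (ofX0 δ xs) (toX0 δ xs) (ofX0_gr δ xs) (toX0_gr δ xs) ?_ 0 e h0
    apply LinearMap.ext
    intro p
    exact toX0_ofX0 δ xs p
  have key := H0G_gr_eq_bot xs.length (koszul_subsingleton δ xs)
      (fun q z hz r hr => koszul_smul_mem_range_succ xs q z hz r (hxs hr))
      (fun z r hr => koszul_smul_mem_range_zero xs z r (hxs hr)) e hX0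
      (fun q => van_koszul_X δ xs (q + 1) (1 + q) e (h q))
      (toX0 δ xs m) (toX0_gr δ xs e m hm)
  obtain ⟨w, hw⟩ := key
  have e1 : m = ofX0 δ xs ((koszul M δ xs).d 0 w) := by rw [hw, ofX0_toX0]
  rw [e1]
  exact ofX0_d_mem δ xs w

end Main

end Groth.Agent.R2.H72.GrKoszul
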