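import Groth.Agent.Lib.Helper29GrCompare

/-!
# Graded local cohomology computed from *injective resolutions: functoriality (helper72)

For bundled graded modules `M N : GrLC.GMod 𝒜` (ring grading valued in `AddSubgroup R`) with *injective
resolutions `E`, `E'`:

* `ResHom E E' f`: a homogeneous chain map over the linear map `f : M → N`;
  `exists_resHom`: it exists when `f` is homogeneous (comparison theorem);
  `exists_homotopy`: two of them are homotopic through homogeneous maps.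
* `Hmap φ a i : E.H a i →ₗ[R] E'.H a i`, homogeneous (`Hmap_mem_Hcomp`), independent of the chain map
  (`Hmap_unique`), functorial (`Hmap_id`, `Hmap_comp`).
* `Hcomp_eq_bot_iff_of_equiv`: vanishing of a homogeneous piece of the graded local cohomology does not
  depend on the resolution, and is invariant under homogeneous isomorphisms.
-/

set_option autoImplicit false
set_option linter.unusedSectionVars false
open DirectSum

noncomputable section

namespace Groth.Agent.R2.H72.GrLCBasic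

open Groth.Agent.Lib.Helper29GrCompare

universe u

variable {ι : Type} [AddCommGroup ι] [DecidableEq ι]
variable {R : Type u} [CommRing R] {𝒜 : ι → AddSubgroup R} [GradedRing 𝒜]

/-! ## Generalities on `gam` and on resolutions -/

theorem map_mem_gam (a : Ideal R) {X Y : Type u} [AddCommGroup X] [Module R X] [AddCommGroup Y]
    [Module R Y] (f : X →ₗ[R] Y) {x : X} (hx : x ∈ GrLC.gam a X) : f x ∈ GrLC.gam a Y := by
  obtain ⟨n, hn⟩ := hx
  exact ⟨n, fun r hr => by rw [← map_smul, hn r hr, map_zero]⟩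

section Res

variable {M : GrLC.GMod.{u} 𝒜} (E : GrLC.StarInjRes 𝒜 M.gr)

theorem d_d (n : ℕ) (x : (E.X n).carrier) : E.d (n + 1) (E.d n x) = 0 := by
  have : E.d n x ∈ LinearMap.ker (E.d (n + 1)) := by
    rw [E.exact_succ n]; exact LinearMap.mem_range_self _ x
  exact this

theorem d_ε (m : M.carrier) : E.d 0 (E.ε m) = 0 := by
  have : E.ε m ∈ LinearMap.ker (E.d 0) := by
    rw [E.exact_zero]; exact LinearMap.mem_range_self _ m
  exact this

theorem exists_of_d_zero_eq_zero {x : (E.X 0).carrier} (hx : E.d 0 x = 0) : ∃ m, E.ε m = x := by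
  have : x ∈ LinearMap.range E.ε := by rw [← E.exact_zero]; exact hx
  exact this

theorem exists_of_d_succ_eq_zero {n : ℕ} {x : (E.X (n + 1)).carrier} (hx : E.d (n + 1) x = 0) :
    ∃ y, E.d n y = x := by
  have : x ∈ LinearMap.range (E.d n) := by rw [← E.exact_succ n]; exact hx
  exact this

end Res

/-! ## Chain maps over a linear map -/

variable {M N P : GrLC.GMod.{u} 𝒜}

/-- A homogeneous chain map between *injective resolutions lying over `f`. -/
structure ResHom (E : GrLC.StarInjRes 𝒜 M.gr) (E' : GrLC.StarInjRes 𝒜 N.gr)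
    (f : M.carrier →ₗ[R] N.carrier) where
  /-- the components -/
  φ : ∀ n, (E.X n).carrier →ₗ[R] (E'.X n).carrier
  gr : ∀ n, GrLC.IsGrHom (E.X n).gr (E'.X n).gr (φ n)
  comm_ε : ∀ m, φ 0 (E.ε m) = E'.ε (f m)
  comm_d : ∀ n x, φ (n + 1) (E.d n x) = E'.d n (φ n x)

namespace ResHom

/-- The identity chain map. -/
def id (E : GrLC.StarInjRes 𝒜 M.gr) : ResHom E E LinearMap.id where
  φ _ := LinearMap.id
  gr _ _ _ hx := hx
  comm_ε _ := rfl
  comm_d _ _ := rfl

/-- Composition of chain maps. -/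
def comp {E : GrLC.StarInjRes 𝒜 M.gr} {E' : GrLC.StarInjRes 𝒜 N.gr} {E'' : GrLC.StarInjRes 𝒜 P.gr}
    {f : M.carrier →ₗ[R] N.carrier} {g : N.carrier →ₗ[R] P.carrier}
    (ψ : ResHom E' E'' g) (φ : ResHom E E' f) : ResHom E E'' (g ∘ₗ f) where
  φ n := ψ.φ n ∘ₗ φ.φ n
  gr n k x hx := ψ.gr n k _ (φ.gr n k x hx)
  comm_ε m := by
    rw [LinearMap.comp_apply, φ.comm_ε, ψ.comm_ε, LinearMap.comp_apply]
  comm_d n x := by
    rw [LinearMap.comp_apply, φ.comm_d, ψ.comm_d, LinearMap.comp_apply]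

/-- Multiplication by a scalar as a chain map (not homogeneous in general, so only the data). -/
theorem smul_comm_d (E : GrLC.StarInjRes 𝒜 M.gr) (r : R) (n : ℕ) (x : (E.X n).carrier) :
    r • E.d n x = E.d n (r • x) := (map_smul _ _ _).symm

end ResHom

section Existence

variable (E : GrLC.StarInjRes 𝒜 M.gr) (E' : GrLC.StarInjRes 𝒜 N.gr)
  (f : M.carrier →ₗ[R] N.carrier) (hf : GrLC.IsGrHom M.gr N.gr f)

/-- A stage of the construction of a chain map. -/
structure Stage (n : ℕ) where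
  θ : (E.X n).carrier →ₗ[R] (E'.X n).carrier
  hom : GrLC.IsGrHom (E.X n).gr (E'.X n).gr θ
  kills : ∀ x : (E.X n).carrier, E.d n x = 0 → E'.d n (θ x) = 0

include hf in
theorem exists_stage_zero :
    ∃ s : Stage E E' 0, ∀ m : M.carrier, s.θ (E.ε m) = E'.ε (f m) := by
  have hker : LinearMap.ker E.ε ≤ LinearMap.ker (E'.ε ∘ₗ f) := by
    intro m hm
    rw [LinearMap.mem_ker] at hm
    have : m = 0 := E.ε_injective (by rw [hm, map_zero])
    rw [this]
    exact zero_mem _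
  have hγ : GrLC.IsGrHom M.gr (E'.X 0).gr (E'.ε ∘ₗ f) :=
    fun k x hx => E'.ε_grHom k _ (hf k x hx)
  obtain ⟨h, hh, hhε⟩ := exists_extension 𝒜 (E.X 0) (E'.X 0) M.gr (E'.starInj 0) E.ε E.ε_grHom
    (E'.ε ∘ₗ f) hγ hker
  refine ⟨⟨h, hh, ?_⟩, hhε⟩
  intro x hx
  obtain ⟨m, rfl⟩ := exists_of_d_zero_eq_zero E hx
  rw [hhε m]
  exact d_ε E' (f m)

theorem exists_stage_succ (n : ℕ) (s : Stage E E' n) :
    ∃ t : Stage E E' (n + 1), ∀ x : (E.X n).carrier, t.θ (E.d n x) = E'.d n (s.θ x) := by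
  have hker : LinearMap.ker (E.d n) ≤ LinearMap.ker (E'.d n ∘ₗ s.θ) := fun x hx => s.kills x hx
  have hγ : GrLC.IsGrHom (E.X n).gr (E'.X (n + 1)).gr (E'.d n ∘ₗ s.θ) :=
    fun k x hx => E'.d_grHom n k _ (s.hom k x hx)
  obtain ⟨h, hh, hhd⟩ := exists_extension 𝒜 (E.X (n + 1)) (E'.X (n + 1)) (E.X n).gr
    (E'.starInj (n + 1)) (E.d n) (E.d_grHom n) (E'.d n ∘ₗ s.θ) hγ hker
  refine ⟨⟨h, hh, ?_⟩, hhd⟩
  intro x hx
  obtain ⟨y, rfl⟩ := exists_of_d_succ_eq_zero E hx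
  rw [hhd y]
  exact d_d E' n _

include hf in
/-- The comparison theorem: a homogeneous map lifts to a homogeneous chain map of *injective
resolutions. -/
theorem exists_resHom : Nonempty (ResHom E E' f) := by
  obtain ⟨s0, hs0⟩ := exists_stage_zero E E' f hf
  choose next hnext using exists_stage_succ E E'
  let S : ∀ n, Stage E E' n := fun n => Nat.rec s0 (fun n s => next n s) n
  exact ⟨⟨fun n => (S n).θ, fun n => (S n).hom, hs0, fun n x => hnext n (S n) x⟩⟩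

end Existence

section Homotopy

variable {E : GrLC.StarInjRes 𝒜 M.gr} {E' : GrLC.StarInjRes 𝒜 N.gr}
  {f : M.carrier →ₗ[R] N.carrier} (φ ψ : ResHom E E' f)

/-- A stage of the construction of a homotopy between `φ` and `ψ`. -/
structure HStage (n : ℕ) where
  s : (E.X (n + 1)).carrier →ₗ[R] (E'.X n).carrier
  hom : GrLC.IsGrHom (E.X (n + 1)).gr (E'.X n).gr s
  kills : ∀ x : (E.X (n + 1)).carrier, E.d (n + 1) x = 0 →
    φ.φ (n + 1) x - ψ.φ (n + 1) x - E'.d n (s x) = 0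

theorem exists_hstage_zero :
    ∃ t : HStage φ ψ 0, ∀ x : (E.X 0).carrier, t.s (E.d 0 x) = φ.φ 0 x - ψ.φ 0 x := by
  have hker : LinearMap.ker (E.d 0) ≤ LinearMap.ker (φ.φ 0 - ψ.φ 0) := by
    intro x hx
    obtain ⟨m, rfl⟩ := exists_of_d_zero_eq_zero E hx
    rw [LinearMap.mem_ker, LinearMap.sub_apply, φ.comm_ε, ψ.comm_ε, sub_self]
  have hγ : GrLC.IsGrHom (E.X 0).gr (E'.X 0).gr (φ.φ 0 - ψ.φ 0) :=
    fun k x hx => sub_mem (φ.gr 0 k x hx) (ψ.gr 0 k x hx)
  obtain ⟨h, hh, hhd⟩ := exists_extension 𝒜 (E.X 1) (E'.X 0) (E.X 0).gr (E'.starInj 0)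
    (E.d 0) (E.d_grHom 0) (φ.φ 0 - ψ.φ 0) hγ hker
  refine ⟨⟨h, hh, ?_⟩, fun x => by rw [hhd x, LinearMap.sub_apply]⟩
  intro x hx
  obtain ⟨y, rfl⟩ := exists_of_d_succ_eq_zero E hx
  rw [hhd y, φ.comm_d, ψ.comm_d, LinearMap.sub_apply, map_sub, sub_self]

theorem exists_hstage_succ (n : ℕ) (t : HStage φ ψ n) :
    ∃ t' : HStage φ ψ (n + 1), ∀ x : (E.X (n + 1)).carrier,
      t'.s (E.d (n + 1) x) = φ.φ (n + 1) x - ψ.φ (n + 1) x - E'.d n (t.s x) := by
  have hker : LinearMap.ker (E.d (n + 1)) ≤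
      LinearMap.ker (φ.φ (n + 1) - ψ.φ (n + 1) - E'.d n ∘ₗ t.s) := by
    intro x hx
    rw [LinearMap.mem_ker, LinearMap.sub_apply, LinearMap.sub_apply, LinearMap.comp_apply]
    exact t.kills x hx
  have hγ : GrLC.IsGrHom (E.X (n + 1)).gr (E'.X (n + 1)).gr
      (φ.φ (n + 1) - ψ.φ (n + 1) - E'.d n ∘ₗ t.s) :=
    fun k x hx => sub_mem (sub_mem (φ.gr (n + 1) k x hx) (ψ.gr (n + 1) k x hx))
      (E'.d_grHom n k _ (t.hom k x hx))
  obtain ⟨h, hh, hhd⟩ := exists_extension 𝒜 (E.X (n + 2)) (E'.X (n + 1)) (E.X (n + 1)).gr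
    (E'.starInj (n + 1)) (E.d (n + 1)) (E.d_grHom (n + 1))
    (φ.φ (n + 1) - ψ.φ (n + 1) - E'.d n ∘ₗ t.s) hγ hker
  refine ⟨⟨h, hh, ?_⟩, fun x => by
    rw [hhd x, LinearMap.sub_apply, LinearMap.sub_apply, LinearMap.comp_apply]⟩
  intro x hx
  obtain ⟨y, rfl⟩ := exists_of_d_succ_eq_zero E hx
  rw [hhd y, φ.comm_d, ψ.comm_d, LinearMap.sub_apply, LinearMap.sub_apply, LinearMap.comp_apply,
    map_sub, map_sub, d_d E' n, sub_zero, sub_self]

/-- Two chain maps over the same linear map are homotopic through homogeneous maps. -/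
theorem exists_homotopy :
    ∃ s : ∀ n, (E.X (n + 1)).carrier →ₗ[R] (E'.X n).carrier,
      (∀ n, GrLC.IsGrHom (E.X (n + 1)).gr (E'.X n).gr (s n)) ∧
      (∀ x : (E.X 0).carrier, φ.φ 0 x - ψ.φ 0 x = s 0 (E.d 0 x)) ∧
      ∀ (n : ℕ) (x : (E.X (n + 1)).carrier),
        φ.φ (n + 1) x - ψ.φ (n + 1) x = E'.d n (s n x) + s (n + 1) (E.d (n + 1) x) := by
  obtain ⟨t0, ht0⟩ := exists_hstage_zero φ ψ
  choose next hnext using exists_hstage_succ φ ψ
  let S : ∀ n, HStage φ ψ n := fun n => Nat.rec t0 (fun n t => next n t) n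
  refine ⟨fun n => (S n).s, fun n => (S n).hom, fun x => (ht0 x).symm, fun n x => ?_⟩
  have h := hnext n (S n) x
  show _ = E'.d n ((S n).s x) + (next n (S n)).s (E.d (n + 1) x)
  rw [h]
  abel

end Homotopy

/-! ## The induced maps on graded local cohomology -/

section Hmap

variable {E : GrLC.StarInjRes 𝒜 M.gr} {E' : GrLC.StarInjRes 𝒜 N.gr} {E'' : GrLC.StarInjRes 𝒜 P.gr}
  {f : M.carrier →ₗ[R] N.carrier} {g : N.carrier →ₗ[R] P.carrier}
  (φ : ResHom E E' f) (a : HomogeneousIdeal 𝒜)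

theorem map_mem_cocyc (i : ℕ) {x : (E.X i).carrier} (hx : x ∈ E.cocyc a i) :
    φ.φ i x ∈ E'.cocyc a i := by
  refine ⟨map_mem_gam a.toIdeal (φ.φ i) hx.1, ?_⟩
  have h2 : E.d i x = 0 := hx.2
  show E'.d i (φ.φ i x) = 0
  rw [← φ.comm_d, h2, map_zero]

theorem map_mem_cobdy (i : ℕ) {x : (E.X i).carrier} (hx : x ∈ E.cobdy a i) :
    φ.φ i x ∈ E'.cobdy a i := by
  cases i with
  | zero =>
    have h0 : x = 0 := (Submodule.mem_bot R).mp hx
    rw [h0, map_zero]
    exact zero_mem _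
  | succ n =>
    obtain ⟨y, hy, rfl⟩ := hx
    exact ⟨φ.φ n y, map_mem_gam a.toIdeal (φ.φ n) hy, (φ.comm_d n y).symm⟩

/-- The map on cocycles. -/
def cocycMap (i : ℕ) : ↥(E.cocyc a i) →ₗ[R] ↥(E'.cocyc a i) :=
  (φ.φ i).restrict (fun _ hx => map_mem_cocyc φ a i hx)

@[simp] theorem cocycMap_coe (i : ℕ) (z : ↥(E.cocyc a i)) :
    ((cocycMap φ a i z : ↥(E'.cocyc a i)) : (E'.X i).carrier) = φ.φ i z := rfl

/-- The map induced on graded local cohomology by a chain map. -/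
def Hmap (i : ℕ) : E.H a i →ₗ[R] E'.H a i :=
  Submodule.mapQ _ _ (cocycMap φ a i) (fun _ hz => map_mem_cobdy φ a i hz)

@[simp] theorem Hmap_toH (i : ℕ) (z : ↥(E.cocyc a i)) :
    Hmap φ a i (E.toH a i z) = E'.toH a i (cocycMap φ a i z) := rfl

theorem Hmap_mem_Hcomp (i : ℕ) (k : ι) {x : E.H a i} (hx : x ∈ E.Hcomp a i k) :
    Hmap φ a i x ∈ E'.Hcomp a i k := by
  obtain ⟨z, hz, rfl⟩ := hx
  exact ⟨cocycMap φ a i z, φ.gr i k _ hz, rfl⟩

theorem toH_surjective (i : ℕ) : Function.Surjective (E.toH a i) := Submodule.mkQ_surjective _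

theorem toH_eq_zero_iff (i : ℕ) (z : ↥(E.cocyc a i)) :
    E.toH a i z = 0 ↔ (z : (E.X i).carrier) ∈ E.cobdy a i := by
  show Submodule.Quotient.mk z = 0 ↔ _
  rw [Submodule.Quotient.mk_eq_zero]
  exact Iff.rfl

/-- Independence of the chain map. -/
theorem Hmap_unique (ψ : ResHom E E' f) (i : ℕ) : Hmap φ a i = Hmap ψ a i := by
  obtain ⟨s, -, hs0, hs⟩ := exists_homotopy φ ψ
  apply LinearMap.ext
  intro x
  obtain ⟨z, rfl⟩ := toH_surjective a i x
  rw [Hmap_toH, Hmap_toH, ← sub_eq_zero, ← map_sub, toH_eq_zero_iff]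
  have hz2 : E.d i (z : (E.X i).carrier) = 0 := z.2.2
  cases i with
  | zero =>
    show φ.φ 0 z - ψ.φ 0 z ∈ (⊥ : Submodule R (E'.X 0).carrier)
    rw [hs0, hz2, map_zero]
    exact zero_mem _
  | succ n =>
    show φ.φ (n + 1) z - ψ.φ (n + 1) z ∈ (GrLC.gam a.toIdeal (E'.X n).carrier).map (E'.d n)
    rw [hs n, hz2, map_zero, add_zero]
    exact ⟨s n z, map_mem_gam a.toIdeal (s n) z.2.1, rfl⟩

theorem Hmap_id (E : GrLC.StarInjRes 𝒜 M.gr) (i : ℕ) :
    Hmap (ResHom.id E) a i = LinearMap.id := by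
  apply LinearMap.ext
  intro x
  obtain ⟨z, rfl⟩ := toH_surjective a i x
  rfl

theorem Hmap_comp (ψ : ResHom E' E'' g) (i : ℕ) :
    Hmap (ψ.comp φ) a i = Hmap ψ a i ∘ₗ Hmap φ a i := by
  apply LinearMap.ext
  intro x
  obtain ⟨z, rfl⟩ := toH_surjective a i x
  rfl

end Hmap

/-! ## Invariance -/

section Invariance

variable (a : HomogeneousIdeal 𝒜)

/-- If `f : M → N` and `g : N → M` are homogeneous and mutually inverse, then the induced maps on graded
local cohomology are mutually inverse, whatever the resolutions and chain maps. -/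
theorem Hmap_comp_eq_id {E : GrLC.StarInjRes 𝒜 M.gr} {E' : GrLC.StarInjRes 𝒜 N.gr}
    {f : M.carrier →ₗ[R] N.carrier} {g : N.carrier →ₗ[R] M.carrier} (hgf : g ∘ₗ f = LinearMap.id)
    (φ : ResHom E E' f) (ψ : ResHom E' E g) (i : ℕ) (x : E.H a i) :
    Hmap ψ a i (Hmap φ a i x) = x := by
  have h1 : Hmap (ψ.comp φ) a i = Hmap ψ a i ∘ₗ Hmap φ a i := Hmap_comp φ a ψ i
  have h2 : Hmap (ψ.comp φ) a i = LinearMap.id := by
    have e : ResHom E E LinearMap.id := hgf ▸ ψ.comp φ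
    have h3 : ∀ (h : M.carrier →ₗ[R] M.carrier) (hh : h = LinearMap.id) (χ : ResHom E E h),
        Hmap χ a i = LinearMap.id := by
      intro h hh χ
      subst hh
      rw [Hmap_unique χ a (ResHom.id E) i, Hmap_id]
    exact h3 _ hgf _
  have := LinearMap.congr_fun (h1.symm.trans h2) x
  exact this

/-- Vanishing of a homogeneous piece of graded local cohomology is invariant under homogeneous
isomorphisms and independent of the resolutions. -/
theorem Hcomp_eq_bot_of_equiv {E : GrLC.StarInjRes 𝒜 M.gr} {E' : GrLC.StarInjRes 𝒜 N.gr}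
    (f : M.carrier →ₗ[R] N.carrier) (g : N.carrier →ₗ[R] M.carrier)
    (hf : GrLC.IsGrHom M.gr N.gr f) (hg : GrLC.IsGrHom N.gr M.gr g)
    (hgf : g ∘ₗ f = LinearMap.id) (i : ℕ) (k : ι)
    (h : E'.Hcomp a i k = ⊥) : E.Hcomp a i k = ⊥ := by
  obtain ⟨φ⟩ := exists_resHom E E' f hf
  obtain ⟨ψ⟩ := exists_resHom E' E g hg
  rw [Submodule.eq_bot_iff]
  intro x hx
  have h1 : Hmap φ a i x ∈ E'.Hcomp a i k := Hmap_mem_Hcomp φ a i k hx
  rw [h] at h1
  have h2 : Hmap φ a i x = 0 := (Submodule.mem_bot _).mp h1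
  rw [← Hmap_comp_eq_id a hgf φ ψ i x, h2, map_zero]

/-- Independence of the resolution. -/
theorem Hcomp_eq_bot_iff (E E' : GrLC.StarInjRes 𝒜 M.gr) (i : ℕ) (k : ι) :
    E.Hcomp a i k = ⊥ ↔ E'.Hcomp a i k = ⊥ :=
  ⟨Hcomp_eq_bot_of_equiv a LinearMap.id LinearMap.id (fun _ _ h => h) (fun _ _ h => h) rfl i k,
    Hcomp_eq_bot_of_equiv a LinearMap.id LinearMap.id (fun _ _ h => h) (fun _ _ h => h) rfl i k⟩

end Invariance

end Groth.Agent.R2.H72.GrLCBasic
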