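import Groth.Agent.R2.H72GrLCTors
import Groth.Agent.R2.H72GrConv
import Groth.Agent.Lib.Helper13RegFinLen

/-!
# Torsion of graded modules bounded above, and of finite length modules over a polynomial ring (helper72)

* `gam_eq_top_of_bounded`: a `ℤ`-graded module whose pieces vanish in large degrees is torsion for any ideal
  generated by homogeneous elements of positive degree.
* `exists_bound_of_finite`: a finite dimensional submodule of a graded vector space meets only finitely many
  pieces.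
* `mem_gam_of_smul_eq_zero`: over `S = k[x_0..x_r]`, if the annihilator of the linear form `x` in the graded
  module `M` has finite length, its elements are torsion for the irrelevant ideal.
-/

set_option autoImplicit false
set_option linter.unusedSectionVars false
open DirectSum

noncomputable section

namespace Groth.Agent.R2.H72.GrLCFinLen

open Groth.Agent.R2.H72.GrLCBasic Groth.Agent.R2.H72.GrMod Groth.Agent.R2.H72.GrLCLES
  Groth.Agent.R2.H72.GrLCTors Groth.Agent.R2.H72.GrConv

universe u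

section Bounded

variable {R : Type u} [CommRing R] {𝒜 : ℤ → AddSubgroup R} [GradedRing 𝒜]
variable (T : GrLC.GMod.{u} 𝒜)

/-- The submodule generated by the pieces of degree at least `c`. -/
def geSub (c : ℤ) : Submodule R T.carrier :=
  Submodule.span R (⋃ l : ℤ, ⋃ (_ : c ≤ l), (T.gr l : Set T.carrier))

theorem mem_geSub {c l : ℤ} (hl : c ≤ l) {m : T.carrier} (hm : m ∈ T.gr l) : m ∈ geSub T c :=
  Submodule.subset_span (Set.mem_iUnion₂.2 ⟨l, hl, hm⟩)

theorem geSub_eq_bot {B c : ℤ} (hB : ∀ l, B < l → T.gr l = ⊥) (hc : B < c) : geSub T c = ⊥ := by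
  rw [geSub, Submodule.span_eq_bot]
  intro m hm
  obtain ⟨l, hl, hml⟩ := Set.mem_iUnion₂.1 hm
  have h1 : m ∈ T.gr l := hml
  rw [hB l (lt_of_lt_of_le hc hl)] at h1
  exact (AddSubgroup.mem_bot).1 h1

variable {T}

theorem smul_mem_geSub_succ {I : Ideal R}
    (hI : I ≤ Ideal.span {r : R | ∃ n : ℤ, 0 < n ∧ r ∈ 𝒜 n}) {c : ℤ} {s : R} (hs : s ∈ I)
    {v : T.carrier} (hv : v ∈ geSub T c) : s • v ∈ geSub T (c + 1) := by
  have hs' := hI hs
  clear hs
  induction hv using Submodule.span_induction with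
  | mem v hv =>
    obtain ⟨l, hl, hvl⟩ := Set.mem_iUnion₂.1 hv
    have hvl' : v ∈ T.gr l := hvl
    induction hs' using Submodule.span_induction with
    | mem g hg =>
      obtain ⟨n, hn, hgn⟩ := hg
      have h := SetLike.GradedSMul.smul_mem (A := 𝒜) (B := T.gr) hgn hvl'
      exact mem_geSub T (by rw [vadd_eq_add]; omega) h
    | zero => rw [zero_smul]; exact zero_mem _
    | add p q _ _ hp hq => rw [add_smul]; exact add_mem hp hq
    | smul q p _ hp => rw [smul_eq_mul, mul_smul]; exact Submodule.smul_mem _ q hp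
  | zero => rw [smul_zero]; exact zero_mem _
  | add p q _ _ hp hq => rw [smul_add]; exact add_mem hp hq
  | smul q p _ hp => rw [smul_comm]; exact Submodule.smul_mem _ q hp

theorem pow_smul_mem_geSub {I : Ideal R}
    (hI : I ≤ Ideal.span {r : R | ∃ n : ℤ, 0 < n ∧ r ∈ 𝒜 n}) (n : ℕ) :
    ∀ {c : ℤ} {r : R}, r ∈ I ^ n → ∀ {v : T.carrier}, v ∈ geSub T c → r • v ∈ geSub T (c + n) := by
  induction n with
  | zero =>
    intro c r _ v hv
    rw [Nat.cast_zero, add_zero]
    exact Submodule.smul_mem _ r hv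
  | succ n ih =>
    intro c r hr v hv
    rw [pow_succ] at hr
    refine Submodule.mul_induction_on hr ?_ ?_
    · intro p hp q hq
      rw [mul_comm, mul_smul]
      have h1 := ih hp hv
      have h2 := smul_mem_geSub_succ hI hq h1
      have e : c + (n : ℤ) + 1 = c + ((n + 1 : ℕ) : ℤ) := by push_cast; ring
      rw [e] at h2
      exact h2
    · intro p q hp hq
      rw [add_smul]
      exact add_mem hp hq

/-- A graded module vanishing in large degrees is torsion for an ideal generated in positive degrees. -/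
theorem gam_eq_top_of_bounded {I : Ideal R}
    (hI : I ≤ Ideal.span {r : R | ∃ n : ℤ, 0 < n ∧ r ∈ 𝒜 n}) {B : ℤ}
    (hB : ∀ l, B < l → T.gr l = ⊥) : GrLC.gam I T.carrier = ⊤ := by
  classical
  rw [eq_top_iff]
  intro m hm
  clear hm
  induction m using DirectSum.Decomposition.inductionOn T.gr with
  | zero => exact zero_mem _
  | homogeneous m =>
    rename_i j
    refine ⟨(B - j + 1).toNat, fun r hr => ?_⟩
    have h1 : r • (m : T.carrier) ∈ geSub T (j + ((B - j + 1).toNat : ℤ)) :=
      pow_smul_mem_geSub hI _ hr (mem_geSub T le_rfl m.2)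
    rw [geSub_eq_bot T hB (by omega)] at h1
    exact (Submodule.mem_bot R).1 h1
  | add p q hp hq => exact add_mem hp hq

end Bounded

section Finite

variable (k : Type u) [Field k] {S : Type u} [CommRing S] [Algebra k S]
variable {M : Type u} [AddCommGroup M] [Module k M] [Module S M] [IsScalarTower k S M]

/-- A finite dimensional submodule of a graded vector space contains no nonzero homogeneous element of
large degree. -/
theorem exists_bound_of_finite (ℳ : ℤ → Submodule k M) [DirectSum.Decomposition ℳ]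
    (K0 : Submodule S M) [Module.Finite k ↥K0] :
    ∃ B : ℤ, ∀ j, B < j → ∀ m ∈ K0, m ∈ ℳ j → m = 0 := by
  classical
  let f : ↥K0 →ₗ[k] M := K0.subtype.restrictScalars k
  have hf : Function.Injective f := Subtype.val_injective
  let N : ℤ → Submodule k ↥K0 := fun j => (ℳ j).comap f
  have hindM : iSupIndep ℳ := (DirectSum.Decomposition.isInternal ℳ).submodule_iSupIndep
  have hind : iSupIndep N := by
    intro i
    rw [Submodule.disjoint_def]
    intro y hy1 hy2
    have h1 : f y ∈ ℳ i := hy1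
    have h2 : f y ∈ ⨆ (j : ℤ) (_ : j ≠ i), ℳ j := by
      have h3 : f y ∈ (⨆ (j : ℤ) (_ : j ≠ i), N j).map f := Submodule.mem_map_of_mem hy2
      rw [Submodule.map_iSup] at h3
      have hle : (⨆ j, Submodule.map f (⨆ (_ : j ≠ i), N j)) ≤ ⨆ (j : ℤ) (_ : j ≠ i), ℳ j :=
        iSup_mono fun j => by
          rw [Submodule.map_iSup]
          exact iSup_mono fun _ => Submodule.map_comap_le f (ℳ j)
      exact hle h3
    have h0 : f y = 0 := (Submodule.disjoint_def.1 (hindM i)) (f y) h1 h2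
    exact hf (by rw [h0, map_zero])
  have hfin : {j | N j ≠ ⊥}.Finite := Submodule.finite_ne_bot_of_iSupIndep hind
  obtain ⟨B, hB⟩ := hfin.bddAbove
  refine ⟨B, fun j hj m hmK hmj => ?_⟩
  have hNj : N j = ⊥ := by
    by_contra hne
    have := hB hne
    omega
  have hmem : (⟨m, hmK⟩ : ↥K0) ∈ N j := hmj
  rw [hNj, Submodule.mem_bot] at hmem
  exact congrArg Subtype.val hmem

end Finite

/-! ## The polynomial ring -/

section Concrete

variable (k : Type u) [Field k] (r : ℕ)

/-- The standard grading of the polynomial ring, with `AddSubgroup` pieces. -/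
abbrev A : ℤ → AddSubgroup (MvPolynomial (Fin (r + 1)) k) := fam (GrSyz.stdGr k (Fin (r + 1)))

/-- The irrelevant ideal, for the converted grading. -/
abbrev irr : HomogeneousIdeal (A k r) := convIdeal (GrSyz.irrel (GrSyz.stdGr k (Fin (r + 1))))

variable {k r}
variable {M : Type u} [AddCommGroup M] [Module k M] [Module (MvPolynomial (Fin (r + 1)) k) M]
  [IsScalarTower k (MvPolynomial (Fin (r + 1)) k) M]
  (ℳ : ℤ → Submodule k M) [DirectSum.Decomposition ℳ]
  [SetLike.GradedSMul (GrSyz.stdGr k (Fin (r + 1))) ℳ]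

variable (k r) in
/-- A graded module over the polynomial ring, bundled over the converted grading. -/
def Mg : GrLC.GMod.{u} (A k r) := GrLC.GMod.of (A k r) M (fam ℳ)

theorem irr_le : (irr k r).toIdeal ≤
    Ideal.span {p : MvPolynomial (Fin (r + 1)) k | ∃ n : ℤ, 0 < n ∧ p ∈ A k r n} := le_rfl

include ℳ in
/-- If the annihilator of a linear form in `M` has finite length, it is torsion for the irrelevant ideal. -/
theorem mem_gam_of_smul_eq_zero (x : MvPolynomial (Fin (r + 1)) k)
    (hx : x ∈ GrSyz.stdGr k (Fin (r + 1)) 1)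
    (hq : IsFiniteLength (MvPolynomial (Fin (r + 1)) k)
      ↥(Submodule.torsionBy (MvPolynomial (Fin (r + 1)) k) M x))
    (m : M) (hm : x • m = 0) : m ∈ GrLC.gam (irr k r).toIdeal M := by
  haveI : Module.Finite k ↥(Submodule.torsionBy (MvPolynomial (Fin (r + 1)) k) M x) :=
    Groth.Agent.Helper13RegFinLen.finite_of_isFiniteLength k (MvPolynomial (Fin (r + 1)) k) hq
  obtain ⟨B, hB⟩ := exists_bound_of_finite k ℳ
    (Submodule.torsionBy (MvPolynomial (Fin (r + 1)) k) M x)
  have hx' : x ∈ A k r 1 := hx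
  have hbd : ∀ l, B + 1 < l → (KG (Mg k r ℳ) hx').gr l = ⊥ := by
    intro l hl
    rw [eq_bot_iff]
    rintro ⟨y, hy⟩ hyl
    have hy0 : x • y = 0 := hy
    have hyl' : y ∈ ℳ (l + -1) := hyl
    have h0 : y = 0 := hB (l + -1) (by omega) y
      ((Submodule.mem_torsionBy_iff _ _).2 hy0) hyl'
    exact (AddSubgroup.mem_bot).2 (Subtype.ext h0)
  have htop := gam_eq_top_of_bounded (T := KG (Mg k r ℳ) hx') (irr_le (k := k) (r := r)) hbd
  have hmem : (⟨m, hm⟩ : (KG (Mg k r ℳ) hx').carrier) ∈
      GrLC.gam (irr k r).toIdeal (KG (Mg k r ℳ) hx').carrier := by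
    rw [htop]; trivial
  exact map_mem_gam (irr k r).toIdeal (kerMul (Mg k r ℳ) x 1).subtype hmem

variable {N : Type u} [AddCommGroup N] [Module k N] [Module (MvPolynomial (Fin (r + 1)) k) N]
  [IsScalarTower k (MvPolynomial (Fin (r + 1)) k) N]
  (𝒩 : ℤ → Submodule k N) [DirectSum.Decomposition 𝒩]
  [SetLike.GradedSMul (GrSyz.stdGr k (Fin (r + 1))) 𝒩]

theorem van_Mg_iff (E : GrLC.StarInjRes (GrSyz.stdGr k (Fin (r + 1))) ℳ) (i : ℕ) (e : ℤ) :
    Van (irr k r) (Mg k r ℳ) i e ↔
      E.Hcomp (GrSyz.irrel (GrSyz.stdGr k (Fin (r + 1)))) i e = ⊥ := by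
  have h : Van (irr k r) (Mg k r ℳ) i e ↔ (convRes E).Hcomp (irr k r) i e = ⊥ :=
    van_iff (a := irr k r) (X := Mg k r ℳ) _ i e
  rw [h]
  exact Hcomp_conv_eq_bot_iff E _ i e

/-- Passage to the quotient by a quasi-regular linear form, in the language of the statements. -/
theorem hcomp_quot_eq_bot (x : MvPolynomial (Fin (r + 1)) k)
    (hx : x ∈ GrSyz.stdGr k (Fin (r + 1)) 1)
    (hq : IsFiniteLength (MvPolynomial (Fin (r + 1)) k)
      ↥(Submodule.torsionBy (MvPolynomial (Fin (r + 1)) k) M x))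
    (π : M →ₗ[MvPolynomial (Fin (r + 1)) k] N) (hπ : Function.Surjective π)
    (hπg : GrLC.IsGrHom ℳ 𝒩 π)
    (hker : LinearMap.ker π =
      LinearMap.range (x • (LinearMap.id : M →ₗ[MvPolynomial (Fin (r + 1)) k] M)))
    (E : GrLC.StarInjRes (GrSyz.stdGr k (Fin (r + 1))) ℳ)
    (E' : GrLC.StarInjRes (GrSyz.stdGr k (Fin (r + 1))) 𝒩) (i : ℕ) (e : ℤ)
    (h1 : E.Hcomp (GrSyz.irrel (GrSyz.stdGr k (Fin (r + 1)))) i e = ⊥)
    (h2 : E.Hcomp (GrSyz.irrel (GrSyz.stdGr k (Fin (r + 1)))) (i + 1) (e - 1) = ⊥) :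
    E'.Hcomp (GrSyz.irrel (GrSyz.stdGr k (Fin (r + 1)))) i e = ⊥ := by
  have hx' : x ∈ A k r 1 := hx
  have hker' : ∀ m : M, π m = 0 ↔ ∃ m', x • m' = m := by
    intro m
    rw [← LinearMap.mem_ker, hker]
    constructor
    · rintro ⟨m', rfl⟩
      exact ⟨m', rfl⟩
    · rintro ⟨m', rfl⟩
      exact ⟨m', rfl⟩
  have htors : ∀ m : M, x • m = 0 → m ∈ GrLC.gam (irr k r).toIdeal M :=
    mem_gam_of_smul_eq_zero ℳ x hx hq
  have v1 : Van (irr k r) (Mg k r ℳ) i e := (van_Mg_iff ℳ E i e).2 h1
  have v2 : Van (irr k r) (Mg k r ℳ) (i + 1) (e + -1) := (van_Mg_iff ℳ E (i + 1) (e + -1)).2 h2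
  have key : Van (irr k r) (Mg k r 𝒩) i e :=
    van_quot (a := irr k r) (M := Mg k r ℳ) (N := Mg k r 𝒩) hx' π hπ hπg hker' htors i e v1 v2
  exact (van_Mg_iff 𝒩 E' i e).1 key

end Concrete

end Groth.Agent.R2.H72.GrLCFinLen
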