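import Groth.Agent.R2.H72GrMod

/-!
# The long exact sequence of graded local cohomology, degree by degree (helper72)

For a short exact sequence `0 → M' → M → M'' → 0` of bundled graded modules with homogeneous maps
(`SES M' M M''`) and *injective resolutions `E'`, `E''` of the outer terms, `horseshoe` builds a *injective
resolution of `M` on the products `E'.X n × E''.X n`, with chain maps `inlHom` over `f` and `sndHom` over `g`.
The exactness statements of the long exact sequence are proved on this resolution and transferred to arbitrary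
resolutions and chain maps (`exact_mid`, `inj_of_van`, `surj_of_van`, `inj_zero`), and the resulting
vanishing statements `van_mid`, `van_right`, `van_left`, `van_left_zero` are stated with `Van`.
-/

set_option autoImplicit false
set_option linter.unusedSectionVars false
open DirectSum

noncomputable section

namespace Groth.Agent.R2.H72.GrLCLES

open Groth.Agent.Lib.Helper29GrCompare Groth.Agent.R2.H72.GrLCBasic Groth.Agent.R2.H72.GrMod

universe u

variable {ι : Type} [AddCommGroup ι] [DecidableEq ι]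
variable {R : Type u} [CommRing R] {𝒜 : ι → AddSubgroup R} [GradedRing 𝒜]

/-- A short exact sequence of graded modules with homogeneous maps. -/
structure SES (M' M M'' : GrLC.GMod.{u} 𝒜) where
  /-- the injection -/
  f : M'.carrier →ₗ[R] M.carrier
  /-- the surjection -/
  g : M.carrier →ₗ[R] M''.carrier
  f_gr : GrLC.IsGrHom M'.gr M.gr f
  g_gr : GrLC.IsGrHom M.gr M''.gr g
  f_inj : Function.Injective f
  g_surj : Function.Surjective g
  exact : ∀ m, g m = 0 ↔ ∃ m', f m' = m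

variable {M' M M'' : GrLC.GMod.{u} 𝒜}

theorem SES.g_f (S : SES M' M M'') (m' : M'.carrier) : S.g (S.f m') = 0 :=
  (S.exact _).2 ⟨m', rfl⟩

section Horseshoe

variable (S : SES M' M M'') (E' : GrLC.StarInjRes 𝒜 M'.gr) (E'' : GrLC.StarInjRes 𝒜 M''.gr)

/-- The data needed to build the horseshoe resolution. -/
structure HData where
  /-- an extension of the augmentation of `E'` to `M` -/
  lam : M.carrier →ₗ[R] (E'.X 0).carrier
  lam_gr : GrLC.IsGrHom M.gr (E'.X 0).gr lam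
  lam_f : ∀ m', lam (S.f m') = E'.ε m'
  /-- the twisting maps -/
  τ : ∀ n, (E''.X n).carrier →ₗ[R] (E'.X (n + 1)).carrier
  τ_gr : ∀ n, GrLC.IsGrHom (E''.X n).gr (E'.X (n + 1)).gr (τ n)
  τ_zero : ∀ m, τ 0 (E''.ε (S.g m)) = -E'.d 0 (lam m)
  τ_succ : ∀ n x, τ (n + 1) (E''.d n x) = -E'.d (n + 1) (τ n x)

theorem exists_lam : ∃ l : M.carrier →ₗ[R] (E'.X 0).carrier,
    GrLC.IsGrHom M.gr (E'.X 0).gr l ∧ ∀ m', l (S.f m') = E'.ε m' := by
  have hker : LinearMap.ker S.f ≤ LinearMap.ker E'.ε := by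
    intro m hm
    rw [LinearMap.mem_ker] at hm
    have : m = 0 := S.f_inj (by rw [hm, map_zero])
    rw [this]
    exact zero_mem _
  exact exists_extension 𝒜 M (E'.X 0) M'.gr (E'.starInj 0) S.f S.f_gr E'.ε E'.ε_grHom hker

variable {S E' E''}

/-- A stage of the construction of the twisting maps. -/
structure TStage (lam : M.carrier →ₗ[R] (E'.X 0).carrier) (n : ℕ) where
  t : (E''.X n).carrier →ₗ[R] (E'.X (n + 1)).carrier
  gr : GrLC.IsGrHom (E''.X n).gr (E'.X (n + 1)).gr t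
  kills : ∀ x, E''.d n x = 0 → E'.d (n + 1) (t x) = 0

theorem exists_tstage_zero (lam : M.carrier →ₗ[R] (E'.X 0).carrier)
    (lam_gr : GrLC.IsGrHom M.gr (E'.X 0).gr lam) (lam_f : ∀ m', lam (S.f m') = E'.ε m') :
    ∃ s : TStage (E'' := E'') lam 0, ∀ m, s.t (E''.ε (S.g m)) = -E'.d 0 (lam m) := by
  have hker : LinearMap.ker (E''.ε ∘ₗ S.g) ≤ LinearMap.ker (-(E'.d 0 ∘ₗ lam)) := by
    intro m hm
    rw [LinearMap.mem_ker, LinearMap.comp_apply] at hm
    have h0 : S.g m = 0 := E''.ε_injective (by rw [hm, map_zero])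
    obtain ⟨m', rfl⟩ := (S.exact m).1 h0
    rw [LinearMap.mem_ker, LinearMap.neg_apply, LinearMap.comp_apply, lam_f, d_ε, neg_zero]
  have hδ : GrLC.IsGrHom M.gr (E''.X 0).gr (E''.ε ∘ₗ S.g) :=
    fun k x hx => E''.ε_grHom k _ (S.g_gr k x hx)
  have hγ : GrLC.IsGrHom M.gr (E'.X 1).gr (-(E'.d 0 ∘ₗ lam)) :=
    fun k x hx => neg_mem (E'.d_grHom 0 k _ (lam_gr k x hx))
  obtain ⟨h, hh, hhe⟩ := exists_extension 𝒜 (E''.X 0) (E'.X 1) M.gr (E'.starInj 1)
    (E''.ε ∘ₗ S.g) hδ (-(E'.d 0 ∘ₗ lam)) hγ hker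
  have key : ∀ m, h (E''.ε (S.g m)) = -E'.d 0 (lam m) := fun m => hhe m
  refine ⟨⟨h, hh, ?_⟩, key⟩
  intro x hx
  obtain ⟨m'', rfl⟩ := exists_of_d_zero_eq_zero E'' hx
  obtain ⟨m, rfl⟩ := S.g_surj m''
  rw [key, map_neg, d_d, neg_zero]

theorem exists_tstage_succ (lam : M.carrier →ₗ[R] (E'.X 0).carrier) (n : ℕ)
    (s : TStage (E'' := E'') lam n) :
    ∃ t : TStage (E'' := E'') lam (n + 1), ∀ x, t.t (E''.d n x) = -E'.d (n + 1) (s.t x) := by
  have hker : LinearMap.ker (E''.d n) ≤ LinearMap.ker (-(E'.d (n + 1) ∘ₗ s.t)) := by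
    intro x hx
    rw [LinearMap.mem_ker, LinearMap.neg_apply, LinearMap.comp_apply, s.kills x hx, neg_zero]
  have hγ : GrLC.IsGrHom (E''.X n).gr (E'.X (n + 2)).gr (-(E'.d (n + 1) ∘ₗ s.t)) :=
    fun k x hx => neg_mem (E'.d_grHom (n + 1) k _ (s.gr k x hx))
  obtain ⟨h, hh, hhe⟩ := exists_extension 𝒜 (E''.X (n + 1)) (E'.X (n + 2)) (E''.X n).gr
    (E'.starInj (n + 2)) (E''.d n) (E''.d_grHom n) (-(E'.d (n + 1) ∘ₗ s.t)) hγ hker
  have key : ∀ x, h (E''.d n x) = -E'.d (n + 1) (s.t x) := fun x => hhe x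
  refine ⟨⟨h, hh, ?_⟩, key⟩
  intro x hx
  obtain ⟨y, rfl⟩ := exists_of_d_succ_eq_zero E'' hx
  rw [key, map_neg, d_d, neg_zero]

variable (S E' E'')

theorem exists_hData : Nonempty (HData S E' E'') := by
  obtain ⟨lam, lam_gr, lam_f⟩ := exists_lam S E'
  obtain ⟨s0, hs0⟩ := exists_tstage_zero (E'' := E'') lam lam_gr lam_f
  choose next hnext using exists_tstage_succ (E'' := E'') lam
  let T : ∀ n, TStage (E'' := E'') lam n := fun n => Nat.rec s0 (fun n s => next n s) n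
  exact ⟨⟨lam, lam_gr, lam_f, fun n => (T n).t, fun n => (T n).gr, hs0, fun n x => hnext n (T n) x⟩⟩

end Horseshoe

/-! ## The horseshoe resolution -/

section Build

variable {S : SES M' M M''} {E' : GrLC.StarInjRes 𝒜 M'.gr} {E'' : GrLC.StarInjRes 𝒜 M''.gr}

variable (E' E'') in
/-- The terms of the horseshoe resolution. -/
def hX (n : ℕ) : GrLC.GMod.{u} 𝒜 := prodG (E'.X n) (E''.X n)

variable (D : HData S E' E'')

/-- The differential of the horseshoe resolution. -/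
def hd (n : ℕ) : (hX E' E'' n).carrier →ₗ[R] (hX E' E'' (n + 1)).carrier :=
  LinearMap.prod
    (E'.d n ∘ₗ LinearMap.fst R (E'.X n).carrier (E''.X n).carrier +
      D.τ n ∘ₗ LinearMap.snd R (E'.X n).carrier (E''.X n).carrier)
    (E''.d n ∘ₗ LinearMap.snd R (E'.X n).carrier (E''.X n).carrier)

theorem hd_apply (n : ℕ) (p : (hX E' E'' n).carrier) :
    hd D n p = (E'.d n p.1 + D.τ n p.2, E''.d n p.2) := rfl

/-- The augmentation of the horseshoe resolution. -/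
def hε : M.carrier →ₗ[R] (hX E' E'' 0).carrier := LinearMap.prod D.lam (E''.ε ∘ₗ S.g)

theorem hε_apply (m : M.carrier) : hε D m = (D.lam m, E''.ε (S.g m)) := rfl

theorem hε_injective : Function.Injective (hε D) := by
  rw [injective_iff_map_eq_zero]
  intro m hm
  have h1 : D.lam m = 0 := congrArg Prod.fst hm
  have h2 : E''.ε (S.g m) = 0 := congrArg Prod.snd hm
  have h0 : S.g m = 0 := E''.ε_injective (by rw [h2, map_zero])
  obtain ⟨m', rfl⟩ := (S.exact m).1 h0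
  rw [D.lam_f] at h1
  have : m' = 0 := E'.ε_injective (by rw [h1, map_zero])
  rw [this, map_zero]

theorem hd_hε (m : M.carrier) : hd D 0 (hε D m) = 0 := by
  have e1 : E'.d 0 (D.lam m) + D.τ 0 (E''.ε (S.g m)) = 0 := by rw [D.τ_zero, add_neg_cancel]
  have e2 : E''.d 0 (E''.ε (S.g m)) = 0 := d_ε E'' _
  exact Prod.ext e1 e2

theorem hd_hd (n : ℕ) (p : (hX E' E'' n).carrier) : hd D (n + 1) (hd D n p) = 0 := by
  have e1 : E'.d (n + 1) (E'.d n p.1 + D.τ n p.2) + D.τ (n + 1) (E''.d n p.2) = 0 := by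
    rw [map_add, d_d, zero_add, D.τ_succ, add_neg_cancel]
  have e2 : E''.d (n + 1) (E''.d n p.2) = 0 := d_d E'' n _
  exact Prod.ext e1 e2

theorem hexact_zero : LinearMap.ker (hd D 0) = LinearMap.range (hε D) := by
  apply le_antisymm
  · rintro ⟨x', x''⟩ hx
    have h1 : E'.d 0 x' + D.τ 0 x'' = 0 := congrArg Prod.fst hx
    have h2 : E''.d 0 x'' = 0 := congrArg Prod.snd hx
    obtain ⟨m'', rfl⟩ := exists_of_d_zero_eq_zero E'' h2
    obtain ⟨m, rfl⟩ := S.g_surj m''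
    rw [D.τ_zero, ← sub_eq_add_neg, ← map_sub] at h1
    obtain ⟨m', hm'⟩ := exists_of_d_zero_eq_zero E' h1
    refine ⟨m + S.f m', ?_⟩
    have e1 : D.lam (m + S.f m') = x' := by rw [map_add, D.lam_f, hm']; abel
    have e2 : E''.ε (S.g (m + S.f m')) = E''.ε (S.g m) := by rw [map_add, S.g_f, add_zero]
    exact Prod.ext e1 e2
  · rintro _ ⟨m, rfl⟩
    exact hd_hε D m

theorem hexact_succ (n : ℕ) : LinearMap.ker (hd D (n + 1)) = LinearMap.range (hd D n) := by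
  apply le_antisymm
  · rintro ⟨y', y''⟩ hy
    have h1 : E'.d (n + 1) y' + D.τ (n + 1) y'' = 0 := congrArg Prod.fst hy
    have h2 : E''.d (n + 1) y'' = 0 := congrArg Prod.snd hy
    obtain ⟨x'', rfl⟩ := exists_of_d_succ_eq_zero E'' h2
    rw [D.τ_succ, ← sub_eq_add_neg, ← map_sub] at h1
    obtain ⟨x', hx'⟩ := exists_of_d_succ_eq_zero E' h1
    refine ⟨(x', x''), ?_⟩
    have e1 : E'.d n x' + D.τ n x'' = y' := by rw [hx']; abel
    exact Prod.ext e1 rfl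
  · rintro _ ⟨q, rfl⟩
    exact hd_hd D n q

/-- The horseshoe resolution of the middle term of a short exact sequence. -/
def horseshoe : GrLC.StarInjRes 𝒜 M.gr where
  X := hX E' E''
  d := hd D
  ε := hε D
  d_grHom n := fun k p hp =>
    ⟨add_mem (E'.d_grHom n k _ hp.1) (D.τ_gr n k _ hp.2), E''.d_grHom n k _ hp.2⟩
  ε_grHom := fun k m hm => ⟨D.lam_gr k m hm, E''.ε_grHom k _ (S.g_gr k m hm)⟩
  ε_injective := hε_injective D
  exact_zero := hexact_zero D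
  exact_succ := hexact_succ D
  starInj n := isStarInj_prodG _ _ (E'.starInj n) (E''.starInj n)

/-- The inclusion of `E'` into the horseshoe resolution. -/
def inlHom : ResHom E' (horseshoe D) S.f where
  φ n := LinearMap.inl R (E'.X n).carrier (E''.X n).carrier
  gr n := inl_grHom (E'.X n) (E''.X n)
  comm_ε m' := by
    have e1 : E'.ε m' = D.lam (S.f m') := (D.lam_f m').symm
    have e2 : (0 : (E''.X 0).carrier) = E''.ε (S.g (S.f m')) := by rw [S.g_f, map_zero]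
    exact Prod.ext e1 e2
  comm_d n x := by
    have e1 : E'.d n x = E'.d n x + D.τ n 0 := by rw [map_zero, add_zero]
    have e2 : (0 : (E''.X (n + 1)).carrier) = E''.d n 0 := (map_zero _).symm
    exact Prod.ext e1 e2

/-- The projection of the horseshoe resolution onto `E''`. -/
def sndHom : ResHom (horseshoe D) E'' S.g where
  φ n := LinearMap.snd R (E'.X n).carrier (E''.X n).carrier
  gr n := snd_grHom (E'.X n) (E''.X n)
  comm_ε _ := rfl
  comm_d _ _ := rfl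

end Build

/-! ## Exactness on the horseshoe resolution -/

section Exactness

variable (a : HomogeneousIdeal 𝒜)

/-- A homogeneous coboundary of `Γ_a(E)` is the image of a homogeneous torsion element. -/
theorem exists_homog_cobdy {N : GrLC.GMod.{u} 𝒜} (E : GrLC.StarInjRes 𝒜 N.gr) (n : ℕ) (k : ι)
    {z : (E.X (n + 1)).carrier} (hz : z ∈ (E.X (n + 1)).gr k) (hb : z ∈ E.cobdy a (n + 1)) :
    ∃ u, u ∈ GrLC.gam a.toIdeal (E.X n).carrier ∧ u ∈ (E.X n).gr k ∧ E.d n u = z := by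
  obtain ⟨u, hu, rfl⟩ := hb
  refine ⟨cmp (E.X n) k u, cmp_mem_gam a k hu, cmp_mem _ k u, ?_⟩
  have h := cmp_map (E.d n) (E.d_grHom n) k u
  rw [← h]
  exact cmp_of_mem _ hz

variable {S : SES M' M M''} {E' : GrLC.StarInjRes 𝒜 M'.gr} {E'' : GrLC.StarInjRes 𝒜 M''.gr}
  (D : HData S E' E'')

theorem d_τ (n : ℕ) (x : (E''.X n).carrier) :
    E'.d (n + 1) (D.τ n x) = -D.τ (n + 1) (E''.d n x) := by
  rw [D.τ_succ, neg_neg]

theorem inl_inj_zero_h (x : E'.H a 0) (hx : Hmap (inlHom D) a 0 x = 0) : x = 0 := by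
  obtain ⟨z, rfl⟩ := toH_surjective a 0 x
  rw [Hmap_toH, toH_eq_zero_iff] at hx
  have h0 : ((z : (E'.X 0).carrier), (0 : (E''.X 0).carrier)) = 0 := (Submodule.mem_bot R).mp hx
  have h1 : (z : (E'.X 0).carrier) = 0 := congrArg Prod.fst h0
  rw [toH_eq_zero_iff]
  show (z : (E'.X 0).carrier) ∈ (⊥ : Submodule R (E'.X 0).carrier)
  rw [h1]
  exact zero_mem _

theorem exact_mid_h (i : ℕ) (k : ι) (y : (horseshoe D).H a i)
    (hy : y ∈ (horseshoe D).Hcomp a i k) (h0 : Hmap (sndHom D) a i y = 0) :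
    ∃ x ∈ E'.Hcomp a i k, Hmap (inlHom D) a i x = y := by
  obtain ⟨z, hzk, rfl⟩ := hy
  obtain ⟨⟨z', z''⟩, hzΓ, hzd⟩ := z
  have hΓ := (mem_gam_prod (E'.X i) (E''.X i) a.toIdeal (z', z'')).1 hzΓ
  have hd1 : E'.d i z' + D.τ i z'' = 0 := congrArg Prod.fst hzd
  have hd2 : E''.d i z'' = 0 := congrArg Prod.snd hzd
  have hk1 : z' ∈ (E'.X i).gr k := hzk.1
  have hk2 : z'' ∈ (E''.X i).gr k := hzk.2
  rw [Hmap_toH, toH_eq_zero_iff] at h0
  have h0' : z'' ∈ E''.cobdy a i := h0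
  cases i with
  | zero =>
    have hz'' : z'' = 0 := (Submodule.mem_bot R).mp h0'
    have hd' : E'.d 0 z' = 0 := by
      rw [hz'', map_zero, add_zero] at hd1
      exact hd1
    refine ⟨E'.toH a 0 ⟨z', hΓ.1, hd'⟩, ⟨⟨z', hΓ.1, hd'⟩, hk1, rfl⟩, ?_⟩
    rw [Hmap_toH]
    congr 1
    apply Subtype.ext
    show ((z', 0) : (E'.X 0).carrier × (E''.X 0).carrier) = (z', z'')
    rw [hz'']
  | succ n =>
    obtain ⟨u'', hu''Γ, hu''k, hu''d⟩ := exists_homog_cobdy a E'' n k hk2 h0'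
    have hwΓ : z' - D.τ n u'' ∈ GrLC.gam a.toIdeal (E'.X (n + 1)).carrier :=
      sub_mem hΓ.1 (map_mem_gam a.toIdeal (D.τ n) hu''Γ)
    have hwk : z' - D.τ n u'' ∈ (E'.X (n + 1)).gr k := sub_mem hk1 (D.τ_gr n k _ hu''k)
    have hwd : E'.d (n + 1) (z' - D.τ n u'') = 0 := by
      rw [map_sub, d_τ, hu''d, sub_neg_eq_add]
      exact hd1
    refine ⟨E'.toH a (n + 1) ⟨z' - D.τ n u'', hwΓ, hwd⟩, ⟨⟨_, hwΓ, hwd⟩, hwk, rfl⟩, ?_⟩
    rw [Hmap_toH, ← sub_eq_zero, ← map_sub, toH_eq_zero_iff]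
    refine ⟨((0 : (E'.X n).carrier), -u''), ?_, ?_⟩
    · exact (mem_gam_prod (E'.X n) (E''.X n) a.toIdeal _).2 ⟨zero_mem _, neg_mem hu''Γ⟩
    · have e1 : E'.d n 0 + D.τ n (-u'') = z' - D.τ n u'' - z' := by
        rw [map_zero, map_neg, zero_add]; abel
      have e2 : E''.d n (-u'') = 0 - z'' := by rw [map_neg, hu''d, zero_sub]
      exact Prod.ext e1 e2

theorem inl_inj_h (i : ℕ) (k : ι) (hvan : E''.Hcomp a i k = ⊥) (x : E'.H a (i + 1))
    (hx : x ∈ E'.Hcomp a (i + 1) k) (h0 : Hmap (inlHom D) a (i + 1) x = 0) : x = 0 := by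
  obtain ⟨z, hzk, rfl⟩ := hx
  obtain ⟨z', hzΓ, hzd⟩ := z
  have hzk' : z' ∈ (E'.X (i + 1)).gr k := hzk
  rw [Hmap_toH, toH_eq_zero_iff] at h0
  have hk : ((z', 0) : (E'.X (i + 1)).carrier × (E''.X (i + 1)).carrier) ∈
      ((horseshoe D).X (i + 1)).gr k := ⟨hzk', zero_mem _⟩
  obtain ⟨⟨u', u''⟩, huΓ, huk, hud⟩ := exists_homog_cobdy a (horseshoe D) i k hk h0
  have hΓ := (mem_gam_prod (E'.X i) (E''.X i) a.toIdeal (u', u'')).1 huΓ
  have e1 : E'.d i u' + D.τ i u'' = z' := congrArg Prod.fst hud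
  have e2 : E''.d i u'' = 0 := congrArg Prod.snd hud
  have hu''k : u'' ∈ (E''.X i).gr k := huk.2
  have hcl : E''.toH a i ⟨u'', hΓ.2, e2⟩ ∈ E''.Hcomp a i k := ⟨⟨u'', hΓ.2, e2⟩, hu''k, rfl⟩
  rw [hvan, Submodule.mem_bot, toH_eq_zero_iff] at hcl
  have hcl' : u'' ∈ E''.cobdy a i := hcl
  rw [toH_eq_zero_iff]
  show z' ∈ (GrLC.gam a.toIdeal (E'.X i).carrier).map (E'.d i)
  cases i with
  | zero =>
    have hu'' : u'' = 0 := (Submodule.mem_bot R).mp hcl'
    rw [hu'', map_zero, add_zero] at e1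
    exact ⟨u', hΓ.1, e1⟩
  | succ n =>
    obtain ⟨v'', hv''Γ, hv''d⟩ := hcl'
    refine ⟨u' - D.τ n v'', sub_mem hΓ.1 (map_mem_gam a.toIdeal (D.τ n) hv''Γ), ?_⟩
    rw [map_sub, d_τ, hv''d, sub_neg_eq_add]
    exact e1

theorem snd_surj_h (i : ℕ) (k : ι) (hvan : E'.Hcomp a (i + 1) k = ⊥) (w : E''.H a i)
    (hw : w ∈ E''.Hcomp a i k) :
    ∃ y ∈ (horseshoe D).Hcomp a i k, Hmap (sndHom D) a i y = w := by
  obtain ⟨z, hzk, rfl⟩ := hw
  obtain ⟨z'', hzΓ, hzd⟩ := z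
  have hzk' : z'' ∈ (E''.X i).gr k := hzk
  have hzd' : E''.d i z'' = 0 := hzd
  have htΓ : D.τ i z'' ∈ GrLC.gam a.toIdeal (E'.X (i + 1)).carrier :=
    map_mem_gam a.toIdeal (D.τ i) hzΓ
  have htk : D.τ i z'' ∈ (E'.X (i + 1)).gr k := D.τ_gr i k _ hzk'
  have htd : E'.d (i + 1) (D.τ i z'') = 0 := by rw [d_τ, hzd', map_zero, neg_zero]
  have hcl : E'.toH a (i + 1) ⟨D.τ i z'', htΓ, htd⟩ ∈ E'.Hcomp a (i + 1) k :=
    ⟨⟨_, htΓ, htd⟩, htk, rfl⟩
  rw [hvan, Submodule.mem_bot, toH_eq_zero_iff] at hcl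
  obtain ⟨u', hu'Γ, hu'k, hu'd⟩ := exists_homog_cobdy a E' i k htk hcl
  have hyΓ : ((-u', z'') : (E'.X i).carrier × (E''.X i).carrier) ∈
      GrLC.gam a.toIdeal ((horseshoe D).X i).carrier :=
    (mem_gam_prod (E'.X i) (E''.X i) a.toIdeal _).2 ⟨neg_mem hu'Γ, hzΓ⟩
  have hyd : ((-u', z'') : (E'.X i).carrier × (E''.X i).carrier) ∈
      LinearMap.ker ((horseshoe D).d i) := by
    have e1 : E'.d i (-u') + D.τ i z'' = 0 := by rw [map_neg, hu'd, neg_add_cancel]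
    exact Prod.ext e1 hzd'
  have hyk : ((-u', z'') : (E'.X i).carrier × (E''.X i).carrier) ∈ prodGr (E'.X i) (E''.X i) k :=
    (mem_prodGr (E'.X i) (E''.X i)).2 ⟨neg_mem hu'k, hzk'⟩
  refine ⟨(horseshoe D).toH a i ⟨_, hyΓ, hyd⟩, ⟨⟨_, hyΓ, hyd⟩, hyk, rfl⟩, ?_⟩
  rfl

end Exactness

/-! ## Arbitrary resolutions and chain maps -/

section General

variable (a : HomogeneousIdeal 𝒜)

theorem Hmap_congr {N N' : GrLC.GMod.{u} 𝒜} {F : GrLC.StarInjRes 𝒜 N.gr}
    {F' : GrLC.StarInjRes 𝒜 N'.gr} {f f' : N.carrier →ₗ[R] N'.carrier} (h : f = f')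
    (φ : ResHom F F' f) (φ' : ResHom F F' f') (i : ℕ) : Hmap φ a i = Hmap φ' a i := by
  subst h
  exact Hmap_unique φ a φ' i

/-- The zero chain map. -/
def zeroHom {N N' : GrLC.GMod.{u} 𝒜} (F : GrLC.StarInjRes 𝒜 N.gr) (F' : GrLC.StarInjRes 𝒜 N'.gr) :
    ResHom F F' (0 : N.carrier →ₗ[R] N'.carrier) where
  φ _ := 0
  gr _ := fun _ _ _ => zero_mem _
  comm_ε m := by rw [LinearMap.zero_apply, LinearMap.zero_apply, map_zero]
  comm_d n x := by rw [LinearMap.zero_apply, LinearMap.zero_apply, map_zero]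

theorem Hmap_zeroHom {N N' : GrLC.GMod.{u} 𝒜} (F : GrLC.StarInjRes 𝒜 N.gr)
    (F' : GrLC.StarInjRes 𝒜 N'.gr) (i : ℕ) (x : F.H a i) : Hmap (zeroHom F F') a i x = 0 := by
  obtain ⟨z, rfl⟩ := toH_surjective a i x
  rw [Hmap_toH]
  have : cocycMap (zeroHom F F') a i z = 0 := Subtype.ext rfl
  rw [this, map_zero]

variable (S : SES M' M M'') {E' : GrLC.StarInjRes 𝒜 M'.gr} {E : GrLC.StarInjRes 𝒜 M.gr}
  {E'' : GrLC.StarInjRes 𝒜 M''.gr} (φ : ResHom E' E S.f) (ψ : ResHom E E'' S.g)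

theorem Hmap_comp_zero (i : ℕ) (x : E'.H a i) : Hmap ψ a i (Hmap φ a i x) = 0 := by
  have h0 : S.g ∘ₗ S.f = 0 := by
    apply LinearMap.ext
    intro m'
    exact S.g_f m'
  have h1 := Hmap_congr a h0 (ψ.comp φ) (zeroHom E' E'') i
  rw [Hmap_comp] at h1
  have h2 := LinearMap.congr_fun h1 x
  rw [LinearMap.comp_apply] at h2
  rw [h2, Hmap_zeroHom]

theorem exists_transfer : ∃ (D : HData S E' E'') (θ : ResHom E (horseshoe D) LinearMap.id)
    (θ' : ResHom (horseshoe D) E LinearMap.id),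
    (∀ i x, Hmap (inlHom D) a i x = Hmap θ a i (Hmap φ a i x)) ∧
    (∀ i y, Hmap ψ a i y = Hmap (sndHom D) a i (Hmap θ a i y)) ∧
    (∀ i y, Hmap θ' a i (Hmap θ a i y) = y) ∧ (∀ i y, Hmap θ a i (Hmap θ' a i y) = y) := by
  obtain ⟨D⟩ := exists_hData S E' E''
  obtain ⟨θ⟩ := exists_resHom E (horseshoe D) LinearMap.id (fun _ _ h => h)
  obtain ⟨θ'⟩ := exists_resHom (horseshoe D) E LinearMap.id (fun _ _ h => h)
  refine ⟨D, θ, θ', ?_, ?_, ?_, ?_⟩
  · intro i x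
    have h1 := Hmap_congr a (LinearMap.id_comp S.f) (θ.comp φ) (inlHom D) i
    rw [← h1, Hmap_comp]
    rfl
  · intro i y
    have h1 := Hmap_congr a (LinearMap.comp_id S.g) ((sndHom D).comp θ) ψ i
    rw [← h1, Hmap_comp]
    rfl
  · intro i y
    exact Hmap_comp_eq_id a (LinearMap.id_comp _) θ θ' i y
  · intro i y
    exact Hmap_comp_eq_id a (LinearMap.id_comp _) θ' θ i y

include ψ in
/-- `H^0(M') → H^0(M)` is injective. -/
theorem inj_zero (x : E'.H a 0) (h : Hmap φ a 0 x = 0) : x = 0 := by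
  obtain ⟨D, θ, θ', k1, -, -, -⟩ := exists_transfer a S φ ψ
  apply inl_inj_zero_h a D x
  rw [k1, h, map_zero]

/-- Exactness at `H^i(M)`, in each degree. -/
theorem exact_mid (i : ℕ) (k : ι) (y : E.H a i) (hy : y ∈ E.Hcomp a i k)
    (h0 : Hmap ψ a i y = 0) : ∃ x ∈ E'.Hcomp a i k, Hmap φ a i x = y := by
  obtain ⟨D, θ, θ', k1, k2, k3, -⟩ := exists_transfer a S φ ψ
  have hy' : Hmap θ a i y ∈ (horseshoe D).Hcomp a i k := Hmap_mem_Hcomp θ a i k hy
  have h0' : Hmap (sndHom D) a i (Hmap θ a i y) = 0 := by rw [← k2, h0]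
  obtain ⟨x, hx, hxy⟩ := exact_mid_h a D i k _ hy' h0'
  refine ⟨x, hx, ?_⟩
  rw [k1] at hxy
  rw [← k3 i (Hmap φ a i x), hxy, k3]

include ψ in
/-- If `H^i(M'')_k = 0` then `H^{i+1}(M')_k → H^{i+1}(M)_k` is injective. -/
theorem inj_of_van (i : ℕ) (k : ι) (hvan : E''.Hcomp a i k = ⊥) (x : E'.H a (i + 1))
    (hx : x ∈ E'.Hcomp a (i + 1) k) (h0 : Hmap φ a (i + 1) x = 0) : x = 0 := by
  obtain ⟨D, θ, θ', k1, -, -, -⟩ := exists_transfer a S φ ψ
  apply inl_inj_h a D i k hvan x hx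
  rw [k1, h0, map_zero]

include φ in
/-- If `H^{i+1}(M')_k = 0` then `H^i(M)_k → H^i(M'')_k` is surjective. -/
theorem surj_of_van (i : ℕ) (k : ι) (hvan : E'.Hcomp a (i + 1) k = ⊥) (w : E''.H a i)
    (hw : w ∈ E''.Hcomp a i k) : ∃ y ∈ E.Hcomp a i k, Hmap ψ a i y = w := by
  obtain ⟨D, θ, θ', -, k2, -, k4⟩ := exists_transfer a S φ ψ
  obtain ⟨y, hy, hyw⟩ := snd_surj_h a D i k hvan w hw
  refine ⟨Hmap θ' a i y, Hmap_mem_Hcomp θ' a i k hy, ?_⟩
  rw [k2, k4, hyw]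

end General

/-! ## Vanishing statements -/

section VanLES

variable {a : HomogeneousIdeal 𝒜} (S : SES M' M M'')

include S

theorem van_mid (i : ℕ) (k : ι) (h' : Van a M' i k) (h'' : Van a M'' i k) : Van a M i k := by
  obtain ⟨D⟩ := exists_hData S (someRes M') (someRes M'')
  rw [van_iff (horseshoe D)]
  rw [Submodule.eq_bot_iff]
  intro y hy
  have h1 : Hmap (sndHom D) a i y ∈ (someRes M'').Hcomp a i k := Hmap_mem_Hcomp _ a i k hy
  rw [h'' (someRes M''), Submodule.mem_bot] at h1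
  obtain ⟨x, hx, rfl⟩ := exact_mid_h a D i k y hy h1
  rw [h' (someRes M'), Submodule.mem_bot] at hx
  rw [hx, map_zero]

theorem van_right (i : ℕ) (k : ι) (h : Van a M i k) (h' : Van a M' (i + 1) k) :
    Van a M'' i k := by
  obtain ⟨D⟩ := exists_hData S (someRes M') (someRes M'')
  rw [van_iff (someRes M'')]
  rw [Submodule.eq_bot_iff]
  intro w hw
  obtain ⟨y, hy, rfl⟩ := snd_surj_h a D i k (h' (someRes M')) w hw
  rw [h (horseshoe D), Submodule.mem_bot] at hy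
  rw [hy, map_zero]

theorem van_left (i : ℕ) (k : ι) (h'' : Van a M'' i k) (h : Van a M (i + 1) k) :
    Van a M' (i + 1) k := by
  obtain ⟨D⟩ := exists_hData S (someRes M') (someRes M'')
  rw [van_iff (someRes M')]
  rw [Submodule.eq_bot_iff]
  intro x hx
  apply inl_inj_h a D i k (h'' (someRes M'')) x hx
  have h1 : Hmap (inlHom D) a (i + 1) x ∈ (horseshoe D).Hcomp a (i + 1) k :=
    Hmap_mem_Hcomp _ a (i + 1) k hx
  rw [h (horseshoe D), Submodule.mem_bot] at h1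
  exact h1

theorem van_left_zero (k : ι) (h : Van a M 0 k) : Van a M' 0 k := by
  obtain ⟨D⟩ := exists_hData S (someRes M') (someRes M'')
  rw [van_iff (someRes M')]
  rw [Submodule.eq_bot_iff]
  intro x hx
  apply inl_inj_zero_h a D x
  have h1 : Hmap (inlHom D) a 0 x ∈ (horseshoe D).Hcomp a 0 k := Hmap_mem_Hcomp _ a 0 k hx
  rw [h (horseshoe D), Submodule.mem_bot] at h1
  exact h1

end VanLES

end Groth.Agent.R2.H72.GrLCLES
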