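import Groth.Agent.R2.H72GrLCLES
import Groth.Agent.S13224
import Groth.Agent.Lib.Helper8LC2

/-!
# Graded local cohomology: degree zero, torsion modules, multiplication by a homogeneous element (helper72)

* `van_zero_iff`: `H^0_a(M)_k = 0` iff `M_k` contains no nonzero `a`-torsion element.
* `van_succ_of_torsion`: the higher graded local cohomology of an `a`-torsion graded module vanishes
  (Noetherian ring, grading group free of finite rank).
* `exists_pow_smul_eq_zero`: every class is killed by a power of any element of `a`.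
* `mulHom`: multiplication by a homogeneous element `x` of degree `δ` as a chain map
  `E(-δ) → E`; `Hmap_mulHom`: it induces multiplication by `x`.
* `van_quot`, `van_of_van_quot`: passage to and from `M/xM` for an element `x` whose annihilator in `M` is
  `a`-torsion ("quasi-regular").
-/

set_option autoImplicit false
set_option linter.unusedSectionVars false
open DirectSum

noncomputable section

namespace Groth.Agent.R2.H72.GrLCTors

open Groth.Agent.Lib.Helper29GrHom Groth.Agent.R2.H72.GrLCBasic Groth.Agent.R2.H72.GrMod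
  Groth.Agent.R2.H72.GrLCLES

universe u

variable {ι : Type} [AddCommGroup ι] [DecidableEq ι]
variable {R : Type u} [CommRing R] {𝒜 : ι → AddSubgroup R} [GradedRing 𝒜]

section Zero

variable {a : HomogeneousIdeal 𝒜} {M : GrLC.GMod.{u} 𝒜}

/-- A homogeneous injective map reflects homogeneity. -/
theorem mem_gr_of_map_mem {X Y : GrLC.GMod.{u} 𝒜} (f : X.carrier →ₗ[R] Y.carrier)
    (hf : GrLC.IsGrHom X.gr Y.gr f) (hinj : Function.Injective f) {k : ι} {x : X.carrier}
    (hx : f x ∈ Y.gr k) : x ∈ X.gr k := by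
  have h1 : cmp Y k (f x) = f (cmp X k x) := cmp_map f hf k x
  rw [cmp_of_mem _ hx] at h1
  have h2 : x = cmp X k x := hinj h1
  rw [h2]
  exact cmp_mem X k x

/-- `H^0_a(M)_k = 0` iff there is no nonzero `a`-torsion element of degree `k`. -/
theorem van_zero_iff (k : ι) :
    Van a M 0 k ↔ ∀ m : M.carrier, m ∈ M.gr k → m ∈ GrLC.gam a.toIdeal M.carrier → m = 0 := by
  rw [van_iff (someRes M)]
  set E := someRes M with hE
  constructor
  · intro h m hmk hmΓ
    have hzΓ : E.ε m ∈ GrLC.gam a.toIdeal (E.X 0).carrier := map_mem_gam a.toIdeal E.ε hmΓ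
    have hzd : E.ε m ∈ LinearMap.ker (E.d 0) := d_ε E m
    have hcl : E.toH a 0 ⟨E.ε m, hzΓ, hzd⟩ ∈ E.Hcomp a 0 k :=
      ⟨⟨_, hzΓ, hzd⟩, E.ε_grHom k m hmk, rfl⟩
    rw [h, Submodule.mem_bot, toH_eq_zero_iff] at hcl
    have h0 : E.ε m = 0 := (Submodule.mem_bot R).mp hcl
    exact E.ε_injective (by rw [h0, map_zero])
  · intro h
    rw [Submodule.eq_bot_iff]
    rintro _ ⟨⟨z, hzΓ, hzd⟩, hzk, rfl⟩
    obtain ⟨m, rfl⟩ := exists_of_d_zero_eq_zero E hzd
    have hmk : m ∈ M.gr k := mem_gr_of_map_mem E.ε E.ε_grHom E.ε_injective hzk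
    have hmΓ : m ∈ GrLC.gam a.toIdeal M.carrier := by
      obtain ⟨n, hn⟩ := hzΓ
      refine ⟨n, fun r hr => ?_⟩
      apply E.ε_injective
      rw [map_smul, hn r hr, map_zero]
    have hm0 := h m hmk hmΓ
    subst hm0
    have : (⟨E.ε 0, hzΓ, hzd⟩ : ↥(E.cocyc a 0)) = 0 := Subtype.ext (map_zero _)
    rw [this, map_zero]

end Zero

section Torsion

variable [IsNoetherianRing R] [Module.Free ℤ ι] [Module.Finite ℤ ι]
variable {a : HomogeneousIdeal 𝒜} {T : GrLC.GMod.{u} 𝒜}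

/-- The higher graded local cohomology of a torsion module vanishes. -/
theorem van_succ_of_torsion (hT : GrLC.gam a.toIdeal T.carrier = ⊤) (i : ℕ) (k : ι) :
    Van a T (i + 1) k := by
  intro E
  obtain ⟨e⟩ := Groth.Agent.S13224.result R 𝒜 a T.carrier T.gr E (i + 1)
  have hT' : DRing.torsionSub a.toIdeal T.carrier = ⊤ := by
    rw [eq_top_iff]
    intro m _
    have hm : m ∈ GrLC.gam a.toIdeal T.carrier := by rw [hT]; trivial
    exact hm
  rw [Submodule.eq_bot_iff]
  intro x _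
  have h0 : e x = 0 :=
    Groth.Agent.Lib.Helper8.LC.H_succ_eq_zero_of_torsion a.toIdeal i T.carrier hT' (e x)
  exact e.injective (by rw [h0, map_zero])

end Torsion

/-! ## Multiplication by a homogeneous element -/

section Mul

variable {a : HomogeneousIdeal 𝒜} {M : GrLC.GMod.{u} 𝒜}

/-- Every class of graded local cohomology is killed by a power of any element of the ideal. -/
theorem exists_pow_smul_eq_zero (E : GrLC.StarInjRes 𝒜 M.gr) {x : R} (hx : x ∈ a.toIdeal) (i : ℕ)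
    (c : E.H a i) : ∃ n : ℕ, x ^ n • c = 0 := by
  obtain ⟨z, rfl⟩ := toH_surjective a i c
  obtain ⟨n, hn⟩ := z.2.1
  refine ⟨n, ?_⟩
  rw [← map_smul]
  have : x ^ n • z = 0 := Subtype.ext (hn _ (Ideal.pow_mem_pow hx n))
  rw [this, map_zero]

theorem smul_mem_Hcomp (E : GrLC.StarInjRes 𝒜 M.gr) {x : R} {δ : ι} (hx : x ∈ 𝒜 δ) (i : ℕ) (k : ι)
    {c : E.H a i} (hc : c ∈ E.Hcomp a i k) : x • c ∈ E.Hcomp a i (δ + k) := by
  obtain ⟨z, hz, rfl⟩ := hc
  refine ⟨x • z, ?_, map_smul _ _ _⟩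
  exact SetLike.GradedSMul.smul_mem (A := 𝒜) (B := (E.X i).gr) hx hz

/-- Multiplication by `x`, as a map from the shifted module. -/
def mulMap (M : GrLC.GMod.{u} 𝒜) (x : R) (δ : ι) : (shiftG M (-δ)).carrier →ₗ[R] M.carrier :=
  LinearMap.lsmul R M.carrier x

theorem mulMap_apply (x : R) (δ : ι) (m : M.carrier) : mulMap M x δ m = x • m := rfl

theorem mulMap_grHom {x : R} {δ : ι} (hx : x ∈ 𝒜 δ) :
    GrLC.IsGrHom (shiftG M (-δ)).gr M.gr (mulMap M x δ) := by
  intro k m hm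
  have key : ∀ m0 : M.carrier, m0 ∈ M.gr (k + -δ) → x • m0 ∈ M.gr k := by
    intro m0 hm0
    have h := SetLike.GradedSMul.smul_mem (A := 𝒜) (B := M.gr) hx hm0
    have e : δ +ᵥ (k + -δ) = k := by rw [vadd_eq_add]; abel
    rw [e] at h
    exact h
  exact key m hm

/-- Multiplication by a homogeneous element as a chain map from the shifted resolution. -/
def mulHom (E : GrLC.StarInjRes 𝒜 M.gr) {x : R} {δ : ι} (hx : x ∈ 𝒜 δ) :
    ResHom (shiftRes E (-δ)) E (mulMap M x δ) where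
  φ n := mulMap (E.X n) x δ
  gr n := mulMap_grHom hx
  comm_ε m := (map_smul E.ε x m).symm
  comm_d n y := (map_smul (E.d n) x y).symm

theorem Hmap_mulHom (E : GrLC.StarInjRes 𝒜 M.gr) {x : R} {δ : ι} (hx : x ∈ 𝒜 δ) (i : ℕ)
    (c : E.H a i) : Hmap (mulHom E hx) a i c = x • c := by
  obtain ⟨z, rfl⟩ := toH_surjective a i c
  rfl

end Mul

/-! ## Quotient by a quasi-regular homogeneous element -/

section Quot

variable {a : HomogeneousIdeal 𝒜} {M N : GrLC.GMod.{u} 𝒜} {x : R} {δ : ι}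

variable (M x δ) in
/-- The kernel of multiplication by `x`, inside the shifted module. -/
def kerMul : Submodule R (shiftG M (-δ)).carrier := LinearMap.ker (mulMap M x δ)

theorem kerMul_isHomogeneous (hx : x ∈ 𝒜 δ) :
    (kerMul M x δ).IsHomogeneous (shiftG M (-δ)).gr :=
  ker_isHomogeneous M.gr (shiftG M (-δ)).gr (mulMap M x δ) (mulMap_grHom hx)

variable (M) in
/-- The kernel of multiplication by `x` as a graded module. -/
def KG (hx : x ∈ 𝒜 δ) : GrLC.GMod.{u} 𝒜 := subG (shiftG M (-δ)) (kerMul M x δ) (kerMul_isHomogeneous hx)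

variable (M) in
/-- The image of multiplication by `x` as a graded module (the shifted module modulo the kernel). -/
def QG (hx : x ∈ 𝒜 δ) : GrLC.GMod.{u} 𝒜 := quotG (shiftG M (-δ)) (kerMul M x δ) (kerMul_isHomogeneous hx)

variable (M) in
/-- `0 → K → M(-δ) → M(-δ)/K → 0`. -/
def ses1 (hx : x ∈ 𝒜 δ) : SES (KG M hx) (shiftG M (-δ)) (QG M hx) where
  f := (kerMul M x δ).subtype
  g := (kerMul M x δ).mkQ
  f_gr := subG_incl_grHom _ _ _
  g_gr := quotG_mk_grHom _ _ _
  f_inj := Submodule.injective_subtype _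
  g_surj := Submodule.mkQ_surjective _
  exact m := by
    constructor
    · intro hm
      exact ⟨⟨m, (Submodule.Quotient.mk_eq_zero (kerMul M x δ)).1 hm⟩, rfl⟩
    · rintro ⟨m', rfl⟩
      exact (Submodule.Quotient.mk_eq_zero (kerMul M x δ)).2 m'.2

variable (M) in
/-- The injection `M(-δ)/K → M` induced by multiplication by `x`. -/
def mulBar (hx : x ∈ 𝒜 δ) : (QG M hx).carrier →ₗ[R] M.carrier :=
  (kerMul M x δ).liftQ (mulMap M x δ) le_rfl

theorem mulBar_mk (hx : x ∈ 𝒜 δ) (m : (shiftG M (-δ)).carrier) :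
    mulBar M hx ((kerMul M x δ).mkQ m) = mulMap M x δ m := rfl

theorem mulBar_comp (hx : x ∈ 𝒜 δ) : mulBar M hx ∘ₗ (kerMul M x δ).mkQ = mulMap M x δ := rfl

theorem mulBar_injective (hx : x ∈ 𝒜 δ) : Function.Injective (mulBar M hx) := by
  rw [← LinearMap.ker_eq_bot]
  exact Submodule.ker_liftQ_eq_bot _ _ _ le_rfl

theorem mulBar_grHom (hx : x ∈ 𝒜 δ) : GrLC.IsGrHom (QG M hx).gr M.gr (mulBar M hx) := by
  rintro k _ ⟨m, hm, rfl⟩
  exact mulMap_grHom hx k m hm

/-- `0 → M(-δ)/K → M → N → 0`. -/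
def ses2 (hx : x ∈ 𝒜 δ) (π : M.carrier →ₗ[R] N.carrier) (hπ : Function.Surjective π)
    (hπg : GrLC.IsGrHom M.gr N.gr π) (hker : ∀ m, π m = 0 ↔ ∃ m', x • m' = m) :
    SES (QG M hx) M N where
  f := mulBar M hx
  g := π
  f_gr := mulBar_grHom hx
  g_gr := hπg
  f_inj := mulBar_injective hx
  g_surj := hπ
  exact m := by
    rw [hker]
    constructor
    · rintro ⟨m', rfl⟩
      exact ⟨(kerMul M x δ).mkQ m', rfl⟩
    · rintro ⟨q, rfl⟩
      obtain ⟨m', rfl⟩ := (kerMul M x δ).mkQ_surjective q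
      exact ⟨m', rfl⟩

theorem gam_KG_eq_top (hx : x ∈ 𝒜 δ)
    (htors : ∀ m : M.carrier, x • m = 0 → m ∈ GrLC.gam a.toIdeal M.carrier) :
    GrLC.gam a.toIdeal (KG M hx).carrier = ⊤ := by
  rw [eq_top_iff]
  rintro ⟨m, hm⟩ _
  obtain ⟨n, hn⟩ := htors m hm
  exact ⟨n, fun r hr => Subtype.ext (hn r hr)⟩

variable [IsNoetherianRing R] [Module.Free ℤ ι] [Module.Finite ℤ ι]

/-- If `H^i(M)_e = 0` and `H^{i+1}(M)_{e-δ} = 0` then `H^i(M/xM)_e = 0`, for `x` of degree `δ` with
`a`-torsion annihilator in `M`. -/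
theorem van_quot (hx : x ∈ 𝒜 δ) (π : M.carrier →ₗ[R] N.carrier) (hπ : Function.Surjective π)
    (hπg : GrLC.IsGrHom M.gr N.gr π) (hker : ∀ m, π m = 0 ↔ ∃ m', x • m' = m)
    (htors : ∀ m : M.carrier, x • m = 0 → m ∈ GrLC.gam a.toIdeal M.carrier)
    (i : ℕ) (e : ι) (h1 : Van a M i e) (h2 : Van a M (i + 1) (e + -δ)) : Van a N i e := by
  have hK : Van a (KG M hx) (i + 1 + 1) e := van_succ_of_torsion (gam_KG_eq_top hx htors) (i + 1) e
  have hM1 : Van a (shiftG M (-δ)) (i + 1) e := (van_shiftG (-δ) (i + 1) e).2 h2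
  have hQ : Van a (QG M hx) (i + 1) e := van_right (ses1 M hx) (i + 1) e hM1 hK
  exact van_right (ses2 hx π hπ hπg hker) i e h1 hQ

/-- Multiplication by `x` is injective on `H^{i+1}(M)_e` when `H^i(M/xM)_{e+δ} = 0`. -/
theorem smul_eq_zero_imp (hx : x ∈ 𝒜 δ) (π : M.carrier →ₗ[R] N.carrier)
    (hπ : Function.Surjective π) (hπg : GrLC.IsGrHom M.gr N.gr π)
    (hker : ∀ m, π m = 0 ↔ ∃ m', x • m' = m)
    (htors : ∀ m : M.carrier, x • m = 0 → m ∈ GrLC.gam a.toIdeal M.carrier)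
    (i : ℕ) (e : ι) (hN : Van a N i (e + δ)) (E : GrLC.StarInjRes 𝒜 M.gr) (c : E.H a (i + 1))
    (hc : c ∈ E.Hcomp a (i + 1) e) (h0 : x • c = 0) : c = 0 := by
  set E1 := shiftRes E (-δ) with hE1
  set EQ := someRes (QG M hx) with hEQ
  set EK := someRes (KG M hx) with hEK
  set EN := someRes N with hEN
  obtain ⟨p⟩ := exists_resHom E1 EQ (kerMul M x δ).mkQ (quotG_mk_grHom _ _ _)
  obtain ⟨μ⟩ := exists_resHom EQ E (mulBar M hx) (mulBar_grHom hx)
  obtain ⟨j⟩ := exists_resHom EK E1 (kerMul M x δ).subtype (subG_incl_grHom _ _ _)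
  obtain ⟨ψ⟩ := exists_resHom E EN π hπg
  have hc1 : c ∈ E1.Hcomp a (i + 1) (e + δ) := by
    rw [mem_Hcomp_shiftRes, add_neg_cancel_right]
    exact hc
  have hcomp : Hmap (mulHom E hx) a (i + 1) c = Hmap μ a (i + 1) (Hmap p a (i + 1) c) := by
    have h := Hmap_congr a (mulBar_comp (M := M) hx) (μ.comp p) (mulHom E hx) (i + 1)
    have h2 := LinearMap.congr_fun (Hmap_comp p a μ (i + 1)) c
    exact (LinearMap.congr_fun h c).symm.trans h2
  rw [Hmap_mulHom, h0] at hcomp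
  have hpc : Hmap p a (i + 1) c ∈ EQ.Hcomp a (i + 1) (e + δ) := Hmap_mem_Hcomp p a (i + 1) _ hc1
  have hpc0 : Hmap p a (i + 1) c = 0 :=
    inj_of_van a (ses2 hx π hπ hπg hker) μ ψ i (e + δ) (hN EN) _ hpc hcomp.symm
  obtain ⟨y, hy, hyc⟩ := exact_mid a (ses1 M hx) j p (i + 1) (e + δ) c hc1 hpc0
  have hK : Van a (KG M hx) (i + 1) (e + δ) := van_succ_of_torsion (gam_KG_eq_top hx htors) i _
  rw [hK EK, Submodule.mem_bot] at hy
  rw [← hyc, hy]
  exact map_zero _

/-- If `H^i(M/xM)_{e+(j+1)δ} = 0` for all `j ≥ 0`, then `H^{i+1}(M)_e = 0` (`x ∈ a` homogeneous of degree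
`δ` with `a`-torsion annihilator in `M`). -/
theorem van_of_van_quot (hx : x ∈ 𝒜 δ) (hxa : x ∈ a.toIdeal) (π : M.carrier →ₗ[R] N.carrier)
    (hπ : Function.Surjective π) (hπg : GrLC.IsGrHom M.gr N.gr π)
    (hker : ∀ m, π m = 0 ↔ ∃ m', x • m' = m)
    (htors : ∀ m : M.carrier, x • m = 0 → m ∈ GrLC.gam a.toIdeal M.carrier)
    (i : ℕ) (e : ι) (hN : ∀ j : ℕ, Van a N i (e + (j + 1) • δ)) : Van a M (i + 1) e := by
  intro E
  rw [Submodule.eq_bot_iff]
  intro c hc
  obtain ⟨n, hn⟩ := exists_pow_smul_eq_zero E hxa (i + 1) c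
  have key : ∀ (n : ℕ) (e : ι) (c : E.H a (i + 1)), c ∈ E.Hcomp a (i + 1) e →
      (∀ j : ℕ, Van a N i (e + (j + 1) • δ)) → x ^ n • c = 0 → c = 0 := by
    intro n
    induction n with
    | zero =>
      intro e c _ _ h
      rw [pow_zero, one_smul] at h
      exact h
    | succ n ih =>
      intro e c hc hN h
      have hxc : x • c ∈ E.Hcomp a (i + 1) (e + δ) := by
        rw [add_comm e δ]
        exact smul_mem_Hcomp E hx (i + 1) e hc
      have hN' : ∀ j : ℕ, Van a N i (e + δ + (j + 1) • δ) := by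
        intro j
        have h1 := hN (j + 1)
        have e1 : e + ((j + 1 + 1) • δ) = e + δ + (j + 1) • δ := by
          rw [succ_nsmul δ (j + 1)]; abel
        rw [← e1]
        exact h1
      have h' : x ^ n • (x • c) = 0 := by
        rw [smul_smul, ← pow_succ]
        exact h
      have hxc0 := ih (e + δ) (x • c) hxc hN' h'
      have hN0 : Van a N i (e + δ) := by
        have h1 := hN 0
        rw [zero_add, one_smul] at h1
        exact h1
      exact smul_eq_zero_imp hx π hπ hπg hker htors i e hN0 E c hc hxc0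
  exact key n e c hc hN hn

end Quot

end Groth.Agent.R2.H72.GrLCTors
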