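import Groth.Agent.R2.H72GrPoly

/-!
# Linear regular elements over an infinite residue field, and polynomial rings over Artinian rings (helper72)

* `exists_linear_avoid`: in a standard graded *local ring with infinite residue field, a linear form avoiding
  finitely many primes not containing the irrelevant ideal;
* `exists_linear_span`: the module-level induction producing `s` linear forms spanning `X_1` over `X_0`;
* the Hilbert function of a Cohen–Macaulay standard graded ring with `a(R) = -d`;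
* `exists_algEquiv_of_endDeg`: `a(R) = -d` implies `R ≅ R_0[T_1..T_d]`.
-/

set_option autoImplicit false
set_option linter.unusedSectionVars false
set_option linter.style.haveILetI false
open DirectSum
open scoped Pointwise

noncomputable section

namespace Groth.Agent.R2.H72.GrLin

open Groth.Agent.R2.H72.GrBddLocal Groth.Agent.R2.H72.GrArt Groth.Agent.R2.H72.GrMono
  Groth.Agent.R2.H72.GrDim Groth.Agent.R2.H72.GrSerre Groth.Agent.R2.H72.GrMod
  Groth.Agent.R2.H72.GrSerreCtx Groth.Agent.R2.H72.GrHilbDim Groth.Agent.R2.H72.GrAInv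
  Groth.Agent.R2.H72.GrPoly Groth.Agent.R2.H72.GrLCLES Groth.Agent.R2.H72.GrLCTors
  Groth.Agent.R2.H72.GrBdd Groth.Agent.R2.H72.GrFinH Groth.Agent.R2.H72.GrRegGen
  Groth.Agent.R2.H72.GrTop

universe u

/-! ### Linear prime avoidance -/

section LinAvoid

variable {R : Type u} [CommRing R] [IsNoetherianRing R] {𝒜 : ℤ → AddSubgroup R} [GradedRing 𝒜]

/-- In a positively graded *local ring the elements of `R_0` outside `m ∩ R_0` are units. -/
theorem isUnit_of_notMem_m0 (hpos : ∀ n : ℤ, n < 0 → 𝒜 n = ⊥) (m : HomogeneousIdeal 𝒜)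
    (hm : GrLC.IsStarLocal 𝒜 m) (u : GrLC.deg0 𝒜) (hu : u ∉ m0 m) : IsUnit u := by
  by_contra hnu
  obtain ⟨q, hq, huq⟩ := exists_max_ideal_of_mem_nonunits (mem_nonunits_iff.2 hnu)
  rw [eq_m0_of_isMaximal hpos m hm q hq] at huq
  exact hu huq

/-- Finitely many elements of `R_0` with pairwise unit differences, when the residue field is infinite. -/
theorem exists_units_family (hpos : ∀ n : ℤ, n < 0 → 𝒜 n = ⊥) (m : HomogeneousIdeal 𝒜)
    (hm : GrLC.IsStarLocal 𝒜 m) (hinf : Infinite (R ⧸ m.toIdeal)) (n : ℕ) :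
    ∃ u : Fin n → GrLC.deg0 𝒜, ∀ a b, a ≠ b → IsUnit (u a - u b) := by
  classical
  let emb := Infinite.natEmbedding (R ⧸ m.toIdeal)
  choose r hr using fun a : Fin n => Ideal.Quotient.mk_surjective (I := m.toIdeal) (emb a)
  refine ⟨fun a => proj0 hpos (r a), ?_⟩
  intro a b hab
  apply isUnit_of_notMem_m0 hpos m hm
  intro hmem
  have h1 : ((proj0 hpos (r a) - proj0 hpos (r b) : GrLC.deg0 𝒜) : R) ∈ m.toIdeal := hmem
  have hle := irrH_le_of_isStarLocal hpos m hm
  have h2 : ∀ c : R, Ideal.Quotient.mk m.toIdeal ((proj0 hpos c : GrLC.deg0 𝒜) : R)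
      = Ideal.Quotient.mk m.toIdeal c := by
    intro c
    rw [eq_comm, Ideal.Quotient.eq]
    exact hle (sub_decompose_zero_mem_irrH hpos c)
  have h3 : Ideal.Quotient.mk m.toIdeal
      ((proj0 hpos (r a) - proj0 hpos (r b) : GrLC.deg0 𝒜) : R) = 0 :=
    Ideal.Quotient.eq_zero_iff_mem.2 h1
  rw [AddSubgroupClass.coe_sub, map_sub, h2, h2, hr, hr, sub_eq_zero] at h3
  have h4 : (a : ℕ) = (b : ℕ) := emb.injective h3
  exact hab (Fin.ext h4)

/-- **Linear prime avoidance** over an infinite residue field. -/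
theorem exists_linear_avoid (hpos : ∀ n : ℤ, n < 0 → 𝒜 n = ⊥)
    (hstd : Ideal.span (⋃ n ∈ Set.Ioi (0 : ℤ), (𝒜 n : Set R)) = Ideal.span ((𝒜 1 : AddSubgroup R) : Set R))
    (m : HomogeneousIdeal 𝒜) (hm : GrLC.IsStarLocal 𝒜 m) (hinf : Infinite (R ⧸ m.toIdeal))
    (P : Finset (Ideal R)) (hP : ∀ p ∈ P, p.IsPrime ∧ ¬ (irrH 𝒜).toIdeal ≤ p) :
    ∃ x ∈ 𝒜 1, ∀ p ∈ P, x ∉ p := by
  classical
  induction P using Finset.induction_on with
  | empty => exact ⟨0, zero_mem _, by simp⟩
  | insert q P' hq ih =>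
    obtain ⟨y, hy1, hy⟩ := ih (fun p hp => hP p (Finset.mem_insert_of_mem hp))
    by_cases hyq : y ∉ q
    · refine ⟨y, hy1, fun p hp => ?_⟩
      rcases Finset.mem_insert.1 hp with rfl | hp
      · exact hyq
      · exact hy p hp
    · rw [not_not] at hyq
      have hqP := hP q (Finset.mem_insert_self q P')
      obtain ⟨z, hz1, hzq⟩ : ∃ z ∈ 𝒜 1, z ∉ q := by
        by_contra hcon
        push Not at hcon
        apply hqP.2
        rw [irrH_toIdeal, hstd, Ideal.span_le]
        exact fun z hz => hcon z hz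
      obtain ⟨u, hu⟩ := exists_units_family hpos m hm hinf (P'.card + 1)
      have hc1 : ∀ a, z + (u a : R) * y ∈ 𝒜 1 := by
        intro a
        apply AddSubgroup.add_mem _ hz1
        have := SetLike.GradedMul.mul_mem (show ((u a : GrLC.deg0 𝒜) : R) ∈ 𝒜 0 from (u a).2) hy1
        rwa [zero_add] at this
      have hcq : ∀ a, z + (u a : R) * y ∉ q := by
        intro a hmem
        apply hzq
        have h1 : (u a : R) * y ∈ q := Ideal.mul_mem_left _ _ hyq
        exact (Ideal.add_mem_iff_left _ h1).1 hmem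
      have hex : ∃ a, ∀ p ∈ P', z + (u a : R) * y ∉ p := by
        by_contra hcon
        push Not at hcon
        choose j hj1 hj2 using hcon
        have hcard : P'.card < (Finset.univ : Finset (Fin (P'.card + 1))).card := by
          rw [Finset.card_univ, Fintype.card_fin]
          exact Nat.lt_succ_self _
        obtain ⟨a, -, b, -, hab, hjab⟩ := Finset.exists_ne_map_eq_of_card_lt_of_maps_to hcard
          (fun a _ => hj1 a)
        have hp := (hP (j a) (Finset.mem_insert_of_mem (hj1 a))).1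
        have h1 : z + (u a : R) * y ∈ j a := hj2 a
        have h2 : z + (u b : R) * y ∈ j a := hjab ▸ hj2 b
        have h3 : ((u a - u b : GrLC.deg0 𝒜) : R) * y ∈ j a := by
          have : ((u a - u b : GrLC.deg0 𝒜) : R) * y
              = (z + (u a : R) * y) - (z + (u b : R) * y) := by
            rw [AddSubgroupClass.coe_sub]
            ring
          rw [this]
          exact Ideal.sub_mem _ h1 h2
        have hunit : IsUnit (((u a - u b : GrLC.deg0 𝒜) : R)) :=
          (hu a b hab).map (GrLC.deg0 𝒜).subtype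
        rcases hp.mem_or_mem h3 with h4 | h4
        · exact hp.ne_top (Ideal.eq_top_of_isUnit_mem _ h4 hunit)
        · exact hy (j a) (hj1 a) h4
      obtain ⟨a, ha⟩ := hex
      refine ⟨z + (u a : R) * y, hc1 a, fun p hp => ?_⟩
      rcases Finset.mem_insert.1 hp with rfl | hp
      · exact hcq a
      · exact ha p hp

end LinAvoid

/-! ### Linear non-zerodivisors and the module-level induction -/

section LinSpan

variable {R : Type u} [CommRing R] [IsNoetherianRing R] {𝒜 : ℤ → AddSubgroup R} [GradedRing 𝒜]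
  [IsArtinianRing (GrLC.deg0 𝒜)]

/-- A linear non-zerodivisor on a finitely generated graded module without `m`-torsion, over an infinite residue
field. -/
theorem exists_linear_regular (hpos : ∀ n : ℤ, n < 0 → 𝒜 n = ⊥)
    (hstd : Ideal.span (⋃ n ∈ Set.Ioi (0 : ℤ), (𝒜 n : Set R)) = Ideal.span ((𝒜 1 : AddSubgroup R) : Set R))
    (m : HomogeneousIdeal 𝒜) (hm : GrLC.IsStarLocal 𝒜 m) (hinf : Infinite (R ⧸ m.toIdeal))
    (X : GrLC.GMod.{u} 𝒜) [Module.Finite R X.carrier]
    (hΓ : GrLC.gam m.toIdeal X.carrier = ⊥) :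
    ∃ x ∈ 𝒜 1, (∀ y : X.carrier, x • y = 0 → y = 0) ∧
      ∀ p ∈ (Module.annihilator R X.carrier).minimalPrimes, x ∉ p := by
  classical
  obtain ⟨N, hN⟩ := exists_pow_le_irrH hpos m hm
  have hfin : (associatedPrimes R X.carrier).Finite := associatedPrimes.finite R X.carrier
  have hP : ∀ p ∈ hfin.toFinset, p.IsPrime ∧ ¬ (irrH 𝒜).toIdeal ≤ p := by
    intro p hp
    rw [Set.Finite.mem_toFinset] at hp
    have hp' : IsAssociatedPrime p X.carrier := hp
    refine ⟨hp'.isPrime, ?_⟩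
    intro hle
    obtain ⟨hprime, y, hy⟩ := isAssociatedPrime_iff.1 hp'
    have hyΓ : y ∈ GrLC.gam m.toIdeal X.carrier := by
      refine ⟨N, fun r hr => ?_⟩
      have h1 : r ∈ p := hle (hN hr)
      rw [hy, Submodule.mem_colon_singleton, Submodule.mem_bot] at h1
      exact h1
    rw [hΓ, Submodule.mem_bot] at hyΓ
    apply hprime.ne_top
    rw [hy, hyΓ, Ideal.eq_top_iff_one, Submodule.mem_colon_singleton, smul_zero]
    exact zero_mem _
  obtain ⟨x, hx1, hx⟩ := exists_linear_avoid hpos hstd m hm hinf hfin.toFinset hP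
  refine ⟨x, hx1, ?_, ?_⟩
  · intro y hxy
    by_contra hy0
    have h1 : x ∈ {r : R | ∃ z : X.carrier, z ≠ 0 ∧ r • z = 0} := ⟨y, hy0, hxy⟩
    rw [← biUnion_associatedPrimes_eq_zero_divisors R X.carrier] at h1
    obtain ⟨p, hp, hxp⟩ := Set.mem_iUnion₂.1 h1
    exact hx p ((Set.Finite.mem_toFinset hfin).2 hp) hxp
  · intro p hp
    exact hx p ((Set.Finite.mem_toFinset hfin).2
      (Module.associatedPrimes.minimalPrimes_annihilator_subset_associatedPrimes R X.carrier hp))

/-- **The module-level induction**: a finitely generated graded module `X` with `dim Supp X ≤ s`,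
`H^j_m(X) = 0` for `j < s` and `H^s_m(X)_e = 0` for `e > -s` has `X_1 = x_1 X_0 + ⋯ + x_s X_0` for suitable linear
forms `x_i` (infinite residue field). -/
theorem exists_linear_span (hpos : ∀ n : ℤ, n < 0 → 𝒜 n = ⊥)
    (hstd : Ideal.span (⋃ n ∈ Set.Ioi (0 : ℤ), (𝒜 n : Set R)) = Ideal.span ((𝒜 1 : AddSubgroup R) : Set R))
    (m : HomogeneousIdeal 𝒜) (hm : GrLC.IsStarLocal 𝒜 m) (hinf : Infinite (R ⧸ m.toIdeal)) (d : ℕ)
    (hd : ringKrullDim R < ((d + 1 : ℕ) : WithBot ℕ∞)) :
    ∀ (s : ℕ) (X : GrLC.GMod.{u} 𝒜) [Module.Finite R X.carrier],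
      Module.supportDim R X.carrier ≤ (s : WithBot ℕ∞) → (∀ j, j < s → ∀ e, Van m X j e) →
      (∀ e : ℤ, -(s : ℤ) < e → Van m X s e) →
      ∃ x : Fin s → R, (∀ i, x i ∈ 𝒜 1) ∧ ∀ z ∈ X.gr 1, ∃ w : Fin s → X.carrier,
        (∀ i, w i ∈ X.gr 0) ∧ z = ∑ i, x i • w i := by
  classical
  have hmax : (m0 m).IsMaximal := m0_isMaximal m hm
  have hle := irrH_le_of_isStarLocal hpos m hm
  intro s
  induction s with
  | zero =>
    intro X _ hsd _ h2
    have hD := Dl_pow_gq_of_supportDim_le hpos hstd m hm d hd X 0 hsd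
    rw [pow_zero, Module.End.one_apply] at hD
    have hchi : chi m d X 1 = 0 := by
      unfold chi
      apply Finset.sum_eq_zero
      intro i _
      have hv : Van m X i 1 := by
        rcases Nat.eq_zero_or_pos i with hi | hi
        · rw [hi]
          exact h2 1 (by norm_num)
        · apply van_of_supportDim_lt m X i
          refine lt_of_le_of_lt hsd ?_
          exact_mod_cast hi
      rw [hlen_eq_zero_of_van m i 1 hv, Nat.cast_zero, mul_zero]
    have h1 := congrFun hD 1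
    unfold gq gfun at h1
    rw [hchi, sub_zero, Pi.zero_apply] at h1
    have h3 : hfun X 1 = 0 := by exact_mod_cast h1
    have hfl := isFiniteLength_comp X 1
    unfold hfun len at h3
    have h4 : Module.length (GrLC.deg0 𝒜) ↥(GrLC.comp 𝒜 X.gr 1) = 0 := by
      rcases (ENat.toNat_eq_zero).1 h3 with h | h
      · exact h
      · exact absurd h (Module.length_ne_top_iff.2 hfl)
    have hsub : Subsingleton ↥(GrLC.comp 𝒜 X.gr 1) := Module.length_eq_zero_iff.1 h4
    refine ⟨Fin.elim0, fun i => Fin.elim0 i, ?_⟩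
    intro z hz
    refine ⟨Fin.elim0, fun i => Fin.elim0 i, ?_⟩
    have h5 := congrArg Subtype.val (Subsingleton.elim
      (⟨z, hz⟩ : ↥(GrLC.comp 𝒜 X.gr 1)) 0)
    rw [Finset.univ_eq_empty, Finset.sum_empty]
    exact h5
  | succ s ih =>
    intro X _ hsd h1 h2
    have hΓ : GrLC.gam m.toIdeal X.carrier = ⊥ :=
      gam_eq_bot_of_van m X (fun e => h1 0 (Nat.succ_pos s) e)
    obtain ⟨x, hx1, hreg, hmin⟩ := exists_linear_regular hpos hstd m hm hinf X hΓ
    let P : Submodule R X.carrier := x • (⊤ : Submodule R X.carrier)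
    have hP : P.IsHomogeneous X.gr := smul_top_isHomogeneous X hx1
    have hfinC : Module.Finite R (quotG X P hP).carrier :=
      inferInstanceAs (Module.Finite R (X.carrier ⧸ P))
    have hdim0 : Module.supportDim R (X.carrier ⧸ P) + 1 ≤ Module.supportDim R X.carrier :=
      Module.supportDim_quotSMulTop_succ_le_of_notMem_minimalPrimes hmin
    have hdim : Module.supportDim R (quotG X P hP).carrier ≤ (s : WithBot ℕ∞) := by
      have h3 : Module.supportDim R (X.carrier ⧸ P) + 1 ≤ ((s + 1 : ℕ) : WithBot ℕ∞) :=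
        le_trans hdim0 hsd
      change Module.supportDim R (X.carrier ⧸ P) ≤ _
      rcases eq_or_ne (Module.supportDim R (X.carrier ⧸ P)) ⊥ with h | hne
      · rw [h]
        exact bot_le
      · obtain ⟨c, hc⟩ := WithBot.ne_bot_iff_exists.1 hne
        rw [← hc] at h3 ⊢
        have h4 : ((c + 1 : ℕ∞) : WithBot ℕ∞) ≤ (((s : ℕ∞) + 1 : ℕ∞) : WithBot ℕ∞) := by
          exact_mod_cast h3
        have h5 : c + 1 ≤ (s : ℕ∞) + 1 := WithBot.coe_le_coe.1 h4
        have h6 : c ≤ (s : ℕ∞) := (ENat.add_le_add_iff_right ENat.one_ne_top).1 h5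
        exact_mod_cast WithBot.coe_le_coe.2 h6
    have hker : ∀ y : X.carrier, P.mkQ y = 0 ↔ ∃ y', x • y' = y := by
      intro y
      rw [Submodule.mkQ_apply, Submodule.Quotient.mk_eq_zero]
      constructor
      · intro h
        obtain ⟨y', -, h'⟩ := (Submodule.mem_smul_pointwise_iff_exists _ _ _).1 h
        exact ⟨y', h'⟩
      · rintro ⟨y', rfl⟩
        exact Submodule.smul_mem_pointwise_smul _ _ _ Submodule.mem_top
    have htors : ∀ y : X.carrier, x • y = 0 → y ∈ GrLC.gam m.toIdeal X.carrier := by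
      intro y hy
      rw [hreg y hy]
      exact zero_mem _
    have hv1 : ∀ j, j < s → ∀ e, Van m (quotG X P hP) j e := by
      intro j hj e
      exact van_quot (a := m) (M := X) (N := quotG X P hP) hx1 P.mkQ P.mkQ_surjective
        (quotG_mk_grHom X P hP) hker htors j e (h1 j (by omega) e) (h1 (j + 1) (by omega) _)
    have hv2 : ∀ e : ℤ, -(s : ℤ) < e → Van m (quotG X P hP) s e := by
      intro e he
      exact van_quot (a := m) (M := X) (N := quotG X P hP) hx1 P.mkQ P.mkQ_surjective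
        (quotG_mk_grHom X P hP) hker htors s e (h1 s (Nat.lt_succ_self s) e)
        (h2 (e + -1) (by push_cast; omega))
    obtain ⟨x', hx'1, hx'⟩ := ih (quotG X P hP) hdim hv1 hv2
    refine ⟨Fin.cons x x', fun i => ?_, ?_⟩
    · refine Fin.cases ?_ (fun j => ?_) i
      · rw [Fin.cons_zero]
        exact hx1
      · rw [Fin.cons_succ]
        exact hx'1 j
    · intro z hz
      have hz' : P.mkQ z ∈ (quotG X P hP).gr 1 := quotG_mk_grHom X P hP 1 z hz
      obtain ⟨wb, hwb0, hwb⟩ := hx' (P.mkQ z) hz'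
      have hlift : ∀ i, ∃ w ∈ X.gr 0, P.mkQ w = wb i := fun i => hwb0 i
      choose w hw0 hw using hlift
      have h3 : P.mkQ (z - ∑ i, x' i • w i) = 0 := by
        have e1 : P.mkQ (∑ i, x' i • w i) = ∑ i, x' i • wb i := by
          rw [map_sum]
          apply Finset.sum_congr rfl
          intro i _
          rw [map_smul, hw i]
          rfl
        rw [map_sub, e1]
        exact sub_eq_zero.2 hwb
      obtain ⟨v, hv⟩ := (hker _).1 h3
      have h4 : z - ∑ i, x' i • w i ∈ X.gr 1 := by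
        apply AddSubgroup.sub_mem _ hz
        apply AddSubgroup.sum_mem
        intro i _
        have := SetLike.GradedSMul.smul_mem (A := 𝒜) (B := X.gr) (hx'1 i) (hw0 i)
        rw [vadd_eq_add, add_zero] at this
        exact this
      have h5 : x • v = x • ((decompose X.gr v) 0 : X.carrier) := by
        have e1 : ((decompose X.gr (x • v)) 1 : X.carrier) = x • v := by
          rw [hv]
          exact DirectSum.decompose_of_mem_same X.gr h4
        rw [← e1, Groth.Agent.Lib.Helper29GrEss.decompose_smul_of_mem 𝒜 X.gr hx1 v 1, sub_self]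
      refine ⟨Fin.cons ((decompose X.gr v) 0 : X.carrier) w, fun i => ?_, ?_⟩
      · refine Fin.cases ?_ (fun j => ?_) i
        · rw [Fin.cons_zero]
          exact ((decompose X.gr v) 0).2
        · rw [Fin.cons_succ]
          exact hw0 j
      · rw [Fin.sum_univ_succ]
        simp only [Fin.cons_zero, Fin.cons_succ]
        rw [← h5, hv]
        abel

end LinSpan

/-! ### The Hilbert function when `a(R) = -d` -/

section HilbA

/-- Pointwise version: if `(Dl^d f)(n) = 0` and `f(n-1) = ⋯ = f(n-d) = 0` then `f(n) = 0`. -/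
theorem eq_zero_of_Dl_pow_apply (d : ℕ) : ∀ (f : ℤ → ℚ) (n : ℤ), (Dl ^ d) f n = 0 →
    (∀ j : ℕ, 1 ≤ j → j ≤ d → f (n - j) = 0) → f n = 0 := by
  induction d with
  | zero =>
    intro f n h _
    simpa using h
  | succ d ih =>
    intro f n h hf
    rw [pow_succ, Module.End.mul_apply] at h
    have h2 := ih (Dl f) n h (fun j hj1 hjd => by
      rw [Dl_apply, hf j hj1 (by omega)]
      have := hf (j + 1) (by omega) (by omega)
      have e : n - (j : ℤ) + -1 = n - ((j + 1 : ℕ) : ℤ) := by push_cast; ring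
      rw [e, this, sub_zero])
    rw [Dl_apply] at h2
    have h3 := hf 1 le_rfl (by omega)
    have e : n + -1 = n - ((1 : ℕ) : ℤ) := by push_cast; ring
    rw [e, h3, sub_zero] at h2
    exact h2

variable {R : Type u} [CommRing R] {𝒜 : ℤ → AddSubgroup R} [GradedRing 𝒜]
  [LocCoh.IsCohenMacaulayRing R] [IsArtinianRing (GrLC.deg0 𝒜)]

/-- The Hilbert function of a Cohen–Macaulay standard graded *local ring of dimension `d` with `H^d_m(R)_e = 0`
for `e > -d` is `ℓ(R_0)` times that of a polynomial ring in `d` variables. -/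
theorem hfun_eq_mul_Hr (hpos : ∀ n : ℤ, n < 0 → 𝒜 n = ⊥)
    (hstd : Ideal.span (⋃ n ∈ Set.Ioi (0 : ℤ), (𝒜 n : Set R)) = Ideal.span ((𝒜 1 : AddSubgroup R) : Set R))
    (m : HomogeneousIdeal 𝒜) (hm : GrLC.IsStarLocal 𝒜 m) (d : ℕ) (hd : ringKrullDim R = d)
    (hv : ∀ e : ℤ, -(d : ℤ) < e → Van m (GrLC.GMod.of 𝒜 R 𝒜) d e) (n : ℕ) :
    (hfun (GrLC.GMod.of 𝒜 R 𝒜) (n : ℤ) : ℚ) = (hfun (GrLC.GMod.of 𝒜 R 𝒜) 0 : ℚ) * Hr d (n : ℤ) := by
  classical
  have hfin : Module.Finite R (GrLC.GMod.of 𝒜 R 𝒜).carrier := inferInstanceAs (Module.Finite R R)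
  have hd' : ringKrullDim R < ((d + 1 : ℕ) : WithBot ℕ∞) := by
    rw [hd]
    exact_mod_cast Nat.lt_succ_self d
  have hsd : Module.supportDim R (GrLC.GMod.of 𝒜 R 𝒜).carrier ≤ (d : WithBot ℕ∞) := by
    have h1 : Module.supportDim R (GrLC.GMod.of 𝒜 R 𝒜).carrier = ringKrullDim R :=
      Module.supportDim_self_eq_ringKrullDim R
    rw [h1, hd]
  have hD := Dl_pow_gq_of_supportDim_le hpos hstd m hm d hd' (GrLC.GMod.of 𝒜 R 𝒜) d hsd
  have hf : ∀ e : ℤ, -(d : ℤ) < e →
      gq m d (GrLC.GMod.of 𝒜 R 𝒜) e = (hfun (GrLC.GMod.of 𝒜 R 𝒜) e : ℚ) :=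
    fun e he => gq_self_eq_hfun hpos m hm d hd e (hv e he)
  rcases Nat.eq_zero_or_pos d with hd0 | hd0
  · subst hd0
    rw [pow_zero, Module.End.one_apply] at hD
    rw [Hr_zero]
    unfold delta0
    rcases Nat.eq_zero_or_pos n with hn | hn
    · subst hn
      simp
    · have h1 : ((n : ℕ) : ℤ) ≠ 0 := by exact_mod_cast hn.ne'
      rw [if_neg h1, mul_zero, ← hf (n : ℤ) (by omega), hD]
      rfl
  · set lam : ℚ := (hfun (GrLC.GMod.of 𝒜 R 𝒜) 0 : ℚ) with hlam
    let e : ℤ → ℚ := gq m d (GrLC.GMod.of 𝒜 R 𝒜) - lam • Hr d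
    have he : (Dl ^ d) e = -(lam • delta0) := by
      change (Dl ^ d) (gq m d (GrLC.GMod.of 𝒜 R 𝒜) - lam • Hr d) = _
      rw [map_sub, map_smul, hD, Dl_pow_Hr, zero_sub]
    have hbase : ∀ k : ℤ, -(d : ℤ) < k → k ≤ 0 → e k = 0 := by
      intro k hk1 hk2
      change gq m d (GrLC.GMod.of 𝒜 R 𝒜) k - (lam • Hr d) k = 0
      rw [hf k hk1, Pi.smul_apply, smul_eq_mul]
      rcases lt_or_eq_of_le hk2 with h | h
      · rw [hfun_self_neg hpos k h, Hr_neg d k h]
        simp
      · subst h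
        have h1 : Hr d 0 = 1 := by
          have := Hr_natCast d 0
          simpa using this
        rw [h1, mul_one, hlam]
        exact sub_self _
    have hall : ∀ k : ℕ, e (k : ℤ) = 0 := by
      intro k
      induction k using Nat.strong_induction_on with
      | _ k ih =>
        rcases Nat.eq_zero_or_pos k with hk | hk
        · subst hk
          exact hbase 0 (by omega) le_rfl
        · apply eq_zero_of_Dl_pow_apply d e (k : ℤ)
          · rw [he, Pi.neg_apply, Pi.smul_apply]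
            unfold delta0
            have h1 : ((k : ℕ) : ℤ) ≠ 0 := by exact_mod_cast hk.ne'
            rw [if_neg h1]
            simp
          · intro j hj1 hjd
            rcases le_or_gt ((k : ℤ) - j) 0 with h | h
            · exact hbase _ (by omega) h
            · have h2 : ((k - j : ℕ) : ℤ) = (k : ℤ) - j := by
                rw [Nat.cast_sub (by omega)]
              rw [← h2]
              exact ih (k - j) (by omega)
    have h1 := hall n
    change gq m d (GrLC.GMod.of 𝒜 R 𝒜) (n : ℤ) - (lam • Hr d) (n : ℤ) = 0 at h1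
    rw [hf (n : ℤ) (by omega), Pi.smul_apply, smul_eq_mul, sub_eq_zero] at h1
    exact h1

end HilbA

/-! ### Lengths of the pieces of a polynomial ring, and injectivity -/

section PolyLen

theorem injective_of_surjective_of_len_eq {A : Type*} [Ring A] {M N : Type*} [AddCommGroup M]
    [Module A M] [AddCommGroup N] [Module A N] (f : M →ₗ[A] N) (hf : Function.Surjective f)
    (hfin : IsFiniteLength A M) (h : len A M = len A N) : Function.Injective f := by
  have h1 := len_ker_add_range f hfin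
  have h2 : len A ↥(LinearMap.range f) = len A N := by
    rw [LinearMap.range_eq_top.2 hf]
    exact len_congr Submodule.topEquiv
  have h3 : len A ↥(LinearMap.ker f) = 0 := by omega
  have hfk : IsFiniteLength A ↥(LinearMap.ker f) :=
    hfin.of_injective (f := (LinearMap.ker f).subtype) (Submodule.subtype_injective _)
  unfold len at h3
  have h4 : Module.length A ↥(LinearMap.ker f) = 0 := by
    rcases (ENat.toNat_eq_zero).1 h3 with h | h
    · exact h
    · exact absurd h (Module.length_ne_top_iff.2 hfk)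
  have hsub : Subsingleton ↥(LinearMap.ker f) := Module.length_eq_zero_iff.1 h4
  rw [← LinearMap.ker_eq_bot]
  exact Submodule.subsingleton_iff_eq_bot.1 hsub

variable (A : Type u) [CommRing A] [Nontrivial A] (σ : Type) [Fintype σ] [DecidableEq σ]

theorem stdGr_eq_restrictSupport' (n : ℤ) :
    GrSyz.stdGr A σ n = MvPolynomial.restrictSupport A {d : σ →₀ ℕ | (d.degree : ℤ) = n} := by
  unfold GrSyz.stdGr
  rw [MvPolynomial.weightedHomogeneousSubmodule_eq_finsupp_supported]
  simp only [Groth.Agent.Helper13Hilb.weight_one_int]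
  rfl

/-- The length of the degree-`n` piece of a polynomial ring in terms of the length of the coefficient ring. -/
theorem len_stdGr (n : ℕ) :
    len A ↥(GrSyz.stdGr A σ (n : ℤ)) = (Fintype.card σ + n - 1).choose n * len A A := by
  have hb : Module.Basis
      ↥(↑((Finset.univ : Finset σ).finsuppAntidiag n) : Set (σ →₀ ℕ)) A
      ↥(GrSyz.stdGr A σ (n : ℤ)) := by
    rw [stdGr_eq_restrictSupport', Groth.Agent.Helper13Hilb.setOf_degree_eq]
    exact MvPolynomial.basisRestrictSupport A _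
  have hfree : Module.Free A ↥(GrSyz.stdGr A σ (n : ℤ)) := Module.Free.of_basis hb
  have hfin : Module.Finite A ↥(GrSyz.stdGr A σ (n : ℤ)) := Module.Finite.of_basis hb
  have hrank : Module.finrank A ↥(GrSyz.stdGr A σ (n : ℤ)) = (Fintype.card σ + n - 1).choose n := by
    rw [Module.finrank_eq_nat_card_basis hb, Nat.card_coe_set_eq, Set.ncard_coe_finset,
      Finset.card_finsuppAntidiag_nat_eq_choose]
    simp
  unfold len
  rw [Module.length_of_free_of_finite, hrank, ENat.toNat_mul, ENat.toNat_natCast]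

end PolyLen

/-! ### The polynomial ring over an Artinian ring -/

section FinalLin

variable {R : Type u} [CommRing R] {𝒜 : ℤ → AddSubgroup R} [GradedRing 𝒜]

/-- The presentation map commutes with taking homogeneous components. -/
theorem decompose_phi {d : ℕ} (x : Fin d → R) (hx1 : ∀ i, x i ∈ 𝒜 1)
    (p : MvPolynomial (Fin d) (GrLC.deg0 𝒜)) (j : ℤ) :
    ((decompose 𝒜 (phi (𝒜 := 𝒜) x p)) j : R) =
      phi (𝒜 := 𝒜) x ((decompose (GrSyz.stdGr (GrLC.deg0 𝒜) (Fin d)) p) j) := by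
  classical
  induction p using DirectSum.Decomposition.inductionOn (GrSyz.stdGr (GrLC.deg0 𝒜) (Fin d)) with
  | zero =>
    rw [map_zero, DirectSum.decompose_zero, DirectSum.decompose_zero]
    simp
  | @homogeneous i q =>
    have hq : phi (𝒜 := 𝒜) x (q : MvPolynomial (Fin d) (GrLC.deg0 𝒜)) ∈ 𝒜 i :=
      phi_mem x hx1 i _ q.2
    by_cases hij : i = j
    · subst hij
      rw [DirectSum.decompose_of_mem_same 𝒜 hq,
        DirectSum.decompose_of_mem_same (GrSyz.stdGr (GrLC.deg0 𝒜) (Fin d)) q.2]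
    · rw [DirectSum.decompose_of_mem_ne 𝒜 hq hij,
        DirectSum.decompose_of_mem_ne (GrSyz.stdGr (GrLC.deg0 𝒜) (Fin d)) q.2 hij, map_zero]
  | add q q' hq hq' =>
    rw [map_add, DirectSum.decompose_add, DirectSum.decompose_add, DirectSum.add_apply,
      DirectSum.add_apply, AddSubgroup.coe_add, Submodule.coe_add, map_add, hq, hq']

theorem stdGr_neg_eq_bot (A : Type u) [CommRing A] (σ : Type) [Fintype σ] [DecidableEq σ]
    (j : ℤ) (hj : j < 0) (q : MvPolynomial σ A) (hq : q ∈ GrSyz.stdGr A σ j) : q = 0 := by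
  rw [GrSyz.mem_stdGr_iff] at hq
  by_contra hne
  obtain ⟨α, hα⟩ := MvPolynomial.ne_zero_iff.1 hne
  have h1 := hq hα
  rw [Groth.Agent.Helper13Hilb.weight_one_int] at h1
  omega

variable [LocCoh.IsCohenMacaulayRing R] [IsArtinianRing (GrLC.deg0 𝒜)]

/-- **A Cohen–Macaulay standard graded *local ring of dimension `d` with `R_0` Artinian, infinite residue
field and `a(R) = -d` is a polynomial ring over `R_0` in `d` variables of degree one.** -/
theorem exists_algEquiv_of_endDeg (hpos : ∀ n : ℤ, n < 0 → 𝒜 n = ⊥)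
    (hstd : Ideal.span (⋃ n ∈ Set.Ioi (0 : ℤ), (𝒜 n : Set R)) = Ideal.span ((𝒜 1 : AddSubgroup R) : Set R))
    (m : HomogeneousIdeal 𝒜) (hm : GrLC.IsStarLocal 𝒜 m) (hinf : Infinite (R ⧸ m.toIdeal)) (d : ℕ)
    (hd : ringKrullDim R = d) (I : GrLC.StarInjRes 𝒜 (GrLC.GMod.of 𝒜 R 𝒜).gr)
    (ha : GrLC.endDeg (I.Hgr m d) = (((-(d : ℤ) : ℤ) : WithTop ℤ) : WithBot (WithTop ℤ))) :
    ∃ e : MvPolynomial (Fin d) (GrLC.deg0 𝒜) ≃ₐ[GrLC.deg0 𝒜] R,
      ∀ t : Fin d, e (MvPolynomial.X t) ∈ 𝒜 1 := by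
  classical
  have hnt : Nontrivial R := by
    by_contra hcon
    rw [not_nontrivial_iff_subsingleton] at hcon
    rw [ringKrullDim_eq_bot_of_subsingleton] at hd
    exact WithBot.bot_ne_coe hd
  have hfin : Module.Finite R (GrLC.GMod.of 𝒜 R 𝒜).carrier := inferInstanceAs (Module.Finite R R)
  have hd' : ringKrullDim R < ((d + 1 : ℕ) : WithBot ℕ∞) := by
    rw [hd]
    exact_mod_cast Nat.lt_succ_self d
  have hsd : Module.supportDim R (GrLC.GMod.of 𝒜 R 𝒜).carrier ≤ (d : WithBot ℕ∞) := by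
    have h1 : Module.supportDim R (GrLC.GMod.of 𝒜 R 𝒜).carrier = ringKrullDim R :=
      Module.supportDim_self_eq_ringKrullDim R
    rw [h1, hd]
  have hv : ∀ e : ℤ, -(d : ℤ) < e → Van m (GrLC.GMod.of 𝒜 R 𝒜) d e := by
    intro n hn
    rw [← Hgr_eq_bot_iff I d n]
    by_contra hne
    have h1 : (((n : ℤ) : WithTop ℤ) : WithBot (WithTop ℤ)) ≤ GrLC.endDeg (I.Hgr m d) := by
      unfold GrLC.endDeg
      exact le_iSup₂ (f := fun (n : ℤ) (_ : I.Hgr m d n ≠ ⊥) =>
        ((n : WithTop ℤ) : WithBot (WithTop ℤ))) n hne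
    rw [ha] at h1
    have h2 : n ≤ -(d : ℤ) := by exact_mod_cast h1
    omega
  have hvlt : ∀ j, j < d → ∀ e, Van m (GrLC.GMod.of 𝒜 R 𝒜) j e :=
    fun j hj e => van_self_of_lt_dim hpos m hm d hd j hj e
  obtain ⟨x, hx1, hxspan⟩ := exists_linear_span hpos hstd m hm hinf d hd' d
    (GrLC.GMod.of 𝒜 R 𝒜) hsd hvlt hv
  have hspan : ∀ z ∈ 𝒜 1, ∃ c : Fin d → GrLC.deg0 𝒜, z = ∑ i, (c i : R) * x i := by
    intro z hz
    obtain ⟨w, hw0, hw⟩ := hxspan z hz
    refine ⟨fun i => ⟨w i, hw0 i⟩, ?_⟩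
    rw [hw]
    apply Finset.sum_congr rfl
    intro i _
    rw [mul_comm]
    rfl
  have hsurj := phi_surjective hpos hstd x hx1 hspan
  -- injectivity on pieces by comparing lengths
  have hpiece : ∀ (n : ℕ) (q : MvPolynomial (Fin d) (GrLC.deg0 𝒜)),
      q ∈ GrSyz.stdGr (GrLC.deg0 𝒜) (Fin d) (n : ℤ) → phi (𝒜 := 𝒜) x q = 0 → q = 0 := by
    intro n q hq hq0
    let f : ↥(GrSyz.stdGr (GrLC.deg0 𝒜) (Fin d) (n : ℤ)) →ₗ[GrLC.deg0 𝒜]
        ↥(GrLC.comp 𝒜 (GrLC.GMod.of 𝒜 R 𝒜).gr (n : ℤ)) :=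
      ((phi (𝒜 := 𝒜) x).toLinearMap).restrict (fun p hp => phi_mem x hx1 n p hp)
    have hfs : Function.Surjective f := by
      rintro ⟨z, hz⟩
      obtain ⟨p, hp, hpz⟩ := exists_phi_eq hstd x hx1 hspan n z hz
      exact ⟨⟨p, hp⟩, Subtype.ext hpz⟩
    have hlen : len (GrLC.deg0 𝒜) ↥(GrSyz.stdGr (GrLC.deg0 𝒜) (Fin d) (n : ℤ)) =
        len (GrLC.deg0 𝒜) ↥(GrLC.comp 𝒜 (GrLC.GMod.of 𝒜 R 𝒜).gr (n : ℤ)) := by
      rw [len_stdGr (GrLC.deg0 𝒜) (Fin d) n, Fintype.card_fin]
      have h1 := hfun_eq_mul_Hr hpos hstd m hm d hd hv n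
      rw [Hr_natCast] at h1
      have h2 : hfun (GrLC.GMod.of 𝒜 R 𝒜) 0 = len (GrLC.deg0 𝒜) (GrLC.deg0 𝒜) := by
        unfold hfun
        exact (len_congr (comp0Equiv (𝒜 := 𝒜))).symm
      rw [h2] at h1
      have h3 : hfun (GrLC.GMod.of 𝒜 R 𝒜) (n : ℤ) =
          len (GrLC.deg0 𝒜) (GrLC.deg0 𝒜) * (d + n - 1).choose n := by exact_mod_cast h1
      change _ = hfun (GrLC.GMod.of 𝒜 R 𝒜) (n : ℤ)
      rw [h3, mul_comm]
    have hflS : IsFiniteLength (GrLC.deg0 𝒜) ↥(GrSyz.stdGr (GrLC.deg0 𝒜) (Fin d) (n : ℤ)) := by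
      have hb : Module.Finite (GrLC.deg0 𝒜) ↥(GrSyz.stdGr (GrLC.deg0 𝒜) (Fin d) (n : ℤ)) := by
        rw [stdGr_eq_restrictSupport', Groth.Agent.Helper13Hilb.setOf_degree_eq]
        exact Module.Finite.of_basis (MvPolynomial.basisRestrictSupport (GrLC.deg0 𝒜) _)
      exact ((IsArtinianRing.tfae (GrLC.deg0 𝒜) _).out 0 3).1 hb
    have hfi := injective_of_surjective_of_len_eq f hfs hflS hlen
    have h4 : f ⟨q, hq⟩ = 0 := Subtype.ext hq0
    have h5 := hfi (h4.trans (map_zero f).symm)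
    exact congrArg Subtype.val h5
  have hinj : Function.Injective (phi (𝒜 := 𝒜) x) := by
    rw [injective_iff_map_eq_zero]
    intro p hp
    have hcomp : ∀ j : ℤ, ((decompose (GrSyz.stdGr (GrLC.deg0 𝒜) (Fin d)) p) j :
        MvPolynomial (Fin d) (GrLC.deg0 𝒜)) = 0 := by
      intro j
      have h1 := decompose_phi x hx1 p j
      rw [hp, DirectSum.decompose_zero] at h1
      have h2 : phi (𝒜 := 𝒜) x ((decompose (GrSyz.stdGr (GrLC.deg0 𝒜) (Fin d)) p) j) = 0 :=
        h1.symm.trans rfl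
      rcases lt_or_ge j 0 with hj | hj
      · exact stdGr_neg_eq_bot (GrLC.deg0 𝒜) (Fin d) j hj _
          ((decompose (GrSyz.stdGr (GrLC.deg0 𝒜) (Fin d)) p) j).2
      · obtain ⟨n, rfl⟩ := Int.eq_ofNat_of_zero_le hj
        exact hpiece n _ ((decompose (GrSyz.stdGr (GrLC.deg0 𝒜) (Fin d)) p) (n : ℤ)).2 h2
    rw [← DirectSum.sum_support_decompose (GrSyz.stdGr (GrLC.deg0 𝒜) (Fin d)) p]
    apply Finset.sum_eq_zero
    intro j _
    exact hcomp j
  refine ⟨AlgEquiv.ofBijective (phi (𝒜 := 𝒜) x) ⟨hinj, hsurj⟩, fun t => ?_⟩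
  have h1 : (AlgEquiv.ofBijective (phi (𝒜 := 𝒜) x) ⟨hinj, hsurj⟩) (MvPolynomial.X t) = x t :=
    MvPolynomial.aeval_X x t
  rw [h1]
  exact hx1 t

end FinalLin

end Groth.Agent.R2.H72.GrLin
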