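import Groth.Agent.R2.H72GrHilbDim
import Groth.Agent.Lib.Helper13Hilb

/-!
# Standard graded algebras over a field: presentation by a polynomial ring (helper72)

* `aeval_surjective`: a positively graded, standard graded ring whose degree-one piece is spanned over `R_0` by
  `y_1, …, y_r` is generated over `R_0` by the `y_i`;
* `aeval_injective_of_dim`: a surjection from `k[T_1..T_r]` onto a ring of dimension `r` is injective.
-/

set_option autoImplicit false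
set_option linter.unusedSectionVars false
set_option linter.style.haveILetI false
open DirectSum
open scoped Pointwise

noncomputable section

namespace Groth.Agent.R2.H72.GrPoly

open Groth.Agent.R2.H72.GrBddLocal Groth.Agent.R2.H72.GrArt Groth.Agent.R2.H72.GrMono
  Groth.Agent.R2.H72.GrDim Groth.Agent.R2.H72.GrSerre Groth.Agent.R2.H72.GrMod
  Groth.Agent.R2.H72.GrSerreCtx Groth.Agent.R2.H72.GrHilbDim Groth.Agent.R2.H72.GrAInv

universe u

section Surj

variable {R : Type u} [CommRing R] {𝒜 : ℤ → AddSubgroup R} [GradedRing 𝒜]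

/-- The presentation map `R_0[T_1..T_r] → R`, `T_i ↦ y_i`. -/
def phi {r : ℕ} (y : Fin r → R) : MvPolynomial (Fin r) (GrLC.deg0 𝒜) →ₐ[GrLC.deg0 𝒜] R :=
  MvPolynomial.aeval y

theorem mem_range_phi
    (hstd : Ideal.span (⋃ n ∈ Set.Ioi (0 : ℤ), (𝒜 n : Set R)) = Ideal.span ((𝒜 1 : AddSubgroup R) : Set R))
    {r : ℕ} (y : Fin r → R) (hy1 : ∀ i, y i ∈ 𝒜 1)
    (hspan : ∀ x ∈ 𝒜 1, ∃ c : Fin r → GrLC.deg0 𝒜, x = ∑ i, (c i : R) * y i) :
    ∀ n : ℕ, ∀ x ∈ 𝒜 (n : ℤ), x ∈ (phi (𝒜 := 𝒜) y).range := by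
  classical
  intro n
  induction n with
  | zero =>
    intro x hx
    have hx0 : x ∈ 𝒜 0 := by exact_mod_cast hx
    rw [AlgHom.mem_range]
    exact ⟨MvPolynomial.C ⟨x, hx0⟩, (MvPolynomial.aeval_C y _).trans rfl⟩
  | succ n ih =>
    intro x hx
    have hx1 : x ∈ Ideal.span (Set.range y) := by
      have h1 : x ∈ Ideal.span (⋃ n ∈ Set.Ioi (0 : ℤ), (𝒜 n : Set R)) := by
        apply Ideal.subset_span
        exact Set.mem_iUnion₂.2 ⟨((n + 1 : ℕ) : ℤ), by
          rw [Set.mem_Ioi]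
          exact_mod_cast Nat.succ_pos n, hx⟩
      rw [hstd] at h1
      refine (Ideal.span_le.2 ?_) h1
      intro z hz
      obtain ⟨c, rfl⟩ := hspan z hz
      apply Ideal.sum_mem
      intro i _
      exact Ideal.mul_mem_left _ _ (Ideal.subset_span ⟨i, rfl⟩)
    obtain ⟨a, ha⟩ := (Ideal.mem_span_range_iff_exists_fun).1 hx1
    have hx2 : x = ∑ i, ((decompose 𝒜 (a i)) (n : ℤ) : R) * y i := by
      have h1 : ((decompose 𝒜 x) (((n + 1 : ℕ) : ℤ)) : R) = x := DirectSum.decompose_of_mem_same 𝒜 hx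
      rw [← h1, ← ha, DirectSum.decompose_sum, DFinsupp.finsetSum_apply,
        AddSubmonoidClass.coe_finsetSum]
      apply Finset.sum_congr rfl
      intro i _
      have e : (((n + 1 : ℕ) : ℤ)) = (n : ℤ) + 1 := by push_cast; ring
      rw [e]
      exact DirectSum.coe_decompose_mul_add_of_right_mem 𝒜 (hy1 i)
    rw [hx2]
    apply Subalgebra.sum_mem
    intro i _
    apply Subalgebra.mul_mem
    · exact ih _ ((decompose 𝒜 (a i)) (n : ℤ)).2
    · rw [AlgHom.mem_range]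
      exact ⟨MvPolynomial.X i, MvPolynomial.aeval_X y i⟩

theorem phi_surjective (hpos : ∀ n : ℤ, n < 0 → 𝒜 n = ⊥)
    (hstd : Ideal.span (⋃ n ∈ Set.Ioi (0 : ℤ), (𝒜 n : Set R)) = Ideal.span ((𝒜 1 : AddSubgroup R) : Set R))
    {r : ℕ} (y : Fin r → R) (hy1 : ∀ i, y i ∈ 𝒜 1)
    (hspan : ∀ x ∈ 𝒜 1, ∃ c : Fin r → GrLC.deg0 𝒜, x = ∑ i, (c i : R) * y i) :
    Function.Surjective (phi (𝒜 := 𝒜) y) := by
  classical
  intro x
  have hx : x ∈ (phi (𝒜 := 𝒜) y).range := by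
    rw [← DirectSum.sum_support_decompose 𝒜 x]
    apply Subalgebra.sum_mem
    intro i _
    rcases lt_or_ge i 0 with hi | hi
    · have hz : ((decompose 𝒜 x) i : R) = 0 :=
        Groth.Agent.Lib.Helper29GrStd.eq_zero_of_mem_of_eq_bot (hpos i hi) ((decompose 𝒜 x) i).2
      rw [hz]
      exact Subalgebra.zero_mem _
    · have hi' : ((i.toNat : ℕ) : ℤ) = i := Int.toNat_of_nonneg hi
      apply mem_range_phi hstd y hy1 hspan i.toNat
      rw [hi']
      exact ((decompose 𝒜 x) i).2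
  exact hx

end Surj

section Inj

/-- A surjective ring homomorphism from a polynomial ring in `r` variables over a field onto a ring of Krull
dimension `r` is injective. -/
theorem injective_of_dim {k : Type u} [CommRing k] (hk : IsField k) {R : Type u} [CommRing R] (r : ℕ)
    (φ : MvPolynomial (Fin r) k →+* R) (hφ : Function.Surjective φ) (hd : ringKrullDim R = r) :
    Function.Injective φ := by
  have hdom : IsDomain k := hk.isDomain
  have hnoeth : IsNoetherianRing k := by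
    letI := hk.toField
    infer_instance
  rw [injective_iff_map_eq_zero]
  intro p hp
  by_contra hne
  have hdim : ringKrullDim (MvPolynomial (Fin r) k) = (r : WithBot ℕ∞) := by
    rw [MvPolynomial.ringKrullDim_of_isNoetherianRing, ringKrullDim_eq_zero_of_isField hk, zero_add,
      Nat.card_eq_fintype_card, Fintype.card_fin]
  have h1 := ringKrullDim_succ_le_of_surjective φ hφ (mem_nonZeroDivisors_of_ne_zero hne) hp
  rw [hd, hdim] at h1
  have h2 : ((r + 1 : ℕ) : WithBot ℕ∞) ≤ (r : WithBot ℕ∞) := by exact_mod_cast h1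
  have h3 : r + 1 ≤ r := by exact_mod_cast h2
  omega

end Inj

/-! ### From the a-invariant to the number of generators -/

section Diff

/-- If `Dl^r f = 0` and `f(-1) = ⋯ = f(-(r-1)) = 0` then `f(1) = r f(0)`. -/
theorem f_one_eq (r : ℕ) : ∀ f : ℤ → ℚ, (Dl ^ r) f = 0 →
    (∀ j : ℕ, 1 ≤ j → j + 1 ≤ r → f (-(j : ℤ)) = 0) → f 1 = r * f 0 := by
  induction r with
  | zero =>
    intro f h _
    have h1 : f = 0 := by simpa using h
    rw [h1]
    simp
  | succ r ih =>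
    intro f h hf
    have h1 : (Dl ^ r) (Dl f) = 0 := by
      rw [← Module.End.mul_apply, ← pow_succ]
      exact h
    have h2 := ih (Dl f) h1 (fun j hj1 hjr => by
      rw [Dl_apply, hf j hj1 (by omega)]
      have := hf (j + 1) (by omega) (by omega)
      have e : -(j : ℤ) + -1 = -((j + 1 : ℕ) : ℤ) := by push_cast; ring
      rw [e, this, sub_zero])
    rw [Dl_apply, Dl_apply] at h2
    have e1 : (1 : ℤ) + -1 = 0 := by norm_num
    rw [e1] at h2
    rcases Nat.eq_zero_or_pos r with h0 | h0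
    · subst h0
      push_cast at h2 ⊢
      linarith
    · have h3 := hf 1 le_rfl (by omega)
      have e : (0 : ℤ) + -1 = -((1 : ℕ) : ℤ) := by norm_num
      rw [e, h3] at h2
      push_cast at h2 ⊢
      linarith

end Diff

section Fwd

variable {R : Type u} [CommRing R] {𝒜 : ℤ → AddSubgroup R} [GradedRing 𝒜]

theorem isArtinianRing_of_isField (h0 : IsField (GrLC.deg0 𝒜)) : IsArtinianRing (GrLC.deg0 𝒜) := by
  letI := h0.toField
  infer_instance

/-- `R_0` as a module over itself is the degree-zero piece. -/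
def comp0Equiv : (GrLC.deg0 𝒜) ≃ₗ[GrLC.deg0 𝒜] ↥(GrLC.comp 𝒜 (GrLC.GMod.of 𝒜 R 𝒜).gr 0) where
  toFun c := ⟨c.1, c.2⟩
  invFun z := ⟨z.1, z.2⟩
  map_add' _ _ := rfl
  map_smul' _ _ := rfl
  left_inv _ := rfl
  right_inv _ := rfl

theorem hfun_self_zero_of_isField (h0 : IsField (GrLC.deg0 𝒜)) :
    hfun (GrLC.GMod.of 𝒜 R 𝒜) 0 = 1 := by
  unfold hfun
  rw [← len_congr (comp0Equiv (𝒜 := 𝒜))]
  unfold len
  letI := h0.toField
  rw [Module.length_eq_finrank, Module.finrank_self]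
  rfl

variable [LocCoh.IsCohenMacaulayRing R]

/-- In the Cohen–Macaulay case `g_R(n) = H_R(n)` whenever `H^d_m(R)_n = 0`. -/
theorem gq_self_eq_hfun (hpos : ∀ n : ℤ, n < 0 → 𝒜 n = ⊥) (m : HomogeneousIdeal 𝒜)
    (hm : GrLC.IsStarLocal 𝒜 m) (d : ℕ) (hd : ringKrullDim R = d) (n : ℤ)
    (hv : Van m (GrLC.GMod.of 𝒜 R 𝒜) d n) :
    gq m d (GrLC.GMod.of 𝒜 R 𝒜) n = (hfun (GrLC.GMod.of 𝒜 R 𝒜) n : ℚ) := by
  have hchi : chi m d (GrLC.GMod.of 𝒜 R 𝒜) n = 0 := by
    unfold chi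
    apply Finset.sum_eq_zero
    intro i hi
    have hi' : i ≤ d := Nat.lt_succ_iff.1 (Finset.mem_range.1 hi)
    have hv' : Van m (GrLC.GMod.of 𝒜 R 𝒜) i n := by
      rcases Nat.lt_or_ge i d with h | h
      · exact van_self_of_lt_dim hpos m hm d hd i h n
      · have : i = d := le_antisymm hi' h
        rw [this]
        exact hv
    rw [hlen_eq_zero_of_van m i n hv', Nat.cast_zero, mul_zero]
  unfold gq gfun
  rw [hchi]
  simp

/-- If `a(R) = -r` for a Cohen–Macaulay standard graded ring of dimension `r` over a field, then `R_1` is spanned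
by `r` elements. -/
theorem exists_span_of_endDeg (hpos : ∀ n : ℤ, n < 0 → 𝒜 n = ⊥) (h0 : IsField (GrLC.deg0 𝒜))
    (hstd : Ideal.span (⋃ n ∈ Set.Ioi (0 : ℤ), (𝒜 n : Set R)) = Ideal.span ((𝒜 1 : AddSubgroup R) : Set R))
    (m : HomogeneousIdeal 𝒜) (hm : GrLC.IsStarLocal 𝒜 m) (r : ℕ) (hr : ringKrullDim R = r)
    (I : GrLC.StarInjRes 𝒜 (GrLC.GMod.of 𝒜 R 𝒜).gr)
    (ha : GrLC.endDeg (I.Hgr m r) = (((-(r : ℤ) : ℤ) : WithTop ℤ) : WithBot (WithTop ℤ))) :
    ∃ y : Fin r → R, (∀ i, y i ∈ 𝒜 1) ∧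
      ∀ x ∈ 𝒜 1, ∃ c : Fin r → GrLC.deg0 𝒜, x = ∑ i, (c i : R) * y i := by
  classical
  haveI hart : IsArtinianRing (GrLC.deg0 𝒜) := isArtinianRing_of_isField h0
  have hfin : Module.Finite R (GrLC.GMod.of 𝒜 R 𝒜).carrier := inferInstanceAs (Module.Finite R R)
  have hd' : ringKrullDim R < ((r + 1 : ℕ) : WithBot ℕ∞) := by
    rw [hr]
    exact_mod_cast Nat.lt_succ_self r
  have hsd : Module.supportDim R (GrLC.GMod.of 𝒜 R 𝒜).carrier ≤ (r : WithBot ℕ∞) := by
    have h1 : Module.supportDim R (GrLC.GMod.of 𝒜 R 𝒜).carrier = ringKrullDim R :=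
      Module.supportDim_self_eq_ringKrullDim R
    rw [h1, hr]
  have hD := Dl_pow_gq_of_supportDim_le hpos hstd m hm r hd' (GrLC.GMod.of 𝒜 R 𝒜) r hsd
  have hvan : ∀ n : ℤ, -(r : ℤ) < n → Van m (GrLC.GMod.of 𝒜 R 𝒜) r n := by
    intro n hn
    rw [← Hgr_eq_bot_iff I r n]
    by_contra hne
    have h1 : (((n : ℤ) : WithTop ℤ) : WithBot (WithTop ℤ)) ≤ GrLC.endDeg (I.Hgr m r) := by
      unfold GrLC.endDeg
      exact le_iSup₂ (f := fun (n : ℤ) (_ : I.Hgr m r n ≠ ⊥) =>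
        ((n : WithTop ℤ) : WithBot (WithTop ℤ))) n hne
    rw [ha] at h1
    have h2 : n ≤ -(r : ℤ) := by exact_mod_cast h1
    omega
  have hf : ∀ n : ℤ, -(r : ℤ) < n →
      gq m r (GrLC.GMod.of 𝒜 R 𝒜) n = (hfun (GrLC.GMod.of 𝒜 R 𝒜) n : ℚ) :=
    fun n hn => gq_self_eq_hfun hpos m hm r hr n (hvan n hn)
  have h1 := f_one_eq r (gq m r (GrLC.GMod.of 𝒜 R 𝒜)) hD (fun j hj1 hjr => by
    rw [hf _ (by omega), hfun_self_neg hpos _ (by omega), Nat.cast_zero])
  rw [hf 1 (by omega)] at h1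
  have hH1 : hfun (GrLC.GMod.of 𝒜 R 𝒜) 1 = r := by
    rcases Nat.eq_zero_or_pos r with hr0 | hr0
    · rw [hr0] at h1 ⊢
      have : ((hfun (GrLC.GMod.of 𝒜 R 𝒜) 1 : ℕ) : ℚ) = 0 := by
        rw [h1]
        simp
      exact_mod_cast this
    · rw [hf 0 (by omega), hfun_self_zero_of_isField h0] at h1
      have : ((hfun (GrLC.GMod.of 𝒜 R 𝒜) 1 : ℕ) : ℚ) = (r : ℚ) := by
        rw [h1]
        simp
      exact_mod_cast this
  -- the dimension of `R_1`
  have hN : IsNoetherian R (GrLC.GMod.of 𝒜 R 𝒜).carrier := inferInstanceAs (IsNoetherian R R)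
  have hn1 : IsNoetherian (GrLC.deg0 𝒜) (GrLC.comp 𝒜 𝒜 1) :=
    Groth.Agent.R2.H72.GrFinH.isNoetherian_comp (GrLC.GMod.of 𝒜 R 𝒜) 1
  have hf1 : Module.Finite (GrLC.deg0 𝒜) (GrLC.comp 𝒜 𝒜 1) := Module.IsNoetherian.finite _ _
  letI hF : Field (GrLC.deg0 𝒜) := h0.toField
  have hrank : Module.finrank (GrLC.deg0 𝒜) (GrLC.comp 𝒜 𝒜 1) = r := by
    have h2 : hfun (GrLC.GMod.of 𝒜 R 𝒜) 1 =
        (Module.length (GrLC.deg0 𝒜) (GrLC.comp 𝒜 𝒜 1)).toNat := rfl
    rw [Module.length_eq_finrank] at h2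
    rw [← hH1, h2]
    rfl
  let b := Module.finBasisOfFinrankEq (GrLC.deg0 𝒜) (GrLC.comp 𝒜 𝒜 1) hrank
  refine ⟨fun i => ((b i : ↥(GrLC.comp 𝒜 𝒜 1)) : R), fun i => (b i).2, ?_⟩
  intro x hx
  refine ⟨fun i => b.repr ⟨x, hx⟩ i, ?_⟩
  have h3 := b.sum_repr ⟨x, hx⟩
  have h4 := congrArg (fun z : ↥(GrLC.comp 𝒜 𝒜 1) => (z : R)) h3
  simp only at h4
  refine h4.symm.trans ?_
  rw [AddSubmonoidClass.coe_finsetSum]
  rfl

end Fwd

/-! ### Maximal ideals of polynomial rings over a field are generated by `r` elements -/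

section Gen

/-- Every maximal ideal is generated by `r` elements. -/
def GenBy (A : Type*) [CommRing A] (r : ℕ) : Prop :=
  ∀ n : Ideal A, n.IsMaximal → ∃ g : Fin r → A, n = Ideal.span (Set.range g)

theorem GenBy.of_equiv {A B : Type*} [CommRing A] [CommRing B] (e : A ≃+* B) {r : ℕ}
    (h : GenBy A r) : GenBy B r := by
  intro n hn
  have hc : (n.comap (e : A →+* B)).IsMaximal := Ideal.comap_isMaximal_of_equiv e
  obtain ⟨g, hg⟩ := h _ hc
  refine ⟨fun i => e (g i), ?_⟩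
  have h1 : n = (n.comap (e : A →+* B)).map (e : A →+* B) :=
    (Ideal.map_comap_of_surjective _ e.surjective n).symm
  rw [h1, hg, Ideal.map_span]
  congr 1
  ext b
  constructor
  · rintro ⟨_, ⟨i, rfl⟩, rfl⟩
    exact ⟨i, rfl⟩
  · rintro ⟨i, rfl⟩
    exact ⟨g i, ⟨i, rfl⟩, rfl⟩

theorem genBy_field (k : Type*) [Field k] : GenBy k 0 := by
  intro n hn
  refine ⟨Fin.elim0, ?_⟩
  have h1 : n = ⊥ := (Ideal.eq_bot_or_top n).resolve_right hn.ne_top
  rw [h1]
  have : Set.range (Fin.elim0 : Fin 0 → k) = ∅ := Set.range_eq_empty _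
  rw [this, Ideal.span_empty]

open Polynomial in
theorem GenBy.polynomial {A : Type*} [CommRing A] [IsJacobsonRing A] {r : ℕ} (h : GenBy A r) :
    GenBy A[X] (r + 1) := by
  intro n hn
  have hp : (n.comap (C : A →+* A[X])).IsMaximal :=
    Polynomial.isMaximal_comap_C_of_isJacobsonRing n
  obtain ⟨g, hg⟩ := h _ hp
  letI : Field (A ⧸ n.comap (C : A →+* A[X])) := Ideal.Quotient.field _
  let ψ : A[X] →+* (A ⧸ n.comap (C : A →+* A[X]))[X] :=
    Polynomial.mapRingHom (Ideal.Quotient.mk (n.comap (C : A →+* A[X])))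
  have hψ : Function.Surjective ψ := Polynomial.map_surjective _ Ideal.Quotient.mk_surjective
  have hker : RingHom.ker ψ = (n.comap (C : A →+* A[X])).map (C : A →+* A[X]) := by
    rw [Polynomial.ker_mapRingHom, Ideal.mk_ker]
  have hkn : RingHom.ker ψ ≤ n := by
    rw [hker]
    exact Ideal.map_comap_le
  obtain ⟨q, hq⟩ : ∃ q, n.map ψ = Ideal.span {q} :=
    ⟨_, (Submodule.IsPrincipal.span_singleton_generator (n.map ψ)).symm⟩
  obtain ⟨g0, rfl⟩ := hψ q
  have hg0 : g0 ∈ n := by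
    have h1 : g0 ∈ (n.map ψ).comap ψ := by
      rw [Ideal.mem_comap, hq]
      exact Ideal.subset_span rfl
    rw [Ideal.comap_map_of_surjective ψ hψ] at h1
    have h2 : n ⊔ (⊥ : Ideal _).comap ψ = n := sup_eq_left.2 hkn
    rwa [h2] at h1
  refine ⟨Fin.cons g0 (fun i => C (g i)), ?_⟩
  apply le_antisymm
  · intro x hx
    have h1 : ψ x ∈ Ideal.span {ψ g0} := hq ▸ Ideal.mem_map_of_mem ψ hx
    obtain ⟨c, hc⟩ := Ideal.mem_span_singleton'.1 h1
    obtain ⟨c', rfl⟩ := hψ c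
    have h2 : x - c' * g0 ∈ RingHom.ker ψ := by
      rw [RingHom.mem_ker, map_sub, map_mul, hc, sub_self]
    rw [hker, hg, Ideal.map_span] at h2
    have h3 : x = (x - c' * g0) + c' * g0 := by ring
    rw [h3]
    apply Ideal.add_mem
    · refine Ideal.span_mono ?_ h2
      rintro _ ⟨_, ⟨i, rfl⟩, rfl⟩
      exact ⟨i.succ, by rw [Fin.cons_succ]⟩
    · exact Ideal.mul_mem_left _ _ (Ideal.subset_span ⟨0, by rw [Fin.cons_zero]⟩)
  · rw [Ideal.span_le]
    rintro _ ⟨i, rfl⟩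
    refine Fin.cases ?_ (fun j => ?_) i
    · rw [Fin.cons_zero]
      exact hg0
    · rw [Fin.cons_succ]
      have h1 : g j ∈ n.comap (C : A →+* A[X]) := by
        rw [hg]
        exact Ideal.subset_span ⟨j, rfl⟩
      exact h1

theorem genBy_mvPolynomial (k : Type u) [Field k] : ∀ r : ℕ, GenBy (MvPolynomial (Fin r) k) r
  | 0 => GenBy.of_equiv (MvPolynomial.isEmptyRingEquiv k (Fin 0)).symm (genBy_field k)
  | r + 1 => GenBy.of_equiv (MvPolynomial.finSuccEquiv k r).symm.toRingEquiv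
      (GenBy.polynomial (genBy_mvPolynomial k r))

theorem genBy_mvPolynomial_of_isField (k : Type u) [CommRing k] (hk : IsField k) (r : ℕ) :
    GenBy (MvPolynomial (Fin r) k) r := by
  letI := hk.toField
  exact genBy_mvPolynomial k r

end Gen

/-! ### From an abstract isomorphism with a polynomial ring to generators of `R_1` -/

section Bwd

variable {R : Type u} [CommRing R] {𝒜 : ℤ → AddSubgroup R} [GradedRing 𝒜]

/-- The product of two elements of the irrelevant ideal has no component of degree one. -/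
theorem decompose_mul_one_of_mem_irrH (hpos : ∀ n : ℤ, n < 0 → 𝒜 n = ⊥) (u : R)
    (hu : u ∈ (irrH 𝒜).toIdeal) :
    ∀ v : R, v ∈ (irrH 𝒜).toIdeal → ((decompose 𝒜 (u * v)) 1 : R) = 0 := by
  classical
  rw [irrH_toIdeal] at hu
  refine Submodule.span_induction
    (p := fun u _ => ∀ v : R, v ∈ (irrH 𝒜).toIdeal → ((decompose 𝒜 (u * v)) 1 : R) = 0)
    ?_ ?_ ?_ ?_ hu
  · intro w hw v hv
    obtain ⟨n, hn, hwn⟩ := Set.mem_iUnion₂.1 hw
    have hn' : (0 : ℤ) < n := hn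
    have hwn' : w ∈ 𝒜 n := hwn
    rw [← smul_eq_mul, Groth.Agent.Lib.Helper29GrEss.decompose_smul_of_mem 𝒜 𝒜 hwn' v 1,
      decompose_irrH_eq_zero hpos v hv (1 - n) (by omega), smul_zero]
  · intro v _
    rw [zero_mul, DirectSum.decompose_zero]
    rfl
  · intro a b _ _ ha hb v hv
    rw [add_mul, DirectSum.decompose_add, DirectSum.add_apply, AddSubgroup.coe_add, ha v hv,
      hb v hv, add_zero]
  · intro s a _ ha v hv
    rw [smul_eq_mul, mul_comm s a, mul_assoc]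
    exact ha (s * v) (Ideal.mul_mem_left _ _ hv)

theorem decompose_mul_one (hpos : ∀ n : ℤ, n < 0 → 𝒜 n = ⊥) (a g : R)
    (hg : g ∈ (irrH 𝒜).toIdeal) :
    ((decompose 𝒜 (a * g)) 1 : R) = ((decompose 𝒜 a) 0 : R) * ((decompose 𝒜 g) 1 : R) := by
  classical
  have h1 : a * g = ((decompose 𝒜 a) 0 : R) * g + (a - ((decompose 𝒜 a) 0 : R)) * g := by ring
  rw [h1, DirectSum.decompose_add, DirectSum.add_apply, AddSubgroup.coe_add,
    decompose_mul_one_of_mem_irrH hpos _ (sub_decompose_zero_mem_irrH hpos a) g hg, add_zero]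
  exact DirectSum.coe_decompose_mul_of_left_mem_zero 𝒜 ((decompose 𝒜 a) 0).2

variable [IsNoetherianRing R]

/-- If `R` is abstractly isomorphic to a polynomial ring in `r` variables over the field `R_0`, then `R_1` is
spanned by `r` elements. -/
theorem exists_span_of_ringEquiv (hpos : ∀ n : ℤ, n < 0 → 𝒜 n = ⊥) (h0 : IsField (GrLC.deg0 𝒜))
    (m : HomogeneousIdeal 𝒜) (hm : GrLC.IsStarLocal 𝒜 m) (r : ℕ)
    (e : R ≃+* MvPolynomial (Fin r) (GrLC.deg0 𝒜)) :
    ∃ y : Fin r → R, (∀ i, y i ∈ 𝒜 1) ∧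
      ∀ x ∈ 𝒜 1, ∃ c : Fin r → GrLC.deg0 𝒜, x = ∑ i, (c i : R) * y i := by
  classical
  have hmax : m.toIdeal.IsMaximal := isMaximal_of_isStarLocal 𝒜 hpos m hm
  obtain ⟨g, hg⟩ := (GenBy.of_equiv e.symm (genBy_mvPolynomial_of_isField _ h0 r)) m.toIdeal hmax
  have hgm : ∀ i, g i ∈ m.toIdeal := fun i => by
    rw [hg]
    exact Ideal.subset_span ⟨i, rfl⟩
  have hm0 : (m0 m).IsMaximal := m0_isMaximal m hm
  have hg0 : ∀ i, ((decompose 𝒜 (g i)) 0 : R) = 0 := by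
    intro i
    by_contra hne
    let z : GrLC.deg0 𝒜 := ⟨((decompose 𝒜 (g i)) 0 : R), ((decompose 𝒜 (g i)) 0).2⟩
    have hz : z ≠ 0 := fun h => hne (congrArg Subtype.val h)
    have hzm : z ∈ m0 m := m.isHomogeneous 0 (hgm i)
    obtain ⟨b, hb⟩ := h0.mul_inv_cancel hz
    apply hm0.ne_top
    rw [Ideal.eq_top_iff_one, ← hb]
    exact Ideal.mul_mem_right _ _ hzm
  have hgI : ∀ i, g i ∈ (irrH 𝒜).toIdeal := fun i => (mem_irrH_iff hpos _).2 (hg0 i)
  refine ⟨fun i => ((decompose 𝒜 (g i)) 1 : R), fun i => ((decompose 𝒜 (g i)) 1).2, ?_⟩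
  intro x hx
  have hxm : x ∈ m.toIdeal := by
    apply irrH_le_of_isStarLocal hpos m hm
    rw [irrH_toIdeal]
    apply Ideal.subset_span
    exact Set.mem_iUnion₂.2 ⟨1, by rw [Set.mem_Ioi]; norm_num, hx⟩
  rw [hg] at hxm
  obtain ⟨a, ha⟩ := (Ideal.mem_span_range_iff_exists_fun).1 hxm
  refine ⟨fun i => ⟨((decompose 𝒜 (a i)) 0 : R), ((decompose 𝒜 (a i)) 0).2⟩, ?_⟩
  have h1 : ((decompose 𝒜 x) 1 : R) = x := DirectSum.decompose_of_mem_same 𝒜 hx
  rw [← h1, ← ha, DirectSum.decompose_sum, DFinsupp.finsetSum_apply, AddSubmonoidClass.coe_finsetSum]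
  apply Finset.sum_congr rfl
  intro i _
  exact decompose_mul_one hpos (a i) (g i) (hgI i)

end Bwd

/-! ### The Hilbert function of a polynomial ring and finite differences -/

section Pascal

/-- The Hilbert function of a polynomial ring in `r` variables, extended by zero to negative degrees. -/
def Hr (r : ℕ) : ℤ → ℚ := fun n => if 0 ≤ n then ((r + n.toNat - 1).choose n.toNat : ℚ) else 0

/-- The delta function at `0`. -/
def delta0 : ℤ → ℚ := fun n => if n = 0 then 1 else 0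

theorem Hr_natCast (r k : ℕ) : Hr r (k : ℤ) = ((r + k - 1).choose k : ℚ) := by
  unfold Hr
  rw [if_pos (Int.natCast_nonneg k), Int.toNat_natCast]

theorem Hr_neg (r : ℕ) (n : ℤ) (hn : n < 0) : Hr r n = 0 := by
  unfold Hr
  rw [if_neg (by omega)]

theorem Hr_zero : Hr 0 = delta0 := by
  funext n
  by_cases hn : 0 ≤ n
  · obtain ⟨k, rfl⟩ := Int.eq_ofNat_of_zero_le hn
    rw [Hr_natCast]
    unfold delta0
    rcases Nat.eq_zero_or_pos k with hk | hk
    · subst hk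
      simp
    · have h1 : (k : ℤ) ≠ 0 := by exact_mod_cast hk.ne'
      rw [if_neg h1, Nat.choose_eq_zero_of_lt (by omega)]
      simp
  · rw [Hr_neg 0 n (by omega)]
    unfold delta0
    rw [if_neg (by omega)]

theorem Dl_Hr_succ (r : ℕ) : Dl (Hr (r + 1)) = Hr r := by
  funext n
  rw [Dl_apply]
  by_cases hn : 0 ≤ n
  · obtain ⟨k, rfl⟩ := Int.eq_ofNat_of_zero_le hn
    rcases Nat.eq_zero_or_pos k with hk | hk
    · subst hk
      rw [Hr_natCast, Hr_natCast, Hr_neg (r + 1) _ (by norm_num)]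
      simp
    · obtain ⟨j, rfl⟩ : ∃ j, k = j + 1 := ⟨k - 1, by omega⟩
      have h2 : ((j + 1 : ℕ) : ℤ) + -1 = (j : ℤ) := by push_cast; ring
      rw [h2, Hr_natCast, Hr_natCast, Hr_natCast]
      have e1 : r + 1 + (j + 1) - 1 = (r + j) + 1 := by omega
      have e2 : r + 1 + j - 1 = r + j := by omega
      have e3 : r + (j + 1) - 1 = r + j := by omega
      rw [e1, e2, e3, Nat.choose_succ_succ]
      push_cast
      ring
  · rw [Hr_neg _ n (by omega), Hr_neg _ (n + -1) (by omega), Hr_neg _ n (by omega), sub_zero]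

theorem Dl_pow_Hr (r : ℕ) : (Dl ^ r) (Hr r) = delta0 := by
  induction r with
  | zero => rw [pow_zero, Module.End.one_apply, Hr_zero]
  | succ r ih => rw [pow_succ, Module.End.mul_apply, Dl_Hr_succ, ih]

/-- The leading term of the `r`-th difference of a function vanishing to the right of `a`. -/
theorem Dl_pow_lead (r : ℕ) : ∀ (e : ℤ → ℚ) (a : ℤ), (∀ n, a < n → e n = 0) →
    (Dl ^ r) e (a + r) = (-1) ^ r * e a := by
  induction r with
  | zero =>
    intro e a _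
    simp
  | succ r ih =>
    intro e a he
    have h1 : ∀ n, a + 1 < n → (Dl e) n = 0 := by
      intro n hn
      rw [Dl_apply, he n (by omega), he (n + -1) (by omega), sub_zero]
    have h2 := ih (Dl e) (a + 1) h1
    rw [pow_succ, Module.End.mul_apply]
    have e1 : a + ((r + 1 : ℕ) : ℤ) = a + 1 + (r : ℤ) := by push_cast; ring
    rw [e1, h2, Dl_apply, he (a + 1) (by omega)]
    have e2 : a + 1 + -1 = a := by ring
    rw [e2]
    ring

/-- A function with `Dl^r e = -δ_0` vanishing for large arguments vanishes to the right of `-r` and not at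
`-r`. -/
theorem vanishing_of_Dl_pow_eq_neg_delta (r : ℕ) (e : ℤ → ℚ) (h : (Dl ^ r) e = -delta0)
    (N : ℤ) (hN : ∀ n, N ≤ n → e n = 0) :
    (∀ n, -(r : ℤ) < n → e n = 0) ∧ e (-(r : ℤ)) ≠ 0 := by
  have key : ∀ t : ℕ, ∀ n, -(r : ℤ) < n → N - t ≤ n → e n = 0 := by
    intro t
    induction t with
    | zero =>
      intro n _ hn
      exact hN n (by simpa using hn)
    | succ t ih =>
      intro n hnr hn
      by_cases hn' : N - t ≤ n
      · exact ih n hnr hn'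
      · have hvan : ∀ n', n < n' → e n' = 0 := by
          intro n' hn'
          apply ih n' (by omega)
          push_cast at hn
          omega
        have h1 := Dl_pow_lead r e n hvan
        rw [h] at h1
        have h2 : delta0 (n + r) = 0 := by
          unfold delta0
          rw [if_neg (by omega)]
        rw [Pi.neg_apply, h2, neg_zero] at h1
        have h3 : ((-1 : ℚ)) ^ r ≠ 0 := pow_ne_zero r (by norm_num)
        exact (mul_eq_zero.1 h1.symm).resolve_left h3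
  have hall : ∀ n, -(r : ℤ) < n → e n = 0 := by
    intro n hn
    rcases le_or_gt N n with h1 | h1
    · exact hN n h1
    · exact key (N - n).toNat n hn (by
        have : ((N - n).toNat : ℤ) = N - n := Int.toNat_of_nonneg (by omega)
        omega)
  refine ⟨hall, ?_⟩
  intro h0
  have h1 := Dl_pow_lead r e (-(r : ℤ)) hall
  rw [h, h0, mul_zero, Pi.neg_apply] at h1
  have h2 : delta0 (-(r : ℤ) + r) = 1 := by
    unfold delta0
    rw [if_pos (by ring)]
  rw [h2] at h1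
  norm_num at h1

end Pascal

/-! ### The Hilbert function of a ring presented by a polynomial ring -/

section Transport

variable {R : Type u} [CommRing R] {𝒜 : ℤ → AddSubgroup R} [GradedRing 𝒜]

/-- The presentation map is homogeneous. -/
theorem phi_mem {r : ℕ} (y : Fin r → R) (hy1 : ∀ i, y i ∈ 𝒜 1) (n : ℤ)
    (p : MvPolynomial (Fin r) (GrLC.deg0 𝒜)) (hp : p ∈ GrSyz.stdGr (GrLC.deg0 𝒜) (Fin r) n) :
    phi (𝒜 := 𝒜) y p ∈ 𝒜 n := by
  classical
  rw [GrSyz.mem_stdGr_iff] at hp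
  rw [p.as_sum, map_sum]
  apply AddSubgroup.sum_mem
  intro α hα
  have hc : MvPolynomial.coeff α p ≠ 0 := MvPolynomial.mem_support_iff.1 hα
  have hw : Finsupp.weight (fun _ : Fin r => (1 : ℤ)) α = n := hp hc
  have h1 : (α.prod fun i k => y i ^ k) ∈ 𝒜 n := by
    rw [← hw, Finsupp.weight_apply]
    unfold Finsupp.prod Finsupp.sum
    apply SetLike.prod_mem_graded
    intro i _
    exact SetLike.pow_mem_graded (α i) (hy1 i)
  have h2 : (algebraMap (GrLC.deg0 𝒜) R (MvPolynomial.coeff α p)) ∈ 𝒜 0 :=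
    (MvPolynomial.coeff α p).2
  have h3 := SetLike.GradedMul.mul_mem h2 h1
  rw [zero_add] at h3
  have h4 : phi (𝒜 := 𝒜) y (MvPolynomial.monomial α (MvPolynomial.coeff α p)) =
      algebraMap (GrLC.deg0 𝒜) R (MvPolynomial.coeff α p) * α.prod fun i k => y i ^ k :=
    MvPolynomial.aeval_monomial y α _
  rw [h4]
  exact h3

/-- Every element of `R_n` is the image of a homogeneous polynomial of degree `n`. -/
theorem exists_phi_eq
    (hstd : Ideal.span (⋃ n ∈ Set.Ioi (0 : ℤ), (𝒜 n : Set R)) = Ideal.span ((𝒜 1 : AddSubgroup R) : Set R))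
    {r : ℕ} (y : Fin r → R) (hy1 : ∀ i, y i ∈ 𝒜 1)
    (hspan : ∀ x ∈ 𝒜 1, ∃ c : Fin r → GrLC.deg0 𝒜, x = ∑ i, (c i : R) * y i) :
    ∀ n : ℕ, ∀ x ∈ 𝒜 (n : ℤ), ∃ p ∈ GrSyz.stdGr (GrLC.deg0 𝒜) (Fin r) (n : ℤ),
      phi (𝒜 := 𝒜) y p = x := by
  classical
  intro n
  induction n with
  | zero =>
    intro x hx
    have hx0 : x ∈ 𝒜 0 := by exact_mod_cast hx
    refine ⟨MvPolynomial.C ⟨x, hx0⟩, ?_, (MvPolynomial.aeval_C y _).trans rfl⟩
    rw [GrSyz.mem_stdGr_iff]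
    exact MvPolynomial.isWeightedHomogeneous_C _ _
  | succ n ih =>
    intro x hx
    have hx1 : x ∈ Ideal.span (Set.range y) := by
      have h1 : x ∈ Ideal.span (⋃ n ∈ Set.Ioi (0 : ℤ), (𝒜 n : Set R)) := by
        apply Ideal.subset_span
        exact Set.mem_iUnion₂.2 ⟨((n + 1 : ℕ) : ℤ), by
          rw [Set.mem_Ioi]
          exact_mod_cast Nat.succ_pos n, hx⟩
      rw [hstd] at h1
      refine (Ideal.span_le.2 ?_) h1
      intro z hz
      obtain ⟨c, rfl⟩ := hspan z hz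
      apply Ideal.sum_mem
      intro i _
      exact Ideal.mul_mem_left _ _ (Ideal.subset_span ⟨i, rfl⟩)
    obtain ⟨a, ha⟩ := (Ideal.mem_span_range_iff_exists_fun).1 hx1
    have hx2 : x = ∑ i, ((decompose 𝒜 (a i)) (n : ℤ) : R) * y i := by
      have h1 : ((decompose 𝒜 x) (((n + 1 : ℕ) : ℤ)) : R) = x := DirectSum.decompose_of_mem_same 𝒜 hx
      rw [← h1, ← ha, DirectSum.decompose_sum, DFinsupp.finsetSum_apply,
        AddSubmonoidClass.coe_finsetSum]
      apply Finset.sum_congr rfl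
      intro i _
      have e : (((n + 1 : ℕ) : ℤ)) = (n : ℤ) + 1 := by push_cast; ring
      rw [e]
      exact DirectSum.coe_decompose_mul_add_of_right_mem 𝒜 (hy1 i)
    choose q hq1 hq2 using fun i => ih _ ((decompose 𝒜 (a i)) (n : ℤ)).2
    refine ⟨∑ i, q i * MvPolynomial.X i, ?_, ?_⟩
    · apply Submodule.sum_mem
      intro i _
      rw [GrSyz.mem_stdGr_iff]
      have h1 := (hq1 i)
      rw [GrSyz.mem_stdGr_iff] at h1
      have h2 := h1.mul (MvPolynomial.isWeightedHomogeneous_X (GrLC.deg0 𝒜) (fun _ : Fin r => (1 : ℤ)) i)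
      have e : (((n + 1 : ℕ) : ℤ)) = (n : ℤ) + 1 := by push_cast; ring
      rw [e]
      exact h2
    · rw [map_sum, hx2]
      apply Finset.sum_congr rfl
      intro i _
      rw [map_mul, hq2 i]
      congr 1
      exact MvPolynomial.aeval_X y i

end Transport

section HilbFun

variable {R : Type u} [CommRing R] {𝒜 : ℤ → AddSubgroup R} [GradedRing 𝒜]

/-- The Hilbert function of a standard graded ring over a field presented injectively by a polynomial ring. -/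
theorem hfun_eq_choose
    (hstd : Ideal.span (⋃ n ∈ Set.Ioi (0 : ℤ), (𝒜 n : Set R)) = Ideal.span ((𝒜 1 : AddSubgroup R) : Set R))
    (h0 : IsField (GrLC.deg0 𝒜)) {r : ℕ} (y : Fin r → R) (hy1 : ∀ i, y i ∈ 𝒜 1)
    (hspan : ∀ x ∈ 𝒜 1, ∃ c : Fin r → GrLC.deg0 𝒜, x = ∑ i, (c i : R) * y i)
    (hinj : Function.Injective (phi (𝒜 := 𝒜) y)) (n : ℕ) :
    hfun (GrLC.GMod.of 𝒜 R 𝒜) (n : ℤ) = (r + n - 1).choose n := by
  classical
  letI hF : Field (GrLC.deg0 𝒜) := h0.toField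
  let f : ↥(GrSyz.stdGr (GrLC.deg0 𝒜) (Fin r) (n : ℤ)) →ₗ[GrLC.deg0 𝒜]
      ↥(GrLC.comp 𝒜 (GrLC.GMod.of 𝒜 R 𝒜).gr (n : ℤ)) :=
    ((phi (𝒜 := 𝒜) y).toLinearMap).restrict (fun p hp => phi_mem y hy1 n p hp)
  have hfb : Function.Bijective f := by
    constructor
    · intro p q h
      exact Subtype.ext (hinj (congrArg Subtype.val h))
    · rintro ⟨x, hx⟩
      obtain ⟨p, hp, hpx⟩ := exists_phi_eq hstd y hy1 hspan n x hx
      exact ⟨⟨p, hp⟩, Subtype.ext hpx⟩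
  have e := LinearEquiv.ofBijective f hfb
  unfold hfun
  rw [← len_congr e]
  unfold len
  rw [Module.length_eq_finrank, Groth.Agent.Helper13Hilb.finrank_stdGr_nat, Fintype.card_fin]
  rfl

theorem hfun_eq_Hr (hpos : ∀ n : ℤ, n < 0 → 𝒜 n = ⊥)
    (hstd : Ideal.span (⋃ n ∈ Set.Ioi (0 : ℤ), (𝒜 n : Set R)) = Ideal.span ((𝒜 1 : AddSubgroup R) : Set R))
    (h0 : IsField (GrLC.deg0 𝒜)) {r : ℕ} (y : Fin r → R) (hy1 : ∀ i, y i ∈ 𝒜 1)
    (hspan : ∀ x ∈ 𝒜 1, ∃ c : Fin r → GrLC.deg0 𝒜, x = ∑ i, (c i : R) * y i)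
    (hinj : Function.Injective (phi (𝒜 := 𝒜) y)) (n : ℤ) :
    (hfun (GrLC.GMod.of 𝒜 R 𝒜) n : ℚ) = Hr r n := by
  by_cases hn : 0 ≤ n
  · obtain ⟨k, rfl⟩ := Int.eq_ofNat_of_zero_le hn
    rw [Hr_natCast, hfun_eq_choose hstd h0 y hy1 hspan hinj k]
  · rw [Hr_neg r n (by omega), hfun_self_neg hpos n (by omega), Nat.cast_zero]

end HilbFun

/-! ### The a-invariant of a polynomial ring, and the characterisation -/

section Final

variable {R : Type u} [CommRing R] {𝒜 : ℤ → AddSubgroup R} [GradedRing 𝒜]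
  [LocCoh.IsCohenMacaulayRing R]

theorem phi_bijective (hpos : ∀ n : ℤ, n < 0 → 𝒜 n = ⊥) (h0 : IsField (GrLC.deg0 𝒜))
    (hstd : Ideal.span (⋃ n ∈ Set.Ioi (0 : ℤ), (𝒜 n : Set R)) = Ideal.span ((𝒜 1 : AddSubgroup R) : Set R))
    (r : ℕ) (hr : ringKrullDim R = r) (y : Fin r → R) (hy1 : ∀ i, y i ∈ 𝒜 1)
    (hspan : ∀ x ∈ 𝒜 1, ∃ c : Fin r → GrLC.deg0 𝒜, x = ∑ i, (c i : R) * y i) :
    Function.Bijective (phi (𝒜 := 𝒜) y) := by
  have hsurj := phi_surjective hpos hstd y hy1 hspan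
  exact ⟨injective_of_dim h0 r (phi (𝒜 := 𝒜) y).toRingHom hsurj hr, hsurj⟩

/-- In the Cohen–Macaulay case only the top local cohomology contributes to `χ`. -/
theorem chi_self_cm (hpos : ∀ n : ℤ, n < 0 → 𝒜 n = ⊥) (m : HomogeneousIdeal 𝒜)
    (hm : GrLC.IsStarLocal 𝒜 m) (d : ℕ) (hd : ringKrullDim R = d) (n : ℤ) :
    chi m d (GrLC.GMod.of 𝒜 R 𝒜) n = (-1 : ℤ) ^ d * (hlen m (GrLC.GMod.of 𝒜 R 𝒜) d n : ℤ) := by
  unfold chi
  rw [Finset.sum_range_succ, Finset.sum_eq_zero, zero_add]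
  intro i hi
  rw [hlen_eq_zero_of_van m i n (van_self_of_lt_dim hpos m hm d hd i (Finset.mem_range.1 hi) n),
    Nat.cast_zero, mul_zero]

/-- **The a-invariant of a polynomial ring**: if `R_1` is spanned by `r = dim R` elements then `a(R) = -r`. -/
theorem endDeg_eq_neg_of_span (hpos : ∀ n : ℤ, n < 0 → 𝒜 n = ⊥) (h0 : IsField (GrLC.deg0 𝒜))
    (hstd : Ideal.span (⋃ n ∈ Set.Ioi (0 : ℤ), (𝒜 n : Set R)) = Ideal.span ((𝒜 1 : AddSubgroup R) : Set R))
    (m : HomogeneousIdeal 𝒜) (hm : GrLC.IsStarLocal 𝒜 m) (r : ℕ) (hr : ringKrullDim R = r)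
    (I : GrLC.StarInjRes 𝒜 (GrLC.GMod.of 𝒜 R 𝒜).gr) (y : Fin r → R) (hy1 : ∀ i, y i ∈ 𝒜 1)
    (hspan : ∀ x ∈ 𝒜 1, ∃ c : Fin r → GrLC.deg0 𝒜, x = ∑ i, (c i : R) * y i) :
    GrLC.endDeg (I.Hgr m r) = (((-(r : ℤ) : ℤ) : WithTop ℤ) : WithBot (WithTop ℤ)) := by
  classical
  haveI hart : IsArtinianRing (GrLC.deg0 𝒜) := isArtinianRing_of_isField h0
  have hfin : Module.Finite R (GrLC.GMod.of 𝒜 R 𝒜).carrier := inferInstanceAs (Module.Finite R R)
  have hbij := phi_bijective hpos h0 hstd r hr y hy1 hspan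
  have hH := hfun_eq_Hr hpos hstd h0 y hy1 hspan hbij.1
  have hd' : ringKrullDim R < ((r + 1 : ℕ) : WithBot ℕ∞) := by
    rw [hr]
    exact_mod_cast Nat.lt_succ_self r
  have hsd : Module.supportDim R (GrLC.GMod.of 𝒜 R 𝒜).carrier ≤ (r : WithBot ℕ∞) := by
    have h1 : Module.supportDim R (GrLC.GMod.of 𝒜 R 𝒜).carrier = ringKrullDim R :=
      Module.supportDim_self_eq_ringKrullDim R
    rw [h1, hr]
  have hD := Dl_pow_gq_of_supportDim_le hpos hstd m hm r hd' (GrLC.GMod.of 𝒜 R 𝒜) r hsd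
  have hmax : (m0 m).IsMaximal := m0_isMaximal m hm
  have hle := irrH_le_of_isStarLocal hpos m hm
  obtain ⟨r0, hr0⟩ := bdd_of_finite' (a := m) hpos hle (GrLC.GMod.of 𝒜 R 𝒜)
  have he : (Dl ^ r) (gq m r (GrLC.GMod.of 𝒜 R 𝒜) - Hr r) = -delta0 := by
    rw [map_sub, hD, Dl_pow_Hr, zero_sub]
  have heN : ∀ n, r0 ≤ n → (gq m r (GrLC.GMod.of 𝒜 R 𝒜) - Hr r) n = 0 := by
    intro n hn
    rw [Pi.sub_apply, gq_self_eq_hfun hpos m hm r hr n (hr0 r n hn), hH n, sub_self]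
  obtain ⟨hall, hne⟩ := vanishing_of_Dl_pow_eq_neg_delta r _ he r0 heN
  have hrel : ∀ n, (gq m r (GrLC.GMod.of 𝒜 R 𝒜) - Hr r) n =
      -((-1 : ℚ) ^ r * (hlen m (GrLC.GMod.of 𝒜 R 𝒜) r n : ℚ)) := by
    intro n
    rw [Pi.sub_apply, ← hH n]
    unfold gq gfun
    rw [chi_self_cm hpos m hm r hr n]
    push_cast
    ring
  have hflh : FLH m (GrLC.GMod.of 𝒜 R 𝒜) :=
    flh_of_artH (artH_of_isStarLocal hpos m hm (GrLC.GMod.of 𝒜 R 𝒜))
  have hpow : (-1 : ℚ) ^ r ≠ 0 := pow_ne_zero r (by norm_num)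
  apply endDeg_eq_coe_of (I.Hgr m r) (-(r : ℤ))
  · rw [Ne, Hgr_eq_bot_iff, ← hlen_eq_zero_iff m hflh r]
    intro h
    apply hne
    rw [hrel, h]
    simp
  · intro j hj
    rw [Hgr_eq_bot_iff, ← hlen_eq_zero_iff m hflh r]
    have h1 := hall j hj
    rw [hrel, neg_eq_zero] at h1
    have h2 := (mul_eq_zero.1 h1).resolve_left hpow
    exact_mod_cast h2

/-- **Characterisation of polynomial rings by the a-invariant.** -/
theorem endDeg_eq_neg_iff (hpos : ∀ n : ℤ, n < 0 → 𝒜 n = ⊥) (h0 : IsField (GrLC.deg0 𝒜))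
    (hstd : Ideal.span (⋃ n ∈ Set.Ioi (0 : ℤ), (𝒜 n : Set R)) = Ideal.span ((𝒜 1 : AddSubgroup R) : Set R))
    (m : HomogeneousIdeal 𝒜) (hm : GrLC.IsStarLocal 𝒜 m) (r : ℕ) (hr : ringKrullDim R = r)
    (I : GrLC.StarInjRes 𝒜 (GrLC.GMod.of 𝒜 R 𝒜).gr) :
    GrLC.endDeg (I.Hgr m r) = (((-(r : ℤ) : ℤ) : WithTop ℤ) : WithBot (WithTop ℤ)) ↔
      Nonempty (R ≃+* MvPolynomial (Fin r) (GrLC.deg0 𝒜)) := by
  constructor
  · intro ha
    obtain ⟨y, hy1, hspan⟩ := exists_span_of_endDeg hpos h0 hstd m hm r hr I ha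
    have hbij := phi_bijective hpos h0 hstd r hr y hy1 hspan
    exact ⟨(RingEquiv.ofBijective (phi (𝒜 := 𝒜) y).toRingHom hbij).symm⟩
  · rintro ⟨e⟩
    obtain ⟨y, hy1, hspan⟩ := exists_span_of_ringEquiv hpos h0 m hm r e
    exact endDeg_eq_neg_of_span hpos h0 hstd m hm r hr I y hy1 hspan

end Final

end Groth.Agent.R2.H72.GrPoly
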