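import Groth.Agent.R2.H72GrReg
import Groth.Agent.R2.H72GrLCFinLen
import Groth.Agent.Lib.Helper13Syzygy
import Groth.Agent.Lib.Helper13RegResidue

/-!
# Regularity through local cohomology over the polynomial ring: glue to the statements (helper72)

The list of variables generates the irrelevant ideal; `Reg`/`WReg` of `Mg k r ℳ` in terms of a given
*injective resolution over the original grading (`reg_Mg_iff`); the end of a graded object in terms of
vanishing of pieces (`endDeg_le_iff`); the statement-level form of the passage to `M/xM`.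
-/

set_option autoImplicit false
set_option linter.unusedSectionVars false
open DirectSum

noncomputable section

namespace Groth.Agent.R2.H72.GrRegPoly

open Groth.Agent.R2.H72.GrLCBasic Groth.Agent.R2.H72.GrMod Groth.Agent.R2.H72.GrLCLES
  Groth.Agent.R2.H72.GrLCTors Groth.Agent.R2.H72.GrKoszul Groth.Agent.R2.H72.GrReg
  Groth.Agent.R2.H72.GrConv Groth.Agent.R2.H72.GrLCFinLen

universe u

section EndDeg

theorem toAddSubgroup_eq_bot_iff {R : Type*} [Ring R] {M' : Type*} [AddCommGroup M'] [Module R M']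
    (p : Submodule R M') : p.toAddSubgroup = ⊥ ↔ p = ⊥ := by
  have h := Submodule.bot_toAddSubgroup (R := R) (M := M')
  constructor
  · intro hp
    exact Submodule.toAddSubgroup_injective (hp.trans h.symm)
  · intro hp
    rw [hp, h]

/-- The end of a graded object is at most `ρ` iff the pieces above `ρ` vanish. -/
theorem endDeg_le_iff {G : Type u} [AddCommGroup G] (𝒢 : ℤ → AddSubgroup G) (ρ : ℤ) :
    GrLC.endDeg 𝒢 ≤ ((ρ : WithTop ℤ) : WithBot (WithTop ℤ)) ↔ ∀ j, ρ < j → 𝒢 j = ⊥ := by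
  unfold GrLC.endDeg
  rw [iSup₂_le_iff]
  constructor
  · intro H j hj
    by_contra hne
    have h1 := H j hne
    rw [WithBot.coe_le_coe, WithTop.coe_le_coe] at h1
    omega
  · intro H j hj
    rw [WithBot.coe_le_coe, WithTop.coe_le_coe]
    by_contra hlt
    push Not at hlt
    exact hj (H j hlt)

end EndDeg

variable {k : Type u} [Field k] {r : ℕ}

variable (k r) in
/-- The list of variables, as elements of degree one. -/
def varList : List ↥(A k r 1) :=
  List.ofFn fun l : Fin (r + 1) =>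
    (⟨MvPolynomial.X l, Groth.Agent.Helper13RegResidue.X_mem_stdGr_one l⟩ : ↥(A k r 1))

theorem irr_le_listIdeal : (irr k r).toIdeal ≤ listIdeal (varList k r) := by
  have h1 : (irr k r).toIdeal = Groth.Agent.Helper13Syzygy.I k (r + 1) (r + 1) :=
    (Groth.Agent.Helper13Syzygy.I_top_eq_irrel k (r + 1)).symm
  rw [h1]
  apply Ideal.span_mono
  rintro p ⟨l, _, rfl⟩
  refine ⟨⟨MvPolynomial.X l, Groth.Agent.Helper13RegResidue.X_mem_stdGr_one l⟩, ?_, rfl⟩
  exact (List.mem_ofFn' _ _).2 ⟨l, rfl⟩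

theorem mem_irr_of_mem_one {x : MvPolynomial (Fin (r + 1)) k}
    (hx : x ∈ GrSyz.stdGr k (Fin (r + 1)) 1) : x ∈ (irr k r).toIdeal :=
  Ideal.subset_span ⟨1, one_pos, hx⟩

variable {M : Type u} [AddCommGroup M] [Module k M] [Module (MvPolynomial (Fin (r + 1)) k) M]
  [IsScalarTower k (MvPolynomial (Fin (r + 1)) k) M]
  (ℳ : ℤ → Submodule k M) [DirectSum.Decomposition ℳ]
  [SetLike.GradedSMul (GrSyz.stdGr k (Fin (r + 1))) ℳ]

theorem Hgr_eq_bot_iff (E : GrLC.StarInjRes (GrSyz.stdGr k (Fin (r + 1))) ℳ) (i : ℕ) (e : ℤ) :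
    E.Hgr (GrSyz.irrel (GrSyz.stdGr k (Fin (r + 1)))) i e = ⊥ ↔
      E.Hcomp (GrSyz.irrel (GrSyz.stdGr k (Fin (r + 1)))) i e = ⊥ :=
  toAddSubgroup_eq_bot_iff _

/-- `d`-regularity of `Mg` in terms of a given resolution, in the language of the statements. -/
theorem reg_Mg_iff (E : GrLC.StarInjRes (GrSyz.stdGr k (Fin (r + 1))) ℳ) (d : ℤ) :
    Reg (irr k r) (Mg k r ℳ) d ↔
      (GrLC.endDeg (E.Hgr (GrSyz.irrel (GrSyz.stdGr k (Fin (r + 1)))) 0) ≤
          ((d : WithTop ℤ) : WithBot (WithTop ℤ)) ∧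
        ∀ i : ℕ, 0 < i →
          E.Hcomp (GrSyz.irrel (GrSyz.stdGr k (Fin (r + 1)))) i (d - (i : ℤ) + 1) = ⊥) := by
  rw [endDeg_le_iff]
  constructor
  · rintro ⟨h1, h2⟩
    refine ⟨fun j hj => ?_, fun i hi => (van_Mg_iff ℳ E i _).1 (h1 i hi)⟩
    rw [Hgr_eq_bot_iff]
    exact (van_Mg_iff ℳ E 0 j).1 (h2 j hj)
  · rintro ⟨h1, h2⟩
    refine ⟨fun i hi => (van_Mg_iff ℳ E i _).2 (h2 i hi), fun j hj => ?_⟩
    have h := h1 j hj
    rw [Hgr_eq_bot_iff] at h
    exact (van_Mg_iff ℳ E 0 j).2 h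

variable {N : Type u} [AddCommGroup N] [Module k N] [Module (MvPolynomial (Fin (r + 1)) k) N]
  [IsScalarTower k (MvPolynomial (Fin (r + 1)) k) N]
  (𝒩 : ℤ → Submodule k N) [DirectSum.Decomposition 𝒩]
  [SetLike.GradedSMul (GrSyz.stdGr k (Fin (r + 1))) 𝒩]

/-- `M` is `d`-regular iff `M/xM` is and `H^0(M)` vanishes above `d` (quasi-regular linear form `x`). -/
theorem reg_iff_quot (x : MvPolynomial (Fin (r + 1)) k)
    (hx : x ∈ GrSyz.stdGr k (Fin (r + 1)) 1)
    (hq : IsFiniteLength (MvPolynomial (Fin (r + 1)) k)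
      ↥(Submodule.torsionBy (MvPolynomial (Fin (r + 1)) k) M x))
    (π : M →ₗ[MvPolynomial (Fin (r + 1)) k] N) (hπ : Function.Surjective π)
    (hπg : GrLC.IsGrHom ℳ 𝒩 π)
    (hker : LinearMap.ker π =
      LinearMap.range (x • (LinearMap.id : M →ₗ[MvPolynomial (Fin (r + 1)) k] M))) (d : ℤ) :
    Reg (irr k r) (Mg k r ℳ) d ↔
      (Reg (irr k r) (Mg k r 𝒩) d ∧ ∀ e : ℤ, d < e → Van (irr k r) (Mg k r ℳ) 0 e) := by
  have hx' : x ∈ A k r 1 := hx
  have hker' : ∀ m : M, π m = 0 ↔ ∃ m', x • m' = m := by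
    intro m
    rw [← LinearMap.mem_ker, hker]
    constructor
    · rintro ⟨m', rfl⟩
      exact ⟨m', rfl⟩
    · rintro ⟨m', rfl⟩
      exact ⟨m', rfl⟩
  have htors : ∀ m : M, x • m = 0 → m ∈ GrLC.gam (irr k r).toIdeal M :=
    mem_gam_of_smul_eq_zero ℳ x hx hq
  constructor
  · intro h
    exact ⟨reg_quot (a := irr k r) (M := Mg k r ℳ) (N := Mg k r 𝒩) (varList k r) irr_le_listIdeal
      hx' π hπ hπg hker' htors h, h.2⟩
  · rintro ⟨h1, h2⟩
    exact ⟨wreg_of_reg_quot (a := irr k r) (M := Mg k r ℳ) (N := Mg k r 𝒩) (varList k r)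
      irr_le_listIdeal hx' (mem_irr_of_mem_one hx) π hπ hπg hker' htors h1, h2⟩

end Groth.Agent.R2.H72.GrRegPoly
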