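import Groth.Agent.R2.H72GrFree
import Groth.Agent.R2.H72GrRegPoly

/-!
# Local cohomology of the polynomial ring: the vanishing ranges (helper72)

For `S = k[x_0..x_r]` with the standard grading and `𝔪` the irrelevant ideal, `H^i_𝔪(S)_e = 0` unless
`i = r+1` and `e ≤ -(r+1)`; the same for free graded modules.  Proved by induction along the quotients
`S/(x_0..x_{j-1})`.
-/

set_option autoImplicit false
set_option linter.unusedSectionVars false
open DirectSum

noncomputable section

namespace Groth.Agent.R2.H72.GrPolyLC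

open Groth.Agent.R2.H72.GrLCBasic Groth.Agent.R2.H72.GrMod Groth.Agent.R2.H72.GrLCLES
  Groth.Agent.R2.H72.GrLCTors Groth.Agent.R2.H72.GrConv Groth.Agent.R2.H72.GrLCFinLen
  Groth.Agent.R2.H72.GrFree Groth.Agent.R2.H72.GrRegPoly
open Groth.Agent.Helper13Syzygy

universe u

variable {k : Type u} [Field k] {r : ℕ}

variable (k r) in
/-- The ideal `(x_0..x_{j-1})` as a submodule of the ring as a graded module. -/
def Iq (j : ℕ) : Submodule (MvPolynomial (Fin (r + 1)) k) (Sg (A k r)).carrier := I k (r + 1) j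

theorem Iq_isHomogeneous (j : ℕ) : (Iq k r j).IsHomogeneous (Sg (A k r)).gr := by
  have h : Ideal.IsHomogeneous (A k r) (I k (r + 1) j) := by
    unfold I
    apply Ideal.homogeneous_span (A k r)
    rintro _ ⟨l, _, rfl⟩
    exact ⟨1, Groth.Agent.Helper13RegResidue.X_mem_stdGr_one l⟩
  exact h

variable (k r) in
/-- `S/(x_0..x_{j-1})` as a graded module. -/
def T (j : ℕ) : GrLC.GMod.{u} (A k r) :=
  quotG (Sg (A k r)) (Iq k r j) (Iq_isHomogeneous j)


theorem mem_T_gr {j : ℕ} {e : ℤ} {y : (T k r j).carrier} :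
    y ∈ (T k r j).gr e ↔ ∃ p : MvPolynomial (Fin (r + 1)) k, p ∈ A k r e ∧
      (Submodule.Quotient.mk p : MvPolynomial (Fin (r + 1)) k ⧸ I k (r + 1) j) = y := Iff.rfl

/-- The projection `T j → T (j+1)`. -/
def πT (j : ℕ) : (T k r j).carrier →ₗ[MvPolynomial (Fin (r + 1)) k] (T k r (j + 1)).carrier :=
  projQ (k := k) (n := r + 1) j

theorem πT_mk (j : ℕ) (p : MvPolynomial (Fin (r + 1)) k) :
    πT j (Submodule.Quotient.mk p : MvPolynomial (Fin (r + 1)) k ⧸ I k (r + 1) j) =
      (Submodule.Quotient.mk p : MvPolynomial (Fin (r + 1)) k ⧸ I k (r + 1) (j + 1)) := rfl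

theorem πT_grHom (j : ℕ) : GrLC.IsGrHom (T k r j).gr (T k r (j + 1)).gr (πT j) := by
  intro e y hy
  obtain ⟨p, hp, rfl⟩ := mem_T_gr.1 hy
  exact mem_T_gr.2 ⟨p, hp, (πT_mk j p).symm⟩

theorem πT_surjective (j : ℕ) : Function.Surjective (πT (k := k) (r := r) j) :=
  projQ_surjective (k := k) (n := r + 1) j

theorem πT_ker (j : ℕ) (hj : j < r + 1) (m : (T k r j).carrier) :
    πT j m = 0 ↔ ∃ m' : (T k r j).carrier,
      (MvPolynomial.X ⟨j, hj⟩ : MvPolynomial (Fin (r + 1)) k) • m' = m :=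
  exact_mulX_projQ (k := k) (n := r + 1) j hj m

theorem smul_X_eq_zero (j : ℕ) (hj : j < r + 1) (m : (T k r j).carrier)
    (h : (MvPolynomial.X ⟨j, hj⟩ : MvPolynomial (Fin (r + 1)) k) • m = 0) : m = 0 := by
  have h1 : mulX (k := k) (n := r + 1) j hj m = mulX (k := k) (n := r + 1) j hj 0 := by
    rw [map_zero]
    exact h
  exact mulX_injective (k := k) (n := r + 1) j hj h1


theorem pow_smul_X_eq_zero (j : ℕ) (hj : j < r + 1) (N : ℕ) (m : (T k r j).carrier)
    (h : (MvPolynomial.X ⟨j, hj⟩ : MvPolynomial (Fin (r + 1)) k) ^ N • m = 0) : m = 0 := by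
  induction N with
  | zero =>
    rw [pow_zero, one_smul] at h
    exact h
  | succ N ih =>
    apply ih
    apply smul_X_eq_zero j hj
    rw [smul_smul, ← pow_succ']
    exact h

theorem X_mem_irr (l : Fin (r + 1)) :
    (MvPolynomial.X l : MvPolynomial (Fin (r + 1)) k) ∈ (irr k r).toIdeal :=
  mem_irr_of_mem_one (Groth.Agent.Helper13RegResidue.X_mem_stdGr_one l)

/-- `H^0_𝔪(S/(x_0..x_{j-1})) = 0` for `j ≤ r`. -/
theorem van_T_zero (j : ℕ) (hj : j < r + 1) (e : ℤ) : Van (irr k r) (T k r j) 0 e := by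
  rw [van_zero_iff]
  rintro m _ ⟨N, hN⟩
  exact pow_smul_X_eq_zero j hj N m (hN _ (Ideal.pow_mem_pow (X_mem_irr ⟨j, hj⟩) N))

theorem smul_quot_top_eq_zero (p : MvPolynomial (Fin (r + 1)) k) (hp : p ∈ I k (r + 1) (r + 1))
    (m : MvPolynomial (Fin (r + 1)) k ⧸ I k (r + 1) (r + 1)) : p • m = 0 := by
  obtain ⟨q, rfl⟩ := Submodule.Quotient.mk_surjective _ m
  rw [← Submodule.Quotient.mk_smul, Submodule.Quotient.mk_eq_zero]
  exact Ideal.mul_mem_right _ _ hp

/-- `S/𝔪` is torsion. -/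
theorem gam_T_top : GrLC.gam (irr k r).toIdeal (T k r (r + 1)).carrier = ⊤ := by
  rw [eq_top_iff]
  intro m _
  refine ⟨1, fun p hp => ?_⟩
  rw [pow_one] at hp
  have h1 : (irr k r).toIdeal = I k (r + 1) (r + 1) := (I_top_eq_irrel k (r + 1)).symm
  rw [h1] at hp
  exact smul_quot_top_eq_zero p hp m

theorem mk_top_eq_zero (e : ℤ) (he : 0 < e) (p : MvPolynomial (Fin (r + 1)) k) (hp : p ∈ A k r e) :
    (Submodule.Quotient.mk p : MvPolynomial (Fin (r + 1)) k ⧸ I k (r + 1) (r + 1)) = 0 := by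
  rw [Submodule.Quotient.mk_eq_zero, I_top_eq_irrel]
  exact Ideal.subset_span ⟨e, he, hp⟩

theorem T_top_gr_eq_bot (e : ℤ) (he : 0 < e) : (T k r (r + 1)).gr e = ⊥ := by
  rw [eq_bot_iff]
  intro y hy
  obtain ⟨p, hp, rfl⟩ := mem_T_gr.1 hy
  exact (AddSubgroup.mem_bot).2 (mk_top_eq_zero e he p hp)

/-- The base case: the residue field. -/
theorem van_T_top (i : ℕ) (e : ℤ) (h : i ≠ 0 ∨ 0 < e) : Van (irr k r) (T k r (r + 1)) i e := by
  cases i with
  | zero =>
    rcases h with h | h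
    · exact absurd rfl h
    · rw [van_zero_iff]
      intro m hm _
      rw [T_top_gr_eq_bot e h] at hm
      exact (AddSubgroup.mem_bot).1 hm
  | succ i => exact van_succ_of_torsion gam_T_top i e

/-- The vanishing of the local cohomology of `S/(x_0..x_{j-1})`, of dimension `t = r + 1 - j`. -/
theorem van_T : ∀ (t j : ℕ), j + t = r + 1 → ∀ (i : ℕ) (e : ℤ), (i ≠ t ∨ -(t : ℤ) < e) →
    Van (irr k r) (T k r j) i e
  | 0, j, hjt, i, e, h => by
    have hj : j = r + 1 := by omega
    subst hj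
    refine van_T_top i e ?_
    rcases h with h | h
    · exact Or.inl h
    · right
      simpa using h
  | t + 1, j, hjt, i, e, h => by
    have hj : j < r + 1 := by omega
    cases i with
    | zero => exact van_T_zero j hj e
    | succ i =>
      refine van_of_van_quot (δ := 1) (x := MvPolynomial.X ⟨j, hj⟩) (M := T k r j) (N := T k r (j + 1))
        (Groth.Agent.Helper13RegResidue.X_mem_stdGr_one _) (X_mem_irr _) (πT j) (πT_surjective j)
        (πT_grHom j) (πT_ker j hj) ?_ i e ?_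
      · intro m hm
        rw [smul_X_eq_zero j hj m hm]
        exact zero_mem _
      · intro q
        apply van_T t (j + 1) (by omega) i
        rcases h with h | h
        · left
          omega
        · right
          have h1 : (q + 1) • (1 : ℤ) = (q : ℤ) + 1 := by
            rw [nsmul_eq_mul, mul_one]
            push_cast
            rfl
          rw [h1]
          push_cast at h
          omega


/-- The identification `S/(0) → S`. -/
def unQuot : (T k r 0).carrier →ₗ[MvPolynomial (Fin (r + 1)) k] (Sg (A k r)).carrier :=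
  (Submodule.quotEquivOfEqBot (I k (r + 1) 0) (I_zero k (r + 1))).toLinearMap

theorem unQuot_mk (p : MvPolynomial (Fin (r + 1)) k) :
    unQuot (Submodule.Quotient.mk p : MvPolynomial (Fin (r + 1)) k ⧸ I k (r + 1) 0) = p :=
  Submodule.quotEquivOfEqBot_apply_mk _ _ p

/-- The quotient map `S → S/(0)`. -/
def toQuot : (Sg (A k r)).carrier →ₗ[MvPolynomial (Fin (r + 1)) k] (T k r 0).carrier :=
  (I k (r + 1) 0).mkQ

theorem unQuot_toQuot : (unQuot (k := k) (r := r)) ∘ₗ toQuot = LinearMap.id := by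
  apply LinearMap.ext
  intro p
  exact unQuot_mk p

theorem toQuot_grHom : GrLC.IsGrHom (Sg (A k r)).gr (T k r 0).gr toQuot :=
  fun _ p hp => mem_T_gr.2 ⟨p, hp, rfl⟩

theorem unQuot_grHom : GrLC.IsGrHom (T k r 0).gr (Sg (A k r)).gr unQuot := by
  intro e y hy
  obtain ⟨p, hp, rfl⟩ := mem_T_gr.1 hy
  have h := unQuot_mk (k := k) (r := r) p
  exact h ▸ hp

/-- `H^i_𝔪(S)_e = 0` unless `i = r + 1` and `e ≤ -(r+1)`. -/
theorem van_Sg (i : ℕ) (e : ℤ) (h : i ≠ r + 1 ∨ -((r : ℤ) + 1) < e) :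
    Van (irr k r) (Sg (A k r)) i e := by
  refine van_of_retract toQuot unQuot toQuot_grHom unQuot_grHom unQuot_toQuot i e ?_
  apply van_T (r + 1) 0 (by omega) i e
  rcases h with h | h
  · exact Or.inl h
  · right
    push_cast
    exact h

/-- The vanishing of the local cohomology of a free graded module over the polynomial ring. -/
theorem van_freeG_poly {m : ℕ} (deg : Fin m → ℤ) (i : ℕ) (e : ℤ)
    (h : i ≠ r + 1 ∨ ∀ b, deg b - ((r : ℤ) + 1) < e) :
    Van (irr k r) (freeG (A k r) deg) i e := by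
  apply van_freeG
  intro b
  apply van_Sg
  rcases h with h | h
  · exact Or.inl h
  · right
    have := h b
    omega

end Groth.Agent.R2.H72.GrPolyLC
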