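import Groth.Agent.R2.H72GrKoszul

/-!
# Castelnuovo–Mumford regularity through graded local cohomology (helper72)

For a Noetherian `ℤ`-graded ring, a homogeneous ideal `a` contained in the ideal generated by a finite list
`xs` of elements of degree one, and a bundled graded module `M`:

* `WReg a M d` (weakly `d`-regular): `H^i_a(M)_{d-i+1} = 0` for all `i ≥ 1`;
  `Reg a M d`: moreover `H^0_a(M)_e = 0` for `e > d`.
* `wreg_mono`, `van_of_wreg`, `van_of_reg`: Mumford's theorem, weakly `d`-regular implies vanishing of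
  `H^i_a(M)_e` for all `e ≥ d - i + 1`.
* `mem_smul_top_of_reg`: a `d`-regular module is generated in degrees `≤ d` (`M_e ⊆ (xs) M` for `e > d`).
* `reg_quot`, `wreg_of_reg_quot`: passage to and from `M/xM` for a quasi-regular element of degree one.
-/

set_option autoImplicit false
set_option linter.unusedSectionVars false
open DirectSum

noncomputable section

namespace Groth.Agent.R2.H72.GrReg

open Groth.Agent.R2.H72.GrLCBasic Groth.Agent.R2.H72.GrMod Groth.Agent.R2.H72.GrLCLES
  Groth.Agent.R2.H72.GrLCTors Groth.Agent.R2.H72.GrKoszul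

universe u

variable {R : Type u} [CommRing R] {𝒜 : ℤ → AddSubgroup R} [GradedRing 𝒜]

/-- Weakly `d`-regular: `H^i_a(M)_{d-i+1} = 0` for `i ≥ 1`. -/
def WReg (a : HomogeneousIdeal 𝒜) (M : GrLC.GMod.{u} 𝒜) (d : ℤ) : Prop :=
  ∀ i : ℕ, 0 < i → Van a M i (d - (i : ℤ) + 1)

/-- `d`-regular: weakly `d`-regular and `H^0_a(M)` vanishes in degrees above `d`. -/
def Reg (a : HomogeneousIdeal 𝒜) (M : GrLC.GMod.{u} 𝒜) (d : ℤ) : Prop :=
  WReg a M d ∧ ∀ e : ℤ, d < e → Van a M 0 e

variable [IsNoetherianRing R]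
variable {a : HomogeneousIdeal 𝒜} {M N : GrLC.GMod.{u} 𝒜}

section Mumford

variable (xs : List ↥(𝒜 1)) (hxs : a.toIdeal ≤ listIdeal xs)

include hxs

theorem wreg_succ (d : ℤ) (h : WReg a M d) : WReg a M (d + 1) := by
  intro i hi
  obtain ⟨i', rfl⟩ : ∃ i', i = i' + 1 := ⟨i - 1, by omega⟩
  apply van_of_diagonal xs hxs i'
  intro q
  have h1 := h (i' + 1 + q) (by omega)
  have e1 : d + 1 - ((i' + 1 : ℕ) : ℤ) + 1 + (q + 1) • (-1 : ℤ) = d - ((i' + 1 + q : ℕ) : ℤ) + 1 := by
    rw [nsmul_eq_mul]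
    push_cast
    ring
  rw [e1]
  exact h1

theorem wreg_mono {d d' : ℤ} (hd : d ≤ d') (h : WReg a M d) : WReg a M d' := by
  induction d', hd using Int.le_induction with
  | base => exact h
  | succ n _ ih => exact wreg_succ xs hxs n ih

/-- Mumford's theorem: a weakly `d`-regular module has `H^i_a(M)_e = 0` for `i ≥ 1`, `e ≥ d - i + 1`. -/
theorem van_of_wreg {d : ℤ} (h : WReg a M d) (i : ℕ) (hi : 0 < i) (e : ℤ) (he : d < e + i) :
    Van a M i e := by
  have h1 := wreg_mono xs hxs (d' := e + i - 1) (by omega) h i hi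
  have e1 : e + (i : ℤ) - 1 - (i : ℤ) + 1 = e := by ring
  rw [e1] at h1
  exact h1

theorem van_of_reg {d : ℤ} (h : Reg a M d) (i : ℕ) (e : ℤ) (he : d < e + i) : Van a M i e := by
  rcases Nat.eq_zero_or_pos i with rfl | hi
  · exact h.2 e (by simpa using he)
  · exact van_of_wreg xs hxs h.1 i hi e he

theorem reg_mono {d d' : ℤ} (hd : d ≤ d') (h : Reg a M d) : Reg a M d' :=
  ⟨wreg_mono xs hxs hd h.1, fun e he => h.2 e (lt_of_le_of_lt hd he)⟩

/-- A `d`-regular module is generated in degrees at most `d`. -/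
theorem mem_smul_top_of_reg {d : ℤ} (h : Reg a M d) (e : ℤ) (he : d < e) (m : M.carrier)
    (hm : m ∈ M.gr e) : m ∈ listIdeal xs • (⊤ : Submodule R M.carrier) := by
  apply mem_smul_top_of_diagonal xs hxs e (h.2 e he) _ m hm
  intro q
  apply van_of_reg xs hxs h
  rw [nsmul_eq_mul]
  push_cast
  linarith

end Mumford

section Quot

variable (xs : List ↥(𝒜 1)) (hxs : a.toIdeal ≤ listIdeal xs)
variable {x : R} (hx : x ∈ 𝒜 1) (hxa : x ∈ a.toIdeal) (π : M.carrier →ₗ[R] N.carrier)
  (hπ : Function.Surjective π) (hπg : GrLC.IsGrHom M.gr N.gr π)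
  (hker : ∀ m, π m = 0 ↔ ∃ m', x • m' = m)
  (htors : ∀ m : M.carrier, x • m = 0 → m ∈ GrLC.gam a.toIdeal M.carrier)

include hxs hx hπ hπg hker htors

/-- If `M` is `d`-regular then so is `M/xM`, for a quasi-regular element `x` of degree one. -/
theorem reg_quot {d : ℤ} (h : Reg a M d) : Reg a N d := by
  constructor
  · intro i hi
    apply van_quot hx π hπ hπg hker htors i _ (h.1 i hi)
    have h2 := h.1 (i + 1) (Nat.succ_pos i)
    have e1 : d - ((i + 1 : ℕ) : ℤ) + 1 = d - (i : ℤ) + 1 + -1 := by push_cast; ring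
    rw [e1] at h2
    exact h2
  · intro e he
    apply van_quot hx π hπ hπg hker htors 0 e (h.2 e he)
    apply van_of_reg xs hxs h
    push_cast
    omega

include hxa

/-- If `M/xM` is `d`-regular then `M` is weakly `d`-regular. -/
theorem wreg_of_reg_quot {d : ℤ} (h : Reg a N d) : WReg a M d := by
  intro i hi
  obtain ⟨i', rfl⟩ : ∃ i', i = i' + 1 := ⟨i - 1, by omega⟩
  apply van_of_van_quot hx hxa π hπ hπg hker htors i'
  intro j
  apply van_of_reg xs hxs h
  rw [nsmul_eq_mul]
  push_cast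
  linarith

end Quot

end Groth.Agent.R2.H72.GrReg
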