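import Groth.Agent.R2.H72GrSyzLC
import Groth.Agent.S15423

/-!
# Regularity through syzygies equals regularity through local cohomology (helper72)

`isRegLE_iff_reg`: over `S = k[x_0..x_r]`, a finitely generated graded module `M` has
`GrSyz.IsRegLE … d` iff it is `d`-regular in the sense of graded local cohomology; the order-theoretic
lemmas used to pass to the extended-integer valued `GrSyz.reg`.
-/

set_option autoImplicit false
set_option linter.unusedSectionVars false
open DirectSum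

noncomputable section

namespace Groth.Agent.R2.H72.GrRegFinal

open Groth.Agent.R2.H72.GrLCBasic Groth.Agent.R2.H72.GrMod Groth.Agent.R2.H72.GrLCLES
  Groth.Agent.R2.H72.GrLCTors Groth.Agent.R2.H72.GrConv Groth.Agent.R2.H72.GrLCFinLen
  Groth.Agent.R2.H72.GrFree Groth.Agent.R2.H72.GrRegPoly Groth.Agent.R2.H72.GrPolyLC
  Groth.Agent.R2.H72.GrReg Groth.Agent.R2.H72.GrKoszul Groth.Agent.R2.H72.GrSyzLC

universe u

section Order

/-- The infimum over an upward closed set of integers detects membership. -/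
theorem iInf_le_coe_iff (P : ℤ → Prop) (hP : ∀ a b : ℤ, a ≤ b → P a → P b) (ρ : ℤ) :
    (⨅ (t : ℤ) (_ : P t), ((t : WithTop ℤ) : WithBot (WithTop ℤ))) ≤
      ((ρ : WithTop ℤ) : WithBot (WithTop ℤ)) ↔ P ρ := by
  constructor
  · intro h
    by_contra hρ
    have h1 : (((ρ + 1 : ℤ) : WithTop ℤ) : WithBot (WithTop ℤ)) ≤
        ⨅ (t : ℤ) (_ : P t), ((t : WithTop ℤ) : WithBot (WithTop ℤ)) := by
      refine le_iInf₂ fun t ht => ?_
      rw [WithBot.coe_le_coe, WithTop.coe_le_coe]
      by_contra hlt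
      exact hρ (hP t ρ (by omega) ht)
    have h2 := h1.trans h
    rw [WithBot.coe_le_coe, WithTop.coe_le_coe] at h2
    omega
  · intro h
    exact iInf₂_le (f := fun (t : ℤ) (_ : P t) => ((t : WithTop ℤ) : WithBot (WithTop ℤ))) ρ h

/-- Two extended integers with the same integer upper bounds are equal. -/
theorem eq_of_forall_le_coe_iff (x y : WithBot (WithTop ℤ))
    (h : ∀ ρ : ℤ, x ≤ ((ρ : WithTop ℤ) : WithBot (WithTop ℤ)) ↔
      y ≤ ((ρ : WithTop ℤ) : WithBot (WithTop ℤ))) : x = y := by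
  rw [← Groth.Agent.S15423.iInf_int_eq x, ← Groth.Agent.S15423.iInf_int_eq y]
  simp only [h]

end Order

variable {k : Type u} [Field k] {r : ℕ}
variable {M : Type u} [AddCommGroup M] [Module k M] [Module (MvPolynomial (Fin (r + 1)) k) M]
  [IsScalarTower k (MvPolynomial (Fin (r + 1)) k) M]
  [Module.Finite (MvPolynomial (Fin (r + 1)) k) M]
  (ℳ : ℤ → Submodule k M) [DirectSum.Decomposition ℳ]
  [SetLike.GradedSMul (GrSyz.stdGr k (Fin (r + 1))) ℳ]

/-- Regularity at most `d` in the sense of syzygies iff `d`-regular in the sense of local cohomology. -/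
theorem isRegLE_iff_reg (d : ℤ) :
    GrSyz.IsRegLE (GrSyz.stdGr k (Fin (r + 1))) ℳ
      (GrSyz.irrel (GrSyz.stdGr k (Fin (r + 1)))).toIdeal d ↔ Reg (irr k r) (Mg k r ℳ) d := by
  constructor
  · rintro ⟨F, hF, hgen⟩
    exact (isGenLE_iff_reg F hF d).1 hgen
  · intro h
    obtain ⟨F, hF⟩ := Groth.Agent.Helper13MinRes.exists_freeRes_isMinimal (k := k)
      (σ := Fin (r + 1)) ℳ
    exact ⟨F, hF, (isGenLE_iff_reg F hF d).2 h⟩

theorem reg_le_coe_iff (d : ℤ) :
    GrSyz.reg (GrSyz.stdGr k (Fin (r + 1))) ℳ (GrSyz.irrel (GrSyz.stdGr k (Fin (r + 1)))).toIdeal ≤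
      ((d : WithTop ℤ) : WithBot (WithTop ℤ)) ↔ Reg (irr k r) (Mg k r ℳ) d := by
  rw [← isRegLE_iff_reg]
  unfold GrSyz.reg
  apply iInf_le_coe_iff
  intro a b hab ha
  rw [isRegLE_iff_reg] at ha ⊢
  exact reg_mono (varList k r) irr_le_listIdeal hab ha

end Groth.Agent.R2.H72.GrRegFinal
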