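import Groth.Agent.R2.H72GrReg
import Groth.Agent.Lib.Helper29GrStd

/-!
# Regularity over a Noetherian homogeneous `ℤ`-graded ring (helper72)

* `exists_list_of_span_one`: an ideal generated by the piece of degree one of a Noetherian graded ring is
  generated by a finite list of elements of degree one.
* `van_level`: Mumford's theorem at and above a level `l ≥ 1`.
-/

set_option autoImplicit false
set_option linter.unusedSectionVars false
open DirectSum

noncomputable section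

namespace Groth.Agent.R2.H72.GrRegGen

open Groth.Agent.R2.H72.GrLCBasic Groth.Agent.R2.H72.GrMod Groth.Agent.R2.H72.GrLCLES
  Groth.Agent.R2.H72.GrLCTors Groth.Agent.R2.H72.GrKoszul Groth.Agent.R2.H72.GrReg

universe u

variable {R : Type u} [CommRing R] {𝒜 : ℤ → AddSubgroup R} [GradedRing 𝒜]
variable [IsNoetherianRing R]

/-- An ideal generated by elements of degree one is generated by a finite list of them. -/
theorem exists_list_of_span_one (a : HomogeneousIdeal 𝒜)
    (hhom : a.toIdeal = Ideal.span ((𝒜 1 : AddSubgroup R) : Set R)) :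
    ∃ xs : List ↥(𝒜 1), a.toIdeal ≤ listIdeal xs := by
  classical
  have hfg : (Submodule.span R ((𝒜 1 : AddSubgroup R) : Set R)).FG := by
    have h := IsNoetherian.noetherian a.toIdeal
    rw [hhom] at h
    exact h
  obtain ⟨s', hsub, hspan⟩ := (Submodule.fg_span_iff_fg_span_finset_subset _).1 hfg
  refine ⟨s'.attach.toList.map (fun y => (⟨y.1, hsub y.2⟩ : ↥(𝒜 1))), ?_⟩
  rw [hhom]
  have h1 : Ideal.span ((𝒜 1 : AddSubgroup R) : Set R) = Submodule.span R (s' : Set R) := hspan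
  rw [h1]
  apply Submodule.span_le.2
  intro y hy
  apply Ideal.subset_span
  refine ⟨⟨y, hsub hy⟩, ?_, rfl⟩
  rw [List.mem_map]
  exact ⟨⟨y, hy⟩, by simp, rfl⟩

variable {a : HomogeneousIdeal 𝒜} {M : GrLC.GMod.{u} 𝒜}

/-- Mumford's theorem at level `l ≥ 1`: if `H^i_a(M)_{r+1-i} = 0` for all `i ≥ l` then
`H^i_a(M)_{s-i} = 0` for all `i ≥ l` and `s > r`. -/
theorem van_level (xs : List ↥(𝒜 1)) (hxs : a.toIdeal ≤ listIdeal xs) (r : ℤ) (l : ℕ) (hl : 1 ≤ l)
    (hvan : ∀ i : ℕ, l ≤ i → Van a M i (r + 1 - i)) (s : ℤ) (hs : r + 1 ≤ s) :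
    ∀ i : ℕ, l ≤ i → Van a M i (s - i) := by
  induction s, hs using Int.leInduction with
  | base => exact hvan
  | succ n _ ih =>
    intro i hi
    obtain ⟨i', rfl⟩ : ∃ i', i = i' + 1 := ⟨i - 1, by omega⟩
    apply van_of_diagonal xs hxs i'
    intro q
    have h1 := ih (i' + 1 + q) (by omega)
    have e1 : n + 1 - ((i' + 1 : ℕ) : ℤ) + (q + 1) • (-1 : ℤ) = n - ((i' + 1 + q : ℕ) : ℤ) := by
      rw [nsmul_eq_mul]
      push_cast
      ring
    rw [e1]
    exact h1

/-! ### Order lemmas for ends -/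

section EndDeg

theorem toAddSubgroup_eq_bot_iff' {R' : Type*} [Ring R'] {M' : Type*} [AddCommGroup M'] [Module R' M']
    (p : Submodule R' M') : p.toAddSubgroup = ⊥ ↔ p = ⊥ := by
  have h := Submodule.bot_toAddSubgroup (R := R') (M := M')
  constructor
  · intro hp
    exact Submodule.toAddSubgroup_injective (hp.trans h.symm)
  · intro hp
    rw [hp, h]

/-- The end of a graded object is at most `ρ` iff the pieces above `ρ` vanish. -/
theorem endDeg_le_iff' {G : Type u} [AddCommGroup G] (𝒢 : ℤ → AddSubgroup G) (ρ : ℤ) :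
    GrLC.endDeg 𝒢 ≤ ((ρ : WithTop ℤ) : WithBot (WithTop ℤ)) ↔ ∀ j, ρ < j → 𝒢 j = ⊥ := by
  unfold GrLC.endDeg
  rw [iSup₂_le_iff]
  constructor
  · intro H j hj
    by_contra hne
    have h1 := H j hne
    rw [WithBot.coe_le_coe, WithTop.coe_le_coe] at h1
    omega
  · intro H j hj
    rw [WithBot.coe_le_coe, WithTop.coe_le_coe]
    by_contra hlt
    push Not at hlt
    exact hj (H j hlt)

theorem add_coe_le_iff' (x : WithBot (WithTop ℤ)) (i d : ℤ) :
    x + ((i : WithTop ℤ) : WithBot (WithTop ℤ)) ≤ ((d : WithTop ℤ) : WithBot (WithTop ℤ)) ↔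
      x ≤ (((d - i : ℤ) : WithTop ℤ) : WithBot (WithTop ℤ)) := by
  induction x using WithBot.recBotCoe with
  | bot => simp
  | coe y =>
    induction y using WithTop.recTopCoe with
    | top =>
      rw [← WithBot.coe_add, WithBot.coe_le_coe, WithBot.coe_le_coe, WithTop.top_add]
      simp
    | coe n =>
      rw [← WithBot.coe_add, WithBot.coe_le_coe, WithBot.coe_le_coe, ← WithTop.coe_add,
        WithTop.coe_le_coe, WithTop.coe_le_coe]
      omega

end EndDeg

/-! ### Generation in degrees at most the regularity -/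

section Generation

variable (X : GrLC.GMod.{u} 𝒜)

omit [IsNoetherianRing R] in
/-- The degree `e` component of an element of `(xs) X` lies in any submodule containing `X_{e-1}`. -/
theorem cmp_mem_of_mem_smul_top (xs : List ↥(𝒜 1)) (e : ℤ) (G : Submodule R X.carrier)
    (hG : ∀ n ∈ X.gr (e - 1), n ∈ G) (w : X.carrier)
    (hw : w ∈ listIdeal xs • (⊤ : Submodule R X.carrier)) : cmp X e w ∈ G := by
  refine Submodule.smul_induction_on (p := fun w => cmp X e w ∈ G) hw ?_ ?_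
  · intro c hc y _
    suffices hsuf : ∀ y : X.carrier, cmp X e (c • y) ∈ G from hsuf y
    refine Submodule.span_induction (p := fun c _ => ∀ y : X.carrier, cmp X e (c • y) ∈ G)
      ?_ ?_ ?_ ?_ hc
    · rintro _ ⟨x, _, rfl⟩ y
      have h1 : cmp X e ((x : R) • y) = (x : R) • cmp X (e - 1) y :=
        Groth.Agent.Lib.Helper29GrEss.decompose_smul_of_mem 𝒜 X.gr x.2 y e
      rw [h1]
      exact Submodule.smul_mem _ _ (hG _ (cmp_mem X (e - 1) y))
    · intro y
      rw [zero_smul, cmp_zero]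
      exact zero_mem _
    · intro c c' _ _ hc hc' y
      rw [add_smul, cmp_add]
      exact add_mem (hc y) (hc' y)
    · intro b c _ hc y
      rw [smul_eq_mul, mul_comm, mul_smul]
      exact hc (b • y)
  · intro v w hv hw
    show cmp X e (v + w) ∈ G
    rw [cmp_add]
    exact add_mem hv hw

omit [IsNoetherianRing R] in
/-- A submodule containing all homogeneous elements is everything. -/
theorem eq_top_of_forall_gr_le (G : Submodule R X.carrier) (h : ∀ e, ∀ m ∈ X.gr e, m ∈ G) :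
    G = ⊤ := by
  classical
  rw [eq_top_iff]
  intro m _
  induction m using DirectSum.Decomposition.inductionOn X.gr with
  | zero => exact zero_mem _
  | homogeneous m => exact h _ _ m.2
  | add m m' hm hm' => exact add_mem (hm trivial) (hm' trivial)

omit [IsNoetherianRing R] in
/-- If `X_e ⊆ (xs) X` for all `e > ρ`, then `X` is generated by its elements of degrees `≤ ρ`. -/
theorem span_eq_top_of_gen (xs : List ↥(𝒜 1)) (ρ : ℤ) (P : ℤ → Prop) (hP : ∀ n, n ≤ ρ → P n)
    (hgen : ∀ e, ρ < e → ∀ m ∈ X.gr e, m ∈ listIdeal xs • (⊤ : Submodule R X.carrier)) :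
    Submodule.span R (⋃ (n : ℤ) (_ : P n), (X.gr n : Set X.carrier)) = ⊤ := by
  set G := Submodule.span R (⋃ (n : ℤ) (_ : P n), (X.gr n : Set X.carrier)) with hGdef
  have key : ∀ (t : ℕ) (e : ℤ), e ≤ ρ + t → ∀ m ∈ X.gr e, m ∈ G := by
    intro t
    induction t with
    | zero =>
      intro e he m hm
      apply Submodule.subset_span
      exact Set.mem_iUnion₂.2 ⟨e, hP e (by simpa using he), hm⟩
    | succ t ih =>
      intro e he m hm
      by_cases he' : e ≤ ρ + t
      · exact ih e he' m hm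
      · have h1 := cmp_mem_of_mem_smul_top X xs e G (ih (e - 1) (by push_cast at he; omega)) m
          (hgen e (by omega) m hm)
        rw [cmp_of_mem X hm] at h1
        exact h1
  apply eq_top_of_forall_gr_le X G
  intro e m hm
  exact key (e - ρ).toNat e (by have := Int.self_le_toNat (e - ρ); omega) m hm

end Generation

/-! ### The statement-level form -/

section Statement

variable {M : Type u} [AddCommGroup M] [Module R M] (ℳ : ℤ → AddSubgroup M)
  [DirectSum.Decomposition ℳ] [SetLike.GradedSMul 𝒜 ℳ]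
variable (a : HomogeneousIdeal 𝒜) (E : GrLC.StarInjRes 𝒜 ℳ)

omit [IsNoetherianRing R] in
theorem van_of_iSup_le (ρ : ℤ)
    (h : (⨆ i : ℕ, GrLC.endDeg (E.Hgr a i) + ((i : ℤ) : WithTop ℤ)) ≤
      ((ρ : WithTop ℤ) : WithBot (WithTop ℤ))) (i : ℕ) (e : ℤ) (he : ρ < e + i) :
    Van a (GrLC.GMod.of 𝒜 M ℳ) i e := by
  have hi := (le_iSup (fun i : ℕ => GrLC.endDeg (E.Hgr a i) + ((i : ℤ) : WithTop ℤ)) i).trans h
  rw [add_coe_le_iff', endDeg_le_iff'] at hi
  have h1 := hi e (by omega)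
  have h2 : E.Hcomp a i e = ⊥ := (toAddSubgroup_eq_bot_iff' _).1 h1
  exact (van_iff (X := GrLC.GMod.of 𝒜 M ℳ) E i e).2 h2

theorem mem_smul_top_of_iSup_le (xs : List ↥(𝒜 1)) (hxs : a.toIdeal ≤ listIdeal xs) (ρ : ℤ)
    (h : (⨆ i : ℕ, GrLC.endDeg (E.Hgr a i) + ((i : ℤ) : WithTop ℤ)) ≤
      ((ρ : WithTop ℤ) : WithBot (WithTop ℤ))) (e : ℤ) (he : ρ < e) (m : M) (hm : m ∈ ℳ e) :
    m ∈ listIdeal xs • (⊤ : Submodule R M) := by
  have hreg : Reg a (GrLC.GMod.of 𝒜 M ℳ) ρ :=
    ⟨fun i _ => van_of_iSup_le ℳ a E ρ h i _ (by omega),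
      fun e he => van_of_iSup_le ℳ a E ρ h 0 e (by push_cast; omega)⟩
  exact mem_smul_top_of_reg (M := GrLC.GMod.of 𝒜 M ℳ) xs hxs hreg e he m hm

omit [IsNoetherianRing R] in
theorem listIdeal_le (xs : List ↥(𝒜 1))
    (hhom : a.toIdeal = Ideal.span ((𝒜 1 : AddSubgroup R) : Set R)) :
    listIdeal xs ≤ a.toIdeal := by
  unfold listIdeal
  rw [Ideal.span_le]
  rintro _ ⟨x, _, rfl⟩
  rw [hhom]
  exact Ideal.subset_span x.2

omit [IsNoetherianRing R] in
/-- Graded Nakayama, in the form used below. -/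
theorem false_of_forall_mem_smul_top (hpos : ∀ n : ℤ, n < 0 → 𝒜 n = ⊥)
    (hhom : a.toIdeal = Ideal.span ((𝒜 1 : AddSubgroup R) : Set R)) [Module.Finite R M]
    [Nontrivial M] (xs : List ↥(𝒜 1))
    (hall : ∀ e, ∀ m ∈ ℳ e, m ∈ listIdeal xs • (⊤ : Submodule R M)) : False := by
  have htop : listIdeal xs • (⊤ : Submodule R M) = ⊤ :=
    eq_top_of_forall_gr_le (GrLC.GMod.of 𝒜 M ℳ) _ hall
  have htop' : a.toIdeal • (⊤ : Submodule R M) = ⊤ :=
    eq_top_iff.2 (le_of_eq_of_le htop.symm (Submodule.smul_mono_left (listIdeal_le a xs hhom)))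
  obtain ⟨m, hm⟩ := exists_ne (0 : M)
  exact hm (Groth.Agent.Lib.Helper29GrStd.eq_zero_of_smul_top_eq_top 𝒜 ℳ hpos a.toIdeal hhom
    htop' m)

/-- A nonzero finitely generated graded module over a Noetherian homogeneous positively graded ring is
generated in degrees at most its regularity. -/
theorem span_le_reg_eq_top (hpos : ∀ n : ℤ, n < 0 → 𝒜 n = ⊥)
    (hhom : a.toIdeal = Ideal.span ((𝒜 1 : AddSubgroup R) : Set R)) [Module.Finite R M]
    [Nontrivial M] :
    Submodule.span R (⋃ (n : ℤ) (_ : ((n : WithTop ℤ) : WithBot (WithTop ℤ)) ≤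
      ⨆ i : ℕ, GrLC.endDeg (E.Hgr a i) + ((i : ℤ) : WithTop ℤ)), (ℳ n : Set M)) = ⊤ := by
  obtain ⟨xs, hxs⟩ := exists_list_of_span_one a hhom
  obtain ⟨s, hs⟩ : ∃ s, s = ⨆ i : ℕ, GrLC.endDeg (E.Hgr a i) + ((i : ℤ) : WithTop ℤ) := ⟨_, rfl⟩
  rw [← hs]
  induction s using WithBot.recBotCoe with
  | bot =>
    exfalso
    apply false_of_forall_mem_smul_top ℳ a hpos hhom xs
    intro e m hm
    refine mem_smul_top_of_iSup_le ℳ a E xs hxs (e - 1) ?_ e (by omega) m hm
    rw [← hs]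
    exact bot_le
  | coe s =>
    induction s using WithTop.recTopCoe with
    | top =>
      have h1 : ∀ e : ℤ, ∀ m : M, m ∈ ℳ e → m ∈ Submodule.span R
          (⋃ (n : ℤ) (_ : ((n : WithTop ℤ) : WithBot (WithTop ℤ)) ≤ ((⊤ : WithTop ℤ) : WithBot (WithTop ℤ))),
            (ℳ n : Set M)) := by
        intro e m hm
        apply Submodule.subset_span
        exact Set.mem_iUnion₂.2 ⟨e, WithBot.coe_le_coe.2 le_top, hm⟩
      exact eq_top_of_forall_gr_le (GrLC.GMod.of 𝒜 M ℳ) _ h1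
    | coe ρ =>
      refine span_eq_top_of_gen (GrLC.GMod.of 𝒜 M ℳ) xs ρ _ (fun n hn => ?_) (fun e he m hm => ?_)
      · exact WithBot.coe_le_coe.2 (WithTop.coe_le_coe.2 hn)
      · exact mem_smul_top_of_iSup_le ℳ a E xs hxs ρ (le_of_eq hs.symm) e he m hm

end Statement

/-! ### Multiplication by a regular homogeneous element on local cohomology -/

section MulSurj

variable {ι : Type} [AddCommGroup ι] [DecidableEq ι]
variable {R' : Type u} [CommRing R'] {ℬ : ι → AddSubgroup R'} [GradedRing ℬ]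
variable {a : HomogeneousIdeal ℬ} {M N : GrLC.GMod.{u} ℬ} {x : R'} {δ : ι}

/-- `0 → M(-δ) → M → M/xM → 0` for a homogeneous non-zerodivisor `x` of degree `δ`. -/
def sesReg (hx : x ∈ ℬ δ) (π : M.carrier →ₗ[R'] N.carrier) (hπ : Function.Surjective π)
    (hπg : GrLC.IsGrHom M.gr N.gr π) (hker : ∀ m, π m = 0 ↔ ∃ m', x • m' = m)
    (hreg : ∀ m : M.carrier, x • m = 0 → m = 0) : SES (shiftG M (-δ)) M N where
  f := mulMap M x δ
  g := π
  f_gr := mulMap_grHom hx
  g_gr := hπg
  f_inj := by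
    intro m m' h
    have h1 : x • (m - m') = 0 := by
      rw [smul_sub]
      exact sub_eq_zero.2 h
    exact sub_eq_zero.1 (hreg _ h1)
  g_surj := hπ
  exact := hker

/-- If `H^i(M/xM)_k = 0` then multiplication by `x` maps `H^i(M)_{k-δ}` onto `H^i(M)_k`. -/
theorem smul_surj_of_van (hx : x ∈ ℬ δ) (π : M.carrier →ₗ[R'] N.carrier)
    (hπ : Function.Surjective π) (hπg : GrLC.IsGrHom M.gr N.gr π)
    (hker : ∀ m, π m = 0 ↔ ∃ m', x • m' = m) (hreg : ∀ m : M.carrier, x • m = 0 → m = 0)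
    (E : GrLC.StarInjRes ℬ M.gr) (F : GrLC.StarInjRes ℬ N.gr) (i : ℕ) (k : ι)
    (hN : F.Hcomp a i k = ⊥) (y : E.H a i) (hy : y ∈ E.Hcomp a i k) :
    ∃ z ∈ E.Hcomp a i (k + -δ), x • z = y := by
  obtain ⟨ψ⟩ := exists_resHom E F π hπg
  have h0 : Hmap ψ a i y = 0 := by
    have h1 : Hmap ψ a i y ∈ F.Hcomp a i k := Hmap_mem_Hcomp ψ a i k hy
    rw [hN, Submodule.mem_bot] at h1
    exact h1
  obtain ⟨z, hz, hzy⟩ := exact_mid a (sesReg hx π hπ hπg hker hreg) (mulHom E hx) ψ i k y hy h0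
  have h2 : Hmap (mulHom E hx) a i z = x • z := Hmap_mulHom E hx i z
  exact ⟨z, hz, h2.symm.trans hzy⟩

end MulSurj

end Groth.Agent.R2.H72.GrRegGen
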