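import Groth.Agent.R2.H72GrPolyLC
import Groth.Agent.Lib.Helper13RegLin

/-!
# Minimal graded free resolutions and graded local cohomology (helper72)

For a graded free resolution `F` of a graded module `M` over `S = k[x_0..x_r]`:
the terms and syzygy modules as bundled graded modules with their short exact sequences;
`van_of_isGenLE`: if `F` has length `≤ r + 1` and `F_i` is generated in degrees `≤ d + i` then
`H^p_𝔪(M)_e = 0` for `e > d - p`; `isGenLE_of_reg`: if `F` is minimal and `M` is `d`-regular then `F_i` is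
generated in degrees `≤ d + i`.
-/

set_option autoImplicit false
set_option linter.unusedSectionVars false
open DirectSum

noncomputable section

namespace Groth.Agent.R2.H72.GrSyzLC

open Groth.Agent.R2.H72.GrLCBasic Groth.Agent.R2.H72.GrMod Groth.Agent.R2.H72.GrLCLES
  Groth.Agent.R2.H72.GrLCTors Groth.Agent.R2.H72.GrConv Groth.Agent.R2.H72.GrLCFinLen
  Groth.Agent.R2.H72.GrFree Groth.Agent.R2.H72.GrRegPoly Groth.Agent.R2.H72.GrPolyLC
  Groth.Agent.R2.H72.GrReg Groth.Agent.R2.H72.GrKoszul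
open Groth.Agent.Lib.Helper29GrEss

universe u

variable {k : Type u} [Field k] {r : ℕ}
variable {M : Type u} [AddCommGroup M] [Module k M] [Module (MvPolynomial (Fin (r + 1)) k) M]
  [IsScalarTower k (MvPolynomial (Fin (r + 1)) k) M]
  {ℳ : ℤ → Submodule k M} [DirectSum.Decomposition ℳ]
  [SetLike.GradedSMul (GrSyz.stdGr k (Fin (r + 1))) ℳ]
  (F : GrSyz.FreeRes (GrSyz.stdGr k (Fin (r + 1))) ℳ)

/-- The `i`-th term of the resolution as a graded module. -/
def Fg (i : ℕ) : GrLC.GMod.{u} (A k r) := freeG (A k r) (F.deg i)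

/-- The differential. -/
def dG (i : ℕ) : (Fg F (i + 1)).carrier →ₗ[MvPolynomial (Fin (r + 1)) k] (Fg F i).carrier := F.dLin i

theorem dG_grHom (i : ℕ) : GrLC.IsGrHom (Fg F (i + 1)).gr (Fg F i).gr (dG F i) :=
  mulVecLin_grHom (F.deg i) (F.deg (i + 1)) (F.d i) (F.d_mem i)

/-- The augmentation. -/
def augG : (Fg F 0).carrier →ₗ[MvPolynomial (Fin (r + 1)) k] (Mg k r ℳ).carrier := F.augLin

theorem augG_grHom : GrLC.IsGrHom (Fg F 0).gr (Mg k r ℳ).gr (augG F) :=
  linearCombination_grHom (F.deg 0) (Mg k r ℳ) F.aug F.aug_mem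

/-- The `i`-th syzygy module `im (F_{i+1} → F_i)` as a graded module. -/
def Kg (i : ℕ) : GrLC.GMod.{u} (A k r) :=
  subG (Fg F i) (LinearMap.range (dG F i))
    (range_isHomogeneous (Fg F i).gr (Fg F (i + 1)).gr (dG F i) (dG_grHom F i))

theorem mem_range_dG_zero (v : (Fg F 0).carrier) :
    augG F v = 0 ↔ v ∈ LinearMap.range (dG F 0) := by
  have h := F.exact_zero
  have h1 : v ∈ LinearMap.ker (Fintype.linearCombination (MvPolynomial (Fin (r + 1)) k) F.aug) ↔
      v ∈ LinearMap.range (Matrix.mulVecLin (F.d 0)) := by rw [h]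
  exact h1

theorem mem_range_dG_succ (i : ℕ) (v : (Fg F (i + 1)).carrier) :
    dG F i v = 0 ↔ v ∈ LinearMap.range (dG F (i + 1)) := by
  have h := F.exact_succ i
  have h1 : v ∈ LinearMap.ker (Matrix.mulVecLin (F.d i)) ↔
      v ∈ LinearMap.range (Matrix.mulVecLin (F.d (i + 1))) := by rw [h]
  exact h1

/-- `0 → K_0 → F_0 → M → 0`. -/
def ses0 : SES (Kg F 0) (Fg F 0) (Mg k r ℳ) where
  f := (LinearMap.range (dG F 0)).subtype
  g := augG F
  f_gr := subG_incl_grHom _ _ _
  g_gr := augG_grHom F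
  f_inj := Submodule.injective_subtype _
  g_surj := F.aug_surjective
  exact v := by
    rw [mem_range_dG_zero]
    constructor
    · intro hv
      exact ⟨⟨v, hv⟩, rfl⟩
    · rintro ⟨m', rfl⟩
      exact m'.2

theorem sesS_exact (i : ℕ) (v : (Fg F (i + 1)).carrier) :
    (dG F i).rangeRestrict v = 0 ↔
      ∃ m' : ↥(LinearMap.range (dG F (i + 1))), (LinearMap.range (dG F (i + 1))).subtype m' = v := by
  have h0 : (dG F i).rangeRestrict v = 0 ↔ dG F i v = 0 := by
    constructor
    · intro h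
      exact congrArg Subtype.val h
    · intro h
      exact Subtype.ext h
  rw [h0, mem_range_dG_succ]
  constructor
  · intro hv
    exact ⟨⟨v, hv⟩, rfl⟩
  · rintro ⟨m', rfl⟩
    exact m'.2

/-- `0 → K_{i+1} → F_{i+1} → K_i → 0`. -/
def sesS (i : ℕ) : SES (Kg F (i + 1)) (Fg F (i + 1)) (Kg F i) where
  f := (LinearMap.range (dG F (i + 1))).subtype
  g := (dG F i).rangeRestrict
  f_gr := subG_incl_grHom _ _ _
  g_gr := fun e v hv => dG_grHom F i e v hv
  f_inj := Submodule.injective_subtype _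
  g_surj := LinearMap.surjective_rangeRestrict _
  exact v := sesS_exact F i v


/-! ### From the resolution to local cohomology -/

theorem van_Fg (i : ℕ) (ρ : ℤ) (hd : ∀ b, F.deg i b ≤ ρ) (q : ℕ) (e : ℤ) (he : ρ - q < e) :
    Van (irr k r) (Fg F i) q e := by
  apply van_freeG_poly
  by_cases hq : q = r + 1
  · right
    intro b
    have := hd b
    subst hq
    push_cast at he
    omega
  · exact Or.inl hq

theorem subsingleton_range_aux {n : ℕ} (h : n = 0) {S' N' : Type*} [CommRing S'] [AddCommGroup N']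
    [Module S' N'] (φ : N' →ₗ[S'] (Fin n → S')) : Subsingleton ↥(LinearMap.range φ) := by
  subst h
  refine ⟨fun a b => Subtype.ext (funext fun x => Fin.elim0 x)⟩

theorem subsingleton_Kg (i : ℕ) (h : F.rk i = 0) : Subsingleton (Kg F i).carrier :=
  subsingleton_range_aux h (F.dLin i)

theorem van_Kg_of_isGenLE (d : ℤ) (hgen : F.IsGenLE d) (hlen : F.HasLengthLE (r + 1)) :
    ∀ (n i : ℕ), r + 2 ≤ i + n → ∀ (q : ℕ) (e : ℤ), d + i + 1 - q < e →
      Van (irr k r) (Kg F i) q e
  | 0, i, h, q, e, _ => by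
    have := subsingleton_Kg F i (hlen i (by omega))
    exact van_of_subsingleton _ _ q e
  | n + 1, i, h, q, e, he => by
    refine van_right (sesS F i) q e ?_ ?_
    · apply van_Fg F (i + 1) (d + (i + 1 : ℕ)) (hgen (i + 1)) q e
      push_cast
      omega
    · apply van_Kg_of_isGenLE d hgen hlen n (i + 1) (by omega) (q + 1) e
      push_cast
      omega

/-- If `F` has length at most `r + 1` and its `i`-th term is generated in degrees at most `d + i`, then
`H^q_𝔪(M)_e = 0` for `e > d - q`. -/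
theorem van_of_isGenLE (d : ℤ) (hgen : F.IsGenLE d) (hlen : F.HasLengthLE (r + 1)) (q : ℕ) (e : ℤ)
    (he : d - q < e) : Van (irr k r) (Mg k r ℳ) q e := by
  refine van_right (ses0 F) q e ?_ ?_
  · apply van_Fg F 0 d _ q e he
    intro b
    have := hgen 0 b
    simpa using this
  · apply van_Kg_of_isGenLE F d hgen hlen (r + 2) 0 (by omega) (q + 1) e
    push_cast
    omega


/-! ### From local cohomology to the resolution -/

section Abstract

variable {R' : Type*} [CommRing R'] (𝔪 : Ideal R')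

theorem coord_mem_of_mem_smul_top {n : ℕ} (w : Fin n → R')
    (hw : w ∈ 𝔪 • (⊤ : Submodule R' (Fin n → R'))) (a : Fin n) : w a ∈ 𝔪 := by
  refine Submodule.smul_induction_on (p := fun w => w a ∈ 𝔪) hw ?_ ?_
  · intro c hc v _
    show (c • v) a ∈ 𝔪
    rw [Pi.smul_apply, smul_eq_mul]
    exact Ideal.mul_mem_right _ _ hc
  · intro v w hv hw
    show (v + w) a ∈ 𝔪
    rw [Pi.add_apply]
    exact Ideal.add_mem _ hv hw

/-- A basis vector of a minimal presentation does not map into `𝔪 N`. -/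
theorem single_not_mem_smul_top (h1 : (1 : R') ∉ 𝔪) {n : ℕ} {N' : Type*} [AddCommGroup N']
    [Module R' N'] (φ : (Fin n → R') →ₗ[R'] N') (hφ : Function.Surjective φ)
    (hker : ∀ v, φ v = 0 → ∀ a, v a ∈ 𝔪) (b : Fin n) :
    φ (Pi.single b 1) ∉ 𝔪 • (⊤ : Submodule R' N') := by
  intro h
  have e1 : 𝔪 • (⊤ : Submodule R' N') = Submodule.map φ (𝔪 • (⊤ : Submodule R' (Fin n → R'))) := by
    rw [Submodule.map_smul'', Submodule.map_top, LinearMap.range_eq_top.2 hφ]
  rw [e1] at h
  obtain ⟨w, hw, hwe⟩ := h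
  have h2 : φ (Pi.single b 1 - w) = 0 := by rw [map_sub, hwe, sub_self]
  have h3 := hker _ h2 b
  rw [Pi.sub_apply, Pi.single_eq_same] at h3
  have h4 := coord_mem_of_mem_smul_top 𝔪 w hw b
  have h5 : (1 : R') = (1 - w b) + w b := by ring
  rw [h5] at h1
  exact h1 (Ideal.add_mem _ h3 h4)

theorem mulVec_mem {m n : ℕ} (D : Matrix (Fin m) (Fin n) R') (hD : ∀ a b, D a b ∈ 𝔪)
    (w : Fin n → R') (a : Fin m) : Matrix.mulVecLin D w a ∈ 𝔪 := by
  rw [Matrix.mulVecLin_apply]
  show ∑ b, D a b * w b ∈ 𝔪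
  exact Ideal.sum_mem _ fun b _ => Ideal.mul_mem_right _ _ (hD a b)

end Abstract

theorem one_not_mem_irr : (1 : MvPolynomial (Fin (r + 1)) k) ∉ (irr k r).toIdeal := by
  intro h
  have h1 : (irr k r).toIdeal = (GrSyz.irrel (GrSyz.stdGr k (Fin (r + 1)))).toIdeal := rfl
  rw [h1, Groth.Agent.Helper13FreeRes.irrel_stdGr_eq_ker, RingHom.mem_ker] at h
  simp at h

theorem listIdeal_varList_le : listIdeal (varList k r) ≤ (irr k r).toIdeal := by
  unfold listIdeal
  rw [Ideal.span_le]
  rintro _ ⟨x, _, rfl⟩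
  exact mem_irr_of_mem_one x.2

theorem single_mem_Fg (i : ℕ) (b : Fin (F.rk i)) :
    (Pi.single b 1 : Fin (F.rk i) → MvPolynomial (Fin (r + 1)) k) ∈ (Fg F i).gr (F.deg i b) := by
  have h := single_mem_freeGr (𝒜 := A k r) (F.deg i) b
    (SetLike.GradedOne.one_mem : (1 : MvPolynomial (Fin (r + 1)) k) ∈ A k r 0)
  rw [zero_add] at h
  exact h

/-- The generator degrees of a minimal presentation of a `ρ`-regular module are at most `ρ`. -/
theorem deg_le_of_reg (i : ℕ) (N : GrLC.GMod.{u} (A k r))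
    (φ : (Fin (F.rk i) → MvPolynomial (Fin (r + 1)) k) →ₗ[MvPolynomial (Fin (r + 1)) k] N.carrier)
    (hφg : GrLC.IsGrHom (Fg F i).gr N.gr φ) (hφ : Function.Surjective φ)
    (hker : ∀ v, φ v = 0 → ∀ a, v a ∈ (irr k r).toIdeal) (ρ : ℤ) (hreg : Reg (irr k r) N ρ)
    (b : Fin (F.rk i)) : F.deg i b ≤ ρ := by
  by_contra hlt
  push Not at hlt
  have hm : φ (Pi.single b 1) ∈ N.gr (F.deg i b) := hφg _ _ (single_mem_Fg F i b)
  have h1 := mem_smul_top_of_reg (varList k r) irr_le_listIdeal hreg (F.deg i b) hlt _ hm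
  have h2 : listIdeal (varList k r) • (⊤ : Submodule (MvPolynomial (Fin (r + 1)) k) N.carrier) ≤
      (irr k r).toIdeal • ⊤ := Submodule.smul_mono_left listIdeal_varList_le
  exact single_not_mem_smul_top (irr k r).toIdeal one_not_mem_irr φ hφ hker b (h2 h1)

/-- The kernel of a presentation `F_j → N` by a term of the resolution, with `N` `ρ`-regular and `F_j`
generated in degrees at most `ρ`, is `(ρ+1)`-regular. -/
theorem reg_of_ses (j : ℕ) {K N : GrLC.GMod.{u} (A k r)} (S : SES K (Fg F j) N) (ρ : ℤ)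
    (hreg : Reg (irr k r) N ρ) (hdeg : ∀ b, F.deg j b ≤ ρ) : Reg (irr k r) K (ρ + 1) := by
  constructor
  · intro q hq
    obtain ⟨q', rfl⟩ : ∃ q', q = q' + 1 := ⟨q - 1, by omega⟩
    refine van_left S q' _ ?_ ?_
    · apply van_of_reg (varList k r) irr_le_listIdeal hreg
      push_cast
      omega
    · apply van_Fg F j ρ hdeg
      push_cast
      omega
  · intro e _
    apply van_left_zero S e
    apply van_freeG_poly
    left
    omega

section Minimal

variable (hF : F.IsMinimal (GrSyz.irrel (GrSyz.stdGr k (Fin (r + 1)))).toIdeal)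

include hF

theorem coord_mem_of_mem_range (i : ℕ) (v : Fin (F.rk i) → MvPolynomial (Fin (r + 1)) k)
    (hv : v ∈ LinearMap.range (F.dLin i)) (a : Fin (F.rk i)) : v a ∈ (irr k r).toIdeal := by
  obtain ⟨w, rfl⟩ := hv
  exact mulVec_mem (irr k r).toIdeal (F.d i) (hF i) w a

theorem hker_zero (v : Fin (F.rk 0) → MvPolynomial (Fin (r + 1)) k) (hv : F.augLin v = 0)
    (a : Fin (F.rk 0)) : v a ∈ (irr k r).toIdeal :=
  coord_mem_of_mem_range F hF 0 v ((mem_range_dG_zero F v).1 hv) a

theorem hker_succ (i : ℕ) (v : Fin (F.rk (i + 1)) → MvPolynomial (Fin (r + 1)) k)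
    (hv : (F.dLin i).rangeRestrict v = 0) (a : Fin (F.rk (i + 1))) : v a ∈ (irr k r).toIdeal := by
  have h0 : F.dLin i v = 0 := congrArg Subtype.val hv
  exact coord_mem_of_mem_range F hF (i + 1) v ((mem_range_dG_succ F i v).1 h0) a

theorem deg_zero_le (d : ℤ) (hreg : Reg (irr k r) (Mg k r ℳ) d) (b : Fin (F.rk 0)) :
    F.deg 0 b ≤ d :=
  deg_le_of_reg F 0 (Mg k r ℳ) F.augLin (augG_grHom F) F.aug_surjective (hker_zero F hF) d hreg b

theorem deg_succ_le (i : ℕ) (ρ : ℤ) (hreg : Reg (irr k r) (Kg F i) ρ) (b : Fin (F.rk (i + 1))) :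
    F.deg (i + 1) b ≤ ρ :=
  deg_le_of_reg F (i + 1) (Kg F i) (F.dLin i).rangeRestrict (fun e v hv => dG_grHom F i e v hv)
    (LinearMap.surjective_rangeRestrict _) (hker_succ F hF i) ρ hreg b

theorem reg_Kg (d : ℤ) (hreg : Reg (irr k r) (Mg k r ℳ) d) :
    ∀ i : ℕ, Reg (irr k r) (Kg F i) (d + i + 1)
  | 0 => by
    have h := reg_of_ses F 0 (ses0 F) d hreg (deg_zero_le F hF d hreg)
    simpa using h
  | i + 1 => by
    have ih := reg_Kg d hreg i
    have h := reg_of_ses F (i + 1) (sesS F i) (d + i + 1) ih (deg_succ_le F hF i _ ih)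
    have e1 : d + ((i + 1 : ℕ) : ℤ) + 1 = d + i + 1 + 1 := by push_cast; ring
    rw [e1]
    exact h

/-- If `F` is minimal and `M` is `d`-regular then `F_i` is generated in degrees at most `d + i`. -/
theorem isGenLE_of_reg (d : ℤ) (hreg : Reg (irr k r) (Mg k r ℳ) d) : F.IsGenLE d := by
  intro i b
  cases i with
  | zero =>
    have := deg_zero_le F hF d hreg b
    simpa using this
  | succ i =>
    have h := deg_succ_le F hF i _ (reg_Kg F hF d hreg i) b
    push_cast
    omega

end Minimal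

/-! ### Statement-level forms -/

section Final

variable [Module.Finite (MvPolynomial (Fin (r + 1)) k) M]
variable (hF : F.IsMinimal (GrSyz.irrel (GrSyz.stdGr k (Fin (r + 1)))).toIdeal)

include hF

/-- For a minimal resolution: generated in degrees `≤ d + i` iff `d`-regular. -/
theorem isGenLE_iff_reg (d : ℤ) : F.IsGenLE d ↔ Reg (irr k r) (Mg k r ℳ) d := by
  constructor
  · intro hgen
    have hlen := Groth.Agent.Helper13RegLin.hasLengthLE_of_isMinimal F hF
    refine ⟨fun i _ => van_of_isGenLE F d hgen hlen i _ (by omega), fun e he => ?_⟩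
    exact van_of_isGenLE F d hgen hlen 0 e (by push_cast; omega)
  · exact isGenLE_of_reg F hF d

/-- For a minimal resolution: generated in degrees `≤ d + i` iff `H^q_𝔪(M)_e = 0` for all `e > d - q`. -/
theorem isGenLE_iff_van (d : ℤ) :
    F.IsGenLE d ↔ ∀ (q : ℕ) (e : ℤ), d - q < e → Van (irr k r) (Mg k r ℳ) q e := by
  constructor
  · intro hgen
    have hlen := Groth.Agent.Helper13RegLin.hasLengthLE_of_isMinimal F hF
    exact fun q e he => van_of_isGenLE F d hgen hlen q e he
  · intro h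
    apply isGenLE_of_reg F hF d
    exact ⟨fun i _ => h i _ (by omega), fun e he => h 0 e (by push_cast; omega)⟩

end Final

theorem add_coe_le_iff (x : WithBot (WithTop ℤ)) (i d : ℤ) :
    x + ((i : WithTop ℤ) : WithBot (WithTop ℤ)) ≤ ((d : WithTop ℤ) : WithBot (WithTop ℤ)) ↔
      x ≤ (((d - i : ℤ) : WithTop ℤ) : WithBot (WithTop ℤ)) := by
  induction x using WithBot.recBotCoe with
  | bot => simp
  | coe y =>
    induction y using WithTop.recTopCoe with
    | top =>
      rw [← WithBot.coe_add, WithBot.coe_le_coe, WithBot.coe_le_coe, WithTop.top_add]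
      simp
    | coe n =>
      rw [← WithBot.coe_add, WithBot.coe_le_coe, WithBot.coe_le_coe, ← WithTop.coe_add,
        WithTop.coe_le_coe, WithTop.coe_le_coe]
      omega

end Groth.Agent.R2.H72.GrSyzLC
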