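import Mathlib

/-!
# Quotients `R[u_1..u_n]/(f_1(u_1), …, f_n(u_n))` (helper73)

For polynomials `f i : R[X]` in one variable, the quotient of `MvPolynomial (Fin n) R` by the ideal
generated by the `f i (X i)` is identified with the tensor product `⨂[R] i, AdjoinRoot (f i)`.
If the `f i` are monic it is free over `R` with the monomial basis.
-/

set_option autoImplicit false
universe u

open MvPolynomial PiTensorProduct
open scoped TensorProduct

namespace Groth.Agent.R2.H73.ASFamily

variable {R : Type u} [CommRing R] {n : ℕ} (f : Fin n → Polynomial R)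

/-- The ideal generated by the `f i (X i)`. -/
noncomputable def relIdeal : Ideal (MvPolynomial (Fin n) R) :=
  Ideal.span (Set.range fun i => Polynomial.aeval (X i : MvPolynomial (Fin n) R) (f i))

lemma rel_mem (i : Fin n) :
    Polynomial.aeval (X i : MvPolynomial (Fin n) R) (f i) ∈ relIdeal f :=
  Ideal.subset_span ⟨i, rfl⟩

/-- `X i ↦ 1 ⊗ … ⊗ root ⊗ … ⊗ 1`. -/
noncomputable def toTensorAux : MvPolynomial (Fin n) R →ₐ[R] ⨂[R] i, AdjoinRoot (f i) :=
  aeval fun i => singleAlgHom i (AdjoinRoot.root (f i))

lemma toTensorAux_X (i : Fin n) :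
    toTensorAux f (X i) = singleAlgHom i (AdjoinRoot.root (f i)) := by
  rw [toTensorAux, aeval_X]

lemma toTensorAux_rel (i : Fin n) :
    toTensorAux f (Polynomial.aeval (X i : MvPolynomial (Fin n) R) (f i)) = 0 := by
  rw [← Polynomial.aeval_algHom_apply, toTensorAux_X, Polynomial.aeval_algHom_apply,
    AdjoinRoot.aeval_eq, AdjoinRoot.mk_self, map_zero]

/-- The comparison map to the tensor product. -/
noncomputable def toTensor :
    (MvPolynomial (Fin n) R ⧸ relIdeal f) →ₐ[R] ⨂[R] i, AdjoinRoot (f i) :=
  Ideal.Quotient.liftₐ (relIdeal f) (toTensorAux f) (by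
    have h : relIdeal f ≤ RingHom.ker (toTensorAux f).toRingHom := by
      rw [relIdeal, Ideal.span_le]
      rintro _ ⟨i, rfl⟩
      exact toTensorAux_rel f i
    exact fun a ha => h ha)

lemma toTensor_mk_X (i : Fin n) :
    toTensor f (Ideal.Quotient.mk (relIdeal f) (X i)) =
      singleAlgHom i (AdjoinRoot.root (f i)) := by
  rw [toTensor]
  erw [Ideal.Quotient.liftₐ_apply, Ideal.Quotient.lift_mk]
  exact toTensorAux_X f i

/-- The `i`-th coordinate map `AdjoinRoot (f i) → R[u]/(f(u))`. -/
noncomputable def gen (i : Fin n) :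
    AdjoinRoot (f i) →ₐ[R] (MvPolynomial (Fin n) R ⧸ relIdeal f) :=
  AdjoinRoot.liftAlgHom (f i) (Algebra.ofId R _) (Ideal.Quotient.mk (relIdeal f) (X i)) (by
    have h1 : Polynomial.eval₂ (Algebra.ofId R (MvPolynomial (Fin n) R ⧸ relIdeal f) : R →+* _)
        (Ideal.Quotient.mk (relIdeal f) (X i)) (f i) =
        Polynomial.aeval (Ideal.Quotient.mkₐ R (relIdeal f) (X i)) (f i) := rfl
    rw [h1, Polynomial.aeval_algHom_apply]
    exact Ideal.Quotient.eq_zero_iff_mem.mpr (rel_mem f i))

lemma gen_root (i : Fin n) :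
    gen f i (AdjoinRoot.root (f i)) = Ideal.Quotient.mk (relIdeal f) (X i) := by
  rw [gen, AdjoinRoot.liftAlgHom_root]

/-- The multilinear map `x ↦ ∏ i, gen i (x i)`. -/
noncomputable def genMulti :
    MultilinearMap R (fun i => AdjoinRoot (f i)) (MvPolynomial (Fin n) R ⧸ relIdeal f) :=
  (MultilinearMap.mkPiAlgebra R (Fin n) (MvPolynomial (Fin n) R ⧸ relIdeal f)).compLinearMap
    fun i => (gen f i).toLinearMap

lemma genMulti_apply (x : Π i, AdjoinRoot (f i)) : genMulti f x = ∏ i, gen f i (x i) := by
  simp [genMulti]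

lemma genMulti_one : genMulti f 1 = 1 := by
  rw [genMulti_apply]
  simp

lemma genMulti_mul (x y : Π i, AdjoinRoot (f i)) :
    genMulti f (x * y) = genMulti f x * genMulti f y := by
  rw [genMulti_apply, genMulti_apply, genMulti_apply, ← Finset.prod_mul_distrib]
  simp

/-- The inverse comparison map. -/
noncomputable def ofTensor :
    (⨂[R] i, AdjoinRoot (f i)) →ₐ[R] (MvPolynomial (Fin n) R ⧸ relIdeal f) :=
  PiTensorProduct.liftAlgHom (genMulti f) (genMulti_one f) (genMulti_mul f)

lemma ofTensor_tprod (x : Π i, AdjoinRoot (f i)) :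
    ofTensor f (tprod R x) = ∏ i, gen f i (x i) := by
  rw [ofTensor, PiTensorProduct.liftAlgHom_apply, PiTensorProduct.lift.tprod, genMulti_apply]

lemma ofTensor_single (i : Fin n) (a : AdjoinRoot (f i)) :
    ofTensor f (singleAlgHom i a) = gen f i a := by
  rw [singleAlgHom_apply, ofTensor_tprod, Finset.prod_eq_single i]
  · simp
  · intro j _ hj
    simp [hj]
  · intro h
    exact absurd (Finset.mem_univ i) h

lemma ofTensor_comp_toTensor :
    (ofTensor f).comp (toTensor f) = AlgHom.id R _ := by
  apply Ideal.Quotient.algHom_ext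
  apply MvPolynomial.algHom_ext
  intro i
  simp only [AlgHom.comp_apply, Ideal.Quotient.mkₐ_eq_mk, AlgHom.id_apply]
  rw [toTensor_mk_X, ofTensor_single, gen_root]

lemma toTensor_comp_ofTensor :
    (toTensor f).comp (ofTensor f) = AlgHom.id R _ := by
  apply PiTensorProduct.algHom_ext
  intro i
  apply AdjoinRoot.algHom_ext
  simp only [AlgHom.comp_apply, AlgHom.id_apply]
  rw [ofTensor_single, gen_root, toTensor_mk_X]

/-- `R[u_1..u_n]/(f_i(u_i)) ≃ ⨂ R[u_i]/(f_i)`. -/
noncomputable def equivTensor :
    (MvPolynomial (Fin n) R ⧸ relIdeal f) ≃ₐ[R] ⨂[R] i, AdjoinRoot (f i) :=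
  AlgEquiv.ofAlgHom (toTensor f) (ofTensor f) (toTensor_comp_ofTensor f) (ofTensor_comp_toTensor f)

section Monic

variable (hf : ∀ i, (f i).Monic)

/-- The monomial basis of the tensor product. -/
noncomputable def basisTensor :
    Module.Basis (Π i, Fin (AdjoinRoot.powerBasis' (hf i)).dim) R (⨂[R] i, AdjoinRoot (f i)) :=
  Basis.piTensorProduct fun i => (AdjoinRoot.powerBasis' (hf i)).basis

/-- The monomial basis `u^e`, `e i < deg f i`. -/
noncomputable def basisQuot :
    Module.Basis (Π i, Fin (AdjoinRoot.powerBasis' (hf i)).dim) R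
      (MvPolynomial (Fin n) R ⧸ relIdeal f) :=
  (basisTensor f hf).map (equivTensor f).symm.toLinearEquiv

lemma basisQuot_apply (e : Π i, Fin (AdjoinRoot.powerBasis' (hf i)).dim) :
    basisQuot f hf e = ∏ i, Ideal.Quotient.mk (relIdeal f) (X i) ^ (e i : ℕ) := by
  rw [basisQuot, Module.Basis.map_apply, basisTensor, Basis.piTensorProduct_apply]
  change ofTensor f _ = _
  rw [ofTensor_tprod]
  refine Finset.prod_congr rfl fun i _ => ?_
  rw [PowerBasis.basis_eq_pow, map_pow, AdjoinRoot.powerBasis'_gen, gen_root]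

include hf in
theorem free : Module.Free R (MvPolynomial (Fin n) R ⧸ relIdeal f) :=
  Module.Free.of_basis (basisQuot f hf)

include hf in
theorem finite : Module.Finite R (MvPolynomial (Fin n) R ⧸ relIdeal f) :=
  Module.Finite.of_basis (basisQuot f hf)

include hf in
theorem finrank_eq [Nontrivial R] :
    Module.finrank R (MvPolynomial (Fin n) R ⧸ relIdeal f) = ∏ i, (f i).natDegree := by
  rw [Module.finrank_eq_card_basis (basisQuot f hf), Fintype.card_pi]
  refine Finset.prod_congr rfl fun i _ => ?_
  rw [Fintype.card_fin, AdjoinRoot.powerBasis'_dim]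

include hf in
theorem algebraMap_injective [Nontrivial (MvPolynomial (Fin n) R ⧸ relIdeal f)] :
    Function.Injective (algebraMap R (MvPolynomial (Fin n) R ⧸ relIdeal f)) := by
  have := free f hf
  exact FaithfulSMul.algebraMap_injective R _

end Monic

end Groth.Agent.R2.H73.ASFamily

namespace Groth.Agent.R2.H73.ASFamily

open IsLocalRing

section ASPoly

variable {R : Type u} [CommRing R]

/-- The Artin–Schreier type polynomial `T^p - c T - x`. -/
noncomputable def asPoly (p : ℕ) (c x : R) : Polynomial R :=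
  Polynomial.X ^ p - (Polynomial.C c * Polynomial.X + Polynomial.C x)

lemma asPoly_monic {p : ℕ} (hp : 2 ≤ p) (c x : R) : (asPoly p c x).Monic := by
  apply Polynomial.monic_X_pow_sub
  refine lt_of_le_of_lt Polynomial.degree_linear_le ?_
  exact_mod_cast hp

lemma asPoly_natDegree [Nontrivial R] {p : ℕ} (hp : 2 ≤ p) (c x : R) :
    (asPoly p c x).natDegree = p := by
  rw [asPoly, Polynomial.natDegree_sub_eq_left_of_natDegree_lt, Polynomial.natDegree_X_pow]
  rw [Polynomial.natDegree_X_pow]
  exact lt_of_le_of_lt Polynomial.natDegree_linear_le hp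

lemma aeval_asPoly {S : Type*} [CommRing S] [Algebra R S] (p : ℕ) (c x : R) (y : S) :
    Polynomial.aeval y (asPoly p c x) = y ^ p - algebraMap R S c * y - algebraMap R S x := by
  simp [asPoly]
  ring

end ASPoly

section Local

variable {R : Type u} [CommRing R] {n : ℕ} (p : ℕ) (c x : Fin n → R)

/-- The family of polynomials `T^p - c_i T - x_i`. -/
noncomputable def asFam : Fin n → Polynomial R := fun i => asPoly p (c i) (x i)

/-- The class of the variable `u_i`. -/
noncomputable def uu (i : Fin n) : MvPolynomial (Fin n) R ⧸ relIdeal (asFam p c x) :=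
  Ideal.Quotient.mk _ (X i)

lemma uu_rel (i : Fin n) :
    uu p c x i ^ p = algebraMap R _ (c i) * uu p c x i + algebraMap R _ (x i) := by
  have h1 : Polynomial.aeval (uu p c x i) (asFam p c x i) = 0 := by
    have h2 := Polynomial.aeval_algHom_apply (Ideal.Quotient.mkₐ R (relIdeal (asFam p c x)))
      (X i : MvPolynomial (Fin n) R) (asFam p c x i)
    have h3 : Ideal.Quotient.mkₐ R (relIdeal (asFam p c x))
        (Polynomial.aeval (X i : MvPolynomial (Fin n) R) (asFam p c x i)) = 0 :=
      Ideal.Quotient.eq_zero_iff_mem.mpr (rel_mem _ i)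
    rw [h3] at h2
    exact h2
  rw [asFam, aeval_asPoly] at h1
  linear_combination h1

lemma map_span_X_eq :
    Ideal.map (Ideal.Quotient.mk (relIdeal (asFam p c x)))
      (Ideal.span (Set.range (X : Fin n → MvPolynomial (Fin n) R))) =
      Ideal.span (Set.range (uu p c x)) := by
  rw [Ideal.map_span, ← Set.range_comp]
  rfl

variable [IsLocalRing R]

/-- The map `R[u] → k`, `u ↦ 0`. -/
noncomputable def phi : MvPolynomial (Fin n) R →+* ResidueField R :=
  (residue R).comp constantCoeff

lemma phi_surjective : Function.Surjective (phi (R := R) (n := n)) := by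
  intro y
  obtain ⟨r, rfl⟩ := residue_surjective y
  exact ⟨C r, by simp [phi]⟩

variable {p c x}

include p c x in
lemma ker_phi_eq (hp : 2 ≤ p) (hx : Ideal.span (Set.range x) = maximalIdeal R) :
    RingHom.ker (phi (R := R) (n := n)) =
      Ideal.span (Set.range (X : Fin n → MvPolynomial (Fin n) R)) ⊔ relIdeal (asFam p c x) := by
  have hCx : ∀ i, (C (x i) : MvPolynomial (Fin n) R) ∈
      Ideal.span (Set.range (X : Fin n → MvPolynomial (Fin n) R)) ⊔ relIdeal (asFam p c x) := by
    intro i
    have h1 : (C (x i) : MvPolynomial (Fin n) R) = X i ^ p - C (c i) * X i -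
        Polynomial.aeval (X i : MvPolynomial (Fin n) R) (asFam p c x i) := by
      rw [asFam, aeval_asPoly]
      simp only [algebraMap_eq]
      ring
    have hX : (X i : MvPolynomial (Fin n) R) ∈
        Ideal.span (Set.range (X : Fin n → MvPolynomial (Fin n) R)) := Ideal.subset_span ⟨i, rfl⟩
    rw [h1]
    refine sub_mem (Ideal.mem_sup_left (sub_mem ?_ (Ideal.mul_mem_left _ _ hX)))
      (Ideal.mem_sup_right (rel_mem _ i))
    exact Ideal.pow_mem_of_mem _ hX p (by omega)
  apply le_antisymm
  · intro g hg
    have h1 : constantCoeff g ∈ maximalIdeal R := by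
      rw [RingHom.mem_ker, phi, RingHom.comp_apply, residue_eq_zero_iff] at hg
      exact hg
    have h2 : g - C (constantCoeff g) ∈
        Ideal.span (Set.range (X : Fin n → MvPolynomial (Fin n) R)) := by
      rw [← Set.image_univ, mem_ideal_span_X_image]
      intro m hm
      by_contra hcon
      push Not at hcon
      have hm0 : m = 0 := by
        ext i
        simpa using hcon i (Set.mem_univ i)
      subst hm0
      rw [mem_support_iff] at hm
      apply hm
      simp [constantCoeff_eq]
    have h3 : (C (constantCoeff g) : MvPolynomial (Fin n) R) ∈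
        Ideal.span (Set.range (X : Fin n → MvPolynomial (Fin n) R)) ⊔
          relIdeal (asFam p c x) := by
      have h4 : Ideal.map (C : R →+* MvPolynomial (Fin n) R) (maximalIdeal R) ≤
          Ideal.span (Set.range (X : Fin n → MvPolynomial (Fin n) R)) ⊔
            relIdeal (asFam p c x) := by
        rw [← hx, Ideal.map_span, Ideal.span_le]
        rintro _ ⟨_, ⟨i, rfl⟩, rfl⟩
        exact hCx i
      exact h4 (Ideal.mem_map_of_mem _ h1)
    have h5 : g = (g - C (constantCoeff g)) + C (constantCoeff g) := by ring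
    rw [h5]
    exact add_mem (Ideal.mem_sup_left h2) h3
  · refine sup_le ?_ ?_
    · rw [Ideal.span_le]
      rintro _ ⟨i, rfl⟩
      simp [phi, RingHom.mem_ker]
    · rw [relIdeal, Ideal.span_le]
      rintro _ ⟨i, rfl⟩
      have hxi : x i ∈ maximalIdeal R := by
        rw [← hx]
        exact Ideal.subset_span ⟨i, rfl⟩
      rw [SetLike.mem_coe, RingHom.mem_ker]
      beta_reduce
      rw [asFam, aeval_asPoly]
      have hp0 : p ≠ 0 := by omega
      simp [phi, algebraMap_eq, hp0, residue_eq_zero_iff, hxi]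

end Local

end Groth.Agent.R2.H73.ASFamily
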