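import Groth.Agent.R2.H73ASFamily
import Groth.Agent.Lib.Helper5IntDim

/-!
# The Artin–Schreier family over a regular local ring is regular local (helper73)

`R` a Noetherian local ring whose maximal ideal is generated by `x_1..x_n` with `n = dim R`,
`c_i ∈ m_R`, `p ≥ 2`: then `Q = R[u]/(u_i^p - c_i u_i - x_i)` is a regular local ring of dimension `n`
with maximal ideal `(u_1..u_n)`.
-/

set_option autoImplicit false
universe u

open MvPolynomial IsLocalRing

namespace Groth.Agent.R2.H73.ASFamily

section Local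

variable {R : Type u} [CommRing R] [IsLocalRing R] {n : ℕ} {p : ℕ} {c x : Fin n → R}

omit [IsLocalRing R] in
lemma asFam_monic (hp : 2 ≤ p) (i : Fin n) : (asFam p c x i).Monic := asPoly_monic hp _ _

/-- `(u_1..u_n)` is a maximal ideal of `Q`. -/
theorem isMaximal_span_uu (hp : 2 ≤ p) (hx : Ideal.span (Set.range x) = maximalIdeal R) :
    (Ideal.span (Set.range (uu p c x))).IsMaximal := by
  have hker := ker_phi_eq (p := p) (c := c) (x := x) hp hx
  have hmax : (RingHom.ker (phi (R := R) (n := n))).IsMaximal :=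
    RingHom.ker_isMaximal_of_surjective _ phi_surjective
  have hsurj : Function.Surjective (Ideal.Quotient.mk (relIdeal (asFam p c x))) :=
    Ideal.Quotient.mk_surjective
  have hmap : Ideal.map (Ideal.Quotient.mk (relIdeal (asFam p c x)))
      (RingHom.ker (phi (R := R) (n := n))) = Ideal.span (Set.range (uu p c x)) := by
    rw [hker, Ideal.map_sup, Ideal.map_quotient_self, sup_bot_eq, map_span_X_eq]
  rw [← hmap]
  rcases Ideal.map_eq_top_or_isMaximal_of_surjective _ hsurj hmax with h | h
  · exfalso
    have h1 := congrArg (Ideal.comap (Ideal.Quotient.mk (relIdeal (asFam p c x)))) h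
    rw [Ideal.comap_map_of_surjective _ hsurj, Ideal.comap_top, ← RingHom.ker_eq_comap_bot,
      Ideal.mk_ker] at h1
    have h2 : relIdeal (asFam p c x) ≤ RingHom.ker (phi (R := R) (n := n)) := by
      rw [hker]
      exact le_sup_right
    rw [sup_eq_left.mpr h2] at h1
    exact hmax.ne_top h1
  · exact h

/-- Every maximal ideal of `Q` contains the `u_i`. -/
theorem span_uu_le_of_isMaximal (hp : 2 ≤ p) (hc : ∀ i, c i ∈ maximalIdeal R)
    (hx : Ideal.span (Set.range x) = maximalIdeal R)
    (N : Ideal (MvPolynomial (Fin n) R ⧸ relIdeal (asFam p c x))) [hN : N.IsMaximal] :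
    Ideal.span (Set.range (uu p c x)) ≤ N := by
  have hfin : Module.Finite R (MvPolynomial (Fin n) R ⧸ relIdeal (asFam p c x)) :=
    finite _ (asFam_monic hp)
  have hint : Algebra.IsIntegral R (MvPolynomial (Fin n) R ⧸ relIdeal (asFam p c x)) :=
    Algebra.IsIntegral.of_finite _ _
  have h1 : (N.comap (algebraMap R (MvPolynomial (Fin n) R ⧸ relIdeal (asFam p c x)))).IsMaximal :=
    Ideal.isMaximal_comap_of_isIntegral_of_isMaximal N
  have h2 := IsLocalRing.eq_maximalIdeal h1
  have h3 : ∀ r ∈ maximalIdeal R,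
      algebraMap R (MvPolynomial (Fin n) R ⧸ relIdeal (asFam p c x)) r ∈ N := by
    intro r hr
    rw [← h2] at hr
    exact hr
  rw [Ideal.span_le]
  rintro _ ⟨i, rfl⟩
  have hxi : x i ∈ maximalIdeal R := by
    rw [← hx]
    exact Ideal.subset_span ⟨i, rfl⟩
  have h4 : uu p c x i ^ p ∈ N := by
    rw [uu_rel]
    exact N.add_mem (N.mul_mem_right _ (h3 _ (hc i))) (h3 _ hxi)
  exact hN.isPrime.mem_of_pow_mem p h4

theorem isLocalRing (hp : 2 ≤ p) (hc : ∀ i, c i ∈ maximalIdeal R)
    (hx : Ideal.span (Set.range x) = maximalIdeal R) :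
    IsLocalRing (MvPolynomial (Fin n) R ⧸ relIdeal (asFam p c x)) := by
  have hM := isMaximal_span_uu (p := p) (c := c) hp hx
  apply IsLocalRing.of_unique_max_ideal
  refine ⟨_, hM, fun N hN => ?_⟩
  have := span_uu_le_of_isMaximal hp hc hx N
  exact (hM.eq_of_le hN.ne_top this).symm

variable [IsNoetherianRing R]

theorem isRegularLocalRing (hp : 2 ≤ p) (hc : ∀ i, c i ∈ maximalIdeal R)
    (hx : Ideal.span (Set.range x) = maximalIdeal R) (hdim : ringKrullDim R = n) :
    IsRegularLocalRing (MvPolynomial (Fin n) R ⧸ relIdeal (asFam p c x)) := by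
  classical
  have hloc := isLocalRing hp hc hx
  have hM := isMaximal_span_uu (p := p) (c := c) hp hx
  have hmax : maximalIdeal (MvPolynomial (Fin n) R ⧸ relIdeal (asFam p c x)) =
      Ideal.span (Set.range (uu p c x)) := (IsLocalRing.eq_maximalIdeal hM).symm
  have hfin : Module.Finite R (MvPolynomial (Fin n) R ⧸ relIdeal (asFam p c x)) :=
    finite _ (asFam_monic hp)
  have hint : Algebra.IsIntegral R (MvPolynomial (Fin n) R ⧸ relIdeal (asFam p c x)) :=
    Algebra.IsIntegral.of_finite _ _
  have hinj : Function.Injective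
      (algebraMap R (MvPolynomial (Fin n) R ⧸ relIdeal (asFam p c x))) :=
    algebraMap_injective _ (asFam_monic hp)
  have hdimle := Groth.Agent.Lib.Helper5.ringKrullDim_le_of_isIntegral_of_injective R
    (MvPolynomial (Fin n) R ⧸ relIdeal (asFam p c x)) hinj
  apply IsRegularLocalRing.of_spanFinrank_maximalIdeal_le
  refine le_trans ?_ (hdim ▸ hdimle)
  rw [hmax]
  have h1 : (Ideal.span (Set.range (uu p c x))).spanFinrank ≤ n := by
    refine (Submodule.spanFinrank_span_le_ncard_of_finite (Set.finite_range _)).trans ?_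
    have h5 : Set.range (uu p c x) = ↑(Finset.univ.image (uu p c x)) := by simp
    rw [h5, Set.ncard_coe_finset]
    exact Finset.card_image_le.trans (by simp)
  exact_mod_cast h1

end Local

end Groth.Agent.R2.H73.ASFamily
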