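import Groth.Agent.R2.H73ASFamily2
import Groth.Agent.Lib.Helper14ProjLim

/-!
# Adic completeness of the Artin–Schreier family (helper73)

* `isAdicComplete_of_linearEquiv`, `isAdicComplete_of_le_of_pow_le`: transfer lemmas.
* `isAdicComplete_of_finite_free`: a finite free module over an `I`-adically complete ring is
  `I`-adically complete.
* `isAdicComplete_span_uu`: the Artin–Schreier family over a complete Noetherian local ring `R` is
  complete for the ideal `(u_1..u_n)`.
-/

set_option autoImplicit false
universe u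

open MvPolynomial IsLocalRing

namespace Groth.Agent.R2.H73.ASFamily

section Transfer

variable {R : Type*} [CommRing R] (I : Ideal R) {M N : Type*} [AddCommGroup M] [Module R M]
  [AddCommGroup N] [Module R N]

theorem isAdicComplete_of_linearEquiv (e : M ≃ₗ[R] N) [IsAdicComplete I M] :
    IsAdicComplete I N := by
  rw [← AdicCompletion.of_bijective_iff]
  have : ⇑(AdicCompletion.of I N) =
      (AdicCompletion.congr I e) ∘ (AdicCompletion.of I M) ∘ e.symm := by
    ext x
    simp only [Function.comp_apply, AdicCompletion.congr_apply, AdicCompletion.map_of,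
      LinearEquiv.coe_coe, LinearEquiv.apply_symm_apply]
  rw [this]
  exact (AdicCompletion.congr I e).bijective.comp
    ((AdicCompletion.of_bijective I M).comp e.symm.bijective)

theorem isAdicComplete_of_finite_free [IsAdicComplete I R] [Module.Free R M] [Module.Finite R M] :
    IsAdicComplete I M := by
  classical
  let b := Module.Free.chooseBasis R M
  have : Fintype (Module.Free.ChooseBasisIndex R M) := Module.Free.ChooseBasisIndex.fintype R M
  let e : M ≃ₗ[R] (Fin (Fintype.card (Module.Free.ChooseBasisIndex R M)) → R) :=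
    (b.reindex (Fintype.equivFin _)).equivFun
  have := Groth.Agent.Lib.Helper14.ProjLim.isAdicComplete_pi I
    (Fintype.card (Module.Free.ChooseBasisIndex R M))
  exact isAdicComplete_of_linearEquiv I e.symm

/-- Two ideals defining the same adic topology have the same complete modules. -/
theorem isAdicComplete_of_le_of_pow_le {J K : Ideal R} (hJK : J ≤ K) {c : ℕ} (hc : K ^ c ≤ J)
    [IsAdicComplete J M] : IsAdicComplete K M := by
  have hc0 : c ≠ 0 ∨ Subsingleton M := by
    by_cases h : c = 0
    · right
      subst h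
      rw [pow_zero, Ideal.one_eq_top, top_le_iff] at hc
      subst hc
      exact IsAdicComplete.subsingleton (R := R) M inferInstance
    · exact Or.inl h
  rcases hc0 with hc0 | hsub
  swap
  · infer_instance
  have h1 : ∀ k : ℕ, (K ^ (c * k) • ⊤ : Submodule R M) ≤ J ^ k • ⊤ := by
    intro k
    rw [pow_mul]
    exact Submodule.smul_mono_left (Ideal.pow_right_mono hc k)
  have h2 : ∀ k : ℕ, (J ^ k • ⊤ : Submodule R M) ≤ K ^ k • ⊤ := fun k =>
    Submodule.smul_mono_left (Ideal.pow_right_mono hJK k)
  have h3 : ∀ k : ℕ, k ≤ c * k := fun k => Nat.le_mul_of_pos_left k (Nat.pos_of_ne_zero hc0)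
  refine { haus' := ?_, prec' := ?_ }
  · intro x hx
    apply IsHausdorff.haus (I := J) inferInstance
    intro k
    rw [SModEq.zero]
    have := hx (c * k)
    rw [SModEq.zero] at this
    exact h1 k this
  · intro f hf
    have hg : ∀ {m n : ℕ}, m ≤ n →
        f (c * m) ≡ f (c * n) [SMOD (J ^ m • ⊤ : Submodule R M)] := by
      intro m n hmn
      have := hf (Nat.mul_le_mul_left c hmn)
      rw [SModEq.sub_mem] at this ⊢
      exact h1 m this
    obtain ⟨L, hL⟩ := IsPrecomplete.prec (I := J) inferInstance hg
    refine ⟨L, fun k => ?_⟩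
    have h4 := hf (h3 k)
    have h5 := hL k
    rw [SModEq.sub_mem] at h4 h5 ⊢
    have h6 : f k - L = (f k - f (c * k)) + (f (c * k) - L) := by abel
    rw [h6]
    exact add_mem h4 (h2 k h5)

end Transfer

section Complete

variable {R : Type u} [CommRing R] [IsLocalRing R] [IsNoetherianRing R] {n : ℕ} {p : ℕ}
  {c x : Fin n → R}

theorem isAdicComplete_span_uu [IsAdicComplete (maximalIdeal R) R] (hp : 2 ≤ p)
    (hc : ∀ i, c i ∈ maximalIdeal R) (hx : Ideal.span (Set.range x) = maximalIdeal R) :
    IsAdicComplete (Ideal.span (Set.range (uu p c x)))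
      (MvPolynomial (Fin n) R ⧸ relIdeal (asFam p c x)) := by
  have hfin : Module.Finite R (MvPolynomial (Fin n) R ⧸ relIdeal (asFam p c x)) :=
    finite _ (asFam_monic hp)
  have hfree : Module.Free R (MvPolynomial (Fin n) R ⧸ relIdeal (asFam p c x)) :=
    free _ (asFam_monic hp)
  have h1 : IsAdicComplete (maximalIdeal R) (MvPolynomial (Fin n) R ⧸ relIdeal (asFam p c x)) :=
    isAdicComplete_of_finite_free _
  have h2 : IsAdicComplete ((maximalIdeal R).map
      (algebraMap R (MvPolynomial (Fin n) R ⧸ relIdeal (asFam p c x))))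
      (MvPolynomial (Fin n) R ⧸ relIdeal (asFam p c x)) :=
    { toIsHausdorff := IsHausdorff.map_algebraMap_iff.mpr h1.toIsHausdorff
      toIsPrecomplete := IsPrecomplete.map_algebraMap_iff.mpr h1.toIsPrecomplete }
  have hxi : ∀ i, x i ∈ maximalIdeal R := by
    intro i
    rw [← hx]
    exact Ideal.subset_span ⟨i, rfl⟩
  have hu : ∀ i, uu p c x i ∈ Ideal.span (Set.range (uu p c x)) := fun i =>
    Ideal.subset_span ⟨i, rfl⟩
  -- `m_R Q ≤ (u)`
  have hle : (maximalIdeal R).map
      (algebraMap R (MvPolynomial (Fin n) R ⧸ relIdeal (asFam p c x))) ≤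
      Ideal.span (Set.range (uu p c x)) := by
    rw [← hx, Ideal.map_span, Ideal.span_le]
    rintro _ ⟨_, ⟨i, rfl⟩, rfl⟩
    have h3 : algebraMap R (MvPolynomial (Fin n) R ⧸ relIdeal (asFam p c x)) (x i) =
        uu p c x i ^ p - algebraMap R _ (c i) * uu p c x i := by
      rw [uu_rel]
      ring
    rw [SetLike.mem_coe, h3]
    exact sub_mem (Ideal.pow_mem_of_mem _ (hu i) p (by omega)) (Ideal.mul_mem_left _ _ (hu i))
  -- `(u) ≤ rad (m_R Q)`
  have hrad : Ideal.span (Set.range (uu p c x)) ≤ ((maximalIdeal R).map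
      (algebraMap R (MvPolynomial (Fin n) R ⧸ relIdeal (asFam p c x)))).radical := by
    rw [Ideal.span_le]
    rintro _ ⟨i, rfl⟩
    refine ⟨p, ?_⟩
    rw [uu_rel]
    exact add_mem (Ideal.mul_mem_right _ _ (Ideal.mem_map_of_mem _ (hc i)))
      (Ideal.mem_map_of_mem _ (hxi i))
  obtain ⟨k, hk⟩ := Ideal.exists_pow_le_of_le_radical_of_fg_radical hrad
    (IsNoetherian.noetherian _)
  exact isAdicComplete_of_le_of_pow_le hle hk

end Complete

end Groth.Agent.R2.H73.ASFamily
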