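import Groth.Agent.R2.H73ASFamily

/-!
# Automorphisms of the Artin–Schreier family (helper73)

`R` a domain of characteristic `p`, `a_i ≠ 0`, `Q = R[u]/(u_i^p - a_i^(p-1) u_i - x_i)` assumed to be a
domain.  The `R`-algebra automorphisms of `Q` are exactly the substitutions `u_i ↦ u_i + t_i a_i`,
`t ∈ (ℤ/p)^n`, and the elements fixed by all of them are those of `R`.
-/

set_option autoImplicit false
universe u

open MvPolynomial

namespace Groth.Agent.R2.H73.ASFamily

section Aut

variable {R : Type u} [CommRing R] {n : ℕ} (p : ℕ) [hp : Fact p.Prime] [CharP R p]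
  (a x : Fin n → R)

/-- The Artin–Schreier family `R[u]/(u_i^p - a_i^(p-1) u_i - x_i)`. -/
abbrev ASQuot : Type u :=
  MvPolynomial (Fin n) R ⧸ relIdeal (asFam p (fun i => a i ^ (p - 1)) x)

/-- The class of `u_i`. -/
noncomputable abbrev uq (i : Fin n) : ASQuot p a x := uu p (fun i => a i ^ (p - 1)) x i

/-- The prime field inside `R`. -/
noncomputable abbrev tau : ZMod p →+* R := ZMod.castHom (dvd_refl p) R

lemma tau_pow (s : ZMod p) : tau (R := R) p s ^ p = tau p s := by
  rw [← map_pow, ZMod.pow_card]

lemma two_le_p : 2 ≤ p := hp.out.two_le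

omit hp [CharP R p] in
lemma uq_rel (i : Fin n) :
    uq p a x i ^ p = algebraMap R _ (a i ^ (p - 1)) * uq p a x i + algebraMap R _ (x i) :=
  uu_rel p (fun i => a i ^ (p - 1)) x i

/-- If `v` is a root of the `i`-th equation, so is `v + s a_i`. -/
lemma shift_rel {S : Type*} [CommRing S] [Algebra R S] (i : Fin n) (v : S)
    (hv : v ^ p = algebraMap R S (a i ^ (p - 1)) * v + algebraMap R S (x i)) (s : ZMod p) :
    (v + algebraMap R S (tau p s * a i)) ^ p =
      algebraMap R S (a i ^ (p - 1)) * (v + algebraMap R S (tau p s * a i)) +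
        algebraMap R S (x i) := by
  have hS : CharP S p ∨ Subsingleton S := by
    by_cases h : Subsingleton S
    · exact Or.inr h
    · left
      rw [not_subsingleton_iff_nontrivial] at h
      have h1 : ((p : ℕ) : S) = 0 := by
        rw [← map_natCast (algebraMap R S), CharP.cast_eq_zero, map_zero]
      exact (CharP.charP_iff_prime_eq_zero hp.out).mpr h1
  rcases hS with hS | hS
  swap
  · exact Subsingleton.elim _ _
  have h1 : a i ^ (p - 1) * (tau p s * a i) = (tau p s * a i) ^ p := by
    rw [mul_pow, tau_pow]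
    have : a i ^ p = a i ^ (p - 1) * a i := by
      rw [← pow_succ]
      congr 1
      have := two_le_p p
      omega
    rw [this]
    ring
  rw [add_pow_char, hv, mul_add, ← map_pow, ← h1, map_mul]
  ring

/-- The substitution `u_i ↦ u_i + t_i a_i` on polynomials. -/
noncomputable def shiftAux (t : Fin n → ZMod p) : MvPolynomial (Fin n) R →ₐ[R] ASQuot p a x :=
  aeval fun i => uq p a x i + algebraMap R (ASQuot p a x) (tau p (t i) * a i)

lemma shiftAux_rel (t : Fin n → ZMod p) (i : Fin n) :
    shiftAux p a x t (Polynomial.aeval (X i : MvPolynomial (Fin n) R)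
      (asFam p (fun i => a i ^ (p - 1)) x i)) = 0 := by
  rw [← Polynomial.aeval_algHom_apply, shiftAux, aeval_X, asFam, aeval_asPoly,
    shift_rel p a x i _ (uq_rel p a x i)]
  ring

/-- The substitution `u_i ↦ u_i + t_i a_i`. -/
noncomputable def shiftHom (t : Fin n → ZMod p) : ASQuot p a x →ₐ[R] ASQuot p a x :=
  Ideal.Quotient.liftₐ _ (shiftAux p a x t) (by
    have h : relIdeal (asFam p (fun i => a i ^ (p - 1)) x) ≤
        RingHom.ker (shiftAux p a x t).toRingHom := by
      refine Ideal.span_le.mpr ?_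
      rintro _ ⟨i, rfl⟩
      exact shiftAux_rel p a x t i
    exact fun b hb => h hb)

lemma shiftHom_uq (t : Fin n → ZMod p) (i : Fin n) :
    shiftHom p a x t (uq p a x i) =
      uq p a x i + algebraMap R (ASQuot p a x) (tau p (t i) * a i) := by
  rw [shiftHom, uq, uu]
  erw [Ideal.Quotient.liftₐ_apply, Ideal.Quotient.lift_mk]
  change shiftAux p a x t (X i) = _
  rw [shiftAux, aeval_X]
  rfl

omit hp [CharP R p] in
lemma algHom_ext_uq {S : Type*} [Semiring S] [Algebra R S] {φ ψ : ASQuot p a x →ₐ[R] S}
    (h : ∀ i, φ (uq p a x i) = ψ (uq p a x i)) : φ = ψ := by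
  apply Ideal.Quotient.algHom_ext
  apply MvPolynomial.algHom_ext
  intro i
  exact h i

lemma shiftHom_comp (t s : Fin n → ZMod p) :
    (shiftHom p a x t).comp (shiftHom p a x s) = shiftHom p a x (t + s) := by
  apply algHom_ext_uq
  intro i
  rw [AlgHom.comp_apply, shiftHom_uq, map_add, AlgHom.commutes, shiftHom_uq, shiftHom_uq,
    Pi.add_apply, map_add, add_mul, map_add]
  ring

lemma shiftHom_zero : shiftHom p a x 0 = AlgHom.id R _ := by
  apply algHom_ext_uq
  intro i
  rw [shiftHom_uq, Pi.zero_apply, map_zero, zero_mul, map_zero, add_zero, AlgHom.id_apply]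

/-- The automorphism `u_i ↦ u_i + t_i a_i`. -/
noncomputable def shiftEquiv (t : Fin n → ZMod p) : ASQuot p a x ≃ₐ[R] ASQuot p a x :=
  AlgEquiv.ofAlgHom (shiftHom p a x t) (shiftHom p a x (-t))
    (by rw [shiftHom_comp, add_neg_cancel, shiftHom_zero])
    (by rw [shiftHom_comp, neg_add_cancel, shiftHom_zero])

lemma shiftEquiv_apply (t : Fin n → ZMod p) (q : ASQuot p a x) :
    shiftEquiv p a x t q = shiftHom p a x t q := rfl

lemma shiftEquiv_mul (t s : Fin n → ZMod p) :
    shiftEquiv p a x t * shiftEquiv p a x s = shiftEquiv p a x (t + s) := by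
  ext q
  rw [AlgEquiv.mul_apply, shiftEquiv_apply, shiftEquiv_apply, shiftEquiv_apply, ← shiftHom_comp,
    AlgHom.comp_apply]

lemma shiftEquiv_zero : shiftEquiv p a x 0 = 1 := by
  ext q
  rw [shiftEquiv_apply, shiftHom_zero]
  rfl

lemma shiftEquiv_pow (t : Fin n → ZMod p) (m : ℕ) :
    shiftEquiv p a x t ^ m = shiftEquiv p a x (m • t) := by
  induction m with
  | zero => rw [pow_zero, zero_smul, shiftEquiv_zero]
  | succ m ih => rw [pow_succ, ih, shiftEquiv_mul, succ_nsmul]

lemma shiftEquiv_pow_p (t : Fin n → ZMod p) : shiftEquiv p a x t ^ p = 1 := by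
  rw [shiftEquiv_pow, ← shiftEquiv_zero]
  congr 1
  funext i
  rw [Pi.smul_apply, Pi.zero_apply, nsmul_eq_mul, CharP.cast_eq_zero, zero_mul]

end Aut

section Domain

variable {R : Type u} [CommRing R] [IsDomain R] {n : ℕ} (p : ℕ) [hp : Fact p.Prime] [CharP R p]
  (a x : Fin n → R)

omit hp in
lemma eval_asPoly {S : Type*} [CommRing S] (c z y : S) :
    Polynomial.eval y (asPoly p c z) = y ^ p - c * y - z := by
  simp [asPoly]
  ring

/-- Roots of `T^p - α^(p-1) T` in a domain over `R`. -/
lemma exists_eq_of_pow_eq {Q : Type*} [CommRing Q] [IsDomain Q] [Algebra R Q]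
    (hinj : Function.Injective (algebraMap R Q)) (α : R) (hα : α ≠ 0) (w : Q)
    (hw : w ^ p = algebraMap R Q (α ^ (p - 1)) * w) :
    ∃ s : ZMod p, w = algebraMap R Q (tau p s * α) := by
  by_contra hcon
  push Not at hcon
  have hp2 := two_le_p p
  have hQ : CharP Q p := charP_of_injective_algebraMap hinj p
  let F : Polynomial Q := asPoly p (algebraMap R Q (α ^ (p - 1))) 0
  let f : Option (ZMod p) → Q := fun o => o.elim w (fun s => algebraMap R Q (tau p s * α))
  have hβ : ∀ s s' : ZMod p, algebraMap R Q (tau p s * α) = algebraMap R Q (tau p s' * α) →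
      s = s' := by
    intro s s' h
    have h1 := mul_right_cancel₀ hα (hinj h)
    exact (tau (R := R) p).injective h1
  have hf : Function.Injective f := by
    rintro (_ | s) (_ | s') h
    · rfl
    · exact absurd h (hcon s')
    · exact absurd h.symm (hcon s)
    · exact congrArg _ (hβ s s' h)
  have hroot : ∀ o, Polynomial.eval (f o) F = 0 := by
    rintro (_ | s)
    · show Polynomial.eval w F = 0
      rw [eval_asPoly, hw]
      ring
    · show Polynomial.eval (algebraMap R Q (tau p s * α)) F = 0
      rw [eval_asPoly, ← map_pow, ← map_mul, mul_pow, tau_pow]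
      have : α ^ p = α ^ (p - 1) * α := by
        rw [← pow_succ]
        congr 1
        omega
      rw [this, sub_zero, sub_eq_zero]
      congr 1
      ring
  have hdeg : F.natDegree < Fintype.card (Option (ZMod p)) := by
    rw [asPoly_natDegree hp2, Fintype.card_option, ZMod.card]
    omega
  have hF0 := Polynomial.eq_zero_of_natDegree_lt_card_of_eval_eq_zero F hf hroot hdeg
  exact (asPoly_monic hp2 _ _).ne_zero hF0

variable [IsDomain (ASQuot p a x)]

omit [IsDomain R] [CharP R p] in
include hp in
lemma algebraMap_injective_ASQuot : Function.Injective (algebraMap R (ASQuot p a x)) :=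
  algebraMap_injective _ (fun i => (asPoly_monic (two_le_p p) _ _ : (asFam p (fun i => a i ^ (p - 1)) x i).Monic))

lemma shiftEquiv_injective (ha : ∀ i, a i ≠ 0) : Function.Injective (shiftEquiv p a x) := by
  intro t s h
  funext i
  have h1 := congrArg (fun σ : ASQuot p a x ≃ₐ[R] ASQuot p a x => σ (uq p a x i)) h
  simp only [shiftEquiv_apply, shiftHom_uq] at h1
  have h2 := algebraMap_injective_ASQuot p a x (add_left_cancel h1)
  exact (tau (R := R) p).injective (mul_right_cancel₀ (ha i) h2)

lemma shiftEquiv_surjective (ha : ∀ i, a i ≠ 0) : Function.Surjective (shiftEquiv p a x) := by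
  intro σ
  have hinj := algebraMap_injective_ASQuot p a x
  have hQ : CharP (ASQuot p a x) p := charP_of_injective_algebraMap hinj p
  have h1 : ∀ i, ∃ s : ZMod p, σ (uq p a x i) - uq p a x i =
      algebraMap R (ASQuot p a x) (tau p s * a i) := by
    intro i
    apply exists_eq_of_pow_eq p hinj (a i) (ha i)
    have h2 := congrArg σ (uq_rel p a x i)
    rw [map_pow, map_add, map_mul, AlgEquiv.commutes, AlgEquiv.commutes] at h2
    rw [sub_pow_char, h2, uq_rel]
    ring
  choose t ht using h1
  refine ⟨t, ?_⟩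
  apply AlgEquiv.coe_toAlgHom_injective
  apply algHom_ext_uq
  intro i
  show shiftHom p a x t (uq p a x i) = σ (uq p a x i)
  rw [shiftHom_uq, ← ht i]
  ring

section Fixed

omit [IsDomain (ASQuot p a x)] [IsDomain R] [CharP R p] in
include hp in
lemma asFamMonic (i : Fin n) : (asFam p (fun i => a i ^ (p - 1)) x i).Monic :=
  asPoly_monic (two_le_p p) _ _

/-- The index type of the monomial basis. -/
abbrev EIdx : Type := ∀ i : Fin n, Fin (AdjoinRoot.powerBasis' (asFamMonic p a x i)).dim

/-- The monomial basis of the Artin–Schreier family. -/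
noncomputable abbrev BQ : Module.Basis (EIdx p a x) R (ASQuot p a x) :=
  basisQuot (asFam p (fun i => a i ^ (p - 1)) x) (asFamMonic p a x)

omit [IsDomain (ASQuot p a x)] [CharP R p] in
lemma dim_eq (i : Fin n) : (AdjoinRoot.powerBasis' (asFamMonic p a x i)).dim = p := by
  rw [AdjoinRoot.powerBasis'_dim]
  exact asPoly_natDegree (two_le_p p) _ _

omit [IsDomain (ASQuot p a x)] [CharP R p] in
lemma BQ_index_lt (e : EIdx p a x) (i : Fin n) : ((e i : Fin _) : ℕ) < p :=
  lt_of_lt_of_eq (e i).isLt (dim_eq p a x i)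

omit [IsDomain (ASQuot p a x)] [CharP R p] [IsDomain R] in
lemma BQ_apply (e : EIdx p a x) : BQ p a x e = ∏ i, uq p a x i ^ ((e i : Fin _) : ℕ) :=
  basisQuot_apply _ _ e

omit [IsDomain (ASQuot p a x)] [IsDomain R] in
lemma shiftHom_single_of_ne (j : Fin n) (s : ZMod p) (i : Fin n) (hij : i ≠ j) :
    shiftHom p a x (Pi.single j s) (uq p a x i) = uq p a x i := by
  rw [shiftHom_uq, Pi.single_eq_of_ne hij, map_zero, zero_mul, map_zero, add_zero]

omit [IsDomain (ASQuot p a x)] [IsDomain R] in
lemma shiftHom_single_self (j : Fin n) (s : ZMod p) :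
    shiftHom p a x (Pi.single j s) (uq p a x j) =
      uq p a x j + algebraMap R (ASQuot p a x) (tau p s * a j) := by
  rw [shiftHom_uq, Pi.single_eq_same]

omit [IsDomain (ASQuot p a x)] [CharP R p] [IsDomain R] hp in
lemma smul_eq_mul (c : R) (z : ASQuot p a x) : c • z = algebraMap R (ASQuot p a x) c * z :=
  Algebra.smul_def c z

/-- The part of a monomial not involving `u_j`. -/
noncomputable def Wpart (j : Fin n) (e : EIdx p a x) : ASQuot p a x :=
  ∏ i ∈ Finset.univ.erase j, uq p a x i ^ ((e i : Fin _) : ℕ)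

omit [IsDomain (ASQuot p a x)] [CharP R p] [IsDomain R] in
lemma BQ_eq_Wpart_mul (j : Fin n) (e : EIdx p a x) :
    BQ p a x e = Wpart p a x j e * uq p a x j ^ ((e j : Fin _) : ℕ) := by
  rw [BQ_apply, Wpart]
  exact (Finset.prod_erase_mul Finset.univ (fun i => uq p a x i ^ ((e i : Fin _) : ℕ))
    (Finset.mem_univ j)).symm

omit [IsDomain (ASQuot p a x)] [IsDomain R] in
lemma shiftHom_Wpart (j : Fin n) (s : ZMod p) (e : EIdx p a x) :
    shiftHom p a x (Pi.single j s) (Wpart p a x j e) = Wpart p a x j e := by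
  rw [Wpart, map_prod]
  refine Finset.prod_congr rfl fun i hi => ?_
  rw [map_pow, shiftHom_single_of_ne p a x j s i (Finset.ne_of_mem_erase hi)]

/-- If `b` is fixed by the substitutions `u_j ↦ u_j + s a_j`, its coordinates involving `u_j`
vanish. -/
lemma repr_eq_zero_of_fixed (ha : ∀ i, a i ≠ 0) (j : Fin n) (b : ASQuot p a x)
    (hb : ∀ s : ZMod p, shiftHom p a x (Pi.single j s) b = b) (e0 : EIdx p a x)
    (he0 : ((e0 j : Fin _) : ℕ) ≠ 0) :
    (BQ p a x).repr b e0 = 0 := by
  classical
  have hinj := algebraMap_injective_ASQuot p a x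
  set r : EIdx p a x → R := fun e => (BQ p a x).repr b e with hr
  have hsum : b = ∑ e : EIdx p a x, algebraMap R (ASQuot p a x) (r e) * Wpart p a x j e *
      uq p a x j ^ ((e j : Fin _) : ℕ) := by
    conv_lhs => rw [← (BQ p a x).sum_repr b]
    refine Finset.sum_congr rfl fun e _ => ?_
    rw [BQ_eq_Wpart_mul p a x j, smul_eq_mul, mul_assoc]
  -- the polynomial `G`
  set G : Polynomial (ASQuot p a x) :=
    ∑ e : EIdx p a x, Polynomial.C (algebraMap R (ASQuot p a x) (r e) * Wpart p a x j e) *
      Polynomial.X ^ ((e j : Fin _) : ℕ) with hG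
  have hGeval : ∀ s : ZMod p,
      Polynomial.eval (uq p a x j + algebraMap R (ASQuot p a x) (tau p s * a j)) G = b := by
    intro s
    conv_rhs => rw [← hb s, hsum]
    rw [hG, Polynomial.eval_finsetSum, map_sum]
    refine Finset.sum_congr rfl fun e _ => ?_
    have h1 : shiftHom p a x (Pi.single j s) (algebraMap R (ASQuot p a x) (r e) *
        Wpart p a x j e * uq p a x j ^ ((e j : Fin _) : ℕ)) =
        algebraMap R (ASQuot p a x) (r e) * Wpart p a x j e *
          (uq p a x j + algebraMap R (ASQuot p a x) (tau p s * a j)) ^ ((e j : Fin _) : ℕ) := by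
      rw [map_mul, map_mul, AlgHom.commutes, shiftHom_Wpart, map_pow, shiftHom_single_self]
    rw [h1, Polynomial.eval_mul, Polynomial.eval_C, Polynomial.eval_pow, Polynomial.eval_X]
  have hGdeg : G.natDegree ≤ p - 1 := by
    rw [hG]
    refine Polynomial.natDegree_sum_le_of_forall_le _ _ fun e _ => ?_
    refine (Polynomial.natDegree_C_mul_X_pow_le _ _).trans ?_
    have := BQ_index_lt p a x e j
    omega
  have hp2 := two_le_p p
  have hzero : G - Polynomial.C b = 0 := by
    apply Polynomial.eq_zero_of_natDegree_lt_card_of_eval_eq_zero (G - Polynomial.C b)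
      (f := fun s : ZMod p => uq p a x j + algebraMap R (ASQuot p a x) (tau p s * a j))
    · intro s s' h
      have h1 := mul_right_cancel₀ (ha j) (hinj (add_left_cancel h))
      exact (tau (R := R) p).injective h1
    · intro s
      rw [Polynomial.eval_sub, Polynomial.eval_C, hGeval, sub_self]
    · rw [ZMod.card]
      refine lt_of_le_of_lt (Polynomial.natDegree_sub_le _ _) ?_
      rw [Polynomial.natDegree_C, max_eq_left (Nat.zero_le _)]
      omega
  -- extract the coefficient of `X^l`
  set l : ℕ := ((e0 j : Fin _) : ℕ) with hl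
  have hcoeff : ∑ e : EIdx p a x, (if l = ((e j : Fin _) : ℕ) then
      algebraMap R (ASQuot p a x) (r e) * Wpart p a x j e else 0) = 0 := by
    have h1 := congrArg (fun F => Polynomial.coeff F l) hzero
    simp only [Polynomial.coeff_sub, Polynomial.coeff_zero, Polynomial.coeff_C, he0, if_false,
      sub_zero] at h1
    rw [hG, Polynomial.finsetSum_coeff] at h1
    simpa only [Polynomial.coeff_C_mul_X_pow] using h1
  have hlin : ∑ e : EIdx p a x, (if l = ((e j : Fin _) : ℕ) then r e else 0) • BQ p a x e = 0 := by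
    have h2 := congrArg (fun z => z * uq p a x j ^ l) hcoeff
    simp only [Finset.sum_mul, zero_mul] at h2
    rw [← h2]
    refine Finset.sum_congr rfl fun e _ => ?_
    by_cases hle : l = ((e j : Fin _) : ℕ)
    · rw [if_pos hle, if_pos hle, BQ_eq_Wpart_mul p a x j, smul_eq_mul, ← hle, mul_assoc]
    · rw [if_neg hle, if_neg hle, zero_smul, zero_mul]
  have h3 := Fintype.linearIndependent_iff.mp (BQ p a x).linearIndependent _ hlin e0
  rw [if_pos hl] at h3
  exact h3

/-- An element fixed by all substitutions `u ↦ u + t a` comes from `R`. -/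
theorem mem_range_of_fixed (ha : ∀ i, a i ≠ 0) (b : ASQuot p a x)
    (hb : ∀ t : Fin n → ZMod p, shiftHom p a x t b = b) :
    b ∈ Set.range (algebraMap R (ASQuot p a x)) := by
  classical
  have hp2 := two_le_p p
  let e₀ : EIdx p a x := fun i => ⟨0, by rw [dim_eq]; omega⟩
  have hvanish : ∀ e : EIdx p a x, e ≠ e₀ → (BQ p a x).repr b e = 0 := by
    intro e he
    obtain ⟨j, hj⟩ := Function.ne_iff.mp he
    apply repr_eq_zero_of_fixed p a x ha j b (fun s => hb _)
    intro h0
    apply hj
    exact Fin.ext h0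
  refine ⟨(BQ p a x).repr b e₀, ?_⟩
  conv_rhs => rw [← (BQ p a x).sum_repr b]
  rw [Finset.sum_eq_single e₀]
  · rw [BQ_apply, Algebra.algebraMap_eq_smul_one]
    congr 1
    symm
    apply Finset.prod_eq_one
    intro i _
    exact pow_zero _
  · intro e _ he
    rw [hvanish e he, zero_smul]
  · intro h
    exact absurd (Finset.mem_univ _) h

end Fixed

end Domain

end Groth.Agent.R2.H73.ASFamily
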