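/-
helper73: length over a local ring `A` vs. length over a subring `R` with the same residue field;
length of `A/IA` for `A` finite free over `R`.  Used for S19998.
-/
import Mathlib

set_option autoImplicit false
universe u v w

namespace Groth.Agent.R2.H73.LenLocal

section Simple

variable {R : Type u} {A : Type v} [CommRing R] [CommRing A] [Algebra R A] [IsLocalRing A]
  (hres : Function.Surjective (IsLocalRing.residue A ∘ algebraMap R A))

include hres in
/-- A simple `A`-module is simple over `R` when `R` surjects onto the residue field of `A`. -/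
theorem isSimpleModule_restrict (S : Type w) [AddCommGroup S] [Module A S] [Module R S]
    [IsScalarTower R A S] [IsSimpleModule A S] : IsSimpleModule R S := by
  have hnt : Nontrivial S := IsSimpleModule.nontrivial A S
  have hann : Module.annihilator A S = IsLocalRing.maximalIdeal A :=
    IsLocalRing.eq_maximalIdeal (IsSimpleModule.annihilator_isMaximal (R := A) (M := S))
  rw [isSimpleModule_iff]
  refine { exists_pair_ne := ⟨⊥, ⊤, bot_ne_top⟩, eq_bot_or_eq_top := ?_ }
  intro W
  by_cases hW : W = ⊥
  · exact Or.inl hW
  right
  obtain ⟨w, hwW, hw0⟩ := (Submodule.ne_bot_iff W).mp hW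
  rw [eq_top_iff]
  intro s _
  obtain ⟨a', ha'⟩ := IsSimpleModule.toSpanSingleton_surjective A hw0 s
  rw [LinearMap.toSpanSingleton_apply] at ha'
  obtain ⟨r, hr⟩ := hres (IsLocalRing.residue A a')
  have hm : a' - algebraMap R A r ∈ IsLocalRing.maximalIdeal A := by
    rw [← Ideal.Quotient.eq]
    exact hr.symm
  rw [← hann, Module.mem_annihilator] at hm
  have h1 := hm w
  rw [sub_smul, sub_eq_zero, algebraMap_smul] at h1
  rw [← ha', h1]
  exact W.smul_mem r hwW

end Simple

section Length

variable {R : Type u} {A : Type v} [CommRing R] [CommRing A] [Algebra R A] [IsLocalRing A]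
  (hres : Function.Surjective (IsLocalRing.residue A ∘ algebraMap R A))

include hres in
lemma length_restrict_aux (n : ℕ) : ∀ (M : Type w) [AddCommGroup M] [Module A M] [Module R M]
    [IsScalarTower R A M], Module.length A M = n → Module.length R M = n := by
  induction n with
  | zero =>
    intro M _ _ _ _ h
    rw [Nat.cast_zero, Module.length_eq_zero_iff] at h
    rw [Nat.cast_zero, Module.length_eq_zero_iff]
    exact h
  | succ n ih =>
    intro M _ _ _ _ h
    have hfin : IsFiniteLength A M := by
      rw [← Module.length_ne_top_iff, h]
      exact ENat.natCast_ne_top _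
    obtain ⟨hnoeth, -⟩ := isFiniteLength_iff_isNoetherian_isArtinian.mp hfin
    have hnt : Nontrivial M := by
      rw [← Module.length_pos_iff (R := A), h]
      exact_mod_cast Nat.succ_pos n
    have hco : IsCoatomic (Submodule A M) :=
      isCoatomic_of_orderTop_gt_wellFounded (wellFounded_gt (α := Submodule A M))
    obtain ⟨N, hN, -⟩ := (eq_top_or_exists_le_coatom (⊥ : Submodule A M)).resolve_left bot_ne_top
    have hsimple : IsSimpleModule A (M ⧸ N) := isSimpleModule_iff_isCoatom.mpr hN
    have hsimpleR : IsSimpleModule R (M ⧸ N) := isSimpleModule_restrict hres (M ⧸ N)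
    have hA := Module.length_eq_add_of_exact N.subtype N.mkQ (Submodule.injective_subtype N)
      (Submodule.mkQ_surjective N) (LinearMap.exact_subtype_mkQ N)
    have hR := Module.length_eq_add_of_exact (N.subtype.restrictScalars R)
      (N.mkQ.restrictScalars R) (Submodule.injective_subtype N)
      (Submodule.mkQ_surjective N) (LinearMap.exact_subtype_mkQ N)
    rw [Module.length_eq_one A (M ⧸ N)] at hA
    rw [Module.length_eq_one R (M ⧸ N)] at hR
    rw [h] at hA
    have hN' : Module.length A N = n := by
      have h2 : ((n : ℕ∞) + 1) = Module.length A N + 1 := by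
        rw [← hA]
        push_cast
        rfl
      exact (ENat.add_left_injective_of_ne_top ENat.one_ne_top h2).symm
    rw [hR, ih N hN']
    push_cast
    rfl

include hres in
/-- Lengths over `A` and over `R` agree when `A` is local and `R` surjects onto its residue
field. -/
theorem length_restrict (M : Type w) [AddCommGroup M] [Module A M] [Module R M]
    [IsScalarTower R A M] : Module.length R M = Module.length A M := by
  have hle : Module.length A M ≤ Module.length R M := by
    have h1 := Submodule.length_le_length_restrictScalars R (⊤ : Submodule A M)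
    have h2 : Module.length A (⊤ : Submodule A M) = Module.length A M :=
      (Submodule.topEquiv (R := A) (M := M)).length_eq
    have h3 : Module.length R ((⊤ : Submodule A M).restrictScalars R) = Module.length R M := by
      have e : ((⊤ : Submodule A M).restrictScalars R) ≃ₗ[R] M :=
        (LinearEquiv.ofEq _ _ (Submodule.restrictScalars_top R A M)).trans Submodule.topEquiv
      exact e.length_eq
    rwa [h2, h3] at h1
  by_cases htop : Module.length A M = ⊤
  · rw [htop] at hle ⊢
    exact top_le_iff.mp hle
  · obtain ⟨n, hn⟩ := ENat.ne_top_iff_exists.mp htop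
    rw [← hn]
    exact length_restrict_aux hres n M hn.symm

end Length

section Free

variable {R : Type u} {A : Type v} [CommRing R] [CommRing A] [Algebra R A]

/-- Membership in `IA` can be tested on coordinates with respect to an `R`-basis of `A`. -/
theorem mem_map_iff_repr_mem {ι : Type w} (b : Module.Basis ι R A) (I : Ideal R) (z : A) :
    z ∈ I.map (algebraMap R A) ↔ ∀ i, b.repr z i ∈ I := by
  constructor
  · intro hz
    have hz' : z ∈ (I • (⊤ : Submodule R A)) := by
      rw [Ideal.smul_top_eq_map]
      exact hz
    refine Submodule.smul_induction_on (p := fun z => ∀ i, b.repr z i ∈ I) hz' ?_ ?_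
    · intro r hr y _ i
      rw [map_smul, Finsupp.smul_apply, smul_eq_mul]
      exact I.mul_mem_right _ hr
    · intro y y' hy hy' i
      rw [map_add, Finsupp.add_apply]
      exact I.add_mem (hy i) (hy' i)
  · intro h
    rw [← b.linearCombination_repr z, Finsupp.linearCombination_apply]
    apply Ideal.sum_mem
    intro i _
    change (b.repr z i) • b i ∈ _
    rw [Algebra.smul_def]
    exact Ideal.mul_mem_right _ _ (Ideal.mem_map_of_mem _ (h i))

/-- `length_R (A/IA) = rank · length_R (R/I)` for `A` finite free over `R`. -/
theorem length_quotient_map {ι : Type w} [Fintype ι] (b : Module.Basis ι R A) (I : Ideal R) :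
    Module.length R (A ⧸ I.map (algebraMap R A)) =
      (Fintype.card ι : ℕ∞) * Module.length R (R ⧸ I) := by
  classical
  let Φ : A →ₗ[R] (ι → R ⧸ I) := ((Submodule.mkQ I).compLeft ι) ∘ₗ b.equivFun.toLinearMap
  have hΦ : Function.Surjective Φ := by
    intro y
    have h1 : Function.Surjective ((Submodule.mkQ I).compLeft ι) :=
      Function.Surjective.comp_left (Submodule.mkQ_surjective I)
    obtain ⟨v, hv⟩ := h1 y
    obtain ⟨z, hz⟩ := b.equivFun.surjective v
    exact ⟨z, by rw [← hv, ← hz]; rfl⟩
  have hker : LinearMap.ker Φ = (I.map (algebraMap R A)).restrictScalars R := by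
    ext z
    rw [LinearMap.mem_ker, Submodule.restrictScalars_mem, mem_map_iff_repr_mem b]
    constructor
    · intro h i
      have h1 := congrFun h i
      change Submodule.mkQ I (b.repr z i) = 0 at h1
      rwa [Submodule.mkQ_apply, Submodule.Quotient.mk_eq_zero] at h1
    · intro h
      funext i
      change Submodule.mkQ I (b.repr z i) = 0
      rw [Submodule.mkQ_apply, Submodule.Quotient.mk_eq_zero]
      exact h i
  have e : (A ⧸ I.map (algebraMap R A)) ≃ₗ[R] (ι → R ⧸ I) :=
    ((Submodule.Quotient.restrictScalarsEquiv R (I.map (algebraMap R A))).symm.trans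
      (Submodule.quotEquivOfEq _ _ hker.symm)).trans (LinearMap.quotKerEquivOfSurjective Φ hΦ)
  rw [e.length_eq, Module.length_pi_of_fintype, Finset.sum_const, Finset.card_univ, nsmul_eq_mul]

end Free

end Groth.Agent.R2.H73.LenLocal
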