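/-
helper73: the fixed-point ideal of the translation `u_i ↦ u_i + a_i` on the Artin–Schreier family
is `(a_1..a_n)A`; it lies in `(u)^p`, and `length_A (A/(a)A) = p^n · length_R (R/(a))`.
Used for S19998.
-/
import Mathlib
import Groth.Agent.R2.H73ASFamily2
import Groth.Agent.R2.H73ASFamily4
import Groth.Agent.R2.H73LenLocal

set_option autoImplicit false
universe u

open MvPolynomial

namespace Groth.Agent.R2.H73.ASFix

open Groth.Agent.R2.H73.ASFamily

section Ideal

variable {R : Type u} [CommRing R] {n : ℕ} (p : ℕ) (a x : Fin n → R)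
  (σ : ASQuot p a x ≃ₐ[R] ASQuot p a x)
  (hσ : ∀ i, σ (uq p a x i) = uq p a x i + algebraMap R _ (a i))

include hσ in
/-- `σ t - t ∈ (a)A` for every `t`. -/
theorem sub_mem_map (t : ASQuot p a x) :
    σ t - t ∈ (Ideal.span (Set.range a)).map (algebraMap R (ASQuot p a x)) := by
  set J := (Ideal.span (Set.range a)).map (algebraMap R (ASQuot p a x)) with hJ
  let T : Subalgebra R (ASQuot p a x) :=
    { carrier := {t | σ t - t ∈ J}
      mul_mem' := by
        rintro t t' ht ht'
        change σ (t * t') - t * t' ∈ J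
        have : σ (t * t') - t * t' = σ t * (σ t' - t') + t' * (σ t - t) := by
          rw [map_mul]
          ring
        rw [this]
        exact J.add_mem (J.mul_mem_left _ ht') (J.mul_mem_left _ ht)
      add_mem' := by
        rintro t t' ht ht'
        change σ (t + t') - (t + t') ∈ J
        have : σ (t + t') - (t + t') = (σ t - t) + (σ t' - t') := by
          rw [map_add]
          ring
        rw [this]
        exact J.add_mem ht ht'
      algebraMap_mem' := fun r => by
        change σ (algebraMap R (ASQuot p a x) r) - algebraMap R (ASQuot p a x) r ∈ J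
        rw [AlgEquiv.commutes, sub_self]
        exact J.zero_mem }
  have hu : ∀ i, uq p a x i ∈ T := by
    intro i
    change σ (uq p a x i) - uq p a x i ∈ J
    rw [hσ, add_sub_cancel_left]
    exact Ideal.mem_map_of_mem _ (Ideal.subset_span ⟨i, rfl⟩)
  obtain ⟨q, rfl⟩ := Ideal.Quotient.mk_surjective t
  have key : Ideal.Quotient.mk _ q ∈ T := by
    induction q using MvPolynomial.induction_on with
    | C r => exact T.algebraMap_mem r
    | add q q' hq hq' =>
      rw [map_add]
      exact T.add_mem hq hq'
    | mul_X q i hq =>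
      rw [map_mul]
      exact T.mul_mem hq (hu i)
  exact key

include hσ in
/-- The fixed-point ideal of the translation is `(a_1..a_n)A`. -/
theorem fixIdeal_eq :
    Ideal.span (Set.range fun t : ASQuot p a x => σ t - t) =
      (Ideal.span (Set.range a)).map (algebraMap R (ASQuot p a x)) := by
  apply le_antisymm
  · rw [Ideal.span_le]
    rintro _ ⟨t, rfl⟩
    exact sub_mem_map p a x σ hσ t
  · rw [Ideal.map_span, Ideal.span_le]
    rintro _ ⟨_, ⟨i, rfl⟩, rfl⟩
    have h1 : algebraMap R (ASQuot p a x) (a i) = σ (uq p a x i) - uq p a x i := by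
      rw [hσ]
      ring
    rw [h1]
    exact Ideal.subset_span ⟨_, rfl⟩

/-- `(a_1..a_n)A ⊆ (u_1..u_n)^p` when the `a_i` lie in `(x_1..x_n)`. -/
theorem map_le_pow (hp : 1 ≤ p) (ha : ∀ i, a i ∈ Ideal.span (Set.range x)) :
    (Ideal.span (Set.range a)).map (algebraMap R (ASQuot p a x)) ≤
      Ideal.span (Set.range (uq p a x)) ^ p := by
  set U := Ideal.span (Set.range (uq p a x)) with hU
  have hu : ∀ i, uq p a x i ∈ U := fun i => Ideal.subset_span ⟨i, rfl⟩
  have hxeq : ∀ j, algebraMap R (ASQuot p a x) (x j) =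
      uq p a x j ^ p - algebraMap R _ (a j ^ (p - 1)) * uq p a x j := by
    intro j
    rw [uq_rel]
    ring
  have h1 : ∀ j, algebraMap R (ASQuot p a x) (x j) ∈ U := by
    intro j
    rw [hxeq]
    refine U.sub_mem ?_ (U.mul_mem_left _ (hu j))
    have hz : uq p a x j ^ p = uq p a x j ^ (p - 1) * uq p a x j := by
      rw [← pow_succ, Nat.sub_add_cancel hp]
    rw [hz]
    exact U.mul_mem_left _ (hu j)
  have h2 : ∀ r ∈ Ideal.span (Set.range x), algebraMap R (ASQuot p a x) r ∈ U := by
    intro r hr
    have h : Ideal.span (Set.range x) ≤ U.comap (algebraMap R (ASQuot p a x)) := by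
      rw [Ideal.span_le]
      rintro _ ⟨j, rfl⟩
      exact h1 j
    exact h hr
  have h3 : ∀ j, algebraMap R (ASQuot p a x) (a j) ∈ U := fun j => h2 _ (ha j)
  have h4 : ∀ j, algebraMap R (ASQuot p a x) (x j) ∈ U ^ p := by
    intro j
    rw [hxeq]
    refine (U ^ p).sub_mem (Ideal.pow_mem_pow (hu j) p) ?_
    have hUp : U ^ p = U ^ (p - 1) * U :=
      calc U ^ p = U ^ (p - 1 + 1) := by rw [Nat.sub_add_cancel hp]
        _ = U ^ (p - 1) * U := pow_succ U (p - 1)
    rw [map_pow, hUp]
    exact Ideal.mul_mem_mul (Ideal.pow_mem_pow (h3 j) (p - 1)) (hu j)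
  have h5 : ∀ r ∈ Ideal.span (Set.range x), algebraMap R (ASQuot p a x) r ∈ U ^ p := by
    intro r hr
    have h : Ideal.span (Set.range x) ≤ (U ^ p).comap (algebraMap R (ASQuot p a x)) := by
      rw [Ideal.span_le]
      rintro _ ⟨j, rfl⟩
      exact h4 j
    exact h hr
  rw [Ideal.map_span, Ideal.span_le]
  rintro _ ⟨_, ⟨i, rfl⟩, rfl⟩
  exact h5 _ (ha i)

end Ideal

section Length

variable {R : Type u} [CommRing R] [IsLocalRing R] {n : ℕ} (p : ℕ) [hp : Fact p.Prime]
  (a x : Fin n → R)

/-- `R` surjects onto the residue field of the (local) Artin–Schreier family. -/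
theorem residue_surjective (hx : Ideal.span (Set.range x) = IsLocalRing.maximalIdeal R)
    [IsLocalRing (ASQuot p a x)] :
    Function.Surjective (IsLocalRing.residue (ASQuot p a x) ∘ algebraMap R (ASQuot p a x)) := by
  have hM := isMaximal_span_uu (p := p) (c := fun i => a i ^ (p - 1)) (x := x) (two_le_p p) hx
  have hmax : IsLocalRing.maximalIdeal (ASQuot p a x) = Ideal.span (Set.range (uq p a x)) :=
    (IsLocalRing.eq_maximalIdeal hM).symm
  set m := IsLocalRing.maximalIdeal (ASQuot p a x) with hm
  let T : Subalgebra R (ASQuot p a x) :=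
    { carrier := {t | ∃ r : R, t - algebraMap R _ r ∈ m}
      mul_mem' := by
        rintro t t' ⟨r, hr⟩ ⟨r', hr'⟩
        refine ⟨r * r', ?_⟩
        have : t * t' - algebraMap R (ASQuot p a x) (r * r') =
            t * (t' - algebraMap R _ r') + algebraMap R _ r' * (t - algebraMap R _ r) := by
          rw [map_mul]
          ring
        rw [this]
        exact m.add_mem (m.mul_mem_left _ hr') (m.mul_mem_left _ hr)
      add_mem' := by
        rintro t t' ⟨r, hr⟩ ⟨r', hr'⟩
        refine ⟨r + r', ?_⟩
        have : t + t' - algebraMap R (ASQuot p a x) (r + r') =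
            (t - algebraMap R _ r) + (t' - algebraMap R _ r') := by
          rw [map_add]
          ring
        rw [this]
        exact m.add_mem hr hr'
      algebraMap_mem' := fun r => ⟨r, by rw [sub_self]; exact m.zero_mem⟩ }
  have hu : ∀ i, uq p a x i ∈ T := by
    intro i
    refine ⟨0, ?_⟩
    rw [map_zero, sub_zero]
    exact hmax ▸ Ideal.subset_span ⟨i, rfl⟩
  intro y
  obtain ⟨t, rfl⟩ := Ideal.Quotient.mk_surjective y
  obtain ⟨q, rfl⟩ := Ideal.Quotient.mk_surjective t
  have key : Ideal.Quotient.mk _ q ∈ T := by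
    induction q using MvPolynomial.induction_on with
    | C r => exact T.algebraMap_mem r
    | add q q' hq hq' =>
      rw [map_add]
      exact T.add_mem hq hq'
    | mul_X q i hq =>
      rw [map_mul]
      exact T.mul_mem hq (hu i)
  obtain ⟨r, hr⟩ := key
  refine ⟨r, ?_⟩
  rw [Function.comp_apply]
  exact (Ideal.Quotient.eq.mpr hr).symm

/-- `length_A (A/(a)A) = p^n · length_R (R/(a))`. -/
theorem length_quotient_map
    (hx : Ideal.span (Set.range x) = IsLocalRing.maximalIdeal R)
    [IsLocalRing (ASQuot p a x)] (I : Ideal R) :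
    Module.length (ASQuot p a x) (ASQuot p a x ⧸ I.map (algebraMap R (ASQuot p a x))) =
      (p ^ n : ℕ∞) * Module.length R (R ⧸ I) := by
  rw [← LenLocal.length_restrict (residue_surjective p a x hx),
    LenLocal.length_quotient_map (BQ p a x) I]
  congr 1
  have hd : ∀ i, (AdjoinRoot.powerBasis' (asFamMonic p a x i)).dim = p := by
    intro i
    rw [AdjoinRoot.powerBasis'_dim]
    exact asPoly_natDegree (two_le_p p) _ _
  rw [Fintype.card_pi, Finset.prod_congr rfl (fun i _ => by rw [Fintype.card_fin, hd i]),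
    Finset.prod_const, Finset.card_univ, Fintype.card_fin, Nat.cast_pow]

end Length

end Groth.Agent.R2.H73.ASFix
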