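/-
helper73: the skew group ring `A ∗ G` of a finite group acting on a commutative `R`-algebra `A`
with a `G`-invariant perfect `R`-linear form `lam : A → R` is a symmetric `R`-algebra
(form: `lam` of the coefficient at `1`).  Used for S15805.
-/
import Mathlib

set_option autoImplicit false
universe u v w

namespace Groth.Agent.R2.H73.SkewSym

open SkewMonoidAlgebra

variable {R : Type u} {A : Type v} {G : Type w} [CommRing R] [CommRing A] [Algebra R A]
  [Group G] [MulSemiringAction G A] [SMulCommClass G R A]

/-- The form `x ↦ lam (coefficient of x at 1)` on the skew group ring. -/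
noncomputable def phi (lam : A →ₗ[R] R) : SkewMonoidAlgebra A G →ₗ[R] R :=
  lam ∘ₗ (Finsupp.lapply (1 : G)) ∘ₗ
    (SkewMonoidAlgebra.coeffLinearEquiv (S := R) (k := A) (G := G)).toLinearMap

omit [SMulCommClass G R A] in
lemma phi_apply (lam : A →ₗ[R] R) (x : SkewMonoidAlgebra A G) :
    phi lam x = lam (x.coeff 1) := rfl

omit [Algebra R A] [SMulCommClass G R A] in
lemma coeff_mul_one [Fintype G] (x y : SkewMonoidAlgebra A G) :
    (x * y).coeff 1 = ∑ g : G, x.coeff g * g • y.coeff g⁻¹ := by
  rw [coeff_mul_left, sum_def, Finsupp.sum_fintype]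
  · refine Finset.sum_congr rfl fun g _ => ?_
    rw [mul_one]
  · intro g
    rw [zero_mul]

variable (lam : A →ₗ[R] R) (hinv : ∀ (g : G) (a : A), lam (g • a) = lam a)

include hinv in
omit [SMulCommClass G R A] in
theorem phi_comm [Fintype G] (x y : SkewMonoidAlgebra A G) :
    phi lam (x * y) = phi lam (y * x) := by
  rw [phi_apply, phi_apply, coeff_mul_one, coeff_mul_one, _root_.map_sum, _root_.map_sum]
  rw [← Equiv.sum_comp (Equiv.inv G)]
  refine Finset.sum_congr rfl fun g _ => ?_
  change lam (x.coeff g⁻¹ * g⁻¹ • y.coeff g⁻¹⁻¹) = _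
  rw [inv_inv, ← hinv g (x.coeff g⁻¹ * g⁻¹ • y.coeff g), smul_mul', smul_inv_smul, mul_comm]

omit [SMulCommClass G R A] in
lemma phi_single_mul (g : G) (a : A) (y : SkewMonoidAlgebra A G) :
    phi lam (single g a * y) = lam (a * g • y.coeff g⁻¹) := by
  rw [phi_apply, coeff_single_mul, mul_one]

omit [SMulCommClass G R A] in
theorem phi_injective (hnd : ∀ b : A, (∀ a : A, lam (a * b) = 0) → b = 0) :
    Function.Injective
      (fun y : SkewMonoidAlgebra A G => fun x : SkewMonoidAlgebra A G => phi lam (x * y)) := by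
  intro y y' h
  rw [← sub_eq_zero]
  apply SkewMonoidAlgebra.ext
  intro g
  rw [coeff_zero, Finsupp.zero_apply]
  have h1 : ∀ a : A, lam (a * g⁻¹ • (y - y').coeff g) = 0 := by
    intro a
    have h2 := congrFun h (single g⁻¹ a)
    simp only at h2
    have h3 : phi lam (single g⁻¹ a * (y - y')) = 0 := by
      rw [mul_sub, map_sub, h2, sub_self]
    rw [phi_single_mul, inv_inv] at h3
    exact h3
  have h4 := hnd _ h1
  have h5 := congrArg (fun z => g • z) h4
  simp only [smul_inv_smul, smul_zero] at h5
  exact h5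

omit [Algebra R A] [SMulCommClass G R A] in
lemma single_sum_coeff [Fintype G] (y : SkewMonoidAlgebra A G) : ∑ g : G, single g (y.coeff g) = y := by
  classical
  apply SkewMonoidAlgebra.ext
  intro h
  have h1 : (∑ g : G, single g (y.coeff g)).coeff h = ∑ g : G, (single g (y.coeff g)).coeff h := by
    have := map_sum (SkewMonoidAlgebra.coeffAddEquiv (k := A) (G := G))
      (fun g => single g (y.coeff g)) Finset.univ
    exact (DFunLike.congr_fun this h).trans (Finsupp.finsetSum_apply _ _ _)
  rw [h1]
  simp only [coeff_single, Finsupp.single_apply]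
  rw [Finset.sum_ite_eq' Finset.univ h]
  simp

theorem phi_surjective [Fintype G]
    (hsurj : ∀ ψ : A →ₗ[R] R, ∃ b : A, ∀ a : A, ψ a = lam (a * b))
    (ψ : SkewMonoidAlgebra A G →ₗ[R] R) :
    ∃ y : SkewMonoidAlgebra A G, ∀ x, ψ x = phi lam (x * y) := by
  classical
  -- component functionals
  let ψg : G → (A →ₗ[R] R) := fun g =>
    { toFun := fun a => ψ (single g a)
      map_add' := fun a b => by rw [single_add, map_add]
      map_smul' := fun r a => by
        rw [← smul_single, map_smul]
        rfl }
  choose c hc using fun g => hsurj (ψg g)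
  refine ⟨∑ h : G, single h (h • c h⁻¹), ?_⟩
  intro x
  induction x using SkewMonoidAlgebra.induction_on with
  | zero => rw [zero_mul, map_zero, map_zero]
  | single g a =>
    rw [phi_single_mul]
    have h1 : (∑ h : G, single h (h • c h⁻¹)).coeff g⁻¹ = g⁻¹ • c g := by
      have h2 : (∑ h : G, single h (h • c h⁻¹)).coeff g⁻¹ =
          ∑ h : G, (single h (h • c h⁻¹)).coeff g⁻¹ := by
        have := map_sum (SkewMonoidAlgebra.coeffAddEquiv (k := A) (G := G))
          (fun h => single h (h • c h⁻¹)) Finset.univ
        exact (DFunLike.congr_fun this g⁻¹).trans (Finsupp.finsetSum_apply _ _ _)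
      rw [h2]
      simp only [coeff_single, Finsupp.single_apply]
      rw [Finset.sum_ite_eq' Finset.univ g⁻¹]
      simp
    rw [h1, smul_inv_smul]
    exact hc g a
  | add x y hx hy => rw [add_mul, map_add, map_add, hx, hy]

end Groth.Agent.R2.H73.SkewSym
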