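/-
helper73: the top-coefficient form on `R[u_1..u_n]/(f_i(u_i))` (each `f_i` monic of positive
degree) is a perfect pairing, invariant under translations `u_i ↦ u_i + a_i`.
Used for S15805 (symmetric structure on the skew group ring of the Artin–Schreier family).
-/
import Mathlib
import Groth.Agent.R2.H73ASFamily
import Groth.Agent.R2.H73SkewSym

set_option autoImplicit false
universe u v w

open Polynomial

namespace Groth.Agent.R2.H73.ASFrob

section General

variable {R : Type u} [CommRing R] {A : Type v} [CommRing A] [Algebra R A]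

/-- `b ↦ (x ↦ lam (b * x))`. -/
noncomputable def toDual (lam : A →ₗ[R] R) : A →ₗ[R] Module.Dual R A :=
  (LinearMap.compRight R lam) ∘ₗ (LinearMap.mul R A)

lemma toDual_apply (lam : A →ₗ[R] R) (b x : A) : toDual lam b x = lam (b * x) := rfl

end General

section OneVar

variable {R : Type u} [CommRing R] [Nontrivial R] {f : R[X]} (hf : f.Monic)
  (hd : 0 < f.natDegree)

/-- The top index of the power basis. -/
def topIdx : Fin (AdjoinRoot.powerBasis' hf).dim :=
  ⟨f.natDegree - 1, by rw [AdjoinRoot.powerBasis'_dim]; omega⟩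

/-- The top-coefficient form on `R[u]/(f)`. -/
noncomputable def lamOne : AdjoinRoot f →ₗ[R] R :=
  (AdjoinRoot.powerBasis' hf).basis.coord (topIdx hf hd)

lemma repr_mk (q : R[X]) (hq : q.degree < f.degree) (j : Fin (AdjoinRoot.powerBasis' hf).dim) :
    (AdjoinRoot.powerBasis' hf).basis.repr (AdjoinRoot.mk f q) j = q.coeff j := by
  refine (AdjoinRoot.powerBasisAux'_repr_apply_to_fun hf (AdjoinRoot.mk f q) j).trans ?_
  rw [AdjoinRoot.modByMonicHom_mk, (modByMonic_eq_self_iff hf).mpr hq]

lemma lamOne_mk (q : R[X]) (hq : q.degree < f.degree) :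
    lamOne hf hd (AdjoinRoot.mk f q) = q.coeff (f.natDegree - 1) := by
  rw [lamOne, Module.Basis.coord_apply, repr_mk hf q hq]
  rfl

lemma lamOne_root_add_pow (a : R) (m : ℕ) (hm : m < f.natDegree) :
    lamOne hf hd ((AdjoinRoot.root f + AdjoinRoot.of f a) ^ m) =
      if m = f.natDegree - 1 then 1 else 0 := by
  have h1 : (AdjoinRoot.root f + AdjoinRoot.of f a) ^ m = AdjoinRoot.mk f ((X + C a) ^ m) := by
    rw [map_pow, map_add, AdjoinRoot.mk_X, AdjoinRoot.mk_C]
  have h2 : ((X + C a) ^ m : R[X]).degree < f.degree := by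
    rw [degree_eq_natDegree hf.ne_zero,
      degree_eq_natDegree ((monic_X_add_C a).pow m).ne_zero, natDegree_pow_X_add_C]
    exact_mod_cast hm
  rw [h1, lamOne_mk hf hd _ h2, coeff_X_add_C_pow]
  split_ifs with h
  · rw [h, Nat.sub_self, pow_zero, Nat.choose_self, Nat.cast_one, mul_one]
  · rw [Nat.choose_eq_zero_of_lt (by omega), Nat.cast_zero, mul_zero]

lemma lamOne_root_pow (m : ℕ) (hm : m < f.natDegree) :
    lamOne hf hd (AdjoinRoot.root f ^ m) = if m = f.natDegree - 1 then 1 else 0 := by
  have := lamOne_root_add_pow hf hd 0 m hm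
  rwa [map_zero, add_zero] at this

/-- The top-coefficient form on `R[u]/(f)` is perfect. -/
theorem toDual_lamOne_bijective : Function.Bijective (toDual (lamOne hf hd)) := by
  classical
  set v := (AdjoinRoot.powerBasis' hf).basis.reindex Fin.revPerm with hv
  set v' := (AdjoinRoot.powerBasis' hf).basis.dualBasis with hv'
  have hdim : (AdjoinRoot.powerBasis' hf).dim = f.natDegree := AdjoinRoot.powerBasis'_dim hf
  have hM : ∀ i j : Fin (AdjoinRoot.powerBasis' hf).dim,
      LinearMap.toMatrix v v' (toDual (lamOne hf hd)) i j =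
      lamOne hf hd (AdjoinRoot.root f ^ ((Fin.rev j : ℕ) + (i : ℕ))) := by
    intro i j
    rw [LinearMap.toMatrix_apply, hv', Module.Basis.dualBasis_repr, toDual_apply, hv,
      Module.Basis.reindex_apply, PowerBasis.basis_eq_pow, PowerBasis.basis_eq_pow, ← pow_add,
      AdjoinRoot.powerBasis'_gen]
    rfl
  have hdet : (LinearMap.toMatrix v v' (toDual (lamOne hf hd))).det = 1 := by
    rw [Matrix.det_of_isLowerTriangular]
    · apply Finset.prod_eq_one
      intro i _
      rw [hM, lamOne_root_pow hf hd _ (by rw [Fin.val_rev]; omega), if_pos]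
      rw [Fin.val_rev]
      omega
    · intro i j hij
      have hij' : i < j := hij
      rw [hM, lamOne_root_pow hf hd _ (by rw [Fin.val_rev]; omega), if_neg]
      rw [Fin.val_rev]
      omega
  have hunit : IsUnit (LinearMap.toMatrix v v' (toDual (lamOne hf hd))).det := by
    rw [hdet]
    exact isUnit_one
  exact (LinearEquiv.ofIsUnitDet hunit).bijective

end OneVar

section Multi

open PiTensorProduct
open scoped TensorProduct

variable {R : Type u} [CommRing R] [Nontrivial R] {n : ℕ} (f : Fin n → R[X])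
  (hf : ∀ i, (f i).Monic) (hd : ∀ i, 0 < (f i).natDegree)

/-- The top multi-index. -/
def topMulti : Π i, Fin (AdjoinRoot.powerBasis' (hf i)).dim := fun i => topIdx (hf i) (hd i)

/-- The top-coefficient form on the tensor product. -/
noncomputable def lamT : (⨂[R] i, AdjoinRoot (f i)) →ₗ[R] R :=
  (ASFamily.basisTensor f hf).coord (topMulti f hf hd)

omit [Nontrivial R] in
lemma lamT_tprod (x : Π i, AdjoinRoot (f i)) :
    lamT f hf hd (tprod R x) = ∏ i, lamOne (hf i) (hd i) (x i) := by
  rw [lamT, Module.Basis.coord_apply, ASFamily.basisTensor,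
    Basis.piTensorProduct_repr_tprod_apply]
  rfl

/-- The top-coefficient form on the tensor product is perfect. -/
theorem toDual_lamT_bijective : Function.Bijective (toDual (lamT f hf hd)) := by
  let D : Π i, AdjoinRoot (f i) ≃ₗ[R] Module.Dual R (AdjoinRoot (f i)) := fun i =>
    LinearEquiv.ofBijective _ (toDual_lamOne_bijective (hf i) (hd i))
  have hD : ∀ i (y x : AdjoinRoot (f i)), D i y x = lamOne (hf i) (hd i) (y * x) :=
    fun i y x => rfl
  have key : toDual (lamT f hf hd) =
      ((dualDistribEquivOfBasis (fun i => (AdjoinRoot.powerBasis' (hf i)).basis)).toLinearMap) ∘ₗ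
        (PiTensorProduct.congr D).toLinearMap := by
    apply PiTensorProduct.ext
    apply MultilinearMap.ext
    intro y
    apply PiTensorProduct.ext
    apply MultilinearMap.ext
    intro x
    simp only [LinearMap.compMultilinearMap_apply, LinearMap.comp_apply, LinearEquiv.coe_coe]
    rw [toDual_apply, tprod_mul_tprod, lamT_tprod, congr_tprod]
    change _ = dualDistrib (⨂ₜ[R] i, D i (y i)) (⨂ₜ[R] i, x i)
    rw [dualDistrib_apply]
    refine Finset.prod_congr rfl fun i _ => ?_
    rw [hD]
    rfl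
  rw [key, LinearMap.coe_comp]
  exact (LinearEquiv.bijective _).comp (LinearEquiv.bijective _)

end Multi

section Quot

open PiTensorProduct
open scoped TensorProduct

variable {R : Type u} [CommRing R] [Nontrivial R] {n : ℕ} (f : Fin n → R[X])
  (hf : ∀ i, (f i).Monic) (hd : ∀ i, 0 < (f i).natDegree)

/-- The top-coefficient form on `R[u_1..u_n]/(f_i(u_i))`. -/
noncomputable def lamA : (MvPolynomial (Fin n) R ⧸ ASFamily.relIdeal f) →ₗ[R] R :=
  (lamT f hf hd) ∘ₗ (ASFamily.equivTensor f).toLinearMap

omit [Nontrivial R] in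
lemma lamA_apply (z : MvPolynomial (Fin n) R ⧸ ASFamily.relIdeal f) :
    lamA f hf hd z = lamT f hf hd (ASFamily.equivTensor f z) := rfl

omit [Nontrivial R] in
lemma lamA_prod_gen (w : Π i, AdjoinRoot (f i)) :
    lamA f hf hd (∏ i, ASFamily.gen f i (w i)) = ∏ i, lamOne (hf i) (hd i) (w i) := by
  rw [← ASFamily.ofTensor_tprod, lamA_apply]
  have h1 : ASFamily.equivTensor f (ASFamily.ofTensor f (tprod R w)) = tprod R w :=
    (ASFamily.equivTensor f).apply_symm_apply (tprod R w)
  rw [h1, lamT_tprod]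

theorem lamA_nondeg (b : MvPolynomial (Fin n) R ⧸ ASFamily.relIdeal f)
    (h : ∀ a, lamA f hf hd (a * b) = 0) : b = 0 := by
  have h1 : toDual (lamT f hf hd) (ASFamily.equivTensor f b) = 0 := by
    apply LinearMap.ext
    intro x
    obtain ⟨a, rfl⟩ := (ASFamily.equivTensor f).surjective x
    rw [toDual_apply, ← map_mul, mul_comm]
    exact h a
  have h2 := (toDual_lamT_bijective f hf hd).1 (h1.trans (map_zero _).symm)
  exact (ASFamily.equivTensor f).injective (h2.trans (map_zero _).symm)

theorem lamA_surj (ψ : (MvPolynomial (Fin n) R ⧸ ASFamily.relIdeal f) →ₗ[R] R) :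
    ∃ b, ∀ a, ψ a = lamA f hf hd (a * b) := by
  obtain ⟨y, hy⟩ := (toDual_lamT_bijective f hf hd).2
    (ψ ∘ₗ (ASFamily.equivTensor f).symm.toLinearMap)
  refine ⟨(ASFamily.equivTensor f).symm y, fun a => ?_⟩
  have h1 := LinearMap.congr_fun hy (ASFamily.equivTensor f a)
  rw [toDual_apply] at h1
  have h2 : (ψ ∘ₗ (ASFamily.equivTensor f).symm.toLinearMap) (ASFamily.equivTensor f a) = ψ a := by
    change ψ ((ASFamily.equivTensor f).symm (ASFamily.equivTensor f a)) = ψ a
    rw [AlgEquiv.symm_apply_apply]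
  rw [h2] at h1
  rw [← h1, lamA_apply]
  congr 1
  rw [map_mul, AlgEquiv.apply_symm_apply, mul_comm]

/-- Invariance of the top-coefficient form under a translation automorphism. -/
theorem lamA_smul {G : Type w} [Group G]
    [MulSemiringAction G (MvPolynomial (Fin n) R ⧸ ASFamily.relIdeal f)]
    [SMulCommClass G R (MvPolynomial (Fin n) R ⧸ ASFamily.relIdeal f)]
    (a : Fin n → R) (g : G)
    (hg : ∀ i, g • (Ideal.Quotient.mk (ASFamily.relIdeal f) (MvPolynomial.X i)) =
      Ideal.Quotient.mk (ASFamily.relIdeal f) (MvPolynomial.X i) +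
        algebraMap R (MvPolynomial (Fin n) R ⧸ ASFamily.relIdeal f) (a i))
    (z : MvPolynomial (Fin n) R ⧸ ASFamily.relIdeal f) :
    lamA f hf hd (g • z) = lamA f hf hd z := by
  have key : (lamA f hf hd) ∘ₗ
      (DistribSMul.toLinearMap R (MvPolynomial (Fin n) R ⧸ ASFamily.relIdeal f) g) =
      lamA f hf hd := by
    apply (ASFamily.basisQuot f hf).ext
    intro e
    rw [LinearMap.comp_apply, DistribSMul.toLinearMap_apply, ASFamily.basisQuot_apply]
    have hlt : ∀ i, (e i : ℕ) < (f i).natDegree := fun i =>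
      lt_of_lt_of_eq (e i).2 (AdjoinRoot.powerBasis'_dim (hf i))
    have h1 : g • (∏ i, Ideal.Quotient.mk (ASFamily.relIdeal f) (MvPolynomial.X i) ^ (e i : ℕ)) =
        ∏ i, ASFamily.gen f i
          ((AdjoinRoot.root (f i) + AdjoinRoot.of (f i) (a i)) ^ (e i : ℕ)) := by
      rw [← MulSemiringAction.toRingHom_apply, map_prod]
      refine Finset.prod_congr rfl fun i _ => ?_
      rw [map_pow, MulSemiringAction.toRingHom_apply, hg i, map_pow, map_add, ASFamily.gen_root,
        ← AdjoinRoot.algebraMap_eq, AlgHom.commutes]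
    have h2 : (∏ i, Ideal.Quotient.mk (ASFamily.relIdeal f) (MvPolynomial.X i) ^ (e i : ℕ)) =
        ∏ i, ASFamily.gen f i (AdjoinRoot.root (f i) ^ (e i : ℕ)) := by
      refine Finset.prod_congr rfl fun i _ => ?_
      rw [map_pow, ASFamily.gen_root]
    rw [h1, h2, lamA_prod_gen, lamA_prod_gen]
    refine Finset.prod_congr rfl fun i _ => ?_
    rw [lamOne_root_add_pow (hf i) (hd i) (a i) _ (hlt i), lamOne_root_pow (hf i) (hd i) _ (hlt i)]
  exact LinearMap.congr_fun key z

end Quot

section Main

variable {R : Type u} [CommRing R] [Nontrivial R] {n : ℕ} (f : Fin n → R[X])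
  (hf : ∀ i, (f i).Monic) (hd : ∀ i, 0 < (f i).natDegree)

include hf hd in
/-- The skew group ring of `R[u_1..u_n]/(f_i(u_i))` by a finite cyclic group generated by a
translation `u_i ↦ u_i + a_i` is a symmetric `R`-algebra. -/
theorem skew_symmetric {G : Type w} [Group G] [Finite G]
    [MulSemiringAction G (MvPolynomial (Fin n) R ⧸ ASFamily.relIdeal f)]
    [SMulCommClass G R (MvPolynomial (Fin n) R ⧸ ASFamily.relIdeal f)]
    (a : Fin n → R) (g : G) (hgen : ∀ h : G, h ∈ Subgroup.zpowers g)
    (hg : ∀ i, g • (Ideal.Quotient.mk (ASFamily.relIdeal f) (MvPolynomial.X i)) =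
      Ideal.Quotient.mk (ASFamily.relIdeal f) (MvPolynomial.X i) +
        algebraMap R (MvPolynomial (Fin n) R ⧸ ASFamily.relIdeal f) (a i)) :
    ∃ φ : SkewMonoidAlgebra (MvPolynomial (Fin n) R ⧸ ASFamily.relIdeal f) G →ₗ[R] R,
      (∀ x y : SkewMonoidAlgebra (MvPolynomial (Fin n) R ⧸ ASFamily.relIdeal f) G,
        φ (x * y) = φ (y * x)) ∧
      Function.Injective
        (fun y : SkewMonoidAlgebra (MvPolynomial (Fin n) R ⧸ ASFamily.relIdeal f) G =>
          fun x : SkewMonoidAlgebra (MvPolynomial (Fin n) R ⧸ ASFamily.relIdeal f) G =>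
            φ (x * y)) ∧
      ∀ ψ : SkewMonoidAlgebra (MvPolynomial (Fin n) R ⧸ ASFamily.relIdeal f) G →ₗ[R] R,
        ∃ y : SkewMonoidAlgebra (MvPolynomial (Fin n) R ⧸ ASFamily.relIdeal f) G,
          ∀ x, ψ x = φ (x * y) := by
  have : Fintype G := Fintype.ofFinite G
  let S : Subgroup G :=
    { carrier := {h | ∀ z, lamA f hf hd (h • z) = lamA f hf hd z}
      mul_mem' := by
        intro h h' hh hh' z
        rw [mul_smul, hh, hh']
      one_mem' := by
        intro z
        rw [one_smul]
      inv_mem' := by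
        intro h hh z
        have := hh (h⁻¹ • z)
        rw [smul_inv_smul] at this
        exact this.symm }
  have hgS : g ∈ S := fun z => lamA_smul f hf hd a g hg z
  have hinv : ∀ (h : G) (z : MvPolynomial (Fin n) R ⧸ ASFamily.relIdeal f),
      lamA f hf hd (h • z) = lamA f hf hd z := fun h =>
    (Subgroup.zpowers_le.mpr hgS) (hgen h)
  exact ⟨SkewSym.phi (lamA f hf hd), SkewSym.phi_comm _ hinv,
    SkewSym.phi_injective _ (lamA_nondeg f hf hd), SkewSym.phi_surjective _ (lamA_surj f hf hd)⟩

end Main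

end Groth.Agent.R2.H73.ASFrob
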