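/-
helper73: invariants of the translation automorphism `u_i ↦ u_i + c_i` on the Artin–Schreier family
after inverting `c_{i₀}`: they are generated by the minor elements through `u_{i₀}`.
Vandermonde independence of `1, w, .., w^(p-1)` over the invariants (`σ w = w + e`).
Used for S19997.
-/
import Mathlib
import Groth.Agent.R2.H73ASFamily4

set_option autoImplicit false
universe u v

open MvPolynomial

namespace Groth.Agent.R2.H73.ASMinor

open Groth.Agent.R2.H73.ASFamily

section Vandermonde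

variable {R : Type u} [CommRing R] {Q : Type v} [CommRing Q] [IsDomain Q] [Algebra R Q]
  (p : ℕ) [hp : Fact p.Prime] [CharP Q p]

/-- If `σ w = w + e` with `e ≠ 0`, then `1, w, …, w^(p-1)` are linearly independent over the
`σ`-invariants. -/
theorem eq_zero_of_sum_pow_eq_zero (σ : Q ≃ₐ[R] Q) (w e : Q) (he : e ≠ 0) (hw : σ w = w + e)
    (hσe : σ e = e)
    (β : Fin p → Q) (hβ : ∀ i, σ (β i) = β i) (h0 : ∑ i, β i * w ^ (i : ℕ) = 0) : β = 0 := by
  have hpow : ∀ j : ℕ, (σ ^ j) w = w + (j : Q) * e := by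
    intro j
    induction j with
    | zero => simp
    | succ j ih =>
      rw [pow_succ', AlgEquiv.mul_apply, ih, map_add, map_mul, map_natCast, hw, hσe]
      push_cast
      ring
  have hβj : ∀ (j : ℕ) (i : Fin p), (σ ^ j) (β i) = β i := by
    intro j i
    induction j with
    | zero => simp
    | succ j ih => rw [pow_succ', AlgEquiv.mul_apply, ih, hβ]
  set v : Fin p → Q := fun j => w + ((j : ℕ) : Q) * e with hv
  have hj : ∀ j : Fin p, ∑ i : Fin p, v j ^ (i : ℕ) * β i = 0 := by
    intro j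
    have h1 := congrArg (σ ^ (j : ℕ)) h0
    rw [map_sum, map_zero] at h1
    rw [← h1]
    refine Finset.sum_congr rfl fun i _ => ?_
    rw [map_mul, map_pow, hβj, hpow, mul_comm]
  have hmul : (Matrix.vandermonde v).mulVec β = 0 := by
    funext j
    rw [Matrix.mulVec, dotProduct]
    simp only [Matrix.vandermonde_apply, Pi.zero_apply]
    exact hj j
  have hdet : (Matrix.vandermonde v).det ≠ 0 := by
    rw [Matrix.det_vandermonde, Finset.prod_ne_zero_iff]
    intro i _
    rw [Finset.prod_ne_zero_iff]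
    intro j hj
    have hij : i < j := Finset.mem_Ioi.mp hj
    have h1 : v j - v i = (((j : ℕ) - (i : ℕ) : ℕ) : Q) * e := by
      rw [hv]
      simp only
      rw [Nat.cast_sub (le_of_lt hij)]
      ring
    rw [h1]
    apply mul_ne_zero _ he
    rw [Ne, CharP.cast_eq_zero_iff Q p]
    intro hdvd
    have h2 : (j : ℕ) - (i : ℕ) < p := lt_of_le_of_lt (Nat.sub_le _ _) j.2
    have h3 : 0 < (j : ℕ) - (i : ℕ) := Nat.sub_pos_of_lt hij
    exact absurd (Nat.le_of_dvd h3 hdvd) (not_le.mpr h2)
  exact Matrix.eq_zero_of_mulVec_eq_zero hdet hmul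

end Vandermonde

section Minor

variable {R : Type u} [CommRing R] {n : ℕ} (p : ℕ) [hp : Fact p.Prime]
  (c x : Fin n → R) (a : Fin n → R) (μ : R) (i₀ : Fin n)

/-- The minor elements `z_j = a_{i₀} u_j - a_j u_{i₀}`. -/
noncomputable def zmin (j : {j : Fin n // j ≠ i₀}) : ASQuot p c x :=
  algebraMap R _ (a i₀) * uq p c x j.1 - algebraMap R _ (a j.1) * uq p c x i₀

variable (hc : ∀ i, c i = μ * a i) (σ : ASQuot p c x ≃ₐ[R] ASQuot p c x)
  (hσ : ∀ i, σ (uq p c x i) = uq p c x i + algebraMap R _ (c i))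

include hc hσ in
omit hp in
lemma sigma_zmin (j : {j : Fin n // j ≠ i₀}) : σ (zmin p c x a i₀ j) = zmin p c x a i₀ j := by
  rw [zmin, map_sub, map_mul, map_mul, AlgEquiv.commutes, AlgEquiv.commutes, hσ, hσ, hc, hc]
  simp only [map_mul]
  ring

include hc hσ in
omit hp in
lemma sigma_fix_adjoin (b : ASQuot p c x)
    (hb : b ∈ Algebra.adjoin R (Set.range (zmin p c x a i₀))) : σ b = b := by
  have h : Algebra.adjoin R (Set.range (zmin p c x a i₀)) ≤
      AlgHom.equalizer σ.toAlgHom (AlgHom.id R _) := by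
    apply Algebra.adjoin_le
    rintro _ ⟨j, rfl⟩
    exact sigma_zmin p c x a μ i₀ hc σ hσ j
  exact h hb

include hc in
omit hp in
/-- After multiplying by a power of `c_{i₀}`, every element is a polynomial in the minor elements
and `u_{i₀}`. -/
theorem exists_pow_mul_mem (t : ASQuot p c x) :
    ∃ N : ℕ, algebraMap R (ASQuot p c x) (c i₀) ^ N * t ∈
      Algebra.adjoin R (Set.range (zmin p c x a i₀) ∪ {uq p c x i₀}) := by
  set C := Algebra.adjoin R (Set.range (zmin p c x a i₀) ∪ {uq p c x i₀}) with hC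
  set e : ASQuot p c x := algebraMap R (ASQuot p c x) (c i₀) with he
  have heC : e ∈ C := C.algebraMap_mem _
  let T : Subalgebra R (ASQuot p c x) :=
    { carrier := {t | ∃ N : ℕ, e ^ N * t ∈ C}
      mul_mem' := by
        rintro t t' ⟨N, hN⟩ ⟨N', hN'⟩
        refine ⟨N + N', ?_⟩
        have : e ^ (N + N') * (t * t') = (e ^ N * t) * (e ^ N' * t') := by ring
        rw [this]
        exact C.mul_mem hN hN'
      add_mem' := by
        rintro t t' ⟨N, hN⟩ ⟨N', hN'⟩
        refine ⟨N + N', ?_⟩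
        have : e ^ (N + N') * (t + t') = e ^ N' * (e ^ N * t) + e ^ N * (e ^ N' * t') := by ring
        rw [this]
        exact C.add_mem (C.mul_mem (C.pow_mem heC _) hN) (C.mul_mem (C.pow_mem heC _) hN')
      algebraMap_mem' := by
        intro r
        exact ⟨0, by rw [pow_zero, one_mul]; exact C.algebraMap_mem r⟩ }
  have hwC : uq p c x i₀ ∈ C := Algebra.subset_adjoin (Or.inr rfl)
  have hu : ∀ i, uq p c x i ∈ T := by
    intro i
    by_cases hi : i = i₀
    · subst hi
      exact ⟨0, by rw [pow_zero, one_mul]; exact hwC⟩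
    · refine ⟨1, ?_⟩
      have hz : zmin p c x a i₀ ⟨i, hi⟩ ∈ C := Algebra.subset_adjoin (Or.inl ⟨⟨i, hi⟩, rfl⟩)
      have h1 : e ^ 1 * uq p c x i =
          algebraMap R (ASQuot p c x) μ *
            (zmin p c x a i₀ ⟨i, hi⟩ + algebraMap R (ASQuot p c x) (a i) * uq p c x i₀) := by
        rw [he, hc, zmin, map_mul]
        ring
      rw [h1]
      exact C.mul_mem (C.algebraMap_mem _)
        (C.add_mem hz (C.mul_mem (C.algebraMap_mem _) hwC))
  obtain ⟨q, rfl⟩ := Ideal.Quotient.mk_surjective t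
  have key : Ideal.Quotient.mk _ q ∈ T := by
    induction q using MvPolynomial.induction_on with
    | C r => exact T.algebraMap_mem r
    | add q q' hq hq' =>
      rw [map_add]
      exact T.add_mem hq hq'
    | mul_X q i hq =>
      rw [map_mul]
      exact T.mul_mem hq (hu i)
  exact key

end Minor

section Reduce

variable {R : Type u} [CommRing R] {n : ℕ} (p : ℕ) [hp : Fact p.Prime]
  (c x : Fin n → R) (a : Fin n → R) (i₀ : Fin n)

/-- Elements of `B[w]` are `B`-combinations of `1, w, …, w^(p-1)` (`w = u_{i₀}`, `B` the algebra of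
the minor elements). -/
theorem exists_coeffs [Nontrivial (ASQuot p c x)] (s : ASQuot p c x)
    (hs : s ∈ Algebra.adjoin R (Set.range (zmin p c x a i₀) ∪ {uq p c x i₀})) :
    ∃ β : Fin p → ASQuot p c x,
      (∀ i, β i ∈ Algebra.adjoin R (Set.range (zmin p c x a i₀))) ∧
        s = ∑ i, β i * uq p c x i₀ ^ (i : ℕ) := by
  set B := Algebra.adjoin R (Set.range (zmin p c x a i₀)) with hB
  set w := uq p c x i₀ with hw
  rw [Algebra.adjoin_union_eq_adjoin_adjoin] at hs
  have hs' : s ∈ Algebra.adjoin ↥B {w} := hs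
  rw [Algebra.adjoin_singleton_eq_range_aeval] at hs'
  obtain ⟨q, rfl⟩ := hs'
  let b1 : ↥B := ⟨algebraMap R _ (c i₀ ^ (p - 1)), B.algebraMap_mem _⟩
  let b2 : ↥B := ⟨algebraMap R _ (x i₀), B.algebraMap_mem _⟩
  set fB : Polynomial ↥B := asPoly p b1 b2 with hfB
  have hmonic : fB.Monic := asPoly_monic (two_le_p p) b1 b2
  have hdeg : fB.natDegree = p := asPoly_natDegree (two_le_p p) b1 b2
  have hroot : Polynomial.aeval w fB = 0 := by
    rw [hfB, aeval_asPoly]
    have h1 := uq_rel p c x i₀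
    rw [← hw] at h1
    rw [h1]
    have e1 : algebraMap ↥B (ASQuot p c x) b1 = algebraMap R _ (c i₀ ^ (p - 1)) := rfl
    have e2 : algebraMap ↥B (ASQuot p c x) b2 = algebraMap R _ (x i₀) := rfl
    rw [e1, e2]
    ring
  have hne1 : fB ≠ 1 := by
    intro h
    have h2 := hdeg
    rw [h, Polynomial.natDegree_one] at h2
    exact absurd h2.symm (by have := two_le_p p; omega)
  have hq : Polynomial.aeval w q = Polynomial.aeval w (q %ₘ fB) := by
    conv_lhs => rw [← Polynomial.modByMonic_add_div q fB]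
    rw [map_add, map_mul, hroot, zero_mul, add_zero]
  have hlt : (q %ₘ fB).natDegree < p := by
    have := Polynomial.natDegree_modByMonic_lt q hmonic hne1
    rwa [hdeg] at this
  refine ⟨fun i => ((q %ₘ fB).coeff (i : ℕ) : ASQuot p c x), fun i => ((q %ₘ fB).coeff (i : ℕ)).2, ?_⟩
  change Polynomial.aeval w q = _
  rw [hq, Polynomial.aeval_eq_sum_range' hlt, Finset.sum_range]
  refine Finset.sum_congr rfl fun i _ => ?_
  rw [Algebra.smul_def]
  rfl

end Reduce

section Main

variable {R : Type u} [CommRing R] [IsDomain R] {n : ℕ} (p : ℕ) [hp : Fact p.Prime] [CharP R p]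
  (c x : Fin n → R) [IsDomain (ASQuot p c x)] (a : Fin n → R) (μ : R) (i₀ : Fin n)
  (hc : ∀ i, c i = μ * a i) (σ : ASQuot p c x ≃ₐ[R] ASQuot p c x)
  (hσ : ∀ i, σ (uq p c x i) = uq p c x i + algebraMap R _ (c i))

include hc hσ in
/-- Invariants of the translation `u_i ↦ u_i + c_i` lie, up to a power of `c_{i₀}`, in the algebra of
the minor elements through `u_{i₀}`. -/
theorem exists_pow_mul_mem_adjoin_zmin (t : ASQuot p c x) (ht : σ t = t) :
    ∃ N : ℕ, algebraMap R (ASQuot p c x) (c i₀) ^ N * t ∈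
      Algebra.adjoin R (Set.range (zmin p c x a i₀)) := by
  by_cases he0 : c i₀ = 0
  · refine ⟨1, ?_⟩
    rw [he0, map_zero, pow_one, zero_mul]
    exact Subalgebra.zero_mem _
  obtain ⟨N, hN⟩ := exists_pow_mul_mem p c x a μ i₀ hc t
  refine ⟨N, ?_⟩
  set s := algebraMap R (ASQuot p c x) (c i₀) ^ N * t with hs
  obtain ⟨β, hβB, hsβ⟩ := exists_coeffs p c x a i₀ s hN
  have hσs : σ s = s := by
    rw [hs, map_mul, map_pow, AlgEquiv.commutes, ht]
  have hinj := algebraMap_injective_ASQuot p c x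
  have hchar : CharP (ASQuot p c x) p := charP_of_injective_algebraMap hinj p
  have he : algebraMap R (ASQuot p c x) (c i₀) ≠ 0 := fun h =>
    he0 (hinj (h.trans (map_zero _).symm))
  have hpos : 0 < p := hp.out.pos
  let β' : Fin p → ASQuot p c x := fun i => β i - (if i = ⟨0, hpos⟩ then s else 0)
  have hβ' : ∀ i, σ (β' i) = β' i := by
    intro i
    change σ (β i - _) = β i - _
    rw [map_sub, sigma_fix_adjoin p c x a μ i₀ hc σ hσ _ (hβB i)]
    split_ifs
    · rw [hσs]
    · rw [map_zero]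
  have hsum : ∑ i, β' i * uq p c x i₀ ^ (i : ℕ) = 0 := by
    have h1 : ∀ i : Fin p, β' i * uq p c x i₀ ^ (i : ℕ) =
        β i * uq p c x i₀ ^ (i : ℕ) - (if i = ⟨0, hpos⟩ then s else 0) := by
      intro i
      change (β i - _) * _ = _
      rw [sub_mul]
      congr 1
      split_ifs with h
      · rw [h, pow_zero, mul_one]
      · rw [zero_mul]
    simp_rw [h1]
    rw [Finset.sum_sub_distrib, ← hsβ, Finset.sum_ite_eq' Finset.univ (⟨0, hpos⟩ : Fin p)]
    simp
  have hzero := eq_zero_of_sum_pow_eq_zero (R := R) p σ (uq p c x i₀)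
    (algebraMap R (ASQuot p c x) (c i₀)) he (hσ i₀) (σ.commutes _) β' hβ' hsum
  have h0 := congrFun hzero ⟨0, hpos⟩
  change β ⟨0, hpos⟩ - (if (⟨0, hpos⟩ : Fin p) = ⟨0, hpos⟩ then s else 0) = 0 at h0
  rw [if_pos rfl, sub_eq_zero] at h0
  rw [← h0]
  exact hβB _

end Main

end Groth.Agent.R2.H73.ASMinor
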