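import Mathlib

/-!
# Quotients `R[u_i : i ∈ ι]/(f_i(u_i))` for a finite index type `ι` (helper73)

Generalisation of `H73ASFamily` (which is stated for `Fin n`) to an arbitrary finite index type.

For polynomials `f i : R[X]` in one variable, the quotient of `MvPolynomial (ι) R` by the ideal
generated by the `f i (X i)` is identified with the tensor product `⨂[R] i, AdjoinRoot (f i)`.
If the `f i` are monic it is free over `R` with the monomial basis.
-/

set_option autoImplicit false
set_option linter.unusedSectionVars false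
universe u v

open MvPolynomial PiTensorProduct
open scoped TensorProduct

namespace Groth.Agent.R2.H73.RelQuot

variable {R : Type u} [CommRing R] {ι : Type v} [Fintype ι] [DecidableEq ι] (f : ι → Polynomial R)

/-- The ideal generated by the `f i (X i)`. -/
noncomputable def relIdeal : Ideal (MvPolynomial (ι) R) :=
  Ideal.span (Set.range fun i => Polynomial.aeval (X i : MvPolynomial (ι) R) (f i))

lemma rel_mem (i : ι) :
    Polynomial.aeval (X i : MvPolynomial (ι) R) (f i) ∈ relIdeal f :=
  Ideal.subset_span ⟨i, rfl⟩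

/-- `X i ↦ 1 ⊗ … ⊗ root ⊗ … ⊗ 1`. -/
noncomputable def toTensorAux : MvPolynomial (ι) R →ₐ[R] ⨂[R] i, AdjoinRoot (f i) :=
  aeval fun i => singleAlgHom i (AdjoinRoot.root (f i))

lemma toTensorAux_X (i : ι) :
    toTensorAux f (X i) = singleAlgHom i (AdjoinRoot.root (f i)) := by
  rw [toTensorAux, aeval_X]

lemma toTensorAux_rel (i : ι) :
    toTensorAux f (Polynomial.aeval (X i : MvPolynomial (ι) R) (f i)) = 0 := by
  rw [← Polynomial.aeval_algHom_apply, toTensorAux_X, Polynomial.aeval_algHom_apply,
    AdjoinRoot.aeval_eq, AdjoinRoot.mk_self, map_zero]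

/-- The comparison map to the tensor product. -/
noncomputable def toTensor :
    (MvPolynomial (ι) R ⧸ relIdeal f) →ₐ[R] ⨂[R] i, AdjoinRoot (f i) :=
  Ideal.Quotient.liftₐ (relIdeal f) (toTensorAux f) (by
    have h : relIdeal f ≤ RingHom.ker (toTensorAux f).toRingHom := by
      rw [relIdeal, Ideal.span_le]
      rintro _ ⟨i, rfl⟩
      exact toTensorAux_rel f i
    exact fun a ha => h ha)

lemma toTensor_mk_X (i : ι) :
    toTensor f (Ideal.Quotient.mk (relIdeal f) (X i)) =
      singleAlgHom i (AdjoinRoot.root (f i)) := by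
  rw [toTensor]
  erw [Ideal.Quotient.liftₐ_apply, Ideal.Quotient.lift_mk]
  exact toTensorAux_X f i

/-- The `i`-th coordinate map `AdjoinRoot (f i) → R[u]/(f(u))`. -/
noncomputable def gen (i : ι) :
    AdjoinRoot (f i) →ₐ[R] (MvPolynomial (ι) R ⧸ relIdeal f) :=
  AdjoinRoot.liftAlgHom (f i) (Algebra.ofId R _) (Ideal.Quotient.mk (relIdeal f) (X i)) (by
    have h1 : Polynomial.eval₂ (Algebra.ofId R (MvPolynomial (ι) R ⧸ relIdeal f) : R →+* _)
        (Ideal.Quotient.mk (relIdeal f) (X i)) (f i) =
        Polynomial.aeval (Ideal.Quotient.mkₐ R (relIdeal f) (X i)) (f i) := rfl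
    rw [h1, Polynomial.aeval_algHom_apply]
    exact Ideal.Quotient.eq_zero_iff_mem.mpr (rel_mem f i))

lemma gen_root (i : ι) :
    gen f i (AdjoinRoot.root (f i)) = Ideal.Quotient.mk (relIdeal f) (X i) := by
  rw [gen, AdjoinRoot.liftAlgHom_root]

/-- The multilinear map `x ↦ ∏ i, gen i (x i)`. -/
noncomputable def genMulti :
    MultilinearMap R (fun i => AdjoinRoot (f i)) (MvPolynomial (ι) R ⧸ relIdeal f) :=
  (MultilinearMap.mkPiAlgebra R (ι) (MvPolynomial (ι) R ⧸ relIdeal f)).compLinearMap
    fun i => (gen f i).toLinearMap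

lemma genMulti_apply (x : Π i, AdjoinRoot (f i)) : genMulti f x = ∏ i, gen f i (x i) := by
  simp [genMulti]

lemma genMulti_one : genMulti f 1 = 1 := by
  rw [genMulti_apply]
  simp

lemma genMulti_mul (x y : Π i, AdjoinRoot (f i)) :
    genMulti f (x * y) = genMulti f x * genMulti f y := by
  rw [genMulti_apply, genMulti_apply, genMulti_apply, ← Finset.prod_mul_distrib]
  simp

/-- The inverse comparison map. -/
noncomputable def ofTensor :
    (⨂[R] i, AdjoinRoot (f i)) →ₐ[R] (MvPolynomial (ι) R ⧸ relIdeal f) :=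
  PiTensorProduct.liftAlgHom (genMulti f) (genMulti_one f) (genMulti_mul f)

lemma ofTensor_tprod (x : Π i, AdjoinRoot (f i)) :
    ofTensor f (tprod R x) = ∏ i, gen f i (x i) := by
  rw [ofTensor, PiTensorProduct.liftAlgHom_apply, PiTensorProduct.lift.tprod, genMulti_apply]

lemma ofTensor_single (i : ι) (a : AdjoinRoot (f i)) :
    ofTensor f (singleAlgHom i a) = gen f i a := by
  rw [singleAlgHom_apply, ofTensor_tprod, Finset.prod_eq_single i]
  · simp
  · intro j _ hj
    simp [hj]
  · intro h
    exact absurd (Finset.mem_univ i) h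

lemma ofTensor_comp_toTensor :
    (ofTensor f).comp (toTensor f) = AlgHom.id R _ := by
  apply Ideal.Quotient.algHom_ext
  apply MvPolynomial.algHom_ext
  intro i
  simp only [AlgHom.comp_apply, Ideal.Quotient.mkₐ_eq_mk, AlgHom.id_apply]
  rw [toTensor_mk_X, ofTensor_single, gen_root]

lemma toTensor_comp_ofTensor :
    (toTensor f).comp (ofTensor f) = AlgHom.id R _ := by
  apply PiTensorProduct.algHom_ext
  intro i
  apply AdjoinRoot.algHom_ext
  simp only [AlgHom.comp_apply, AlgHom.id_apply]
  rw [ofTensor_single, gen_root, toTensor_mk_X]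

/-- `R[u_1..u_n]/(f_i(u_i)) ≃ ⨂ R[u_i]/(f_i)`. -/
noncomputable def equivTensor :
    (MvPolynomial (ι) R ⧸ relIdeal f) ≃ₐ[R] ⨂[R] i, AdjoinRoot (f i) :=
  AlgEquiv.ofAlgHom (toTensor f) (ofTensor f) (toTensor_comp_ofTensor f) (ofTensor_comp_toTensor f)

section Monic

variable (hf : ∀ i, (f i).Monic)

/-- The monomial basis of the tensor product. -/
noncomputable def basisTensor :
    Module.Basis (Π i, Fin (AdjoinRoot.powerBasis' (hf i)).dim) R (⨂[R] i, AdjoinRoot (f i)) :=
  Basis.piTensorProduct fun i => (AdjoinRoot.powerBasis' (hf i)).basis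

/-- The monomial basis `u^e`, `e i < deg f i`. -/
noncomputable def basisQuot :
    Module.Basis (Π i, Fin (AdjoinRoot.powerBasis' (hf i)).dim) R
      (MvPolynomial (ι) R ⧸ relIdeal f) :=
  (basisTensor f hf).map (equivTensor f).symm.toLinearEquiv

lemma basisQuot_apply (e : Π i, Fin (AdjoinRoot.powerBasis' (hf i)).dim) :
    basisQuot f hf e = ∏ i, Ideal.Quotient.mk (relIdeal f) (X i) ^ (e i : ℕ) := by
  rw [basisQuot, Module.Basis.map_apply, basisTensor, Basis.piTensorProduct_apply]
  change ofTensor f _ = _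
  rw [ofTensor_tprod]
  refine Finset.prod_congr rfl fun i _ => ?_
  rw [PowerBasis.basis_eq_pow, map_pow, AdjoinRoot.powerBasis'_gen, gen_root]

include hf in
theorem free : Module.Free R (MvPolynomial (ι) R ⧸ relIdeal f) :=
  Module.Free.of_basis (basisQuot f hf)

include hf in
theorem finite : Module.Finite R (MvPolynomial (ι) R ⧸ relIdeal f) :=
  Module.Finite.of_basis (basisQuot f hf)

include hf in
theorem finrank_eq [Nontrivial R] :
    Module.finrank R (MvPolynomial (ι) R ⧸ relIdeal f) = ∏ i, (f i).natDegree := by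
  rw [Module.finrank_eq_card_basis (basisQuot f hf), Fintype.card_pi]
  refine Finset.prod_congr rfl fun i _ => ?_
  rw [Fintype.card_fin, AdjoinRoot.powerBasis'_dim]

include hf in
theorem algebraMap_injective [Nontrivial (MvPolynomial (ι) R ⧸ relIdeal f)] :
    Function.Injective (algebraMap R (MvPolynomial (ι) R ⧸ relIdeal f)) := by
  have := free f hf
  exact FaithfulSMul.algebraMap_injective R _

end Monic


section Extra

variable {R : Type u} [CommRing R] {ι : Type v} [Fintype ι] [DecidableEq ι] (f : ι → Polynomial R)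

/-- The class of `X i` is a root of `f i`. -/
lemma aeval_mk_X (i : ι) :
    Polynomial.aeval (Ideal.Quotient.mk (relIdeal f) (X i)) (f i) = 0 := by
  have h2 := Polynomial.aeval_algHom_apply (Ideal.Quotient.mkₐ R (relIdeal f))
    (X i : MvPolynomial ι R) (f i)
  have h3 : Ideal.Quotient.mkₐ R (relIdeal f)
      (Polynomial.aeval (X i : MvPolynomial ι R) (f i)) = 0 :=
    Ideal.Quotient.eq_zero_iff_mem.mpr (rel_mem _ i)
  rw [h3] at h2
  exact h2

variable (hf : ∀ i, (f i).Monic) (d : ℕ) (hd : ∀ i, (f i).natDegree = d)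

/-- The monomial basis, indexed by `ι → Fin d` when all degrees equal `d`. -/
noncomputable def basisQuot' : Module.Basis (ι → Fin d) R (MvPolynomial ι R ⧸ relIdeal f) :=
  (basisQuot f hf).reindex (Equiv.piCongrRight fun i =>
    finCongr (by rw [AdjoinRoot.powerBasis'_dim, hd i]))

lemma basisQuot'_apply (e : ι → Fin d) :
    basisQuot' f hf d hd e = ∏ i, Ideal.Quotient.mk (relIdeal f) (X i) ^ (e i : ℕ) := by
  rw [basisQuot', Module.Basis.reindex_apply, basisQuot_apply]
  refine Finset.prod_congr rfl fun i _ => ?_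
  congr 1

end Extra

end Groth.Agent.R2.H73.RelQuot
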