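/-
helper73: the complete intersection `B = R[Z_j : j ≠ i₀]/(Z_j^p - (μ a₀ a_j)^(p-1) Z_j - (a₀^p x_j - a_j^p x₀))`
of the minor elements `z_j = a₀ u_j - a_j u₀` in the Artin–Schreier family
`A = R[u]/(u_i^p - (μ a_i)^(p-1) u_i - x_i)`: the map `B → A`, `Z_j ↦ z_j` is injective.
Used for S15807, S15808.
-/
import Mathlib
import Groth.Agent.R2.H73RelQuot
import Groth.Agent.R2.H73ASMinor

set_option autoImplicit false
set_option linter.unusedSectionVars false
universe u

open MvPolynomial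

namespace Groth.Agent.R2.H73.ASMinorCI

open Groth.Agent.R2.H73.ASFamily Groth.Agent.R2.H73.ASMinor

section CharP

variable {R : Type u} [CommRing R] (p : ℕ) [hp : Fact p.Prime] [CharP R p]

/-- Freshman's dream in an algebra over a ring of characteristic `p` (possibly the zero ring). -/
lemma add_pow_char_algebra {S : Type*} [CommRing S] [Algebra R S] (y z : S) :
    (y + z) ^ p = y ^ p + z ^ p := by
  by_cases h : Subsingleton S
  · exact Subsingleton.elim _ _
  rw [not_subsingleton_iff_nontrivial] at h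
  have h1 : ((p : ℕ) : S) = 0 := by
    rw [← map_natCast (algebraMap R S), CharP.cast_eq_zero, map_zero]
  have : CharP S p := (CharP.charP_iff_prime_eq_zero hp.out).mpr h1
  exact add_pow_char y z p

lemma sub_pow_char_algebra {S : Type*} [CommRing S] [Algebra R S] (y z : S) :
    (y - z) ^ p = y ^ p - z ^ p := by
  have h := add_pow_char_algebra (R := R) p (y - z) z
  rw [sub_add_cancel] at h
  rw [h]
  ring

end CharP

section Ring

/-- The key identity behind the inverse substitution `u_j = (Z_j + a_j u₀)/a₀`. -/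
lemma key_identity {S : Type*} [CommRing S] (Q α A0 Ai m P0 Pi W W0 Wp W0p X0 Xi : S)
    (h0 : W0p = m * P0 * W0 + X0)
    (hj : Wp = m * P0 * Pi * W + (P0 * A0 * Xi - Pi * Ai * X0))
    (hQ : Q * P0 = 1) (hα : α * A0 = 1) :
    Q * α * (Wp + Pi * Ai * W0p) = m * Pi * (α * (W + Ai * W0)) + Xi := by
  linear_combination (Q * α) * hj + (Q * α * Pi * Ai) * h0 +
    (α * m * Pi * (W + Ai * W0) + α * A0 * Xi) * hQ + Xi * hα

end Ring


section Source

variable {R : Type u} [CommRing R] {n : ℕ} (p : ℕ) [hp : Fact p.Prime] [CharP R p]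
  (a x : Fin n → R) (μ : R) (i₀ : Fin n)

/-- The index type of the minor elements through `i₀`. -/
abbrev JJ : Type := {j : Fin n // j ≠ i₀}

/-- The relations among the minor elements. -/
noncomputable def rFam : JJ i₀ → Polynomial R := fun j =>
  asPoly p ((μ * a i₀ * a j.1) ^ (p - 1)) (a i₀ ^ p * x j.1 - a j.1 ^ p * x i₀)

omit [CharP R p] in
lemma rFam_monic (j : JJ i₀) : (rFam p a x μ i₀ j).Monic := asPoly_monic (two_le_p p) _ _

omit [CharP R p] in
lemma rFam_natDegree [Nontrivial R] (j : JJ i₀) : (rFam p a x μ i₀ j).natDegree = p :=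
  asPoly_natDegree (two_le_p p) _ _

/-- The complete intersection ring of the minor elements. -/
abbrev CI : Type u := MvPolynomial (JJ i₀) R ⧸ RelQuot.relIdeal (rFam p a x μ i₀)

/-- The Artin–Schreier family with `c_i = μ a_i`. -/
abbrev AA : Type u := ASQuot p (fun i => μ * a i) x

/-- The minor elements. -/
noncomputable abbrev zz : JJ i₀ → AA p a x μ := zmin p (fun i => μ * a i) x a i₀

lemma pow_eq_pow_pred_mul {S : Type*} [Monoid S] (y : S) : y ^ p = y ^ (p - 1) * y := by
  rw [← pow_succ, Nat.sub_add_cancel hp.out.one_le]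

/-- The relation satisfied by the minor element `z_j`. -/
lemma zz_rel (j : JJ i₀) :
    zz p a x μ i₀ j ^ p = algebraMap R _ ((μ * a i₀ * a j.1) ^ (p - 1)) * zz p a x μ i₀ j +
      algebraMap R _ (a i₀ ^ p * x j.1 - a j.1 ^ p * x i₀) := by
  have hU := uq_rel p (fun i => μ * a i) x j.1
  have hU0 := uq_rel p (fun i => μ * a i) x i₀
  rw [zz, zmin, sub_pow_char_algebra (R := R) p, mul_pow, mul_pow, hU, hU0]
  simp only [map_mul, map_sub, map_pow, mul_pow]
  rw [pow_eq_pow_pred_mul p (algebraMap R (AA p a x μ) (a i₀)),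
    pow_eq_pow_pred_mul p (algebraMap R (AA p a x μ) (a j.1))]
  ring

/-- `Z_j ↦ z_j` on polynomials. -/
noncomputable def phiAux : MvPolynomial (JJ i₀) R →ₐ[R] AA p a x μ := aeval (zz p a x μ i₀)

lemma phiAux_rel (j : JJ i₀) :
    phiAux p a x μ i₀ (Polynomial.aeval (X j : MvPolynomial (JJ i₀) R) (rFam p a x μ i₀ j)) = 0 := by
  rw [← Polynomial.aeval_algHom_apply, phiAux, aeval_X, rFam, aeval_asPoly, zz_rel]
  ring

lemma relIdeal_le_ker :
    RelQuot.relIdeal (rFam p a x μ i₀) ≤ RingHom.ker (phiAux p a x μ i₀) := by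
  refine Ideal.span_le.mpr ?_
  rintro _ ⟨j, rfl⟩
  exact phiAux_rel p a x μ i₀ j

/-- The comparison map `B → A`, `Z_j ↦ z_j`. -/
noncomputable def phi : CI p a x μ i₀ →ₐ[R] AA p a x μ :=
  Ideal.Quotient.liftₐ _ (phiAux p a x μ i₀) (fun _ hb => relIdeal_le_ker p a x μ i₀ hb)

lemma phi_mk (q : MvPolynomial (JJ i₀) R) :
    phi p a x μ i₀ (Ideal.Quotient.mk _ q) = phiAux p a x μ i₀ q := by
  rw [phi]
  erw [Ideal.Quotient.liftₐ_apply, Ideal.Quotient.lift_mk]

end Source


section Target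

variable {R : Type u} [CommRing R] {n : ℕ} (p : ℕ) [hp : Fact p.Prime] [CharP R p]
  (a x : Fin n → R) (μ : R) (i₀ : Fin n) (K : Type u) [Field K] [Algebra R K]

/-- The relations of the target ring: the `i₀`-th Artin–Schreier equation and the minor relations,
over `K`. -/
noncomputable def gFam : Option (JJ i₀) → Polynomial K
  | none => asPoly p (algebraMap R K ((μ * a i₀) ^ (p - 1))) (algebraMap R K (x i₀))
  | some j => asPoly p (algebraMap R K ((μ * a i₀ * a j.1) ^ (p - 1)))
      (algebraMap R K (a i₀ ^ p * x j.1 - a j.1 ^ p * x i₀))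

omit [CharP R p] in
lemma gFam_monic (o : Option (JJ i₀)) : (gFam p a x μ i₀ K o).Monic := by
  cases o <;> exact asPoly_monic (two_le_p p) _ _

omit [CharP R p] in
lemma gFam_natDegree (o : Option (JJ i₀)) : (gFam p a x μ i₀ K o).natDegree = p := by
  cases o <;> exact asPoly_natDegree (two_le_p p) _ _

/-- The target ring `K[w₀, w_j]/(…)`. -/
abbrev CC : Type u := MvPolynomial (Option (JJ i₀)) K ⧸ RelQuot.relIdeal (gFam p a x μ i₀ K)

/-- The class of the variable `w_o`. -/
noncomputable abbrev ww (o : Option (JJ i₀)) : CC p a x μ i₀ K := Ideal.Quotient.mk _ (X o)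

omit [CharP R p] in
lemma ww_none_rel :
    ww p a x μ i₀ K none ^ p =
      algebraMap R (CC p a x μ i₀ K) ((μ * a i₀) ^ (p - 1)) * ww p a x μ i₀ K none +
        algebraMap R (CC p a x μ i₀ K) (x i₀) := by
  have h := RelQuot.aeval_mk_X (gFam p a x μ i₀ K) none
  rw [gFam, aeval_asPoly, ← IsScalarTower.algebraMap_apply, ← IsScalarTower.algebraMap_apply] at h
  linear_combination h

omit [CharP R p] in
lemma ww_some_rel (j : JJ i₀) :
    ww p a x μ i₀ K (some j) ^ p =
      algebraMap R (CC p a x μ i₀ K) ((μ * a i₀ * a j.1) ^ (p - 1)) * ww p a x μ i₀ K (some j) +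
        algebraMap R (CC p a x μ i₀ K) (a i₀ ^ p * x j.1 - a j.1 ^ p * x i₀) := by
  have h := RelQuot.aeval_mk_X (gFam p a x μ i₀ K) (some j)
  rw [gFam, aeval_asPoly, ← IsScalarTower.algebraMap_apply, ← IsScalarTower.algebraMap_apply] at h
  linear_combination h

/-- The images of the `u_i` under the inverse substitution. -/
noncomputable def vv (i : Fin n) : CC p a x μ i₀ K :=
  if h : i = i₀ then ww p a x μ i₀ K none
  else algebraMap K (CC p a x μ i₀ K) (algebraMap R K (a i₀))⁻¹ *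
    (ww p a x μ i₀ K (some ⟨i, h⟩) + algebraMap R (CC p a x μ i₀ K) (a i) * ww p a x μ i₀ K none)

omit [CharP R p] hp in
lemma vv_self : vv p a x μ i₀ K i₀ = ww p a x μ i₀ K none := by
  rw [vv, dif_pos rfl]

omit [CharP R p] hp in
lemma vv_ne (j : JJ i₀) : vv p a x μ i₀ K j.1 =
    algebraMap K (CC p a x μ i₀ K) (algebraMap R K (a i₀))⁻¹ *
      (ww p a x μ i₀ K (some j) + algebraMap R (CC p a x μ i₀ K) (a j.1) * ww p a x μ i₀ K none) := by
  rw [vv, dif_neg j.2]

omit [CharP R p] hp in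
lemma inv_mul_a0 (ha₀ : algebraMap R K (a i₀) ≠ 0) :
    algebraMap K (CC p a x μ i₀ K) (algebraMap R K (a i₀))⁻¹ *
      algebraMap R (CC p a x μ i₀ K) (a i₀) = 1 := by
  rw [IsScalarTower.algebraMap_apply R K (CC p a x μ i₀ K), ← map_mul, inv_mul_cancel₀ ha₀, map_one]

/-- The `v_i` satisfy the Artin–Schreier equations. -/
lemma vv_rel (ha₀ : algebraMap R K (a i₀) ≠ 0) (i : Fin n) :
    vv p a x μ i₀ K i ^ p =
      algebraMap R (CC p a x μ i₀ K) ((μ * a i) ^ (p - 1)) * vv p a x μ i₀ K i +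
        algebraMap R (CC p a x μ i₀ K) (x i) := by
  by_cases h : i = i₀
  · subst h
    rw [vv_self]
    exact ww_none_rel p a x μ i K
  · have hα := inv_mul_a0 p a x μ i₀ K ha₀
    rw [vv_ne p a x μ i₀ K ⟨i, h⟩]
    set α := algebraMap K (CC p a x μ i₀ K) (algebraMap R K (a i₀))⁻¹ with hαdef
    have h0 := ww_none_rel p a x μ i₀ K
    have hj := ww_some_rel p a x μ i₀ K ⟨i, h⟩
    rw [mul_pow, add_pow_char_algebra (R := R) p, mul_pow, pow_eq_pow_pred_mul p α]
    simp only [map_mul, map_sub, map_pow, mul_pow] at h0 hj ⊢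
    rw [pow_eq_pow_pred_mul p (algebraMap R (CC p a x μ i₀ K) (a i₀)),
      pow_eq_pow_pred_mul p (algebraMap R (CC p a x μ i₀ K) (a i))] at hj
    rw [pow_eq_pow_pred_mul p (algebraMap R (CC p a x μ i₀ K) (a i))]
    have hQ : α ^ (p - 1) * algebraMap R (CC p a x μ i₀ K) (a i₀) ^ (p - 1) = 1 := by
      rw [← mul_pow, hα, one_pow]
    exact key_identity _ _ _ _ _ _ _ _ _ _ _ _ _ h0 hj hQ hα

end Target


section Maps

variable {R : Type u} [CommRing R] {n : ℕ} (p : ℕ) [hp : Fact p.Prime] [CharP R p]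
  (a x : Fin n → R) (μ : R) (i₀ : Fin n) (K : Type u) [Field K] [Algebra R K]
  (ha₀ : algebraMap R K (a i₀) ≠ 0)

/-- `u_i ↦ v_i` on polynomials. -/
noncomputable def psiAux : MvPolynomial (Fin n) R →ₐ[R] CC p a x μ i₀ K := aeval (vv p a x μ i₀ K)

include ha₀ in
lemma psiAux_rel (i : Fin n) :
    psiAux p a x μ i₀ K (Polynomial.aeval (X i : MvPolynomial (Fin n) R)
      (asFam p (fun i => (μ * a i) ^ (p - 1)) x i)) = 0 := by
  rw [← Polynomial.aeval_algHom_apply, psiAux, aeval_X, asFam, aeval_asPoly,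
    vv_rel p a x μ i₀ K ha₀]
  ring

/-- The inverse substitution `A → C`. -/
noncomputable def psi : AA p a x μ →ₐ[R] CC p a x μ i₀ K :=
  Ideal.Quotient.liftₐ _ (psiAux p a x μ i₀ K) (by
    have h : relIdeal (asFam p (fun i => (μ * a i) ^ (p - 1)) x) ≤
        RingHom.ker (psiAux p a x μ i₀ K).toRingHom := by
      refine Ideal.span_le.mpr ?_
      rintro _ ⟨i, rfl⟩
      exact psiAux_rel p a x μ i₀ K ha₀ i
    exact fun b hb => h hb)

lemma psi_uq (i : Fin n) :
    psi p a x μ i₀ K ha₀ (uq p (fun i => μ * a i) x i) = vv p a x μ i₀ K i := by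
  rw [psi, uq, uu]
  erw [Ideal.Quotient.liftₐ_apply, Ideal.Quotient.lift_mk]
  change psiAux p a x μ i₀ K (X i) = _
  rw [psiAux, aeval_X]

lemma psi_zz (j : JJ i₀) :
    psi p a x μ i₀ K ha₀ (zz p a x μ i₀ j) = ww p a x μ i₀ K (some j) := by
  have hα := inv_mul_a0 p a x μ i₀ K ha₀
  rw [zz, zmin, map_sub, map_mul, map_mul, AlgHom.commutes, AlgHom.commutes, psi_uq, psi_uq,
    vv_self, vv_ne]
  linear_combination (ww p a x μ i₀ K (some j) +
    algebraMap R (CC p a x μ i₀ K) (a j.1) * ww p a x μ i₀ K none) * hα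

/-- `Z_j ↦ w_j` on polynomials. -/
noncomputable def iotaAux : MvPolynomial (JJ i₀) R →ₐ[R] CC p a x μ i₀ K :=
  aeval fun j => ww p a x μ i₀ K (some j)

lemma psi_comp_phiAux :
    (psi p a x μ i₀ K ha₀).comp (phiAux p a x μ i₀) = iotaAux p a x μ i₀ K := by
  apply MvPolynomial.algHom_ext
  intro j
  rw [AlgHom.comp_apply, phiAux, aeval_X, psi_zz, iotaAux, aeval_X]

end Maps


section Inj

variable {R : Type u} [CommRing R] {n : ℕ} (p : ℕ) [hp : Fact p.Prime] [CharP R p]
  (a x : Fin n → R) (μ : R) (i₀ : Fin n) (K : Type u) [Field K] [Algebra R K]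

lemma iotaAux_rel (j : JJ i₀) :
    iotaAux p a x μ i₀ K
      (Polynomial.aeval (X j : MvPolynomial (JJ i₀) R) (rFam p a x μ i₀ j)) = 0 := by
  rw [← Polynomial.aeval_algHom_apply, iotaAux, aeval_X, rFam, aeval_asPoly, ww_some_rel]
  ring

/-- `B → C`, `Z_j ↦ w_j`. -/
noncomputable def iota : CI p a x μ i₀ →ₐ[R] CC p a x μ i₀ K :=
  Ideal.Quotient.liftₐ _ (iotaAux p a x μ i₀ K) (by
    have h : RelQuot.relIdeal (rFam p a x μ i₀) ≤ RingHom.ker (iotaAux p a x μ i₀ K).toRingHom := by
      refine Ideal.span_le.mpr ?_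
      rintro _ ⟨j, rfl⟩
      exact iotaAux_rel p a x μ i₀ K j
    exact fun b hb => h hb)

lemma iota_mk (q : MvPolynomial (JJ i₀) R) :
    iota p a x μ i₀ K (Ideal.Quotient.mk _ q) = iotaAux p a x μ i₀ K q := by
  rw [iota]
  erw [Ideal.Quotient.liftₐ_apply, Ideal.Quotient.lift_mk]

/-- Extension of an exponent vector by `0` at `i₀`. -/
def ext (e : JJ i₀ → Fin p) : Option (JJ i₀) → Fin p := fun o => o.elim ⟨0, hp.out.pos⟩ e

lemma ext_injective : Function.Injective (ext p i₀) :=
  fun _ _ h => funext fun j => congrFun h (some j)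

variable [Nontrivial R]

lemma iota_basis (e : JJ i₀ → Fin p) :
    iota p a x μ i₀ K (RelQuot.basisQuot' (rFam p a x μ i₀) (rFam_monic p a x μ i₀) p
      (rFam_natDegree p a x μ i₀) e) =
    RelQuot.basisQuot' (gFam p a x μ i₀ K) (gFam_monic p a x μ i₀ K) p
      (gFam_natDegree p a x μ i₀ K) (ext p i₀ e) := by
  rw [RelQuot.basisQuot'_apply, RelQuot.basisQuot'_apply, map_prod, Fintype.prod_option]
  simp only [ext, Option.elim_none, Option.elim_some, pow_zero, one_mul, map_pow]
  refine Finset.prod_congr rfl fun j _ => ?_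
  rw [iota_mk, iotaAux, aeval_X]

theorem iota_injective (hinj : Function.Injective (algebraMap R K)) :
    Function.Injective (iota p a x μ i₀ K) := by
  rw [injective_iff_map_eq_zero]
  intro b hb
  set BQ := RelQuot.basisQuot' (rFam p a x μ i₀) (rFam_monic p a x μ i₀) p
      (rFam_natDegree p a x μ i₀) with hBQ
  set BC := RelQuot.basisQuot' (gFam p a x μ i₀ K) (gFam_monic p a x μ i₀ K) p
      (gFam_natDegree p a x μ i₀ K) with hBC
  have h1 : b = ∑ e, BQ.repr b e • BQ e := (BQ.sum_repr b).symm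
  have hli : LinearIndependent K (BC ∘ ext p i₀) :=
    BC.linearIndependent.comp _ (ext_injective p i₀)
  have h2 : ∑ e, algebraMap R K (BQ.repr b e) • (BC ∘ ext p i₀) e = 0 := by
    rw [h1, _root_.map_sum] at hb
    rw [← hb]
    refine Finset.sum_congr rfl fun e _ => ?_
    rw [map_smul, hBQ, iota_basis, algebraMap_smul, Function.comp_apply]
  have h3 := Fintype.linearIndependent_iff.mp hli _ h2
  have h4 : ∀ e, BQ.repr b e = 0 := fun e => hinj (by rw [h3 e, map_zero])
  rw [h1]
  exact Finset.sum_eq_zero fun e _ => by rw [h4 e, zero_smul]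

end Inj

section Main

variable {R : Type u} [CommRing R] [Nontrivial R] {n : ℕ} (p : ℕ) [hp : Fact p.Prime] [CharP R p]
  (a x : Fin n → R) (μ : R) (i₀ : Fin n) (K : Type u) [Field K] [Algebra R K]
  (ha₀ : algebraMap R K (a i₀) ≠ 0) (hinj : Function.Injective (algebraMap R K))

include ha₀ hinj in
/-- The kernel of `Z_j ↦ z_j` is generated by the minor relations. -/
theorem ker_phiAux :
    RingHom.ker (phiAux p a x μ i₀) = RelQuot.relIdeal (rFam p a x μ i₀) := by
  apply le_antisymm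
  · intro q hq
    rw [RingHom.mem_ker] at hq
    have h1 : iotaAux p a x μ i₀ K q = 0 := by
      rw [← psi_comp_phiAux p a x μ i₀ K ha₀, AlgHom.comp_apply, hq, map_zero]
    rw [← iota_mk] at h1
    have h2 := iota_injective p a x μ i₀ K hinj (h1.trans (map_zero _).symm)
    exact Ideal.Quotient.eq_zero_iff_mem.mp h2
  · exact relIdeal_le_ker p a x μ i₀

include ha₀ hinj in
theorem phi_injective : Function.Injective (phi p a x μ i₀) := by
  rw [injective_iff_map_eq_zero]
  intro b hb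
  obtain ⟨q, rfl⟩ := Ideal.Quotient.mk_surjective b
  rw [phi_mk] at hb
  have : q ∈ RingHom.ker (phiAux p a x μ i₀) := hb
  rw [ker_phiAux p a x μ i₀ K ha₀ hinj] at this
  exact Ideal.Quotient.eq_zero_iff_mem.mpr this

end Main

end Groth.Agent.R2.H73.ASMinorCI
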