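/-
helper73: invariants of an automorphism of a normal domain are normal; a subring `B` of the
invariants `F` with `F[1/s] = B[1/s]` has `B[1/s]` normal.  Used for S15808.
-/
import Mathlib

set_option autoImplicit false
universe u v

namespace Groth.Agent.R2.H73.FixLoc

section Fixed

variable {A : Type u} [CommRing A] [IsDomain A] [IsIntegrallyClosed A] (σ : A ≃+* A)

/-- The subring of elements fixed by `σ`. -/
abbrev fixedSubring : Subring A := RingHom.eqLocus (σ : A →+* A) (RingHom.id A)

omit [IsDomain A] [IsIntegrallyClosed A] in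
lemma mem_fixedSubring (t : A) : t ∈ fixedSubring σ ↔ σ t = t := Iff.rfl

/-- The invariants of an automorphism of an integrally closed domain are integrally closed. -/
theorem isIntegrallyClosed_fixedSubring : IsIntegrallyClosed (fixedSubring σ) := by
  set F := fixedSubring σ with hF
  let L := FractionRing A
  let K := FractionRing F
  let g : F →+* L := (algebraMap A L).comp F.subtype
  have hg : Function.Injective g :=
    (IsFractionRing.injective A L).comp Subtype.val_injective
  let j : K →+* L := IsFractionRing.lift hg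
  have hj : ∀ f : F, j (algebraMap F K f) = g f := fun f => IsFractionRing.lift_algebraMap hg f
  rw [isIntegrallyClosed_iff K]
  intro x hx
  have h1 : IsIntegral A (j x) := by
    refine IsIntegral.map_of_comp_eq F.subtype j ?_ hx
    ext f
    exact (hj f).symm
  obtain ⟨t, ht⟩ := IsIntegrallyClosed.algebraMap_eq_of_integral h1
  obtain ⟨f₁, f₂, hf₂, hx'⟩ := IsFractionRing.div_surjective F x
  have hf₂0 : (f₂ : A) ≠ 0 := by
    intro h
    exact nonZeroDivisors.ne_zero hf₂ (Subtype.ext h)
  have h2 : t * (f₂ : A) = (f₁ : A) := by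
    apply IsFractionRing.injective A L
    have h3 : j x = g f₁ / g f₂ := by
      rw [← hx', map_div₀, hj, hj]
    have hgf₂ : g f₂ ≠ 0 := by
      intro h
      exact hf₂0 ((map_eq_zero_iff _ (IsFractionRing.injective A L)).mp h)
    rw [map_mul, ht, h3]
    exact div_mul_cancel₀ _ hgf₂
  have h4 : σ t = t := by
    have h5 := congrArg σ h2
    rw [map_mul] at h5
    have hf₁ : σ (f₁ : A) = f₁ := f₁.2
    have hf₂' : σ (f₂ : A) = f₂ := f₂.2
    rw [hf₁, hf₂', ← h2] at h5
    exact mul_right_cancel₀ hf₂0 h5
  refine ⟨⟨t, h4⟩, ?_⟩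
  apply j.injective
  rw [hj, ← ht]
  rfl

end Fixed

section Away

variable {A : Type u} [CommRing A] [IsDomain A] [IsIntegrallyClosed A] (σ : A ≃+* A)
  {B : Type v} [CommRing B] (φ : B →+* A) (hφ : Function.Injective φ)
  (hfix : ∀ b, σ (φ b) = φ b) (s : B) (hs : φ s ≠ 0)
  (H : ∀ t : A, σ t = t → ∃ (N : ℕ) (b : B), φ s ^ N * t = φ b)

include hφ hfix hs H in
/-- If `B` embeds into the invariants `F` of `σ` and `B[1/s] = F[1/s]`, then `B[1/s]` is
integrally closed. -/
theorem isIntegrallyClosed_away : IsIntegrallyClosed (Localization.Away s) := by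
  set F := fixedSubring σ with hF
  have hFic : IsIntegrallyClosed F := isIntegrallyClosed_fixedSubring σ
  let φF : B →+* F := φ.codRestrict F hfix
  have hφF : ∀ b, ((φF b : F) : A) = φ b := fun b => rfl
  let sF : F := φF s
  have hsF : sF ≠ 0 := by
    intro h
    exact hs (congrArg Subtype.val h)
  have hpow : Submonoid.powers sF ≤ nonZeroDivisors F :=
    Submonoid.powers_le.mpr (mem_nonZeroDivisors_of_ne_zero hsF)
  let D := Localization.Away sF
  have hDic : IsIntegrallyClosed D := isIntegrallyClosed_of_isLocalization D (Submonoid.powers sF) hpow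
  let _ : Algebra B D := ((algebraMap F D).comp φF).toAlgebra
  have halg : ∀ b : B, algebraMap B D b = algebraMap F D (φF b) := fun b => rfl
  have hinjD : Function.Injective (algebraMap F D) := IsLocalization.injective D hpow
  have hloc : IsLocalization (Submonoid.powers s) D := by
    rw [isLocalization_iff]
    refine ⟨?_, ?_, ?_⟩
    · rintro ⟨y, m, rfl⟩
      rw [halg, map_pow, map_pow]
      exact (IsLocalization.Away.algebraMap_isUnit sF).pow m
    · intro z
      obtain ⟨⟨f, ⟨y, m, rfl⟩⟩, hz⟩ := IsLocalization.surj (Submonoid.powers sF) z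
      obtain ⟨N, b, hb⟩ := H f f.2
      refine ⟨(b, ⟨s ^ (m + N), m + N, rfl⟩), ?_⟩
      have hb' : sF ^ N * f = φF b := by
        apply Subtype.ext
        change φ s ^ N * (f : A) = φ b
        exact hb
      simp only at hz ⊢
      rw [halg, halg, map_pow, ← hb', pow_add, map_mul, map_mul, map_pow, map_pow, ← hz, map_pow]
      ring
    · intro b₁ b₂ h
      rw [halg, halg] at h
      have h1 := hinjD h
      have h2 : φ b₁ = φ b₂ := congrArg Subtype.val h1
      exact ⟨1, by rw [hφ h2]⟩
  have e : Localization.Away s ≃ₐ[B] D :=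
    IsLocalization.algEquiv (Submonoid.powers s) (Localization.Away s) D
  exact IsIntegrallyClosed.of_equiv e.symm.toRingEquiv

end Away

end Groth.Agent.R2.H73.FixLoc
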