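/-
helper73: the minor complete intersection `B` of the Artin–Schreier family `A` is a domain and
`B[1/(μ a₀)]` is integrally closed (it is the ring of invariants of the diagonal translation,
localised).  Used for S15808.
-/
import Mathlib
import Groth.Agent.R2.H73ASMinorCI
import Groth.Agent.R2.H73FixLoc

set_option autoImplicit false
set_option linter.unusedSectionVars false
universe u

open MvPolynomial

namespace Groth.Agent.R2.H73.ASMinorCI

open Groth.Agent.R2.H73.ASFamily Groth.Agent.R2.H73.ASMinor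

section Normal

variable {R : Type u} [CommRing R] [IsDomain R] {n : ℕ} (p : ℕ) [hp : Fact p.Prime] [CharP R p]
  (a x : Fin n → R) (μ : R) (i₀ : Fin n) (K : Type u) [Field K] [Algebra R K]
  (ha₀ : algebraMap R K (a i₀) ≠ 0) (hinj : Function.Injective (algebraMap R K))
  [IsDomain (AA p a x μ)]

include ha₀ hinj in
/-- The minor complete intersection is a domain. -/
theorem isDomain_CI : IsDomain (CI p a x μ i₀) :=
  Function.Injective.isDomain (phi p a x μ i₀).toRingHom (phi_injective p a x μ i₀ K ha₀ hinj)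

/-- The diagonal translation `u_i ↦ u_i + μ a_i`. -/
noncomputable def diag : AA p a x μ ≃ₐ[R] AA p a x μ :=
  shiftEquiv p (fun i => μ * a i) x (fun _ => 1)

lemma diag_uq (i : Fin n) :
    diag p a x μ (uq p (fun i => μ * a i) x i) =
      uq p (fun i => μ * a i) x i + algebraMap R _ ((fun i => μ * a i) i) := by
  rw [diag, shiftEquiv_apply, shiftHom_uq, map_one, one_mul]

lemma phi_mem_adjoin (b : CI p a x μ i₀) :
    phi p a x μ i₀ b ∈ Algebra.adjoin R (Set.range (zz p a x μ i₀)) := by
  obtain ⟨q, rfl⟩ := Ideal.Quotient.mk_surjective b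
  rw [phi_mk, Algebra.adjoin_range_eq_range_aeval]
  exact ⟨q, rfl⟩

lemma exists_phi_eq_of_mem_adjoin (t : AA p a x μ)
    (ht : t ∈ Algebra.adjoin R (Set.range (zz p a x μ i₀))) :
    ∃ b : CI p a x μ i₀, phi p a x μ i₀ b = t := by
  rw [Algebra.adjoin_range_eq_range_aeval] at ht
  obtain ⟨q, rfl⟩ := ht
  exact ⟨Ideal.Quotient.mk _ q, phi_mk p a x μ i₀ q⟩

include ha₀ hinj in
/-- `B[1/(μ a₀)]` is integrally closed when `A` is. -/
theorem isIntegrallyClosed_away_CI [IsIntegrallyClosed (AA p a x μ)] (hs : μ * a i₀ ≠ 0) :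
    IsIntegrallyClosed (Localization.Away (algebraMap R (CI p a x μ i₀) (μ * a i₀))) := by
  have hσ := diag_uq p a x μ
  refine FixLoc.isIntegrallyClosed_away (diag p a x μ).toRingEquiv
    (phi p a x μ i₀).toRingHom (phi_injective p a x μ i₀ K ha₀ hinj) ?_ _ ?_ ?_
  · intro b
    exact sigma_fix_adjoin p (fun i => μ * a i) x a μ i₀ (fun _ => rfl) (diag p a x μ) hσ _
      (phi_mem_adjoin p a x μ i₀ b)
  · change phi p a x μ i₀ (algebraMap R (CI p a x μ i₀) (μ * a i₀)) ≠ 0
    rw [AlgHom.commutes, Ne, map_eq_zero_iff _ (algebraMap_injective_ASQuot p (fun i => μ * a i) x)]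
    exact hs
  · intro t ht
    obtain ⟨N, hN⟩ := exists_pow_mul_mem_adjoin_zmin p (fun i => μ * a i) x a μ i₀ (fun _ => rfl)
      (diag p a x μ) hσ t ht
    obtain ⟨b, hb⟩ := exists_phi_eq_of_mem_adjoin p a x μ i₀ _ hN
    refine ⟨N, b, ?_⟩
    change phi p a x μ i₀ (algebraMap R (CI p a x μ i₀) (μ * a i₀)) ^ N * t = phi p a x μ i₀ b
    rw [AlgHom.commutes, hb]

end Normal

section Rank

variable {R : Type u} [CommRing R] [Nontrivial R] {n : ℕ} (p : ℕ) [hp : Fact p.Prime]
  (a x : Fin n → R) (μ : R) (i₀ : Fin n)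

theorem free_CI : Module.Free R (CI p a x μ i₀) :=
  RelQuot.free (rFam p a x μ i₀) (rFam_monic p a x μ i₀)

theorem finrank_CI : Module.finrank R (CI p a x μ i₀) = p ^ (n - 1) := by
  rw [RelQuot.finrank_eq (rFam p a x μ i₀) (rFam_monic p a x μ i₀),
    Finset.prod_congr rfl (fun j _ => rFam_natDegree p a x μ i₀ j), Finset.prod_const,
    Finset.card_univ, Fintype.card_subtype_compl, Fintype.card_subtype_eq, Fintype.card_fin]

end Rank

end Groth.Agent.R2.H73.ASMinorCI
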