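/-
helper73: invariants of the "orthogonal" subgroup `H_s = {ν : Σ ν_i s_i = 0}` of `(ℤ/p)^n` acting on
the Artin–Schreier family `A = R[u]/(u_i^p - (μ a_i)^(p-1) u_i - x_i)`: they are `R[z_s]`,
`z_s = Σ_{s_i ≠ 0} s_i α_i u_i`, and `R[z_s] = R[T]/(f_s)`.  Used for S15810.
-/
import Mathlib
import Groth.Agent.R2.H73ASMinorCI

set_option autoImplicit false
set_option linter.unusedSectionVars false
universe u

open MvPolynomial

namespace Groth.Agent.R2.H73.ASOrtho

open Groth.Agent.R2.H73.ASFamily Groth.Agent.R2.H73.ASMinor Groth.Agent.R2.H73.ASMinorCI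

section Group

variable {R : Type u} [CommRing R] {n : ℕ} (p : ℕ) [hp : Fact p.Prime] [CharP R p]
  (a x : Fin n → R) (μ : R)

/-- The translation `u_i ↦ u_i + ν_i μ a_i`. -/
noncomputable abbrev sh (ν : Fin n → ZMod p) : AA p a x μ ≃ₐ[R] AA p a x μ :=
  shiftEquiv p (fun i => μ * a i) x ν

lemma sh_uq (ν : Fin n → ZMod p) (j : Fin n) :
    sh p a x μ ν (uq p (fun i => μ * a i) x j) =
      uq p (fun i => μ * a i) x j + algebraMap R _ (tau p (ν j) * (μ * a j)) := by
  rw [sh, shiftEquiv_apply, shiftHom_uq]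

lemma sh_add (ν ν' : Fin n → ZMod p) :
    sh p a x μ (ν + ν') = sh p a x μ ν * sh p a x μ ν' := (shiftEquiv_mul p _ x ν ν').symm

lemma sh_comm_apply (ν ν' : Fin n → ZMod p) (t : AA p a x μ) :
    sh p a x μ ν (sh p a x μ ν' t) = sh p a x μ ν' (sh p a x μ ν t) := by
  rw [← AlgEquiv.mul_apply, ← AlgEquiv.mul_apply, ← sh_add, ← sh_add, add_comm]

/-- The translations as a monoid homomorphism. -/
noncomputable def shHom : Multiplicative (Fin n → ZMod p) →* (AA p a x μ ≃ₐ[R] AA p a x μ) where
  toFun ν := sh p a x μ (Multiplicative.toAdd ν)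
  map_one' := shiftEquiv_zero p _ x
  map_mul' _ _ := sh_add p a x μ _ _

/-- An automorphism acting as the `i`-th elementary translation is `sh (single i 1)`. -/
lemma eq_sh_single (i : Fin n) (σ : AA p a x μ ≃ₐ[R] AA p a x μ)
    (hσ : ∀ j, σ (uq p (fun i => μ * a i) x j) = uq p (fun i => μ * a i) x j +
      (if i = j then algebraMap R (AA p a x μ) (μ * a i) else 0)) :
    σ = sh p a x μ (Pi.single i 1) := by
  apply AlgEquiv.coe_toAlgHom_injective
  apply algHom_ext_uq
  intro j
  change σ (uq p (fun i => μ * a i) x j) = sh p a x μ (Pi.single i 1) (uq p (fun i => μ * a i) x j)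
  rw [hσ, sh_uq]
  by_cases h : i = j
  · subst h
    rw [if_pos rfl, Pi.single_eq_same, map_one, one_mul]
  · rw [if_neg h, Pi.single_eq_of_ne (Ne.symm h), map_zero, zero_mul, map_zero]

/-- The product `∏ σ_i ^ ν_i` is the translation by `ν`. -/
lemma list_prod_eq (σ : Fin n → (AA p a x μ ≃ₐ[R] AA p a x μ))
    (hσ : ∀ i j, σ i (uq p (fun i => μ * a i) x j) = uq p (fun i => μ * a i) x j +
      (if i = j then algebraMap R (AA p a x μ) (μ * a i) else 0)) (ν : Fin n → ZMod p) :
    (List.ofFn (fun i : Fin n => σ i ^ (ν i).val)).prod = sh p a x μ ν := by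
  have h1 : ∀ i, σ i ^ (ν i).val =
      shHom p a x μ (Multiplicative.ofAdd (Pi.single i (ν i))) := by
    intro i
    rw [eq_sh_single p a x μ i (σ i) (hσ i), sh, shiftEquiv_pow]
    change _ = sh p a x μ (Pi.single i (ν i))
    congr 1
    funext j
    by_cases h : j = i
    · subst h
      rw [Pi.smul_apply, Pi.single_eq_same, Pi.single_eq_same, nsmul_eq_mul, mul_one,
        ZMod.natCast_zmod_val]
    · rw [Pi.smul_apply, Pi.single_eq_of_ne h, Pi.single_eq_of_ne h, smul_zero]
  have h2 : (fun i : Fin n => σ i ^ (ν i).val) =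
      (shHom p a x μ) ∘ (fun i => Multiplicative.ofAdd (Pi.single i (ν i))) := funext h1
  rw [h2, ← List.map_ofFn, ← map_list_prod, List.prod_ofFn, ← ofAdd_sum, Finset.univ_sum_single]
  rfl

end Group


section Elt

variable {R : Type u} [CommRing R] {n : ℕ} (p : ℕ) [hp : Fact p.Prime] [CharP R p]
  (a x : Fin n → R) (μ : R) (s : Fin n → ZMod p)

/-- Freshman's dream for finite sums in an algebra over a ring of characteristic `p`. -/
lemma sum_pow_char_algebra {S : Type*} [CommRing S] [Algebra R S] {ι : Type*} (t : Finset ι)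
    (f : ι → S) : (∑ i ∈ t, f i) ^ p = ∑ i ∈ t, f i ^ p := by
  classical
  induction t using Finset.induction_on with
  | empty => rw [Finset.sum_empty, Finset.sum_empty, zero_pow hp.out.ne_zero]
  | insert i t hi ih =>
    rw [Finset.sum_insert hi, Finset.sum_insert hi, add_pow_char_algebra (R := R) p, ih]

/-- The support of `s`. -/
def supp : Finset (Fin n) := Finset.univ.filter (fun i => s i ≠ 0)

lemma mem_supp (i : Fin n) : i ∈ supp p s ↔ s i ≠ 0 := by
  rw [supp, Finset.mem_filter]
  exact ⟨fun h => h.2, fun h => ⟨Finset.mem_univ i, h⟩⟩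

/-- `α = ∏_{s_i ≠ 0} a_i`. -/
noncomputable def alph : R := ∏ i ∈ supp p s, a i

/-- `α_i = ∏_{j ≠ i, s_j ≠ 0} a_j`. -/
noncomputable def alphi (i : Fin n) : R := ∏ j ∈ (supp p s).erase i, a j

lemma alph_eq (i : Fin n) (hi : i ∈ supp p s) : alph p a s = a i * alphi p a s i :=
  (Finset.mul_prod_erase (supp p s) a hi).symm

/-- The coefficient of `u_i` in `z_s`. -/
noncomputable def bb (i : Fin n) : R := tau p (s i) * alphi p a s i

/-- `z_s = Σ_{s_i ≠ 0} s_i α_i u_i`. -/
noncomputable def zs : AA p a x μ :=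
  ∑ i ∈ supp p s, algebraMap R (AA p a x μ) (bb p a s i) * uq p (fun i => μ * a i) x i

/-- The constant term of `f_s`. -/
noncomputable def gs : R := ∑ i ∈ supp p s, tau p (s i) * alphi p a s i ^ p * x i

/-- `f_s = T^p - (μ α)^(p-1) T - g_s`. -/
noncomputable def fs : Polynomial R := asPoly p ((μ * alph p a s) ^ (p - 1)) (gs p a x s)

lemma fs_monic : (fs p a x μ s).Monic := asPoly_monic (two_le_p p) _ _

lemma fs_natDegree [Nontrivial R] : (fs p a x μ s).natDegree = p :=
  asPoly_natDegree (two_le_p p) _ _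

lemma sum_supp (ν : Fin n → ZMod p) : ∑ i ∈ supp p s, ν i * s i = ∑ i, ν i * s i := by
  rw [supp, Finset.sum_filter]
  refine Finset.sum_congr rfl fun i _ => ?_
  by_cases h : s i = 0
  · rw [if_neg (not_not.mpr h), h, mul_zero]
  · rw [if_pos h]

/-- The translation by `ν` moves `z_s` by `(ν · s) μ α`. -/
lemma sh_zs (ν : Fin n → ZMod p) :
    sh p a x μ ν (zs p a x μ s) = zs p a x μ s +
      algebraMap R (AA p a x μ) (tau p (∑ i, ν i * s i) * (μ * alph p a s)) := by
  rw [zs, _root_.map_sum]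
  have h1 : ∀ i ∈ supp p s,
      sh p a x μ ν (algebraMap R (AA p a x μ) (bb p a s i) * uq p (fun i => μ * a i) x i) =
      algebraMap R (AA p a x μ) (bb p a s i) * uq p (fun i => μ * a i) x i +
        algebraMap R (AA p a x μ) (tau p (ν i * s i) * (μ * alph p a s)) := by
    intro i hi
    rw [map_mul, AlgEquiv.commutes, sh_uq, mul_add, ← map_mul, alph_eq p a s i hi, bb,
      map_mul (tau p)]
    congr 2
    ring
  rw [Finset.sum_congr rfl h1, Finset.sum_add_distrib, ← _root_.map_sum, ← Finset.sum_mul,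
    ← _root_.map_sum, sum_supp]

/-- The equation satisfied by `z_s`. -/
lemma zs_rel :
    zs p a x μ s ^ p = algebraMap R (AA p a x μ) ((μ * alph p a s) ^ (p - 1)) * zs p a x μ s +
      algebraMap R (AA p a x μ) (gs p a x s) := by
  rw [zs, sum_pow_char_algebra (R := R) p, gs, _root_.map_sum, Finset.mul_sum,
    ← Finset.sum_add_distrib]
  refine Finset.sum_congr rfl fun i hi => ?_
  rw [mul_pow, uq_rel, ← map_pow, bb, mul_pow, tau_pow]
  have h1 : alphi p a s i ^ p * (μ * a i) ^ (p - 1) =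
      (μ * alph p a s) ^ (p - 1) * alphi p a s i := by
    rw [alph_eq p a s i hi, pow_eq_pow_pred_mul p (alphi p a s i)]
    ring
  simp only [map_mul, map_pow] at h1 ⊢
  have h2 := congrArg (algebraMap R (AA p a x μ)) h1
  simp only [map_mul, map_pow] at h2
  linear_combination (algebraMap R (AA p a x μ) (tau p (s i)) * uq p (fun i => μ * a i) x i) * h2

lemma aeval_zs_fs : Polynomial.aeval (zs p a x μ s) (fs p a x μ s) = 0 := by
  rw [fs, aeval_asPoly, zs_rel]
  ring

end Elt


section Ker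

variable {R : Type u} [CommRing R] [IsDomain R] {n : ℕ} (p : ℕ) [hp : Fact p.Prime] [CharP R p]
  (a x : Fin n → R) (μ : R) [IsDomain (AA p a x μ)] (s : Fin n → ZMod p)

lemma exists_dual (hs : s ≠ 0) : ∃ ν₀ : Fin n → ZMod p, ∑ i, ν₀ i * s i = 1 := by
  obtain ⟨i₁, hi₁⟩ := Function.ne_iff.mp hs
  refine ⟨Pi.single i₁ (s i₁)⁻¹, ?_⟩
  rw [Finset.sum_eq_single i₁]
  · rw [Pi.single_eq_same]
    exact inv_mul_cancel₀ hi₁
  · intro j _ hj
    rw [Pi.single_eq_of_ne hj, zero_mul]
  · intro h
    exact absurd (Finset.mem_univ i₁) h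

lemma algebraMap_inj : Function.Injective (algebraMap R (AA p a x μ)) :=
  algebraMap_injective_ASQuot p (fun i => μ * a i) x

lemma charP_AA : CharP (AA p a x μ) p :=
  charP_of_injective_algebraMap (algebraMap_inj p a x μ) p

/-- `1, z_s, …, z_s^(p-1)` are linearly independent over any subring fixed by a translation that
moves `z_s`. -/
theorem eq_zero_of_aeval_zs (hd : μ * alph p a s ≠ 0) (hs : s ≠ 0) (r : Polynomial R)
    (hr : r.natDegree < p) (h0 : Polynomial.aeval (zs p a x μ s) r = 0) : r = 0 := by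
  obtain ⟨ν₀, hν₀⟩ := exists_dual p s hs
  have hchar := charP_AA p a x μ
  have hinj := algebraMap_inj p a x μ
  have he : algebraMap R (AA p a x μ) (μ * alph p a s) ≠ 0 := fun h =>
    hd (hinj (h.trans (map_zero _).symm))
  have hw : sh p a x μ ν₀ (zs p a x μ s) = zs p a x μ s +
      algebraMap R (AA p a x μ) (μ * alph p a s) := by
    rw [sh_zs, hν₀, map_one, one_mul]
  have hsum : ∑ l : Fin p, algebraMap R (AA p a x μ) (r.coeff (l : ℕ)) *
      zs p a x μ s ^ (l : ℕ) = 0 := by
    rw [← h0, Polynomial.aeval_eq_sum_range' hr, Finset.sum_range]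
    refine Finset.sum_congr rfl fun l _ => ?_
    rw [Algebra.smul_def]
  have hzero := eq_zero_of_sum_pow_eq_zero (R := R) p (sh p a x μ ν₀) (zs p a x μ s)
    (algebraMap R (AA p a x μ) (μ * alph p a s)) he hw (AlgEquiv.commutes _ _)
    (fun l : Fin p => algebraMap R (AA p a x μ) (r.coeff (l : ℕ)))
    (fun l => AlgEquiv.commutes _ _) hsum
  ext l
  rw [Polynomial.coeff_zero]
  by_cases hl : l < p
  · have h1 := congrFun hzero ⟨l, hl⟩
    exact hinj (h1.trans (map_zero _).symm)
  · exact Polynomial.coeff_eq_zero_of_natDegree_lt (lt_of_lt_of_le hr (not_lt.mp hl))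

/-- The kernel of `T ↦ z_s` is generated by `f_s`. -/
theorem ker_aeval_zs (hd : μ * alph p a s ≠ 0) (hs : s ≠ 0) :
    RingHom.ker (Polynomial.aeval (zs p a x μ s) : Polynomial R →ₐ[R] AA p a x μ) =
      Ideal.span {fs p a x μ s} := by
  have hmonic := fs_monic p a x μ s
  have hdeg := fs_natDegree p a x μ s
  have hne1 : fs p a x μ s ≠ 1 := by
    intro h
    rw [h, Polynomial.natDegree_one] at hdeg
    have := two_le_p p
    omega
  apply le_antisymm
  · intro q hq
    rw [RingHom.mem_ker] at hq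
    have h1 : Polynomial.aeval (zs p a x μ s) (q %ₘ fs p a x μ s) = 0 := by
      have h2 := congrArg (Polynomial.aeval (zs p a x μ s)) (Polynomial.modByMonic_add_div q (fs p a x μ s))
      rw [map_add, map_mul, aeval_zs_fs, zero_mul, add_zero] at h2
      rw [h2]
      exact hq
    have hlt : (q %ₘ fs p a x μ s).natDegree < p := by
      have := Polynomial.natDegree_modByMonic_lt q hmonic hne1
      rwa [hdeg] at this
    have h3 := eq_zero_of_aeval_zs p a x μ s hd hs _ hlt h1
    rw [Ideal.mem_span_singleton]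
    exact (Polynomial.modByMonic_eq_zero_iff_dvd hmonic).mp h3
  · rw [Ideal.span_le]
    intro q hq
    rw [Set.mem_singleton_iff] at hq
    rw [hq]
    exact aeval_zs_fs p a x μ s

end Ker


section StepA

variable {R : Type u} [CommRing R] [IsDomain R] {n : ℕ} (p : ℕ) [hp : Fact p.Prime] [CharP R p]
  (a x : Fin n → R) (μ : R) [IsDomain (AA p a x μ)] (s : Fin n → ZMod p)
  (ν₀ : Fin n → ZMod p) (hν₀ : ∑ i, ν₀ i * s i = 1) (t : AA p a x μ)
  (ht : ∀ ν : Fin n → ZMod p, ∑ i, ν i * s i = 0 → sh p a x μ ν t = t)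

/-- The conjugates `z_s + m μ α` of `z_s`. -/
noncomputable def zshift (m : ZMod p) : AA p a x μ :=
  zs p a x μ s + algebraMap R (AA p a x μ) (tau p m * (μ * alph p a s))

lemma sh_zshift (ν : Fin n → ZMod p) (m : ZMod p) :
    sh p a x μ ν (zshift p a x μ s m) = zshift p a x μ s (m + ∑ i, ν i * s i) := by
  rw [zshift, map_add, sh_zs, AlgEquiv.commutes, zshift, add_assoc, ← map_add, map_add (tau p)]
  congr 2
  ring

include hν₀ ht in
lemma sh_sh_t (ν : Fin n → ZMod p) (j : ZMod p) :
    sh p a x μ ν (sh p a x μ (j • ν₀) t) = sh p a x μ ((j + ∑ i, ν i * s i) • ν₀) t := by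
  set κ := ∑ i, ν i * s i with hκ
  have h1 : ν + j • ν₀ = (j + κ) • ν₀ + (ν - κ • ν₀) := by
    rw [add_smul]
    abel
  have h2 : ∑ i, (ν - κ • ν₀) i * s i = 0 := by
    have : ∀ i, (ν - κ • ν₀) i * s i = ν i * s i - κ * (ν₀ i * s i) := by
      intro i
      rw [Pi.sub_apply, Pi.smul_apply, _root_.smul_eq_mul]
      ring
    rw [Finset.sum_congr rfl (fun i _ => this i), Finset.sum_sub_distrib, ← Finset.mul_sum, hν₀,
      mul_one, ← hκ, sub_self]
  rw [← AlgEquiv.mul_apply, ← sh_add, h1, sh_add, AlgEquiv.mul_apply, ht _ h2]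

/-- The Lagrange-type polynomial `Σ_j σ₀^j(t) ∏_{m ≠ j} (T - z_m)`. -/
noncomputable def lag : Polynomial (AA p a x μ) :=
  ∑ j : ZMod p, Polynomial.C (sh p a x μ (j • ν₀) t) *
    ∏ m ∈ Finset.univ.erase j, (Polynomial.X - Polynomial.C (zshift p a x μ s m))

include hν₀ ht in
lemma lag_map (ν : Fin n → ZMod p) :
    (lag p a x μ s ν₀ t).map (sh p a x μ ν : AA p a x μ →+* AA p a x μ) = lag p a x μ s ν₀ t := by
  set κ := ∑ i, ν i * s i with hκ
  rw [lag, Polynomial.map_sum]
  have key : ∀ j : ZMod p,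
      (Polynomial.C (sh p a x μ (j • ν₀) t) *
        ∏ m ∈ Finset.univ.erase j, (Polynomial.X - Polynomial.C (zshift p a x μ s m))).map
          (sh p a x μ ν : AA p a x μ →+* AA p a x μ) =
      Polynomial.C (sh p a x μ ((j + κ) • ν₀) t) *
        ∏ m ∈ Finset.univ.erase (j + κ), (Polynomial.X - Polynomial.C (zshift p a x μ s m)) := by
    intro j
    rw [Polynomial.map_mul, Polynomial.map_C, Polynomial.map_prod]
    congr 1
    · congr 1
      exact sh_sh_t p a x μ s ν₀ hν₀ t ht ν j
    · refine Finset.prod_nbij' (fun m => m + κ) (fun m => m - κ) ?_ ?_ ?_ ?_ ?_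
      · intro m hm
        rw [Finset.mem_erase] at hm ⊢
        exact ⟨fun h => hm.1 (add_right_cancel h), Finset.mem_univ _⟩
      · intro m hm
        rw [Finset.mem_erase] at hm ⊢
        refine ⟨fun h => hm.1 ?_, Finset.mem_univ _⟩
        rw [← h, sub_add_cancel]
      · intro m _
        exact add_sub_cancel_right m κ
      · intro m _
        exact sub_add_cancel m κ
      · intro m _
        rw [Polynomial.map_sub, Polynomial.map_X, Polynomial.map_C]
        congr 2
        exact sh_zshift p a x μ s ν m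
  rw [Finset.sum_congr rfl (fun j _ => key j)]
  exact Equiv.sum_comp (Equiv.addRight κ) (fun j => Polynomial.C (sh p a x μ (j • ν₀) t) *
    ∏ m ∈ Finset.univ.erase j, (Polynomial.X - Polynomial.C (zshift p a x μ s m)))

lemma lag_natDegree : (lag p a x μ s ν₀ t).natDegree < p := by
  have hp1 : 1 ≤ p := hp.out.one_le
  refine lt_of_le_of_lt (Polynomial.natDegree_sum_le_of_forall_le _ _ (n := p - 1) ?_) (by omega)
  intro j _
  refine (Polynomial.natDegree_C_mul_le _ _).trans ?_
  refine (Polynomial.natDegree_prod_le _ _).trans ?_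
  refine (Finset.sum_le_sum (fun m _ => Polynomial.natDegree_X_sub_C_le _)).trans ?_
  rw [Finset.sum_const, Finset.card_erase_of_mem (Finset.mem_univ j), Finset.card_univ, ZMod.card,
    _root_.smul_eq_mul, mul_one]

/-- The unit `∏_{m ≠ 0} (-m)` of the prime field. -/
noncomputable def omg : ZMod p := ∏ m ∈ Finset.univ.erase (0 : ZMod p), (-m)

lemma omg_ne_zero : omg p ≠ 0 := by
  rw [omg, Finset.prod_ne_zero_iff]
  intro m hm
  exact neg_ne_zero.mpr (Finset.ne_of_mem_erase hm)

lemma lag_eval :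
    (lag p a x μ s ν₀ t).eval (zs p a x μ s) =
      algebraMap R (AA p a x μ) (tau p (omg p) * (μ * alph p a s) ^ (p - 1)) * t := by
  rw [lag, Polynomial.eval_finsetSum, Finset.sum_eq_single (0 : ZMod p)]
  · rw [Polynomial.eval_mul, Polynomial.eval_C, zero_smul, sh, shiftEquiv_zero, AlgEquiv.one_apply,
      Polynomial.eval_prod, mul_comm]
    congr 1
    have h1 : ∀ m ∈ Finset.univ.erase (0 : ZMod p),
        (Polynomial.X - Polynomial.C (zshift p a x μ s m)).eval (zs p a x μ s) =
        algebraMap R (AA p a x μ) (tau p (-m) * (μ * alph p a s)) := by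
      intro m _
      rw [Polynomial.eval_sub, Polynomial.eval_X, Polynomial.eval_C, zshift, sub_add_cancel_left,
        ← map_neg, map_neg (tau p), neg_mul]
    rw [Finset.prod_congr rfl h1, ← map_prod, Finset.prod_mul_distrib, ← map_prod, Finset.prod_const,
      Finset.card_erase_of_mem (Finset.mem_univ _), Finset.card_univ, ZMod.card, omg]
  · intro j _ hj
    rw [Polynomial.eval_mul, Polynomial.eval_prod,
      Finset.prod_eq_zero (Finset.mem_erase.mpr ⟨Ne.symm hj, Finset.mem_univ (0 : ZMod p)⟩), mul_zero]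
    rw [Polynomial.eval_sub, Polynomial.eval_X, Polynomial.eval_C, zshift, map_zero, zero_mul,
      map_zero, add_zero, sub_self]
  · intro h
    exact absurd (Finset.mem_univ _) h

end StepA


section StepA2

variable {R : Type u} [CommRing R] [IsDomain R] {n : ℕ} (p : ℕ) [hp : Fact p.Prime] [CharP R p]
  (a x : Fin n → R) (μ : R) [IsDomain (AA p a x μ)] (s : Fin n → ZMod p)

/-- An `H_s`-invariant element is, after multiplication by `(μ α)^(p-1)`, a polynomial of degree
`< p` in `z_s` over `R`. -/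
theorem exists_poly_of_fixed (hc : ∀ i, μ * a i ≠ 0) (hs : s ≠ 0) (t : AA p a x μ)
    (ht : ∀ ν : Fin n → ZMod p, ∑ i, ν i * s i = 0 → sh p a x μ ν t = t) :
    ∃ Γ : Polynomial R, Γ.natDegree < p ∧
      Polynomial.aeval (zs p a x μ s) Γ =
        algebraMap R (AA p a x μ) ((μ * alph p a s) ^ (p - 1)) * t := by
  obtain ⟨ν₀, hν₀⟩ := exists_dual p s hs
  have hinj := algebraMap_inj p a x μ
  have hcoeff : ∀ l : ℕ, (lag p a x μ s ν₀ t).coeff l ∈ Set.range (algebraMap R (AA p a x μ)) := by
    intro l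
    apply mem_range_of_fixed p (fun i => μ * a i) x hc
    intro ν
    have h1 := congrArg (fun P => Polynomial.coeff P l) (lag_map p a x μ s ν₀ hν₀ t ht ν)
    simp only [Polynomial.coeff_map] at h1
    exact h1
  have hlift : lag p a x μ s ν₀ t ∈ Polynomial.lifts (algebraMap R (AA p a x μ)) :=
    (Polynomial.lifts_iff_coeff_lifts _).mpr hcoeff
  obtain ⟨q, hq⟩ := (Polynomial.mem_lifts _).mp hlift
  have hqdeg : q.natDegree < p := by
    rw [← Polynomial.natDegree_map_eq_of_injective hinj q, hq]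
    exact lag_natDegree p a x μ s ν₀ t
  have hqeval : Polynomial.aeval (zs p a x μ s) q =
      algebraMap R (AA p a x μ) (tau p (omg p) * (μ * alph p a s) ^ (p - 1)) * t := by
    rw [← Polynomial.eval_map_algebraMap, hq, lag_eval]
  have hu : IsUnit (tau (R := R) p (omg p)) := (Ne.isUnit (omg_ne_zero p)).map _
  obtain ⟨u, hu'⟩ := hu
  refine ⟨Polynomial.C (↑u⁻¹ : R) * q, ?_, ?_⟩
  · exact lt_of_le_of_lt (Polynomial.natDegree_C_mul_le _ _) hqdeg
  · rw [map_mul, Polynomial.aeval_C, hqeval, ← mul_assoc, ← map_mul, ← hu', ← mul_assoc,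
      Units.inv_mul, one_mul]

end StepA2


section LemmaX

variable {R : Type u} [CommRing R] [IsDomain R] {n : ℕ} (p : ℕ) [hp : Fact p.Prime] [CharP R p]
  (a x : Fin n → R) (μ : R) [IsDomain (AA p a x μ)] (s : Fin n → ZMod p) (i : Fin n)

/-- The subalgebra generated by the `u_m`, `m ≠ i`. -/
noncomputable def subOff : Subalgebra R (AA p a x μ) :=
  Algebra.adjoin R ((uq p (fun i => μ * a i) x) '' {m | m ≠ i})

lemma uq_mem_subOff (m : Fin n) (hm : m ≠ i) : uq p (fun i => μ * a i) x m ∈ subOff p a x μ i :=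
  Algebra.subset_adjoin ⟨m, hm, rfl⟩

/-- Elements of `subOff i` are fixed by the `i`-th translations. -/
lemma sh_single_fix (c : ZMod p) (b : AA p a x μ) (hb : b ∈ subOff p a x μ i) :
    sh p a x μ (Pi.single i c) b = b := by
  have h : subOff p a x μ i ≤
      AlgHom.equalizer (sh p a x μ (Pi.single i c)).toAlgHom (AlgHom.id R _) := by
    apply Algebra.adjoin_le
    rintro _ ⟨m, hm, rfl⟩
    change sh p a x μ (Pi.single i c) (uq p (fun i => μ * a i) x m) = uq p (fun i => μ * a i) x m
    rw [sh_uq, Pi.single_eq_of_ne hm, map_zero, zero_mul, map_zero, add_zero]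
  exact h hb

/-- Every element is a polynomial in `u_i` over `subOff i`. -/
lemma mem_adjoin_subOff (t : AA p a x μ) :
    t ∈ Algebra.adjoin ↥(subOff p a x μ i) {uq p (fun i => μ * a i) x i} := by
  set T := Algebra.adjoin ↥(subOff p a x μ i) {uq p (fun i => μ * a i) x i} with hT
  obtain ⟨q, rfl⟩ := Ideal.Quotient.mk_surjective t
  induction q using MvPolynomial.induction_on with
  | C r =>
    exact T.algebraMap_mem (algebraMap R ↥(subOff p a x μ i) r)
  | add q q' hq hq' =>
    rw [map_add]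
    exact T.add_mem hq hq'
  | mul_X q m hq =>
    rw [map_mul]
    refine T.mul_mem hq ?_
    by_cases hm : m = i
    · subst hm
      exact Algebra.subset_adjoin rfl
    · exact T.algebraMap_mem ⟨_, uq_mem_subOff p a x μ i m hm⟩

/-- Every element is a polynomial of degree `< p` in `u_i` over `subOff i`. -/
lemma exists_poly_lt (t : AA p a x μ) :
    ∃ q : Polynomial ↥(subOff p a x μ i), q.natDegree < p ∧
      Polynomial.aeval (uq p (fun i => μ * a i) x i) q = t := by
  set B := subOff p a x μ i with hB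
  set w := uq p (fun i => μ * a i) x i with hw
  have ht := mem_adjoin_subOff p a x μ i t
  rw [Algebra.adjoin_singleton_eq_range_aeval] at ht
  obtain ⟨q, rfl⟩ := ht
  let b1 : ↥B := ⟨algebraMap R _ ((μ * a i) ^ (p - 1)), B.algebraMap_mem _⟩
  let b2 : ↥B := ⟨algebraMap R _ (x i), B.algebraMap_mem _⟩
  set fB : Polynomial ↥B := asPoly p b1 b2 with hfB
  have hmonic : fB.Monic := asPoly_monic (two_le_p p) b1 b2
  have hdeg : fB.natDegree = p := asPoly_natDegree (two_le_p p) b1 b2
  have hroot : Polynomial.aeval w fB = 0 := by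
    rw [hfB, aeval_asPoly]
    have h1 := uq_rel p (fun i => μ * a i) x i
    rw [← hw] at h1
    rw [h1]
    have e1 : algebraMap ↥B (AA p a x μ) b1 = algebraMap R _ ((μ * a i) ^ (p - 1)) := rfl
    have e2 : algebraMap ↥B (AA p a x μ) b2 = algebraMap R _ (x i) := rfl
    rw [e1, e2]
    ring
  have hne1 : fB ≠ 1 := by
    intro h
    have h2 := hdeg
    rw [h, Polynomial.natDegree_one] at h2
    exact absurd h2.symm (by have := two_le_p p; omega)
  refine ⟨q %ₘ fB, ?_, ?_⟩
  · have := Polynomial.natDegree_modByMonic_lt q hmonic hne1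
    rwa [hdeg] at this
  · have h2 := congrArg (Polynomial.aeval w) (Polynomial.modByMonic_add_div q fB)
    rw [map_add, map_mul, hroot, zero_mul, add_zero] at h2
    exact h2

/-- A polynomial of degree `< p` in `u_i` over `subOff i` vanishing at `u_i` is zero. -/
lemma eq_zero_of_aeval_uq (hci : μ * a i ≠ 0) (P : Polynomial ↥(subOff p a x μ i))
    (hP : P.natDegree < p) (h0 : Polynomial.aeval (uq p (fun i => μ * a i) x i) P = 0) : P = 0 := by
  have hchar := charP_AA p a x μ
  have hinj := algebraMap_inj p a x μ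
  have he : algebraMap R (AA p a x μ) (μ * a i) ≠ 0 := fun h =>
    hci (hinj (h.trans (map_zero _).symm))
  have hw : sh p a x μ (Pi.single i 1) (uq p (fun i => μ * a i) x i) =
      uq p (fun i => μ * a i) x i + algebraMap R (AA p a x μ) (μ * a i) := by
    rw [sh_uq, Pi.single_eq_same, map_one, one_mul]
  have hsum : ∑ l : Fin p, ((P.coeff (l : ℕ) : ↥(subOff p a x μ i)) : AA p a x μ) *
      uq p (fun i => μ * a i) x i ^ (l : ℕ) = 0 := by
    rw [← h0, Polynomial.aeval_eq_sum_range' hP, Finset.sum_range]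
    refine Finset.sum_congr rfl fun l _ => ?_
    rw [Algebra.smul_def]
    rfl
  have hzero := eq_zero_of_sum_pow_eq_zero (R := R) p (sh p a x μ (Pi.single i 1))
    (uq p (fun i => μ * a i) x i) (algebraMap R (AA p a x μ) (μ * a i)) he hw
    (AlgEquiv.commutes _ _)
    (fun l : Fin p => ((P.coeff (l : ℕ) : ↥(subOff p a x μ i)) : AA p a x μ))
    (fun l => sh_single_fix p a x μ i 1 _ (P.coeff (l : ℕ)).2) hsum
  apply Polynomial.ext
  intro l
  rw [Polynomial.coeff_zero]
  by_cases hl : l < p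
  · have h1 := congrFun hzero ⟨l, hl⟩
    exact Subtype.ext h1
  · exact Polynomial.coeff_eq_zero_of_natDegree_lt (lt_of_lt_of_le hP (not_lt.mp hl))

end LemmaX

end Groth.Agent.R2.H73.ASOrtho
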