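/-
helper73: invariants of the orthogonal subgroup `H_s` in the Artin–Schreier family, part 2:
the divisibility lemma and the descent `(μ α)^(p-1) t ∈ R[z_s] ⟹ t ∈ R[z_s]` over a UFD.
Used for S15810.
-/
import Mathlib
import Groth.Agent.R2.H73ASOrtho

set_option autoImplicit false
set_option linter.unusedSectionVars false
universe u

open MvPolynomial

namespace Groth.Agent.R2.H73.ASOrtho

open Groth.Agent.R2.H73.ASFamily Groth.Agent.R2.H73.ASMinor Groth.Agent.R2.H73.ASMinorCI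

section LemmaX2

variable {R : Type u} [CommRing R] [IsDomain R] {n : ℕ} (p : ℕ) [hp : Fact p.Prime] [CharP R p]
  (a x : Fin n → R) (μ : R) [IsDomain (AA p a x μ)] (s : Fin n → ZMod p) (i : Fin n)

/-- The part of `z_s` not involving `u_i`. -/
noncomputable def wOff : AA p a x μ :=
  ∑ m ∈ (supp p s).erase i, algebraMap R (AA p a x μ) (bb p a s m) * uq p (fun i => μ * a i) x m

lemma wOff_mem : wOff p a x μ s i ∈ subOff p a x μ i := by
  refine Subalgebra.sum_mem _ fun m hm => ?_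
  exact Subalgebra.mul_mem _ (Subalgebra.algebraMap_mem _ _)
    (uq_mem_subOff p a x μ i m (Finset.ne_of_mem_erase hm))

lemma zs_eq (hi : i ∈ supp p s) :
    zs p a x μ s = algebraMap R (AA p a x μ) (bb p a s i) * uq p (fun i => μ * a i) x i +
      wOff p a x μ s i := by
  rw [zs, wOff]
  exact (Finset.add_sum_erase (supp p s)
    (fun m => algebraMap R (AA p a x μ) (bb p a s m) * uq p (fun i => μ * a i) x m) hi).symm

/-- If `Γ(z_s) = Δ t` with `deg Γ < p`, then `Δ` divides `lc(Γ) b_i^(deg Γ)`. -/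
theorem dvd_leadingCoeff_mul (hc : ∀ i, μ * a i ≠ 0) (hi : i ∈ supp p s)
    (hbi : bb p a s i ≠ 0) (Γ : Polynomial R) (hΓ : Γ.natDegree < p) (Δ : R) (hΔ : Δ ≠ 0)
    (t : AA p a x μ)
    (h : Polynomial.aeval (zs p a x μ s) Γ = algebraMap R (AA p a x μ) Δ * t) :
    Δ ∣ Γ.leadingCoeff * bb p a s i ^ Γ.natDegree := by
  by_cases hΓ0 : Γ = 0
  · rw [hΓ0, Polynomial.leadingCoeff_zero, zero_mul]
    exact dvd_zero Δ
  have hinj := algebraMap_inj p a x μ
  set B := subOff p a x μ i with hB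
  have hinjB : Function.Injective (algebraMap R ↥B) := by
    intro r r' hrr
    apply hinj
    exact congrArg Subtype.val hrr
  let wB : ↥B := ⟨wOff p a x μ s i, wOff_mem p a x μ s i⟩
  let bB : ↥B := algebraMap R ↥B (bb p a s i)
  have hbB : bB ≠ 0 := fun h0 => hbi (hinjB (h0.trans (map_zero _).symm))
  set lin : Polynomial ↥B := Polynomial.C bB * Polynomial.X + Polynomial.C wB with hlin
  have hlin_eval : Polynomial.aeval (uq p (fun i => μ * a i) x i) lin = zs p a x μ s := by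
    rw [hlin, map_add, map_mul, Polynomial.aeval_C, Polynomial.aeval_X, Polynomial.aeval_C,
      zs_eq p a x μ s i hi]
    rfl
  set Γt : Polynomial ↥B := (Γ.map (algebraMap R ↥B)).comp lin with hΓt
  have hΓt_eval : Polynomial.aeval (uq p (fun i => μ * a i) x i) Γt =
      Polynomial.aeval (zs p a x μ s) Γ := by
    rw [hΓt, Polynomial.aeval_comp, hlin_eval, Polynomial.aeval_map_algebraMap]
  obtain ⟨q, hqdeg, hq⟩ := exists_poly_lt p a x μ i t
  set P : Polynomial ↥B := Γt - Polynomial.C (algebraMap R ↥B Δ) * q with hP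
  have hPdeg : P.natDegree < p := by
    refine lt_of_le_of_lt (Polynomial.natDegree_sub_le _ _) (max_lt ?_ ?_)
    · refine lt_of_le_of_lt Polynomial.natDegree_comp_le ?_
      refine lt_of_le_of_lt (Nat.mul_le_mul (Polynomial.natDegree_map_le) Polynomial.natDegree_linear_le) ?_
      rw [mul_one]
      exact hΓ
    · exact lt_of_le_of_lt (Polynomial.natDegree_C_mul_le _ _) hqdeg
  have hP0 : Polynomial.aeval (uq p (fun i => μ * a i) x i) P = 0 := by
    rw [hP, map_sub, map_mul, Polynomial.aeval_C, hΓt_eval, hq, h]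
    exact sub_self _
  have hPz := eq_zero_of_aeval_uq p a x μ i (hc i) P hPdeg hP0
  have hΓt_eq : Γt = Polynomial.C (algebraMap R ↥B Δ) * q := sub_eq_zero.mp hPz
  -- the coefficient of degree `D`
  set D := Γ.natDegree with hD
  have hlin_deg : lin.natDegree = 1 := Polynomial.natDegree_linear hbB
  have hmap_deg : (Γ.map (algebraMap R ↥B)).natDegree = D :=
    Polynomial.natDegree_map_eq_of_injective hinjB Γ
  have hΓt_deg : Γt.natDegree = D := by
    rw [hΓt, Polynomial.natDegree_comp, hlin_deg, mul_one, hmap_deg]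
  have hΓt_lc : Γt.coeff D = algebraMap R ↥B (Γ.leadingCoeff * bb p a s i ^ D) := by
    have h1 : Γt.leadingCoeff = (Γ.map (algebraMap R ↥B)).leadingCoeff *
        lin.leadingCoeff ^ (Γ.map (algebraMap R ↥B)).natDegree := by
      rw [hΓt]
      exact Polynomial.leadingCoeff_comp (by rw [hlin_deg]; exact one_ne_zero)
    rw [Polynomial.leadingCoeff, hΓt_deg] at h1
    rw [h1, Polynomial.leadingCoeff_map_of_injective hinjB, hmap_deg, hlin,
      Polynomial.leadingCoeff_linear hbB, map_mul, map_pow]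
  have h2 : algebraMap R ↥B (Γ.leadingCoeff * bb p a s i ^ D) =
      algebraMap R ↥B Δ * q.coeff D := by
    rw [← hΓt_lc, hΓt_eq, Polynomial.coeff_C_mul]
  have h3 : algebraMap R (AA p a x μ) (Γ.leadingCoeff * bb p a s i ^ D) =
      algebraMap R (AA p a x μ) Δ * ((q.coeff D : ↥B) : AA p a x μ) := congrArg Subtype.val h2
  have hΔA : algebraMap R (AA p a x μ) Δ ≠ 0 := fun h0 =>
    hΔ (hinj (h0.trans (map_zero _).symm))
  have h4 : ((q.coeff D : ↥B) : AA p a x μ) ∈ Set.range (algebraMap R (AA p a x μ)) := by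
    apply mem_range_of_fixed p (fun i => μ * a i) x hc
    intro ν
    have h5 : algebraMap R (AA p a x μ) Δ * sh p a x μ ν ((q.coeff D : ↥B) : AA p a x μ) =
        algebraMap R (AA p a x μ) Δ * ((q.coeff D : ↥B) : AA p a x μ) :=
      calc algebraMap R (AA p a x μ) Δ * sh p a x μ ν ((q.coeff D : ↥B) : AA p a x μ)
          = sh p a x μ ν (algebraMap R (AA p a x μ) Δ * ((q.coeff D : ↥B) : AA p a x μ)) := by
            rw [map_mul, AlgEquiv.commutes]
        _ = sh p a x μ ν (algebraMap R (AA p a x μ) (Γ.leadingCoeff * bb p a s i ^ D)) := by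
            rw [h3]
        _ = algebraMap R (AA p a x μ) (Γ.leadingCoeff * bb p a s i ^ D) := AlgEquiv.commutes _ _
        _ = _ := h3
    exact mul_left_cancel₀ hΔA h5
  obtain ⟨r, hr⟩ := h4
  rw [← hr, ← map_mul] at h3
  exact ⟨r, hinj h3⟩

end LemmaX2


section UFD

variable {R : Type u} [CommRing R] [IsDomain R] [UniqueFactorizationMonoid R]
  {ι : Type*} [DecidableEq ι]

/-- In a UFD: if `(μ ∏_S a)^N` divides `γ (∏_{S∖i} a)^D` for every `i ∈ S`, the `a_i` being pairwise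
relatively prime and prime to `μ`, then it divides `γ`. -/
theorem dvd_of_forall_dvd_mul_pow (S : Finset ι) (hS : S.Nonempty) (a : ι → R) (μ : R)
    (hcop : ∀ i ∈ S, ∀ j ∈ S, i ≠ j → IsRelPrime (a i) (a j)) (hμa : ∀ i ∈ S, IsRelPrime μ (a i))
    (N D : ℕ) (γ : R)
    (h : ∀ i ∈ S, (μ * ∏ j ∈ S, a j) ^ N ∣ γ * (∏ j ∈ S.erase i, a j) ^ D) :
    (μ * ∏ j ∈ S, a j) ^ N ∣ γ := by
  rw [mul_pow, ← Finset.prod_pow]
  have hμ : μ ^ N ∣ γ := by
    obtain ⟨i, hi⟩ := hS
    have h0 := h i hi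
    rw [mul_pow] at h0
    have h1 : μ ^ N ∣ γ * (∏ j ∈ S.erase i, a j) ^ D := (dvd_mul_right _ _).trans h0
    have h2 : IsRelPrime (μ ^ N) ((∏ j ∈ S.erase i, a j) ^ D) :=
      IsRelPrime.pow (IsRelPrime.prod_right fun j hj => hμa j (Finset.mem_of_mem_erase hj))
    exact h2.dvd_of_dvd_mul_right h1
  have ha : ∀ j ∈ S, a j ^ N ∣ γ := by
    intro j hj
    have h0 : a j ∣ μ * ∏ m ∈ S, a m := Dvd.dvd.mul_left (Finset.dvd_prod_of_mem a hj) μ
    have h1 : a j ^ N ∣ γ * (∏ m ∈ S.erase j, a m) ^ D := (pow_dvd_pow_of_dvd h0 N).trans (h j hj)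
    have h2 : IsRelPrime (a j ^ N) ((∏ m ∈ S.erase j, a m) ^ D) :=
      IsRelPrime.pow (IsRelPrime.prod_right fun m hm =>
        hcop j hj m (Finset.mem_of_mem_erase hm) (Finset.ne_of_mem_erase hm).symm)
    exact h2.dvd_of_dvd_mul_right h1
  have hprod : ∏ j ∈ S, a j ^ N ∣ γ := by
    apply Finset.prod_dvd_of_isRelPrime _ ha
    intro j hj m hm hjm
    exact IsRelPrime.pow (hcop j hj m hm hjm)
  have hrel : IsRelPrime (μ ^ N) (∏ j ∈ S, a j ^ N) :=
    IsRelPrime.prod_right fun j hj => IsRelPrime.pow (hμa j hj)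
  exact hrel.mul_dvd hμ hprod

end UFD

section StepB

variable {R : Type u} [CommRing R] [IsDomain R] [UniqueFactorizationMonoid R] {n : ℕ} (p : ℕ)
  [hp : Fact p.Prime] [CharP R p]
  (a x : Fin n → R) (μ : R) [IsDomain (AA p a x μ)] (s : Fin n → ZMod p)
  (hc : ∀ i, μ * a i ≠ 0) (hs : s ≠ 0)
  (hcop : ∀ i j, i ≠ j → IsRelPrime (a i) (a j)) (hμa : ∀ i, IsRelPrime μ (a i))

include hc in
lemma a_ne_zero' (i : Fin n) : a i ≠ 0 := fun h => hc i (by rw [h, mul_zero])

include hc in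
lemma bb_ne_zero (i : Fin n) (hi : i ∈ supp p s) : bb p a s i ≠ 0 := by
  rw [bb]
  refine mul_ne_zero ?_ ?_
  · rw [Ne, map_eq_zero_iff _ (tau (R := R) p).injective]
    exact (mem_supp p s i).mp hi
  · rw [alphi, Finset.prod_ne_zero_iff]
    exact fun j _ => a_ne_zero' a μ hc j

include hs in
lemma supp_nonempty : (supp p s).Nonempty := by
  obtain ⟨i₁, hi₁⟩ := Function.ne_iff.mp hs
  exact ⟨i₁, (mem_supp p s i₁).mpr hi₁⟩

include hc hs hcop hμa in
/-- If `Γ(z_s) = (μ α)^(p-1) t` with `deg Γ < p`, then `(μ α)^(p-1)` divides the leading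
coefficient of `Γ`. -/
theorem dvd_leadingCoeff (Γ : Polynomial R) (hΓ : Γ.natDegree < p) (t : AA p a x μ)
    (h : Polynomial.aeval (zs p a x μ s) Γ =
      algebraMap R (AA p a x μ) ((μ * alph p a s) ^ (p - 1)) * t) :
    (μ * alph p a s) ^ (p - 1) ∣ Γ.leadingCoeff := by
  have hα0 : alph p a s ≠ 0 := by
    rw [alph, Finset.prod_ne_zero_iff]
    exact fun j _ => a_ne_zero' a μ hc j
  have hμ0 : μ ≠ 0 := by
    obtain ⟨i₁, _⟩ := supp_nonempty p s hs
    exact fun h => hc i₁ (by rw [h, zero_mul])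
  have hΔ : (μ * alph p a s) ^ (p - 1) ≠ 0 := pow_ne_zero _ (mul_ne_zero hμ0 hα0)
  refine dvd_of_forall_dvd_mul_pow (supp p s) (supp_nonempty p s hs) a μ
    (fun i _ j _ hij => hcop i j hij) (fun i _ => hμa i) (p - 1) Γ.natDegree Γ.leadingCoeff ?_
  intro i hi
  have h1 := dvd_leadingCoeff_mul p a x μ s i hc hi (bb_ne_zero p a μ s hc i hi) Γ hΓ _ hΔ t h
  rw [bb, mul_pow (tau p (s i)), ← mul_assoc, mul_right_comm] at h1
  have hu : IsUnit (tau (R := R) p (s i) ^ Γ.natDegree) :=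
    ((Ne.isUnit ((mem_supp p s i).mp hi)).map _).pow _
  exact (IsUnit.dvd_mul_right hu).mp h1

include hc hs hcop hμa in
/-- Descent: if `(μ α)^(p-1) t` is a polynomial of degree `< p` in `z_s`, then `t` is a polynomial in
`z_s`. -/
theorem exists_poly_of_mul_eq : ∀ (D : ℕ) (Γ : Polynomial R), Γ.natDegree ≤ D → D < p →
    ∀ t : AA p a x μ, Polynomial.aeval (zs p a x μ s) Γ =
      algebraMap R (AA p a x μ) ((μ * alph p a s) ^ (p - 1)) * t →
    ∃ Γ₀ : Polynomial R, Polynomial.aeval (zs p a x μ s) Γ₀ = t := by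
  have hinj := algebraMap_inj p a x μ
  have hα0 : alph p a s ≠ 0 := by
    rw [alph, Finset.prod_ne_zero_iff]
    exact fun j _ => a_ne_zero' a μ hc j
  have hμ0 : μ ≠ 0 := by
    obtain ⟨i₁, _⟩ := supp_nonempty p s hs
    exact fun h => hc i₁ (by rw [h, zero_mul])
  have hΔ : (μ * alph p a s) ^ (p - 1) ≠ 0 := pow_ne_zero _ (mul_ne_zero hμ0 hα0)
  have hΔA : algebraMap R (AA p a x μ) ((μ * alph p a s) ^ (p - 1)) ≠ 0 := fun h0 =>
    hΔ (hinj (h0.trans (map_zero _).symm))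
  intro D
  induction D with
  | zero =>
    intro Γ hΓ hD t h
    obtain ⟨g, hg⟩ := dvd_leadingCoeff p a x μ s hc hs hcop hμa Γ (lt_of_le_of_lt hΓ hD) t h
    have hΓC := Polynomial.eq_C_of_natDegree_le_zero hΓ
    have hlc : Γ.leadingCoeff = Γ.coeff 0 := by
      rw [Polynomial.leadingCoeff, Nat.le_zero.mp hΓ]
    refine ⟨Polynomial.C g, ?_⟩
    rw [Polynomial.aeval_C]
    apply mul_left_cancel₀ hΔA
    rw [← h, ← map_mul, ← hg, hlc, hΓC, Polynomial.aeval_C, Polynomial.coeff_C_zero]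
  | succ D ih =>
    intro Γ hΓ hD t h
    by_cases hle : Γ.natDegree ≤ D
    · exact ih Γ hle (by omega) t h
    have hdeg : Γ.natDegree = D + 1 := by omega
    obtain ⟨g, hg⟩ := dvd_leadingCoeff p a x μ s hc hs hcop hμa Γ (lt_of_le_of_lt hΓ hD) t h
    have hsplit := Polynomial.eraseLead_add_C_mul_X_pow Γ
    have hle' : Γ.eraseLead.natDegree ≤ D := by
      have := Polynomial.eraseLead_natDegree_le Γ
      omega
    have h1 : Polynomial.aeval (zs p a x μ s) Γ.eraseLead =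
        algebraMap R (AA p a x μ) ((μ * alph p a s) ^ (p - 1)) *
          (t - algebraMap R (AA p a x μ) g * zs p a x μ s ^ (D + 1)) := by
      have h2 := congrArg (Polynomial.aeval (zs p a x μ s)) hsplit
      rw [map_add, map_mul, Polynomial.aeval_C, map_pow, Polynomial.aeval_X, h, hg, hdeg,
        map_mul] at h2
      linear_combination h2
    obtain ⟨Γ₁, hΓ₁⟩ := ih Γ.eraseLead hle' (by omega) _ h1
    refine ⟨Γ₁ + Polynomial.C g * Polynomial.X ^ (D + 1), ?_⟩
    rw [map_add, map_mul, Polynomial.aeval_C, map_pow, Polynomial.aeval_X, hΓ₁]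
    ring

include hc hs hcop hμa in
/-- The invariants of `H_s` are the polynomials in `z_s`. -/
theorem fixed_iff_mem_range (t : AA p a x μ) :
    (∀ ν : Fin n → ZMod p, ∑ i, ν i * s i = 0 → sh p a x μ ν t = t) ↔
      t ∈ (Polynomial.aeval (zs p a x μ s) : Polynomial R →ₐ[R] AA p a x μ).range := by
  constructor
  · intro ht
    obtain ⟨Γ, hΓdeg, hΓ⟩ := exists_poly_of_fixed p a x μ s hc hs t ht
    obtain ⟨Γ₀, hΓ₀⟩ := exists_poly_of_mul_eq p a x μ s hc hs hcop hμa Γ.natDegree Γ le_rfl hΓdeg t hΓ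
    exact ⟨Γ₀, hΓ₀⟩
  · rintro ⟨Γ, rfl⟩ ν hν
    have h1 := Polynomial.aeval_algHom_apply (sh p a x μ ν).toAlgHom (zs p a x μ s) Γ
    have h2 : (sh p a x μ ν).toAlgHom (zs p a x μ s) = zs p a x μ s := by
      change sh p a x μ ν (zs p a x μ s) = _
      rw [sh_zs, hν, map_zero, zero_mul, map_zero, add_zero]
    rw [h2] at h1
    exact h1.symm

end StepB

end Groth.Agent.R2.H73.ASOrtho
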