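import Mathlib
import Groth.Prelude.Def_EtRam

set_option autoImplicit false
set_option linter.style.haveILetI false
set_option linter.unusedSectionVars false
universe u

namespace Groth.Agent.R2.H73.ValDVR

open IsLocalRing

section VAL

variable {D F : Type*} [CommRing D] [IsDomain D] [IsDiscreteValuationRing D] [Field F]
  (ρ : D →+* F) (hρ : Function.Injective ρ)
  (hfrac : ∀ x : F, ∃ a b : D, b ≠ 0 ∧ x * ρ b = ρ a)
  (V : ValuationSubring F) (hV : ∀ d, ρ d ∈ V)
  (hloc : ∀ d ∈ maximalIdeal D, V.valuation (ρ d) < 1)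

include hfrac hloc hρ in
/-- A DVR with fraction field `F` contained in and dominated by a valuation subring `V` of `F`
is equal to `V`. -/
theorem codRestrict_surjective : Function.Surjective (RingHom.codRestrict ρ V hV) := by
  rintro ⟨x, hx⟩
  by_cases hx0 : x = 0
  · exact ⟨0, Subtype.ext (by simp [hx0])⟩
  obtain ⟨a, b, hb, hab⟩ := hfrac x
  have ha : a ≠ 0 := by
    rintro rfl
    rw [map_zero] at hab
    rcases mul_eq_zero.mp hab with h | h
    · exact hx0 h
    · exact hb ((map_eq_zero_iff ρ hρ).mp h)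
  obtain ⟨ϖ, hϖ⟩ := IsDiscreteValuationRing.exists_irreducible D
  obtain ⟨k, u, rfl⟩ := IsDiscreteValuationRing.eq_unit_mul_pow_irreducible ha hϖ
  obtain ⟨l, v, rfl⟩ := IsDiscreteValuationRing.eq_unit_mul_pow_irreducible hb hϖ
  have hϖ0 : ρ ϖ ≠ 0 := (map_ne_zero_iff ρ hρ).mpr hϖ.ne_zero
  have hv0 : ρ (v : D) ≠ 0 := (map_ne_zero_iff ρ hρ).mpr v.ne_zero
  have hϖm : ϖ ∈ maximalIdeal D := by
    rw [mem_maximalIdeal, mem_nonunits_iff]; exact hϖ.not_isUnit
  rcases le_or_gt l k with hlk | hlk
  · refine ⟨(u : D) * ((v⁻¹ : Dˣ) : D) * ϖ ^ (k - l), Subtype.ext ?_⟩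
    change ρ ((u : D) * ((v⁻¹ : Dˣ) : D) * ϖ ^ (k - l)) = x
    have h1 : x * ρ ((v : D) * ϖ ^ l) = ρ ((u : D) * ((v⁻¹ : Dˣ) : D) * ϖ ^ (k - l)) *
        ρ ((v : D) * ϖ ^ l) := by
      rw [hab, ← map_mul]
      congr 1
      have : ϖ ^ k = ϖ ^ (k - l) * ϖ ^ l := by rw [← pow_add, Nat.sub_add_cancel hlk]
      rw [this]
      have hvv : ((v⁻¹ : Dˣ) : D) * (v : D) = 1 := v.inv_mul
      linear_combination (-(u : D) * ϖ ^ (k - l) * ϖ ^ l) * hvv
    have h2 : ρ ((v : D) * ϖ ^ l) ≠ 0 := by
      rw [map_mul, map_pow]; exact mul_ne_zero hv0 (pow_ne_zero _ hϖ0)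
    exact (mul_right_cancel₀ h2 h1).symm
  · exfalso
    -- `x * ρ ϖ ^ (l - k)` is a unit of `V` of valuation `< 1`
    have h1 : x * ρ ϖ ^ (l - k) = ρ ((u : D) * ((v⁻¹ : Dˣ) : D)) := by
      have h2 : ρ ((v : D) * ϖ ^ k) ≠ 0 := by
        rw [map_mul, map_pow]; exact mul_ne_zero hv0 (pow_ne_zero _ hϖ0)
      apply mul_right_cancel₀ h2
      have e1 : x * ρ ϖ ^ (l - k) * ρ ((v : D) * ϖ ^ k) = x * ρ ((v : D) * ϖ ^ l) := by
        have : ϖ ^ l = ϖ ^ (l - k) * ϖ ^ k := by rw [← pow_add, Nat.sub_add_cancel hlk.le]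
        rw [this]; simp only [map_mul, map_pow]; ring
      rw [e1, hab, ← map_mul]
      congr 1
      have hvv : ((v⁻¹ : Dˣ) : D) * (v : D) = 1 := v.inv_mul
      linear_combination (-((u : D) * ϖ ^ k)) * hvv
    have hval1 : V.valuation (ρ ((u : D) * ((v⁻¹ : Dˣ) : D))) = 1 := by
      have : IsUnit ((u : D) * ((v⁻¹ : Dˣ) : D)) := (u * v⁻¹).isUnit
      exact (V.valuation_eq_one_iff _).mp (this.map (RingHom.codRestrict ρ V hV))
    have hval2 : V.valuation (x * ρ ϖ ^ (l - k)) < 1 := by
      rw [map_mul, map_pow]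
      have hxle : V.valuation x ≤ 1 := (V.valuation_le_one_iff x).mpr hx
      have hlt : V.valuation (ρ ϖ) < 1 := hloc ϖ hϖm
      have hpos : 0 < l - k := Nat.sub_pos_of_lt hlk
      calc V.valuation x * V.valuation (ρ ϖ) ^ (l - k)
          ≤ 1 * V.valuation (ρ ϖ) ^ (l - k) := mul_le_mul_left hxle _
        _ = V.valuation (ρ ϖ) ^ (l - k) := one_mul _
        _ < 1 := pow_lt_one₀ zero_le hlt hpos.ne'
    rw [h1, hval1] at hval2
    exact lt_irrefl _ hval2

include hfrac hloc hρ in
theorem codRestrict_bijective : Function.Bijective (RingHom.codRestrict ρ V hV) :=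
  ⟨fun _ _ h => hρ (congrArg Subtype.val h), codRestrict_surjective ρ hρ hfrac V hV hloc⟩

end VAL

section Transfer

variable {A D V : Type*} [CommRing A] [IsLocalRing A] [CommRing D] [IsLocalRing D] [CommRing V]
  [IsLocalRing V] [Algebra A D] [Algebra A V] (e : D ≃ₐ[A] V)

theorem map_maximalIdeal_equiv : (maximalIdeal D).map (e : D →+* V) = maximalIdeal V := by
  have h := Ideal.map_comap_of_equiv (I := maximalIdeal D) (e : D ≃+* V)
  rw [show ((e : D ≃+* V) : D →+* V) = (e : D →+* V) from rfl] at h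
  rw [h]
  ext x
  rw [Ideal.mem_comap, mem_maximalIdeal, mem_maximalIdeal, mem_nonunits_iff, mem_nonunits_iff]
  exact not_congr (isUnit_map_iff (e : D ≃+* V).symm x)

theorem comap_maximalIdeal_equiv : (maximalIdeal V).comap (e : D →+* V) = maximalIdeal D := by
  rw [← map_maximalIdeal_equiv e]
  exact Ideal.comap_map_of_bijective (e : D →+* V) e.bijective

include e in
theorem weaklyUnramified_iff :
    (maximalIdeal A).map (algebraMap A V) = maximalIdeal V ↔
      (maximalIdeal A).map (algebraMap A D) = maximalIdeal D := by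
  have hcomp : algebraMap A V = (e : D →+* V).comp (algebraMap A D) := by
    ext a; exact (e.commutes a).symm
  rw [hcomp, ← Ideal.map_map, ← map_maximalIdeal_equiv e]
  constructor
  · intro h
    have := congrArg (Ideal.comap (e : D →+* V)) h
    rwa [Ideal.comap_map_of_bijective (e : D →+* V) e.bijective,
      Ideal.comap_map_of_bijective (e : D →+* V) e.bijective] at this
  · intro h; rw [h]

include e in
theorem ramificationIdx'_eq :
    (maximalIdeal A).ramificationIdx' (maximalIdeal V) =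
      (maximalIdeal A).ramificationIdx' (maximalIdeal D) := by
  rw [← map_maximalIdeal_equiv e]
  exact Ideal.ramificationIdx'_map_eq (maximalIdeal A) (maximalIdeal D) e

include e in
theorem isSeparable_iff [IsLocalHom (algebraMap A D)] [IsLocalHom (algebraMap A V)] :
    Algebra.IsSeparable (ResidueField A) (ResidueField V) ↔
      Algebra.IsSeparable (ResidueField A) (ResidueField D) := by
  symm
  refine Algebra.IsSeparable.iff_of_equiv_equiv (RingEquiv.refl (ResidueField A))
    (ResidueField.mapEquiv (e : D ≃+* V)) ?_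
  ext x
  obtain ⟨x, rfl⟩ := residue_surjective x
  simp only [RingHom.comp_apply, RingEquiv.coe_ringHom_refl, RingHom.id_apply,
    ResidueField.algebraMap_residue, RingEquiv.coe_toRingHom, ResidueField.mapEquiv_apply,
    ResidueField.map_residue]
  congr 1
  exact (e.commutes x).symm

end Transfer

section Dict

variable {A : Type u} [CommRing A] [IsLocalRing A] {D : Type u} [CommRing D] [IsDomain D]
  [IsDiscreteValuationRing D] [Algebra A D] {F : Type u} [Field F]
  (g : A →+* F) (ρ : D →+* F) (hρg : ∀ a, ρ (algebraMap A D a) = g a)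
  (hρ : Function.Injective ρ) (hfrac : ∀ x : F, ∃ a b : D, b ≠ 0 ∧ x * ρ b = ρ a)
  (V : ValuationSubring F) (hV : ∀ d, ρ d ∈ V)
  (hloc : ∀ d ∈ maximalIdeal D, V.valuation (ρ d) < 1) (h : EtRam.Dominates A g V)

include hρg hρ hfrac hV hloc in
/-- The dictionary between a valuation subring `V` dominating `A` and a DVR `D` over `A` sitting
inside `V` with the same fraction field. -/
theorem dict :
    letI : Algebra A V := (RingHom.codRestrict g V h.1).toAlgebra
    (EtRam.IsWeaklyUnramified A V ↔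
      (maximalIdeal A).map (algebraMap A D) = maximalIdeal D) ∧
    ((maximalIdeal A).ramificationIdx' (maximalIdeal V) =
      (maximalIdeal A).ramificationIdx' (maximalIdeal D)) ∧
    ∀ [IsLocalHom (algebraMap A D)] [IsLocalHom (algebraMap A V)],
      (Algebra.IsSeparable (ResidueField A) (ResidueField V) ↔
        Algebra.IsSeparable (ResidueField A) (ResidueField D)) := by
  letI : Algebra A V := (RingHom.codRestrict g V h.1).toAlgebra
  let e0 : D ≃+* V := RingEquiv.ofBijective (RingHom.codRestrict ρ V hV)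
    (codRestrict_bijective ρ hρ hfrac V hV hloc)
  let e : D ≃ₐ[A] V := AlgEquiv.ofRingEquiv (f := e0) (fun a => Subtype.ext (hρg a))
  refine ⟨weaklyUnramified_iff e, ramificationIdx'_eq e, ?_⟩
  intro _ _
  exact isSeparable_iff e

end Dict

section Span

variable {D V : Type*} [CommRing D] [IsLocalRing D] [CommRing V] [IsLocalRing V] (e : D ≃+* V)

theorem map_maximalIdeal_ringEquiv : (maximalIdeal D).map (e : D →+* V) = maximalIdeal V := by
  have h := Ideal.map_comap_of_equiv (I := maximalIdeal D) e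
  rw [h]
  ext x
  rw [Ideal.mem_comap, mem_maximalIdeal, mem_maximalIdeal, mem_nonunits_iff, mem_nonunits_iff]
  exact not_congr (isUnit_map_iff e.symm x)

end Span

section Span2

variable {D F : Type*} [CommRing D] [IsDomain D] [IsDiscreteValuationRing D] [Field F]
  (ρ : D →+* F) (hρ : Function.Injective ρ)
  (hfrac : ∀ x : F, ∃ a b : D, b ≠ 0 ∧ x * ρ b = ρ a)
  (V : ValuationSubring F) (hV : ∀ d, ρ d ∈ V)
  (hloc : ∀ d ∈ maximalIdeal D, V.valuation (ρ d) < 1)

include hρ hfrac hloc in
/-- a uniformizer of `D` gives a uniformizer of `V` -/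
theorem maximalIdeal_eq_span (z : D) (hz : maximalIdeal D = Ideal.span {z}) :
    maximalIdeal V = Ideal.span {(⟨ρ z, hV z⟩ : V)} := by
  let e0 : D ≃+* V := RingEquiv.ofBijective (RingHom.codRestrict ρ V hV)
    (codRestrict_bijective ρ hρ hfrac V hV hloc)
  rw [← map_maximalIdeal_ringEquiv e0, hz, Ideal.map_span, Set.image_singleton]
  rfl

include hρ hfrac hloc hV in
theorem isDiscreteValuationRing_of_dvr : IsDiscreteValuationRing V := by
  let e0 : D ≃+* V := RingEquiv.ofBijective (RingHom.codRestrict ρ V hV)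
    (codRestrict_bijective ρ hρ hfrac V hV hloc)
  exact IsDiscreteValuationRing.RingEquivClass.isDiscreteValuationRing e0

end Span2

end Groth.Agent.R2.H73.ValDVR
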