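import Mathlib
import Groth.Prelude.Def_EtRam
import Groth.Agent.R2.H73ValDVR
import Groth.Agent.R2.H10EtRamA

set_option autoImplicit false
set_option linter.style.haveILetI false
set_option linter.unusedSectionVars false
universe u

namespace Groth.Agent.R2.H73.LocUnr

open IsLocalRing

section Loc

variable {B : Type u} [CommRing B] [IsLocalRing B] {F : Type u} [Field F] [Algebra B F]
  (E : Subalgebra B F) (V : ValuationSubring F) (hEV : ∀ x ∈ E, x ∈ V)

/-- the map `E → V` -/
def toV : E →+* V := RingHom.codRestrict (E.val : E →+* F) V (fun x => hEV x.1 x.2)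

/-- the center of `V` on `E` -/
def center : Ideal E := (maximalIdeal V).comap (toV E V hEV)

instance : (center E V hEV).IsPrime := Ideal.comap_isPrime _ _

/-- the localization of `E` at the center of `V` -/
abbrev LocAt : Type u := Localization.AtPrime (center E V hEV)

theorem isUnit_val_of_mem (s : (center E V hEV).primeCompl) : IsUnit ((E.val : E →+* F) s) := by
  rw [isUnit_iff_ne_zero]
  intro h0
  apply s.2
  have : (s : E) = 0 := Subtype.ext h0
  rw [this]
  exact Ideal.zero_mem _

/-- the map from the localization to `F` -/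
noncomputable def ρ : LocAt E V hEV →+* F :=
  IsLocalization.lift (M := (center E V hEV).primeCompl) (g := (E.val : E →+* F))
    (isUnit_val_of_mem E V hEV)

theorem ρ_algebraMap (x : E) : ρ E V hEV (algebraMap E (LocAt E V hEV) x) = (x : F) :=
  IsLocalization.lift_eq _ x

theorem ρ_algebraMap' (b : B) : ρ E V hEV (algebraMap B (LocAt E V hEV) b) = algebraMap B F b := by
  rw [IsScalarTower.algebraMap_apply B E (LocAt E V hEV), ρ_algebraMap]
  rfl

theorem ρ_injective : Function.Injective (ρ E V hEV) := by
  unfold ρ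
  rw [IsLocalization.lift_injective_iff]
  intro x y
  have h1 : Function.Injective (algebraMap E (LocAt E V hEV)) :=
    IsLocalization.injective _ (center E V hEV).primeCompl_le_nonZeroDivisors
  constructor
  · intro h; rw [h1 h]
  · intro h
    have : x = y := Subtype.ext h
    rw [this]

theorem ρ_mk' (a : E) (s : (center E V hEV).primeCompl) :
    (a : F) = (s : E) * ρ E V hEV (IsLocalization.mk' (LocAt E V hEV) a s) := by
  have h := (IsLocalization.lift_mk'_spec (M := (center E V hEV).primeCompl)
    (g := (E.val : E →+* F)) (isUnit_val_of_mem E V hEV) a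
    (ρ E V hEV (IsLocalization.mk' (LocAt E V hEV) a s)) s).mp rfl
  exact h

theorem isUnit_toV (s : (center E V hEV).primeCompl) : IsUnit (toV E V hEV s) := by
  have h := s.2
  change ¬ (toV E V hEV s ∈ maximalIdeal V) at h
  rwa [mem_maximalIdeal, mem_nonunits_iff, not_not] at h

theorem ρ_mem (d : LocAt E V hEV) : ρ E V hEV d ∈ V := by
  obtain ⟨a, s, rfl⟩ := IsLocalization.exists_mk'_eq (center E V hEV).primeCompl d
  have h1 := ρ_mk' E V hEV a s
  obtain ⟨u, hu⟩ := isUnit_toV E V hEV s
  have hs : ((s : E) : F) = ((u : V) : F) := by rw [hu]; rfl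
  have hu0 : ((u : V) : F) ≠ 0 := by
    intro h0
    have : (u : V) = 0 := Subtype.ext h0
    exact u.ne_zero this
  have h2 : ρ E V hEV (IsLocalization.mk' (LocAt E V hEV) a s) =
      (((u⁻¹ : Vˣ) : V) : F) * (a : F) := by
    have h3 : (((u⁻¹ : Vˣ) : V) : F) * ((u : V) : F) = 1 := by
      have h4 := congrArg Subtype.val u.inv_mul
      rw [MulMemClass.coe_mul, OneMemClass.coe_one] at h4
      exact h4
    rw [h1, hs, ← mul_assoc, h3, one_mul]
  rw [h2]
  exact V.mul_mem _ _ ((u⁻¹ : Vˣ) : V).2 (hEV a.1 a.2)

/-- the map from the localization to `V` -/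
noncomputable def ρV : LocAt E V hEV →+* V := RingHom.codRestrict (ρ E V hEV) V (ρ_mem E V hEV)

instance : IsLocalHom (ρV E V hEV) := by
  constructor
  intro d hd
  obtain ⟨a, s, rfl⟩ := IsLocalization.exists_mk'_eq (center E V hEV).primeCompl d
  rw [IsLocalization.AtPrime.isUnit_mk'_iff (LocAt E V hEV) (center E V hEV)]
  have h1 : toV E V hEV a = toV E V hEV s * ρV E V hEV (IsLocalization.mk' (LocAt E V hEV) a s) :=
    Subtype.ext (ρ_mk' E V hEV a s)
  have h2 : IsUnit (toV E V hEV a) := by
    rw [h1]; exact (isUnit_toV E V hEV s).mul hd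
  intro hmem
  change toV E V hEV a ∈ maximalIdeal V at hmem
  rw [mem_maximalIdeal, mem_nonunits_iff] at hmem
  exact hmem h2

theorem ρ_lt_one (d : LocAt E V hEV) (hd : d ∈ maximalIdeal (LocAt E V hEV)) :
    V.valuation (ρ E V hEV d) < 1 := by
  have h1 : ρV E V hEV d ∈ maximalIdeal V := by
    rw [mem_maximalIdeal, mem_nonunits_iff] at hd ⊢
    intro hu
    exact hd (isUnit_of_map_unit (ρV E V hEV) d hu)
  exact (V.valuation_lt_one_iff _).mp h1

end Loc

section Unr

variable {B : Type u} [CommRing B] [IsDomain B] [IsDiscreteValuationRing B] {F : Type u} [Field F]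
  [Algebra B F] (hinj : Function.Injective (algebraMap B F))
  (E : Subalgebra B F) [Algebra.FiniteType B E] [Algebra.FormallyUnramified B E]
  (V : ValuationSubring F) (hEV : ∀ x ∈ E, x ∈ V) (h : EtRam.Dominates B (algebraMap B F) V)

include h in
theorem isLocalHom_algebraMap : IsLocalHom (algebraMap B (LocAt E V hEV)) := by
  constructor
  intro b hb
  have h1 : IsUnit (ρV E V hEV (algebraMap B (LocAt E V hEV) b)) := hb.map _
  have h2 : ρV E V hEV (algebraMap B (LocAt E V hEV) b) =
      RingHom.codRestrict (algebraMap B F) V h.1 b := Subtype.ext (ρ_algebraMap' E V hEV b)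
  rw [h2] at h1
  exact (Groth.Agent.R2.H10.EtRamA.isLocalHom_of_dominates h).map_nonunit b h1

instance : Algebra.FormallyUnramified B (LocAt E V hEV) :=
  haveI : Algebra.FormallyUnramified E (LocAt E V hEV) :=
    Algebra.FormallyUnramified.of_isLocalization (center E V hEV).primeCompl
  Algebra.FormallyUnramified.comp B E (LocAt E V hEV)

instance : Algebra.EssFiniteType B (LocAt E V hEV) :=
  haveI : Algebra.EssFiniteType E (LocAt E V hEV) :=
    Algebra.EssFiniteType.of_isLocalization (LocAt E V hEV) (center E V hEV).primeCompl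
  Algebra.EssFiniteType.comp B E (LocAt E V hEV)

include h in
theorem map_maximalIdeal_locAt :
    (maximalIdeal B).map (algebraMap B (LocAt E V hEV)) = maximalIdeal (LocAt E V hEV) := by
  haveI := isLocalHom_algebraMap E V hEV h
  exact Algebra.FormallyUnramified.map_maximalIdeal

include h in
theorem isSeparable_locAt :
    haveI := isLocalHom_algebraMap E V hEV h
    Algebra.IsSeparable (ResidueField B) (ResidueField (LocAt E V hEV)) := by
  haveI := isLocalHom_algebraMap E V hEV h
  infer_instance

instance : IsDomain (LocAt E V hEV) :=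
  IsLocalization.isDomain_localization (center E V hEV).primeCompl_le_nonZeroDivisors

include h hinj in
theorem isDiscreteValuationRing_locAt : IsDiscreteValuationRing (LocAt E V hEV) := by
  haveI : IsNoetherianRing (LocAt E V hEV) := Algebra.EssFiniteType.isNoetherianRing B _
  obtain ⟨ϖ, hϖ⟩ := IsDiscreteValuationRing.exists_irreducible B
  have hϖm : ϖ ∈ maximalIdeal B := by
    rw [mem_maximalIdeal, mem_nonunits_iff]; exact hϖ.not_isUnit
  have hmap := map_maximalIdeal_locAt E V hEV h
  have hnf : ¬ IsField (LocAt E V hEV) := by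
    rw [IsLocalRing.isField_iff_maximalIdeal_eq]
    intro hbot
    have h1 : algebraMap B (LocAt E V hEV) ϖ ∈ maximalIdeal (LocAt E V hEV) := by
      rw [← hmap]; exact Ideal.mem_map_of_mem _ hϖm
    rw [hbot, Ideal.mem_bot] at h1
    have h2 := congrArg (ρ E V hEV) h1
    rw [ρ_algebraMap', map_zero] at h2
    exact hϖ.ne_zero ((map_eq_zero_iff _ hinj).mp h2)
  refine ((IsDiscreteValuationRing.TFAE (LocAt E V hEV) hnf).out 0 4).mpr ?_
  rw [← hmap, hϖ.maximalIdeal_eq, Ideal.map_span, Set.image_singleton]
  exact ⟨⟨_, rfl⟩⟩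

include hinj h hEV in
/-- pointwise version: `V` is unramified over `B` as soon as it contains a finite type formally
unramified `B`-subalgebra `E` of `F` with fraction field `F`. -/
theorem unrAt (hfrac : ∀ x : F, ∃ a b : E, b ≠ 0 ∧ x * (b : F) = (a : F)) :
    letI : Algebra B V := (RingHom.codRestrict (algebraMap B F) V h.1).toAlgebra
    ∀ [IsLocalHom (algebraMap B V)],
      EtRam.IsWeaklyUnramified B V ∧
        Algebra.IsSeparable (ResidueField B) (ResidueField V) := by
  letI : Algebra B V := (RingHom.codRestrict (algebraMap B F) V h.1).toAlgebra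
  intro hloc
  haveI := isDiscreteValuationRing_locAt hinj E V hEV h
  haveI := isLocalHom_algebraMap E V hEV h
  have hfrac' : ∀ x : F, ∃ a b : LocAt E V hEV, b ≠ 0 ∧ x * ρ E V hEV b = ρ E V hEV a := by
    intro x
    obtain ⟨a, b, hb, hab⟩ := hfrac x
    refine ⟨algebraMap E _ a, algebraMap E _ b, ?_, ?_⟩
    · intro h0
      apply hb
      exact (map_eq_zero_iff _ (IsLocalization.injective _
        (center E V hEV).primeCompl_le_nonZeroDivisors)).mp h0
    · rw [ρ_algebraMap, ρ_algebraMap, hab]
  obtain ⟨h1, -, h3⟩ := Groth.Agent.R2.H73.ValDVR.dict (algebraMap B F) (ρ E V hEV)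
    (ρ_algebraMap' E V hEV) (ρ_injective E V hEV) hfrac' V (ρ_mem E V hEV) (ρ_lt_one E V hEV) h
  exact ⟨h1.mpr (map_maximalIdeal_locAt E V hEV h), h3.mpr (isSeparable_locAt E V hEV h)⟩

end Unr

section Global

variable {B : Type u} [CommRing B] [IsDomain B] [IsDiscreteValuationRing B] {F : Type u} [Field F]
  [Algebra B F] (hinj : Function.Injective (algebraMap B F))
  (E : Subalgebra B F) [Module.Finite B E] [Algebra.FormallyUnramified B E]

include hinj in
/-- **LOC**: if `F` is the fraction field of a finite formally unramified `B`-subalgebra, then `F`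
is unramified with respect to `B`. -/
theorem isUnramifiedExt_of_subalgebra
    (hfrac : ∀ x : F, ∃ a b : E, b ≠ 0 ∧ x * (b : F) = (a : F)) :
    EtRam.IsUnramifiedExt B (algebraMap B F) := by
  intro V h
  have hEV : ∀ x ∈ E, x ∈ V := by
    intro x hx
    letI : Algebra B V := (RingHom.codRestrict (algebraMap B F) V h.1).toAlgebra
    haveI : IsScalarTower B V F := IsScalarTower.of_algebraMap_eq (fun _ => rfl)
    have hx' : IsIntegral B (⟨x, hx⟩ : E) := Algebra.IsIntegral.isIntegral _
    have hx'' : IsIntegral B x := by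
      have := hx'.map (E.val)
      simpa using this
    have hxV : IsIntegral V x := hx''.tower_top
    obtain ⟨y, hy⟩ := (IsIntegrallyClosed.isIntegral_iff (R := V) (K := F)).mp hxV
    rw [← hy]
    exact y.2
  intro hloc
  exact unrAt hinj E V hEV h hfrac

end Global

end Groth.Agent.R2.H73.LocUnr
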