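import Mathlib
import Groth.Prelude.Def_EtRam
import Groth.Agent.R2.H73ValDVR
import Groth.Agent.R2.H10EtRamA

set_option autoImplicit false
set_option linter.style.haveILetI false
set_option linter.unusedSectionVars false
universe u

namespace Groth.Agent.R2.H73.LocUnrB

open IsLocalRing

section

variable (A K K' : Type u) [CommRing A] [IsDomain A] [IsDiscreteValuationRing A] [Field K]
  [Algebra A K] [IsFractionRing A K] [Field K'] [Algebra K K'] [Algebra A K']
  [IsScalarTower A K K'] [FiniteDimensional K K'] [Algebra.IsSeparable K K']

include K in
/-- unramified at a maximal ideal of the integral closure -/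
theorem isUnramifiedAt_of_isMaximal (h : EtRam.IsUnramifiedExt A (algebraMap A K'))
    (m : Ideal (integralClosure A K')) [hm : m.IsMaximal] : Algebra.IsUnramifiedAt A m := by
  haveI : IsDedekindDomain (integralClosure A K') := integralClosure.isDedekindDomain A K K'
  haveI : IsFractionRing (integralClosure A K') K' :=
    integralClosure.isFractionRing_of_finite_extension K K'
  haveI : Module.Finite A (integralClosure A K') := IsIntegralClosure.finite A K K' _
  have hinjAK' : Function.Injective (algebraMap A K') := by
    rw [IsScalarTower.algebraMap_eq A K K']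
    exact (algebraMap K K').injective.comp (IsFractionRing.injective A K)
  have hinjAA' : Function.Injective (algebraMap A (integralClosure A K')) := by
    intro x y hxy
    apply hinjAK'
    have := congrArg Subtype.val hxy
    exact this
  have hm0 : m ≠ ⊥ := by
    rintro rfl
    have h1 : IsField (integralClosure A K') := Ring.isField_iff_maximal_bot.mpr hm
    exact IsDiscreteValuationRing.not_isField A (isField_of_isIntegral_of_isField hinjAA' h1)
  set D := Localization.AtPrime m with hD
  haveI : IsDiscreteValuationRing D :=
    IsLocalization.AtPrime.isDiscreteValuationRing_of_dedekind_domain (integralClosure A K') hm0 D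
  have hunits : ∀ s : m.primeCompl, IsUnit (algebraMap (integralClosure A K') K' s) := by
    intro s
    rw [isUnit_iff_ne_zero]
    intro h0
    apply s.2
    have : (s : integralClosure A K') = 0 :=
      (map_eq_zero_iff _ (IsFractionRing.injective (integralClosure A K') K')).mp h0
    rw [this]; exact Ideal.zero_mem _
  letI : Algebra D K' := (IsLocalization.lift (M := m.primeCompl)
    (g := algebraMap (integralClosure A K') K') hunits).toAlgebra
  haveI : IsScalarTower (integralClosure A K') D K' :=
    IsScalarTower.of_algebraMap_eq (fun x => (IsLocalization.lift_eq hunits x).symm)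
  haveI : IsFractionRing D K' :=
    IsFractionRing.isFractionRing_of_isDomain_of_isLocalization m.primeCompl D K'
  have hρ : Function.Injective (algebraMap D K') := IsFractionRing.injective D K'
  have hfrac : ∀ x : K', ∃ a b : D, b ≠ 0 ∧ x * algebraMap D K' b = algebraMap D K' a := by
    intro x
    obtain ⟨a, b, hb, rfl⟩ := IsFractionRing.div_surjective (A := D) x
    have hb0 : b ≠ 0 := nonZeroDivisors.ne_zero hb
    refine ⟨a, b, hb0, ?_⟩
    rw [div_mul_cancel₀]
    exact (map_ne_zero_iff _ hρ).mpr hb0
  obtain ⟨V, hV, hlocV⟩ := IsLocalRing.exists_factor_valuationRing (algebraMap D K')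
  have hρg : ∀ a : A, algebraMap D K' (algebraMap A D a) = algebraMap A K' a := by
    intro a
    rw [IsScalarTower.algebraMap_apply A (integralClosure A K') D,
      ← IsScalarTower.algebraMap_apply (integralClosure A K') D K']
    rfl
  have hloc : ∀ d ∈ maximalIdeal D, V.valuation (algebraMap D K' d) < 1 := by
    intro d hd
    have h1 : (⟨algebraMap D K' d, hV d⟩ : V) ∈ maximalIdeal V := by
      rw [mem_maximalIdeal, mem_nonunits_iff] at hd ⊢
      intro hu
      exact hd (hlocV.map_nonunit d hu)
    exact (V.valuation_lt_one_iff _).mp h1
  -- `A → D` is local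
  haveI hlocAD : IsLocalHom (algebraMap A D) := by
    haveI : m.LiesOver (maximalIdeal A) := by
      constructor
      have h1 : (m.under A).IsMaximal := Ideal.IsMaximal.under A m
      exact (IsLocalRing.eq_maximalIdeal h1).symm
    constructor
    intro a ha
    by_contra hna
    have ham : a ∈ maximalIdeal A := hna
    have h1 : algebraMap A (integralClosure A K') a ∈ m := by
      have := (Ideal.LiesOver.over (P := m) (p := maximalIdeal A))
      rw [this] at ham
      exact ham
    rw [IsScalarTower.algebraMap_apply A (integralClosure A K') D] at ha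
    have h2 := (IsLocalization.AtPrime.isUnit_to_map_iff D m _).mp ha
    exact h2 h1
  have hdom : EtRam.Dominates A (algebraMap A K') V := by
    refine ⟨fun a => ?_, fun a ha => ?_⟩
    · rw [← hρg]; exact hV _
    · rw [← hρg]
      apply hloc
      rw [mem_maximalIdeal, mem_nonunits_iff] at ha ⊢
      intro hu
      exact ha (hlocAD.map_nonunit a hu)
  haveI := Groth.Agent.R2.H10.EtRamA.isLocalHom_of_dominates hdom
  obtain ⟨h1, -, h3⟩ := Groth.Agent.R2.H73.ValDVR.dict (algebraMap A K') (algebraMap D K')
    hρg hρ hfrac V hV hloc hdom
  letI : Algebra A V := (RingHom.codRestrict (algebraMap A K') V hdom.1).toAlgebra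
  haveI : IsLocalHom (algebraMap A V) := Groth.Agent.R2.H10.EtRamA.isLocalHom_of_dominates hdom
  obtain ⟨hw, hs⟩ := h V hdom
  have hw' := h1.mp hw
  haveI hs' := h3.mp hs
  exact Algebra.FormallyUnramified.of_map_maximalIdeal hw'

include K in
/-- **LOC'**: if `K'` is unramified with respect to `A`, the integral closure of `A` in `K'` is
formally unramified over `A`. -/
theorem formallyUnramified_integralClosure (h : EtRam.IsUnramifiedExt A (algebraMap A K')) :
    Algebra.FormallyUnramified A (integralClosure A K') := by
  haveI : Module.Finite A (integralClosure A K') := IsIntegralClosure.finite A K K' _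
  rw [Algebra.formallyUnramified_iff_forall]
  intro q
  obtain ⟨m, hm, hqm⟩ := Ideal.exists_le_maximal q.asIdeal q.2.ne_top
  have h1 : (⟨m, hm.isPrime⟩ : PrimeSpectrum (integralClosure A K')) ∈
      Algebra.unramifiedLocus A (integralClosure A K') :=
    isUnramifiedAt_of_isMaximal A K K' h m
  have h2 : q ⤳ (⟨m, hm.isPrime⟩ : PrimeSpectrum (integralClosure A K')) :=
    (PrimeSpectrum.le_iff_specializes _ _).mp hqm
  exact h2.mem_open Algebra.isOpen_unramifiedLocus h1

end

end Groth.Agent.R2.H73.LocUnrB
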