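import Mathlib
import Groth.Prelude.Def_EtRam
import Groth.Agent.R2.H73LocUnr
import Groth.Agent.R2.H73LocUnrB

set_option autoImplicit false
set_option linter.style.haveILetI false
set_option linter.unusedSectionVars false
universe u

namespace Groth.Agent.R2.H73.UnrBC

open IsLocalRing TensorProduct

section Frac

variable {B F : Type*} [CommRing B] [Field F] [Algebra B F] (E : Subalgebra B F)

/-- the set of fractions of elements of `E` -/
def IsFrac (x : F) : Prop := ∃ a b : E, b ≠ 0 ∧ x * (b : F) = (a : F)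

theorem isFrac_of_mem {x : F} (hx : x ∈ E) : IsFrac E x :=
  ⟨⟨x, hx⟩, 1, one_ne_zero, by simp⟩

theorem isFrac_zero : IsFrac E (0 : F) := isFrac_of_mem E E.zero_mem

variable {E}

theorem IsFrac.add {x y : F} (hx : IsFrac E x) (hy : IsFrac E y) : IsFrac E (x + y) := by
  obtain ⟨a, b, hb, hab⟩ := hx
  obtain ⟨c, d, hd, hcd⟩ := hy
  refine ⟨a * d + c * b, b * d, mul_ne_zero hb hd, ?_⟩
  push_cast
  rw [← hab, ← hcd]; ring

theorem IsFrac.mul {x y : F} (hx : IsFrac E x) (hy : IsFrac E y) : IsFrac E (x * y) := by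
  obtain ⟨a, b, hb, hab⟩ := hx
  obtain ⟨c, d, hd, hcd⟩ := hy
  refine ⟨a * c, b * d, mul_ne_zero hb hd, ?_⟩
  push_cast
  rw [← hab, ← hcd]; ring

theorem IsFrac.inv {x : F} (hx : IsFrac E x) : IsFrac E x⁻¹ := by
  by_cases hx0 : x = 0
  · rw [hx0, inv_zero]; exact isFrac_zero E
  obtain ⟨a, b, hb, hab⟩ := hx
  have hb0 : (b : F) ≠ 0 := fun h => hb (Subtype.ext h)
  have ha : a ≠ 0 := by
    rintro rfl
    rcases mul_eq_zero.mp hab with h | h
    · exact hx0 h
    · exact hb0 h
  refine ⟨b, a, ha, ?_⟩
  rw [← hab]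
  field_simp

theorem IsFrac.div {x y : F} (hx : IsFrac E x) (hy : IsFrac E y) : IsFrac E (x / y) := by
  rw [div_eq_mul_inv]; exact hx.mul hy.inv

end Frac

section Main

variable (A B K L K' : Type u) [CommRing A] [IsDomain A]
    [IsDiscreteValuationRing A] [CommRing B] [IsDomain B] [IsDiscreteValuationRing B] [Algebra A B]
    [Field K] [Field L] [Field K'] [Algebra A K] [IsFractionRing A K] [Algebra B L]
    [IsFractionRing B L]
    [Algebra K L] [Algebra A L] [IsScalarTower A K L] [IsScalarTower A B L]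
    [Algebra K K'] [FiniteDimensional K K'] [Algebra.IsSeparable K K']

theorem main
    (h : EtRam.IsUnramifiedExt A ((algebraMap K K').comp (algebraMap A K)))
    (F : Type u) [Field F] [Algebra (K' ⊗[K] L) F]
    (hF : Function.Surjective (algebraMap (K' ⊗[K] L) F)) :
    EtRam.IsUnramifiedExt B ((algebraMap (K' ⊗[K] L) F).comp
      ((Algebra.TensorProduct.includeRight : L →ₐ[K] K' ⊗[K] L).toRingHom.comp
        (algebraMap B L))) := by
  letI : Algebra A K' := ((algebraMap K K').comp (algebraMap A K)).toAlgebra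
  haveI : IsScalarTower A K K' := IsScalarTower.of_algebraMap_eq (fun _ => rfl)
  haveI fu : Algebra.FormallyUnramified A (integralClosure A K') :=
    Groth.Agent.R2.H73.LocUnrB.formallyUnramified_integralClosure A K K' h
  haveI : Module.Finite A (integralClosure A K') := IsIntegralClosure.finite A K K' _
  haveI : IsFractionRing (integralClosure A K') K' :=
    integralClosure.isFractionRing_of_finite_extension K K'
  set g : B →+* F := (algebraMap (K' ⊗[K] L) F).comp
      ((Algebra.TensorProduct.includeRight : L →ₐ[K] K' ⊗[K] L).toRingHom.comp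
        (algebraMap B L)) with hg
  letI : Algebra B F := g.toAlgebra
  letI : Algebra A F := (g.comp (algebraMap A B)).toAlgebra
  haveI : IsScalarTower A B F := IsScalarTower.of_algebraMap_eq (fun _ => rfl)
  let ιK' : K' →+* F := (algebraMap (K' ⊗[K] L) F).comp
    (Algebra.TensorProduct.includeLeft : K' →ₐ[K] K' ⊗[K] L).toRingHom
  let ιL : L →+* F := (algebraMap (K' ⊗[K] L) F).comp
    (Algebra.TensorProduct.includeRight : L →ₐ[K] K' ⊗[K] L).toRingHom
  have hgι : ∀ b : B, g b = ιL (algebraMap B L b) := fun b => rfl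
  have hcompat : ∀ a : A, ιK' (algebraMap A K' a) = algebraMap A F a := by
    intro a
    change algebraMap (K' ⊗[K] L) F ((algebraMap K K' (algebraMap A K a)) ⊗ₜ (1 : L)) =
      algebraMap (K' ⊗[K] L) F ((1 : K') ⊗ₜ (algebraMap B L (algebraMap A B a)))
    congr 1
    rw [← IsScalarTower.algebraMap_apply A B L, IsScalarTower.algebraMap_apply A K L,
      Algebra.algebraMap_eq_smul_one (algebraMap A K a), Algebra.algebraMap_eq_smul_one
        (A := L) (algebraMap A K a), TensorProduct.smul_tmul]
  have hinj : Function.Injective (algebraMap B F) := by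
    intro x y hxy
    have hxy' : ιL (algebraMap B L x) = ιL (algebraMap B L y) := hxy
    exact IsFractionRing.injective B L (ιL.injective hxy')
  -- the map from the integral closure
  let ψ : integralClosure A K' →ₐ[A] F :=
    { toRingHom := ιK'.comp (algebraMap (integralClosure A K') K')
      commutes' := fun a => hcompat a }
  let φ : B ⊗[A] integralClosure A K' →ₐ[B] F :=
    Algebra.TensorProduct.lift (Algebra.ofId B F) ψ (fun _ _ => Commute.all _ _)
  let E : Subalgebra B F := φ.range
  have hsurj : Function.Surjective φ.rangeRestrict := φ.rangeRestrict_surjective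
  haveI : Module.Finite B E := Module.Finite.of_surjective φ.rangeRestrict.toLinearMap hsurj
  haveI : Algebra.FormallyUnramified B E := Algebra.FormallyUnramified.of_surjective
    φ.rangeRestrict hsurj
  refine Groth.Agent.R2.H73.LocUnr.isUnramifiedExt_of_subalgebra hinj E ?_
  -- fractions
  have hB : ∀ b : B, g b ∈ E := fun b => ⟨b ⊗ₜ 1, by simp [φ]; rfl⟩
  have hA' : ∀ a : integralClosure A K', ιK' (a : K') ∈ E := fun a => ⟨1 ⊗ₜ a, by simp [φ]; rfl⟩
  have hL : ∀ l : L, IsFrac E (ιL l) := by
    intro l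
    obtain ⟨a, b, hb, rfl⟩ := IsFractionRing.div_surjective (A := B) l
    rw [map_div₀]
    exact (isFrac_of_mem E (hB a)).div (isFrac_of_mem E (hB b))
  have hK' : ∀ k : K', IsFrac E (ιK' k) := by
    intro k
    obtain ⟨a, b, hb, rfl⟩ := IsFractionRing.div_surjective (A := integralClosure A K') k
    rw [map_div₀]
    exact (isFrac_of_mem E (hA' a)).div (isFrac_of_mem E (hA' b))
  intro x
  obtain ⟨t, rfl⟩ := hF x
  induction t using TensorProduct.induction_on with
  | zero => rw [map_zero]; exact isFrac_zero E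
  | tmul k l =>
    have : algebraMap (K' ⊗[K] L) F (k ⊗ₜ l) = ιK' k * ιL l := by
      change algebraMap (K' ⊗[K] L) F (k ⊗ₜ l) =
        algebraMap (K' ⊗[K] L) F (k ⊗ₜ 1) * algebraMap (K' ⊗[K] L) F (1 ⊗ₜ l)
      rw [← map_mul, Algebra.TensorProduct.tmul_mul_tmul, mul_one, one_mul]
    rw [this]
    exact (hK' k).mul (hL l)
  | add x y hx hy => rw [map_add]; exact IsFrac.add hx hy

end Main

end Groth.Agent.R2.H73.UnrBC
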