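import Mathlib

set_option autoImplicit false
set_option linter.style.haveILetI false
set_option linter.unusedSectionVars false
universe u

namespace Groth.Agent.R2.H73.Eis

open IsLocalRing Polynomial

section

variable {R : Type u} [CommRing R] [IsDomain R] [IsDiscreteValuationRing R] (ϖ : R)
  (hϖ : Irreducible ϖ) (f : ℕ) (hf : 0 < f)

/-- the Eisenstein extension `R[X]/(X^f - ϖ)` -/
abbrev Ext : Type u := AdjoinRoot (X ^ f - C ϖ : R[X])

include hf in
theorem monic : (X ^ f - C ϖ : R[X]).Monic := monic_X_pow_sub_C ϖ hf.ne'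

include hϖ hf in
theorem irreducible_poly : Irreducible (X ^ f - C ϖ : R[X]) := by
  have hm := monic ϖ f hf
  have hdeg : (X ^ f - C ϖ : R[X]).natDegree = f := natDegree_X_pow_sub_C
  have hP : (Ideal.span {ϖ}).IsPrime := by
    rw [Ideal.span_singleton_prime hϖ.ne_zero]
    exact hϖ.prime
  apply irreducible_of_eisenstein_criterion hP
  · rw [hm.leadingCoeff]
    intro h1
    exact hP.ne_top ((Ideal.eq_top_iff_one _).mpr h1)
  · intro n hn
    have hn' : n < f := by
      rw [degree_eq_natDegree hm.ne_zero, hdeg] at hn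
      exact_mod_cast hn
    rw [coeff_sub, coeff_X_pow, coeff_C, if_neg hn'.ne, zero_sub]
    split_ifs
    · exact (Ideal.neg_mem_iff _).mpr (Ideal.mem_span_singleton_self ϖ)
    · simp
  · rw [degree_eq_natDegree hm.ne_zero, hdeg]
    exact_mod_cast hf
  · rw [coeff_sub, coeff_X_pow, coeff_C, if_neg hf.ne, if_pos rfl, zero_sub, Ideal.span_singleton_pow,
      Ideal.neg_mem_iff, Ideal.mem_span_singleton]
    rintro ⟨c, hc⟩
    have h1 : ϖ * 1 = ϖ * (ϖ * c) := by rw [mul_one, ← mul_assoc, ← sq]; exact hc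
    have h2 := mul_left_cancel₀ hϖ.ne_zero h1
    exact hϖ.not_isUnit (IsUnit.of_mul_eq_one c h2.symm)
  · exact hm.isPrimitive

include hϖ hf in
theorem isDomain : IsDomain (Ext ϖ f) :=
  AdjoinRoot.isDomain_of_prime (irreducible_poly ϖ hϖ f hf).prime

/-- the root -/
noncomputable abbrev z : Ext ϖ f := AdjoinRoot.root (X ^ f - C ϖ : R[X])

theorem z_pow : (z ϖ f) ^ f = algebraMap R (Ext ϖ f) ϖ := by
  have h := AdjoinRoot.mk_self (f := (X ^ f - C ϖ : R[X]))
  rw [map_sub, map_pow, AdjoinRoot.mk_X, AdjoinRoot.mk_C, sub_eq_zero] at h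
  exact h

theorem decomp (d : Ext ϖ f) : ∃ (a : R) (d' : Ext ϖ f), d = algebraMap R (Ext ϖ f) a + z ϖ f * d' := by
  obtain ⟨p, rfl⟩ := AdjoinRoot.mk_surjective d
  refine ⟨p.coeff 0, AdjoinRoot.mk _ p.divX, ?_⟩
  conv_lhs => rw [← Polynomial.X_mul_divX_add p]
  rw [map_add, map_mul, AdjoinRoot.mk_X, AdjoinRoot.mk_C, add_comm]
  rfl

include hf in
theorem finite : Module.Finite R (Ext ϖ f) := (monic ϖ f hf).finite_adjoinRoot

include hf in
theorem algebraMap_injective : Function.Injective (algebraMap R (Ext ϖ f)) :=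
  AdjoinRoot.of.injective_of_degree_ne_zero (by
    rw [degree_eq_natDegree (monic ϖ f hf).ne_zero, natDegree_X_pow_sub_C]
    exact_mod_cast hf.ne')

include hϖ hf in
theorem eq_span_of_isMaximal (n : Ideal (Ext ϖ f)) (hn : n.IsMaximal) : n = Ideal.span {z ϖ f} := by
  haveI := finite ϖ f hf
  haveI : Algebra.IsIntegral R (Ext ϖ f) := Algebra.IsIntegral.of_finite R _
  have h1 : (n.comap (algebraMap R (Ext ϖ f))).IsMaximal :=
    Ideal.isMaximal_comap_of_isIntegral_of_isMaximal n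
  have h2 : n.comap (algebraMap R (Ext ϖ f)) = maximalIdeal R := IsLocalRing.eq_maximalIdeal h1
  have hϖn : algebraMap R (Ext ϖ f) ϖ ∈ n := by
    have : ϖ ∈ n.comap (algebraMap R (Ext ϖ f)) := by
      rw [h2, mem_maximalIdeal, mem_nonunits_iff]; exact hϖ.not_isUnit
    exact this
  have hzn : z ϖ f ∈ n := by
    rw [← z_pow] at hϖn
    exact hn.isPrime.mem_of_pow_mem _ hϖn
  apply le_antisymm
  · intro d hd
    obtain ⟨a, d', rfl⟩ := decomp ϖ f d
    have h3 : algebraMap R (Ext ϖ f) a ∈ n := by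
      have := n.sub_mem hd (n.mul_mem_right d' hzn)
      simpa using this
    have h4 : a ∈ maximalIdeal R := by rw [← h2]; exact h3
    rw [hϖ.maximalIdeal_eq, Ideal.mem_span_singleton] at h4
    obtain ⟨c, rfl⟩ := h4
    rw [map_mul, ← z_pow]
    refine Ideal.add_mem _ ?_ (Ideal.mul_mem_right _ _ (Ideal.mem_span_singleton_self _))
    have hz : (z ϖ f) ^ f = z ϖ f * (z ϖ f) ^ (f - 1) := by
      rw [← pow_succ', Nat.sub_add_cancel hf]
    rw [hz, mul_assoc]
    exact Ideal.mul_mem_right _ _ (Ideal.mem_span_singleton_self _)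
  · rw [Ideal.span_le, Set.singleton_subset_iff]
    exact hzn

include hϖ hf in
theorem isLocalRing : IsLocalRing (Ext ϖ f) := by
  haveI : Nontrivial (Ext ϖ f) := (algebraMap_injective ϖ f hf).nontrivial
  apply IsLocalRing.of_unique_max_ideal
  obtain ⟨n, hn⟩ := Ideal.exists_maximal (Ext ϖ f)
  refine ⟨n, hn, fun n' hn' => ?_⟩
  rw [eq_span_of_isMaximal ϖ hϖ f hf n hn, eq_span_of_isMaximal ϖ hϖ f hf n' hn']

include hϖ hf in
theorem maximalIdeal_eq :
    haveI := isLocalRing ϖ hϖ f hf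
    maximalIdeal (Ext ϖ f) = Ideal.span {z ϖ f} := by
  haveI := isLocalRing ϖ hϖ f hf
  exact eq_span_of_isMaximal ϖ hϖ f hf _ (maximalIdeal.isMaximal _)

include hϖ hf in
theorem z_ne_zero : z ϖ f ≠ 0 := by
  intro h0
  have h1 := z_pow ϖ f
  rw [h0, zero_pow hf.ne'] at h1
  exact hϖ.ne_zero ((map_eq_zero_iff _ (algebraMap_injective ϖ f hf)).mp h1.symm)

include hϖ hf in
theorem isDiscreteValuationRing :
    haveI := isDomain ϖ hϖ f hf
    IsDiscreteValuationRing (Ext ϖ f) := by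
  haveI := isDomain ϖ hϖ f hf
  haveI := isLocalRing ϖ hϖ f hf
  haveI := finite ϖ f hf
  haveI : IsNoetherianRing (Ext ϖ f) := IsNoetherianRing.of_finite R _
  have hmax := maximalIdeal_eq ϖ hϖ f hf
  have hnf : ¬ IsField (Ext ϖ f) := by
    rw [IsLocalRing.isField_iff_maximalIdeal_eq, hmax, Ideal.span_singleton_eq_bot]
    exact z_ne_zero ϖ hϖ f hf
  refine ((IsDiscreteValuationRing.TFAE (Ext ϖ f) hnf).out 0 4).mpr ?_
  rw [hmax]
  exact ⟨⟨_, rfl⟩⟩

include hϖ hf in
theorem residue_algebraMap_surjective :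
    haveI := isLocalRing ϖ hϖ f hf
    ∀ x : ResidueField (Ext ϖ f), ∃ a : R, residue (Ext ϖ f) (algebraMap R (Ext ϖ f) a) = x := by
  haveI := isLocalRing ϖ hϖ f hf
  intro x
  obtain ⟨d, rfl⟩ := residue_surjective x
  obtain ⟨a, d', rfl⟩ := decomp ϖ f d
  refine ⟨a, ?_⟩
  rw [map_add, left_eq_add, residue_eq_zero_iff, maximalIdeal_eq ϖ hϖ f hf]
  exact Ideal.mul_mem_right _ _ (Ideal.mem_span_singleton_self _)

include hϖ hf in
theorem isLocalHom_algebraMap :
    haveI := isLocalRing ϖ hϖ f hf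
    IsLocalHom (algebraMap R (Ext ϖ f)) := by
  haveI := isLocalRing ϖ hϖ f hf
  constructor
  intro a ha
  by_contra hna
  have h1 : a ∈ maximalIdeal R := hna
  rw [hϖ.maximalIdeal_eq, Ideal.mem_span_singleton] at h1
  obtain ⟨c, rfl⟩ := h1
  rw [map_mul, ← z_pow] at ha
  have h2 : IsUnit (z ϖ f) := by
    have h3 := isUnit_of_mul_isUnit_left ha
    exact (isUnit_pow_iff hf.ne').mp h3
  have h4 : z ϖ f ∈ maximalIdeal (Ext ϖ f) := by
    rw [maximalIdeal_eq ϖ hϖ f hf]; exact Ideal.mem_span_singleton_self _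
  rw [mem_maximalIdeal, mem_nonunits_iff] at h4
  exact h4 h2

include hϖ hf in
theorem ramificationIdx'_eq :
    haveI := isLocalRing ϖ hϖ f hf
    (maximalIdeal R).ramificationIdx' (maximalIdeal (Ext ϖ f)) = f := by
  haveI := isLocalRing ϖ hϖ f hf
  haveI := isDomain ϖ hϖ f hf
  have hmap : (maximalIdeal R).map (algebraMap R (Ext ϖ f)) = Ideal.span {(z ϖ f) ^ f} := by
    rw [hϖ.maximalIdeal_eq, Ideal.map_span, Set.image_singleton, z_pow]
  apply Ideal.ramificationIdx'_spec
  · rw [hmap, maximalIdeal_eq ϖ hϖ f hf, Ideal.span_singleton_pow]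
  · rw [hmap, maximalIdeal_eq ϖ hϖ f hf, Ideal.span_singleton_pow, Ideal.span_singleton_le_span_singleton]
    rintro ⟨c, hc⟩
    have h1 : (z ϖ f) ^ f * 1 = (z ϖ f) ^ f * (z ϖ f * c) := by
      rw [mul_one, ← mul_assoc, ← pow_succ]; exact hc
    have h2 := mul_left_cancel₀ (pow_ne_zero f (z_ne_zero ϖ hϖ f hf)) h1
    have h3 : IsUnit (z ϖ f) := IsUnit.of_mul_eq_one c h2.symm
    have h4 : z ϖ f ∈ maximalIdeal (Ext ϖ f) := by
      rw [maximalIdeal_eq ϖ hϖ f hf]; exact Ideal.mem_span_singleton_self _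
    rw [mem_maximalIdeal, mem_nonunits_iff] at h4
    exact h4 h3

end

section General

variable {A D : Type*} [CommRing A] [CommRing D] [IsDomain D] [IsLocalRing D] [Algebra A D]

/-- if `I D = (z^f)` where `z` is a nonzero generator of the maximal ideal of the local domain `D`,
then the ramification index is `f`. -/
theorem ramificationIdx'_eq_of_map_eq (I : Ideal A) (z : D)
    (hz : maximalIdeal D = Ideal.span {z}) (hz0 : z ≠ 0) (f : ℕ)
    (hmap : I.map (algebraMap A D) = Ideal.span {z ^ f}) :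
    I.ramificationIdx' (maximalIdeal D) = f := by
  apply Ideal.ramificationIdx'_spec
  · rw [hmap, hz, Ideal.span_singleton_pow]
  · rw [hmap, hz, Ideal.span_singleton_pow, Ideal.span_singleton_le_span_singleton]
    rintro ⟨c, hc⟩
    have h1 : z ^ f * 1 = z ^ f * (z * c) := by
      rw [mul_one, ← mul_assoc, ← pow_succ]; exact hc
    have h2 := mul_left_cancel₀ (pow_ne_zero f hz0) h1
    have h3 : IsUnit z := IsUnit.of_mul_eq_one c h2.symm
    have h4 : z ∈ maximalIdeal D := by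
      rw [hz]; exact Ideal.mem_span_singleton_self _
    rw [mem_maximalIdeal, mem_nonunits_iff] at h4
    exact h4 h3

end General

end Groth.Agent.R2.H73.Eis
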