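import Mathlib

set_option autoImplicit false
set_option linter.style.haveILetI false
set_option linter.unusedSectionVars false
universe u

namespace Groth.Agent.R2.H73.Kum

open Polynomial

section

variable {R : Type u} [CommRing R] (p : R[X])

/-- `R[X]/(p)` is formally unramified over `R` when `p'` is invertible in it. -/
theorem formallyUnramified_adjoinRoot
    (h : IsUnit (AdjoinRoot.mk p (derivative p))) :
    Algebra.FormallyUnramified R (AdjoinRoot p) := by
  rw [Algebra.formallyUnramified_iff]
  have hD : ∀ x : AdjoinRoot p, KaehlerDifferential.D R (AdjoinRoot p) x = 0 := by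
    have hroot : KaehlerDifferential.D R (AdjoinRoot p) (AdjoinRoot.root p) = 0 := by
      have h1 : KaehlerDifferential.D R (AdjoinRoot p) (aeval (AdjoinRoot.root p) p) = 0 := by
        rw [AdjoinRoot.aeval_eq, AdjoinRoot.mk_self, map_zero]
      rw [Derivation.map_aeval, AdjoinRoot.aeval_eq] at h1
      obtain ⟨v, hv⟩ := h
      rw [← hv] at h1
      have h2 := congrArg (fun t => ((v⁻¹ : (AdjoinRoot p)ˣ) : AdjoinRoot p) • t) h1
      simp only [smul_smul, Units.inv_mul, one_smul, smul_zero] at h2
      exact h2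
    intro x
    obtain ⟨q, rfl⟩ := AdjoinRoot.mk_surjective x
    rw [← AdjoinRoot.aeval_eq, Derivation.map_aeval, hroot, smul_zero]
  have htop := KaehlerDifferential.span_range_derivation R (AdjoinRoot p)
  have : Set.range (KaehlerDifferential.D R (AdjoinRoot p)) ⊆ {0} := by
    rintro _ ⟨x, rfl⟩; exact hD x
  have hbot : (⊤ : Submodule (AdjoinRoot p) (Ω[AdjoinRoot p⁄R])) = ⊥ := by
    rw [← htop, Submodule.span_eq_bot]
    intro y hy
    exact this hy
  exact subsingleton_of_forall_eq 0 (fun y => by
    have : y ∈ (⊤ : Submodule (AdjoinRoot p) (Ω[AdjoinRoot p⁄R])) := trivial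
    rw [hbot] at this
    exact this)

/-- Kummer extensions `R[X]/(X^g - u)` with `g, u` invertible are formally unramified. -/
theorem formallyUnramified_kummer (g : ℕ) (hg : 0 < g) (u : R) (hu : IsUnit u)
    (hgu : IsUnit (g : R)) :
    Algebra.FormallyUnramified R (AdjoinRoot (X ^ g - C u : R[X])) := by
  apply formallyUnramified_adjoinRoot
  have h1 : derivative (X ^ g - C u : R[X]) = C (g : R) * X ^ (g - 1) := by
    rw [derivative_sub, derivative_X_pow, derivative_C, sub_zero]
  rw [h1, map_mul, map_pow, AdjoinRoot.mk_X, AdjoinRoot.mk_C]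
  have hroot : (AdjoinRoot.root (X ^ g - C u : R[X])) ^ g = AdjoinRoot.of _ u := by
    have h := AdjoinRoot.mk_self (f := (X ^ g - C u : R[X]))
    rw [map_sub, map_pow, AdjoinRoot.mk_X, AdjoinRoot.mk_C, sub_eq_zero] at h
    exact h
  have h2 : IsUnit (AdjoinRoot.root (X ^ g - C u : R[X])) := by
    have h3 : IsUnit ((AdjoinRoot.root (X ^ g - C u : R[X])) ^ g) := by
      rw [hroot]; exact hu.map _
    exact (isUnit_pow_iff hg.ne').mp h3
  exact (hgu.map _).mul (h2.pow _)

end

end Groth.Agent.R2.H73.Kum
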