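import Mathlib
import Groth.Prelude.Def_EtRam
import Groth.Agent.R2.H73ValDVR
import Groth.Agent.R2.H73LocUnr
import Groth.Agent.R2.H73Eis
import Groth.Agent.R2.H73Kum

set_option autoImplicit false
set_option linter.style.haveILetI false
set_option linter.unusedSectionVars false
universe u

namespace Groth.Agent.R2.H73.KE

open IsLocalRing Polynomial

section EisMap

variable {D₁ : Type u} [CommRing D₁] [IsDomain D₁] [IsDiscreteValuationRing D₁] (ϖ₁ : D₁)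
  (hϖ₁ : Irreducible ϖ₁) (f : ℕ) (hf : 0 < f) {F : Type u} [Field F] (ρ₁ : D₁ →+* F)
  (hρ₁ : Function.Injective ρ₁) (w : F) (hw : w ^ f = ρ₁ ϖ₁)

/-- the map `D₁[X]/(X^f - ϖ₁) → F` sending the root to `w` -/
noncomputable def ρ : Eis.Ext ϖ₁ f →+* F :=
  AdjoinRoot.lift ρ₁ w (by rw [eval₂_sub, eval₂_pow, eval₂_X, eval₂_C, hw, sub_self])

theorem ρ_mk (p : D₁[X]) : ρ ϖ₁ f ρ₁ w hw (AdjoinRoot.mk _ p) = p.eval₂ ρ₁ w :=
  AdjoinRoot.lift_mk _ p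

theorem ρ_root : ρ ϖ₁ f ρ₁ w hw (Eis.z ϖ₁ f) = w := AdjoinRoot.lift_root _

theorem ρ_algebraMap (d : D₁) : ρ ϖ₁ f ρ₁ w hw (algebraMap D₁ (Eis.Ext ϖ₁ f) d) = ρ₁ d :=
  AdjoinRoot.lift_of _

include hϖ₁ hf hρ₁ hw in
theorem w_ne_zero : w ≠ 0 := by
  intro h0
  rw [h0, zero_pow hf.ne'] at hw
  exact hϖ₁.ne_zero ((map_eq_zero_iff ρ₁ hρ₁).mp hw.symm)

include hϖ₁ hf hρ₁ in
theorem ρ_injective : Function.Injective (ρ ϖ₁ f ρ₁ w hw) := by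
  haveI := Eis.isDomain ϖ₁ hϖ₁ f hf
  haveI := Eis.isDiscreteValuationRing ϖ₁ hϖ₁ f hf
  rw [RingHom.injective_iff_ker_eq_bot]
  by_contra hne
  have hirr : Irreducible (Eis.z ϖ₁ f) := by
    rw [IsDiscreteValuationRing.irreducible_iff_uniformizer]
    exact Eis.maximalIdeal_eq ϖ₁ hϖ₁ f hf
  obtain ⟨n, hn⟩ := IsDiscreteValuationRing.ideal_eq_span_pow_irreducible hne hirr
  have h1 : (Eis.z ϖ₁ f) ^ n ∈ RingHom.ker (ρ ϖ₁ f ρ₁ w hw) := by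
    rw [hn]; exact Ideal.mem_span_singleton_self _
  rw [RingHom.mem_ker, map_pow, ρ_root] at h1
  exact w_ne_zero ϖ₁ hϖ₁ f hf ρ₁ hρ₁ w hw (pow_eq_zero_iff'.mp h1).1

variable (V : ValuationSubring F) (hV₁ : ∀ d, ρ₁ d ∈ V)
  (hloc₁ : ∀ d ∈ maximalIdeal D₁, V.valuation (ρ₁ d) < 1)

include hϖ₁ hloc₁ hf hw in
theorem valuation_w_lt_one : V.valuation w < 1 := by
  have h1 : V.valuation (w ^ f) < 1 := by
    rw [hw]; apply hloc₁
    rw [mem_maximalIdeal, mem_nonunits_iff]; exact hϖ₁.not_isUnit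
  rw [map_pow] at h1
  by_contra h2
  rw [not_lt] at h2
  exact absurd h1 (not_lt.mpr (one_le_pow₀ h2))

include hϖ₁ hloc₁ hV₁ hf in
theorem ρ_mem (d : Eis.Ext ϖ₁ f) : ρ ϖ₁ f ρ₁ w hw d ∈ V := by
  obtain ⟨p, rfl⟩ := AdjoinRoot.mk_surjective d
  rw [ρ_mk, eval₂_eq_sum_range]
  have hwV : w ∈ V := (V.valuation_le_one_iff w).mp
    (valuation_w_lt_one ϖ₁ hϖ₁ f hf ρ₁ w hw V hloc₁).le
  exact V.toSubring.sum_mem (fun i _ => V.mul_mem _ _ (hV₁ _) (V.toSubring.pow_mem hwV i))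

include hϖ₁ hloc₁ hV₁ hf in
theorem ρ_lt_one :
    haveI := Eis.isLocalRing ϖ₁ hϖ₁ f hf
    ∀ d ∈ maximalIdeal (Eis.Ext ϖ₁ f), V.valuation (ρ ϖ₁ f ρ₁ w hw d) < 1 := by
  haveI := Eis.isLocalRing ϖ₁ hϖ₁ f hf
  intro d hd
  rw [Eis.maximalIdeal_eq ϖ₁ hϖ₁ f hf, Ideal.mem_span_singleton] at hd
  obtain ⟨c, rfl⟩ := hd
  rw [map_mul, ρ_root, map_mul]
  have h1 := valuation_w_lt_one ϖ₁ hϖ₁ f hf ρ₁ w hw V hloc₁
  have h2 : V.valuation (ρ ϖ₁ f ρ₁ w hw c) ≤ 1 :=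
    (V.valuation_le_one_iff _).mpr (ρ_mem ϖ₁ hϖ₁ f hf ρ₁ w hw V hV₁ hloc₁ c)
  calc V.valuation w * V.valuation (ρ ϖ₁ f ρ₁ w hw c) ≤ V.valuation w * 1 :=
        mul_le_mul_right h2 _
    _ = V.valuation w := mul_one _
    _ < 1 := h1

end EisMap

section Integral

variable {B : Type u} [CommRing B] [IsLocalRing B] {F : Type u} [Field F] [Algebra B F]
  (E : Subalgebra B F) [Module.Finite B E] (V : ValuationSubring F)
  (h : EtRam.Dominates B (algebraMap B F) V)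

include h in
theorem mem_of_finite : ∀ x ∈ E, x ∈ V := by
  intro x hx
  letI : Algebra B V := (RingHom.codRestrict (algebraMap B F) V h.1).toAlgebra
  haveI : IsScalarTower B V F := IsScalarTower.of_algebraMap_eq (fun _ => rfl)
  have hx' : IsIntegral B (⟨x, hx⟩ : E) := Algebra.IsIntegral.isIntegral _
  have hx'' : IsIntegral B x := by
    have := hx'.map (E.val)
    simpa using this
  have hxV : IsIntegral V x := hx''.tower_top
  obtain ⟨y, hy⟩ := (IsIntegrallyClosed.isIntegral_iff (R := V) (K := F)).mp hxV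
  rw [← hy]
  exact y.2

end Integral

section Main

variable {W : Type u} [CommRing W] [IsDomain W] [IsDiscreteValuationRing W] (ϖ : W)
  (hϖ : Irreducible ϖ)
  {F : Type u} [Field F] [Algebra W F] (hinj : Function.Injective (algebraMap W F))
  (V : ValuationSubring F) (h : EtRam.Dominates W (algebraMap W F) V)
  (g : ℕ) (hg : 0 < g) (hgu : IsUnit (g : W)) (u : W) (hu : IsUnit u) (y : F)
  (hy : y ^ g = algebraMap W F u)
  (f : ℕ) (hf : 0 < f) (w : F) (r : ℤ) (hw : w ^ f = y ^ r * algebraMap W F ϖ)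
  (hfrac : ∀ x : F, ∃ a b : Algebra.adjoin W ({y, w} : Set F), b ≠ 0 ∧ x * (b : F) = (a : F))

include hϖ hinj hg hgu hu hy hf hw hfrac in
/-- **Kummer–Eisenstein**: if `F = Frac(W)(y, w)` with `y^g = u` a unit (`g` invertible) and
`w^f = y^r ϖ`, then every valuation subring of `F` dominating `W` has uniformizer `w`,
ramification index `f` and separable residue field extension. -/
theorem main :
    letI : Algebra W V := (RingHom.codRestrict (algebraMap W F) V h.1).toAlgebra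
    ∀ [IsLocalHom (algebraMap W V)],
      (∃ hwV : w ∈ V, maximalIdeal V = Ideal.span {(⟨w, hwV⟩ : V)}) ∧
      (maximalIdeal W).ramificationIdx' (maximalIdeal V) = f ∧
      Algebra.IsSeparable (ResidueField W) (ResidueField V) := by
  letI : Algebra W V := (RingHom.codRestrict (algebraMap W F) V h.1).toAlgebra
  intro hlocWV
  -- Step 1 : the Kummer part
  haveI : Algebra.FormallyUnramified W (AdjoinRoot (X ^ g - C u : W[X])) :=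
    Kum.formallyUnramified_kummer g hg u hu hgu
  haveI : Module.Finite W (AdjoinRoot (X ^ g - C u : W[X])) :=
    (monic_X_pow_sub_C u hg.ne').finite_adjoinRoot
  let φ₁ : AdjoinRoot (X ^ g - C u : W[X]) →ₐ[W] F :=
    AdjoinRoot.liftAlgHom (X ^ g - C u : W[X]) (Algebra.ofId W F) y (by
      rw [eval₂_sub, eval₂_pow, eval₂_X, eval₂_C, hy, sub_eq_zero]; rfl)
  let E₁ : Subalgebra W F := φ₁.range
  haveI : Module.Finite W E₁ :=
    Module.Finite.of_surjective φ₁.rangeRestrict.toLinearMap φ₁.rangeRestrict_surjective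
  haveI : Algebra.FormallyUnramified W E₁ :=
    Algebra.FormallyUnramified.of_surjective φ₁.rangeRestrict φ₁.rangeRestrict_surjective
  have hEV : ∀ x ∈ E₁, x ∈ V := mem_of_finite E₁ V h
  haveI : IsDiscreteValuationRing (LocUnr.LocAt E₁ V hEV) :=
    LocUnr.isDiscreteValuationRing_locAt hinj E₁ V hEV h
  haveI hlocWD₁ : IsLocalHom (algebraMap W (LocUnr.LocAt E₁ V hEV)) :=
    LocUnr.isLocalHom_algebraMap E₁ V hEV h
  have hρ₁ := LocUnr.ρ_injective E₁ V hEV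
  have hyE : y ∈ E₁ := ⟨AdjoinRoot.root _, by simp [φ₁]⟩
  set y₁ : LocUnr.LocAt E₁ V hEV := algebraMap E₁ _ ⟨y, hyE⟩ with hy₁def
  have hρy : LocUnr.ρ E₁ V hEV y₁ = y := LocUnr.ρ_algebraMap E₁ V hEV ⟨y, hyE⟩
  have hy₁ : y₁ ^ g = algebraMap W _ u :=
    hρ₁ (by rw [map_pow, hρy, hy, LocUnr.ρ_algebraMap'])
  have hy₁u : IsUnit y₁ := (isUnit_pow_iff hg.ne').mp (hy₁ ▸ hu.map _)
  obtain ⟨Y, hY⟩ := hy₁u
  set ϖ₁ : LocUnr.LocAt E₁ V hEV := ((Y ^ r : (LocUnr.LocAt E₁ V hEV)ˣ) : _) *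
    algebraMap W _ ϖ with hϖ₁def
  have hϖD₁ : Irreducible (algebraMap W (LocUnr.LocAt E₁ V hEV) ϖ) := by
    rw [IsDiscreteValuationRing.irreducible_iff_uniformizer,
      ← LocUnr.map_maximalIdeal_locAt E₁ V hEV h, hϖ.maximalIdeal_eq, Ideal.map_span,
      Set.image_singleton]
  have hϖ₁ : Irreducible ϖ₁ := (irreducible_units_mul _).mpr hϖD₁
  have hρY : LocUnr.ρ E₁ V hEV ((Y ^ r : (LocUnr.LocAt E₁ V hEV)ˣ) : _) = y ^ r := by
    have h1 : LocUnr.ρ E₁ V hEV ((Y ^ r : (LocUnr.LocAt E₁ V hEV)ˣ) : _) =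
        (((Units.map (LocUnr.ρ E₁ V hEV).toMonoidHom Y) ^ r : Fˣ) : F) := by
      rw [← map_zpow]; rfl
    rw [h1, Units.val_zpow_eq_zpow_val]
    congr 1
    change LocUnr.ρ E₁ V hEV (Y : LocUnr.LocAt E₁ V hEV) = y
    rw [hY, hρy]
  have hw' : w ^ f = LocUnr.ρ E₁ V hEV ϖ₁ := by
    rw [hϖ₁def, map_mul, LocUnr.ρ_algebraMap', hρY, hw]
  -- Step 2 : the Eisenstein part
  haveI := Eis.isDomain ϖ₁ hϖ₁ f hf
  haveI := Eis.isLocalRing ϖ₁ hϖ₁ f hf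
  haveI := Eis.isDiscreteValuationRing ϖ₁ hϖ₁ f hf
  have hρD := ρ_injective ϖ₁ hϖ₁ f hf (LocUnr.ρ E₁ V hEV) hρ₁ w hw'
  have hVD := ρ_mem ϖ₁ hϖ₁ f hf (LocUnr.ρ E₁ V hEV) w hw' V (LocUnr.ρ_mem E₁ V hEV)
    (LocUnr.ρ_lt_one E₁ V hEV)
  have hlocD := ρ_lt_one ϖ₁ hϖ₁ f hf (LocUnr.ρ E₁ V hEV) w hw' V (LocUnr.ρ_mem E₁ V hEV)
    (LocUnr.ρ_lt_one E₁ V hEV)
  have hρg : ∀ a : W, ρ ϖ₁ f (LocUnr.ρ E₁ V hEV) w hw' (algebraMap W (Eis.Ext ϖ₁ f) a) =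
      algebraMap W F a := by
    intro a
    rw [IsScalarTower.algebraMap_apply W (LocUnr.LocAt E₁ V hEV) (Eis.Ext ϖ₁ f), ρ_algebraMap,
      LocUnr.ρ_algebraMap']
  have hz : ρ ϖ₁ f (LocUnr.ρ E₁ V hEV) w hw' (Eis.z ϖ₁ f) = w := ρ_root ϖ₁ f _ w hw'
  have hfracD : ∀ x : F, ∃ a b : Eis.Ext ϖ₁ f, b ≠ 0 ∧
      x * ρ ϖ₁ f (LocUnr.ρ E₁ V hEV) w hw' b = ρ ϖ₁ f (LocUnr.ρ E₁ V hEV) w hw' a := by
    let ρA : Eis.Ext ϖ₁ f →ₐ[W] F :=
      { ρ ϖ₁ f (LocUnr.ρ E₁ V hEV) w hw' with commutes' := hρg }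
    have hle : Algebra.adjoin W ({y, w} : Set F) ≤ ρA.range := by
      apply Algebra.adjoin_le
      rintro x (rfl | rfl)
      · refine ⟨algebraMap _ _ y₁, ?_⟩
        change ρ ϖ₁ f (LocUnr.ρ E₁ V hEV) _ hw' (algebraMap _ _ y₁) = _
        rw [ρ_algebraMap, hρy]
      · exact ⟨Eis.z ϖ₁ f, hz⟩
    intro x
    obtain ⟨a, b, hb, hab⟩ := hfrac x
    obtain ⟨a', ha'⟩ := hle a.2
    obtain ⟨b', hb'⟩ := hle b.2
    have ha'' : ρ ϖ₁ f (LocUnr.ρ E₁ V hEV) w hw' a' = (a : F) := ha'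
    have hb'' : ρ ϖ₁ f (LocUnr.ρ E₁ V hEV) w hw' b' = (b : F) := hb'
    refine ⟨a', b', ?_, ?_⟩
    · rintro rfl
      apply hb
      apply Subtype.ext
      rw [← hb'', map_zero]; rfl
    · rw [ha'', hb'', hab]
  obtain ⟨-, h2, h3⟩ := ValDVR.dict (algebraMap W F) (ρ ϖ₁ f (LocUnr.ρ E₁ V hEV) w hw')
    hρg hρD hfracD V hVD hlocD h
  refine ⟨?_, ?_, ?_⟩
  · have h4 := ValDVR.maximalIdeal_eq_span (ρ ϖ₁ f (LocUnr.ρ E₁ V hEV) w hw') hρD hfracD V hVD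
      hlocD (Eis.z ϖ₁ f) (Eis.maximalIdeal_eq ϖ₁ hϖ₁ f hf)
    refine ⟨hz ▸ hVD (Eis.z ϖ₁ f), ?_⟩
    rw [h4]
    congr 2
    exact Subtype.ext hz
  · rw [h2]
    apply Eis.ramificationIdx'_eq_of_map_eq _ (Eis.z ϖ₁ f) (Eis.maximalIdeal_eq ϖ₁ hϖ₁ f hf)
      (Eis.z_ne_zero ϖ₁ hϖ₁ f hf) f
    rw [hϖ.maximalIdeal_eq, Ideal.map_span, Set.image_singleton,
      Ideal.span_singleton_eq_span_singleton]
    have h5 : (Eis.z ϖ₁ f) ^ f = algebraMap (LocUnr.LocAt E₁ V hEV) (Eis.Ext ϖ₁ f)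
        ((Y ^ r : (LocUnr.LocAt E₁ V hEV)ˣ) : _) * algebraMap W (Eis.Ext ϖ₁ f) ϖ := by
      rw [Eis.z_pow, hϖ₁def, map_mul,
        ← IsScalarTower.algebraMap_apply W (LocUnr.LocAt E₁ V hEV) (Eis.Ext ϖ₁ f)]
    rw [h5]
    have h6 : IsUnit (algebraMap (LocUnr.LocAt E₁ V hEV) (Eis.Ext ϖ₁ f)
        ((Y ^ r : (LocUnr.LocAt E₁ V hEV)ˣ) : _)) := (Y ^ r).isUnit.map _
    obtain ⟨U, hU⟩ := h6
    rw [← hU]
    exact (associated_unit_mul_left _ _ U.isUnit).symm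
  · haveI hlocD₁D : IsLocalHom (algebraMap (LocUnr.LocAt E₁ V hEV) (Eis.Ext ϖ₁ f)) :=
      Eis.isLocalHom_algebraMap ϖ₁ hϖ₁ f hf
    haveI hlocWD : IsLocalHom (algebraMap W (Eis.Ext ϖ₁ f)) := by
      rw [IsScalarTower.algebraMap_eq W (LocUnr.LocAt E₁ V hEV) (Eis.Ext ϖ₁ f)]
      exact RingHom.isLocalHom_comp _ _
    haveI : Algebra.IsSeparable (ResidueField W) (ResidueField (LocUnr.LocAt E₁ V hEV)) :=
      LocUnr.isSeparable_locAt E₁ V hEV h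
    haveI : Algebra.IsSeparable (ResidueField (LocUnr.LocAt E₁ V hEV))
        (ResidueField (Eis.Ext ϖ₁ f)) := ⟨fun x => by
      obtain ⟨a, rfl⟩ := Eis.residue_algebraMap_surjective ϖ₁ hϖ₁ f hf x
      rw [← ResidueField.algebraMap_residue]
      exact isSeparable_algebraMap _⟩
    exact h3.mpr (Algebra.IsSeparable.trans (ResidueField W)
      (ResidueField (LocUnr.LocAt E₁ V hEV)) (ResidueField (Eis.Ext ϖ₁ f)))

end Main

end Groth.Agent.R2.H73.KE
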