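import Mathlib
import Groth.Prelude.Def_EtRam
import Groth.Agent.R2.H73KE
import Groth.Agent.R2.H73UnrBC

set_option autoImplicit false
set_option linter.style.haveILetI false
set_option linter.unusedSectionVars false
universe u

namespace Groth.Agent.R2.H73.KumTame

open IsLocalRing Polynomial IntermediateField

section K1

variable {B L : Type u} [CommRing B] [IsDomain B] [IsDiscreteValuationRing B] [Field L]
  [Algebra B L] [IsFractionRing B L]
  {M : Type u} [Field M] [Algebra L M] (c : B) (hc : c ≠ 0) (e : ℕ) (he : 0 < e)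
  (heu : IsUnit ((e : ℕ) : B))
  (z : M) (hz : z ^ e = algebraMap L M (algebraMap B L c))

include hc he heu hz in
/-- **Kummer extensions are tame**: for `z^e = c ∈ B ∖ {0}` with `e` invertible in `B`, every
valuation subring of `L(z)` dominating the DVR `B` has ramification index dividing `e` and separable
residue field extension. -/
theorem kummer_tame (Ve : ValuationSubring L⟮z⟯)
    (h : EtRam.Dominates B ((algebraMap L L⟮z⟯).comp (algebraMap B L)) Ve) :
    letI : Algebra B Ve :=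
      (RingHom.codRestrict ((algebraMap L L⟮z⟯).comp (algebraMap B L)) Ve h.1).toAlgebra
    ∀ [IsLocalHom (algebraMap B Ve)],
      ((maximalIdeal B).ramificationIdx' (maximalIdeal Ve) ∣ e) ∧
        Algebra.IsSeparable (ResidueField B) (ResidueField Ve) := by
  letI algBVe : Algebra B Ve :=
    (RingHom.codRestrict ((algebraMap L L⟮z⟯).comp (algebraMap B L)) Ve h.1).toAlgebra
  intro hloc
  letI algBLe : Algebra B L⟮z⟯ := ((algebraMap L L⟮z⟯).comp (algebraMap B L)).toAlgebra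
  have hinj : Function.Injective (algebraMap B L⟮z⟯) :=
    (algebraMap L L⟮z⟯).injective.comp (IsFractionRing.injective B L)
  obtain ⟨ϖ, hϖ⟩ := IsDiscreteValuationRing.exists_irreducible B
  obtain ⟨a, u, hcu⟩ := IsDiscreteValuationRing.eq_unit_mul_pow_irreducible hc hϖ
  -- arithmetic
  set d := Nat.gcd a e with hd
  have hd0 : 0 < d := Nat.gcd_pos_of_pos_right a he
  obtain ⟨a', ha'⟩ : d ∣ a := Nat.gcd_dvd_left a e
  obtain ⟨e', he'⟩ : d ∣ e := Nat.gcd_dvd_right a e
  have he'0 : 0 < e' := Nat.pos_of_ne_zero (by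
    rintro rfl
    rw [mul_zero] at he'
    exact he.ne' he')
  have hcop : Nat.Coprime a' e' := by
    have h1 := Nat.coprime_div_gcd_div_gcd (m := a) (n := e) hd0
    rw [← hd] at h1
    have h2 : a / d = a' := by rw [ha']; exact Nat.mul_div_cancel_left a' hd0
    have h3 : e / d = e' := by rw [he']; exact Nat.mul_div_cancel_left e' hd0
    rwa [h2, h3] at h1
  obtain ⟨r, s, hrs⟩ : ∃ r s : ℤ, r * (a' : ℤ) + s * (e' : ℤ) = 1 :=
    (Nat.isCoprime_iff_coprime.mpr hcop)
  -- `d` is invertible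
  have hdu : IsUnit ((d : ℕ) : B) := by
    rw [he', Nat.cast_mul] at heu
    exact isUnit_of_mul_isUnit_left heu
  -- the elements
  set zL : L⟮z⟯ := AdjoinSimple.gen L z with hzL
  set ϖL : L⟮z⟯ := algebraMap B L⟮z⟯ ϖ with hϖL
  have hϖL0 : ϖL ≠ 0 := (map_ne_zero_iff _ hinj).mpr hϖ.ne_zero
  have hzLe : zL ^ e = algebraMap B L⟮z⟯ c := by
    apply Subtype.ext
    rw [SubmonoidClass.coe_pow, AdjoinSimple.coe_gen, hz]
    rfl
  have hzL0 : zL ≠ 0 := by
    intro h0
    rw [h0, zero_pow he.ne'] at hzLe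
    exact hc ((map_eq_zero_iff _ hinj).mp hzLe.symm)
  have hcL : algebraMap B L⟮z⟯ c = algebraMap B L⟮z⟯ (u : B) * ϖL ^ a := by
    rw [hcu, map_mul, map_pow]
  have hy : (zL ^ e' / ϖL ^ a') ^ d = algebraMap B L⟮z⟯ (u : B) := by
    rw [div_pow, ← pow_mul, ← pow_mul, mul_comm e' d, mul_comm a' d, ← he', ← ha', hzLe, hcL,
      mul_div_assoc, div_self (pow_ne_zero a hϖL0), mul_one]
  have hw : (zL ^ r * ϖL ^ s) ^ e' = (zL ^ e' / ϖL ^ a') ^ r * algebraMap B L⟮z⟯ ϖ := by
    change (zL ^ r * ϖL ^ s) ^ e' = (zL ^ e' / ϖL ^ a') ^ r * ϖL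
    have hs : s * (e' : ℤ) = 1 - r * (a' : ℤ) := by linarith
    rw [mul_pow, ← zpow_natCast (zL ^ r), ← zpow_natCast (ϖL ^ s), ← zpow_mul, ← zpow_mul, hs,
      div_zpow, ← zpow_natCast zL e', ← zpow_natCast ϖL a', ← zpow_mul, ← zpow_mul,
      zpow_sub₀ hϖL0, zpow_one, mul_comm (e' : ℤ) r, mul_comm (a' : ℤ) r]
    field_simp
  -- fractions
  have hfrac : ∀ x : L⟮z⟯, ∃ a b : Algebra.adjoin B
      ({zL ^ e' / ϖL ^ a', zL ^ r * ϖL ^ s} : Set L⟮z⟯), b ≠ 0 ∧ x * (b : L⟮z⟯) = (a : L⟮z⟯) := by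
    set E := Algebra.adjoin B ({zL ^ e' / ϖL ^ a', zL ^ r * ϖL ^ s} : Set L⟮z⟯) with hE
    have hyE : UnrBC.IsFrac E (zL ^ e' / ϖL ^ a') :=
      UnrBC.isFrac_of_mem E (Algebra.subset_adjoin (Set.mem_insert _ _))
    have hwE : UnrBC.IsFrac E (zL ^ r * ϖL ^ s) :=
      UnrBC.isFrac_of_mem E (Algebra.subset_adjoin (Set.mem_insert_of_mem _ rfl))
    have hzpow : ∀ (x : L⟮z⟯) (n : ℤ), UnrBC.IsFrac E x → UnrBC.IsFrac E (x ^ n) := by
      intro x n hx
      have hpow : ∀ k : ℕ, UnrBC.IsFrac E (x ^ k) := by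
        intro k
        induction k with
        | zero => rw [pow_zero]; exact UnrBC.isFrac_of_mem E E.one_mem
        | succ k ih => rw [pow_succ]; exact ih.mul hx
      rcases Int.eq_nat_or_neg n with ⟨k, rfl | rfl⟩
      · rw [zpow_natCast]; exact hpow k
      · rw [zpow_neg, zpow_natCast]; exact (hpow k).inv
    have hzE : UnrBC.IsFrac E zL := by
      have h1 : zL = (zL ^ r * ϖL ^ s) ^ (a' : ℤ) * (zL ^ e' / ϖL ^ a') ^ s := by
        have hr : r * (a' : ℤ) + (e' : ℤ) * s = 1 := by linarith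
        rw [mul_zpow, div_zpow, ← zpow_mul, ← zpow_mul, ← zpow_natCast zL e',
          ← zpow_natCast ϖL a', ← zpow_mul, ← zpow_mul]
        have h2 : zL ^ (r * (a' : ℤ)) * zL ^ ((e' : ℤ) * s) = zL := by
          rw [← zpow_add₀ hzL0, hr, zpow_one]
        have h3 : ϖL ^ (s * (a' : ℤ)) / ϖL ^ ((a' : ℤ) * s) = 1 := by
          rw [mul_comm s]; exact div_self (zpow_ne_zero _ hϖL0)
        calc zL = zL ^ (r * (a' : ℤ)) * zL ^ ((e' : ℤ) * s) *
              (ϖL ^ (s * (a' : ℤ)) / ϖL ^ ((a' : ℤ) * s)) := by rw [h2, h3, mul_one]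
          _ = _ := by ring
      rw [h1]
      exact (hzpow _ _ hwE).mul (hzpow _ _ hyE)
    have hLE : ∀ l : L, UnrBC.IsFrac E (algebraMap L L⟮z⟯ l) := by
      intro l
      obtain ⟨b₁, b₂, hb₂, rfl⟩ := IsFractionRing.div_surjective (A := B) l
      rw [map_div₀]
      exact (UnrBC.isFrac_of_mem E (E.algebraMap_mem b₁)).div
        (UnrBC.isFrac_of_mem E (E.algebraMap_mem b₂))
    intro x
    obtain ⟨x, hx⟩ := x
    change UnrBC.IsFrac E (⟨x, hx⟩ : L⟮z⟯)
    induction hx using IntermediateField.adjoin_induction with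
    | mem x hx =>
      rw [Set.mem_singleton_iff] at hx
      subst hx
      exact hzE
    | algebraMap l => exact hLE l
    | add x y hx hy ihx ihy => exact ihx.add ihy
    | inv x hx ih => exact ih.inv
    | mul x y hx hy ihx ihy => exact ihx.mul ihy
  obtain ⟨-, hram, hsep⟩ := KE.main ϖ hϖ hinj Ve h d hd0 hdu (u : B) u.isUnit
    (zL ^ e' / ϖL ^ a') hy e' he'0 (zL ^ r * ϖL ^ s) r hw hfrac
  refine ⟨?_, hsep⟩
  rw [hram, he']
  exact Dvd.intro_left d rfl

end K1

end Groth.Agent.R2.H73.KumTame
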