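import Mathlib
import Groth.Prelude.Def_EtRam
import Groth.Agent.R2.H73ValDVR
import Groth.Agent.R2.H73LocUnr

set_option autoImplicit false
set_option linter.style.haveILetI false
set_option linter.unusedSectionVars false
universe u

namespace Groth.Agent.R2.H73.LocUnrD

open IsLocalRing

section Comap

variable {F F'' : Type u} [Field F] [Field F''] (j : F →+* F'') (V'' : ValuationSubring F'')
  [IsDiscreteValuationRing V'']

/-- the trace of a DVR on a subfield is a DVR as soon as it is not the whole subfield -/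
theorem isDiscreteValuationRing_comap
    (hnf : ∃ x : F, x ≠ 0 ∧ (V''.comap j).valuation x < 1) :
    IsDiscreteValuationRing (V''.comap j) := by
  classical
  have hprinc : IsPrincipalIdealRing (V''.comap j) := by
    constructor
    intro I
    by_cases hI : I = ⊥
    · rw [hI]; exact ⟨⟨0, by simp⟩⟩
    have hex : ∃ n : ℕ, ∃ x ∈ I, x ≠ 0 ∧
        IsDiscreteValuationRing.addVal V'' (EtRam.inclOfComap V'' j x) = n := by
      obtain ⟨x, hxI, hx0⟩ := Submodule.exists_mem_ne_zero_of_ne_bot hI
      have hx0' : EtRam.inclOfComap V'' j x ≠ 0 := by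
        intro h0
        apply hx0
        have h1 : j (x : F) = 0 := congrArg Subtype.val h0
        exact Subtype.ext ((map_eq_zero_iff j j.injective).mp h1)
      have hne : IsDiscreteValuationRing.addVal V'' (EtRam.inclOfComap V'' j x) ≠ ⊤ := by
        rw [Ne, IsDiscreteValuationRing.addVal_eq_top_iff]; exact hx0'
      obtain ⟨n, hn⟩ := ENat.ne_top_iff_exists.mp hne
      exact ⟨n, x, hxI, hx0, hn.symm⟩
    obtain ⟨t, htI, ht0, htn⟩ := Nat.find_spec hex
    refine ⟨⟨t, ?_⟩⟩
    apply le_antisymm
    · intro x hxI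
      by_cases hx0 : x = 0
      · rw [hx0]; exact Submodule.zero_mem _
      have hx0' : EtRam.inclOfComap V'' j x ≠ 0 := by
        intro h0
        apply hx0
        have h1 : j (x : F) = 0 := congrArg Subtype.val h0
        exact Subtype.ext ((map_eq_zero_iff j j.injective).mp h1)
      have hne : IsDiscreteValuationRing.addVal V'' (EtRam.inclOfComap V'' j x) ≠ ⊤ := by
        rw [Ne, IsDiscreteValuationRing.addVal_eq_top_iff]; exact hx0'
      obtain ⟨n, hn⟩ := ENat.ne_top_iff_exists.mp hne
      have hmin : Nat.find hex ≤ n := Nat.find_min' hex ⟨x, hxI, hx0, hn.symm⟩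
      have hle : IsDiscreteValuationRing.addVal V'' (EtRam.inclOfComap V'' j t) ≤
          IsDiscreteValuationRing.addVal V'' (EtRam.inclOfComap V'' j x) := by
        rw [htn, ← hn]; exact_mod_cast hmin
      obtain ⟨c, hc⟩ := IsDiscreteValuationRing.addVal_le_iff_dvd.mp hle
      have hc' : j (x : F) = j (t : F) * (c : F'') := congrArg Subtype.val hc
      have ht0' : (t : F) ≠ 0 := fun h => ht0 (Subtype.ext h)
      have hjt0 : j (t : F) ≠ 0 := (map_ne_zero j).mpr ht0'
      have hmem : (x : F) / (t : F) ∈ V''.comap j := by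
        rw [ValuationSubring.mem_comap, map_div₀, hc', mul_div_assoc, mul_comm, div_mul_cancel₀ _ hjt0]
        exact c.2
      rw [Submodule.mem_span_singleton]
      refine ⟨⟨(x : F) / (t : F), hmem⟩, ?_⟩
      apply Subtype.ext
      change (x : F) / (t : F) * (t : F) = (x : F)
      rw [div_mul_cancel₀ _ ht0']
    · rw [Submodule.span_le, Set.singleton_subset_iff]
      exact htI
  refine { toIsPrincipalIdealRing := hprinc, toIsLocalRing := inferInstance, not_a_field' := ?_ }
  obtain ⟨x, hx0, hx1⟩ := hnf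
  have hxV : x ∈ V''.comap j := ((V''.comap j).valuation_le_one_iff x).mp hx1.le
  intro hbot
  have h1 : (⟨x, hxV⟩ : V''.comap j) ∈ maximalIdeal (V''.comap j) :=
    ((V''.comap j).valuation_lt_one_iff _).mpr hx1
  rw [hbot, Ideal.mem_bot] at h1
  exact hx0 (congrArg Subtype.val h1)

end Comap

section Sub

variable {B : Type u} [CommRing B] [IsDomain B] [IsDiscreteValuationRing B] {F : Type u} [Field F]
  [Algebra B F] (hinj : Function.Injective (algebraMap B F))
  (E : Subalgebra B F) [Algebra.FiniteType B E] [Algebra.FormallyUnramified B E]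
  (V : ValuationSubring F) (hEV : ∀ x ∈ E, x ∈ V) (h : EtRam.Dominates B (algebraMap B F) V)

include hinj h hEV in
theorem isDiscreteValuationRing_of_subalgebra
    (hfrac : ∀ x : F, ∃ a b : E, b ≠ 0 ∧ x * (b : F) = (a : F)) :
    IsDiscreteValuationRing V := by
  haveI := LocUnr.isDiscreteValuationRing_locAt hinj E V hEV h
  have hfrac' : ∀ x : F, ∃ a b : LocUnr.LocAt E V hEV, b ≠ 0 ∧
      x * LocUnr.ρ E V hEV b = LocUnr.ρ E V hEV a := by
    intro x
    obtain ⟨a, b, hb, hab⟩ := hfrac x
    refine ⟨algebraMap E _ a, algebraMap E _ b, ?_, ?_⟩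
    · intro h0
      apply hb
      exact (map_eq_zero_iff _ (IsLocalization.injective _
        (LocUnr.center E V hEV).primeCompl_le_nonZeroDivisors)).mp h0
    · rw [LocUnr.ρ_algebraMap, LocUnr.ρ_algebraMap, hab]
  exact ValDVR.isDiscreteValuationRing_of_dvr (LocUnr.ρ E V hEV) (LocUnr.ρ_injective E V hEV)
    hfrac' V (LocUnr.ρ_mem E V hEV) (LocUnr.ρ_lt_one E V hEV)

end Sub

end Groth.Agent.R2.H73.LocUnrD
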