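import Mathlib
import Groth.Prelude.Def_EtRam
import Groth.Agent.R2.H73ValDVR
import Groth.Agent.R2.H73LocUnr
import Groth.Agent.R2.H73KE
import Groth.Agent.R2.H10EtRamA

set_option autoImplicit false
set_option linter.style.haveILetI false
set_option linter.unusedSectionVars false
universe u

namespace Groth.Agent.R2.H73.TameA

open IsLocalRing

section Fin

variable (A K L : Type u) [CommRing A] [IsDomain A] [IsDiscreteValuationRing A] [Field K]
  [Algebra A K] [IsFractionRing A K] [Field L] [Algebra K L] [Algebra A L] [IsScalarTower A K L]
  [FiniteDimensional K L] [Algebra.IsSeparable K L]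

include K in
theorem algebraMap_injective : Function.Injective (algebraMap A L) := by
  rw [IsScalarTower.algebraMap_eq A K L]
  exact (algebraMap K L).injective.comp (IsFractionRing.injective A K)

include K in
/-- membership in a valuation subring dominating `A` in terms of its center on the integral
closure -/
theorem mem_iff_of_dominates (V : ValuationSubring L) (h : EtRam.Dominates A (algebraMap A L) V)
    (hBV : ∀ x ∈ integralClosure A L, x ∈ V) (x : L) :
    x ∈ V ↔ ∃ a s : integralClosure A L,
      s ∉ LocUnr.center (integralClosure A L) V hBV ∧ x * (s : L) = (a : L) := by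
  haveI : IsDedekindDomain (integralClosure A L) := integralClosure.isDedekindDomain A K L
  haveI : IsFractionRing (integralClosure A L) L :=
    integralClosure.isFractionRing_of_finite_extension K L
  constructor
  · intro hx
    have hP0 : LocUnr.center (integralClosure A L) V hBV ≠ ⊥ := by
      obtain ⟨ϖ, hϖ⟩ := IsDiscreteValuationRing.exists_irreducible A
      have hϖm : ϖ ∈ maximalIdeal A := by
        rw [mem_maximalIdeal, mem_nonunits_iff]; exact hϖ.not_isUnit
      intro hbot
      have h1 : algebraMap A (integralClosure A L) ϖ ∈
          LocUnr.center (integralClosure A L) V hBV := by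
        change LocUnr.toV (integralClosure A L) V hBV (algebraMap A (integralClosure A L) ϖ) ∈
          maximalIdeal V
        rw [V.valuation_lt_one_iff]
        exact h.2 ϖ hϖm
      rw [hbot, Ideal.mem_bot] at h1
      have h2 : algebraMap A L ϖ = 0 := congrArg Subtype.val h1
      exact hϖ.ne_zero ((map_eq_zero_iff _ (algebraMap_injective A K L)).mp h2)
    haveI : IsDiscreteValuationRing (LocUnr.LocAt (integralClosure A L) V hBV) :=
      IsLocalization.AtPrime.isDiscreteValuationRing_of_dedekind_domain (integralClosure A L) hP0 _
    have hfrac : ∀ x : L, ∃ a b : LocUnr.LocAt (integralClosure A L) V hBV, b ≠ 0 ∧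
        x * LocUnr.ρ (integralClosure A L) V hBV b = LocUnr.ρ (integralClosure A L) V hBV a := by
      intro x
      obtain ⟨a, b, hb, rfl⟩ := IsFractionRing.div_surjective (A := integralClosure A L) x
      have hb0 : b ≠ 0 := nonZeroDivisors.ne_zero hb
      refine ⟨algebraMap _ _ a, algebraMap _ _ b, ?_, ?_⟩
      · intro h0
        apply hb0
        exact (map_eq_zero_iff _ (IsLocalization.injective _
          (LocUnr.center (integralClosure A L) V hBV).primeCompl_le_nonZeroDivisors)).mp h0
      · rw [LocUnr.ρ_algebraMap, LocUnr.ρ_algebraMap]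
        have hb0' : ((b : integralClosure A L) : L) ≠ 0 := fun h => hb0 (Subtype.ext h)
        change (a : L) / (b : L) * (b : L) = (a : L)
        rw [div_mul_cancel₀ _ hb0']
    obtain ⟨d, hd⟩ := ValDVR.codRestrict_surjective (LocUnr.ρ (integralClosure A L) V hBV)
      (LocUnr.ρ_injective _ V hBV) hfrac V (LocUnr.ρ_mem _ V hBV) (LocUnr.ρ_lt_one _ V hBV) ⟨x, hx⟩
    have hd' : LocUnr.ρ (integralClosure A L) V hBV d = x := congrArg Subtype.val hd
    obtain ⟨a, s, rfl⟩ := IsLocalization.exists_mk'_eq
      (LocUnr.center (integralClosure A L) V hBV).primeCompl d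
    refine ⟨a, s, s.2, ?_⟩
    rw [← hd', mul_comm]
    exact (LocUnr.ρ_mk' _ V hBV a s).symm
  · rintro ⟨a, s, hs, hxs⟩
    obtain ⟨u, hu⟩ := LocUnr.isUnit_toV (integralClosure A L) V hBV ⟨s, hs⟩
    have hs' : ((s : integralClosure A L) : L) = ((u : V) : L) := by rw [hu]; rfl
    have hu0 : ((u : V) : L) ≠ 0 := by
      intro h0
      exact u.ne_zero (Subtype.ext h0)
    have h3 : (((u⁻¹ : Vˣ) : V) : L) * ((u : V) : L) = 1 := by
      have h4 := congrArg Subtype.val u.inv_mul
      rw [MulMemClass.coe_mul, OneMemClass.coe_one] at h4
      exact h4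
    have hx : x = (a : L) * (((u⁻¹ : Vˣ) : V) : L) := by
      rw [← hxs, hs', mul_assoc, mul_comm ((u : V) : L), h3, mul_one]
    rw [hx]
    exact V.mul_mem _ _ (hBV a.1 a.2) ((u⁻¹ : Vˣ) : V).2

include K in
theorem hBV_of_dominates (V : ValuationSubring L) (h : EtRam.Dominates A (algebraMap A L) V) :
    ∀ x ∈ integralClosure A L, x ∈ V := by
  haveI : Module.Finite A (integralClosure A L) := IsIntegralClosure.finite A K L _
  exact KE.mem_of_finite (integralClosure A L) V h

open Classical in
/-- the center map -/
noncomputable def ctr (V : ValuationSubring L) : Ideal (integralClosure A L) :=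
  if h : ∀ x ∈ integralClosure A L, x ∈ V then LocUnr.center (integralClosure A L) V h else ⊥

include K in
/-- finitely many valuation subrings of `L` dominate `A` -/
theorem finite_dominating :
    {V : ValuationSubring L | EtRam.Dominates A (algebraMap A L) V}.Finite := by
  haveI : Module.Finite A (integralClosure A L) := IsIntegralClosure.finite A K L _
  have hfin : ((maximalIdeal A).primesOver (integralClosure A L)).Finite :=
    Algebra.QuasiFinite.finite_primesOver _
  refine Set.Finite.of_injOn (f := ctr A L) ?_ ?_ hfin
  · intro V hV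
    have hBV := hBV_of_dominates A K L V hV
    rw [ctr, dif_pos hBV]
    refine ⟨inferInstance, ⟨?_⟩⟩
    ext a
    rw [Ideal.mem_comap]
    change a ∈ maximalIdeal A ↔
      LocUnr.toV (integralClosure A L) V hBV (algebraMap A (integralClosure A L) a) ∈ maximalIdeal V
    rw [V.valuation_lt_one_iff]
    constructor
    · intro ha; exact hV.2 a ha
    · intro ha
      by_contra hna
      rw [mem_maximalIdeal, mem_nonunits_iff, not_not] at hna
      have h1 : IsUnit (RingHom.codRestrict (algebraMap A L) V hV.1 a) := hna.map _
      have h2 := (V.valuation_eq_one_iff _).mp h1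
      exact absurd h2 (ne_of_lt ha)
  · intro V hV V' hV' hVV'
    have hBV := hBV_of_dominates A K L V hV
    have hBV' := hBV_of_dominates A K L V' hV'
    rw [ctr, ctr, dif_pos hBV, dif_pos hBV'] at hVV'
    ext x
    rw [mem_iff_of_dominates A K L V hV hBV, mem_iff_of_dominates A K L V' hV' hBV', hVV']

include K in
theorem dominates_comp_iff (V : ValuationSubring L) :
    EtRam.Dominates A ((algebraMap K L).comp (algebraMap A K)) V ↔
      EtRam.Dominates A (algebraMap A L) V := by
  rw [← IsScalarTower.algebraMap_eq A K L]

include K in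
theorem isDiscreteValuationRing_of_dominates (V : ValuationSubring L)
    (h : EtRam.Dominates A (algebraMap A L) V) : IsDiscreteValuationRing V :=
  Groth.Agent.R2.H10.EtRamA.isDiscreteValuationRing_of_dominates A K L V
    ((dominates_comp_iff A K L V).mpr h)

include K in
theorem ramificationIdx'_ne_zero (V : ValuationSubring L)
    (h : EtRam.Dominates A (algebraMap A L) V) :
    letI : Algebra A V := (RingHom.codRestrict (algebraMap A L) V h.1).toAlgebra
    (maximalIdeal A).ramificationIdx' (maximalIdeal V) ≠ 0 := by
  letI : Algebra A V := (RingHom.codRestrict (algebraMap A L) V h.1).toAlgebra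
  haveI := isDiscreteValuationRing_of_dominates A K L V h
  haveI : IsLocalHom (algebraMap A V) := Groth.Agent.R2.H10.EtRamA.isLocalHom_of_dominates h
  have hinj : Function.Injective (algebraMap A V) := fun a b hab =>
    algebraMap_injective A K L (congrArg Subtype.val hab)
  apply Ideal.IsDedekindDomain.ramificationIdx'_ne_zero
  · exact (Ideal.map_eq_bot_iff_of_injective hinj).not.mpr (IsDiscreteValuationRing.not_a_field A)
  · infer_instance
  · exact ((local_hom_TFAE (algebraMap A V)).out 0 2).mp ‹IsLocalHom (algebraMap A V)›

open Classical in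
/-- the ramification index as a function of the valuation subring -/
noncomputable def ev (V : ValuationSubring L) : ℕ :=
  if h : EtRam.Dominates A (algebraMap A L) V then
    letI : Algebra A V := (RingHom.codRestrict (algebraMap A L) V h.1).toAlgebra
    (maximalIdeal A).ramificationIdx' (maximalIdeal V)
  else 1

include K in
/-- under tameness, there is a common multiple of all ramification indices that is invertible in
the residue field. -/
theorem exists_common_multiple (h : EtRam.IsTamelyRamified A (algebraMap A L)) :
    ∃ e₀ : ℕ, 0 < e₀ ∧ (e₀ : ResidueField A) ≠ 0 ∧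
      ∀ (V : ValuationSubring L) (hV : EtRam.Dominates A (algebraMap A L) V),
        letI : Algebra A V := (RingHom.codRestrict (algebraMap A L) V hV.1).toAlgebra
        (maximalIdeal A).ramificationIdx' (maximalIdeal V) ∣ e₀ := by
  classical
  have hfin := finite_dominating A K L
  have hev : ∀ V ∈ hfin.toFinset, (ev A L V : ResidueField A) ≠ 0 := by
    intro V hV
    rw [Set.Finite.mem_toFinset] at hV
    have hV' : EtRam.Dominates A (algebraMap A L) V := hV
    rw [ev, dif_pos hV']
    letI : Algebra A V := (RingHom.codRestrict (algebraMap A L) V hV'.1).toAlgebra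
    haveI : IsLocalHom (algebraMap A V) := Groth.Agent.R2.H10.EtRamA.isLocalHom_of_dominates hV'
    obtain ⟨-, htame⟩ := h V hV'
    have hne := ramificationIdx'_ne_zero A K L V hV'
    haveI hc := ringChar.charP (ResidueField A)
    rcases CharP.char_is_prime_or_zero (ResidueField A) (ringChar (ResidueField A)) with hp | hp
    · rw [Ne, CharP.cast_eq_zero_iff (ResidueField A) (ringChar (ResidueField A))]
      exact htame _ hp hc
    · rw [Ne, CharP.cast_eq_zero_iff (ResidueField A) (ringChar (ResidueField A)), hp,
        zero_dvd_iff]
      exact hne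
  refine ⟨∏ V ∈ hfin.toFinset, ev A L V, ?_, ?_, ?_⟩
  · apply Nat.pos_of_ne_zero
    rw [Finset.prod_ne_zero_iff]
    intro V hV h0
    apply hev V hV
    rw [h0, Nat.cast_zero]
  · rw [Nat.cast_prod, Finset.prod_ne_zero_iff]
    exact hev
  · intro V hV
    have hmem : V ∈ hfin.toFinset := by rw [Set.Finite.mem_toFinset]; exact hV
    have h1 := Finset.dvd_prod_of_mem (ev A L) hmem
    rw [ev, dif_pos hV] at h1
    exact h1

end Fin

end Groth.Agent.R2.H73.TameA
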