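import Mathlib
import Groth.Prelude.Def_EtRam
import Groth.Agent.R2.H73ValDVR
import Groth.Agent.R2.H73LocUnr
import Groth.Agent.R2.H73KE
import Groth.Agent.R2.H73TameA
import Groth.Agent.R2.H73UnrBC
import Groth.Agent.R2.H10EtRamA
import Groth.Agent.R2.H10EtRamB

set_option autoImplicit false
set_option linter.style.haveILetI false
set_option linter.unusedSectionVars false
universe u

namespace Groth.Agent.R2.H73.TameB

open IsLocalRing Polynomial

section Cover

variable {A K L : Type u} [CommRing A] [IsDomain A] [IsDiscreteValuationRing A] [Field K]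
  [Algebra A K] [IsFractionRing A K] [Field L] [Algebra K L] [Algebra A L] [IsScalarTower A K L]
  [FiniteDimensional K L] [Algebra.IsSeparable K L]
  (π : A) (hπ : Irreducible π) (e : ℕ) (he : 0 < e) (heκ : (e : ResidueField A) ≠ 0)
  (hdiv : ∀ (V : ValuationSubring L) (hV : EtRam.Dominates A (algebraMap A L) V),
    letI : Algebra A V := (RingHom.codRestrict (algebraMap A L) V hV.1).toAlgebra
    (maximalIdeal A).ramificationIdx' (maximalIdeal V) ∣ e)
  (hsep : ∀ (V : ValuationSubring L) (hV : EtRam.Dominates A (algebraMap A L) V),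
    letI : Algebra A V := (RingHom.codRestrict (algebraMap A L) V hV.1).toAlgebra
    ∀ [IsLocalHom (algebraMap A V)],
      Algebra.IsSeparable (ResidueField A) (ResidueField V))
  {L' : Type u} [Field L'] [Algebra L L'] [Algebra A L'] [IsScalarTower A L L']
  (z : L') (hz : z ^ e = algebraMap A L' π) (hgen : ∀ x : L', ∃ p : L[X], x = aeval z p)
  [Algebra (AdjoinRoot (X ^ e - C π : A[X])) L']
  (hof : ∀ a : A, algebraMap (AdjoinRoot (X ^ e - C π : A[X])) L' (AdjoinRoot.of _ a) =
    algebraMap A L' a)
  (hroot : algebraMap (AdjoinRoot (X ^ e - C π : A[X])) L' (AdjoinRoot.root _) = z)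

include K hπ he heκ hdiv hsep hz hgen hof hroot in
theorem cover_unramified [IsLocalRing (AdjoinRoot (X ^ e - C π : A[X]))] :
    EtRam.IsUnramifiedExt (AdjoinRoot (X ^ e - C π : A[X]))
      (algebraMap (AdjoinRoot (X ^ e - C π : A[X])) L') := by
  intro V' hV'
  letI algA'V' : Algebra (AdjoinRoot (X ^ e - C π : A[X])) V' :=
    (RingHom.codRestrict (algebraMap (AdjoinRoot (X ^ e - C π : A[X])) L') V' hV'.1).toAlgebra
  intro hlocA'V'
  -- facts on `A'`
  have hmaxA' : maximalIdeal (AdjoinRoot (X ^ e - C π : A[X])) =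
      Ideal.span {AdjoinRoot.root (X ^ e - C π : A[X])} := Eis.maximalIdeal_eq π hπ e he
  haveI hlocAA' : IsLocalHom (algebraMap A (AdjoinRoot (X ^ e - C π : A[X]))) :=
    Eis.isLocalHom_algebraMap π hπ e he
  have hof' : ∀ a : A, algebraMap (AdjoinRoot (X ^ e - C π : A[X])) L'
      (algebraMap A (AdjoinRoot (X ^ e - C π : A[X])) a) = algebraMap A L' a := hof
  -- `V'` dominates `A`
  have hA : EtRam.Dominates A (algebraMap A L') V' := by
    refine ⟨fun a => ?_, fun a ha => ?_⟩
    · rw [← hof']; exact hV'.1 _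
    · rw [← hof']
      apply hV'.2
      rw [mem_maximalIdeal, mem_nonunits_iff] at ha ⊢
      intro hu
      exact ha (hlocAA'.map_nonunit a hu)
  have hg : ∀ a : A, algebraMap L L' (algebraMap A L a) = algebraMap A L' a := fun a =>
    (IsScalarTower.algebraMap_apply A L L' a).symm
  have hW : EtRam.Dominates A (algebraMap A L) (V'.comap (algebraMap L L')) :=
    (Groth.Agent.R2.H10.EtRamB.dominates_comap_iff (algebraMap L L') V' hg).mpr hA
  have hWV' := Groth.Agent.R2.H10.EtRamB.dominates_comap_self (algebraMap L L') V'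
  haveI dW : IsDiscreteValuationRing (V'.comap (algebraMap L L')) :=
    TameA.isDiscreteValuationRing_of_dominates A K L _ hW
  letI algAW : Algebra A (V'.comap (algebraMap L L')) :=
    (RingHom.codRestrict (algebraMap A L) (V'.comap (algebraMap L L')) hW.1).toAlgebra
  letI algAV' : Algebra A V' := (RingHom.codRestrict (algebraMap A L') V' hA.1).toAlgebra
  letI algWV' : Algebra (V'.comap (algebraMap L L')) V' :=
    (RingHom.codRestrict ((algebraMap L L').comp (V'.comap (algebraMap L L')).subtype) V'
      hWV'.1).toAlgebra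
  letI algWL' : Algebra (V'.comap (algebraMap L L')) L' :=
    ((algebraMap L L').comp (V'.comap (algebraMap L L')).subtype).toAlgebra
  haveI : IsScalarTower A (V'.comap (algebraMap L L')) V' :=
    IsScalarTower.of_algebraMap_eq (fun a => Subtype.ext (hg a).symm)
  haveI : IsScalarTower A (AdjoinRoot (X ^ e - C π : A[X])) V' :=
    IsScalarTower.of_algebraMap_eq (fun a => Subtype.ext (hof' a).symm)
  haveI locAW : IsLocalHom (algebraMap A (V'.comap (algebraMap L L'))) :=
    Groth.Agent.R2.H10.EtRamA.isLocalHom_of_dominates hW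
  haveI locWV' : IsLocalHom (algebraMap (V'.comap (algebraMap L L')) V') :=
    Groth.Agent.R2.H10.EtRamA.isLocalHom_of_dominates hWV'
  haveI locAV' : IsLocalHom (algebraMap A V') :=
    Groth.Agent.R2.H10.EtRamA.isLocalHom_of_dominates hA
  -- uniformizer of `W`
  obtain ⟨ϖW, hϖW⟩ := IsDiscreteValuationRing.exists_irreducible (V'.comap (algebraMap L L'))
  have hinjAL : Function.Injective (algebraMap A L) := TameA.algebraMap_injective A K L
  have hinjAW : Function.Injective (algebraMap A (V'.comap (algebraMap L L'))) := fun a b hab =>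
    hinjAL (congrArg Subtype.val hab)
  have hπW : algebraMap A (V'.comap (algebraMap L L')) π ≠ 0 :=
    (map_ne_zero_iff _ hinjAW).mpr hπ.ne_zero
  obtain ⟨n, u, hn⟩ := IsDiscreteValuationRing.eq_unit_mul_pow_irreducible hπW hϖW
  have hen : (maximalIdeal A).ramificationIdx' (maximalIdeal (V'.comap (algebraMap L L'))) = n := by
    apply Eis.ramificationIdx'_eq_of_map_eq _ ϖW hϖW.maximalIdeal_eq hϖW.ne_zero n
    rw [hπ.maximalIdeal_eq, Ideal.map_span, Set.image_singleton, hn,
      Ideal.span_singleton_eq_span_singleton]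
    exact associated_unit_mul_left _ _ u.isUnit
  have hndiv : n ∣ e := hen ▸ hdiv _ hW
  have hn0 : 0 < n := Nat.pos_of_ne_zero (by
    rintro rfl
    rw [zero_dvd_iff] at hndiv
    exact he.ne' hndiv)
  obtain ⟨f, hf⟩ := hndiv
  have hf0 : 0 < f := Nat.pos_of_ne_zero (by
    rintro rfl
    rw [mul_zero] at hf
    exact he.ne' hf)
  -- `n` is invertible
  have hnA : IsUnit ((n : ℕ) : A) := by
    by_contra hnu
    have h1 : ((n : ℕ) : A) ∈ maximalIdeal A := hnu
    have h2 : residue A ((n : ℕ) : A) = 0 := (residue_eq_zero_iff _).mpr h1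
    rw [map_natCast] at h2
    apply heκ
    rw [hf, Nat.cast_mul, h2, zero_mul]
  have hgu : IsUnit ((n : ℕ) : (V'.comap (algebraMap L L'))) := by
    have := hnA.map (algebraMap A (V'.comap (algebraMap L L')))
    rwa [map_natCast] at this
  -- the elements
  have hϖ0 : algebraMap (V'.comap (algebraMap L L')) L' ϖW ≠ 0 := by
    intro h0
    have h1 : algebraMap L L' (ϖW : L) = 0 := h0
    have h2 : (ϖW : L) = 0 := (map_eq_zero_iff _ (algebraMap L L').injective).mp h1
    exact hϖW.ne_zero (Subtype.ext h2)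
  have hπL' : algebraMap A L' π = algebraMap (V'.comap (algebraMap L L')) L' (u : _) *
      (algebraMap (V'.comap (algebraMap L L')) L' ϖW) ^ n := by
    rw [← map_pow, ← map_mul, ← hn]
    exact (hg π).symm
  have hy : (z ^ f / algebraMap (V'.comap (algebraMap L L')) L' ϖW) ^ n =
      algebraMap (V'.comap (algebraMap L L')) L' (u : _) := by
    rw [div_pow, ← pow_mul, mul_comm f n, ← hf, hz, hπL', mul_div_assoc,
      div_self (pow_ne_zero n hϖ0), mul_one]
  have hw : z ^ f = (z ^ f / algebraMap (V'.comap (algebraMap L L')) L' ϖW) ^ (1 : ℤ) *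
      algebraMap (V'.comap (algebraMap L L')) L' ϖW := by
    rw [zpow_one, div_mul_cancel₀ _ hϖ0]
  have hinjWL' : Function.Injective (algebraMap (V'.comap (algebraMap L L')) L') := fun a b hab =>
    Subtype.ext ((algebraMap L L').injective hab)
  -- fractions
  have hfrac : ∀ x : L', ∃ a b : Algebra.adjoin (V'.comap (algebraMap L L'))
      ({z ^ f / algebraMap (V'.comap (algebraMap L L')) L' ϖW, z} : Set L'),
      b ≠ 0 ∧ x * (b : L') = (a : L') := by
    set E := Algebra.adjoin (V'.comap (algebraMap L L'))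
      ({z ^ f / algebraMap (V'.comap (algebraMap L L')) L' ϖW, z} : Set L') with hE
    have hzE : z ∈ E := Algebra.subset_adjoin (Set.mem_insert_of_mem _ rfl)
    have hLfrac : ∀ l : L, UnrBC.IsFrac E (algebraMap L L' l) := by
      intro l
      rcases (V'.comap (algebraMap L L')).mem_or_inv_mem l with hl | hl
      · exact UnrBC.isFrac_of_mem E (E.algebraMap_mem ⟨l, hl⟩)
      · have h1 : UnrBC.IsFrac E (algebraMap L L' l⁻¹) :=
          UnrBC.isFrac_of_mem E (E.algebraMap_mem ⟨l⁻¹, hl⟩)
        have h2 := h1.inv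
        rwa [map_inv₀, inv_inv] at h2
    intro x
    obtain ⟨p, rfl⟩ := hgen x
    rw [aeval_eq_sum_range]
    change UnrBC.IsFrac E _
    apply Finset.sum_induction _ (UnrBC.IsFrac E) (fun _ _ => UnrBC.IsFrac.add)
      (UnrBC.isFrac_zero E)
    intro i _
    rw [Algebra.smul_def]
    exact (hLfrac _).mul (UnrBC.isFrac_of_mem E (E.pow_mem hzE i))
  obtain ⟨⟨hzV, hmaxV'⟩, -, hsepWV'⟩ := KE.main ϖW hϖW hinjWL' V' hWV' n hn0 hgu (u : _) u.isUnit
    (z ^ f / algebraMap (V'.comap (algebraMap L L')) L' ϖW) hy f hf0 z 1 hw hfrac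
  constructor
  · -- weakly unramified
    change (maximalIdeal (AdjoinRoot (X ^ e - C π : A[X]))).map
      (algebraMap (AdjoinRoot (X ^ e - C π : A[X])) V') = maximalIdeal V'
    rw [hmaxA', Ideal.map_span, Set.image_singleton, hmaxV']
    congr 2
    exact Subtype.ext hroot
  · -- separable residue field extension
    haveI h1 : Algebra.IsSeparable (ResidueField A) (ResidueField (V'.comap (algebraMap L L'))) :=
      hsep _ hW
    haveI h2 : Algebra.IsSeparable (ResidueField (V'.comap (algebraMap L L'))) (ResidueField V') :=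
      hsepWV'
    haveI h3 : Algebra.IsSeparable (ResidueField A) (ResidueField V') :=
      Algebra.IsSeparable.trans (ResidueField A) (ResidueField (V'.comap (algebraMap L L')))
        (ResidueField V')
    exact Algebra.isSeparable_tower_top_of_isSeparable (ResidueField A)
      (ResidueField (AdjoinRoot (X ^ e - C π : A[X]))) (ResidueField V')

end Cover

section Exists

variable {A K L : Type u} [CommRing A] [IsDomain A] [IsDiscreteValuationRing A] [Field K]
  [Algebra A K] [IsFractionRing A K] [Field L] [Algebra K L] [Algebra A L] [IsScalarTower A K L]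
  [FiniteDimensional K L] [Algebra.IsSeparable K L]
  (π : A) (hπ : Irreducible π) (e : ℕ) (he : 0 < e) (heκ : (e : ResidueField A) ≠ 0)
  (hdiv : ∀ (V : ValuationSubring L) (hV : EtRam.Dominates A (algebraMap A L) V),
    letI : Algebra A V := (RingHom.codRestrict (algebraMap A L) V hV.1).toAlgebra
    (maximalIdeal A).ramificationIdx' (maximalIdeal V) ∣ e)
  (hsep : ∀ (V : ValuationSubring L) (hV : EtRam.Dominates A (algebraMap A L) V),
    letI : Algebra A V := (RingHom.codRestrict (algebraMap A L) V hV.1).toAlgebra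
    ∀ [IsLocalHom (algebraMap A V)],
      Algebra.IsSeparable (ResidueField A) (ResidueField V))

include hπ he heκ hdiv hsep in
theorem exists_cover :
    ∃ (L' : Type u) (_ : Field L') (_ : Algebra K L')
      (_ : Algebra (AdjoinRoot (X ^ e - C π : A[X])) L') (_ : L →ₐ[K] L'),
      FiniteDimensional K L' ∧ Algebra.IsSeparable K L' ∧
      (algebraMap (AdjoinRoot (X ^ e - C π : A[X])) L').comp (AdjoinRoot.of (X ^ e - C π)) =
        (algebraMap K L').comp (algebraMap A K) ∧
      ∀ [IsLocalRing (AdjoinRoot (X ^ e - C π : A[X]))],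
        EtRam.IsUnramifiedExt (AdjoinRoot (X ^ e - C π : A[X]))
          (algebraMap (AdjoinRoot (X ^ e - C π : A[X])) L') := by
  have hinjAL : Function.Injective (algebraMap A L) := TameA.algebraMap_injective A K L
  have hπL : algebraMap A L π ≠ 0 := (map_ne_zero_iff _ hinjAL).mpr hπ.ne_zero
  have heL : ((e : ℕ) : L) ≠ 0 := by
    intro h0
    apply heκ
    have h1 : algebraMap A L ((e : ℕ) : A) = 0 := by rw [map_natCast]; exact h0
    have h2 : ((e : ℕ) : A) = 0 := (map_eq_zero_iff _ hinjAL).mp h1
    rw [← map_natCast (residue A), h2, map_zero]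
  have hPsep : (X ^ e - C (algebraMap A L π) : L[X]).Separable :=
    separable_X_pow_sub_C _ heL hπL
  have hPm : (X ^ e - C (algebraMap A L π) : L[X]).Monic := monic_X_pow_sub_C _ he.ne'
  have hPnu : ¬ IsUnit (X ^ e - C (algebraMap A L π) : L[X]) := by
    apply not_isUnit_of_natDegree_pos
    rw [natDegree_X_pow_sub_C]; exact he
  obtain ⟨q, hq, hqP⟩ := WfDvdMonoid.exists_irreducible_factor hPnu hPm.ne_zero
  haveI : Fact (Irreducible q) := ⟨hq⟩
  have hzP : aeval (AdjoinRoot.root q) (X ^ e - C (algebraMap A L π) : L[X]) = 0 := by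
    rw [AdjoinRoot.aeval_eq, AdjoinRoot.mk_eq_zero]; exact hqP
  have hz : (AdjoinRoot.root q) ^ e = algebraMap A (AdjoinRoot q) π := by
    rw [map_sub, map_pow, aeval_X, aeval_C, sub_eq_zero] at hzP
    rw [hzP, ← IsScalarTower.algebraMap_apply]
  have hlift : eval₂ (algebraMap A (AdjoinRoot q)) (AdjoinRoot.root q) (X ^ e - C π : A[X]) = 0 := by
    rw [eval₂_sub, eval₂_pow, eval₂_X, eval₂_C, hz, sub_self]
  let algA' : Algebra (AdjoinRoot (X ^ e - C π : A[X])) (AdjoinRoot q) :=
    (AdjoinRoot.lift (algebraMap A (AdjoinRoot q)) (AdjoinRoot.root q) hlift).toAlgebra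
  haveI : FiniteDimensional L (AdjoinRoot q) := (AdjoinRoot.powerBasis hq.ne_zero).finite
  haveI : FiniteDimensional K (AdjoinRoot q) := FiniteDimensional.trans K L (AdjoinRoot q)
  haveI : Algebra.IsSeparable L (AdjoinRoot q) := by
    have hzsep : IsSeparable L (AdjoinRoot.root q) := by
      have h1 : minpoly L (AdjoinRoot.root q) ∣ q := minpoly.dvd L _ (by
        rw [AdjoinRoot.aeval_eq, AdjoinRoot.mk_self])
      exact (hPsep.of_dvd hqP).of_dvd h1
    have htop : IntermediateField.adjoin L ({AdjoinRoot.root q} : Set (AdjoinRoot q)) = ⊤ :=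
      IntermediateField.adjoin_eq_top_of_algebra L _ AdjoinRoot.adjoinRoot_eq_top
    have h2 : Algebra.IsSeparable L
        (IntermediateField.adjoin L ({AdjoinRoot.root q} : Set (AdjoinRoot q))) := by
      rw [IntermediateField.isSeparable_adjoin_iff_isSeparable]
      intro x hx
      rw [Set.mem_singleton_iff] at hx
      rw [hx]; exact hzsep
    rw [htop] at h2
    exact AlgEquiv.Algebra.isSeparable (IntermediateField.topEquiv (F := L) (E := AdjoinRoot q))
  haveI : Algebra.IsSeparable K (AdjoinRoot q) := Algebra.IsSeparable.trans K L (AdjoinRoot q)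
  refine ⟨AdjoinRoot q, inferInstance, inferInstance, algA', IsScalarTower.toAlgHom K L _,
    inferInstance, inferInstance, ?_, ?_⟩
  · ext a
    change AdjoinRoot.lift (algebraMap A (AdjoinRoot q)) (AdjoinRoot.root q) hlift
      (AdjoinRoot.of (X ^ e - C π : A[X]) a) = algebraMap K (AdjoinRoot q) (algebraMap A K a)
    rw [AdjoinRoot.lift_of, IsScalarTower.algebraMap_apply A L (AdjoinRoot q),
      IsScalarTower.algebraMap_apply A K L, ← IsScalarTower.algebraMap_apply K L (AdjoinRoot q)]
  · intro hlocA'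
    letI := algA'
    refine cover_unramified (K := K) π hπ e he heκ hdiv hsep (AdjoinRoot.root q) hz ?_ ?_ ?_
    · intro x
      obtain ⟨p, rfl⟩ := AdjoinRoot.mk_surjective x
      exact ⟨p, (AdjoinRoot.aeval_eq p).symm⟩
    · intro a
      exact AdjoinRoot.lift_of hlift
    · exact AdjoinRoot.lift_root hlift

end Exists

end Groth.Agent.R2.H73.TameB
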