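import Mathlib
import Groth.Prelude.Def_EtRam
import Groth.Agent.R2.H73LocUnr
import Groth.Agent.R2.H73LocUnrC
import Groth.Agent.R2.H73LocUnrD
import Groth.Agent.R2.H73UnrBC
import Groth.Agent.R2.H73KE

set_option autoImplicit false
set_option linter.style.haveILetI false
set_option linter.unusedSectionVars false
universe u

namespace Groth.Agent.R2.H73.UnrFlex

open IsLocalRing TensorProduct

theorem isFrac_neg {B F : Type*} [CommRing B] [Field F] [Algebra B F] {E : Subalgebra B F} {x : F}
    (hx : UnrBC.IsFrac E x) : UnrBC.IsFrac E (-x) := by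
  obtain ⟨a, b, hb, hab⟩ := hx
  refine ⟨-a, b, hb, ?_⟩
  push_cast
  rw [← hab]; ring

section Flex

variable (R K' S : Type u) [CommRing R] [IsDomain R] [IsDiscreteValuationRing R] [Field K']
  [Algebra R K'] [CommRing S] [IsDedekindDomain S] [Algebra R S] [Algebra S K']
  [IsScalarTower R S K'] [IsFractionRing S K'] [Module.Finite R S]
  (hinjRS : Function.Injective (algebraMap R S))
  (h : EtRam.IsUnramifiedExt R (algebraMap R K'))
  (B : Type u) [CommRing B] [IsDomain B] [IsDiscreteValuationRing B] [Algebra R B]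
  (F : Type u) [Field F] [Algebra B F] (hinj : Function.Injective (algebraMap B F))
  [Algebra R F] [IsScalarTower R B F] (ψ : S →ₐ[R] F)
  (hgen : ∀ x : F, x ∈ Subfield.closure (Set.range (algebraMap B F) ∪ Set.range ψ))

include hinjRS h hinj hgen in
/-- flexible form of the unramified base change -/
theorem main_flex (V : ValuationSubring F) (hV : EtRam.Dominates B (algebraMap B F) V) :
    IsDiscreteValuationRing V ∧
    (letI : Algebra B V := (RingHom.codRestrict (algebraMap B F) V hV.1).toAlgebra
    ∀ [IsLocalHom (algebraMap B V)],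
      EtRam.IsWeaklyUnramified B V ∧
        Algebra.IsSeparable (ResidueField B) (ResidueField V)) := by
  haveI fu : Algebra.FormallyUnramified R S :=
    LocUnrC.formallyUnramified_of_dedekind R K' S hinjRS h
  let φ : B ⊗[R] S →ₐ[B] F :=
    Algebra.TensorProduct.lift (Algebra.ofId B F) ψ (fun _ _ => Commute.all _ _)
  let E : Subalgebra B F := φ.range
  have hsurj : Function.Surjective φ.rangeRestrict := φ.rangeRestrict_surjective
  haveI : Module.Finite B E := Module.Finite.of_surjective φ.rangeRestrict.toLinearMap hsurj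
  haveI : Algebra.FormallyUnramified B E := Algebra.FormallyUnramified.of_surjective
    φ.rangeRestrict hsurj
  have hEV : ∀ x ∈ E, x ∈ V := KE.mem_of_finite E V hV
  have hB : ∀ b : B, algebraMap B F b ∈ E := fun b => ⟨b ⊗ₜ 1, by simp [φ]⟩
  have hS : ∀ s : S, ψ s ∈ E := fun s => ⟨1 ⊗ₜ s, by simp [φ]⟩
  have hfrac : ∀ x : F, ∃ a b : E, b ≠ 0 ∧ x * (b : F) = (a : F) := by
    intro x
    change UnrBC.IsFrac E x
    induction hgen x using Subfield.closure_induction with
    | mem y hy =>
      rcases hy with ⟨b, rfl⟩ | ⟨s, rfl⟩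
      · exact UnrBC.isFrac_of_mem E (hB b)
      · exact UnrBC.isFrac_of_mem E (hS s)
    | one => exact UnrBC.isFrac_of_mem E E.one_mem
    | add x y _ _ hx hy => exact hx.add hy
    | neg x _ hx => exact isFrac_neg hx
    | inv x _ hx => exact hx.inv
    | mul x y _ _ hx hy => exact hx.mul hy
  refine ⟨LocUnrD.isDiscreteValuationRing_of_subalgebra hinj E V hEV hV hfrac, ?_⟩
  intro hloc
  exact LocUnr.unrAt hinj E V hEV hV hfrac

end Flex

end Groth.Agent.R2.H73.UnrFlex
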