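import Mathlib
import Groth.Prelude.Def_EtRam
import Groth.Agent.R2.H73LocUnr
import Groth.Agent.R2.H73LocUnrC
import Groth.Agent.R2.H73LocUnrD
import Groth.Agent.R2.H73UnrBC
import Groth.Agent.R2.H73UnrFlex
import Groth.Agent.R2.H73KE
import Groth.Agent.R2.H73KumTame
import Groth.Agent.R2.H73TameA
import Groth.Agent.R2.H73TameB
import Groth.Agent.R2.H10EtRamA
import Groth.Agent.R2.H10EtRamB

set_option autoImplicit false
set_option linter.style.haveILetI false
set_option linter.unusedSectionVars false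
universe u

namespace Groth.Agent.R2.H73.TameBC

open IsLocalRing Polynomial IntermediateField

section Core

variable {A K K' : Type u} [CommRing A] [IsDomain A] [IsDiscreteValuationRing A] [Field K]
  [Algebra A K] [IsFractionRing A K] [Field K'] [Algebra K K'] [Algebra A K']
  [IsScalarTower A K K'] [FiniteDimensional K K'] [Algebra.IsSeparable K K']
  (π : A) (hπ : Irreducible π) (e : ℕ) (he : 0 < e) (heκ : (e : ResidueField A) ≠ 0)
  (hdiv : ∀ (V : ValuationSubring K') (hV : EtRam.Dominates A (algebraMap A K') V),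
    letI : Algebra A V := (RingHom.codRestrict (algebraMap A K') V hV.1).toAlgebra
    (maximalIdeal A).ramificationIdx' (maximalIdeal V) ∣ e)
  (hsep : ∀ (V : ValuationSubring K') (hV : EtRam.Dominates A (algebraMap A K') V),
    letI : Algebra A V := (RingHom.codRestrict (algebraMap A K') V hV.1).toAlgebra
    ∀ [IsLocalHom (algebraMap A V)],
      Algebra.IsSeparable (ResidueField A) (ResidueField V))
  {B L : Type u} [CommRing B] [IsDomain B] [IsDiscreteValuationRing B] [Algebra A B]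
  [IsLocalHom (algebraMap A B)]
  (hAB : Function.Injective (algebraMap A B)) [Field L] [Algebra B L] [IsFractionRing B L]
  {F'' : Type u} [Field F''] (jL : L →+* F'') (jK' : K' →+* F'')
  (hcompat : ∀ a : A, jK' (algebraMap A K' a) = jL (algebraMap B L (algebraMap A B a)))
  (z : F'') (hz : z ^ e = jK' (algebraMap A K' π))
  (hgen : ∀ x : F'', x ∈ Subfield.closure (Set.range jL ∪ Set.range jK' ∪ {z}))

include K hπ he heκ hdiv hsep hAB hcompat hz hgen in
theorem core (V'' : ValuationSubring F'')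
    (hV'' : EtRam.Dominates B (jL.comp (algebraMap B L)) V'') :
    IsDiscreteValuationRing V'' ∧
    (letI : Algebra B V'' :=
      (RingHom.codRestrict (jL.comp (algebraMap B L)) V'' hV''.1).toAlgebra
    ∀ [IsLocalHom (algebraMap B V'')],
      ((maximalIdeal B).ramificationIdx' (maximalIdeal V'') ∣ e) ∧
        Algebra.IsSeparable (ResidueField B) (ResidueField V'')) := by
  classical
  letI algLF : Algebra L F'' := jL.toAlgebra
  letI algK'F : Algebra K' F'' := jK'.toAlgebra
  letI algAF : Algebra A F'' := (jK'.comp (algebraMap A K')).toAlgebra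
  letI algKF : Algebra K F'' := (jK'.comp (algebraMap K K')).toAlgebra
  letI algBF : Algebra B F'' := (jL.comp (algebraMap B L)).toAlgebra
  haveI : IsScalarTower A K' F'' := IsScalarTower.of_algebraMap_eq (fun _ => rfl)
  haveI : IsScalarTower K K' F'' := IsScalarTower.of_algebraMap_eq (fun _ => rfl)
  haveI : IsScalarTower A K F'' := IsScalarTower.of_algebraMap_eq (fun a => by
    change jK' (algebraMap A K' a) = jK' (algebraMap K K' (algebraMap A K a))
    rw [← IsScalarTower.algebraMap_apply A K K'])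
  haveI : IsScalarTower B L F'' := IsScalarTower.of_algebraMap_eq (fun _ => rfl)
  haveI : IsScalarTower A B F'' := IsScalarTower.of_algebraMap_eq (fun a => hcompat a)
  -- the intermediate field `K'' = K'(z)`
  haveI : IsScalarTower A K' K'⟮z⟯ := IsScalarTower.of_algebraMap_eq (fun _ => Subtype.ext rfl)
  haveI : IsScalarTower K K' K'⟮z⟯ := IsScalarTower.of_algebraMap_eq (fun _ => Subtype.ext rfl)
  haveI : IsScalarTower A K K'⟮z⟯ := IsScalarTower.of_algebraMap_eq (fun a => Subtype.ext
    (IsScalarTower.algebraMap_apply A K F'' a))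
  -- basic facts
  have hinjAK' : Function.Injective (algebraMap A K') := TameA.algebraMap_injective A K K'
  have hπK' : algebraMap A K' π ≠ 0 := (map_ne_zero_iff _ hinjAK').mpr hπ.ne_zero
  have heA : IsUnit ((e : ℕ) : A) := by
    by_contra hnu
    have h1 : ((e : ℕ) : A) ∈ maximalIdeal A := hnu
    have h2 : residue A ((e : ℕ) : A) = 0 := (residue_eq_zero_iff _).mpr h1
    rw [map_natCast] at h2
    exact heκ h2
  have heB : IsUnit ((e : ℕ) : B) := by
    have := heA.map (algebraMap A B)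
    rwa [map_natCast] at this
  have heK' : ((e : ℕ) : K') ≠ 0 := by
    have := heA.map (algebraMap A K')
    rw [map_natCast] at this
    exact this.ne_zero
  -- `z` over `K'`
  have hzK' : z ^ e = algebraMap K' F'' (algebraMap A K' π) := hz
  have hzroot : aeval z (X ^ e - C (algebraMap A K' π) : K'[X]) = 0 := by
    rw [map_sub, map_pow, aeval_X, aeval_C, hzK', sub_self]
  have hPm : (X ^ e - C (algebraMap A K' π) : K'[X]).Monic := monic_X_pow_sub_C _ he.ne'
  have hzint : IsIntegral K' z := ⟨_, hPm, hzroot⟩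
  have hzsep : IsSeparable K' z := by
    have h1 : minpoly K' z ∣ (X ^ e - C (algebraMap A K' π) : K'[X]) := minpoly.dvd K' z hzroot
    exact (separable_X_pow_sub_C _ heK' hπK').of_dvd h1
  haveI : FiniteDimensional K' K'⟮z⟯ := adjoin.finiteDimensional hzint
  haveI : Algebra.IsSeparable K' K'⟮z⟯ :=
    (isSeparable_adjoin_simple_iff_isSeparable K' F'').mpr hzsep
  haveI : FiniteDimensional K K'⟮z⟯ := FiniteDimensional.trans K K' K'⟮z⟯
  haveI : Algebra.IsSeparable K K'⟮z⟯ := Algebra.IsSeparable.trans K K' K'⟮z⟯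
  -- the `A_e`-algebra structure on `K''`
  haveI lAe := Eis.isLocalRing π hπ e he
  haveI dAe := Eis.isDomain π hπ e he
  haveI := Eis.isDiscreteValuationRing π hπ e he
  haveI := Eis.finite π e he
  have hzK : (AdjoinSimple.gen K' z) ^ e = algebraMap A K'⟮z⟯ π := by
    apply Subtype.ext
    rw [SubmonoidClass.coe_pow, AdjoinSimple.coe_gen, hz]
    rfl
  have hliftK : eval₂ (algebraMap A K'⟮z⟯) (AdjoinSimple.gen K' z) (X ^ e - C π : A[X]) = 0 := by
    rw [eval₂_sub, eval₂_pow, eval₂_X, eval₂_C, hzK, sub_self]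
  letI algAeK : Algebra (AdjoinRoot (X ^ e - C π : A[X])) K'⟮z⟯ :=
    (AdjoinRoot.lift (algebraMap A K'⟮z⟯) (AdjoinSimple.gen K' z) hliftK).toAlgebra
  have hofK : ∀ a : A, algebraMap (AdjoinRoot (X ^ e - C π : A[X])) K'⟮z⟯ (AdjoinRoot.of _ a) =
      algebraMap A K'⟮z⟯ a := fun a => AdjoinRoot.lift_of hliftK
  have hrootK : algebraMap (AdjoinRoot (X ^ e - C π : A[X])) K'⟮z⟯ (AdjoinRoot.root _) =
      AdjoinSimple.gen K' z := AdjoinRoot.lift_root hliftK
  have hgenK : ∀ x : K'⟮z⟯, ∃ p : K'[X], x = aeval (AdjoinSimple.gen K' z) p := by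
    intro x
    have h1 : (x : F'') ∈ K'⟮z⟯.toSubalgebra := x.2
    rw [adjoin_simple_toSubalgebra_of_isAlgebraic hzint.isAlgebraic,
      Algebra.adjoin_singleton_eq_range_aeval] at h1
    obtain ⟨p, hp⟩ := h1
    refine ⟨p, Subtype.ext ?_⟩
    rw [← IntermediateField.aeval_coe, AdjoinSimple.coe_gen]
    exact hp.symm
  have hunrK : EtRam.IsUnramifiedExt (AdjoinRoot (X ^ e - C π : A[X]))
      (algebraMap (AdjoinRoot (X ^ e - C π : A[X])) K'⟮z⟯) :=
    TameB.cover_unramified (K := K) (L := K') π hπ e he heκ hdiv hsep (AdjoinSimple.gen K' z) hzK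
      hgenK hofK hrootK
  -- the integral closure `S` of `A` in `K''`, as an `A_e`-algebra
  haveI : IsDedekindDomain (integralClosure A K'⟮z⟯) := integralClosure.isDedekindDomain A K _
  haveI : IsFractionRing (integralClosure A K'⟮z⟯) K'⟮z⟯ :=
    integralClosure.isFractionRing_of_finite_extension K _
  haveI : Module.Finite A (integralClosure A K'⟮z⟯) := IsIntegralClosure.finite A K K'⟮z⟯ _
  haveI : IsScalarTower A (AdjoinRoot (X ^ e - C π : A[X])) K'⟮z⟯ :=
    IsScalarTower.of_algebraMap_eq (fun a => (hofK a).symm)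
  have hmemS : ∀ x : AdjoinRoot (X ^ e - C π : A[X]),
      algebraMap (AdjoinRoot (X ^ e - C π : A[X])) K'⟮z⟯ x ∈ integralClosure A K'⟮z⟯ := by
    intro x
    have hx : IsIntegral A x := Algebra.IsIntegral.isIntegral x
    exact hx.map (IsScalarTower.toAlgHom A (AdjoinRoot (X ^ e - C π : A[X])) K'⟮z⟯)
  letI algAeS : Algebra (AdjoinRoot (X ^ e - C π : A[X])) (integralClosure A K'⟮z⟯) :=
    (RingHom.codRestrict (algebraMap (AdjoinRoot (X ^ e - C π : A[X])) K'⟮z⟯)
      (integralClosure A K'⟮z⟯) hmemS).toAlgebra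
  haveI : IsScalarTower (AdjoinRoot (X ^ e - C π : A[X])) (integralClosure A K'⟮z⟯) K'⟮z⟯ :=
    IsScalarTower.of_algebraMap_eq (fun _ => rfl)
  haveI : IsScalarTower A (AdjoinRoot (X ^ e - C π : A[X])) (integralClosure A K'⟮z⟯) :=
    IsScalarTower.of_algebraMap_eq (fun a => Subtype.ext (hofK a).symm)
  haveI : Module.Finite (AdjoinRoot (X ^ e - C π : A[X])) (integralClosure A K'⟮z⟯) :=
    Module.Finite.of_restrictScalars_finite A _ _
  have hinjAK'' : Function.Injective (algebraMap A K'⟮z⟯) := TameA.algebraMap_injective A K _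
  have hρK : algebraMap (AdjoinRoot (X ^ e - C π : A[X])) K'⟮z⟯ =
      KE.ρ π e (algebraMap A K'⟮z⟯) (AdjoinSimple.gen K' z) hzK := by
    apply AdjoinRoot.ringHom_ext
    · refine RingHom.ext (fun a => ?_)
      rw [RingHom.comp_apply, RingHom.comp_apply]
      exact (hofK a).trans (KE.ρ_algebraMap π e _ _ hzK a).symm
    · exact hrootK.trans (KE.ρ_root π e _ _ hzK).symm
  have hinjAeK : Function.Injective (algebraMap (AdjoinRoot (X ^ e - C π : A[X])) K'⟮z⟯) := by
    rw [hρK]
    exact KE.ρ_injective π hπ e he _ hinjAK'' _ hzK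
  have hinjAeS : Function.Injective
      (algebraMap (AdjoinRoot (X ^ e - C π : A[X])) (integralClosure A K'⟮z⟯)) := fun x y hxy =>
    hinjAeK (congrArg Subtype.val hxy)
  -- the intermediate field `L_e = L(z)` and the valuation subring `B_e`
  have hπB : algebraMap A B π ≠ 0 := (map_ne_zero_iff _ hAB).mpr hπ.ne_zero
  have hzL : z ^ e = algebraMap L F'' (algebraMap B L (algebraMap A B π)) := by
    rw [hz, hcompat]; rfl
  have hg : ∀ b : B, algebraMap L⟮z⟯ F'' (((algebraMap L L⟮z⟯).comp (algebraMap B L)) b) =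
      (jL.comp (algebraMap B L)) b := fun b => rfl
  have hBe : EtRam.Dominates B ((algebraMap L L⟮z⟯).comp (algebraMap B L))
      (V''.comap (algebraMap L⟮z⟯ F'')) :=
    (Groth.Agent.R2.H10.EtRamB.dominates_comap_iff (algebraMap L⟮z⟯ F'') V'' hg).mpr hV''
  have hBeV := Groth.Agent.R2.H10.EtRamB.dominates_comap_self (algebraMap L⟮z⟯ F'') V''
  letI algBBe : Algebra B (V''.comap (algebraMap L⟮z⟯ F'')) :=
    (RingHom.codRestrict ((algebraMap L L⟮z⟯).comp (algebraMap B L))
      (V''.comap (algebraMap L⟮z⟯ F'')) hBe.1).toAlgebra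
  haveI locBBe : IsLocalHom (algebraMap B (V''.comap (algebraMap L⟮z⟯ F''))) :=
    Groth.Agent.R2.H10.EtRamA.isLocalHom_of_dominates hBe
  obtain ⟨hK1div, hK1sep⟩ := KumTame.kummer_tame (algebraMap A B π) hπB e he heB z hzL
    (V''.comap (algebraMap L⟮z⟯ F'')) hBe
  -- `B_e` is a DVR
  have hcL : algebraMap B L (algebraMap A B π) ≠ 0 :=
    (map_ne_zero_iff _ (IsFractionRing.injective B L)).mpr hπB
  have heL : ((e : ℕ) : L) ≠ 0 := by
    have := heB.map (algebraMap B L)
    rw [map_natCast] at this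
    exact this.ne_zero
  have hzrootL : aeval z (X ^ e - C (algebraMap B L (algebraMap A B π)) : L[X]) = 0 := by
    rw [map_sub, map_pow, aeval_X, aeval_C, hzL, sub_self]
  have hzintL : IsIntegral L z := ⟨_, monic_X_pow_sub_C _ he.ne', hzrootL⟩
  have hzsepL : IsSeparable L z := by
    have h1 := minpoly.dvd L z hzrootL
    exact (separable_X_pow_sub_C _ heL hcL).of_dvd h1
  haveI : FiniteDimensional L L⟮z⟯ := adjoin.finiteDimensional hzintL
  haveI : Algebra.IsSeparable L L⟮z⟯ :=
    (isSeparable_adjoin_simple_iff_isSeparable L F'').mpr hzsepL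
  haveI dBe : IsDiscreteValuationRing (V''.comap (algebraMap L⟮z⟯ F'')) :=
    Groth.Agent.R2.H10.EtRamA.isDiscreteValuationRing_of_dominates B L L⟮z⟯ _ hBe
  -- `A_e → L_e`
  letI algALe : Algebra A L⟮z⟯ :=
    ((algebraMap L L⟮z⟯).comp ((algebraMap B L).comp (algebraMap A B))).toAlgebra
  have hzLe : (AdjoinSimple.gen L z) ^ e = algebraMap A L⟮z⟯ π := by
    apply Subtype.ext
    rw [SubmonoidClass.coe_pow, AdjoinSimple.coe_gen, hzL]
    rfl
  have hliftL : eval₂ (algebraMap A L⟮z⟯) (AdjoinSimple.gen L z) (X ^ e - C π : A[X]) = 0 := by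
    rw [eval₂_sub, eval₂_pow, eval₂_X, eval₂_C, hzLe, sub_self]
  letI algAeLe : Algebra (AdjoinRoot (X ^ e - C π : A[X])) L⟮z⟯ :=
    (AdjoinRoot.lift (algebraMap A L⟮z⟯) (AdjoinSimple.gen L z) hliftL).toAlgebra
  letI algAeF : Algebra (AdjoinRoot (X ^ e - C π : A[X])) F'' :=
    ((algebraMap K'⟮z⟯ F'').comp (algebraMap (AdjoinRoot (X ^ e - C π : A[X])) K'⟮z⟯)).toAlgebra
  haveI : IsScalarTower (AdjoinRoot (X ^ e - C π : A[X])) K'⟮z⟯ F'' :=
    IsScalarTower.of_algebraMap_eq (fun _ => rfl)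
  have hagree : ∀ x : AdjoinRoot (X ^ e - C π : A[X]),
      algebraMap L⟮z⟯ F'' (algebraMap (AdjoinRoot (X ^ e - C π : A[X])) L⟮z⟯ x) =
        algebraMap (AdjoinRoot (X ^ e - C π : A[X])) F'' x := by
    have h1 : (algebraMap L⟮z⟯ F'').comp (algebraMap (AdjoinRoot (X ^ e - C π : A[X])) L⟮z⟯) =
        algebraMap (AdjoinRoot (X ^ e - C π : A[X])) F'' := by
      apply AdjoinRoot.ringHom_ext
      · refine RingHom.ext (fun a => ?_)
        change algebraMap L⟮z⟯ F'' (AdjoinRoot.lift (algebraMap A L⟮z⟯) (AdjoinSimple.gen L z) hliftL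
          (AdjoinRoot.of _ a)) = algebraMap K'⟮z⟯ F''
            (algebraMap (AdjoinRoot (X ^ e - C π : A[X])) K'⟮z⟯ (AdjoinRoot.of _ a))
        rw [AdjoinRoot.lift_of, hofK]
        exact (hcompat a).symm
      · change algebraMap L⟮z⟯ F'' (AdjoinRoot.lift (algebraMap A L⟮z⟯) (AdjoinSimple.gen L z) hliftL
          (AdjoinRoot.root _)) = algebraMap K'⟮z⟯ F''
            (algebraMap (AdjoinRoot (X ^ e - C π : A[X])) K'⟮z⟯ (AdjoinRoot.root _))
        rw [AdjoinRoot.lift_root, hrootK]
        rfl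
    exact fun x => RingHom.congr_fun h1 x
  -- `A_e → F''` lands in `V''`
  have hzF : z ^ e = algebraMap A F'' π := hz
  have hρF : algebraMap (AdjoinRoot (X ^ e - C π : A[X])) F'' =
      KE.ρ π e (algebraMap A F'') z hzF := by
    apply AdjoinRoot.ringHom_ext
    · refine RingHom.ext (fun a => ?_)
      rw [RingHom.comp_apply, RingHom.comp_apply]
      change algebraMap K'⟮z⟯ F''
        (algebraMap (AdjoinRoot (X ^ e - C π : A[X])) K'⟮z⟯ (AdjoinRoot.of _ a)) = _
      rw [hofK]
      exact (KE.ρ_algebraMap π e _ _ hzF a).symm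
    · change algebraMap K'⟮z⟯ F''
        (algebraMap (AdjoinRoot (X ^ e - C π : A[X])) K'⟮z⟯ (AdjoinRoot.root _)) = _
      rw [hrootK]
      exact (KE.ρ_root π e _ _ hzF).symm
  have hV₁ : ∀ a : A, algebraMap A F'' a ∈ V'' := by
    intro a
    rw [IsScalarTower.algebraMap_apply A B F'']
    exact hV''.1 _
  have hloc₁ : ∀ a ∈ maximalIdeal A, V''.valuation (algebraMap A F'' a) < 1 := by
    intro a ha
    rw [IsScalarTower.algebraMap_apply A B F'']
    apply hV''.2
    rw [mem_maximalIdeal, mem_nonunits_iff] at ha ⊢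
    intro hu
    exact ha (isUnit_of_map_unit (algebraMap A B) a hu)
  have hAeV : ∀ x : AdjoinRoot (X ^ e - C π : A[X]),
      algebraMap (AdjoinRoot (X ^ e - C π : A[X])) F'' x ∈ V'' := by
    intro x
    rw [hρF]
    exact KE.ρ_mem π hπ e he _ z hzF V'' hV₁ hloc₁ x
  have hmemBe : ∀ x : AdjoinRoot (X ^ e - C π : A[X]),
      algebraMap (AdjoinRoot (X ^ e - C π : A[X])) L⟮z⟯ x ∈ V''.comap (algebraMap L⟮z⟯ F'') := by
    intro x
    rw [ValuationSubring.mem_comap, hagree]
    exact hAeV x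
  letI algAeBe : Algebra (AdjoinRoot (X ^ e - C π : A[X])) (V''.comap (algebraMap L⟮z⟯ F'')) :=
    (RingHom.codRestrict (algebraMap (AdjoinRoot (X ^ e - C π : A[X])) L⟮z⟯)
      (V''.comap (algebraMap L⟮z⟯ F'')) hmemBe).toAlgebra
  letI algBeF : Algebra (V''.comap (algebraMap L⟮z⟯ F'')) F'' :=
    ((algebraMap L⟮z⟯ F'').comp (V''.comap (algebraMap L⟮z⟯ F'')).subtype).toAlgebra
  haveI : IsScalarTower (AdjoinRoot (X ^ e - C π : A[X])) (V''.comap (algebraMap L⟮z⟯ F'')) F'' :=
    IsScalarTower.of_algebraMap_eq (fun x => (hagree x).symm)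
  have hinjBeF : Function.Injective (algebraMap (V''.comap (algebraMap L⟮z⟯ F'')) F'') :=
    fun a b hab => Subtype.ext ((algebraMap L⟮z⟯ F'').injective hab)
  let ψ : integralClosure A K'⟮z⟯ →ₐ[AdjoinRoot (X ^ e - C π : A[X])] F'' :=
    { toRingHom := (algebraMap K'⟮z⟯ F'').comp (algebraMap (integralClosure A K'⟮z⟯) K'⟮z⟯)
      commutes' := fun _ => rfl }
  have hgen' : ∀ x : F'', x ∈ Subfield.closure
      (Set.range (algebraMap (V''.comap (algebraMap L⟮z⟯ F'')) F'') ∪ Set.range ψ) := by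
    have hle : Subfield.closure (Set.range jL ∪ Set.range jK' ∪ {z}) ≤ Subfield.closure
        (Set.range (algebraMap (V''.comap (algebraMap L⟮z⟯ F'')) F'') ∪ Set.range ψ) := by
      rw [Subfield.closure_le]
      rintro y ((⟨l, rfl⟩ | ⟨k, rfl⟩) | hy)
      · -- `jL l`
        rcases (V''.comap (algebraMap L⟮z⟯ F'')).mem_or_inv_mem (algebraMap L L⟮z⟯ l) with hl | hl
        · apply Subfield.subset_closure
          left
          exact ⟨⟨_, hl⟩, rfl⟩
        · have h1 : (jL l)⁻¹ ∈ Subfield.closure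
              (Set.range (algebraMap (V''.comap (algebraMap L⟮z⟯ F'')) F'') ∪ Set.range ψ) := by
            apply Subfield.subset_closure
            left
            refine ⟨⟨_, hl⟩, ?_⟩
            change algebraMap L⟮z⟯ F'' (algebraMap L L⟮z⟯ l)⁻¹ = (jL l)⁻¹
            rw [map_inv₀]
            rfl
          have h2 := inv_mem h1
          rwa [inv_inv] at h2
      · -- `jK' k`
        obtain ⟨s₁, s₂, hs₂, hk⟩ := IsFractionRing.div_surjective (A := integralClosure A K'⟮z⟯)
          (algebraMap K' K'⟮z⟯ k)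
        have h1 : jK' k = ψ s₁ / ψ s₂ := by
          change algebraMap K'⟮z⟯ F'' (algebraMap K' K'⟮z⟯ k) = _
          rw [← hk, map_div₀]
          rfl
        rw [SetLike.mem_coe, h1]
        exact div_mem (Subfield.subset_closure (Or.inr ⟨s₁, rfl⟩))
          (Subfield.subset_closure (Or.inr ⟨s₂, rfl⟩))
      · rw [Set.mem_singleton_iff] at hy
        subst hy
        apply Subfield.subset_closure
        right
        exact ⟨⟨AdjoinSimple.gen K' y, ⟨_, monic_X_pow_sub_C π he.ne', hliftK⟩⟩, rfl⟩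
    exact fun x => hle (hgen x)
  obtain ⟨dV'', hflex⟩ := UnrFlex.main_flex (AdjoinRoot (X ^ e - C π : A[X])) K'⟮z⟯
    (integralClosure A K'⟮z⟯) hinjAeS hunrK (V''.comap (algebraMap L⟮z⟯ F'')) F'' hinjBeF ψ hgen'
    V'' hBeV
  refine ⟨dV'', ?_⟩
  letI algBV : Algebra B V'' :=
    (RingHom.codRestrict (jL.comp (algebraMap B L)) V'' hV''.1).toAlgebra
  intro hlocBV
  letI algBeV : Algebra (V''.comap (algebraMap L⟮z⟯ F'')) V'' :=
    (RingHom.codRestrict (algebraMap (V''.comap (algebraMap L⟮z⟯ F'')) F'') V'' hBeV.1).toAlgebra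
  haveI locBeV : IsLocalHom (algebraMap (V''.comap (algebraMap L⟮z⟯ F'')) V'') :=
    Groth.Agent.R2.H10.EtRamA.isLocalHom_of_dominates hBeV
  obtain ⟨hwu, hsepBeV⟩ := hflex
  haveI : IsScalarTower B (V''.comap (algebraMap L⟮z⟯ F'')) V'' :=
    IsScalarTower.of_algebraMap_eq (fun _ => Subtype.ext rfl)
  have injBeV : Function.Injective (algebraMap (V''.comap (algebraMap L⟮z⟯ F'')) V'') := by
    intro a b hab
    have h0 := congrArg (fun t : V'' => (t : F'')) hab
    exact hinjBeF h0
  have injBV : Function.Injective (algebraMap B V'') := fun a b hab =>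
    IsFractionRing.injective B L (jL.injective (congrArg Subtype.val hab))
  have htower := Groth.Agent.R2.H10.EtRamB.ramificationIdx_tower (A := B)
    (V := V''.comap (algebraMap L⟮z⟯ F'')) (W := V'') injBeV injBV
  -- `e(V''/B_e) = 1`
  obtain ⟨t, ht⟩ := IsDiscreteValuationRing.exists_irreducible V''
  have hone : (maximalIdeal (V''.comap (algebraMap L⟮z⟯ F''))).ramificationIdx' (maximalIdeal V'') =
      1 := by
    apply Eis.ramificationIdx'_eq_of_map_eq _ t ht.maximalIdeal_eq ht.ne_zero 1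
    rw [pow_one, ← ht.maximalIdeal_eq]
    exact hwu
  rw [hone, mul_one] at htower
  refine ⟨htower ▸ hK1div, ?_⟩
  haveI := hK1sep
  haveI := hsepBeV
  exact Algebra.IsSeparable.trans (ResidueField B)
    (ResidueField (V''.comap (algebraMap L⟮z⟯ F''))) (ResidueField V'')

end Core

end Groth.Agent.R2.H73.TameBC
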