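import Mathlib
import Groth.Prelude.Def_EtRam
import Groth.Agent.R2.H73TameBC

set_option autoImplicit false
set_option linter.style.haveILetI false
set_option linter.unusedSectionVars false
universe u

namespace Groth.Agent.R2.H73.TameBCMain

open IsLocalRing Polynomial TensorProduct

section Main

variable (A B K L K' : Type u) [CommRing A] [IsDomain A]
    [IsDiscreteValuationRing A] [CommRing B] [IsDomain B] [IsDiscreteValuationRing B] [Algebra A B]
    [IsLocalHom (algebraMap A B)]
    [Field K] [Field L] [Field K'] [Algebra A K] [IsFractionRing A K] [Algebra B L]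
    [IsFractionRing B L]
    [Algebra K L] [Algebra A L] [IsScalarTower A K L] [IsScalarTower A B L]
    [Algebra K K'] [FiniteDimensional K K'] [Algebra.IsSeparable K K']

theorem main (hinj : Function.Injective (algebraMap A B))
    (h : EtRam.IsTamelyRamified A ((algebraMap K K').comp (algebraMap A K)))
    (F : Type u) [Field F] [Algebra (K' ⊗[K] L) F]
    (hF : Function.Surjective (algebraMap (K' ⊗[K] L) F)) :
    EtRam.IsTamelyRamified B ((algebraMap (K' ⊗[K] L) F).comp
      ((Algebra.TensorProduct.includeRight : L →ₐ[K] K' ⊗[K] L).toRingHom.comp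
        (algebraMap B L))) := by
  classical
  letI : Algebra A K' := ((algebraMap K K').comp (algebraMap A K)).toAlgebra
  haveI : IsScalarTower A K K' := IsScalarTower.of_algebraMap_eq (fun _ => rfl)
  have h' : EtRam.IsTamelyRamified A (algebraMap A K') := h
  obtain ⟨π, hπ⟩ := IsDiscreteValuationRing.exists_irreducible A
  obtain ⟨e, he, heκ, hdiv⟩ := TameA.exists_common_multiple A K K' h'
  have hsep : ∀ (V : ValuationSubring K') (hV : EtRam.Dominates A (algebraMap A K') V),
      letI : Algebra A V := (RingHom.codRestrict (algebraMap A K') V hV.1).toAlgebra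
      ∀ [IsLocalHom (algebraMap A V)],
        Algebra.IsSeparable (ResidueField A) (ResidueField V) := by
    intro V hV
    letI : Algebra A V := (RingHom.codRestrict (algebraMap A K') V hV.1).toAlgebra
    intro hloc
    exact (h' V hV).1
  set g : B →+* F := (algebraMap (K' ⊗[K] L) F).comp
      ((Algebra.TensorProduct.includeRight : L →ₐ[K] K' ⊗[K] L).toRingHom.comp
        (algebraMap B L)) with hg
  let ιK' : K' →+* F := (algebraMap (K' ⊗[K] L) F).comp
    (Algebra.TensorProduct.includeLeft : K' →ₐ[K] K' ⊗[K] L).toRingHom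
  let ιL : L →+* F := (algebraMap (K' ⊗[K] L) F).comp
    (Algebra.TensorProduct.includeRight : L →ₐ[K] K' ⊗[K] L).toRingHom
  have hcompat : ∀ a : A, ιK' (algebraMap A K' a) = ιL (algebraMap B L (algebraMap A B a)) := by
    intro a
    change algebraMap (K' ⊗[K] L) F ((algebraMap K K' (algebraMap A K a)) ⊗ₜ (1 : L)) =
      algebraMap (K' ⊗[K] L) F ((1 : K') ⊗ₜ (algebraMap B L (algebraMap A B a)))
    congr 1
    rw [← IsScalarTower.algebraMap_apply A B L, IsScalarTower.algebraMap_apply A K L,
      Algebra.algebraMap_eq_smul_one (algebraMap A K a), Algebra.algebraMap_eq_smul_one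
        (A := L) (algebraMap A K a), TensorProduct.smul_tmul]
  -- the field `F''`
  have heA : IsUnit ((e : ℕ) : A) := by
    by_contra hnu
    have h1 : ((e : ℕ) : A) ∈ maximalIdeal A := hnu
    have h2 : residue A ((e : ℕ) : A) = 0 := (residue_eq_zero_iff _).mpr h1
    rw [map_natCast] at h2
    exact heκ h2
  have hPm : (X ^ e - C (ιK' (algebraMap A K' π)) : F[X]).Monic := monic_X_pow_sub_C _ he.ne'
  have hPnu : ¬ IsUnit (X ^ e - C (ιK' (algebraMap A K' π)) : F[X]) := by
    apply not_isUnit_of_natDegree_pos
    rw [natDegree_X_pow_sub_C]; exact he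
  obtain ⟨q, hq, hqP⟩ := WfDvdMonoid.exists_irreducible_factor hPnu hPm.ne_zero
  haveI : Fact (Irreducible q) := ⟨hq⟩
  have hzP : aeval (AdjoinRoot.root q) (X ^ e - C (ιK' (algebraMap A K' π)) : F[X]) = 0 := by
    rw [AdjoinRoot.aeval_eq, AdjoinRoot.mk_eq_zero]; exact hqP
  have hz : (AdjoinRoot.root q) ^ e =
      ((algebraMap F (AdjoinRoot q)).comp ιK') (algebraMap A K' π) := by
    rw [map_sub, map_pow, aeval_X, aeval_C, sub_eq_zero] at hzP
    exact hzP
  have hgen : ∀ x : AdjoinRoot q, x ∈ Subfield.closure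
      (Set.range ((algebraMap F (AdjoinRoot q)).comp ιL) ∪
        Set.range ((algebraMap F (AdjoinRoot q)).comp ιK') ∪ {AdjoinRoot.root q}) := by
    set C₀ := Subfield.closure
      (Set.range ((algebraMap F (AdjoinRoot q)).comp ιL) ∪
        Set.range ((algebraMap F (AdjoinRoot q)).comp ιK') ∪ {AdjoinRoot.root q}) with hC₀
    have hzC : AdjoinRoot.root q ∈ C₀ := Subfield.subset_closure (Or.inr rfl)
    have hFC : ∀ f : F, algebraMap F (AdjoinRoot q) f ∈ C₀ := by
      intro f
      obtain ⟨t, rfl⟩ := hF f
      induction t using TensorProduct.induction_on with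
      | zero => rw [map_zero, map_zero]; exact zero_mem _
      | tmul k l =>
        have h1 : algebraMap (K' ⊗[K] L) F (k ⊗ₜ l) = ιK' k * ιL l := by
          change algebraMap (K' ⊗[K] L) F (k ⊗ₜ l) =
            algebraMap (K' ⊗[K] L) F (k ⊗ₜ 1) * algebraMap (K' ⊗[K] L) F (1 ⊗ₜ l)
          rw [← map_mul, Algebra.TensorProduct.tmul_mul_tmul, mul_one, one_mul]
        rw [h1, map_mul]
        exact mul_mem (Subfield.subset_closure (Or.inl (Or.inr ⟨k, rfl⟩)))
          (Subfield.subset_closure (Or.inl (Or.inl ⟨l, rfl⟩)))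
      | add x y hx hy => rw [map_add, map_add]; exact add_mem hx hy
    intro x
    obtain ⟨p, rfl⟩ := AdjoinRoot.mk_surjective x
    rw [← AdjoinRoot.aeval_eq, aeval_eq_sum_range]
    apply sum_mem
    intro i _
    rw [Algebra.smul_def]
    exact mul_mem (hFC _) (pow_mem hzC i)
  -- pointwise
  intro V hV
  letI algBV : Algebra B V := (RingHom.codRestrict g V hV.1).toAlgebra
  intro hlocBV
  obtain ⟨V'', hV''V⟩ := Groth.Agent.R2.H10.EtRamA.exists_valuationSubring_comap_eq
    (algebraMap F (AdjoinRoot q)) V
  subst hV''V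
  have hgg : ∀ b : B, algebraMap F (AdjoinRoot q) (g b) =
      (((algebraMap F (AdjoinRoot q)).comp ιL).comp (algebraMap B L)) b := fun b => rfl
  have hV'' : EtRam.Dominates B (((algebraMap F (AdjoinRoot q)).comp ιL).comp (algebraMap B L))
      V'' := (Groth.Agent.R2.H10.EtRamB.dominates_comap_iff (algebraMap F (AdjoinRoot q)) V''
        hgg).mp hV
  have hcompat' : ∀ a : A, ((algebraMap F (AdjoinRoot q)).comp ιK') (algebraMap A K' a) =
      ((algebraMap F (AdjoinRoot q)).comp ιL) (algebraMap B L (algebraMap A B a)) := by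
    intro a
    change algebraMap F (AdjoinRoot q) (ιK' (algebraMap A K' a)) = _
    rw [hcompat a]
    rfl
  obtain ⟨dV'', hcore⟩ := TameBC.core (K := K) π hπ e he heκ hdiv hsep hinj
    ((algebraMap F (AdjoinRoot q)).comp ιL) ((algebraMap F (AdjoinRoot q)).comp ιK') hcompat'
    (AdjoinRoot.root q) hz hgen V'' hV''
  letI algBV'' : Algebra B V'' :=
    (RingHom.codRestrict (((algebraMap F (AdjoinRoot q)).comp ιL).comp (algebraMap B L)) V''
      hV''.1).toAlgebra
  haveI locBV'' : IsLocalHom (algebraMap B V'') :=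
    Groth.Agent.R2.H10.EtRamA.isLocalHom_of_dominates hV''
  obtain ⟨hdivV'', hsepV''⟩ := hcore
  -- `V` is a DVR
  have hginj : Function.Injective g := by
    intro x y hxy
    have hxy' : ιL (algebraMap B L x) = ιL (algebraMap B L y) := hxy
    exact IsFractionRing.injective B L (ιL.injective hxy')
  haveI dV : IsDiscreteValuationRing (V''.comap (algebraMap F (AdjoinRoot q))) := by
    apply LocUnrD.isDiscreteValuationRing_comap
    obtain ⟨ϖ, hϖ⟩ := IsDiscreteValuationRing.exists_irreducible B
    refine ⟨g ϖ, (map_ne_zero_iff g hginj).mpr hϖ.ne_zero, hV.2 ϖ ?_⟩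
    rw [mem_maximalIdeal, mem_nonunits_iff]
    exact hϖ.not_isUnit
  -- the tower `B → V → V''`
  have hVV'' := Groth.Agent.R2.H10.EtRamB.dominates_comap_self (algebraMap F (AdjoinRoot q)) V''
  letI algVV'' : Algebra (V''.comap (algebraMap F (AdjoinRoot q))) V'' :=
    (RingHom.codRestrict ((algebraMap F (AdjoinRoot q)).comp
      (V''.comap (algebraMap F (AdjoinRoot q))).subtype) V'' hVV''.1).toAlgebra
  haveI : IsScalarTower B (V''.comap (algebraMap F (AdjoinRoot q))) V'' :=
    IsScalarTower.of_algebraMap_eq (fun _ => Subtype.ext rfl)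
  haveI locVV'' : IsLocalHom (algebraMap (V''.comap (algebraMap F (AdjoinRoot q))) V'') :=
    Groth.Agent.R2.H10.EtRamA.isLocalHom_of_dominates hVV''
  have injVV'' : Function.Injective (algebraMap (V''.comap (algebraMap F (AdjoinRoot q))) V'') := by
    intro a b hab
    have h0 := congrArg (fun t : V'' => (t : AdjoinRoot q)) hab
    exact Subtype.ext ((algebraMap F (AdjoinRoot q)).injective h0)
  have injBV'' : Function.Injective (algebraMap B V'') := by
    intro a b hab
    have h0 := congrArg (fun t : V'' => (t : AdjoinRoot q)) hab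
    exact hginj ((algebraMap F (AdjoinRoot q)).injective h0)
  have htower := Groth.Agent.R2.H10.EtRamB.ramificationIdx_tower (A := B)
    (V := V''.comap (algebraMap F (AdjoinRoot q))) (W := V'') injVV'' injBV''
  constructor
  · exact Algebra.isSeparable_tower_bot_of_isSeparable (ResidueField B)
      (ResidueField (V''.comap (algebraMap F (AdjoinRoot q)))) (ResidueField V'')
  · intro p hp hchar hdvd
    have h1 : p ∣ e := by
      refine dvd_trans ?_ hdivV''
      rw [htower]
      exact Dvd.dvd.mul_right hdvd _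
    have h2 : ((e : ℕ) : ResidueField B) = 0 := (CharP.cast_eq_zero_iff (ResidueField B) p e).mpr h1
    have h3 : IsUnit ((e : ℕ) : B) := by
      have := heA.map (algebraMap A B)
      rwa [map_natCast] at this
    have h4 := h3.map (residue B)
    rw [map_natCast, h2] at h4
    exact not_isUnit_zero h4

end Main

end Groth.Agent.R2.H73.TameBCMain
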