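import Mathlib
import Groth.Prelude.Def_EtRam
import Groth.Agent.S1989
import Groth.Agent.S1990
import Groth.Agent.S9306
import Groth.Agent.S9307
import Groth.Agent.R2.H10EtRamA

set_option autoImplicit false
set_option linter.style.haveILetI false
set_option linter.unusedSectionVars false
universe u

namespace Groth.Agent.R2.H73.Compositum

open IsLocalRing TensorProduct

section Comp

variable (A K : Type u) [CommRing A] [IsDomain A] [IsDiscreteValuationRing A] [Field K]
  [Algebra A K] [IsFractionRing A K]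
  (L₁ L₂ M : Type u) [Field L₁] [Field L₂] [Field M] [Algebra K L₁] [Algebra K L₂] [Algebra K M]
  [FiniteDimensional K L₁] [Algebra.IsSeparable K L₁] [FiniteDimensional K L₂]
  [Algebra.IsSeparable K L₂] [FiniteDimensional K M] [Algebra.IsSeparable K M]
  (f₁ : L₁ →ₐ[K] M) (f₂ : L₂ →ₐ[K] M)
  (hsurj : Function.Surjective (Algebra.TensorProduct.productMap f₁ f₂))

include hsurj in
theorem comp_unr
    (h₁ : EtRam.IsUnramifiedExt A ((algebraMap K L₁).comp (algebraMap A K)))
    (h₂ : EtRam.IsUnramifiedExt A ((algebraMap K L₂).comp (algebraMap A K))) :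
    EtRam.IsUnramifiedExt A ((algebraMap K M).comp (algebraMap A K)) := by
  letI algL₂M : Algebra L₂ M := f₂.toRingHom.toAlgebra
  haveI : IsScalarTower K L₂ M := IsScalarTower.of_algebraMap_eq (fun x => (f₂.commutes x).symm)
  refine (Groth.Agent.S1990.result A K L₂ M).2 h₂ ?_
  intro V₂ hV₂
  letI algAL₂ : Algebra A L₂ := ((algebraMap K L₂).comp (algebraMap A K)).toAlgebra
  haveI : IsScalarTower A K L₂ := IsScalarTower.of_algebraMap_eq (fun _ => rfl)
  letI algAV₂ : Algebra A V₂ :=
    (RingHom.codRestrict ((algebraMap K L₂).comp (algebraMap A K)) V₂ hV₂.1).toAlgebra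
  haveI : IsScalarTower A V₂ L₂ := IsScalarTower.of_algebraMap_eq (fun _ => rfl)
  haveI : IsLocalHom (algebraMap A V₂) := Groth.Agent.R2.H10.EtRamA.isLocalHom_of_dominates hV₂
  haveI : IsDiscreteValuationRing V₂ :=
    Groth.Agent.R2.H10.EtRamA.isDiscreteValuationRing_of_dominates A K L₂ V₂ hV₂
  have hinj : Function.Injective (algebraMap A V₂) := fun a b hab =>
    Groth.Agent.R2.H10.EtRamA.comp_injective A K L₂ (congrArg Subtype.val hab)
  letI algTM : Algebra (L₁ ⊗[K] L₂) M :=
    (Algebra.TensorProduct.productMap f₁ f₂).toRingHom.toAlgebra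
  have h3 := Groth.Agent.S9306.result A V₂ K L₂ L₁ hinj h₁ M hsurj
  have heq : (algebraMap L₂ M).comp V₂.subtype = (algebraMap (L₁ ⊗[K] L₂) M).comp
      ((Algebra.TensorProduct.includeRight : L₂ →ₐ[K] L₁ ⊗[K] L₂).toRingHom.comp
        (algebraMap V₂ L₂)) := by
    refine RingHom.ext (fun x => ?_)
    change f₂ (x : L₂) = Algebra.TensorProduct.productMap f₁ f₂ (1 ⊗ₜ (x : L₂))
    rw [Algebra.TensorProduct.productMap_right_apply]
  rw [heq]
  exact h3

include hsurj in
theorem comp_tame
    (h₁ : EtRam.IsTamelyRamified A ((algebraMap K L₁).comp (algebraMap A K)))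
    (h₂ : EtRam.IsTamelyRamified A ((algebraMap K L₂).comp (algebraMap A K))) :
    EtRam.IsTamelyRamified A ((algebraMap K M).comp (algebraMap A K)) := by
  letI algL₂M : Algebra L₂ M := f₂.toRingHom.toAlgebra
  haveI : IsScalarTower K L₂ M := IsScalarTower.of_algebraMap_eq (fun x => (f₂.commutes x).symm)
  refine (Groth.Agent.S1990.result A K L₂ M).1 h₂ ?_
  intro V₂ hV₂
  letI algAL₂ : Algebra A L₂ := ((algebraMap K L₂).comp (algebraMap A K)).toAlgebra
  haveI : IsScalarTower A K L₂ := IsScalarTower.of_algebraMap_eq (fun _ => rfl)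
  letI algAV₂ : Algebra A V₂ :=
    (RingHom.codRestrict ((algebraMap K L₂).comp (algebraMap A K)) V₂ hV₂.1).toAlgebra
  haveI : IsScalarTower A V₂ L₂ := IsScalarTower.of_algebraMap_eq (fun _ => rfl)
  haveI : IsLocalHom (algebraMap A V₂) := Groth.Agent.R2.H10.EtRamA.isLocalHom_of_dominates hV₂
  haveI : IsDiscreteValuationRing V₂ :=
    Groth.Agent.R2.H10.EtRamA.isDiscreteValuationRing_of_dominates A K L₂ V₂ hV₂
  have hinj : Function.Injective (algebraMap A V₂) := fun a b hab =>
    Groth.Agent.R2.H10.EtRamA.comp_injective A K L₂ (congrArg Subtype.val hab)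
  letI algTM : Algebra (L₁ ⊗[K] L₂) M :=
    (Algebra.TensorProduct.productMap f₁ f₂).toRingHom.toAlgebra
  have h3 := Groth.Agent.S9307.result A V₂ K L₂ L₁ hinj h₁ M hsurj
  have heq : (algebraMap L₂ M).comp V₂.subtype = (algebraMap (L₁ ⊗[K] L₂) M).comp
      ((Algebra.TensorProduct.includeRight : L₂ →ₐ[K] L₁ ⊗[K] L₂).toRingHom.comp
        (algebraMap V₂ L₂)) := by
    refine RingHom.ext (fun x => ?_)
    change f₂ (x : L₂) = Algebra.TensorProduct.productMap f₁ f₂ (1 ⊗ₜ (x : L₂))
    rw [Algebra.TensorProduct.productMap_right_apply]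
  rw [heq]
  exact h3

end Comp

section Exists

variable (K : Type u) [Field K] (L₁ L₂ : Type u) [Field L₁] [Field L₂] [Algebra K L₁] [Algebra K L₂]
  [FiniteDimensional K L₁] [Algebra.IsSeparable K L₁] [FiniteDimensional K L₂]
  [Algebra.IsSeparable K L₂]

theorem exists_compositum :
    ∃ (M : Type u) (_ : Field M) (_ : Algebra K M) (_ : FiniteDimensional K M)
      (_ : Algebra.IsSeparable K M) (f₁ : L₁ →ₐ[K] M) (f₂ : L₂ →ₐ[K] M),
      Function.Surjective (Algebra.TensorProduct.productMap f₁ f₂) := by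
  obtain ⟨m, hm⟩ := Ideal.exists_maximal (L₁ ⊗[K] L₂)
  letI : Field ((L₁ ⊗[K] L₂) ⧸ m) := Ideal.Quotient.field m
  have hsurj : Function.Surjective (Ideal.Quotient.mkₐ K m) := Ideal.Quotient.mkₐ_surjective K m
  haveI : FiniteDimensional K ((L₁ ⊗[K] L₂) ⧸ m) :=
    Module.Finite.of_surjective (Ideal.Quotient.mkₐ K m).toLinearMap hsurj
  haveI : Algebra.FormallyUnramified K L₁ := Algebra.FormallyUnramified.of_isSeparable K L₁
  haveI : Algebra.FormallyUnramified K L₂ := Algebra.FormallyUnramified.of_isSeparable K L₂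
  haveI : Algebra.FormallyUnramified K (L₁ ⊗[K] L₂) :=
    Algebra.FormallyUnramified.comp K L₁ (L₁ ⊗[K] L₂)
  haveI : Algebra.FormallyUnramified K ((L₁ ⊗[K] L₂) ⧸ m) :=
    Algebra.FormallyUnramified.of_surjective (Ideal.Quotient.mkₐ K m) hsurj
  haveI : Algebra.IsSeparable K ((L₁ ⊗[K] L₂) ⧸ m) :=
    Algebra.FormallyUnramified.isSeparable K _
  refine ⟨(L₁ ⊗[K] L₂) ⧸ m, inferInstance, inferInstance, inferInstance, inferInstance,
    (Ideal.Quotient.mkₐ K m).comp Algebra.TensorProduct.includeLeft,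
    (Ideal.Quotient.mkₐ K m).comp Algebra.TensorProduct.includeRight, ?_⟩
  have heq : Algebra.TensorProduct.productMap
      ((Ideal.Quotient.mkₐ K m).comp Algebra.TensorProduct.includeLeft)
      ((Ideal.Quotient.mkₐ K m).comp Algebra.TensorProduct.includeRight) =
      Ideal.Quotient.mkₐ K m := by
    apply Algebra.TensorProduct.ext'
    intro a b
    rw [Algebra.TensorProduct.productMap_apply_tmul]
    change Ideal.Quotient.mkₐ K m (a ⊗ₜ 1) * Ideal.Quotient.mkₐ K m (1 ⊗ₜ b) = _
    rw [← map_mul, Algebra.TensorProduct.tmul_mul_tmul, mul_one, one_mul]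
  rw [heq]
  exact hsurj

end Exists

end Groth.Agent.R2.H73.Compositum
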