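import Mathlib
import Groth.Agent.S2082
import Groth.Agent.Lib.Helper5RLR3
import Groth.Agent.Lib.Helper5IntDim

/-!
# A finite injective extension of regular local rings is free (helper73)

`free_of_finite_injective` : `R`, `A` regular local rings (in arbitrary universes), `A` a finite
`R`-algebra with `R → A` injective `⇒ A` is a free `R`-module (miracle flatness `S2082`, applied to
the image of `R` in `A` to stay in one universe).
-/

set_option autoImplicit false
set_option linter.style.haveILetI false
universe u v
open IsLocalRing

namespace Groth.Agent.R2.H73.RegFree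

/-- the closed fibre of an integral local homomorphism has dimension zero. -/
theorem ringKrullDim_quotient_map_maximalIdeal {R : Type u} {A : Type v} [CommRing R]
    [CommRing A] [IsLocalRing R] [IsLocalRing A] [Algebra R A] [Algebra.IsIntegral R A]
    [IsLocalHom (algebraMap R A)] :
    ringKrullDim (A ⧸ (maximalIdeal R).map (algebraMap R A)) = 0 := by
  set I := (maximalIdeal R).map (algebraMap R A) with hI
  have hle : I ≤ maximalIdeal A := ((IsLocalRing.local_hom_TFAE (algebraMap R A)).out 0 2).1
    (inferInstance : IsLocalHom (algebraMap R A))
  haveI : Nontrivial (A ⧸ I) := Ideal.Quotient.nontrivial_iff.2 fun h =>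
    (IsLocalRing.maximalIdeal.isMaximal A).ne_top (top_le_iff.1 (h ▸ hle))
  rw [← ringKrullDimZero_iff_ringKrullDim_eq_zero,
    Ideal.krullDimLE_zero_quotient_iff_forall_minimalPrimes_isMaximal]
  intro J hJ
  haveI : J.IsPrime := hJ.1.1
  have hc : maximalIdeal R ≤ J.comap (algebraMap R A) := Ideal.map_le_iff_le_comap.1 hJ.1.2
  have hc' : J.comap (algebraMap R A) = maximalIdeal R :=
    ((IsLocalRing.maximalIdeal.isMaximal _).eq_of_le (Ideal.IsPrime.ne_top inferInstance) hc).symm
  exact Ideal.isMaximal_of_isIntegral_of_isMaximal_comap J (by rw [hc']; infer_instance)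

/-- same-universe version, Cohen–Macaulay target. -/
theorem flat_of_finite_injective_same' {R A : Type u} [CommRing R] [CommRing A]
    [IsRegularLocalRing R] [LocCoh.IsCohenMacaulayLocalRing A] [Algebra R A] [Module.Finite R A]
    (hinj : Function.Injective (algebraMap R A)) : Module.Flat R A := by
  haveI : FaithfulSMul R A := (faithfulSMul_iff_algebraMap_injective R A).2 hinj
  haveI : Algebra.IsIntegral R A := inferInstance
  haveI : IsLocalHom (algebraMap R A) := Algebra.IsIntegral.isLocalHom R A
  apply Groth.Agent.S2082.result
  rw [ringKrullDim_quotient_map_maximalIdeal, add_zero]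
  exact Groth.Agent.Lib.Helper5.ringKrullDim_eq_of_isIntegral_of_injective R A hinj

/-- same-universe version. -/
theorem flat_of_finite_injective_same {R A : Type u} [CommRing R] [CommRing A]
    [IsRegularLocalRing R] [IsRegularLocalRing A] [Algebra R A] [Module.Finite R A]
    (hinj : Function.Injective (algebraMap R A)) : Module.Flat R A := by
  haveI := Groth.Agent.Lib.Helper5.isCohenMacaulayLocalRing_of_isRegularLocalRing A
  exact flat_of_finite_injective_same' hinj

/-- A Cohen–Macaulay local ring which is a finite injective extension of a regular local ring is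
free over it (arbitrary universes). -/
theorem free_of_finite_injective' {R : Type u} {A : Type v} [CommRing R] [CommRing A]
    [IsRegularLocalRing R] [LocCoh.IsCohenMacaulayLocalRing A] [Algebra R A] [Module.Finite R A]
    (hinj : Function.Injective (algebraMap R A)) : Module.Free R A := by
  -- the image of `R` in `A`
  let R₀ : Subring A := (algebraMap R A).range
  let e : R ≃+* R₀ := RingEquiv.ofBijective (algebraMap R A).rangeRestrict
    ⟨fun x y hxy => hinj (congrArg Subtype.val hxy), (algebraMap R A).rangeRestrict_surjective⟩
  haveI : IsRegularLocalRing R₀ := IsRegularLocalRing.of_ringEquiv e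
  have hsm : ∀ (c : R₀) (x : A), e.symm c • x = c • x := by
    intro c x
    obtain ⟨r, rfl⟩ := e.surjective c
    rw [RingEquiv.symm_apply_apply, Algebra.smul_def]
    rfl
  haveI : Module.Finite R₀ A := by
    obtain ⟨s, hs⟩ := (Module.finite_def (R := R) (M := A)).1 inferInstance
    refine ⟨s, ?_⟩
    rw [eq_top_iff]
    intro x _
    have hx : x ∈ Submodule.span R (s : Set A) := by rw [hs]; trivial
    induction hx using Submodule.span_induction with
    | mem y hy => exact Submodule.subset_span hy
    | zero => exact Submodule.zero_mem _
    | add y z _ _ hy hz => exact Submodule.add_mem _ (hy trivial) (hz trivial)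
    | smul r y _ hy =>
      have := Submodule.smul_mem (Submodule.span R₀ (s : Set A)) (e r) (hy trivial)
      rwa [← hsm, RingEquiv.symm_apply_apply] at this
  haveI : Module.Flat R₀ A := flat_of_finite_injective_same' (R := R₀) (A := A)
    Subtype.val_injective
  haveI : Module.Free R₀ A := Module.free_of_flat_of_isLocalRing
  exact Module.Free.of_basis ((Module.Free.chooseBasis R₀ A).mapCoeffs e.symm hsm)

theorem free_of_finite_injective {R : Type u} {A : Type v} [CommRing R] [CommRing A]
    [IsRegularLocalRing R] [IsRegularLocalRing A] [Algebra R A] [Module.Finite R A]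
    (hinj : Function.Injective (algebraMap R A)) : Module.Free R A := by
  haveI := Groth.Agent.Lib.Helper5.isCohenMacaulayLocalRing_of_isRegularLocalRing A
  exact free_of_finite_injective' hinj

end Groth.Agent.R2.H73.RegFree
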