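import Mathlib

/-!
# A tensor factor of a finite free module over a local ring is free (helper73)

`free_of_tensorProduct_free` : `R` local, `M`, `N` finite `R`-modules, `N ≠ 0`, `M ⊗[R] N` free
`⇒ M` free.  (Universe polymorphic.)
-/

set_option autoImplicit false
universe u v w
open TensorProduct

namespace Groth.Agent.R2.H73.TensorFree

variable {R : Type u} [CommRing R] [IsLocalRing R]

/-- A finite module over a local ring is the image of `R^a`, `a` the dimension of its fibre. -/
lemma exists_surjective (M : Type v) [AddCommGroup M] [Module R M] [Module.Finite R M] :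
    ∃ φ : (Fin (Module.finrank (IsLocalRing.ResidueField R)
      (IsLocalRing.ResidueField R ⊗[R] M)) → R) →ₗ[R] M, Function.Surjective φ := by
  classical
  let b : Module.Basis (Fin (Module.finrank (IsLocalRing.ResidueField R)
      (IsLocalRing.ResidueField R ⊗[R] M))) (IsLocalRing.ResidueField R)
      (IsLocalRing.ResidueField R ⊗[R] M) := Module.finBasis _ _
  have hsurj := TensorProduct.mk_surjective R M (IsLocalRing.ResidueField R)
    (IsLocalRing.residue_surjective (R := R))
  choose f hf using fun i => hsurj (b i)
  have hspan : Submodule.span R (Set.range f) = ⊤ :=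
    IsLocalRing.span_eq_top_of_tmul_eq_basis f b hf
  refine ⟨Fintype.linearCombination R f, ?_⟩
  rw [← LinearMap.range_eq_top, Fintype.range_linearCombination, hspan]

theorem free_of_tensorProduct_free (M : Type v) (N : Type w) [AddCommGroup M] [Module R M]
    [AddCommGroup N] [Module R N] [Module.Finite R M] [Module.Finite R N] [Nontrivial N]
    [Module.Free R (M ⊗[R] N)] : Module.Free R M := by
  classical
  set k := IsLocalRing.ResidueField R with hk
  set a := Module.finrank k (k ⊗[R] M) with ha
  set b := Module.finrank k (k ⊗[R] N) with hb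
  obtain ⟨φ, hφ⟩ := exists_surjective (R := R) M
  obtain ⟨ψ, hψ⟩ := exists_surjective (R := R) N
  -- `b ≥ 1`
  have hb0 : 0 < b := by
    have hnt : Nontrivial (k ⊗[R] N) := by
      rw [← not_subsingleton_iff_nontrivial, IsLocalRing.subsingleton_tensorProduct,
        not_subsingleton_iff_nontrivial]
      infer_instance
    exact Module.finrank_pos
  -- ranks
  have hrank : Module.finrank R (M ⊗[R] N) = a * b := by
    rw [← Module.finrank_baseChange (R := k) (S := R) (M' := M ⊗[R] N),
      (TensorProduct.AlgebraTensorModule.distribBaseChange R k M N).finrank_eq,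
      Module.finrank_tensorProduct]
  have hrank' : Module.finrank R ((Fin a → R) ⊗[R] (Fin b → R)) = a * b := by
    rw [Module.finrank_tensorProduct, Module.finrank_fin_fun, Module.finrank_fin_fun]
  obtain ⟨e⟩ := FiniteDimensional.nonempty_linearEquiv_of_finrank_eq (hrank.trans hrank'.symm)
  -- the tensor product of the two presentations is bijective
  let χ : (Fin a → R) ⊗[R] (Fin b → R) →ₗ[R] M ⊗[R] N := TensorProduct.map φ ψ
  have hχs : Function.Surjective χ := TensorProduct.map_surjective hφ hψ
  have hχe : Function.Injective (χ ∘ₗ e.toLinearMap) :=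
    OrzechProperty.injective_of_surjective_endomorphism _ (hχs.comp e.surjective)
  have hχi : Function.Injective χ := by
    intro x y hxy
    have : (χ ∘ₗ e.toLinearMap) (e.symm x) = (χ ∘ₗ e.toLinearMap) (e.symm y) := by
      simpa using hxy
    simpa using hχe this
  -- hence `φ` is injective
  have hφi : Function.Injective φ := by
    rw [← LinearMap.ker_eq_bot, LinearMap.ker_eq_bot']
    intro x hx
    let y : Fin b → R := Pi.single ⟨0, hb0⟩ 1
    have h1 : χ (x ⊗ₜ[R] y) = 0 := by
      change TensorProduct.map φ ψ (x ⊗ₜ[R] y) = 0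
      rw [TensorProduct.map_tmul, hx, TensorProduct.zero_tmul]
    have h2 : x ⊗ₜ[R] y = (0 : (Fin a → R) ⊗[R] (Fin b → R)) := hχi (h1.trans (map_zero χ).symm)
    let π : (Fin a → R) ⊗[R] (Fin b → R) →ₗ[R] (Fin a → R) :=
      TensorProduct.lift
        ((LinearMap.lsmul R (Fin a → R)).flip.compr₂ LinearMap.id |>.compl₂
          (LinearMap.proj (⟨0, hb0⟩ : Fin b))) 
    have h3 : π (x ⊗ₜ[R] y) = x := by
      simp [π, y]
    rw [← h3, h2, map_zero]
  exact Module.Free.of_equiv (LinearEquiv.ofBijective φ ⟨hφi, hφ⟩)

end Groth.Agent.R2.H73.TensorFree
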