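import Mathlib
import Groth.Agent.R2.H73TensorFree
import Groth.Agent.R2.H73RegFree
import Groth.Agent.Lib.Helper28RegLoc

/-!
# A regular local ring which is a coproduct of subalgebras over a regular local ring (helper73)

If `A` is the coproduct of the `R`-subalgebras `B i` (`i : Fin n`), then `A ≃ B i ⊗[R] C i` with
`C i` the tensor product of the other factors, compatibly with the `B i`-module structures.
Consequences when `R`, `A` are regular local and `A` is finite over `R`.
-/

set_option autoImplicit false
set_option linter.style.haveILetI false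
universe u v w
open TensorProduct

namespace Groth.Agent.R2.H73.CoprodFree

section coprod

variable {R : Type u} [CommRing R] {A : Type v} [CommRing A] [Algebra R A]
  {n : ℕ} (B : Fin n → Subalgebra R A) (i : Fin n)

/-- the tensor product of the other factors -/
abbrev Cmp : Type (max u v) := ⨂[R] (j : {j : Fin n // j ≠ i}), B j.1

/-- the product of the components, as a multilinear map. -/
noncomputable def prodMap :
    MultilinearMap R (fun j : {j : Fin n // j ≠ i} => B j.1) A :=
  (MultilinearMap.mkPiAlgebra R {j : Fin n // j ≠ i} A).compLinearMap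
    (fun j => (B j.1).val.toLinearMap)

lemma prodMap_apply (x : ∀ j : {j : Fin n // j ≠ i}, B j.1) :
    prodMap B i x = ∏ j, (x j : A) := rfl

/-- the product map `C i → A`. -/
noncomputable def muC : Cmp B i →ₐ[R] A :=
  PiTensorProduct.liftAlgHom (prodMap B i)
    (by rw [prodMap_apply]; simp)
    (by
      intro x y
      rw [prodMap_apply, prodMap_apply, prodMap_apply, ← Finset.prod_mul_distrib]
      rfl)

lemma muC_tprod (x : ∀ j : {j : Fin n // j ≠ i}, B j.1) :
    muC B i (PiTensorProduct.tprod R x) = ∏ j, (x j : A) := by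
  unfold muC
  rw [PiTensorProduct.liftAlgHom_apply, PiTensorProduct.lift.tprod, prodMap_apply]

lemma muC_single (j : {j : Fin n // j ≠ i}) (b : B j.1) :
    muC B i (PiTensorProduct.singleAlgHom (R := R)
      (A := fun j : {j : Fin n // j ≠ i} => B j.1) j b) = b := by
  classical
  rw [PiTensorProduct.singleAlgHom_apply, muC_tprod, Finset.prod_eq_single j]
  · simp
  · intro k _ hk
    simp [Pi.mulSingle_eq_of_ne hk]
  · intro h
    exact absurd (Finset.mem_univ j) h

/-- the product map `B i ⊗ C i → A`. -/
noncomputable def mu : (B i) ⊗[R] (Cmp B i) →ₐ[R] A :=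
  Algebra.TensorProduct.lift (B i).val (muC B i) (fun _ _ => Commute.all _ _)

lemma mu_tmul (b : B i) (c : Cmp B i) : mu B i (b ⊗ₜ[R] c) = (b : A) * muC B i c := by
  unfold mu
  rw [Algebra.TensorProduct.lift_tmul]
  rfl

/-- the canonical maps `B j → B i ⊗ C i`. -/
noncomputable def phiFam (j : Fin n) : B j →ₐ[R] (B i) ⊗[R] (Cmp B i) :=
  if h : j = i then
    (Algebra.TensorProduct.includeLeft : B i →ₐ[R] (B i) ⊗[R] (Cmp B i)).comp
      (Subalgebra.inclusion (le_of_eq (congrArg B h)))
  else
    (Algebra.TensorProduct.includeRight : Cmp B i →ₐ[R] (B i) ⊗[R] (Cmp B i)).comp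
      (PiTensorProduct.singleAlgHom (R := R)
        (A := fun j : {j : Fin n // j ≠ i} => B j.1) ⟨j, h⟩)

lemma phiFam_self (b : B i) : phiFam B i i b = b ⊗ₜ[R] 1 := by
  unfold phiFam
  rw [dif_pos rfl]
  rfl

lemma phiFam_ne (j : Fin n) (h : j ≠ i) (b : B j) :
    phiFam B i j b = 1 ⊗ₜ[R] PiTensorProduct.singleAlgHom (R := R)
      (A := fun j : {j : Fin n // j ≠ i} => B j.1) ⟨j, h⟩ b := by
  unfold phiFam
  rw [dif_neg h]
  rfl

lemma mu_phiFam (j : Fin n) (b : B j) : mu B i (phiFam B i j b) = b := by
  by_cases h : j = i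
  · subst h
    rw [phiFam_self, mu_tmul, map_one, mul_one]
  · rw [phiFam_ne B i j h, mu_tmul, muC_single]
    simp

variable (hcoprod : ∀ (C : Type (max u v)) [CommRing C] [Algebra R C] (φ : ∀ i, B i →ₐ[R] C),
  ∃! ψ : A →ₐ[R] C, ∀ i (x : B i), ψ x = φ i x)

include hcoprod in
lemma exists_psi : ∃ ψ : A →ₐ[R] (B i) ⊗[R] (Cmp B i),
    (∀ j (x : B j), ψ x = phiFam B i j x) ∧
    (∀ a, mu B i (ψ a) = a) ∧ (∀ t, ψ (mu B i t) = t) := by
  classical
  obtain ⟨ψ, hψ, -⟩ := hcoprod ((B i) ⊗[R] (Cmp B i)) (phiFam B i)
  refine ⟨ψ, hψ, ?_, ?_⟩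
  · -- `μ ∘ ψ = id` by uniqueness, in `ULift A`
    let up : A →ₐ[R] ULift.{u} A := (ULift.algEquiv (R := R) (A := A)).symm.toAlgHom
    obtain ⟨ψ', -, hu⟩ := hcoprod (ULift.{u} A) (fun j => up.comp (B j).val)
    have h1 : up.comp ((mu B i).comp ψ) = ψ' := hu _ (by
      intro j x
      change up (mu B i (ψ x)) = up x
      rw [hψ j x, mu_phiFam])
    have h2 : up = ψ' := hu _ (by
      intro j x
      rfl)
    intro a
    have := congrArg (fun f : A →ₐ[R] ULift.{u} A => (f a).down) (h1.trans h2.symm)
    exact this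
  · -- `ψ ∘ μ = id`
    have h : ψ.comp (mu B i) = AlgHom.id R _ := by
      apply Algebra.TensorProduct.ext
      · ext b
        change ψ (mu B i (b ⊗ₜ[R] 1)) = b ⊗ₜ[R] 1
        have : mu B i (b ⊗ₜ[R] 1) = b := by rw [mu_tmul, map_one, mul_one]
        rw [this, hψ i b, phiFam_self]
      · apply PiTensorProduct.algHom_ext
        intro j
        ext b
        change ψ (mu B i (1 ⊗ₜ[R] PiTensorProduct.singleAlgHom (R := R)
          (A := fun j : {j : Fin n // j ≠ i} => B j.1) j b)) =
          1 ⊗ₜ[R] PiTensorProduct.singleAlgHom (R := R)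
          (A := fun j : {j : Fin n // j ≠ i} => B j.1) j b
        have : mu B i (1 ⊗ₜ[R] PiTensorProduct.singleAlgHom (R := R)
          (A := fun j : {j : Fin n // j ≠ i} => B j.1) j b) = b := by
          rw [mu_tmul, muC_single]
          simp
        rw [this, hψ j.1 b, phiFam_ne B i j.1 j.2]
    intro t
    exact congrArg (fun f : _ →ₐ[R] _ => f t) h

end coprod

section consequences

variable {R : Type u} [CommRing R] [IsRegularLocalRing R] {A : Type v} [CommRing A]
  [IsRegularLocalRing A] [Algebra R A] [Module.Finite R A]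
  {n : ℕ} (B : Fin n → Subalgebra R A) (i : Fin n)

/-- If the regular local ring `A`, finite over the regular local ring `R`, is the coproduct of the
subalgebras `B j`, then every `B i` is free over `R` and `A` is flat over `B i`. -/
theorem free_and_flat (hinj : Function.Injective (algebraMap R A))
    (hcoprod : ∀ (C : Type (max u v)) [CommRing C] [Algebra R C] (φ : ∀ i, B i →ₐ[R] C),
      ∃! ψ : A →ₐ[R] C, ∀ i (x : B i), ψ x = φ i x) :
    Module.Free R (B i) ∧ Module.Flat (B i) A := by
  classical
  haveI hfreeA : Module.Free R A := RegFree.free_of_finite_injective hinj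
  obtain ⟨ψ, hψ, h1, h2⟩ := exists_psi B i hcoprod
  have hbij : Function.Bijective ψ :=
    ⟨fun x y hxy => by rw [← h1 x, ← h1 y, hxy], fun t => ⟨mu B i t, h2 t⟩⟩
  let e : A ≃ₗ[R] (B i) ⊗[R] (Cmp B i) := LinearEquiv.ofBijective ψ.toLinearMap hbij
  haveI : Module.Free R ((B i) ⊗[R] (Cmp B i)) := Module.Free.of_equiv e
  haveI : IsNoetherianRing R := inferInstance
  haveI : IsNoetherian R A := isNoetherian_of_isNoetherianRing_of_finite R A
  haveI hfin : ∀ j, Module.Finite R (B j) := fun j =>
    Module.Finite.of_injective (B j).val.toLinearMap Subtype.val_injective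
  haveI : Module.Finite R (Cmp B i) := inferInstance
  haveI : Nontrivial A := inferInstance
  haveI : Nontrivial (Cmp B i) := (muC B i).toRingHom.domain_nontrivial
  haveI : Nontrivial (B i) := (B i).val.toRingHom.domain_nontrivial
  haveI hfreeB : Module.Free R (B i) := TensorFree.free_of_tensorProduct_free (B i) (Cmp B i)
  haveI : Module.Free R ((Cmp B i) ⊗[R] (B i)) :=
    Module.Free.of_equiv (TensorProduct.comm R (B i) (Cmp B i))
  haveI hfreeC : Module.Free R (Cmp B i) :=
    TensorFree.free_of_tensorProduct_free (Cmp B i) (B i)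
  refine ⟨hfreeB, ?_⟩
  haveI : Module.Free (B i) ((B i) ⊗[R] (Cmp B i)) := inferInstance
  let e' : A ≃ₗ[B i] (B i) ⊗[R] (Cmp B i) :=
    { e with
      map_smul' := by
        intro b a
        change ψ (b • a) = b • ψ a
        rw [Algebra.smul_def b (ψ a), Algebra.TensorProduct.algebraMap_apply,
          Algebra.algebraMap_self_apply, ← phiFam_self, ← hψ i b, ← map_mul]
        rfl }
  exact Module.Flat.of_linearEquiv e'

/-- ... and `B i` is a regular local ring as soon as it is local and `B i → A` is local. -/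
theorem isRegularLocalRing_factor (hinj : Function.Injective (algebraMap R A))
    (hcoprod : ∀ (C : Type (max u v)) [CommRing C] [Algebra R C] (φ : ∀ i, B i →ₐ[R] C),
      ∃! ψ : A →ₐ[R] C, ∀ i (x : B i), ψ x = φ i x)
    [IsLocalRing (B i)] [IsLocalHom (algebraMap (B i) A)] : IsRegularLocalRing (B i) := by
  haveI : Module.Flat (B i) A := (free_and_flat B i hinj hcoprod).2
  haveI : IsNoetherianRing R := inferInstance
  haveI : IsNoetherian R A := isNoetherian_of_isNoetherianRing_of_finite R A
  haveI : Module.Finite R (B i) :=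
    Module.Finite.of_injective (B i).val.toLinearMap Subtype.val_injective
  haveI : IsNoetherianRing (B i) := IsNoetherianRing.of_finite R (B i)
  exact Groth.Agent.Lib.Helper28.isRegularLocalRing_of_flat_of_isLocalHom (B i) A

end consequences

section fixed

variable {R : Type u} [CommRing R] {A : Type v} [CommRing A] [Algebra R A]
  {G : Type w} [Group G] [MulSemiringAction G A] [SMulCommClass G R A]

lemma isUnit_fixed_iff (b : FixedPoints.subalgebra R A G) : IsUnit b ↔ IsUnit (b : A) := by
  constructor
  · intro h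
    exact h.map (FixedPoints.subalgebra R A G).val
  · intro h
    obtain ⟨y, hy⟩ := h.exists_right_inv
    have hb : ∀ σ : G, σ • (b : A) = b := fun σ => b.2 σ
    have hyfix : ∀ σ : G, σ • y = y := by
      intro σ
      have h1 : (b : A) * σ • y = 1 := by
        have := congrArg (σ • ·) hy
        simpa [smul_mul', hb σ] using this
      have h2 : y * (b : A) = 1 := by rw [mul_comm]; exact hy
      calc σ • y = (y * (b : A)) * σ • y := by rw [h2, one_mul]
        _ = y * ((b : A) * σ • y) := by ring
        _ = y := by rw [h1, mul_one]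
    exact IsUnit.of_mul_eq_one ⟨y, hyfix⟩ (Subtype.ext hy)

instance isLocalHom_fixed : IsLocalHom (algebraMap (FixedPoints.subalgebra R A G) A) :=
  ⟨fun b hb => (isUnit_fixed_iff b).2 hb⟩

instance isLocalRing_fixed [IsLocalRing A] : IsLocalRing (FixedPoints.subalgebra R A G) :=
  (algebraMap (FixedPoints.subalgebra R A G) A).domain_isLocalRing

end fixed

end Groth.Agent.R2.H73.CoprodFree
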