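import Mathlib
import Groth.Prelude.Def_DescFam
import Groth.Agent.R2.H37DescSheafI
import Groth.Agent.R2.H37DescOpenSubP
import Groth.Agent.R2.H14DescOpenSubP
import Groth.Agent.R2.H43DescIso

/-!
# PROJ:fpqc-desc — descent data along a Zariski refinement (helper73)

For a descent datum `D` relative to a family `f i : X i ⟶ S` and a scheme `q : Y ⟶ S` over `S` we
consider the presheaf `G D q = FD D ×_S Y` (`GEl`), prove that it is a Zariski sheaf, that
`(D.obj i).left` is an open subfunctor of it whenever `X i` is an open subscheme of `Y` over `S`,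
and that a representing object of `G D (v j)` for every member of a second family `v j : V j ⟶ S`
gives a descent datum relative to `v` (`GRep.dd`) whose pullback along a morphism of families
`(α, g)` is isomorphic to `D` (`GRep.pullIso`).  The outcome is `essSurj_of_zariski_refinement`.
-/

set_option autoImplicit false
set_option backward.isDefEq.respectTransparency false
set_option backward.isDefEq.respectTransparency.types false
universe u
open CategoryTheory CategoryTheory.Limits AlgebraicGeometry Desc Opposite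

namespace Groth.Agent.R2.H73.DescRefine

open Groth.Agent.R2.H37.DescSheaf Groth.Agent.R2.H43.DescIso

variable {S : Scheme.{u}} {ι : Type u} {X : ι → Scheme.{u}} {f : ∀ i, X i ⟶ S}

/-! ### congruence lemmas for `El` -/

lemma ofLift_congr {D : SchDDFam f} {T : Scheme.{u}} {i : ι} {x x' : T ⟶ X i} (hx : x = x')
    (p : Lifts (D.obj i) x) (p' : Lifts (D.obj i) x') (hp : p.1 = p'.1) :
    El.ofLift x p = El.ofLift x' p' := by
  subst hx
  have : p = p' := Subtype.ext hp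
  subst this
  rfl

lemma toLift_congr {D : SchDDFam f} {T : Scheme.{u}} {i : ι} {s s' : El D T} (hs : s = s')
    {x x' : T ⟶ X i} (hx : x = x') (h : x ≫ f i = s.g) (h' : x' ≫ f i = s'.g) :
    (El.toLift s x h).1 = (El.toLift s' x' h').1 := by
  subst hs hx
  rfl

lemma ofLift_inj {D : SchDDFam f} {T : Scheme.{u}} {i : ι} {x x' : T ⟶ X i} (hx : x = x')
    (p : Lifts (D.obj i) x) (p' : Lifts (D.obj i) x') (h : El.ofLift x p = El.ofLift x' p') :
    p.1 = p'.1 := by
  subst hx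
  have e1 := El.toLift_ofLift x p
  have e2 := El.toLift_ofLift x p'
  rw [← e1, ← e2]
  exact toLift_congr h rfl _ _

/-- elements with structure morphism `c = x ≫ f i` are lifts of `x`. -/
noncomputable def elLift (D : SchDDFam f) {T : Scheme.{u}} {i : ι} (x : T ⟶ X i) (c : T ⟶ S)
    (hc : x ≫ f i = c) : {s : El D T // s.g = c} ≃ Lifts (D.obj i) x where
  toFun s := El.toLift s.1 x (hc.trans s.2.symm)
  invFun p := ⟨El.ofLift x p, hc⟩
  left_inv s := Subtype.ext (El.ofLift_toLift s.1 x (hc.trans s.2.symm))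
  right_inv p := El.toLift_ofLift x p

/-! ### The presheaf `FD D ×_S Y` -/

/-- an element over `T` of `FD D ×_S Y`. -/
structure GEl (D : SchDDFam f) {Y : Scheme.{u}} (q : Y ⟶ S) (T : Scheme.{u}) where
  /-- the `Y`-component -/
  y : T ⟶ Y
  /-- the element of `FD D` -/
  s : El D T
  hs : s.g = y ≫ q

namespace GEl

variable {D : SchDDFam f} {Y : Scheme.{u}} {q : Y ⟶ S} {T : Scheme.{u}}

lemma ext' {a b : GEl D q T} (hy : a.y = b.y) (hs : a.s = b.s) : a = b := by
  obtain ⟨y, s, h⟩ := a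
  obtain ⟨y', s', h'⟩ := b
  dsimp only at hy hs
  subst hy hs
  rfl

/-- restriction. -/
noncomputable def res (a : GEl D q T) {T₁ : Scheme.{u}} (r : T₁ ⟶ T) : GEl D q T₁ :=
  ⟨r ≫ a.y, a.s.res r, by rw [El.res_g, a.hs, Category.assoc]⟩

@[simp] lemma res_y (a : GEl D q T) {T₁ : Scheme.{u}} (r : T₁ ⟶ T) : (a.res r).y = r ≫ a.y := rfl
@[simp] lemma res_s (a : GEl D q T) {T₁ : Scheme.{u}} (r : T₁ ⟶ T) : (a.res r).s = a.s.res r := rfl

end GEl

/-- the presheaf `FD D ×_S Y`. -/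
noncomputable def G (D : SchDDFam f) {Y : Scheme.{u}} (q : Y ⟶ S) : Scheme.{u}ᵒᵖ ⥤ Type u where
  obj T := GEl D q T.unop
  map r := TypeCat.ofHom fun a => a.res r.unop
  map_id T := by
    ext a
    exact GEl.ext' (Category.id_comp _) (El.res_id _)
  map_comp r r' := by
    ext a
    exact GEl.ext' (Category.assoc _ _ _) (El.res_comp _ _ _)

@[simp] lemma G_map_apply (D : SchDDFam f) {Y : Scheme.{u}} (q : Y ⟶ S) {T T₁ : Scheme.{u}}
    (r : T₁ ⟶ T) (a : GEl D q T) : (G D q).map r.op a = a.res r := rfl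

theorem isSheaf_G (D : SchDDFam f) {Y : Scheme.{u}} (q : Y ⟶ S) :
    Presheaf.IsSheaf Scheme.zariskiTopology (G D q) := by
  rw [isSheaf_iff_isSheaf_of_type]
  intro T R hR x hx
  rw [Presieve.compatible_iff_sieveCompatible] at hx
  have hx' : ∀ ⦃Y' Y'' : Scheme.{u}⦄ (r : Y' ⟶ T) (hr : R r) (q' : Y'' ⟶ Y'),
      x (q' ≫ r) (R.downward_closed hr q') = (x r hr).res q' := fun Y' Y'' r hr q' => hx r q' hr
  obtain ⟨y, hy, hyu⟩ := glue_hom Scheme.zariskiTopology R hR Y (fun Y' r hr => (x r hr).y) (by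
    intro Y' Y'' r hr q'
    rw [hx' r hr q']
    rfl)
  let xs : Presieve.FamilyOfElements (FD D) R.arrows := fun Y' r hr => (x r hr).s
  have hxs : xs.Compatible := by
    rw [Presieve.compatible_iff_sieveCompatible]
    intro Y' Y'' r q' hr
    change (x (q' ≫ r) _).s = (x r hr).s.res q'
    rw [hx' r hr q']
    rfl
  obtain ⟨s, hs, hsu⟩ := isSheafFor_FD Scheme.zariskiTopology D R hR xs hxs
  have hs' : ∀ ⦃Y' : Scheme.{u}⦄ (r : Y' ⟶ T) (hr : R r), s.res r = (x r hr).s :=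
    fun Y' r hr => hs r hr
  have hsg : s.g = y ≫ q := by
    apply hom_ext_sieve Scheme.zariskiTopology R hR
    intro Y' r hr
    have h2 := congrArg El.g (hs' r hr)
    rw [El.res_g] at h2
    rw [h2, (x r hr).hs, ← Category.assoc, hy r hr]
  refine ⟨⟨y, s, hsg⟩, ?_, ?_⟩
  · intro Y' r hr
    exact GEl.ext' (hy r hr) (hs' r hr)
  · intro a ha
    have ha' : ∀ ⦃Y' : Scheme.{u}⦄ (r : Y' ⟶ T) (hr : R r), a.res r = x r hr :=
      fun Y' r hr => ha r hr
    have h1 : a.y = y := hyu a.y (fun Y' r hr => congrArg GEl.y (ha' r hr))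
    have h2 : a.s = s := hsu a.s (fun Y' r hr => congrArg GEl.s (ha' r hr))
    exact GEl.ext' h1 h2

/-! ### Open subfunctors of `FD D ×_S Y` -/

section opensub

variable (D : SchDDFam f) {Y : Scheme.{u}} (q : Y ⟶ S) {i : ι} (gi : X i ⟶ Y)
  (hgi : gi ≫ q = f i)

/-- the tautological element over `(D.obj i).left`. -/
noncomputable def taut : GEl D q (D.obj i).left where
  y := (D.obj i).hom ≫ gi
  s := El.ofLift (D.obj i).hom (univLift (D.obj i))
  hs := by rw [El.ofLift_g, Category.assoc, hgi]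

lemma taut_res_s {T : Scheme.{u}} (h : T ⟶ (D.obj i).left) :
    ((taut D q gi hgi).res h).s = El.ofLift (h ≫ (D.obj i).hom) ⟨h, rfl⟩ := by
  change (El.ofLift (D.obj i).hom (univLift (D.obj i))).res h = _
  rw [El.ofLift_res]
  exact ofLift_congr rfl _ _ (Category.comp_id h)

lemma taut_res_y {T : Scheme.{u}} (h : T ⟶ (D.obj i).left) :
    ((taut D q gi hgi).res h).y = (h ≫ (D.obj i).hom) ≫ gi := (Category.assoc _ _ _).symm

/-- the factorization through `(D.obj i).left` of an element whose `Y`-component factors through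
`X i`. -/
lemma exists_factor {T : Scheme.{u}} (a : GEl D q T) (x : T ⟶ X i) (hx : x ≫ gi = a.y) :
    ∃ h : T ⟶ (D.obj i).left, (taut D q gi hgi).res h = a := by
  have hxg : x ≫ f i = a.s.g := by rw [a.hs, ← hx, Category.assoc, hgi]
  refine ⟨(El.toLift a.s x hxg).1, GEl.ext' ?_ ?_⟩
  · rw [taut_res_y, (El.toLift a.s x hxg).2, hx]
  · rw [taut_res_s]
    rw [ofLift_congr (El.toLift a.s x hxg).2 _ (El.toLift a.s x hxg) rfl]
    exact El.ofLift_toLift a.s x hxg

theorem openSubP_taut [IsOpenImmersion gi] :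
    OpenSubP (G D q) (D.obj i).left (taut D q gi hgi) where
  mono := by
    intro T h h' hh
    have hh' : (taut D q gi hgi).res h = (taut D q gi hgi).res h' := hh
    have h1 : (h ≫ (D.obj i).hom) ≫ gi = (h' ≫ (D.obj i).hom) ≫ gi := by
      rw [← taut_res_y D q gi hgi, ← taut_res_y D q gi hgi, hh']
    have h2 : h ≫ (D.obj i).hom = h' ≫ (D.obj i).hom := (cancel_mono gi).1 h1
    have h3 := congrArg GEl.s hh'
    rw [taut_res_s, taut_res_s] at h3
    exact ofLift_inj h2 _ _ h3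
  isOpen := by
    intro T (a' : GEl D q T)
    refine ⟨a'.y ⁻¹ᵁ gi.opensRange, ?_⟩
    intro T' t
    constructor
    · intro ht
      have hr : Set.range (t ≫ a'.y).base ⊆ Set.range gi.base := by
        rintro _ ⟨z, rfl⟩
        rw [Scheme.Hom.comp_base, TopCat.coe_comp]
        exact ht ⟨z, rfl⟩
      obtain ⟨h, hh⟩ := exists_factor D q gi hgi (a'.res t) (IsOpenImmersion.lift gi (t ≫ a'.y) hr)
        (IsOpenImmersion.lift_fac gi (t ≫ a'.y) hr)
      exact ⟨h, hh⟩
    · rintro ⟨h, hh⟩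
      have hh' : (taut D q gi hgi).res h = a'.res t := hh
      have h1 : (h ≫ (D.obj i).hom) ≫ gi = t ≫ a'.y := by
        rw [← taut_res_y D q gi hgi, hh']
        rfl
      rintro _ ⟨z, rfl⟩
      change a'.y.base (t.base z) ∈ Set.range gi.base
      rw [← Scheme.Hom.comp_apply, ← h1, Scheme.Hom.comp_apply]
      exact ⟨_, rfl⟩

end opensub

/-! ### Representing objects and the descent datum they define -/

/-- a representing object of `FD D ×_S Y`. -/
structure GRep (D : SchDDFam f) {Y : Scheme.{u}} (q : Y ⟶ S) where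
  /-- the scheme -/
  W : Scheme.{u}
  /-- the universal element -/
  e : GEl D q W
  uniq : ∀ ⦃T : Scheme.{u}⦄ (a : GEl D q T), ∃! h : T ⟶ W, e.res h = a

namespace GRep

variable {D : SchDDFam f}

section one

variable {Y : Scheme.{u}} {q : Y ⟶ S} (R : GRep D q)

/-- the representing object as a scheme over `Y`. -/
noncomputable def ov : Over Y := Over.mk R.e.y

/-- lifts of `y` to the representing object are elements over `y ≫ q`. -/
noncomputable def B ⦃T : Scheme.{u}⦄ (y : T ⟶ Y) : Lifts R.ov y ≃ {s : El D T // s.g = y ≫ q} :=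
  Equiv.ofBijective
    (fun h => ⟨R.e.s.res h.1, by
      have h2 : h.1 ≫ R.e.y = y := h.2
      rw [El.res_g, R.e.hs, ← Category.assoc, h2]⟩)
    ⟨by
      intro h h' hh
      have h2 : h.1 ≫ R.e.y = y := h.2
      have h2' : h'.1 ≫ R.e.y = y := h'.2
      have h3 : R.e.s.res h.1 = R.e.s.res h'.1 := congrArg Subtype.val hh
      have h4 : R.e.res h.1 = R.e.res h'.1 := GEl.ext' (h2.trans h2'.symm) h3
      exact Subtype.ext ((R.uniq (R.e.res h'.1)).unique h4 rfl),
    by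
      intro s
      obtain ⟨h, hh, -⟩ := R.uniq ⟨y, s.1, s.2⟩
      refine ⟨⟨h, congrArg GEl.y hh⟩, Subtype.ext ?_⟩
      exact congrArg GEl.s hh⟩

lemma B_val ⦃T : Scheme.{u}⦄ (y : T ⟶ Y) (h : Lifts R.ov y) : (R.B y h).1 = R.e.s.res h.1 := rfl

lemma B_symm_val ⦃T : Scheme.{u}⦄ (y : T ⟶ Y) (s : {s : El D T // s.g = y ≫ q}) :
    R.e.s.res ((R.B y).symm s).1 = s.1 := by
  rw [← B_val]
  rw [Equiv.apply_symm_apply]

end one

section two

variable {Y₀ Y₁ : Scheme.{u}} {q₀ : Y₀ ⟶ S} {q₁ : Y₁ ⟶ S} (R₀ : GRep D q₀) (R₁ : GRep D q₁)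

/-- the gluing bijections. -/
noncomputable def φ ⦃T : Scheme.{u}⦄ (y₀ : T ⟶ Y₀) (y₁ : T ⟶ Y₁) (h : y₀ ≫ q₀ = y₁ ≫ q₁) :
    Lifts R₀.ov y₀ ≃ Lifts R₁.ov y₁ :=
  (R₀.B y₀).trans ((Equiv.subtypeEquivRight (fun s => by rw [h])).trans (R₁.B y₁).symm)

lemma res_φ ⦃T : Scheme.{u}⦄ (y₀ : T ⟶ Y₀) (y₁ : T ⟶ Y₁) (h : y₀ ≫ q₀ = y₁ ≫ q₁)
    (p : Lifts R₀.ov y₀) : R₁.e.s.res (φ R₀ R₁ y₀ y₁ h p).1 = R₀.e.s.res p.1 := by
  unfold φ
  simp only [Equiv.trans_apply]
  rw [B_symm_val]
  rfl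

lemma φ_eq_iff ⦃T : Scheme.{u}⦄ (y₀ : T ⟶ Y₀) (y₁ : T ⟶ Y₁) (h : y₀ ≫ q₀ = y₁ ≫ q₁)
    (p : Lifts R₀.ov y₀) (p' : Lifts R₁.ov y₁) :
    φ R₀ R₁ y₀ y₁ h p = p' ↔ R₁.e.s.res p'.1 = R₀.e.s.res p.1 := by
  constructor
  · rintro rfl
    exact res_φ R₀ R₁ y₀ y₁ h p
  · intro hp
    apply (R₁.B y₁).injective
    apply Subtype.ext
    rw [B_val, B_val, res_φ, hp]

end two

variable {κ : Type u} {V : κ → Scheme.{u}} {v : ∀ j, V j ⟶ S} (R : ∀ j, GRep D (v j))

/-- the descent datum relative to `v` defined by representing objects of the `FD D ×_S V j`. -/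
noncomputable def dd : SchDDFam v where
  obj j := (R j).ov
  φ T j j' y₀ y₁ h := φ (R j) (R j') y₀ y₁ h
  φ_natural := by
    intro T T' r j j' x₀ x₁ h y₀ y₁ hy₀ hy₁ h' p p' hp'
    subst hy₀ hy₁
    have h1 : φ (R j) (R j') (r ≫ x₀) (r ≫ x₁) h' p' =
        ⟨r ≫ (φ (R j) (R j') x₀ x₁ h p).1, by
          rw [Category.assoc, (φ (R j) (R j') x₀ x₁ h p).2]⟩ := by
      rw [φ_eq_iff]
      change (R j').e.s.res (r ≫ (φ (R j) (R j') x₀ x₁ h p).1) = _
      rw [El.res_comp, res_φ, hp', El.res_comp]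
    rw [h1]
  φ_self := by
    intro T j x p
    rw [φ_eq_iff]
  φ_comp := by
    intro T j j' j'' x₀ x₁ x₂ h₀₁ h₁₂ p
    rw [φ_eq_iff, res_φ, res_φ]

section pull

variable {α : ι → κ} {g : ∀ i, X i ⟶ V (α i)} (w : ∀ i, g i ≫ v (α i) = f i ≫ 𝟙 S)

include w in
lemma pull_cond {T : Scheme.{u}} {i : ι} (x : T ⟶ X i) : x ≫ f i = (x ≫ g i) ≫ v (α i) := by
  rw [Category.assoc, w, Category.comp_id]

/-- the bijections on points between the pullback of `dd R` and `D`. -/
noncomputable def pullE ⦃T : Scheme.{u}⦄ ⦃i : ι⦄ (x : T ⟶ X i) :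
    Lifts (((pullDDFam w).obj (dd R)).obj i) x ≃ Lifts (D.obj i) x :=
  (liftsPullbackEquiv ((dd R).obj (α i)) (g i) x).trans
    (((R (α i)).B (x ≫ g i)).trans (elLift D x _ (pull_cond w x)))

lemma pullE_val ⦃T : Scheme.{u}⦄ ⦃i : ι⦄ (x : T ⟶ X i)
    (p : Lifts (((pullDDFam w).obj (dd R)).obj i) x) (hh) :
    (pullE R w x p).1 = (El.toLift ((R (α i)).e.s.res
      (liftsPullbackEquiv ((dd R).obj (α i)) (g i) x p).1) x hh).1 := rfl

/-- the pullback of `dd R` is isomorphic to `D`. -/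
noncomputable def pullPtIso : PtIso ((pullDDFam w).obj (dd R)) D where
  e := pullE R w
  nat := by
    intro T T' r i x y hy p p' hp
    subst hy
    have hh : x ≫ f i = ((R (α i)).e.s.res
        (liftsPullbackEquiv ((dd R).obj (α i)) (g i) x p).1).g :=
      (pull_cond w x).trans ((R (α i)).B (x ≫ g i) _).2.symm
    have hh' : (r ≫ x) ≫ f i = ((R (α i)).e.s.res
        (liftsPullbackEquiv ((dd R).obj (α i)) (g i) (r ≫ x) p').1).g :=
      (pull_cond w (r ≫ x)).trans ((R (α i)).B ((r ≫ x) ≫ g i) _).2.symm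
    rw [pullE_val R w (r ≫ x) p' hh', pullE_val R w x p hh]
    rw [← El.toLift_res _ x hh r]
    refine toLift_congr ?_ rfl _ _
    rw [← El.res_comp]
    congr 1
    change p'.1 ≫ pullback.fst _ _ = r ≫ p.1 ≫ pullback.fst _ _
    rw [hp, Category.assoc]
  compat := by
    intro T i i' x₀ x₁ h p
    apply Subtype.ext
    have key := pull_φ_apply w (dd R) x₀ x₁ h p
    have hh₀ : x₀ ≫ f i = ((R (α i)).e.s.res
        (liftsPullbackEquiv ((dd R).obj (α i)) (g i) x₀ p).1).g :=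
      (pull_cond w x₀).trans ((R (α i)).B (x₀ ≫ g i) _).2.symm
    have hh₁ : x₁ ≫ f i' = ((R (α i')).e.s.res
        (liftsPullbackEquiv ((dd R).obj (α i')) (g i') x₁
          (((pullDDFam w).obj (dd R)).φ x₀ x₁ h p)).1).g :=
      (pull_cond w x₁).trans ((R (α i')).B (x₁ ≫ g i') _).2.symm
    rw [pullE_val R w x₁ _ hh₁]
    have e1 : (R (α i')).e.s.res (liftsPullbackEquiv ((dd R).obj (α i')) (g i') x₁
          (((pullDDFam w).obj (dd R)).φ x₀ x₁ h p)).1 =
        (R (α i)).e.s.res (liftsPullbackEquiv ((dd R).obj (α i)) (g i) x₀ p).1 := by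
      rw [key]
      exact res_φ (R (α i)) (R (α i')) (x₀ ≫ g i) (x₁ ≫ g i') (pull_compat w x₀ x₁ h) _
    have hh₁' : x₁ ≫ f i' = ((R (α i)).e.s.res
        (liftsPullbackEquiv ((dd R).obj (α i)) (g i) x₀ p).1).g := by
      rw [← e1]; exact hh₁
    rw [toLift_congr e1 rfl hh₁ hh₁']
    exact El.val_comm _ (𝟙 T) x₀ x₁ (by rw [Category.id_comp]; exact hh₀)
      (by rw [Category.id_comp]; exact hh₁') h

end pull

end GRep

/-! ### Existence of representing objects for a Zariski refinement -/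

theorem nonempty_gRep (D : SchDDFam f) {Y : Scheme.{u}} (q : Y ⟶ S) {A : Type u} (a : A → ι)
    (gi : ∀ k, X (a k) ⟶ Y) (hgi : ∀ k, gi k ≫ q = f (a k)) [∀ k, IsOpenImmersion (gi k)]
    (hcov : ∀ y : Y, ∃ k, y ∈ Set.range (gi k).base) : Nonempty (GRep D q) := by
  obtain ⟨W, e, he⟩ := Groth.Agent.R2.H14.DescOpenSubP.openSubRepP (G D q) (isSheaf_G D q)
    (fun k => (D.obj (a k)).left) (fun k => taut D q (gi k) (hgi k))
    (fun k => openSubP_taut D q (gi k) (hgi k)) (by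
      intro T (s' : GEl D q T) x
      obtain ⟨k, hk⟩ := hcov (s'.y.base x)
      refine ⟨k, s'.y ⁻¹ᵁ (gi k).opensRange, hk, ?_⟩
      have hr : Set.range ((s'.y ⁻¹ᵁ (gi k).opensRange).ι ≫ s'.y).base ⊆ Set.range (gi k).base := by
        rintro _ ⟨z, rfl⟩
        rw [Scheme.Hom.comp_base, TopCat.coe_comp]
        exact z.2
      obtain ⟨h, hh⟩ := exists_factor D q (gi k) (hgi k) (s'.res (s'.y ⁻¹ᵁ (gi k).opensRange).ι)
        (IsOpenImmersion.lift (gi k) _ hr) (IsOpenImmersion.lift_fac (gi k) _ hr)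
      exact ⟨h, hh⟩)
  exact ⟨⟨W, e, fun T a => he a⟩⟩

/-- **Essential surjectivity of the pullback of descent data along a Zariski refinement.** -/
theorem essSurj_of_zariski_refinement {κ : Type u} {V : κ → Scheme.{u}} (v : ∀ j, V j ⟶ S)
    (α : ι → κ) (g : ∀ i, X i ⟶ V (α i)) (w : ∀ i, g i ≫ v (α i) = f i ≫ 𝟙 S)
    (hcov : ∀ j, Presieve.ofArrows (fun i : {i // α i = j} => X i.1)
      (fun i => g i.1 ≫ eqToHom (congrArg V i.2)) ∈ Scheme.zariskiPrecoverage (V j)) :
    (pullDDFam w).EssSurj := by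
  constructor
  intro D
  have hR : ∀ j, Nonempty (GRep D (v j)) := by
    intro j
    have h1 := (Scheme.ofArrows_mem_precoverage_iff _).1 (hcov j)
    have : ∀ k : {i // α i = j}, IsOpenImmersion (g k.1 ≫ eqToHom (congrArg V k.2)) := h1.2
    refine nonempty_gRep D (v j) (fun k : {i // α i = j} => k.1)
      (fun k => g k.1 ≫ eqToHom (congrArg V k.2)) ?_ h1.1
    rintro ⟨i, rfl⟩
    simpa using w i
  exact ⟨GRep.dd (fun j => (hR j).some), ⟨(GRep.pullPtIso (fun j => (hR j).some) w).iso⟩⟩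

end Groth.Agent.R2.H73.DescRefine
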