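/-
helper73: a finite group `G` acting on a Noetherian local domain `A` of dimension `≥ 2`, trivially on
the residue field, with trivial inertia at every non-maximal prime: then `A` is NOT free over the
ring of invariants `A^G` (purity of the branch locus in the flat case, by hand):
if `b` is a basis, Dedekind's independence of characters makes `det (σ • b τ)` a unit at every
non-maximal prime, hence a unit (Krull's principal ideal theorem), but two rows agree modulo the
maximal ideal.  Used for S15794, S15798.
-/
import Mathlib

set_option autoImplicit false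
set_option linter.unusedSectionVars false
universe u v w

namespace Groth.Agent.R2.H73.GaloisDet

open IsLocalRing

variable {A : Type u} [CommRing A] {G : Type w} [Group G] [Fintype G] [MulSemiringAction G A]

section Dedekind

variable {L : Type v} [CommRing L] [IsDomain L] (π : A →+* L)

/-- the character `a ↦ π (σ • a)`. -/
def chi (σ : G) : A →* L := (π.comp (MulSemiringAction.toRingHom G A σ)).toMonoidHom

@[simp] lemma chi_apply (σ : G) (a : A) : chi π σ a = π (σ • a) := rfl

lemma chi_injective (hπ : (RingHom.ker π).inertia G = ⊥) :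
    Function.Injective (chi π : G → (A →* L)) := by
  intro σ τ h
  have hmem : σ * τ⁻¹ ∈ (RingHom.ker π).inertia G := by
    intro x
    have h1 := DFunLike.congr_fun h (τ⁻¹ • x)
    simp only [chi_apply, smul_inv_smul] at h1
    change (σ * τ⁻¹) • x - x ∈ RingHom.ker π
    rw [RingHom.mem_ker, map_sub, mul_smul, h1, sub_self]
  rw [hπ, Subgroup.mem_bot] at hmem
  exact mul_inv_eq_one.1 hmem

/-- Dedekind: the characters `π ∘ σ` are linearly independent when the kernel of `π` has trivial
inertia. -/
lemma dedekind (hπ : (RingHom.ker π).inertia G = ⊥) (v : G → L)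
    (hv : ∀ a : A, ∑ σ, v σ * π (σ • a) = 0) : v = 0 := by
  have hli : LinearIndependent L (fun σ : G => (chi π σ : A → L)) :=
    (linearIndependent_monoidHom A L).comp _ (chi_injective π hπ)
  funext σ
  refine Fintype.linearIndependent_iff.1 hli v ?_ σ
  funext a
  simp only [Finset.sum_apply, Pi.smul_apply, smul_eq_mul, Pi.zero_apply, chi_apply]
  exact hv a

variable {ι : Type*} [Fintype ι] (b : Module.Basis ι (FixedPoints.subring A G) A)

/-- Dedekind on a basis over the invariants. -/
lemma dedekind_basis (hπ : (RingHom.ker π).inertia G = ⊥) (v : G → L)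
    (hv : ∀ j, ∑ σ, v σ * π (σ • b j) = 0) : v = 0 := by
  apply dedekind π hπ v
  intro a
  have ha : a = ∑ j, ((b.repr a j : FixedPoints.subring A G) : A) * b j := by
    conv_lhs => rw [← b.sum_repr a]
    apply Finset.sum_congr rfl
    intro j _
    rfl
  have hfix : ∀ (σ : G) (j : ι), σ • a = ∑ j, ((b.repr a j : FixedPoints.subring A G) : A) * σ • b j := by
    intro σ _
    conv_lhs => rw [ha]
    rw [Finset.smul_sum]
    apply Finset.sum_congr rfl
    intro j _
    rw [smul_mul', (b.repr a j).2 σ]
  by_cases hι : IsEmpty ι
  · have h0 : a = 0 := by rw [ha]; simp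
    simp [h0]
  · obtain ⟨j0⟩ := not_isEmpty_iff.1 hι
    have : ∀ σ : G, v σ * π (σ • a) =
        ∑ j, π ((b.repr a j : FixedPoints.subring A G) : A) * (v σ * π (σ • b j)) := by
      intro σ
      rw [hfix σ j0, map_sum, Finset.mul_sum]
      apply Finset.sum_congr rfl
      intro j _
      rw [map_mul]; ring
    simp_rw [this]
    rw [Finset.sum_comm]
    apply Finset.sum_eq_zero
    intro j _
    rw [← Finset.mul_sum, hv j, mul_zero]

end Dedekind

section Card

variable [IsDomain A] {ι : Type*} [Fintype ι] (b : Module.Basis ι (FixedPoints.subring A G) A)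

lemma ker_id_inertia (h0 : (⊥ : Ideal A).inertia G = ⊥) :
    (RingHom.ker (RingHom.id A)).inertia G = ⊥ := by
  have : RingHom.ker (RingHom.id A) = ⊥ := by
    ext x; simp [RingHom.mem_ker]
  rw [this]; exact h0

include b in
lemma card_group_le (h0 : (⊥ : Ideal A).inertia G = ⊥) : Fintype.card G ≤ Fintype.card ι := by
  classical
  let f : (G → A) →ₗ[A] (ι → A) :=
    { toFun := fun v j => ∑ σ, v σ * σ • b j
      map_add' := fun v w => by
        funext j
        simp only [Pi.add_apply, add_mul, Finset.sum_add_distrib]
      map_smul' := fun c v => by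
        funext j
        simp only [Pi.smul_apply, smul_eq_mul, RingHom.id_apply, Finset.mul_sum, mul_assoc] }
  refine card_le_of_injective A f ?_
  rw [← LinearMap.ker_eq_bot, LinearMap.ker_eq_bot']
  intro v hv
  apply dedekind_basis (RingHom.id A) b (ker_id_inertia h0) v
  intro j
  exact congrFun hv j

include b in
lemma card_le_group (h0 : (⊥ : Ideal A).inertia G = ⊥) : Fintype.card ι ≤ Fintype.card G := by
  classical
  let g : (ι → A) →ₗ[A] (G → A) :=
    { toFun := fun c σ => ∑ j, c j * σ • b j
      map_add' := fun v w => by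
        funext j
        simp only [Pi.add_apply, add_mul, Finset.sum_add_distrib]
      map_smul' := fun c v => by
        funext j
        simp only [Pi.smul_apply, smul_eq_mul, RingHom.id_apply, Finset.mul_sum, mul_assoc] }
  refine card_le_of_injective A g ?_
  rw [← LinearMap.ker_eq_bot, LinearMap.ker_eq_bot']
  intro c hc
  have hc' : ∀ σ : G, ∑ j, c j * σ • b j = 0 := fun σ => congrFun hc σ
  -- the traces
  let t : A → ι → FixedPoints.subring A G := fun a j =>
    ⟨∑ τ : G, τ • (a * c j), fun σ => by
      rw [Finset.smul_sum]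
      refine Fintype.sum_equiv (Equiv.mulLeft σ) _ _ fun τ => ?_
      rw [Equiv.coe_mulLeft, mul_smul]⟩
  have ht : ∀ a, ∑ j, t a j • b j = 0 := by
    intro a
    have h1 : ∀ j, t a j • b j = ∑ τ : G, τ • a * (τ • c j * b j) := by
      intro j
      change (∑ τ : G, τ • (a * c j)) * b j = _
      rw [Finset.sum_mul]
      apply Finset.sum_congr rfl
      intro τ _
      rw [smul_mul']; ring
    simp_rw [h1]
    rw [Finset.sum_comm]
    apply Finset.sum_eq_zero
    intro τ _
    rw [← Finset.mul_sum]
    have h2 : ∑ j, τ • c j * b j = τ • (∑ j, c j * τ⁻¹ • b j) := by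
      rw [Finset.smul_sum]
      apply Finset.sum_congr rfl
      intro j _
      rw [smul_mul', smul_inv_smul]
    rw [h2, hc' τ⁻¹, smul_zero, mul_zero]
  have ht0 : ∀ a j, t a j = 0 := fun a j =>
    Fintype.linearIndependent_iff.1 b.linearIndependent (t a) (ht a) j
  funext j
  have hv := dedekind (RingHom.id A) (ker_id_inertia h0) (fun τ : G => τ • c j) (by
    intro a
    have := congrArg Subtype.val (ht0 a j)
    change ∑ τ : G, τ • (a * c j) = 0 at this
    simp only [RingHom.id_apply]
    rw [← this]
    apply Finset.sum_congr rfl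
    intro τ _
    rw [smul_mul']; ring)
  have := congrFun hv 1
  simpa using this

end Card

section Det

variable (b : Module.Basis G (FixedPoints.subring A G) A)

/-- the matrix `(σ • b τ)`. -/
noncomputable def galMatrix : Matrix G G A := fun σ τ => σ • b τ

variable [DecidableEq G]

lemma map_det_ne_zero {L : Type v} [CommRing L] [IsDomain L] (π : A →+* L)
    (hπ : (RingHom.ker π).inertia G = ⊥) : π (galMatrix b).det ≠ 0 := by
  rw [RingHom.map_det]
  intro h0
  obtain ⟨v, hv0, hv⟩ := Matrix.exists_vecMul_eq_zero_iff.2 h0
  apply hv0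
  apply dedekind_basis π b hπ v
  intro j
  have := congrFun hv j
  simpa [Matrix.vecMul, dotProduct, galMatrix] using this

lemma det_mem_maximalIdeal [IsLocalRing A] (hres : ∀ (σ : G) (a : A), σ • a - a ∈ maximalIdeal A)
    (hG : 1 < Fintype.card G) : (galMatrix b).det ∈ maximalIdeal A := by
  obtain ⟨σ, hσ⟩ : ∃ σ : G, σ ≠ 1 := by
    have : Nontrivial G := Fintype.one_lt_card_iff_nontrivial.1 hG
    exact exists_ne 1
  rw [← residue_eq_zero_iff, RingHom.map_det]
  apply Matrix.det_zero_of_row_eq hσ
  funext τ
  change residue A (σ • b τ) = residue A ((1 : G) • b τ)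
  rw [one_smul, ← sub_eq_zero, ← map_sub, residue_eq_zero_iff]
  exact hres σ (b τ)

end Det

/-- **No basis over the invariants** when the action is trivial on the residue field and has trivial
inertia at every non-maximal prime of a Noetherian local domain of dimension at least `2`. -/
theorem false_of_basis [IsDomain A] [IsNoetherianRing A] [IsLocalRing A]
    (hdim : 2 ≤ ringKrullDim A) (hres : ∀ (σ : G) (a : A), σ • a - a ∈ maximalIdeal A)
    (hG : 1 < Fintype.card G)
    (hram : ∀ P : Ideal A, P.IsPrime → P ≠ maximalIdeal A → P.inertia G = ⊥)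
    {ι : Type*} [Fintype ι] (b : Module.Basis ι (FixedPoints.subring A G) A) : False := by
  classical
  have hbot_ne : (⊥ : Ideal A) ≠ maximalIdeal A := by
    intro h
    have h1 : IsField A := IsLocalRing.isField_iff_maximalIdeal_eq.2 h.symm
    rw [ringKrullDim_eq_zero_of_isField h1] at hdim
    exact absurd hdim (by norm_num)
  have h0 : (⊥ : Ideal A).inertia G = ⊥ := hram ⊥ Ideal.isPrime_bot hbot_ne
  -- reindex the basis by `G`
  have hcard : Fintype.card ι = Fintype.card G :=
    le_antisymm (card_le_group b h0) (card_group_le b h0)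
  let b' : Module.Basis G (FixedPoints.subring A G) A := b.reindex (Fintype.equivOfCardEq hcard)
  set d := (galMatrix b').det with hd
  have hd0 : d ≠ 0 := by
    have := map_det_ne_zero b' (RingHom.id A) (ker_id_inertia h0)
    simpa using this
  have hdm : d ∈ maximalIdeal A := det_mem_maximalIdeal b' hres hG
  have hne : Ideal.span {d} ≠ ⊤ := by
    intro h
    rw [Ideal.span_singleton_eq_top] at h
    exact (mem_maximalIdeal d).1 hdm h
  obtain ⟨P, hP⟩ := Ideal.nonempty_minimalPrimes hne
  have hPprime : P.IsPrime := hP.1.1
  have hht : P.height ≤ 1 :=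
    Ideal.height_le_one_of_isPrincipal_of_mem_minimalPrimes (Ideal.span {d}) P hP
  have hPne : P ≠ maximalIdeal A := by
    intro h
    rw [h] at hht
    have h1 : ((maximalIdeal A).height : WithBot ℕ∞) = ringKrullDim A :=
      IsLocalRing.maximalIdeal_height_eq_ringKrullDim
    have h2 : ((maximalIdeal A).height : WithBot ℕ∞) ≤ 1 := by exact_mod_cast hht
    rw [h1] at h2
    exact absurd (hdim.trans h2) (by norm_num)
  have hin := hram P hPprime hPne
  have hker : (RingHom.ker (Ideal.Quotient.mk P)).inertia G = ⊥ := by
    rw [Ideal.mk_ker]; exact hin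
  have := map_det_ne_zero b' (Ideal.Quotient.mk P) hker
  apply this
  rw [Ideal.Quotient.eq_zero_iff_mem]
  exact hP.1.2 (Ideal.subset_span rfl)

end Groth.Agent.R2.H73.GaloisDet
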