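import Mathlib
import Groth.Agent.R2.H73RegFree
import Groth.Agent.R2.H73GaloisDet
import Groth.Agent.Lib.Helper28Normal

/-!
# Purity in dimension two for Galois extensions with trivial residue extension (helper73)

`exists_inertia_ne_bot` : `R` regular local, `A` a normal local domain of dimension `2`, finite over
`R` with the same residue field, `R = A^H` for a nontrivial finite group `H`.  Then some non-maximal
prime of `A` has nontrivial inertia.  (A normal local domain of dimension two is Cohen–Macaulay,
hence free over `R` by miracle flatness, and `R2/H73GaloisDet.false_of_basis` applies.)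

Group lemmas for groups of order `p ^ 2`.
-/

set_option autoImplicit false
set_option linter.style.haveILetI false
universe u v w
open IsLocalRing

namespace Groth.Agent.R2.H73.Dim2Purity

section group

variable {H : Type w} [Group H] [Finite H] {p : ℕ} [hp : Fact p.Prime]

lemma card_eq_of_inf_eq_bot (hH : Nat.card H = p ^ 2) (K Γ : Subgroup H) (hΓ : Nat.card Γ = p)
    (hK : K ≠ ⊥) (h : K ⊓ Γ = ⊥) : Nat.card K = p := by
  have hdvd : Nat.card K ∣ p ^ 2 := hH ▸ Subgroup.card_subgroup_dvd_card K
  obtain ⟨m, hm, hKm⟩ := (Nat.dvd_prime_pow hp.out).1 hdvd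
  interval_cases m
  · exact absurd (Subgroup.card_eq_one.1 (by simpa using hKm)) hK
  · simpa using hKm
  · have hKtop : K = ⊤ := (Subgroup.card_eq_iff_eq_top K).1 (hKm.trans hH.symm)
    rw [hKtop, top_inf_eq] at h
    have h1 : Nat.card Γ = 1 := Subgroup.card_eq_one.2 h
    have := hp.out.one_lt
    omega

lemma pow_eq_one_of_inf_eq_bot (hH : Nat.card H = p ^ 2) (K Γ : Subgroup H) (hΓ : Nat.card Γ = p)
    (hK : K ≠ ⊥) (h : K ⊓ Γ = ⊥) (x : H) : x ^ p = 1 := by
  have hcomm : ∀ a b : H, a * b = b * a := by
    haveI := IsPGroup.isMulCommutative_of_card_eq_prime_sq hH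
    exact fun a b => mul_comm' a b
  have hKp : Nat.card K = p := card_eq_of_inf_eq_bot hH K Γ hΓ hK h
  let f : K × Γ → H := fun z => (z.1 : H) * (z.2 : H)
  have hf : Function.Injective f := by
    rintro ⟨k, γ⟩ ⟨k', γ'⟩ hkk
    have h1 : (k : H) * γ = k' * γ' := hkk
    have h2 : (k' : H)⁻¹ * k = γ' * (γ : H)⁻¹ := by
      rw [inv_mul_eq_iff_eq_mul, ← mul_assoc, ← h1, mul_inv_cancel_right]
    have h3 : (k' : H)⁻¹ * k ∈ K ⊓ Γ := by
      refine ⟨K.mul_mem (K.inv_mem k'.2) k.2, ?_⟩
      rw [h2]
      exact Γ.mul_mem γ'.2 (Γ.inv_mem γ.2)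
    rw [h, Subgroup.mem_bot] at h3
    have h4 : (k : H) = k' := by
      rw [inv_mul_eq_one] at h3
      exact h3.symm
    have h5 : (γ : H) = γ' := by
      rw [h4] at h1
      exact mul_left_cancel h1
    exact Prod.ext (Subtype.ext h4) (Subtype.ext h5)
  have hcard : Nat.card H ≤ Nat.card (K × Γ) := by
    rw [Nat.card_prod, hKp, hΓ, hH, sq]
  obtain ⟨⟨k, γ⟩, rfl⟩ := (Function.Injective.bijective_of_nat_card_le hf hcard).2 x
  have hk : (k : H) ^ p = 1 := by
    have := pow_card_eq_one' (G := K) (x := k)
    rw [hKp] at this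
    exact_mod_cast congrArg Subtype.val this
  have hγ : (γ : H) ^ p = 1 := by
    have := pow_card_eq_one' (G := Γ) (x := γ)
    rw [hΓ] at this
    exact_mod_cast congrArg Subtype.val this
  change ((k : H) * γ) ^ p = 1
  have hc : Commute (k : H) (γ : H) := hcomm k γ
  rw [hc.mul_pow, hk, hγ, one_mul]

end group

section ring

variable {R : Type u} [CommRing R] [IsRegularLocalRing R] {A : Type v} [CommRing A] [IsDomain A]
  [IsIntegrallyClosed A] [IsLocalRing A] [Algebra R A] [Module.Finite R A]
  {H : Type w} [Group H] [Finite H] [MulSemiringAction H A] [SMulCommClass H R A]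

omit [IsRegularLocalRing R] [IsDomain A] [IsIntegrallyClosed A] [Module.Finite R A] [Finite H] in
lemma smul_sub_mem (hres : Function.Surjective (IsLocalRing.residue A ∘ algebraMap R A))
    (σ : H) (a : A) : σ • a - a ∈ maximalIdeal A := by
  obtain ⟨c, hc⟩ := hres (residue A a)
  have hm : a - algebraMap R A c ∈ maximalIdeal A := by
    rw [← residue_eq_zero_iff, map_sub, sub_eq_zero]
    exact hc.symm
  have hmax : ∀ {x : A}, x ∈ maximalIdeal A → σ • x ∈ maximalIdeal A := by
    intro x hx
    rw [mem_maximalIdeal, mem_nonunits_iff] at hx ⊢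
    intro hu
    apply hx
    have : IsUnit (σ⁻¹ • (σ • x)) := by
      have := hu.map (MulSemiringAction.toRingEquiv H A σ⁻¹)
      simpa using this
    simpa using this
  have : σ • a - a = σ • (a - algebraMap R A c) - (a - algebraMap R A c) := by
    rw [smul_sub, smul_algebraMap]; ring
  rw [this]
  exact Ideal.sub_mem _ (hmax hm) hm

/-- **Purity in dimension two** (Galois form). -/
theorem exists_inertia_ne_bot (hinj : Function.Injective (algebraMap R A))
    (hres : Function.Surjective (IsLocalRing.residue A ∘ algebraMap R A))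
    (hfix : ∀ a : A, (∀ h : H, h • a = a) → a ∈ Set.range (algebraMap R A))
    (hdim : ringKrullDim A = 2) (hH : 1 < Nat.card H) :
    ∃ P : Ideal A, P.IsPrime ∧ P ≠ maximalIdeal A ∧ P.inertia H ≠ ⊥ := by
  classical
  by_contra hall
  push Not at hall
  haveI : IsNoetherianRing R := inferInstance
  haveI : IsNoetherianRing A := IsNoetherianRing.of_finite R A
  -- `A` is Cohen–Macaulay
  haveI hCM : LocCoh.IsCohenMacaulayLocalRing A := by
    refine ⟨le_antisymm ?_ Groth.Agent.Lib.Helper28.depth_le_supportDim⟩
    rw [Module.supportDim_self_eq_ringKrullDim, hdim]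
    have h2 := Groth.Agent.Lib.Helper28.two_le_depth_of_isIntegrallyClosed_of_two_le_dim (A := A)
      (by rw [hdim])
    exact WithBot.coe_le_coe.2 h2
  haveI : Module.Free R A := RegFree.free_of_finite_injective' hinj
  -- transfer the basis to the ring of invariants
  let e : R ≃+* FixedPoints.subring A H :=
    RingEquiv.ofBijective
      ((algebraMap R A).codRestrict (FixedPoints.subring A H) (fun r h => smul_algebraMap h r))
      ⟨fun x y hxy => hinj (congrArg Subtype.val hxy), fun b => by
        obtain ⟨r, hr⟩ := hfix b.1 (fun h => b.2 h)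
        exact ⟨r, Subtype.ext hr⟩⟩
  have hsm : ∀ (c : R) (x : A), e c • x = c • x := by
    intro c x
    rw [Algebra.smul_def c x]
    rfl
  letI : Fintype H := Fintype.ofFinite H
  have hG : 1 < Fintype.card H := by rwa [← Nat.card_eq_fintype_card]
  exact GaloisDet.false_of_basis (A := A) (G := H) (by rw [hdim])
    (fun σ a => smul_sub_mem hres σ a) hG
    (fun P hP hne => hall P hP hne)
    ((Module.Free.chooseBasis R A).mapCoeffs e hsm)

end ring

end Groth.Agent.R2.H73.Dim2Purity
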