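import Mathlib

/-!
# Complements in a commutative group generated by `n` subgroups of order `p` (helper73)

If a commutative group `H` of order `p ^ n` is generated by subgroups `G_1, …, G_n` of order `p`,
then `H` is their internal direct product: `G_i ⊓ ⨆_{j ≠ i} G_j = ⊥` and `⋂_i ⨆_{j ≠ i} G_j = ⊥`.
-/

set_option autoImplicit false
universe w

namespace Groth.Agent.R2.H73.ElemAb

variable {H : Type w} [CommGroup H] [Finite H] {n : ℕ} (p : ℕ) (Gi : Fin n → Subgroup H)

theorem complement_facts (hcard : Nat.card H = p ^ n) (hGi : ∀ i, Nat.card (Gi i) = p)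
    (hsup : (⨆ i, Gi i) = ⊤) :
    (∀ i, Gi i ⊓ (⨆ j ∈ (Finset.univ.erase i : Finset (Fin n)), Gi j) = ⊥) ∧
    (∀ h : H, (∀ i, h ∈ ⨆ j ∈ (Finset.univ.erase i : Finset (Fin n)), Gi j) → h = 1) := by
  classical
  have hcommP : Pairwise fun i j => ∀ x y : H, x ∈ Gi i → y ∈ Gi j → Commute x y :=
    fun i j _ x y _ _ => Commute.all x y
  let e : (∀ i, Gi i) →* H := Subgroup.noncommPiCoprod hcommP
  have hsurj : Function.Surjective e := by
    rw [← MonoidHom.range_eq_top, Subgroup.noncommPiCoprod_range]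
    exact hsup
  have hcard' : Nat.card (∀ i, Gi i) = Nat.card H := by
    rw [Nat.card_pi, hcard]
    simp [hGi]
  have hbij : Function.Bijective e := (Nat.bijective_iff_surjective_and_card e).2 ⟨hsurj, hcard'⟩
  have hsingle : ∀ (j : Fin n) (x : Gi j), e (Pi.mulSingle j x) = (x : H) :=
    fun j x => Subgroup.noncommPiCoprod_mulSingle j x
  -- elements of the complement have trivial `i`-th coordinate
  have hK : ∀ i, ∀ x ∈ ⨆ j ∈ (Finset.univ.erase i : Finset (Fin n)), Gi j,
      ∃ t : ∀ i, Gi i, t i = 1 ∧ e t = x := by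
    intro i
    let K : Subgroup H := Subgroup.map e (MonoidHom.ker (Pi.evalMonoidHom (fun i => Gi i) i))
    have hle : (⨆ j ∈ (Finset.univ.erase i : Finset (Fin n)), Gi j) ≤ K := by
      refine iSup₂_le (fun j hj x hx => ?_)
      refine ⟨Pi.mulSingle j ⟨x, hx⟩, ?_, hsingle j ⟨x, hx⟩⟩
      rw [SetLike.mem_coe, MonoidHom.mem_ker]
      exact Pi.mulSingle_eq_of_ne (Finset.ne_of_mem_erase hj).symm _
    intro x hx
    obtain ⟨t, ht, rfl⟩ := hle hx
    exact ⟨t, MonoidHom.mem_ker.1 ht, rfl⟩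
  constructor
  · intro i
    rw [eq_bot_iff]
    rintro x ⟨hx1, hx2⟩
    obtain ⟨t, ht, hte⟩ := hK i x hx2
    have h1 : t = Pi.mulSingle i ⟨x, hx1⟩ := hbij.1 (by rw [hte, hsingle])
    rw [h1, Pi.mulSingle_eq_same] at ht
    rw [Subgroup.mem_bot]
    exact congrArg Subtype.val ht
  · intro h hh
    obtain ⟨s, rfl⟩ := hsurj h
    have h1 : s = 1 := by
      funext i
      obtain ⟨t, ht, hte⟩ := hK i _ (hh i)
      rw [← hbij.1 hte]
      exact ht
    rw [h1, map_one]

end Groth.Agent.R2.H73.ElemAb
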