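/-
helper73: a finite group `G` acting on a commutative ring `A`, `B = A^G`, `P` a prime of `B` such that
every prime of `A` over `P` has trivial inertia.  Then (Chase–Harrison–Rosenberg, by hand) there is
`F ∈ B ∖ P` such that `F • id_A` factors through a finite free `B`-module
(`a ↦ (Tr(y a))_y`, `v ↦ Σ v_y c_y`), hence `A[1/F]` is flat over `B`.  Used for S19994.
-/
import Mathlib

set_option autoImplicit false
set_option linter.unusedSectionVars false
set_option linter.style.haveILetI false
universe u w

namespace Groth.Agent.R2.H73.GaloisProj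

variable {A : Type u} [CommRing A] {G : Type w} [Group G] [Fintype G] [MulSemiringAction G A]

/-- the twisted diagonal `y ↦ (τ ↦ τ • y)`. -/
def diag : A →+* (G → A) := RingHom.pi (fun τ => MulSemiringAction.toRingHom G A τ)

@[simp] lemma diag_apply (y : A) (τ : G) : diag y τ = τ • y := rfl

/-- the image of `A ⊗_{A^G} A → ∏_G A`. -/
def T : Subalgebra A (G → A) := Algebra.adjoin A (Set.range (diag (A := A) (G := G)))

lemma diag_mem_T (y : A) : diag y ∈ (T : Subalgebra A (G → A)) :=
  Algebra.subset_adjoin ⟨y, rfl⟩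

lemma T_toSubmodule : Subalgebra.toSubmodule (T : Subalgebra A (G → A)) =
    Submodule.span A (Set.range (diag (A := A) (G := G))) := by
  unfold T
  rw [Algebra.adjoin_eq_span]
  congr 1
  have h1 : (Set.range (diag (A := A) (G := G))) =
      ((MonoidHom.mrange (diag (A := A) (G := G)).toMonoidHom : Submonoid (G → A)) : Set (G → A)) := by
    ext e
    simp
  rw [h1, Submonoid.closure_eq]

/-- the trace `A → A^G`. -/
def tr : A →ₗ[FixedPoints.subring A G] FixedPoints.subring A G where
  toFun z := ⟨∑ τ : G, τ • z, fun σ => by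
    rw [Finset.smul_sum]
    refine Fintype.sum_equiv (Equiv.mulLeft σ) _ _ fun τ => ?_
    rw [Equiv.coe_mulLeft, mul_smul]⟩
  map_add' x y := by
    apply Subtype.ext
    simp [smul_add, Finset.sum_add_distrib]
  map_smul' b z := by
    apply Subtype.ext
    change ∑ τ : G, τ • ((b : A) * z) = (b : A) * ∑ τ : G, τ • z
    rw [Finset.mul_sum]
    apply Finset.sum_congr rfl
    intro τ _
    rw [smul_mul', b.2 τ]

lemma tr_coe (z : A) : ((tr z : FixedPoints.subring A G) : A) = ∑ τ : G, τ • z := rfl

section Split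

variable [Algebra.IsIntegral (FixedPoints.subring A G) A]
  (P : Ideal (FixedPoints.subring A G)) [P.IsPrime]
  (hP : ∀ Q : Ideal A, Q.IsPrime → Q.comap (algebraMap (FixedPoints.subring A G) A) = P →
    Q.inertia G = ⊥)

include hP in
/-- for `σ ≠ 1` there is `e ∈ T` vanishing at `σ` whose value at `1` is invariant and not in `P`. -/
lemma exists_T_elt (σ : G) (hσ : σ ≠ 1) :
    ∃ f : FixedPoints.subring A G, f ∉ P ∧
      ∃ e ∈ (T : Subalgebra A (G → A)), e 1 = (f : A) ∧ e σ = 0 := by
  -- the ideal of possible values at `1`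
  let 𝔞 : Ideal A :=
    { carrier := {z | ∃ e ∈ (T : Subalgebra A (G → A)), e 1 = z ∧ e σ = 0}
      add_mem' := by
        rintro z z' ⟨e, he, h1, h2⟩ ⟨e', he', h1', h2'⟩
        exact ⟨e + e', T.add_mem he he', by simp [h1, h1'], by simp [h2, h2']⟩
      zero_mem' := ⟨0, T.zero_mem, rfl, rfl⟩
      smul_mem' := by
        rintro c z ⟨e, he, h1, h2⟩
        exact ⟨c • e, T.smul_mem he c, by simp [h1], by simp [h2]⟩ }
  have hgen : ∀ a : A, σ • a - a ∈ 𝔞 := by
    intro a
    have hmem1 : (σ • a) • (1 : G → A) ∈ (T : Subalgebra A (G → A)) :=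
      Subalgebra.smul_mem T (Subalgebra.one_mem T) (σ • a)
    have hmem : (σ • a) • (1 : G → A) - diag a ∈ (T : Subalgebra A (G → A)) :=
      sub_mem hmem1 (diag_mem_T a)
    refine ⟨(σ • a) • (1 : G → A) - diag a, hmem, ?_, ?_⟩
    · change (σ • a) * 1 - (1 : G) • a = σ • a - a
      rw [one_smul, mul_one]
    · change (σ • a) * 1 - σ • a = 0
      rw [mul_one, sub_self]
  by_contra hcon
  push Not at hcon
  have hle : 𝔞.comap (algebraMap (FixedPoints.subring A G) A) ≤ P := by
    intro f hf
    by_contra hfP
    obtain ⟨e, he, h1, h2⟩ := hf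
    exact hcon f hfP e he h1 h2
  obtain ⟨Q, hQ𝔞, hQprime, hQP⟩ := Ideal.exists_ideal_over_prime_of_isIntegral P 𝔞 hle
  have hin := hP Q hQprime hQP
  have hmem : σ ∈ Q.inertia G := fun x => hQ𝔞 (hgen x)
  rw [hin, Subgroup.mem_bot] at hmem
  exact hσ hmem

include hP in
/-- the idempotent-like element of `T`: `F` at `1`, zero elsewhere. -/
lemma exists_T_delta [DecidableEq G] :
    ∃ F : FixedPoints.subring A G, F ∉ P ∧
      ∃ e ∈ (T : Subalgebra A (G → A)), ∀ τ : G, e τ = if τ = 1 then (F : A) else 0 := by
  have hex : ∀ σ : G, ∃ f : FixedPoints.subring A G, f ∉ P ∧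
      ∃ e ∈ (T : Subalgebra A (G → A)), e 1 = (f : A) ∧ (σ ≠ 1 → e σ = 0) := by
    intro σ
    by_cases hσ : σ = 1
    · exact ⟨1, (Ideal.ne_top_iff_one P).1 (Ideal.IsPrime.ne_top inferInstance), 1, T.one_mem,
        by simp, fun h => absurd hσ h⟩
    · obtain ⟨f, hf, e, he, h1, h2⟩ := exists_T_elt P hP σ hσ
      exact ⟨f, hf, e, he, h1, fun _ => h2⟩
  choose f hf e he h1 h2 using hex
  refine ⟨∏ σ : G, f σ, ?_, ∏ σ : G, e σ, prod_mem (fun σ _ => he σ), ?_⟩
  · intro hmem
    obtain ⟨σ, -, hσ⟩ := (Ideal.IsPrime.prod_mem_iff).1 hmem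
    exact hf σ hσ
  · intro τ
    rw [Finset.prod_apply]
    split_ifs with hτ
    · subst hτ
      simp only [h1]
      exact (map_prod (FixedPoints.subring A G).subtype f Finset.univ).symm
    · exact Finset.prod_eq_zero (Finset.mem_univ τ) (h2 τ hτ)

include hP in
/-- **`F • id_A` factors through a finite free `A^G`-module.** -/
theorem exists_split :
    ∃ F : FixedPoints.subring A G, F ∉ P ∧ ∃ (J : Type u) (_ : Fintype J)
      (α : A →ₗ[FixedPoints.subring A G] (J → FixedPoints.subring A G))
      (β : (J → FixedPoints.subring A G) →ₗ[FixedPoints.subring A G] A),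
      ∀ a, β (α a) = F • a := by
  classical
  obtain ⟨F, hF, e, he, heq⟩ := exists_T_delta P hP
  have he' : e ∈ Submodule.span A (Set.range (diag (A := A) (G := G))) := by
    rw [← T_toSubmodule]; exact he
  obtain ⟨c, hc⟩ := Finsupp.mem_span_range_iff_exists_finsupp.1 he'
  have hc' : ∀ τ : G, ∑ y ∈ c.support, c y * τ • y = e τ := by
    intro τ
    rw [← hc, Finsupp.sum, Finset.sum_apply]
    rfl
  refine ⟨F, hF, c.support, inferInstance,
    LinearMap.pi (fun y => tr.comp (LinearMap.mulLeft (FixedPoints.subring A G) (y : A))),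
    { toFun := fun v => ∑ y : c.support, v y • c (y : A)
      map_add' := fun v w => by simp [add_smul, Finset.sum_add_distrib]
      map_smul' := fun b v => by simp [Finset.smul_sum, mul_smul] }, ?_⟩
  intro a
  change ∑ y : c.support, (tr ((y : A) * a) : FixedPoints.subring A G) • c (y : A) = F • a
  have h1 : ∀ y : c.support, (tr ((y : A) * a) : FixedPoints.subring A G) • c (y : A) =
      ∑ τ : G, τ • a * (c (y : A) * τ • (y : A)) := by
    intro y
    change (∑ τ : G, τ • ((y : A) * a)) * c (y : A) = _
    rw [Finset.sum_mul]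
    apply Finset.sum_congr rfl
    intro τ _
    rw [smul_mul']; ring
  simp_rw [h1]
  rw [Finset.sum_comm]
  have h2 : ∀ τ : G, ∑ y : c.support, τ • a * (c (y : A) * τ • (y : A)) = τ • a * e τ := by
    intro τ
    rw [← Finset.mul_sum, ← hc' τ]
    congr 1
    exact Finset.sum_coe_sort c.support (fun y => c y * τ • y)
  simp_rw [h2, heq]
  rw [Finset.sum_eq_single 1]
  · simp only [one_smul, if_true]
    change a * (F : A) = (F : A) * a
    ring
  · intro τ _ hτ
    simp [hτ]
  · intro h
    exact absurd (Finset.mem_univ 1) h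

end Split

section Flat

/-- a module on which `F` acts invertibly after localization, and such that `F • id` factors through
a finite free module, has flat localization. -/
theorem flat_of_isLocalizedModule_of_split {B : Type*} [CommRing B] {M : Type*} [AddCommGroup M]
    [Module B M] {J : Type*} [Finite J] (F : B) (α : M →ₗ[B] (J → B)) (β : (J → B) →ₗ[B] M)
    (h : ∀ m, β (α m) = F • m) {M' : Type*} [AddCommGroup M'] [Module B M'] (f : M →ₗ[B] M')
    [IsLocalizedModule (Submonoid.powers F) f] : Module.Flat B M' := by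
  let S := Submonoid.powers F
  let g : (J → B) →ₗ[B] LocalizedModule S (J → B) := LocalizedModule.mkLinearMap S (J → B)
  let α' : M' →ₗ[B] LocalizedModule S (J → B) := IsLocalizedModule.map S f g α
  let β' : LocalizedModule S (J → B) →ₗ[B] M' := IsLocalizedModule.map S g f β
  have hu : IsUnit (algebraMap B (Module.End B M') F) :=
    IsLocalizedModule.map_units f ⟨F, Submonoid.mem_powers F⟩
  have hcomp : β' ∘ₗ α' = algebraMap B (Module.End B M') F := by
    apply IsLocalizedModule.ext S f (IsLocalizedModule.map_units f)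
    ext m
    simp only [LinearMap.comp_apply, Module.algebraMap_end_apply]
    change β' (α' (f m)) = F • f m
    rw [show α' (f m) = g (α m) from IsLocalizedModule.map_apply S f g α m,
      show β' (g (α m)) = f (β (α m)) from IsLocalizedModule.map_apply S g f β (α m), h, map_smul]
  haveI : Module.Flat (Localization S) (LocalizedModule S (J → B)) := inferInstance
  haveI : Module.Flat B (LocalizedModule S (J → B)) :=
    (Module.flat_iff_of_isLocalization (Localization S) S (LocalizedModule S (J → B))).1 inferInstance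
  refine Module.Flat.of_retract (M := LocalizedModule S (J → B)) α'
    (((hu.unit⁻¹ : (Module.End B M')ˣ) : Module.End B M') ∘ₗ β') ?_
  rw [LinearMap.comp_assoc, hcomp]
  have : ((hu.unit⁻¹ : (Module.End B M')ˣ) : Module.End B M') * (hu.unit : Module.End B M') = 1 :=
    Units.inv_mul _
  exact this

end Flat

end Groth.Agent.R2.H73.GaloisProj
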