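/-
helper73: quotient of an affine variety by a finite group is étale exactly at the points with
trivial stabilizer (used for S19402).

* `exists_trace_formula`: Chase–Harrison–Rosenberg trace identity `F a = ∑ c_y Tr(y a)`.
* `inertia_eq_bot_of_stabilizer`: trivial stabilizer of `m` ⇒ trivial inertia at all conjugates.
* `map_under_eq_maximalIdeal`: trivial stabilizer ⇒ `(m ∩ B) R_m = m R_m`.
* `stabilizer_eq_bot_of_formallyUnramified`: formally unramified at `m` ⇒ trivial stabilizer.
* `formallyEtale_of_stabilizer`: trivial stabilizer ⇒ formally étale at `m`.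
-/
import Mathlib
import Groth.Agent.R2.H73GaloisProj

set_option autoImplicit false
set_option linter.style.haveILetI false
universe u v w

open scoped Pointwise

namespace Groth.Agent.R2.H73.EtaleQuot

open Groth.Agent.R2.H73.GaloisProj IsLocalRing

section Trace

variable {A : Type u} [CommRing A] {G : Type w} [Group G] [Fintype G] [MulSemiringAction G A]
  [Algebra.IsIntegral (FixedPoints.subring A G) A]
  (P : Ideal (FixedPoints.subring A G)) [P.IsPrime]
  (hP : ∀ Q : Ideal A, Q.IsPrime → Q.comap (algebraMap (FixedPoints.subring A G) A) = P →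
    Q.inertia G = ⊥)

include hP in
/-- explicit form of the Chase–Harrison–Rosenberg splitting: `F a = ∑ c_y Tr(y a)`. -/
theorem exists_trace_formula :
    ∃ F : FixedPoints.subring A G, F ∉ P ∧ ∃ (s : Finset A) (c : A → A),
      ∀ a : A, (F : A) * a = ∑ y ∈ s, c y * ∑ τ : G, τ • (y * a) := by
  classical
  obtain ⟨F, hF, e, he, heq⟩ := exists_T_delta P hP
  have he' : e ∈ Submodule.span A (Set.range (diag (A := A) (G := G))) := by
    rw [← T_toSubmodule]; exact he
  obtain ⟨c, hc⟩ := Finsupp.mem_span_range_iff_exists_finsupp.1 he'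
  have hc' : ∀ τ : G, ∑ y ∈ c.support, c y * τ • y = e τ := by
    intro τ
    rw [← hc, Finsupp.sum, Finset.sum_apply]
    rfl
  refine ⟨F, hF, c.support, c, fun a => ?_⟩
  have h1 : ∑ y ∈ c.support, c y * ∑ τ : G, τ • (y * a) =
      ∑ τ : G, τ • a * ∑ y ∈ c.support, c y * τ • y := by
    simp_rw [Finset.mul_sum]
    rw [Finset.sum_comm]
    refine Finset.sum_congr rfl (fun τ _ => Finset.sum_congr rfl (fun y _ => ?_))
    rw [smul_mul']; ring
  rw [h1]
  simp_rw [hc', heq]
  rw [Finset.sum_eq_single 1]
  · simp only [one_smul, if_true]; ring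
  · intro τ _ hτ; simp [hτ]
  · intro h; exact absurd (Finset.mem_univ 1) h

end Trace

section Inertia

variable {R : Type v} [CommRing R] {G : Type w} [Group G] [Finite G] [MulSemiringAction G R]

/-- if the stabilizer of `m` is trivial, every prime with the same contraction to the invariants
has trivial inertia. -/
theorem inertia_eq_bot_of_stabilizer (m : Ideal R) [m.IsPrime]
    (hstab : MulAction.stabilizer G m = ⊥) (Q : Ideal R) (hQ : Q.IsPrime)
    (hQm : Q.comap (algebraMap (FixedPoints.subring R G) R) =
      m.comap (algebraMap (FixedPoints.subring R G) R)) :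
    Q.inertia G = ⊥ := by
  haveI : Algebra.IsInvariant (FixedPoints.subring R G) R G := ⟨fun b hb => ⟨⟨b, hb⟩, rfl⟩⟩
  obtain ⟨g, hg⟩ := Algebra.IsInvariant.exists_smul_of_under_eq (FixedPoints.subring R G) R G m Q
    hQm.symm
  rw [eq_bot_iff]
  intro σ hσ
  have h1 : σ ∈ MulAction.stabilizer G Q := Ideal.inertia_le_stabilizer Q hσ
  rw [MulAction.mem_stabilizer_iff, hg] at h1
  have h2 : (g⁻¹ * σ * g) ∈ MulAction.stabilizer G m := by
    rw [MulAction.mem_stabilizer_iff, mul_smul, mul_smul, h1, inv_smul_smul]
  rw [hstab, Subgroup.mem_bot] at h2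
  rw [Subgroup.mem_bot]
  have h3 : σ = g * (g⁻¹ * σ * g) * g⁻¹ := by group
  rw [h3, h2]; group

end Inertia

section Unram

variable {R : Type v} [CommRing R] {G : Type w} [Group G] [Finite G] [MulSemiringAction G R]
  {B : Type v} [CommRing B] [Algebra B R] [Algebra.IsInvariant B R G]

/-- trivial stabilizer ⇒ the maximal ideal of `R_m` is generated by `m ∩ B`. -/
theorem map_under_eq_maximalIdeal (m : Ideal R) [m.IsMaximal]
    (hstab : MulAction.stabilizer G m = ⊥) :
    (m.under B).map (algebraMap B (Localization.AtPrime m)) =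
      maximalIdeal (Localization.AtPrime m) := by
  classical
  cases nonempty_fintype G
  haveI : Algebra.IsInvariant (FixedPoints.subring R G) R G := ⟨fun b hb => ⟨⟨b, hb⟩, rfl⟩⟩
  haveI : Algebra.IsIntegral (FixedPoints.subring R G) R :=
    Algebra.IsInvariant.isIntegral (FixedPoints.subring R G) R G
  obtain ⟨F, hF, s, c, hform⟩ := exists_trace_formula
    (m.comap (algebraMap (FixedPoints.subring R G) R))
    (fun Q hQ hQm => inertia_eq_bot_of_stabilizer m hstab Q hQ hQm)
  have hFm : (F : R) ∉ m := hF
  -- an element outside `m` whose nontrivial translates lie in `m`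
  have hu : ∃ u : R, u ∉ m ∧ ∀ σ : G, σ ≠ 1 → σ • u ∈ m := by
    have h1 : ∀ τ : G, ∃ v : R, v ∉ m ∧ (τ ≠ 1 → v ∈ τ • m) := by
      intro τ
      by_cases hτ : τ = 1
      · exact ⟨1, (Ideal.ne_top_iff_one m).1 (Ideal.IsPrime.ne_top inferInstance),
          fun h => absurd hτ h⟩
      · have hnle : ¬ τ • m ≤ m := by
          intro hle
          have hle' : m ≤ τ⁻¹ • m := by
            intro x hx
            rw [Ideal.mem_inv_pointwise_smul_iff]
            exact hle (Ideal.smul_mem_pointwise_smul τ x m hx)
          have heq : m = τ⁻¹ • m :=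
            Ideal.IsMaximal.eq_of_le inferInstance (Ideal.IsPrime.ne_top inferInstance) hle'
          have hmem : τ⁻¹ ∈ MulAction.stabilizer G m := heq.symm
          rw [hstab, Subgroup.mem_bot, inv_eq_one] at hmem
          exact hτ hmem
        obtain ⟨v, hv, hvm⟩ := SetLike.not_le_iff_exists.1 hnle
        exact ⟨v, hvm, fun _ => hv⟩
    choose v hv1 hv2 using h1
    refine ⟨∏ τ : G, v τ, ?_, ?_⟩
    · intro hmem
      obtain ⟨τ, -, hτ⟩ := (Ideal.IsPrime.prod_mem_iff).1 hmem
      exact hv1 τ hτ
    · intro σ hσ
      rw [← Ideal.mem_inv_pointwise_smul_iff]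
      exact Ideal.mem_of_dvd _ (Finset.dvd_prod_of_mem v (Finset.mem_univ σ⁻¹))
        (hv2 σ⁻¹ (by simpa using hσ))
  obtain ⟨u, hum, hu⟩ := hu
  apply le_antisymm
  · rw [Ideal.map_le_iff_le_comap]
    intro b hb
    rw [Ideal.mem_comap, IsScalarTower.algebraMap_apply B R (Localization.AtPrime m)]
    exact (IsLocalization.AtPrime.to_map_mem_maximal_iff _ m _).2 hb
  · rw [← Localization.AtPrime.map_eq_maximalIdeal, Ideal.map_le_iff_le_comap]
    intro a ha
    rw [Ideal.mem_comap]
    have hz : ∀ σ : G, σ • (a * u) ∈ m := by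
      intro σ
      rw [smul_mul']
      by_cases hσ : σ = 1
      · subst hσ; rw [one_smul, one_smul]; exact m.mul_mem_right _ ha
      · exact m.mul_mem_left _ (hu σ hσ)
    have htr : ∀ y : R, ∃ b : B, b ∈ m.under B ∧
        algebraMap B R b = ∑ τ : G, τ • (y * (a * u)) := by
      intro y
      obtain ⟨b, hb⟩ := Algebra.IsInvariant.isInvariant (A := B) (G := G)
        (∑ τ : G, τ • (y * (a * u))) (by
          intro g
          rw [Finset.smul_sum]
          simp_rw [smul_smul]
          exact Fintype.sum_equiv (Equiv.mulLeft g) _ _ (fun τ => rfl))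
      refine ⟨b, ?_, hb⟩
      change algebraMap B R b ∈ m
      rw [hb]
      refine Ideal.sum_mem _ (fun τ _ => ?_)
      rw [smul_mul']
      exact m.mul_mem_left _ (hz τ)
    choose b hbn hb using htr
    have hkey : algebraMap R (Localization.AtPrime m) ((F : R) * u) *
        algebraMap R (Localization.AtPrime m) a ∈
        (m.under B).map (algebraMap B (Localization.AtPrime m)) := by
      rw [← map_mul, show (F : R) * u * a = (F : R) * (a * u) by ring, hform, map_sum]
      refine Ideal.sum_mem _ (fun y _ => ?_)
      rw [map_mul, ← hb y, ← IsScalarTower.algebraMap_apply]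
      exact Ideal.mul_mem_left _ _ (Ideal.mem_map_of_mem _ (hbn y))
    have hunit : IsUnit (algebraMap R (Localization.AtPrime m) ((F : R) * u)) :=
      IsLocalization.map_units _ (⟨(F : R) * u, fun h =>
        ((Ideal.IsPrime.mem_or_mem inferInstance h).elim hFm hum)⟩ : m.primeCompl)
    exact (Ideal.unit_mul_mem_iff_mem _ hunit).1 hkey

end Unram

section Converse

variable (k : Type u) [Field k] [IsAlgClosed k]
  {R : Type v} [CommRing R] [Algebra k R] [Algebra.FiniteType k R]

/-- closed points of a variety over an algebraically closed field are rational. -/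
theorem exists_sub_mem (m : Ideal R) [m.IsMaximal] (r : R) :
    ∃ c : k, r - algebraMap k R c ∈ m := by
  letI := Ideal.Quotient.field m
  haveI : Algebra.FiniteType k (R ⧸ m) :=
    Algebra.FiniteType.of_surjective (Ideal.Quotient.mkₐ k m) (Ideal.Quotient.mkₐ_surjective k m)
  haveI : Module.Finite k (R ⧸ m) := finite_of_finite_type_of_isJacobsonRing k (R ⧸ m)
  have hbij : Function.Bijective (algebraMap k (R ⧸ m)) :=
    IsAlgClosed.algebraMap_bijective_of_isIntegral (k := k) (K := R ⧸ m)
  obtain ⟨c, hc⟩ := hbij.2 (Ideal.Quotient.mk m r)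
  refine ⟨c, ?_⟩
  rw [← Ideal.Quotient.eq_zero_iff_mem, map_sub, ← hc, sub_eq_zero]
  rfl

variable [IsDomain R] {G : Type w} [Group G] [MulSemiringAction G R] [FaithfulSMul G R]
  [SMulCommClass G k R]
  {B : Type v} [CommRing B] [Algebra B R] [SMulCommClass G B R]

include k in
/-- formally unramified at `m` ⇒ the stabilizer of `m` is trivial. -/
theorem stabilizer_eq_bot_of_formallyUnramified (m : Ideal R) [m.IsMaximal]
    [Algebra.FormallyUnramified B (Localization.AtPrime m)] :
    MulAction.stabilizer G m = ⊥ := by
  haveI : IsNoetherianRing R := Algebra.FiniteType.isNoetherianRing k R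
  rw [eq_bot_iff]
  intro σ hσ
  rw [Subgroup.mem_bot]
  have hσm : σ • m = m := hσ
  have hmem_iff : ∀ x : R, σ • x ∈ m ↔ x ∈ m := by
    intro x
    conv_lhs => rw [← hσm]
    exact Ideal.smul_mem_pointwise_smul_iff
  -- `σ` acts trivially on `R/m`
  have hin : ∀ r : R, σ • r - r ∈ m := by
    intro r
    obtain ⟨c, hc⟩ := exists_sub_mem k m r
    have h1 : σ • r - r = σ • (r - algebraMap k R c) - (r - algebraMap k R c) := by
      rw [smul_sub, smul_algebraMap]; ring
    rw [h1]
    exact m.sub_mem ((hmem_iff _).2 hc) hc
  let φ : R →+* R := MulSemiringAction.toRingHom G R σ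
  have hφ : m.primeCompl ≤ m.primeCompl.comap φ := by
    intro x hx hmem
    exact hx ((hmem_iff x).1 hmem)
  let f : Localization.AtPrime m →+* Localization.AtPrime m :=
    IsLocalization.map (Localization.AtPrime m) φ hφ
  have hf : ∀ r : R, f (algebraMap R _ r) = algebraMap R _ (σ • r) := fun r =>
    IsLocalization.map_eq hφ r
  let f₁ : Localization.AtPrime m →ₐ[B] Localization.AtPrime m :=
    { f with
      commutes' := fun b => by
        change f (algebraMap B (Localization.AtPrime m) b) = _
        rw [IsScalarTower.algebraMap_apply B R (Localization.AtPrime m), hf, smul_algebraMap] }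
  have hf₁ : ∀ x, f₁ x = f x := fun _ => rfl
  have hfM : ∀ y ∈ maximalIdeal (Localization.AtPrime m),
      f y ∈ maximalIdeal (Localization.AtPrime m) := by
    intro y hy
    have hle : maximalIdeal (Localization.AtPrime m) ≤
        (maximalIdeal (Localization.AtPrime m)).comap f := by
      rw [← Localization.AtPrime.map_eq_maximalIdeal, Ideal.map_le_iff_le_comap]
      intro a ha
      rw [Ideal.mem_comap, Ideal.mem_comap, hf]
      exact Ideal.mem_map_of_mem _ ((hmem_iff a).2 ha)
    exact hle hy
  have key : f₁ = AlgHom.id B (Localization.AtPrime m) := by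
    refine Algebra.FormallyUnramified.ext_of_iInf (maximalIdeal (Localization.AtPrime m))
      (Ideal.iInf_pow_eq_bot_of_isLocalRing _ (Ideal.IsPrime.ne_top inferInstance)) (fun x => ?_)
    rw [Ideal.Quotient.eq, AlgHom.id_apply, hf₁]
    obtain ⟨r, hr⟩ : ∃ r : R, x - algebraMap R _ r ∈ maximalIdeal (Localization.AtPrime m) := by
      obtain ⟨q, hq⟩ := (IsLocalization.AtPrime.equivQuotMaximalIdeal m
        (Localization.AtPrime m)).surjective (Ideal.Quotient.mk _ x)
      obtain ⟨r, rfl⟩ := Ideal.Quotient.mk_surjective q
      rw [IsLocalization.AtPrime.equivQuotMaximalIdeal_apply_mk] at hq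
      exact ⟨r, (Ideal.Quotient.eq.1 hq.symm)⟩
    have h2 : f x - x = (f (x - algebraMap R _ r) - (x - algebraMap R _ r)) +
        algebraMap R _ (σ • r - r) := by
      rw [map_sub, hf, map_sub]; ring
    rw [h2]
    refine Ideal.add_mem _ (Ideal.sub_mem _ (hfM _ hr) hr) ?_
    exact (IsLocalization.AtPrime.to_map_mem_maximal_iff _ m _).2 (hin r)
  apply FaithfulSMul.eq_of_smul_eq_smul (α := R)
  intro r
  rw [one_smul]
  apply IsLocalization.injective (Localization.AtPrime m) m.primeCompl_le_nonZeroDivisors
  rw [← hf, ← hf₁, key, AlgHom.id_apply]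

end Converse

section Main

variable (k : Type u) [Field k] [CharZero k]
  {R : Type v} [CommRing R] [Algebra k R] [Algebra.FiniteType k R]
  {G : Type w} [Group G] [Finite G] [MulSemiringAction G R]
  {B : Type v} [CommRing B] [Algebra k B] [Algebra B R] [IsScalarTower k B R] [FaithfulSMul B R]
  [SMulCommClass G B R] [Algebra.IsInvariant B R G]

include k in
/-- trivial stabilizer ⇒ formally étale at `m`. -/
theorem formallyEtale_of_stabilizer (m : Ideal R) [m.IsMaximal]
    (hstab : MulAction.stabilizer G m = ⊥) :
    Algebra.FormallyEtale B (Localization.AtPrime m) := by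
  classical
  cases nonempty_fintype G
  -- finiteness
  haveI : Algebra.FiniteType B R := Algebra.FiniteType.of_restrictScalars_finiteType k B R
  haveI : Algebra.IsIntegral B R := Algebra.IsInvariant.isIntegral B R G
  haveI : Module.Finite B R := Algebra.IsIntegral.finite
  haveI : Algebra.FiniteType k B :=
    ⟨fg_of_fg_of_fg k B R Algebra.FiniteType.out Module.Finite.fg_top
      (FaithfulSMul.algebraMap_injective B R)⟩
  haveI : IsNoetherianRing B := Algebra.FiniteType.isNoetherianRing k B
  -- the invariants
  haveI : Algebra.IsInvariant (FixedPoints.subring R G) R G := ⟨fun b hb => ⟨⟨b, hb⟩, rfl⟩⟩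
  haveI : Algebra.IsIntegral (FixedPoints.subring R G) R :=
    Algebra.IsInvariant.isIntegral (FixedPoints.subring R G) R G
  obtain ⟨F, hF, J, _, α, β, hαβ⟩ := GaloisProj.exists_split
    (m.comap (algebraMap (FixedPoints.subring R G) R))
    (fun Q hQ hQm => inertia_eq_bot_of_stabilizer m hstab Q hQ hQm)
  have hFm : (F : R) ∉ m := hF
  -- the localization `R[1/F]`
  let MF : Submonoid R := Algebra.algebraMapSubmonoid R (Submonoid.powers F)
  let RF := Localization MF
  have hMF : MF = Submonoid.powers (F : R) := Submonoid.map_powers _ _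
  haveI : IsLocalization.Away (F : R) RF := by
    change IsLocalization (Submonoid.powers (F : R)) RF
    rw [← hMF]
    infer_instance
  -- flatness over the invariants, then over `B`
  haveI hflat0 : Module.Flat (FixedPoints.subring R G) RF :=
    GaloisProj.flat_of_isLocalizedModule_of_split F α β hαβ
      (IsScalarTower.toAlgHom (FixedPoints.subring R G) R RF).toLinearMap
  let ψ : B →+* FixedPoints.subring R G :=
    (algebraMap B R).codRestrict (FixedPoints.subring R G) (fun b g => smul_algebraMap g b)
  letI algBS : Algebra B (FixedPoints.subring R G) := ψ.toAlgebra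
  haveI : IsScalarTower B (FixedPoints.subring R G) RF :=
    IsScalarTower.of_algebraMap_eq (fun b => by
      rw [IsScalarTower.algebraMap_apply B R RF,
        IsScalarTower.algebraMap_apply (FixedPoints.subring R G) R RF]
      rfl)
  have hψ : Function.Bijective (Algebra.linearMap B (FixedPoints.subring R G)) := by
    constructor
    · intro b b' h
      apply FaithfulSMul.algebraMap_injective B R
      exact congrArg Subtype.val h
    · rintro ⟨r, hr⟩
      obtain ⟨b, hb⟩ := Algebra.IsInvariant.isInvariant (A := B) (G := G) r hr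
      exact ⟨b, Subtype.ext hb⟩
  haveI : Module.Flat B (FixedPoints.subring R G) :=
    Module.Flat.of_linearEquiv (LinearEquiv.ofBijective _ hψ).symm
  haveI hflat : Module.Flat B RF := Module.Flat.trans B (FixedPoints.subring R G) RF
  -- finite presentation
  haveI : Algebra.FinitePresentation R RF := IsLocalization.Away.finitePresentation (F : R)
  haveI : Algebra.FiniteType R RF := inferInstance
  haveI : Algebra.FiniteType B RF := Algebra.FiniteType.trans (S := R) inferInstance inferInstance
  haveI : Algebra.FinitePresentation B RF := Algebra.FinitePresentation.of_finiteType.1 inferInstance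
  -- the prime of `R[1/F]` over `m`
  have hdisj : Disjoint (MF : Set R) (m : Set R) := by
    rw [hMF, Set.disjoint_left]
    rintro _ ⟨n, rfl⟩ hmem
    exact hFm (Ideal.IsPrime.mem_of_pow_mem inferInstance n hmem)
  let q' : Ideal RF := m.map (algebraMap R RF)
  haveI hq' : q'.IsPrime := IsLocalization.isPrime_of_isPrime_disjoint MF RF m inferInstance hdisj
  have hcomap : q'.comap (algebraMap R RF) = m :=
    IsLocalization.under_map_of_isPrime_disjoint MF RF inferInstance hdisj
  have hloc : IsLocalization.AtPrime (Localization.AtPrime q') (q'.comap (algebraMap R RF)) :=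
    IsLocalization.isLocalization_isLocalization_atPrime_isLocalization MF
      (Localization.AtPrime q') q'
  have hloc' : IsLocalization m.primeCompl (Localization.AtPrime q') := by
    have h := hloc
    unfold IsLocalization.AtPrime at h
    convert h using 2
    exact hcomap.symm
  let e : Localization.AtPrime m ≃ₐ[R] Localization.AtPrime q' :=
    IsLocalization.algEquiv m.primeCompl _ _
  let eB : Localization.AtPrime m ≃ₐ[B] Localization.AtPrime q' := e.restrictScalars B
  -- unramified at `m`
  haveI hnprime : (m.under B).IsPrime := inferInstance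
  letI := Localization.AtPrime.algebraOfLiesOver (m.under B) m
  haveI : CharZero (m.under B).ResidueField :=
    charZero_of_injective_algebraMap (algebraMap k (m.under B).ResidueField).injective
  haveI hunr : Algebra.IsUnramifiedAt B m := by
    rw [Algebra.isUnramifiedAt_iff_map_eq B (m.under B) m]
    exact ⟨Algebra.IsAlgebraic.isSeparable_of_perfectField, map_under_eq_maximalIdeal m hstab⟩
  haveI : Algebra.FormallyUnramified B (Localization.AtPrime q') :=
    Algebra.FormallyUnramified.of_equiv eB
  haveI het : Algebra.IsEtaleAt B q' := Algebra.IsEtaleAt.of_isUnramifiedAt_of_flat q'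
  exact Algebra.FormallyEtale.of_equiv eB.symm

end Main

end Groth.Agent.R2.H73.EtaleQuot
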