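import Mathlib
import Groth.Agent.Lib.Helper22AssHeightOne

/-!
# Algebraic Hartogs for divisibility (helper73)

In a Noetherian integrally closed domain, `v ∣ u` as soon as for every height-one prime `P` there
is `s ∉ P` with `v ∣ s * u`.
-/

set_option autoImplicit false
universe u

namespace Groth.Agent.R2.H73.Hartogs

variable {A : Type u} [CommRing A] [IsDomain A] [IsNoetherianRing A] [IsIntegrallyClosed A]

theorem dvd_of_forall_height_one (v u : A) (hv : v ≠ 0)
    (h : ∀ P : Ideal A, P.IsPrime → P.height = 1 → ∃ s, s ∉ P ∧ v ∣ s * u) : v ∣ u := by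
  by_contra hvu
  have hz : (Ideal.Quotient.mk (Ideal.span {v}) u) ≠ 0 := by
    rw [Ne, Ideal.Quotient.eq_zero_iff_mem, Ideal.mem_span_singleton]
    exact hvu
  obtain ⟨Q, hQ, hle⟩ := exists_le_isAssociatedPrime_of_isNoetherianRing A
    (Ideal.Quotient.mk (Ideal.span {v}) u) hz
  have hQp : Q.IsPrime := hQ.isPrime
  have hht : Q.height = 1 :=
    Groth.Agent.Lib.Helper22.AssHeightOne.height_eq_one_of_mem_associatedPrimes v hv Q hQ
  obtain ⟨s, hsQ, hdvd⟩ := h Q hQp hht
  apply hsQ
  apply hle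
  rw [Submodule.mem_colon_singleton, Submodule.mem_bot]
  change Ideal.Quotient.mk (Ideal.span {v}) (s * u) = 0
  rw [Ideal.Quotient.eq_zero_iff_mem, Ideal.mem_span_singleton]
  exact hdvd

end Groth.Agent.R2.H73.Hartogs
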