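import Mathlib

/-!
# Inertia of the induced action on a ring of invariants (helper73)

`exists_mul_mem_inertia`: a finite commutative group `H` acts on a commutative ring `A`, `N ≤ H`,
`P` a prime of `A`.  If `g ∈ H` acts trivially on `A^N` modulo `P`, then `g ∈ N · I_P` where `I_P`
is the inertia group of `P` in `H`.  (Transitivity of `N` on the primes over `P ∩ A^N` and
surjectivity of the decomposition group onto the automorphism group of the residue extension,
both from Mathlib's `RingTheory/Invariant/Basic`.)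
-/

set_option autoImplicit false
set_option linter.style.haveILetI false
universe u w

open scoped Pointwise

namespace Groth.Agent.R2.H73.InertiaQuot

variable {A : Type u} [CommRing A] {H : Type w} [Group H] [Finite H] [MulSemiringAction H A]

/-- If `g` acts trivially modulo `P` on the invariants of `N`, then `g ∈ N · I_P`. -/
theorem exists_mul_mem_inertia (hcomm : ∀ g h : H, g * h = h * g) (N : Subgroup H) (P : Ideal A)
    [hP : P.IsPrime] (g : H) (hg : ∀ y : A, (∀ ν : N, ν • y = y) → g • y - y ∈ P) :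
    ∃ ν : N, (ν : H)⁻¹ * g ∈ P.inertia H := by
  -- the ring of invariants
  let B := FixedPoints.subring A N
  haveI : Algebra.IsInvariant B A N := ⟨fun a h => ⟨⟨a, h⟩, rfl⟩⟩
  -- `A^N` is stable under `H`
  have hstab : ∀ (h : H) (y : A), (∀ ν : N, ν • y = y) → ∀ ν : N, ν • (h • y) = h • y := by
    intro h y hy ν
    change (ν : H) • (h • y) = h • y
    rw [← mul_smul, hcomm, mul_smul]
    congr 1
    exact hy ν
  -- `g • P` and `P` have the same contraction
  haveI hgP : (g • P).IsPrime := hP.smul g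
  have hunder : P.under B = (g • P).under B := by
    ext y
    rw [Ideal.under_def, Ideal.mem_comap, Ideal.under_def, Ideal.mem_comap,
      Ideal.mem_pointwise_smul_iff_inv_smul_mem]
    change (y : A) ∈ P ↔ g⁻¹ • (y : A) ∈ P
    have h1 : g • (g⁻¹ • (y : A)) - g⁻¹ • (y : A) ∈ P := hg _ (hstab g⁻¹ _ y.2)
    rw [smul_inv_smul] at h1
    constructor
    · intro hy
      have := P.sub_mem hy h1
      rwa [sub_sub_cancel] at this
    · intro hy
      have := P.add_mem h1 hy
      rwa [sub_add_cancel] at this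
  obtain ⟨ν, hν⟩ := Algebra.IsInvariant.exists_smul_of_under_eq B A N P (g • P) hunder
  -- `τ = ν⁻¹ g` stabilizes `P`
  set τ : H := (ν : H)⁻¹ * g with hτ
  have hτP : ∀ a : A, τ • a ∈ P ↔ a ∈ P := by
    intro a
    have h1 : ∀ x : A, x ∈ g • P ↔ x ∈ ν • P := fun x => SetLike.ext_iff.mp hν x
    have h2 : g • a ∈ g • P ↔ a ∈ P := Ideal.smul_mem_pointwise_smul_iff
    have h3 : g • a ∈ ν • P ↔ ν⁻¹ • (g • a) ∈ P := Ideal.mem_pointwise_smul_iff_inv_smul_mem
    have h4 : ν⁻¹ • (g • a) = (ν : H)⁻¹ • (g • a) := rfl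
    rw [hτ, mul_smul, ← h4, ← h3, ← h1, h2]
  have hτB : ∀ y : A, (∀ ν : N, ν • y = y) → τ • y - y ∈ P := by
    intro y hy
    have h1 : (ν : H)⁻¹ • (g • y) = g • y := by
      have := hstab g y hy ν
      change (ν : H) • (g • y) = g • y at this
      rw [inv_smul_eq_iff, this]
    rw [hτ, mul_smul, h1]
    exact hg y hy
  -- the induced automorphism of `A ⧸ P` over `B ⧸ (P ∩ B)`
  have hmap : P = Ideal.map ((MulSemiringAction.toRingEquiv H A τ : A ≃+* A) : A →+* A) P := by
    ext a
    constructor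
    · intro ha
      have : τ⁻¹ • a ∈ P := by
        rw [← hτP, smul_inv_smul]
        exact ha
      have h2 := Ideal.mem_map_of_mem ((MulSemiringAction.toRingEquiv H A τ : A ≃+* A) : A →+* A) this
      have h3 : ((MulSemiringAction.toRingEquiv H A τ : A ≃+* A) : A →+* A) (τ⁻¹ • a) = a :=
        smul_inv_smul τ a
      rwa [h3] at h2
    · intro ha
      have hle : Ideal.map ((MulSemiringAction.toRingEquiv H A τ : A ≃+* A) : A →+* A) P ≤ P := by
        rw [Ideal.map_le_iff_le_comap]
        intro x hx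
        exact (hτP x).2 hx
      exact hle ha
  let eτ : A ⧸ P ≃+* A ⧸ P := Ideal.quotientEquiv P P (MulSemiringAction.toRingEquiv H A τ) hmap
  have heτ : ∀ a : A, eτ (Ideal.Quotient.mk P a) = Ideal.Quotient.mk P (τ • a) := fun a => rfl
  let Q : Ideal B := P.under B
  let fτ : (A ⧸ P) ≃ₐ[B ⧸ Q] (A ⧸ P) := AlgEquiv.ofRingEquiv (f := eτ) (by
    intro x
    obtain ⟨y, rfl⟩ := Ideal.Quotient.mk_surjective x
    change eτ (Ideal.Quotient.mk P (y : A)) = Ideal.Quotient.mk P (y : A)
    rw [heτ, Ideal.Quotient.eq]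
    exact hτB _ y.2)
  obtain ⟨ν', hν'⟩ := Ideal.Quotient.stabilizerHom_surjective N Q P fτ
  have hν'a : ∀ a : A, ((ν' : N) : H) • a - τ • a ∈ P := by
    intro a
    have h1 := congrArg (fun f => f (Ideal.Quotient.mk P a)) hν'
    simp only [Ideal.Quotient.stabilizerHom_apply] at h1
    have h2 : fτ (Ideal.Quotient.mk P a) = Ideal.Quotient.mk P (τ • a) := heτ a
    rw [h2, Ideal.Quotient.eq] at h1
    exact h1
  have hν'P : ∀ a : A, ((ν' : N) : H)⁻¹ • a ∈ P ↔ a ∈ P := by
    intro a
    have h1 : (ν' : N) • P = P := ν'.2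
    have h2 : a ∈ (ν' : N) • P ↔ ((ν' : N))⁻¹ • a ∈ P := Ideal.mem_pointwise_smul_iff_inv_smul_mem
    rw [h1] at h2
    exact h2.symm
  refine ⟨ν * (ν' : N), ?_⟩
  rw [AddSubgroup.mem_inertia]
  intro a
  change (((ν * (ν' : N) : N) : H)⁻¹ * g) • a - a ∈ P
  have h1 : ((ν * (ν' : N) : N) : H)⁻¹ * g = ((ν' : N) : H)⁻¹ * τ := by
    rw [hτ, Subgroup.coe_mul, mul_inv_rev, mul_assoc]
  rw [h1, mul_smul]
  have h2 : ((ν' : N) : H)⁻¹ • (τ • a) - a = ((ν' : N) : H)⁻¹ • (τ • a - ((ν' : N) : H) • a) := by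
    rw [smul_sub, inv_smul_smul]
  rw [h2, hν'P]
  have := hν'a a
  rw [← Ideal.neg_mem_iff, neg_sub] at this
  exact this

end Groth.Agent.R2.H73.InertiaQuot
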