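import Mathlib
import Groth.Agent.R2.H73InertiaQuot

/-!
# Linear independence of products of bases of rings of invariants (helper73)

A finite commutative group `H` acts faithfully on a domain `A` with `A^H = R`.  For subgroups
`G₀, N₀` with `G₀ ⊓ N₀ = ⊥` and `G₀ N₀ = H`, the group `G₀` acts faithfully on `A^{N₀}`
(`faithful_on_fixed`), Dedekind's lemma gives independence of the characters (`dedekind_fixed`),
hence the trace form of an `R`-basis of `A^{N₀}` is non-degenerate (`exists_W`).  For a family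
`(G i, N i)` with `G j ≤ N i` (`j ≠ i`), the products of bases of the `A^{N i}` are linearly
independent over `R` (`prod_indep`).
-/

set_option autoImplicit false
set_option linter.unusedSectionVars false
set_option linter.style.haveILetI false
universe u v w

namespace Groth.Agent.R2.H73.ProdIndep

open Groth.Agent.R2.H73.InertiaQuot

variable {R : Type u} [CommRing R] {A : Type v} [CommRing A] [IsDomain A] [Algebra R A]
  {H : Type w} [CommGroup H] [Finite H] [MulSemiringAction H A] [SMulCommClass H R A]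
  [FaithfulSMul H A]

section Single

variable (G₀ N₀ : Subgroup H) [Fintype G₀]

omit [Algebra R A] [SMulCommClass H R A] in
/-- `G₀` acts faithfully on `A^{N₀}` when `G₀ ⊓ N₀ = ⊥`. -/
theorem faithful_on_fixed (hdisj : G₀ ⊓ N₀ = ⊥) (g : H) (hg : g ∈ G₀)
    (h : ∀ y : A, (∀ ν : N₀, ν • y = y) → g • y = y) : g = 1 := by
  obtain ⟨ν, hν⟩ := exists_mul_mem_inertia (fun a b => mul_comm a b) N₀ (⊥ : Ideal A) g
    (fun y hy => by rw [h y hy, sub_self]; exact Ideal.zero_mem _)
  have h1 : (ν : H)⁻¹ * g = 1 := by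
    apply eq_of_smul_eq_smul (α := A)
    intro a
    have := (AddSubgroup.mem_inertia (I := (⊥ : Ideal A).toAddSubgroup)).1 hν a
    rw [one_smul]
    have h2 : ((ν : H)⁻¹ * g) • a - a = 0 := this
    exact sub_eq_zero.1 h2
  have h2 : g = (ν : H) := by
    rw [inv_mul_eq_one] at h1
    exact h1.symm
  have h3 : g ∈ G₀ ⊓ N₀ := ⟨hg, h2 ▸ ν.2⟩
  rw [hdisj] at h3
  exact Subgroup.mem_bot.1 h3

omit [Algebra R A] [SMulCommClass H R A] in
/-- Dedekind's lemma for the characters `g|_{A^{N₀}}`, `g ∈ G₀`. -/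
theorem dedekind_fixed (hdisj : G₀ ⊓ N₀ = ⊥) (v : G₀ → A)
    (hv : ∀ y : A, (∀ ν : N₀, ν • y = y) → ∑ g : G₀, v g * ((g : H) • y) = 0) : v = 0 := by
  classical
  let M := FixedPoints.subring A N₀
  let χ : G₀ → (M →* A) := fun g =>
    ((MulSemiringAction.toRingHom H A (g : H)).comp M.subtype).toMonoidHom
  have hχ : ∀ (g : G₀) (y : M), χ g y = (g : H) • (y : A) := fun g y => rfl
  have hχinj : Function.Injective χ := by
    intro g g' hgg'
    have h1 : ((g : H)⁻¹ * (g' : H)) = 1 := by
      apply faithful_on_fixed (A := A) G₀ N₀ hdisj _ (G₀.mul_mem (G₀.inv_mem g.2) g'.2)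
      intro y hy
      have h2 : χ g ⟨y, hy⟩ = χ g' ⟨y, hy⟩ := by rw [hgg']
      rw [hχ, hχ] at h2
      rw [mul_smul, ← h2, inv_smul_smul]
    rw [inv_mul_eq_one] at h1
    exact Subtype.ext h1
  have hli : LinearIndependent A (fun g : G₀ => (χ g : M → A)) :=
    (linearIndependent_monoidHom M A).comp χ hχinj
  have := Fintype.linearIndependent_iff.1 hli v (by
    funext y
    rw [Finset.sum_apply, Pi.zero_apply]
    have := hv (y : A) y.2
    simpa [hχ] using this)
  funext g
  exact this g

variable {κ : Type*} [Fintype κ] [DecidableEq κ] (b : κ → A)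

/-- The trace matrix of a family in `A^{N₀}` has entries in `R`. -/
theorem exists_traceMatrix
    (hfix : ∀ a : A, (∀ h : H, h • a = a) → a ∈ Set.range (algebraMap R A))
    (hgen : ∀ h : H, ∃ g ∈ G₀, ∃ ν ∈ N₀, h = g * ν)
    (hb_mem : ∀ a, ∀ ν : N₀, ν • b a = b a) :
    ∃ T : Matrix κ κ R, ∀ a a', algebraMap R A (T a a') = ∑ g : G₀, (g : H) • (b a * b a') := by
  have key : ∀ a a', ∃ r : R, algebraMap R A r = ∑ g : G₀, (g : H) • (b a * b a') := by
    intro a a'
    apply hfix
    intro h
    obtain ⟨g', hg', ν, hν, rfl⟩ := hgen h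
    rw [Finset.smul_sum]
    have hz : ∀ ν : N₀, ν • (b a * b a') = b a * b a' := fun ν => by
      rw [smul_mul', hb_mem, hb_mem]
    refine Fintype.sum_equiv (Equiv.mulLeft (⟨g', hg'⟩ : G₀)) _ _ (fun g => ?_)
    rw [Equiv.coe_mulLeft]
    change (g' * ν) • (g : H) • (b a * b a') = (g' * (g : H)) • (b a * b a')
    rw [← mul_smul, mul_assoc, mul_comm ν (g : H), ← mul_assoc, mul_smul]
    congr 1
    exact hz ⟨ν, hν⟩
  choose T hT using key
  exact ⟨Matrix.of T, hT⟩

/-- Non-degeneracy of the trace form on `A^{N₀}`: a left inverse, up to a nonzero scalar of `R`, of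
the matrix `(g • b a)`. -/
theorem exists_W (hinj : Function.Injective (algebraMap R A))
    (hfix : ∀ a : A, (∀ h : H, h • a = a) → a ∈ Set.range (algebraMap R A))
    (hdisj : G₀ ⊓ N₀ = ⊥) (hgen : ∀ h : H, ∃ g ∈ G₀, ∃ ν ∈ N₀, h = g * ν)
    (hb_mem : ∀ a, ∀ ν : N₀, ν • b a = b a)
    (hb_span : ∀ y : A, (∀ ν : N₀, ν • y = y) → ∃ u : κ → R, y = ∑ a, u a • b a)
    (hb_indep : ∀ u : κ → R, ∑ a, u a • b a = 0 → u = 0) :
    ∃ (d : R) (W : κ → G₀ → A), d ≠ 0 ∧ ∀ a a',
      ∑ g : G₀, W a g * ((g : H) • b a') = if a = a' then algebraMap R A d else 0 := by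
  classical
  haveI : IsDomain R := hinj.isDomain (algebraMap R A)
  obtain ⟨T, hT⟩ := exists_traceMatrix G₀ N₀ b hfix hgen hb_mem
  have hdet : T.det ≠ 0 := by
    intro h0
    obtain ⟨x, hx0, hx⟩ := Matrix.exists_mulVec_eq_zero_iff.2 h0
    apply hx0
    apply hb_indep
    set y : A := ∑ a', x a' • b a' with hy
    have hyfix : ∀ ν : N₀, ν • y = y := by
      intro ν
      rw [hy, Finset.smul_sum]
      apply Finset.sum_congr rfl
      intro a' _
      rw [smul_comm, hb_mem]
    -- traces against basis elements vanish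
    have h1 : ∀ a, ∑ g : G₀, (g : H) • (b a * y) = 0 := by
      intro a
      have h2 : algebraMap R A ((T.mulVec x) a) = ∑ g : G₀, (g : H) • (b a * y) := by
        rw [Matrix.mulVec, dotProduct, map_sum]
        simp_rw [map_mul, hT, Finset.sum_mul]
        rw [Finset.sum_comm]
        apply Finset.sum_congr rfl
        intro g _
        rw [hy, Finset.mul_sum, Finset.smul_sum]
        apply Finset.sum_congr rfl
        intro a' _
        rw [mul_smul_comm, smul_comm, Algebra.smul_def, mul_comm]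
      rw [← h2, hx, Pi.zero_apply, map_zero]
    -- hence against all of `A^{N₀}`
    have h3 : ∀ z : A, (∀ ν : N₀, ν • z = z) → ∑ g : G₀, ((g : H) • y) * ((g : H) • z) = 0 := by
      intro z hz
      obtain ⟨u, rfl⟩ := hb_span z hz
      have h4 : ∀ g : G₀, ((g : H) • y) * ((g : H) • ∑ a, u a • b a) =
          ∑ a, u a • ((g : H) • (b a * y)) := by
        intro g
        rw [← smul_mul', Finset.mul_sum, Finset.smul_sum]
        apply Finset.sum_congr rfl
        intro a _
        rw [mul_smul_comm, smul_comm, mul_comm]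
      simp_rw [h4]
      rw [Finset.sum_comm]
      apply Finset.sum_eq_zero
      intro a _
      rw [← Finset.smul_sum, h1 a, smul_zero]
    have h5 := dedekind_fixed G₀ N₀ hdisj (fun g => (g : H) • y) h3
    have h6 : ((1 : G₀) : H) • y = 0 := congrFun h5 1
    rwa [Subgroup.coe_one, one_smul] at h6
  refine ⟨T.det, fun a g => ∑ a'', algebraMap R A (T.adjugate a a'') * ((g : H) • b a''), hdet, ?_⟩
  intro a a'
  have h1 : ∑ g : G₀, (∑ a'', algebraMap R A (T.adjugate a a'') * ((g : H) • b a'')) *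
      ((g : H) • b a') = algebraMap R A ((T.adjugate * T) a a') := by
    rw [Matrix.mul_apply, map_sum]
    simp_rw [map_mul, hT, Finset.sum_mul, Finset.mul_sum]
    rw [Finset.sum_comm]
    apply Finset.sum_congr rfl
    intro a'' _
    apply Finset.sum_congr rfl
    intro g _
    rw [smul_mul', mul_assoc]
  rw [h1, Matrix.adjugate_mul, Matrix.smul_apply, Matrix.one_apply, smul_eq_mul]
  split_ifs with h
  · rw [mul_one]
  · rw [mul_zero, map_zero]

end Single

section Family

variable {ι : Type*} [Fintype ι] [DecidableEq ι] (G N : ι → Subgroup H)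
  {κ : ι → Type*} [∀ i, Fintype (κ i)] [∀ i, DecidableEq (κ i)] (b : ∀ i, κ i → A)

/-- **Products of bases of the rings of invariants `A^{N i}` are linearly independent over `R`.** -/
theorem prod_indep (hinj : Function.Injective (algebraMap R A))
    (hfix : ∀ a : A, (∀ h : H, h • a = a) → a ∈ Set.range (algebraMap R A))
    (hGN : ∀ i j, i ≠ j → G i ≤ N j)
    (hdisj : ∀ i, G i ⊓ N i = ⊥) (hgen : ∀ i, ∀ h : H, ∃ g ∈ G i, ∃ ν ∈ N i, h = g * ν)
    (hb_mem : ∀ i a, ∀ ν : N i, ν • b i a = b i a)
    (hb_span : ∀ i, ∀ y : A, (∀ ν : N i, ν • y = y) → ∃ u : κ i → R, y = ∑ a, u a • b i a)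
    (hb_indep : ∀ i, ∀ u : κ i → R, ∑ a, u a • b i a = 0 → u = 0)
    (r : (∀ i, κ i) → R) (hr : ∑ α, r α • ∏ i, b i (α i) = 0) : r = 0 := by
  classical
  haveI : IsDomain R := hinj.isDomain (algebraMap R A)
  haveI : ∀ i, Fintype (G i) := fun i => Fintype.ofFinite _
  have hW := fun i => exists_W (G i) (N i) (b i) hinj hfix (hdisj i) (hgen i) (hb_mem i)
    (hb_span i) (hb_indep i)
  choose d W hd hWd using hW
  -- apply the group elements
  have hstar : ∀ t : ∀ i, G i, ∑ α, r α • ∏ i, ((t i : H) • b i (α i)) = 0 := by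
    intro t
    set h : H := ∏ i, (t i : H) with hh
    have h1 : ∀ i a, h • b i a = (t i : H) • b i a := by
      intro i a
      have h2 : h = (t i : H) * ∏ j ∈ Finset.univ.erase i, (t j : H) :=
        (Finset.mul_prod_erase Finset.univ (fun j => (t j : H)) (Finset.mem_univ i)).symm
      have h3 : ∏ j ∈ Finset.univ.erase i, (t j : H) ∈ N i :=
        Subgroup.prod_mem _ (fun j hj => hGN j i (Finset.ne_of_mem_erase hj) (t j).2)
      rw [h2, mul_smul]
      congr 1
      exact hb_mem i a ⟨_, h3⟩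
    have h4 := congrArg (fun x => h • x) hr
    simp only [smul_zero, Finset.smul_sum] at h4
    rw [← h4]
    apply Finset.sum_congr rfl
    intro α _
    rw [smul_comm, Finset.smul_prod']
    congr 1
    apply Finset.prod_congr rfl
    intro i _
    rw [h1]
  funext β
  -- multiply by `∏ W` and sum
  have h5 : ∑ t : ∀ i, G i, (∏ i, W i (β i) (t i)) *
      ∑ α, r α • ∏ i, ((t i : H) • b i (α i)) = 0 := by
    apply Finset.sum_eq_zero
    intro t _
    rw [hstar t, mul_zero]
  have h6 : ∑ t : ∀ i, G i, (∏ i, W i (β i) (t i)) *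
      ∑ α, r α • ∏ i, ((t i : H) • b i (α i)) =
      ∑ α, r α • ∏ i, ∑ g : G i, W i (β i) g * ((g : H) • b i (α i)) := by
    simp_rw [Finset.mul_sum]
    rw [Finset.sum_comm]
    apply Finset.sum_congr rfl
    intro α _
    rw [Fintype.prod_sum, Finset.smul_sum]
    apply Finset.sum_congr rfl
    intro t _
    rw [mul_smul_comm, Finset.prod_mul_distrib]
  rw [h6] at h5
  simp_rw [hWd] at h5
  rw [Finset.sum_eq_single β] at h5
  · simp only [if_true] at h5
    rw [← map_prod, Algebra.smul_def, ← map_mul] at h5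
    have h7 : r β * ∏ i, d i = 0 := hinj (by rw [h5, map_zero])
    rcases mul_eq_zero.1 h7 with h8 | h8
    · exact h8
    · exact absurd h8 (Finset.prod_ne_zero_iff.2 (fun i _ => hd i))
  · intro α _ hα
    have : ∃ i, β i ≠ α i := by
      by_contra hcon
      push Not at hcon
      exact hα (funext fun i => (hcon i).symm)
    obtain ⟨i, hi⟩ := this
    rw [Finset.prod_eq_zero (Finset.mem_univ i) (if_neg hi), smul_zero]
  · intro h
    exact absurd (Finset.mem_univ β) h

end Family

end Groth.Agent.R2.H73.ProdIndep
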