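import Mathlib

/-!
# A Chase–Harrison–Rosenberg type splitting with coefficients in a subring (helper73)

`exists_conductor_notMem`: a finite group `N` acts on `A`; `E ⊆ A` a subring containing `A^N`; `P` a
prime of `A`; if every `σ ≠ 1` in `N` is seen to act non-trivially modulo `P` by an element of `E`
(whose `σ`-translate is again in `E`), then there is `f ∈ E ∖ P` with `f • A ⊆ E`.

`exists_invariant_conductor`: if such conductor elements exist for all conjugates of `P` under a
finite group `H` stabilising `E`, then there is an `H`-invariant one.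
-/

set_option autoImplicit false
universe u w

open scoped Pointwise

namespace Groth.Agent.R2.H73.Split

section Split

variable {A : Type u} [CommRing A] {N : Type w} [Group N] [Fintype N] [MulSemiringAction N A]

theorem exists_conductor_notMem (E : Subring A) (hE : ∀ a : A, (∀ ν : N, ν • a = a) → a ∈ E)
    (P : Ideal A) [hP : P.IsPrime]
    (hw : ∀ σ : N, σ ≠ 1 → ∃ y ∈ E, σ • y ∈ E ∧ σ • y - y ∉ P) :
    ∃ f ∈ E, f ∉ P ∧ ∀ a : A, f * a ∈ E := by
  classical
  have hw' : ∀ σ : N, ∃ y ∈ E, σ • y ∈ E ∧ (σ ≠ 1 → σ • y - y ∉ P) := by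
    intro σ
    by_cases hσ : σ = 1
    · exact ⟨0, E.zero_mem, by rw [smul_zero]; exact E.zero_mem, fun h => absurd hσ h⟩
    · obtain ⟨y, h1, h2, h3⟩ := hw σ hσ
      exact ⟨y, h1, h2, fun _ => h3⟩
  choose y hyE hσyE hnot using hw'
  set S : Finset N := Finset.univ.erase (1 : N) with hS
  let X : Finset N → A := fun U => ∏ σ ∈ S \ U, -(σ • y σ)
  let Y : Finset N → A := fun U => ∏ σ ∈ U, y σ
  let e : N → A := fun τ => ∏ σ ∈ S, (τ • y σ + -(σ • y σ))
  have he : ∀ τ : N, e τ = ∑ U ∈ S.powerset, τ • Y U * X U := by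
    intro τ
    change ∏ σ ∈ S, (τ • y σ + -(σ • y σ)) = _
    rw [Finset.prod_add]
    apply Finset.sum_congr rfl
    intro U _
    congr 1
    exact Finset.smul_prod'.symm
  have he1 : e 1 ∉ P := by
    change ∏ σ ∈ S, ((1 : N) • y σ + -(σ • y σ)) ∉ P
    rw [hP.prod_mem_iff]
    rintro ⟨σ, hσS, hσ⟩
    have hσ1 : σ ≠ 1 := (Finset.mem_erase.1 hσS).1
    apply hnot σ hσ1
    rw [one_smul] at hσ
    have := P.neg_mem hσ
    rwa [neg_add, neg_neg, add_comm, ← sub_eq_add_neg] at this
  have heτ : ∀ τ : N, τ ≠ 1 → e τ = 0 := by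
    intro τ hτ
    apply Finset.prod_eq_zero (i := τ) (Finset.mem_erase.2 ⟨hτ, Finset.mem_univ τ⟩)
    rw [add_neg_cancel]
  have hXE : ∀ U, X U ∈ E := fun U =>
    Subring.prod_mem E (fun σ _ => E.neg_mem (hσyE σ))
  have he1E : e 1 ∈ E := by
    change ∏ σ ∈ S, ((1 : N) • y σ + -(σ • y σ)) ∈ E
    refine Subring.prod_mem E (fun σ _ => ?_)
    rw [one_smul]
    exact E.add_mem (hyE σ) (E.neg_mem (hσyE σ))
  refine ⟨e 1, he1E, he1, fun a => ?_⟩
  have hkey : e 1 * a = ∑ U ∈ S.powerset, X U * ∑ τ : N, τ • (Y U * a) := by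
    have h1 : e 1 * a = ∑ τ : N, τ • a * e τ := by
      rw [Finset.sum_eq_single (1 : N)]
      · rw [one_smul, mul_comm]
      · intro τ _ hτ
        rw [heτ τ hτ, mul_zero]
      · intro h
        exact absurd (Finset.mem_univ _) h
    rw [h1]
    simp_rw [he, Finset.mul_sum]
    rw [Finset.sum_comm]
    apply Finset.sum_congr rfl
    intro U _
    apply Finset.sum_congr rfl
    intro τ _
    rw [smul_mul']
    ring
  rw [hkey]
  refine Subring.sum_mem E (fun U _ => E.mul_mem (hXE U) (hE _ (fun ν => ?_)))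
  rw [Finset.smul_sum]
  refine Fintype.sum_equiv (Equiv.mulLeft ν) _ _ (fun τ => ?_)
  rw [Equiv.coe_mulLeft, mul_smul]

end Split

section Norm

variable {A : Type u} [CommRing A] {H : Type w} [Group H] [Fintype H] [MulSemiringAction H A]

theorem exists_invariant_conductor (E : Subring A) (hEstab : ∀ (h : H) (x : A), x ∈ E → h • x ∈ E)
    (P : Ideal A) [hP : P.IsPrime]
    (hc : ∀ h : H, ∃ f, f ∉ h • P ∧ ∀ a, f * a ∈ E) :
    ∃ r : A, (∀ h : H, h • r = r) ∧ r ∉ P ∧ ∀ a, r * a ∈ E := by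
  classical
  -- the conductor ideal
  let c : Ideal A :=
    { carrier := {x | ∀ a, x * a ∈ E}
      add_mem' := fun {x y} hx hy a => by
        rw [add_mul]
        exact E.add_mem (hx a) (hy a)
      zero_mem' := fun a => by
        rw [zero_mul]
        exact E.zero_mem
      smul_mem' := fun z x hx a => by
        rw [smul_eq_mul, mul_comm z x, mul_assoc]
        exact hx (z * a) }
  have hcmem : ∀ x, x ∈ c ↔ ∀ a, x * a ∈ E := fun x => Iff.rfl
  have hcstab : ∀ (h : H) (x : A), x ∈ c → h • x ∈ c := by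
    intro h x hx a
    have h1 : h • x * a = h • (x * h⁻¹ • a) := by
      rw [smul_mul', smul_inv_smul]
    rw [h1]
    exact hEstab h _ (hx _)
  -- prime avoidance
  have hnot : ¬ ((c : Set A) ⊆ ⋃ h ∈ ((Finset.univ : Finset H) : Set H),
      ((h • P : Ideal A) : Set A)) := by
    rw [Ideal.subset_union_prime (1 : H) (1 : H) (fun h _ _ _ => hP.smul h)]
    rintro ⟨h, -, hle⟩
    obtain ⟨f, hf, hfa⟩ := hc h
    exact hf (hle ((hcmem f).2 hfa))
  rw [Set.not_subset] at hnot
  obtain ⟨x, hxc, hx⟩ := hnot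
  have hxP : ∀ h : H, x ∉ h • P := by
    intro h hxh
    apply hx
    exact Set.mem_biUnion (Finset.mem_coe.2 (Finset.mem_univ h)) hxh
  refine ⟨∏ h : H, h • x, fun h => Finset.smul_prod_perm x h, ?_, ?_⟩
  · rw [hP.prod_mem_iff]
    rintro ⟨h, -, hh⟩
    apply hxP h⁻¹
    rw [Ideal.mem_pointwise_smul_iff_inv_smul_mem, inv_inv]
    exact hh
  · have hmem : ∏ h : H, h • x ∈ c := by
      rw [← Finset.mul_prod_erase Finset.univ (fun h : H => h • x) (Finset.mem_univ 1), one_smul]
      exact c.mul_mem_right _ hxc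
    exact (hcmem _).1 hmem

end Norm

end Groth.Agent.R2.H73.Split
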