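import Mathlib
import Groth.Agent.R2.H73InertiaQuot
import Groth.Agent.R2.H73ProdIndep
import Groth.Agent.R2.H73Split
import Groth.Agent.R2.H73Hartogs

/-!
# Rings of invariants of complementary subgroups generate (helper73)

`iSup_fixed_eq_top`: a finite commutative group `H` acts faithfully on a Noetherian normal domain `A`
with `A^H = R`; `(G i, N i)` families of subgroups with `G i ⊓ N i = ⊥`, `G i · N i = H`,
`G j ≤ N i` for `j ≠ i`, `⋂ N i = 1`; each `A^{N i}` is a finite free `R`-module; every prime of
height `≤ 1` of `A` has inertia group contained in some `G i`.  Then the `A^{N i}` generate `A` as an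
`R`-algebra.

Proof: products of bases of the `A^{N i}` are `R`-linearly independent (`ProdIndep.prod_indep`), so
their span `V` is free; `V` contains the algebra `E` generated by the `A^{N i}`.  At a prime `P` of
height `≤ 1` with inertia in `G i`, the group `N i` has trivial inertia and its non-trivial elements
are seen modulo `P` by elements of the `A^{N j}` (`InertiaQuot`), so a Chase–Harrison–Rosenberg
splitting (`Split`) gives an `H`-invariant `r ∉ P` with `r A ⊆ E`.  Algebraic Hartogs (`Hartogs`)
finishes.
-/

set_option autoImplicit false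
set_option linter.unusedSectionVars false
set_option linter.style.haveILetI false
universe u v w

open scoped Pointwise

namespace Groth.Agent.R2.H73.FixedGen

open Groth.Agent.R2.H73.InertiaQuot Groth.Agent.R2.H73.ProdIndep Groth.Agent.R2.H73.Split
  Groth.Agent.R2.H73.Hartogs

variable {R : Type u} [CommRing R] {A : Type v} [CommRing A] [IsDomain A] [IsIntegrallyClosed A]
  [IsNoetherianRing A] [Algebra R A]
  {H : Type w} [CommGroup H] [Finite H] [MulSemiringAction H A] [SMulCommClass H R A]
  [FaithfulSMul H A]
  {ι : Type*} [Fintype ι] [DecidableEq ι] [Nonempty ι] (G N : ι → Subgroup H)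

theorem iSup_fixed_eq_top (hinj : Function.Injective (algebraMap R A))
    (hfix : ∀ a : A, (∀ h : H, h • a = a) → a ∈ Set.range (algebraMap R A))
    (hGN : ∀ i j, i ≠ j → G i ≤ N j)
    (hdisj : ∀ i, G i ⊓ N i = ⊥) (hgen : ∀ i, ∀ h : H, ∃ g ∈ G i, ∃ ν ∈ N i, h = g * ν)
    (hinter : ∀ h : H, (∀ i, h ∈ N i) → h = 1)
    (hfree : ∀ i, Module.Free R (FixedPoints.subalgebra R A (N i)))
    (hfin : ∀ i, Module.Finite R (FixedPoints.subalgebra R A (N i)))
    (hinert : ∀ P : Ideal A, P.IsPrime → P.height ≤ 1 → ∃ i, P.inertia H ≤ G i) :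
    (⨆ i, FixedPoints.subalgebra R A (N i)) = ⊤ := by
  classical
  haveI : Fintype H := Fintype.ofFinite H
  haveI : IsDomain R := hinj.isDomain (algebraMap R A)
  set E : Subalgebra R A := ⨆ i, FixedPoints.subalgebra R A (N i) with hEdef
  have hBE : ∀ i (y : A), (∀ ν : N i, ν • y = y) → y ∈ E := fun i y hy =>
    (le_iSup (fun i => FixedPoints.subalgebra R A (N i)) i) hy
  -- the `A^{N i}` are stable under `H`
  have hstab : ∀ i (h : H) (y : A), (∀ ν : N i, ν • y = y) → ∀ ν : N i, ν • (h • y) = h • y := by
    intro i h y hy ν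
    change (ν : H) • (h • y) = h • y
    rw [← mul_smul, mul_comm, mul_smul]
    congr 1
    exact hy ν
  have hEstab : ∀ (h : H) (x : A), x ∈ E → h • x ∈ E := by
    intro h x hx
    have hle : E ≤ E.comap (MulSemiringAction.toAlgHom R A h) := by
      rw [hEdef]
      refine iSup_le (fun i y hy => ?_)
      rw [Subalgebra.mem_comap]
      exact hBE i _ (hstab i h y hy)
    exact hle hx
  -- bases
  let bb := fun i => Module.Free.chooseBasis R (FixedPoints.subalgebra R A (N i))
  let κ := fun i => Module.Free.ChooseBasisIndex R (FixedPoints.subalgebra R A (N i))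
  haveI : ∀ i, Fintype (κ i) := fun i => Module.Free.ChooseBasisIndex.fintype R _
  let b : ∀ i, κ i → A := fun i a => ((bb i a : FixedPoints.subalgebra R A (N i)) : A)
  have hb_mem : ∀ i a, ∀ ν : N i, ν • b i a = b i a := fun i a => (bb i a).2
  have hb_span : ∀ i, ∀ y : A, (∀ ν : N i, ν • y = y) → ∃ u : κ i → R, y = ∑ a, u a • b i a := by
    intro i y hy
    have hy' : y ∈ FixedPoints.subalgebra R A (N i) := hy
    refine ⟨fun a => (bb i).repr ⟨y, hy'⟩ a, ?_⟩
    have h1 := (bb i).sum_repr ⟨y, hy'⟩
    have h2 := congrArg (FixedPoints.subalgebra R A (N i)).val h1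
    rw [map_sum] at h2
    simp only [map_smul] at h2
    exact h2.symm
  have hb_indep : ∀ i, ∀ u : κ i → R, ∑ a, u a • b i a = 0 → u = 0 := by
    intro i u hu
    have h1 : ∑ a, u a • bb i a = 0 := by
      apply Subtype.val_injective
      change (FixedPoints.subalgebra R A (N i)).val (∑ a, u a • bb i a) = 0
      rw [map_sum]
      simp only [map_smul]
      exact hu
    funext a
    exact Fintype.linearIndependent_iff.1 (bb i).linearIndependent u h1 a
  let c : (∀ i, κ i) → A := fun α => ∏ i, b i (α i)
  have hcE : ∀ α, c α ∈ E := fun α =>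
    Subalgebra.prod_mem E (fun i _ => hBE i _ (hb_mem i (α i)))
  have hindep := prod_indep (R := R) G N b hinj hfix hGN hdisj hgen hb_mem hb_span hb_indep
  -- the span of the products
  let V : Submodule R A := Submodule.span R (Set.range c)
  have hcV : ∀ α, c α ∈ V := fun α => Submodule.subset_span ⟨α, rfl⟩
  have hVrepr : ∀ x ∈ V, ∃ u : (∀ i, κ i) → R, x = ∑ α, u α • c α := by
    intro x hx
    obtain ⟨u, hu⟩ := (Submodule.mem_span_range_iff_exists_fun R).1 hx
    exact ⟨u, hu.symm⟩
  have hVE : ∀ x ∈ V, x ∈ E := by
    intro x hx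
    obtain ⟨u, rfl⟩ := hVrepr x hx
    exact Subalgebra.sum_mem E (fun α _ => Subalgebra.smul_mem E (hcE α) _)
  -- `1 ∈ V`
  have hV1 : (1 : A) ∈ V := by
    have h1 : ∀ i, ∃ u : κ i → R, (1 : A) = ∑ a, u a • b i a := fun i =>
      hb_span i 1 (fun ν => smul_one ν)
    choose u hu using h1
    have h2 : (1 : A) = ∏ i : ι, ∑ a, u i a • b i a := by
      rw [Finset.prod_congr rfl (fun i _ => (hu i).symm), Finset.prod_const_one]
    rw [h2, Fintype.prod_sum]
    refine Submodule.sum_mem V (fun α _ => ?_)
    have h3 : ∏ i, u i (α i) • b i (α i) = (∏ i, u i (α i)) • c α := by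
      simp only [Algebra.smul_def, Finset.prod_mul_distrib, map_prod, c]
    rw [h3]
    exact V.smul_mem _ (hcV α)
  -- `A^{N i} · V ⊆ V`
  have hVmul : ∀ i (y : A), (∀ ν : N i, ν • y = y) → ∀ x ∈ V, y * x ∈ V := by
    intro i y hy x hx
    induction hx using Submodule.span_induction with
    | mem x hx =>
      obtain ⟨α, rfl⟩ := hx
      have h1 : c α = b i (α i) * ∏ j ∈ Finset.univ.erase i, b j (α j) :=
        (Finset.mul_prod_erase Finset.univ (fun j => b j (α j)) (Finset.mem_univ i)).symm
      have h2 : ∀ ν : N i, ν • (y * b i (α i)) = y * b i (α i) := fun ν => by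
        rw [smul_mul', hy ν, hb_mem]
      obtain ⟨w, hw⟩ := hb_span i _ h2
      rw [h1, ← mul_assoc, hw, Finset.sum_mul]
      refine Submodule.sum_mem V (fun a _ => ?_)
      rw [smul_mul_assoc]
      refine V.smul_mem _ ?_
      have h3 : b i a * ∏ j ∈ Finset.univ.erase i, b j (α j) = c (Function.update α i a) := by
        change _ = ∏ j, b j (Function.update α i a j)
        rw [← Finset.mul_prod_erase Finset.univ (fun j => b j (Function.update α i a j))
          (Finset.mem_univ i), Function.update_self]
        congr 1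
        apply Finset.prod_congr rfl
        intro j hj
        rw [Function.update_of_ne (Finset.ne_of_mem_erase hj)]
      rw [h3]
      exact hcV _
    | zero => rw [mul_zero]; exact V.zero_mem
    | add x₁ x₂ _ _ h₁ h₂ => rw [mul_add]; exact V.add_mem h₁ h₂
    | smul r x _ hx' => rw [mul_smul_comm]; exact V.smul_mem _ hx'
  -- `E ⊆ V`
  have hEV : ∀ x ∈ E, x ∈ V := by
    let M : Subalgebra R A :=
      { carrier := {x | ∀ v ∈ V, x * v ∈ V}
        mul_mem' := fun {x y} hx hy v hv => by
          rw [mul_assoc]
          exact hx _ (hy v hv)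
        add_mem' := fun {x y} hx hy v hv => by
          rw [add_mul]
          exact V.add_mem (hx v hv) (hy v hv)
        algebraMap_mem' := fun r v hv => by
          rw [← Algebra.smul_def]
          exact V.smul_mem r hv }
    have hle : E ≤ M := by
      rw [hEdef]
      exact iSup_le (fun i y hy => hVmul i y hy)
    intro x hx
    have := hle hx 1 hV1
    rwa [mul_one] at this
  -- conductor elements at primes of height `≤ 1`
  have hcond : ∀ P : Ideal A, P.IsPrime → P.height ≤ 1 →
      ∃ r : R, algebraMap R A r ∉ P ∧ ∀ a, algebraMap R A r * a ∈ E := by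
    intro P hP hht
    have hc : ∀ h : H, ∃ f, f ∉ h • P ∧ ∀ a, f * a ∈ E.toSubring := by
      intro h
      haveI hP' : (h • P).IsPrime := hP.smul h
      have hht' : (h • P).height ≤ 1 := by
        have h1 : (h • P) = Ideal.map ((MulSemiringAction.toRingEquiv H A h : A ≃+* A)) P := rfl
        rw [h1, RingEquiv.height_map]
        exact hht
      obtain ⟨i, hi⟩ := hinert (h • P) hP' hht'
      haveI : Fintype (N i) := Fintype.ofFinite _
      obtain ⟨f, -, hfP, hfa⟩ := exists_conductor_notMem (N := N i) E.toSubring
        (fun a ha => hBE i a ha) (h • P) (by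
          intro σ hσ
          -- some `N j` does not contain `σ`
          have hex : ∃ j, (σ : H) ∉ N j := by
            by_contra hcon
            push Not at hcon
            exact hσ (Subtype.ext (hinter σ hcon))
          obtain ⟨j, hj⟩ := hex
          have hij : i ≠ j := by
            rintro rfl
            exact hj σ.2
          by_contra hcon
          push Not at hcon
          obtain ⟨ν, hν⟩ := exists_mul_mem_inertia (fun a b => mul_comm a b) (N j) (h • P) (σ : H)
            (fun y hy => by
              by_contra hy'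
              exact hy' (hcon y (hBE j y hy) (hBE j _ (hstab j σ y hy))))
          have h1 : (ν : H)⁻¹ * (σ : H) ∈ N j := hGN i j hij (hi hν)
          have h2 := (N j).mul_mem ν.2 h1
          rw [mul_inv_cancel_left] at h2
          exact hj h2)
      exact ⟨f, hfP, hfa⟩
    obtain ⟨r, hrinv, hrP, hra⟩ := exists_invariant_conductor E.toSubring
      (fun h x hx => hEstab h x hx) P hc
    obtain ⟨r₀, rfl⟩ := hfix r hrinv
    exact ⟨r₀, hrP, hra⟩
  -- the final argument
  rw [eq_top_iff]
  intro a _
  obtain ⟨v, hv0, hva⟩ := hcond ⊥ Ideal.isPrime_bot (by rw [Ideal.height_bot]; exact zero_le_one)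
  have hv0' : algebraMap R A v ≠ 0 := fun h => hv0 (by rw [h]; exact Ideal.zero_mem _)
  obtain ⟨u, hu⟩ := hVrepr _ (hEV _ (hva a))
  -- divisibility of the coefficients
  have hdiv : ∀ α, algebraMap R A v ∣ algebraMap R A (u α) := by
    intro α
    apply dvd_of_forall_height_one _ _ hv0'
    intro P hP hht
    obtain ⟨s, hsP, hsa⟩ := hcond P hP (le_of_eq hht)
    obtain ⟨w, hw⟩ := hVrepr _ (hEV _ (hsa a))
    refine ⟨algebraMap R A s, hsP, ?_⟩
    have h1 : ∑ α, (s * u α - v * w α) • c α = 0 := by
      have h2 : ∑ α, (s * u α) • c α = algebraMap R A s * (algebraMap R A v * a) := by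
        rw [hu, Finset.mul_sum]
        apply Finset.sum_congr rfl
        intro α _
        rw [mul_smul, Algebra.smul_def s]
      have h3 : ∑ α, (v * w α) • c α = algebraMap R A v * (algebraMap R A s * a) := by
        rw [hw, Finset.mul_sum]
        apply Finset.sum_congr rfl
        intro α _
        rw [mul_smul, Algebra.smul_def v]
      simp_rw [sub_smul]
      rw [Finset.sum_sub_distrib, h2, h3]
      ring
    have h4 := congrFun (hindep _ h1) α
    rw [Pi.zero_apply, sub_eq_zero] at h4
    rw [← map_mul, h4, map_mul]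
    exact Dvd.intro _ rfl
  -- the quotients are invariant, hence in `R`
  have hquot : ∀ α, ∃ u' : R, u α = v * u' := by
    intro α
    obtain ⟨x, hx⟩ := hdiv α
    have hxinv : ∀ h : H, h • x = x := by
      intro h
      have h1 := congrArg (fun z => h • z) hx
      simp only [smul_mul', smul_algebraMap] at h1
      rw [hx] at h1
      exact (mul_left_cancel₀ hv0' h1).symm
    obtain ⟨u', rfl⟩ := hfix x hxinv
    refine ⟨u', hinj ?_⟩
    rw [hx, map_mul]
  choose u' hu' using hquot
  have hfinal : a = ∑ α, u' α • c α := by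
    apply mul_left_cancel₀ hv0'
    rw [hu, Finset.mul_sum]
    apply Finset.sum_congr rfl
    intro α _
    rw [hu' α, mul_smul, Algebra.smul_def v]
  rw [hfinal]
  exact Subalgebra.sum_mem E (fun α _ => Subalgebra.smul_mem E (hcE α) _)

end Groth.Agent.R2.H73.FixedGen
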