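import Mathlib

set_option autoImplicit false
set_option linter.style.haveILetI false
set_option linter.unusedSectionVars false
universe u

namespace Groth.Agent.R2.H73.GaloisClosure

open IntermediateField TensorProduct

section Sup

variable {K Ω : Type u} [Field K] [Field Ω] [Algebra K Ω] (E₁ E₂ : IntermediateField K Ω)
  [FiniteDimensional K E₁]

/-- the compositum of two intermediate fields is generated by them -/
theorem productMap_inclusion_surjective :
    Function.Surjective (Algebra.TensorProduct.productMap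
      (inclusion (le_sup_left : E₁ ≤ E₁ ⊔ E₂)) (inclusion (le_sup_right : E₂ ≤ E₁ ⊔ E₂))) := by
  intro x
  have hx : (x : Ω) ∈ (E₁ ⊔ E₂).toSubalgebra := x.2
  rw [sup_toSubalgebra_of_left, ← Subalgebra.range_val E₁.toSubalgebra,
    ← Subalgebra.range_val E₂.toSubalgebra, ← Algebra.TensorProduct.productMap_range] at hx
  obtain ⟨t, ht⟩ := hx
  refine ⟨t, Subtype.ext ?_⟩
  rw [← ht]
  have hcomp : ((E₁ ⊔ E₂).val).comp (Algebra.TensorProduct.productMap
      (inclusion (le_sup_left : E₁ ≤ E₁ ⊔ E₂)) (inclusion (le_sup_right : E₂ ≤ E₁ ⊔ E₂))) =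
      Algebra.TensorProduct.productMap E₁.toSubalgebra.val E₂.toSubalgebra.val := by
    apply Algebra.TensorProduct.ext'
    intro a b
    simp [Algebra.TensorProduct.productMap_apply_tmul]
    rfl
  exact congrArg (fun φ => φ t) hcomp

end Sup

section Closure

variable (K : Type u) [Field K]
  (P : ∀ (M : Type u) [Field M] [Algebra K M], Prop)
  (hsub : ∀ (L M : Type u) [Field L] [Field M] [Algebra K L] [Algebra K M] [Algebra L M]
    [IsScalarTower K L M] [FiniteDimensional K M] [Algebra.IsSeparable K M], P M → P L)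
  (hcomp : ∀ (L₁ L₂ M : Type u) [Field L₁] [Field L₂] [Field M] [Algebra K L₁] [Algebra K L₂]
    [Algebra K M] [FiniteDimensional K L₁] [Algebra.IsSeparable K L₁] [FiniteDimensional K L₂]
    [Algebra.IsSeparable K L₂] [FiniteDimensional K M] [Algebra.IsSeparable K M]
    (f₁ : L₁ →ₐ[K] M) (f₂ : L₂ →ₐ[K] M),
    Function.Surjective (Algebra.TensorProduct.productMap f₁ f₂) → P L₁ → P L₂ → P M)

include hsub hcomp in
/-- a property of finite separable extensions stable under subextensions and composita passes to
the Galois closure -/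
theorem exists_galois (L : Type u) [Field L] [Algebra K L] [FiniteDimensional K L]
    [Algebra.IsSeparable K L] (hL : P L) :
    ∃ (M : Type u) (_ : Field M) (_ : Algebra K M) (_ : FiniteDimensional K M)
      (_ : IsGalois K M) (_ : L →ₐ[K] M), P M := by
  classical
  haveI : IsAlgClosure K (AlgebraicClosure L) := IsAlgClosure.ofAlgebraic K L (AlgebraicClosure L)
  haveI : Normal K (AlgebraicClosure L) := IsAlgClosure.normal K (AlgebraicClosure L)
  -- the property for intermediate fields
  let Q : IntermediateField K (AlgebraicClosure L) → Prop := fun E =>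
    FiniteDimensional K E ∧ Algebra.IsSeparable K E ∧ P E
  have hQrange : ∀ f : L →ₐ[K] AlgebraicClosure L, Q f.fieldRange := by
    intro f
    let e : L ≃ₐ[K] f.fieldRange := AlgEquiv.ofInjectiveField f
    haveI : FiniteDimensional K f.fieldRange := Module.Finite.equiv e.toLinearEquiv
    haveI : Algebra.IsSeparable K f.fieldRange := AlgEquiv.Algebra.isSeparable e
    refine ⟨inferInstance, inferInstance, ?_⟩
    letI : Algebra f.fieldRange L := e.symm.toRingHom.toAlgebra
    haveI : IsScalarTower K f.fieldRange L :=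
      IsScalarTower.of_algebraMap_eq (fun x => (e.symm.commutes x).symm)
    exact hsub f.fieldRange L hL
  have hQsup : ∀ E₁, Q E₁ → ∀ E₂, Q E₂ → Q (E₁ ⊔ E₂) := by
    rintro E₁ ⟨hf₁, hs₁, hP₁⟩ E₂ ⟨hf₂, hs₂, hP₂⟩
    haveI := hf₁
    haveI := hf₂
    haveI := hs₁
    haveI := hs₂
    refine ⟨inferInstance, inferInstance, ?_⟩
    exact hcomp E₁ E₂ ↥(E₁ ⊔ E₂) (inclusion le_sup_left) (inclusion le_sup_right)
      (productMap_inclusion_surjective E₁ E₂) hP₁ hP₂
  haveI : Fintype (L →ₐ[K] AlgebraicClosure L) := Fintype.ofFinite _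
  have hne : (Finset.univ : Finset (L →ₐ[K] AlgebraicClosure L)).Nonempty :=
    ⟨IsScalarTower.toAlgHom K L (AlgebraicClosure L), Finset.mem_univ _⟩
  have hQN : Q (normalClosure K L (AlgebraicClosure L)) := by
    rw [normalClosure_def, ← Finset.sup_univ_eq_iSup, ← Finset.sup'_eq_sup hne]
    exact Finset.sup'_induction hne _ hQsup (fun f _ => hQrange f)
  obtain ⟨hfN, hsN, hPN⟩ := hQN
  haveI := hfN
  haveI := hsN
  refine ⟨↥(normalClosure K L (AlgebraicClosure L)), inferInstance, inferInstance, inferInstance,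
    isGalois_iff.mpr ⟨inferInstance, inferInstance⟩,
    IsScalarTower.toAlgHom K L (normalClosure K L (AlgebraicClosure L)), hPN⟩

end Closure

end Groth.Agent.R2.H73.GaloisClosure
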