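import Mathlib

set_option autoImplicit false
set_option linter.style.haveILetI false
set_option linter.unusedSectionVars false

namespace Groth.Agent.R2.H73.QuotLocal

open IsLocalRing

section Abstract

variable {A A' : Type*} [CommRing A] [CommRing A'] (ι : A →+* A') (q' : Ideal A') [q'.IsPrime]

/-- (A): the maximal ideal upstairs is generated by the maximal ideal downstairs. -/
theorem maximalIdeal_eq_map
    (hU : ∀ z ∈ q', ∃ y, y ∉ q' ∧ y * z ∈ (q'.comap ι).map ι) :
    maximalIdeal (Localization.AtPrime q') =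
      (maximalIdeal (Localization.AtPrime (q'.comap ι))).map
        (Localization.localRingHom (q'.comap ι) q' ι rfl) := by
  rw [← Localization.AtPrime.map_eq_maximalIdeal (I := q'.comap ι),
    ← Localization.AtPrime.map_eq_maximalIdeal (I := q'), Ideal.map_map]
  have hcomp : (Localization.localRingHom (q'.comap ι) q' ι rfl).comp
      (algebraMap A (Localization.AtPrime (q'.comap ι))) =
      (algebraMap A' (Localization.AtPrime q')).comp ι := by
    ext a
    simp [Localization.localRingHom_to_map]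
  rw [hcomp, ← Ideal.map_map]
  apply le_antisymm
  · rw [Ideal.map_le_iff_le_comap]
    intro z hz
    obtain ⟨y, hy, hyz⟩ := hU z hz
    rw [Ideal.mem_comap]
    have hu : IsUnit (algebraMap A' (Localization.AtPrime q') y) :=
      IsLocalization.map_units (Localization.AtPrime q') (⟨y, hy⟩ : q'.primeCompl)
    have h1 : algebraMap A' (Localization.AtPrime q') y * algebraMap A' (Localization.AtPrime q') z ∈
        Ideal.map (algebraMap A' (Localization.AtPrime q')) (Ideal.map ι (Ideal.comap ι q')) := by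
      rw [← map_mul]
      exact Ideal.mem_map_of_mem _ hyz
    obtain ⟨u, hu'⟩ := hu
    have := Ideal.mul_mem_left _ (↑u⁻¹ : Localization.AtPrime q') h1
    rwa [← hu', ← mul_assoc, Units.inv_mul, one_mul] at this
  · exact Ideal.map_mono Ideal.map_comap_le

/-- (B): the residue field extension is trivial. -/
theorem exists_sub_mem_maximalIdeal
    (hV : ∀ x : A', ∃ a b : A, b ∉ q'.comap ι ∧ ι b * x - ι a ∈ q')
    (x' : Localization.AtPrime q') :
    ∃ b : Localization.AtPrime (q'.comap ι),
      x' - Localization.localRingHom (q'.comap ι) q' ι rfl b ∈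
        maximalIdeal (Localization.AtPrime q') := by
  obtain ⟨x, y, rfl⟩ := IsLocalization.exists_mk'_eq q'.primeCompl x'
  obtain ⟨a₁, b₁, hb₁, h₁⟩ := hV x
  obtain ⟨a₂, b₂, hb₂, h₂⟩ := hV (y : A')
  have hy : (y : A') ∉ q' := y.2
  have hb₂' : ι b₂ ∉ q' := hb₂
  have hb₁' : ι b₁ ∉ q' := hb₁
  have ha₂' : ι a₂ ∉ q' := by
    intro h
    have : ι b₂ * y ∈ q' := by
      have := q'.add_mem h₂ h
      simpa using this
    rcases Ideal.IsPrime.mem_or_mem inferInstance this with h | h
    · exact hb₂' h
    · exact hy h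
  have ha₂ : a₂ ∉ q'.comap ι := ha₂'
  have hba : b₁ * a₂ ∈ (q'.comap ι).primeCompl := by
    intro h
    rcases Ideal.IsPrime.mem_or_mem inferInstance h with h | h
    · exact hb₁ h
    · exact ha₂ h
  refine ⟨IsLocalization.mk' _ (a₁ * b₂) ⟨b₁ * a₂, hba⟩, ?_⟩
  rw [Localization.localRingHom_mk']
  set u : Localization.AtPrime q' := algebraMap A' _ (y : A') * algebraMap A' _ (ι (b₁ * a₂)) with hu
  have hu1 : IsUnit u := by
    refine IsUnit.mul (IsLocalization.map_units _ y) ?_
    exact IsLocalization.map_units (Localization.AtPrime q')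
      (⟨ι (b₁ * a₂), hba⟩ : q'.primeCompl)
  have key : u * (IsLocalization.mk' (Localization.AtPrime q') x y -
      IsLocalization.mk' (Localization.AtPrime q') (ι (a₁ * b₂))
        (⟨ι (b₁ * a₂), hba⟩ : q'.primeCompl)) =
      algebraMap A' _ (ι a₂ * (ι b₁ * x - ι a₁) - ι a₁ * (ι b₂ * y - ι a₂)) := by
    have e1 := IsLocalization.mk'_spec (Localization.AtPrime q') x y
    have e2 := IsLocalization.mk'_spec (Localization.AtPrime q') (ι (a₁ * b₂))
      (⟨ι (b₁ * a₂), hba⟩ : q'.primeCompl)
    simp only at e2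
    rw [hu, mul_sub]
    have e3 : algebraMap A' (Localization.AtPrime q') (y : A') *
        algebraMap A' _ (ι (b₁ * a₂)) * IsLocalization.mk' (Localization.AtPrime q') x y =
        algebraMap A' _ x * algebraMap A' _ (ι (b₁ * a₂)) := by
      rw [← e1]; ring
    have e4 : algebraMap A' (Localization.AtPrime q') (y : A') *
        algebraMap A' _ (ι (b₁ * a₂)) * IsLocalization.mk' (Localization.AtPrime q') (ι (a₁ * b₂))
        (⟨ι (b₁ * a₂), hba⟩ : q'.primeCompl) =
        algebraMap A' _ (y : A') * algebraMap A' _ (ι (a₁ * b₂)) := by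
      rw [← e2]; ring
    rw [e3, e4]
    simp only [map_mul, map_sub]
    ring
  have hmem : u * (IsLocalization.mk' (Localization.AtPrime q') x y -
      IsLocalization.mk' (Localization.AtPrime q') (ι (a₁ * b₂))
        (⟨ι (b₁ * a₂), hba⟩ : q'.primeCompl)) ∈ maximalIdeal (Localization.AtPrime q') := by
    rw [key, ← Localization.AtPrime.map_eq_maximalIdeal (I := q')]
    apply Ideal.mem_map_of_mem
    exact q'.sub_mem (q'.mul_mem_left _ h₁) (q'.mul_mem_left _ h₂)
  obtain ⟨v, hv⟩ := hu1
  have := Ideal.mul_mem_left _ (↑v⁻¹ : Localization.AtPrime q') hmem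
  rwa [← hv, ← mul_assoc, Units.inv_mul, one_mul] at this

/-- (C): surjectivity modulo powers of the maximal ideal. -/
theorem exists_sub_mem_pow
    (hU : ∀ z ∈ q', ∃ y, y ∉ q' ∧ y * z ∈ (q'.comap ι).map ι)
    (hV : ∀ x : A', ∃ a b : A, b ∉ q'.comap ι ∧ ι b * x - ι a ∈ q') (n : ℕ)
    (x' : Localization.AtPrime q') :
    ∃ b : Localization.AtPrime (q'.comap ι),
      x' - Localization.localRingHom (q'.comap ι) q' ι rfl b ∈
        maximalIdeal (Localization.AtPrime q') ^ n := by
  set φ := Localization.localRingHom (q'.comap ι) q' ι rfl with hφ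
  set m := maximalIdeal (Localization.AtPrime (q'.comap ι)) with hm
  set m' := maximalIdeal (Localization.AtPrime q') with hm'
  have hA : m' = m.map φ := maximalIdeal_eq_map ι q' hU
  induction n generalizing x' with
  | zero => exact ⟨0, by simp⟩
  | succ n ih =>
    obtain ⟨b, hb⟩ := ih x'
    -- elements of `m'^n` are approximated modulo `m'^(n+1)`
    have claim : ∀ w ∈ (m ^ n).map φ, ∃ c ∈ m ^ n, w - φ c ∈ m' ^ (n + 1) := by
      intro w hw
      refine Submodule.span_induction (p := fun w _ => ∃ c ∈ m ^ n, w - φ c ∈ m' ^ (n + 1))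
        ?_ ?_ ?_ ?_ hw
      · rintro _ ⟨c, hc, rfl⟩
        exact ⟨c, hc, by simp⟩
      · exact ⟨0, Ideal.zero_mem _, by simp⟩
      · rintro w₁ w₂ _ _ ⟨c₁, hc₁, h₁⟩ ⟨c₂, hc₂, h₂⟩
        refine ⟨c₁ + c₂, Ideal.add_mem _ hc₁ hc₂, ?_⟩
        have := Ideal.add_mem _ h₁ h₂
        rw [map_add]
        convert this using 1
        ring
      · rintro r w _ ⟨c, hc, h⟩
        obtain ⟨r₀, hr₀⟩ := exists_sub_mem_maximalIdeal ι q' hV r
        refine ⟨r₀ * c, Ideal.mul_mem_left _ _ hc, ?_⟩
        have h1 : r * (w - φ c) ∈ m' ^ (n + 1) := Ideal.mul_mem_left _ _ h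
        have h2 : (r - φ r₀) * φ c ∈ m' ^ (n + 1) := by
          rw [pow_succ']
          refine Ideal.mul_mem_mul hr₀ ?_
          rw [hA, ← Ideal.map_pow]
          exact Ideal.mem_map_of_mem _ hc
        have := Ideal.add_mem _ h1 h2
        rw [smul_eq_mul, map_mul]
        convert this using 1
        ring
    have hb' : x' - φ b ∈ (m ^ n).map φ := by
      rw [Ideal.map_pow, ← hA]; exact hb
    obtain ⟨c, _, hc⟩ := claim _ hb'
    refine ⟨b + c, ?_⟩
    rw [map_add]
    convert hc using 1
    ring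

/-- (D): the kernel modulo powers of the maximal ideal. -/
theorem comap_pow_eq
    (hU : ∀ z ∈ q', ∃ y, y ∉ q' ∧ y * z ∈ (q'.comap ι).map ι)
    (ρ : A' →+ A) (hρ : ∀ a x, ρ (ι a * x) = a * ρ x)
    (hρ' : ∀ y, y ∉ q' → ρ y ∉ q'.comap ι) (n : ℕ) :
    Ideal.comap (Localization.localRingHom (q'.comap ι) q' ι rfl)
        (maximalIdeal (Localization.AtPrime q') ^ n) =
      maximalIdeal (Localization.AtPrime (q'.comap ι)) ^ n := by
  set φ := Localization.localRingHom (q'.comap ι) q' ι rfl with hφ
  set m := maximalIdeal (Localization.AtPrime (q'.comap ι)) with hm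
  set m' := maximalIdeal (Localization.AtPrime q') with hm'
  have hA : m' = m.map φ := maximalIdeal_eq_map ι q' hU
  apply le_antisymm
  · intro b hb
    rw [Ideal.mem_comap] at hb
    obtain ⟨a, s, rfl⟩ := IsLocalization.exists_mk'_eq (q'.comap ι).primeCompl b
    -- reduce to `b = algebraMap a`
    have hb2 : algebraMap A' (Localization.AtPrime q') (ι a) ∈ m' ^ n := by
      have := Ideal.mul_mem_right (φ (algebraMap A _ (s : A))) _ hb
      rw [← map_mul, IsLocalization.mk'_spec, hφ, Localization.localRingHom_to_map] at this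
      exact this
    -- `m'^n` is the extension of `(p^n) A'`
    have hm'n : m' ^ n = (((q'.comap ι) ^ n).map ι).map (algebraMap A' (Localization.AtPrime q')) := by
      rw [hA, hm, ← Localization.AtPrime.map_eq_maximalIdeal (I := q'.comap ι), Ideal.map_map,
        ← Ideal.map_pow, Ideal.map_map]
      congr 1
      ext a
      simp [hφ, Localization.localRingHom_to_map]
    rw [hm'n, IsLocalization.mem_map_algebraMap_iff q'.primeCompl] at hb2
    obtain ⟨⟨⟨w, hw⟩, y⟩, hwy⟩ := hb2
    simp only at hwy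
    rw [← map_mul, IsLocalization.eq_iff_exists q'.primeCompl] at hwy
    obtain ⟨c, hc⟩ := hwy
    -- `ρ` maps `(p^n) A'` into `p^n`
    have claim : ∀ w ∈ ((q'.comap ι) ^ n).map ι, ∀ x, ρ (x * w) ∈ (q'.comap ι) ^ n := by
      intro w hw
      refine Submodule.span_induction (p := fun w _ => ∀ x, ρ (x * w) ∈ (q'.comap ι) ^ n)
        ?_ ?_ ?_ ?_ hw
      · rintro _ ⟨a₀, ha₀, rfl⟩ x
        rw [mul_comm, hρ]
        exact Ideal.mul_mem_right _ _ ha₀
      · intro x; simp
      · intro w₁ w₂ _ _ h₁ h₂ x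
        rw [mul_add, map_add]
        exact Ideal.add_mem _ (h₁ x) (h₂ x)
      · intro r w _ h x
        rw [smul_eq_mul, ← mul_assoc]
        exact h _
    have h3 : a * ρ ((c : A') * (y : A')) ∈ (q'.comap ι) ^ n := by
      rw [← hρ]
      have : ι a * ((c : A') * (y : A')) = (c : A') * w := by
        rw [← hc]; ring
      rw [this]
      exact claim w hw _
    have h4 : ρ ((c : A') * (y : A')) ∉ q'.comap ι := hρ' _ (c * y).2
    -- conclude
    have h5 : algebraMap A (Localization.AtPrime (q'.comap ι)) a *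
        algebraMap A _ (ρ ((c : A') * (y : A'))) ∈ m ^ n := by
      rw [hm, ← Localization.AtPrime.map_eq_maximalIdeal (I := q'.comap ι), ← Ideal.map_pow,
        ← map_mul]
      exact Ideal.mem_map_of_mem _ h3
    have hu : IsUnit (algebraMap A (Localization.AtPrime (q'.comap ι)) (ρ ((c : A') * (y : A')))) :=
      IsLocalization.map_units _ (⟨_, h4⟩ : (q'.comap ι).primeCompl)
    obtain ⟨v, hv⟩ := hu
    have h6 : algebraMap A (Localization.AtPrime (q'.comap ι)) a ∈ m ^ n := by
      have := Ideal.mul_mem_right (↑v⁻¹ : Localization.AtPrime (q'.comap ι)) _ h5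
      rwa [← hv, mul_assoc, Units.mul_inv, mul_one] at this
    have hs : IsUnit (algebraMap A (Localization.AtPrime (q'.comap ι)) (s : A)) :=
      IsLocalization.map_units _ s
    obtain ⟨v', hv'⟩ := hs
    have h7 : IsLocalization.mk' (Localization.AtPrime (q'.comap ι)) a s =
        algebraMap A _ a * ↑v'⁻¹ := by
      rw [Units.eq_mul_inv_iff_mul_eq, hv', IsLocalization.mk'_spec]
    rw [h7]
    exact Ideal.mul_mem_right _ _ h6
  · rw [hA, ← Ideal.map_pow]
    exact Ideal.le_comap_map

/-- The abstract criterion. -/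
theorem surj_and_comap
    (hU : ∀ z ∈ q', ∃ y, y ∉ q' ∧ y * z ∈ (q'.comap ι).map ι)
    (hV : ∀ x : A', ∃ a b : A, b ∉ q'.comap ι ∧ ι b * x - ι a ∈ q')
    (ρ : A' →+ A) (hρ : ∀ a x, ρ (ι a * x) = a * ρ x)
    (hρ' : ∀ y, y ∉ q' → ρ y ∉ q'.comap ι) (n : ℕ) :
    Function.Surjective ((Ideal.Quotient.mk (maximalIdeal (Localization.AtPrime q') ^ n)).comp
        (Localization.localRingHom (q'.comap ι) q' ι rfl)) ∧
      Ideal.comap (Localization.localRingHom (q'.comap ι) q' ι rfl)
          (maximalIdeal (Localization.AtPrime q') ^ n) =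
        maximalIdeal (Localization.AtPrime (q'.comap ι)) ^ n := by
  refine ⟨?_, comap_pow_eq ι q' hU ρ hρ hρ' n⟩
  intro x
  obtain ⟨x', rfl⟩ := Ideal.Quotient.mk_surjective x
  obtain ⟨b, hb⟩ := exists_sub_mem_pow ι q' hU hV n x'
  refine ⟨b, ?_⟩
  rw [RingHom.comp_apply, eq_comm, Ideal.Quotient.eq]
  exact hb

end Abstract

open scoped Pointwise

section Inv

variable {G R : Type*} [Group G] [Finite G] [CommRing R] [MulSemiringAction G R] (H : Subgroup G)

noncomputable local instance instFintypeQuot : Fintype (G ⧸ H) := Fintype.ofFinite _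

/-- The conjugate of `z` indexed by a coset. -/
noncomputable def conj (z : R) (c : G ⧸ H) : R := (Quotient.out c : G) • z

/-- The relative trace `R^H → R^G`. -/
noncomputable def trH (z : R) : R := ∑ c : G ⧸ H, conj H z c

variable {H}

theorem conj_mk {z : R} (hz : ∀ h ∈ H, h • z = z) (g : G) :
    conj H z (g : G ⧸ H) = g • z := by
  obtain ⟨h, hh⟩ := QuotientGroup.mk_out_eq_mul H g
  unfold conj
  rw [hh, mul_smul, hz _ h.2]

theorem smul_conj {z : R} (hz : ∀ h ∈ H, h • z = z) (σ : G) (c : G ⧸ H) :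
    σ • conj H z c = conj H z (σ • c) := by
  induction c using QuotientGroup.induction_on with
  | H g =>
    rw [MulAction.Quotient.smul_mk, conj_mk hz, conj_mk hz, smul_eq_mul, mul_smul]

theorem smul_trH {z : R} (hz : ∀ h ∈ H, h • z = z) (σ : G) : σ • trH H z = trH H z := by
  unfold trH
  rw [Finset.smul_sum]
  simp_rw [smul_conj hz]
  exact Equiv.sum_comp (MulAction.toPerm σ) (fun c => conj H z c)

theorem trH_add (z w : R) : trH H (z + w) = trH H z + trH H w := by
  unfold trH conj
  simp_rw [smul_add]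
  exact Finset.sum_add_distrib

theorem trH_mul_of_fixed {a : R} (ha : ∀ g : G, g • a = a) (z : R) :
    trH H (a * z) = a * trH H z := by
  unfold trH conj
  simp_rw [smul_mul', ha]
  rw [Finset.mul_sum]

theorem trH_sub_mem {z : R} (hz : ∀ h ∈ H, h • z = z) (q : Ideal R)
    (hw : ∀ g, g ∉ H → g • z ∈ q) : trH H z - z ∈ q := by
  classical
  unfold trH
  rw [← Finset.add_sum_erase _ _ (Finset.mem_univ ((1 : G) : G ⧸ H)), conj_mk hz, one_smul,
    add_sub_cancel_left]
  refine Ideal.sum_mem _ fun c hc => ?_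
  induction c using QuotientGroup.induction_on with
  | H g =>
    rw [conj_mk hz]
    apply hw
    intro hg
    apply Finset.ne_of_mem_erase hc
    rw [QuotientGroup.eq]
    simpa using hg

/-- A separating `H`-invariant element: outside `q`, but all its conjugates by `g ∉ H` are in `q`. -/
theorem exists_sep (q : Ideal R) [hq : q.IsPrime] (hD : MulAction.stabilizer G q ≤ H) :
    ∃ t : R, (∀ h ∈ H, h • t = t) ∧ t ∉ q ∧ ∀ g, g ∉ H → g • t ∈ q := by
  classical
  obtain ⟨_⟩ := nonempty_fintype G
  -- Step 1: an element `a` in all `g • q`, `g ∉ H`, but in no `h • q`, `h ∈ H`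
  let J : Ideal R := Finset.inf {g : G | g ∉ H} (fun g ↦ g • q)
  have h1 : ¬ ((J : Set R) ⊆ ⋃ h ∈ ((({h : G | h ∈ H} : Finset G)) : Set G), ((h • q : Ideal R) : Set R)) := by
    rw [Ideal.subset_union_prime 1 1 (fun _ _ _ _ ↦ hq.smul _)]
    rintro ⟨h, hh, hJ⟩
    rw [Ideal.IsPrime.inf_le' (hq.smul h)] at hJ
    obtain ⟨g, hg1, hg2⟩ := hJ
    have hh' : h ∈ H := (Finset.mem_filter.mp hh).2
    have hg' : g ∉ H := (Finset.mem_filter.mp hg1).2
    have h3 : (h⁻¹ * g) • q ≤ q := by
      intro x hx
      rw [mul_smul] at hx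
      have := hg2 (Ideal.mem_inv_pointwise_smul_iff.mp hx)
      have h4 := Ideal.smul_mem_pointwise_smul h⁻¹ _ _ this
      rwa [inv_smul_smul, inv_smul_smul] at h4
    have h5 : h⁻¹ * g ∈ H := hD (smul_eq_of_smul_le h3)
    apply hg'
    have := H.mul_mem hh' h5
    rwa [mul_inv_cancel_left] at this
  obtain ⟨a, haJ, ha⟩ := Set.not_subset.mp h1
  have ha1 : ∀ g : G, g ∉ H → a ∈ g • q := fun g hg ↦
    (Finset.inf_le (Finset.mem_filter.mpr ⟨Finset.mem_univ g, hg⟩) : J ≤ g • q) haJ
  have ha2 : ∀ h : G, h ∈ H → a ∉ h • q := by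
    intro h hh hah
    apply ha
    exact Set.mem_biUnion (Finset.mem_coe.mpr (Finset.mem_filter.mpr ⟨Finset.mem_univ h, hh⟩)) hah
  -- Step 2: the `H`-norm of `a`
  letI : Fintype H := Fintype.ofFinite _
  refine ⟨∏ h : H, (h : G) • a, ?_, ?_, ?_⟩
  · intro h hh
    rw [Finset.smul_prod']
    simp_rw [← mul_smul]
    exact Fintype.prod_equiv (Equiv.mulLeft (⟨h, hh⟩ : H)) _ _ (fun x => rfl)
  · rw [hq.prod_mem_iff]
    rintro ⟨h, -, hh⟩
    apply ha2 (h⁻¹ : H) (H.inv_mem h.2)
    rw [Ideal.mem_pointwise_smul_iff_inv_smul_mem]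
    simpa using hh
  · intro g hg
    have hg' : g⁻¹ ∉ H := fun h => hg (by simpa using H.inv_mem h)
    have h6 := ha1 g⁻¹ hg'
    rw [Ideal.mem_pointwise_smul_iff_inv_smul_mem, inv_inv] at h6
    rw [Finset.smul_prod']
    apply Ideal.prod_mem _ (i := (1 : H)) (Finset.mem_univ _)
    simpa using h6

open Polynomial in
/-- The characteristic polynomial of a `t`-like element over the invariants gives an
"unramifiedness" relation. -/
theorem key_poly {s : R} (hs : ∀ h ∈ H, h • s = s) (q : Ideal R) [hq : q.IsPrime]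
    (hsq : ∀ g, g ∉ H → g • s ∈ q) :
    ∃ (τ : R) (a : ℕ → R) (m : ℕ), (∀ g : G, g • τ = τ) ∧ τ - s ∈ q ∧
      (∀ k, ∀ g : G, g • a k = a k) ∧ (∀ k, k < m → a k ∈ q) ∧
      s ^ m * (s - τ) = ∑ k ∈ Finset.range m, a k * s ^ k := by
  classical
  haveI : Nontrivial R := nontrivial_of_ne (0 : R) 1
    (fun h => hq.ne_top (by rw [Ideal.eq_top_iff_one, ← h]; exact q.zero_mem))
  obtain ⟨N, hN⟩ : ∃ N, Fintype.card (G ⧸ H) = N + 1 :=
    Nat.exists_eq_succ_of_ne_zero Fintype.card_ne_zero
  set P : R[X] := ∏ c : G ⧸ H, (X - C (conj H s c)) with hP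
  have hmonic : P.Monic := monic_prod_of_monic _ _ (fun c _ => monic_X_sub_C _)
  have hdeg : P.natDegree = N + 1 := by
    rw [hP, natDegree_finsetProd_X_sub_C_eq_card, Finset.card_univ, hN]
  -- invariance of the coefficients
  have hinv : ∀ σ : G, P.map (MulSemiringAction.toRingHom G R σ) = P := by
    intro σ
    rw [hP, Polynomial.map_prod]
    simp only [Polynomial.map_sub, Polynomial.map_X, Polynomial.map_C,
      MulSemiringAction.toRingHom_apply, smul_conj hs]
    exact Equiv.prod_comp (MulAction.toPerm σ) (fun c => X - C (conj H s c))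
  have hcoeff : ∀ k, ∀ σ : G, σ • P.coeff k = P.coeff k := by
    intro k σ
    have := congrArg (fun p => p.coeff k) (hinv σ)
    simpa [Polynomial.coeff_map] using this
  -- reduction modulo `q`
  have hmod : P.map (Ideal.Quotient.mk q) = (X - C (Ideal.Quotient.mk q s)) * X ^ N := by
    rw [hP, Polynomial.map_prod, ← Finset.mul_prod_erase _ _ (Finset.mem_univ ((1 : G) : G ⧸ H))]
    congr 1
    · simp [conj_mk hs]
    · have : ∀ c ∈ Finset.univ.erase (((1 : G) : G ⧸ H)),
          Polynomial.map (Ideal.Quotient.mk q) (X - C (conj H s c)) = X := by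
        intro c hc
        induction c using QuotientGroup.induction_on with
        | H g =>
          have hg : g ∉ H := by
            intro hg
            apply Finset.ne_of_mem_erase hc
            rw [QuotientGroup.eq]
            simpa using hg
          have : Ideal.Quotient.mk q (g • s) = 0 := Ideal.Quotient.eq_zero_iff_mem.mpr (hsq g hg)
          simp [conj_mk hs, this]
      rw [Finset.prod_congr rfl this, Finset.prod_const, Finset.card_erase_of_mem (Finset.mem_univ _),
        Finset.card_univ, hN, Nat.add_sub_cancel]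
  have hlow : ∀ k, k < N → P.coeff k ∈ q := by
    intro k hk
    have := congrArg (fun p => p.coeff k) hmod
    simp only [Polynomial.coeff_map, coeff_mul_X_pow', if_neg (not_le.mpr hk)] at this
    exact Ideal.Quotient.eq_zero_iff_mem.mp this
  have hN' : P.coeff N + s ∈ q := by
    have := congrArg (fun p => p.coeff N) hmod
    simp only [Polynomial.coeff_map, coeff_mul_X_pow', le_refl, if_true, Nat.sub_self] at this
    rw [← Ideal.Quotient.eq_zero_iff_mem, map_add, this]
    simp
  -- `s` is a root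
  have hroot : P.eval s = 0 := by
    rw [hP, Polynomial.eval_prod]
    apply Finset.prod_eq_zero (Finset.mem_univ ((1 : G) : G ⧸ H))
    simp [conj_mk hs]
  have hexp : P.eval s = ∑ k ∈ Finset.range N, P.coeff k * s ^ k + P.coeff N * s ^ N + s ^ (N + 1) := by
    rw [eval_eq_sum_range' (n := N + 2) (by omega), Finset.sum_range_succ, Finset.sum_range_succ]
    have : P.coeff (N + 1) = 1 := by
      rw [← hdeg]; exact hmonic.coeff_natDegree
    rw [this, one_mul]
  refine ⟨-P.coeff N, fun k => -P.coeff k, N, ?_, ?_, ?_, ?_, ?_⟩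
  · intro g; rw [smul_neg, hcoeff]
  · have := q.neg_mem hN'
    convert this using 1
    ring
  · intro k g; rw [smul_neg, hcoeff]
  · intro k hk; exact q.neg_mem (hlow k hk)
  · rw [hroot] at hexp
    simp only [neg_mul, Finset.sum_neg_distrib]
    linear_combination (-1 : R) * hexp

end Inv


section Main

variable {G R : Type*} [Group G] [Finite G] [CommRing R] [MulSemiringAction G R] {H : Subgroup G}

theorem mem_fixH {x : R} : x ∈ FixedPoints.subring R H ↔ ∀ h ∈ H, h • x = x :=
  ⟨fun hx h hh => hx ⟨h, hh⟩, fun hx h => hx h.1 h.2⟩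

/-- Subtype version of `key_poly`. -/
theorem key_poly' (hle : FixedPoints.subring R G ≤ FixedPoints.subring R H)
    (q : Ideal R) [hq : q.IsPrime] (s : FixedPoints.subring R H)
    (hsq : ∀ g, g ∉ H → g • (s : R) ∈ q) :
    ∃ (τ : FixedPoints.subring R G) (m : ℕ), (τ : R) - (s : R) ∈ q ∧
      s ^ m * (s - Subring.inclusion hle τ) ∈
        Ideal.map (Subring.inclusion hle)
          (Ideal.comap (Subring.inclusion hle) (Ideal.comap (FixedPoints.subring R H).subtype q)) := by
  obtain ⟨τ, a, m, hτ, hτs, ha, haq, heq⟩ := key_poly (mem_fixH.mp s.2) q hsq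
  refine ⟨⟨τ, hτ⟩, m, hτs, ?_⟩
  have hE : ∑ k ∈ Finset.range m, Subring.inclusion hle ⟨a k, ha k⟩ * s ^ k ∈
      Ideal.map (Subring.inclusion hle)
          (Ideal.comap (Subring.inclusion hle) (Ideal.comap (FixedPoints.subring R H).subtype q)) := by
    refine Ideal.sum_mem _ fun k hk => Ideal.mul_mem_right _ _ (Ideal.mem_map_of_mem _ ?_)
    exact haq k (Finset.mem_range.mp hk)
  convert hE using 1
  apply Subtype.ext
  push_cast
  simpa using heq

/-- SGA 1 V 2.2 (local form): for `H` containing the decomposition group of `q`, the local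
homomorphism `(R^G)_p → (R^H)_{q'}` is an isomorphism modulo all powers of the maximal ideals. -/
theorem main (H : Subgroup G) (q : Ideal R) [hq : q.IsPrime] (hD : MulAction.stabilizer G q ≤ H)
    (hle : FixedPoints.subring R G ≤ FixedPoints.subring R H) (n : ℕ) :
    let q' : Ideal (FixedPoints.subring R H) := Ideal.comap (FixedPoints.subring R H).subtype q
    let φ := Localization.localRingHom (Ideal.comap (Subring.inclusion hle) q') q'
      (Subring.inclusion hle) rfl
    Function.Surjective ((Ideal.Quotient.mk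
        (IsLocalRing.maximalIdeal (Localization.AtPrime q') ^ n)).comp φ) ∧
      Ideal.comap φ (IsLocalRing.maximalIdeal (Localization.AtPrime q') ^ n) =
        IsLocalRing.maximalIdeal
          (Localization.AtPrime (Ideal.comap (Subring.inclusion hle) q')) ^ n := by
  intro q' φ
  obtain ⟨t, htH, htq, htg⟩ := exists_sep q hD
  have hq' : ∀ x : FixedPoints.subring R H, x ∈ q' ↔ (x : R) ∈ q := fun x => Iff.rfl
  have hp : ∀ a : FixedPoints.subring R G, a ∈ Ideal.comap (Subring.inclusion hle) q' ↔ (a : R) ∈ q :=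
    fun a => Iff.rfl
  set t' : FixedPoints.subring R H := ⟨t, mem_fixH.mpr htH⟩ with ht'
  -- for `x ∈ R^H`, the element `x * t` is `t`-like
  have hlike : ∀ x : FixedPoints.subring R H, ∀ g, g ∉ H → g • ((x : R) * t) ∈ q := by
    intro x g hg
    rw [smul_mul']
    exact q.mul_mem_left _ (htg g hg)
  have hfix : ∀ x : FixedPoints.subring R H, ∀ h ∈ H, h • ((x : R) * t) = (x : R) * t := by
    intro x h hh
    rw [smul_mul', mem_fixH.mp x.2 h hh, htH h hh]
  have htr : ∀ x : FixedPoints.subring R H, trH H ((x : R) * t) - (x : R) * t ∈ q :=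
    fun x => trH_sub_mem (hfix x) q (hlike x)
  have htr1 : trH H t - t ∈ q := trH_sub_mem htH q htg
  refine surj_and_comap (Subring.inclusion hle) q' ?_ ?_
    { toFun := fun x => ⟨trH H ((x : R) * t), fun g => smul_trH (hfix x) g⟩
      map_zero' := by
        apply Subtype.ext
        simp [trH, conj]
      map_add' := fun x y => by
        apply Subtype.ext
        simp [add_mul, trH_add] } ?_ ?_ n
  · -- (U)
    intro z hz
    have hz' : (z : R) ∈ q := hz
    obtain ⟨τ₁, m₁, hτ₁, h₁⟩ := key_poly' hle q t' htg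
    have hs₂ : ∀ g, g ∉ H → g • ((t' * (1 + z) : FixedPoints.subring R H) : R) ∈ q := by
      intro g hg
      have : ((t' * (1 + z) : FixedPoints.subring R H) : R) = t * (1 + (z : R)) := by
        simp [ht']
      rw [this, smul_mul']
      exact q.mul_mem_right _ (htg g hg)
    obtain ⟨τ₂, m₂, hτ₂, h₂⟩ := key_poly' hle q (t' * (1 + z)) hs₂
    have hτ : τ₂ - τ₁ ∈ Ideal.comap (Subring.inclusion hle) q' := by
      rw [hp]
      have e : ((τ₂ - τ₁ : FixedPoints.subring R G) : R) =
          ((τ₂ : R) - ((t' * (1 + z) : FixedPoints.subring R H) : R)) - ((τ₁ : R) - t) +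
            t * (z : R) := by
        simp [ht']; ring
      rw [e]
      exact q.add_mem (q.sub_mem hτ₂ hτ₁) (q.mul_mem_left _ hz')
    refine ⟨t' ^ m₁ * (t' * (1 + z)) ^ m₂ * t', ?_, ?_⟩
    · rw [hq']
      have ht'q : (t' : R) ∉ q := htq
      have h1z : ((1 + z : FixedPoints.subring R H) : R) ∉ q := by
        intro h
        have : (1 : R) ∈ q := by
          have := q.sub_mem h hz'
          simpa using this
        exact hq.ne_top ((Ideal.eq_top_iff_one _).mpr this)
      push_cast
      intro h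
      rcases hq.mem_or_mem h with h | h
      · rcases hq.mem_or_mem h with h | h
        · exact ht'q (hq.mem_of_pow_mem _ h)
        · have := hq.mem_of_pow_mem _ h
          rcases hq.mem_or_mem this with h | h
          · exact ht'q h
          · exact h1z (by simpa using h)
      · exact ht'q h
    · have e : t' ^ m₁ * (t' * (1 + z)) ^ m₂ * t' * z =
          t' ^ m₁ * ((t' * (1 + z)) ^ m₂ * (t' * (1 + z) - Subring.inclusion hle τ₂)) +
            t' ^ m₁ * (t' * (1 + z)) ^ m₂ * Subring.inclusion hle (τ₂ - τ₁) -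
            (t' * (1 + z)) ^ m₂ * (t' ^ m₁ * (t' - Subring.inclusion hle τ₁)) := by
        rw [map_sub]; ring
      rw [e]
      exact Ideal.sub_mem _ (Ideal.add_mem _ (Ideal.mul_mem_left _ _ h₂)
        (Ideal.mul_mem_left _ _ (Ideal.mem_map_of_mem _ hτ))) (Ideal.mul_mem_left _ _ h₁)
  · -- (V)
    intro x
    refine ⟨⟨trH H ((x : R) * t), fun g => smul_trH (hfix x) g⟩,
      ⟨trH H t, fun g => smul_trH htH g⟩, ?_, ?_⟩
    · rw [hp]
      intro h
      apply htq
      have := q.sub_mem h htr1
      simpa using this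
    · rw [hq']
      have e : ((Subring.inclusion hle ⟨trH H t, fun g => smul_trH htH g⟩ * x -
          Subring.inclusion hle ⟨trH H ((x : R) * t), fun g => smul_trH (hfix x) g⟩ :
            FixedPoints.subring R H) : R) =
          (trH H t - t) * (x : R) - (trH H ((x : R) * t) - (x : R) * t) := by
        simp; ring
      rw [e]
      exact q.sub_mem (q.mul_mem_right _ htr1) (htr x)
  · -- `ρ` is linear
    intro a x
    apply Subtype.ext
    simp only [AddMonoidHom.coe_mk, ZeroHom.coe_mk, Subring.coe_mul]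
    rw [show ((Subring.inclusion hle a : FixedPoints.subring R H) : R) = (a : R) from rfl,
      mul_assoc, trH_mul_of_fixed a.2]
  · -- `ρ` preserves the complement of the primes
    intro y hy
    rw [hq'] at hy
    rw [hp]
    simp only [AddMonoidHom.coe_mk, ZeroHom.coe_mk]
    intro h
    have := q.sub_mem h (htr y)
    rw [sub_sub_cancel] at this
    rcases hq.mem_or_mem this with h | h
    · exact hy h
    · exact htq h

end Main
end Groth.Agent.R2.H73.QuotLocal
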