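import Mathlib
import Groth.Agent.R2.H73QuotLocal

set_option autoImplicit false
set_option linter.style.haveILetI false
set_option linter.unusedSectionVars false

namespace Groth.Agent.R2.H73.InertiaEt

open Groth.Agent.R2.H73.QuotLocal Polynomial
open scoped Pointwise

attribute [local instance] Groth.Agent.R2.H73.QuotLocal.instFintypeQuot

section Poly

variable {G R : Type*} [Group G] [Finite G] [CommRing R] [MulSemiringAction G R] (H : Subgroup G)

/-- The characteristic polynomial of `t` relative to the cosets of `H`. -/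
noncomputable def cp (t : R) : R[X] := ∏ c : G ⧸ H, (X - C (conj H t c))

open Classical in
/-- The cofactor of the coset `c` in the characteristic polynomial. -/
noncomputable def cof (t : R) (c : G ⧸ H) : R[X] :=
  ∏ c' ∈ Finset.univ.erase c, (X - C (conj H t c'))

/-- The Lagrange interpolation polynomial. -/
noncomputable def lag (t b : R) : R[X] := ∑ c : G ⧸ H, C (conj H b c) * cof H t c

variable {H}

theorem cp_monic (t : R) : (cp H t).Monic :=
  monic_prod_of_monic _ _ (fun _ _ => monic_X_sub_C _)

theorem cp_map {t : R} (ht : ∀ h ∈ H, h • t = t) (σ : G) :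
    (cp H t).map (MulSemiringAction.toRingHom G R σ) = cp H t := by
  unfold cp
  rw [Polynomial.map_prod]
  simp only [Polynomial.map_sub, Polynomial.map_X, Polynomial.map_C,
    MulSemiringAction.toRingHom_apply, smul_conj ht]
  exact Equiv.prod_comp (MulAction.toPerm σ) (fun c => X - C (conj H t c))

theorem cof_map {t : R} (ht : ∀ h ∈ H, h • t = t) (σ : G) (c : G ⧸ H) :
    (cof H t c).map (MulSemiringAction.toRingHom G R σ) = cof H t (σ • c) := by
  classical
  unfold cof
  rw [Polynomial.map_prod]
  simp only [Polynomial.map_sub, Polynomial.map_X, Polynomial.map_C,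
    MulSemiringAction.toRingHom_apply, smul_conj ht]
  refine Finset.prod_equiv (MulAction.toPerm σ) ?_ ?_
  · intro c'
    simp [Finset.mem_erase]
  · intro c' _
    rfl

theorem cp_eq_mul_cof (t : R) (c : G ⧸ H) : cp H t = (X - C (conj H t c)) * cof H t c := by
  classical
  unfold cp cof
  rw [← Finset.mul_prod_erase Finset.univ (fun c => X - C (conj H t c)) (Finset.mem_univ c)]

theorem derivative_cp (t : R) : derivative (cp H t) = ∑ c : G ⧸ H, cof H t c := by
  classical
  unfold cp cof
  rw [derivative_prod_finset]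
  simp

theorem eval_cof_of_ne {t : R} (ht : ∀ h ∈ H, h • t = t) {c : G ⧸ H}
    (hc : c ≠ ((1 : G) : G ⧸ H)) : (cof H t c).eval t = 0 := by
  classical
  unfold cof
  rw [eval_prod]
  apply Finset.prod_eq_zero (i := ((1 : G) : G ⧸ H))
  · exact Finset.mem_erase.mpr ⟨hc.symm, Finset.mem_univ _⟩
  · simp [conj_mk ht]

theorem eval_cp {t : R} (ht : ∀ h ∈ H, h • t = t) : (cp H t).eval t = 0 := by
  rw [cp_eq_mul_cof t ((1 : G) : G ⧸ H)]
  simp [conj_mk ht]

theorem eval_derivative_cp {t : R} (ht : ∀ h ∈ H, h • t = t) :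
    (derivative (cp H t)).eval t = (cof H t ((1 : G) : G ⧸ H)).eval t := by
  classical
  rw [derivative_cp, eval_finsetSum, Finset.sum_eq_single ((1 : G) : G ⧸ H)]
  · intro c _ hc
    exact eval_cof_of_ne ht hc
  · intro h; exact absurd (Finset.mem_univ _) h

theorem lag_map {t b : R} (ht : ∀ h ∈ H, h • t = t) (hb : ∀ h ∈ H, h • b = b) (σ : G) :
    (lag H t b).map (MulSemiringAction.toRingHom G R σ) = lag H t b := by
  unfold lag
  rw [Polynomial.map_sum]
  simp only [Polynomial.map_mul, Polynomial.map_C, MulSemiringAction.toRingHom_apply,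
    smul_conj hb, cof_map ht]
  exact Equiv.sum_comp (MulAction.toPerm σ) (fun c => C (conj H b c) * cof H t c)

theorem eval_lag {t b : R} (ht : ∀ h ∈ H, h • t = t) (hb : ∀ h ∈ H, h • b = b) :
    (lag H t b).eval t = b * (cof H t ((1 : G) : G ⧸ H)).eval t := by
  classical
  unfold lag
  rw [eval_finsetSum, Finset.sum_eq_single ((1 : G) : G ⧸ H)]
  · simp [conj_mk hb]
  · intro c _ hc
    rw [eval_mul, eval_cof_of_ne ht hc, mul_zero]
  · intro h; exact absurd (Finset.mem_univ _) h

theorem cp_dvd {t : R} (h : R[X])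
    (hh : ∀ σ : G, h.map (MulSemiringAction.toRingHom G R σ) = h) (h0 : h.eval t = 0) :
    cp H t ∣ h * derivative (cp H t) := by
  rw [derivative_cp, Finset.mul_sum]
  refine Finset.dvd_sum fun c _ => ?_
  rw [cp_eq_mul_cof t c]
  refine mul_dvd_mul_right ?_ _
  rw [dvd_iff_isRoot, IsRoot.def]
  have := Polynomial.eval_map_apply (p := h) (MulSemiringAction.toRingHom G R (Quotient.out c)) t
  rw [hh, h0, map_zero] at this
  exact this

theorem mem_lifts_of_map {p : R[X]}
    (hp : ∀ σ : G, p.map (MulSemiringAction.toRingHom G R σ) = p) :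
    p ∈ lifts (FixedPoints.subring R G).subtype := by
  rw [lifts_iff_coeff_lifts]
  intro n
  refine ⟨⟨p.coeff n, fun σ => ?_⟩, rfl⟩
  have := congrArg (fun p => p.coeff n) (hp σ)
  simpa [Polynomial.coeff_map] using this

end Poly

end Groth.Agent.R2.H73.InertiaEt
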