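import Mathlib
import Groth.Prelude.Def_Pi1
import Groth.Agent.R2.H73InertiaEtA

set_option autoImplicit false
set_option linter.style.haveILetI false
set_option linter.unusedSectionVars false

universe u

namespace Groth.Agent.R2.H73.InertiaEt

open Groth.Agent.R2.H73.QuotLocal Polynomial Pi1
open scoped Pointwise

attribute [local instance] Groth.Agent.R2.H73.QuotLocal.instFintypeQuot

section SE

variable {G R : Type u} [Group G] [Finite G] [CommRing R] [MulSemiringAction G R] (H : Subgroup G)

theorem coe_aeval (t : FixedPoints.subring R H) (p : (FixedPoints.subring R G)[X]) :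
    ((aeval t p : FixedPoints.subring R H) : R) =
      (p.map (FixedPoints.subring R G).subtype).eval (t : R) := by
  rw [eval_map, aeval_def]
  exact Polynomial.hom_eval₂ p (algebraMap (FixedPoints.subring R G) (FixedPoints.subring R H))
    (FixedPoints.subring R H).subtype t

/-- `(R^H)[1/F]` is standard étale over `R^G`, where `F = ∏_{c ≠ 1} (t - c t)`. -/
theorem isStandardEtale_away (t F : FixedPoints.subring R H)
    (hF : (F : R) = (cof H (t : R) ((1 : G) : G ⧸ H)).eval (t : R)) :
    Algebra.IsStandardEtale (FixedPoints.subring R G) (Localization.Away F) := by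
  classical
  have ht : ∀ h ∈ H, h • (t : R) = t := mem_fixH.mp t.2
  obtain ⟨PA, hPA, -, hPAm⟩ :=
    lifts_and_natDegree_eq_and_monic (mem_lifts_of_map (cp_map ht)) (cp_monic (H := H) (t : R))
  let P : StandardEtalePair (FixedPoints.subring R G) :=
    ⟨PA, hPAm, derivative PA, ⟨1, 0, 1, by ring⟩⟩
  let x : Localization.Away F := algebraMap (FixedPoints.subring R H) _ t
  have haeval : ∀ p : (FixedPoints.subring R G)[X],
      aeval x p = algebraMap (FixedPoints.subring R H) (Localization.Away F) (aeval t p) :=
    fun p => aeval_algebraMap_apply _ t p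
  have h1 : aeval t PA = 0 := Subtype.ext (by rw [coe_aeval, hPA, eval_cp ht]; rfl)
  have h2 : aeval t (derivative PA) = F :=
    Subtype.ext (by rw [coe_aeval, ← derivative_map, hPA, eval_derivative_cp ht, hF])
  have hmap : P.HasMap x :=
    ⟨by rw [haeval]; change algebraMap _ _ (aeval t PA) = 0; rw [h1, map_zero],
     by rw [haeval]; change IsUnit (algebraMap _ _ (aeval t (derivative PA))); rw [h2];
        exact IsLocalization.Away.algebraMap_isUnit F⟩
  have hlift : ∀ p : (FixedPoints.subring R G)[X], P.lift x hmap (aeval P.X p) = aeval x p := by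
    intro p
    rw [← aeval_algHom_apply, P.lift_X]
  refine ⟨⟨⟨P, x, hmap, ⟨?_, ?_⟩⟩⟩⟩
  · -- injectivity
    rw [injective_iff_map_eq_zero]
    intro z hz
    let Q : StandardEtalePresentation (FixedPoints.subring R G) P.Ring :=
      ⟨P, P.X, P.hasMap_X, by simpa [StandardEtalePair.lift_X_left] using Function.bijective_id⟩
    obtain ⟨p, n, hp⟩ := Q.exists_mul_aeval_x_g_pow_eq_aeval_x z
    change z * aeval P.X P.g ^ n = aeval P.X p at hp
    have hu : IsUnit (aeval P.X P.g) := P.hasMap_X.2
    -- `p(t) = 0` in the localization
    have h3 : aeval x p = 0 := by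
      rw [← hlift, ← hp, map_mul, hz, zero_mul]
    rw [haeval, IsLocalization.map_eq_zero_iff (Submonoid.powers F)] at h3
    obtain ⟨⟨_, k, rfl⟩, hk⟩ := h3
    simp only at hk
    -- the polynomial `h = (P')^k p` vanishes at `t`
    set h : (FixedPoints.subring R G)[X] := derivative PA ^ k * p with hh
    have h4 : aeval t h = 0 := by
      rw [hh, map_mul, map_pow, h2, hk]
    have h5 : (h.map (FixedPoints.subring R G).subtype).eval (t : R) = 0 := by
      rw [← coe_aeval, h4]; rfl
    have h6 : ∀ σ : G, (h.map (FixedPoints.subring R G).subtype).map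
        (MulSemiringAction.toRingHom G R σ) = h.map (FixedPoints.subring R G).subtype := by
      intro σ
      rw [Polynomial.map_map]
      congr 1
      ext a
      exact a.2 σ
    have h7 := cp_dvd (H := H) (t := (t : R)) _ h6 h5
    rw [← hPA, derivative_map, ← Polynomial.map_mul] at h7
    have h8 : PA ∣ h * derivative PA := by
      rw [← modByMonic_eq_zero_iff_dvd hPAm]
      apply Polynomial.map_injective _ (FixedPoints.subring R G).subtype_injective
      rw [Polynomial.map_modByMonic _ hPAm, Polynomial.map_zero,
        modByMonic_eq_zero_iff_dvd (hPAm.map _)]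
      exact h7
    have h9 : aeval P.X (h * derivative PA) = 0 := by
      obtain ⟨r, hr⟩ := h8
      rw [hr, map_mul]
      have : aeval P.X PA = 0 := P.hasMap_X.1
      rw [this, zero_mul]
    have h10 : aeval P.X p * aeval P.X P.g ^ (k + 1) = 0 := by
      have : h * derivative PA = p * derivative PA ^ (k + 1) := by rw [hh]; ring
      rw [this, map_mul, map_pow] at h9
      exact h9
    rw [(hu.pow (k + 1)).mul_left_eq_zero] at h10
    rw [h10, (hu.pow n).mul_left_eq_zero] at hp
    exact hp
  · -- surjectivity
    intro s
    have hgx : aeval x P.g = algebraMap (FixedPoints.subring R H) (Localization.Away F) F := by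
      rw [haeval]; change algebraMap _ _ (aeval t (derivative PA)) = _; rw [h2]
    -- the inverse of the image of `F`
    set v : Localization.Away F := P.lift x hmap ↑(P.hasMap_X.2.unit⁻¹) with hv
    have hvF : v * algebraMap (FixedPoints.subring R H) (Localization.Away F) F = 1 := by
      rw [← hgx, ← hlift, hv, ← map_mul]
      have : (↑(P.hasMap_X.2.unit⁻¹) : P.Ring) * aeval P.X P.g = 1 := by
        have := Units.inv_mul P.hasMap_X.2.unit
        rwa [IsUnit.unit_spec] at this
      rw [this, map_one]
    have hv_mem : v ∈ (P.lift x hmap).range := ⟨_, rfl⟩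
    have hF_range : ∀ b : FixedPoints.subring R H,
        algebraMap (FixedPoints.subring R H) (Localization.Away F) b *
          algebraMap (FixedPoints.subring R H) (Localization.Away F) F ∈ (P.lift x hmap).range := by
      intro b
      have hb : ∀ h ∈ H, h • (b : R) = b := mem_fixH.mp b.2
      obtain ⟨QA, hQA⟩ := (mem_lifts _).mp (mem_lifts_of_map (lag_map ht hb))
      have hQ : aeval t QA = b * F := by
        apply Subtype.ext
        rw [coe_aeval]
        change Polynomial.eval (t : R) (QA.map (FixedPoints.subring R G).subtype) = (b : R) * (F : R)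
        rw [hQA, eval_lag ht hb, hF]
      refine ⟨aeval P.X QA, ?_⟩
      change P.lift x hmap (aeval P.X QA) = _
      rw [hlift, haeval, hQ, map_mul]
    obtain ⟨n, a, hs⟩ := IsLocalization.Away.surj F s
    have hs' : s = (algebraMap (FixedPoints.subring R H) (Localization.Away F) a *
        algebraMap (FixedPoints.subring R H) (Localization.Away F) F) * v ^ (n + 1) := by
      rw [← hs, pow_succ]
      have e : (algebraMap (FixedPoints.subring R H) (Localization.Away F) F * v) = 1 := by
        rw [mul_comm]; exact hvF
      have e2 : (algebraMap (FixedPoints.subring R H) (Localization.Away F) F) ^ n * v ^ n = 1 := by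
        rw [← mul_pow, e, one_pow]
      linear_combination (-(s * (algebraMap (FixedPoints.subring R H) (Localization.Away F) F) ^ n
        * v ^ n)) * e - s * e2
    rw [hs']
    exact Subalgebra.mul_mem _ (hF_range a) (Subalgebra.pow_mem _ hv_mem _)

end SE

end Groth.Agent.R2.H73.InertiaEt
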