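import Mathlib

set_option autoImplicit false
set_option linter.style.haveILetI false
set_option linter.unusedSectionVars false

namespace Groth.Agent.R2.H73.InertiaEt

open scoped Pointwise

/-- A finite family of non-identity ring endomorphisms of a domain moves a common element. -/
theorem exists_moved {O : Type*} [CommRing O] [IsDomain O] {ι : Type*} [Finite ι]
    (σ : ι → (O →+* O)) (hσ : ∀ i, σ i ≠ RingHom.id O) : ∃ θ : O, ∀ i, σ i θ ≠ θ := by
  classical
  by_contra hcon
  push Not at hcon
  rcases finite_or_infinite O with hfin | hinf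
  · -- finite domain: a generator of the unit group
    obtain ⟨u, hu⟩ := IsCyclic.exists_generator (α := Oˣ)
    obtain ⟨i, hi⟩ := hcon (u : O)
    apply hσ i
    ext x
    by_cases hx : x = 0
    · simp [hx]
    · have hxu : IsUnit x := by
        have := Finite.isField_of_domain O
        obtain ⟨y, hy⟩ := this.mul_inv_cancel hx
        exact IsUnit.of_mul_eq_one y hy
      obtain ⟨v, rfl⟩ := hxu
      obtain ⟨k, rfl⟩ := Subgroup.mem_zpowers_iff.mp (hu v)
      have h1 : Units.map (σ i).toMonoidHom u = u := Units.ext hi
      have h2 : Units.map (σ i).toMonoidHom (u ^ k) = u ^ k := by rw [map_zpow, h1]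
      exact (Units.coe_map (σ i).toMonoidHom (u ^ k)).symm.trans (congrArg Units.val h2)
  · -- infinite domain: Neumann's lemma
    cases nonempty_fintype ι
    let S : ι → AddSubgroup O := fun i => ((σ i).eqLocus (RingHom.id O)).toAddSubgroup
    have hmemS : ∀ i x, x ∈ S i ↔ σ i x = x := fun i x => Iff.rfl
    have hcov : ⋃ i ∈ (Finset.univ : Finset ι), (0 : O) +ᵥ (S i : Set O) = Set.univ := by
      ext x
      simp only [zero_vadd, Set.mem_iUnion, Set.mem_univ, iff_true, Finset.mem_univ, exists_const]
      obtain ⟨i, hi⟩ := hcon x
      exact ⟨i, hi⟩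
    obtain ⟨k, -, hk⟩ := AddSubgroup.exists_finiteIndex_of_leftCoset_cover hcov
    obtain ⟨a, ha⟩ : ∃ a, σ k a ≠ a := by
      by_contra h
      push Not at h
      exact hσ k (RingHom.ext h)
    let f : O →+ O := (σ k).toAddMonoidHom - AddMonoidHom.id O
    have hf : ∀ x, f x = σ k x - x := fun x => rfl
    have hker : f.ker = S k := by
      ext x
      rw [AddMonoidHom.mem_ker, hf, sub_eq_zero, hmemS]
    have hfinrange : Finite f.range := by
      have : Finite (O ⧸ f.ker) := by rw [hker]; exact AddSubgroup.finite_quotient_of_finiteIndex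
      exact Finite.of_equiv _ (QuotientAddGroup.quotientKerEquivRange f).toEquiv
    have hd : f a ≠ 0 := by rw [hf]; exact sub_ne_zero.mpr ha
    have hSfin : Finite (S k) := by
      let j : S k → f.range := fun l => ⟨f ((l : O) * a), ⟨_, rfl⟩⟩
      have hj : ∀ l : S k, f ((l : O) * a) = (l : O) * f a := by
        intro l
        rw [hf, hf, map_mul, (hmemS k l).mp l.2]; ring
      apply Finite.of_injective j
      intro l l' h
      have := congrArg Subtype.val h
      simp only [j, hj] at this
      exact Subtype.ext (mul_right_cancel₀ hd this)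
    have hOfin : Finite O := by
      have h1 := AddSubgroup.card_mul_index (S k)
      have : Nat.card O ≠ 0 := by
        rw [← h1]
        exact mul_ne_zero (Nat.card_pos.ne') hk.index_ne_zero
      exact Nat.finite_of_card_ne_zero this
    exact not_finite O

end Groth.Agent.R2.H73.InertiaEt
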