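import Mathlib
import Groth.Prelude.Def_Pi1
import Groth.Agent.R2.H73InertiaEtB
import Groth.Agent.R2.H73InertiaEtC

set_option autoImplicit false
set_option linter.style.haveILetI false
set_option linter.unusedSectionVars false

universe u

namespace Groth.Agent.R2.H73.InertiaEt

open Groth.Agent.R2.H73.QuotLocal Polynomial Pi1
open scoped Pointwise

attribute [local instance] Groth.Agent.R2.H73.QuotLocal.instFintypeQuot

section Inertia

variable {G R : Type*} [Group G] [Finite G] [CommRing R] [MulSemiringAction G R]

/-- If `g` acts trivially on `R^I` modulo `q`, where `I` is the inertia group of `q`,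
then `g ∈ I`. -/
theorem mem_inertia_of_forall_fixed (q : Ideal R) [hq : q.IsPrime] (g : G)
    (hg : ∀ x : R, (∀ i ∈ q.inertia G, i • x = x) → g • x - x ∈ q) : g ∈ q.inertia G := by
  classical
  intro r
  change g • r - r ∈ q
  letI : Fintype (q.inertia G) := Fintype.ofFinite _
  set f : R[X] := ∏ i : q.inertia G, (X - C ((i : G) • r)) with hf
  have hinv : ∀ i₀ ∈ q.inertia G, f.map (MulSemiringAction.toRingHom G R i₀) = f := by
    intro i₀ hi₀
    rw [hf, Polynomial.map_prod]
    simp only [Polynomial.map_sub, Polynomial.map_X, Polynomial.map_C,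
      MulSemiringAction.toRingHom_apply, ← mul_smul]
    exact Fintype.prod_equiv (Equiv.mulLeft (⟨i₀, hi₀⟩ : q.inertia G)) _ _ (fun x => rfl)
  have hcoef : ∀ k, g • f.coeff k - f.coeff k ∈ q := by
    intro k
    apply hg
    intro i hi
    have := congrArg (fun p => p.coeff k) (hinv i hi)
    simpa [Polynomial.coeff_map] using this
  have hroot : f.eval r = 0 := by
    rw [hf, eval_prod]
    apply Finset.prod_eq_zero (Finset.mem_univ (1 : q.inertia G))
    simp
  have h1 : f.eval₂ (MulSemiringAction.toRingHom G R g) (g • r) = 0 := by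
    have := Polynomial.eval₂_hom (p := f) (MulSemiringAction.toRingHom G R g) r
    rw [hroot, map_zero] at this
    exact this
  have h2 : f.eval (g • r) ∈ q := by
    have : f.eval (g • r) =
        f.eval (g • r) - f.eval₂ (MulSemiringAction.toRingHom G R g) (g • r) := by
      rw [h1, sub_zero]
    rw [this, eval_eq_sum_range, eval₂_eq_sum_range, ← Finset.sum_sub_distrib]
    refine Ideal.sum_mem _ fun k _ => ?_
    rw [← sub_mul]
    apply Ideal.mul_mem_right
    have := q.neg_mem (hcoef k)
    rwa [neg_sub] at this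
  rw [hf, eval_prod, hq.prod_mem_iff] at h2
  obtain ⟨i, -, hi⟩ := h2
  simp only [eval_sub, eval_X, eval_C] at hi
  have hi' : (i : G) • r - r ∈ q := i.2 r
  have := q.add_mem hi hi'
  simpa using this

/-- Elements of the stabilizer normalize the inertia group. -/
theorem smul_mem_fixed_inertia (q : Ideal R) {g : G} (hg : g ∈ MulAction.stabilizer G q)
    {x : R} (hx : ∀ i ∈ q.inertia G, i • x = x) : ∀ i ∈ q.inertia G, i • g • x = g • x := by
  intro i hi
  have hgq : ∀ y, y ∈ q → g⁻¹ • y ∈ q := by
    intro y hy
    have h1 : g⁻¹ • q = q := (MulAction.stabilizer G q).inv_mem hg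
    rw [← h1]
    exact Ideal.smul_mem_pointwise_smul _ _ _ hy
  have hj : g⁻¹ * i * g ∈ q.inertia G := by
    intro r
    change (g⁻¹ * i * g) • r - r ∈ q
    have := hgq _ (hi (g • r))
    rwa [smul_sub, inv_smul_smul, ← mul_smul, ← mul_smul] at this
  have := hx _ hj
  rw [mul_smul, mul_smul] at this
  have h2 := congrArg (fun y => g • y) this
  simpa using h2

/-- A simultaneous "primitive element" for the residue extension of `R^I`. -/
theorem exists_theta (q : Ideal R) [hq : q.IsPrime] :
    ∃ θ : R, (∀ i ∈ q.inertia G, i • θ = θ) ∧ θ ∉ q ∧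
      ∀ g ∈ MulAction.stabilizer G q, g ∉ q.inertia G → g • θ - θ ∉ q := by
  classical
  set A' := FixedPoints.subring R (q.inertia G) with hA'
  set qI : Ideal A' := q.comap A'.subtype with hqI
  haveI : qI.IsPrime := Ideal.comap_isPrime _ _
  have hstab : ∀ g : G, g ∈ MulAction.stabilizer G q → ∀ y ∈ q, g • y ∈ q := by
    intro g hg y hy
    have h1 : g • q = q := hg
    rw [← h1]
    exact Ideal.smul_mem_pointwise_smul _ _ _ hy
  -- the endomorphisms of `R^I` induced by the stabilizer
  let φ : MulAction.stabilizer G q → (A' →+* A') := fun g =>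
    RingHom.codRestrict ((MulSemiringAction.toRingHom G R (g : G)).comp A'.subtype) A'
      (fun x => mem_fixH.mpr (smul_mem_fixed_inertia q g.2 (mem_fixH.mp x.2)))
  have hφ : ∀ g x, ((φ g x : A') : R) = (g : G) • (x : R) := fun g x => rfl
  have hφq : ∀ g : MulAction.stabilizer G q, qI ≤ qI.comap (φ g) := by
    intro g x hx
    rw [Ideal.mem_comap, hqI, Ideal.mem_comap]
    exact hstab (g : G) g.2 _ hx
  let σ : {g : MulAction.stabilizer G q // (g : G) ∉ q.inertia G} → (A' ⧸ qI →+* A' ⧸ qI) :=
    fun g => Ideal.quotientMap qI (φ g.1) (hφq g.1)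
  have hσ : ∀ g, σ g ≠ RingHom.id _ := by
    intro g h
    apply g.2
    apply mem_inertia_of_forall_fixed q
    intro x hx
    have := congrArg (fun f => f (Ideal.Quotient.mk qI ⟨x, mem_fixH.mpr hx⟩)) h
    simp only [σ, Ideal.quotientMap_mk, RingHom.id_apply] at this
    rw [Ideal.Quotient.eq] at this
    exact this
  obtain ⟨θbar, hθbar⟩ := exists_moved σ hσ
  obtain ⟨θ, rfl⟩ := Ideal.Quotient.mk_surjective θbar
  have hmoved : ∀ g ∈ MulAction.stabilizer G q, g ∉ q.inertia G → g • (θ : R) - θ ∉ q := by
    intro g hg hgI hmem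
    apply hθbar ⟨⟨g, hg⟩, hgI⟩
    simp only [σ, Ideal.quotientMap_mk]
    rw [Ideal.Quotient.eq]
    exact hmem
  by_cases hθq : (θ : R) ∈ q
  · refine ⟨(θ : R) + 1, ?_, ?_, ?_⟩
    · intro i hi
      rw [smul_add, smul_one, mem_fixH.mp θ.2 i hi]
    · intro h
      have := q.sub_mem h hθq
      rw [add_sub_cancel_left] at this
      exact hq.ne_top ((Ideal.eq_top_iff_one _).mpr this)
    · intro g hg hgI
      have := hmoved g hg hgI
      rwa [smul_add, smul_one, add_sub_add_right_eq_sub]
  · exact ⟨θ, mem_fixH.mp θ.2, hθq, hmoved⟩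

end Inertia

section Main

/-- `R^I` is étale over `R^G` at the prime below `q` (`I` the inertia group of `q`). -/
theorem main (G R : Type u) [Group G] [Finite G] [CommRing R] [MulSemiringAction G R]
    (q : Ideal R) [hq : q.IsPrime] :
    ∃ g : FixedPoints.subring R (q.inertia G),
      g ∉ q.comap (FixedPoints.subring R (q.inertia G)).subtype ∧
      Algebra.Etale (FixedPoints.subring R G) (Localization.Away g) := by
  classical
  obtain ⟨θ, hθI, hθq, hθ⟩ := exists_theta (G := G) q
  obtain ⟨s, hsD, hsq, hsg⟩ := exists_sep (H := MulAction.stabilizer G q) q le_rfl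
  have hID : q.inertia G ≤ MulAction.stabilizer G q := Ideal.inertia_le_stabilizer q
  set t : R := θ * s with ht
  have htI : ∀ i ∈ q.inertia G, i • t = t := by
    intro i hi
    rw [ht, smul_mul', hθI i hi, hsD i (hID hi)]
  have htmoved : ∀ g : G, g ∉ q.inertia G → t - g • t ∉ q := by
    intro g hg
    by_cases hgD : g ∈ MulAction.stabilizer G q
    · have e : t - g • t = -((g • θ - θ) * s) := by
        rw [ht, smul_mul', hsD g hgD]; ring
      rw [e]
      intro h
      have h' := q.neg_mem h
      rw [neg_neg] at h'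
      rcases hq.mem_or_mem h' with h | h
      · exact hθ g hgD hg h
      · exact hsq h
    · intro h
      have h1 : g • t ∈ q := by
        rw [ht, smul_mul']
        exact q.mul_mem_left _ (hsg g hgD)
      have h2 : t ∈ q := by
        have := q.add_mem h h1
        simpa using this
      rcases hq.mem_or_mem h2 with h | h
      · exact hθq h
      · exact hsq h
  set F : R := (cof (q.inertia G) t ((1 : G) : G ⧸ q.inertia G)).eval t with hF
  have hFI : ∀ i ∈ q.inertia G, i • F = F := by
    intro i hi
    have := Polynomial.eval_map_apply (p := cof (q.inertia G) t ((1 : G) : G ⧸ q.inertia G))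
      (MulSemiringAction.toRingHom G R i) t
    rw [cof_map htI, MulSemiringAction.toRingHom_apply, htI i hi,
      MulSemiringAction.toRingHom_apply] at this
    rw [hF, ← this]
    congr 2
    rw [MulAction.Quotient.smul_mk, smul_eq_mul, mul_one, QuotientGroup.eq]
    simpa using hi
  have hFq : F ∉ q := by
    rw [hF]
    unfold cof
    rw [eval_prod, hq.prod_mem_iff]
    rintro ⟨c, hc, hmem⟩
    simp only [eval_sub, eval_X, eval_C] at hmem
    induction c using QuotientGroup.induction_on with
    | H g =>
      rw [conj_mk htI] at hmem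
      have hg : g ∉ q.inertia G := by
        intro hg
        apply Finset.ne_of_mem_erase hc
        rw [QuotientGroup.eq]
        simpa using hg
      exact htmoved g hg hmem
  refine ⟨⟨F, mem_fixH.mpr hFI⟩, hFq, ?_⟩
  haveI := isStandardEtale_away (q.inertia G) ⟨t, mem_fixH.mpr htI⟩ ⟨F, mem_fixH.mpr hFI⟩ rfl
  infer_instance

end Main

end Groth.Agent.R2.H73.InertiaEt
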