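import Mathlib

/-!
# Invariant fields of finite groups acting linearly (helper73)

Abstract tools for the "no-name lemma":

* `exists_dual_family`: for a finite group `G` of automorphisms of `L` acting faithfully on a stable
  intermediate field `K`, there are `a_j, c_j ∈ K` with `∑ a_j σ(c_j) = δ_{σ,1}` (Dedekind).
* `le_span_invariants`: a `G`-stable `K`-subspace of `L` is spanned by its invariant vectors
  (Speiser's lemma / Hilbert 90 for `GL_n`).
-/

set_option autoImplicit false
universe u v

namespace Groth.Agent.R2.H73.InvFld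

open Finset

section Speiser

variable {k : Type u} {L : Type v} [Field k] [Field L] [Algebra k L]
  (G : Subgroup (L ≃ₐ[k] L)) [Finite G] (K : IntermediateField k L)

open scoped Classical in
/-- Dedekind's lemma in dual form. -/
theorem exists_dual_family
    (hK : ∀ σ ∈ G, ∀ c ∈ K, σ c ∈ K)
    (hfaith : ∀ σ ∈ G, (∀ c ∈ K, σ c = c) → σ = 1) :
    ∃ l : K →₀ K, ∀ σ : G, (∑ c ∈ l.support, (l c : L) * (σ : L ≃ₐ[k] L) (c : L)) =
      if σ = 1 then 1 else 0 := by
  classical
  have : Fintype G := Fintype.ofFinite G
  -- the characters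
  let χ : G → (K →* K) := fun σ =>
    { toFun := fun c => ⟨(σ : L ≃ₐ[k] L) (c : L), hK σ σ.2 c c.2⟩
      map_one' := by
        apply Subtype.ext
        simp
      map_mul' := by
        intro c d
        apply Subtype.ext
        simp }
  have hχ : ∀ (σ : G) (c : K), ((χ σ c : K) : L) = (σ : L ≃ₐ[k] L) (c : L) := fun _ _ => rfl
  have hχinj : Function.Injective χ := by
    intro σ τ h
    have h1 : ((σ⁻¹ * τ : G) : L ≃ₐ[k] L) = 1 := by
      apply hfaith _ (σ⁻¹ * τ).2
      intro c hc
      have h2 := congrArg (fun f : K →* K => ((f ⟨c, hc⟩ : K) : L)) h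
      simp only [hχ] at h2
      rw [Subgroup.coe_mul, Subgroup.coe_inv, AlgEquiv.mul_apply, ← h2]
      exact (σ : L ≃ₐ[k] L).symm_apply_apply c
    have h3 : σ⁻¹ * τ = 1 := Subtype.ext h1
    exact (inv_mul_eq_one.mp h3)
  have hli : LinearIndependent K (fun σ : G => ((χ σ : K →* K) : K → K)) :=
    (linearIndependent_monoidHom K K).comp χ hχinj
  -- the span of the vectors `(σ c)_σ`
  let v : K → (G → K) := fun c σ => χ σ c
  have htop : Submodule.span K (Set.range v) = ⊤ := by
    by_contra hne
    obtain ⟨f, hf0, hf⟩ := Submodule.exists_le_ker_of_lt_top _ (lt_top_iff_ne_top.mpr hne)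
    apply hf0
    have h1 : ∀ c : K, ∑ σ : G, (f (fun τ => if σ = τ then 1 else 0)) • (χ σ : K → K) c = 0 := by
      intro c
      have h2 : f (v c) = 0 := hf (Submodule.subset_span ⟨c, rfl⟩)
      rw [LinearMap.pi_apply_eq_sum_univ] at h2
      refine Eq.trans ?_ h2
      refine Finset.sum_congr rfl fun σ _ => ?_
      simp only [smul_eq_mul, v]
      ring
    have h3 : ∑ σ : G, (f (fun τ => if σ = τ then 1 else 0)) • ((χ σ : K →* K) : K → K) = 0 := by
      funext c
      rw [Finset.sum_apply]
      simpa using h1 c
    have h4 := Fintype.linearIndependent_iff.mp hli _ h3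
    refine LinearMap.ext fun x => ?_
    rw [LinearMap.pi_apply_eq_sum_univ]
    simp [h4]
  have hmem : (fun σ : G => if σ = 1 then (1 : K) else 0) ∈ Submodule.span K (Set.range v) := by
    rw [htop]
    trivial
  obtain ⟨l, hl⟩ := Finsupp.mem_span_range_iff_exists_finsupp.mp hmem
  refine ⟨l, fun σ => ?_⟩
  have h5 := congrFun hl σ
  rw [Finsupp.sum, Finset.sum_apply] at h5
  have h6 := congrArg (fun z : K => (z : L)) h5
  simp only [Pi.smul_apply, smul_eq_mul, AddSubmonoidClass.coe_finsetSum, MulMemClass.coe_mul,
    v, hχ] at h6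
  rw [h6]
  split_ifs <;> simp

end Speiser

section Trace

variable {k : Type u} {L : Type v} [Field k] [Field L] [Algebra k L]
  (G : Subgroup (L ≃ₐ[k] L)) [Fintype G] (K : IntermediateField k L)

/-- The trace `∑_σ σ z`. -/
noncomputable def tr (z : L) : L := ∑ σ : G, (σ : L ≃ₐ[k] L) z

lemma tr_invariant (τ : L ≃ₐ[k] L) (hτ : τ ∈ G) (z : L) : τ (tr G z) = tr G z := by
  rw [tr, map_sum]
  exact Fintype.sum_equiv (Equiv.mulLeft (⟨τ, hτ⟩ : G)) _ _ (fun σ => rfl)

lemma tr_add (z w : L) : tr G (z + w) = tr G z + tr G w := by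
  simp only [tr, map_add, Finset.sum_add_distrib]

lemma tr_zero : tr G (0 : L) = 0 := by
  simp only [tr, map_zero, Finset.sum_const_zero]

lemma tr_of_invariant (z : L) (hz : ∀ σ ∈ G, σ z = z) : tr G z = (Fintype.card G : L) * z := by
  have h1 : ∀ σ ∈ (Finset.univ : Finset G), (σ : L ≃ₐ[k] L) z = z := fun σ _ => hz σ σ.2
  rw [tr, Finset.sum_congr rfl h1, Finset.sum_const, Finset.card_univ, nsmul_eq_mul]

lemma tr_mul_of_invariant (e z : L) (he : ∀ σ ∈ G, σ e = e) : tr G (e * z) = e * tr G z := by
  rw [tr, tr, Finset.mul_sum]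
  refine Finset.sum_congr rfl fun σ _ => ?_
  rw [map_mul, he σ σ.2]

lemma tr_mem (hK : ∀ σ ∈ G, ∀ c ∈ K, σ c ∈ K) (c : L) (hc : c ∈ K) : tr G c ∈ K :=
  sum_mem fun σ _ => hK σ σ.2 c hc

/-- Speiser's lemma: a `G`-stable `K`-subspace is spanned by its invariant vectors. -/
theorem le_span_invariants
    (hK : ∀ σ ∈ G, ∀ c ∈ K, σ c ∈ K)
    (hfaith : ∀ σ ∈ G, (∀ c ∈ K, σ c = c) → σ = 1)
    (W : Submodule K L) (hW : ∀ σ ∈ G, ∀ w ∈ W, σ w ∈ W) :
    W ≤ Submodule.span K {w | w ∈ W ∧ ∀ σ ∈ G, σ w = w} := by
  classical
  intro w hw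
  obtain ⟨l, hl⟩ := exists_dual_family G K hK hfaith
  have key : w = ∑ c ∈ l.support, (l c) • tr G ((c : L) * w) := by
    have h1 : ∀ c ∈ l.support, (l c) • tr G ((c : L) * w) =
        ∑ σ : G, ((l c : L) * (σ : L ≃ₐ[k] L) (c : L)) * (σ : L ≃ₐ[k] L) w := by
      intro c _
      rw [IntermediateField.smul_def, smul_eq_mul, tr, Finset.mul_sum]
      refine Finset.sum_congr rfl fun σ _ => ?_
      rw [map_mul, mul_assoc]
    rw [Finset.sum_congr rfl h1, Finset.sum_comm]
    simp_rw [← Finset.sum_mul, hl]
    simp
  rw [key]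
  refine Submodule.sum_mem _ fun c _ => Submodule.smul_mem _ _ (Submodule.subset_span ⟨?_, ?_⟩)
  · refine sum_mem fun σ _ => hW σ σ.2 _ ?_
    have : (c : L) * w = c • w := by rw [IntermediateField.smul_def, smul_eq_mul]
    rw [this]
    exact W.smul_mem c hw
  · intro τ hτ
    exact tr_invariant G τ hτ _

end Trace

section Descent

variable {k : Type u} {L : Type v} [Field k] [Field L] [Algebra k L]
  (G : Subgroup (L ≃ₐ[k] L)) [Fintype G] (K : IntermediateField k L)

open Polynomial in
/-- The polynomial `∏_σ (X - σ c)`. -/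
noncomputable def orbitPoly (c : L) : L[X] := ∏ σ : G, (X - C ((σ : L ≃ₐ[k] L) c))

open Polynomial in
lemma orbitPoly_monic (c : L) : (orbitPoly G c).Monic :=
  monic_prod_of_monic _ _ fun σ _ => monic_X_sub_C _

open Polynomial in
lemma orbitPoly_eval (c : L) : (orbitPoly G c).eval c = 0 := by
  rw [orbitPoly, eval_prod]
  apply Finset.prod_eq_zero (Finset.mem_univ (1 : G))
  simp

open Polynomial in
lemma orbitPoly_coeff_invariant (c : L) (τ : L ≃ₐ[k] L) (hτ : τ ∈ G) (i : ℕ) :
    τ ((orbitPoly G c).coeff i) = (orbitPoly G c).coeff i := by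
  have h1 : (orbitPoly G c).map (τ : L ≃ₐ[k] L).toRingEquiv.toRingHom = orbitPoly G c := by
    rw [orbitPoly, Polynomial.map_prod]
    refine Fintype.prod_equiv (Equiv.mulLeft (⟨τ, hτ⟩ : G)) _ _ (fun σ => ?_)
    rw [Polynomial.map_sub, Polynomial.map_X, Polynomial.map_C]
    rfl
  have h2 := congrArg (fun f => Polynomial.coeff f i) h1
  simp only [Polynomial.coeff_map] at h2
  exact h2

open Polynomial in
lemma orbitPoly_coeff_mem (hK : ∀ σ ∈ G, ∀ c ∈ K, σ c ∈ K) (c : L) (hc : c ∈ K) (i : ℕ) :
    (orbitPoly G c).coeff i ∈ K := by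
  have h1 : orbitPoly G c =
      (∏ σ : G, (X - C (⟨(σ : L ≃ₐ[k] L) c, hK σ σ.2 c hc⟩ : K))).map (algebraMap K L) := by
    rw [orbitPoly, Polynomial.map_prod]
    refine Finset.prod_congr rfl fun _ _ => ?_
    rw [Polynomial.map_sub, Polynomial.map_X, Polynomial.map_C]
    rfl
  rw [h1, Polynomial.coeff_map]
  exact Subtype.coe_prop _

/-- If `L = K(t)` with `t` invariant and `K` stable, then `L^G = (K ∩ L^G)(t)` (characteristic 0). -/
theorem adjoin_inf_fixedField_union_eq [CharZero k]
    (hK : ∀ σ ∈ G, ∀ c ∈ K, σ c ∈ K) {ι : Type*} (t : ι → L)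
    (ht : ∀ i, ∀ σ ∈ G, σ (t i) = t i)
    (htop : IntermediateField.adjoin k ((K : Set L) ∪ Set.range t) = ⊤) :
    IntermediateField.adjoin k
      (((K ⊓ IntermediateField.fixedField G : IntermediateField k L) : Set L) ∪ Set.range t) =
      IntermediateField.fixedField G := by
  classical
  set F : IntermediateField k L := K ⊓ IntermediateField.fixedField G with hF
  set E : IntermediateField k L := IntermediateField.adjoin k ((F : Set L) ∪ Set.range t) with hE
  have hFE : F ≤ E := fun z hz => IntermediateField.subset_adjoin k _ (Or.inl hz)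
  have htE : ∀ i, t i ∈ E := fun i => IntermediateField.subset_adjoin k _ (Or.inr ⟨i, rfl⟩)
  have hEfix : E ≤ IntermediateField.fixedField G := by
    rw [hE, IntermediateField.adjoin_le_iff]
    rintro z (hz | ⟨i, rfl⟩)
    · exact hz.2
    · rw [SetLike.mem_coe, IntermediateField.mem_fixedField_iff]
      exact ht i
  refine le_antisymm hEfix ?_
  intro a ha
  rw [IntermediateField.mem_fixedField_iff] at ha
  -- integrality of `K` over `E`
  have hint : ∀ c ∈ K, IsIntegral E c := by
    intro c hc
    have hlift : orbitPoly G c ∈ Polynomial.lifts (algebraMap E L) := by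
      rw [Polynomial.lifts_iff_coeff_lifts]
      intro i
      have h1 : (orbitPoly G c).coeff i ∈ F := by
        refine IntermediateField.mem_inf.mpr ⟨orbitPoly_coeff_mem G K hK c hc i, ?_⟩
        rw [IntermediateField.mem_fixedField_iff]
        intro τ hτ
        exact orbitPoly_coeff_invariant G c τ hτ i
      exact ⟨⟨_, hFE h1⟩, rfl⟩
    obtain ⟨q, hq, -, hqm⟩ := Polynomial.lifts_and_degree_eq_and_monic hlift (orbitPoly_monic G c)
    refine ⟨q, hqm, ?_⟩
    rw [← Polynomial.eval_map, hq]
    exact orbitPoly_eval G c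
  -- the subalgebra `E[K]`
  set S : Subalgebra E L := Algebra.adjoin E (K : Set L) with hS
  have hSint : Algebra.IsIntegral E S := Algebra.IsIntegral.adjoin hint
  have hSfield : IsField S := isField_of_isIntegral_of_isField' (Field.toIsField E)
  have hSK : ∀ c ∈ K, c ∈ S := fun c hc => Algebra.subset_adjoin hc
  have hSE : ∀ e ∈ E, e ∈ S := fun e he => S.algebraMap_mem ⟨e, he⟩
  have hStop : ∀ z : L, z ∈ S := by
    let S' : IntermediateField k L := (S.toIntermediateField' hSfield).restrictScalars k
    have h1 : IntermediateField.adjoin k ((K : Set L) ∪ Set.range t) ≤ S' := by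
      rw [IntermediateField.adjoin_le_iff]
      rintro z (hz | ⟨i, rfl⟩)
      · exact hSK z hz
      · exact hSE _ (htE i)
    rw [htop] at h1
    intro z
    exact h1 (IntermediateField.mem_top)
  -- `S` is the `E`-span of `K`
  have hspan : ∀ z : L, z ∈ Submodule.span E (K : Set L) := by
    intro z
    have h1 := hStop z
    rw [hS, ← Subalgebra.mem_toSubmodule, Algebra.adjoin_eq_span] at h1
    have h2 : Submonoid.closure (K : Set L) = K.toSubalgebra.toSubsemiring.toSubmonoid :=
      Submonoid.closure_eq K.toSubalgebra.toSubsemiring.toSubmonoid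
    rw [h2] at h1
    exact h1
  -- traces of elements of the span lie in `E`
  have htr : ∀ z ∈ Submodule.span E (K : Set L), tr G z ∈ E := by
    intro z hz
    induction hz using Submodule.span_induction with
    | mem c hc =>
      refine hFE (IntermediateField.mem_inf.mpr ⟨tr_mem G K hK c hc, ?_⟩)
      rw [IntermediateField.mem_fixedField_iff]
      intro τ hτ
      exact tr_invariant G τ hτ c
    | zero => rw [tr_zero]; exact E.zero_mem
    | add z w _ _ hz hw => rw [tr_add]; exact E.add_mem hz hw
    | smul e z _ hz =>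
      rw [IntermediateField.smul_def, smul_eq_mul, tr_mul_of_invariant]
      · exact E.mul_mem e.2 hz
      · have := hEfix e.2
        rw [IntermediateField.mem_fixedField_iff] at this
        exact this
  have h1 := htr a (hspan a)
  rw [tr_of_invariant G a ha] at h1
  have hchar : CharZero L := charZero_of_injective_algebraMap (algebraMap k L).injective
  have hcard : (Fintype.card G : L) ≠ 0 := by
    rw [Nat.cast_ne_zero]
    exact Fintype.card_ne_zero
  have h2 : a = (Fintype.card G : L)⁻¹ * ((Fintype.card G : L) * a) := by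
    rw [← mul_assoc, inv_mul_cancel₀ hcard, one_mul]
  rw [h2]
  exact E.mul_mem (E.inv_mem (natCast_mem E _)) h1

end Descent

section LinSubst

open MvPolynomial

variable {K : Type u} [Field K] {ι : Type*} [Fintype ι] [DecidableEq ι]

/-- The linear substitution `X_i ↦ ∑_j M i j X_j`. -/
noncomputable def linSubst (M : Matrix ι ι K) :
    MvPolynomial ι K →ₐ[K] MvPolynomial ι K :=
  aeval fun i => ∑ j, C (M i j) * X j

lemma linSubst_X (M : Matrix ι ι K) (i : ι) :
    linSubst M (X i) = ∑ j, C (M i j) * X j := by
  rw [linSubst, aeval_X]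

lemma linSubst_comp (A B : Matrix ι ι K) :
    (linSubst A).comp (linSubst B) = linSubst (B * A) := by
  apply MvPolynomial.algHom_ext
  intro i
  rw [AlgHom.comp_apply, linSubst_X, map_sum, linSubst_X]
  have h1 : ∀ j, linSubst A (C (B i j) * X j) = ∑ l, C (B i j * A j l) * X l := by
    intro j
    rw [map_mul, linSubst_X, Finset.mul_sum]
    have hC : linSubst A (C (B i j)) = C (B i j) := by
      rw [← MvPolynomial.algebraMap_eq, AlgHom.commutes]
    rw [hC]
    refine Finset.sum_congr rfl fun l _ => ?_
    rw [C_mul, mul_assoc]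
  simp_rw [h1]
  rw [Finset.sum_comm]
  refine Finset.sum_congr rfl fun l _ => ?_
  rw [← Finset.sum_mul, ← map_sum, Matrix.mul_apply]

lemma linSubst_one : linSubst (1 : Matrix ι ι K) = AlgHom.id K _ := by
  apply MvPolynomial.algHom_ext
  intro i
  rw [linSubst_X, AlgHom.id_apply]
  simp [Matrix.one_apply]

lemma linSubst_injective (M N : Matrix ι ι K) (h : M * N = 1) :
    Function.Injective (linSubst M) := by
  have h1 : (linSubst N).comp (linSubst M) = AlgHom.id K _ := by
    rw [linSubst_comp, h, linSubst_one]
  intro p q hpq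
  have := congrArg (linSubst N) hpq
  rw [← AlgHom.comp_apply, ← AlgHom.comp_apply, h1] at this
  exact this

variable {L : Type v} [Field L] [Algebra K L]

/-- A family with the same `K`-span as an algebraically independent family of the same (finite) size
is algebraically independent. -/
theorem algebraicIndependent_of_span_eq (y t : ι → L) (hy : AlgebraicIndependent K y)
    (ht : LinearIndependent K t)
    (hspan : Submodule.span K (Set.range t) = Submodule.span K (Set.range y)) :
    AlgebraicIndependent K t := by
  classical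
  have h1 : ∀ i, ∃ c : ι → K, ∑ j, c j • y j = t i := by
    intro i
    rw [← Submodule.mem_span_range_iff_exists_fun, ← hspan]
    exact Submodule.subset_span ⟨i, rfl⟩
  have h2 : ∀ i, ∃ c : ι → K, ∑ j, c j • t j = y i := by
    intro i
    rw [← Submodule.mem_span_range_iff_exists_fun, hspan]
    exact Submodule.subset_span ⟨i, rfl⟩
  choose M hM using h1
  choose N hN using h2
  have hMN : (Matrix.of M) * (Matrix.of N) = 1 := by
    ext i l
    have h3 : ∑ l, ((Matrix.of M * Matrix.of N) i l - (1 : Matrix ι ι K) i l) • t l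
        = 0 := by
      simp_rw [sub_smul, Finset.sum_sub_distrib, Matrix.mul_apply, Finset.sum_smul]
      rw [Finset.sum_comm]
      have h4 : ∀ j, ∑ l, (Matrix.of M i j * Matrix.of N j l) • t l = M i j • y j := by
        intro j
        rw [← hN j, Finset.smul_sum]
        refine Finset.sum_congr rfl fun l _ => ?_
        rw [mul_smul]
        rfl
      simp_rw [h4, hM i]
      simp [Matrix.one_apply]
    have h5 := Fintype.linearIndependent_iff.mp ht _ h3 l
    exact sub_eq_zero.mp h5
  have hinj := linSubst_injective (Matrix.of M) (Matrix.of N) hMN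
  have hf : AlgebraicIndependent K (fun i => linSubst (Matrix.of M) (X i)) :=
    (MvPolynomial.algebraicIndependent_X ι K).map' (f := linSubst (Matrix.of M)) hinj
  have h6 := hy.aeval_of_algebraicIndependent hf
  have h7 : (fun i => aeval y (linSubst (Matrix.of M) (X i))) = t := by
    funext i
    rw [linSubst_X, map_sum, ← hM i]
    refine Finset.sum_congr rfl fun j _ => ?_
    rw [map_mul, aeval_C, aeval_X, Algebra.smul_def]
    rfl
  rw [h7] at h6
  exact h6

end LinSubst

section NoName

variable {k : Type u} {L : Type v} [Field k] [CharZero k] [Field L] [Algebra k L]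
  (G : Subgroup (L ≃ₐ[k] L)) [Fintype G] (K : IntermediateField k L)

/-- The no-name lemma, abstract form: `K` a `G`-stable intermediate field on which `G` acts
faithfully, `L = K(y)` with `y` algebraically independent over `K` spanning a `G`-stable `K`-subspace.
Then `L^G = (K ∩ L^G)(t)` with `t` algebraically independent. -/
theorem noName {m : ℕ} (y : Fin m → L)
    (hK : ∀ σ ∈ G, ∀ c ∈ K, σ c ∈ K)
    (hfaith : ∀ σ ∈ G, (∀ c ∈ K, σ c = c) → σ = 1)
    (hy : AlgebraicIndependent K y)
    (hyG : ∀ σ ∈ G, ∀ j, σ (y j) ∈ Submodule.span K (Set.range y))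
    (htop : IntermediateField.adjoin k ((K : Set L) ∪ Set.range y) = ⊤) :
    ∃ t : Fin m → L,
      AlgebraicIndependent ↥(K ⊓ IntermediateField.fixedField G) t ∧
      IntermediateField.adjoin k
        (((K ⊓ IntermediateField.fixedField G : IntermediateField k L) : Set L) ∪ Set.range t) =
        IntermediateField.fixedField G := by
  classical
  set W : Submodule K L := Submodule.span K (Set.range y) with hW
  have hWstab : ∀ σ ∈ G, ∀ w ∈ W, σ w ∈ W := by
    intro σ hσ w hw
    induction hw using Submodule.span_induction with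
    | mem w hw =>
      obtain ⟨j, rfl⟩ := hw
      exact hyG σ hσ j
    | zero => rw [map_zero]; exact W.zero_mem
    | add a b _ _ ha hb => rw [map_add]; exact W.add_mem ha hb
    | smul c w _ hw =>
      have h1 : σ (c • w) = (⟨σ (c : L), hK σ hσ c c.2⟩ : K) • σ w := by
        rw [IntermediateField.smul_def, IntermediateField.smul_def, smul_eq_mul, smul_eq_mul,
          map_mul]
      rw [h1]
      exact W.smul_mem _ hw
  set s : Set L := {w | w ∈ W ∧ ∀ σ ∈ G, σ w = w} with hs
  have hspan : Submodule.span K s = W :=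
    le_antisymm (Submodule.span_le.mpr fun w hw => hw.1)
      (le_span_invariants G K hK hfaith W hWstab)
  have hfinW : Module.Finite K W := Module.Finite.span_of_finite K (Set.finite_range y)
  have hfin : Module.Finite K (Submodule.span K s) := by
    rw [hspan]
    exact hfinW
  have hdim : Module.finrank K (Submodule.span K s) = m := by
    rw [hspan, hW, finrank_span_eq_card hy.linearIndependent, Fintype.card_fin]
  obtain ⟨f, hfs, hfspan, hfli⟩ := Submodule.exists_fun_fin_finrank_span_eq K s
  let t : Fin m → L := f ∘ Fin.cast hdim.symm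
  have hrange : Set.range t = Set.range f :=
    (finCongr hdim.symm).surjective.range_comp f
  have htli : LinearIndependent K t := hfli.comp _ (Fin.cast_injective _)
  have htspan : Submodule.span K (Set.range t) = Submodule.span K (Set.range y) := by
    rw [hrange, hfspan, hspan]
  have htinv : ∀ i, ∀ σ ∈ G, σ (t i) = t i := fun i => (hfs _).2
  have htK : AlgebraicIndependent K t := algebraicIndependent_of_span_eq y t hy htli htspan
  have httop : IntermediateField.adjoin k ((K : Set L) ∪ Set.range t) = ⊤ := by
    rw [eq_top_iff, ← htop, IntermediateField.adjoin_le_iff]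
    rintro z (hz | ⟨j, rfl⟩)
    · exact IntermediateField.subset_adjoin k _ (Or.inl hz)
    · have h1 : y j ∈ Submodule.span K (Set.range t) := by
        rw [htspan]
        exact Submodule.subset_span ⟨j, rfl⟩
      have key : ∀ w ∈ Submodule.span K (Set.range t),
          w ∈ IntermediateField.adjoin k ((K : Set L) ∪ Set.range t) := by
        intro w hw
        induction hw using Submodule.span_induction with
        | mem w hw => exact IntermediateField.subset_adjoin k _ (Or.inr hw)
        | zero => exact zero_mem _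
        | add a b _ _ ha hb => exact add_mem ha hb
        | smul c w _ hw =>
          rw [IntermediateField.smul_def, smul_eq_mul]
          exact mul_mem (IntermediateField.subset_adjoin k _ (Or.inl c.2)) hw
      exact key _ h1
  refine ⟨t, ?_, adjoin_inf_fixedField_union_eq G K hK t htinv httop⟩
  refine AlgebraicIndependent.of_ringHom_of_comp_eq
    (f := (IntermediateField.inclusion (inf_le_left : K ⊓ IntermediateField.fixedField G ≤ K)).toRingHom)
    (g := RingHom.id L) (by simpa using htK) (RingHom.injective _) ?_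
  rfl

end NoName

end Groth.Agent.R2.H73.InvFld
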