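/-
helper73: rational function fields `InvFld.Fld σ k`: homomorphism extensionality on the variables,
the embedding induced by an injective map of variables, polynomial automorphisms and their
"direct sum" on `Fld (α ⊕ β) k`, the diagonal group `Gam` attached to `e : G ≃* H`, the no-name
lemma for a partition of the variables, and transport of fixed fields.
Used for S15696 (stable equivalence of fields of invariants).
-/
import Mathlib
import Groth.Prelude.Def_W4c2brnrinvarInvFld
import Groth.Agent.R2.H73InvFld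

set_option autoImplicit false
universe u v

open InvFld MvPolynomial

namespace Groth.Agent.R2.H73.InvFld2

section Basic

variable {k : Type u} [Field k] {σ τ : Type*}

/-- Two `k`-algebra maps out of `k(x_s)` agreeing on the variables are equal. -/
lemma algHom_ext_X {B : Type*} [Semiring B] [Algebra k B] {f g : Fld σ k →ₐ[k] B}
    (h : ∀ s, f (InvFld.X s) = g (InvFld.X s)) : f = g := by
  apply IsLocalization.algHom_ext (nonZeroDivisors (MvPolynomial σ k))
  apply MvPolynomial.algHom_ext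
  intro s
  exact h s

lemma algEquiv_ext_X {f g : Fld σ k ≃ₐ[k] Fld σ k}
    (h : ∀ s, f (InvFld.X s) = g (InvFld.X s)) : f = g := by
  have h1 := algHom_ext_X (f := f.toAlgHom) (g := g.toAlgHom) h
  ext z
  exact DFunLike.congr_fun h1 z

lemma incAux_injective (f : σ → τ) (hf : Function.Injective f) :
    Function.Injective
      ((IsScalarTower.toAlgHom k (MvPolynomial τ k) (Fld τ k)).comp (rename f)) := by
  intro p q h
  apply rename_injective f hf
  apply IsFractionRing.injective (MvPolynomial τ k) (Fld τ k)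
  exact h

/-- The embedding `k(x_s : s ∈ σ) → k(x_t : t ∈ τ)` induced by an injective map of variables. -/
noncomputable def inc (f : σ → τ) (hf : Function.Injective f) : Fld σ k →ₐ[k] Fld τ k :=
  IsFractionRing.liftAlgHom
    (g := (IsScalarTower.toAlgHom k (MvPolynomial τ k) (Fld τ k)).comp (rename f))
    (incAux_injective f hf)

variable (f : σ → τ) (hf : Function.Injective f)

lemma inc_algebraMap (p : MvPolynomial σ k) :
    inc f hf (algebraMap (MvPolynomial σ k) (Fld σ k) p) =
      algebraMap (MvPolynomial τ k) (Fld τ k) (rename f p) := by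
  rw [inc, IsFractionRing.liftAlgHom_apply, IsFractionRing.lift_algebraMap]
  rfl

lemma inc_X (s : σ) : inc f hf (InvFld.X s : Fld σ k) = InvFld.X (f s) := by
  rw [InvFld.X, inc_algebraMap, rename_X]

lemma inc_injective : Function.Injective (inc (k := k) f hf) := (inc f hf).injective

variable (k σ) in
/-- The rational function field is generated by the variables. -/
lemma adjoin_X_eq_top :
    IntermediateField.adjoin k (Set.range fun s : σ => (InvFld.X s : Fld σ k)) = ⊤ := by
  set T := IntermediateField.adjoin k (Set.range fun s : σ => (InvFld.X s : Fld σ k)) with hT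
  have hX : ∀ s : σ, (InvFld.X s : Fld σ k) ∈ T := fun s =>
    IntermediateField.subset_adjoin k _ ⟨s, rfl⟩
  have hP : ∀ a : MvPolynomial σ k, algebraMap (MvPolynomial σ k) (Fld σ k) a ∈ T := by
    intro a
    induction a using MvPolynomial.induction_on with
    | C c =>
      rw [← MvPolynomial.algebraMap_eq, ← IsScalarTower.algebraMap_apply]
      exact T.algebraMap_mem c
    | add p q hp hq =>
      rw [map_add]
      exact T.add_mem hp hq
    | mul_X p s hp =>
      rw [map_mul]
      exact T.mul_mem hp (hX s)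
  rw [eq_top_iff]
  intro z _
  obtain ⟨a, b, -, rfl⟩ := IsFractionRing.div_surjective (MvPolynomial σ k) z
  exact T.div_mem (hP a) (hP b)

lemma fieldRange_inc :
    (inc (k := k) f hf).fieldRange =
      IntermediateField.adjoin k (Set.range fun s : σ => (InvFld.X (f s) : Fld τ k)) := by
  rw [AlgHom.fieldRange_eq_map, ← adjoin_X_eq_top k σ, IntermediateField.adjoin_map]
  congr 1
  ext z
  constructor
  · rintro ⟨_, ⟨s, rfl⟩, rfl⟩
    exact ⟨s, (inc_X f hf s).symm⟩
  · rintro ⟨s, rfl⟩
    exact ⟨_, ⟨s, rfl⟩, inc_X f hf s⟩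

lemma inc_mem_span (z : Fld σ k)
    (hz : z ∈ Submodule.span k (Set.range fun s : σ => (InvFld.X s : Fld σ k))) :
    inc f hf z ∈ Submodule.span k (Set.range fun s : σ => (InvFld.X (f s) : Fld τ k)) := by
  have key : ∀ w ∈ Submodule.span k (Set.range fun s : σ => (InvFld.X s : Fld σ k)),
      inc f hf w ∈ Submodule.span k (Set.range fun s : σ => (InvFld.X (f s) : Fld τ k)) := by
    intro w hw
    induction hw using Submodule.span_induction with
    | mem w hw =>
      obtain ⟨s, rfl⟩ := hw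
      rw [inc_X]
      exact Submodule.subset_span ⟨s, rfl⟩
    | zero => rw [map_zero]; exact Submodule.zero_mem _
    | add a b _ _ ha hb => rw [map_add]; exact Submodule.add_mem _ ha hb
    | smul c w _ hw => rw [map_smul]; exact Submodule.smul_mem _ c hw
  exact key z hz

variable (k σ) in
/-- The variables are algebraically independent in the rational function field. -/
lemma algebraicIndependent_X :
    AlgebraicIndependent k (fun s : σ => (InvFld.X s : Fld σ k)) :=
  (MvPolynomial.algebraicIndependent_X σ k).map'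
    (f := IsScalarTower.toAlgHom k (MvPolynomial σ k) (Fld σ k))
    (IsFractionRing.injective (MvPolynomial σ k) (Fld σ k))

end Basic

section PolyAut

variable {k : Type u} [Field k] {α β : Type*}

/-- An endomorphism of `k(x)` mapping every variable to a polynomial. -/
def IsPoly (g : Fld α k →ₐ[k] Fld α k) : Prop :=
  ∀ s : α, ∃ p : MvPolynomial α k, algebraMap (MvPolynomial α k) (Fld α k) p = g (InvFld.X s)

lemma isPoly_of_linear (g : Fld α k →ₐ[k] Fld α k)
    (hg : ∀ s : α, g (InvFld.X s) ∈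
      Submodule.span k (Set.range fun j : α => (InvFld.X j : Fld α k))) : IsPoly g := by
  intro s
  have h1 : Submodule.span k (Set.range fun j : α => (InvFld.X j : Fld α k)) ≤
      LinearMap.range (IsScalarTower.toAlgHom k (MvPolynomial α k) (Fld α k)).toLinearMap := by
    rw [Submodule.span_le]
    rintro _ ⟨j, rfl⟩
    exact ⟨MvPolynomial.X j, rfl⟩
  obtain ⟨p, hp⟩ := h1 (hg s)
  exact ⟨p, hp⟩

/-- The polynomial endomorphism underlying a polynomial endomorphism of `k(x)`. -/
noncomputable def polyHom (g : Fld α k →ₐ[k] Fld α k) (hg : IsPoly g) :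
    MvPolynomial α k →ₐ[k] MvPolynomial α k :=
  aeval fun s => Classical.choose (hg s)

lemma algebraMap_polyHom (g : Fld α k →ₐ[k] Fld α k) (hg : IsPoly g) (p : MvPolynomial α k) :
    algebraMap (MvPolynomial α k) (Fld α k) (polyHom g hg p) =
      g (algebraMap (MvPolynomial α k) (Fld α k) p) := by
  have h1 : (IsScalarTower.toAlgHom k (MvPolynomial α k) (Fld α k)).comp (polyHom g hg) =
      g.comp (IsScalarTower.toAlgHom k (MvPolynomial α k) (Fld α k)) := by
    apply MvPolynomial.algHom_ext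
    intro s
    rw [AlgHom.comp_apply, AlgHom.comp_apply, polyHom, aeval_X]
    exact Classical.choose_spec (hg s)
  exact DFunLike.congr_fun h1 p

lemma polyHom_comp_eq_id (g g' : Fld α k →ₐ[k] Fld α k) (hg : IsPoly g) (hg' : IsPoly g')
    (h : ∀ z, g (g' z) = z) : (polyHom g hg).comp (polyHom g' hg') = AlgHom.id k _ := by
  apply AlgHom.ext
  intro p
  apply IsFractionRing.injective (MvPolynomial α k) (Fld α k)
  rw [AlgHom.comp_apply, algebraMap_polyHom, algebraMap_polyHom, h, AlgHom.id_apply]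

/-- The "direct sum" of polynomial endomorphisms in disjoint sets of variables. -/
noncomputable def sumMap (φ : MvPolynomial α k →ₐ[k] MvPolynomial α k)
    (ψ : MvPolynomial β k →ₐ[k] MvPolynomial β k) :
    MvPolynomial (α ⊕ β) k →ₐ[k] MvPolynomial (α ⊕ β) k :=
  aeval (Sum.elim (fun a => rename Sum.inl (φ (MvPolynomial.X a)))
    (fun b => rename Sum.inr (ψ (MvPolynomial.X b))))

lemma sumMap_X_inl (φ : MvPolynomial α k →ₐ[k] MvPolynomial α k)
    (ψ : MvPolynomial β k →ₐ[k] MvPolynomial β k) (a : α) :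
    sumMap φ ψ (MvPolynomial.X (Sum.inl a)) = rename Sum.inl (φ (MvPolynomial.X a)) := by
  rw [sumMap, aeval_X, Sum.elim_inl]

lemma sumMap_X_inr (φ : MvPolynomial α k →ₐ[k] MvPolynomial α k)
    (ψ : MvPolynomial β k →ₐ[k] MvPolynomial β k) (b : β) :
    sumMap φ ψ (MvPolynomial.X (Sum.inr b)) = rename Sum.inr (ψ (MvPolynomial.X b)) := by
  rw [sumMap, aeval_X, Sum.elim_inr]

lemma sumMap_rename_inl (φ : MvPolynomial α k →ₐ[k] MvPolynomial α k)
    (ψ : MvPolynomial β k →ₐ[k] MvPolynomial β k) (p : MvPolynomial α k) :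
    sumMap φ ψ (rename Sum.inl p) = rename Sum.inl (φ p) := by
  have h1 : (sumMap φ ψ).comp (rename Sum.inl) = (rename Sum.inl).comp φ := by
    apply MvPolynomial.algHom_ext
    intro a
    rw [AlgHom.comp_apply, AlgHom.comp_apply, rename_X, sumMap_X_inl]
  exact DFunLike.congr_fun h1 p

lemma sumMap_rename_inr (φ : MvPolynomial α k →ₐ[k] MvPolynomial α k)
    (ψ : MvPolynomial β k →ₐ[k] MvPolynomial β k) (p : MvPolynomial β k) :
    sumMap φ ψ (rename Sum.inr p) = rename Sum.inr (ψ p) := by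
  have h1 : (sumMap φ ψ).comp (rename Sum.inr) = (rename Sum.inr).comp ψ := by
    apply MvPolynomial.algHom_ext
    intro a
    rw [AlgHom.comp_apply, AlgHom.comp_apply, rename_X, sumMap_X_inr]
  exact DFunLike.congr_fun h1 p

lemma sumMap_comp (φ φ' : MvPolynomial α k →ₐ[k] MvPolynomial α k)
    (ψ ψ' : MvPolynomial β k →ₐ[k] MvPolynomial β k) :
    (sumMap φ ψ).comp (sumMap φ' ψ') = sumMap (φ.comp φ') (ψ.comp ψ') := by
  apply MvPolynomial.algHom_ext
  rintro (a | b)
  · rw [AlgHom.comp_apply, sumMap_X_inl, sumMap_rename_inl, sumMap_X_inl, AlgHom.comp_apply]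
  · rw [AlgHom.comp_apply, sumMap_X_inr, sumMap_rename_inr, sumMap_X_inr, AlgHom.comp_apply]

lemma sumMap_id :
    sumMap (AlgHom.id k (MvPolynomial α k)) (AlgHom.id k (MvPolynomial β k)) = AlgHom.id k _ := by
  apply MvPolynomial.algHom_ext
  rintro (a | b)
  · rw [sumMap_X_inl, AlgHom.id_apply, AlgHom.id_apply, rename_X]
  · rw [sumMap_X_inr, AlgHom.id_apply, AlgHom.id_apply, rename_X]

/-- Two polynomial automorphisms in disjoint sets of variables extend to a common automorphism
of `k(x, y)`. -/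
theorem exists_sum_extension (g : Fld α k ≃ₐ[k] Fld α k) (h : Fld β k ≃ₐ[k] Fld β k)
    (hg : IsPoly g.toAlgHom) (hg' : IsPoly g.symm.toAlgHom)
    (hh : IsPoly h.toAlgHom) (hh' : IsPoly h.symm.toAlgHom) :
    ∃ θ : Fld (α ⊕ β) k ≃ₐ[k] Fld (α ⊕ β) k,
      (∀ z, θ (inc Sum.inl Sum.inl_injective z) = inc Sum.inl Sum.inl_injective (g z)) ∧
      (∀ z, θ (inc Sum.inr Sum.inr_injective z) = inc Sum.inr Sum.inr_injective (h z)) := by
  have e1 : (sumMap (polyHom _ hg) (polyHom _ hh)).comp (sumMap (polyHom _ hg') (polyHom _ hh')) =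
      AlgHom.id k _ := by
    rw [sumMap_comp, polyHom_comp_eq_id _ _ hg hg' (fun z => g.apply_symm_apply z),
      polyHom_comp_eq_id _ _ hh hh' (fun z => h.apply_symm_apply z), sumMap_id]
  have e2 : (sumMap (polyHom _ hg') (polyHom _ hh')).comp (sumMap (polyHom _ hg) (polyHom _ hh)) =
      AlgHom.id k _ := by
    rw [sumMap_comp, polyHom_comp_eq_id _ _ hg' hg (fun z => g.symm_apply_apply z),
      polyHom_comp_eq_id _ _ hh' hh (fun z => h.symm_apply_apply z), sumMap_id]
  let Θ : MvPolynomial (α ⊕ β) k ≃ₐ[k] MvPolynomial (α ⊕ β) k :=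
    AlgEquiv.ofAlgHom _ _ e1 e2
  have hΘ : ∀ p, Θ p = sumMap (polyHom _ hg) (polyHom _ hh) p := fun p => rfl
  let θ : Fld (α ⊕ β) k ≃ₐ[k] Fld (α ⊕ β) k := IsFractionRing.algEquivOfAlgEquiv Θ
  have hθ : ∀ p, θ (algebraMap _ _ p) = algebraMap _ _ (Θ p) := fun p =>
    IsFractionRing.algEquivOfAlgEquiv_algebraMap Θ p
  refine ⟨θ, ?_, ?_⟩
  · have h1 : θ.toAlgHom.comp (inc Sum.inl Sum.inl_injective) =
        (inc Sum.inl Sum.inl_injective).comp g.toAlgHom := by
      apply algHom_ext_X
      intro s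
      rw [AlgHom.comp_apply, AlgHom.comp_apply, InvFld.X, inc_algebraMap]
      change θ (algebraMap _ _ _) = _
      rw [hθ, hΘ, sumMap_rename_inl, ← inc_algebraMap, algebraMap_polyHom]
    exact fun z => DFunLike.congr_fun h1 z
  · have h1 : θ.toAlgHom.comp (inc Sum.inr Sum.inr_injective) =
        (inc Sum.inr Sum.inr_injective).comp h.toAlgHom := by
      apply algHom_ext_X
      intro s
      rw [AlgHom.comp_apply, AlgHom.comp_apply, InvFld.X, inc_algebraMap]
      change θ (algebraMap _ _ _) = _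
      rw [hθ, hΘ, sumMap_rename_inr, ← inc_algebraMap, algebraMap_polyHom]
    exact fun z => DFunLike.congr_fun h1 z

end PolyAut

section Diagonal

variable {k : Type u} [Field k] {α β : Type*}
  (G : Subgroup (Fld α k ≃ₐ[k] Fld α k)) (H : Subgroup (Fld β k ≃ₐ[k] Fld β k)) (e : G ≃* H)

/-- `θ` extends `g` on the `x`'s and `h` on the `y`'s. -/
def Over (θ : Fld (α ⊕ β) k ≃ₐ[k] Fld (α ⊕ β) k) (g : Fld α k ≃ₐ[k] Fld α k)
    (h : Fld β k ≃ₐ[k] Fld β k) : Prop :=
  (∀ z, θ (inc Sum.inl Sum.inl_injective z) = inc Sum.inl Sum.inl_injective (g z)) ∧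
  (∀ z, θ (inc Sum.inr Sum.inr_injective z) = inc Sum.inr Sum.inr_injective (h z))

lemma Over.unique {θ θ' : Fld (α ⊕ β) k ≃ₐ[k] Fld (α ⊕ β) k} {g : Fld α k ≃ₐ[k] Fld α k}
    {h : Fld β k ≃ₐ[k] Fld β k} (h1 : Over θ g h) (h2 : Over θ' g h) : θ = θ' := by
  apply algEquiv_ext_X
  rintro (a | b)
  · rw [← inc_X Sum.inl Sum.inl_injective a, h1.1, h2.1]
  · rw [← inc_X Sum.inr Sum.inr_injective b, h1.2, h2.2]

/-- The diagonal group: automorphisms of `k(x, y)` acting as `g` on `k(x)` and as `e g` on `k(y)`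
for some `g ∈ G`. -/
def Gam : Subgroup (Fld (α ⊕ β) k ≃ₐ[k] Fld (α ⊕ β) k) where
  carrier := {θ | ∃ g : G, Over θ (g : Fld α k ≃ₐ[k] Fld α k) ((e g : H) : Fld β k ≃ₐ[k] Fld β k)}
  mul_mem' := by
    rintro θ θ' ⟨g, h1, h2⟩ ⟨g', h1', h2'⟩
    refine ⟨g * g', fun z => ?_, fun z => ?_⟩
    · rw [AlgEquiv.mul_apply, h1', h1]
      rfl
    · rw [AlgEquiv.mul_apply, h2', h2, map_mul]
      rfl
  one_mem' := ⟨1, fun z => rfl, fun z => by rw [map_one]; rfl⟩
  inv_mem' := by
    rintro θ ⟨g, h1, h2⟩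
    refine ⟨g⁻¹, fun z => ?_, fun z => ?_⟩
    · apply θ.injective
      rw [h1]
      have e1 : θ (θ⁻¹ (inc Sum.inl Sum.inl_injective z)) = inc Sum.inl Sum.inl_injective z :=
        θ.apply_symm_apply _
      have e2 : (g : Fld α k ≃ₐ[k] Fld α k) (((g⁻¹ : G) : Fld α k ≃ₐ[k] Fld α k) z) = z :=
        (g : Fld α k ≃ₐ[k] Fld α k).apply_symm_apply z
      rw [e1, e2]
    · apply θ.injective
      rw [h2]
      have e1 : θ (θ⁻¹ (inc Sum.inr Sum.inr_injective z)) = inc Sum.inr Sum.inr_injective z :=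
        θ.apply_symm_apply _
      have e2 : ((e g : H) : Fld β k ≃ₐ[k] Fld β k)
          (((e g⁻¹ : H) : Fld β k ≃ₐ[k] Fld β k) z) = z := by
        rw [map_inv]
        exact ((e g : H) : Fld β k ≃ₐ[k] Fld β k).apply_symm_apply z
      rw [e1, e2]

lemma mem_Gam {θ : Fld (α ⊕ β) k ≃ₐ[k] Fld (α ⊕ β) k} :
    θ ∈ Gam G H e ↔
      ∃ g : G, Over θ (g : Fld α k ≃ₐ[k] Fld α k) ((e g : H) : Fld β k ≃ₐ[k] Fld β k) :=
  Iff.rfl

variable (hG : ∀ g ∈ G, IsPoly (g : Fld α k ≃ₐ[k] Fld α k).toAlgHom)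
  (hH : ∀ h ∈ H, IsPoly (h : Fld β k ≃ₐ[k] Fld β k).toAlgHom)

include hG hH in
lemma exists_mem_Gam (g : G) :
    ∃ θ ∈ Gam G H e, Over θ (g : Fld α k ≃ₐ[k] Fld α k) ((e g : H) : Fld β k ≃ₐ[k] Fld β k) := by
  obtain ⟨θ, hθ⟩ := exists_sum_extension (g : Fld α k ≃ₐ[k] Fld α k)
    ((e g : H) : Fld β k ≃ₐ[k] Fld β k) (hG _ g.2) (hG _ (G.inv_mem g.2))
    (hH _ (e g).2) (hH _ (H.inv_mem (e g).2))
  exact ⟨θ, ⟨g, hθ⟩, hθ⟩

lemma finite_Gam [Finite G] : Finite (Gam G H e) := by
  have hex : ∀ θ : Gam G H e, ∃ g : G,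
      Over (θ : Fld (α ⊕ β) k ≃ₐ[k] Fld (α ⊕ β) k) (g : Fld α k ≃ₐ[k] Fld α k)
        ((e g : H) : Fld β k ≃ₐ[k] Fld β k) := fun θ => θ.2
  choose c hc using hex
  apply Finite.of_injective c
  intro θ θ' h
  apply Subtype.ext
  have h2 := hc θ'
  rw [← h] at h2
  exact (hc θ).unique h2

lemma Gam_faithful_inl (θ : Fld (α ⊕ β) k ≃ₐ[k] Fld (α ⊕ β) k) (hθ : θ ∈ Gam G H e)
    (hfix : ∀ a : α, θ (InvFld.X (Sum.inl a)) = InvFld.X (Sum.inl a)) : θ = 1 := by
  obtain ⟨g, h1, h2⟩ := hθ
  have hg : g = 1 := by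
    apply Subtype.ext
    apply algEquiv_ext_X
    intro a
    apply inc_injective Sum.inl Sum.inl_injective
    rw [← h1, inc_X, hfix]
    change _ = inc Sum.inl Sum.inl_injective (InvFld.X a)
    rw [inc_X]
  subst hg
  apply algEquiv_ext_X
  rintro (a | b)
  · rw [hfix]; rfl
  · rw [← inc_X Sum.inr Sum.inr_injective b, h2, map_one]
    rfl

lemma Gam_faithful_inr (θ : Fld (α ⊕ β) k ≃ₐ[k] Fld (α ⊕ β) k) (hθ : θ ∈ Gam G H e)
    (hfix : ∀ b : β, θ (InvFld.X (Sum.inr b)) = InvFld.X (Sum.inr b)) : θ = 1 := by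
  obtain ⟨g, h1, h2⟩ := hθ
  have hg' : e g = 1 := by
    apply Subtype.ext
    apply algEquiv_ext_X
    intro b
    apply inc_injective Sum.inr Sum.inr_injective
    rw [← h2, inc_X, hfix]
    change _ = inc Sum.inr Sum.inr_injective (InvFld.X b)
    rw [inc_X]
  have hg : g = 1 := (MulEquiv.map_eq_one_iff e).mp hg'
  subst hg
  apply algEquiv_ext_X
  rintro (a | b)
  · rw [← inc_X Sum.inl Sum.inl_injective a, h1]
    rfl
  · rw [hfix]; rfl

lemma Gam_linear_inl
    (hlin : ∀ g ∈ G, ∀ a : α, g (InvFld.X a) ∈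
      Submodule.span k (Set.range fun j : α => (InvFld.X j : Fld α k)))
    (θ : Fld (α ⊕ β) k ≃ₐ[k] Fld (α ⊕ β) k) (hθ : θ ∈ Gam G H e) (a : α) :
    θ (InvFld.X (Sum.inl a)) ∈
      Submodule.span k (Set.range fun j : α => (InvFld.X (Sum.inl j) : Fld (α ⊕ β) k)) := by
  obtain ⟨g, h1, h2⟩ := hθ
  rw [← inc_X Sum.inl Sum.inl_injective a, h1]
  exact inc_mem_span _ _ _ (hlin _ g.2 a)

lemma Gam_linear_inr
    (hlin : ∀ h ∈ H, ∀ b : β, h (InvFld.X b) ∈
      Submodule.span k (Set.range fun j : β => (InvFld.X j : Fld β k)))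
    (θ : Fld (α ⊕ β) k ≃ₐ[k] Fld (α ⊕ β) k) (hθ : θ ∈ Gam G H e) (b : β) :
    θ (InvFld.X (Sum.inr b)) ∈
      Submodule.span k (Set.range fun j : β => (InvFld.X (Sum.inr j) : Fld (α ⊕ β) k)) := by
  obtain ⟨g, h1, h2⟩ := hθ
  rw [← inc_X Sum.inr Sum.inr_injective b, h2]
  exact inc_mem_span _ _ _ (hlin _ (e g).2 b)

end Diagonal

section Partition

variable {k : Type u} [Field k] {σ α β : Type*}

/-- Algebraic independence over a domain implies algebraic independence over its fraction field. -/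
lemma algebraicIndependent_of_isFractionRing {A K L ι : Type*} [CommRing A] [Field K] [Field L]
    [Algebra A K] [IsFractionRing A K] [Algebra A L] [Algebra K L] [IsScalarTower A K L]
    (y : ι → L) (hy : AlgebraicIndependent A y) : AlgebraicIndependent K y := by
  let _ := MvPolynomial.algebraMvPolynomial (σ := ι) (R := A) (S := K)
  have : Nontrivial A := (algebraMap A K).domain_nontrivial
  rw [algebraicIndependent_iff] at hy ⊢
  intro p hp
  obtain ⟨⟨q, ⟨d', hd'⟩⟩, hq⟩ :=
    IsLocalization.surj ((nonZeroDivisors A).map (C : A →+* MvPolynomial ι A)) p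
  obtain ⟨d, hd, rfl⟩ := hd'
  simp only [MvPolynomial.algebraMap_def] at hq
  have h1 : aeval y (MvPolynomial.map (algebraMap A K) q) = 0 := by
    rw [← hq, map_mul, hp, zero_mul]
  rw [MvPolynomial.aeval_map_algebraMap] at h1
  have hq0 := hy q h1
  rw [hq0, map_zero] at hq
  have hd0 : MvPolynomial.map (algebraMap A K) (C d : MvPolynomial ι A) ≠ 0 := by
    rw [MvPolynomial.map_C, Ne, MvPolynomial.C_eq_zero]
    intro h
    have := IsFractionRing.injective A K (h.trans (map_zero _).symm)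
    exact nonZeroDivisors.ne_zero hd this
  exact (mul_eq_zero.mp hq).resolve_right hd0

open scoped IntermediateField.algebraAdjoinAdjoin in
/-- For a partition of the variables into `a`'s and `b`'s, the `b`-variables are algebraically
independent over `k(a-variables)`. -/
lemma algebraicIndependent_over_adjoin (a : α → σ) (b : β → σ)
    (hab : Function.Injective (Sum.elim a b)) :
    AlgebraicIndependent
      ↥(IntermediateField.adjoin k (Set.range fun i : α => (InvFld.X (a i) : Fld σ k)))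
      (fun j : β => (InvFld.X (b j) : Fld σ k)) := by
  have hinj : Function.Injective (Sum.elim b a) := by
    have h0 : Sum.elim b a = Sum.elim a b ∘ Sum.swap := by
      funext s
      rcases s with s | s <;> rfl
    rw [h0]
    exact hab.comp Sum.swap_leftInverse.injective
  have h1 := (algebraicIndependent_X k σ).comp (Sum.elim b a) hinj
  have h2 : (fun s : σ => (InvFld.X s : Fld σ k)) ∘ Sum.elim b a =
      Sum.elim (fun j : β => (InvFld.X (b j) : Fld σ k))
        (fun i : α => (InvFld.X (a i) : Fld σ k)) := by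
    funext s
    rcases s with s | s <;> rfl
  rw [h2, AlgebraicIndependent.sumElim_iff] at h1
  exact algebraicIndependent_of_isFractionRing _ h1.2

lemma adjoin_union_eq_top (a : α → σ) (b : β → σ)
    (hab : Function.Surjective (Sum.elim a b)) :
    IntermediateField.adjoin k
      (((IntermediateField.adjoin k (Set.range fun i : α => (InvFld.X (a i) : Fld σ k)) :
          IntermediateField k (Fld σ k)) : Set (Fld σ k)) ∪
        Set.range fun j : β => (InvFld.X (b j) : Fld σ k)) = ⊤ := by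
  rw [eq_top_iff, ← adjoin_X_eq_top k σ, IntermediateField.adjoin_le_iff]
  rintro _ ⟨s, rfl⟩
  obtain ⟨(i | j), rfl⟩ := hab s
  · exact IntermediateField.subset_adjoin k _
      (Or.inl (IntermediateField.subset_adjoin k _ ⟨i, rfl⟩))
  · exact IntermediateField.subset_adjoin k _ (Or.inr ⟨j, rfl⟩)

/-- An intermediate field over an intermediate field, with scalars restricted. -/
noncomputable def restrictScalarsEquiv {L : Type*} [Field L] [Algebra k L]
    (F : IntermediateField k L) (E : IntermediateField F L) :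
    ↥E ≃ₐ[k] ↥(IntermediateField.restrictScalars k E) where
  toFun x := ⟨x.1, x.2⟩
  invFun x := ⟨x.1, x.2⟩
  left_inv _ := rfl
  right_inv _ := rfl
  map_mul' _ _ := rfl
  map_add' _ _ := rfl
  commutes' _ := rfl

/-- The no-name lemma for a partition of the variables: if a finite group `Γ` of automorphisms of
`k(x_s : s ∈ σ)` acts linearly on the `a`-variables and on the `b`-variables, faithfully on the
`a`-variables, then `k(x)^Γ` is rational over `k(a-variables)^Γ` in (number of `b`-variables)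
indeterminates. -/
theorem noName_partition [CharZero k] {n m : ℕ} (a : Fin n → σ) (b : Fin m → σ)
    (hab : Function.Bijective (Sum.elim a b))
    (Γ : Subgroup (Fld σ k ≃ₐ[k] Fld σ k)) [Finite Γ]
    (hx : ∀ θ ∈ Γ, ∀ i : Fin n, θ (InvFld.X (a i)) ∈
      Submodule.span k (Set.range fun j : Fin n => (InvFld.X (a j) : Fld σ k)))
    (hy : ∀ θ ∈ Γ, ∀ i : Fin m, θ (InvFld.X (b i)) ∈
      Submodule.span k (Set.range fun j : Fin m => (InvFld.X (b j) : Fld σ k)))
    (hfaith : ∀ θ ∈ Γ, (∀ i : Fin n, θ (InvFld.X (a i)) = InvFld.X (a i)) → θ = 1) :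
    Nonempty (Fld (Fin m)
      ↥(IntermediateField.adjoin k (Set.range fun j : Fin n => (InvFld.X (a j) : Fld σ k)) ⊓
        IntermediateField.fixedField Γ) ≃ₐ[k] ↥(IntermediateField.fixedField Γ)) := by
  classical
  have : Fintype Γ := Fintype.ofFinite Γ
  set K : IntermediateField k (Fld σ k) :=
    IntermediateField.adjoin k (Set.range fun j : Fin n => (InvFld.X (a j) : Fld σ k)) with hKdef
  have hxK : ∀ i : Fin n, (InvFld.X (a i) : Fld σ k) ∈ K := fun i =>
    IntermediateField.subset_adjoin k _ ⟨i, rfl⟩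
  have hspanK : ∀ z ∈ Submodule.span k (Set.range fun j : Fin n =>
      (InvFld.X (a j) : Fld σ k)), z ∈ K := by
    intro z hz
    have h1 : Submodule.span k (Set.range fun j : Fin n => (InvFld.X (a j) : Fld σ k)) ≤
        Subalgebra.toSubmodule K.toSubalgebra := by
      rw [Submodule.span_le]
      rintro _ ⟨i, rfl⟩
      exact hxK i
    exact h1 hz
  have hK : ∀ θ ∈ Γ, ∀ c ∈ K, θ c ∈ K := by
    intro θ hθ c hc
    have h1 : K.map (θ : Fld σ k →ₐ[k] Fld σ k) ≤ K := by
      rw [hKdef, IntermediateField.adjoin_map, IntermediateField.adjoin_le_iff]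
      rintro _ ⟨_, ⟨i, rfl⟩, rfl⟩
      exact hspanK _ (hx θ hθ i)
    exact h1 ⟨c, hc, rfl⟩
  have hfaith' : ∀ θ ∈ Γ, (∀ c ∈ K, θ c = c) → θ = 1 := fun θ hθ h =>
    hfaith θ hθ fun i => h _ (hxK i)
  have hyG : ∀ θ ∈ Γ, ∀ j : Fin m, θ (InvFld.X (b j)) ∈
      Submodule.span K (Set.range fun j : Fin m => (InvFld.X (b j) : Fld σ k)) := fun θ hθ j =>
    Submodule.span_subset_span k K _ (hy θ hθ j)
  obtain ⟨t, ht1, ht2⟩ := Groth.Agent.R2.H73.InvFld.noName Γ K
    (fun j : Fin m => (InvFld.X (b j) : Fld σ k)) hK hfaith'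
    (algebraicIndependent_over_adjoin a b hab.injective) hyG (adjoin_union_eq_top a b hab.surjective)
  rw [← IntermediateField.restrictScalars_adjoin] at ht2
  exact ⟨((ht1.aevalEquivField.restrictScalars k).trans (restrictScalarsEquiv _ _)).trans
    (IntermediateField.equivOfEq ht2)⟩

end Partition

section Transport

variable {k : Type u} [Field k] {α σ : Type*}

/-- Transport of fixed fields along the embedding `inc f`. -/
theorem map_fixedField_eq (f : α → σ) (hf : Function.Injective f)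
    (G : Subgroup (Fld α k ≃ₐ[k] Fld α k)) (Γ : Subgroup (Fld σ k ≃ₐ[k] Fld σ k))
    (h1 : ∀ θ ∈ Γ, ∃ g ∈ G, ∀ z, θ (inc f hf z) = inc f hf (g z))
    (h2 : ∀ g ∈ G, ∃ θ ∈ Γ, ∀ z, θ (inc f hf z) = inc f hf (g z)) :
    (IntermediateField.fixedField G).map (inc f hf) =
      IntermediateField.adjoin k (Set.range fun i : α => (InvFld.X (f i) : Fld σ k)) ⊓
        IntermediateField.fixedField Γ := by
  rw [← fieldRange_inc f hf]
  ext w
  constructor
  · rintro ⟨z, hz, rfl⟩
    refine IntermediateField.mem_inf.mpr ⟨⟨z, rfl⟩, ?_⟩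
    rw [IntermediateField.mem_fixedField_iff]
    intro θ hθ
    obtain ⟨g, hg, hgθ⟩ := h1 θ hθ
    have hz' := (IntermediateField.mem_fixedField_iff _ _).mp hz g hg
    change θ (inc f hf z) = inc f hf z
    rw [hgθ, hz']
  · intro hw
    obtain ⟨⟨z, rfl⟩, hw2⟩ := IntermediateField.mem_inf.mp hw
    have hz : z ∈ IntermediateField.fixedField G := by
      rw [IntermediateField.mem_fixedField_iff]
      intro g hg
      obtain ⟨θ, hθ, hgθ⟩ := h2 g hg
      have hw' := (IntermediateField.mem_fixedField_iff _ _).mp hw2 θ hθ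
      apply inc_injective f hf
      rw [← hgθ]
      exact hw'
    exact ⟨z, hz, rfl⟩

/-- The rational function field functor applied to an isomorphism of coefficient fields. -/
noncomputable def fldCongr {A B : Type*} [Field A] [Field B] [Algebra k A] [Algebra k B]
    (ι : Type*) (e : A ≃ₐ[k] B) : Fld ι A ≃ₐ[k] Fld ι B :=
  IsFractionRing.algEquivOfAlgEquiv (MvPolynomial.mapAlgEquiv ι e)

end Transport

end Groth.Agent.R2.H73.InvFld2
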