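/-
helper73: the permutation action of `Equiv.Perm (Fin n)` on `k(x_1..x_n)`, its fixed field
`k(e_1..e_n)` (elementary symmetric functions), and pure transcendence of rational function
fields over it.  Used for S15698.
-/
import Mathlib
import Groth.Prelude.Def_W4c2brnrinvarInvFld
import Groth.Agent.R2.H73InvFld2

set_option autoImplicit false
universe u v

open InvFld MvPolynomial

namespace Groth.Agent.R2.H73.InvFld3

open Groth.Agent.R2.H73.InvFld2

section Perm

variable (k : Type u) [Field k] (n : ℕ)

/-- The automorphism of `k(x_1..x_n)` permuting the variables. -/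
noncomputable def permAutFun (π : Equiv.Perm (Fin n)) : Fld (Fin n) k ≃ₐ[k] Fld (Fin n) k :=
  IsFractionRing.algEquivOfAlgEquiv (renameEquiv k π)

lemma permAutFun_algebraMap (π : Equiv.Perm (Fin n)) (p : MvPolynomial (Fin n) k) :
    permAutFun k n π (algebraMap (MvPolynomial (Fin n) k) (Fld (Fin n) k) p) =
      algebraMap (MvPolynomial (Fin n) k) (Fld (Fin n) k) (rename π p) := by
  rw [permAutFun, IsFractionRing.algEquivOfAlgEquiv_algebraMap]
  rfl

lemma permAutFun_X (π : Equiv.Perm (Fin n)) (i : Fin n) :
    permAutFun k n π (InvFld.X i) = InvFld.X (π i) := by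
  rw [InvFld.X, permAutFun_algebraMap, rename_X]

lemma X_injective : Function.Injective (fun i : Fin n => (InvFld.X i : Fld (Fin n) k)) := by
  intro i j h
  exact MvPolynomial.X_injective (IsFractionRing.injective (MvPolynomial (Fin n) k) _ h)

/-- The permutation representation as a group homomorphism. -/
noncomputable def permAut : Equiv.Perm (Fin n) →* (Fld (Fin n) k ≃ₐ[k] Fld (Fin n) k) where
  toFun := permAutFun k n
  map_one' := by
    apply algEquiv_ext_X
    intro i
    rw [permAutFun_X]
    rfl
  map_mul' π π' := by
    apply algEquiv_ext_X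
    intro i
    rw [AlgEquiv.mul_apply, permAutFun_X, permAutFun_X, permAutFun_X]
    rfl

lemma permAut_apply (π : Equiv.Perm (Fin n)) : permAut k n π = permAutFun k n π := rfl

lemma permAut_injective : Function.Injective (permAut k n) := by
  intro π π' h
  ext i
  have h1 : permAutFun k n π (InvFld.X i) = permAutFun k n π' (InvFld.X i) := by
    rw [← permAut_apply, ← permAut_apply, h]
  rw [permAutFun_X, permAutFun_X] at h1
  exact congrArg Fin.val (X_injective k n h1)

lemma permAut_linear (σ : Fld (Fin n) k ≃ₐ[k] Fld (Fin n) k) (hσ : σ ∈ (permAut k n).range)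
    (i : Fin n) :
    σ (InvFld.X i) ∈
      Submodule.span k (Set.range fun j : Fin n => (InvFld.X j : Fld (Fin n) k)) := by
  obtain ⟨π, rfl⟩ := hσ
  rw [permAut_apply, permAutFun_X]
  exact Submodule.subset_span ⟨π i, rfl⟩

/-- The elementary symmetric functions in `k(x_1..x_n)`. -/
noncomputable def eps (i : Fin n) : Fld (Fin n) k :=
  algebraMap (MvPolynomial (Fin n) k) (Fld (Fin n) k) (esymm (Fin n) k (i + 1))

lemma algebraicIndependent_eps : AlgebraicIndependent k (eps k n) := by
  have h1 : AlgebraicIndependent k (fun i : Fin n => esymm (Fin n) k (i + 1)) := by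
    rw [algebraicIndependent_iff_injective_aeval]
    intro p q hpq
    apply esymmAlgHom_fin_injective k (le_refl n)
    apply Subtype.ext
    rw [esymmAlgHom_apply, esymmAlgHom_apply]
    exact hpq
  exact h1.map' (f := IsScalarTower.toAlgHom k (MvPolynomial (Fin n) k) (Fld (Fin n) k))
    (IsFractionRing.injective (MvPolynomial (Fin n) k) (Fld (Fin n) k))

lemma permAutFun_eps (π : Equiv.Perm (Fin n)) (i : Fin n) :
    permAutFun k n π (eps k n i) = eps k n i := by
  rw [eps, permAutFun_algebraMap, rename_esymm]

/-- Symmetric polynomials lie in `k(e_1..e_n)`. -/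
lemma algebraMap_mem_adjoin_eps (q : MvPolynomial (Fin n) k) (hq : q.IsSymmetric) :
    algebraMap (MvPolynomial (Fin n) k) (Fld (Fin n) k) q ∈
      IntermediateField.adjoin k (Set.range (eps k n)) := by
  obtain ⟨p, hp⟩ := esymmAlgHom_fin_surjective k (le_refl n) ⟨q, hq⟩
  have h1 : q = aeval (fun i : Fin n => esymm (Fin n) k (i + 1)) p := by
    rw [← esymmAlgHom_apply, hp]
  have h2 : algebraMap (MvPolynomial (Fin n) k) (Fld (Fin n) k) q = aeval (eps k n) p := by
    rw [h1]
    have h3 : (IsScalarTower.toAlgHom k (MvPolynomial (Fin n) k) (Fld (Fin n) k)).comp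
        (aeval (fun i : Fin n => esymm (Fin n) k (i + 1))) = aeval (eps k n) := by
      apply MvPolynomial.algHom_ext
      intro i
      rw [AlgHom.comp_apply, aeval_X, aeval_X]
      rfl
    exact DFunLike.congr_fun h3 p
  rw [h2]
  apply IntermediateField.algebra_adjoin_le_adjoin k
  rw [Algebra.adjoin_range_eq_range_aeval]
  exact ⟨p, rfl⟩

/-- The fixed field of the permutation action is `k(e_1..e_n)`. -/
theorem fixedField_permAut :
    IntermediateField.fixedField (permAut k n).range =
      IntermediateField.adjoin k (Set.range (eps k n)) := by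
  classical
  apply le_antisymm
  · intro z hz
    rw [IntermediateField.mem_fixedField_iff] at hz
    have hz' : ∀ π : Equiv.Perm (Fin n), permAutFun k n π z = z := fun π =>
      hz _ ⟨π, rfl⟩
    obtain ⟨a, b, hb, rfl⟩ := IsFractionRing.div_surjective (MvPolynomial (Fin n) k) z
    have hb0 : b ≠ 0 := nonZeroDivisors.ne_zero hb
    set Nb : MvPolynomial (Fin n) k := ∏ π : Equiv.Perm (Fin n), rename π b with hNb
    set c : MvPolynomial (Fin n) k :=
      ∏ π ∈ (Finset.univ : Finset (Equiv.Perm (Fin n))).erase 1, rename π b with hc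
    have hNbc : b * c = Nb := by
      have h1 := Finset.mul_prod_erase (Finset.univ : Finset (Equiv.Perm (Fin n)))
        (fun π => rename π b) (Finset.mem_univ 1)
      rw [← hNb, ← hc] at h1
      rw [← h1]
      congr 1
      change b = rename id b
      rw [rename_id]
      rfl
    have hNb0 : Nb ≠ 0 := by
      rw [hNb, Finset.prod_ne_zero_iff]
      intro π _ h
      exact hb0 (rename_injective π π.injective (h.trans (map_zero _).symm))
    have hNbsymm : Nb.IsSymmetric := by
      intro τ
      rw [hNb, map_prod]
      simp_rw [rename_rename]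
      exact Fintype.prod_equiv (Equiv.mulLeft τ) _ _ (fun π => rfl)
    set w : MvPolynomial (Fin n) k := a * c with hw
    have hbK : algebraMap (MvPolynomial (Fin n) k) (Fld (Fin n) k) b ≠ 0 := fun h =>
      hb0 (IsFractionRing.injective (MvPolynomial (Fin n) k) (Fld (Fin n) k)
        (h.trans (map_zero _).symm))
    have hNbK : algebraMap (MvPolynomial (Fin n) k) (Fld (Fin n) k) Nb ≠ 0 := fun h =>
      hNb0 (IsFractionRing.injective (MvPolynomial (Fin n) k) (Fld (Fin n) k)
        (h.trans (map_zero _).symm))
    have hzw : algebraMap (MvPolynomial (Fin n) k) (Fld (Fin n) k) w =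
        (algebraMap (MvPolynomial (Fin n) k) (Fld (Fin n) k) a /
          algebraMap (MvPolynomial (Fin n) k) (Fld (Fin n) k) b) *
        algebraMap (MvPolynomial (Fin n) k) (Fld (Fin n) k) Nb := by
      rw [hw, ← hNbc, map_mul, map_mul]
      field_simp
    have hwsymm : w.IsSymmetric := by
      intro π
      apply IsFractionRing.injective (MvPolynomial (Fin n) k) (Fld (Fin n) k)
      rw [← permAutFun_algebraMap, hzw, map_mul, hz' π, permAutFun_algebraMap, hNbsymm π]
    have hfinal : algebraMap (MvPolynomial (Fin n) k) (Fld (Fin n) k) a /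
        algebraMap (MvPolynomial (Fin n) k) (Fld (Fin n) k) b =
        algebraMap (MvPolynomial (Fin n) k) (Fld (Fin n) k) w /
          algebraMap (MvPolynomial (Fin n) k) (Fld (Fin n) k) Nb := by
      rw [hzw, mul_div_assoc, div_self hNbK, mul_one]
    rw [hfinal]
    exact div_mem (algebraMap_mem_adjoin_eps k n w hwsymm) (algebraMap_mem_adjoin_eps k n Nb hNbsymm)
  · rw [IntermediateField.adjoin_le_iff]
    rintro _ ⟨i, rfl⟩
    change eps k n i ∈ IntermediateField.fixedField (permAut k n).range
    rw [IntermediateField.mem_fixedField_iff]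
    rintro _ ⟨π, rfl⟩
    exact permAutFun_eps k n π i

end Perm

section Pure

variable {k : Type u} [Field k]

/-- A rational function field over a purely transcendental extension of `k` is purely
transcendental over `k`. -/
theorem exists_pure_of_pure {F : Type v} [Field F] [Algebra k F] {n : ℕ} (x : Fin n → F)
    (hx : AlgebraicIndependent k x) (hx2 : IntermediateField.adjoin k (Set.range x) = ⊤) (s : ℕ) :
    ∃ (N : ℕ) (t : Fin N → Fld (Fin s) F),
      AlgebraicIndependent k t ∧ IntermediateField.adjoin k (Set.range t) = ⊤ := by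
  set u : Fin s ⊕ Fin n → Fld (Fin s) F :=
    Sum.elim (fun j : Fin s => (InvFld.X j : Fld (Fin s) F))
      (algebraMap F (Fld (Fin s) F) ∘ x) with hu
  have hu1 : AlgebraicIndependent k u := hx.sumElim_comp (algebraicIndependent_X F (Fin s))
  refine ⟨s + n, u ∘ finSumFinEquiv.symm, hu1.comp _ finSumFinEquiv.symm.injective, ?_⟩
  have hrange : Set.range (u ∘ finSumFinEquiv.symm) = Set.range u :=
    finSumFinEquiv.symm.surjective.range_comp u
  rw [hrange]
  set T := IntermediateField.adjoin k (Set.range u) with hT
  have h1 : ∀ j : Fin s, (InvFld.X j : Fld (Fin s) F) ∈ T := fun j =>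
    IntermediateField.subset_adjoin k _ ⟨Sum.inl j, rfl⟩
  have h2 : ∀ i : Fin n, algebraMap F (Fld (Fin s) F) (x i) ∈ T := fun i =>
    IntermediateField.subset_adjoin k _ ⟨Sum.inr i, rfl⟩
  have h3 : ∀ z : F, algebraMap F (Fld (Fin s) F) z ∈ T := by
    have h4 : (⊤ : IntermediateField k F) ≤ T.comap (IsScalarTower.toAlgHom k F (Fld (Fin s) F)) := by
      rw [← hx2, IntermediateField.adjoin_le_iff]
      rintro _ ⟨i, rfl⟩
      exact h2 i
    intro z
    exact h4 (IntermediateField.mem_top (x := z))
  have hP : ∀ a : MvPolynomial (Fin s) F,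
      algebraMap (MvPolynomial (Fin s) F) (Fld (Fin s) F) a ∈ T := by
    intro a
    induction a using MvPolynomial.induction_on with
    | C c =>
      rw [← MvPolynomial.algebraMap_eq, ← IsScalarTower.algebraMap_apply]
      exact h3 c
    | add p q hp hq =>
      rw [map_add]
      exact T.add_mem hp hq
    | mul_X p j hp =>
      rw [map_mul]
      exact T.mul_mem hp (h1 j)
  rw [eq_top_iff]
  intro z _
  obtain ⟨a, b, -, rfl⟩ := IsFractionRing.div_surjective (MvPolynomial (Fin s) F) z
  exact T.div_mem (hP a) (hP b)

/-- Rational function fields over the field of symmetric functions are purely transcendental. -/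
theorem exists_pure_fixedField_permAut (k : Type u) [Field k] (n s : ℕ) :
    ∃ (N : ℕ) (t : Fin N → Fld (Fin s) (IntermediateField.fixedField (permAut k n).range)),
      AlgebraicIndependent k t ∧ IntermediateField.adjoin k (Set.range t) = ⊤ := by
  set F := IntermediateField.fixedField (permAut k n).range with hF
  have hmem : ∀ i, eps k n i ∈ F := by
    intro i
    rw [hF, fixedField_permAut]
    exact IntermediateField.subset_adjoin k _ ⟨i, rfl⟩
  let x : Fin n → F := fun i => ⟨eps k n i, hmem i⟩
  have hx : AlgebraicIndependent k x := by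
    apply AlgebraicIndependent.of_comp F.val
    exact algebraicIndependent_eps k n
  have hx2 : IntermediateField.adjoin k (Set.range x) = ⊤ := by
    apply IntermediateField.map_injective F.val
    rw [IntermediateField.adjoin_map, ← AlgHom.fieldRange_eq_map, IntermediateField.fieldRange_val]
    have h1 : F.val '' Set.range x = Set.range (eps k n) := by
      rw [← Set.range_comp]
      rfl
    rw [h1, hF, fixedField_permAut]
  exact exists_pure_of_pure x hx hx2 s

end Pure

end Groth.Agent.R2.H73.InvFld3
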