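import Mathlib
import Groth.Prelude.Def_EtRam
import Groth.Agent.R2.H73KE

set_option autoImplicit false
set_option linter.style.haveILetI false
set_option linter.unusedSectionVars false
universe u

namespace Groth.Agent.R2.H73.KEG

open IsLocalRing Polynomial Groth.Agent.R2.H73.KE

section Main

variable {W : Type u} [CommRing W] [IsDomain W] [IsDiscreteValuationRing W] (ϖ : W)
  (hϖ : Irreducible ϖ)
  {F : Type u} [Field F] [Algebra W F] (hinj : Function.Injective (algebraMap W F))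
  (V : ValuationSubring F) (h : EtRam.Dominates W (algebraMap W F) V)
  (E₁ : Subalgebra W F) [Module.Finite W E₁] [Algebra.FormallyUnramified W E₁]
  (c : E₁) (hc : IsUnit c)
  (f : ℕ) (hf : 0 < f) (w : F) (hw : w ^ f = (c : F) * algebraMap W F ϖ)
  (hfrac : ∀ x : F, ∃ a b : Algebra.adjoin W ((E₁ : Set F) ∪ {w}),
    b ≠ 0 ∧ x * (b : F) = (a : F))

set_option maxHeartbeats 1000000 in
include hϖ hinj hc hf hw hfrac in
/-- general **Kummer–Eisenstein** lemma: `F = Frac(E₁[w])` with `E₁` finite formally unramified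
over the DVR `W` and `w^f = c ϖ`, `c ∈ E₁ˣ`. -/
theorem main_general :
    letI : Algebra W V := (RingHom.codRestrict (algebraMap W F) V h.1).toAlgebra
    ∀ [IsLocalHom (algebraMap W V)],
      (∃ hwV : w ∈ V, maximalIdeal V = Ideal.span {(⟨w, hwV⟩ : V)}) ∧
      (maximalIdeal W).ramificationIdx' (maximalIdeal V) = f ∧
      Algebra.IsSeparable (ResidueField W) (ResidueField V) := by
  letI : Algebra W V := (RingHom.codRestrict (algebraMap W F) V h.1).toAlgebra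
  intro hlocWV
  have hEV : ∀ x ∈ E₁, x ∈ V := mem_of_finite E₁ V h
  haveI : IsDiscreteValuationRing (LocUnr.LocAt E₁ V hEV) :=
    LocUnr.isDiscreteValuationRing_locAt hinj E₁ V hEV h
  haveI hlocWD₁ : IsLocalHom (algebraMap W (LocUnr.LocAt E₁ V hEV)) :=
    LocUnr.isLocalHom_algebraMap E₁ V hEV h
  have hρ₁ := LocUnr.ρ_injective E₁ V hEV
  obtain ⟨Y, hY⟩ := hc.map (algebraMap E₁ (LocUnr.LocAt E₁ V hEV))
  set ϖ₁ : LocUnr.LocAt E₁ V hEV := (Y : LocUnr.LocAt E₁ V hEV) * algebraMap W _ ϖ with hϖ₁def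
  have hϖD₁ : Irreducible (algebraMap W (LocUnr.LocAt E₁ V hEV) ϖ) := by
    rw [IsDiscreteValuationRing.irreducible_iff_uniformizer,
      ← LocUnr.map_maximalIdeal_locAt E₁ V hEV h, hϖ.maximalIdeal_eq, Ideal.map_span,
      Set.image_singleton]
  have hϖ₁ : Irreducible ϖ₁ := (irreducible_units_mul _).mpr hϖD₁
  have hw' : w ^ f = LocUnr.ρ E₁ V hEV ϖ₁ := by
    rw [hϖ₁def, map_mul, LocUnr.ρ_algebraMap', hY, LocUnr.ρ_algebraMap, hw]
  haveI := Eis.isDomain ϖ₁ hϖ₁ f hf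
  haveI := Eis.isLocalRing ϖ₁ hϖ₁ f hf
  haveI := Eis.isDiscreteValuationRing ϖ₁ hϖ₁ f hf
  have hρD := ρ_injective ϖ₁ hϖ₁ f hf (LocUnr.ρ E₁ V hEV) hρ₁ w hw'
  have hVD := ρ_mem ϖ₁ hϖ₁ f hf (LocUnr.ρ E₁ V hEV) w hw' V (LocUnr.ρ_mem E₁ V hEV)
    (LocUnr.ρ_lt_one E₁ V hEV)
  have hlocD := ρ_lt_one ϖ₁ hϖ₁ f hf (LocUnr.ρ E₁ V hEV) w hw' V (LocUnr.ρ_mem E₁ V hEV)
    (LocUnr.ρ_lt_one E₁ V hEV)
  have hρg : ∀ a : W, ρ ϖ₁ f (LocUnr.ρ E₁ V hEV) w hw' (algebraMap W (Eis.Ext ϖ₁ f) a) =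
      algebraMap W F a := by
    intro a
    rw [IsScalarTower.algebraMap_apply W (LocUnr.LocAt E₁ V hEV) (Eis.Ext ϖ₁ f), ρ_algebraMap,
      LocUnr.ρ_algebraMap']
  have hz : ρ ϖ₁ f (LocUnr.ρ E₁ V hEV) w hw' (Eis.z ϖ₁ f) = w := ρ_root ϖ₁ f _ w hw'
  have hfracD : ∀ x : F, ∃ a b : Eis.Ext ϖ₁ f, b ≠ 0 ∧
      x * ρ ϖ₁ f (LocUnr.ρ E₁ V hEV) w hw' b = ρ ϖ₁ f (LocUnr.ρ E₁ V hEV) w hw' a := by
    let ρA : Eis.Ext ϖ₁ f →ₐ[W] F :=
      { ρ ϖ₁ f (LocUnr.ρ E₁ V hEV) w hw' with commutes' := hρg }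
    have hle : Algebra.adjoin W ((E₁ : Set F) ∪ {w}) ≤ ρA.range := by
      apply Algebra.adjoin_le
      rintro x (hx | hx)
      · refine ⟨algebraMap _ _ (algebraMap E₁ (LocUnr.LocAt E₁ V hEV) ⟨x, hx⟩), ?_⟩
        change ρ ϖ₁ f (LocUnr.ρ E₁ V hEV) _ hw' (algebraMap _ _ _) = _
        rw [ρ_algebraMap, LocUnr.ρ_algebraMap]
      · rw [Set.mem_singleton_iff] at hx
        rw [hx]
        exact ⟨Eis.z ϖ₁ f, hz⟩
    intro x
    obtain ⟨a, b, hb, hab⟩ := hfrac x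
    obtain ⟨a', ha'⟩ := hle a.2
    obtain ⟨b', hb'⟩ := hle b.2
    have ha'' : ρ ϖ₁ f (LocUnr.ρ E₁ V hEV) w hw' a' = (a : F) := ha'
    have hb'' : ρ ϖ₁ f (LocUnr.ρ E₁ V hEV) w hw' b' = (b : F) := hb'
    refine ⟨a', b', ?_, ?_⟩
    · rintro rfl
      apply hb
      apply Subtype.ext
      rw [← hb'', map_zero]; rfl
    · rw [ha'', hb'', hab]
  obtain ⟨-, h2, h3⟩ := ValDVR.dict (algebraMap W F) (ρ ϖ₁ f (LocUnr.ρ E₁ V hEV) w hw')
    hρg hρD hfracD V hVD hlocD h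
  refine ⟨?_, ?_, ?_⟩
  · have h4 := ValDVR.maximalIdeal_eq_span (ρ ϖ₁ f (LocUnr.ρ E₁ V hEV) w hw') hρD hfracD V hVD
      hlocD (Eis.z ϖ₁ f) (Eis.maximalIdeal_eq ϖ₁ hϖ₁ f hf)
    refine ⟨hz ▸ hVD (Eis.z ϖ₁ f), ?_⟩
    rw [h4]
    congr 2
    exact Subtype.ext hz
  · rw [h2]
    apply Eis.ramificationIdx'_eq_of_map_eq _ (Eis.z ϖ₁ f) (Eis.maximalIdeal_eq ϖ₁ hϖ₁ f hf)
      (Eis.z_ne_zero ϖ₁ hϖ₁ f hf) f
    rw [hϖ.maximalIdeal_eq, Ideal.map_span, Set.image_singleton,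
      Ideal.span_singleton_eq_span_singleton]
    have h5 : (Eis.z ϖ₁ f) ^ f = algebraMap (LocUnr.LocAt E₁ V hEV) (Eis.Ext ϖ₁ f)
        (Y : LocUnr.LocAt E₁ V hEV) * algebraMap W (Eis.Ext ϖ₁ f) ϖ := by
      rw [Eis.z_pow, hϖ₁def, map_mul,
        ← IsScalarTower.algebraMap_apply W (LocUnr.LocAt E₁ V hEV) (Eis.Ext ϖ₁ f)]
    rw [h5]
    have h6 : IsUnit (algebraMap (LocUnr.LocAt E₁ V hEV) (Eis.Ext ϖ₁ f)
        (Y : LocUnr.LocAt E₁ V hEV)) := Y.isUnit.map _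
    obtain ⟨U, hU⟩ := h6
    rw [← hU]
    exact (associated_unit_mul_left _ _ U.isUnit).symm
  · haveI hlocD₁D : IsLocalHom (algebraMap (LocUnr.LocAt E₁ V hEV) (Eis.Ext ϖ₁ f)) :=
      Eis.isLocalHom_algebraMap ϖ₁ hϖ₁ f hf
    haveI hlocWD : IsLocalHom (algebraMap W (Eis.Ext ϖ₁ f)) := by
      rw [IsScalarTower.algebraMap_eq W (LocUnr.LocAt E₁ V hEV) (Eis.Ext ϖ₁ f)]
      exact RingHom.isLocalHom_comp _ _
    haveI : Algebra.IsSeparable (ResidueField W) (ResidueField (LocUnr.LocAt E₁ V hEV)) :=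
      LocUnr.isSeparable_locAt E₁ V hEV h
    haveI : Algebra.IsSeparable (ResidueField (LocUnr.LocAt E₁ V hEV))
        (ResidueField (Eis.Ext ϖ₁ f)) := ⟨fun x => by
      obtain ⟨a, ha⟩ := Eis.residue_algebraMap_surjective ϖ₁ hϖ₁ f hf x
      have h7 : x = algebraMap (ResidueField (LocUnr.LocAt E₁ V hEV))
          (ResidueField (Eis.Ext ϖ₁ f)) (residue _ a) := by
        rw [ResidueField.algebraMap_residue]; exact ha.symm
      rw [h7]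
      exact isSeparable_algebraMap _⟩
    exact h3.mpr (Algebra.IsSeparable.trans (ResidueField W)
      (ResidueField (LocUnr.LocAt E₁ V hEV)) (ResidueField (Eis.Ext ϖ₁ f)))

end Main

end Groth.Agent.R2.H73.KEG
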