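import Mathlib

set_option autoImplicit false
set_option linter.style.haveILetI false
set_option linter.unusedSectionVars false
universe u

namespace Groth.Agent.R2.H73.KumAdjoin

section

variable {R F : Type*} [CommRing R] [CommRing F] [Algebra R F] (s : Set F)
  (hs : ∀ x ∈ s, ∃ n : ℕ, 0 < n ∧ IsUnit ((n : ℕ) : R) ∧ ∃ u : R, IsUnit u ∧ x ^ n = algebraMap R F u)

include hs in
/-- the subalgebra generated by Kummer elements (roots of units of invertible order) is formally
unramified -/
theorem formallyUnramified_adjoin : Algebra.FormallyUnramified R (Algebra.adjoin R s) := by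
  rw [Algebra.formallyUnramified_iff]
  have hgen : ∀ x ∈ (((↑) : Algebra.adjoin R s → F) ⁻¹' s),
      KaehlerDifferential.D R (Algebra.adjoin R s) x = 0 := by
    rintro ⟨x, hx⟩ hxs
    have hxs' : x ∈ s := hxs
    obtain ⟨n, hn, hnu, u, hu, hxn⟩ := hs x hxs'
    have hxpow : (⟨x, hx⟩ : Algebra.adjoin R s) ^ n = algebraMap R (Algebra.adjoin R s) u := by
      apply Subtype.ext
      change x ^ n = _
      rw [hxn]
      rfl
    have h1 := congrArg (KaehlerDifferential.D R (Algebra.adjoin R s)) hxpow
    rw [Derivation.leibniz_pow, Derivation.map_algebraMap] at h1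
    have hxu : IsUnit (⟨x, hx⟩ : Algebra.adjoin R s) := by
      have h2 : IsUnit ((⟨x, hx⟩ : Algebra.adjoin R s) ^ n) := by
        rw [hxpow]; exact hu.map _
      exact (isUnit_pow_iff hn.ne').mp h2
    have hnu' : IsUnit ((n : ℕ) : Algebra.adjoin R s) := by
      have := hnu.map (algebraMap R (Algebra.adjoin R s))
      rwa [map_natCast] at this
    rw [← Nat.cast_smul_eq_nsmul (Algebra.adjoin R s), smul_smul] at h1
    have hu' : IsUnit (((n : ℕ) : Algebra.adjoin R s) *
        (⟨x, hx⟩ : Algebra.adjoin R s) ^ (n - 1)) := hnu'.mul (hxu.pow _)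
    obtain ⟨v, hv⟩ := hu'
    rw [← hv] at h1
    have h3 := congrArg (fun τ => ((v⁻¹ : (Algebra.adjoin R s)ˣ) : Algebra.adjoin R s) • τ) h1
    simp only [smul_smul, Units.inv_mul, one_smul, smul_zero] at h3
    exact h3
  have hD : ∀ x : Algebra.adjoin R s, KaehlerDifferential.D R (Algebra.adjoin R s) x = 0 := by
    intro x
    have hx : x ∈ Algebra.adjoin R (((↑) : Algebra.adjoin R s → F) ⁻¹' s) := by
      rw [Algebra.adjoin_adjoin_coe_preimage]; trivial
    induction hx using Algebra.adjoin_induction with
    | mem y hy => exact hgen y hy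
    | algebraMap r => exact Derivation.map_algebraMap _ r
    | add y z _ _ hy hz => rw [map_add, hy, hz, add_zero]
    | mul y z _ _ hy hz => rw [Derivation.leibniz, hy, hz, smul_zero, smul_zero, add_zero]
  have htop := KaehlerDifferential.span_range_derivation R (Algebra.adjoin R s)
  have hbot : (⊤ : Submodule (Algebra.adjoin R s) (Ω[Algebra.adjoin R s⁄R])) = ⊥ := by
    rw [← htop, Submodule.span_eq_bot]
    rintro _ ⟨x, rfl⟩
    exact hD x
  exact subsingleton_of_forall_eq 0 (fun y => by
    have : y ∈ (⊤ : Submodule (Algebra.adjoin R s) (Ω[Algebra.adjoin R s⁄R])) := trivial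
    rw [hbot] at this
    exact this)

end

end Groth.Agent.R2.H73.KumAdjoin
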