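import Mathlib
import Groth.Prelude.Def_EtRam
import Groth.Prelude.Def_SGA1
import Groth.Agent.R2.H73KEG
import Groth.Agent.R2.H73KumAdjoin
import Groth.Agent.R2.H73UnrBC

set_option autoImplicit false
set_option linter.style.haveILetI false
set_option linter.unusedSectionVars false
universe u

namespace Groth.Agent.R2.H73.KummerAlg

open IsLocalRing

section PartA

variable {A : Type u} [CommRing A] [IsLocalRing A] {r : ℕ} (f : Fin r → A)
  (hm : ∀ i, f i ∈ maximalIdeal A)
  (hf : LinearIndependent (ResidueField A) (fun i => (maximalIdeal A).toCotangent ⟨f i, hm i⟩))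

include hf in
theorem f_ne_zero (i : Fin r) : f i ≠ 0 := by
  intro h0
  have h1 := hf.ne_zero i
  apply h1
  have : (⟨f i, hm i⟩ : maximalIdeal A) = 0 := Subtype.ext h0
  rw [this, map_zero]

include hf in
theorem f_notMem_span (i j : Fin r) (hij : j ≠ i) : f j ∉ Ideal.span {f i} := by
  intro hmem
  rw [Ideal.mem_span_singleton'] at hmem
  obtain ⟨a, ha⟩ := hmem
  have h1 : (⟨f j, hm j⟩ : maximalIdeal A) = a • (⟨f i, hm i⟩ : maximalIdeal A) :=
    Subtype.ext ha.symm
  have h2 : (maximalIdeal A).toCotangent ⟨f j, hm j⟩ =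
      (residue A a) • (maximalIdeal A).toCotangent ⟨f i, hm i⟩ := by
    rw [h1, map_smul]
    rfl
  have h3 := Fintype.linearIndependent_iff.mp hf
    (fun k => (if k = j then (1 : ResidueField A) else 0) - (if k = i then residue A a else 0)) (by
      simp only [sub_smul, Finset.sum_sub_distrib, ite_smul, one_smul, zero_smul,
        Finset.sum_ite_eq', Finset.mem_univ, if_true]
      rw [h2, sub_self]) j
  simp only [if_neg hij, sub_zero] at h3
  exact one_ne_zero h3

end PartA

section PartA2

variable {A : Type u} [CommRing A] [IsLocalRing A] [IsNoetherianRing A] [IsDomain A]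
  (ϖ : A) (hϖ0 : ϖ ≠ 0) [hP : (Ideal.span {ϖ}).IsPrime]

include hϖ0 in
/-- the localization of a noetherian domain at a nonzero principal prime is a DVR -/
theorem isDiscreteValuationRing_localization :
    IsDiscreteValuationRing (Localization.AtPrime (Ideal.span {ϖ})) := by
  have hmax : maximalIdeal (Localization.AtPrime (Ideal.span {ϖ})) =
      Ideal.span {algebraMap A (Localization.AtPrime (Ideal.span {ϖ})) ϖ} := by
    rw [← Localization.AtPrime.map_eq_maximalIdeal (I := Ideal.span {ϖ}), Ideal.map_span,
      Set.image_singleton]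
  have hinj : Function.Injective (algebraMap A (Localization.AtPrime (Ideal.span {ϖ}))) :=
    IsLocalization.injective _ (Ideal.span {ϖ}).primeCompl_le_nonZeroDivisors
  have hnf : ¬ IsField (Localization.AtPrime (Ideal.span {ϖ})) := by
    rw [IsLocalRing.isField_iff_maximalIdeal_eq, hmax, Ideal.span_singleton_eq_bot]
    exact (map_ne_zero_iff _ hinj).mpr hϖ0
  refine ((IsDiscreteValuationRing.TFAE (Localization.AtPrime (Ideal.span {ϖ})) hnf).out 0 4).mpr ?_
  rw [hmax]
  exact ⟨⟨_, rfl⟩⟩

include hϖ0 in
theorem irreducible_algebraMap :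
    haveI := isDiscreteValuationRing_localization ϖ hϖ0
    Irreducible (algebraMap A (Localization.AtPrime (Ideal.span {ϖ})) ϖ) := by
  haveI := isDiscreteValuationRing_localization ϖ hϖ0
  rw [IsDiscreteValuationRing.irreducible_iff_uniformizer,
    ← Localization.AtPrime.map_eq_maximalIdeal (I := Ideal.span {ϖ}), Ideal.map_span,
    Set.image_singleton]

end PartA2

section Main

open MvPolynomial

variable (A : Type u) [CommRing A] [IsRegularLocalRing A] [IsDomain A] (r : ℕ) (f : Fin r → A)
    (hm : ∀ i, f i ∈ maximalIdeal A)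
    (hf : LinearIndependent (ResidueField A) (fun i => (maximalIdeal A).toCotangent ⟨f i, hm i⟩))
    [∀ i, (Ideal.span {f i}).IsPrime] (n : Fin r → ℕ) (hn : ∀ i, 1 ≤ n i)
    (hu : ∀ i, IsUnit ((n i : ℕ) : ResidueField A))

include hf hn hu in
theorem main : SGA1.IsTameAlong f (algebraMap A (SGA1.kummerAlg A f n)) := by
  classical
  intro i q hqp hq
  -- the DVR `R`
  have hfi0 : f i ≠ 0 := f_ne_zero f hm hf i
  haveI dR : IsDiscreteValuationRing (Localization.AtPrime (Ideal.span {f i})) :=
    isDiscreteValuationRing_localization (f i) hfi0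
  have hϖ : Irreducible (algebraMap A (Localization.AtPrime (Ideal.span {f i})) (f i)) :=
    irreducible_algebraMap (f i) hfi0
  -- units
  have hnA : ∀ j, IsUnit ((n j : ℕ) : A) := by
    intro j
    by_contra hnu
    have h1 : ((n j : ℕ) : A) ∈ maximalIdeal A := hnu
    have h2 : residue A ((n j : ℕ) : A) = 0 := (residue_eq_zero_iff _).mpr h1
    rw [map_natCast] at h2
    exact (hu j).ne_zero h2
  have hnR : ∀ j, IsUnit ((n j : ℕ) : Localization.AtPrime (Ideal.span {f i})) := by
    intro j
    have := (hnA j).map (algebraMap A (Localization.AtPrime (Ideal.span {f i})))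
    rwa [map_natCast] at this
  have hfjR : ∀ j, j ≠ i → IsUnit (algebraMap A (Localization.AtPrime (Ideal.span {f i})) (f j)) := by
    intro j hji
    exact IsLocalization.map_units (M := (Ideal.span {f i}).primeCompl) _
      ⟨f j, f_notMem_span f hm hf i j hji⟩
  -- the map `g : R → κ(q)`
  set g := SGA1.genericResidueMap (algebraMap A (SGA1.kummerAlg A f n)) (Ideal.span {f i}) q hq
    with hgdef
  have hgA : ∀ a : A, g (algebraMap A (Localization.AtPrime (Ideal.span {f i})) a) =
      algebraMap (SGA1.kummerAlg A f n) q.ResidueField (algebraMap A (SGA1.kummerAlg A f n) a) :=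
    fun a => IsLocalization.lift_eq _ a
  have hginj : Function.Injective g := by
    rw [hgdef, SGA1.genericResidueMap, IsLocalization.lift_injective_iff]
    intro x y
    have h1 : Function.Injective (algebraMap A (Localization.AtPrime (Ideal.span {f i}))) :=
      IsLocalization.injective _ (Ideal.span {f i}).primeCompl_le_nonZeroDivisors
    constructor
    · intro h; rw [h1 h]
    · intro h
      have h2 : algebraMap (SGA1.kummerAlg A f n) q.ResidueField
          (algebraMap A (SGA1.kummerAlg A f n) (x - y)) = 0 := by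
        rw [map_sub, map_sub, sub_eq_zero]; exact h
      rw [← RingHom.mem_ker, Ideal.ker_algebraMap_residueField] at h2
      have h3 : x - y ∈ Ideal.comap (algebraMap A (SGA1.kummerAlg A f n)) q := h2
      rw [hq, Ideal.mem_bot, sub_eq_zero] at h3
      rw [h3]
  letI algRκ : Algebra (Localization.AtPrime (Ideal.span {f i})) q.ResidueField := g.toAlgebra
  -- the generators
  set T : Fin r → SGA1.kummerAlg A f n := fun j => Ideal.Quotient.mk _ (X j) with hT
  have hTpow : ∀ j, T j ^ n j = algebraMap A (SGA1.kummerAlg A f n) (f j) := by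
    intro j
    have h1 : (X j : MvPolynomial (Fin r) A) ^ n j - C (f j) ∈ Ideal.span (Set.range fun i =>
        (X i : MvPolynomial (Fin r) A) ^ n i - C (f i)) := Ideal.subset_span ⟨j, rfl⟩
    have h2 := (Ideal.Quotient.eq_zero_iff_mem).mpr h1
    rw [map_sub, map_pow, sub_eq_zero] at h2
    exact h2
  set t : Fin r → q.ResidueField := fun j => algebraMap _ q.ResidueField (T j) with ht
  have htpow : ∀ j, t j ^ n j = algebraMap (Localization.AtPrime (Ideal.span {f i})) q.ResidueField
      (algebraMap A _ (f j)) := by
    intro j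
    change _ = g _
    rw [hgA, ← hTpow, map_pow]
  have htint : ∀ j, IsIntegral (Localization.AtPrime (Ideal.span {f i})) (t j) := by
    intro j
    refine ⟨Polynomial.X ^ n j - Polynomial.C (algebraMap A _ (f j)),
      Polynomial.monic_X_pow_sub_C _ (Nat.pos_iff_ne_zero.mp (hn j)), ?_⟩
    rw [Polynomial.eval₂_sub, Polynomial.eval₂_pow, Polynomial.eval₂_X, Polynomial.eval₂_C,
      htpow, sub_self]
  -- the unramified part `E₁`
  set s : Set q.ResidueField := t '' {j | j ≠ i} with hs
  have hsfin : s.Finite := (Set.toFinite _).image t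
  haveI finE₁ : Module.Finite (Localization.AtPrime (Ideal.span {f i})) (Algebra.adjoin _ s) :=
    Algebra.finite_adjoin_of_finite_of_isIntegral hsfin (by
      rintro _ ⟨j, -, rfl⟩; exact htint j)
  haveI fuE₁ : Algebra.FormallyUnramified (Localization.AtPrime (Ideal.span {f i}))
      (Algebra.adjoin (Localization.AtPrime (Ideal.span {f i})) s) := by
    apply KumAdjoin.formallyUnramified_adjoin
    rintro _ ⟨j, hji, rfl⟩
    exact ⟨n j, hn j, hnR j, algebraMap A _ (f j), hfjR j hji, htpow j⟩
  have hw : t i ^ n i = ((1 : Algebra.adjoin (Localization.AtPrime (Ideal.span {f i})) s) :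
      q.ResidueField) * algebraMap (Localization.AtPrime (Ideal.span {f i})) q.ResidueField
        (algebraMap A _ (f i)) := by
    rw [htpow, OneMemClass.coe_one, one_mul]
  -- fractions
  have hfrac : ∀ x : q.ResidueField, ∃ a b : Algebra.adjoin (Localization.AtPrime (Ideal.span {f i}))
      (((Algebra.adjoin (Localization.AtPrime (Ideal.span {f i})) s : Subalgebra _ _) :
        Set q.ResidueField) ∪ {t i}), b ≠ 0 ∧ x * (b : q.ResidueField) = (a : q.ResidueField) := by
    set E := Algebra.adjoin (Localization.AtPrime (Ideal.span {f i}))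
      (((Algebra.adjoin (Localization.AtPrime (Ideal.span {f i})) s : Subalgebra _ _) :
        Set q.ResidueField) ∪ {t i}) with hE
    have htE : ∀ j, t j ∈ E := by
      intro j
      by_cases hji : j = i
      · rw [hji]; exact Algebra.subset_adjoin (Or.inr rfl)
      · exact Algebra.subset_adjoin (Or.inl (Algebra.subset_adjoin ⟨j, hji, rfl⟩))
    have hBE : ∀ b : SGA1.kummerAlg A f n, algebraMap _ q.ResidueField b ∈ E := by
      intro b
      obtain ⟨P, rfl⟩ := Ideal.Quotient.mk_surjective b
      induction P using MvPolynomial.induction_on with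
      | C a =>
        have h1 : algebraMap (SGA1.kummerAlg A f n) q.ResidueField
            (Ideal.Quotient.mk _ (C a)) = algebraMap (Localization.AtPrime (Ideal.span {f i}))
              q.ResidueField (algebraMap A _ a) := (hgA a).symm
        rw [h1]
        exact E.algebraMap_mem _
      | add P Q hP hQ => rw [map_add, map_add]; exact E.add_mem hP hQ
      | mul_X P j hP => rw [map_mul, map_mul]; exact E.mul_mem hP (htE j)
    intro x
    obtain ⟨a, b, hb, rfl⟩ := IsFractionRing.div_surjective (A := SGA1.kummerAlg A f n ⧸ q) x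
    obtain ⟨a', rfl⟩ := Ideal.Quotient.mk_surjective a
    obtain ⟨b', rfl⟩ := Ideal.Quotient.mk_surjective b
    change UnrBC.IsFrac E _
    have h1 : ∀ c : SGA1.kummerAlg A f n, algebraMap (SGA1.kummerAlg A f n ⧸ q) q.ResidueField
        (Ideal.Quotient.mk q c) = algebraMap (SGA1.kummerAlg A f n) q.ResidueField c := fun c => rfl
    rw [h1, h1]
    exact (UnrBC.isFrac_of_mem E (hBE a')).div (UnrBC.isFrac_of_mem E (hBE b'))
  -- conclusion
  intro V hV
  letI algRV : Algebra (Localization.AtPrime (Ideal.span {f i})) V :=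
    (RingHom.codRestrict g V hV.1).toAlgebra
  intro hloc
  obtain ⟨-, hram, hsep⟩ := KEG.main_general (algebraMap A _ (f i)) hϖ hginj V hV
    (Algebra.adjoin (Localization.AtPrime (Ideal.span {f i})) s) 1 isUnit_one (n i) (hn i) (t i)
    hw hfrac
  refine ⟨hsep, fun p hp hchar hdvd => ?_⟩
  rw [hram] at hdvd
  have h2 : ((n i : ℕ) : ResidueField (Localization.AtPrime (Ideal.span {f i}))) = 0 :=
    (CharP.cast_eq_zero_iff _ p (n i)).mpr hdvd
  have h4 := (hnR i).map (residue (Localization.AtPrime (Ideal.span {f i})))
  rw [map_natCast, h2] at h4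
  exact not_isUnit_zero h4

end Main

end Groth.Agent.R2.H73.KummerAlg
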