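import Mathlib
import Groth.Prelude.Def_EtRam
import Groth.Agent.R2.H73ValDVR
import Groth.Agent.R2.H73LocUnr
import Groth.Agent.R2.H73KE
import Groth.Agent.R2.H73TameA
import Groth.Agent.R2.H10EtRamA
import Groth.Agent.R2.H10EtRamB

set_option autoImplicit false
set_option linter.style.haveILetI false
set_option linter.unusedSectionVars false
universe u

namespace Groth.Agent.R2.H73.TameC

open IsLocalRing Polynomial

section Converse

variable {A K L : Type u} [CommRing A] [IsDomain A] [IsDiscreteValuationRing A] [Field K]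
  [Algebra A K] [IsFractionRing A K] [Field L] [Algebra K L] [Algebra A L] [IsScalarTower A K L]
  [FiniteDimensional K L] [Algebra.IsSeparable K L]
  (π : A) (hπ : Irreducible π) (e : ℕ) (he : 0 < e) (heκ : (e : ResidueField A) ≠ 0)
  {L' : Type u} [Field L'] [Algebra K L'] [Algebra (AdjoinRoot (X ^ e - C π : A[X])) L']
  (emb : L →ₐ[K] L') [FiniteDimensional K L'] [Algebra.IsSeparable K L']
  (hcompat : (algebraMap (AdjoinRoot (X ^ e - C π : A[X])) L').comp (AdjoinRoot.of (X ^ e - C π)) =
    (algebraMap K L').comp (algebraMap A K))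
  (hunr : ∀ [IsLocalRing (AdjoinRoot (X ^ e - C π : A[X]))],
    EtRam.IsUnramifiedExt (AdjoinRoot (X ^ e - C π : A[X]))
      (algebraMap (AdjoinRoot (X ^ e - C π : A[X])) L'))

include hπ he heκ hcompat hunr emb in
theorem tame_of_cover : EtRam.IsTamelyRamified A (algebraMap A L) := by
  intro W hW
  letI algAW : Algebra A W := (RingHom.codRestrict (algebraMap A L) W hW.1).toAlgebra
  intro hlocAW
  haveI lA' := Eis.isLocalRing π hπ e he
  haveI dA' := Eis.isDomain π hπ e he
  haveI := Eis.isDiscreteValuationRing π hπ e he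
  haveI hlocAA' := Eis.isLocalHom_algebraMap π hπ e he
  obtain ⟨V', hV'W⟩ := Groth.Agent.R2.H10.EtRamA.exists_valuationSubring_comap_eq
    (emb : L →+* L') W
  subst hV'W
  have hg : ∀ a : A, (emb : L →+* L') (algebraMap A L a) =
      ((algebraMap K L').comp (algebraMap A K)) a := by
    intro a
    rw [IsScalarTower.algebraMap_apply A K L]
    exact emb.commutes _
  have hA : EtRam.Dominates A ((algebraMap K L').comp (algebraMap A K)) V' :=
    (Groth.Agent.R2.H10.EtRamB.dominates_comap_iff (emb : L →+* L') V' hg).mp hW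
  have hgA_inj : Function.Injective ((algebraMap K L').comp (algebraMap A K)) :=
    (algebraMap K L').injective.comp (IsFractionRing.injective A K)
  have hof : ∀ a : A, algebraMap (AdjoinRoot (X ^ e - C π : A[X])) L'
      (algebraMap A (AdjoinRoot (X ^ e - C π : A[X])) a) =
      ((algebraMap K L').comp (algebraMap A K)) a := fun a => RingHom.congr_fun hcompat a
  have hz' : (algebraMap (AdjoinRoot (X ^ e - C π : A[X])) L' (Eis.z π e)) ^ e =
      ((algebraMap K L').comp (algebraMap A K)) π := by
    rw [← map_pow, Eis.z_pow, hof]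
  have hρ : algebraMap (AdjoinRoot (X ^ e - C π : A[X])) L' =
      KE.ρ π e ((algebraMap K L').comp (algebraMap A K)) _ hz' := by
    apply AdjoinRoot.ringHom_ext
    · ext a
      rw [RingHom.comp_apply, RingHom.comp_apply]
      exact (hof a).trans (KE.ρ_algebraMap π e _ _ hz' a).symm
    · exact (KE.ρ_root π e _ _ hz').symm
  have hA' : EtRam.Dominates (AdjoinRoot (X ^ e - C π : A[X]))
      (algebraMap (AdjoinRoot (X ^ e - C π : A[X])) L') V' := by
    rw [hρ]
    exact ⟨KE.ρ_mem π hπ e he _ _ hz' V' hA.1 hA.2, KE.ρ_lt_one π hπ e he _ _ hz' V' hA.1 hA.2⟩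
  letI algA'V' : Algebra (AdjoinRoot (X ^ e - C π : A[X])) V' :=
    (RingHom.codRestrict (algebraMap (AdjoinRoot (X ^ e - C π : A[X])) L') V' hA'.1).toAlgebra
  haveI locA'V' : IsLocalHom (algebraMap (AdjoinRoot (X ^ e - C π : A[X])) V') :=
    Groth.Agent.R2.H10.EtRamA.isLocalHom_of_dominates hA'
  obtain ⟨hwu, hsepA'V'⟩ := hunr V' hA'
  letI algAV' : Algebra A V' :=
    (RingHom.codRestrict ((algebraMap K L').comp (algebraMap A K)) V' hA.1).toAlgebra
  have hWV' := Groth.Agent.R2.H10.EtRamB.dominates_comap_self (emb : L →+* L') V'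
  letI algWV' : Algebra (V'.comap (emb : L →+* L')) V' :=
    (RingHom.codRestrict ((emb : L →+* L').comp (V'.comap (emb : L →+* L')).subtype) V'
      hWV'.1).toAlgebra
  haveI : IsScalarTower A (V'.comap (emb : L →+* L')) V' :=
    IsScalarTower.of_algebraMap_eq (fun a => Subtype.ext (hg a).symm)
  haveI : IsScalarTower A (AdjoinRoot (X ^ e - C π : A[X])) V' :=
    IsScalarTower.of_algebraMap_eq (fun a => Subtype.ext (hof a).symm)
  haveI locWV' : IsLocalHom (algebraMap (V'.comap (emb : L →+* L')) V') :=
    Groth.Agent.R2.H10.EtRamA.isLocalHom_of_dominates hWV'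
  haveI locAV' : IsLocalHom (algebraMap A V') :=
    Groth.Agent.R2.H10.EtRamA.isLocalHom_of_dominates hA
  haveI dV' : IsDiscreteValuationRing V' :=
    Groth.Agent.R2.H10.EtRamA.isDiscreteValuationRing_of_dominates A K L' V' hA
  haveI dW : IsDiscreteValuationRing (V'.comap (emb : L →+* L')) :=
    TameA.isDiscreteValuationRing_of_dominates A K L _ hW
  -- the ramification index of `V'` over `A` is `e`
  have hzV' : algebraMap (AdjoinRoot (X ^ e - C π : A[X])) L' (Eis.z π e) ∈ V' := hA'.1 _
  have hmaxV' : maximalIdeal V' =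
      Ideal.span {(⟨algebraMap (AdjoinRoot (X ^ e - C π : A[X])) L' (Eis.z π e), hzV'⟩ : V')} := by
    have h1 : (maximalIdeal (AdjoinRoot (X ^ e - C π : A[X]))).map
      (algebraMap (AdjoinRoot (X ^ e - C π : A[X])) V') = maximalIdeal V' := hwu
    rw [← h1, Eis.maximalIdeal_eq π hπ e he, Ideal.map_span, Set.image_singleton]
    rfl
  have hz0 : (⟨algebraMap (AdjoinRoot (X ^ e - C π : A[X])) L' (Eis.z π e), hzV'⟩ : V') ≠ 0 := by
    intro h0
    have h1 : algebraMap (AdjoinRoot (X ^ e - C π : A[X])) L' (Eis.z π e) = 0 :=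
      congrArg Subtype.val h0
    rw [h1, zero_pow he.ne'] at hz'
    exact hπ.ne_zero ((map_eq_zero_iff _ hgA_inj).mp hz'.symm)
  have heV' : (maximalIdeal A).ramificationIdx' (maximalIdeal V') = e := by
    apply Eis.ramificationIdx'_eq_of_map_eq _ _ hmaxV' hz0 e
    rw [hπ.maximalIdeal_eq, Ideal.map_span, Set.image_singleton]
    congr 2
    exact Subtype.ext hz'.symm
  have injWV' : Function.Injective (algebraMap (V'.comap (emb : L →+* L')) V') := fun a b hab =>
    Subtype.ext ((emb : L →+* L').injective (congrArg Subtype.val hab))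
  have injAV' : Function.Injective (algebraMap A V') := fun a b hab =>
    hgA_inj (congrArg Subtype.val hab)
  have htower := Groth.Agent.R2.H10.EtRamB.ramificationIdx_tower (A := A)
    (V := V'.comap (emb : L →+* L')) (W := V') injWV' injAV'
  rw [heV'] at htower
  constructor
  · -- separability
    haveI h1 : Algebra.IsSeparable (ResidueField A)
        (ResidueField (AdjoinRoot (X ^ e - C π : A[X]))) := ⟨fun x => by
      obtain ⟨a, rfl⟩ := Eis.residue_algebraMap_surjective π hπ e he x
      rw [← ResidueField.algebraMap_residue]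
      exact isSeparable_algebraMap _⟩
    haveI h2 : Algebra.IsSeparable (ResidueField (AdjoinRoot (X ^ e - C π : A[X])))
        (ResidueField V') := hsepA'V'
    haveI h3 : Algebra.IsSeparable (ResidueField A) (ResidueField V') :=
      Algebra.IsSeparable.trans (ResidueField A) (ResidueField (AdjoinRoot (X ^ e - C π : A[X])))
        (ResidueField V')
    exact Algebra.isSeparable_tower_bot_of_isSeparable (ResidueField A)
      (ResidueField (V'.comap (emb : L →+* L'))) (ResidueField V')
  · intro p hp hchar hdvd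
    have h1 : p ∣ e := by rw [htower]; exact Dvd.dvd.mul_right hdvd _
    apply heκ
    rw [CharP.cast_eq_zero_iff (ResidueField A) p]
    exact h1

end Converse

end Groth.Agent.R2.H73.TameC
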