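/-
helper73: core facts for the WildQuot rows S15794 / S15798 / S19994.

`A` a complete Noetherian local ring with a field of representatives `k` (same universe) fixed by a
finite group `G` acting on `A`; `x_1, …, x_n ∈ 𝔪` invariant with `(x)` primary to `𝔪`.  Then
`A` is finite over the invariants `A^G`, `A^G` is Noetherian local, complete, of the same dimension.
-/
import Mathlib
import Groth.Agent.Lib.Helper19PsLiftComplete
import Groth.Agent.Lib.Helper19CKRel2
import Groth.Agent.Lib.Helper5IntDim
import Groth.Agent.Lib.Helper28CTensorB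
import Groth.Agent.R2.H73FixLoc

set_option autoImplicit false
set_option linter.unusedSectionVars false
set_option linter.style.haveILetI false
universe u v w

namespace Groth.Agent.R2.H73.WildCore

open IsLocalRing

section Adic

/-- adic completeness for an ideal with the same topology. -/
theorem isAdicComplete_of_pow_le {R : Type*} [CommRing R] (I J : Ideal R) [IsAdicComplete J R]
    (hJI : J ≤ I) (N : ℕ) (hN : I ^ N ≤ J) : IsAdicComplete I R := by
  have hle1 : ∀ m, (J ^ m • ⊤ : Submodule R R) ≤ (I ^ m • ⊤ : Submodule R R) := fun m =>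
    Submodule.smul_mono_left (Ideal.pow_right_mono hJI m)
  have hle2 : ∀ m, (I ^ ((N + 1) * m) • ⊤ : Submodule R R) ≤ (J ^ m • ⊤ : Submodule R R) := by
    intro m
    refine Submodule.smul_mono_left ?_
    calc I ^ ((N + 1) * m) ≤ I ^ (N * m) :=
          Ideal.pow_le_pow_right (Nat.mul_le_mul_right m (Nat.le_succ N))
      _ = (I ^ N) ^ m := pow_mul I N m
      _ ≤ J ^ m := Ideal.pow_right_mono hN m
  refine { toIsHausdorff := ⟨fun x hx => ?_⟩, toIsPrecomplete := ⟨fun f hf => ?_⟩ }
  · apply IsHausdorff.haus (inferInstance : IsHausdorff J R) x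
    intro m
    exact SModEq.mono (hle2 m) (hx _)
  · have hg : ∀ {m m'}, m ≤ m' →
        f ((N + 1) * m) ≡ f ((N + 1) * m') [SMOD (J ^ m • ⊤ : Submodule R R)] := by
      intro m m' h
      exact SModEq.mono (hle2 m) (hf (Nat.mul_le_mul_left (N + 1) h))
    obtain ⟨L, hL⟩ := IsPrecomplete.prec (inferInstance : IsPrecomplete J R) hg
    refine ⟨L, fun m => ?_⟩
    have h1 : f m ≡ f ((N + 1) * m) [SMOD (I ^ m • ⊤ : Submodule R R)] :=
      hf (Nat.le_mul_of_pos_left m (Nat.succ_pos N))
    exact h1.trans (SModEq.mono (hle1 m) (hL m))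

end Adic

section Invariants

variable {A : Type u} [CommRing A] {G : Type w} [Group G] [MulSemiringAction G A]

instance isInvariant_fixed : Algebra.IsInvariant (FixedPoints.subring A G) A G :=
  ⟨fun b hb => ⟨⟨b, hb⟩, rfl⟩⟩

lemma isUnit_fixed_iff (b : FixedPoints.subring A G) : IsUnit b ↔ IsUnit (b : A) := by
  constructor
  · intro h
    exact h.map (FixedPoints.subring A G).subtype
  · intro h
    obtain ⟨y, hy⟩ := h.exists_right_inv
    have hyfix : ∀ σ : G, σ • y = y := by
      intro σ
      have h1 : (b : A) * σ • y = 1 := by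
        have := congrArg (σ • ·) hy
        simpa [smul_mul', b.2 σ] using this
      have h2 : y * (b : A) = 1 := by rw [mul_comm]; exact hy
      calc σ • y = (y * (b : A)) * σ • y := by rw [h2, one_mul]
        _ = y * ((b : A) * σ • y) := by ring
        _ = y := by rw [h1, mul_one]
    exact IsUnit.of_mul_eq_one ⟨y, hyfix⟩ (Subtype.ext hy)

variable [IsLocalRing A]

instance isLocalRing_fixed : IsLocalRing (FixedPoints.subring A G) := by
  haveI : Nontrivial (FixedPoints.subring A G) := inferInstance
  refine IsLocalRing.of_nonunits_add ?_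
  intro a b ha hb
  rw [mem_nonunits_iff, isUnit_fixed_iff] at ha hb ⊢
  have ha' : (a : A) ∈ maximalIdeal A := (mem_maximalIdeal _).2 ha
  have hb' : (b : A) ∈ maximalIdeal A := (mem_maximalIdeal _).2 hb
  exact (mem_maximalIdeal _).1 ((maximalIdeal A).add_mem ha' hb')

lemma maximalIdeal_fixed : maximalIdeal (FixedPoints.subring A G) =
    Ideal.comap (FixedPoints.subring A G).subtype (maximalIdeal A) := by
  ext b
  rw [mem_maximalIdeal, mem_nonunits_iff, isUnit_fixed_iff, Ideal.mem_comap, mem_maximalIdeal,
    mem_nonunits_iff]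
  rfl

instance isLocalHom_fixed : IsLocalHom (algebraMap (FixedPoints.subring A G) A) :=
  ⟨fun b hb => (isUnit_fixed_iff b).2 hb⟩

lemma smul_mem_max (σ : G) {x : A} (hx : x ∈ maximalIdeal A) : σ • x ∈ maximalIdeal A := by
  rw [mem_maximalIdeal, mem_nonunits_iff] at hx ⊢
  intro h
  apply hx
  have : IsUnit (σ⁻¹ • (σ • x)) := by
    have := h.map (MulSemiringAction.toRingEquiv G A σ⁻¹)
    simpa using this
  simpa using this

/-- a field of representatives fixed by `G` forces the action to be trivial on the residue field. -/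
lemma hres_of {k : Type v} [Field k] [Algebra k A]
    (hk : Function.Surjective (IsLocalRing.residue A ∘ algebraMap k A))
    (hGk : ∀ (σ : G) (c : k), σ • algebraMap k A c = algebraMap k A c) (σ : G) (a : A) :
    σ • a - a ∈ maximalIdeal A := by
  obtain ⟨c, hc⟩ := hk (residue A a)
  have hm : a - algebraMap k A c ∈ maximalIdeal A := by
    rw [← residue_eq_zero_iff, map_sub, sub_eq_zero]
    exact hc.symm
  have : σ • a - a = σ • (a - algebraMap k A c) - (a - algebraMap k A c) := by
    rw [smul_sub, hGk]; ring
  rw [this]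
  exact Ideal.sub_mem _ (smul_mem_max σ hm) hm

end Invariants

section Finite

open MvPowerSeries

variable {k A : Type u} [Field k] [CommRing A] [IsLocalRing A] [IsNoetherianRing A] [Algebra k A]
  [IsAdicComplete (maximalIdeal A) A]
  {G : Type w} [Group G] [MulSemiringAction G A]

lemma maximalIdeal_mem_minimalPrimes (I : Ideal A) (hI : I ≤ maximalIdeal A)
    (hrad : maximalIdeal A ≤ I.radical) : maximalIdeal A ∈ I.minimalPrimes := by
  refine ⟨⟨inferInstance, hI⟩, ?_⟩
  rintro P ⟨hP, hIP⟩ -
  exact hrad.trans (hP.radical_le_iff.2 hIP)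

/-- the power series structure attached to invariant parameters. -/
theorem exists_structure
    (hk : Function.Surjective (IsLocalRing.residue A ∘ algebraMap k A))
    (hGk : ∀ (σ : G) (c : k), σ • algebraMap k A c = algebraMap k A c)
    {n : ℕ} (x : Fin n → A) (hxm : ∀ i, x i ∈ maximalIdeal A)
    (hxfix : ∀ (σ : G) i, σ • x i = x i)
    (hrad : maximalIdeal A ≤ (Ideal.span (Set.range x)).radical) :
    ∃ φ : MvPowerSeries (Fin n) k →ₐ[k] A, (∀ i, φ (X i) = x i) ∧
      (∀ f (σ : G), σ • φ f = φ f) ∧ φ.toRingHom.Finite := by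
  obtain ⟨φ, hφ⟩ := Groth.Agent.Lib.Helper19.exists_algHom_X_eq_of_isAdicComplete (Λ := k)
    (maximalIdeal A) x hxm
  refine ⟨φ, hφ, ?_, ?_⟩
  · intro f σ
    let ψ : MvPowerSeries (Fin n) k →ₐ[k] A :=
      { toRingHom := (MulSemiringAction.toRingHom G A σ).comp φ.toRingHom
        commutes' := fun c => by
          change σ • φ (algebraMap k _ c) = _
          rw [φ.commutes, hGk] }
    have hψ : ψ = φ := by
      apply Groth.Agent.Lib.Helper19.algHom_ext_of_X_of_isHausdorff (maximalIdeal A)
      · intro s
        change σ • φ (X s) ∈ _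
        rw [hφ]
        exact smul_mem_max σ (hxm s)
      · intro s
        change σ • φ (X s) = _
        rw [hφ, hxfix]
    exact DFunLike.congr_fun hψ f
  · letI : Algebra (MvPowerSeries (Fin n) k) A := φ.toRingHom.toAlgebra
    haveI : IsScalarTower k (MvPowerSeries (Fin n) k) A :=
      IsScalarTower.of_algebraMap_eq (fun c => (φ.commutes c).symm)
    haveI : Module.Finite k (ResidueField A) := by
      have hs : Function.Surjective (Algebra.linearMap k (ResidueField A)) := hk
      exact Module.Finite.of_surjective _ hs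
    have hloc : ∀ i, algebraMap (MvPowerSeries (Fin n) k) A (X i) ∈ maximalIdeal A := by
      intro i
      change φ (X i) ∈ _
      rw [hφ]; exact hxm i
    change Module.Finite (MvPowerSeries (Fin n) k) A
    apply Groth.Agent.Lib.Helper19.CKRel.finite_of_isArtinianRing_quotient n hloc
    apply IsLocalRing.quotient_artinian_of_mem_minimalPrimes_of_isLocalRing
    apply maximalIdeal_mem_minimalPrimes _ (Groth.Agent.Lib.Helper19.CKRel.map_maximalIdeal_le n hloc)
    refine hrad.trans (Ideal.radical_mono ?_)
    rw [Ideal.span_le]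
    rintro _ ⟨i, rfl⟩
    rw [← hφ i]
    apply Ideal.mem_map_of_mem
    rw [mem_maximalIdeal, mem_nonunits_iff, MvPowerSeries.isUnit_iff_constantCoeff]
    simp

/-- `A` is finite over the invariants, which are Noetherian and complete. -/
theorem fixed_package
    (hk : Function.Surjective (IsLocalRing.residue A ∘ algebraMap k A))
    (hGk : ∀ (σ : G) (c : k), σ • algebraMap k A c = algebraMap k A c)
    {n : ℕ} (x : Fin n → A) (hxm : ∀ i, x i ∈ maximalIdeal A)
    (hxfix : ∀ (σ : G) i, σ • x i = x i)
    (hrad : maximalIdeal A ≤ (Ideal.span (Set.range x)).radical) :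
    Module.Finite (FixedPoints.subring A G) A ∧ IsNoetherianRing (FixedPoints.subring A G) ∧
      IsAdicComplete (maximalIdeal (FixedPoints.subring A G)) (FixedPoints.subring A G) := by
  obtain ⟨φ, hφ, hfix, hfin⟩ := exists_structure hk hGk x hxm hxfix hrad
  letI algRA : Algebra (MvPowerSeries (Fin n) k) A := φ.toRingHom.toAlgebra
  haveI : Module.Finite (MvPowerSeries (Fin n) k) A := hfin
  let φB : MvPowerSeries (Fin n) k →+* FixedPoints.subring A G :=
    φ.toRingHom.codRestrict (FixedPoints.subring A G) (fun f σ => hfix f σ)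
  letI algRB : Algebra (MvPowerSeries (Fin n) k) (FixedPoints.subring A G) := φB.toAlgebra
  haveI : IsScalarTower (MvPowerSeries (Fin n) k) (FixedPoints.subring A G) A :=
    IsScalarTower.of_algebraMap_eq (fun f => rfl)
  have h1 : Module.Finite (FixedPoints.subring A G) A :=
    Module.Finite.of_restrictScalars_finite (MvPowerSeries (Fin n) k) (FixedPoints.subring A G) A
  haveI : IsNoetherian (MvPowerSeries (Fin n) k) A :=
    isNoetherian_of_isNoetherianRing_of_finite (MvPowerSeries (Fin n) k) A
  haveI h2 : Module.Finite (MvPowerSeries (Fin n) k) (FixedPoints.subring A G) :=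
    Module.Finite.of_injective
      ((IsScalarTower.toAlgHom (MvPowerSeries (Fin n) k) (FixedPoints.subring A G) A).toLinearMap)
      Subtype.val_injective
  haveI h3 : IsNoetherianRing (FixedPoints.subring A G) :=
    IsNoetherianRing.of_finite (MvPowerSeries (Fin n) k) (FixedPoints.subring A G)
  refine ⟨h1, h3, ?_⟩
  haveI : IsAdicComplete (maximalIdeal (MvPowerSeries (Fin n) k)) (MvPowerSeries (Fin n) k) :=
    Groth.Agent.Lib.Helper7.ComplKaehler.isAdicComplete_ps k n
  have h4 : IsAdicComplete (maximalIdeal (MvPowerSeries (Fin n) k)) (FixedPoints.subring A G) :=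
    Groth.Agent.Lib.Helper28.CTensor.isAdicComplete_of_finite_module (B := MvPowerSeries (Fin n) k)
      (FixedPoints.subring A G)
  set J : Ideal (FixedPoints.subring A G) := (maximalIdeal (MvPowerSeries (Fin n) k)).map
    (algebraMap (MvPowerSeries (Fin n) k) (FixedPoints.subring A G)) with hJdef
  haveI h5 : IsAdicComplete J (FixedPoints.subring A G) :=
    (IsAdicComplete.map_algebraMap_iff (S := FixedPoints.subring A G) _ _).mpr h4
  have hloc : ∀ i, algebraMap (MvPowerSeries (Fin n) k) A (X i) ∈ maximalIdeal A := by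
    intro i
    change φ (X i) ∈ _
    rw [hφ]; exact hxm i
  haveI : IsScalarTower k (MvPowerSeries (Fin n) k) A :=
    IsScalarTower.of_algebraMap_eq (fun c => (φ.commutes c).symm)
  have hJ : J ≤ maximalIdeal (FixedPoints.subring A G) := by
    rw [hJdef, Ideal.map_le_iff_le_comap]
    intro f hf
    rw [Ideal.mem_comap, maximalIdeal_fixed, Ideal.mem_comap]
    exact Groth.Agent.Lib.Helper19.CKRel.map_maximalIdeal_le n hloc (Ideal.mem_map_of_mem _ hf)
  haveI : Algebra.IsIntegral (MvPowerSeries (Fin n) k) (FixedPoints.subring A G) :=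
    Algebra.IsIntegral.of_finite _ _
  have hmin : maximalIdeal (FixedPoints.subring A G) ∈ J.minimalPrimes := by
    refine ⟨⟨inferInstance, hJ⟩, ?_⟩
    rintro P ⟨hP, hJP⟩ -
    haveI := hP
    have hc : (maximalIdeal (MvPowerSeries (Fin n) k)) ≤
        P.comap (algebraMap (MvPowerSeries (Fin n) k) (FixedPoints.subring A G)) :=
      Ideal.map_le_iff_le_comap.1 hJP
    have hc' : P.comap (algebraMap (MvPowerSeries (Fin n) k) (FixedPoints.subring A G)) =
        maximalIdeal (MvPowerSeries (Fin n) k) :=
      ((IsLocalRing.maximalIdeal.isMaximal _).eq_of_le (Ideal.IsPrime.ne_top inferInstance) hc).symm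
    have hPmax : P.IsMaximal := Ideal.isMaximal_of_isIntegral_of_isMaximal_comap P (by
      rw [hc']; infer_instance)
    rw [IsLocalRing.eq_maximalIdeal hPmax]
  haveI : IsArtinianRing (FixedPoints.subring A G ⧸ J) :=
    IsLocalRing.quotient_artinian_of_mem_minimalPrimes_of_isLocalRing J hmin
  haveI : IsLocalRing (FixedPoints.subring A G ⧸ J) :=
    Groth.Agent.Lib.Helper19.Normalization.isLocalRing_quotient_of_le J hJ
  obtain ⟨N, hN⟩ : ∃ N : ℕ, maximalIdeal (FixedPoints.subring A G ⧸ J) ^ N = ⊥ := by
    have h := IsArtinianRing.isNilpotent_jacobson_bot (R := FixedPoints.subring A G ⧸ J)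
    rw [IsLocalRing.jacobson_eq_maximalIdeal ⊥ bot_ne_top] at h
    exact h
  have hN' : maximalIdeal (FixedPoints.subring A G) ^ N ≤ J := by
    intro y hy
    have h1 : Ideal.Quotient.mk J y ∈ (maximalIdeal (FixedPoints.subring A G) ^ N).map
        (Ideal.Quotient.mk J) := Ideal.mem_map_of_mem _ hy
    rw [Ideal.map_pow] at h1
    have h2 : (maximalIdeal (FixedPoints.subring A G)).map (Ideal.Quotient.mk J) ≤
        maximalIdeal (FixedPoints.subring A G ⧸ J) := by
      rw [Ideal.map_le_iff_le_comap]
      intro z hz
      exact Groth.Agent.Lib.Helper19.Normalization.mk_mem_maximalIdeal_of_mem J hJ hz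
    have h3 := Ideal.pow_right_mono h2 N h1
    rw [hN, Ideal.mem_bot] at h3
    exact Ideal.Quotient.eq_zero_iff_mem.1 h3
  exact isAdicComplete_of_pow_le (maximalIdeal (FixedPoints.subring A G)) J hJ N hN'

end Finite

section Transfer

variable {A : Type u} [CommRing A] [IsLocalRing A] {G : Type w} [Group G] [MulSemiringAction G A]

/-- a field of representatives may be taken in the universe of `A` (the residue field itself). -/
theorem exists_coeffField {k : Type v} [Field k] [Algebra k A]
    (hk : Function.Surjective (IsLocalRing.residue A ∘ algebraMap k A))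
    (hGk : ∀ (σ : G) (c : k), σ • algebraMap k A c = algebraMap k A c) :
    ∃ (k' : Type u) (_ : Field k') (_ : Algebra k' A),
      Function.Surjective (IsLocalRing.residue A ∘ algebraMap k' A) ∧
      ∀ (σ : G) (c : k'), σ • algebraMap k' A c = algebraMap k' A c := by
  let f : k →+* ResidueField A := (IsLocalRing.residue A).comp (algebraMap k A)
  let e : k ≃+* ResidueField A := RingEquiv.ofBijective f ⟨f.injective, hk⟩
  let g : ResidueField A →+* A := (algebraMap k A).comp e.symm.toRingHom
  refine ⟨ResidueField A, inferInstance, g.toAlgebra, ?_, ?_⟩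
  · intro y
    refine ⟨y, ?_⟩
    change IsLocalRing.residue A (algebraMap k A (e.symm y)) = y
    exact e.apply_symm_apply y
  · intro σ c
    change σ • algebraMap k A (e.symm c) = algebraMap k A (e.symm c)
    exact hGk σ _

end Transfer

section Norm

variable {A : Type u} [CommRing A] [IsLocalRing A] {G : Type w} [Group G] [Fintype G]
  [MulSemiringAction G A]

/-- norms of an admissible system of parameters: invariant, in `𝔪`, and primary to `𝔪`. -/
theorem norm_params {n : ℕ} (u : Fin n → A)
    (hu : ∀ τ : Fin n → G,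
      Ideal.span (Set.range fun i => τ i • u i) = IsLocalRing.maximalIdeal A) :
    (∀ i, (∏ σ : G, σ • u i) ∈ maximalIdeal A) ∧
      (∀ (σ : G) i, σ • (∏ τ : G, τ • u i) = ∏ τ : G, τ • u i) ∧
      maximalIdeal A ≤ (Ideal.span (Set.range fun i => ∏ σ : G, σ • u i)).radical := by
  have hu0 : Ideal.span (Set.range u) = maximalIdeal A := by
    simpa using hu (fun _ => 1)
  refine ⟨fun i => ?_, fun σ i => Finset.smul_prod_perm _ _, ?_⟩
  · have hui : u i ∈ maximalIdeal A := by
      rw [← hu0]; exact Ideal.subset_span ⟨i, rfl⟩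
    have hdvd : (1 : G) • u i ∣ ∏ σ : G, σ • u i :=
      Finset.dvd_prod_of_mem (fun σ : G => σ • u i) (Finset.mem_univ 1)
    rw [one_smul] at hdvd
    exact Ideal.mem_of_dvd _ hdvd hui
  · -- a prime containing all norms contains some `τ i • u i` for each `i`
    rw [Ideal.radical_eq_sInf]
    refine le_sInf ?_
    rintro P ⟨hxP, hP⟩
    have hex : ∀ i, ∃ τ : G, τ • u i ∈ P := by
      intro i
      have hmem : (∏ σ : G, σ • u i) ∈ P := hxP (Ideal.subset_span ⟨i, rfl⟩)
      obtain ⟨τ, -, hτ⟩ := (hP.prod_mem_iff).1 hmem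
      exact ⟨τ, hτ⟩
    choose τ hτ using hex
    rw [← hu τ, Ideal.span_le]
    rintro _ ⟨i, rfl⟩
    exact hτ i

end Norm

section Dim

variable {A : Type u} [CommRing A] {G : Type w} [Group G] [Finite G] [MulSemiringAction G A]

instance isIntegral_fixed : Algebra.IsIntegral (FixedPoints.subring A G) A :=
  Algebra.IsInvariant.isIntegral (FixedPoints.subring A G) A G

theorem ringKrullDim_fixed : ringKrullDim (FixedPoints.subring A G) = ringKrullDim A :=
  (Groth.Agent.Lib.Helper5.ringKrullDim_eq_of_isIntegral_of_injective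
    (FixedPoints.subring A G) A Subtype.val_injective).symm

variable [IsLocalRing A]

theorem map_maximalIdeal_fixed_le :
    (maximalIdeal (FixedPoints.subring A G)).map (algebraMap (FixedPoints.subring A G) A) ≤
      maximalIdeal A := by
  rw [Ideal.map_le_iff_le_comap]
  intro b hb
  rw [maximalIdeal_fixed] at hb
  exact hb

/-- the closed fibre of `Spec A → Spec A^G` has dimension zero. -/
theorem ringKrullDim_quotient_map_maximalIdeal :
    ringKrullDim (A ⧸ (maximalIdeal (FixedPoints.subring A G)).map
      (algebraMap (FixedPoints.subring A G) A)) = 0 := by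
  set I := (maximalIdeal (FixedPoints.subring A G)).map (algebraMap (FixedPoints.subring A G) A)
    with hI
  have hle : I ≤ maximalIdeal A := map_maximalIdeal_fixed_le
  haveI : Nontrivial (A ⧸ I) := Ideal.Quotient.nontrivial_iff.2 fun h =>
    (IsLocalRing.maximalIdeal.isMaximal A).ne_top (top_le_iff.1 (h ▸ hle))
  rw [← ringKrullDimZero_iff_ringKrullDim_eq_zero,
    Ideal.krullDimLE_zero_quotient_iff_forall_minimalPrimes_isMaximal]
  intro J hJ
  haveI : J.IsPrime := hJ.1.1
  have hc : maximalIdeal (FixedPoints.subring A G) ≤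
      J.comap (algebraMap (FixedPoints.subring A G) A) := Ideal.map_le_iff_le_comap.1 hJ.1.2
  have hc' : J.comap (algebraMap (FixedPoints.subring A G) A) =
      maximalIdeal (FixedPoints.subring A G) :=
    ((IsLocalRing.maximalIdeal.isMaximal _).eq_of_le (Ideal.IsPrime.ne_top inferInstance) hc).symm
  exact Ideal.isMaximal_of_isIntegral_of_isMaximal_comap J (by rw [hc']; infer_instance)

end Dim

section Normal

variable {A : Type u} [CommRing A] [IsDomain A] [IsIntegrallyClosed A]
  {G : Type w} [Group G] [Finite G] [MulSemiringAction G A]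

/-- invariants of a group of prime order acting on a normal domain are normal. -/
theorem isIntegrallyClosed_fixed_of_prime_card (p : ℕ) [Fact p.Prime] (hcard : Nat.card G = p) :
    IsIntegrallyClosed (FixedPoints.subring A G) := by
  haveI : IsCyclic G := isCyclic_of_prime_card hcard
  obtain ⟨g, hg⟩ := IsCyclic.exists_generator (α := G)
  have h : FixedPoints.subring A G =
      FixLoc.fixedSubring (MulSemiringAction.toRingEquiv G A g) := by
    ext a
    constructor
    · intro ha
      exact ha g
    · intro ha σ
      have ha' : g • a = a := ha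
      obtain ⟨m, rfl⟩ := Subgroup.mem_zpowers_iff.1 (hg σ)
      have hz : ∀ m : ℤ, (g ^ m) • a = a := by
        intro m
        induction m using Int.induction_on with
        | zero => simp
        | succ i ih => rw [zpow_add_one, mul_smul, ha', ih]
        | pred i ih =>
          rw [zpow_sub_one, mul_smul]
          have : g⁻¹ • a = a := by rw [inv_smul_eq_iff, ha']
          rw [this, ih]
      exact hz m
  rw [h]
  exact FixLoc.isIntegrallyClosed_fixedSubring _

end Normal

end Groth.Agent.R2.H73.WildCore
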