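import Mathlib
import Groth.Prelude.Def_CAlg
import Groth.Agent.Lib.Helper28DepthCM2
import Groth.Agent.Lib.Helper28Depth
import Groth.Agent.Lib.Helper28DepthLoc

/-!
# Quotients of Cohen–Macaulay local rings by regular sequences have no embedded maximal ideal
-/

set_option autoImplicit false
set_option linter.style.haveILetI false
set_option linter.unnecessarySimpa false
universe u

namespace Groth.Agent.R2.H74.CMQuot

open RingTheory.Sequence Groth.Agent.Lib.Helper28

theorem ringKrullDim_eq_zero_of_isAssociatedPrime {A B : Type u} [CommRing A]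
    [hA : LocCoh.IsCohenMacaulayLocalRing A] [CommRing B] [IsLocalRing B] (σ : A →+* B)
    (hσ : Function.Surjective σ) (rs : List A) (hreg : IsRegular A rs)
    (hker : RingHom.ker σ = Ideal.ofList rs)
    (hass : IsAssociatedPrime (IsLocalRing.maximalIdeal B) B) : ringKrullDim B = 0 := by
  haveI : IsNoetherianRing B := isNoetherianRing_of_surjective A B σ hσ
  -- elements of the kernel are non-units
  have hnonunit : ∀ r : A, σ r ∈ IsLocalRing.maximalIdeal B → r ∈ IsLocalRing.maximalIdeal A := by
    intro r hr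
    rw [IsLocalRing.mem_maximalIdeal, mem_nonunits_iff] at hr ⊢
    exact fun h => hr (h.map σ)
  have hmem : ∀ r ∈ rs, r ∈ IsLocalRing.maximalIdeal A := by
    intro r hr
    apply hnonunit
    have : r ∈ RingHom.ker σ := by rw [hker]; exact Ideal.subset_span hr
    rw [RingHom.mem_ker] at this
    rw [this]; exact Ideal.zero_mem _
  have hmem' : ∀ r : A, r ∈ IsLocalRing.maximalIdeal A → σ r ∈ IsLocalRing.maximalIdeal B := by
    intro r hr
    rw [IsLocalRing.mem_maximalIdeal, mem_nonunits_iff] at hr ⊢
    intro hu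
    obtain ⟨c, hc⟩ := hu.exists_right_inv
    obtain ⟨s, rfl⟩ := hσ c
    have h1 : r * s - 1 ∈ RingHom.ker σ := by
      rw [RingHom.mem_ker, map_sub, map_mul, hc, map_one, sub_self]
    rw [hker] at h1
    have h2 : r * s - 1 ∈ IsLocalRing.maximalIdeal A :=
      ofList_le_of_forall_mem hmem h1
    have h3 : r * s ∈ IsLocalRing.maximalIdeal A :=
      Ideal.mul_mem_right _ _ ((IsLocalRing.mem_maximalIdeal _).2 hr)
    have h4 : (1 : A) ∈ IsLocalRing.maximalIdeal A := by
      have := Ideal.sub_mem _ h3 h2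
      simpa using this
    exact (Ideal.ne_top_iff_one _).1 (IsLocalRing.maximalIdeal.isMaximal A).ne_top h4
  have hM : LocCoh.IsCohenMacaulayModule A A := hA.supportDim_eq_depth
  have hCMq := isCohenMacaulayModule_quot_ofList hM rs hmem hreg.toIsWeaklyRegular
  have hmA : IsLocalRing.maximalIdeal A • (⊤ : Submodule A A) ≠ ⊤ :=
    maximalIdeal_smul_top_ne_top
  have hIM := smul_top_quot_ofList_ne_top (M := A) (I := IsLocalRing.maximalIdeal A) hmem hmA
  obtain ⟨-, b, hb⟩ := (Submodule.isAssociatedPrime_iff).1 hass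
  have hb0 : b ≠ 0 := by
    intro h0
    have : (1 : B) ∈ IsLocalRing.maximalIdeal B := by
      rw [hb, Submodule.mem_colon_singleton, h0, smul_zero]; exact Submodule.zero_mem _
    exact (Ideal.ne_top_iff_one _).1 (IsLocalRing.maximalIdeal.isMaximal B).ne_top this
  obtain ⟨a, rfl⟩ := hσ b
  have hdepth : LocCoh.idealDepth (IsLocalRing.maximalIdeal A)
      (A ⧸ (Ideal.ofList rs • ⊤ : Submodule A A)) = 0 := by
    refine idealDepth_eq_zero_of_forall_not_isSMulRegular hIM (fun r hr hregr => ?_)
    have h1 : σ r ∈ IsLocalRing.maximalIdeal B := hmem' r hr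
    rw [hb, Submodule.mem_colon_singleton, Submodule.mem_bot, smul_eq_mul, ← map_mul] at h1
    have h2 : r * a ∈ (Ideal.ofList rs • ⊤ : Submodule A A) := by
      rw [Ideal.smul_top_eq_map, Algebra.algebraMap_self, Ideal.map_id]
      · change r * a ∈ Ideal.ofList rs
        rw [← hker, RingHom.mem_ker]; exact h1
    have h3 : r • (Submodule.Quotient.mk a : A ⧸ (Ideal.ofList rs • ⊤ : Submodule A A)) = 0 := by
      rw [← Submodule.Quotient.mk_smul, Submodule.Quotient.mk_eq_zero]; exact h2
    have h4 : (Submodule.Quotient.mk a : A ⧸ (Ideal.ofList rs • ⊤ : Submodule A A)) = 0 :=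
      hregr (by change r • _ = r • 0; rw [h3, smul_zero])
    rw [Submodule.Quotient.mk_eq_zero] at h4
    have h5 : a ∈ Ideal.ofList rs := by
      rw [Ideal.smul_top_eq_map, Algebra.algebraMap_self, Ideal.map_id] at h4
      exact h4
    rw [← hker, RingHom.mem_ker] at h5
    exact hb0 h5
  have hdim : Module.supportDim A (A ⧸ (Ideal.ofList rs • ⊤ : Submodule A A)) = 0 := by
    have := hCMq
    unfold LocCoh.IsCohenMacaulayModule LocCoh.depth at this
    rw [this, hdepth]; rfl
  have heq : (Ideal.ofList rs • ⊤ : Submodule A A) = Ideal.ofList rs := by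
    rw [Ideal.smul_top_eq_map, Algebra.algebraMap_self, Ideal.map_id]; rfl
  have hdim2 : ringKrullDim (A ⧸ Ideal.ofList rs) = 0 := by
    rw [← Module.supportDim_quotient_eq_ringKrullDim,
      ← Module.supportDim_eq_of_equiv (Submodule.quotEquivOfEq _ _ heq)]
    exact hdim
  have e : (A ⧸ RingHom.ker σ) ≃+* B := RingHom.quotientKerEquivOfSurjective hσ
  rw [← ringKrullDim_eq_of_ringEquiv e, hker]
  exact hdim2

end Groth.Agent.R2.H74.CMQuot
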