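import Mathlib

/-!
# A map of finite flat modules over a Noetherian ring which is an isomorphism in codimension `≤ 1`
is an isomorphism
-/

set_option autoImplicit false
set_option linter.style.haveILetI false
universe u

namespace Groth.Agent.R2.H74.CodimOne

open scoped TensorProduct

section General

variable {R : Type u} [CommRing R] {C B : Type u} [AddCommGroup C] [AddCommGroup B]
  [Module R C] [Module R B]

/-- cokernel and kernel of `φ` are `r`-power torsion -/
def TorsIso (r : R) (φ : C →ₗ[R] B) : Prop :=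
  (∀ b : B, ∃ n : ℕ, r ^ n • b ∈ LinearMap.range φ) ∧ (∀ c : C, φ c = 0 → ∃ n : ℕ, r ^ n • c = 0)

lemma exists_uniform_range [Module.Finite R B] (r : R) (φ : C →ₗ[R] B)
    (H : ∀ b : B, ∃ n : ℕ, r ^ n • b ∈ LinearMap.range φ) :
    ∃ N : ℕ, ∀ b : B, r ^ N • b ∈ LinearMap.range φ := by
  obtain ⟨s, hs⟩ := (Module.Finite.fg_top : (⊤ : Submodule R B).FG)
  choose n hn using H
  refine ⟨s.sup n, fun b => ?_⟩
  have hb : b ∈ Submodule.span R (s : Set B) := by rw [hs]; trivial
  have hle : Submodule.span R (s : Set B) ≤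
      (LinearMap.range φ).comap (LinearMap.lsmul R B (r ^ s.sup n)) := by
    rw [Submodule.span_le]
    intro x hx
    rw [SetLike.mem_coe, Submodule.mem_comap, LinearMap.lsmul_apply]
    have h1 : s.sup n = (s.sup n - n x) + n x := (Nat.sub_add_cancel (Finset.le_sup hx)).symm
    rw [h1, pow_add, mul_smul]
    exact Submodule.smul_mem _ _ (hn x)
  exact hle hb

lemma exists_uniform_ker [IsNoetherian R C] (r : R) (φ : C →ₗ[R] B)
    (H : ∀ c : C, φ c = 0 → ∃ n : ℕ, r ^ n • c = 0) :
    ∃ N : ℕ, ∀ c : C, φ c = 0 → r ^ N • c = 0 := by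
  obtain ⟨s, hs⟩ := (IsNoetherian.noetherian (LinearMap.ker φ) : (LinearMap.ker φ).FG)
  have H' : ∀ c : C, ∃ n : ℕ, φ c = 0 → r ^ n • c = 0 := by
    intro c
    by_cases hc : φ c = 0
    · obtain ⟨n, hn⟩ := H c hc
      exact ⟨n, fun _ => hn⟩
    · exact ⟨0, fun h => absurd h hc⟩
  choose n hn using H'
  refine ⟨s.sup n, fun c hc => ?_⟩
  have hc' : c ∈ Submodule.span R (s : Set C) := by rw [hs]; exact hc
  have hle : Submodule.span R (s : Set C) ≤
      LinearMap.ker (LinearMap.lsmul R C (r ^ s.sup n)) := by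
    rw [Submodule.span_le]
    intro x hx
    rw [SetLike.mem_coe, LinearMap.mem_ker, LinearMap.lsmul_apply]
    have hx0 : φ x = 0 := by
      have : x ∈ LinearMap.ker φ := by rw [← hs]; exact Submodule.subset_span hx
      exact this
    have h1 : s.sup n = (s.sup n - n x) + n x := (Nat.sub_add_cancel (Finset.le_sup hx)).symm
    rw [h1, pow_add, mul_smul, hn x hx0, smul_zero]
  exact hle hc'

/-- a one-sided inverse up to `t` not in a prime forces a rank inequality -/
lemma finrank_le_of_comp_eq_smul [Module.Free R C] [Module.Finite R C] [Module.Free R B]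
    [Module.Finite R B] (X : C →ₗ[R] B) (Y : B →ₗ[R] C) (t : R)
    (hYX : Y ∘ₗ X = t • LinearMap.id) (P : Ideal R) [P.IsPrime] (ht : t ∉ P) :
    Module.finrank R C ≤ Module.finrank R B := by
  haveI : Nontrivial R := ⟨⟨0, 1, fun h => (‹P.IsPrime›).ne_top
    ((Ideal.eq_top_iff_one P).2 (h ▸ P.zero_mem))⟩⟩
  let k := P.ResidueField
  have ht' : algebraMap R k t ≠ 0 := by
    rw [Ne, Ideal.algebraMap_residueField_eq_zero]; exact ht
  have hcomp : (Y.baseChange k) ∘ₗ (X.baseChange k) = t • LinearMap.id := by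
    rw [← LinearMap.baseChange_comp, hYX, LinearMap.baseChange_smul, LinearMap.baseChange_id]
  have hinj : Function.Injective (X.baseChange k) := by
    intro v w hvw
    have h1 : (t • LinearMap.id : k ⊗[R] C →ₗ[k] k ⊗[R] C) v =
        (t • LinearMap.id : k ⊗[R] C →ₗ[k] k ⊗[R] C) w := by
      rw [← hcomp, LinearMap.comp_apply, LinearMap.comp_apply, hvw]
    simp only [LinearMap.smul_apply, LinearMap.id_coe, id_eq] at h1
    rw [← algebraMap_smul k t v, ← algebraMap_smul k t w] at h1
    exact smul_right_injective _ ht' h1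
  have := LinearMap.finrank_le_finrank_of_injective hinj
  rwa [Module.finrank_baseChange, Module.finrank_baseChange] at this

end General

section Free

variable {R : Type u} [CommRing R] {C B : Type u} [AddCommGroup C] [AddCommGroup B]
  [Module R C] [Module R B]

/-- from `r`-torsion cokernel and kernel: inverses up to powers of `r` -/
lemma exists_inverse_up_to_pow [IsNoetherianRing R] [Module.Finite R C] [Module.Free R B]
    [Module.Finite R B] (r : R) (φ : C →ₗ[R] B) (H : TorsIso r φ) :
    ∃ (N K : ℕ) (θ θ' : B →ₗ[R] C), φ ∘ₗ θ = (r ^ N) • LinearMap.id ∧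
      θ' ∘ₗ φ = (r ^ K) • LinearMap.id := by
  obtain ⟨N, hN⟩ := exists_uniform_range r φ H.1
  obtain ⟨M, hM⟩ := exists_uniform_ker r φ H.2
  let bB := Module.Free.chooseBasis R B
  choose c hc using fun i => hN (bB i)
  let θ : B →ₗ[R] C := bB.constr R c
  have h1 : φ ∘ₗ θ = (r ^ N) • LinearMap.id := by
    apply bB.ext
    intro i
    simp only [LinearMap.comp_apply, LinearMap.smul_apply, LinearMap.id_coe, id_eq, θ,
      Module.Basis.constr_basis, hc]
  refine ⟨N, M + N, θ, (r ^ M) • θ, h1, ?_⟩
  ext x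
  simp only [LinearMap.comp_apply, LinearMap.smul_apply, LinearMap.id_coe, id_eq]
  have h2 : φ (θ (φ x) - r ^ N • x) = 0 := by
    have := LinearMap.congr_fun h1 (φ x)
    simp only [LinearMap.comp_apply, LinearMap.smul_apply, LinearMap.id_coe, id_eq] at this
    rw [map_sub, this, map_smul, sub_self]
  have h3 := hM _ h2
  rw [smul_sub, sub_eq_zero] at h3
  rw [h3, pow_add, mul_smul]

theorem bijective_of_free [IsNoetherianRing R] [Module.Free R C] [Module.Finite R C]
    [Module.Free R B] [Module.Finite R B] (φ : C →ₗ[R] B)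
    (H : ∀ p : Ideal R, p.IsPrime → p.height ≤ 1 → ∃ r, r ∉ p ∧ TorsIso r φ) :
    Function.Bijective φ := by
  rcases subsingleton_or_nontrivial R with hR | hR
  · haveI := Module.subsingleton R C
    haveI := Module.subsingleton R B
    exact ⟨fun _ _ _ => Subsingleton.elim _ _, fun b => ⟨0, Subsingleton.elim _ _⟩⟩
  -- rank equality at a minimal prime
  have hrank : Module.finrank R C = Module.finrank R B := by
    obtain ⟨⟨p₀, hp₀⟩⟩ := Ideal.nonempty_minimalPrimes (I := (⊥ : Ideal R)) bot_ne_top
    haveI : p₀.IsPrime := hp₀.1.1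
    have hh : p₀.height ≤ 1 := by
      have : p₀.height = 0 := Ideal.height_eq_zero_iff.2 hp₀
      rw [this]; exact zero_le_one
    obtain ⟨r, hr, hT⟩ := H p₀ inferInstance hh
    obtain ⟨N, K, θ, θ', h1, h2⟩ := exists_inverse_up_to_pow r φ hT
    apply le_antisymm
    · exact finrank_le_of_comp_eq_smul φ θ' (r ^ K) h2 p₀
        (fun h => hr (Ideal.IsPrime.mem_of_pow_mem inferInstance K h))
    · exact finrank_le_of_comp_eq_smul θ φ (r ^ N) h1 p₀
        (fun h => hr (Ideal.IsPrime.mem_of_pow_mem inferInstance N h))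
  let n := Module.finrank R B
  let bC : Module.Basis (Fin n) R C := Module.finBasisOfFinrankEq R C hrank
  let bB : Module.Basis (Fin n) R B := Module.finBasisOfFinrankEq R B rfl
  by_cases hd : IsUnit (LinearMap.toMatrix bC bB φ).det
  · have := (LinearEquiv.ofIsUnitDet hd).bijective
    convert this using 1
    funext x
    rfl
  · exfalso
    set d := (LinearMap.toMatrix bC bB φ).det with hd_def
    have hne : Ideal.span {d} ≠ ⊤ := by
      intro h
      exact hd (Ideal.span_singleton_eq_top.1 h)
    obtain ⟨⟨p, hp⟩⟩ := Ideal.nonempty_minimalPrimes hne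
    haveI : p.IsPrime := hp.1.1
    have hh : p.height ≤ 1 :=
      Ideal.height_le_one_of_isPrincipal_of_mem_minimalPrimes (Ideal.span {d}) p hp
    obtain ⟨r, hr, hT⟩ := H p inferInstance hh
    obtain ⟨N, K, θ, θ', h1, h2⟩ := exists_inverse_up_to_pow r φ hT
    have hmat : LinearMap.toMatrix bC bB φ * LinearMap.toMatrix bB bC θ =
        (r ^ N) • (1 : Matrix (Fin n) (Fin n) R) := by
      rw [← LinearMap.toMatrix_comp, h1, map_smul, LinearMap.toMatrix_id]
    have hdet := congrArg Matrix.det hmat
    rw [Matrix.det_mul, Matrix.det_smul, Matrix.det_one, mul_one] at hdet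
    have hmem : (r ^ N) ^ Fintype.card (Fin n) ∈ p := by
      rw [← hdet]
      exact Ideal.mul_mem_right _ _ (hp.1.2 (Ideal.mem_span_singleton_self d))
    exact hr (Ideal.IsPrime.mem_of_pow_mem inferInstance _
      (Ideal.IsPrime.mem_of_pow_mem inferInstance _ hmem))

end Free

section Flat

variable {R : Type u} [CommRing R] {C B : Type u} [AddCommGroup C] [AddCommGroup B]
  [Module R C] [Module R B]

lemma localizedModule_mk_eq_zero_iff (S : Submonoid R) (m : C) (s : S) :
    LocalizedModule.mk m s = 0 ↔ ∃ u : S, u • m = 0 := by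
  rw [← LocalizedModule.zero_mk (1 : S), LocalizedModule.mk_eq]
  constructor
  · rintro ⟨u, hu⟩
    refine ⟨u, ?_⟩
    rw [one_smul, smul_zero, smul_zero] at hu
    exact hu
  · rintro ⟨u, hu⟩
    exact ⟨u, by rw [one_smul, smul_zero, smul_zero, hu]⟩

/-- transfer of the torsion condition to a localization -/
lemma torsIso_localized (S : Submonoid R) (r : R) (φ : C →ₗ[R] B) (H : TorsIso r φ) :
    TorsIso (algebraMap R (Localization S) r) (LocalizedModule.map S φ) := by
  constructor
  · intro b'
    induction b' using LocalizedModule.induction_on with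
    | h b s =>
      obtain ⟨n, c, hc⟩ := H.1 b
      refine ⟨n, LocalizedModule.mk c s, ?_⟩
      rw [LocalizedModule.map_mk, hc, ← map_pow, algebraMap_smul, LocalizedModule.smul'_mk]
  · intro c' hc'
    induction c' using LocalizedModule.induction_on with
    | h c s =>
      rw [LocalizedModule.map_mk, localizedModule_mk_eq_zero_iff] at hc'
      obtain ⟨u, hu⟩ := hc'
      have h1 : φ (u • c) = 0 := by
        rw [Submonoid.smul_def, map_smul, ← Submonoid.smul_def]; exact hu
      obtain ⟨n, hn⟩ := H.2 _ h1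
      refine ⟨n, ?_⟩
      rw [← map_pow, algebraMap_smul, LocalizedModule.smul'_mk, localizedModule_mk_eq_zero_iff]
      refine ⟨u, ?_⟩
      rw [smul_comm]
      exact hn

theorem bijective_of_flat [IsNoetherianRing R] [Module.Finite R C] [Module.Flat R C]
    [Module.Finite R B] [Module.Flat R B] (φ : C →ₗ[R] B)
    (H : ∀ p : Ideal R, p.IsPrime → p.height ≤ 1 → ∃ r, r ∉ p ∧ TorsIso r φ) :
    Function.Bijective φ := by
  apply bijective_of_localized_maximal
  intro q hq
  haveI : Module.Free (Localization q.primeCompl) (LocalizedModule q.primeCompl C) :=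
    Module.free_of_flat_of_isLocalRing
  haveI : Module.Free (Localization q.primeCompl) (LocalizedModule q.primeCompl B) :=
    Module.free_of_flat_of_isLocalRing
  refine bijective_of_free (R := Localization q.primeCompl) (LocalizedModule.map q.primeCompl φ) ?_
  intro p' hp' hh
  haveI := hp'
  have hh' : (p'.under R).height ≤ 1 := by
    rw [IsLocalization.height_under q.primeCompl p']; exact hh
  obtain ⟨r, hr, hT⟩ := H (p'.under R) inferInstance hh'
  exact ⟨algebraMap R _ r, hr, torsIso_localized q.primeCompl r φ hT⟩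

end Flat

section Rings

variable {R C B : Type u} [CommRing R] [CommRing C] [CommRing B]

/-- a commutative square with localizations away from `r` and bijective bottom map gives `TorsIso` -/
lemma torsIso_of_square (hC : R →+* C) (φ : C →+* B) (r : R) {C' B' : Type u} [CommRing C']
    [CommRing B'] (ρC : C →+* C') (ρB : B →+* B') (φ' : C' →+* B')
    (hsq : φ'.comp ρC = ρB.comp φ) (hφ' : Function.Bijective φ')
    (hlC : @IsLocalization.Away C _ (hC r) C' _ ρC.toAlgebra)
    (hlB : @IsLocalization.Away B _ (φ (hC r)) B' _ ρB.toAlgebra) :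
    (∀ b : B, ∃ (n : ℕ) (c : C), φ c = φ (hC r) ^ n * b) ∧
      (∀ c : C, φ c = 0 → ∃ n : ℕ, hC r ^ n * c = 0) := by
  letI := ρC.toAlgebra
  letI := ρB.toAlgebra
  have hsq' : ∀ c, φ' (ρC c) = ρB (φ c) := fun c => RingHom.congr_fun hsq c
  constructor
  · intro b
    obtain ⟨c', hc'⟩ := hφ'.2 (ρB b)
    obtain ⟨⟨c, ⟨_, n, rfl⟩⟩, hc⟩ := IsLocalization.surj (Submonoid.powers (hC r)) c'
    -- hc : c' * algebraMap (hC r ^ n) = algebraMap c
    have hc2 : c' * ρC (hC r ^ n) = ρC c := hc
    have h1 : ρB (φ (hC r) ^ n * b) = ρB (φ c) := by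
      rw [← hsq' c, ← hc2, map_mul φ', hc', hsq', map_mul, map_pow, map_pow, mul_comm, map_pow]
    obtain ⟨⟨_, m, rfl⟩, hm⟩ := (IsLocalization.eq_iff_exists (Submonoid.powers (φ (hC r))) B').1 h1
    refine ⟨m + n, hC r ^ m * c, ?_⟩
    rw [map_mul, map_pow, ← hm, pow_add, mul_assoc]
  · intro c hc
    have h1 : ρC c = ρC 0 := by
      apply hφ'.1
      rw [hsq', hc, map_zero, map_zero, map_zero]
    obtain ⟨⟨_, m, rfl⟩, hm⟩ := (IsLocalization.eq_iff_exists (Submonoid.powers (hC r)) C').1 h1
    exact ⟨m, by rw [hm, mul_zero]⟩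

theorem bijective_of_codimOne_rings [IsNoetherianRing R] (hC : R →+* C) (φ : C →+* B)
    (finC : hC.Finite) (flatC : hC.Flat) (finB : (φ.comp hC).Finite) (flatB : (φ.comp hC).Flat)
    (H : ∀ p : Ideal R, p.IsPrime → p.height ≤ 1 → ∃ r, r ∉ p ∧
      ∃ (C' B' : Type u) (_ : CommRing C') (_ : CommRing B') (ρC : C →+* C') (ρB : B →+* B')
        (φ' : C' →+* B'), φ'.comp ρC = ρB.comp φ ∧ Function.Bijective φ' ∧
        @IsLocalization.Away C _ (hC r) C' _ ρC.toAlgebra ∧
        @IsLocalization.Away B _ (φ (hC r)) B' _ ρB.toAlgebra) :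
    Function.Bijective φ := by
  letI := hC.toAlgebra
  letI := (φ.comp hC).toAlgebra
  haveI : Module.Finite R C := finC
  haveI : Module.Flat R C := flatC
  haveI : Module.Finite R B := finB
  haveI : Module.Flat R B := flatB
  let φl : C →ₗ[R] B :=
    { toFun := φ
      map_add' := map_add φ
      map_smul' := fun r c => by
        change φ (hC r * c) = φ (hC r) * φ c
        rw [map_mul] }
  have := bijective_of_flat φl (fun p hp hh => by
    obtain ⟨r, hr, C', B', _, _, ρC, ρB, φ', hsq, hφ', hlC, hlB⟩ := H p hp hh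
    refine ⟨r, hr, ?_⟩
    obtain ⟨h1, h2⟩ := torsIso_of_square hC φ r ρC ρB φ' hsq hφ' hlC hlB
    constructor
    · intro b
      obtain ⟨n, c, hc⟩ := h1 b
      refine ⟨n, c, ?_⟩
      change φ c = (r ^ n) • b
      rw [hc]
      change _ = (φ.comp hC) (r ^ n) * b
      rw [map_pow]; rfl
    · intro c hc
      obtain ⟨n, hn⟩ := h2 c hc
      refine ⟨n, ?_⟩
      change hC (r ^ n) * c = 0
      rw [map_pow, hn])
  exact this

end Rings

end Groth.Agent.R2.H74.CodimOne
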