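import Mathlib
import Groth.Agent.R2.H74CodimOne

/-!
# A morphism of finite flat schemes over a locally Noetherian base which is an isomorphism over an
open containing all points of codimension `≤ 1` is an isomorphism
-/

set_option autoImplicit false
set_option linter.style.haveILetI false
universe u

namespace Groth.Agent.R2.H74.CodimOneSch

open CategoryTheory AlgebraicGeometry Opposite

/-- if `f` restricts to an isomorphism over `U`, then `f.app V` is an isomorphism for `V ≤ U` -/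
lemma isIso_app_of_le {X Y : Scheme.{u}} (f : X ⟶ Y) (U : Y.Opens) [IsIso (f ∣_ U)]
    (V : Y.Opens) (hV : V ≤ U) : IsIso (f.app V) := by
  have h1 : IsIso ((f ∣_ U).app (U.ι ⁻¹ᵁ V)) := inferInstance
  rw [morphismRestrict_app] at h1
  have h2 : IsIso (f.app (U.ι ''ᵁ U.ι ⁻¹ᵁ V)) := by
    have h3 : IsIso (X.presheaf.map
        (eqToHom (image_morphismRestrict_preimage f U (U.ι ⁻¹ᵁ V))).op) := by
      rw [eqToHom_op, eqToHom_map]; infer_instance
    exact @IsIso.of_isIso_comp_right _ _ _ _ _ (f.app (U.ι ''ᵁ U.ι ⁻¹ᵁ V)) _ h3 h1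
  have e : U.ι ''ᵁ U.ι ⁻¹ᵁ V = V := by
    rw [Scheme.Hom.image_preimage_eq_opensRange_inf, Scheme.Opens.opensRange_ι]
    exact inf_eq_right.2 hV
  rw [e] at h2
  exact h2

/-- the local data at a height-`≤ 1` prime -/
lemma local_data {X Y S : Scheme.{u}} (ψ : X ⟶ Y) (h : Y ⟶ S) [IsFinite h]
    [IsFinite (ψ ≫ h)] (U₀ : S.Opens) [IsIso (ψ ∣_ (h ⁻¹ᵁ U₀))]
    (W : S.Opens) (hW : IsAffineOpen W) (f : Γ(S, W)) (hf : S.basicOpen f ≤ U₀) :
    ∃ (C' B' : Type u) (_ : CommRing C') (_ : CommRing B')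
      (ρC : Γ(Y, h ⁻¹ᵁ W) →+* C') (ρB : Γ(X, ψ ⁻¹ᵁ h ⁻¹ᵁ W) →+* B')
      (φ' : C' →+* B'), φ'.comp ρC = ρB.comp (ψ.app (h ⁻¹ᵁ W)).hom ∧ Function.Bijective φ' ∧
      @IsLocalization.Away Γ(Y, h ⁻¹ᵁ W) _ ((h.app W).hom f) C' _ ρC.toAlgebra ∧
      @IsLocalization.Away Γ(X, ψ ⁻¹ᵁ h ⁻¹ᵁ W) _
        ((ψ.app (h ⁻¹ᵁ W)).hom ((h.app W).hom f)) B' _ ρB.toAlgebra := by
  haveI : IsFinite ψ := IsFinite.of_comp ψ h
  have hYW : IsAffineOpen (h ⁻¹ᵁ W) := hW.preimage h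
  have hXW : IsAffineOpen (ψ ⁻¹ᵁ h ⁻¹ᵁ W) := hYW.preimage ψ
  set c : Γ(Y, h ⁻¹ᵁ W) := (h.app W).hom f with hc
  set b : Γ(X, ψ ⁻¹ᵁ h ⁻¹ᵁ W) := (ψ.app (h ⁻¹ᵁ W)).hom c with hb
  have e1 : h ⁻¹ᵁ S.basicOpen f = Y.basicOpen c := Scheme.preimage_basicOpen h f
  have e2 : ψ ⁻¹ᵁ Y.basicOpen c = X.basicOpen b := Scheme.preimage_basicOpen ψ c
  have hle : Y.basicOpen c ≤ h ⁻¹ᵁ U₀ := by
    rw [← e1]; exact h.preimage_mono hf
  haveI : IsIso (ψ.app (Y.basicOpen c)) := isIso_app_of_le ψ (h ⁻¹ᵁ U₀) _ hle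
  let φ'c : Γ(Y, Y.basicOpen c) ⟶ Γ(X, X.basicOpen b) :=
    ψ.appLE (Y.basicOpen c) (X.basicOpen b) e2.ge
  have hiso : IsIso φ'c := by
    have h3 : IsIso (X.presheaf.map (homOfLE e2.ge).op) := by
      have : homOfLE e2.ge = eqToHom e2.symm := Subsingleton.elim _ _
      rw [this, eqToHom_op, eqToHom_map]; infer_instance
    exact IsIso.comp_isIso
  refine ⟨Γ(Y, Y.basicOpen c), Γ(X, X.basicOpen b), inferInstance, inferInstance,
    (Y.presheaf.map (homOfLE (Y.basicOpen_le c)).op).hom,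
    (X.presheaf.map (homOfLE (X.basicOpen_le b)).op).hom, φ'c.hom, ?_, ?_, ?_, ?_⟩
  · rw [← CommRingCat.hom_comp, ← CommRingCat.hom_comp]
    congr 1
    rw [Scheme.Hom.map_appLE, Scheme.Hom.app_eq_appLE, Scheme.Hom.appLE_map]
  · exact (ConcreteCategory.isIso_iff_bijective φ'c).1 hiso
  · exact hYW.isLocalization_basicOpen c
  · exact hXW.isLocalization_basicOpen b

theorem isIso_of_codimOne {X Y S : Scheme.{u}} [IsLocallyNoetherian S] (ψ : X ⟶ Y) (h : Y ⟶ S)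
    [IsFinite h] [Flat h] [IsFinite (ψ ≫ h)] [Flat (ψ ≫ h)] (U₀ : S.Opens)
    [IsIso (ψ ∣_ (h ⁻¹ᵁ U₀))]
    (hU₀ : ∀ s : S, ringKrullDim (S.presheaf.stalk s) ≤ 1 → s ∈ U₀) : IsIso ψ := by
  haveI : IsFinite ψ := IsFinite.of_comp ψ h
  have hsup : ⨆ W : S.affineOpens, h ⁻¹ᵁ (W : S.Opens) = ⊤ := by
    rw [← Scheme.Hom.preimage_iSup, iSup_affineOpens_eq_top]
    rfl
  change MorphismProperty.isomorphisms Scheme ψ
  refine IsZariskiLocalAtTarget.of_iSup_eq_top (P := MorphismProperty.isomorphisms Scheme)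
    (fun W : S.affineOpens => h ⁻¹ᵁ (W : S.Opens)) hsup ?_
  rintro ⟨W, hW⟩
  change IsIso (ψ ∣_ (h ⁻¹ᵁ W))
  have hYW : IsAffineOpen (h ⁻¹ᵁ W) := hW.preimage h
  rw [isIso_morphismRestrict_iff_isIso_app ψ hYW]
  rw [ConcreteCategory.isIso_iff_bijective]
  haveI : IsNoetherianRing Γ(S, W) := IsLocallyNoetherian.component_noetherian ⟨W, hW⟩
  refine CodimOne.bijective_of_codimOne_rings (h.app W).hom (ψ.app (h ⁻¹ᵁ W)).hom
    (h.finite_app W hW) ?_ ?_ ?_ ?_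
  · have := h.flat_appLE hW hYW le_rfl
    rwa [← Scheme.Hom.app_eq_appLE] at this
  · have := (ψ ≫ h).finite_app W hW
    exact this
  · have : ((ψ ≫ h).app W).hom.Flat := by
      rw [Scheme.Hom.app_eq_appLE]
      exact (ψ ≫ h).flat_appLE hW (hW.preimage (ψ ≫ h)) le_rfl
    exact this
  · intro p hp hh
    let y : PrimeSpectrum Γ(S, W) := ⟨p, hp⟩
    have hyW : hW.fromSpec y ∈ W := by
      have : hW.fromSpec y ∈ Set.range hW.fromSpec := ⟨y, rfl⟩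
      rwa [hW.range_fromSpec] at this
    have hloc := hW.isLocalization_stalk' y hyW
    have hdim : ringKrullDim (S.presheaf.stalk (hW.fromSpec y)) = p.height :=
      @IsLocalization.AtPrime.ringKrullDim_eq_height _ _ y.asIdeal _ _ _
        (TopCat.Presheaf.algebra_section_stalk S.presheaf ⟨hW.fromSpec y, hyW⟩) hloc
    have hs : hW.fromSpec y ∈ U₀ := hU₀ _ (by rw [hdim]; exact_mod_cast hh)
    obtain ⟨f, hfU, hsf⟩ := hW.exists_basicOpen_le (V := U₀) ⟨_, hs⟩ hyW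
    refine ⟨f, ?_, local_data ψ h U₀ W hW f hfU⟩
    have h1 : y ∈ hW.fromSpec ⁻¹ᵁ S.basicOpen f := hsf
    rw [hW.fromSpec_preimage_basicOpen f] at h1
    exact h1

lemma ringKrullDim_stalk_fromSpec {S : Scheme.{u}} {W : S.Opens} (hW : IsAffineOpen W)
    (y : PrimeSpectrum Γ(S, W)) :
    ringKrullDim (S.presheaf.stalk (hW.fromSpec y)) = y.asIdeal.height := by
  have hyW : hW.fromSpec y ∈ W := by
    have : hW.fromSpec y ∈ Set.range hW.fromSpec := ⟨y, rfl⟩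
    rwa [hW.range_fromSpec] at this
  have hloc := hW.isLocalization_stalk' y hyW
  exact @IsLocalization.AtPrime.ringKrullDim_eq_height _ _ y.asIdeal _ _ _
    (TopCat.Presheaf.algebra_section_stalk S.presheaf ⟨hW.fromSpec y, hyW⟩) hloc

/-- a closed subset of a scheme containing all points of codimension `0` is everything -/
theorem eq_univ_of_isClosed_of_codimZero {S : Scheme.{u}} (T : Set S) (hT : IsClosed T)
    (h0 : ∀ s : S, ringKrullDim (S.presheaf.stalk s) ≤ 0 → s ∈ T) : T = Set.univ := by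
  by_contra hne
  obtain ⟨s, hs⟩ : ∃ s, s ∉ T := by
    by_contra hcon
    push Not at hcon
    exact hne (Set.eq_univ_of_forall hcon)
  obtain ⟨_, ⟨W, hW, rfl⟩, hsW, hWT⟩ :=
    (S.isBasis_affineOpens).exists_subset_of_mem_open (show s ∈ Tᶜ from hs) hT.isOpen_compl
  let y := hW.primeIdealOf ⟨s, hsW⟩
  obtain ⟨p, hp, hpy⟩ := Ideal.exists_minimalPrimes_le (I := (⊥ : Ideal Γ(S, W)))
    (J := y.asIdeal) bot_le
  haveI : p.IsPrime := hp.1.1
  let y' : PrimeSpectrum Γ(S, W) := ⟨p, inferInstance⟩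
  have hdim := ringKrullDim_stalk_fromSpec hW y'
  have hh : p.height = 0 := Ideal.height_eq_zero_iff.2 hp
  have hmemT : hW.fromSpec y' ∈ T := h0 _ (by rw [hdim]; change ((p.height : ℕ∞) : WithBot ℕ∞) ≤ 0; rw [hh]; rfl)
  have hmemW : hW.fromSpec y' ∈ (W : Set S) := by
    have : hW.fromSpec y' ∈ Set.range hW.fromSpec := ⟨y', rfl⟩
    rwa [hW.range_fromSpec] at this
  exact hWT hmemW hmemT

end Groth.Agent.R2.H74.CodimOneSch
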