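import Mathlib
import Groth.Prelude.Def_W4c3severiratdpLat
import Groth.Agent.Lib.Helper24DPConic

/-!
# Reflections in the Picard lattice of a blown-up plane, and a kernel-checked descent

Helper library of seat helper74: reflections in roots are Weyl elements; a list-level model of the
lattice for kernel evaluation; a general descent principle reducing orbit questions to a finite
check that `decide` can do.
-/

set_option autoImplicit false

namespace Groth.Agent.R2.H74.DP

open W4c3severiratdp

variable {δ : ℕ}

/-! ### The form is symmetric and bilinear -/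

theorem form_comm (v w : DP δ) : form v w = form w v := by
  unfold form
  rw [mul_comm]
  congr 1
  exact Finset.sum_congr rfl fun i _ => mul_comm _ _

theorem form_add_left (u v w : DP δ) : form (u + v) w = form u w + form v w := by
  unfold form
  simp only [Pi.add_apply, add_mul, Finset.sum_add_distrib]
  ring

theorem form_smul_left (c : ℤ) (v w : DP δ) : form (c • v) w = c * form v w := by
  unfold form
  simp only [Pi.smul_apply, smul_eq_mul, mul_assoc, ← Finset.mul_sum]
  ring

theorem form_add_right (u v w : DP δ) : form u (v + w) = form u v + form u w := by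
  rw [form_comm, form_add_left, form_comm v, form_comm w]

theorem form_smul_right (c : ℤ) (v w : DP δ) : form v (c • w) = c * form v w := by
  rw [form_comm, form_smul_left, form_comm]

/-- A root: `α · α = -2` and `K · α = 0`. -/
def IsRoot (α : DP δ) : Prop := form α α = -2 ∧ form (canon δ) α = 0

/-- The reflection `v ↦ v + (v · α) α` as a linear map. -/
def refl (α : DP δ) : DP δ →ₗ[ℤ] DP δ where
  toFun v := v + form v α • α
  map_add' u v := by
    rw [form_add_left, add_smul]
    abel
  map_smul' c v := by
    rw [form_smul_left, RingHom.id_apply, smul_add, smul_smul]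

theorem refl_apply (α v : DP δ) : refl α v = v + form v α • α := rfl

theorem refl_involutive {α : DP δ} (h : form α α = -2) : Function.Involutive (refl α) := by
  intro v
  rw [refl_apply, refl_apply, form_add_left, form_smul_left, h]
  have : form v α + form v α * -2 = -form v α := by ring
  rw [this, neg_smul]
  abel

/-- The reflection in a vector of square `-2`, as a linear equivalence. -/
def reflE (α : DP δ) (h : form α α = -2) : DP δ ≃ₗ[ℤ] DP δ :=
  LinearEquiv.ofInvolutive (refl α) (refl_involutive h)

theorem reflE_apply (α : DP δ) (h : form α α = -2) (v : DP δ) : reflE α h v = refl α v := rfl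

theorem form_refl_refl {α : DP δ} (h : form α α = -2) (v w : DP δ) :
    form (refl α v) (refl α w) = form v w := by
  simp only [refl_apply, form_add_left, form_add_right, form_smul_left, form_smul_right, h,
    form_comm α w]
  ring

theorem isWeyl_reflE {α : DP δ} (h : IsRoot α) : IsWeyl (reflE α h.1) := by
  refine ⟨fun v w => form_refl_refl h.1 v w, ?_⟩
  rw [reflE_apply, refl_apply, h.2, zero_smul, add_zero]

theorem isWeyl_refl' : IsWeyl (LinearEquiv.refl ℤ (DP δ)) :=
  ⟨fun _ _ => rfl, rfl⟩

theorem isWeyl_trans {g h : DP δ ≃ₗ[ℤ] DP δ} (hg : IsWeyl g) (hh : IsWeyl h) :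
    IsWeyl (g.trans h) := by
  refine ⟨fun v w => ?_, ?_⟩
  · simp only [LinearEquiv.trans_apply]
    rw [hh.1, hg.1]
  · simp only [LinearEquiv.trans_apply]
    rw [hg.2, hh.2]

theorem isWeyl_symm {g : DP δ ≃ₗ[ℤ] DP δ} (hg : IsWeyl g) : IsWeyl g.symm := by
  refine ⟨fun v w => ?_, ?_⟩
  · have := hg.1 (g.symm v) (g.symm w)
    simpa using this.symm
  · have := hg.2
    rw [LinearEquiv.symm_apply_eq]
    exact this.symm

theorem isConic_of_isWeyl {g : DP δ ≃ₗ[ℤ] DP δ} (hg : IsWeyl g) {v : DP δ} (hv : IsConic v) :
    IsConic (g v) := by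
  refine ⟨by rw [hg.1]; exact hv.1, ?_⟩
  have := hg.1 (canon δ) v
  rw [hg.2] at this
  rw [this]
  exact hv.2

theorem isExc_of_isWeyl {g : DP δ ≃ₗ[ℤ] DP δ} (hg : IsWeyl g) {v : DP δ} (hv : IsExc v) :
    IsExc (g v) := by
  refine ⟨by rw [hg.1]; exact hv.1, ?_⟩
  have := hg.1 (canon δ) v
  rw [hg.2] at this
  rw [this]
  exact hv.2


/-! ### List model of the lattice, for kernel evaluation -/

/-- The list of coordinates of a vector. -/
def toL (v : DP δ) : List ℤ := List.ofFn v

/-- Read a vector off a list. -/
def ofL (δ : ℕ) (l : List ℤ) : DP δ := fun i => l.getD i 0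

/-- Dot product of lists. -/
def dotL : List ℤ → List ℤ → ℤ
  | a :: as, b :: bs => a * b + dotL as bs
  | _, _ => 0

/-- The intersection form on lists. -/
def formL : List ℤ → List ℤ → ℤ
  | a :: as, b :: bs => a * b - dotL as bs
  | _, _ => 0

/-- The reflection on lists. -/
def reflL (α v : List ℤ) : List ℤ :=
  List.zipWith (fun x y => x + formL v α * y) v α

theorem toL_injective : Function.Injective (toL (δ := δ)) := List.ofFn_injective

theorem toL_length (v : DP δ) : (toL v).length = δ + 1 := List.length_ofFn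

theorem dotL_ofFn : ∀ {n : ℕ} (f g : Fin n → ℤ),
    dotL (List.ofFn f) (List.ofFn g) = ∑ i, f i * g i
  | 0, f, g => by simp [dotL]
  | n + 1, f, g => by
    rw [List.ofFn_succ, List.ofFn_succ, dotL, dotL_ofFn, Fin.sum_univ_succ]

theorem formL_toL (v w : DP δ) : formL (toL v) (toL w) = form v w := by
  unfold toL form
  rw [List.ofFn_succ, List.ofFn_succ, formL, dotL_ofFn]

theorem zipWith_ofFn {α β γ : Type} (h : α → β → γ) : ∀ {n : ℕ} (f : Fin n → α) (g : Fin n → β),
    List.zipWith h (List.ofFn f) (List.ofFn g) = List.ofFn fun i => h (f i) (g i)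
  | 0, f, g => by simp
  | n + 1, f, g => by
    rw [List.ofFn_succ, List.ofFn_succ, List.zipWith_cons_cons, zipWith_ofFn, List.ofFn_succ]

theorem toL_refl (α v : DP δ) : toL (refl α v) = reflL (toL α) (toL v) := by
  unfold reflL
  rw [formL_toL]
  unfold toL
  rw [zipWith_ofFn]
  congr 1

theorem toL_ofL (l : List ℤ) (h : l.length = δ + 1) : toL (ofL δ l) = l := by
  apply List.ext_getElem
  · rw [toL_length, h]
  · intro i h1 h2
    have h3 : (toL (ofL δ l))[i] = ofL δ l ⟨i, by rw [← toL_length (ofL δ l)]; exact h1⟩ :=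
      List.getElem_ofFn _
    rw [h3]
    simp only [ofL, List.getD_eq_getElem?_getD]
    rw [List.getElem?_eq_getElem h2, Option.getD_some]


/-! ### One descent step, checked on lists -/

/-- Weighted sum of the entries: an entry followed by `k` others has weight `k`. -/
def wsumL : List ℤ → ℤ
  | [] => 0
  | b :: bs => b * (bs.length : ℤ) + wsumL bs

/-- The measure that decreases along the descent. -/
def keyL (u : List ℤ) : ℤ := u.headD 0 * 10000 + 5000 - wsumL u.tail

/-- The root `e_i - e_j` (a transposition of two coordinates). -/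
def trL (n i j : ℕ) : List ℤ :=
  (List.range n).map fun t => if t = i then 1 else if t = j then -1 else 0

/-- The root `ℓ - e_i - e_j - e_k` (a quadratic transformation). -/
def crL (n i j k : ℕ) : List ℤ :=
  (List.range n).map fun t => if t = 0 ∨ t = i ∨ t = j ∨ t = k then 1 else 0

/-- Parameters of a descent: coordinates from `lo` on are sorted, and the quadratic
transformation is based at `i, j, k`. -/
structure Cfg where
  lo : ℕ
  i : ℕ
  j : ℕ
  k : ℕ

/-- The root used for the next step of the descent, if any. -/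
def stepRoot (c : Cfg) (u : List ℤ) : Option (List ℤ) :=
  match ((List.range (u.length - 1)).filter fun t =>
      decide (c.lo ≤ t) && decide (u.getD t 0 < u.getD (t + 1) 0)).head? with
  | some t => some (trL u.length t (t + 1))
  | none =>
    if c.k < u.length ∧ u.getD 0 0 < u.getD c.i 0 + u.getD c.j 0 + u.getD c.k 0 then
      some (crL u.length c.i c.j c.k) else none

/-- Is `α` an admissible root for a descent step at `u`? -/
def okRoot (Kl : List ℤ) (qs : List (List ℤ)) (target : List ℤ → List ℤ) (u α : List ℤ) : Bool :=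
  α.length == u.length && formL α α == -2 && formL Kl α == 0 && qs.all (fun q => formL q α == 0) &&
    decide (0 ≤ keyL (reflL α u)) && decide (keyL (reflL α u) < keyL u) &&
    target (reflL α u) == target u

/-- The finite check: `u` is its own target, or the descent step is admissible. -/
def okStep (Kl : List ℤ) (qs : List (List ℤ)) (target : List ℤ → List ℤ) (c : Cfg)
    (u : List ℤ) : Bool :=
  (target u).length == u.length &&
    (u == target u ||
      match stepRoot c u with
      | none => false
      | some α => okRoot Kl qs target u α)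

theorem isRoot_ofL {α : List ℤ} (hlen : α.length = δ + 1) (h1 : formL α α = -2)
    (h2 : formL (toL (canon δ)) α = 0) : IsRoot (ofL δ α) := by
  constructor
  · rw [← formL_toL, toL_ofL α hlen]; exact h1
  · rw [← formL_toL, toL_ofL α hlen]; exact h2

/-- The descent principle: if every vector of a class stable under reflections passes the finite
check, then every vector of the class is carried to its target by a Weyl element fixing `qs`. -/
theorem descent (S : DP δ → Prop) (hS : ∀ v α, S v → IsRoot α → S (refl α v))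
    (qs : List (DP δ)) (target : List ℤ → List ℤ) (c : Cfg)
    (hcheck : ∀ v, S v → okStep (toL (canon δ)) (qs.map toL) target c (toL v) = true) :
    ∀ v, S v → ∃ g : DP δ ≃ₗ[ℤ] DP δ, IsWeyl g ∧ (∀ q ∈ qs, g q = q) ∧
      toL (g v) = target (toL v) := by
  suffices H : ∀ n : ℕ, ∀ v, S v → (keyL (toL v)).toNat = n →
      ∃ g : DP δ ≃ₗ[ℤ] DP δ, IsWeyl g ∧ (∀ q ∈ qs, g q = q) ∧ toL (g v) = target (toL v) from
    fun v hv => H _ v hv rfl
  intro n
  induction n using Nat.strong_induction_on with
  | _ n ih =>
    intro v hv hn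
    have hc := hcheck v hv
    unfold okStep at hc
    rw [Bool.and_eq_true, Bool.or_eq_true] at hc
    obtain ⟨-, hc⟩ := hc
    rcases hc with hc | hc
    · refine ⟨LinearEquiv.refl ℤ _, isWeyl_refl', fun _ _ => rfl, ?_⟩
      rw [beq_iff_eq] at hc
      exact hc
    · cases hsr : stepRoot c (toL v) with
      | none => rw [hsr] at hc; exact absurd hc (by simp)
      | some α =>
        rw [hsr] at hc
        simp only [okRoot, Bool.and_eq_true, beq_iff_eq, decide_eq_true_eq, List.all_eq_true,
          List.mem_map, forall_exists_index, and_imp, forall_apply_eq_imp_iff₂] at hc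
        obtain ⟨⟨⟨⟨⟨⟨hlen, h1⟩, h2⟩, hq⟩, hk0⟩, hk⟩, ht⟩ := hc
        rw [toL_length] at hlen
        have hroot : IsRoot (ofL δ α) := isRoot_ofL hlen h1 h2
        have hv' : S (refl (ofL δ α) v) := hS v _ hv hroot
        have hL : toL (refl (ofL δ α) v) = reflL α (toL v) := by
          rw [toL_refl, toL_ofL α hlen]
        have hlt : (keyL (toL (refl (ofL δ α) v))).toNat < n := by
          rw [hL, ← hn]
          omega
        obtain ⟨g, hg, hgq, hgv⟩ := ih _ hlt _ hv' rfl
        refine ⟨(reflE (ofL δ α) hroot.1).trans g, isWeyl_trans (isWeyl_reflE hroot) hg, ?_, ?_⟩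
        · intro q hqm
          rw [LinearEquiv.trans_apply, reflE_apply, refl_apply]
          have : form q (ofL δ α) = 0 := by
            rw [← formL_toL, toL_ofL α hlen]
            exact hq q hqm
          rw [this, zero_smul, add_zero]
          exact hgq q hqm
        · rw [LinearEquiv.trans_apply, reflE_apply, hgv, hL, ht]


/-! ### Enumeration of the conic and exceptional classes -/

open Groth.Agent.Lib.Helper24DPConic in
/-- All solutions of `∑ b = s`, `∑ b^2 = t` (for `t ≤ 121`), with Cauchy–Schwarz pruning. -/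
def solAll : ℕ → ℤ → ℤ → List (List ℤ)
  | 0, s, t => if s = 0 ∧ t = 0 then [[]] else []
  | d + 1, s, t =>
    (rng.filter fun b => b * b ≤ t ∧ (s - b) * (s - b) ≤ (d : ℤ) * (t - b * b)).flatMap
      fun b => (solAll d (s - b) (t - b * b)).map (b :: ·)

open Groth.Agent.Lib.Helper24DPConic in
theorem mem_solAll (d : ℕ) : ∀ (y : Fin d → ℤ) (s t : ℤ), t ≤ 121 →
    ∑ i, y i = s → ∑ i, y i * y i = t → List.ofFn y ∈ solAll d s t := by
  induction d with
  | zero =>
    intro y s t _ h1 h2
    simp only [Finset.univ_eq_empty, Finset.sum_empty] at h1 h2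
    simp [solAll, ← h1, ← h2]
  | succ d ih =>
    intro x s t ht h1 h2
    rw [Fin.sum_univ_succ] at h1 h2
    set b := x 0 with hb
    set y : Fin d → ℤ := Fin.tail x with hy
    have hy1 : ∑ i, y i = s - b := by
      have : ∑ i : Fin d, x i.succ = ∑ i, y i := rfl
      linarith
    have hy2 : ∑ i, y i * y i = t - b * b := by
      have : ∑ i : Fin d, x i.succ * x i.succ = ∑ i, y i * y i := rfl
      linarith
    have hnn : 0 ≤ ∑ i, y i * y i := Finset.sum_nonneg fun i _ => mul_self_nonneg _
    have hbt : b * b ≤ t := by linarith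
    have hcs := cs_bound y
    rw [hy1, hy2] at hcs
    have hb1 : -11 ≤ b := by nlinarith
    have hb2 : b ≤ 11 := by nlinarith
    have hle : t - b * b ≤ 121 := by nlinarith [mul_self_nonneg b]
    have := ih y (s - b) (t - b * b) hle hy1 hy2
    rw [List.ofFn_succ]
    simp only [solAll, List.mem_flatMap, List.mem_filter, List.mem_map, decide_eq_true_eq]
    exact ⟨b, ⟨mem_rng.2 ⟨hb1, hb2⟩, hbt, hcs⟩, List.ofFn y, this, rfl⟩

open Groth.Agent.Lib.Helper24DPConic in
/-- The list of all conic classes. -/
def conicsL (δ : ℕ) : List (List ℤ) :=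
  arng.flatMap fun a => (solAll δ (3 * a - 2) (a * a)).map (a :: ·)

open Groth.Agent.Lib.Helper24DPConic in
theorem mem_conicsL (hδ : δ ≤ 8) (v : DP δ) (hv : IsConic v) : toL v ∈ conicsL δ := by
  obtain ⟨h1, h2⟩ := conic_bounds hδ v hv
  have hc := (conic_iff v).1 hv
  have hle : v 0 * v 0 ≤ 121 := by nlinarith
  unfold conicsL toL
  rw [List.ofFn_succ]
  simp only [List.mem_flatMap, List.mem_map]
  exact ⟨v 0, mem_arng.2 ⟨h1, h2⟩, _, mem_solAll δ (fun i => v i.succ) _ _ hle hc.1 hc.2, rfl⟩

theorem exc_iff (v : DP δ) :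
    IsExc v ↔ (∑ i : Fin δ, v i.succ = 3 * v 0 - 1 ∧
      ∑ i : Fin δ, v i.succ * v i.succ = v 0 * v 0 + 1) := by
  unfold IsExc form canon
  simp only [Fin.cases_zero, Fin.cases_succ, neg_mul, one_mul, Finset.sum_neg_distrib]
  constructor
  · rintro ⟨h1, h2⟩
    constructor <;> linarith
  · rintro ⟨h1, h2⟩
    constructor <;> linarith

open Groth.Agent.Lib.Helper24DPConic in
theorem exc_bounds (hδ : δ ≤ 8) (v : DP δ) (h : IsExc v) : -1 ≤ v 0 ∧ v 0 ≤ 7 := by
  rw [exc_iff] at h
  have hcs := cs_bound (fun i : Fin δ => v i.succ)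
  rw [h.1, h.2] at hcs
  have hδ' : (δ : ℤ) ≤ 8 := by exact_mod_cast hδ
  have h8 : (δ : ℤ) * (v 0 * v 0 + 1) ≤ 8 * (v 0 * v 0 + 1) :=
    mul_le_mul_of_nonneg_right hδ' (by nlinarith [mul_self_nonneg (v 0)])
  constructor <;> nlinarith

/-- Candidate values `-1, …, 7` of the first coordinate of an exceptional class. -/
def erng : List ℤ := (List.range 9).map fun k : ℕ => (k : ℤ) - 1

theorem mem_erng {a : ℤ} : a ∈ erng ↔ -1 ≤ a ∧ a ≤ 7 := by
  rw [erng, List.mem_map]
  constructor
  · rintro ⟨i, hi, rfl⟩
    rw [List.mem_range] at hi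
    omega
  · rintro ⟨h1, h2⟩
    exact ⟨(a + 1).toNat, by rw [List.mem_range]; omega, by omega⟩

/-- The list of all exceptional classes. -/
def excL (δ : ℕ) : List (List ℤ) :=
  erng.flatMap fun a => (solAll δ (3 * a - 1) (a * a + 1)).map (a :: ·)

theorem mem_excL (hδ : δ ≤ 8) (v : DP δ) (hv : IsExc v) : toL v ∈ excL δ := by
  obtain ⟨h1, h2⟩ := exc_bounds hδ v hv
  have hc := (exc_iff v).1 hv
  have hle : v 0 * v 0 + 1 ≤ 121 := by nlinarith
  unfold excL toL
  rw [List.ofFn_succ]
  simp only [List.mem_flatMap, List.mem_map]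
  exact ⟨v 0, mem_erng.2 ⟨h1, h2⟩, _, mem_solAll δ (fun i => v i.succ) _ _ hle hc.1 hc.2, rfl⟩




end Groth.Agent.R2.H74.DP
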