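import Groth.Agent.R2.H74DP

/-!
# Orbits of the Weyl group on conic classes and on pairs of conic classes

Seat helper74.  The finite checks are done by the kernel (`decide +kernel`).
-/

set_option autoImplicit false

namespace Groth.Agent.R2.H74.DPConic

open W4c3severiratdp Groth.Agent.R2.H74.DP

/-- The coordinates of the canonical class. -/
def canonL (n : ℕ) : List ℤ := -3 :: List.replicate (n - 1) (-1)

theorem toL_canon (δ : ℕ) : toL (canon δ) = canonL (δ + 1) := by
  unfold toL canonL canon
  rw [List.ofFn_succ]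
  simp only [Fin.cases_zero, Fin.cases_succ, List.ofFn_const, Nat.add_sub_cancel]

/-- Pad a list with zeros up to length `n`. -/
def pad (n : ℕ) (l : List ℤ) : List ℤ := l ++ List.replicate (n - l.length) 0

/-- The standard conic `ℓ - e_1`, as a list of length `n`. -/
def q0L (n : ℕ) : List ℤ := pad n [1, 1]

/-- The standard conic `ℓ - e_1`. -/
def q0 (δ : ℕ) : DP δ := ofL δ (q0L (δ + 1))

theorem q0L_length {n : ℕ} (hn : 2 ≤ n) : (q0L n).length = n := by
  simp only [q0L, pad, List.length_append, List.length_cons, List.length_nil, List.length_replicate]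
  omega

theorem toL_q0 {δ : ℕ} (hδ : 1 ≤ δ) : toL (q0 δ) = q0L (δ + 1) :=
  toL_ofL _ (q0L_length (by omega))

/-- Are all coordinates of `q0 + u` even? -/
def parL (u : List ℤ) : Bool :=
  (List.zipWith (fun x y => (x + y) % 2 == 0) (q0L u.length) u).all id

/-- The table of canonical representatives, by intersection number with `q0`. -/
def repTable (m : ℤ) : List ℤ :=
  match m.toNat with
  | 0 => [1, 1]
  | 1 => [1, 0, 1]
  | 2 => [2, 0, 1, 1, 1, 1]
  | 3 => [3, 0, 2, 1, 1, 1, 1, 1]
  | 4 => [5, 1, 2, 2, 2, 2, 2, 2]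
  | 5 => [5, 0, 2, 2, 2, 2, 2, 2, 1]
  | 6 => [7, 1, 3, 3, 3, 3, 2, 2, 2]
  | 7 => [8, 1, 3, 3, 3, 3, 3, 3, 3]
  | 8 => [11, 3, 4, 4, 4, 4, 4, 4, 4]
  | _ => []

/-- The second representative for `δ = 8`, `m = 4`. -/
def r560 : List ℤ := [4, 0, 2, 2, 2, 1, 1, 1, 1]

/-- The canonical representative of the orbit of a conic under the stabilizer of `q0`. -/
def repL (n : ℕ) (m : ℤ) (p : Bool) : List ℤ :=
  pad n (if m = 4 ∧ n = 9 ∧ p = false then r560 else repTable m)

theorem repL_congr {n : ℕ} {m : ℤ} (h : ¬ (n = 9 ∧ m = 4)) (p p' : Bool) :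
    repL n m p = repL n m p' := by
  unfold repL
  have h1 : ¬ (m = 4 ∧ n = 9 ∧ p = false) := fun hh => h ⟨hh.2.1, hh.1⟩
  have h2 : ¬ (m = 4 ∧ n = 9 ∧ p' = false) := fun hh => h ⟨hh.2.1, hh.1⟩
  rw [if_neg h1, if_neg h2]

/-- Target of the descent moving a conic to `q0`. -/
def targetT (u : List ℤ) : List ℤ := q0L u.length

/-- Target of the descent inside the stabilizer of `q0`. -/
def targetP (u : List ℤ) : List ℤ := repL u.length (formL (q0L u.length) u) (parL u)

/-- The combined finite check on one conic. -/
def okConic (u : List ℤ) : Bool :=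
  okStep (canonL u.length) [] targetT ⟨1, 1, 2, 3⟩ u &&
    okStep (canonL u.length) [q0L u.length] targetP ⟨2, 1, 2, 3⟩ u

theorem check2 : (conicsL 2).all okConic = true := by decide +kernel
theorem check3 : (conicsL 3).all okConic = true := by decide +kernel
theorem check4 : (conicsL 4).all okConic = true := by decide +kernel
theorem check5 : (conicsL 5).all okConic = true := by decide +kernel
theorem check6 : (conicsL 6).all okConic = true := by decide +kernel
theorem check7 : (conicsL 7).all okConic = true := by decide +kernel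

theorem check8 : (conicsL 8).all okConic = true := by decide +kernel

end Groth.Agent.R2.H74.DPConic
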