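import Groth.Agent.R2.H74DPConic

/-!
# Orbits of the Weyl group of `E_8` on exceptional classes

Seat helper74.  The finite checks are done by the kernel (`decide +kernel`).
-/

set_option autoImplicit false

namespace Groth.Agent.R2.H74.DPExc

open W4c3severiratdp Groth.Agent.R2.H74.DP Groth.Agent.R2.H74.DPConic

/-- The exceptional class `e_8`. -/
def E8L : List ℤ := [0, 0, 0, 0, 0, 0, 0, 0, -1]

/-- The exceptional class `e_1`. -/
def E1L : List ℤ := [0, -1, 0, 0, 0, 0, 0, 0, 0]

/-- The canonical representatives of the orbits of the stabilizer of `e_1` on exceptional classes,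
by intersection number with `e_1`. -/
def repE (m : ℤ) : List ℤ :=
  match (m + 1).toNat with
  | 0 => E1L
  | 1 => E8L
  | 2 => [1, 1, 1, 0, 0, 0, 0, 0, 0]
  | 3 => [3, 2, 1, 1, 1, 1, 1, 1, 0]
  | 4 => [6, 3, 2, 2, 2, 2, 2, 2, 2]
  | _ => []

/-- Target of the descent moving an exceptional class to `e_8`. -/
def targetTE (_ : List ℤ) : List ℤ := E8L

/-- Target of the descent inside the stabilizer of `e_1`. -/
def targetPE (u : List ℤ) : List ℤ := repE (formL u E1L)

/-- The combined finite check on one exceptional class. -/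
def okExc (u : List ℤ) : Bool :=
  okStep (canonL 9) [] targetTE ⟨1, 1, 2, 3⟩ u &&
    okStep (canonL 9) [E1L] targetPE ⟨2, 2, 3, 4⟩ u

theorem checkE : (excL 8).all okExc = true := by decide +kernel

end Groth.Agent.R2.H74.DPExc
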