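import Groth.Agent.R2.H74DPExc

/-!
# Normal forms for exceptional classes of `E_8` under the Weyl group

Seat helper74.
-/

set_option autoImplicit false

namespace Groth.Agent.R2.H74.DPExc

open W4c3severiratdp Groth.Agent.R2.H74.DP Groth.Agent.R2.H74.DPConic

/-- The exceptional class `e_1`. -/
def E1 : DP 8 := ofL 8 E1L

theorem toL_E1 : toL E1 = E1L := toL_ofL _ (by decide)

theorem okExc_of_isExc (v : DP 8) (hv : IsExc v) : okExc (toL v) = true :=
  List.all_eq_true.1 checkE _ (mem_excL (le_refl 8) v hv)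

theorem isExc_refl (v α : DP 8) (hv : IsExc v) (hα : IsRoot α) : IsExc (refl α v) := by
  have := isExc_of_isWeyl (isWeyl_reflE hα) hv
  rwa [reflE_apply] at this

theorem isExc_ofL (l : List ℤ) (hlen : l.length = 9) (h1 : formL l l = -1)
    (h2 : formL (canonL 9) l = -1) : IsExc (ofL 8 l) := by
  constructor
  · rw [← formL_toL, toL_ofL l hlen]; exact h1
  · rw [← formL_toL, toL_ofL l hlen, toL_canon]; exact h2

theorem isExc_E1 : IsExc E1 := isExc_ofL _ (by decide) (by decide) (by decide)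

/-- The Weyl group acts transitively on exceptional classes. -/
theorem exists_weyl_to_E1 (v : DP 8) (hv : IsExc v) :
    ∃ g : DP 8 ≃ₗ[ℤ] DP 8, IsWeyl g ∧ g v = E1 := by
  obtain ⟨g, hg, -, hgv⟩ := descent (δ := 8) IsExc isExc_refl [] targetTE ⟨1, 1, 2, 3⟩
    (fun v hv => by
      have := okExc_of_isExc v hv
      unfold okExc at this
      rw [Bool.and_eq_true] at this
      rw [toL_canon, List.map_nil]
      exact this.1) v hv
  have hroot : IsRoot (ofL 8 (trL 9 1 8)) :=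
    isRoot_ofL (by decide) (by decide) (by rw [toL_canon]; decide)
  refine ⟨g.trans (reflE _ hroot.1), isWeyl_trans hg (isWeyl_reflE hroot), toL_injective ?_⟩
  rw [LinearEquiv.trans_apply, reflE_apply, toL_refl, hgv, toL_ofL _ (by decide), toL_E1]
  show reflL (trL 9 1 8) E8L = E1L
  decide

/-- Orbits of the stabilizer of `e_1` on exceptional classes. -/
theorem exists_weyl_fix_E1 (v : DP 8) (hv : IsExc v) :
    ∃ g : DP 8 ≃ₗ[ℤ] DP 8, IsWeyl g ∧ g E1 = E1 ∧ toL (g v) = repE (form v E1) := by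
  obtain ⟨g, hg, hq, hgv⟩ := descent (δ := 8) IsExc isExc_refl [E1] targetPE ⟨2, 2, 3, 4⟩
    (fun v hv => by
      have := okExc_of_isExc v hv
      unfold okExc at this
      rw [Bool.and_eq_true] at this
      rw [toL_canon, List.map_cons, List.map_nil, toL_E1]
      exact this.2) v hv
  refine ⟨g, hg, hq _ (List.mem_singleton.2 rfl), ?_⟩
  rw [hgv, targetPE, ← toL_E1, formL_toL]

/-- The stabilizer of an exceptional class `L` acts transitively on the exceptional classes with a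
given intersection number with `L`. -/
theorem exists_weyl_stab (L L₁ L₂ : DP 8) (hL : IsExc L) (hL₁ : IsExc L₁) (hL₂ : IsExc L₂)
    (h : form L₁ L = form L₂ L) :
    ∃ g : DP 8 ≃ₗ[ℤ] DP 8, IsWeyl g ∧ g L = L ∧ g L₁ = L₂ := by
  obtain ⟨g₀, hg₀, hg₀L⟩ := exists_weyl_to_E1 L hL
  obtain ⟨g₁, hg₁, hg₁E, hg₁v⟩ := exists_weyl_fix_E1 (g₀ L₁) (isExc_of_isWeyl hg₀ hL₁)
  obtain ⟨g₂, hg₂, hg₂E, hg₂v⟩ := exists_weyl_fix_E1 (g₀ L₂) (isExc_of_isWeyl hg₀ hL₂)
  have e : g₁ (g₀ L₁) = g₂ (g₀ L₂) := by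
    apply toL_injective
    rw [hg₁v, hg₂v, ← hg₀L, hg₀.1, hg₀.1, h]
  refine ⟨(g₀.trans (g₁.trans g₂.symm)).trans g₀.symm,
    isWeyl_trans (isWeyl_trans hg₀ (isWeyl_trans hg₁ (isWeyl_symm hg₂))) (isWeyl_symm hg₀), ?_, ?_⟩
  · simp only [LinearEquiv.trans_apply]
    have h1 : g₂.symm E1 = E1 := by rw [LinearEquiv.symm_apply_eq, hg₂E]
    rw [hg₀L, hg₁E, h1, ← hg₀L, LinearEquiv.symm_apply_apply]
  · simp only [LinearEquiv.trans_apply]
    rw [e, LinearEquiv.symm_apply_apply, LinearEquiv.symm_apply_apply]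

end Groth.Agent.R2.H74.DPExc
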