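import Groth.Agent.R2.H74DPConic

/-!
# Normal forms for conic classes and pairs of conic classes under the Weyl group

Seat helper74.
-/

set_option autoImplicit false

namespace Groth.Agent.R2.H74.DPConic

open W4c3severiratdp Groth.Agent.R2.H74.DP

theorem check_all {δ : ℕ} (h2 : 2 ≤ δ) (h8 : δ ≤ 8) : (conicsL δ).all okConic = true := by
  interval_cases δ
  · exact check2
  · exact check3
  · exact check4
  · exact check5
  · exact check6
  · exact check7
  · exact check8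

theorem okConic_of_isConic {δ : ℕ} (h2 : 2 ≤ δ) (h8 : δ ≤ 8) (v : DP δ) (hv : IsConic v) :
    okConic (toL v) = true :=
  List.all_eq_true.1 (check_all h2 h8) _ (mem_conicsL h8 v hv)

theorem isConic_refl {δ : ℕ} (v α : DP δ) (hv : IsConic v) (hα : IsRoot α) :
    IsConic (refl α v) := by
  have := isConic_of_isWeyl (isWeyl_reflE hα) hv
  rwa [reflE_apply] at this

/-- The Weyl group acts transitively on conic classes. -/
theorem exists_weyl_to_q0 {δ : ℕ} (h2 : 2 ≤ δ) (h8 : δ ≤ 8) (v : DP δ) (hv : IsConic v) :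
    ∃ g : DP δ ≃ₗ[ℤ] DP δ, IsWeyl g ∧ g v = q0 δ := by
  obtain ⟨g, hg, -, hgv⟩ := descent (δ := δ) IsConic isConic_refl [] targetT ⟨1, 1, 2, 3⟩
    (fun v hv => by
      have := okConic_of_isConic h2 h8 v hv
      unfold okConic at this
      rw [Bool.and_eq_true] at this
      rw [toL_canon, List.map_nil]
      have h := this.1
      rwa [toL_length] at h) v hv
  refine ⟨g, hg, toL_injective ?_⟩
  rw [hgv, targetT, toL_length, toL_q0 (by omega)]

/-- Orbits of the stabilizer of `q0` on conic classes. -/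
theorem exists_weyl_fix_q0 {δ : ℕ} (h2 : 2 ≤ δ) (h8 : δ ≤ 8) (v : DP δ) (hv : IsConic v) :
    ∃ g : DP δ ≃ₗ[ℤ] DP δ, IsWeyl g ∧ g (q0 δ) = q0 δ ∧
      toL (g v) = repL (δ + 1) (form (q0 δ) v) (parL (toL v)) := by
  obtain ⟨g, hg, hq, hgv⟩ := descent (δ := δ) IsConic isConic_refl [q0 δ] targetP ⟨2, 1, 2, 3⟩
    (fun v hv => by
      have := okConic_of_isConic h2 h8 v hv
      unfold okConic at this
      rw [Bool.and_eq_true] at this
      rw [toL_canon, List.map_cons, List.map_nil, toL_q0 (by omega)]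
      have h := this.2
      rwa [toL_length] at h) v hv
  refine ⟨g, hg, hq _ (List.mem_singleton.2 rfl), ?_⟩
  rw [hgv, targetP, toL_length, ← toL_q0 (by omega), formL_toL]

/-- Pairs of conics: normal form. -/
theorem exists_weyl_pair {δ : ℕ} (h2 : 2 ≤ δ) (h8 : δ ≤ 8) (v₁ v₂ : DP δ) (hv₁ : IsConic v₁)
    (hv₂ : IsConic v₂) :
    ∃ (g : DP δ ≃ₗ[ℤ] DP δ) (p : Bool), IsWeyl g ∧ g v₁ = q0 δ ∧
      toL (g v₂) = repL (δ + 1) (form v₁ v₂) p := by
  obtain ⟨g₁, hg₁, hgv₁⟩ := exists_weyl_to_q0 h2 h8 v₁ hv₁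
  obtain ⟨g₂, hg₂, hgq, hgv₂⟩ := exists_weyl_fix_q0 h2 h8 (g₁ v₂) (isConic_of_isWeyl hg₁ hv₂)
  refine ⟨g₁.trans g₂, parL (toL (g₁ v₂)), isWeyl_trans hg₁ hg₂, ?_, ?_⟩
  · rw [LinearEquiv.trans_apply, hgv₁, hgq]
  · rw [LinearEquiv.trans_apply, hgv₂, ← hgv₁, hg₁.1]


theorem isConic_ofL {δ : ℕ} (l : List ℤ) (hlen : l.length = δ + 1) (h1 : formL l l = 0)
    (h2 : formL (canonL (δ + 1)) l = -2) : IsConic (ofL δ l) := by
  constructor
  · rw [← formL_toL, toL_ofL l hlen]; exact h1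
  · rw [← formL_toL, toL_ofL l hlen, toL_canon]; exact h2

/-- The representative of the small orbit for `δ = 8`, `m = 4`. -/
def r14 : List ℤ := [5, 1, 2, 2, 2, 2, 2, 2, 0]

theorem repL_true : repL 9 4 true = r14 := by decide
theorem repL_false : repL 9 4 false = r560 := by decide

theorem isConic_q0_8 : IsConic (q0 8) := isConic_ofL _ (by decide) (by decide) (by decide)
theorem isConic_r14 : IsConic (ofL 8 r14) := isConic_ofL _ (by decide) (by decide) (by decide)
theorem isConic_r560 : IsConic (ofL 8 r560) := isConic_ofL _ (by decide) (by decide) (by decide)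

theorem form_q0_r14 : form (q0 8) (ofL 8 r14) = 4 := by
  rw [← formL_toL, toL_ofL _ (by decide), toL_q0 (by norm_num)]; decide

theorem form_q0_r560 : form (q0 8) (ofL 8 r560) = 4 := by
  rw [← formL_toL, toL_ofL _ (by decide), toL_q0 (by norm_num)]; decide

/-- The two orbits of pairs of conics with product `4` for `δ = 8` are different: in one of them
the sum of the two conics is divisible by `2`. -/
theorem no_weyl_r14_r560 :
    ¬ ∃ g : DP 8 ≃ₗ[ℤ] DP 8, IsWeyl g ∧ g (q0 8) = q0 8 ∧ g (ofL 8 r14) = ofL 8 r560 := by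
  rintro ⟨g, -, h1, h2⟩
  have hD : q0 8 + ofL 8 r14 = (2 : ℤ) • ofL 8 [3, 1, 1, 1, 1, 1, 1, 1, 0] := by
    funext i
    revert i
    decide
  have h3 : g (q0 8 + ofL 8 r14) = q0 8 + ofL 8 r560 := by rw [map_add, h1, h2]
  rw [hD, map_smul] at h3
  have h4 := congrFun h3 0
  have h5 : (q0 8 + ofL 8 r560) 0 = 5 := by decide
  rw [h5, Pi.smul_apply, smul_eq_mul] at h4
  omega

theorem exists_weyl_pair_four (v₁ v₂ : DP 8) (hv₁ : IsConic v₁) (hv₂ : IsConic v₂)
    (h4 : form v₁ v₂ = 4) :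
    ∃ g : DP 8 ≃ₗ[ℤ] DP 8, IsWeyl g ∧
      ((g v₁ = q0 8 ∧ g v₂ = ofL 8 r14) ∨ (g v₁ = q0 8 ∧ g v₂ = ofL 8 r560)) := by
  obtain ⟨g, p, hg, hg1, hg2⟩ := exists_weyl_pair (by norm_num) (le_refl 8) v₁ v₂ hv₁ hv₂
  refine ⟨g, hg, ?_⟩
  rw [h4] at hg2
  cases p
  · right
    refine ⟨hg1, toL_injective ?_⟩
    rw [hg2, toL_ofL _ (by decide)]
    exact repL_false
  · left
    refine ⟨hg1, toL_injective ?_⟩
    rw [hg2, toL_ofL _ (by decide)]
    exact repL_true

end Groth.Agent.R2.H74.DPConic
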