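import Groth.Agent.R2.H74DPExcThm

/-!
# Triples of exceptional classes of `E_8` with sum `L - 2K`, under the stabilizer of `L`

Seat helper74.
-/

set_option autoImplicit false

namespace Groth.Agent.R2.H74.DPTriple

open W4c3severiratdp Groth.Agent.R2.H74.DP Groth.Agent.R2.H74.DPConic Groth.Agent.R2.H74.DPExc

/-- The descent principle for a class that is only stable under the reflections fixing `qs`. -/
theorem descent' {δ : ℕ} (qs : List (DP δ)) (S : DP δ → Prop)
    (hS : ∀ v α, S v → IsRoot α → (∀ q ∈ qs, form q α = 0) → S (refl α v))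
    (target : List ℤ → List ℤ) (c : Cfg)
    (hcheck : ∀ v, S v → okStep (toL (canon δ)) (qs.map toL) target c (toL v) = true) :
    ∀ v, S v → ∃ g : DP δ ≃ₗ[ℤ] DP δ, IsWeyl g ∧ (∀ q ∈ qs, g q = q) ∧
      toL (g v) = target (toL v) := by
  suffices H : ∀ n : ℕ, ∀ v, S v → (keyL (toL v)).toNat = n →
      ∃ g : DP δ ≃ₗ[ℤ] DP δ, IsWeyl g ∧ (∀ q ∈ qs, g q = q) ∧ toL (g v) = target (toL v) from
    fun v hv => H _ v hv rfl
  intro n
  induction n using Nat.strong_induction_on with
  | _ n ih =>
    intro v hv hn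
    have hc := hcheck v hv
    unfold okStep at hc
    rw [Bool.and_eq_true, Bool.or_eq_true] at hc
    obtain ⟨-, hc⟩ := hc
    rcases hc with hc | hc
    · refine ⟨LinearEquiv.refl ℤ _, isWeyl_refl', fun _ _ => rfl, ?_⟩
      rw [beq_iff_eq] at hc
      exact hc
    · cases hsr : stepRoot c (toL v) with
      | none => rw [hsr] at hc; exact absurd hc (by simp)
      | some α =>
        rw [hsr] at hc
        simp only [okRoot, Bool.and_eq_true, beq_iff_eq, decide_eq_true_eq, List.all_eq_true,
          List.mem_map, forall_exists_index, and_imp, forall_apply_eq_imp_iff₂] at hc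
        obtain ⟨⟨⟨⟨⟨⟨hlen, h1⟩, h2⟩, hq⟩, hk0⟩, hk⟩, ht⟩ := hc
        rw [toL_length] at hlen
        have hroot : IsRoot (ofL δ α) := isRoot_ofL hlen h1 h2
        have hq' : ∀ q ∈ qs, form q (ofL δ α) = 0 := by
          intro q hqm
          rw [← formL_toL, toL_ofL α hlen]
          exact hq q hqm
        have hv' : S (refl (ofL δ α) v) := hS v _ hv hroot hq'
        have hL : toL (refl (ofL δ α) v) = reflL α (toL v) := by
          rw [toL_refl, toL_ofL α hlen]
        have hlt : (keyL (toL (refl (ofL δ α) v))).toNat < n := by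
          rw [hL, ← hn]
          omega
        obtain ⟨g, hg, hgq, hgv⟩ := ih _ hlt _ hv' rfl
        refine ⟨(reflE (ofL δ α) hroot.1).trans g, isWeyl_trans (isWeyl_reflE hroot) hg, ?_, ?_⟩
        · intro q hqm
          rw [LinearEquiv.trans_apply, reflE_apply, refl_apply, hq' q hqm, zero_smul, add_zero]
          exact hgq q hqm
        · rw [LinearEquiv.trans_apply, reflE_apply, hgv, hL, ht]

/-- The exceptional class `ℓ - e_1 - e_2`. -/
def FL : List ℤ := [1, 1, 1, 0, 0, 0, 0, 0, 0]

/-- `e_1 - 2K - (ℓ - e_1 - e_2)`. -/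
def TFL : List ℤ := [5, 0, 1, 2, 2, 2, 2, 2, 2]

/-- The last-level representative. -/
def x0L : List ℤ := [2, 0, 0, 1, 1, 1, 1, 1, 0]

/-- Its partner. -/
def y0L : List ℤ := [3, 0, 1, 1, 1, 1, 1, 1, 2]

/-- Difference of lists. -/
def subL (a b : List ℤ) : List ℤ := List.zipWith (fun x y => x - y) a b

/-- Is the list an exceptional class of `E_8`? -/
def isExcL (l : List ℤ) : Bool := formL l l == -1 && formL (canonL 9) l == -1

/-- The side conditions of the last level. -/
def cond3 (u : List ℤ) : Bool := formL u E1L == 0 && isExcL (subL TFL u)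

/-- The finite check of the last level. -/
def okTriple (u : List ℤ) : Bool :=
  !(cond3 u) || okStep (canonL 9) [E1L, FL] (fun _ => x0L) ⟨3, 2, 3, 4⟩ u

theorem check3 : (excL 8).all okTriple = true := by decide +kernel

end Groth.Agent.R2.H74.DPTriple
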