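import Groth.Agent.R2.H74DPTriple

/-!
# The four orbits of the stabilizer of an exceptional class `L` of `E_8` on triples of exceptional
classes with sum `L - 2K`

Seat helper74.
-/

set_option autoImplicit false

namespace Groth.Agent.R2.H74.DPTriple

open W4c3severiratdp Groth.Agent.R2.H74.DP Groth.Agent.R2.H74.DPConic Groth.Agent.R2.H74.DPExc

/-- `ℓ - e_1 - e_2`. -/
def F : DP 8 := ofL 8 FL
/-- `e_1 - 2K - F`. -/
def TF : DP 8 := ofL 8 TFL
/-- The last-level representative. -/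
def x0 : DP 8 := ofL 8 x0L
/-- Its partner. -/
def y0 : DP 8 := ofL 8 y0L

theorem toL_F : toL F = FL := toL_ofL _ (by decide)
theorem toL_TF : toL TF = TFL := toL_ofL _ (by decide)
theorem toL_x0 : toL x0 = x0L := toL_ofL _ (by decide)
theorem toL_y0 : toL y0 = y0L := toL_ofL _ (by decide)

theorem toL_sub (a b : DP 8) : toL (a - b) = subL (toL a) (toL b) := by
  unfold subL toL
  rw [zipWith_ofFn]
  rfl

theorem TF_eq : TF = E1 - 2 • canon 8 - F := by
  funext i
  revert i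
  decide

theorem y0_eq : y0 = TF - x0 := by
  funext i
  revert i
  decide

theorem isExc_iff_isExcL (v : DP 8) : IsExc v ↔ isExcL (toL v) = true := by
  unfold isExcL IsExc
  rw [Bool.and_eq_true, beq_iff_eq, beq_iff_eq, formL_toL, ← toL_canon, formL_toL]

theorem refl_fix {α q : DP 8} (h : form q α = 0) : refl α q = q := by
  rw [refl_apply, h, zero_smul, add_zero]

theorem form_canon_root {α : DP 8} (h : IsRoot α) : form (canon 8) α = 0 := h.2

/-- The class handled by the last level of the descent. -/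
def S3 (x : DP 8) : Prop := IsExc x ∧ form x E1 = 0 ∧ IsExc (TF - x)

theorem S3_refl (v α : DP 8) (hv : S3 v) (hα : IsRoot α) (hq : ∀ q ∈ [E1, F], form q α = 0) :
    S3 (refl α v) := by
  have hE : form E1 α = 0 := hq E1 (by simp)
  have hF : form F α = 0 := hq F (by simp)
  have hTF : form TF α = 0 := by
    rw [TF_eq, sub_eq_add_neg, sub_eq_add_neg, form_add_left, form_add_left, ← neg_one_smul ℤ F,
      ← neg_one_smul ℤ (2 • canon 8), form_smul_left, form_smul_left, hE, hF,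
      ← natCast_zsmul, form_smul_left, hα.2]
    ring
  refine ⟨isExc_refl v α hv.1 hα, ?_, ?_⟩
  · have := form_refl_refl hα.1 v E1
    rw [refl_fix hE] at this
    rw [this]
    exact hv.2.1
  · have : TF - refl α v = refl α (TF - v) := by
      rw [map_sub, refl_fix hTF]
    rw [this]
    exact isExc_refl _ α hv.2.2 hα

theorem exists_weyl_level3 (x : DP 8) (hx : S3 x) :
    ∃ g : DP 8 ≃ₗ[ℤ] DP 8, IsWeyl g ∧ g E1 = E1 ∧ g F = F ∧ g x = x0 := by
  obtain ⟨g, hg, hq, hgv⟩ := descent' (δ := 8) [E1, F] S3 S3_refl (fun _ => x0L) ⟨3, 2, 3, 4⟩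
    (fun v hv => by
      have h1 : okTriple (toL v) = true :=
        List.all_eq_true.1 check3 _ (mem_excL (le_refl 8) v hv.1)
      have h2 : cond3 (toL v) = true := by
        unfold cond3
        rw [Bool.and_eq_true, beq_iff_eq, ← toL_E1, formL_toL, ← toL_TF, ← toL_sub,
          ← isExc_iff_isExcL]
        exact ⟨hv.2.1, hv.2.2⟩
      unfold okTriple at h1
      rw [h2, Bool.not_true, Bool.false_or] at h1
      rw [toL_canon, List.map_cons, List.map_cons, List.map_nil, toL_E1, toL_F]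
      exact h1) x hx
  refine ⟨g, hg, hq _ (by simp), hq _ (by simp), toL_injective ?_⟩
  rw [hgv, toL_x0]

/-- The four representatives, as lists. -/
def RL : Fin 4 → Fin 3 → List ℤ :=
  ![![E1L, E1L, [6, 3, 2, 2, 2, 2, 2, 2, 2]],
    ![E1L, E8L, [6, 2, 2, 2, 2, 2, 2, 2, 3]],
    ![E1L, FL, [5, 1, 1, 2, 2, 2, 2, 2, 2]],
    ![x0L, y0L, FL]]

/-- The four representatives for `L = e_1`. -/
def R (j : Fin 4) (i : Fin 3) : DP 8 := ofL 8 (RL j i)

theorem RL_length : ∀ j i, (RL j i).length = 9 := by decide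

theorem toL_R (j : Fin 4) (i : Fin 3) : toL (R j i) = RL j i := toL_ofL _ (RL_length j i)

theorem RL_exc : ∀ j i, isExcL (RL j i) = true := by decide

theorem isExc_R (j : Fin 4) (i : Fin 3) : IsExc (R j i) := by
  rw [isExc_iff_isExcL, toL_R]
  exact RL_exc j i

theorem R_sum : ∀ j, R j 0 + R j 1 + R j 2 = E1 - 2 • canon 8 := by
  intro j
  funext i
  revert i j
  decide

/-- The invariant separating the four orbits. -/
def invL (j : Fin 4) : ℤ := ∑ i, (formL (RL j i) E1L) ^ 2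

theorem invL_injective : ∀ j j', invL j = invL j' → j = j' := by decide

theorem form_R_E1 (j : Fin 4) (i : Fin 3) : form (R j i) E1 = formL (RL j i) E1L := by
  rw [← formL_toL, toL_R, toL_E1]

theorem R_inequiv (j j' : Fin 4)
    (h : ∃ g : DP 8 ≃ₗ[ℤ] DP 8, IsWeyl g ∧ g E1 = E1 ∧
      ∃ σ : Equiv.Perm (Fin 3), ∀ i, g (R j (σ i)) = R j' i) : j = j' := by
  obtain ⟨g, hg, hgE, σ, hσ⟩ := h
  apply invL_injective
  unfold invL
  rw [← Equiv.sum_comp σ]
  apply Finset.sum_congr rfl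
  intro i _
  rw [← form_R_E1, ← form_R_E1, ← hσ i]
  conv_rhs => rw [← hgE]
  rw [hg.1]

/-- Intersection numbers with `e_1` of exceptional classes. -/
theorem form_E1_ge (v : DP 8) (hv : IsExc v) :
    -1 ≤ form v E1 ∧ (form v E1 = -1 → v = E1) := by
  obtain ⟨g, hg, hgE, hgv⟩ := exists_weyl_fix_E1 v hv
  have key : formL (repE (form v E1)) E1L = form v E1 := by
    rw [← hgv, ← toL_E1, formL_toL]
    conv_lhs => rw [← hgE]
    rw [hg.1]
  constructor
  · by_contra hlt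
    have h0 : (form v E1 + 1).toNat = 0 := by omega
    have h1 : repE (form v E1) = E1L := by
      unfold repE
      rw [h0]
      rfl
    rw [h1] at key
    have h2 : formL E1L E1L = -1 := by decide
    omega
  · intro hm
    rw [hm] at hgv
    have : g v = E1 := by
      apply toL_injective
      rw [hgv, toL_E1]
      rfl
    rw [← hgE] at this
    exact g.injective this

theorem map_T {g : DP 8 ≃ₗ[ℤ] DP 8} (hg : IsWeyl g) (hgE : g E1 = E1) :
    g (E1 - 2 • canon 8) = E1 - 2 • canon 8 := by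
  rw [map_sub, map_nsmul, hgE, hg.2]

/-- First case: the triple contains `e_1`. -/
theorem case_one (b c : DP 8) (hb : IsExc b) (hsum : E1 + b + c = E1 - 2 • canon 8)
    (hle : form b E1 ≤ form c E1) :
    ∃ (j : Fin 4) (g : DP 8 ≃ₗ[ℤ] DP 8), IsWeyl g ∧ g E1 = E1 ∧
      g E1 = R j 0 ∧ g b = R j 1 ∧ g c = R j 2 := by
  have hc : c = E1 - 2 • canon 8 - E1 - b := by
    rw [← hsum]
    abel
  have hmb := (form_E1_ge b hb).1
  have hsumf : form b E1 + form c E1 = 2 := by
    have h1 : form (E1 + b + c) E1 = form (E1 - 2 • canon 8) E1 := by rw [hsum]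
    rw [form_add_left, form_add_left, sub_eq_add_neg, form_add_left, ← neg_one_smul ℤ (2 • canon 8),
      form_smul_left, ← natCast_zsmul, form_smul_left, isExc_E1.2, isExc_E1.1] at h1
    push_cast at h1
    linarith
  have hmb1 : form b E1 ≤ 1 := by omega
  obtain ⟨g, hg, hgE, hgv⟩ := exists_weyl_fix_E1 b hb
  have hgc : toL (g c) = subL (subL (toL (E1 - 2 • canon 8)) E1L) (toL (g b)) := by
    rw [hc, map_sub, map_sub, map_T hg hgE, hgE, toL_sub, toL_sub, toL_E1]
  have hT : toL (E1 - 2 • canon 8) = [6, 1, 2, 2, 2, 2, 2, 2, 2] := by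
    rw [← R_sum 0]
    have : toL (R 0 0 + R 0 1 + R 0 2) =
        List.zipWith (· + ·) (List.zipWith (· + ·) (RL 0 0) (RL 0 1)) (RL 0 2) := by
      rw [← toL_R, ← toL_R, ← toL_R]
      unfold toL
      rw [zipWith_ofFn, zipWith_ofFn]
      rfl
    rw [this]
    decide
  rw [hT, hgv] at hgc
  have hm : form b E1 = -1 ∨ form b E1 = 0 ∨ form b E1 = 1 := by omega
  rcases hm with hm | hm | hm
  · refine ⟨0, g, hg, hgE, ?_, ?_, ?_⟩
    · rw [hgE]; apply toL_injective; rw [toL_R, toL_E1]; rfl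
    · apply toL_injective; rw [hgv, hm, toL_R]; rfl
    · apply toL_injective; rw [hgc, hm, toL_R]; decide
  · refine ⟨1, g, hg, hgE, ?_, ?_, ?_⟩
    · rw [hgE]; apply toL_injective; rw [toL_R, toL_E1]; rfl
    · apply toL_injective; rw [hgv, hm, toL_R]; rfl
    · apply toL_injective; rw [hgc, hm, toL_R]; decide
  · refine ⟨2, g, hg, hgE, ?_, ?_, ?_⟩
    · rw [hgE]; apply toL_injective; rw [toL_R, toL_E1]; rfl
    · apply toL_injective; rw [hgv, hm, toL_R]; rfl
    · apply toL_injective; rw [hgc, hm, toL_R]; decide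

/-- Second case: the triple does not contain `e_1`. -/
theorem case_two (a b c : DP 8) (ha : IsExc a) (hb : IsExc b) (hc : IsExc c)
    (hsum : a + b + c = E1 - 2 • canon 8)
    (hma : form a E1 = 0) (hmc : form c E1 = 1) :
    ∃ (g : DP 8 ≃ₗ[ℤ] DP 8), IsWeyl g ∧ g E1 = E1 ∧
      g a = R 3 0 ∧ g b = R 3 1 ∧ g c = R 3 2 := by
  obtain ⟨g₁, hg₁, hg₁E, hg₁v⟩ := exists_weyl_fix_E1 c hc
  have hg₁c : g₁ c = F := by
    apply toL_injective
    rw [hg₁v, hmc, toL_F]
    rfl
  have hb' : g₁ b = TF - g₁ a := by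
    have : g₁ (a + b + c) = E1 - 2 • canon 8 := by rw [hsum, map_T hg₁ hg₁E]
    rw [map_add, map_add, hg₁c] at this
    rw [TF_eq, ← this]
    abel
  have hS : S3 (g₁ a) := by
    refine ⟨isExc_of_isWeyl hg₁ ha, ?_, ?_⟩
    · conv_lhs => rw [← hg₁E]
      rw [hg₁.1, hma]
    · rw [← hb']
      exact isExc_of_isWeyl hg₁ hb
  obtain ⟨g₂, hg₂, hg₂E, hg₂F, hg₂x⟩ := exists_weyl_level3 _ hS
  have hg₂TF : g₂ TF = TF := by
    rw [TF_eq, map_sub, map_T hg₂ hg₂E, hg₂F]
  refine ⟨g₁.trans g₂, isWeyl_trans hg₁ hg₂, ?_, ?_, ?_, ?_⟩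
  · rw [LinearEquiv.trans_apply, hg₁E, hg₂E]
  · rw [LinearEquiv.trans_apply, hg₂x]
    apply toL_injective; rw [toL_R, toL_x0]; rfl
  · rw [LinearEquiv.trans_apply, hb', map_sub, hg₂TF, hg₂x, ← y0_eq]
    apply toL_injective; rw [toL_R, toL_y0]; rfl
  · rw [LinearEquiv.trans_apply, hg₁c, hg₂F]
    apply toL_injective; rw [toL_R, toL_F]; rfl


theorem form_T_E1 : form (E1 - 2 • canon 8) E1 = 1 := by
  rw [sub_eq_add_neg, form_add_left, ← neg_one_smul ℤ (2 • canon 8),
    form_smul_left, ← natCast_zsmul, form_smul_left, isExc_E1.2, isExc_E1.1]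
  norm_num

/-- Every triple for `L = e_1` is equivalent to one of the four representatives. -/
theorem classify_E1 (t : Fin 3 → DP 8) (ht : ∀ i, IsExc (t i))
    (hsum : t 0 + t 1 + t 2 = E1 - 2 • canon 8) :
    ∃ j, ∃ g : DP 8 ≃ₗ[ℤ] DP 8, IsWeyl g ∧ g E1 = E1 ∧
      ∃ σ : Equiv.Perm (Fin 3), ∀ i, g (t (σ i)) = R j i := by
  set m : Fin 3 → ℤ := fun i => form (t i) E1 with hm
  set σ := Tuple.sort m with hσ
  have hmono : Monotone (m ∘ σ) := Tuple.monotone_sort m
  have h01 : form (t (σ 0)) E1 ≤ form (t (σ 1)) E1 := hmono (by decide : (0 : Fin 3) ≤ 1)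
  have h12 : form (t (σ 1)) E1 ≤ form (t (σ 2)) E1 := hmono (by decide : (1 : Fin 3) ≤ 2)
  have hsum' : t (σ 0) + t (σ 1) + t (σ 2) = E1 - 2 • canon 8 := by
    have h := Equiv.sum_comp σ t
    rw [Fin.sum_univ_three, Fin.sum_univ_three] at h
    rw [h, hsum]
  have hf : form (t (σ 0)) E1 + form (t (σ 1)) E1 + form (t (σ 2)) E1 = 1 := by
    rw [← form_add_left, ← form_add_left, hsum', form_T_E1]
  obtain ⟨h0ge, h0eq⟩ := form_E1_ge _ (ht (σ 0))
  by_cases hcase : form (t (σ 0)) E1 = -1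
  · have ha : t (σ 0) = E1 := h0eq hcase
    rw [ha] at hsum'
    obtain ⟨j, g, hg, hgE, h0, h1, h2⟩ := case_one _ _ (ht (σ 1)) hsum' h12
    refine ⟨j, g, hg, hgE, σ, ?_⟩
    intro i
    fin_cases i
    · show g (t (σ 0)) = R j 0
      rw [ha]; exact h0
    · exact h1
    · exact h2
  · have hma : form (t (σ 0)) E1 = 0 := by omega
    have hmc : form (t (σ 2)) E1 = 1 := by omega
    obtain ⟨g, hg, hgE, h0, h1, h2⟩ :=
      case_two _ _ _ (ht (σ 0)) (ht (σ 1)) (ht (σ 2)) hsum' hma hmc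
    refine ⟨3, g, hg, hgE, σ, ?_⟩
    intro i
    fin_cases i
    · exact h0
    · exact h1
    · exact h2

/-- The stabilizer of an exceptional class `L` of `E_8` has exactly four orbits on the unordered
triples of exceptional classes with sum `L - 2K`. -/
theorem four_orbits (L : DP 8) (hL : IsExc L) :
    ∃ r : Fin 4 → (Fin 3 → DP 8),
      (∀ j, (∀ i, IsExc (r j i)) ∧ r j 0 + r j 1 + r j 2 = L - 2 • canon 8) ∧
      (∀ j j', (∃ g : DP 8 ≃ₗ[ℤ] DP 8, IsWeyl g ∧ g L = L ∧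
        ∃ σ : Equiv.Perm (Fin 3), ∀ i, g (r j (σ i)) = r j' i) → j = j') ∧
      ∀ t : Fin 3 → DP 8, (∀ i, IsExc (t i)) → t 0 + t 1 + t 2 = L - 2 • canon 8 →
        ∃ j, ∃ g : DP 8 ≃ₗ[ℤ] DP 8, IsWeyl g ∧ g L = L ∧
          ∃ σ : Equiv.Perm (Fin 3), ∀ i, g (t (σ i)) = r j i := by
  obtain ⟨g₀, hg₀, hg₀L⟩ := exists_weyl_to_E1 L hL
  have hsL : g₀.symm E1 = L := by rw [LinearEquiv.symm_apply_eq, hg₀L]
  have hsK : g₀.symm (canon 8) = canon 8 := (isWeyl_symm hg₀).2
  refine ⟨fun j i => g₀.symm (R j i), ?_, ?_, ?_⟩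
  · intro j
    refine ⟨fun i => isExc_of_isWeyl (isWeyl_symm hg₀) (isExc_R j i), ?_⟩
    show g₀.symm (R j 0) + g₀.symm (R j 1) + g₀.symm (R j 2) = L - 2 • canon 8
    rw [← map_add, ← map_add, R_sum, map_sub, map_nsmul, hsL, hsK]
  · rintro j j' ⟨g, hg, hgL, σ, hσ⟩
    apply R_inequiv j j'
    refine ⟨(g₀.symm.trans g).trans g₀,
      isWeyl_trans (isWeyl_trans (isWeyl_symm hg₀) hg) hg₀, ?_, σ, ?_⟩
    · simp only [LinearEquiv.trans_apply]
      rw [hsL, hgL, hg₀L]
    · intro i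
      simp only [LinearEquiv.trans_apply]
      have := hσ i
      simp only at this
      rw [this, LinearEquiv.apply_symm_apply]
  · intro t ht hsum
    have ht' : ∀ i, IsExc (g₀ (t i)) := fun i => isExc_of_isWeyl hg₀ (ht i)
    have hsum' : g₀ (t 0) + g₀ (t 1) + g₀ (t 2) = E1 - 2 • canon 8 := by
      rw [← map_add, ← map_add, hsum, map_sub, map_nsmul, hg₀L, hg₀.2]
    obtain ⟨j, g, hg, hgE, σ, hσ⟩ := classify_E1 (fun i => g₀ (t i)) ht' hsum'
    refine ⟨j, (g₀.trans g).trans g₀.symm,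
      isWeyl_trans (isWeyl_trans hg₀ hg) (isWeyl_symm hg₀), ?_, σ, ?_⟩
    · simp only [LinearEquiv.trans_apply]
      rw [hg₀L, hgE, hsL]
    · intro i
      simp only [LinearEquiv.trans_apply]
      have := hσ i
      rw [this]

end Groth.Agent.R2.H74.DPTriple
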