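import Mathlib
import Groth.Prelude.Def_MoreMor
import Groth.Agent.R2.H74FSmNbhd

/-!
# First order neighbourhood of an immersion from an affine scheme, with the square zero property
(helper74)

Same construction as `exists_firstOrderNbhd`, but we also record that `j₀` is surjective and that the
kernel of `Γ(Z') → Γ(T₀)` has square zero.
-/

set_option autoImplicit false
set_option linter.style.haveILetI false
universe u
open CategoryTheory AlgebraicGeometry Limits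

namespace Groth.Agent.R2.H74.FSm

/-- sections of `V(𝓘²)` vanishing on `V(𝓘)` multiply to zero. -/
lemma mul_eq_zero_of_subscheme_sq {W T₀ : Scheme.{u}} (𝓘 : W.IdealSheafData)
    (j₀ : T₀ ⟶ (𝓘 ^ 2).subscheme) [QuasiCompact (j₀ ≫ (𝓘 ^ 2).subschemeι)]
    (hk : (j₀ ≫ (𝓘 ^ 2).subschemeι).ker = 𝓘)
    (x y : Γ((𝓘 ^ 2).subscheme, ⊤)) (hx : j₀.appTop x = 0) (hy : j₀.appTop y = 0) :
    x * y = 0 := by
  apply TopCat.Presheaf.section_ext (𝓘 ^ 2).subscheme.sheaf ⊤ (x * y) 0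
  intro z hz
  change (𝓘 ^ 2).subscheme.presheaf.germ ⊤ z hz (x * y) =
    (𝓘 ^ 2).subscheme.presheaf.germ ⊤ z hz 0
  rw [map_zero]
  obtain ⟨_, ⟨U, hU, rfl⟩, hzU, -⟩ := W.isBasis_affineOpens.exists_subset_of_mem_open
    (show (𝓘 ^ 2).subschemeι z ∈ (⊤ : W.Opens) from trivial) (⊤ : W.Opens).2
  have hzV : z ∈ (𝓘 ^ 2).subschemeι ⁻¹ᵁ U := hzU
  have hVtop : (𝓘 ^ 2).subschemeι ⁻¹ᵁ U ≤ ⊤ := le_top
  rw [← (𝓘 ^ 2).subscheme.presheaf.germ_res_apply (homOfLE hVtop) z hzV (x * y), map_mul]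
  -- lift the restrictions to `Γ(W, U)`
  have key : ∀ w : Γ((𝓘 ^ 2).subscheme, ⊤), j₀.appTop w = 0 → ∃ w' : Γ(W, U),
      (𝓘 ^ 2).subschemeι.app U w' = (𝓘 ^ 2).subscheme.presheaf.map (homOfLE hVtop).op w ∧
        w' ∈ 𝓘.ideal ⟨U, hU⟩ := by
    intro w hw
    obtain ⟨w', hw'⟩ := (𝓘 ^ 2).subschemeι_app_surjective ⟨U, hU⟩
      ((𝓘 ^ 2).subscheme.presheaf.map (homOfLE hVtop).op w)
    refine ⟨w', hw', ?_⟩
    rw [← hk, Scheme.Hom.ker_apply, RingHom.mem_ker, Scheme.Hom.comp_app]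
    change j₀.app ((𝓘 ^ 2).subschemeι ⁻¹ᵁ U) ((𝓘 ^ 2).subschemeι.app U w') = 0
    rw [hw']
    have hnat := j₀.naturality (homOfLE hVtop).op
    have h2 := congr($(hnat).hom w)
    simp only [CommRingCat.hom_comp, RingHom.comp_apply] at h2
    rw [h2]
    have : j₀.app ⊤ w = 0 := hw
    rw [this, map_zero]
  obtain ⟨x', hx', hx'I⟩ := key x hx
  obtain ⟨y', hy', hy'I⟩ := key y hy
  rw [← hx', ← hy', ← map_mul]
  have hmem : x' * y' ∈ RingHom.ker ((𝓘 ^ 2).subschemeι.app U).hom := by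
    rw [(𝓘 ^ 2).ker_subschemeι_app ⟨U, hU⟩, Scheme.IdealSheafData.ideal_pow, Pi.pow_apply, pow_two]
    exact Ideal.mul_mem_mul hx'I hy'I
  rw [RingHom.mem_ker] at hmem
  rw [hmem, map_zero]

/-- `exists_firstOrderNbhd` with two more conclusions: `j₀` is surjective and the kernel of
`Γ(Z') → Γ(T₀)` has square zero. -/
theorem exists_firstOrderNbhd_sq {T₀ P : Scheme.{u}} (s : T₀ ⟶ P) [IsImmersion s] [IsAffine T₀] :
    ∃ (Z' : Scheme.{u}) (h' : Z' ⟶ P) (j₀ : T₀ ⟶ Z'), IsAffine Z' ∧ Mono h' ∧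
      IsClosedImmersion j₀ ∧ j₀ ≫ h' = s ∧
      (∀ (S₀ S : Scheme.{u}) (t : S₀ ⟶ S), MoreMor.IsFirstOrderThickening t →
        ∀ (a₁ : S₀ ⟶ T₀) (β : S ⟶ P), t ≫ β = a₁ ≫ s → ∃ α : S ⟶ Z', α ≫ h' = β) ∧
      Function.Surjective j₀ ∧
      ∀ x y : Γ(Z', ⊤), j₀.appTop x = 0 → j₀.appTop y = 0 → x * y = 0 := by
  set W := s.coborderRange with hW
  set s' := s.liftCoborder with hs'
  have hs'ι : s' ≫ W.ι = s := s.liftCoborder_ι
  set 𝓘 : (W : Scheme.{u}).IdealSheafData := s'.ker with h𝓘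
  have hle : 𝓘 ^ 2 ≤ 𝓘 := by
    intro U
    rw [Scheme.IdealSheafData.ideal_pow]
    exact Ideal.pow_le_self two_ne_zero
  have hker : ((𝓘 ^ 2).subschemeι).ker ≤ s'.ker := by
    rw [Scheme.IdealSheafData.ker_subschemeι]
    exact hle
  set j₀ := IsClosedImmersion.lift (𝓘 ^ 2).subschemeι s' hker with hj₀
  have hj₀fac : j₀ ≫ (𝓘 ^ 2).subschemeι = s' := IsClosedImmersion.lift_fac _ _ _
  haveI : IsClosedImmersion (j₀ ≫ (𝓘 ^ 2).subschemeι) := by rw [hj₀fac]; infer_instance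
  haveI hj₀cl : IsClosedImmersion j₀ := IsClosedImmersion.of_comp j₀ (𝓘 ^ 2).subschemeι
  have hj₀surj : Function.Surjective j₀ := by
    intro z
    have hz : (𝓘 ^ 2).subschemeι z ∈ Set.range s' := by
      have h1 : (𝓘 ^ 2).subschemeι z ∈ ((𝓘 ^ 2).support : Set (W : Scheme.{u})) := by
        rw [← Scheme.IdealSheafData.range_subschemeι]
        exact ⟨z, rfl⟩
      have h2 : ((𝓘 ^ 2).support : Set (W : Scheme.{u})) = (𝓘.support : Set (W : Scheme.{u})) := by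
        simp
      have h3 : (𝓘.support : Set (W : Scheme.{u})) = Set.range s' := by
        rw [Scheme.Hom.support_ker]
        exact s'.isClosedEmbedding.isClosed_range.closure_eq
      rw [h2] at h1
      rw [← h3]
      exact h1
    obtain ⟨y, hy⟩ := hz
    refine ⟨y, ?_⟩
    apply (𝓘 ^ 2).subschemeι.isEmbedding.injective
    rw [← hy, ← hj₀fac]
    rfl
  haveI : IsAffine (𝓘 ^ 2).subscheme := Groth.Agent.S0440.result j₀ hj₀surj
  have hk : (j₀ ≫ (𝓘 ^ 2).subschemeι).ker = 𝓘 := by rw [hj₀fac]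
  refine ⟨(𝓘 ^ 2).subscheme, (𝓘 ^ 2).subschemeι ≫ W.ι, j₀, inferInstance, inferInstance, hj₀cl,
    ?_, ?_, hj₀surj, fun x y hx hy => mul_eq_zero_of_subscheme_sq 𝓘 j₀ hk x y hx hy⟩
  · rw [← Category.assoc, hj₀fac, hs'ι]
  · intro S₀ S t ht a₁ β hβ
    obtain ⟨⟨htc, hts⟩, htk⟩ := ht
    have hrange : Set.range β ⊆ Set.range W.ι := by
      rintro _ ⟨x, rfl⟩
      obtain ⟨y, rfl⟩ := hts.surj x
      have h1 : β (t y) = (t ≫ β) y := rfl
      rw [h1, hβ, ← hs'ι]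
      exact ⟨s' (a₁ y), rfl⟩
    have hβW : IsOpenImmersion.lift W.ι β hrange ≫ W.ι = β := IsOpenImmersion.lift_fac _ _ _
    set βW := IsOpenImmersion.lift W.ι β hrange with hβW_def
    have w : (a₁ ≫ s'.toImage) ≫ 𝓘.subschemeι = t ≫ βW := by
      rw [← cancel_mono W.ι, Category.assoc, Category.assoc, Category.assoc, hβW, hβ]
      have : s'.toImage ≫ 𝓘.subschemeι = s' := s'.toImage_imageι
      rw [reassoc_of% this, hs'ι]
    obtain ⟨α, hα, -⟩ := Groth.Agent.S1434.result 𝓘 t ⟨⟨htc, hts⟩, htk⟩ (a₁ ≫ s'.toImage) βW w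
    exact ⟨α, by rw [← Category.assoc, hα, hβW]⟩

end Groth.Agent.R2.H74.FSm
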