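import Mathlib
import Groth.Prelude.Def_MoreMor
import Groth.Agent.R2.H74FSmRing
import Groth.Agent.R2.H74FSmScheme
import Groth.Agent.R2.H74FSmNbhd2

/-!
# Group actions on the first order neighbourhood of a graph and averaging of lifts (helper74)

* `exists_invariant_lift`: ring level: if a finite group `G` whose order is invertible in `A` acts
  on `(B, J)` then an `A`-algebra lift `B → A` can be averaged to a `G`-invariant lift.
* `exists_nbhdData_sq`: the first order neighbourhood of a graph, with `J² = 0`.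
* `NbhdData.exists_point_of_lift`, `NbhdData.lift_of_point`: lifts `Spec A ⟶ X` ↔ points of `Z'`.
* `NbhdData.exists_act`: an endomorphism of `X` over `Y` fixing `a` acts on `Γ(Z')`.
-/

set_option autoImplicit false
set_option linter.style.haveILetI false
universe u v
open CategoryTheory AlgebraicGeometry Limits
open Groth.Agent.Helper18UT (toAff toAff_injective toAff_surjective toAff_comp map_toAff
  isFirstOrderThickening_SpecMap)

namespace Groth.Agent.R2.H74.FSm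

section ring
variable {A B : Type u} [CommRing A] [CommRing B] [Algebra A B] {I : Ideal A} {J : Ideal B}

/-- **Averaging lifts.** -/
theorem exists_invariant_lift (hS : Setup I J) {G : Type v} [Group G] [Fintype G]
    (θ : G → (B →ₐ[A] B)) (hθJ : ∀ g, ∀ b ∈ J, θ g b ∈ J)
    (hcomp : ∀ g h, (θ g).comp (θ h) = θ (h * g))
    (u : A) (hu : u * (Fintype.card G : A) = 1)
    {ψ₀ : B →ₐ[A] A} (h₀ : IsLift I J ψ₀) :
    ∃ ψ : B →ₐ[A] A, IsLift I J ψ ∧ ∀ h, ψ.comp (θ h) = ψ := by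
  classical
  have hψg : ∀ g, IsLift I J (ψ₀.comp (θ g)) := fun g b hb => h₀ _ (hθJ g b hb)
  set δ : B →ₗ[A] A := u • ∑ g : G, (ψ₀.toLinearMap - (ψ₀.comp (θ g)).toLinearMap) with hδ
  have hδK : ∀ x, δ x ∈ I.map (algebraMap A A) := by
    intro x
    rw [hδ, LinearMap.smul_apply, LinearMap.sum_apply, smul_eq_mul]
    refine Ideal.mul_mem_left _ _ (Ideal.sum_mem _ fun g _ => ?_)
    exact (IsLift.sub hS h₀ (hψg g)).1 x
  have hδQ : Q A J ≤ LinearMap.ker δ := by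
    intro x hx
    rw [LinearMap.mem_ker, hδ, LinearMap.smul_apply, LinearMap.sum_apply]
    rw [Finset.sum_eq_zero, smul_zero]
    intro g _
    exact LinearMap.mem_ker.mp ((IsLift.sub hS h₀ (hψg g)).2 hx)
  obtain ⟨ψ, hψ, hψe⟩ := h₀.modify hS δ hδK hδQ
  have hform : ∀ x, ψ x = u * ∑ g : G, ψ₀ (θ g x) := by
    intro x
    rw [hψe, hδ, LinearMap.smul_apply, LinearMap.sum_apply, smul_eq_mul]
    simp only [LinearMap.sub_apply, AlgHom.toLinearMap_apply, AlgHom.comp_apply]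
    rw [Finset.sum_sub_distrib, Finset.sum_const, Finset.card_univ, nsmul_eq_mul, mul_sub,
      ← mul_assoc, hu, one_mul]
    ring
  refine ⟨ψ, hψ, fun h => ?_⟩
  ext x
  rw [AlgHom.comp_apply, hform, hform]
  congr 1
  have : ∀ g, ψ₀ (θ g (θ h x)) = ψ₀ (θ (h * g) x) := by
    intro g
    have := congr($(hcomp g h) x)
    rw [AlgHom.comp_apply] at this
    rw [this]
  simp only [this]
  exact Fintype.sum_equiv (Equiv.mulLeft h) _ _ (fun g => rfl)

end ring

section scheme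
variable {X Y : Scheme.{u}} {f : X ⟶ Y} {A : Type u} [CommRing A] {I : Ideal A}
  {a : Spec (CommRingCat.of (A ⧸ I)) ⟶ X} {b : Spec (CommRingCat.of A) ⟶ Y}

/-- the first order neighbourhood of the graph, together with `J² = 0`. -/
theorem exists_nbhdData_sq
    (hab : Spec.map (CommRingCat.ofHom (Ideal.Quotient.mk I)) ≫ b = a ≫ f) :
    ∃ N : NbhdData f A I a b, ∀ x ∈ N.J, ∀ y ∈ N.J, x * y = 0 := by
  set i₀ := Spec.map (CommRingCat.ofHom (Ideal.Quotient.mk I)) with hi₀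
  let s₀ : Spec (CommRingCat.of (A ⧸ I)) ⟶ pullback f b := pullback.lift a i₀ hab.symm
  have hs₀1 : s₀ ≫ pullback.fst f b = a := pullback.lift_fst _ _ _
  have hs₀2 : s₀ ≫ pullback.snd f b = i₀ := pullback.lift_snd _ _ _
  haveI : IsClosedImmersion i₀ :=
    IsClosedImmersion.spec_of_surjective _ Ideal.Quotient.mk_surjective
  haveI : IsImmersion (s₀ ≫ pullback.snd f b) := by rw [hs₀2]; infer_instance
  haveI : IsImmersion s₀ := IsImmersion.of_comp s₀ (pullback.snd f b)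
  obtain ⟨Z', h', j₀, hZ', hmono, -, hj₀, hUP, -, hsq⟩ := exists_firstOrderNbhd_sq s₀
  refine ⟨⟨Z', hZ', h', hmono, j₀, ?_, ?_, ?_⟩, ?_⟩
  · rw [← Category.assoc, hj₀, hs₀1]
  · rw [← Category.assoc, hj₀, hs₀2]
  · intro S₀ S t ht a₁ β h1 h2
    refine hUP S₀ S t ht a₁ β ?_
    apply pullback.hom_ext
    · rw [Category.assoc, Category.assoc, h1, hs₀1]
    · rw [Category.assoc, Category.assoc, h2, hs₀2]
  · intro x hx y hy
    exact hsq x y hx hy

variable (N : NbhdData f A I a b)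

/-- a point of `Z'` over `Spec A` (a retraction of `A → Γ(Z')` mapping `J` into `I`) gives a lift. -/
lemma NbhdData.lift_of_point (χ : Γ(N.Z', ⊤) ⟶ CommRingCat.of A)
    (hφ : N.φ ≫ χ = 𝟙 _) (hJ : ∀ x ∈ N.J, χ.hom x ∈ I) :
    Spec.map (CommRingCat.ofHom (Ideal.Quotient.mk I)) ≫
        (toAff N.Z' χ ≫ N.h' ≫ pullback.fst f b) = a ∧
      (toAff N.Z' χ ≫ N.h' ≫ pullback.fst f b) ≫ f = b := by
  have hχφ : ∀ y : A, χ.hom (N.φ.hom y) = y := fun y => congr($(hφ).hom y)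
  set β := toAff N.Z' χ with hβ
  have hβsnd : β ≫ N.h' ≫ pullback.snd f b = 𝟙 _ := by
    rw [hβ, N.toAff_snd, hφ, Spec.map_id]
  have hres : Spec.map (CommRingCat.ofHom (Ideal.Quotient.mk I)) ≫ β = N.j₀ := by
    have := N.restrict_eq χ (CommRingCat.ofHom (Ideal.Quotient.mk I)) (𝟙 _)
      (fun y => by
        show Ideal.Quotient.mk I y = Ideal.Quotient.mk I (χ.hom (N.φ.hom y))
        rw [hχφ])
      (fun x hx => Ideal.Quotient.eq_zero_iff_mem.mpr (hJ x hx))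
    rwa [Spec.map_id, Category.id_comp] at this
  constructor
  · rw [← Category.assoc, hres, N.fac₁]
  · rw [Category.assoc, Category.assoc, pullback.condition, ← Category.assoc N.h',
      ← Category.assoc β, hβsnd, Category.id_comp]

/-- a lift gives a point of `Z'` over `Spec A`. -/
lemma NbhdData.exists_point_of_lift (hI : I ^ 2 = ⊥) (l : Spec (CommRingCat.of A) ⟶ X)
    (h1 : Spec.map (CommRingCat.ofHom (Ideal.Quotient.mk I)) ≫ l = a) (h2 : l ≫ f = b) :
    ∃ χ : Γ(N.Z', ⊤) ⟶ CommRingCat.of A, N.φ ≫ χ = 𝟙 _ ∧ (∀ x ∈ N.J, χ.hom x ∈ I) ∧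
      toAff N.Z' χ ≫ N.h' ≫ pullback.fst f b = l := by
  set t := Spec.map (CommRingCat.ofHom (Ideal.Quotient.mk I)) with ht
  have htt : MoreMor.IsFirstOrderThickening t :=
    isFirstOrderThickening_SpecMap _ Ideal.Quotient.mk_surjective
      (by rw [CommRingCat.hom_ofHom, Ideal.mk_ker]; exact hI)
  let β : Spec (CommRingCat.of A) ⟶ pullback f b := pullback.lift l (𝟙 _) (by rw [h2]; simp)
  have hβ1 : β ≫ pullback.fst f b = l := pullback.lift_fst _ _ _
  have hβ2 : β ≫ pullback.snd f b = 𝟙 _ := pullback.lift_snd _ _ _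
  obtain ⟨α, hα⟩ := N.up _ _ t htt (𝟙 _) β (by rw [hβ1, h1, Category.id_comp])
    (by rw [hβ2, Category.comp_id, Category.id_comp])
  obtain ⟨χ, hχ⟩ := toAff_surjective N.Z' α
  have hφ : N.φ ≫ χ = 𝟙 _ := by
    apply Spec.map_injective
    rw [← N.toAff_snd, hχ, ← Category.assoc, hα, hβ2, Spec.map_id]
  refine ⟨χ, hφ, ?_, ?_⟩
  · -- `t ≫ α = j₀`
    have htα : t ≫ α = N.j₀ := by
      rw [← cancel_mono N.h', Category.assoc, hα]
      apply pullback.hom_ext
      · rw [Category.assoc, hβ1, h1, Category.assoc, N.fac₁]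
      · rw [Category.assoc, hβ2, Category.comp_id, Category.assoc, N.fac₂]
    rw [← hχ, map_toAff, eq_toAff N.j₀] at htα
    have hrel := toAff_injective N.Z' htα
    intro x hx
    have := congr($(hrel).hom x)
    simp only [CommRingCat.hom_comp, RingHom.comp_apply, CommRingCat.hom_ofHom] at this
    have hx0 : N.j₀.appTop.hom x = 0 := hx
    rw [hx0, map_zero] at this
    exact Ideal.Quotient.eq_zero_iff_mem.mp this
  · rw [hχ, ← Category.assoc, hα, hβ1]

/-- the endomorphism of `X ×_Y Spec A` induced by an endomorphism of `X` over `Y`. -/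
noncomputable def actP (b : Spec (CommRingCat.of A) ⟶ Y) (r : X ⟶ X) (hr : r ≫ f = f) :
    pullback f b ⟶ pullback f b :=
  pullback.lift (pullback.fst f b ≫ r) (pullback.snd f b)
    (by rw [Category.assoc, hr, pullback.condition])

@[reassoc (attr := simp)]
lemma actP_fst (r : X ⟶ X) (hr : r ≫ f = f) :
    actP b r hr ≫ pullback.fst f b = pullback.fst f b ≫ r := pullback.lift_fst _ _ _

@[reassoc (attr := simp)]
lemma actP_snd (r : X ⟶ X) (hr : r ≫ f = f) :
    actP b r hr ≫ pullback.snd f b = pullback.snd f b := pullback.lift_snd _ _ _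

lemma actP_comp (r₁ r₂ : X ⟶ X) (hr₁ : r₁ ≫ f = f) (hr₂ : r₂ ≫ f = f) :
    actP b r₁ hr₁ ≫ actP b r₂ hr₂ = actP b (r₁ ≫ r₂) (by rw [Category.assoc, hr₂, hr₁]) := by
  apply pullback.hom_ext
  · simp
  · simp

/-- `θ` is the action of `r` on `Γ(Z')`. -/
def NbhdData.IsActOf (θ : Γ(N.Z', ⊤) ⟶ Γ(N.Z', ⊤)) (r : X ⟶ X) (hr : r ≫ f = f) : Prop :=
  ∀ (R : CommRingCat.{u}) (χ : Γ(N.Z', ⊤) ⟶ R),
    toAff N.Z' (θ ≫ χ) ≫ N.h' = toAff N.Z' χ ≫ N.h' ≫ actP b r hr

lemma NbhdData.IsActOf.unique {θ θ' : Γ(N.Z', ⊤) ⟶ Γ(N.Z', ⊤)} {r : X ⟶ X} {hr : r ≫ f = f}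
    (h : N.IsActOf θ r hr) (h' : N.IsActOf θ' r hr) : θ = θ' := by
  have h1 := h _ (𝟙 _)
  have h2 := h' _ (𝟙 _)
  rw [← h2, cancel_mono] at h1
  have := toAff_injective N.Z' h1
  simpa using this

lemma NbhdData.IsActOf.comp {θ₁ θ₂ : Γ(N.Z', ⊤) ⟶ Γ(N.Z', ⊤)} {r₁ r₂ : X ⟶ X}
    {hr₁ : r₁ ≫ f = f} {hr₂ : r₂ ≫ f = f}
    (h₁ : N.IsActOf θ₁ r₁ hr₁) (h₂ : N.IsActOf θ₂ r₂ hr₂) :
    N.IsActOf (θ₁ ≫ θ₂) (r₂ ≫ r₁) (by rw [Category.assoc, hr₁, hr₂]) := by
  intro R χ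
  rw [Category.assoc, h₁ R (θ₂ ≫ χ), ← Category.assoc, h₂ R χ, Category.assoc, Category.assoc,
    actP_comp]

set_option maxHeartbeats 800000 in
/-- an endomorphism of `X` over `Y` which fixes `a` acts on `Γ(Z')`. -/
theorem NbhdData.exists_act (hJsq : ∀ x ∈ N.J, ∀ y ∈ N.J, x * y = 0) (r : X ⟶ X)
    (hr : r ≫ f = f) (hra : a ≫ r = a) :
    ∃ θ : Γ(N.Z', ⊤) ⟶ Γ(N.Z', ⊤), N.φ ≫ θ = N.φ ∧ (∀ x ∈ N.J, θ.hom x ∈ N.J) ∧
      N.IsActOf θ r hr := by
  set B' : CommRingCat.{u} := Γ(N.Z', ⊤) with hB'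
  set q : B' ⟶ CommRingCat.of (B' ⧸ N.J) := CommRingCat.ofHom (Ideal.Quotient.mk N.J) with hq
  have hqsurj : Function.Surjective q.hom := by
    rw [hq, CommRingCat.hom_ofHom]; exact Ideal.Quotient.mk_surjective
  have hqker : RingHom.ker q.hom ^ 2 = ⊥ := by
    rw [hq, CommRingCat.hom_ofHom, Ideal.mk_ker, pow_two, eq_bot_iff, Ideal.mul_le]
    intro x hx y hy
    rw [Ideal.mem_bot]
    exact hJsq x hx y hy
  have ht : MoreMor.IsFirstOrderThickening (Spec.map q) :=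
    isFirstOrderThickening_SpecMap q hqsurj hqker
  let θ₀ : A ⧸ I →+* B' ⧸ N.J := Ideal.Quotient.lift I ((Ideal.Quotient.mk N.J).comp N.φ.hom)
    (fun y hy => Ideal.Quotient.eq_zero_iff_mem.mpr (N.φ_mem_J hy))
  have hθ₀ : ∀ y : A, θ₀ (Ideal.Quotient.mk I y) = Ideal.Quotient.mk N.J (N.φ.hom y) :=
    fun y => Ideal.Quotient.lift_mk I _ _
  set a₁ : Spec (CommRingCat.of (B' ⧸ N.J)) ⟶ Spec (CommRingCat.of (A ⧸ I)) :=
    Spec.map (CommRingCat.ofHom θ₀) with ha₁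
  have hres : Spec.map q ≫ toAff N.Z' (𝟙 B') = a₁ ≫ N.j₀ :=
    N.restrict_eq (𝟙 B') q (CommRingCat.ofHom θ₀) (fun y => hθ₀ y)
      (fun x hx => Ideal.Quotient.eq_zero_iff_mem.mpr hx)
  set β : Spec B' ⟶ pullback f b := toAff N.Z' (𝟙 B') ≫ N.h' ≫ actP b r hr with hβ
  have hj₀act : N.j₀ ≫ N.h' ≫ actP b r hr = N.j₀ ≫ N.h' := by
    apply pullback.hom_ext
    · calc (N.j₀ ≫ N.h' ≫ actP b r hr) ≫ pullback.fst f b
          = (N.j₀ ≫ N.h' ≫ pullback.fst f b) ≫ r := by simp only [Category.assoc, actP_fst]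
        _ = (N.j₀ ≫ N.h') ≫ pullback.fst f b := by rw [N.fac₁, hra, Category.assoc, N.fac₁]
    · simp only [Category.assoc, actP_snd]
  have htβ : Spec.map q ≫ β = a₁ ≫ N.j₀ ≫ N.h' := by
    rw [hβ, ← Category.assoc, hres, Category.assoc, hj₀act]
  obtain ⟨α, hα⟩ := N.up _ _ (Spec.map q) ht a₁ β
    (by rw [← Category.assoc, htβ, Category.assoc, Category.assoc, N.fac₁])
    (by rw [← Category.assoc, htβ, Category.assoc, Category.assoc, N.fac₂])
  obtain ⟨θ, hθ⟩ := toAff_surjective N.Z' α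
  refine ⟨θ, ?_, ?_, ?_⟩
  · apply Spec.map_injective
    rw [← N.toAff_snd, hθ, ← Category.assoc, hα, hβ]
    simp only [Category.assoc, actP_snd]
    rw [N.toAff_snd, Category.comp_id]
  · have htα : Spec.map q ≫ α = a₁ ≫ N.j₀ := by
      rw [← cancel_mono N.h', Category.assoc, hα, htβ, Category.assoc]
    rw [← hθ, map_toAff, eq_toAff (a₁ ≫ N.j₀)] at htα
    have hrel := toAff_injective N.Z' htα
    intro x hx
    have := congr($(hrel).hom x)
    simp only [CommRingCat.hom_comp, RingHom.comp_apply, Scheme.Hom.comp_appTop] at this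
    have hx0 : N.j₀.appTop.hom x = 0 := hx
    rw [hx0, map_zero, map_zero] at this
    exact Ideal.Quotient.eq_zero_iff_mem.mp this
  · intro R χ
    rw [← map_toAff, hθ, Category.assoc, hα, hβ, ← Category.assoc, map_toAff, Category.id_comp]

end scheme

end Groth.Agent.R2.H74.FSm
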