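import Mathlib
import Groth.Prelude.Def_MoreMor
import Groth.Agent.R2.H74FSmScheme

/-!
# Infinitesimal lifting against arbitrary first order thickenings of affine schemes (helper74)

`MoreMor.IsFormallySmoothHom f` is stated with the test thickenings `Spec (A ⧸ I) → Spec A`; here we
deduce lifting against any closed immersion `t : T₀ ⟶ T` into an affine scheme whose kernel on
global sections has square zero.
-/

set_option autoImplicit false
set_option linter.style.haveILetI false
universe u
open CategoryTheory AlgebraicGeometry Limits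

namespace Groth.Agent.R2.H74.FSm

/-- lifting against a closed immersion into an affine scheme with square zero kernel on global
sections. -/
theorem lift_of_affine_thickening {X Y : Scheme.{u}} {f : X ⟶ Y}
    (hf : MoreMor.IsFormallySmoothHom f) {T₀ T : Scheme.{u}} [IsAffine T] (t : T₀ ⟶ T)
    [IsClosedImmersion t]
    (hsq : ∀ x y : Γ(T, ⊤), t.appTop x = 0 → t.appTop y = 0 → x * y = 0)
    (a : T₀ ⟶ X) (b : T ⟶ Y) (hab : t ≫ b = a ≫ f) :
    ∃ l : T ⟶ X, t ≫ l = a ∧ l ≫ f = b := by
  obtain ⟨hT₀, hsurj⟩ := IsClosedImmersion.isAffine_surjective_of_isAffine t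
  haveI := hT₀
  have hk : RingHom.ker t.appTop.hom ^ 2 = ⊥ := by
    rw [pow_two, eq_bot_iff, Ideal.mul_le]
    intro x hx y hy
    rw [Ideal.mem_bot]
    exact hsq x y hx hy
  have hnat : T₀.isoSpec.hom ≫ Spec.map t.appTop = t ≫ T.isoSpec.hom :=
    Scheme.isoSpec_hom_naturality t
  obtain ⟨l, hl1, hl2⟩ := lift_of_surj hf t.appTop.hom hsurj hk (T₀.isoSpec.inv ≫ a)
    (T.isoSpec.inv ≫ b) (by
      have h1 : Spec.map (CommRingCat.ofHom t.appTop.hom) = T₀.isoSpec.inv ≫ t ≫ T.isoSpec.hom := by
        rw [← hnat, Iso.inv_hom_id_assoc]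
        rfl
      rw [h1]
      simp only [Category.assoc, Iso.hom_inv_id_assoc]
      rw [hab])
  refine ⟨T.isoSpec.hom ≫ l, ?_, ?_⟩
  · have h1 : t ≫ T.isoSpec.hom = T₀.isoSpec.hom ≫ Spec.map (CommRingCat.ofHom t.appTop.hom) :=
      hnat.symm
    rw [← Category.assoc, h1, Category.assoc, hl1, Iso.hom_inv_id_assoc]
  · rw [Category.assoc, hl2, Iso.hom_inv_id_assoc]

/-- the closed subscheme of a square zero ideal sheaf has the same points. -/
lemma subschemeι_surjective_of_sq_eq_bot {C : Scheme.{u}} (I : C.IdealSheafData) (hI : I ^ 2 = ⊥) :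
    Function.Surjective I.subschemeι := by
  intro x
  have h1 : (I.support : Set C) = ((I ^ 2).support : Set C) := by simp
  have h2 : x ∈ (I.support : Set C) := by
    rw [h1, hI]
    simp
  rw [← Scheme.IdealSheafData.range_subschemeι] at h2
  exact h2

/-- sections vanishing on the closed subscheme of a square zero ideal sheaf multiply to zero. -/
lemma mul_eq_zero_of_sq_eq_bot {C : Scheme.{u}} [IsAffine C] (I : C.IdealSheafData)
    (hI : I ^ 2 = ⊥) (x y : Γ(C, ⊤)) (hx : I.subschemeι.appTop x = 0)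
    (hy : I.subschemeι.appTop y = 0) : x * y = 0 := by
  have hx' : x ∈ I.ideal ⟨⊤, isAffineOpen_top C⟩ := by
    rw [← I.ker_subschemeι_app ⟨⊤, isAffineOpen_top C⟩, RingHom.mem_ker]
    exact hx
  have hy' : y ∈ I.ideal ⟨⊤, isAffineOpen_top C⟩ := by
    rw [← I.ker_subschemeι_app ⟨⊤, isAffineOpen_top C⟩, RingHom.mem_ker]
    exact hy
  have h : x * y ∈ (I ^ 2).ideal ⟨⊤, isAffineOpen_top C⟩ := by
    rw [Scheme.IdealSheafData.ideal_pow, Pi.pow_apply, pow_two]
    exact Ideal.mul_mem_mul hx' hy'
  rw [hI] at h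
  simpa using h

end Groth.Agent.R2.H74.FSm
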