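import Mathlib
import Groth.Prelude.Def_MoreMor
import Groth.Agent.R2.H74FSmAct
import Groth.Agent.R2.H63Stab

/-!
# Fixed points of a finite group of invertible order acting on a scheme (helper74)

* `exists_fixed_locus`: the common fixed locus of finitely many endomorphisms of a separated
  `S`-scheme locally of finite type is a closed subscheme of finite presentation.
* `isFormallySmoothHom_fixed`: if `X → S` has the infinitesimal lifting property and the order of
  `G` is invertible on `S` then so does the fixed point scheme `X^G → S` (averaging of lifts).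
-/

set_option autoImplicit false
set_option linter.style.haveILetI false
universe u v
open CategoryTheory AlgebraicGeometry Limits
open Groth.Agent.Helper18UT (toAff toAff_injective toAff_surjective toAff_comp map_toAff)

namespace Groth.Agent.R2.H74.FixedPts

open Groth.Agent.R2.H74.FSm

/-- the common fixed locus of finitely many `S`-endomorphisms. -/
theorem exists_fixed_locus {S X : Scheme.{u}} (p : X ⟶ S) [IsSeparated p] [LocallyOfFiniteType p]
    {G : Type v} (r : G → (X ⟶ X)) (hr : ∀ g, r g ≫ p = p) (s : Finset G) :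
    ∃ (E : Scheme.{u}) (e₀ : E ⟶ X), IsClosedImmersion e₀ ∧ LocallyOfFinitePresentation e₀ ∧
      (∀ g ∈ s, e₀ ≫ r g = e₀) ∧
      ∀ {M : Scheme.{u}} (m : M ⟶ X), (∀ g ∈ s, m ≫ r g = m) → ∃ l : M ⟶ E, l ≫ e₀ = m := by
  classical
  induction s using Finset.induction_on with
  | empty =>
    exact ⟨X, 𝟙 X, inferInstance, inferInstance, fun g hg => absurd hg (Finset.notMem_empty g),
      fun m _ => ⟨m, Category.comp_id m⟩⟩
  | insert g s hgs ih =>
    obtain ⟨E, e₀, hcl, hfp, hfix, huniv⟩ := ih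
    obtain ⟨E', e₁, hcl', hfp', heq, huniv'⟩ :=
      Groth.Agent.R2.H63.Stab.exists_equalizer_closedImmersion_lfp p e₀ (e₀ ≫ r g)
        (by rw [Category.assoc, hr])
    refine ⟨E', e₁ ≫ e₀, inferInstance, inferInstance, ?_, ?_⟩
    · intro g' hg'
      rcases Finset.mem_insert.mp hg' with rfl | hg'
      · rw [Category.assoc, ← heq]
      · rw [Category.assoc, hfix g' hg']
    · intro M m hm
      obtain ⟨l, hl⟩ := huniv m (fun g' hg' => hm g' (Finset.mem_insert_of_mem hg'))
      obtain ⟨l', hl'⟩ := huniv' l (by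
        rw [← Category.assoc, hl, hm g (Finset.mem_insert_self g s)])
      exact ⟨l', by rw [← Category.assoc, hl', hl]⟩

section smooth
variable {S : Scheme.{u}} (X : Over S) {G : Type v} [Group G] (ρ : G →* Aut X)

lemma left_comp (g h : G) : (ρ g).hom.left ≫ (ρ h).hom.left = (ρ (h * g)).hom.left := by
  rw [map_mul, ← Over.comp_left]
  rfl

set_option maxHeartbeats 800000 in
/-- formal smoothness of the fixed point scheme. -/
theorem isFormallySmoothHom_fixed [Finite G] (hX : MoreMor.IsFormallySmoothHom X.hom)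
    (hG : IsUnit (Nat.card G : Γ(S, ⊤))) (Z : Over S) (ι : Z ⟶ X) [Mono ι.left]
    (hι : ∀ g : G, ι ≫ (ρ g).hom = ι)
    (hZ : ∀ (T : Over S) (t : T ⟶ X), (∀ g : G, t ≫ (ρ g).hom = t) → ∃ t' : T ⟶ Z, t' ≫ ι = t) :
    MoreMor.IsFormallySmoothHom Z.hom := by
  intro A _ I hI a b hab
  haveI : Fintype G := Fintype.ofFinite G
  have hw : ι.left ≫ X.hom = Z.hom := Over.w ι
  set a' := a ≫ ι.left with ha'
  have hab' : Spec.map (CommRingCat.ofHom (Ideal.Quotient.mk I)) ≫ b = a' ≫ X.hom := by
    rw [hab, ha', Category.assoc, hw]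
  obtain ⟨l₀, hl₀1, hl₀2⟩ := hX A I hI a' b hab'
  obtain ⟨N, hJsq⟩ := exists_nbhdData_sq hab'
  letI := N.algebra
  have hS := N.setup hI
  obtain ⟨χ₀, hχ₀φ, hχ₀J, -⟩ := N.exists_point_of_lift hI l₀ hl₀1 hl₀2
  let r : G → (X.left ⟶ X.left) := fun g => (ρ g).hom.left
  have hr : ∀ g, r g ≫ X.hom = X.hom := fun g => Over.w (ρ g).hom
  have hra : ∀ g, a' ≫ r g = a' := fun g => by
    rw [ha', Category.assoc]
    show a ≫ ι.left ≫ (ρ g).hom.left = _
    rw [← Over.comp_left, hι g]
  choose θ hθφ hθJ hθact using fun g => N.exists_act hJsq (r g) (hr g) (hra g)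
  let θA : G → (Γ(N.Z', ⊤) →ₐ[A] Γ(N.Z', ⊤)) := fun g =>
    { toRingHom := (θ g).hom, commutes' := fun y => congr($(hθφ g).hom y) }
  have hcomp : ∀ g h, (θA g).comp (θA h) = θA (h * g) := by
    intro g h
    have h1 := (hθact h).comp N (hθact g)
    have h2 : r g ≫ r h = r (h * g) := left_comp X ρ g h
    have h3 : θ h ≫ θ g = θ (h * g) := by
      have h1' : N.IsActOf (θ h ≫ θ g) (r (h * g)) (hr (h * g)) := by
        intro R χ
        have := h1 R χ
        simp only [h2] at this
        exact this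
      exact h1'.unique N (hθact (h * g))
    ext x
    exact congr($(h3).hom x)
  have hu : IsUnit ((Fintype.card G : ℕ) : A) := by
    let ρb : Γ(S, ⊤) →+* A := (b.appTop ≫ (Scheme.ΓSpecIso (CommRingCat.of A)).hom).hom
    have := hG.map ρb
    rwa [map_natCast, Nat.card_eq_fintype_card] at this
  obtain ⟨u, hu'⟩ := hu.exists_left_inv
  let ψ₀ : Γ(N.Z', ⊤) →ₐ[A] A :=
    { toRingHom := χ₀.hom, commutes' := fun y => congr($(hχ₀φ).hom y) }
  have hψ₀ : IsLift I N.J ψ₀ := fun x hx => by
    rw [Algebra.algebraMap_self, Ideal.map_id]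
    exact hχ₀J x hx
  obtain ⟨ψ, hψ, hψinv⟩ := exists_invariant_lift hS θA (fun g => hθJ g) hcomp u hu' hψ₀
  set χ : Γ(N.Z', ⊤) ⟶ CommRingCat.of A := CommRingCat.ofHom (ψ : Γ(N.Z', ⊤) →+* A) with hχ
  have hχφ : N.φ ≫ χ = 𝟙 _ := by
    ext y
    exact ψ.commutes y
  have hχJ : ∀ x ∈ N.J, χ.hom x ∈ I := fun x hx => by
    have := hψ x hx
    rwa [Algebra.algebraMap_self, Ideal.map_id] at this
  obtain ⟨hl1, hl2⟩ := N.lift_of_point χ hχφ hχJ
  set lbar := toAff N.Z' χ ≫ N.h' ≫ pullback.fst X.hom b with hlbar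
  have hinv : ∀ g, lbar ≫ r g = lbar := by
    intro g
    have hθχ : θ g ≫ χ = χ := by
      ext x
      exact congr($(hψinv g) x)
    calc lbar ≫ r g = toAff N.Z' χ ≫ N.h' ≫ actP b (r g) (hr g) ≫ pullback.fst X.hom b := by
          rw [hlbar, actP_fst]; simp only [Category.assoc]
      _ = (toAff N.Z' (θ g ≫ χ) ≫ N.h') ≫ pullback.fst X.hom b := by
          rw [hθact g _ χ]; simp only [Category.assoc]
      _ = lbar := by rw [hθχ, hlbar, Category.assoc]
  let T : Over S := Over.mk b
  let t : T ⟶ X := Over.homMk lbar hl2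
  have ht : ∀ g, t ≫ (ρ g).hom = t := fun g => by
    ext
    exact hinv g
  obtain ⟨t', ht'⟩ := hZ T t ht
  refine ⟨t'.left, ?_, Over.w t'⟩
  rw [← cancel_mono ι.left, Category.assoc, ← Over.comp_left, ht']
  exact hl1

end smooth

end Groth.Agent.R2.H74.FixedPts
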