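import Groth.Agent.R2.H74FOThickBC
import Groth.Agent.R2.H57Thickening
import Groth.Agent.S10412

/-!
# First order infinitesimal neighbourhoods of closed subspaces are universal first order thickenings (helper74)
-/

set_option autoImplicit false
set_option linter.style.haveILetI false
universe u
open CategoryTheory CategoryTheory.Limits AlgebraicGeometry Opposite
open AlgSp

namespace Groth.Agent.R2.H74.InfNbhd

/-- two closed subschemes `W ⊆ W₁` of `V` with `I(W₁) = I(W)²`: the inclusion is a first order thickening. -/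
theorem thick_sqZero_of_ker_eq_sq {W W₁ V : Scheme.{u}} (a : W ⟶ V) (a₁ : W₁ ⟶ V) (m : W ⟶ W₁)
    [IsClosedImmersion a] [IsClosedImmersion a₁] (hm : m ≫ a₁ = a) (hker : a₁.ker = a.ker ^ 2) :
    AlgSp.thick m ∧ AlgSp.sqZero m := by
  subst hm
  have hmcl : IsClosedImmersion m := IsClosedImmersion.of_comp_isClosedImmersion m a₁
  refine ⟨⟨hmcl, ⟨fun w₁ => ?_⟩⟩, ?_⟩
  · have h1 : (a₁.ker.support : Set V) = Set.range a₁ := by
      rw [Scheme.Hom.support_ker]
      exact a₁.isClosedEmbedding.isClosed_range.closure_eq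
    have h2 : ((m ≫ a₁).ker.support : Set V) = Set.range (m ≫ a₁) := by
      rw [Scheme.Hom.support_ker]
      exact (m ≫ a₁).isClosedEmbedding.isClosed_range.closure_eq
    have h3 : a₁.ker.support = (m ≫ a₁).ker.support := by
      rw [hker, Scheme.IdealSheafData.support_pow _ 2 (by norm_num)]
    have h4 : a₁ w₁ ∈ Set.range (m ≫ a₁) := by
      rw [← h2, ← h3, h1]
      exact ⟨w₁, rfl⟩
    obtain ⟨w, hw⟩ := h4
    refine ⟨w, ?_⟩
    apply a₁.isClosedEmbedding.injective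
    rw [← hw]
    exact (Scheme.Hom.comp_apply _ _ _).symm
  · change m.ker * m.ker = ⊥
    refine le_antisymm ?_ bot_le
    refine Scheme.IdealSheafData.le_of_iSup_eq_top
      (fun V' : V.affineOpens => (⟨a₁ ⁻¹ᵁ V'.1, V'.2.preimage a₁⟩ : W₁.affineOpens)) ?_ ?_
    · change ⨆ V' : V.affineOpens, a₁ ⁻¹ᵁ V'.1 = ⊤
      rw [← Scheme.Hom.preimage_iSup, iSup_affineOpens_eq_top]
      rfl
    · intro V'
      rw [Scheme.IdealSheafData.ideal_mul, Pi.mul_apply, Scheme.Hom.ker_apply,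
        Scheme.IdealSheafData.ideal_bot, Pi.bot_apply, Ideal.mul_le]
      intro x hx y hy
      obtain ⟨x', rfl⟩ := a₁.app_surjective V'.1 V'.2 x
      obtain ⟨y', rfl⟩ := a₁.app_surjective V'.1 V'.2 y
      have key : ∀ z : Γ(V, V'.1), (a₁.app V'.1).hom z ∈ RingHom.ker (m.app (a₁ ⁻¹ᵁ V'.1)).hom →
          z ∈ (m ≫ a₁).ker.ideal V' := by
        intro z hz
        rw [Scheme.Hom.ker_apply, RingHom.mem_ker, Scheme.Hom.comp_app]
        exact hz
      have h5 := Ideal.mul_mem_mul (key x' hx) (key y' hy)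
      have h6 : (a₁.ker).ideal V' = (m ≫ a₁).ker.ideal V' * (m ≫ a₁).ker.ideal V' := by
        rw [hker, Scheme.IdealSheafData.ideal_pow, Pi.pow_apply, pow_two]
      rw [← h6, Scheme.Hom.ker_apply, RingHom.mem_ker] at h5
      rw [Ideal.mem_bot, ← map_mul, h5]

/-- surjectivity descends along a jointly surjective family of dominating squares. -/
lemma surjective_of_cover {W Z : Scheme.{u}} (k : W ⟶ Z)
    (h : ∀ z : Z, ∃ (O W' : Scheme.{u}) (e : O ⟶ Z) (k' : W' ⟶ O) (g : W' ⟶ W),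
      z ∈ Set.range e ∧ k' ≫ e = g ≫ k ∧ Surjective k') : Surjective k := by
  refine ⟨fun z => ?_⟩
  obtain ⟨O, W', e, k', g, ⟨z', rfl⟩, hcomm, hs⟩ := h z
  obtain ⟨w', rfl⟩ := hs.surj z'
  refine ⟨g w', ?_⟩
  have h1 : (g ≫ k) w' = (k' ≫ e) w' := by rw [hcomm]
  rw [Scheme.Hom.comp_apply, Scheme.Hom.comp_apply] at h1
  exact h1

/-- composing a pullback square with a monomorphism. -/
lemma isPullback_comp_mono {C : Type*} [Category C] {P A B X Y : C} {fst : P ⟶ A}
    {snd : P ⟶ B} {f : A ⟶ X} {g : B ⟶ X} (m : X ⟶ Y) [Mono m]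
    (sq : IsPullback fst snd f g) : IsPullback fst snd (f ≫ m) (g ≫ m) := by
  have hw : fst ≫ f ≫ m = snd ≫ g ≫ m := by
    rw [← Category.assoc, sq.w, Category.assoc]
  refine IsPullback.of_isLimit' ⟨hw⟩ (PullbackCone.IsLimit.mk _
    (fun s => sq.lift s.fst s.snd (by
      rw [← cancel_mono m, Category.assoc, Category.assoc]; exact s.condition))
    (fun s => sq.lift_fst _ _ _) (fun s => sq.lift_snd _ _ _)
    (fun s l h1 h2 => sq.hom_ext (by rw [h1, sq.lift_fst]) (by rw [h2, sq.lift_snd])))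

open Groth.Agent.R2.H47.SpColim Groth.Agent.R2.H47.SpThick Groth.Agent.R2.H47.ThickBC
  Groth.Agent.R2.H74.FOThickBC

variable {S : Scheme.{u}}

lemma mono_of_closed {A Y : AlgSp.Sp S} (k : A ⟶ Y)
    (hk : AlgSp.RepWith @IsClosedImmersion k) : Mono k :=
  Groth.Agent.S9928.mono_of_repWith @IsClosedImmersion
    (fun X Y g hg => by haveI : IsClosedImmersion g := hg; infer_instance) k hk

/-- the chart data of an infinitesimal neighbourhood: on an affine etale chart of `U` the closed subschemes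
`W ⊆ W₁` cut out by `Z ⊆ Z₁`, and the inclusion `W ⟶ W₁`, a first order thickening of schemes. -/
lemma exists_chart_data {Z Z₁ U : AlgSp.Sp S} {c : Z ⟶ U} {j : Z ⟶ Z₁} {k : Z₁ ⟶ U}
    (hN : AlgSp.IsInfNbhd 1 c j k) {V₀ : Over S} (c₀ : (AlgSp.yon S).obj V₀ ⟶ U)
    (hV₀ : IsAffine V₀.left) (hc₀ : AlgSp.RepWith @Etale c₀) :
    ∃ (W W₁ : Over S) (a : W ⟶ V₀) (a₁ : W₁ ⟶ V₀) (m : W ⟶ W₁)
      (fa : (AlgSp.yon S).obj W ⟶ Z) (fa₁ : (AlgSp.yon S).obj W₁ ⟶ Z₁),
      IsPullback fa ((AlgSp.yon S).map a) c c₀ ∧ IsPullback fa₁ ((AlgSp.yon S).map a₁) k c₀ ∧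
      m ≫ a₁ = a ∧ (AlgSp.yon S).map m ≫ fa₁ = fa ≫ j ∧
      IsClosedImmersion a.left ∧ IsClosedImmersion a₁.left ∧ a₁.left.ker = a.left.ker ^ 2 ∧
      AlgSp.thick m.left ∧ AlgSp.sqZero m.left := by
  obtain ⟨hjk, hc, hk, hker⟩ := hN
  obtain ⟨W, a, fa, hpa⟩ := hc.1 c₀
  obtain ⟨W₁, a₁, fa₁, hpa₁⟩ := hk.1 c₀
  have hacl : IsClosedImmersion a.left := hc.2 _ _ a hpa
  have ha₁cl : IsClosedImmersion a₁.left := hk.2 _ _ a₁ hpa₁
  have hk2 : a₁.left.ker = a.left.ker ^ 2 := hker c₀ fa a fa₁ a₁ hV₀ hc₀ hpa hpa₁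
  have hw : (fa ≫ j) ≫ k = (AlgSp.yon S).map a ≫ c₀ := by
    rw [Category.assoc, hjk, hpa.w]
  obtain ⟨m, hm⟩ := (AlgSp.yon S).map_surjective (hpa₁.lift _ _ hw)
  have hm1 : (AlgSp.yon S).map m ≫ fa₁ = fa ≫ j := by rw [hm, hpa₁.lift_fst]
  have hm2 : m ≫ a₁ = a := by
    apply (AlgSp.yon S).map_injective
    rw [Functor.map_comp, hm, hpa₁.lift_snd]
  have hm3 : m.left ≫ a₁.left = a.left := by rw [← Over.comp_left, hm2]
  obtain ⟨h1, h2⟩ := thick_sqZero_of_ker_eq_sq a.left a₁.left m.left hm3 hk2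
  exact ⟨W, W₁, a, a₁, m, fa, fa₁, hpa, hpa₁, hm2, hm1, hacl, ha₁cl, hk2, h1, h2⟩

/-- every represented pullback of `j : Z ⟶ Z₁` (the inclusion into the first order infinitesimal neighbourhood) is a
first order thickening of schemes. -/
theorem thick_sqZero_of_isInfNbhd {Z Z₁ U : AlgSp.Sp S} (hU : AlgSp.IsAlgSpace U) {c : Z ⟶ U}
    {j : Z ⟶ Z₁} {k : Z₁ ⟶ U} (hN : AlgSp.IsInfNbhd 1 c j k) {V W : Over S}
    (b : (AlgSp.yon S).obj V ⟶ Z₁) (fst : (AlgSp.yon S).obj W ⟶ Z) (snd : W ⟶ V)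
    (hpb : IsPullback fst ((AlgSp.yon S).map snd) j b) :
    AlgSp.thick snd.left ∧ AlgSp.sqZero snd.left := by
  have hjk : j ≫ k = c := hN.1
  have hc : AlgSp.RepWith @IsClosedImmersion c := hN.2.1
  have hk : AlgSp.RepWith @IsClosedImmersion k := hN.2.2.1
  haveI : Mono k := mono_of_closed k hk
  have hpbc : IsPullback fst ((AlgSp.yon S).map snd) c (b ≫ k) := by
    have := isPullback_comp_mono k hpb
    rwa [hjk] at this
  have hcl : IsClosedImmersion snd.left := hc.2 _ _ snd hpbc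
  obtain ⟨U₀, p, hp, hps⟩ := hU.atlas
  obtain ⟨Z', e, g', hpb'⟩ := hp.1 (b ≫ k)
  obtain ⟨g, rfl⟩ := (AlgSp.yon S).map_surjective g'
  have hee : Etale e.left := hp.2 _ _ e hpb'
  have hes : Surjective e.left := hps.2 _ _ e hpb'
  have key : ∀ z : V.left, ∃ (O W' : Scheme.{u}) (e' : O ⟶ V.left) (k' : W' ⟶ O) (g₀ : W' ⟶ W.left),
      Flat e' ∧ QuasiCompact k' ∧ z ∈ Set.range e' ∧ k' ≫ e' = g₀ ≫ snd.left ∧ AlgSp.sqZero k' ∧
        Surjective k' := by
    intro z
    obtain ⟨z', rfl⟩ := e.left.surjective z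
    obtain ⟨O, V₀, hO, hV₀, hxO, h1⟩ := exists_affine_refine g z'
    have hV₀aff : IsAffine (res U₀ V₀).left := hV₀
    have hc₀ : AlgSp.RepWith @Etale ((AlgSp.yon S).map (resι U₀ V₀) ≫ p) :=
      repWith_etale_yon_map_comp _ inferInstance p hp
    obtain ⟨Wc, W₁, a, a₁, m, fa, fa₁, hpa, hpa₁, hm2, hm1, hacl, ha₁cl, -, hmth, hmsq⟩ :=
      exists_chart_data hN ((AlgSp.yon S).map (resι U₀ V₀) ≫ p) hV₀aff hc₀
    -- the map `O ⟶ W₁`
    have hw₁ : ((AlgSp.yon S).map (resι Z' O ≫ e) ≫ b) ≫ k =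
        (AlgSp.yon S).map (resMap g O V₀ h1) ≫ (AlgSp.yon S).map (resι U₀ V₀) ≫ p := by
      rw [← Category.assoc ((AlgSp.yon S).map (resMap g O V₀ h1)), ← Functor.map_comp, resMap_resι,
        Functor.map_comp, Functor.map_comp, Category.assoc, Category.assoc, Category.assoc, hpb'.w]
    obtain ⟨r₁, hr₁⟩ := (AlgSp.yon S).map_surjective (hpa₁.lift _ _ hw₁)
    have hr₁1 : (AlgSp.yon S).map r₁ ≫ fa₁ = (AlgSp.yon S).map (resι Z' O ≫ e) ≫ b := by
      rw [hr₁, hpa₁.lift_fst]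
    have hPB : IsPullback (pullback.fst m r₁) (pullback.snd m r₁) m r₁ :=
      IsPullback.of_hasPullback m r₁
    have hsch := hPB.map (Over.forget S)
    have hsq' : AlgSp.sqZero (pullback.snd m r₁).left :=
      sqZero_baseChange (pullback.snd m r₁).left m.left (pullback.fst m r₁).left r₁.left hmth.1
        hmth.2 hmsq hsch.flip
    have hth' : AlgSp.thick (pullback.snd m r₁).left :=
      MorphismProperty.of_isPullback (P := AlgSp.thick) hsch hmth
    have hw : ((AlgSp.yon S).map (pullback.fst m r₁) ≫ fa) ≫ j =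
        (AlgSp.yon S).map (pullback.snd m r₁ ≫ resι Z' O ≫ e) ≫ b := by
      rw [Category.assoc, ← hm1, ← Category.assoc, ← Functor.map_comp, hPB.w, Functor.map_comp,
        Category.assoc, hr₁1, ← Category.assoc, ← Functor.map_comp]
    obtain ⟨g₀, hg₀⟩ := (AlgSp.yon S).map_surjective (hpb.lift _ _ hw)
    have hg₁ : g₀ ≫ snd = pullback.snd m r₁ ≫ resι Z' O ≫ e := by
      apply (AlgSp.yon S).map_injective
      rw [Functor.map_comp, hg₀, hpb.lift_snd]
    haveI : IsClosedImmersion (pullback.snd m r₁).left := hth'.1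
    refine ⟨(res Z' O).left, (pullback m r₁).left, (resι Z' O ≫ e).left, (pullback.snd m r₁).left,
      g₀.left, ?_, inferInstance, ⟨⟨z', hxO⟩, ?_⟩, ?_, hsq', hth'.2⟩
    · rw [Over.comp_left]
      infer_instance
    · rw [Over.comp_left]
      exact Scheme.Hom.comp_apply _ _ _
    · rw [← Over.comp_left, ← Over.comp_left, hg₁]
  refine ⟨⟨hcl, ?_⟩, ?_⟩
  · apply surjective_of_cover
    intro z
    obtain ⟨O, W', e', k', g₀, -, -, h3, h4, -, h6⟩ := key z
    exact ⟨O, W', e', k', g₀, h3, h4, h6⟩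
  · apply sqZero_of_flat_cover
    intro z
    obtain ⟨O, W', e', k', g₀, h1, h2, h3, h4, h5, -⟩ := key z
    exact ⟨O, W', e', k', g₀, h1, h2, h3, h4, h5⟩

/-- factoring a map out of an algebraic space through a monomorphism of sheaves is local on affine etale charts. -/
lemma exists_factor_of_charts {G H T' : AlgSp.Sp S} (ι : G ⟶ H) [Mono ι] (hT' : AlgSp.IsAlgSpace T')
    (b : T' ⟶ H)
    (h : ∀ (V : Over S) (c' : (AlgSp.yon S).obj V ⟶ T'), IsAffine V.left → AlgSp.RepWith @Etale c' →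
      ∃ m : (AlgSp.yon S).obj V ⟶ G, m ≫ ι = c' ≫ b) :
    ∃ a' : T' ⟶ G, a' ≫ ι = b := by
  choose m hm using h
  obtain ⟨l, hl⟩ := exists_of_chartFamily hT' m (by
    intro W W' q c c' hW hW' hc hc' hcc'
    rw [← cancel_mono ι, hm, Category.assoc, hm, hcc', Category.assoc])
  refine ⟨l, hom_ext_of_charts hT' _ _ (fun W c hW hc => ?_)⟩
  rw [← Category.assoc, hl W c hW hc, hm]

/-- factoring a map from a scheme through a monomorphism of sheaves is fppf local. -/
lemma exists_factor_of_cover {G H : AlgSp.Sp S} (ι : G ⟶ H) [Mono ι] {V : Over S}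
    (β : (AlgSp.yon S).obj V ⟶ H) {I : Type*} (O : I → Over S) (o : ∀ i, O i ⟶ V)
    (hcov : Sieve.ofArrows O o ∈ AlgSp.J S V)
    (h : ∀ i, ∃ m : (AlgSp.yon S).obj (O i) ⟶ G, m ≫ ι = (AlgSp.yon S).map (o i) ≫ β) :
    ∃ m : (AlgSp.yon S).obj V ⟶ G, m ≫ ι = β := by
  choose m hm using h
  obtain ⟨l, hl⟩ := Groth.Agent.R2.H47.InfSq.glue_of_cover O o hcov m (by
    intro i j Z p q hpq
    rw [← cancel_mono ι, Category.assoc, Category.assoc, hm, hm, ← Category.assoc, ← Category.assoc,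
      ← Functor.map_comp, ← Functor.map_comp, hpq])
  refine ⟨l, Groth.Agent.R2.H47.InfSq.hom_ext_of_cover O o hcov _ _ (fun i => ?_)⟩
  rw [← Category.assoc, hl, hm]

/-- the universal property of the first order infinitesimal neighbourhood (existence part). -/
theorem exists_factor_infNbhd {Z Z₁ U X T T' : AlgSp.Sp S} (hU : AlgSp.IsAlgSpace U)
    (hT' : AlgSp.IsAlgSpace T') {c : Z ⟶ U} {j : Z ⟶ Z₁} {k : Z₁ ⟶ U}
    (hN : AlgSp.IsInfNbhd 1 c j k) (u : U ⟶ X) (hu : AlgSp.RepWith @IsOpenImmersion u)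
    (j' : T ⟶ T') (hj' : AlgSp.IsFOThickMor j') (a : T ⟶ Z) (b : T' ⟶ X)
    (hab : j' ≫ b = a ≫ c ≫ u) : ∃ a' : T' ⟶ Z₁, a' ≫ k ≫ u = b := by
  have hk : AlgSp.RepWith @IsClosedImmersion k := hN.2.2.1
  haveI : Mono u := Groth.Agent.S10412.mono_of_open u hu
  haveI : Mono k := mono_of_closed k hk
  haveI : Mono (k ≫ u) := mono_comp _ _
  apply exists_factor_of_charts (k ≫ u) hT' b
  intro V c' hV hc'
  obtain ⟨WT, kT, fstT, hpbT, hclT, hsurjT, hsqT⟩ := exists_chart_pullback hj' c' hV hc'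
  -- step 1: factor through the open subspace `U`
  obtain ⟨VU, s, fstU, hpbU⟩ := hu.1 (c' ≫ b)
  have hsopen : IsOpenImmersion s.left := hu.2 _ _ s hpbU
  have hwU : (fstT ≫ a ≫ c) ≫ u = (AlgSp.yon S).map kT ≫ c' ≫ b := by
    rw [Category.assoc, Category.assoc, ← hab, ← Category.assoc, hpbT.w, Category.assoc]
  obtain ⟨ℓ₀, hℓ₀⟩ := (AlgSp.yon S).map_surjective (hpbU.lift _ _ hwU)
  have hℓ : ℓ₀ ≫ s = kT := by
    apply (AlgSp.yon S).map_injective
    rw [Functor.map_comp, hℓ₀, hpbU.lift_snd]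
  have hssurj : Function.Surjective s.left := by
    intro v
    obtain ⟨w, rfl⟩ := hsurjT.surj v
    refine ⟨ℓ₀.left w, ?_⟩
    rw [← hℓ, Over.comp_left]
    exact (Scheme.Hom.comp_apply _ _ _).symm
  haveI : IsIso s.left := by
    apply isIso_of_isOpenImmersion_of_opensRange_eq_top
    ext v
    simp only [Scheme.Hom.coe_opensRange, TopologicalSpace.Opens.coe_top, Set.mem_univ, iff_true]
    exact hssurj v
  haveI : IsIso ((Over.forget S).map s) := inferInstanceAs (IsIso s.left)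
  haveI : IsIso s := isIso_of_reflects_iso s (Over.forget S)
  have hβU : ((AlgSp.yon S).map (inv s) ≫ fstU) ≫ u = c' ≫ b := by
    rw [Category.assoc, hpbU.w, ← Category.assoc, ← Functor.map_comp, IsIso.inv_hom_id,
      (AlgSp.yon S).map_id, Category.id_comp]
  -- step 2: factor through the closed subspace `Z₁`
  suffices H : ∃ m : (AlgSp.yon S).obj V ⟶ Z₁, m ≫ k = (AlgSp.yon S).map (inv s) ≫ fstU by
    obtain ⟨m, hm⟩ := H
    exact ⟨m, by rw [← Category.assoc, hm, hβU]⟩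
  obtain ⟨I, O, o, hcov, V₀, c₀, r, hV₀, hc₀, hcomm⟩ :=
    exists_chart_cover hU ((AlgSp.yon S).map (inv s) ≫ fstU)
  apply exists_factor_of_cover k _ O o hcov
  intro i
  obtain ⟨Wc, W₁, a_, a₁, m, fa, fa₁, hpa, hpa₁, hm2, hm1, hacl, ha₁cl, hker, -, -⟩ :=
    exists_chart_data hN (c₀ i) (hV₀ i) (hc₀ i)
  have hPB : IsPullback (pullback.fst kT (o i)) (pullback.snd kT (o i)) kT (o i) :=
    IsPullback.of_hasPullback kT (o i)
  have hsch := hPB.map (Over.forget S)
  have hκsq : AlgSp.sqZero (pullback.snd kT (o i)).left :=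
    sqZero_baseChange (pullback.snd kT (o i)).left kT.left (pullback.fst kT (o i)).left (o i).left
      hclT hsurjT hsqT hsch.flip
  haveI hκcl : IsClosedImmersion (pullback.snd kT (o i)).left :=
    MorphismProperty.of_isPullback (P := @IsClosedImmersion) hsch hclT
  have hwg : ((AlgSp.yon S).map (pullback.fst kT (o i)) ≫ fstT ≫ a) ≫ c =
      (AlgSp.yon S).map (pullback.snd kT (o i) ≫ r i) ≫ c₀ i := by
    rw [← cancel_mono u]
    have e1 : (AlgSp.yon S).map (pullback.fst kT (o i)) ≫ (AlgSp.yon S).map kT =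
        (AlgSp.yon S).map (pullback.snd kT (o i)) ≫ (AlgSp.yon S).map (o i) := by
      rw [← Functor.map_comp, ← Functor.map_comp, hPB.w]
    calc (((AlgSp.yon S).map (pullback.fst kT (o i)) ≫ fstT ≫ a) ≫ c) ≫ u
        = (AlgSp.yon S).map (pullback.fst kT (o i)) ≫ fstT ≫ (a ≫ c ≫ u) := by
          simp only [Category.assoc]
      _ = (AlgSp.yon S).map (pullback.fst kT (o i)) ≫ (fstT ≫ j') ≫ b := by
          rw [← hab, Category.assoc]
      _ = ((AlgSp.yon S).map (pullback.fst kT (o i)) ≫ (AlgSp.yon S).map kT) ≫ c' ≫ b := by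
          rw [hpbT.w]; simp only [Category.assoc]
      _ = (AlgSp.yon S).map (pullback.snd kT (o i)) ≫ ((AlgSp.yon S).map (o i) ≫
            ((AlgSp.yon S).map (inv s) ≫ fstU)) ≫ u := by
          rw [e1]; simp only [Category.assoc]; rw [← hβU]; simp only [Category.assoc]
      _ = ((AlgSp.yon S).map (pullback.snd kT (o i) ≫ r i) ≫ c₀ i) ≫ u := by
          rw [hcomm i, Functor.map_comp]; simp only [Category.assoc]
  obtain ⟨g, hg⟩ := (AlgSp.yon S).map_surjective (hpa.lift _ _ hwg)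
  have hg2 : g ≫ a_ = pullback.snd kT (o i) ≫ r i := by
    apply (AlgSp.yon S).map_injective
    rw [Functor.map_comp, hg, hpa.lift_snd]
  have hg3 : g.left ≫ a_.left = (pullback.snd kT (o i)).left ≫ (r i).left := by
    rw [← Over.comp_left, ← Over.comp_left, hg2]
  -- the kernel inequality
  have hle : a₁.left.ker ≤ (r i).left.ker := by
    rw [hker]
    refine Scheme.IdealSheafData.le_ofIdeals_iff.mpr ?_
    intro A
    rw [Scheme.IdealSheafData.ideal_pow, Pi.pow_apply, pow_two, Scheme.Hom.ker_apply, Ideal.mul_le]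
    intro x hx y hy
    rw [RingHom.mem_ker, map_mul]
    have key : ∀ z ∈ RingHom.ker (a_.left.app A.1).hom,
        ((pullback.snd kT (o i)).left.app ((r i).left ⁻¹ᵁ A.1)).hom
          (((r i).left.app A.1).hom z) = 0 := by
      intro z hz
      rw [RingHom.mem_ker] at hz
      have e := Scheme.Hom.congr_app hg3 A.1
      have e3 : ((g.left ≫ a_.left).app A.1).hom z = 0 := by
        change (g.left.app _).hom ((a_.left.app A.1).hom z) = 0
        rw [hz, map_zero]
      change (((pullback.snd kT (o i)).left ≫ (r i).left).app A.1).hom z = 0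
      have e4 := congr(($e).hom z)
      rw [e3] at e4
      rw [CommRingCat.hom_comp, RingHom.comp_apply] at e4
      have hinj : Function.Injective ((pullback kT (o i)).left.presheaf.map (eqToHom
          (congrArg (fun f => f ⁻¹ᵁ A.1) hg3)).op).hom :=
        (ConcreteCategory.bijective_of_isIso _).1
      apply hinj
      rw [map_zero]
      exact e4.symm
    exact Groth.Agent.R2.H57.Thickening.mul_eq_zero_of_ker_mul_ker_eq_bot
      (pullback.snd kT (o i)).left hκsq _ _ _ (key x hx) (key y hy)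
  have hρ : IsClosedImmersion.lift a₁.left (r i).left hle ≫ a₁.left = (r i).left :=
    IsClosedImmersion.lift_fac _ _ _
  let ρ' : O i ⟶ W₁ := Over.homMk (IsClosedImmersion.lift a₁.left (r i).left hle) (by
    rw [← Over.w a₁, ← Category.assoc, hρ, Over.w])
  have hρ' : ρ' ≫ a₁ = r i := Over.OverMorphism.ext hρ
  refine ⟨(AlgSp.yon S).map ρ' ≫ fa₁, ?_⟩
  rw [Category.assoc, hpa₁.w, ← Category.assoc, ← Functor.map_comp, hρ', hcomm i]

end Groth.Agent.R2.H74.InfNbhd
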