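import Mathlib
import Groth.Prelude.Def_Koszul
import Groth.Agent.R2.H93KoszulLow

/-!
# The Koszul complex of `x • l`

For `K l = Koszul.koszul A l` (mapping-cone model) we construct degreewise linear equivalences
`theta x l n : K(l)ⁿ ≃ K(x l)ⁿ` with `d' ∘ θ = x • θ ∘ d`, show that the terms are `x`-torsion-free
for a non-zero-divisor `x`, and deduce `Hᵠ(K(x l)) ≃ Zᵠ(K(l)) / x Bᵠ(K(l))`.
-/

set_option autoImplicit false
universe u

namespace Groth.Agent.R2.H74.KoszulMul

open CategoryTheory CategoryTheory.Limits CochainComplex HomComplex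
open Groth.Agent.R2.H93.KoszulLow

section Cone

variable {A : Type u} [CommRing A] {F G F' G' : CochainComplex (ModuleCat.{u} A) ℤ}
  (φ : F ⟶ G) (φ' : F' ⟶ G')

lemma cone_ext (p q : ℤ) (hpq : p + 1 = q) (z w : (mappingCone φ).X p)
    (h1 : cfst φ p q hpq z = cfst φ p q hpq w) (h2 : csnd φ p z = csnd φ p w) : z = w := by
  rw [decomp φ p q hpq z, decomp φ p q hpq w, h1, h2]

/-- degreewise map of mapping cones induced by degreewise linear maps -/
noncomputable def coneMap (a : ∀ n, F.X n →ₗ[A] F'.X n) (b : ∀ n, G.X n →ₗ[A] G'.X n) (p : ℤ) :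
    (mappingCone φ).X p →ₗ[A] (mappingCone φ').X p :=
  (cinl φ' (p + 1) p rfl) ∘ₗ (a (p + 1)) ∘ₗ (cfst φ p (p + 1) rfl) +
    (cinr φ' p) ∘ₗ (b p) ∘ₗ (csnd φ p)

lemma cfst_eq (p q : ℤ) (hpq : p + 1 = q) (z : (mappingCone φ).X p) :
    HEq (cfst φ p q hpq z) (cfst φ p (p + 1) rfl z) := by
  subst hpq; rfl

lemma cfst_coneMap (a : ∀ n, F.X n →ₗ[A] F'.X n) (b : ∀ n, G.X n →ₗ[A] G'.X n) (p q : ℤ)
    (hpq : p + 1 = q) (z : (mappingCone φ).X p) :
    cfst φ' p q hpq (coneMap φ φ' a b p z) = a q (cfst φ p q hpq z) := by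
  subst hpq
  simp only [coneMap, LinearMap.add_apply, LinearMap.comp_apply, map_add, cfst_cinl, cfst_cinr,
    add_zero]

lemma csnd_coneMap (a : ∀ n, F.X n →ₗ[A] F'.X n) (b : ∀ n, G.X n →ₗ[A] G'.X n) (p : ℤ)
    (z : (mappingCone φ).X p) :
    csnd φ' p (coneMap φ φ' a b p z) = b p (csnd φ p z) := by
  simp only [coneMap, LinearMap.add_apply, LinearMap.comp_apply, map_add, csnd_cinl, csnd_cinr,
    zero_add]

/-- degreewise equivalence of mapping cones induced by degreewise linear equivalences -/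
noncomputable def coneEquiv (a : ∀ n, F.X n ≃ₗ[A] F'.X n) (b : ∀ n, G.X n ≃ₗ[A] G'.X n) (p : ℤ) :
    (mappingCone φ).X p ≃ₗ[A] (mappingCone φ').X p :=
  LinearEquiv.ofLinearMap
    (coneMap φ φ' (fun n => (a n).toLinearMap) (fun n => (b n).toLinearMap) p)
    (coneMap φ' φ (fun n => (a n).symm.toLinearMap) (fun n => (b n).symm.toLinearMap) p)
    (by
      ext z
      apply cone_ext φ' p (p + 1) rfl
      · simp [cfst_coneMap]
      · simp [csnd_coneMap])
    (by
      ext z
      apply cone_ext φ p (p + 1) rfl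
      · simp [cfst_coneMap]
      · simp [csnd_coneMap])

lemma cfst_coneEquiv (a : ∀ n, F.X n ≃ₗ[A] F'.X n) (b : ∀ n, G.X n ≃ₗ[A] G'.X n) (p q : ℤ)
    (hpq : p + 1 = q) (z : (mappingCone φ).X p) :
    cfst φ' p q hpq (coneEquiv φ φ' a b p z) = a q (cfst φ p q hpq z) :=
  cfst_coneMap φ φ' _ _ p q hpq z

lemma csnd_coneEquiv (a : ∀ n, F.X n ≃ₗ[A] F'.X n) (b : ∀ n, G.X n ≃ₗ[A] G'.X n) (p : ℤ)
    (z : (mappingCone φ).X p) :
    csnd φ' p (coneEquiv φ φ' a b p z) = b p (csnd φ p z) :=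
  csnd_coneMap φ φ' _ _ p z

/-- compatibility of `coneEquiv` with the differentials, scaled by `x` -/
lemma coneEquiv_d (x : A) (a : ∀ n, F.X n ≃ₗ[A] F'.X n) (b : ∀ n, G.X n ≃ₗ[A] G'.X n)
    (ha : ∀ (i j : ℤ) (_ : i + 1 = j) (u : F.X i),
      (F'.d i j).hom (a i u) = x • a j ((F.d i j).hom u))
    (hb : ∀ (i j : ℤ) (_ : i + 1 = j) (u : G.X i),
      (G'.d i j).hom (b i u) = x • b j ((G.d i j).hom u))
    (hφ : ∀ (n : ℤ) (u : F.X n), (φ'.f n).hom (a n u) = x • b n ((φ.f n).hom u))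
    (i j : ℤ) (hij : i + 1 = j) (z : (mappingCone φ).X i) :
    ((mappingCone φ').d i j).hom (coneEquiv φ φ' a b i z) =
      x • coneEquiv φ φ' a b j (((mappingCone φ).d i j).hom z) := by
  apply cone_ext φ' j (j + 1) rfl
  · rw [cfst_d φ' i j (j + 1) hij rfl, cfst_coneEquiv, map_smul, cfst_coneEquiv,
      cfst_d φ i j (j + 1) hij rfl, ha j (j + 1) rfl, map_neg, smul_neg]
  · rw [csnd_d φ' i j hij, cfst_coneEquiv, csnd_coneEquiv, map_smul, csnd_coneEquiv,
      csnd_d φ i j hij, hφ, hb i j hij, map_add, smul_add]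

/-- torsion-freeness passes to the terms of a mapping cone -/
lemma cone_smul_eq_zero (x : A)
    (hF : ∀ (n : ℤ) (u : F.X n), x • u = 0 → u = 0)
    (hG : ∀ (n : ℤ) (u : G.X n), x • u = 0 → u = 0)
    (p : ℤ) (z : (mappingCone φ).X p) (hz : x • z = 0) : z = 0 := by
  apply cone_ext φ p (p + 1) rfl
  · rw [map_zero]
    apply hF
    rw [← map_smul, hz, map_zero]
  · rw [map_zero]
    apply hG
    rw [← map_smul, hz, map_zero]

end Cone

section Kz

variable (A : Type u) [CommRing A]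

/-- the terms of the Koszul complex are torsion-free for non-zero-divisors -/
lemma koszul_smul_eq_zero (x : A) (hx : x ∈ nonZeroDivisors A) :
    ∀ (l : List A) (n : ℤ) (z : (Koszul.koszul A l).X n), x • z = 0 → z = 0
  | [], n, z, hz => by
      by_cases hn : n = 0
      · subst hn
        have h1 : eps A [] (x • z) = 0 := by rw [hz, map_zero]
        rw [map_smul, smul_eq_mul] at h1
        have h2 : eps A [] z = 0 := (mul_left_mem_nonZeroDivisors_eq_zero_iff hx).mp h1
        rw [← unit_eps A [] z, h2, map_zero]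
      · exact (ModuleCat.subsingleton_of_isZero
          (HomologicalComplex.isZero_single_obj_X (ComplexShape.up ℤ) 0 (ModuleCat.of A A) n
            hn)).elim _ _
  | f :: l, n, z, hz =>
      cone_smul_eq_zero (f • 𝟙 (Koszul.koszul A l)) x (koszul_smul_eq_zero x hx l)
        (koszul_smul_eq_zero x hx l) n z hz

/-- the degreewise equivalence `K(l)ⁿ ≃ K(x l)ⁿ` -/
noncomputable def theta (x : A) : ∀ (l : List A) (n : ℤ),
    (Koszul.koszul A l).X n ≃ₗ[A] (Koszul.koszul A (l.map (fun f => x * f))).X n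
  | [], _ => LinearEquiv.refl A _
  | f :: l, n =>
      coneEquiv (f • 𝟙 (Koszul.koszul A l))
        ((x * f) • 𝟙 (Koszul.koszul A (l.map (fun f => x * f)))) (theta x l) (theta x l) n

lemma theta_d (x : A) : ∀ (l : List A) (i j : ℤ) (_ : i + 1 = j) (u : (Koszul.koszul A l).X i),
    ((Koszul.koszul A (l.map (fun f => x * f))).d i j).hom (theta A x l i u) =
      x • theta A x l j (((Koszul.koszul A l).d i j).hom u)
  | [], i, j, hij, u => by
      have h1 : (Koszul.koszul A ([] : List A)).d i j = 0 :=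
        HomologicalComplex.single_obj_d (ComplexShape.up ℤ) 0 (ModuleCat.of A A) i j
      have h2 : ((Koszul.koszul A ([] : List A)).d i j).hom u = 0 := by rw [h1]; rfl
      have h3 : ((Koszul.koszul A (([] : List A).map (fun f => x * f))).d i j).hom
          (theta A x [] i u) = 0 := by
        change ((Koszul.koszul A ([] : List A)).d i j).hom (theta A x [] i u) = 0
        rw [h1]; rfl
      rw [h3, h2, map_zero, smul_zero]
  | f :: l, i, j, hij, u => by
      refine coneEquiv_d (f • 𝟙 (Koszul.koszul A l))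
        ((x * f) • 𝟙 (Koszul.koszul A (l.map (fun f => x * f)))) x (theta A x l) (theta A x l)
        (theta_d x l) (theta_d x l) ?_ i j hij u
      intro n u
      rw [smul_id_f_apply, smul_id_f_apply, map_smul, mul_smul]

end Kz

section Homology

variable {A : Type u} [CommRing A] (K K' : CochainComplex (ModuleCat.{u} A) ℤ) (x : A)
  (θ : ∀ n, K.X n ≃ₗ[A] K'.X n)

/-- the target quotient of the statement -/
abbrev ZmodxB (q : ℤ) : Type u :=
  ↥(LinearMap.ker (K.d q (q + 1)).hom) ⧸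
    Submodule.comap (LinearMap.ker (K.d q (q + 1)).hom).subtype
      (Ideal.span {x} • LinearMap.range (K.d (q - 1) q).hom)

include θ in
lemma ker_map_theta
    (hθ : ∀ (i j : ℤ) (_ : i + 1 = j) (u : K.X i),
      (K'.d i j).hom (θ i u) = x • θ j ((K.d i j).hom u))
    (htf : ∀ (n : ℤ) (u : K.X n), x • u = 0 → u = 0) (q : ℤ) :
    (LinearMap.ker (K.d q (q + 1)).hom).map (θ q : K.X q →ₗ[A] K'.X q) =
      LinearMap.ker (K'.d q (q + 1)).hom := by
  ext y
  constructor
  · rintro ⟨u, hu, rfl⟩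
    rw [LinearMap.mem_ker]
    change (K'.d q (q + 1)).hom (θ q u) = 0
    rw [hθ q (q + 1) rfl, LinearMap.mem_ker.mp hu, map_zero, smul_zero]
  · intro hy
    refine ⟨(θ q).symm y, ?_, by simp⟩
    rw [LinearMap.mem_ker] at hy
    rw [SetLike.mem_coe, LinearMap.mem_ker]
    have h1 := hθ q (q + 1) rfl ((θ q).symm y)
    rw [LinearEquiv.apply_symm_apply, hy, ← map_smul] at h1
    have h2 : x • (K.d q (q + 1)).hom ((θ q).symm y) = 0 :=
      (θ (q + 1)).injective (by rw [← h1, map_zero])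
    exact htf _ _ h2

/-- The homology of `K'` in terms of cocycles and boundaries of `K`. -/
theorem homology_iso
    (hθ : ∀ (i j : ℤ) (_ : i + 1 = j) (u : K.X i),
      (K'.d i j).hom (θ i u) = x • θ j ((K.d i j).hom u))
    (htf : ∀ (n : ℤ) (u : K.X n), x • u = 0 → u = 0) (q : ℤ) :
    Nonempty (K'.homology q ≅ ModuleCat.of A (ZmodxB K x q)) := by
  let S' := K'.sc' (q - 1) q (q + 1)
  have e1 : K'.homology q ≅ S'.homology :=
    K'.homologyIsoSc' (q - 1) q (q + 1) (by simp) (by simp)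
  have e2 : S'.homology ≅ S'.moduleCatLeftHomologyData.H := S'.moduleCatHomologyIso
  -- the equivalence of kernels
  let f : ↥(LinearMap.ker (K.d q (q + 1)).hom) ≃ₗ[A] ↥(LinearMap.ker (K'.d q (q + 1)).hom) :=
    LinearEquiv.ofSubmodules (θ q) _ _ (ker_map_theta K K' x θ hθ htf q)
  have hf : ∀ z, ((f z : ↥(LinearMap.ker (K'.d q (q + 1)).hom)) : K'.X q) = θ q z.1 := fun z => rfl
  have hmap : (Submodule.comap (LinearMap.ker (K.d q (q + 1)).hom).subtype
      (Ideal.span {x} • LinearMap.range (K.d (q - 1) q).hom)).map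
        (f : ↥(LinearMap.ker (K.d q (q + 1)).hom) →ₗ[A] ↥(LinearMap.ker (K'.d q (q + 1)).hom)) =
      LinearMap.range S'.moduleCatToCycles := by
    ext y
    constructor
    · rintro ⟨z, hz, rfl⟩
      rw [SetLike.mem_coe, Submodule.mem_comap, Submodule.ideal_span_singleton_smul,
        Submodule.mem_smul_pointwise_iff_exists] at hz
      obtain ⟨b, ⟨v, rfl⟩, hb⟩ := hz
      refine ⟨θ (q - 1) v, ?_⟩
      apply Subtype.ext
      change (K'.d (q - 1) q).hom (θ (q - 1) v) = θ q z.1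
      rw [hθ (q - 1) q (by omega) v, ← map_smul, hb]
      rfl
    · rintro ⟨w0, rfl⟩
      let w : K'.X (q - 1) := w0
      have hmem : x • (K.d (q - 1) q).hom ((θ (q - 1)).symm w) ∈
          LinearMap.ker (K.d q (q + 1)).hom := by
        rw [LinearMap.mem_ker, map_smul]
        have : (K.d (q - 1) q ≫ K.d q (q + 1)) = 0 := K.d_comp_d _ _ _
        have h0 : (K.d q (q + 1)).hom ((K.d (q - 1) q).hom ((θ (q - 1)).symm w)) = 0 := by
          rw [← ModuleCat.comp_apply, this]; rfl
        rw [h0, smul_zero]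
      refine ⟨⟨_, hmem⟩, ?_, ?_⟩
      · rw [SetLike.mem_coe, Submodule.mem_comap, Submodule.ideal_span_singleton_smul,
          Submodule.mem_smul_pointwise_iff_exists]
        exact ⟨_, ⟨_, rfl⟩, rfl⟩
      · apply Subtype.ext
        change θ q (x • (K.d (q - 1) q).hom ((θ (q - 1)).symm w)) = (K'.d (q - 1) q).hom w
        rw [map_smul, ← hθ (q - 1) q (by omega)]
        exact congrArg _ ((θ (q - 1)).apply_symm_apply w)
  have e3 : ZmodxB K x q ≃ₗ[A]
      (↥(LinearMap.ker (K'.d q (q + 1)).hom) ⧸ LinearMap.range S'.moduleCatToCycles) :=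
    Submodule.Quotient.equiv _ _ f hmap
  exact ⟨e1 ≪≫ e2 ≪≫ e3.symm.toModuleIso⟩

end Homology

section Main

variable (A : Type u) [CommRing A]

theorem koszul_mul_homology (l : List A) (x : A) (hx : x ∈ nonZeroDivisors A) (q : ℤ) :
    Nonempty ((Koszul.koszul A (l.map (fun f => x * f))).homology q ≅
      ModuleCat.of A (ZmodxB (Koszul.koszul A l) x q)) :=
  homology_iso (Koszul.koszul A l) (Koszul.koszul A (l.map (fun f => x * f))) x
    (theta A x l) (theta_d A x l) (koszul_smul_eq_zero A x hx l) q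

end Main

end Groth.Agent.R2.H74.KoszulMul
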