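import Mathlib
import Groth.Prelude.Def_Koszul
import Groth.Agent.R2.H74KoszulMul

/-!
# The Koszul complex of `x • l` at an exact spot of `K(l)`
-/

set_option autoImplicit false
universe u

namespace Groth.Agent.R2.H74.KoszulMul

open CategoryTheory CategoryTheory.Limits CochainComplex HomComplex
open scoped TensorProduct

variable {A : Type u} [CommRing A]

lemma range_eq_ker_of_isZero_homology (K : CochainComplex (ModuleCat.{u} A) ℤ) (q : ℤ)
    (h : IsZero (K.homology q)) :
    LinearMap.range (K.d (q - 1) q).hom = LinearMap.ker (K.d q (q + 1)).hom := by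
  have h1 : K.ExactAt q := (K.exactAt_iff_isZero_homology q).2 h
  have h2 : (K.sc' (q - 1) q (q + 1)).Exact :=
    (K.exactAt_iff' (q - 1) q (q + 1) (by simp) (by simp)).1 h1
  exact (ShortComplex.moduleCat_exact_iff_range_eq_ker _).1 h2

/-- `Z / x B ≃ Z ⊗ A/(x)` when `B = Z`. -/
theorem zmodxB_equiv_tensor (K : CochainComplex (ModuleCat.{u} A) ℤ) (x : A) (q : ℤ)
    (h : IsZero (K.homology q)) :
    Nonempty (ZmodxB K x q ≃ₗ[A]
      (↥(LinearMap.ker (K.d q (q + 1)).hom) ⊗[A] (A ⧸ Ideal.span {x}))) := by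
  have hr := range_eq_ker_of_isZero_homology K q h
  have hsub : Submodule.comap (LinearMap.ker (K.d q (q + 1)).hom).subtype
      (Ideal.span {x} • LinearMap.range (K.d (q - 1) q).hom) =
      Ideal.span {x} • (⊤ : Submodule A ↥(LinearMap.ker (K.d q (q + 1)).hom)) := by
    rw [hr]
    ext z
    rw [Submodule.mem_comap, Submodule.ideal_span_singleton_smul,
      Submodule.ideal_span_singleton_smul, Submodule.mem_smul_pointwise_iff_exists,
      Submodule.mem_smul_pointwise_iff_exists]
    constructor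
    · rintro ⟨b, hb, hbz⟩
      exact ⟨⟨b, hb⟩, Submodule.mem_top, Subtype.ext hbz⟩
    · rintro ⟨b, -, rfl⟩
      exact ⟨b.1, b.2, rfl⟩
  exact ⟨(Submodule.quotEquivOfEq _ _ hsub).trans
    (TensorProduct.tensorQuotEquivQuotSMul _ (Ideal.span {x})).symm⟩

theorem koszul_mul_homology_tensor (A : Type u) [CommRing A] (l : List A) (x : A)
    (hx : x ∈ nonZeroDivisors A) (q : ℤ) (h : IsZero ((Koszul.koszul A l).homology q)) :
    Nonempty ((Koszul.koszul A (l.map (fun f => x * f))).homology q ≅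
      ModuleCat.of A (↥(LinearMap.ker ((Koszul.koszul A l).d q (q + 1)).hom) ⊗[A]
        (A ⧸ Ideal.span {x}))) := by
  obtain ⟨e⟩ := koszul_mul_homology A l x hx q
  obtain ⟨e'⟩ := zmodxB_equiv_tensor (Koszul.koszul A l) x q h
  exact ⟨e ≪≫ e'.toModuleIso⟩

end Groth.Agent.R2.H74.KoszulMul
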