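import Groth.Prelude.Def_SGA3x
import Groth.Prelude.Def_Red2
import Mathlib.AlgebraicGeometry.Morphisms.FlatDescent

/-!
# PROJ:mt-hom (helper97) — interface: homomorphisms of groups of multiplicative type

Targets: S5274 / S5275 / S5276 (clopen loci where a homomorphism `u : G ⟶ H` of `S`-groups of
multiplicative type and of finite type is fibrewise a monomorphism / an isomorphism / faithfully
flat) and S16611 (a monomorphism of tori of the same rank is an isomorphism).

Packages (each a `Prop`; a package is delivered as a theorem `pkgX : PkgX` in its own file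
`R2/H<nn>MT<X>.lean` importing this spec):

* `PkgD` (descent for the generalised fpqc coverings of `Red.IsTorus` / `SGA3x.IsMultTypeFT`):
  such a covering is a topological quotient map, coverings are stable under base change and
  composition, and the three properties `IsIso`, `Mono`, `Flat ∧ Surjective` of the underlying
  morphism of a morphism of `Over S` descend along them and are Zariski-local on `S`.
* `PkgP` (properties of `D_S(φ)`): for `φ : N →+ M`, `D_S(φ) : D_S(M) ⟶ D_S(N)` is a monomorphism /
  isomorphism / faithfully flat when `φ` is surjective / bijective / injective, and conversely over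
  a non-empty base.
* `PkgH` (structure of homomorphisms): a homomorphism `D_S(M) ⟶ D_S(N)`, `N` finitely generated, is
  Zariski-locally on `S` of the form `D_S(φ)`.
-/

set_option autoImplicit false

universe u

open CategoryTheory MonoidalCategory CartesianMonoidalCategory MonObj GrpObj AlgebraicGeometry

namespace Groth.Agent.R2.H97.MTSpec

/-- The generalised fpqc coverings of `Red.IsTorus`, `SGA3x.IsMultTypeFT`: flat, surjective, and
every affine open of the target is the image of a quasi-compact open of the source. -/
def IsFpqcCov {S' S : Scheme.{u}} (f : S' ⟶ S) : Prop :=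
  Flat f ∧ Surjective f ∧
    ∀ V : S.Opens, IsAffineOpen V →
      ∃ W : S'.Opens, IsCompact (W : Set S') ∧ f.base '' (W : Set S') = (V : Set S)

/-- The property `P` of the underlying morphism of schemes of a morphism of `Over S` descends along
generalised fpqc coverings of `S`. -/
def DescendsFpqc (P : MorphismProperty Scheme.{u}) : Prop :=
  ∀ {S' S : Scheme.{u}} (f : S' ⟶ S), IsFpqcCov f → ∀ {X Y : Over S} (v : X ⟶ Y),
    P ((Over.pullback f).map v).left → P v.left

/-- The property `P` of the underlying morphism of schemes of a morphism of `Over S` is local for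
the Zariski topology of `S`. -/
def ZariskiLocalOnBase (P : MorphismProperty Scheme.{u}) : Prop :=
  ∀ {S : Scheme.{u}} {X Y : Over S} (v : X ⟶ Y) {J : Type u} (W : J → S.Opens),
    (∀ s : S, ∃ i, s ∈ W i) → (∀ i, P ((Over.pullback (W i).ι).map v).left) → P v.left

/-- The three properties. -/
def isoProp : MorphismProperty Scheme.{u} := MorphismProperty.isomorphisms Scheme.{u}

/-- The three properties. -/
def monoProp : MorphismProperty Scheme.{u} := MorphismProperty.monomorphisms Scheme.{u}

/-- The three properties. -/
def ffProp : MorphismProperty Scheme.{u} := fun _ _ f => Flat f ∧ Surjective f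

/-- PKG-D. -/
def PkgD : Prop :=
  (∀ {S' S : Scheme.{u}} (f : S' ⟶ S), IsFpqcCov f → ∀ A : Set S, IsOpen (f.base ⁻¹' A) → IsOpen A) ∧
  (∀ {S' S T : Scheme.{u}} (f : S' ⟶ S) (g : T ⟶ S), IsFpqcCov f →
    IsFpqcCov (Limits.pullback.snd f g)) ∧
  (∀ {S'' S' S : Scheme.{u}} (f' : S'' ⟶ S') (f : S' ⟶ S), IsFpqcCov f' → IsFpqcCov f →
    IsFpqcCov (f' ≫ f)) ∧
  (DescendsFpqc.{u} isoProp ∧ DescendsFpqc.{u} monoProp ∧ DescendsFpqc.{u} ffProp) ∧
  (ZariskiLocalOnBase.{u} isoProp ∧ ZariskiLocalOnBase.{u} monoProp ∧ ZariskiLocalOnBase.{u} ffProp)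

/-- PKG-P. -/
def PkgP : Prop :=
  ∀ (S : Scheme.{u}) {M N : Type} [AddCommGroup M] [AddCommGroup N] (φ : N →+ M),
    (Function.Surjective φ → Mono (Red.DSmap S φ).left) ∧
    (Function.Bijective φ → IsIso (Red.DSmap S φ).left) ∧
    (Function.Injective φ → Flat (Red.DSmap S φ).left ∧ Surjective (Red.DSmap S φ).left) ∧
    (Nonempty S → Mono (Red.DSmap S φ).left → Function.Surjective φ) ∧
    (Nonempty S → Flat (Red.DSmap S φ).left → Surjective (Red.DSmap S φ).left →
      Function.Injective φ)

/-- PKG-H. -/
def PkgH : Prop :=
  ∀ (S : Scheme.{u}) {M N : Type} [AddCommGroup M] [AddCommGroup N], AddGroup.FG N →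
    ∀ (v : Red.DS S M ⟶ Red.DS S N) [IsMonHom v] (s : S),
      ∃ (U : S.Opens) (φ : N →+ M), s ∈ U ∧
        (Over.pullback U.ι).map v = (Over.pullback U.ι).map (Red.DSmap S φ)

end Groth.Agent.R2.H97.MTSpec
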