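import Mathlib
import Groth.Agent.R2.H97MTSpec
import Groth.Agent.Lib.Helper12Torsor

/-!
# PROJ:mt-hom, package D (helper74): descent along the generalised fpqc coverings

`IsFpqcCov f` : flat, surjective, and every affine open of the target is the image of a
quasi-compact open of the source.  We prove `PkgD`.
-/

set_option autoImplicit false
set_option linter.style.haveILetI false
universe u
open CategoryTheory AlgebraicGeometry Limits MorphismProperty

namespace Groth.Agent.R2.H74.MTD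

open Groth.Agent.R2.H97.MTSpec

variable {S' S : Scheme.{u}}

set_option backward.isDefEq.respectTransparency.types false in
lemma qc_of_compact {X Y : Scheme.{u}} [IsAffine Y] (f : X ⟶ Y) [CompactSpace X] :
    QuasiCompact f := by
  exact (HasAffineProperty.iff_of_isAffine (P := @QuasiCompact)).mpr ‹_›

/-- the local model of a generalised fpqc covering: over an affine open `V` there is a quasi-compact
open `W` of the source such that `W ⟶ V` is flat, surjective and quasi-compact. -/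
lemma exists_resLE {f : S' ⟶ S} (hf : IsFpqcCov f) (V : S.Opens) (hV : IsAffineOpen V) :
    ∃ (W : S'.Opens) (h : W ≤ f ⁻¹ᵁ V), IsCompact (W : Set S') ∧ f.base '' (W : Set S') = V ∧
      Flat (f.resLE V W h) ∧ Surjective (f.resLE V W h) ∧ QuasiCompact (f.resLE V W h) := by
  obtain ⟨hfl, -, hcov⟩ := hf
  obtain ⟨W, hWc, hWV⟩ := hcov V hV
  have h : W ≤ f ⁻¹ᵁ V := by
    intro w hw
    show f.base w ∈ (V : Set S)
    rw [← hWV]
    exact ⟨w, hw, rfl⟩
  refine ⟨W, h, hWc, hWV, inferInstance, ⟨?_⟩, ?_⟩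
  · rintro ⟨v, hv⟩
    have hv' : v ∈ f.base '' (W : Set S') := by rw [hWV]; exact hv
    obtain ⟨w, hw, rfl⟩ := hv'
    refine ⟨⟨w, hw⟩, ?_⟩
    apply Subtype.ext
    exact Scheme.Hom.coe_resLE_apply f (U := V) (V := W) h ⟨w, hw⟩
  · haveI : IsAffine (V : Scheme.{u}) := hV
    haveI : CompactSpace (W : Scheme.{u}) := isCompact_iff_compactSpace.mp hWc
    exact qc_of_compact _

/-- (1) a generalised fpqc covering is a topological quotient map (openness version). -/
theorem isOpen_of_preimage {f : S' ⟶ S} (hf : IsFpqcCov f) (A : Set S)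
    (hA : IsOpen (f.base ⁻¹' A)) : IsOpen A := by
  rw [isOpen_iff_forall_mem_open]
  intro s hs
  obtain ⟨_, ⟨V₀, hV, rfl⟩, hsV, -⟩ := S.isBasis_affineOpens.exists_subset_of_mem_open
    (show s ∈ (⊤ : S.Opens) from trivial) (⊤ : S.Opens).2
  let V : S.Opens := V₀
  obtain ⟨W, h, -, -, hfl, hsurj, hqc⟩ := exists_resLE hf V hV
  have hq : Topology.IsQuotientMap (f.resLE V W h).base := Flat.isQuotientMap_of_surjective _
  have hopen : IsOpen (V.ι.base ⁻¹' A) := by
    rw [← hq.isOpen_preimage]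
    have : (f.resLE V W h).base ⁻¹' (V.ι.base ⁻¹' A) = W.ι.base ⁻¹' (f.base ⁻¹' A) := by
      ext w
      simp only [Set.mem_preimage]
      rw [← Scheme.Hom.comp_apply, ← Scheme.Hom.comp_apply, Scheme.Hom.resLE_comp_ι]
    rw [this]
    exact hA.preimage W.ι.continuous
  refine ⟨V.ι.base '' (V.ι.base ⁻¹' A), ?_, V.ι.isOpenEmbedding.isOpenMap _ hopen, ?_⟩
  · rintro _ ⟨x, hx, rfl⟩
    exact hx
  · exact ⟨⟨s, hsV⟩, hs, rfl⟩

/-- (3) composition. -/
theorem isFpqcCov_comp {S'' : Scheme.{u}} (f' : S'' ⟶ S') (f : S' ⟶ S) (hf' : IsFpqcCov f')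
    (hf : IsFpqcCov f) : IsFpqcCov (f' ≫ f) := by
  obtain ⟨hfl', hsj', hcov'⟩ := hf'
  obtain ⟨hfl, hsj, hcov⟩ := hf
  refine ⟨inferInstance, inferInstance, ?_⟩
  intro V hV
  obtain ⟨W, hWc, hWV⟩ := hcov V hV
  obtain ⟨s, hs, hW⟩ := isCompact_iff_finite_and_eq_biUnion_affineOpens.mp hWc
  choose W' hW'c hW' using fun U : S'.affineOpens => hcov' U.1 U.2
  refine ⟨⨆ i ∈ s, W' i, ?_, ?_⟩
  · have : ((⨆ i ∈ s, W' i : S''.Opens) : Set S'') = ⋃ i ∈ s, (W' i : Set S'') := by
      simp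
    rw [this]
    exact hs.isCompact_biUnion (fun i _ => hW'c i)
  · have h1 : ((⨆ i ∈ s, W' i : S''.Opens) : Set S'') = ⋃ i ∈ s, (W' i : Set S'') := by
      simp
    have h2 : (W : Set S') = ⋃ i ∈ s, ((i : S'.Opens) : Set S') := by
      rw [hW]; simp
    rw [h1, Scheme.Hom.comp_base, TopCat.coe_comp, Set.image_comp, Set.image_iUnion₂]
    simp only [hW']
    rw [← h2, hWV]

/-- one chart of the base change of a covering. -/
lemma exists_compact_chart {T : Scheme.{u}} (f : S' ⟶ S) (g : T ⟶ S)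
    (A : S.Opens) (hA : IsAffineOpen A) (W : S'.Opens) (hWc : IsCompact (W : Set S'))
    (hWA : f.base '' (W : Set S') = A) (V : T.Opens) (hV : IsAffineOpen V) (hVA : V ≤ g ⁻¹ᵁ A) :
    IsCompact ((pullback.fst f g ⁻¹ᵁ W ⊓ pullback.snd f g ⁻¹ᵁ V : (pullback f g).Opens) :
      Set ↑(pullback f g)) ∧
    (pullback.snd f g).base ''
      ((pullback.fst f g ⁻¹ᵁ W ⊓ pullback.snd f g ⁻¹ᵁ V : (pullback f g).Opens) :
        Set ↑(pullback f g)) = V := by
  have h : W ≤ f ⁻¹ᵁ A := by
    intro w hw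
    show f.base w ∈ (A : Set S)
    rw [← hWA]
    exact ⟨w, hw, rfl⟩
  haveI : IsAffine (A : Scheme.{u}) := hA
  haveI : IsAffine (V : Scheme.{u}) := hV
  haveI : CompactSpace (W : Scheme.{u}) := isCompact_iff_compactSpace.mp hWc
  haveI : QuasiCompact (f.resLE A W h) := qc_of_compact _
  constructor
  · have hr := Scheme.Pullback.range_map (f.resLE A W h) (g.resLE A V hVA) f g W.ι V.ι A.ι
      (Scheme.Hom.resLE_comp_ι _ _) (Scheme.Hom.resLE_comp_ι _ _)
    have : ((pullback.fst f g ⁻¹ᵁ W ⊓ pullback.snd f g ⁻¹ᵁ V : (pullback f g).Opens) :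
      Set ↑(pullback f g)) = Set.range (pullback.map (f.resLE A W h) (g.resLE A V hVA) f g W.ι V.ι
        A.ι (Scheme.Hom.resLE_comp_ι _ _) (Scheme.Hom.resLE_comp_ι _ _)) := by
      rw [hr]
      simp
    rw [this]
    exact isCompact_range (Scheme.Hom.continuous _)
  · apply subset_antisymm
    · rintro _ ⟨z, ⟨-, hz⟩, rfl⟩
      exact hz
    · intro t ht
      have hgt : g.base t ∈ f.base '' (W : Set S') := by
        rw [hWA]
        exact hVA ht
      obtain ⟨w, hw, hwt⟩ := hgt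
      obtain ⟨z, hz1, hz2⟩ := Scheme.Pullback.exists_preimage_pullback (f := f) (g := g) w t hwt
      refine ⟨z, ⟨?_, ?_⟩, hz2⟩
      · show (pullback.fst f g).base z ∈ (W : Set S')
        rw [hz1]; exact hw
      · show (pullback.snd f g).base z ∈ (V : Set T)
        rw [hz2]; exact ht

/-- (2) base change. -/
theorem isFpqcCov_snd {T : Scheme.{u}} (f : S' ⟶ S) (g : T ⟶ S) (hf : IsFpqcCov f) :
    IsFpqcCov (pullback.snd f g) := by
  obtain ⟨hfl, hsj, hcov⟩ := hf
  refine ⟨inferInstance, inferInstance, ?_⟩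
  intro V hV
  have key : ∀ t : V, ∃ (Vt : T.Opens) (Ω : (pullback f g).Opens), t.1 ∈ Vt ∧ Vt ≤ V ∧
      IsCompact (Ω : Set ↑(pullback f g)) ∧
      (pullback.snd f g).base '' (Ω : Set ↑(pullback f g)) = Vt := by
    rintro ⟨t, ht⟩
    obtain ⟨_, ⟨A₀, hA, rfl⟩, hsA, -⟩ := S.isBasis_affineOpens.exists_subset_of_mem_open
      (show g.base t ∈ (⊤ : S.Opens) from trivial) (⊤ : S.Opens).2
    let A : S.Opens := A₀
    obtain ⟨_, ⟨V₀, hV₀, rfl⟩, htV₀, hle⟩ := T.isBasis_affineOpens.exists_subset_of_mem_open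
      (show t ∈ (V ⊓ g ⁻¹ᵁ A : T.Opens) from ⟨ht, hsA⟩) (V ⊓ g ⁻¹ᵁ A : T.Opens).2
    let Vt : T.Opens := V₀
    obtain ⟨W, hWc, hWA⟩ := hcov A hA
    have hle' : Vt ≤ V ⊓ g ⁻¹ᵁ A := hle
    obtain ⟨h1, h2⟩ := exists_compact_chart f g A hA W hWc hWA Vt hV₀ (hle'.trans inf_le_right)
    exact ⟨Vt, _, htV₀, hle'.trans inf_le_left, h1, h2⟩
  choose Vt Ω h1 h2 h3 h4 using key
  obtain ⟨s, hs⟩ := hV.isCompact.elim_finite_subcover (fun t : V => (Vt t : Set T))
    (fun t => (Vt t).2) (fun x hx => Set.mem_iUnion.2 ⟨⟨x, hx⟩, h1 _⟩)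
  refine ⟨⨆ t ∈ s, Ω t, ?_, ?_⟩
  · have : ((⨆ t ∈ s, Ω t : (pullback f g).Opens) : Set ↑(pullback f g)) =
        ⋃ t ∈ s, (Ω t : Set ↑(pullback f g)) := by
      simp
    rw [this]
    exact s.finite_toSet.isCompact_biUnion (fun i _ => h3 i)
  · have : ((⨆ t ∈ s, Ω t : (pullback f g).Opens) : Set ↑(pullback f g)) =
        ⋃ t ∈ s, (Ω t : Set ↑(pullback f g)) := by
      simp
    rw [this, Set.image_iUnion₂]
    simp only [h4]
    apply subset_antisymm
    · exact Set.iUnion₂_subset fun t _ => h2 t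
    · exact hs

/-- flat + surjective + quasi-compact morphisms are generalised fpqc coverings. -/
lemma isFpqcCov_of_qc {f : S' ⟶ S} [Flat f] [Surjective f] [QuasiCompact f] : IsFpqcCov f := by
  refine ⟨inferInstance, inferInstance, fun V hV => ⟨f ⁻¹ᵁ V, f.isCompact_preimage hV.isCompact, ?_⟩⟩
  exact Set.image_preimage_eq _ f.surjective

/-- base change, `fst` form. -/
theorem isFpqcCov_fst {T : Scheme.{u}} (g : T ⟶ S) (f : S' ⟶ S) (hf : IsFpqcCov f) :
    IsFpqcCov (pullback.fst g f) := by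
  have : pullback.fst g f = (pullbackSymmetry g f).hom ≫ pullback.snd f g := by simp
  rw [this]
  exact isFpqcCov_comp _ _ isFpqcCov_of_qc (isFpqcCov_snd f g hf)

/-- the basic descent statement: a property which descends along fpqc morphisms and is
Zariski-local on the target descends along the generalised fpqc coverings. -/
theorem descends_of_isPullback (P : MorphismProperty Scheme.{u})
    [P.DescendsAlong (@Surjective ⊓ @Flat ⊓ @QuasiCompact)] [IsZariskiLocalAtTarget P]
    {X' X Y' Y : Scheme.{u}} {p : X' ⟶ X} {v' : X' ⟶ Y'} {v : X ⟶ Y} {q : Y' ⟶ Y}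
    (hq : IsFpqcCov q) (sq : IsPullback v' p q v) (H : P v') : P v := by
  apply IsZariskiLocalAtTarget.of_iSup_eq_top (fun V : Y.affineOpens => V.1)
    (iSup_affineOpens_eq_top Y)
  rintro ⟨V, hV⟩
  obtain ⟨W, h, hWc, hWV, hfl, hsj, hqc⟩ := exists_resLE hq V hV
  have hle : v' ⁻¹ᵁ W ≤ p ⁻¹ᵁ (v ⁻¹ᵁ V) := by
    intro x hx
    show v.base (p.base x) ∈ (V : Set Y)
    have : v.base (p.base x) = q.base (v'.base x) := by
      rw [← Scheme.Hom.comp_apply, ← Scheme.Hom.comp_apply, sq.w]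
    rw [this]
    exact h hx
  have big : IsPullback ((v' ⁻¹ᵁ W).ι ≫ p) (v' ∣_ W) v (W.ι ≫ q) :=
    (isPullback_morphismRestrict v' W).flip.paste_horiz sq.flip
  have hd : IsPullback (v ⁻¹ᵁ V).ι (v ∣_ V) v V.ι := (isPullback_morphismRestrict v V).flip
  have left : IsPullback (p.resLE (v ⁻¹ᵁ V) (v' ⁻¹ᵁ W) hle) (v' ∣_ W) (v ∣_ V)
      (q.resLE V W h) := by
    apply IsPullback.of_right _ _ hd
    · rw [Scheme.Hom.resLE_comp_ι, Scheme.Hom.resLE_comp_ι]
      exact big
    · rw [← cancel_mono V.ι]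
      simp only [Category.assoc, morphismRestrict_ι, Scheme.Hom.resLE_comp_ι]
      rw [Scheme.Hom.resLE_comp_ι_assoc, morphismRestrict_ι_assoc, sq.w]
  exact MorphismProperty.of_isPullback_of_descendsAlong (P := P)
    (Q := @Surjective ⊓ @Flat ⊓ @QuasiCompact) left.flip ⟨⟨hsj, hfl⟩, hqc⟩
    (IsZariskiLocalAtTarget.restrict H W)

/-- the base-change square of `Over.pullback`. -/
lemma isPullback_map (f : S' ⟶ S) {X Y : Over S} (v : X ⟶ Y) :
    IsPullback (pullback.fst X.hom f) ((Over.pullback f).map v).left v.left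
      (pullback.fst Y.hom f) := by
  apply IsPullback.of_bot _ _ (IsPullback.of_hasPullback Y.hom f)
  · have := IsPullback.of_hasPullback X.hom f
    convert this using 1
    · exact pullback.lift_snd _ _ _
    · exact Over.w v
  · exact (pullback.lift_fst _ _ _).symm

/-- (4), generic form. -/
theorem descendsFpqc_of (P : MorphismProperty Scheme.{u})
    [P.DescendsAlong (@Surjective ⊓ @Flat ⊓ @QuasiCompact)] [IsZariskiLocalAtTarget P] :
    DescendsFpqc.{u} P := by
  intro S' S f hf X Y v H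
  exact descends_of_isPullback P (isFpqcCov_fst Y.hom f hf) (isPullback_map f v).flip H

/-- (5), generic form. -/
theorem zariskiLocalOnBase_of (P : MorphismProperty Scheme.{u}) [IsZariskiLocalAtTarget P] :
    ZariskiLocalOnBase.{u} P := by
  intro S X Y v J W hW H
  have hW' : TopologicalSpace.IsOpenCover W := by
    apply TopologicalSpace.IsOpenCover.mk
    rw [eq_top_iff]
    intro s _
    obtain ⟨i, hi⟩ := hW s
    exact TopologicalSpace.Opens.mem_iSup.mpr ⟨i, hi⟩
  let 𝒰 : Y.left.OpenCover := (S.openCoverOfIsOpenCover W hW').pullback₁ Y.hom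
  apply IsZariskiLocalAtTarget.of_openCover 𝒰
  intro i
  have hp := isPullback_map (W i).ι v
  have e : hp.isoPullback.hom ≫ pullback.snd v.left (pullback.fst Y.hom (W i).ι) =
      ((Over.pullback (W i).ι).map v).left := hp.isoPullback_hom_snd
  have H' := H i
  rw [← e, P.cancel_left_of_respectsIso] at H'
  exact H'

set_option backward.isDefEq.respectTransparency.types false in
instance : (MorphismProperty.monomorphisms Scheme.{u}).DescendsAlong
    (@Surjective ⊓ @Flat ⊓ @QuasiCompact) :=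
  MorphismProperty.diagonal_isomorphisms (C := Scheme.{u}) ▸ inferInstance

theorem descendsFpqc_iso : DescendsFpqc.{u} isoProp :=
  descendsFpqc_of (MorphismProperty.isomorphisms Scheme.{u})

theorem descendsFpqc_mono : DescendsFpqc.{u} monoProp :=
  descendsFpqc_of (MorphismProperty.monomorphisms Scheme.{u})

set_option backward.isDefEq.respectTransparency.types false in
theorem descendsFpqc_ff : DescendsFpqc.{u} ffProp := by
  intro S' S f hf X Y v H
  haveI := Groth.Agent.Lib.Helper12.descendsAlong_flat.{u}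
  exact ⟨descendsFpqc_of @Flat f hf v H.1, descendsFpqc_of @Surjective f hf v H.2⟩

theorem zariskiLocalOnBase_iso : ZariskiLocalOnBase.{u} isoProp :=
  zariskiLocalOnBase_of (MorphismProperty.isomorphisms Scheme.{u})

theorem zariskiLocalOnBase_mono : ZariskiLocalOnBase.{u} monoProp :=
  zariskiLocalOnBase_of (MorphismProperty.monomorphisms Scheme.{u})

set_option backward.isDefEq.respectTransparency.types false in
theorem zariskiLocalOnBase_ff : ZariskiLocalOnBase.{u} ffProp := by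
  intro S X Y v J W hW H
  exact ⟨zariskiLocalOnBase_of @Flat v W hW fun i => (H i).1,
    zariskiLocalOnBase_of @Surjective v W hW fun i => (H i).2⟩

/-- **PKG-D** of PROJ:mt-hom. -/
theorem pkgD : PkgD.{u} :=
  ⟨fun _ hf A hA => isOpen_of_preimage hf A hA,
   fun f g hf => isFpqcCov_snd f g hf,
   fun f' f₀ hf' hf => isFpqcCov_comp f' f₀ hf' hf,
   ⟨descendsFpqc_iso, descendsFpqc_mono, descendsFpqc_ff⟩,
   ⟨zariskiLocalOnBase_iso, zariskiLocalOnBase_mono, zariskiLocalOnBase_ff⟩⟩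

end Groth.Agent.R2.H74.MTD
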