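import Groth.Agent.R2.H97MTQ2Spec

/-!
# PROJ:mt-quot phase 2, PKG-I (helper74)

A group `Q` over `S` whose base change along `(⊤ : S.Opens).ι` is split with character group `M` is
itself split: base change the trivialisation back along `S.topIso.inv`, and identify
`bc (S.topIso.inv) (bc ⊤.ι Q) ≅ bc (𝟙 S) Q ≅ Q` as group objects.
-/

set_option autoImplicit false
set_option linter.style.haveILetI false

universe u

open CategoryTheory Limits AlgebraicGeometry MonoidalCategory CartesianMonoidalCategory MonObj GrpObj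

namespace Groth.Agent.R2.H74.MTQ2I

open Groth.Agent.R2.H97.MTSpec Groth.Agent.R2.H97.MTBase Groth.Agent.R2.H97.MTQ2Spec

variable {S : Scheme.{u}}

/-- Base change along the identity, for group objects. -/
noncomputable def bcIdGrp (G : Over S) [GrpObj G] : Grp.mk (Red.bc (𝟙 S) G) ≅ Grp.mk G :=
  ((Functor.mapGrpNatIso (Over.pullbackId (X := S))).app (Grp.mk G)) ≪≫
    (Functor.mapGrpIdIso.app (Grp.mk G))

/-- PKG-I. -/
theorem pkgI : PkgI.{u} := by
  intro S M _ Q _ h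
  obtain ⟨ψ₀⟩ := h
  have ψ : Grp.mk (Red.bc S.topIso.inv (Red.bc (⊤ : S.Opens).ι Q)) ≅ Grp.mk (Red.DS S M) :=
    mapGrpIso S.topIso.inv ψ₀ ≪≫ dsBC S.topIso.inv M
  have e : S.topIso.inv ≫ (⊤ : S.Opens).ι = 𝟙 S := S.toIso_inv_ι
  exact ⟨(bcIdGrp Q).symm ≪≫ bcCongrGrp e.symm Q ≪≫ bcCompGrp S.topIso.inv (⊤ : S.Opens).ι Q ≪≫ ψ⟩

end Groth.Agent.R2.H74.MTQ2I
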