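import Groth.Agent.R2.H97MTQ2Spec
import Groth.Agent.R2.H74MTD

/-!
# PROJ:mt-quot phase 2, PKG-M (helper74)

`SGA3x.IsMultTypeFT` is stable under base change: if `H` over `S` is trivialised Zariski-locally
on a generalised fpqc covering `f : S₁ ⟶ S`, then `bc g H` is trivialised Zariski-locally on the
base-changed covering `pullback.snd f g : S₁ ×_S S' ⟶ S'` (`PkgD`), the trivialisations being
transported by `MTBase.trivBC`.
-/

set_option autoImplicit false
set_option linter.style.haveILetI false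

universe u

open CategoryTheory Limits AlgebraicGeometry MonoidalCategory CartesianMonoidalCategory MonObj GrpObj

namespace Groth.Agent.R2.H74.MTQ2M

open Groth.Agent.R2.H97.MTSpec Groth.Agent.R2.H97.MTBase Groth.Agent.R2.H97.MTQ2Spec

/-- PKG-M. -/
theorem pkgM : PkgM.{u} := by
  intro S' S g H _ hH
  obtain ⟨S₁, f, hflat, hsurj, hcpt, hloc⟩ := hH
  have hf : IsFpqcCov f := ⟨hflat, hsurj, hcpt⟩
  have hf' : IsFpqcCov (pullback.snd f g) := Groth.Agent.R2.H74.MTD.pkgD.2.1 f g hf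
  refine ⟨pullback f g, pullback.snd f g, hf'.1, hf'.2.1, hf'.2.2, fun z => ?_⟩
  obtain ⟨U, hzU, M, instM, hM, ⟨ψ⟩⟩ := hloc ((pullback.fst f g) z)
  refine ⟨(pullback.fst f g) ⁻¹ᵁ U, hzU, M, instM, hM, ⟨?_⟩⟩
  have e : ((pullback.fst f g) ∣_ U) ≫ (U.ι ≫ f) =
      (((pullback.fst f g) ⁻¹ᵁ U).ι ≫ pullback.snd f g) ≫ g := by
    rw [← Category.assoc, morphismRestrict_ι, Category.assoc, Category.assoc, pullback.condition]
  exact (bcCompGrp (((pullback.fst f g) ⁻¹ᵁ U).ι ≫ pullback.snd f g) g H).symm ≪≫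
    trivBC (U.ι ≫ f) ψ ((pullback.fst f g) ∣_ U) _ e

end Groth.Agent.R2.H74.MTQ2M
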