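import Mathlib
import Groth.Agent.R2.H27ProjPerfSpec
import Groth.Agent.R2.H28ExtZeroMono
import Groth.Agent.R2.H4FreeLocus
import Groth.Agent.Lib.Helper1BKF15
import Groth.Agent.Lib.Helper1StalkTensorC
import Groth.Agent.Lib.Helper2LocFree
set_option backward.isDefEq.respectTransparency.types false

/-!
# PROJ:proj-perf, package 5 (helper74): extension by zero of a bounded complex of finite free
modules is K-flat.
-/

set_option autoImplicit false
set_option linter.style.haveILetI false
universe u
open CategoryTheory CategoryTheory.Limits AlgebraicGeometry TopologicalSpace Opposite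
  HomologicalComplex
attribute [local instance] HasDerivedCategory.standard

namespace Groth.Agent.R2.H74.ProjPkg5

open Groth.Agent.R2.H27.ProjPerfSpec Groth.Agent.R2.H28.ExtZeroMono Groth.Agent.R2.H4.FreeLocus
  Groth.Agent.Lib.Helper1.BKF Groth.Agent.Lib.Helper1.StalkTensor Groth.Agent.Lib.Helper2.LocFree
  Groth.Agent.Lib.Helper1.Sky

variable {Y : Scheme.{u}}

/-- the extension by zero of a finite free module is flat. -/
lemma isFlat_extZero_of_free (V : Y.Opens) (M : (V : Scheme.{u}).Modules) (n : ℕ)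
    (e : M ≅ FlatMod.freeMod (V : Scheme.{u}) n) :
    FlatMod.IsFlat ((CxOX.extZero V.ι).obj M) := by
  intro x
  by_cases hx : x ∈ V
  · have h1 : StalkFF M ⟨x, hx⟩ := stalkFF_of_isFinLocFree M (isFinLocFree_of_iso_freeMod M e) _
    have h2 : StalkFF ((Scheme.Modules.restrictFunctor V.ι).obj ((CxOX.extZero V.ι).obj M))
        ⟨x, hx⟩ :=
      stalkFF_of_iso (asIso ((CxOX.extZeroAdj V.ι).unit.app M)) _ h1
    exact isFlatAt_of_stalkFF (stalkFF_of_restrict V.ι _ ⟨x, hx⟩ h2)
  · have hz := isZero_stalk_extZero V x hx M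
    rw [isFlatAt_iff]
    haveI : Subsingleton ((stalkFun x).obj ((CxOX.extZero V.ι).obj M)) :=
      ModuleCat.subsingleton_of_isZero hz
    exact Module.Flat.of_free

/-- **Pkg5** -/
theorem pkg5 : Pkg5.{u} := by
  intro Y V F a b hF hfree
  let K : CochainComplex Y.Modules ℤ :=
    ((CxOX.extZero V.ι).mapHomologicalComplex (ComplexShape.up ℤ)).obj F
  have hflat : ∀ i : ℤ, FlatMod.IsFlat (K.X i) := by
    intro i
    obtain ⟨n, ⟨e⟩⟩ := hfree i
    exact isFlat_extZero_of_free V (F.X i) n e
  have hflat' : ∀ i, ModSite.IsFlat (O := Y.sheaf) (K.X i) :=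
    fun i => modSite_isFlat_of_isFlat _ (hflat i)
  have hle : K.IsStrictlyLE b := by
    rw [CochainComplex.isStrictlyLE_iff]
    intro i hi
    exact (CxOX.extZero V.ι).map_isZero (hF i (Or.inr hi))
  exact isKFlat_of_bounded_above_flat (O := Y.sheaf) K hflat' b hle

end Groth.Agent.R2.H74.ProjPkg5
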