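import Mathlib

/-!
# PROJ:smooth-boot (helper59), PKG-C (helper74)

A jointly monic pair `s t : R ⟶ X` of morphisms of schemes: on affine charts `V ⊆ s⁻¹W ∩ t⁻¹W` the
module of differentials of `Γ(R, V)` over `Γ(X, W)` (structure through `s`) is spanned by the
differentials of the sections pulled back along `t`.

Ring level: if `B → C` (structure map) and `τ : B → C` are jointly epimorphic (ring maps out of `C`
are determined by their composites with the two maps), then `C` is formally unramified over the
`B`-subalgebra `B' = B[τ(B)]` of `C`, so `C ⊗_{B'} Ω[B'/B] → Ω[C/B]` is onto, and `Ω[B'/B]` is spanned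
by the `d τ(b)`.
-/

set_option autoImplicit false
set_option linter.style.haveILetI false

universe u

open CategoryTheory Limits AlgebraicGeometry TensorProduct KaehlerDifferential

namespace Groth.Agent.R2.H74.SBC

/-- Ring level form of PKG-C. -/
theorem span_D_range_eq_top {B C : Type u} [CommRing B] [CommRing C] [Algebra B C] (τ : B →+* C)
    (H : ∀ (A : Type u) [CommRing A] (φ₁ φ₂ : C →+* A),
      φ₁.comp (algebraMap B C) = φ₂.comp (algebraMap B C) → φ₁.comp τ = φ₂.comp τ → φ₁ = φ₂) :
    Submodule.span C (D B C '' Set.range τ) = ⊤ := by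
  set N := Submodule.span C (D B C '' Set.range τ) with hN
  let B' : Subalgebra B C := Algebra.adjoin B (Set.range τ)
  -- `D x ∈ N` for `x ∈ B'`
  have hD : ∀ x ∈ B', D B C x ∈ N := by
    intro x hx
    induction hx using Algebra.adjoin_induction with
    | mem x hx => exact Submodule.subset_span ⟨x, hx, rfl⟩
    | algebraMap b => simp
    | add x y _ _ hx hy => rw [map_add]; exact N.add_mem hx hy
    | mul x y _ _ hx hy =>
      rw [Derivation.leibniz]
      exact N.add_mem (N.smul_mem _ hy) (N.smul_mem _ hx)
  -- `C` is formally unramified over `B'`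
  haveI : Algebra.FormallyUnramified B' C := by
    rw [Algebra.FormallyUnramified.iff_comp_injective]
    intro A _ _ I hI φ₁ φ₂ _
    have h12 : (φ₁ : C →+* A) = (φ₂ : C →+* A) := by
      refine H A _ _ ?_ ?_
      · ext b
        have h1 := φ₁.commutes (algebraMap B B' b)
        have h2 := φ₂.commutes (algebraMap B B' b)
        change φ₁ (algebraMap B C b) = φ₂ (algebraMap B C b)
        have e : algebraMap B' C (algebraMap B B' b) = algebraMap B C b := rfl
        rw [← e, h1, h2]
      · ext b
        have hb : τ b ∈ B' := Algebra.subset_adjoin ⟨b, rfl⟩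
        have h1 := φ₁.commutes (⟨τ b, hb⟩ : B')
        have h2 := φ₂.commutes (⟨τ b, hb⟩ : B')
        change φ₁ (τ b) = φ₂ (τ b)
        have e : algebraMap B' C ⟨τ b, hb⟩ = τ b := rfl
        rw [← e, h1, h2]
    exact AlgHom.coe_ringHom_injective h12
  -- the first fundamental sequence
  have hsurj : LinearMap.range (KaehlerDifferential.mapBaseChange B B' C) = ⊤ := by
    rw [KaehlerDifferential.range_mapBaseChange, LinearMap.ker_eq_top]
    exact Subsingleton.elim _ _
  rw [eq_top_iff, ← hsurj]
  rintro _ ⟨x, rfl⟩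
  induction x with
  | zero => simp
  | add x y hx hy => rw [map_add]; exact N.add_mem hx hy
  | tmul c ω =>
    rw [KaehlerDifferential.mapBaseChange_tmul]
    refine N.smul_mem _ ?_
    have hω : ω ∈ Submodule.span B' (Set.range (D B B')) := by
      rw [KaehlerDifferential.span_range_derivation]; trivial
    induction hω using Submodule.span_induction with
    | mem ω hω =>
      obtain ⟨x, rfl⟩ := hω
      rw [KaehlerDifferential.map_D]
      exact hD _ x.2
    | zero => simp
    | add ω ω' _ _ h1 h2 => rw [map_add]; exact N.add_mem h1 h2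
    | smul b ω _ h1 =>
      rw [map_smul, ← algebraMap_smul C b]
      exact N.smul_mem _ h1

/-- PKG-C. -/
theorem pkgC {X R : Scheme.{u}} (s t : R ⟶ X)
    (hmono : ∀ ⦃T : Scheme.{u}⦄ (a b : T ⟶ R), a ≫ s = b ≫ s → a ≫ t = b ≫ t → a = b)
    (W : X.Opens) (hW : IsAffineOpen W) (V : R.Opens) (hV : IsAffineOpen V)
    (hs : V ≤ s ⁻¹ᵁ W) (ht : V ≤ t ⁻¹ᵁ W) :
    letI := (s.appLE W V hs).hom.toAlgebra
    Submodule.span Γ(R, V) (D Γ(X, W) Γ(R, V) '' Set.range (t.appLE W V ht).hom) = ⊤ := by
  letI := (s.appLE W V hs).hom.toAlgebra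
  refine span_D_range_eq_top (t.appLE W V ht).hom fun A _ φ₁ φ₂ h1 h2 => ?_
  have key : Spec.map (CommRingCat.ofHom φ₁) ≫ hV.fromSpec =
      Spec.map (CommRingCat.ofHom φ₂) ≫ hV.fromSpec := by
    apply hmono
    · rw [Category.assoc, Category.assoc, ← hW.SpecMap_appLE_fromSpec s hV hs,
        ← Spec.map_comp_assoc, ← Spec.map_comp_assoc]
      congr 2
      ext b
      exact DFunLike.congr_fun h1 b
    · rw [Category.assoc, Category.assoc, ← hW.SpecMap_appLE_fromSpec t hV ht,
        ← Spec.map_comp_assoc, ← Spec.map_comp_assoc]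
      congr 2
      ext b
      exact DFunLike.congr_fun h2 b
  have h3 : Spec.map (CommRingCat.ofHom φ₁) = Spec.map (CommRingCat.ofHom φ₂) :=
    (cancel_mono hV.fromSpec).1 key
  have h4 := Spec.map_injective h3
  exact congrArg CommRingCat.Hom.hom h4

end Groth.Agent.R2.H74.SBC
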