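import Mathlib
import Groth.Agent.R2.H70StabSpec
import Groth.Agent.R2.H74StabHNC

/-!
# Rows S15191 and S15199 of the `ShStab` cluster against `PkgCtx` (helper74, PROJ:shstab, PKG-HN)

`s15199_of (hctx : PkgCtx)` is the frozen statement S15199; `s15191_of (hctx : PkgCtx) (hmd : MDGeom)` is the
frozen statement S15191, where `MDGeom` is (verbatim) the frozen statement S15200 (existence of the maximal
destabilising submodule, PKG-MD).
-/

set_option autoImplicit false

universe u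

open CategoryTheory CategoryTheory.Limits AlgebraicGeometry Polynomial

namespace Groth.Agent.R2.H74.StabHNRows

open Groth.Agent.R2.H70.StabCtx Groth.Agent.R2.H70.StabSpec Groth.Agent.R2.H74.StabHN

/-- the frozen statement S15200 -/
def MDGeom : Prop :=
  ∀ (k : Type u) [Field k] (X : Scheme.{u})
    [X.Over (Spec (CommRingCat.of k))] [IsProper (X ↘ Spec (CommRingCat.of k))]
    (L : X.Modules) (_ : CohB1.IsAmple L) (d : ℕ) (E : X.Modules)
    (_ : Coh.IsCoh E) (_ : ¬ IsZero E) (_ : ShStab.IsPure X E d),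
    ∃ (F : X.Modules) (ι : F ⟶ E), ShStab.IsMaxDestab k X L E d F ι

theorem s15199_of (hctx : PkgCtx.{u}) (k : Type u) [Field k] (X : Scheme.{u})
    [X.Over (Spec (CommRingCat.of k))] [IsProper (X ↘ Spec (CommRingCat.of k))]
    (L : X.Modules) (hL : CohB1.IsAmple L) (d : ℕ) (F G : X.Modules)
    (_hF : Coh.IsCoh F) (_hF0 : ¬ IsZero F) (_hFp : ShStab.IsPure X F d)
    (_hG : Coh.IsCoh G) (_hG0 : ¬ IsZero G) (_hGp : ShStab.IsPure X G d)
    (s : LTSeries (Subobject F)) (hs : ShStab.IsHNFiltration k X L F d s)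
    (t : LTSeries (Subobject G)) (ht : ShStab.IsHNFiltration k X L G d t)
    (i : Fin s.length) (hi : i.val + 1 = s.length) (j : Fin t.length) (hj : j.val = 0)
    (pmin pmax : ℚ[X]) (hpmin : ShStab.IsHilbPoly k X L (StabCat.factor s i) pmin)
    (hpmax : ShStab.IsHilbPoly k X L (StabCat.factor t j) pmax)
    (hlt : StabCat.RedLT d pmax pmin) (φ : F ⟶ G) : φ = 0 := by
  obtain ⟨Γ⟩ := hctx k X L hL
  have hs' := (isHNWith_iff Γ.H d s).1 ((Γ.isHNFiltration_iff F d s).2 hs)
  have ht' := (isHNWith_iff Γ.H d t).1 ((Γ.isHNFiltration_iff G d t).2 ht)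
  have h1 : Γ.H.HP (StabCat.factor s i) pmin := by rw [Γ.HP_eq]; exact hpmin
  have h2 : Γ.H.HP (StabCat.factor t j) pmax := by rw [Γ.HP_eq]; exact hpmax
  exact hom_eq_zero_of_pmin_gt_pmax hs' ht' i hi j hj h1 h2 hlt φ

theorem s15191_of (hctx : PkgCtx.{u}) (hmd : MDGeom.{u}) (k : Type u) [Field k] (X : Scheme.{u})
    [X.Over (Spec (CommRingCat.of k))] [IsProper (X ↘ Spec (CommRingCat.of k))]
    (L : X.Modules) (hL : CohB1.IsAmple L) (d : ℕ) (E : X.Modules)
    (hE : Coh.IsCoh E) (h0 : ¬ IsZero E) (hp : ShStab.IsPure X E d) :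
    ∃! s : LTSeries (Subobject E), ShStab.IsHNFiltration k X L E d s := by
  obtain ⟨Γ⟩ := hctx k X L hL
  have hMD : MDStmt Γ.H d := by
    intro E' hE' h0' hp'
    have hE'' : Coh.IsCoh E' := by rw [← Γ.ok_eq]; exact hE'
    obtain ⟨F, ι, h⟩ := hmd k X L hL d E' hE'' h0' ((Γ.isPure_iff E' d).1 hp')
    exact ⟨F, ι, (Γ.isMaxDestab_iff E' d F ι).2 h⟩
  have hE' : Γ.H.ok E := by rw [Γ.ok_eq]; exact hE
  have := existsUnique_isHN hMD hE' h0 ((Γ.isPure_iff E d).2 hp)
  exact (existsUnique_congr (fun s => Γ.isHNFiltration_iff E d s)).1 this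

end Groth.Agent.R2.H74.StabHNRows
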