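import Mathlib
import Groth.Agent.R2.H32StabMD
import Groth.Agent.R2.H74StabHNRows

/-!
# S15191 against `PkgCtx` alone (helper74, PROJ:shstab): PKG-HN + PKG-MD (helper32)
-/

set_option autoImplicit false

universe v u

open CategoryTheory CategoryTheory.Limits AlgebraicGeometry Polynomial

namespace Groth.Agent.R2.H74.StabHNFinal

open Groth.Agent.R2.H70.StabCtx Groth.Agent.R2.H70.StabSpec Groth.Agent.R2.H74.StabHN
  Groth.Agent.R2.H74.StabHNRows

/-- PKG-MD (helper32) in the form used by PKG-HN -/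
theorem mdStmt {C : Type u} [Category.{v} C] [Abelian C] (H : HilbCtx C) (d : ℕ) : MDStmt H d :=
  fun _ hE h0 hp => Groth.Agent.R2.H32.StabMD.exists_isMaxDestab H hE hp h0

/-- abstract Harder–Narasimhan theorem, no hypothesis left -/
theorem existsUnique_isHN' {C : Type u} [Category.{v} C] [Abelian C] (H : HilbCtx C) {d : ℕ} {E : C}
    (hE : H.ok E) (h0 : ¬ IsZero E) (hp : H.IsPure E d) :
    ∃! s : LTSeries (Subobject E), StabCat.IsHNWith (fun G => H.IsSemistable G d) H.HP d E s :=
  existsUnique_isHN (mdStmt H d) hE h0 hp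

/-- the frozen statement S15191 from `PkgCtx` -/
theorem s15191_of (hctx : PkgCtx.{u}) (k : Type u) [Field k] (X : Scheme.{u})
    [X.Over (Spec (CommRingCat.of k))] [IsProper (X ↘ Spec (CommRingCat.of k))]
    (L : X.Modules) (hL : CohB1.IsAmple L) (d : ℕ) (E : X.Modules)
    (hE : Coh.IsCoh E) (h0 : ¬ IsZero E) (hp : ShStab.IsPure X E d) :
    ∃! s : LTSeries (Subobject E), ShStab.IsHNFiltration k X L E d s :=
  Groth.Agent.R2.H74.StabHNRows.s15191_of hctx (Groth.Agent.R2.H32.StabMD.s15200_of hctx)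
    k X L hL d E hE h0 hp

end Groth.Agent.R2.H74.StabHNFinal
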