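import Groth.Agent.R2.H75OrdTensor
import Groth.Statements.S6454

/-!
# `c₁(L) ∩ α + c₁(N) ∩ α ∼ c₁(L ⊗ N) ∩ α` (helper75)

* `ordFrac_zpow`, `ordAt_zpow`, `divFun_zpow`;
* `secOrdAt_frame`, `mk_frame_eq_zero_iff` : `Cyc.secOrdAt` of a section written in a frame at `ξ`, computed in
  a frame at `x`;
* `exists_ratio` : two nonzero rational sections of an invertible module differ by a nonzero rational function;
* `main` : the statement of S6454.
-/

set_option autoImplicit false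

universe u v

namespace Groth.Agent.R2.H75.C1Cap

open Groth.Agent.R2.H75.OrdTensor

section OrdFrac

variable (R : Type u) [CommRing R] (K : Type v) [Field K] [Algebra R K]

theorem ordFrac_zpow {f : K} (hf : f ≠ 0) (n : ℤ) :
    CycAlg.ordFrac R K (f ^ n) = n * CycAlg.ordFrac R K f := by
  classical
  unfold CycAlg.ordFrac
  split_ifs with h
  · have := h.1; have := h.2.1; have := h.2.2.1; have := h.2.2.2
    rw [map_zpow₀]
    have hf' : Ring.ordFrac R f ≠ 0 := by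
      rw [ne_eq, map_eq_zero]; exact hf
    obtain ⟨a, ha⟩ := WithZero.ne_zero_iff_exists.mp hf'
    rw [← ha, ← WithZero.coe_zpow, WithZero.recZeroCoe_coe, WithZero.recZeroCoe_coe, toAdd_zpow,
      smul_eq_mul]
  · simp

end OrdFrac

section Frames

open AlgebraicGeometry CategoryTheory TopologicalSpace
open Groth.Agent.Lib.Helper23.SecTw Groth.Agent.Lib.Helper6

variable {X : Scheme.{u}}

theorem ordAt_zpow (x ξ : X) (h : ξ ⤳ x) {f : X.residueField ξ} (hf : f ≠ 0) (n : ℤ) :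
    Cyc.ordAt x ξ h (f ^ n) = n * Cyc.ordAt x ξ h f :=
  ordFrac_zpow _ _ hf n

/-- `secOrdAt` of a section written in a frame at `ξ`, computed in a frame at `x`. -/
theorem secOrdAt_frame (M : X.Modules) {W V₀ : X.Opens} {e : Γ(M, W)} (he : IsGen M W e)
    (e₀ : Γ(M, V₀)) (ξ x : X) (h : ξ ⤳ x) (hx : x ∈ W) (hξ0 : ξ ∈ V₀)
    (a : X.presheaf.stalk ξ) :
    Cyc.secOrdAt M ξ x h (Submodule.Quotient.mk (a • M.presheaf.germ V₀ ξ hξ0 e₀)) =
      Cyc.ordAt x ξ h (X.residue ξ (a * X.presheaf.germ (W ⊓ V₀) ξ ⟨h.mem_open W.isOpen hx, hξ0⟩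
        (coef he (inf_le_left : W ⊓ V₀ ≤ W) (res M (inf_le_right : W ⊓ V₀ ≤ V₀) e₀)))) := by
  have hξW : ξ ∈ W := h.mem_open W.isOpen hx
  exact secOrdAt_eq M ξ x h (M.presheaf.germ W x hx e)
    (bijective_germ_of_isGen M W e he x hx)
    (by rw [sp_germ]; exact bijective_germ_of_isGen M W e he ξ hξW) _ _
    (by rw [sp_germ, germ_eq_coef_smul M he e₀ ξ hξW hξ0, smul_smul, Submodule.Quotient.mk_smul])

/-- In the same situation, the section is zero iff its coefficient is in the maximal ideal. -/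
theorem mk_frame_eq_zero_iff (M : X.Modules) {W V₀ : X.Opens} {e : Γ(M, W)} (he : IsGen M W e)
    (e₀ : Γ(M, V₀)) (ξ : X) (hξW : ξ ∈ W) (hξ0 : ξ ∈ V₀) (a : X.presheaf.stalk ξ) :
    (Submodule.Quotient.mk (a • M.presheaf.germ V₀ ξ hξ0 e₀) : Cyc.secFibre M ξ) = 0 ↔
      a * X.presheaf.germ (W ⊓ V₀) ξ ⟨hξW, hξ0⟩
        (coef he (inf_le_left : W ⊓ V₀ ≤ W) (res M (inf_le_right : W ⊓ V₀ ≤ V₀) e₀)) ∈
        IsLocalRing.maximalIdeal (X.presheaf.stalk ξ) := by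
  rw [germ_eq_coef_smul M he e₀ ξ hξW hξ0, smul_smul, Submodule.Quotient.mk_smul]
  exact mk_eq_zero_iff M ξ _ (bijective_germ_of_isGen M W e he ξ hξW) _

/-- Two nonzero rational sections of an invertible module differ by a nonzero rational function. -/
theorem exists_ratio (M : X.Modules) (hM : PicF.IsInvertible M) (ξ : X)
    (w w' : Cyc.secFibre M ξ) (hw : w ≠ 0) (hw' : w' ≠ 0) :
    ∃ u : X.residueField ξ, u ≠ 0 ∧ ∀ (x : X) (h : ξ ⤳ x),
      Cyc.secOrdAt M ξ x h w' = Cyc.ordAt x ξ h u + Cyc.secOrdAt M ξ x h w := by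
  obtain ⟨V₀, e₀, hξ0, he₀⟩ := exists_gen M hM ξ
  have hγ₀ := bijective_germ_of_isGen M V₀ e₀ he₀ ξ hξ0
  obtain ⟨σ, rfl⟩ := Submodule.Quotient.mk_surjective _ w
  obtain ⟨σ', rfl⟩ := Submodule.Quotient.mk_surjective _ w'
  obtain ⟨a, rfl⟩ : ∃ a : X.presheaf.stalk ξ, a • M.presheaf.germ V₀ ξ hξ0 e₀ = σ := hγ₀.2 σ
  obtain ⟨a', rfl⟩ : ∃ a' : X.presheaf.stalk ξ, a' • M.presheaf.germ V₀ ξ hξ0 e₀ = σ' := hγ₀.2 σ'
  have ham := mk_ne_zero_coef M ξ _ hγ₀ a hw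
  have ham' := mk_ne_zero_coef M ξ _ hγ₀ a' hw'
  have hau : IsUnit a := IsLocalRing.notMem_maximalIdeal.mp ham
  have hau' : IsUnit a' := IsLocalRing.notMem_maximalIdeal.mp ham'
  obtain ⟨b, hb⟩ := hau.exists_left_inv
  have hvu : IsUnit (a' * b) := hau'.mul (IsUnit.of_mul_eq_one a hb)
  refine ⟨X.residue ξ (a' * b), ?_, ?_⟩
  · rw [ne_eq, residue_eq_zero_iff]
    exact IsLocalRing.notMem_maximalIdeal.mpr hvu
  · intro x h
    obtain ⟨W, e, hx, he⟩ := exists_gen M hM x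
    rw [secOrdAt_frame M he e₀ ξ x h hx hξ0 a, secOrdAt_frame M he e₀ ξ x h hx hξ0 a']
    set c := X.presheaf.germ (W ⊓ V₀) ξ ⟨h.mem_open W.isOpen hx, hξ0⟩
        (coef he (inf_le_left : W ⊓ V₀ ≤ W) (res M (inf_le_right : W ⊓ V₀ ≤ V₀) e₀)) with hc
    have h1 : a' * c = (a' * b) * (a * c) := by
      have : a' * b * (a * c) = a' * (b * a) * c := by ring
      rw [this, hb, mul_one]
    rw [h1, map_mul]
    apply ordAt_mul
    · rw [ne_eq, residue_eq_zero_iff]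
      exact IsLocalRing.notMem_maximalIdeal.mpr hvu
    · rw [ne_eq, residue_eq_zero_iff]
      intro hmem
      exact hw ((mk_frame_eq_zero_iff M he e₀ ξ (h.mem_open W.isOpen hx) hξ0 a).mpr hmem)

end Frames

section Main

open AlgebraicGeometry CategoryTheory TopologicalSpace
open Groth.Agent.Lib.Helper23.SecTw

variable {X : Scheme.{u}}

theorem divFun_zpow (δ : X → ℤ) (ξ : X) {f : X.residueField ξ} (hf : f ≠ 0) (n : ℤ) (x : X) :
    Cyc.divFun δ ξ (f ^ n) x = n * Cyc.divFun δ ξ f x := by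
  unfold Cyc.divFun
  split_ifs with h
  · exact ordAt_zpow x ξ h.1 hf n
  · simp

/-- The finiteness of the set of points of the support of a cycle specializing to `x`. -/
theorem finite_specializing (α : AlgebraicCycle X ℤ) (x : X) :
    {ξ : X | α ξ ≠ 0 ∧ ξ ⤳ x}.Finite := by
  obtain ⟨t, ht, hfin⟩ := α.supportLocallyFiniteWithinDomain x (Set.mem_univ x)
  refine hfin.subset ?_
  rintro ξ ⟨hξ, hsp⟩
  exact ⟨mem_of_mem_nhds (hsp ht), hξ⟩

theorem main (δ : X → ℤ) (L N : X.Modules)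
    (hL : PicF.IsInvertible L) (hN : PicF.IsInvertible N) (k : ℤ) (α : AlgebraicCycle X ℤ)
    (hα : α ∈ Cyc.Zk X δ (k + 1)) (sL : (ξ : X) → Cyc.secFibre L ξ) (hsL : ∀ ξ, sL ξ ≠ 0)
    (sN : (ξ : X) → Cyc.secFibre N ξ) (hsN : ∀ ξ, sN ξ ≠ 0)
    (sT : (ξ : X) → Cyc.secFibre (CohB1.tensorMod L N) ξ) (hsT : ∀ ξ, sT ξ ≠ 0)
    (γL γN γT : AlgebraicCycle X ℤ) (hγL : ⇑γL = Cyc.c1CapFun δ L ⇑α sL)
    (hγN : ⇑γN = Cyc.c1CapFun δ N ⇑α sN)
    (hγT : ⇑γT = Cyc.c1CapFun δ (CohB1.tensorMod L N) ⇑α sT) :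
    Cyc.RatEquiv δ k (γL + γN) γT := by
  classical
  have hT : PicF.IsInvertible (CohB1.tensorMod L N) := isInvertible_tensorMod hL hN
  -- the ratio functions
  have hu : ∀ ξ : X, ∃ u : X.residueField ξ, u ≠ 0 ∧ ∀ (x : X) (h : ξ ⤳ x),
      Cyc.secOrdAt (CohB1.tensorMod L N) ξ x h (sT ξ) =
        Cyc.ordAt x ξ h u + (Cyc.secOrdAt L ξ x h (sL ξ) + Cyc.secOrdAt N ξ x h (sN ξ)) := by
    intro ξ
    obtain ⟨w, hw, hwo⟩ := exists_tensor_section L N hL hN ξ (sL ξ) (hsL ξ) (sN ξ) (hsN ξ)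
    obtain ⟨u, hu0, huo⟩ := exists_ratio _ hT ξ w (sT ξ) hw (hsT ξ)
    exact ⟨u, hu0, fun x h => by rw [huo x h, hwo x h]⟩
  choose u hu0 huo using hu
  have hdiv : ∀ ξ x, Cyc.secDivFun δ (CohB1.tensorMod L N) ξ (sT ξ) x =
      Cyc.divFun δ ξ (u ξ) x + (Cyc.secDivFun δ L ξ (sL ξ) x + Cyc.secDivFun δ N ξ (sN ξ) x) := by
    intro ξ x
    unfold Cyc.secDivFun Cyc.divFun
    split_ifs with h
    · exact huo ξ x h.1
    · simp
  refine ⟨{ξ : X // α ξ ≠ 0}, fun i => i.1, fun i => (u i.1) ^ (-(α i.1)), ?_, ?_, ?_, ?_⟩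
  · intro i
    by_contra hne
    exact i.2 (hα i.1 hne)
  · intro i
    exact zpow_ne_zero _ (hu0 i.1)
  · intro x
    obtain ⟨t, ht, hfin⟩ := α.supportLocallyFiniteWithinDomain x (Set.mem_univ x)
    obtain ⟨U, hUt, hUo, hxU⟩ := mem_nhds_iff.mp ht
    refine ⟨U, hUo, hxU, ?_⟩
    have hfin' : (Subtype.val ⁻¹' (t ∩ Function.support ⇑α) : Set {ξ : X // α ξ ≠ 0}).Finite :=
      hfin.preimage Subtype.val_injective.injOn
    refine hfin'.subset ?_
    rintro i ⟨y, hy, hyU⟩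
    have hsp : i.1 ⤳ y := specializes_iff_mem_closure.mpr hy
    exact ⟨hUt (hsp.mem_open hUo hyU), i.2⟩
  · intro x
    have hfs : ∀ (M : X.Modules) (s : (ξ : X) → Cyc.secFibre M ξ),
        (Function.support fun ξ => α ξ * Cyc.secDivFun δ M ξ (s ξ) x).Finite := by
      intro M s
      refine (finite_specializing α x).subset ?_
      intro ξ hξ
      rw [Function.mem_support] at hξ
      refine ⟨fun h0 => hξ (by rw [h0, zero_mul]), ?_⟩
      by_contra hns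
      apply hξ
      unfold Cyc.secDivFun
      rw [dif_neg (fun h => hns h.1), mul_zero]
    have e1 : (γL + γN - γT) x = ∑ᶠ ξ, (α ξ * Cyc.secDivFun δ L ξ (sL ξ) x +
        α ξ * Cyc.secDivFun δ N ξ (sN ξ) x -
        α ξ * Cyc.secDivFun δ (CohB1.tensorMod L N) ξ (sT ξ) x) := by
      rw [finsum_sub_distrib, finsum_add_distrib (hfs L sL) (hfs N sN)]
      · change γL x + γN x - γT x = _
        rw [hγL, hγN, hγT]
        rfl
      · exact ((hfs L sL).union (hfs N sN)).subset (Function.support_add _ _)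
      · exact hfs _ sT
    rw [e1]
    have e2 : ∀ ξ, (α ξ * Cyc.secDivFun δ L ξ (sL ξ) x +
        α ξ * Cyc.secDivFun δ N ξ (sN ξ) x -
        α ξ * Cyc.secDivFun δ (CohB1.tensorMod L N) ξ (sT ξ) x) =
        Cyc.divFun δ ξ ((u ξ) ^ (-(α ξ))) x := by
      intro ξ
      rw [hdiv, divFun_zpow δ ξ (hu0 ξ)]
      ring
    rw [finsum_congr e2, finsum_subtype_eq_finsum_cond
      (f := fun ξ => Cyc.divFun δ ξ ((u ξ) ^ (-(α ξ))) x) (fun ξ => α ξ ≠ 0)]
    apply finsum_congr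
    intro ξ
    rw [finsum_eq_if]
    by_cases h0 : α ξ = 0
    · rw [if_neg (not_not.mpr h0), h0, neg_zero, zpow_zero]
      unfold Cyc.divFun
      split_ifs with h
      · have := ordAt_zpow x ξ h.1 (one_ne_zero) (0 : ℤ)
        rw [zpow_zero, zero_mul] at this
        exact this
      · rfl
    · rw [if_pos h0]

end Main

end Groth.Agent.R2.H75.C1Cap
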