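import Mathlib
import Groth.Agent.S15988
import Groth.Agent.R2.H56AffDefAlg

/-!
# First-order deformations of a smooth affine scheme with marked points are trivial (helper75)

* algebra: `exists_section`, `liftBaseChange_bijective`, `isPushout_of_section`, `exists_section_marked`
  (a flat `k[ε]`-algebra `A'` with `A'/ε = A` smooth over `k` is `A ⊗ k[ε]`, compatibly with marked points,
  using S15988);
* `ring_version` (in `CommRingCat`), `scheme_version` (affine schemes): a retraction `r : X' ⟶ X` making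
  `X' = X ×_k k[ε]`.
-/

set_option autoImplicit false

universe u v

namespace Groth.Agent.R2.H75.DeformTriv

open TrivSqZeroExt DualNumber TensorProduct

section Alg

variable {k : Type u} [Field k] {A A' : Type u} [CommRing A] [CommRing A'] [Algebra k A]
  [Algebra (DualNumber k) A'] [Algebra k A'] [IsScalarTower k (DualNumber k) A']
  (c : A' →ₐ[k] A)

omit [IsScalarTower k (DualNumber k) A'] in
theorem ker_sq_eq_bot (hker : ∀ y, c y = 0 → ∃ y', y = (ε : DualNumber k) • y') :
    RingHom.ker (c : A' →+* A) ^ 2 = ⊥ := by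
  rw [pow_two, eq_bot_iff, Ideal.mul_le]
  intro r hr s hs
  obtain ⟨r', rfl⟩ := hker r hr
  obtain ⟨s', rfl⟩ := hker s hs
  have : (ε : DualNumber k) • r' * (ε : DualNumber k) • s' = 0 := by
    rw [Algebra.smul_def, Algebra.smul_def, mul_mul_mul_comm, ← map_mul, DualNumber.eps_mul_eps,
      map_zero, zero_mul]
  rw [this]
  exact Submodule.zero_mem _

/-- A section of `c` exists by formal smoothness. -/
theorem exists_section [Algebra.FormallySmooth k A] (hc : Function.Surjective c)
    (hker : ∀ y, c y = 0 → ∃ y', y = (ε : DualNumber k) • y') :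
    ∃ σ : A →ₐ[k] A', ∀ a, c (σ a) = a := by
  have hnil : IsNilpotent (RingHom.ker (c : A' →+* A)) := ⟨2, ker_sq_eq_bot c hker⟩
  exact ⟨Algebra.FormallySmooth.liftOfSurjective (AlgHom.id k A) c hc hnil, fun a =>
    Algebra.FormallySmooth.liftOfSurjective_apply (AlgHom.id k A) c hc hnil a⟩

theorem tensor_decomp (t : DualNumber k ⊗[k] A) :
    ∃ a b : A, t = (1 : DualNumber k) ⊗ₜ[k] a + (ε : DualNumber k) ⊗ₜ[k] b := by
  induction t using TensorProduct.induction_on with
  | zero => exact ⟨0, 0, by simp⟩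
  | tmul x a =>
    refine ⟨x.fst • a, x.snd • a, ?_⟩
    have hx : x = x.fst • (1 : DualNumber k) + x.snd • (ε : DualNumber k) := by
      apply TrivSqZeroExt.ext <;> simp
    conv_lhs => rw [hx]
    rw [TensorProduct.add_tmul, TensorProduct.smul_tmul, TensorProduct.smul_tmul]
  | add x y hx hy =>
    obtain ⟨a, b, rfl⟩ := hx
    obtain ⟨a', b', rfl⟩ := hy
    exact ⟨a + a', b + b', by rw [TensorProduct.tmul_add, TensorProduct.tmul_add]; abel⟩

variable (σ : A →ₐ[k] A')

theorem liftBaseChange_bijective (hσ : ∀ a, c (σ a) = a)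
    (hker : ∀ y, c y = 0 → ∃ y', y = (ε : DualNumber k) • y')
    (hceps : ∀ y, c ((ε : DualNumber k) • y) = 0)
    (hflat : ∀ m : A', (ε : DualNumber k) • m = 0 → ∃ m', m = (ε : DualNumber k) • m') :
    Function.Bijective (LinearMap.liftBaseChange (DualNumber k) σ.toLinearMap) := by
  have hΦ : ∀ a b : A, LinearMap.liftBaseChange (DualNumber k) σ.toLinearMap
      ((1 : DualNumber k) ⊗ₜ[k] a + (ε : DualNumber k) ⊗ₜ[k] b) = σ a + (ε : DualNumber k) • σ b := by
    intro a b
    simp
  constructor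
  · rw [injective_iff_map_eq_zero]
    intro t ht
    obtain ⟨a, b, rfl⟩ := tensor_decomp t
    rw [hΦ] at ht
    have ha : a = 0 := by
      have := congrArg c ht
      rwa [map_add, hσ, hceps, add_zero, map_zero] at this
    subst ha
    rw [map_zero, zero_add] at ht
    obtain ⟨m', hm'⟩ := hflat _ ht
    have hb : b = 0 := by
      rw [← hσ b, hm', hceps]
    subst hb
    simp
  · intro y
    obtain ⟨y', hy'⟩ := hker (y - σ (c y)) (by rw [map_sub, hσ, sub_self])
    obtain ⟨y'', hy''⟩ := hker (y' - σ (c y')) (by rw [map_sub, hσ, sub_self])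
    refine ⟨(1 : DualNumber k) ⊗ₜ[k] c y + (ε : DualNumber k) ⊗ₜ[k] c y', ?_⟩
    rw [hΦ]
    have he : algebraMap (DualNumber k) A' ε * algebraMap (DualNumber k) A' ε = 0 := by
      rw [← map_mul, DualNumber.eps_mul_eps, map_zero]
    rw [Algebra.smul_def] at hy' hy'' ⊢
    linear_combination -hy' - algebraMap (DualNumber k) A' ε * hy'' - y'' * he

theorem isBaseChange_of_section (hσ : ∀ a, c (σ a) = a)
    (hker : ∀ y, c y = 0 → ∃ y', y = (ε : DualNumber k) • y')
    (hceps : ∀ y, c ((ε : DualNumber k) • y) = 0)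
    (hflat : ∀ m : A', (ε : DualNumber k) • m = 0 → ∃ m', m = (ε : DualNumber k) • m') :
    IsBaseChange (DualNumber k) σ.toLinearMap :=
  IsBaseChange.of_equiv (LinearEquiv.ofBijective _
    (liftBaseChange_bijective c σ hσ hker hceps hflat)) (fun a => by simp)

theorem isPushout_of_section (hσ : ∀ a, c (σ a) = a)
    (hker : ∀ y, c y = 0 → ∃ y', y = (ε : DualNumber k) • y')
    (hceps : ∀ y, c ((ε : DualNumber k) • y) = 0)
    (hflat : ∀ m : A', (ε : DualNumber k) • m = 0 → ∃ m', m = (ε : DualNumber k) • m') :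
    CategoryTheory.IsPushout (CommRingCat.ofHom (algebraMap k A))
      (CommRingCat.ofHom (algebraMap k (DualNumber k)))
      (CommRingCat.ofHom (σ : A →+* A')) (CommRingCat.ofHom (algebraMap (DualNumber k) A')) := by
  let _ : Algebra A A' := (σ : A →+* A').toAlgebra
  have : IsScalarTower k A A' := IsScalarTower.of_algebraMap_eq (fun r => (σ.commutes r).symm)
  have h1 : Algebra.IsPushout k (DualNumber k) A A' :=
    ⟨isBaseChange_of_section c σ hσ hker hceps hflat⟩
  have : Algebra.IsPushout k A (DualNumber k) A' := Algebra.IsPushout.symm h1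
  exact CommRingCat.isPushout_of_isPushout k A (DualNumber k) A'

/-- A section of `c` compatible with given marked points. -/
theorem exists_section_marked [Algebra.Smooth k A] {ι : Type v} [Finite ι]
    (hc : Function.Surjective c)
    (hker : ∀ y, c y = 0 → ∃ y', y = (ε : DualNumber k) • y')
    (hceps : ∀ y, c ((ε : DualNumber k) • y) = 0)
    (q : ι → (A →ₐ[k] k)) (hq : Function.Injective q)
    (q' : ι → (A' →ₐ[k] DualNumber k))
    (hq'ε : ∀ j y, q' j ((ε : DualNumber k) • y) = ε * q' j y)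
    (hq'q : ∀ j y, (q' j y).fst = q j (c y)) :
    ∃ σ : A →ₐ[k] A', (∀ a, c (σ a) = a) ∧
      ∀ j a, q' j (σ a) = algebraMap k (DualNumber k) (q j a) := by
  obtain ⟨σ₀, hσ₀⟩ := exists_section c hc hker
  set e : A' := algebraMap (DualNumber k) A' ε with he_def
  have he : e * e = 0 := by rw [he_def, ← map_mul, DualNumber.eps_mul_eps, map_zero]
  let Ψ : DualNumber A →ₐ[k] A' := DualNumber.lift ⟨(σ₀, e), he, fun a => Commute.all _ _⟩
  have hΨ : ∀ x : DualNumber A, Ψ x = σ₀ x.fst + σ₀ x.snd * e := fun x =>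
    DualNumber.lift_apply_apply _ x
  have hcΨ : ∀ x : DualNumber A, c (Ψ x) = x.fst := by
    intro x
    rw [hΨ, map_add, hσ₀, mul_comm, he_def, ← Algebra.smul_def, hceps, add_zero]
  obtain ⟨φ, hφε, hφfst, hφ⟩ := Groth.Agent.S15988.result k A q hq (fun j => (q' j).comp Ψ)
    (fun j => by
      rw [AlgHom.comp_apply, DualNumber.lift_apply_eps]
      have := hq'ε j 1
      rw [Algebra.smul_def, mul_one, map_one, mul_one] at this
      exact this)
    (fun j x => by rw [AlgHom.comp_apply, hq'q, hcΨ])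
  refine ⟨(Ψ.comp (φ : DualNumber A →ₐ[k] DualNumber A)).comp (TrivSqZeroExt.inlAlgHom k A A),
    fun a => ?_, fun j a => ?_⟩
  · change c (Ψ (φ (TrivSqZeroExt.inl a))) = a
    rw [hcΨ, hφfst, TrivSqZeroExt.fst_inl]
  · change q' j (Ψ (φ (TrivSqZeroExt.inl a))) = _
    obtain ⟨h1, h2⟩ := hφ j (TrivSqZeroExt.inl a)
    simp only [AlgHom.comp_apply, TrivSqZeroExt.fst_inl, TrivSqZeroExt.snd_inl, map_zero] at h1 h2
    apply TrivSqZeroExt.ext
    · rw [h1, TrivSqZeroExt.algebraMap_eq_inl, TrivSqZeroExt.fst_inl]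
    · rw [h2, TrivSqZeroExt.algebraMap_eq_inl, TrivSqZeroExt.snd_inl]

end Alg

section RingVersion

open CategoryTheory

variable (k : Type u) [Field k]

/-- `k → k[ε]` in `CommRingCat`. -/
abbrev ιh : CommRingCat.of k ⟶ CommRingCat.of (DualNumber k) :=
  CommRingCat.ofHom (algebraMap k (DualNumber k))

/-- `k[ε] → k` in `CommRingCat`. -/
abbrev πh : CommRingCat.of (DualNumber k) ⟶ CommRingCat.of k :=
  CommRingCat.ofHom (TrivSqZeroExt.fstHom k k k).toRingHom

theorem ring_version (A A' : CommRingCat.{u}) (a : CommRingCat.of k ⟶ A)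
    (b : CommRingCat.of (DualNumber k) ⟶ A') (c : A' ⟶ A) (ha : a.hom.Smooth) (hb : b.hom.Flat)
    (hpo : IsPushout (πh k) b a c) {ι : Type v} [Finite ι]
    (q : ι → (A ⟶ CommRingCat.of k)) (hqa : ∀ j, a ≫ q j = 𝟙 _) (hq : Function.Injective q)
    (q' : ι → (A' ⟶ CommRingCat.of (DualNumber k))) (hq'b : ∀ j, b ≫ q' j = 𝟙 _)
    (hqq' : ∀ j, c ≫ q j = q' j ≫ πh k) :
    ∃ σ : A ⟶ A', a ≫ σ = ιh k ≫ b ∧ σ ≫ c = 𝟙 A ∧ (∀ j, σ ≫ q' j = q j ≫ ιh k) ∧
      IsPushout a (ιh k) σ b := by
  letI : Algebra k A := a.hom.toAlgebra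
  letI : Algebra (DualNumber k) A' := b.hom.toAlgebra
  letI : Algebra k A' := (b.hom.comp (algebraMap k (DualNumber k))).toAlgebra
  haveI : IsScalarTower k (DualNumber k) A' := ⟨fun r x y => by
    rw [Algebra.smul_def, Algebra.smul_def, Algebra.smul_def, Algebra.smul_def, map_mul, mul_assoc]
    rfl⟩
  haveI : Algebra.Smooth k A := ha
  haveI : Module.Flat (DualNumber k) A' := hb
  have hw : ∀ x : DualNumber k, c.hom (b.hom x) = a.hom x.fst := by
    intro x
    have := congrArg (fun f => f.hom x) hpo.w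
    simpa using this.symm
  let cAlg : A' →ₐ[k] A :=
    { c.hom with
      commutes' := fun r => by
        change c.hom (b.hom (algebraMap k (DualNumber k) r)) = a.hom r
        rw [hw, TrivSqZeroExt.algebraMap_eq_inl, TrivSqZeroExt.fst_inl] }
  have hcAlg : ∀ y, cAlg y = c.hom y := fun _ => rfl
  have hpo' : IsPushout (CommRingCat.ofHom (TrivSqZeroExt.fstHom k k k).toRingHom)
      (CommRingCat.ofHom b.hom) (CommRingCat.ofHom a.hom) (CommRingCat.ofHom c.hom) := hpo
  obtain ⟨hcsurj, hcker⟩ := Groth.Agent.R2.H56.AffDefAlg.surjective_and_ker_of_isPushout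
    (TrivSqZeroExt.fstHom k k k).toRingHom b.hom a.hom c.hom
    (fun r => ⟨TrivSqZeroExt.inl r, TrivSqZeroExt.fst_inl k r⟩) hpo'
  have hsmul : ∀ y : A', (ε : DualNumber k) • y = b.hom ε * y := fun y => Algebra.smul_def _ _
  have hker : ∀ y, cAlg y = 0 → ∃ y', y = (ε : DualNumber k) • y' := by
    intro y hy
    have hy' : y ∈ RingHom.ker c.hom := hy
    rw [hcker] at hy'
    have hle : Ideal.map b.hom (RingHom.ker (TrivSqZeroExt.fstHom k k k).toRingHom) ≤
        Ideal.span {b.hom ε} := by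
      rw [Ideal.map_le_iff_le_comap]
      intro x hx
      rw [Ideal.mem_comap, Groth.Agent.R2.H56.AffDefAlg.dual_eq_inl_mul_eps x hx, map_mul]
      exact Ideal.mul_mem_left _ _ (Ideal.subset_span rfl)
    obtain ⟨y', hy''⟩ := Ideal.mem_span_singleton'.mp (hle hy')
    exact ⟨y', by rw [hsmul, ← hy'', mul_comm]⟩
  have hceps : ∀ y, cAlg ((ε : DualNumber k) • y) = 0 := by
    intro y
    rw [hsmul, hcAlg, map_mul, hw]
    simp
  have hflat : ∀ m : A', (ε : DualNumber k) • m = 0 → ∃ m', m = (ε : DualNumber k) • m' :=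
    fun m hm => Groth.Agent.R2.H56.AffDefAlg.exists_eq_eps_smul_of_flat (k := k) (M := A') m hm
  let qAlg : ι → (A →ₐ[k] k) := fun j =>
    { (q j).hom with
      commutes' := fun r => by
        have h := congrArg (fun f => f.hom r) (hqa j)
        change (q j).hom (a.hom r) = r
        exact h }
  have hqAlg : Function.Injective qAlg := by
    intro j j' h
    apply hq
    ext x
    exact AlgHom.congr_fun h x
  let q'Alg : ι → (A' →ₐ[k] DualNumber k) := fun j =>
    { (q' j).hom with
      commutes' := fun r => by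
        have h := congrArg (fun f => f.hom (algebraMap k (DualNumber k) r)) (hq'b j)
        change (q' j).hom (b.hom (algebraMap k (DualNumber k) r)) = algebraMap k (DualNumber k) r
        exact h }
  have hq'ε : ∀ j y, q'Alg j ((ε : DualNumber k) • y) = ε * q'Alg j y := by
    intro j y
    rw [hsmul]
    change (q' j).hom (b.hom ε * y) = ε * (q' j).hom y
    rw [map_mul]
    congr 1
    have := congrArg (fun f => f.hom (ε : DualNumber k)) (hq'b j)
    simpa using this
  have hq'q : ∀ j y, (q'Alg j y).fst = qAlg j (cAlg y) := by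
    intro j y
    have h := congrArg (fun f => f.hom y) (hqq' j)
    change ((q' j).hom y).fst = (q j).hom (c.hom y)
    exact h.symm
  obtain ⟨σ, hσ, hσq⟩ := exists_section_marked cAlg hcsurj hker hceps qAlg hqAlg q'Alg hq'ε hq'q
  refine ⟨CommRingCat.ofHom (σ : A →+* A'), ?_, ?_, ?_, ?_⟩
  · ext r
    exact σ.commutes r
  · ext x
    exact hσ x
  · intro j
    apply CommRingCat.hom_ext
    apply RingHom.ext
    intro x
    exact hσq j x
  · exact isPushout_of_section cAlg σ hσ hker hceps hflat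

end RingVersion

section SchemeVersion

open CategoryTheory AlgebraicGeometry Limits

theorem scheme_version (k : Type u) [Field k] (X : Scheme.{u}) (hX : X ⟶ Spec (CommRingCat.of k))
    [IsAffine X] [Smooth hX] {ι : Type v} [Finite ι] (p : ι → (Spec (CommRingCat.of k) ⟶ X))
    (hp : ∀ j, p j ≫ hX = 𝟙 _) (hinj : Function.Injective p)
    (X' : Scheme.{u}) [IsAffine X'] (g : X' ⟶ Spec (CommRingCat.of (DualNumber k))) [Flat g]
    (i : X ⟶ X') (hsq : IsPullback i hX g (Spec.map (πh k)))
    (p' : ι → (Spec (CommRingCat.of (DualNumber k)) ⟶ X')) (hp' : ∀ j, p' j ≫ g = 𝟙 _)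
    (hpp' : ∀ j, p j ≫ i = Spec.map (πh k) ≫ p' j) :
    ∃ r : X' ⟶ X, i ≫ r = 𝟙 X ∧ (∀ j, p' j ≫ r = Spec.map (ιh k) ≫ p j) ∧
      IsPullback r g hX (Spec.map (ιh k)) := by
  let eX := X.isoSpec
  let eX' := X'.isoSpec
  let a : CommRingCat.of k ⟶ Γ(X, ⊤) := Spec.preimage (eX.inv ≫ hX)
  have ha : Spec.map a = eX.inv ≫ hX := Spec.map_preimage _
  let b : CommRingCat.of (DualNumber k) ⟶ Γ(X', ⊤) := Spec.preimage (eX'.inv ≫ g)
  have hb : Spec.map b = eX'.inv ≫ g := Spec.map_preimage _
  let c : Γ(X', ⊤) ⟶ Γ(X, ⊤) := Spec.preimage (eX.inv ≫ i ≫ eX'.hom)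
  have hc : Spec.map c = eX.inv ≫ i ≫ eX'.hom := Spec.map_preimage _
  let q : ι → (Γ(X, ⊤) ⟶ CommRingCat.of k) := fun j => Spec.preimage (p j ≫ eX.hom)
  have hq : ∀ j, Spec.map (q j) = p j ≫ eX.hom := fun j => Spec.map_preimage _
  let q' : ι → (Γ(X', ⊤) ⟶ CommRingCat.of (DualNumber k)) := fun j => Spec.preimage (p' j ≫ eX'.hom)
  have hq' : ∀ j, Spec.map (q' j) = p' j ≫ eX'.hom := fun j => Spec.map_preimage _
  have hasm : a.hom.Smooth := by
    have : Smooth (Spec.map a) := by rw [ha]; infer_instance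
    exact (HasRingHomProperty.Spec_iff (P := @Smooth)).mp this
  have hbfl : b.hom.Flat := by
    have : Flat (Spec.map b) := by rw [hb]; infer_instance
    exact Flat.SpecMap_iff.mp this
  have hsq' : IsPullback (Spec.map c) (Spec.map a) (Spec.map b) (Spec.map (πh k)) := by
    refine IsPullback.of_iso hsq eX eX' (Iso.refl _) (Iso.refl _) ?_ ?_ ?_ ?_
    · rw [hc, Iso.hom_inv_id_assoc]
    · rw [ha, Iso.hom_inv_id_assoc]; simp
    · rw [hb, Iso.hom_inv_id_assoc]; simp
    · simp
  have hpo : IsPushout (πh k) b a c :=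
    (IsPullback.of_map_of_faithful Scheme.Spec (f := c.op) (g := a.op) (h := b.op)
      (i := (πh k).op) hsq').unop
  have hqa : ∀ j, a ≫ q j = 𝟙 _ := by
    intro j
    apply Spec.map_injective
    rw [Spec.map_comp, hq, ha, Category.assoc, Iso.hom_inv_id_assoc, hp, Spec.map_id]
  have hqinj : Function.Injective q := by
    intro j j' h
    apply hinj
    have := congrArg Spec.map h
    rw [hq, hq] at this
    exact (cancel_mono eX.hom).mp this
  have hq'b : ∀ j, b ≫ q' j = 𝟙 _ := by
    intro j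
    apply Spec.map_injective
    rw [Spec.map_comp, hq', hb, Category.assoc, Iso.hom_inv_id_assoc, hp', Spec.map_id]
  have hqq' : ∀ j, c ≫ q j = q' j ≫ πh k := by
    intro j
    apply Spec.map_injective
    rw [Spec.map_comp, Spec.map_comp, hq, hc, hq', Category.assoc, Iso.hom_inv_id_assoc,
      ← Category.assoc, hpp', Category.assoc]
  obtain ⟨σ, h1, h2, h3, h4⟩ := ring_version k Γ(X, ⊤) Γ(X', ⊤) a b c hasm hbfl hpo q hqa hqinj
    q' hq'b hqq'
  refine ⟨eX'.hom ≫ Spec.map σ ≫ eX.inv, ?_, ?_, ?_⟩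
  · have : i ≫ eX'.hom = eX.hom ≫ Spec.map c := by rw [hc, Iso.hom_inv_id_assoc]
    rw [← Category.assoc, this, Category.assoc, ← Spec.map_comp_assoc, h2, Spec.map_id,
      Category.id_comp, Iso.hom_inv_id]
  · intro j
    rw [← Category.assoc, ← hq', ← Spec.map_comp_assoc, h3, Spec.map_comp, Category.assoc, hq,
      Category.assoc, Iso.hom_inv_id, Category.comp_id]
  · have h5 := isPullback_SpecMap_of_isPushout a (ιh k) σ b h4
    refine IsPullback.of_iso h5 eX'.symm eX.symm (Iso.refl _) (Iso.refl _) ?_ ?_ ?_ ?_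
    · simp
    · rw [hb]; simp
    · rw [ha]; simp
    · simp

end SchemeVersion

end Groth.Agent.R2.H75.DeformTriv
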