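import Groth.Agent.Lib.Helper16Restr
import Groth.Prelude.Def_Coh

/-!
# `H^n(U, F|_U)` on the open subscheme vs `H^n(U, F)` computed on `X` (helper75)

`nonempty_HHon_equiv_HU`: for an abstract scheme `X`, `O_X`-module `F` and open `U`,
`Coh.HHon X F U n ≃+ CohTop.HU (Coh.toAb F) n U` (a re-typing of Lib
`Helper16.Restr.nonempty_HU_equiv`; stated for abstract `F` so that the definitional unfolding
stays cheap for the kernel — apply it to concrete sheaves instead of re-doing the cast).
-/

set_option autoImplicit false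

namespace Groth.Agent.R2.H75.HHon

open CategoryTheory AlgebraicGeometry TopologicalSpace Groth.Agent.Lib.Helper16.Restr

universe u

theorem nonempty_HHon_equiv_HU (X : Scheme.{u}) (F : X.Modules) (U : X.Opens) (n : ℕ) :
    Nonempty (Coh.HHon X F U n ≃+ CohTop.HU (Coh.toAb F) n U) := by
  obtain ⟨e2⟩ := nonempty_HU_equiv (X := X.carrier) U (Coh.toAb F) n
  have e2' : CohTop.HU (Coh.toAb F) n U ≃+ Coh.HHon X F U n := e2
  exact ⟨e2'.symm⟩

end Groth.Agent.R2.H75.HHon
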