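import Groth.Agent.R2.H75KoszCech
import Groth.Agent.R2.H75CechSheaf
import Groth.Agent.S0464
import Groth.Agent.S6031
import Groth.Agent.Lib.Helper23AffOpen2
import Groth.Agent.Lib.Helper23AffVanish7
import Groth.Prelude.Def_LocCohZ
import Groth.Prelude.Def_Wider

/-!
# Cohomology with supports of `M^~` on `Spec A` is `H^•((f), M)` (helper75)

* `nonempty_HZc_one_equiv`: on any space, if `H¹(X, F) = 0` then
  `H¹_Z(X, F) ≃+ F(U) ⧸ range (F(X) → F(U))`.
* `nonempty_koszulHLim_equiv_HZM`: for `Y = Spec A`, `Z = V(fs)`: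
  `CohIII.koszulHLim fs M i ≃+ H^i_Z(Y, M^~)`.
-/

set_option autoImplicit false

namespace Groth.Agent.R2.H75.LocCohZKosz

open CategoryTheory CategoryTheory.Limits Opposite TopologicalSpace AlgebraicGeometry LocCohZ
open Groth.Agent.Lib.Helper16.CechLow Groth.Agent.R2.H75.CechAugA Groth.Agent.R2.H75.CechAugB
open Groth.Agent.R2.H75.KoszCech Groth.Agent.R2.H75.CechSheaf

universe u

section Space

variable {X : TopCat.{u}} (F : CohTop.Ab X)

/-- `Ext⁰(ℤ_V, F) ≃+ F(V)`. -/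
noncomputable def E (V : Opens X) :
    Abelian.Ext (CohCx.freeSheaf (Opens.grothendieckTopology X) V) F 0 ≃+ F.obj.obj (op V) :=
  (Abelian.Ext.addEquiv₀ (X := CohCx.freeSheaf (Opens.grothendieckTopology X) V) (Y := F)).trans
    (CohFree.homEquivSect (Opens.grothendieckTopology X) V F)

lemma E_res {W V : Opens X} (h : W ≤ V)
    (x : Abelian.Ext (CohCx.freeSheaf (Opens.grothendieckTopology X) V) F 0) :
    E F W ((Abelian.Ext.mk₀ (CohCx.freeSheafMap (Opens.grothendieckTopology X) (homOfLE h))).comp x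
      (zero_add 0)) = (F.obj.map (homOfLE h).op).hom (E F V x) := by
  obtain ⟨φ, rfl⟩ : ∃ φ, x = Abelian.Ext.mk₀ φ :=
    ⟨Abelian.Ext.addEquiv₀ x, (Abelian.Ext.mk₀_addEquiv₀_apply x).symm⟩
  rw [Abelian.Ext.mk₀_comp_mk₀]
  change CohFree.evalGen _ W F (Abelian.Ext.addEquiv₀ (Abelian.Ext.mk₀ _)) =
    (F.obj.map (homOfLE h).op).hom (CohFree.evalGen _ V F (Abelian.Ext.addEquiv₀ (Abelian.Ext.mk₀ φ)))
  have hm : ∀ {P Q : CohTop.Ab X} (ψ : P ⟶ Q),
      Abelian.Ext.addEquiv₀ (Abelian.Ext.mk₀ ψ) = ψ :=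
    fun ψ => Abelian.Ext.addEquiv₀.apply_symm_apply ψ
  rw [hm, hm]
  exact CohFree.evalGen_freeSheafMap_comp _ (homOfLE h) F φ

/-- If `H¹(X, F) = 0` then `H¹_Z(X, F)` is the cokernel of the restriction `F(X) → F(U)`. -/
theorem nonempty_HZc_one_equiv
    (h1 : Subsingleton
      (Abelian.Ext (CohCx.freeSheaf (Opens.grothendieckTopology X) (⊤ : Opens X)) F 1))
    (U : Opens X) :
    Nonempty (HZc F 1 U ≃+
      (F.obj.obj (op U) ⧸ (F.obj.map (homOfLE (le_top : U ≤ ⊤)).op).hom.range)) := by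
  have hS := zqSeq_shortExact (X := X) (le_top : U ≤ ⊤)
  let δ : Abelian.Ext (CohCx.freeSheaf (Opens.grothendieckTopology X) U) F 0 →+ HZc F 1 U :=
    delta F 0 (le_top : U ≤ ⊤)
  let ρ : Abelian.Ext (CohCx.freeSheaf (Opens.grothendieckTopology X) (⊤ : Opens X)) F 0 →+
      Abelian.Ext (CohCx.freeSheaf (Opens.grothendieckTopology X) U) F 0 :=
    (Abelian.Ext.mk₀ (CohCx.freeSheafMap (Opens.grothendieckTopology X)
      (homOfLE (le_top : U ≤ ⊤)))).precomp F (zero_add 0)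
  have hsurj : Function.Surjective δ := by
    intro x₃
    obtain ⟨x₁, hx₁⟩ := Abelian.Ext.contravariant_sequence_exact₃ hS F x₃
      (@Subsingleton.elim _ h1 _ _) (add_comm 1 0)
    exact ⟨x₁, hx₁⟩
  have hker : δ.ker = ρ.range := by
    ext x
    rw [AddMonoidHom.mem_ker, AddMonoidHom.mem_range]
    constructor
    · intro hx
      obtain ⟨x₂, hx₂⟩ := Abelian.Ext.contravariant_sequence_exact₁ hS F x (add_comm 1 0) hx
      exact ⟨x₂, hx₂⟩
    · rintro ⟨y, rfl⟩
      exact hS.extClass_comp_assoc (Y := F) y (h := by omega)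
  have e1 := QuotientAddGroup.quotientKerEquivOfSurjective δ hsurj
  have hmap : AddSubgroup.map (E F U).toAddMonoidHom δ.ker =
      (F.obj.map (homOfLE (le_top : U ≤ ⊤)).op).hom.range := by
    rw [hker]
    ext s
    constructor
    · rintro ⟨_, ⟨y, rfl⟩, rfl⟩
      exact ⟨E F ⊤ y, (E_res F (le_top : U ≤ ⊤) y).symm⟩
    · rintro ⟨t, rfl⟩
      refine ⟨ρ ((E F ⊤).symm t), ⟨_, rfl⟩, ?_⟩
      have := E_res F (le_top : U ≤ ⊤) ((E F ⊤).symm t)
      rw [AddEquiv.apply_symm_apply] at this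
      exact this
  have e2 := QuotientAddGroup.congr δ.ker _ (E F U) hmap
  exact ⟨e1.symm.trans e2⟩

end Space

section Spec

variable (A : Type u) [CommRing A] (fs : List A) (M : Type u) [AddCommGroup M] [Module A M]

/-- the tilde sheaf. -/
noncomputable abbrev Ft : (Spec (CommRingCat.of A)).Modules :=
  tilde (R := CommRingCat.of A) (ModuleCat.of A M)

/-- the basic opens `D(f_i)`. -/
noncomputable abbrev Vg : ULift.{u} (Fin fs.length) → (Spec (CommRingCat.of A)).Opens :=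
  V (gOf (CommRingCat.of A) fs)

lemma puncturedOpen_eq :
    LocCoh.puncturedOpen A (Ideal.span {a | a ∈ fs}) = iSup (Vg A fs) := by
  ext p
  constructor
  · intro hp
    have hp' : ¬ (((Ideal.span {a | a ∈ fs} : Ideal A) : Set A) ⊆
        ((p : PrimeSpectrum A).asIdeal : Set A)) := hp
    have hp'' : ¬ ({a | a ∈ fs} ⊆ ((p : PrimeSpectrum A).asIdeal : Set A)) :=
      fun hsub => hp' (Ideal.span_le.2 hsub)
    obtain ⟨a, ha, hap⟩ := Set.not_subset.1 hp''
    obtain ⟨i, rfl⟩ := List.mem_iff_get.1 ha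
    exact Opens.mem_iSup.2 ⟨⟨i⟩, hap⟩
  · intro hp
    obtain ⟨i, hi⟩ := Opens.mem_iSup.1 hp
    have hi' : fs.get i.down ∉ (p : PrimeSpectrum A).asIdeal := hi
    intro hsub
    have hsub' : ((Ideal.span {a | a ∈ fs} : Ideal A) : Set A) ⊆
        ((p : PrimeSpectrum A).asIdeal : Set A) := hsub
    exact hi' (hsub' (Ideal.subset_span (List.get_mem _ _)))

lemma isAffineOpen_Vg (i : ULift.{u} (Fin fs.length)) : IsAffineOpen (Vg A fs i) := by
  have h3 : (Vg A fs i) = (Spec (CommRingCat.of A)).basicOpen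
      ((Scheme.ΓSpecIso (CommRingCat.of A)).inv (gOf (CommRingCat.of A) fs i)) := by
    change (PrimeSpectrum.basicOpen _ : (Spec (CommRingCat.of A)).Opens) = _
    rw [← basicOpen_eq_of_affine]
  rw [h3]
  exact (isAffineOpen_top (Spec (CommRingCat.of A))).basicOpen _

lemma isAffineOpen_iInf : ∀ (p : ℕ) (a : Fin (p + 1) → ULift.{u} (Fin fs.length)),
    IsAffineOpen (iInf fun k => Vg A fs (a k)) := by
  intro p
  induction p with
  | zero =>
    intro a
    have e : (iInf fun k => Vg A fs (a k)) = Vg A fs (a 0) := by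
      apply le_antisymm
      · exact iInf_le _ 0
      · refine le_iInf fun k => ?_
        rw [Fin.fin_one_eq_zero k]
    rw [e]
    exact isAffineOpen_Vg A fs (a 0)
  | succ p ih =>
    intro a
    have e : (iInf fun k => Vg A fs (a k)) =
        Vg A fs (a 0) ⊓ iInf fun k : Fin (p + 1) => Vg A fs (a k.succ) := by
      apply le_antisymm
      · exact le_inf (iInf_le _ 0) (le_iInf fun k => iInf_le _ k.succ)
      · refine le_iInf fun k => ?_
        refine Fin.cases inf_le_left (fun j => ?_) k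
        exact inf_le_right.trans (iInf_le _ j)
    rw [e]
    exact (isAffineOpen_Vg A fs (a 0)).inf (ih _)

open Groth.Agent.Lib.Helper23.AffVanish in
/-- **`colim_n H^i(f^n, M) ≃+ H^i_{V(f)}(Spec A, M^~)`.** -/
theorem nonempty_koszulHLim_equiv_HZM (i : ℕ) :
    Nonempty (CohIII.koszulHLim fs (ModuleCat.of A M) i ≃+
      LocCohZ.HZM (Spec (CommRingCat.of A)) (Ft A M) i
        (LocCoh.puncturedOpen A (Ideal.span {a | a ∈ fs}))) := by
  rw [puncturedOpen_eq]
  obtain ⟨eK⟩ := nonempty_T_equiv_koszul (CommRingCat.of A) fs (ModuleCat.of A M) i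
  have hW : ∀ j, Vg A fs j ≤ iSup (Vg A fs) := fun j => le_iSup (Vg A fs) j
  have hcov : iSup (Vg A fs) ≤ iSup (Vg A fs) := le_rfl
  have hvan : ∀ k : ℕ, Subsingleton (HE (ab (Ft A M)) (k + 1)
      (⊤ : Opens (Spec (CommRingCat.of A)).carrier)) := by
    intro k
    have h1 := subsingleton_HE_basicOpen (Ft A M) k (1 : Γ(Spec (CommRingCat.of A), ⊤))
    have e : (Spec (CommRingCat.of A)).basicOpen (1 : Γ(Spec (CommRingCat.of A), ⊤)) = ⊤ :=
      (Spec (CommRingCat.of A)).basicOpen_of_isUnit isUnit_one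
    rw [e] at h1
    exact h1
  match i, eK with
  | 0, eK =>
    have a0 := augH0Equiv (Vg A fs) (Coh.toAb (Ft A M)) (iSup (Vg A fs)) hW hcov
    have s0 := sect0Equiv (X := (Spec (CommRingCat.of A)).carrier) (Coh.toAb (Ft A M))
      (le_top : iSup (Vg A fs) ≤ ⊤)
    exact ⟨eK.symm.trans (a0.trans s0.symm)⟩
  | 1, eK =>
    have a1 := augH1Equiv (Vg A fs) (Coh.toAb (Ft A M)) (iSup (Vg A fs)) hW hcov
    obtain ⟨s1⟩ := nonempty_HZc_one_equiv (X := (Spec (CommRingCat.of A)).carrier)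
      (Coh.toAb (Ft A M)) (hvan 0) (iSup (Vg A fs))
    exact ⟨eK.symm.trans (a1.trans s1.symm)⟩
  | n + 2, eK =>
    have a2 := (augHsucc (Vg A fs) (Ft A M).presheaf n).addCommGroupIsoToAddEquiv
    have h : ∀ (p : ℕ) (a : Fin (p + 1) → ULift.{u} (Fin fs.length)) (q' : ℕ),
        Subsingleton (CohTop.HU (ab' (Ft A M)) (q' + 1) (iInf fun k => Vg A fs (a k))) :=
      fun p a q' => subsingleton_HE_of_isAffineOpen (isAffineOpen_iInf A fs p a) (Ft A M) q'
    obtain ⟨e1⟩ := Groth.Agent.S0464.result (ab' (Ft A M)) (Vg A fs) h (n + 1)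
    have hb := (Groth.Agent.S6031.result (Spec (CommRingCat.of A)) (Ft A M) inferInstance
      (iSup (Vg A fs))).2 (n + 1) (by omega)
    have e2 := AddEquiv.ofBijective _ hb
    exact ⟨eK.symm.trans (a2.trans (e1.trans e2))⟩

end Spec

end Groth.Agent.R2.H75.LocCohZKosz
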