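import Groth.Agent.R2.H75PerfTensor
import Groth.Statements.S16000

/-!
# The perfect closure as a directed union of Frobenius stages (helper75)

`PerfectClosure R p` is the union of the images of the stages `Pn p R n` (copies of `R`, `R`-algebras
through `F^n`).  If `R` is projective over itself through Frobenius, the perfect closure is
faithfully flat over every stage.  Final result: `main` (the statement of S16000).
-/

set_option autoImplicit false

namespace Groth.Agent.R2.H75.PerfClosure

open TensorProduct Groth.Agent.R2.H75.PerfTensor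

universe u

section Perf

variable (p : ℕ) [Fact p.Prime] (R : Type u) [CommRing R] [CharP R p]

theorem mk_pow_eq (k n : ℕ) (x : R) :
    PerfectClosure.mk R p (n + k, x ^ p ^ k) = PerfectClosure.mk R p (n, x) := by
  rw [Nat.add_comm]
  exact (PerfectClosure.R.sound R p k n x _ (by rw [iterate_frobenius])).symm

/-- `x ↦ x^{1/p^n}`. -/
noncomputable def psi (n : ℕ) : Pn p R n →+* PerfectClosure R p where
  toFun x := PerfectClosure.mk R p (n, (toPn p R n).symm x)
  map_one' := by
    rw [map_one, PerfectClosure.one_def]
    have := mk_pow_eq p R n 0 (1 : R)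
    rwa [one_pow, zero_add] at this
  map_mul' x y := by
    rw [PerfectClosure.mk_mul_mk, map_mul]
    have := mk_pow_eq p R n n ((toPn p R n).symm x * (toPn p R n).symm y)
    rw [← this, mul_pow, iterate_frobenius, iterate_frobenius]
  map_zero' := by rw [map_zero]; exact PerfectClosure.mk_zero_right R p n
  map_add' x y := by
    rw [PerfectClosure.mk_add_mk, map_add]
    have := mk_pow_eq p R n n ((toPn p R n).symm x + (toPn p R n).symm y)
    rw [← this, add_pow_char_pow, iterate_frobenius, iterate_frobenius]

theorem psi_apply (n : ℕ) (x : Pn p R n) :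
    psi p R n x = PerfectClosure.mk R p (n, (toPn p R n).symm x) := rfl

theorem psi_trans (n d : ℕ) (x : R) :
    psi p R (n + d) (toPn p R (n + d) (x ^ p ^ d)) = psi p R n (toPn p R n x) := by
  rw [psi_apply, psi_apply, RingEquiv.symm_apply_apply, RingEquiv.symm_apply_apply, mk_pow_eq]

/-- The `R`-algebra structure on the perfect closure (as in the statement of S16000). -/
@[reducible] noncomputable def algOf : Algebra R (PerfectClosure R p) := (PerfectClosure.of R p).toAlgebra

noncomputable instance algPnPerf (n : ℕ) : Algebra (Pn p R n) (PerfectClosure R p) := (psi p R n).toAlgebra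

attribute [local instance] algOf

theorem algebraMap_perf (r : R) : algebraMap R (PerfectClosure R p) r = PerfectClosure.mk R p (0, r) := rfl

theorem algebraMap_pn_perf (n : ℕ) (x : Pn p R n) :
    algebraMap (Pn p R n) (PerfectClosure R p) x = psi p R n x := rfl

instance towerPnPerf (n : ℕ) : IsScalarTower R (Pn p R n) (PerfectClosure R p) := by
  apply IsScalarTower.of_algebraMap_eq
  intro r
  rw [algebraMap_pn_perf, algebraMap_Pn, algebraMap_perf]
  have := psi_trans p R 0 n r
  rw [zero_add] at this
  rw [this, psi_apply, RingEquiv.symm_apply_apply]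

/-- Transition map `x ↦ x ^ p ^ d`. -/
def trans (n d : ℕ) : Pn p R n →ₗ[R] Pn p R (n + d) where
  toFun x := toPn p R (n + d) (((toPn p R n).symm x) ^ p ^ d)
  map_add' x y := by
    rw [map_add, add_pow_char_pow, map_add]
  map_smul' r x := by
    rw [smul_Pn, smul_Pn, RingHom.id_apply, map_mul, RingEquiv.symm_apply_apply, mul_pow, map_mul,
      ← pow_mul, ← pow_add]

theorem trans_apply (n d : ℕ) (x : Pn p R n) :
    trans p R n d x = toPn p R (n + d) (((toPn p R n).symm x) ^ p ^ d) := rfl

/-- The canonical `R`-linear map from the `n`-th stage into the perfect closure. -/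
noncomputable def jn (n : ℕ) : Pn p R n →ₗ[R] PerfectClosure R p :=
  (IsScalarTower.toAlgHom R (Pn p R n) (PerfectClosure R p)).toLinearMap

theorem jn_apply (n : ℕ) (x : Pn p R n) : jn p R n x = psi p R n x := rfl

theorem jn_trans (n d : ℕ) (x : Pn p R n) : jn p R (n + d) (trans p R n d x) = jn p R n x := by
  rw [jn_apply, jn_apply, trans_apply, psi_trans, RingEquiv.apply_symm_apply]

/-- The `S`-linear map from the `k`-th Frobenius stage over `S = Pn p R n` into the perfect closure
of `R`. -/
noncomputable def jS (n k : ℕ) : Pn p (Pn p R n) k →ₗ[Pn p R n] PerfectClosure R p where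
  toFun x := psi p R (n + k) (toPn p R (n + k) ((toPn p R n).symm ((toPn p (Pn p R n) k).symm x)))
  map_add' x y := by simp only [map_add]
  map_smul' a x := by
    rw [smul_Pn, RingHom.id_apply, Algebra.smul_def, algebraMap_pn_perf, map_mul, map_mul, map_mul,
      map_mul, RingEquiv.symm_apply_apply, map_pow, psi_trans, RingEquiv.apply_symm_apply]

theorem jS_apply (n k : ℕ) (x : Pn p (Pn p R n) k) :
    jS p R n k x = PerfectClosure.mk R p
      (n + k, (toPn p R n).symm ((toPn p (Pn p R n) k).symm x)) := rfl

theorem jS_trans (n k d : ℕ) (x : Pn p (Pn p R n) k) :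
    jS p R n (k + d) (trans p (Pn p R n) k d x) = jS p R n k x := by
  rw [jS_apply, jS_apply, trans_apply, RingEquiv.symm_apply_apply, map_pow, ← Nat.add_assoc,
    mk_pow_eq]

theorem flat_perf (n : ℕ) [h1 : Module.Projective R (Pn p R 1)] :
    Module.Flat (Pn p R n) (PerfectClosure R p) := by
  let S := Pn p R n
  have h1' : Module.Projective S (Pn p S 1) := h1
  have : ∀ k, Module.Projective S (Pn p S k) := fun k => projective_Pn p S k
  refine flat_of_directed (A := S) (fun k => Pn p S k) (fun k => jS p R n k) ?_ ?_ ?_
  · intro k k' h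
    obtain ⟨d, rfl⟩ := Nat.exists_eq_add_of_le h
    exact ⟨trans p S k d, fun x => jS_trans p R n k d x⟩
  · intro m
    obtain ⟨⟨l, x⟩, rfl⟩ := PerfectClosure.mk_surjective R p m
    refine ⟨l, toPn p S l (toPn p R n (x ^ p ^ n)), ?_⟩
    rw [jS_apply, RingEquiv.symm_apply_apply, RingEquiv.symm_apply_apply, Nat.add_comm, mk_pow_eq]
  · intro k y hy
    rw [jS_apply, PerfectClosure.zero_def, PerfectClosure.mk_eq_iff] at hy
    obtain ⟨z, hz⟩ := hy
    simp only [iterate_frobenius, zero_add] at hz
    rw [zero_pow (pow_ne_zero _ (Fact.out : p.Prime).ne_zero)] at hz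
    refine ⟨k + z, trans p S k z, fun x => jS_trans p R n k z x, ?_⟩
    rw [trans_apply]
    apply (toPn p S (k + z)).symm.injective
    rw [RingEquiv.symm_apply_apply, map_zero]
    apply (toPn p R n).symm.injective
    rw [map_pow, map_zero]
    exact hz

theorem isIntegral_perf (n : ℕ) : Algebra.IsIntegral (Pn p R n) (PerfectClosure R p) := by
  constructor
  intro b
  obtain ⟨⟨l, x⟩, rfl⟩ := PerfectClosure.mk_surjective R p b
  apply IsIntegral.of_pow (n := p ^ l) (pow_pos (Fact.out : p.Prime).pos _)
  have : PerfectClosure.mk R p (l, x) ^ p ^ l =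
      algebraMap (Pn p R n) (PerfectClosure R p) (toPn p R n (x ^ p ^ n)) := by
    rw [algebraMap_pn_perf, psi_apply, RingEquiv.symm_apply_apply, PerfectClosure.mk_pow]
    have h1 := mk_pow_eq p R l 0 x
    have h2 := mk_pow_eq p R n 0 x
    rw [zero_add] at h1 h2
    simp only
    rw [h1, h2]
  rw [this]
  exact isIntegral_algebraMap

theorem ker_perf_le (n : ℕ) (P : Ideal (Pn p R n)) [P.IsPrime] :
    RingHom.ker (algebraMap (Pn p R n) (PerfectClosure R p)) ≤ P := by
  intro a ha
  rw [RingHom.mem_ker, algebraMap_pn_perf, psi_apply, PerfectClosure.zero_def,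
    PerfectClosure.mk_eq_iff] at ha
  obtain ⟨z, hz⟩ := ha
  simp only [iterate_frobenius, zero_add] at hz
  rw [zero_pow (pow_ne_zero _ (Fact.out : p.Prime).ne_zero)] at hz
  have : a ^ p ^ z = 0 := by
    apply (toPn p R n).symm.injective
    rw [map_pow, map_zero]
    exact hz
  exact Ideal.IsPrime.mem_of_pow_mem inferInstance _ (this ▸ P.zero_mem)

theorem faithfullyFlat_perf (n : ℕ) [h1 : Module.Projective R (Pn p R 1)] :
    Module.FaithfullyFlat (Pn p R n) (PerfectClosure R p) := by
  have := flat_perf p R n
  have := isIntegral_perf p R n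
  apply Module.FaithfullyFlat.of_comap_surjective
  intro P
  obtain ⟨Q, -, hQ, hQP⟩ := Ideal.exists_ideal_over_prime_of_isIntegral P.asIdeal
    (⊥ : Ideal (PerfectClosure R p)) (by
      rw [← RingHom.ker_eq_comap_bot]
      exact ker_perf_le p R n P.asIdeal)
  exact ⟨⟨Q, hQ⟩, PrimeSpectrum.ext hQP⟩

theorem jn_rTensor_injective (n : ℕ) [h1 : Module.Projective R (Pn p R 1)]
    (M : Type*) [AddCommGroup M] [Module R M] :
    Function.Injective ((jn p R n).rTensor M) := by
  have := faithfullyFlat_perf p R n
  have h1 := Module.FaithfullyFlat.tensorProduct_mk_injective (A := Pn p R n)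
    (B := PerfectClosure R p) (Pn p R n ⊗[R] M)
  have h2 : ∀ w, (jn p R n).rTensor M w =
      AlgebraTensorModule.cancelBaseChange R (Pn p R n) (Pn p R n) (PerfectClosure R p) M
        (TensorProduct.mk (Pn p R n) (PerfectClosure R p) (Pn p R n ⊗[R] M) 1 w) := by
    intro w
    induction w using TensorProduct.induction_on with
    | zero => simp
    | tmul s m =>
      rw [LinearMap.rTensor_tmul, TensorProduct.mk_apply,
        AlgebraTensorModule.cancelBaseChange_tmul, jn_apply, Algebra.smul_def, mul_one,
        algebraMap_pn_perf]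
    | add x y hx hy => rw [map_add, hx, hy, map_add, map_add]
  intro a b hab
  rw [h2, h2] at hab
  exact h1 ((AlgebraTensorModule.cancelBaseChange R (Pn p R n) (Pn p R n)
    (PerfectClosure R p) M).injective hab)

theorem range_jn_mono (Q : Type*) [AddCommGroup Q] [Module R Q] (n d : ℕ) :
    LinearMap.range ((jn p R n).rTensor Q) ≤ LinearMap.range ((jn p R (n + d)).rTensor Q) := by
  have h : jn p R n = jn p R (n + d) ∘ₗ trans p R n d := by
    ext x
    exact (jn_trans p R n d x).symm
  rw [h, LinearMap.rTensor_comp]
  exact LinearMap.range_comp_le_range _ _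

theorem cover_jn (Q : Type*) [AddCommGroup Q] [Module R Q] (z : PerfectClosure R p ⊗[R] Q) :
    ∃ n, z ∈ LinearMap.range ((jn p R n).rTensor Q) := by
  induction z using TensorProduct.induction_on with
  | zero => exact ⟨0, Submodule.zero_mem _⟩
  | tmul r q =>
    obtain ⟨⟨l, x⟩, rfl⟩ := PerfectClosure.mk_surjective R p r
    refine ⟨l, toPn p R l x ⊗ₜ q, ?_⟩
    rw [LinearMap.rTensor_tmul, jn_apply, psi_apply, RingEquiv.symm_apply_apply]
  | add x y hx hy =>
    obtain ⟨n, hn⟩ := hx
    obtain ⟨m, hm⟩ := hy
    refine ⟨n + m, Submodule.add_mem _ (range_jn_mono p R Q n m hn) ?_⟩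
    rw [Nat.add_comm]
    exact range_jn_mono p R Q m n hm

/-- The Frobenius twist of `FrobAlg` is the first stage. -/
def twistEquiv : FrobAlg.Twist p R ≃ₗ[R] Pn p R 1 where
  toFun x := toPn p R 1 ((FrobAlg.toTwist p R).symm x)
  invFun x := FrobAlg.toTwist p R ((toPn p R 1).symm x)
  map_add' x y := by rw [map_add, map_add]
  map_smul' r x := by
    rw [smul_Pn, RingHom.id_apply, Algebra.smul_def, FrobAlg.algebraMap_twist, map_mul, map_mul,
      RingEquiv.symm_apply_apply, pow_one]
  left_inv x := by simp
  right_inv x := by simp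

theorem projective_Pn_one [h : Module.Projective R (FrobAlg.Twist p R)] :
    Module.Projective R (Pn p R 1) := Module.Projective.of_equiv' (twistEquiv p R)

end Perf

section Final

attribute [local instance] algOf

theorem main (p : ℕ) [Fact p.Prime] (R : Type u) [CommRing R] [CharP R p]
    (A : Type u) [CommRing A] [Algebra R A] [CharP A p]
    [Module.Projective R (FrobAlg.Twist p R)] :
    letI : Algebra R (PerfectClosure R p) := (PerfectClosure.of R p).toAlgebra
    Function.Injective
      (LinearMap.pi fun i : ℕ =>
        LinearMap.lTensor (PerfectClosure R p)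
          (((Pi.evalAlgHom R (fun k => W4c1imperftorsors.Twist p R A k) i).comp
            (W4c1imperftorsors.prePerf p R A).val).toLinearMap) :
        PerfectClosure R p ⊗[R] ↥(W4c1imperftorsors.prePerf p R A) →ₗ[R]
          (Π i : ℕ, PerfectClosure R p ⊗[R] W4c1imperftorsors.Twist p R A i)) := by
  have h1 : Module.Projective R (Pn p R 1) := projective_Pn_one p R
  have hP : ∀ k, Module.Projective R (Pn p R k) := fun k => projective_Pn p R k
  refine injective_pi_lTensor (R := R) (Q := ↥(W4c1imperftorsors.prePerf p R A))
    (M := fun i => W4c1imperftorsors.Twist p R A i)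
    (fun i => ((Pi.evalAlgHom R (fun k => W4c1imperftorsors.Twist p R A k) i).comp
            (W4c1imperftorsors.prePerf p R A).val).toLinearMap) (PerfectClosure R p) ?_
    (fun k => Pn p R k) (fun k => jn p R k) ?_ ?_
  · intro q hq
    apply Subtype.ext
    funext i
    exact hq i
  · intro k i
    exact jn_rTensor_injective p R k _
  · intro z
    exact cover_jn p R _ z

end Final

end Groth.Agent.R2.H75.PerfClosure
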