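import Mathlib

/-!
# Tensoring a jointly injective family with a directed union of projective modules

Abstract module-theoretic lemmas used for S16000 (helper75).
-/

set_option autoImplicit false

namespace Groth.Agent.R2.H75.PerfTensor

open TensorProduct

universe u v w

variable {R : Type u} [CommRing R]

section Joint

variable {ι : Type*} {Q : Type*} [AddCommGroup Q] [Module R Q] {M : ι → Type*}
  [∀ i, AddCommGroup (M i)] [∀ i, Module R (M i)] (g : ∀ i, Q →ₗ[R] M i)

/-- Joint injectivity of a family is preserved by tensoring with a free module `κ →₀ R`. -/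
theorem joint_injective_finsupp {κ : Type*} (hg : ∀ q, (∀ i, g i q = 0) → q = 0)
    (w : (κ →₀ R) ⊗[R] Q) (hw : ∀ i, (g i).lTensor (κ →₀ R) w = 0) : w = 0 := by
  classical
  have hnat : ∀ i, (TensorProduct.finsuppScalarLeft R (M i) κ).toLinearMap ∘ₗ (g i).lTensor (κ →₀ R) =
      (Finsupp.mapRange.linearMap (g i)) ∘ₗ (TensorProduct.finsuppScalarLeft R Q κ).toLinearMap := by
    intro i
    apply TensorProduct.ext'
    intro x q
    induction x using Finsupp.induction_linear with
    | zero => simp
    | add x y hx hy =>
      simp only [LinearMap.coe_comp, Function.comp_apply, add_tmul, map_add] at hx hy ⊢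
      rw [hx, hy]
    | single k r =>
      ext k'
      simp [TensorProduct.finsuppScalarLeft_apply_tmul_apply, Finsupp.single_apply]
      split_ifs <;> simp
  apply (TensorProduct.finsuppScalarLeft R Q κ).injective
  rw [map_zero]
  ext k
  apply hg
  intro i
  have := congrArg (fun f => f k) (LinearMap.congr_fun (hnat i) w)
  simp only [LinearMap.coe_comp, Function.comp_apply, LinearEquiv.coe_coe, hw i, map_zero,
    Finsupp.coe_zero, Pi.zero_apply, Finsupp.mapRange.linearMap_apply, Finsupp.mapRange_apply] at this
  exact this.symm

/-- Joint injectivity of a family is preserved by tensoring with a projective module. -/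
theorem joint_injective_projective (P : Type*) [AddCommGroup P] [Module R P] [Module.Projective R P]
    (hg : ∀ q, (∀ i, g i q = 0) → q = 0)
    (w : P ⊗[R] Q) (hw : ∀ i, (g i).lTensor P w = 0) : w = 0 := by
  obtain ⟨s, hs⟩ := (Module.projective_def' (R := R) (P := P)).mp inferInstance
  have h1 : s.rTensor Q w = 0 := by
    apply joint_injective_finsupp g hg
    intro i
    have : (g i).lTensor (P →₀ R) (s.rTensor Q w) = s.rTensor (M i) ((g i).lTensor P w) := by
      rw [← LinearMap.comp_apply, ← LinearMap.comp_apply, LinearMap.lTensor_comp_rTensor,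
        LinearMap.rTensor_comp_lTensor]
    rw [this, hw i, map_zero]
  have h2 : (Finsupp.linearCombination R id).rTensor Q (s.rTensor Q w) = w := by
    rw [← LinearMap.comp_apply, ← LinearMap.rTensor_comp, hs, LinearMap.rTensor_id,
      LinearMap.id_apply]
  rw [← h2, h1, map_zero]

/-- **Main abstract lemma.** If every element of `R' ⊗ Q` comes from `P k ⊗ Q` for some member of a
family of projective modules `P k` mapping to `R'` by maps `j k` which stay injective after tensoring
with each `M i`, then tensoring a jointly injective family `g i : Q → M i` with `R'` gives a jointly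
injective family. -/
theorem injective_pi_lTensor (R' : Type*) [AddCommGroup R'] [Module R R']
    (hg : ∀ q, (∀ i, g i q = 0) → q = 0)
    {κ : Type*} (P : κ → Type*) [∀ k, AddCommGroup (P k)] [∀ k, Module R (P k)]
    [∀ k, Module.Projective R (P k)] (j : ∀ k, P k →ₗ[R] R')
    (hj : ∀ k i, Function.Injective ((j k).rTensor (M i)))
    (hcover : ∀ z : R' ⊗[R] Q, ∃ k, z ∈ LinearMap.range ((j k).rTensor Q)) :
    Function.Injective (LinearMap.pi fun i => (g i).lTensor R') := by
  rw [injective_iff_map_eq_zero]
  intro z hz
  obtain ⟨k, w, rfl⟩ := hcover z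
  have hw : w = 0 := by
    apply joint_injective_projective g (P k) hg
    intro i
    apply hj k i
    rw [map_zero]
    have := congrFun hz i
    simp only [LinearMap.pi_apply, Pi.zero_apply] at this
    rw [← this, ← LinearMap.comp_apply, ← LinearMap.comp_apply, LinearMap.rTensor_comp_lTensor,
      LinearMap.lTensor_comp_rTensor]
  rw [hw, map_zero]

end Joint

section Trans

/-- Transitivity of projectivity along an algebra which is projective as a module. -/
theorem projective_trans (S : Type*) [CommRing S] [Algebra R S] [Module.Projective R S]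
    (N : Type*) [AddCommGroup N] [Module R N] [Module S N] [IsScalarTower R S N]
    [Module.Projective S N] : Module.Projective R N := by
  classical
  obtain ⟨s, hs⟩ := (Module.projective_def' (R := S) (P := N)).mp inferInstance
  have : Module.Projective R (N →₀ S) :=
    Module.Projective.of_equiv' (finsuppLEquivDirectSum R S N).symm
  exact Module.Projective.of_split (s.restrictScalars R)
    ((Finsupp.linearCombination S id).restrictScalars R)
    (by ext x; exact LinearMap.congr_fun hs x)

end Trans


section FlatDirected

/-- A module which is a "directed union" of images of flat modules (with the kernel of each map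
killed at a later stage) is flat. -/
theorem flat_of_directed {A : Type*} [CommRing A] {M : Type*} [AddCommGroup M] [Module A M]
    (P : ℕ → Type*) [∀ k, AddCommGroup (P k)] [∀ k, Module A (P k)] [∀ k, Module.Flat A (P k)]
    (j : ∀ k, P k →ₗ[A] M)
    (hT : ∀ k k', k ≤ k' → ∃ τ : P k →ₗ[A] P k', ∀ x, j k' (τ x) = j k x)
    (hS : ∀ m : M, ∃ k x, j k x = m)
    (hH : ∀ k (y : P k), j k y = 0 → ∃ (k' : ℕ) (τ : P k →ₗ[A] P k'), (∀ x, j k' (τ x) = j k x) ∧ τ y = 0) :
    Module.Flat A M := by
  classical
  apply Module.Flat.of_forall_isTrivialRelation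
  intro l f m hfm
  -- lift the `m i` to a common stage
  have hS' : ∃ (k : ℕ) (y : Fin l → P k), ∀ i, j k (y i) = m i := by
    choose ki xi hxi using hS
    let K := Finset.univ.sup (fun i : Fin l => ki (m i))
    have hK : ∀ i, ki (m i) ≤ K := fun i => Finset.le_sup (f := fun i : Fin l => ki (m i)) (Finset.mem_univ i)
    choose τ hτ using fun i => hT (ki (m i)) K (hK i)
    exact ⟨K, fun i => τ i (xi (m i)), fun i => by rw [hτ, hxi]⟩
  obtain ⟨k, y, hy⟩ := hS'
  have h0 : j k (∑ i, f i • y i) = 0 := by
    rw [map_sum]
    simp only [map_smul, hy]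
    exact hfm
  obtain ⟨k', τ, hτ, hτ0⟩ := hH k _ h0
  have hrel : ∑ i, f i • τ (y i) = 0 := by
    rw [← hτ0, map_sum]
    simp only [map_smul]
  obtain ⟨n, a, z, hz, ha⟩ := Module.Flat.isTrivialRelation_of_sum_smul_eq_zero hrel
  refine ⟨n, a, fun jj => j k' (z jj), fun i => ?_, ha⟩
  have hzi : τ (y i) = ∑ j, a i j • z j := hz i
  rw [← hy i, ← hτ, hzi, map_sum]
  simp only [map_smul]

end FlatDirected


section Pn

/-- `R` regarded as an `R`-algebra through the `n`-th iterate of Frobenius (a copy of `R`). -/
@[nolint unusedArguments]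
def Pn (_p : ℕ) (R : Type u) (_n : ℕ) : Type u := R

variable (p : ℕ) [Fact p.Prime] (R : Type u) [CommRing R] [CharP R p]

instance (n : ℕ) : CommRing (Pn p R n) := inferInstanceAs (CommRing R)

instance (n : ℕ) : CharP (Pn p R n) p := inferInstanceAs (CharP R p)

/-- The identity `R ≃+* Pn p R n`. -/
def toPn (n : ℕ) : R ≃+* Pn p R n := RingEquiv.refl R

instance algPn (n : ℕ) : Algebra R (Pn p R n) :=
  ((toPn p R n : R →+* Pn p R n).comp (iterateFrobenius R p n)).toAlgebra

theorem algebraMap_Pn (n : ℕ) (a : R) : algebraMap R (Pn p R n) a = toPn p R n (a ^ p ^ n) := rfl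

theorem smul_Pn (n : ℕ) (a : R) (x : Pn p R n) : a • x = toPn p R n (a ^ p ^ n) * x := rfl

/-- `Pn p R 0` is `R`. -/
def pnZeroEquiv : R ≃ₗ[R] Pn p R 0 where
  toFun := toPn p R 0
  invFun := (toPn p R 0).symm
  map_add' := map_add _
  map_smul' r x := by
    rw [smul_Pn, pow_zero, pow_one, RingHom.id_apply, smul_eq_mul, map_mul]
  left_inv := (toPn p R 0).left_inv
  right_inv := (toPn p R 0).right_inv

instance : Module.Projective R (Pn p R 0) := Module.Projective.of_equiv' (pnZeroEquiv p R)

/-- `Pn p R (n+1)` as a module over `S = Pn p R 1` is `Pn p S n`. -/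
theorem projective_Pn_succ (n : ℕ) [h1 : Module.Projective R (Pn p R 1)]
    [hn : Module.Projective R (Pn p R n)] : Module.Projective R (Pn p R (n + 1)) := by
  let S := Pn p R 1
  let N := Pn p S n
  letI : Module R N := Module.compHom N (algebraMap R S)
  haveI : IsScalarTower R S N := IsScalarTower.of_algebraMap_smul fun _ _ => rfl
  haveI : Module.Projective S N := hn
  haveI : Module.Projective R N := projective_trans (R := R) S N
  let e : N ≃ₗ[R] Pn p R (n + 1) :=
    { toFun := fun x => x
      invFun := fun x => x
      map_add' := fun _ _ => rfl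
      map_smul' := fun r x => by
        change (((r ^ p ^ 1 : R) ^ p ^ n : R) * (@id R x) : R) = ((r ^ p ^ (n + 1) : R) * (@id R x) : R)
        rw [← pow_mul, pow_one, ← pow_succ']
      left_inv := fun _ => rfl
      right_inv := fun _ => rfl }
  exact Module.Projective.of_equiv' e

theorem projective_Pn [h1 : Module.Projective R (Pn p R 1)] (n : ℕ) :
    Module.Projective R (Pn p R n) := by
  induction n with
  | zero => infer_instance
  | succ n ih => exact projective_Pn_succ p R n

end Pn

end Groth.Agent.R2.H75.PerfTensor
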