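import Mathlib
import Groth.Agent.Lib.Helper10RedProjU

/-!
# Abstract algebra for Dieudonné modules: `M/VM` is projective (helper76)

Linear data `a : M → N`, `b : N → M` with `ab = ba = π` over a ring `R`; if at every prime containing `π`
there is a lift to a module `E` on which `π`-torsion is `π`-divisible, then `M ⧸ range b` is projective
over the reduced ring `R/π`.
-/

set_option autoImplicit false
set_option linter.style.haveILetI false
universe u v
open TensorProduct Module

namespace Groth.Agent.R2.H76.Dieu

section TProp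

variable {R : Type*} [CommRing R] (π : R)

/-- property (T): the `π`-torsion is `π`-divisible. -/
def TProp (E : Type*) [AddCommGroup E] [Module R E] : Prop :=
  ∀ e : E, π • e = 0 → ∃ e' : E, e = π • e'

variable {π}

theorem TProp.of_retract {E₁ E₂ : Type*} [AddCommGroup E₁] [Module R E₁] [AddCommGroup E₂]
    [Module R E₂] (i : E₁ →ₗ[R] E₂) (r : E₂ →ₗ[R] E₁) (h : ∀ x, r (i x) = x) (hE : TProp π E₂) :
    TProp π E₁ := by
  intro e he
  obtain ⟨e', he'⟩ := hE (i e) (by rw [← map_smul, he, map_zero])
  exact ⟨r e', by rw [← map_smul, ← he', h]⟩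

theorem TProp.finsupp {E : Type*} [AddCommGroup E] [Module R E] (hE : TProp π E) (ι : Type*) :
    TProp π (ι →₀ E) := by
  classical
  intro f hf
  have h1 : ∀ e : E, ∃ e' : E, π • e = 0 → e = π • e' := by
    intro e
    by_cases he : π • e = 0
    · obtain ⟨e', he'⟩ := hE e he
      exact ⟨e', fun _ => he'⟩
    · exact ⟨0, fun h => absurd h he⟩
  choose c hc using h1
  refine ⟨Finsupp.onFinset f.support (fun i => if f i = 0 then 0 else c (f i)) ?_, ?_⟩
  · intro i hi
    rw [Finsupp.mem_support_iff]
    intro h0
    rw [if_pos h0] at hi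
    exact hi rfl
  · ext i
    rw [Finsupp.smul_apply, Finsupp.onFinset_apply]
    by_cases h0 : f i = 0
    · rw [if_pos h0, h0, smul_zero]
    · rw [if_neg h0]
      apply hc
      have := DFunLike.congr_fun hf i
      rwa [Finsupp.smul_apply] at this

theorem TProp.tensor_projective {E : Type*} [AddCommGroup E] [Module R E] (hE : TProp π E)
    (N : Type*) [AddCommGroup N] [Module R N] [Module.Projective R N] : TProp π (E ⊗[R] N) := by
  classical
  obtain ⟨s, hs⟩ := (Module.projective_def' (R := R) (P := N)).1 inferInstance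
  let t : (N →₀ R) →ₗ[R] N := Finsupp.linearCombination R id
  have hst : ∀ x, t (s x) = x := fun x => LinearMap.congr_fun hs x
  let e : E ⊗[R] (N →₀ R) ≃ₗ[R] (N →₀ E) := TensorProduct.finsuppScalarRight R R E N
  refine TProp.of_retract (e.toLinearMap ∘ₗ LinearMap.lTensor E s)
    (LinearMap.lTensor E t ∘ₗ e.symm.toLinearMap) ?_ (hE.finsupp N)
  intro x
  simp only [LinearMap.comp_apply, LinearEquiv.coe_coe, LinearEquiv.symm_apply_apply]
  rw [← LinearMap.comp_apply, ← LinearMap.lTensor_comp]
  have : t ∘ₗ s = LinearMap.id := LinearMap.ext hst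
  rw [this, LinearMap.lTensor_id, LinearMap.id_apply]

end TProp

section exact

variable {R : Type*} [CommRing R] (π : R) {M N : Type*} [AddCommGroup M] [Module R M]
  [AddCommGroup N] [Module R N]

theorem mem_range_of_T (a : M →ₗ[R] N) (b : N →ₗ[R] M) (hab : ∀ n, a (b n) = π • n)
    (hba : ∀ m, b (a m) = π • m) (hT : TProp π N) (n : N) (m : M) (h : b n = π • m) :
    n ∈ LinearMap.range a := by
  have h1 : b (n - a m) = 0 := by rw [map_sub, hba, h, sub_self]
  have h2 : π • (n - a m) = 0 := by rw [← hab, h1, map_zero]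
  obtain ⟨y, hy⟩ := hT _ h2
  refine ⟨m + b y, ?_⟩
  rw [map_add, hab, ← hy]
  abel

variable (a : M →ₗ[R] N) (b : N →ₗ[R] M) (hab : ∀ n, a (b n) = π • n)
    (hba : ∀ m, b (a m) = π • m)
    (K : Type*) [Field K] [Algebra R K] (E : Type*) [AddCommGroup E] [Module R E]
    (q : E →ₗ[R] K) (hq : Function.Surjective q)
    (hex : Function.Exact (LinearMap.lsmul R E π) q) (hT : TProp π (E ⊗[R] N))

include hab hba hq hex hT in
theorem exact_baseChange : Function.Exact (a.baseChange K) (b.baseChange K) := by
  have hπK : ∀ c : K, π • c = 0 := by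
    intro c
    obtain ⟨e, rfl⟩ := hq c
    rw [← map_smul]
    exact (hex _).2 ⟨e, rfl⟩
  intro z
  constructor
  · intro hz
    -- lift `z` to `E ⊗ N`
    obtain ⟨n', rfl⟩ := LinearMap.rTensor_surjective N hq z
    have h1 : LinearMap.rTensor M q (LinearMap.lTensor E b n') = 0 := by
      have : LinearMap.rTensor M q (LinearMap.lTensor E b n') =
          LinearMap.lTensor K b (LinearMap.rTensor N q n') := by
        rw [← LinearMap.comp_apply, ← LinearMap.comp_apply, LinearMap.rTensor_comp_lTensor,
          LinearMap.lTensor_comp_rTensor]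
      rw [this]
      exact hz
    obtain ⟨m', hm'⟩ := (rTensor_exact M hex hq _).1 h1
    have h2 : LinearMap.lTensor E b n' = π • m' := by
      rw [← hm']
      have : LinearMap.lsmul R E π = π • LinearMap.id := by
        ext e; simp
      rw [this, LinearMap.rTensor_smul, LinearMap.rTensor_id]
      rfl
    have hab' : ∀ n, LinearMap.lTensor E a (LinearMap.lTensor E b n) = π • n := by
      intro n
      rw [← LinearMap.comp_apply, ← LinearMap.lTensor_comp]
      have : a ∘ₗ b = π • LinearMap.id := LinearMap.ext fun n => by simpa using hab n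
      rw [this, LinearMap.lTensor_smul, LinearMap.lTensor_id]
      rfl
    have hba' : ∀ m, LinearMap.lTensor E b (LinearMap.lTensor E a m) = π • m := by
      intro m
      rw [← LinearMap.comp_apply, ← LinearMap.lTensor_comp]
      have : b ∘ₗ a = π • LinearMap.id := LinearMap.ext fun n => by simpa using hba n
      rw [this, LinearMap.lTensor_smul, LinearMap.lTensor_id]
      rfl
    obtain ⟨m'', hm''⟩ := mem_range_of_T π (LinearMap.lTensor E a) (LinearMap.lTensor E b) hab' hba'
      hT n' m' h2
    refine ⟨LinearMap.rTensor M q m'', ?_⟩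
    rw [← hm'']
    change LinearMap.lTensor K a (LinearMap.rTensor M q m'') = _
    rw [← LinearMap.comp_apply, ← LinearMap.comp_apply, LinearMap.rTensor_comp_lTensor,
      LinearMap.lTensor_comp_rTensor]
  · rintro ⟨w, rfl⟩
    change LinearMap.lTensor K b (LinearMap.lTensor K a w) = 0
    rw [← LinearMap.comp_apply, ← LinearMap.lTensor_comp]
    have : b ∘ₗ a = π • LinearMap.id := LinearMap.ext fun n => by simpa using hba n
    rw [this, LinearMap.lTensor_smul, LinearMap.lTensor_id]
    change π • w = 0
    induction w using TensorProduct.induction_on with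
    | zero => simp
    | tmul c m => rw [TensorProduct.smul_tmul', hπK, TensorProduct.zero_tmul]
    | add x y hx hy => rw [smul_add, hx, hy, add_zero]

end exact

section count

variable {R : Type*} [CommRing R] {M N : Type*} [AddCommGroup M] [Module R M]
  [AddCommGroup N] [Module R N] [Module.Finite R M] [Module.Finite R N]
  (a : M →ₗ[R] N) (b : N →ₗ[R] M) (K : Type*) [Field K] [Algebra R K]

theorem finrank_coker_add (hexact : Function.Exact (a.baseChange K) (b.baseChange K)) :
    finrank K (K ⊗[R] (N ⧸ LinearMap.range a)) + finrank K (K ⊗[R] (M ⧸ LinearMap.range b)) =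
      finrank K (K ⊗[R] M) := by
  have h1 := Groth.Agent.Lib.Helper10.FibreRank.finrank_range_baseChange_add a K
  have h2 := Groth.Agent.Lib.Helper10.FibreRank.finrank_range_baseChange_add b K
  have h3 := LinearMap.finrank_range_add_finrank_ker (b.baseChange K)
  rw [LinearMap.exact_iff.1 hexact] at h3
  omega

end count

section fieldExt

variable {R : Type*} [CommRing R]

/-- the fibre dimension at a prime can be computed over any field whose structure map has that
prime as kernel. -/
theorem finrank_eq_of_ker (y : PrimeSpectrum R) (L : Type*) [Field L] [Algebra R L]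
    (hker : RingHom.ker (algebraMap R L) = y.asIdeal) (Q : Type*) [AddCommGroup Q] [Module R Q] :
    finrank L (L ⊗[R] Q) = finrank y.asIdeal.ResidueField (y.asIdeal.ResidueField ⊗[R] Q) := by
  let ι : y.asIdeal.ResidueField →+* L := Ideal.ResidueField.lift y.asIdeal (algebraMap R L)
    hker.ge (by
      intro r hr
      have : algebraMap R L r ≠ 0 := by
        intro h0
        exact hr (hker ▸ (RingHom.mem_ker.2 h0))
      exact this.isUnit)
  let _ : Algebra y.asIdeal.ResidueField L := ι.toAlgebra
  have : IsScalarTower R y.asIdeal.ResidueField L := IsScalarTower.of_algebraMap_eq fun r => by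
    change _ = ι _
    exact (Ideal.ResidueField.lift_algebraMap y.asIdeal (algebraMap R L) _ _ r).symm
  let e : L ⊗[y.asIdeal.ResidueField] (y.asIdeal.ResidueField ⊗[R] Q) ≃ₗ[L] L ⊗[R] Q :=
    AlgebraTensorModule.cancelBaseChange _ _ _ _ _
  rw [← e.finrank_eq, finrank_baseChange]

/-- for a surjective ring map `R → B`, tensoring a `B`-module with a `B`-field over `R` or over `B`
gives the same dimension. -/
theorem finrank_tensor_of_surjective (B : Type*) [CommRing B] [Algebra R B]
    (hsurj : Function.Surjective (algebraMap R B)) (L : Type*) [Field L] [Algebra B L] [Algebra R L]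
    [IsScalarTower R B L] (Q : Type*) [AddCommGroup Q] [Module B Q] [Module R Q]
    [IsScalarTower R B Q] :
    finrank L (L ⊗[B] Q) = finrank L (L ⊗[R] Q) := by
  have : TensorProduct.CompatibleSMul R B L Q :=
    TensorProduct.CompatibleSMul.of_algebraMap_surjective L Q hsurj
  exact (TensorProduct.equivOfCompatibleSMul R B L L Q).finrank_eq

end fieldExt

section main

variable {R : Type u} [CommRing R] (π : R) {M N : Type v} [AddCommGroup M] [Module R M]
  [AddCommGroup N] [Module R N] [Module.Finite R M] [Module.Projective R M] [Module.Finite R N]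
  (a : M →ₗ[R] N) (b : N →ₗ[R] M)

theorem projective_of_pointwise
    (hpt : ∀ y : PrimeSpectrum R, π ∈ y.asIdeal →
      finrank y.asIdeal.ResidueField (y.asIdeal.ResidueField ⊗[R] (N ⧸ LinearMap.range a)) +
        finrank y.asIdeal.ResidueField (y.asIdeal.ResidueField ⊗[R] (M ⧸ LinearMap.range b)) =
      finrank y.asIdeal.ResidueField (y.asIdeal.ResidueField ⊗[R] M))
    (B : Type*) [CommRing B] [IsReduced B] [Algebra R B]
    (hsurj : Function.Surjective (algebraMap R B)) (hπ : algebraMap R B π = 0)
    (Q : Type*) [AddCommGroup Q] [Module B Q] [Module R Q] [IsScalarTower R B Q]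
    (φ : M →ₗ[R] Q) (hφ : Function.Surjective φ) (hker : LinearMap.ker φ = LinearMap.range b) :
    Module.Projective B Q := by
  have hfp : Module.FinitePresentation R M := Module.finitePresentation_of_projective R M
  have hfinR : Module.Finite R Q := Module.Finite.of_surjective φ hφ
  have hfinB : Module.Finite B Q := Module.Finite.of_restrictScalars_finite R B Q
  apply Groth.Agent.Lib.Helper10.RedProjU.projective_of_isLocallyConstant
  let c : PrimeSpectrum B → PrimeSpectrum R := PrimeSpectrum.comap (algebraMap R B)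
  have hc : Continuous c := PrimeSpectrum.continuous_comap (algebraMap R B)
  let ψ : (M ⧸ LinearMap.range b) ≃ₗ[R] Q :=
    (Submodule.quotEquivOfEq _ _ hker.symm) ≪≫ₗ φ.quotKerEquivOfSurjective hφ
  -- the fibre dimension over `B` is the one over `R`
  have hE : ∀ y' : PrimeSpectrum B,
      finrank y'.asIdeal.ResidueField (y'.asIdeal.ResidueField ⊗[B] Q) =
        finrank (c y').asIdeal.ResidueField
          ((c y').asIdeal.ResidueField ⊗[R] (M ⧸ LinearMap.range b)) := by
    intro y'
    rw [finrank_tensor_of_surjective B hsurj y'.asIdeal.ResidueField Q,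
      ← (LinearEquiv.baseChange R y'.asIdeal.ResidueField _ _ ψ).finrank_eq]
    apply finrank_eq_of_ker
    rw [IsScalarTower.algebraMap_eq R B y'.asIdeal.ResidueField, ← RingHom.comap_ker,
      Ideal.ker_algebraMap_residueField]
    rfl
  have hπc : ∀ y' : PrimeSpectrum B, π ∈ (c y').asIdeal := by
    intro y'
    change algebraMap R B π ∈ y'.asIdeal
    rw [hπ]
    exact y'.asIdeal.zero_mem
  rw [IsLocallyConstant.iff_exists_open]
  intro y'
  obtain ⟨Ua, hUa, hyUa, hUa'⟩ :=
    Groth.Agent.Lib.Helper10.FibreRank.exists_isOpen_finrank_le (N ⧸ LinearMap.range a) (c y')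
  obtain ⟨Ub, hUb, hyUb, hUb'⟩ :=
    Groth.Agent.Lib.Helper10.FibreRank.exists_isOpen_finrank_le (M ⧸ LinearMap.range b) (c y')
  obtain ⟨Uh, hUh, hyUh, hUh'⟩ := (IsLocallyConstant.iff_exists_open _).1
    (Module.isLocallyConstant_rankAtStalk (R := R) (M := M)) (c y')
  refine ⟨c ⁻¹' (Ua ∩ Ub ∩ Uh), ((hUa.inter hUb).inter hUh).preimage hc, ⟨⟨hyUa, hyUb⟩, hyUh⟩, ?_⟩
  rintro y'' ⟨⟨h1, h2⟩, h3⟩
  rw [hE, hE]
  have e1 := hpt (c y') (hπc y')
  have e2 := hpt (c y'') (hπc y'')
  have l1 := hUa' _ h1
  have l2 := hUb' _ h2
  have l3 := hUh' _ h3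
  rw [Module.rankAtStalk_eq, Module.rankAtStalk_eq] at l3
  have l3' : finrank (c y'').asIdeal.ResidueField ((c y'').asIdeal.ResidueField ⊗[R] M) =
      finrank (c y').asIdeal.ResidueField ((c y').asIdeal.ResidueField ⊗[R] M) := l3
  omega

end main

section combined

variable {R : Type u} [CommRing R] (π : R) {M N : Type v} [AddCommGroup M] [Module R M]
  [AddCommGroup N] [Module R N] [Module.Finite R M] [Module.Projective R M] [Module.Finite R N]
  [Module.Projective R N]
  (a : M →ₗ[R] N) (b : N →ₗ[R] M)

/-- the main abstract theorem. -/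
theorem projective_of_lifts (hab : ∀ n, a (b n) = π • n) (hba : ∀ m, b (a m) = π • m)
    (hlift : ∀ y : PrimeSpectrum R, π ∈ y.asIdeal →
      ∃ (K : Type u) (_ : Field K) (_ : Algebra R K) (E : Type u) (_ : AddCommGroup E)
        (_ : Module R E) (q : E →ₗ[R] K), RingHom.ker (algebraMap R K) = y.asIdeal ∧
          Function.Surjective q ∧ Function.Exact (LinearMap.lsmul R E π) q ∧ TProp π E)
    (B : Type*) [CommRing B] [IsReduced B] [Algebra R B]
    (hsurj : Function.Surjective (algebraMap R B)) (hπ : algebraMap R B π = 0)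
    (Q : Type*) [AddCommGroup Q] [Module B Q] [Module R Q] [IsScalarTower R B Q]
    (φ : M →ₗ[R] Q) (hφ : Function.Surjective φ) (hker : LinearMap.ker φ = LinearMap.range b) :
    Module.Projective B Q := by
  refine projective_of_pointwise π a b ?_ B hsurj hπ Q φ hφ hker
  intro y hy
  obtain ⟨K, _, _, E, _, _, q, hkerK, hq, hex, hT⟩ := hlift y hy
  have hexact := exact_baseChange π a b hab hba K E q hq hex (hT.tensor_projective N)
  have h := finrank_coker_add a b K hexact
  rw [finrank_eq_of_ker y K hkerK, finrank_eq_of_ker y K hkerK, finrank_eq_of_ker y K hkerK] at h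
  exact h

end combined

end Groth.Agent.R2.H76.Dieu
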