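import Mathlib
import Groth.Agent.R2.H76Dieu1
import Groth.Agent.Lib.Helper24Dieu

/-!
# Dieudonné modules over perfect rings: level-one conditions and projectivity of `M/VM` (helper76)
-/

set_option autoImplicit false
set_option linter.unusedSectionVars false
set_option linter.unusedVariables false
set_option linter.style.haveILetI false
universe u v
open TensorProduct Module

namespace Groth.Agent.R2.H76.DieuW

open Groth.Agent.R2.H76.Dieu

variable (p : ℕ) [Fact p.Prime] (k : Type u) [CommRing k] [CharP k p] [PerfectRing k p]

include p in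
theorem isReduced_of_perfect : IsReduced k := by
  refine ⟨fun x ⟨n, hn⟩ => ?_⟩
  have h : x ^ p ^ n = 0 :=
    pow_eq_zero_of_le (Nat.lt_pow_self (Fact.out : p.Prime).one_lt).le hn
  have h2 : iterateFrobenius k p n x = 0 := by rw [iterateFrobenius_def]; exact h
  exact (injective_iff_map_eq_zero _).1 (bijective_iterateFrobenius (R := k) (p := p) (n := n)).injective x h2

instance isReduced_quot : IsReduced (WittVector p k ⧸ Ideal.span {(p : WittVector p k)}) := by
  have := isReduced_of_perfect p k
  exact isReduced_of_injective (WittVector.quotientPEquiv (p := p) (k := k))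
    (WittVector.quotientPEquiv (p := p) (k := k)).injective

theorem tprop_witt : TProp (p : WittVector p k) (WittVector p k) := by
  intro e he
  rw [smul_eq_mul] at he
  exact ⟨0, by rw [Groth.Agent.Lib.Helper24Dieu.p_mul_eq_zero e he, smul_zero]⟩


section lift

variable {p k}

/-- a ring map `W(k) → K` to a perfect field of characteristic `p` killing `p`, presented via
`W(K)`. -/
theorem exists_lift_aux (K : Type u) [Field K] [Algebra (WittVector p k) K]
    (hp : algebraMap (WittVector p k) K (p : WittVector p k) = 0) [CharP K p] [PerfectRing K p] :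
    ∃ (E : Type u) (_ : AddCommGroup E) (_ : Module (WittVector p k) E)
      (q : E →ₗ[WittVector p k] K), Function.Surjective q ∧
        Function.Exact (LinearMap.lsmul (WittVector p k) E (p : WittVector p k)) q ∧
        (∀ e : E, (p : WittVector p k) • e = 0 → e = 0) := by
  have hle : RingHom.ker (WittVector.constantCoeff : WittVector p k →+* k) ≤
      RingHom.ker (algebraMap (WittVector p k) K) := by
    rw [WittVector.ker_constantCoeff, Ideal.span_singleton_le_iff_mem]
    exact hp
  let f : k →+* K := (WittVector.constantCoeff : WittVector p k →+* k).liftOfSurjective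
    (WittVector.constantCoeff_surjective p) ⟨algebraMap (WittVector p k) K, hle⟩
  have hf : ∀ w : WittVector p k, f (WittVector.constantCoeff w) = algebraMap (WittVector p k) K w :=
    fun w => RingHom.liftOfSurjective_comp_apply _ (WittVector.constantCoeff_surjective p)
      ⟨algebraMap (WittVector p k) K, hle⟩ w
  let g : WittVector p k →+* WittVector p K := WittVector.map f
  have hg : ∀ w : WittVector p k, WittVector.constantCoeff (g w) = algebraMap (WittVector p k) K w := by
    intro w
    rw [← hf]
    exact WittVector.map_coeff f w 0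
  let _ : Module (WittVector p k) (WittVector p K) := Module.compHom (WittVector p K) g
  have hsmul : ∀ (w : WittVector p k) (e : WittVector p K), w • e = g w * e := fun _ _ => rfl
  let q : WittVector p K →ₗ[WittVector p k] K :=
    { toFun := WittVector.constantCoeff
      map_add' := map_add _
      map_smul' := fun w e => by
        rw [hsmul, map_mul, hg, RingHom.id_apply, Algebra.smul_def] }
  have hgp : g (p : WittVector p k) = (p : WittVector p K) := map_natCast g p
  refine ⟨WittVector p K, inferInstance, inferInstance, q, WittVector.constantCoeff_surjective p, ?_, ?_⟩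
  · intro e
    change WittVector.constantCoeff e = 0 ↔ _
    rw [← RingHom.mem_ker, WittVector.ker_constantCoeff, Ideal.mem_span_singleton']
    constructor
    · rintro ⟨a, ha⟩
      exact ⟨a, by change (p : WittVector p k) • a = e; rw [hsmul, hgp, mul_comm, ha]⟩
    · rintro ⟨a, ha⟩
      exact ⟨a, by
        have : (p : WittVector p k) • a = e := ha
        rw [hsmul, hgp, mul_comm] at this; exact this⟩
  · intro e he
    rw [hsmul, hgp] at he
    exact Groth.Agent.Lib.Helper24Dieu.p_mul_eq_zero e he

theorem exists_lift_of_field (I : Ideal (WittVector p k)) (hI : (p : WittVector p k) ∈ I)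
    (κ : Type u) [Field κ] [Algebra (WittVector p k) κ]
    (hκ : RingHom.ker (algebraMap (WittVector p k) κ) = I) :
    ∃ (K : Type u) (_ : Field K) (_ : Algebra (WittVector p k) K) (E : Type u) (_ : AddCommGroup E)
      (_ : Module (WittVector p k) E) (q : E →ₗ[WittVector p k] K),
      RingHom.ker (algebraMap (WittVector p k) K) = I ∧ Function.Surjective q ∧
        Function.Exact (LinearMap.lsmul (WittVector p k) E (p : WittVector p k)) q ∧
        TProp (p : WittVector p k) E := by
  have hker : RingHom.ker (algebraMap (WittVector p k) (AlgebraicClosure κ)) = I := by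
    rw [IsScalarTower.algebraMap_eq (WittVector p k) κ (AlgebraicClosure κ), ← RingHom.comap_ker,
      (RingHom.injective_iff_ker_eq_bot _).1 (algebraMap κ (AlgebraicClosure κ)).injective,
      ← RingHom.ker_eq_comap_bot, hκ]
  have hp : algebraMap (WittVector p k) (AlgebraicClosure κ) (p : WittVector p k) = 0 := by
    rw [← RingHom.mem_ker, hker]; exact hI
  have hpK : (p : AlgebraicClosure κ) = 0 := by rw [← hp, map_natCast]
  have : CharP (AlgebraicClosure κ) p := by
    have := CharP.ringChar_of_prime_eq_zero (R := AlgebraicClosure κ) (Fact.out : p.Prime) hpK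
    exact ringChar.of_eq this
  obtain ⟨E, i1, i2, q, h1, h2, h3⟩ := exists_lift_aux (p := p) (k := k) (AlgebraicClosure κ) hp
  exact ⟨AlgebraicClosure κ, inferInstance, inferInstance, E, i1, i2, q, hker, h1, h2,
    fun e he => ⟨0, by rw [h3 e he, smul_zero]⟩⟩

theorem exists_lift (y : PrimeSpectrum (WittVector p k)) (hy : (p : WittVector p k) ∈ y.asIdeal) :
    ∃ (K : Type u) (_ : Field K) (_ : Algebra (WittVector p k) K) (E : Type u) (_ : AddCommGroup E)
      (_ : Module (WittVector p k) E) (q : E →ₗ[WittVector p k] K),
      RingHom.ker (algebraMap (WittVector p k) K) = y.asIdeal ∧ Function.Surjective q ∧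
        Function.Exact (LinearMap.lsmul (WittVector p k) E (p : WittVector p k)) q ∧
        TProp (p : WittVector p k) E :=
  exists_lift_of_field y.asIdeal hy y.asIdeal.ResidueField (Ideal.ker_algebraMap_residueField _)

end lift


section twist

/-- the Frobenius twist of a `W(k)`-module: the same group with `w • m := φ(w) • m`. -/
@[nolint unusedArguments]
def Tw (p' : ℕ) (k' : Type u) (M : Type v) : Type v := M

variable {M : Type v} [AddCommGroup M] [Module (WittVector p k) M]

instance : AddCommGroup (Tw p k M) := inferInstanceAs (AddCommGroup M)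

noncomputable instance : Module (WittVector p k) (Tw p k M) :=
  Module.compHom M (WittVector.frobenius : WittVector p k →+* WittVector p k)

theorem tw_smul (w : WittVector p k) (n : Tw p k M) :
    w • n = (show M from (WittVector.frobenius w • (show M from n))) := rfl

instance invPair₁ : RingHomInvPair
    ((WittVector.frobeniusEquiv p k).symm : WittVector p k →+* WittVector p k)
    (WittVector.frobenius : WittVector p k →+* WittVector p k) :=
  ⟨by
    ext1 x
    change WittVector.frobenius ((WittVector.frobeniusEquiv p k).symm x) = x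
    rw [← WittVector.frobeniusEquiv_apply, RingEquiv.apply_symm_apply], by
    ext1 x
    change (WittVector.frobeniusEquiv p k).symm (WittVector.frobenius x) = x
    rw [← WittVector.frobeniusEquiv_apply, RingEquiv.symm_apply_apply]⟩

instance invPair₂ : RingHomInvPair
    (WittVector.frobenius : WittVector p k →+* WittVector p k)
    ((WittVector.frobeniusEquiv p k).symm : WittVector p k →+* WittVector p k) :=
  RingHomInvPair.symm _ _

/-- the identity as a semilinear equivalence `M ≃ Tw M`. -/
noncomputable def twEquiv :
    M ≃ₛₗ[((WittVector.frobeniusEquiv p k).symm : WittVector p k →+* WittVector p k)] Tw p k M :=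
  { toFun := fun m => m
    invFun := fun n => n
    left_inv := fun _ => rfl
    right_inv := fun _ => rfl
    map_add' := fun _ _ => rfl
    map_smul' := fun w m => by
      change w • m = WittVector.frobenius ((WittVector.frobeniusEquiv p k).symm w) • m
      rw [← WittVector.frobeniusEquiv_apply, RingEquiv.apply_symm_apply] }

instance [Module.Projective (WittVector p k) M] : Module.Projective (WittVector p k) (Tw p k M) :=
  Module.Projective.of_equiv (twEquiv p k : M ≃ₛₗ[_] Tw p k M)

instance [Module.Finite (WittVector p k) M] : Module.Finite (WittVector p k) (Tw p k M) :=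
  Module.Finite.of_surjective (twEquiv p k : M ≃ₛₗ[_] Tw p k M).toLinearMap (twEquiv p k : M ≃ₛₗ[_] Tw p k M).surjective

variable
    (F : M →ₛₗ[(WittVector.frobenius : WittVector p k →+* WittVector p k)] M)
    (V : M →ₛₗ[((WittVector.frobeniusEquiv p k).symm : WittVector p k →+* WittVector p k)] M)

/-- `F` as a linear map `M → Tw M`. -/
noncomputable def linF : M →ₗ[WittVector p k] Tw p k M :=
  { toFun := fun m => F m
    map_add' := fun x y => F.map_add x y
    map_smul' := fun w m => F.map_smulₛₗ w m }

/-- `V` as a linear map `Tw M → M`. -/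
noncomputable def linV : Tw p k M →ₗ[WittVector p k] M :=
  { toFun := fun n => V n
    map_add' := fun x y => V.map_add x y
    map_smul' := fun w n => by
      change V (WittVector.frobenius w • (show M from n)) = w • V n
      rw [V.map_smulₛₗ]
      congr 1
      rw [← WittVector.frobeniusEquiv_apply]
      exact (WittVector.frobeniusEquiv p k).symm_apply_apply w }

end twist


section kerlemma

theorem mkQ_mem_span_iff {W₀ : Type*} [CommRing W₀] (I : Ideal W₀) {M : Type*} [AddCommGroup M]
    [Module W₀ M] (S : Submodule W₀ M) (hS : I • (⊤ : Submodule W₀ M) ≤ S) {ι : Type*} (v : ι → M)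
    (hv : Set.range v = (S : Set M)) (m : M) :
    (I • (⊤ : Submodule W₀ M)).mkQ m ∈ Submodule.span (W₀ ⧸ I)
      (Set.range fun i => (I • (⊤ : Submodule W₀ M)).mkQ (v i)) ↔ m ∈ S := by
  constructor
  · intro h
    have key : ∀ x ∈ Submodule.span (W₀ ⧸ I)
        (Set.range fun i => (I • (⊤ : Submodule W₀ M)).mkQ (v i)),
        ∀ m : M, (I • (⊤ : Submodule W₀ M)).mkQ m = x → m ∈ S := by
      intro x hx
      induction hx using Submodule.span_induction with
      | mem x hx =>
        obtain ⟨i, rfl⟩ := hx
        intro m hm
        have h1 : m - v i ∈ I • (⊤ : Submodule W₀ M) := by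
          rw [← Submodule.Quotient.mk_eq_zero, Submodule.Quotient.mk_sub, sub_eq_zero]
          exact hm
        have h2 : v i ∈ S := by
          have : v i ∈ (S : Set M) := hv ▸ Set.mem_range_self i
          exact this
        have := S.add_mem (hS h1) h2
        simpa using this
      | zero =>
        intro m hm
        exact hS ((Submodule.Quotient.mk_eq_zero _).1 hm)
      | add x y _ _ hx hy =>
        intro m hm
        obtain ⟨m₁, rfl⟩ := Submodule.mkQ_surjective _ x
        have h1 : (I • (⊤ : Submodule W₀ M)).mkQ (m - m₁) = y := by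
          rw [map_sub, hm]; abel
        have := S.add_mem (hy _ h1) (hx _ rfl)
        simpa using this
      | smul r x _ hx =>
        intro m hm
        obtain ⟨m₁, rfl⟩ := Submodule.mkQ_surjective _ x
        obtain ⟨w, rfl⟩ := Ideal.Quotient.mk_surjective r
        have h0 : Ideal.Quotient.mk I w • (I • (⊤ : Submodule W₀ M)).mkQ m₁ =
            (I • (⊤ : Submodule W₀ M)).mkQ (w • m₁) := rfl
        rw [h0] at hm
        have h1 : m - w • m₁ ∈ I • (⊤ : Submodule W₀ M) := by
          rw [← Submodule.Quotient.mk_eq_zero, Submodule.Quotient.mk_sub, sub_eq_zero]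
          exact hm
        have := S.add_mem (hS h1) (S.smul_mem w (hx _ rfl))
        simpa using this
    exact key _ h m rfl
  · intro hm
    have : m ∈ Set.range v := hv ▸ hm
    obtain ⟨i, rfl⟩ := this
    exact Submodule.subset_span ⟨i, rfl⟩

end kerlemma

section comap

variable {p k}
variable {M : Type v} [AddCommGroup M] [Module (WittVector p k) M]

theorem mem_p_smul_top_iff' (x : M) :
    x ∈ Ideal.span {(p : WittVector p k)} • (⊤ : Submodule (WittVector p k) M) ↔
      ∃ y : M, x = (p : WittVector p k) • y := by
  rw [Submodule.ideal_span_singleton_smul, Submodule.mem_smul_pointwise_iff_exists]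
  constructor
  · rintro ⟨y, -, rfl⟩; exact ⟨y, rfl⟩
  · rintro ⟨y, rfl⟩; exact ⟨y, Submodule.mem_top, rfl⟩

theorem p_smul_eq_zero_of_projective [Module.Projective (WittVector p k) M] (x : M)
    (h : (p : WittVector p k) • x = 0) : x = 0 := by
  classical
  obtain ⟨s, hs⟩ := (Module.projective_def' (R := WittVector p k) (P := M)).1 inferInstance
  have h1 : s x = 0 := by
    refine Finsupp.ext fun i => ?_
    have := DFunLike.congr_fun (show (p : WittVector p k) • s x = 0 by rw [← map_smul, h, map_zero]) i
    rw [Finsupp.smul_apply, smul_eq_mul, Finsupp.zero_apply] at this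
    rw [Finsupp.zero_apply]
    exact Groth.Agent.Lib.Helper24Dieu.p_mul_eq_zero _ this
  have := LinearMap.congr_fun hs x
  rw [LinearMap.comp_apply, h1, map_zero] at this
  exact this.symm

theorem comap_eq_of_inj {σ₁ σ₂ : WittVector p k →+* WittVector p k}
    (hσ₁ : σ₁ (p : WittVector p k) = p)
    (G : M →ₛₗ[σ₁] M) (H : M →ₛₗ[σ₂] M)
    (hGH : ∀ m : M, G (H m) = (p : WittVector p k) • m)
    (hHG : ∀ m : M, H (G m) = (p : WittVector p k) • m)
    (hinj : ∀ x : M, (p : WittVector p k) • x = 0 → x = 0) :
    (Ideal.span {(p : WittVector p k)} • (⊤ : Submodule (WittVector p k) M)).comap G =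
      Submodule.span (WittVector p k) (Set.range H) ⊔
        Ideal.span {(p : WittVector p k)} • (⊤ : Submodule (WittVector p k) M) := by
  apply le_antisymm
  · intro m hm
    rw [Submodule.mem_comap, mem_p_smul_top_iff'] at hm
    obtain ⟨y, hy⟩ := hm
    have h1 : G (m - H y) = 0 := by rw [map_sub, hGH, hy, sub_self]
    have h2 : (p : WittVector p k) • (m - H y) = 0 := by rw [← hHG, h1, map_zero]
    have h3 : m = H y := sub_eq_zero.1 (hinj _ h2)
    exact Submodule.mem_sup_left (Submodule.subset_span ⟨y, h3.symm⟩)
  · refine sup_le (Submodule.span_le.2 ?_) ?_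
    · rintro _ ⟨y, rfl⟩
      rw [SetLike.mem_coe, Submodule.mem_comap, hGH, mem_p_smul_top_iff']
      exact ⟨y, rfl⟩
    · intro x hx
      rw [mem_p_smul_top_iff'] at hx
      obtain ⟨y, rfl⟩ := hx
      rw [Submodule.mem_comap, map_smulₛₗ, hσ₁, mem_p_smul_top_iff']
      exact ⟨G y, rfl⟩

end comap

section final

variable {p k}
variable {M : Type v} [AddCommGroup M] [Module (WittVector p k) M]
    [Module.Finite (WittVector p k) M] [Module.Projective (WittVector p k) M]
    (F : M →ₛₗ[(WittVector.frobenius : WittVector p k →+* WittVector p k)] M)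
    (V : M →ₛₗ[((WittVector.frobeniusEquiv p k).symm : WittVector p k →+* WittVector p k)] M)
    (hFV : ∀ m : M, F (V m) = (p : WittVector p k) • m)
    (hVF : ∀ m : M, V (F m) = (p : WittVector p k) • m)

include hFV hVF in
theorem projective_quot :
    Module.Projective (WittVector p k ⧸ Ideal.span {(p : WittVector p k)})
      ((M ⧸ (Ideal.span {(p : WittVector p k)} • (⊤ : Submodule (WittVector p k) M))) ⧸
        Submodule.span (WittVector p k ⧸ Ideal.span {(p : WittVector p k)})
          (Set.range fun m : M => (Ideal.span {(p : WittVector p k)} • (⊤ : Submodule (WittVector p k) M)).mkQ (V m))) := by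
  set I : Ideal (WittVector p k) := Ideal.span {(p : WittVector p k)} with hI
  set T : Submodule (WittVector p k ⧸ I) (M ⧸ (I • (⊤ : Submodule (WittVector p k) M))) :=
    Submodule.span (WittVector p k ⧸ I)
      (Set.range fun m : M => (I • (⊤ : Submodule (WittVector p k) M)).mkQ (V m)) with hT
  let φ : M →ₗ[WittVector p k] ((M ⧸ (I • (⊤ : Submodule (WittVector p k) M))) ⧸ T) :=
    (T.mkQ.restrictScalars (WittVector p k)) ∘ₗ (I • (⊤ : Submodule (WittVector p k) M)).mkQ
  have hS : I • (⊤ : Submodule (WittVector p k) M) ≤ LinearMap.range (linV p k V) := by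
    rw [Submodule.smul_le]
    intro r hr n _
    obtain ⟨c, rfl⟩ := Ideal.mem_span_singleton'.1 hr
    rw [mul_smul, ← hVF]
    exact Submodule.smul_mem _ c ⟨(F n : M), rfl⟩
  have hab : ∀ n : Tw p k M, linF p k F (linV p k V n) = (p : WittVector p k) • n := by
    intro n
    change F (V n) = WittVector.frobenius (p : WittVector p k) • (show M from n)
    rw [map_natCast]
    exact hFV n
  refine projective_of_lifts (p : WittVector p k) (linF p k F) (linV p k V) hab hVF
    (fun y hy => exists_lift y hy) (WittVector p k ⧸ I) Ideal.Quotient.mk_surjective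
    (Ideal.Quotient.eq_zero_iff_mem.2 (Ideal.subset_span rfl)) _ φ ?_ ?_
  · exact (Submodule.mkQ_surjective T).comp (Submodule.mkQ_surjective _)
  · ext m
    rw [LinearMap.mem_ker]
    change T.mkQ ((I • (⊤ : Submodule (WittVector p k) M)).mkQ m) = 0 ↔ _
    rw [Submodule.mkQ_apply, Submodule.Quotient.mk_eq_zero]
    exact mkQ_mem_span_iff I (LinearMap.range (linV p k V)) hS (fun m : M => V m) rfl m

include hFV hVF in
theorem level_one :
    ((Ideal.span {(p : WittVector p k)} • (⊤ : Submodule (WittVector p k) M)).comap F =
        Submodule.span (WittVector p k) (Set.range V) ⊔ Ideal.span {(p : WittVector p k)} • (⊤ : Submodule (WittVector p k) M) ∧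
      (Ideal.span {(p : WittVector p k)} • (⊤ : Submodule (WittVector p k) M)).comap V =
        Submodule.span (WittVector p k) (Set.range F) ⊔ Ideal.span {(p : WittVector p k)} • (⊤ : Submodule (WittVector p k) M)) ∧
    Module.Projective (WittVector p k ⧸ Ideal.span {(p : WittVector p k)})
      ((M ⧸ (Ideal.span {(p : WittVector p k)} • (⊤ : Submodule (WittVector p k) M))) ⧸
        Submodule.span (WittVector p k ⧸ Ideal.span {(p : WittVector p k)})
          (Set.range fun m : M => (Ideal.span {(p : WittVector p k)} • (⊤ : Submodule (WittVector p k) M)).mkQ (V m))) := by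
  refine ⟨⟨?_, ?_⟩, projective_quot F V hFV hVF⟩
  · exact comap_eq_of_inj (map_natCast _ p) F V hFV hVF p_smul_eq_zero_of_projective
  · exact comap_eq_of_inj (map_natCast _ p) V F hVF hFV p_smul_eq_zero_of_projective

end final

end Groth.Agent.R2.H76.DieuW
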