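import Mathlib
import Groth.Agent.R2.H76Dieu2

/-!
# Truncated Dieudonné modules over perfect rings: `M/VM` is projective (helper76)
-/

set_option autoImplicit false
set_option linter.unusedSectionVars false
set_option linter.unusedVariables false
set_option linter.style.haveILetI false
universe u v
open TensorProduct Module

namespace Groth.Agent.R2.H76.DieuT

open Groth.Agent.R2.H76.Dieu Groth.Agent.R2.H76.DieuW

variable (p : ℕ) [Fact p.Prime] (k : Type u) [CommRing k] [CharP k p] [PerfectRing k p] (n : ℕ)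

/-- the truncated Witt ring `W/p^n`. -/
abbrev Wn : Type u := WittVector p k ⧸ Ideal.span {(p : WittVector p k) ^ n}

/-- Frobenius on `W/p^n`. -/
noncomputable def frobQ : Wn p k n →+* Wn p k n :=
  Ideal.quotientMap _ (WittVector.frobenius : WittVector p k →+* WittVector p k) (by
    rw [Ideal.span_singleton_le_iff_mem, Ideal.mem_comap, map_pow, map_natCast]
    exact Ideal.subset_span rfl)

/-- inverse Frobenius on `W/p^n`. -/
noncomputable def frobQInv : Wn p k n →+* Wn p k n :=
  Ideal.quotientMap _ ((WittVector.frobeniusEquiv p k).symm : WittVector p k →+* WittVector p k) (by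
    rw [Ideal.span_singleton_le_iff_mem, Ideal.mem_comap, map_pow, map_natCast]
    exact Ideal.subset_span rfl)

theorem frobQ_mk (w : WittVector p k) :
    frobQ p k n (Ideal.Quotient.mk _ w) = Ideal.Quotient.mk _ (WittVector.frobenius w) := rfl

theorem frobQInv_mk (w : WittVector p k) :
    frobQInv p k n (Ideal.Quotient.mk _ w) =
      Ideal.Quotient.mk _ ((WittVector.frobeniusEquiv p k).symm w) := rfl

theorem frobQ_frobQInv (r : Wn p k n) : frobQ p k n (frobQInv p k n r) = r := by
  obtain ⟨w, rfl⟩ := Ideal.Quotient.mk_surjective r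
  rw [frobQInv_mk, frobQ_mk, ← WittVector.frobeniusEquiv_apply, RingEquiv.apply_symm_apply]

theorem frobQInv_frobQ (r : Wn p k n) : frobQInv p k n (frobQ p k n r) = r := by
  obtain ⟨w, rfl⟩ := Ideal.Quotient.mk_surjective r
  rw [frobQ_mk, frobQInv_mk, ← WittVector.frobeniusEquiv_apply, RingEquiv.symm_apply_apply]

instance invPairQ₁ : RingHomInvPair (frobQInv p k n) (frobQ p k n) :=
  ⟨RingHom.ext (frobQ_frobQInv p k n), RingHom.ext (frobQInv_frobQ p k n)⟩

instance invPairQ₂ : RingHomInvPair (frobQ p k n) (frobQInv p k n) :=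
  ⟨RingHom.ext (frobQInv_frobQ p k n), RingHom.ext (frobQ_frobQInv p k n)⟩

section twist

variable {M : Type v} [AddCommGroup M] [Module (WittVector p k) M] [Module (Wn p k n) M]
  [IsScalarTower (WittVector p k) (Wn p k n) M]

theorem mk_smul' (w : WittVector p k) (x : M) :
    (Ideal.Quotient.mk (Ideal.span {(p : WittVector p k) ^ n}) w) • x = w • x := by
  have : (Ideal.Quotient.mk (Ideal.span {(p : WittVector p k) ^ n}) w) =
      w • (1 : Wn p k n) := by
    rw [Algebra.smul_def, mul_one]; rfl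
  rw [this, smul_assoc, one_smul]

noncomputable instance twModuleN : Module (Wn p k n) (Tw p k M) :=
  Module.compHom M (frobQ p k n)

theorem twN_smul (r : Wn p k n) (x : Tw p k M) :
    r • x = (show M from (frobQ p k n r • (show M from x))) := rfl

instance twTower : IsScalarTower (WittVector p k) (Wn p k n) (Tw p k M) :=
  IsScalarTower.of_algebraMap_smul fun w x => by
    change frobQ p k n (Ideal.Quotient.mk _ w) • (show M from x) =
      WittVector.frobenius w • (show M from x)
    rw [frobQ_mk, mk_smul']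

/-- the identity as a semilinear equivalence `M ≃ Tw M` over `W/p^n`. -/
noncomputable def twEquivN : M ≃ₛₗ[frobQInv p k n] Tw p k M :=
  { toFun := fun m => m
    invFun := fun x => x
    left_inv := fun _ => rfl
    right_inv := fun _ => rfl
    map_add' := fun _ _ => rfl
    map_smul' := fun r m => by
      change r • m = frobQ p k n (frobQInv p k n r) • m
      rw [frobQ_frobQInv] }

instance [Module.Projective (Wn p k n) M] : Module.Projective (Wn p k n) (Tw p k M) :=
  Module.Projective.of_equiv (twEquivN p k n : M ≃ₛₗ[_] Tw p k M)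

instance [Module.Finite (Wn p k n) M] : Module.Finite (Wn p k n) (Tw p k M) :=
  Module.Finite.of_surjective (twEquivN p k n : M ≃ₛₗ[_] Tw p k M).toLinearMap
    (twEquivN p k n : M ≃ₛₗ[_] Tw p k M).surjective

end twist


section lift

variable {p k n}

theorem mem_pn_smul_top_iff {E : Type*} [AddCommGroup E] [Module (WittVector p k) E] {x : E} :
    x ∈ Ideal.span {(p : WittVector p k) ^ n} • (⊤ : Submodule (WittVector p k) E) ↔
      ∃ c : E, x = (p : WittVector p k) ^ n • c := by
  rw [Submodule.ideal_span_singleton_smul, Submodule.mem_smul_pointwise_iff_exists]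
  constructor
  · rintro ⟨y, -, rfl⟩; exact ⟨y, rfl⟩
  · rintro ⟨y, rfl⟩; exact ⟨y, Submodule.mem_top, rfl⟩

/-- descend a torsion-free lift over `W` to a lift over `W/p^n` (`n ≥ 2`). -/
theorem descend (hn : 2 ≤ n) (K : Type u) [Field K] [Algebra (WittVector p k) K]
    [Algebra (Wn p k n) K] [IsScalarTower (WittVector p k) (Wn p k n) K]
    (E₀ : Type u) [AddCommGroup E₀] [Module (WittVector p k) E₀]
    (q₀ : E₀ →ₗ[WittVector p k] K) (hq₀ : Function.Surjective q₀)
    (hex : Function.Exact (LinearMap.lsmul (WittVector p k) E₀ (p : WittVector p k)) q₀)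
    (htf : ∀ e : E₀, (p : WittVector p k) • e = 0 → e = 0) :
    ∃ (E : Type u) (_ : AddCommGroup E) (_ : Module (Wn p k n) E) (q : E →ₗ[Wn p k n] K),
      Function.Surjective q ∧
        Function.Exact (LinearMap.lsmul (Wn p k n) E ((p : ℕ) : Wn p k n)) q ∧
        TProp ((p : ℕ) : Wn p k n) E := by
  have hπK : ∀ c : K, (p : WittVector p k) • c = 0 := by
    intro c
    obtain ⟨e, rfl⟩ := hq₀ c
    rw [← map_smul]
    exact (hex _).2 ⟨e, rfl⟩
  set J : Ideal (WittVector p k) := Ideal.span {(p : WittVector p k) ^ n} with hJ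
  have hle : J • (⊤ : Submodule (WittVector p k) E₀) ≤ LinearMap.ker q₀ := by
    intro x hx
    obtain ⟨c, rfl⟩ := mem_pn_smul_top_iff.1 hx
    rw [LinearMap.mem_ker, map_smul]
    obtain ⟨m, rfl⟩ : ∃ m, n = m + 1 := ⟨n - 1, by omega⟩
    rw [pow_succ', mul_smul, hπK]
  let q₁ : (E₀ ⧸ J • (⊤ : Submodule (WittVector p k) E₀)) →ₗ[WittVector p k] K :=
    (J • (⊤ : Submodule (WittVector p k) E₀)).liftQ q₀ hle
  let q : (E₀ ⧸ J • (⊤ : Submodule (WittVector p k) E₀)) →ₗ[Wn p k n] K :=
    q₁.extendScalarsOfSurjective Ideal.Quotient.mk_surjective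
  have hq : ∀ e : E₀, q (Submodule.Quotient.mk e) = q₀ e := fun e => rfl
  have hsm : ∀ e : E₀, ((p : ℕ) : Wn p k n) •
      (Submodule.Quotient.mk e : E₀ ⧸ J • (⊤ : Submodule (WittVector p k) E₀)) =
      Submodule.Quotient.mk ((p : WittVector p k) • e) := by
    intro e
    have : ((p : ℕ) : Wn p k n) = Ideal.Quotient.mk J ((p : ℕ) : WittVector p k) :=
      (map_natCast (Ideal.Quotient.mk J) p).symm
    rw [this]
    rfl
  refine ⟨E₀ ⧸ J • (⊤ : Submodule (WittVector p k) E₀), inferInstance, inferInstance, q, ?_, ?_, ?_⟩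
  · intro c
    obtain ⟨e, rfl⟩ := hq₀ c
    exact ⟨Submodule.Quotient.mk e, rfl⟩
  · intro x
    obtain ⟨e, rfl⟩ := Submodule.Quotient.mk_surjective _ x
    rw [hq]
    constructor
    · intro h0
      obtain ⟨e₁, he₁⟩ := (hex e).1 h0
      refine ⟨Submodule.Quotient.mk e₁, ?_⟩
      rw [LinearMap.lsmul_apply, hsm]
      exact congrArg _ he₁
    · rintro ⟨x₁, hx₁⟩
      obtain ⟨e₁, rfl⟩ := Submodule.Quotient.mk_surjective _ x₁
      have h1 := hx₁
      rw [LinearMap.lsmul_apply, hsm] at h1
      have h2 := congrArg q h1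
      rw [hq, hq, map_smul, hπK] at h2
      exact h2.symm
  · intro x hx
    obtain ⟨e, rfl⟩ := Submodule.Quotient.mk_surjective _ x
    rw [hsm, Submodule.Quotient.mk_eq_zero] at hx
    obtain ⟨c, hc⟩ := mem_pn_smul_top_iff.1 hx
    obtain ⟨m, rfl⟩ : ∃ m, n = m + 2 := ⟨n - 2, by omega⟩
    have h1 : (p : WittVector p k) • (e - (p : WittVector p k) ^ (m + 1) • c) = 0 := by
      rw [smul_sub, hc, ← mul_smul, ← pow_succ', sub_self]
    have h2 : e = (p : WittVector p k) ^ (m + 1) • c := sub_eq_zero.1 (htf _ h1)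
    refine ⟨Submodule.Quotient.mk ((p : WittVector p k) ^ m • c), ?_⟩
    rw [hsm, ← mul_smul, ← pow_succ', ← h2]

theorem exists_lift_n_of_field (hn : 2 ≤ n) (I : Ideal (Wn p k n))
    (hI : ((p : ℕ) : Wn p k n) ∈ I) (κ : Type u) [Field κ] [Algebra (WittVector p k) κ]
    [Algebra (Wn p k n) κ] [IsScalarTower (WittVector p k) (Wn p k n) κ]
    (hκ : RingHom.ker (algebraMap (Wn p k n) κ) = I) :
    ∃ (K : Type u) (_ : Field K) (_ : Algebra (Wn p k n) K) (E : Type u) (_ : AddCommGroup E)
      (_ : Module (Wn p k n) E) (q : E →ₗ[Wn p k n] K),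
      RingHom.ker (algebraMap (Wn p k n) K) = I ∧ Function.Surjective q ∧
        Function.Exact (LinearMap.lsmul (Wn p k n) E ((p : ℕ) : Wn p k n)) q ∧
        TProp ((p : ℕ) : Wn p k n) E := by
  have hker : RingHom.ker (algebraMap (Wn p k n) (AlgebraicClosure κ)) = I := by
    rw [IsScalarTower.algebraMap_eq (Wn p k n) κ (AlgebraicClosure κ), ← RingHom.comap_ker,
      (RingHom.injective_iff_ker_eq_bot _).1 (algebraMap κ (AlgebraicClosure κ)).injective,
      ← RingHom.ker_eq_comap_bot, hκ]
  have hp : algebraMap (WittVector p k) (AlgebraicClosure κ) (p : WittVector p k) = 0 := by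
    rw [IsScalarTower.algebraMap_apply (WittVector p k) (Wn p k n) (AlgebraicClosure κ),
      map_natCast, ← RingHom.mem_ker, hker]
    exact hI
  have hpK : (p : AlgebraicClosure κ) = 0 := by rw [← hp, map_natCast]
  have : CharP (AlgebraicClosure κ) p := by
    have := CharP.ringChar_of_prime_eq_zero (R := AlgebraicClosure κ) (Fact.out : p.Prime) hpK
    exact ringChar.of_eq this
  obtain ⟨E₀, i1, i2, q₀, h1, h2, h3⟩ :=
    exists_lift_aux (p := p) (k := k) (AlgebraicClosure κ) hp
  obtain ⟨E, j1, j2, q, g1, g2, g3⟩ := descend hn (AlgebraicClosure κ) E₀ q₀ h1 h2 h3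
  exact ⟨AlgebraicClosure κ, inferInstance, inferInstance, E, j1, j2, q, hker, g1, g2, g3⟩

theorem exists_lift_n (hn : 2 ≤ n) (y : PrimeSpectrum (Wn p k n))
    (hy : ((p : ℕ) : Wn p k n) ∈ y.asIdeal) :
    ∃ (K : Type u) (_ : Field K) (_ : Algebra (Wn p k n) K) (E : Type u) (_ : AddCommGroup E)
      (_ : Module (Wn p k n) E) (q : E →ₗ[Wn p k n] K),
      RingHom.ker (algebraMap (Wn p k n) K) = y.asIdeal ∧ Function.Surjective q ∧
        Function.Exact (LinearMap.lsmul (Wn p k n) E ((p : ℕ) : Wn p k n)) q ∧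
        TProp ((p : ℕ) : Wn p k n) E :=
  exists_lift_n_of_field hn y.asIdeal hy y.asIdeal.ResidueField
    (Ideal.ker_algebraMap_residueField _)

end lift


section final

variable {p k n}
variable {M : Type v} [AddCommGroup M] [Module (WittVector p k) M] [Module (Wn p k n) M]
    [IsScalarTower (WittVector p k) (Wn p k n) M]
    [Module.Finite (Wn p k n) M] [Module.Projective (Wn p k n) M]
    (F : M →ₛₗ[(WittVector.frobenius : WittVector p k →+* WittVector p k)] M)
    (V : M →ₛₗ[((WittVector.frobeniusEquiv p k).symm : WittVector p k →+* WittVector p k)] M)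
    (hFV : ∀ m : M, F (V m) = (p : WittVector p k) • m)
    (hVF : ∀ m : M, V (F m) = (p : WittVector p k) • m)

theorem natCast_smul_eq (m : M) : ((p : ℕ) : Wn p k n) • m = (p : WittVector p k) • m := by
  have : ((p : ℕ) : Wn p k n) = Ideal.Quotient.mk _ ((p : ℕ) : WittVector p k) :=
    (map_natCast (Ideal.Quotient.mk _) p).symm
  rw [this, mk_smul']

include hFV hVF in
theorem projective_quot_n (hn : 2 ≤ n) :
    Module.Projective (WittVector p k ⧸ Ideal.span {(p : WittVector p k)})
      ((M ⧸ (Ideal.span {(p : WittVector p k)} • (⊤ : Submodule (WittVector p k) M))) ⧸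
        Submodule.span (WittVector p k ⧸ Ideal.span {(p : WittVector p k)})
          (Set.range fun m : M => (Ideal.span {(p : WittVector p k)} • (⊤ : Submodule (WittVector p k) M)).mkQ (V m))) := by
  set I : Ideal (WittVector p k) := Ideal.span {(p : WittVector p k)} with hI
  set T : Submodule (WittVector p k ⧸ I) (M ⧸ (I • (⊤ : Submodule (WittVector p k) M))) :=
    Submodule.span (WittVector p k ⧸ I)
      (Set.range fun m : M => (I • (⊤ : Submodule (WittVector p k) M)).mkQ (V m)) with hT
  have hJI : Ideal.span {(p : WittVector p k) ^ n} ≤ I := by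
    rw [Ideal.span_singleton_le_iff_mem]
    exact Ideal.pow_mem_of_mem I (Ideal.subset_span rfl) n (by omega)
  letI : Algebra (Wn p k n) (WittVector p k ⧸ I) := (Ideal.Quotient.factor hJI).toAlgebra
  haveI : IsScalarTower (WittVector p k) (Wn p k n) (WittVector p k ⧸ I) :=
    IsScalarTower.of_algebraMap_eq (fun w => rfl)
  letI : Module (Wn p k n) ((M ⧸ (I • (⊤ : Submodule (WittVector p k) M))) ⧸ T) :=
    Module.compHom _ (algebraMap (Wn p k n) (WittVector p k ⧸ I))
  haveI : IsScalarTower (Wn p k n) (WittVector p k ⧸ I)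
      ((M ⧸ (I • (⊤ : Submodule (WittVector p k) M))) ⧸ T) :=
    IsScalarTower.of_algebraMap_smul (R := Wn p k n) (A := WittVector p k ⧸ I)
      (M := (M ⧸ (I • (⊤ : Submodule (WittVector p k) M))) ⧸ T) (fun r q => rfl)
  haveI : IsScalarTower (WittVector p k) (Wn p k n)
      ((M ⧸ (I • (⊤ : Submodule (WittVector p k) M))) ⧸ T) :=
    IsScalarTower.of_algebraMap_smul (R := WittVector p k) (A := Wn p k n)
      (M := (M ⧸ (I • (⊤ : Submodule (WittVector p k) M))) ⧸ T) (fun w q => by
      change (algebraMap (Wn p k n) (WittVector p k ⧸ I) (algebraMap (WittVector p k) (Wn p k n) w)) • q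
        = w • q
      rw [← IsScalarTower.algebraMap_apply (WittVector p k) (Wn p k n) (WittVector p k ⧸ I),
        algebraMap_smul])
  let φ₀ : M →ₗ[WittVector p k] ((M ⧸ (I • (⊤ : Submodule (WittVector p k) M))) ⧸ T) :=
    (T.mkQ.restrictScalars (WittVector p k)) ∘ₗ (I • (⊤ : Submodule (WittVector p k) M)).mkQ
  let φ : M →ₗ[Wn p k n] ((M ⧸ (I • (⊤ : Submodule (WittVector p k) M))) ⧸ T) :=
    φ₀.extendScalarsOfSurjective Ideal.Quotient.mk_surjective
  let a : M →ₗ[Wn p k n] Tw p k M :=
    (linF p k F).extendScalarsOfSurjective Ideal.Quotient.mk_surjective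
  let b : Tw p k M →ₗ[Wn p k n] M :=
    (linV p k V).extendScalarsOfSurjective Ideal.Quotient.mk_surjective
  have hS : I • (⊤ : Submodule (WittVector p k) M) ≤ LinearMap.range (linV p k V) := by
    rw [Submodule.smul_le]
    intro r hr x _
    obtain ⟨c, rfl⟩ := Ideal.mem_span_singleton'.1 hr
    rw [mul_smul, ← hVF]
    exact Submodule.smul_mem _ c ⟨(F x : M), rfl⟩
  have hab : ∀ x : Tw p k M, a (b x) = ((p : ℕ) : Wn p k n) • x := by
    intro x
    change F (V x) = frobQ p k n ((p : ℕ) : Wn p k n) • (show M from x)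
    rw [map_natCast, natCast_smul_eq]
    exact hFV x
  have hba : ∀ m : M, b (a m) = ((p : ℕ) : Wn p k n) • m := by
    intro m
    rw [natCast_smul_eq]
    exact hVF m
  have hsurj : Function.Surjective (algebraMap (Wn p k n) (WittVector p k ⧸ I)) := by
    intro x
    obtain ⟨w, rfl⟩ := Ideal.Quotient.mk_surjective x
    exact ⟨Ideal.Quotient.mk _ w, rfl⟩
  have hπ : algebraMap (Wn p k n) (WittVector p k ⧸ I) ((p : ℕ) : Wn p k n) = 0 := by
    rw [map_natCast, ← map_natCast (Ideal.Quotient.mk I)]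
    exact Ideal.Quotient.eq_zero_iff_mem.2 (Ideal.subset_span rfl)
  refine projective_of_lifts ((p : ℕ) : Wn p k n) a b hab hba
    (fun y hy => exists_lift_n hn y hy) (WittVector p k ⧸ I) hsurj hπ _ φ ?_ ?_
  · exact (Submodule.mkQ_surjective T).comp (Submodule.mkQ_surjective _)
  · ext m
    rw [LinearMap.mem_ker]
    change T.mkQ ((I • (⊤ : Submodule (WittVector p k) M)).mkQ m) = 0 ↔ m ∈ LinearMap.range (linV p k V)
    rw [Submodule.mkQ_apply, Submodule.Quotient.mk_eq_zero]
    exact mkQ_mem_span_iff I (LinearMap.range (linV p k V)) hS (fun m : M => V m) rfl m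

end final

end Groth.Agent.R2.H76.DieuT
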