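import Mathlib
import Groth.Prelude.Def_EtCore
import Groth.Agent.Lib.Helper16SmallEtale

/-!
# Galois coverings in the small étale site: sections are the invariants (helper76)
-/

set_option autoImplicit false
universe u w
open CategoryTheory CategoryTheory.Limits AlgebraicGeometry Opposite

namespace Groth.Agent.R2.H76.Galois

set_option backward.isDefEq.respectTransparency.types false in
/-- the coprojections of a coproduct in the small étale site are jointly surjective. -/
theorem jointly_surjective_of_isColimit {X : Scheme.{u}} {ι : Type*} {Z : X.Etale}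
    (A : ι → X.Etale) (c : ∀ i, A i ⟶ Z) (h : IsColimit (Cofan.mk Z c)) (z : Z.left) :
    ∃ (i : ι) (y : (A i).left), (c i).left y = z := by
  obtain ⟨U, hU⟩ : ∃ U : Z.left.Opens, (U : Set Z.left) = ⋃ i, Set.range (c i).left :=
    ⟨⟨⋃ i, Set.range (c i).left, isOpen_iUnion fun i => (c i).left.isOpenMap.isOpen_range⟩, rfl⟩
  let ZU : X.Etale := Scheme.Etale.mk (U.ι ≫ Z.hom)
  let ιU : ZU ⟶ Z := MorphismProperty.Over.homMk U.ι rfl trivial
  have hr : ∀ i, Set.range (c i).left ⊆ Set.range U.ι := by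
    intro i
    rw [Scheme.Opens.range_ι, hU]
    exact Set.subset_iUnion (fun i => Set.range (c i).left) i
  let l : ∀ i, (A i).left ⟶ (U : Scheme.{u}) := fun i => IsOpenImmersion.lift U.ι (c i).left (hr i)
  have hl : ∀ i, l i ≫ U.ι = (c i).left := fun i => IsOpenImmersion.lift_fac U.ι (c i).left (hr i)
  let c' : ∀ i, A i ⟶ ZU := fun i =>
    MorphismProperty.Over.homMk (l i) (by
      change l i ≫ (U.ι ≫ Z.hom) = (A i).hom
      rw [← Category.assoc, hl]
      exact MorphismProperty.Over.w (c i)) trivial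
  have hc' : ∀ i, c' i ≫ ιU = c i := by
    intro i
    apply MorphismProperty.Over.Hom.ext
    exact hl i
  let d : Z ⟶ ZU := h.desc (Cofan.mk ZU c')
  have hd : ∀ i, c i ≫ d = c' i := fun i => h.fac (Cofan.mk ZU c') ⟨i⟩
  have hdι : d ≫ ιU = 𝟙 Z := by
    apply h.hom_ext
    rintro ⟨i⟩
    change c i ≫ d ≫ ιU = c i ≫ 𝟙 Z
    rw [← Category.assoc, hd, hc', Category.comp_id]
  have hz : z ∈ Set.range U.ι := by
    refine ⟨d.left z, ?_⟩
    have h1 : (d ≫ ιU).left = (𝟙 Z : Z ⟶ Z).left := congrArg (fun m => m.left) hdι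
    have h2 : d.left ≫ U.ι = 𝟙 Z.left := h1
    have h3 := congrArg (fun m : Z.left ⟶ Z.left => m z) h2
    exact h3
  rw [Scheme.Opens.range_ι, hU] at hz
  obtain ⟨i, y, hy⟩ := Set.mem_iUnion.1 hz
  exact ⟨i, y, hy⟩


open Groth.Agent.Lib.Helper16.SmallEtale

set_option backward.isDefEq.respectTransparency.types false in
theorem galois_sections (X : Scheme.{u})
    (Y : X.Etale) (hY : Function.Surjective Y.hom.base)
    {G : Type u} [Group G] [Finite G] (σ : G →* Aut Y)
    (hgal : Nonempty (IsColimit (Cofan.mk (Y ⨯ Y) (fun g : G => prod.lift (𝟙 Y) (σ g).hom))))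
    (F : EtCoh.Ab X) :
    Function.Injective (F.obj.map ((EtCore.topIsTerminal X).from Y).op) ∧
      Set.range (F.obj.map ((EtCore.topIsTerminal X).from Y).op) =
        {s : EtCoh.sect F Y | ∀ g : G, F.obj.map (σ g).hom.op s = s} := by
  obtain ⟨hcolim⟩ := hgal
  let P : X.Etaleᵒᵖ ⥤ Type (u + 1) := F.obj ⋙ forget AddCommGrpCat.{u + 1}
  have hG : Presieve.IsSheaf X.smallEtaleTopology P :=
    (isSheaf_iff_isSheaf_of_type _ _).1
      ((Presheaf.isSheaf_iff_isSheaf_forget X.smallEtaleTopology F.obj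
        (forget AddCommGrpCat.{u + 1})).1 F.property)
  set f := (EtCore.topIsTerminal X).from Y with hf
  have hleft : f.left = Y.hom := by
    have := MorphismProperty.Over.w f
    exact (Category.comp_id _).symm.trans this
  have hcov1 : Sieve.generate (Presieve.singleton f) ∈ X.smallEtaleTopology (EtCoh.top X) := by
    rw [mem_smallEtale_iff]
    intro x
    obtain ⟨y, hy⟩ := hY x
    refine ⟨Y, f, y, Sieve.le_generate _ _ _ (Presieve.singleton.mk), ?_⟩
    rw [hleft]
    exact hy
  have hsheaf : Presieve.IsSheafFor P (Presieve.singleton f) :=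
    (Presieve.isSheafFor_iff_generate _).2 (hG _ hcov1)
  have hcov2 : Sieve.ofArrows (fun _ : G => Y) (fun g : G => prod.lift (𝟙 Y) (σ g).hom) ∈
      X.smallEtaleTopology (Y ⨯ Y) := by
    rw [mem_smallEtale_iff]
    intro z
    obtain ⟨g, y, hy⟩ := jointly_surjective_of_isColimit (fun _ : G => Y)
      (fun g : G => prod.lift (𝟙 Y) (σ g).hom) hcolim z
    exact ⟨Y, prod.lift (𝟙 Y) (σ g).hom, y, Sieve.ofArrows_mk _ _ g, hy⟩
  have hinj : Function.Injective (fun s : P.obj (op (Y ⨯ Y)) => fun g : G =>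
      P.map (prod.lift (𝟙 Y) (σ g).hom).op s) := by
    intro s s' hss
    refine (hG _ hcov2).isSeparatedFor.ext ?_
    rintro W _ ⟨V, a, _, ⟨g⟩, rfl⟩
    have := congrFun hss g
    simp only at this
    rw [op_comp, Functor.map_comp]
    exact congrArg (P.map a.op) this
  -- now the argument of S16268
  have hterm : ∀ {Z : X.Etale} (a b : Z ⟶ EtCoh.top X), a = b :=
    fun a b => (EtCore.topIsTerminal X).hom_ext a b
  have hmap : ∀ {A B D : X.Etale} (a : A ⟶ B) (b : B ⟶ D) (x : P.obj (op D)),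
      P.map a.op (P.map b.op x) = P.map (a ≫ b).op x := by
    intro A B D a b x
    rw [op_comp, Functor.map_comp]
    rfl
  have key : ∀ x : P.obj (op Y),
      (∀ {Z : X.Etale} (p₁ p₂ : Z ⟶ Y), p₁ ≫ f = p₂ ≫ f → P.map p₁.op x = P.map p₂.op x) ↔
        ∀ g : G, P.map (σ g).hom.op x = x := by
    intro x
    constructor
    · intro h g
      have := h (σ g).hom (𝟙 Y) (hterm _ _)
      simpa using this
    · intro h Z p₁ p₂ _
      have h12 : P.map (prod.fst : Y ⨯ Y ⟶ Y).op x = P.map (prod.snd : Y ⨯ Y ⟶ Y).op x := by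
        apply hinj
        funext g
        simp only
        rw [hmap, hmap, prod.lift_fst, prod.lift_snd, h g]
        simp
      have e1 : p₁ = prod.lift p₁ p₂ ≫ prod.fst := (prod.lift_fst p₁ p₂).symm
      have e2 : p₂ = prod.lift p₁ p₂ ≫ prod.snd := (prod.lift_snd p₁ p₂).symm
      rw [e1, ← hmap, h12, hmap, ← e2]
  rw [Presieve.isSheafFor_singleton] at hsheaf
  have hres : Function.Injective (P.map f.op) ∧
      Set.range (P.map f.op) = {s | ∀ g : G, P.map (σ g).hom.op s = s} := by
    refine ⟨?_, ?_⟩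
    · intro t t' htt
      have hc : ∀ {Z : X.Etale} (p₁ p₂ : Z ⟶ Y), p₁ ≫ f = p₂ ≫ f →
          P.map p₁.op (P.map f.op t) = P.map p₂.op (P.map f.op t) := by
        intro Z p₁ p₂ h12
        rw [hmap, hmap, h12]
      obtain ⟨y, _, hy⟩ := hsheaf (P.map f.op t) hc
      rw [hy t rfl, hy t' htt.symm]
    · ext x
      simp only [Set.mem_range, Set.mem_ofPred_eq]
      constructor
      · rintro ⟨t, rfl⟩ g
        rw [hmap, hterm ((σ g).hom ≫ f) f]
      · intro hx
        obtain ⟨y, hy, _⟩ := hsheaf x ((key x).2 hx)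
        exact ⟨y, hy⟩
  exact hres

end Groth.Agent.R2.H76.Galois
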