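import Mathlib
import Groth.Agent.Lib.Helper17K0a

/-!
# `K₀` of finitely generated modules over a commutative ring (helper76)

* `clSub_of_exact`: a short exact sequence of linear maps gives a relation in `K₀`.
* `rk K`: for a field `K` flat over `A`, the additive function `M ↦ dim_K (K ⊗ M)` on `K₀`.
* `clSub_quot_prime_of_pid`: if `A ⧸ (a)` is a PID and `𝔭 ∋ a` is prime then `𝔭 = (a)` or `[A ⧸ 𝔭] = 0`.
* `eq_top_of_prime`: over a Noetherian ring, `K₀` is generated by the classes `[A ⧸ 𝔭]`.
-/

set_option autoImplicit false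
universe u
open CategoryTheory CategoryTheory.Limits TensorProduct

namespace Groth.Agent.R2.H76.K0Mod

open KZero Groth.Agent.Lib.Helper17.K0a

variable (A : Type u) [CommRing A]

/-- the property "finitely generated" on `ModuleCat A`. -/
abbrev finP : ObjectProperty (ModuleCat.{u} A) := fun M => Module.Finite A M

instance : (finP A).IsClosedUnderIsomorphisms where
  of_iso {X Y} e hX := by
    have : Module.Finite A X := hX
    exact Module.Finite.equiv e.toLinearEquiv

instance : (finP A).ContainsZero where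
  exists_zero := ⟨ModuleCat.of A PUnit.{u + 1}, ModuleCat.isZero_of_subsingleton _,
    (inferInstance : Module.Finite A PUnit.{u + 1})⟩

variable {A}

theorem clSub_of_exact (N₁ N₂ N₃ : Type u) [AddCommGroup N₁] [Module A N₁] [Module.Finite A N₁]
    [AddCommGroup N₂] [Module A N₂] [Module.Finite A N₂]
    [AddCommGroup N₃] [Module A N₃] [Module.Finite A N₃]
    (f : N₁ →ₗ[A] N₂) (g : N₂ →ₗ[A] N₃) (hf : Function.Injective f) (hg : Function.Surjective g)
    (hfg : Function.Exact f g) :
    clSub (finP A) (ModuleCat.of A N₂) =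
      clSub (finP A) (ModuleCat.of A N₁) + clSub (finP A) (ModuleCat.of A N₃) := by
  let S : ShortComplex (ModuleCat.{u} A) :=
    ShortComplex.moduleCatMk f g (by ext x; exact hfg.apply_apply_eq_zero x)
  have hS : S.ShortExact :=
    { exact := (ShortComplex.ShortExact.moduleCat_exact_iff_function_exact S).2 hfg
      mono_f := (ModuleCat.mono_iff_injective _).2 hf
      epi_g := (ModuleCat.epi_iff_surjective _).2 hg }
  exact clSub_shortExact (finP A) S hS (inferInstanceAs (Module.Finite A N₁))
    (inferInstanceAs (Module.Finite A N₂)) (inferInstanceAs (Module.Finite A N₃))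

theorem clSub_of_linearEquiv (N₁ N₂ : Type u) [AddCommGroup N₁] [Module A N₁] [Module.Finite A N₁]
    [AddCommGroup N₂] [Module A N₂] (e : N₁ ≃ₗ[A] N₂) :
    clSub (finP A) (ModuleCat.of A N₁) = clSub (finP A) (ModuleCat.of A N₂) :=
  clSub_of_iso (finP A) e.toModuleIso (inferInstanceAs (Module.Finite A N₁))

theorem clSub_of_subsingleton (N : Type u) [AddCommGroup N] [Module A N] [Subsingleton N] :
    clSub (finP A) (ModuleCat.of A N) = 0 :=
  clSub_of_isZero (finP A) (ModuleCat.isZero_of_subsingleton _)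

section rank

variable (K : Type*) [Field K] [Algebra A K] [Module.Flat A K]

theorem finrank_baseChange_of_exact (N₁ N₂ N₃ : Type u) [AddCommGroup N₁] [Module A N₁]
    [Module.Finite A N₁] [AddCommGroup N₂] [Module A N₂] [Module.Finite A N₂]
    [AddCommGroup N₃] [Module A N₃] [Module.Finite A N₃]
    (f : N₁ →ₗ[A] N₂) (g : N₂ →ₗ[A] N₃) (hf : Function.Injective f) (hg : Function.Surjective g)
    (hfg : Function.Exact f g) :
    Module.finrank K (K ⊗[A] N₂) = Module.finrank K (K ⊗[A] N₁) + Module.finrank K (K ⊗[A] N₃) := by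
  let f' : K ⊗[A] N₁ →ₗ[K] K ⊗[A] N₂ := f.baseChange K
  let g' : K ⊗[A] N₂ →ₗ[K] K ⊗[A] N₃ := g.baseChange K
  have hf' : Function.Injective f' := Module.Flat.lTensor_preserves_injective_linearMap (M := K) f hf
  have hg' : Function.Surjective g' := LinearMap.lTensor_surjective K hg
  have hfg' : Function.Exact f' g' := lTensor_exact K hfg hg
  have h1 := LinearMap.finrank_range_add_finrank_ker g'
  rw [LinearMap.range_eq_top.2 hg', finrank_top, (LinearMap.exact_iff.1 hfg'),
    LinearMap.finrank_range_of_inj hf'] at h1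
  omega

/-- the additive function `M ↦ dim_K (K ⊗ M)` on `K₀` of finitely generated `A`-modules. -/
noncomputable def rk : K0sub (finP A) →+ ℤ :=
  QuotientAddGroup.lift (relSub (finP A))
    (FreeAbelianGroup.lift (fun M : Subtype (finP A) => (Module.finrank K (K ⊗[A] M.1) : ℤ))) (by
    rw [relSub, AddSubgroup.closure_le]
    rintro _ ⟨S, h₁, h₂, h₃, hS, rfl⟩
    have : Module.Finite A S.X₁ := h₁
    have : Module.Finite A S.X₂ := h₂
    have : Module.Finite A S.X₃ := h₃
    have h := finrank_baseChange_of_exact K S.X₁ S.X₂ S.X₃ S.f.hom S.g.hom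
      hS.moduleCat_injective_f hS.moduleCat_surjective_g
      ((ShortComplex.ShortExact.moduleCat_exact_iff_function_exact S).1 hS.exact)
    simp only [SetLike.mem_coe, AddMonoidHom.mem_ker, map_sub, FreeAbelianGroup.lift_apply_of]
    rw [h]
    push_cast
    ring)

theorem rk_clSub (N : Type u) [AddCommGroup N] [Module A N] [Module.Finite A N] :
    rk K (clSub (finP A) (ModuleCat.of A N)) = (Module.finrank K (K ⊗[A] N) : ℤ) := by
  rw [clSub_of_prop (finP A) (inferInstanceAs (Module.Finite A N))]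
  simp [rk]

theorem rk_clSub_quot_of_map_eq_bot (I : Ideal A) (hI : I.map (algebraMap A K) = ⊥) :
    rk K (clSub (finP A) (ModuleCat.of A (A ⧸ I))) = 1 := by
  rw [rk_clSub]
  have e := (Algebra.TensorProduct.quotIdealMapEquivTensorQuot K I).toLinearEquiv
  rw [← e.finrank_eq, hI]
  rw [(Submodule.quotEquivOfEqBot (⊥ : Ideal K) rfl).finrank_eq, Module.finrank_self]
  rfl

theorem rk_clSub_quot_of_map_eq_top (I : Ideal A) (hI : I.map (algebraMap A K) = ⊤) :
    rk K (clSub (finP A) (ModuleCat.of A (A ⧸ I))) = 0 := by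
  rw [rk_clSub]
  have e := (Algebra.TensorProduct.quotIdealMapEquivTensorQuot K I).toLinearEquiv
  rw [← e.finrank_eq, hI]
  have : Subsingleton (K ⧸ (⊤ : Ideal K)) := Ideal.Quotient.subsingleton_iff.2 rfl
  rw [Module.finrank_zero_of_subsingleton]
  rfl

end rank

section pid

/-- if `A ⧸ (a)` is a principal ideal domain and `𝔭` is a prime containing `a`, then either
`𝔭 = (a)` or the class of `A ⧸ 𝔭` in `K₀` vanishes. -/
theorem clSub_quot_prime_of_pid (a : A) [IsDomain (A ⧸ Ideal.span {a})]
    [IsPrincipalIdealRing (A ⧸ Ideal.span {a})] (𝔭 : Ideal A) [𝔭.IsPrime] (ha : a ∈ 𝔭) :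
    𝔭 = Ideal.span {a} ∨ clSub (finP A) (ModuleCat.of A (A ⧸ 𝔭)) = 0 := by
  have hle : Ideal.span {a} ≤ 𝔭 := (Ideal.span_singleton_le_iff_mem _).2 ha
  obtain ⟨β, hβ⟩ := (IsPrincipalIdealRing.principal (𝔭.map (Ideal.Quotient.mk (Ideal.span {a})))).principal
  obtain ⟨b, rfl⟩ := Ideal.Quotient.mk_surjective β
  by_cases hb : Ideal.Quotient.mk (Ideal.span {a}) b = 0
  · left
    refine le_antisymm (fun c hc => ?_) hle
    have : Ideal.Quotient.mk (Ideal.span {a}) c ∈ 𝔭.map (Ideal.Quotient.mk (Ideal.span {a})) :=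
      Ideal.mem_map_of_mem _ hc
    rw [hβ, hb] at this
    have h0 : Ideal.Quotient.mk (Ideal.span {a}) c = 0 := by simpa using this
    exact Ideal.Quotient.eq_zero_iff_mem.1 h0
  · right
    let f : (A ⧸ Ideal.span {a}) →ₗ[A] (A ⧸ Ideal.span {a}) := LinearMap.lsmul A _ b
    let g : (A ⧸ Ideal.span {a}) →ₗ[A] (A ⧸ 𝔭) :=
      Submodule.mapQ (Ideal.span {a}) 𝔭 LinearMap.id hle
    have hfz : ∀ z, f z = Ideal.Quotient.mk (Ideal.span {a}) b * z := by
      intro z
      obtain ⟨c, rfl⟩ := Ideal.Quotient.mk_surjective z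
      rfl
    have hf : Function.Injective f := by
      rw [injective_iff_map_eq_zero]
      intro z hz
      rw [hfz] at hz
      exact (mul_eq_zero.1 hz).resolve_left hb
    have hg : Function.Surjective g := by
      intro z
      obtain ⟨c, rfl⟩ := Ideal.Quotient.mk_surjective z
      exact ⟨Ideal.Quotient.mk _ c, rfl⟩
    have hfg : Function.Exact f g := by
      intro z
      obtain ⟨c, rfl⟩ := Ideal.Quotient.mk_surjective z
      have h1 : g (Ideal.Quotient.mk _ c) = Ideal.Quotient.mk 𝔭 c := rfl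
      rw [h1, Ideal.Quotient.eq_zero_iff_mem, ← Ideal.mem_quotient_iff_mem hle, hβ]
      change _ ∈ Ideal.span _ ↔ _
      rw [Ideal.mem_span_singleton']
      constructor
      · rintro ⟨w, hw⟩
        exact ⟨w, by rw [hfz, mul_comm, hw]⟩
      · rintro ⟨w, hw⟩
        exact ⟨w, by rw [mul_comm, ← hfz, hw]⟩
    have h := clSub_of_exact _ _ _ f g hf hg hfg
    have h' := congrArg (fun t => t - clSub (finP A) (ModuleCat.of A (A ⧸ Ideal.span {a}))) h
    simpa using h'.symm

end pid

section generation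

variable [IsNoetherianRing A] (H : AddSubgroup (K0sub (finP A)))

theorem clSub_mem_of_prime
    (hH : ∀ 𝔭 : Ideal A, 𝔭.IsPrime → clSub (finP A) (ModuleCat.of A (A ⧸ 𝔭)) ∈ H)
    (M : Type u) [AddCommGroup M] [Module A M] [hM : Module.Finite A M] :
    clSub (finP A) (ModuleCat.of A M) ∈ H := by
  induction hM using IsNoetherianRing.induction_on_isQuotientEquivQuotientPrime A with
  | subsingleton N =>
    rw [clSub_of_subsingleton]
    exact H.zero_mem
  | quotient N p e =>
    rw [clSub_of_linearEquiv _ _ e]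
    exact hH p.1 p.2
  | exact N₁ N₂ N₃ f g hf hg hfg h₁ h₃ =>
    rw [clSub_of_exact N₁ N₂ N₃ f g hf hg hfg]
    exact H.add_mem h₁ h₃

theorem eq_top_of_prime
    (hH : ∀ 𝔭 : Ideal A, 𝔭.IsPrime → clSub (finP A) (ModuleCat.of A (A ⧸ 𝔭)) ∈ H) : H = ⊤ := by
  rw [eq_top_iff]
  rintro x -
  obtain ⟨y, rfl⟩ := QuotientAddGroup.mk_surjective x
  induction y using FreeAbelianGroup.induction_on with
  | zero => exact H.zero_mem
  | of M =>
    obtain ⟨M, hM⟩ := M
    have : Module.Finite A M := hM
    have := clSub_mem_of_prime H hH M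
    rwa [clSub_of_prop (finP A) hM] at this
  | neg M h => exact H.neg_mem h
  | add x y hx hy => exact H.add_mem hx hy

end generation

end Groth.Agent.R2.H76.K0Mod
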