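import Mathlib
import Groth.Agent.R2.H76K0Mod

/-!
# `K₀` of the node `k[x, y]/(xy)` (helper76)
-/

set_option autoImplicit false
universe u
open CategoryTheory CategoryTheory.Limits TensorProduct

namespace Groth.Agent.R2.H76.K0Node

open KZero Groth.Agent.Lib.Helper17.K0a Groth.Agent.R2.H76.K0Mod

variable (k : Type u) [Field k]

/-- the coordinate ring of the node. -/
abbrev Node : Type u :=
  MvPolynomial (Fin 2) k ⧸ Ideal.span {(MvPolynomial.X 0 * MvPolynomial.X 1 : MvPolynomial (Fin 2) k)}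

/-- the coordinate functions. -/
noncomputable abbrev xi (i : Fin 2) : Node k := Ideal.Quotient.mk _ (MvPolynomial.X i)

/-- the other index. -/
def oth (i : Fin 2) : Fin 2 := if i = 0 then 1 else 0

theorem oth_ne (i : Fin 2) : oth i ≠ i := by fin_cases i <;> simp [oth]

theorem eq_or_eq_oth (i l : Fin 2) : l = i ∨ l = oth i := by
  fin_cases i <;> fin_cases l <;> simp [oth]

theorem xi_mul_xi_oth (i : Fin 2) : xi k i * xi k (oth i) = 0 := by
  have h : xi k 0 * xi k 1 = 0 := by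
    rw [← map_mul]
    exact Ideal.Quotient.eq_zero_iff_mem.2 (Ideal.subset_span rfl)
  fin_cases i
  · simpa [oth] using h
  · simpa [oth, mul_comm] using h

/-- `k[x₀, x₁] → k[t]`, `x_i ↦ 0`, `x_j ↦ t`. -/
noncomputable def φ (i : Fin 2) : MvPolynomial (Fin 2) k →ₐ[k] Polynomial k :=
  MvPolynomial.aeval (fun j => if j = i then 0 else Polynomial.X)

theorem φ_X_self (i : Fin 2) : φ k i (MvPolynomial.X i) = 0 := by simp [φ]

theorem φ_X_oth (i : Fin 2) : φ k i (MvPolynomial.X (oth i)) = Polynomial.X := by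
  simp [φ, oth_ne]

theorem φ_rel (i : Fin 2) : φ k i (MvPolynomial.X 0 * MvPolynomial.X 1) = 0 := by
  fin_cases i <;> simp [φ]

noncomputable def ψ (i : Fin 2) : Node k →ₐ[k] Polynomial k :=
  Ideal.Quotient.liftₐ _ (φ k i) (by
    intro a ha
    obtain ⟨c, rfl⟩ := Ideal.mem_span_singleton'.1 ha
    rw [map_mul, φ_rel, mul_zero])

theorem ψ_mk (i : Fin 2) (p : MvPolynomial (Fin 2) k) :
    ψ k i (Ideal.Quotient.mk _ p) = φ k i p := rfl

noncomputable def χ (i : Fin 2) : (Node k ⧸ Ideal.span {xi k i}) →ₐ[k] Polynomial k :=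
  Ideal.Quotient.liftₐ _ (ψ k i) (by
    intro a ha
    obtain ⟨c, rfl⟩ := Ideal.mem_span_singleton'.1 ha
    rw [map_mul, ψ_mk, φ_X_self, mul_zero])

theorem χ_mk (i : Fin 2) (a : Node k) : χ k i (Ideal.Quotient.mk _ a) = ψ k i a := rfl

noncomputable def θ (i : Fin 2) : Polynomial k →ₐ[k] (Node k ⧸ Ideal.span {xi k i}) :=
  Polynomial.aeval (Ideal.Quotient.mk _ (xi k (oth i)))

theorem χ_comp_θ (i : Fin 2) : (χ k i).comp (θ k i) = AlgHom.id k _ := by
  apply Polynomial.algHom_ext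
  simp [θ, χ_mk, ψ_mk, φ_X_oth]

theorem θ_X (i : Fin 2) : θ k i Polynomial.X = Ideal.Quotient.mk _ (xi k (oth i)) := by
  simp [θ]

/-- the projection `k[x₀, x₁] → A ⧸ (x_i)`. -/
noncomputable def π (i : Fin 2) : MvPolynomial (Fin 2) k →ₐ[k] (Node k ⧸ Ideal.span {xi k i}) :=
  (Ideal.Quotient.mkₐ k (Ideal.span {xi k i})).comp (Ideal.Quotient.mkₐ k _)

theorem π_X_self (i : Fin 2) : π k i (MvPolynomial.X i) = 0 :=
  Ideal.Quotient.eq_zero_iff_mem.2 (Ideal.subset_span rfl)

theorem θ_comp_φ (i : Fin 2) : (θ k i).comp (φ k i) = π k i := by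
  apply MvPolynomial.algHom_ext
  intro l
  rcases eq_or_eq_oth i l with rfl | rfl
  · rw [AlgHom.comp_apply, φ_X_self, map_zero, π_X_self]
  · rw [AlgHom.comp_apply, φ_X_oth, θ_X]
    rfl

theorem θ_χ (i : Fin 2) (z : Node k ⧸ Ideal.span {xi k i}) : θ k i (χ k i z) = z := by
  obtain ⟨a, rfl⟩ := Ideal.Quotient.mk_surjective z
  obtain ⟨p, rfl⟩ := Ideal.Quotient.mk_surjective a
  rw [χ_mk, ψ_mk]
  exact DFunLike.congr_fun (θ_comp_φ k i) p

theorem θ_comp_χ (i : Fin 2) : (θ k i).comp (χ k i) = AlgHom.id k _ :=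
  AlgHom.ext (θ_χ k i)

/-- `A ⧸ (x_i) ≃ k[t]`. -/
noncomputable def quotEquiv (i : Fin 2) : (Node k ⧸ Ideal.span {xi k i}) ≃ₐ[k] Polynomial k :=
  AlgEquiv.ofAlgHom (χ k i) (θ k i) (χ_comp_θ k i) (θ_comp_χ k i)

instance isDomain_quot (i : Fin 2) : IsDomain (Node k ⧸ Ideal.span {xi k i}) :=
  (quotEquiv k i).toRingEquiv.toMulEquiv.isDomain _

instance isPrincipalIdealRing_quot (i : Fin 2) :
    IsPrincipalIdealRing (Node k ⧸ Ideal.span {xi k i}) :=
  IsPrincipalIdealRing.of_surjective (quotEquiv k i).symm.toRingEquiv.toRingHom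
    (quotEquiv k i).symm.surjective

instance isPrime_span_xi (i : Fin 2) : (Ideal.span {xi k i}).IsPrime :=
  (Ideal.Quotient.isDomain_iff_prime _).1 (isDomain_quot k i)

theorem xi_oth_notMem (i : Fin 2) : xi k (oth i) ∉ Ideal.span {xi k i} := by
  intro h
  have h0 : (Ideal.Quotient.mk (Ideal.span {xi k i})) (xi k (oth i)) = 0 :=
    Ideal.Quotient.eq_zero_iff_mem.2 h
  have := congrArg (χ k i) h0
  rw [χ_mk, ψ_mk, φ_X_oth, map_zero] at this
  exact Polynomial.X_ne_zero this

/-- the local ring at the generic point of the branch `x_i = 0`. -/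
abbrev Kx (i : Fin 2) : Type u := Localization.AtPrime (Ideal.span {xi k i})

theorem isUnit_algebraMap_xi_oth (i : Fin 2) :
    IsUnit (algebraMap (Node k) (Kx k i) (xi k (oth i))) :=
  IsLocalization.map_units (M := (Ideal.span {xi k i}).primeCompl) (Kx k i)
    ⟨xi k (oth i), xi_oth_notMem k i⟩

theorem algebraMap_xi_self (i : Fin 2) : algebraMap (Node k) (Kx k i) (xi k i) = 0 := by
  have h := congrArg (algebraMap (Node k) (Kx k i)) (xi_mul_xi_oth k i)
  rw [map_mul, map_zero] at h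
  exact (isUnit_algebraMap_xi_oth k i).mul_left_eq_zero.1 h

theorem map_span_xi_self (i : Fin 2) :
    (Ideal.span {xi k i}).map (algebraMap (Node k) (Kx k i)) = ⊥ := by
  rw [Ideal.map_span, Set.image_singleton, algebraMap_xi_self, Ideal.span_singleton_eq_bot]

theorem map_span_xi_oth (i : Fin 2) :
    (Ideal.span {xi k (oth i)}).map (algebraMap (Node k) (Kx k i)) = ⊤ := by
  rw [Ideal.map_span, Set.image_singleton, Ideal.span_singleton_eq_top]
  exact isUnit_algebraMap_xi_oth k i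

theorem isField_Kx (i : Fin 2) : IsField (Kx k i) := by
  rw [IsLocalRing.isField_iff_maximalIdeal_eq, ← Localization.AtPrime.map_eq_maximalIdeal,
    map_span_xi_self]

/-- the rank function at the generic point of the branch `x_i = 0`. -/
noncomputable def rkx (i : Fin 2) : K0sub (finP (Node k)) →+ ℤ :=
  letI : Field (Kx k i) := (isField_Kx k i).toField
  rk (Kx k i)

theorem rkx_self (i : Fin 2) :
    rkx k i (clSub (finP (Node k)) (ModuleCat.of (Node k) (Node k ⧸ Ideal.span {xi k i}))) = 1 := by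
  let _ : Field (Kx k i) := (isField_Kx k i).toField
  exact rk_clSub_quot_of_map_eq_bot (Kx k i) _ (map_span_xi_self k i)

theorem rkx_oth (i : Fin 2) :
    rkx k i (clSub (finP (Node k)) (ModuleCat.of (Node k) (Node k ⧸ Ideal.span {xi k (oth i)}))) = 0 := by
  let _ : Field (Kx k i) := (isField_Kx k i).toField
  exact rk_clSub_quot_of_map_eq_top (Kx k i) _ (map_span_xi_oth k i)

/-- the class of a quotient by a prime lies in the subgroup generated by the two branches. -/
theorem clSub_quot_prime_mem (H : AddSubgroup (K0sub (finP (Node k))))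
    (hH : ∀ i : Fin 2,
      clSub (finP (Node k)) (ModuleCat.of (Node k) (Node k ⧸ Ideal.span {xi k i})) ∈ H)
    (𝔭 : Ideal (Node k)) (h𝔭 : 𝔭.IsPrime) :
    clSub (finP (Node k)) (ModuleCat.of (Node k) (Node k ⧸ 𝔭)) ∈ H := by
  have h0 : xi k 0 * xi k 1 ∈ 𝔭 := by
    have := xi_mul_xi_oth k 0
    simp only [oth, if_true] at this
    rw [this]
    exact 𝔭.zero_mem
  have key : ∀ i : Fin 2, xi k i ∈ 𝔭 →
      clSub (finP (Node k)) (ModuleCat.of (Node k) (Node k ⧸ 𝔭)) ∈ H := by
    intro i hi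
    rcases clSub_quot_prime_of_pid (xi k i) 𝔭 hi with rfl | h
    · exact hH i
    · rw [h]; exact H.zero_mem
  rcases h𝔭.mem_or_mem h0 with h | h
  · exact key 0 h
  · exact key 1 h

/-- the two branch classes. -/
noncomputable abbrev cls (i : Fin 2) : K0sub (finP (Node k)) :=
  clSub (finP (Node k)) (ModuleCat.of (Node k) (Node k ⧸ Ideal.span {xi k i}))

/-- the map `ℤ × ℤ → K₀`. -/
noncomputable def F : ℤ × ℤ →+ K0sub (finP (Node k)) :=
  AddMonoidHom.coprod (zmultiplesHom _ (cls k 0)) (zmultiplesHom _ (cls k 1))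

theorem F_apply (p : ℤ × ℤ) : F k p = p.1 • cls k 0 + p.2 • cls k 1 := by
  simp [F]

theorem F_surjective : Function.Surjective (F k) := by
  rw [← AddMonoidHom.range_eq_top]
  apply eq_top_of_prime
  intro 𝔭 h𝔭
  apply clSub_quot_prime_mem k _ _ 𝔭 h𝔭
  intro i
  fin_cases i
  · exact ⟨(1, 0), by simp [F_apply]⟩
  · exact ⟨(0, 1), by simp [F_apply]⟩

theorem F_injective : Function.Injective (F k) := by
  rw [injective_iff_map_eq_zero]
  intro p hp
  rw [F_apply] at hp
  have h0 := congrArg (rkx k 0) hp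
  have h1 := congrArg (rkx k 1) hp
  have e0 : rkx k 0 (cls k 0) = 1 := rkx_self k 0
  have e01 : rkx k 0 (cls k 1) = 0 := rkx_oth k 0
  have e1 : rkx k 1 (cls k 1) = 1 := rkx_self k 1
  have e10 : rkx k 1 (cls k 0) = 0 := rkx_oth k 1
  rw [map_add, map_zsmul, map_zsmul, e0, e01, map_zero] at h0
  rw [map_add, map_zsmul, map_zsmul, e1, e10, map_zero] at h1
  ext <;> simp at h0 h1 ⊢ <;> assumption

theorem F_bijective : Function.Bijective (F k) := ⟨F_injective k, F_surjective k⟩

end Groth.Agent.R2.H76.K0Node
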