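import Mathlib

/-
helper76 library: spreading out morphisms into a scheme locally of FINITE TYPE from a cofiltered
limit with scheme-theoretically dominant projections (used for S16219).

* `exists_π_app_comp_eq_of_isAffine` : affine case.
* `exists_π_app_comp_eq_of_locallyOfFiniteType` : cofiltered diagram of qcqs schemes with affine
  transition maps, limit cone `c` with all `c.π.app i` scheme-theoretically dominant, `X ⟶ S` locally
  of finite type; every `S`-morphism `c.pt ⟶ X` factors through some stage (the proof is Mathlib's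
  proof of `Scheme.exists_π_app_comp_eq_of_locallyOfFinitePresentation` with the affine step
  replaced).
* `subalgFunctor`, `subalgCocone`, `isColimitSubalgCocone` : a directed covering family of
  subalgebras is a filtered colimit in `CommRingCat`.
* `isSchemeTheoreticallyDominant_SpecMap` : `Spec.map φ` is scheme-theoretically dominant for
  injective `φ`.
* `exists_hom_from_subalgebra` : statement S16219.
-/

set_option autoImplicit false
set_option linter.style.haveILetI false
universe u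
open CategoryTheory Limits AlgebraicGeometry Opposite

namespace Groth.Agent.R2.H76.LimFT


/-- lifting a ring hom through an injective ring hom whose range contains the image. -/
theorem exists_ringHom_lift {B R R' : Type*} [CommRing B] [CommRing R] [CommRing R']
    (α : B →+* R') (ρ : R →+* R') (hρ : Function.Injective ρ) (h : ∀ b, α b ∈ ρ.range) :
    ∃ β : B →+* R, ρ.comp β = α := by
  choose β hβ using h
  exact ⟨{ toFun := β
           map_one' := hρ (by simp [hβ])
           map_mul' := fun x y => hρ (by simp [hβ])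
           map_zero' := hρ (by simp [hβ])
           map_add' := fun x y => hρ (by simp [hβ]) }, RingHom.ext hβ⟩

variable {I : Type u} [Category.{u} I] {S X : Scheme.{u}} (D : I ⥤ Scheme.{u})
  (t : D ⟶ (Functor.const I).obj S) (f : X ⟶ S) (c : Cone D) (hc : IsLimit c)

include hc in
/-- affine case: finite type target, injective legs on global sections. -/
theorem exists_π_app_comp_eq_of_isAffine [IsCofiltered I] [LocallyOfFiniteType f]
    [IsAffine S] [IsAffine X] [∀ i, IsAffine (D.obj i)]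
    (hinj : ∀ i, Function.Injective (c.π.app i).appTop)
    (a : c.pt ⟶ X) (ha : c.π ≫ t = (Functor.const _).map (a ≫ f)) :
    ∃ (i : I) (g : D.obj i ⟶ X), c.π.app i ≫ g = a ∧ g ≫ f = t.app i := by
  classical
  have hpt : IsAffine c.pt := Scheme.isAffine_of_isLimit c hc
  have hpt' : ∀ i, IsAffine (((Functor.const I).obj c.pt).obj i) := fun _ => hpt
  have hft : f.appTop.hom.FiniteType :=
    (HasRingHomProperty.iff_of_isAffine (P := @LocallyOfFiniteType)).mp inferInstance
  let τ : ∀ i, D.obj i ⟶ S := fun i => t.app i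
  have hha : ∀ i, c.π.app i ≫ τ i = a ≫ f := fun i => congr(($ha).app i)
  -- generators
  letI := f.appTop.hom.toAlgebra
  obtain ⟨s, hs⟩ := hft
  -- each generator's image comes from a stage
  have h1 : ∀ b : Γ(X, ⊤), ∃ (i : I) (y : Γ(D.obj i, ⊤)), (c.π.app i).appTop y = a.appTop b :=
    fun b => exists_appTop_π_eq_of_isAffine_of_isLimit D c hc (a.appTop b)
  choose k y hy using h1
  obtain ⟨i, hi⟩ := IsCofiltered.inf_objs_exists (s.image k)
  have hi' : ∀ b ∈ s, Nonempty (i ⟶ k b) := fun b hb => hi (Finset.mem_image_of_mem _ hb)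
  -- the image of `a.appTop` lies in the range of the leg at `i`
  have hrange : ∀ b : Γ(X, ⊤), a.appTop.hom b ∈ (c.π.app i).appTop.hom.range := by
    intro b
    have hb : b ∈ Algebra.adjoin Γ(S, ⊤) (s : Set Γ(X, ⊤)) := by rw [hs]; trivial
    induction hb using Algebra.adjoin_induction with
    | mem x hx =>
      obtain ⟨u⟩ := hi' x hx
      refine ⟨(D.map u).appTop (y x), ?_⟩
      have h := congr(($(c.w u)).appTop (y x))
      simp only [Scheme.Hom.comp_appTop, CommRingCat.comp_apply] at h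
      exact h.trans (hy x)
    | algebraMap r =>
      refine ⟨(τ i).appTop r, ?_⟩
      have := congr(($(hha i)).appTop r)
      simpa [RingHom.algebraMap_toAlgebra] using this
    | add x y _ _ hx hy => simpa using add_mem hx hy
    | mul x y _ _ hx hy => simpa using mul_mem hx hy
  obtain ⟨β, hβ⟩ := exists_ringHom_lift a.appTop.hom (c.π.app i).appTop.hom (hinj i) hrange
  have hβ1 : CommRingCat.ofHom β ≫ (c.π.app i).appTop = a.appTop := by
    ext b
    exact congr($hβ b)
  have hβ2 : f.appTop ≫ CommRingCat.ofHom β = (τ i).appTop := by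
    ext r
    apply hinj i
    have h2 := congr($hβ (f.appTop r))
    have h3 := congr(($(hha i)).appTop r)
    simp only [Scheme.Hom.comp_appTop, CommRingCat.comp_apply] at h3
    simp only [CommRingCat.comp_apply, CommRingCat.hom_ofHom]
    rw [h3]
    exact h2
  refine ⟨i, (D.obj i).isoSpec.hom ≫ Spec.map (CommRingCat.ofHom β) ≫ X.isoSpec.inv, ?_, ?_⟩
  · rw [← Category.assoc, ← Scheme.isoSpec_hom_naturality, Category.assoc, ← Spec.map_comp_assoc,
      hβ1, Scheme.isoSpec_hom_naturality_assoc, Iso.hom_inv_id, Category.comp_id]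
  · change _ = τ i
    rw [Category.assoc, Category.assoc, ← Scheme.isoSpec_inv_naturality, ← Spec.map_comp_assoc,
      hβ2, Scheme.isoSpec_hom_naturality_assoc, Iso.hom_inv_id, Category.comp_id]


attribute [local simp] Scheme.Hom.resLE_comp_resLE

set_option backward.defeqAttrib.useBackward true in
set_option backward.isDefEq.respectTransparency false in
include hc in
/-- the legs of the restricted cone are injective on global sections when the legs of the original
cone are scheme-theoretically dominant. -/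
theorem opensCone_π_app_appTop_injective [IsCofiltered I]
    [∀ {i j} (f : i ⟶ j), IsAffineHom (D.map f)]
    [∀ i, IsSchemeTheoreticallyDominant (c.π.app i)]
    (i : I) (U : (D.obj i).Opens) (k : Over i) :
    Function.Injective ((opensCone D c i U).π.app k).appTop := by
  have := isAffineHom_π_app D c hc
  have hpb : IsPullback ((opensCone D c i U).π.app k) (c.π.app i ⁻¹ᵁ U).ι
      ((opensDiagramι D i U).app k) (c.π.app k.left) :=
    IsOpenImmersion.isPullback _ _ _ _ (by simp) (by simp [← Scheme.Hom.comp_preimage])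
  have : IsSchemeTheoreticallyDominant ((opensCone D c i U).π.app k) :=
    IsSchemeTheoreticallyDominant.of_isPullback hpb.flip
  have : QuasiCompact ((opensCone D c i U).π.app k) := by
    have := isAffineHom_π_app _ _ (isLimitOpensCone D c hc i U) k
    infer_instance
  exact Scheme.Hom.app_injective _ ⊤

open AlgebraicGeometry.Scheme in
set_option backward.defeqAttrib.useBackward true in
set_option backward.isDefEq.respectTransparency false in
open TopologicalSpace in
include hc in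
/-- Given a cofiltered diagram of qcqs schemes `Dᵢ` over `S` with affine transition maps and
scheme-theoretically dominant projections from the limit. If `X` is locally of finite type over
`S`, then any `S`-morphism `lim Dᵢ ⟶ X` factors through some `Dⱼ`. (Adapted from Mathlib's
`Scheme.exists_π_app_comp_eq_of_locallyOfFinitePresentation`.) -/
theorem exists_π_app_comp_eq_of_locallyOfFiniteType
    [IsCofiltered I] [LocallyOfFiniteType f]
    [∀ {i j} (f : i ⟶ j), IsAffineHom (D.map f)]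
    [∀ i, CompactSpace (D.obj i)] [∀ i, QuasiSeparatedSpace (D.obj i)]
    [∀ i, IsSchemeTheoreticallyDominant (c.π.app i)]
    (a : c.pt ⟶ X) (ha : c.π ≫ t = (Functor.const _).map (a ≫ f)) :
    ∃ (i : I) (g : D.obj i ⟶ X), c.π.app i ≫ g = a ∧ g ≫ f = t.app i := by
  -- The open cover of `c := lim Dᵢ` indexed by triplets of affine opens `(U, V, W)` with
  -- `U ⊆ c`, `V ⊆ X`, `W ⊆ S` such that `U` maps to `V` maps to `W`.
  have 𝒰 := (c.pt.isBasis_affineOpens).isOpenCover_mem_and_le
    (((X.isBasis_affineOpens).isOpenCover_mem_and_le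
    ((S.isBasis_affineOpens).isOpenCover.comap f.base.hom)).comap a.base.hom)
  -- By qcqs, this cover descends to some finite affine open cover `𝒱` of `Dᵢ`.
  obtain ⟨i, s, 𝒱, h𝒱, h𝒱𝒰⟩ := Scheme.exists_isOpenCover_and_isAffine D c hc _ 𝒰 fun U ↦ U.2.1
  obtain ⟨i', fi'i, hi'⟩ : ∃ (i' : I) (fi'i : i' ⟶ i),
      ∀ j, D.map fi'i ⁻¹ᵁ 𝒱 j ≤ t.app i' ⁻¹ᵁ j.1.1.2.1.2.1 := by
    choose k fk hk using fun j ↦ exists_map_preimage_le_map_preimage D c hc (h𝒱𝒰 j).1.isCompact
      (V := t.app i ⁻¹ᵁ j.1.1.2.1.2.1) (by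
      rw [← Hom.comp_preimage, ← NatTrans.comp_app, ha]
      exact (h𝒱𝒰 j).2.symm.trans_le (j.1.prop.2.trans (a.preimage_mono j.1.1.2.prop.2)))
    obtain ⟨i', fi'i, fi', hfi'⟩ := IsCofiltered.wideCospan fk
    refine ⟨i', fi'i, fun j ↦ ?_⟩
    rw [← hfi', Functor.map_comp, Hom.comp_preimage]
    refine (Hom.preimage_mono _ (hk _)).trans ?_
    simp only [← Hom.comp_preimage, t.naturality, Functor.const_obj_obj,
      Functor.const_obj_map, Category.comp_id, le_refl]
  -- Using the affine version `exists_π_app_comp_eq_of_locallyOfFinitePresentation_of_isAffine`,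
  -- one can now factor `Dⱼ ⁻¹ 𝒱ⱼ ⟶ lim Dᵢ ⟶ X` through some `Dⱼₖ ⁻¹ 𝒱ⱼ` for each `𝒱ⱼ`,
  -- and by finite-ness we may chose a fixed `k` that works for every `j`.
  have : ∃ k, ∃ (fk : k ⟶ i), ∀ j, ∃ (ak : ↑(D.map fk ⁻¹ᵁ 𝒱 j) ⟶ X),
      ak ≫ f = Opens.ι _ ≫ t.app k ∧ c.π.app _ ∣_ _ ≫ ak = Opens.ι _ ≫ a := by
    let 𝒱' := (D.map fi'i ⁻¹ᵁ 𝒱 ·)
    have h𝒱'𝒰 (j : s) : c.π.app i' ⁻¹ᵁ 𝒱' j = j.1.1.1 := by
      rw [← Hom.comp_preimage, c.w fi'i]; exact (h𝒱𝒰 j).2.symm
    have _ (j k) : IsAffine ((opensDiagram D i' (𝒱' j)).obj k) := ((h𝒱𝒰 _).1.preimage _).preimage _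
    let t𝒱 (j : _) : opensDiagram D i' (𝒱' j) ⟶ (Functor.const (Over i')).obj j.1.1.2.1.2 :=
    { app k := (t.app k.left).resLE _ _ <| by
        refine (Hom.preimage_mono _ (hi' _)).trans ?_
        simp only [Functor.const_obj_obj, ← Hom.comp_preimage, t.naturality,
          Functor.const_obj_map, Category.comp_id, le_refl]
      naturality {k₁ k₂} f₁₂ := by simp [Hom.resLE_comp_resLE] }
    have (j : s) : IsAffine j.1.1.2.1.1 := j.1.1.2.prop.1
    choose k ak hk hk' using fun j ↦ exists_π_app_comp_eq_of_isAffine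
      _ (t𝒱 j) (f.resLE _ _ j.1.1.2.prop.2) _ (isLimitOpensCone D c hc i' (𝒱' j))
      (opensCone_π_app_appTop_injective D c hc i' (𝒱' j))
      (a.resLE _ _ ((h𝒱'𝒰 _).trans_le j.1.prop.2)) (by
      ext k
      simp [t𝒱, Hom.resLE_comp_resLE, show c.π.app k.left ≫ t.app k.left = a ≫ f from
        congr(($ha).app k.left)])
    obtain ⟨i'', fi''i', fi'', hi''⟩ := IsCofiltered.wideCospan fun j ↦ (k j).hom
    refine ⟨i'', fi''i' ≫ fi'i, fun j ↦
      ⟨Scheme.homOfLE _ ?_ ≫ D.map (fi'' _) ∣_ _ ≫ ak j ≫ Opens.ι _, ?_, ?_⟩⟩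
    · simp only [← Hom.comp_preimage, ← Functor.map_comp, 𝒱', reassoc_of% hi'']; rfl
    · have : ak j ≫ Opens.ι _ ≫ f = Opens.ι _ ≫ t.app (k j).left := by
        simpa [t𝒱] using! congr($(hk' j) ≫ Opens.ι _)
      simp [this]
    · have e : c.π.app i'' ⁻¹ᵁ D.map (fi''i' ≫ fi'i) ⁻¹ᵁ 𝒱 j ≤ c.π.app i' ⁻¹ᵁ 𝒱' j := by
        simp only [← Hom.comp_preimage, Cone.w, 𝒱']; rfl
      simpa [← AlgebraicGeometry.Scheme.Hom.resLE_eq_morphismRestrict,
        Scheme.Hom.resLE_comp_resLE_assoc] using! congr(Scheme.homOfLE _ e ≫ $(hk j) ≫ Opens.ι _)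
  choose k fki ak hak hak' using this
  -- We may then find an `l` for each `j₁` and `j₂` such that the map `Dⱼ₁ₗ ⁻¹ 𝒱ⱼ₁ ⟶ X` and
  -- `Dⱼ₂ₗ ⁻¹ 𝒱ⱼ₂ ⟶ X` agrees on the intersection in `Dₗ`.
  -- And again by finiteness we may choose a global `l`.
  obtain ⟨l, flk, hl⟩ : ∃ (l : I) (flk : l ⟶ k), ∀ j₁ j₂, Scheme.homOfLE _ inf_le_left ≫
      D.map flk ∣_ _ ≫ ak j₁ = Scheme.homOfLE _ inf_le_right ≫ D.map flk ∣_ _ ≫ ak j₂ := by
    let 𝒱' := (D.map fki ⁻¹ᵁ 𝒱 ·)
    have (j₁ j₂ : s) : ∃ (l : I) (flk : l ⟶ k), Scheme.homOfLE _ inf_le_left ≫ D.map flk ∣_ _ ≫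
        ak j₁ = Scheme.homOfLE _ inf_le_right ≫ D.map flk ∣_ _ ≫ ak j₂ := by
      have _ (x) : CompactSpace ↥((opensDiagram D k (𝒱' j₁ ⊓ 𝒱' j₂)).obj x) :=
        isCompact_iff_compactSpace.mp (QuasiCompact.isCompact_preimage _ (𝒱' j₁ ⊓ 𝒱' j₂).isOpen
          (((h𝒱𝒰 _).1.preimage _).isCompact.inter_of_isOpen ((h𝒱𝒰 _).1.preimage _).isCompact
            (D.map fki ⁻¹ᵁ 𝒱 j₁).2 (D.map fki ⁻¹ᵁ 𝒱 j₂).2))
      obtain ⟨⟨l, ⟨⟨⟩⟩, flk⟩, ⟨flk', ⟨⟨⟨⟩⟩⟩, h⟩, e⟩ :=
        Scheme.exists_hom_comp_eq_comp_of_locallyOfFiniteType _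
          (opensDiagramι .. ≫ (Over.forget k).whiskerLeft t) f _
          (isLimitOpensCone D c hc k (𝒱' j₁ ⊓ 𝒱' j₂)) (i := .mk (𝟙 k))
          (Scheme.homOfLE _ (by simp [𝒱']) ≫ ak j₁) (Scheme.homOfLE _ (by simp [𝒱']) ≫ ak j₂)
          (by simp [hak]) (by simp [hak]) (by simp; simp [Hom.resLE, hak'])
      obtain rfl : flk = flk' := by simpa using! h.symm
      refine ⟨l, flk, by simpa [← Scheme.Hom.resLE_eq_morphismRestrict] using! e⟩
    choose l flk hflk using this
    obtain ⟨l', fl'k, fl'l, hl'⟩ := IsCofiltered.wideCospan (I := s × s) fun x ↦ flk x.1 x.2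
    refine ⟨l', fl'k, fun j₁ j₂ ↦ ?_⟩
    have H : (D.map fl'k ≫ D.map fki) ⁻¹ᵁ (𝒱 j₁ ⊓ 𝒱 j₂) ≤
        (D.map (fl'l (j₁, j₂)) ≫ D.map (flk j₁ j₂) ≫ D.map fki) ⁻¹ᵁ (𝒱 j₁ ⊓ 𝒱 j₂) := by
      simp only [← Functor.map_comp, reassoc_of% hl']; rfl
    simpa [← Scheme.Hom.resLE_eq_morphismRestrict, Scheme.Hom.resLE_comp_resLE_assoc,
      ← Functor.map_comp, hl'] using! congr((D.map (fl'l (j₁, j₂))).resLE _ _ H ≫ $(hflk j₁ j₂))
  -- We may glue the morphisms into `Dₗ ⟶ X` and verify that it indeed satisfies the hypothesis.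
  let h𝒲 := (h𝒱.comap (D.map fki).base.hom).comap (D.map flk).base.hom
  let 𝒲 := Scheme.openCoverOfIsOpenCover _ (D.map flk ⁻¹ᵁ D.map fki ⁻¹ᵁ 𝒱 ·) h𝒲
  let F := 𝒲.glueMorphisms (fun j ↦ D.map flk ∣_ D.map fki ⁻¹ᵁ 𝒱 j ≫ ak j) (fun j₁ j₂ ↦ by
      rw [← cancel_epi (isPullback_opens_inf _ _).isoPullback.hom]
      simpa [𝒲] using! hl j₁ j₂)
  have hF (j : s) : (D.map flk ⁻¹ᵁ D.map fki ⁻¹ᵁ 𝒱 j).ι ≫ F = D.map flk ∣_ _ ≫ ak j :=
    Scheme.Cover.ι_glueMorphisms ..
  refine ⟨l, F, ?_, ?_⟩
  · refine Cover.hom_ext (𝒲.pullback₁ (c.π.app l)) _ _ fun j ↦ ?_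
    rw [← cancel_epi (isPullback_morphismRestrict _ _).flip.isoPullback.hom]
    dsimp [𝒲]
    simp only [pullback.condition_assoc, IsPullback.isoPullback_hom_snd_assoc,
      IsPullback.isoPullback_hom_fst_assoc, hF]
    have h : c.π.app l ⁻¹ᵁ D.map flk ⁻¹ᵁ D.map fki ⁻¹ᵁ 𝒱 j ≤ c.π.app k ⁻¹ᵁ D.map fki ⁻¹ᵁ 𝒱 j := by
      simp only [← Hom.comp_preimage, c.w_assoc, c.w]; rfl
    simpa [← Scheme.Hom.resLE_eq_morphismRestrict, Scheme.Hom.resLE_comp_resLE_assoc] using!
      congr(Scheme.homOfLE _ h ≫ $(hak' j))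
  · refine 𝒲.hom_ext _ _ fun j ↦ ?_
    simp [F, Cover.ι_glueMorphisms_assoc, hak]; rfl



section concrete

variable {ι : Type u} {A C : Type u} [CommRing A] [CommRing C] [Algebra A C]

/-- the index type with the preorder pulled back from the subalgebras. -/
def J (_ : ι → Subalgebra A C) : Type u := ι

instance (S : ι → Subalgebra A C) : Preorder (J S) := Preorder.lift (S : ι → Subalgebra A C)

variable (S : ι → Subalgebra A C)

theorem J_le_iff (i j : J S) : i ≤ j ↔ S i ≤ S j := Iff.rfl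

/-- the diagram of subalgebras. -/
def subalgFunctor : J S ⥤ CommRingCat.{u} where
  obj i := CommRingCat.of (S i)
  map {i j} u := CommRingCat.ofHom (Subalgebra.inclusion ((J_le_iff S i j).1 (leOfHom u))).toRingHom
  map_id i := by ext x; rfl
  map_comp u v := by ext x; rfl

/-- the cocone of inclusions. -/
def subalgCocone : Cocone (subalgFunctor S) where
  pt := CommRingCat.of C
  ι := { app := fun i => CommRingCat.ofHom (S i).val.toRingHom
         naturality := fun i j u => by ext x; rfl }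

/-- a directed covering family of subalgebras is a colimit cocone in `CommRingCat`. -/
noncomputable def isColimitSubalgCocone (hdir : Directed (· ≤ ·) S) (hcov : ∀ c : C, ∃ i, c ∈ S i) :
    IsColimit (subalgCocone S) := by
  haveI : Nonempty (J S) := by obtain ⟨i, _⟩ := hcov 0; exact ⟨i⟩
  haveI : IsDirected (J S) (· ≤ ·) := ⟨fun i j => hdir i j⟩
  haveI : ReflectsColimit (subalgFunctor S) (forget CommRingCat.{u}) :=
    reflectsColimit_of_reflectsIsomorphisms _ _
  apply isColimitOfReflects (forget CommRingCat.{u})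
  apply Types.FilteredColimit.isColimitOf
  · intro x
    obtain ⟨i, hi⟩ := hcov x
    exact ⟨i, ⟨x, hi⟩, rfl⟩
  · intro i j xi xj h
    obtain ⟨k, hik, hjk⟩ := hdir i j
    refine ⟨k, homOfLE hik, homOfLE hjk, ?_⟩
    exact Subtype.ext h

end concrete



theorem isSchemeTheoreticallyDominant_of_appTop_injective {X Y : Scheme.{u}} (f : X ⟶ Y)
    [IsAffine Y] (h : Function.Injective f.appTop) : IsSchemeTheoreticallyDominant f := by
  rw [isSchemeTheoreticallyDominant_iff, Scheme.ker_of_isAffine]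
  have : RingHom.ker f.appTop.hom = ⊥ := (RingHom.injective_iff_ker_eq_bot _).1 h
  rw [this]
  rw [← le_bot_iff]
  apply Scheme.IdealSheafData.le_of_isAffine
  simp [Ideal.map_bot]

theorem isSchemeTheoreticallyDominant_SpecMap {R R' : CommRingCat.{u}} (φ : R ⟶ R')
    (h : Function.Injective φ) : IsSchemeTheoreticallyDominant (Spec.map φ) := by
  apply isSchemeTheoreticallyDominant_of_appTop_injective
  have h1 := Scheme.ΓSpecIso_naturality φ
  have h2 : (Spec.map φ).appTop = (Scheme.ΓSpecIso R).hom ≫ φ ≫ (Scheme.ΓSpecIso R').inv := by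
    rw [← Category.assoc, ← h1, Category.assoc, Iso.hom_inv_id, Category.comp_id]
  rw [h2]
  intro x y hxy
  simp only [CommRingCat.comp_apply] at hxy
  have h3 := (ConcreteCategory.bijective_of_isIso (Scheme.ΓSpecIso R').inv).1 hxy
  exact (ConcreteCategory.bijective_of_isIso (Scheme.ΓSpecIso R).hom).1 (h h3)


section final

variable {ι : Type u} (A C : Type u) [CommRing A] [CommRing C] [Algebra A C]

set_option backward.isDefEq.respectTransparency false in
/-- statement S16219 (without the unused hypotheses). -/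
theorem exists_hom_from_subalgebra
    (S : ι → Subalgebra A C) (hdir : Directed (· ≤ ·) S) (hcov : ∀ c : C, ∃ i, c ∈ S i)
    (X : Scheme.{u}) (f : X ⟶ Spec (CommRingCat.of A))
    [LocallyOfFiniteType f]
    (g : Spec (CommRingCat.of C) ⟶ X)
    (hg : g ≫ f = Spec.map (CommRingCat.ofHom (algebraMap A C))) :
    ∃ (i : ι) (g' : Spec (CommRingCat.of (S i)) ⟶ X),
      g' ≫ f = Spec.map (CommRingCat.ofHom (algebraMap A (S i))) ∧
      Spec.map (CommRingCat.ofHom (S i).val.toRingHom) ≫ g' = g := by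
  haveI : Nonempty (J S) := by obtain ⟨i, _⟩ := hcov 0; exact ⟨i⟩
  haveI : IsDirected (J S) (· ≤ ·) := ⟨fun i j => hdir i j⟩
  let D : (J S)ᵒᵖ ⥤ Scheme.{u} := (subalgFunctor S).op ⋙ Scheme.Spec
  let c : Cone D := Scheme.Spec.mapCone (subalgCocone S).op
  have hc : IsLimit c := isLimitOfPreserves Scheme.Spec (isColimitSubalgCocone S hdir hcov).op
  let t : D ⟶ (Functor.const _).obj (Spec (CommRingCat.of A)) :=
    { app := fun i => Spec.map (CommRingCat.ofHom (algebraMap A (S i.unop)))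
      naturality := fun i j u => by
        dsimp [D]
        rw [Category.comp_id]
        rw [← Spec.map_comp]
        rfl }
  haveI : ∀ {i j : (J S)ᵒᵖ} (u : i ⟶ j), IsAffineHom (D.map u) := fun u => by
    dsimp [D]; infer_instance
  haveI : ∀ i, CompactSpace (D.obj i) := fun i => by dsimp [D]; infer_instance
  haveI : ∀ i, QuasiSeparatedSpace (D.obj i) := fun i => by dsimp [D]; infer_instance
  haveI : ∀ i, IsSchemeTheoreticallyDominant (c.π.app i) := fun i =>
    isSchemeTheoreticallyDominant_SpecMap (CommRingCat.ofHom (S i.unop).val.toRingHom)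
      Subtype.val_injective
  obtain ⟨i, g', h1, h2⟩ := exists_π_app_comp_eq_of_locallyOfFiniteType D t f c hc g (by
    ext i : 2
    change Spec.map _ ≫ Spec.map _ = g ≫ f
    rw [hg, ← Spec.map_comp]
    rfl)
  exact ⟨i.unop, g', h2, h1⟩

end final

end Groth.Agent.R2.H76.LimFT
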