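import Mathlib
import Groth.Prelude.Def_LocCohZ
import Groth.Agent.Lib.Helper9TopMV
import Groth.Agent.Lib.Helper9MVAbstract

/-
helper76 library: Mayer–Vietoris for the corepresenting objects `ℤ_U` (extension by zero of the
constant sheaf) of the local-cohomology-style groups `HZc`.

* `shortExact_of_hom_injective` : a short complex in an abelian category with enough injectives
  is short exact as soon as `Hom(-, I)` turns it into a short exact sequence for every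
  injective `I`.
* `mv_shortExact` : `0 → ℤ_{U ⊓ U'} → ℤ_U ⊞ ℤ_{U'} → ℤ_{U ⊔ U'} → 0` is short exact.
* `mayer_vietoris` : the resulting Mayer–Vietoris long exact sequence (statement S16287).
-/


set_option autoImplicit false
set_option linter.style.haveILetI false
universe u
open CategoryTheory CategoryTheory.Limits TopologicalSpace Opposite

namespace Groth.Agent.R2.H76.MVZ

section abstract

variable {𝒜 : Type*} [Category 𝒜] [Abelian 𝒜] [EnoughInjectives 𝒜]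

/-- a short complex which becomes short exact after `Hom(-, I)` for every injective `I` is short
exact. -/
theorem shortExact_of_hom_injective (S : ShortComplex 𝒜)
    (h1 : ∀ (I : 𝒜) [Injective I] (φ : S.X₁ ⟶ I), ∃ ψ : S.X₂ ⟶ I, S.f ≫ ψ = φ)
    (h2 : ∀ (I : 𝒜) [Injective I] (χ : S.X₃ ⟶ I), S.g ≫ χ = 0 → χ = 0)
    (h3 : ∀ (I : 𝒜) [Injective I] (ψ : S.X₂ ⟶ I), S.f ≫ ψ = 0 → ∃ χ : S.X₃ ⟶ I, S.g ≫ χ = ψ) :
    S.ShortExact := by
  have hmono : Mono S.f := by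
    apply Preadditive.mono_of_cancel_zero
    intro P a ha
    obtain ⟨ψ, hψ⟩ := h1 (Injective.under S.X₁) (Injective.ι S.X₁)
    have : a ≫ Injective.ι S.X₁ = 0 := by rw [← hψ, ← Category.assoc, ha, zero_comp]
    exact (cancel_mono (Injective.ι S.X₁)).1 (this.trans zero_comp.symm)
  have hepi : Epi S.g := by
    apply Preadditive.epi_of_cancel_zero
    intro P c hc
    have := h2 (Injective.under P) (c ≫ Injective.ι P) (by rw [← Category.assoc, hc, zero_comp])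
    exact (cancel_mono (Injective.ι P)).1 (this.trans zero_comp.symm)
  have hex : S.Exact := by
    rw [ShortComplex.exact_iff_epi_kernel_lift]
    apply Preadditive.epi_of_cancel_zero
    intro P c hc
    -- extend `c ≫ ι` along `kernel.ι S.g`
    let u : S.X₂ ⟶ Injective.under P := Injective.factorThru (c ≫ Injective.ι P) (kernel.ι S.g)
    have hu : kernel.ι S.g ≫ u = c ≫ Injective.ι P := Injective.comp_factorThru _ _
    have hfu : S.f ≫ u = 0 := by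
      have : S.f = kernel.lift S.g S.f S.zero ≫ kernel.ι S.g := (kernel.lift_ι _ _ _).symm
      rw [this, Category.assoc, hu, ← Category.assoc, hc, zero_comp]
    obtain ⟨χ, hχ⟩ := h3 (Injective.under P) u hfu
    have : c ≫ Injective.ι P = 0 := by
      rw [← hu, ← hχ, ← Category.assoc, kernel.condition, zero_comp]
    exact (cancel_mono (Injective.ι P)).1 (this.trans zero_comp.symm)
  exact ShortComplex.ShortExact.mk' hex hmono hepi

end abstract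

section eps

variable {X : TopCat.{u}}

open LocCohZ

/-- the section over `X` attached to a morphism `ℤ_X/ℤ_W ⟶ F`. -/
noncomputable def eps (W : Opens X) (F : CohTop.Ab X) :
    (zq (le_top : W ≤ ⊤) ⟶ F) →+ F.obj.obj (op (⊤ : Opens X)) :=
  (CohFree.evalGen (Opens.grothendieckTopology X) ⊤ F).comp
    { toFun := fun φ => cokernel.π _ ≫ φ
      map_zero' := comp_zero
      map_add' := fun _ _ => Preadditive.comp_add _ _ _ _ _ _ }

theorem eps_apply (W : Opens X) (F : CohTop.Ab X) (φ : zq (le_top : W ≤ ⊤) ⟶ F) :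
    eps W F φ = CohFree.evalGen (Opens.grothendieckTopology X) ⊤ F (cokernel.π _ ≫ φ) := rfl

theorem eps_injective (W : Opens X) (F : CohTop.Ab X) : Function.Injective (eps W F) := by
  intro φ φ' h
  rw [eps_apply, eps_apply] at h
  rw [← CohFree.homEquivSect_apply, ← CohFree.homEquivSect_apply] at h
  have h1 := (CohFree.homEquivSect (Opens.grothendieckTopology X) ⊤ F).injective h
  exact (cancel_epi _).1 h1

theorem eps_restrict (W : Opens X) (F : CohTop.Ab X) (φ : zq (le_top : W ≤ ⊤) ⟶ F) :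
    F.obj.map (homOfLE (le_top : W ≤ ⊤)).op (eps W F φ) = 0 := by
  rw [eps_apply]
  have := CohFree.evalGen_freeSheafMap_comp (Opens.grothendieckTopology X)
    (homOfLE (le_top : W ≤ ⊤)) F (cokernel.π _ ≫ φ)
  rw [cokernel.condition_assoc, zero_comp, map_zero] at this
  exact this.symm

theorem exists_eps_eq (W : Opens X) (F : CohTop.Ab X) (s : F.obj.obj (op (⊤ : Opens X)))
    (hs : F.obj.map (homOfLE (le_top : W ≤ ⊤)).op s = 0) :
    ∃ φ : zq (le_top : W ≤ ⊤) ⟶ F, eps W F φ = s := by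
  have hz : CohCx.freeSheafMap (Opens.grothendieckTopology X) (homOfLE (le_top : W ≤ ⊤)) ≫
      CohFree.ofSect (Opens.grothendieckTopology X) ⊤ F s = 0 := by
    apply (CohFree.homEquivSect (Opens.grothendieckTopology X) W F).injective
    rw [map_zero, CohFree.homEquivSect_apply, CohFree.evalGen_freeSheafMap_comp,
      CohFree.evalGen_ofSect]
    exact hs
  refine ⟨cokernel.desc _ (CohFree.ofSect (Opens.grothendieckTopology X) ⊤ F s) hz, ?_⟩
  rw [eps_apply, cokernel.π_desc, CohFree.evalGen_ofSect]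

theorem eps_zqMap {W W' : Opens X} (hW : W' ≤ W) (F : CohTop.Ab X)
    (φ : zq (le_top : W ≤ ⊤) ⟶ F) :
    eps W' F (zqMap (le_top : W ≤ ⊤) (le_top : W' ≤ ⊤) hW le_rfl ≫ φ) = eps W F φ := by
  rw [eps_apply, eps_apply]
  congr 1
  rw [← Category.assoc]
  congr 1
  rw [zqMap, cokernel.π_desc]
  have : homOfLE (le_rfl : (⊤ : Opens X) ≤ ⊤) = 𝟙 _ := Subsingleton.elim _ _
  rw [this, CohFree.freeSheafMap_id, Category.id_comp]

end eps


section ses

variable {X : TopCat.{u}} (U U' : Opens X)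

open LocCohZ Groth.Agent.Lib.Helper9.TopMV

/-- `ℤ/ℤ_{U∩U'} ⟶ ℤ/ℤ_U`. -/
noncomputable abbrev f₁ : zq (le_top : U ⊓ U' ≤ ⊤) ⟶ zq (le_top : U ≤ ⊤) :=
  zqMap (le_top : U ≤ ⊤) (le_top : U ⊓ U' ≤ ⊤) inf_le_left le_rfl

/-- `ℤ/ℤ_{U∩U'} ⟶ ℤ/ℤ_{U'}`. -/
noncomputable abbrev f₂ : zq (le_top : U ⊓ U' ≤ ⊤) ⟶ zq (le_top : U' ≤ ⊤) :=
  zqMap (le_top : U' ≤ ⊤) (le_top : U ⊓ U' ≤ ⊤) inf_le_right le_rfl

/-- `ℤ/ℤ_U ⟶ ℤ/ℤ_{U∪U'}`. -/
noncomputable abbrev g₁ : zq (le_top : U ≤ ⊤) ⟶ zq (le_top : U ⊔ U' ≤ ⊤) :=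
  zqMap (le_top : U ⊔ U' ≤ ⊤) (le_top : U ≤ ⊤) le_sup_left le_rfl

/-- `ℤ/ℤ_{U'} ⟶ ℤ/ℤ_{U∪U'}`. -/
noncomputable abbrev g₂ : zq (le_top : U' ≤ ⊤) ⟶ zq (le_top : U ⊔ U' ≤ ⊤) :=
  zqMap (le_top : U ⊔ U' ≤ ⊤) (le_top : U' ≤ ⊤) le_sup_right le_rfl

theorem f₁_g₁_eq : f₁ U U' ≫ g₁ U U' = f₂ U U' ≫ g₂ U U' := by
  apply eps_injective
  have h1 : eps (U ⊓ U') _ (f₁ U U' ≫ g₁ U U' ≫ 𝟙 _) = eps (U ⊔ U') _ (𝟙 _) := by
    rw [eps_zqMap, eps_zqMap]
  have h2 : eps (U ⊓ U') _ (f₂ U U' ≫ g₂ U U' ≫ 𝟙 _) = eps (U ⊔ U') _ (𝟙 _) := by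
    rw [eps_zqMap, eps_zqMap]
  rw [Category.comp_id] at h1 h2
  rw [h1, h2]

theorem mv_zero : biprod.lift (f₁ U U') (-f₂ U U') ≫ biprod.desc (g₁ U U') (g₂ U U') = 0 := by
  rw [biprod.lift_desc, Preadditive.neg_comp, f₁_g₁_eq]
  exact add_neg_cancel _

theorem res_res (F : CohTop.Ab X) {A B C : Opens X} (h₁ : A ≤ B) (h₂ : B ≤ C)
    (s : F.obj.obj (op C)) :
    F.obj.map (homOfLE h₁).op (F.obj.map (homOfLE h₂).op s) = F.obj.map (homOfLE (h₁.trans h₂)).op s := by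
  rw [← ConcreteCategory.comp_apply, ← F.obj.map_comp, ← op_comp]
  rfl

theorem mv_shortExact : (ShortComplex.mk _ _ (mv_zero U U')).ShortExact := by
  apply shortExact_of_hom_injective
  · -- surjectivity on `Hom(-, I)`
    intro I _ φ
    haveI : TopCat.Sheaf.IsFlasque I := Groth.Agent.Lib.Helper16.Flasque.injective_isFlasque I
    change zq (le_top : U ⊓ U' ≤ ⊤) ⟶ I at φ
    set s := eps (U ⊓ U') I φ with hs
    have hs0 : I.obj.map (homOfLE (le_top : U ⊓ U' ≤ ⊤)).op s = 0 := eps_restrict _ _ φ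
    obtain ⟨t, ht1, ht2⟩ := sec_glue I (le_sup_left : U ≤ U ⊔ U') (le_sup_right : U' ≤ U ⊔ U') le_rfl
      (inf_le_left : U ⊓ U' ≤ U) (inf_le_right : U ⊓ U' ≤ U') le_rfl
      (0 : I.obj.obj (op U)) (I.obj.map (homOfLE (le_top : U' ≤ ⊤)).op s) (by
        rw [map_zero, res_res, hs0])
    obtain ⟨s₁, hs₁⟩ := sec_surj I (le_top : U ⊔ U' ≤ ⊤) t
    have h1 : I.obj.map (homOfLE (le_top : U ≤ ⊤)).op s₁ = 0 := by
      rw [← res_res I (le_sup_left : U ≤ U ⊔ U') le_top, hs₁, ht1]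
    have h2 : I.obj.map (homOfLE (le_top : U' ≤ ⊤)).op (s₁ - s) = 0 := by
      rw [map_sub, ← res_res I (le_sup_right : U' ≤ U ⊔ U') le_top s₁, hs₁, ht2, sub_self]
    obtain ⟨ψ₁, hψ₁⟩ := exists_eps_eq U I s₁ h1
    obtain ⟨ψ₂, hψ₂⟩ := exists_eps_eq U' I (s₁ - s) h2
    refine ⟨biprod.desc ψ₁ ψ₂, ?_⟩
    change biprod.lift (f₁ U U') (-f₂ U U') ≫ biprod.desc ψ₁ ψ₂ = φ
    apply eps_injective
    rw [biprod.lift_desc, Preadditive.neg_comp, map_add, map_neg, eps_zqMap, eps_zqMap, hψ₁, hψ₂]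
    abel
  · intro I _ χ hχ
    change zq (le_top : U ⊔ U' ≤ ⊤) ⟶ I at χ
    have h : biprod.desc (g₁ U U') (g₂ U U') ≫ χ = 0 := hχ
    have h1 : g₁ U U' ≫ χ = 0 := by
      have := congrArg (fun m => biprod.inl ≫ m) h
      simpa using this
    apply eps_injective
    rw [map_zero, ← eps_zqMap (le_sup_left : U ≤ U ⊔ U'), h1, map_zero]
  · intro I _ ψ hψ
    change zq (le_top : U ≤ ⊤) ⊞ zq (le_top : U' ≤ ⊤) ⟶ I at ψ
    have hψ' : biprod.lift (f₁ U U') (-f₂ U U') ≫ ψ = 0 := hψ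
    set ψ₁ := biprod.inl ≫ ψ with hψ₁
    set ψ₂ := biprod.inr ≫ ψ with hψ₂
    have hdesc : ψ = biprod.desc ψ₁ ψ₂ := by
      apply biprod.hom_ext' <;> simp [hψ₁, hψ₂]
    rw [hdesc, biprod.lift_desc, Preadditive.neg_comp, ← sub_eq_add_neg, sub_eq_zero] at hψ'
    have he : eps U I ψ₁ = eps U' I ψ₂ := by
      rw [← eps_zqMap (inf_le_left : U ⊓ U' ≤ U), ← eps_zqMap (inf_le_right : U ⊓ U' ≤ U')]
      exact congrArg _ hψ'
    set s := eps U I ψ₁ with hs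
    have hsU : I.obj.map (homOfLE (le_top : U ≤ ⊤)).op s = 0 := eps_restrict _ _ ψ₁
    have hsU' : I.obj.map (homOfLE (le_top : U' ≤ ⊤)).op s = 0 := by
      rw [he]; exact eps_restrict _ _ ψ₂
    have hsUU' : I.obj.map (homOfLE (le_top : U ⊔ U' ≤ ⊤)).op s = 0 := by
      apply sec_inj I (le_sup_left : U ≤ U ⊔ U') (le_sup_right : U' ≤ U ⊔ U') le_rfl
      · rw [res_res]; exact hsU
      · rw [res_res]; exact hsU'
    obtain ⟨χ, hχ⟩ := exists_eps_eq (U ⊔ U') I s hsUU'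
    refine ⟨χ, ?_⟩
    change biprod.desc (g₁ U U') (g₂ U U') ≫ χ = ψ
    rw [hdesc]
    apply biprod.hom_ext'
    · rw [biprod.inl_desc_assoc, biprod.inl_desc]
      apply eps_injective
      rw [eps_zqMap, hχ]
    · rw [biprod.inr_desc_assoc, biprod.inr_desc]
      apply eps_injective
      rw [eps_zqMap, hχ, he]

end ses


section main

variable {X : TopCat.{u}}

open LocCohZ

theorem mayer_vietoris (F : CohTop.Ab X) (U U' : Opens X) :
    Function.Injective (fun x : LocCohZ.HZc F 0 (U ⊔ U') =>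
      (LocCohZ.resZ F 0 (le_top : U ⊔ U' ≤ ⊤) (le_top : U ≤ ⊤) le_sup_left le_rfl x,
       LocCohZ.resZ F 0 (le_top : U ⊔ U' ≤ ⊤) (le_top : U' ≤ ⊤) le_sup_right le_rfl x)) ∧
    ∃ δ : ∀ i : ℕ, LocCohZ.HZc F i (U ⊓ U') →+ LocCohZ.HZc F (i + 1) (U ⊔ U'),
      ∀ i : ℕ,
        (∀ y : LocCohZ.HZc F i U × LocCohZ.HZc F i U',
          LocCohZ.resZ F i (le_top : U ≤ ⊤) (le_top : U ⊓ U' ≤ ⊤) inf_le_left le_rfl y.1 -
              LocCohZ.resZ F i (le_top : U' ≤ ⊤) (le_top : U ⊓ U' ≤ ⊤) inf_le_right le_rfl y.2 = 0 ↔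
            ∃ x : LocCohZ.HZc F i (U ⊔ U'),
              LocCohZ.resZ F i (le_top : U ⊔ U' ≤ ⊤) (le_top : U ≤ ⊤) le_sup_left le_rfl x = y.1 ∧
              LocCohZ.resZ F i (le_top : U ⊔ U' ≤ ⊤) (le_top : U' ≤ ⊤) le_sup_right le_rfl x = y.2) ∧
        (∀ w : LocCohZ.HZc F i (U ⊓ U'),
          δ i w = 0 ↔ ∃ y : LocCohZ.HZc F i U × LocCohZ.HZc F i U',
            LocCohZ.resZ F i (le_top : U ≤ ⊤) (le_top : U ⊓ U' ≤ ⊤) inf_le_left le_rfl y.1 -
              LocCohZ.resZ F i (le_top : U' ≤ ⊤) (le_top : U ⊓ U' ≤ ⊤) inf_le_right le_rfl y.2 = w) ∧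
        (∀ x : LocCohZ.HZc F (i + 1) (U ⊔ U'),
          (LocCohZ.resZ F (i + 1) (le_top : U ⊔ U' ≤ ⊤) (le_top : U ≤ ⊤) le_sup_left le_rfl x = 0 ∧
            LocCohZ.resZ F (i + 1) (le_top : U ⊔ U' ≤ ⊤) (le_top : U' ≤ ⊤) le_sup_right le_rfl x = 0) ↔
            ∃ w : LocCohZ.HZc F i (U ⊓ U'), δ i w = x) := by
  obtain ⟨δ, h0, h1, h2, h3⟩ := Groth.Agent.Lib.Helper9.MVAbstract.mv_abstract
    (F := F) (f₁ U U') (f₂ U U') (g₁ U U') (g₂ U U') (mv_zero U U') (mv_shortExact U U')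
    (G₁ := fun n => LocCohZ.HZc F n U) (G₂ := fun n => LocCohZ.HZc F n U')
    (G₁₂ := fun n => LocCohZ.HZc F n (U ⊓ U'))
    (fun n => AddEquiv.refl _) (fun n => AddEquiv.refl _) (fun n => AddEquiv.refl _)
    (fun n => LocCohZ.resZ F n (le_top : U ⊔ U' ≤ ⊤) (le_top : U ≤ ⊤) le_sup_left le_rfl)
    (fun n => LocCohZ.resZ F n (le_top : U ⊔ U' ≤ ⊤) (le_top : U' ≤ ⊤) le_sup_right le_rfl)
    (fun n => LocCohZ.resZ F n (le_top : U ≤ ⊤) (le_top : U ⊓ U' ≤ ⊤) inf_le_left le_rfl)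
    (fun n => LocCohZ.resZ F n (le_top : U' ≤ ⊤) (le_top : U ⊓ U' ≤ ⊤) inf_le_right le_rfl)
    (fun n x => rfl) (fun n x => rfl) (fun n x => rfl) (fun n x => rfl)
  refine ⟨?_, δ, fun i => ⟨?_, ?_, ?_⟩⟩
  · have := (AddMonoidHom.ker_eq_bot_iff _).1 h0
    exact this
  · intro y
    have := SetLike.ext_iff.1 (h2 i) y
    rw [AddMonoidHom.mem_ker, AddMonoidHom.mem_range] at this
    refine this.trans ⟨?_, ?_⟩
    · rintro ⟨x, hx⟩
      exact ⟨x, congrArg Prod.fst hx, congrArg Prod.snd hx⟩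
    · rintro ⟨x, hx1, hx2⟩
      exact ⟨x, Prod.ext hx1 hx2⟩
  · intro w
    have := SetLike.ext_iff.1 (h3 i) w
    rw [AddMonoidHom.mem_ker, AddMonoidHom.mem_range] at this
    exact this
  · intro x
    have := SetLike.ext_iff.1 (h1 i) x
    rw [AddMonoidHom.mem_ker, AddMonoidHom.mem_range, AddMonoidHom.prod_apply, Prod.mk_eq_zero] at this
    exact this

end main

end Groth.Agent.R2.H76.MVZ
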