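import Mathlib

/-
helper76 library: the kernel of `A[a_0..a_N] → A[y_1..y_s]`, `a_j ↦ Σ_i (m_i)_j y_i` is generated by
the maximal minors of the bordered matrix `[m ; a]` (used for S16254).

* `exists_leftInverse` : injective linear map with projective cokernel has a left inverse.
* `exists_rightInverse` : the matrix `m` of a linearly independent family with projective cokernel
  has a right inverse `r`, `m * r = 1`.
* `det_mul_expand` : Cauchy–Binet-style expansion `det (M * R) = Σ_c (Π_i R (c i) i) det M_c`
  over all column choices `c`.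
* `key` : `det(m_c) · ℓ_t = Σ_j t_j · minor (snoc c j)` for a linear form `ℓ_t = Σ t_j a_j` with `m t = 0`.
* `linear_mem` : such linear forms lie in the ideal of maximal minors.
* `ker_eq_span_minors` : the statement S16254.
-/

set_option autoImplicit false
universe u
open scoped BigOperators
open MvPolynomial

namespace Groth.Agent.R2.H76.Minors

variable {A : Type u} [CommRing A] {N s : ℕ}

/-- an injective linear map with projective cokernel has a left inverse. -/
theorem exists_leftInverse {M N' : Type*} [AddCommGroup M] [AddCommGroup N'] [Module A M]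
    [Module A N'] (f : M →ₗ[A] N') (hinj : Function.Injective f) (S : Submodule A N')
    (hS : LinearMap.range f = S) [Module.Projective A (N' ⧸ S)] :
    ∃ g : N' →ₗ[A] M, g ∘ₗ f = LinearMap.id := by
  subst hS
  obtain ⟨σ, hσ⟩ := LinearMap.exists_rightInverse_of_surjective
    (Submodule.mkQ (LinearMap.range f)) (Submodule.range_mkQ _)
  have hσ' : ∀ q, Submodule.mkQ (LinearMap.range f) (σ q) = q := fun q => LinearMap.congr_fun hσ q
  let h : N' →ₗ[A] N' := LinearMap.id - σ ∘ₗ Submodule.mkQ (LinearMap.range f)
  have hh : ∀ x, h x = x - σ (Submodule.mkQ (LinearMap.range f) x) := fun x => rfl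
  have hmem : ∀ x, h x ∈ LinearMap.range f := by
    intro x
    have h0 : x - σ (Submodule.mkQ (LinearMap.range f) x) ∈
        LinearMap.ker (Submodule.mkQ (LinearMap.range f)) := by
      rw [LinearMap.mem_ker, map_sub, hσ', sub_self]
    rw [hh]
    rwa [Submodule.ker_mkQ] at h0
  refine ⟨(LinearEquiv.ofInjective f hinj).symm.toLinearMap ∘ₗ
      LinearMap.codRestrict (LinearMap.range f) h hmem, ?_⟩
  ext y
  apply hinj
  have h3 : Submodule.mkQ (LinearMap.range f) (f y) = 0 := by
    rw [← LinearMap.mem_ker, Submodule.ker_mkQ]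
    exact LinearMap.mem_range_self f y
  have := (LinearEquiv.ofInjective f hinj).apply_symm_apply
    (LinearMap.codRestrict (LinearMap.range f) h hmem (f y))
  have h2 := congrArg Subtype.val this
  simp only [LinearEquiv.ofInjective_apply, LinearMap.codRestrict_apply] at h2
  simp only [LinearMap.coe_comp, LinearEquiv.coe_coe, Function.comp_apply, LinearMap.id_coe, id_eq]
  rw [h2, hh, h3, map_zero, sub_zero]

/-- a linearly independent family with projective cokernel has a right-inverse matrix. -/
theorem exists_rightInverse (m : Fin s → (Fin (N + 1) → A)) (hli : LinearIndependent A m)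
    (hproj : Module.Projective A ((Fin (N + 1) → A) ⧸ Submodule.span A (Set.range m))) :
    ∃ r : Matrix (Fin (N + 1)) (Fin s) A, (Matrix.of m) * r = 1 := by
  classical
  set f : (Fin s → A) →ₗ[A] (Fin (N + 1) → A) := Fintype.linearCombination A m with hf
  have hinj : Function.Injective f := hli.fintypeLinearCombination_injective
  have hrange : LinearMap.range f = Submodule.span A (Set.range m) :=
    Fintype.range_linearCombination A m
  obtain ⟨g, hgf⟩ := exists_leftInverse f hinj _ hrange
  have hfm : LinearMap.toMatrix' f = (Matrix.of m).transpose := by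
    ext i j
    rw [LinearMap.toMatrix'_apply]
    simp only [hf, Fintype.linearCombination_apply, Pi.single_apply, ite_smul, one_smul, zero_smul,
      Matrix.transpose_apply, Matrix.of_apply]
    rw [Finset.sum_apply, Finset.sum_eq_single j]
    · simp
    · intro b _ hb; simp [hb]
    · intro h; exact absurd (Finset.mem_univ _) h
  refine ⟨(LinearMap.toMatrix' g).transpose, ?_⟩
  have := congrArg LinearMap.toMatrix' hgf
  rw [LinearMap.toMatrix'_comp, LinearMap.toMatrix'_id, hfm] at this
  have h4 := congrArg Matrix.transpose this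
  rw [Matrix.transpose_mul, Matrix.transpose_transpose, Matrix.transpose_one] at h4
  exact h4

/-- Cauchy–Binet style expansion (non-square, arbitrary column choices). -/
theorem det_mul_expand {n k : ℕ} (M : Matrix (Fin n) (Fin k) A) (R : Matrix (Fin k) (Fin n) A) :
    (M * R).det = ∑ c : Fin n → Fin k, (∏ i, R (c i) i) * (M.submatrix id c).det := by
  classical
  have h1 : (M * R).det = ∑ p : Fin n → Fin k, ∑ σ : Equiv.Perm (Fin n),
      (Equiv.Perm.sign σ : A) * ∏ i, M (σ i) (p i) * R (p i) i := by
    simp only [Matrix.det_apply', Matrix.mul_apply, Finset.prod_univ_sum, Finset.mul_sum,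
      Fintype.piFinset_univ]
    rw [Finset.sum_comm]
  rw [h1]
  refine Finset.sum_congr rfl fun c _ => ?_
  rw [Matrix.det_apply', Finset.mul_sum]
  refine Finset.sum_congr rfl fun σ _ => ?_
  simp only [Matrix.submatrix_apply, id_eq, Finset.prod_mul_distrib]
  ring

/-- the columns of the bordered matrix. -/
noncomputable def colfun (m : Fin s → (Fin (N + 1) → A)) (j : Fin (N + 1)) :
    Fin (s + 1) → MvPolynomial (Fin (N + 1)) A :=
  fun i => Fin.snoc (α := fun _ => MvPolynomial (Fin (N + 1)) A)
    (fun i' : Fin s => C (m i' j)) (X j) i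

/-- the maximal minors of the bordered matrix. -/
noncomputable def minor (m : Fin s → (Fin (N + 1) → A)) (c : Fin (s + 1) → Fin (N + 1)) :
    MvPolynomial (Fin (N + 1)) A :=
  (Matrix.of fun (i : Fin (s + 1)) (j : Fin (s + 1)) =>
    (Fin.snoc (α := fun _ => MvPolynomial (Fin (N + 1)) A)
      (fun i' : Fin s => MvPolynomial.C (m i' (c j))) (MvPolynomial.X (c j)) i)).det

theorem minor_eq (m : Fin s → (Fin (N + 1) → A)) (c : Fin (s + 1) → Fin (N + 1)) :
    minor m c = (Matrix.of fun k : Fin (s + 1) => colfun m (c k)).det := by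
  unfold minor
  rw [← Matrix.det_transpose]
  rfl

theorem sum_smul_colfun (m : Fin s → (Fin (N + 1) → A)) (t : Fin (N + 1) → A)
    (ht : ∀ i, ∑ j, m i j * t j = 0) :
    ∑ j, (C (t j) : MvPolynomial (Fin (N + 1)) A) • colfun m j =
      Pi.single (Fin.last s) (∑ j, C (t j) * X j) := by
  classical
  ext i
  refine Fin.lastCases ?_ (fun i' => ?_) i
  · simp [colfun]
  · simp only [Finset.sum_apply, Pi.smul_apply, colfun, Fin.snoc_castSucc, smul_eq_mul]
    rw [Pi.single_eq_of_ne (Fin.castSucc_lt_last i').ne]
    simp only [← C_mul, ← map_sum]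
    rw [show ∑ j, t j * m i' j = 0 by simpa [mul_comm] using ht i']
    simp

/-- key identity: `μ_c · ℓ_t` is a combination of the maximal minors when `m t = 0`. -/
theorem key (m : Fin s → (Fin (N + 1) → A)) (c : Fin s → Fin (N + 1)) (t : Fin (N + 1) → A)
    (ht : ∀ i, ∑ j, m i j * t j = 0) :
    C ((Matrix.of m).submatrix id c).det * ∑ j, C (t j) * X j =
      ∑ j, C (t j) * minor m (Fin.snoc c j) := by
  classical
  set V : Fin s → (Fin (s + 1) → MvPolynomial (Fin (N + 1)) A) := fun k' => colfun m (c k') with hV
  set L := (Matrix.detRowAlternating (R := MvPolynomial (Fin (N + 1)) A)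
    (n := Fin (s + 1))).toMultilinearMap.toLinearMap
      (Fin.snoc (α := fun _ => Fin (s + 1) → MvPolynomial (Fin (N + 1)) A) V 0) (Fin.last s) with hL
  have hLv : ∀ v, L v = (Matrix.of (Fin.snoc (α := fun _ => Fin (s + 1) →
      MvPolynomial (Fin (N + 1)) A) V v)).det := by
    intro v
    simp only [hL, MultilinearMap.toLinearMap_apply, AlternatingMap.coe_multilinearMap,
      Fin.update_snoc_last]
    rfl
  have h1 : ∀ j, minor m (Fin.snoc c j) = L (colfun m j) := by
    intro j
    rw [minor_eq, hLv]
    congr 2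
    ext k : 1
    refine Fin.lastCases ?_ (fun k' => ?_) k
    · simp
    · simp [hV]
  simp only [h1]
  have h2 : ∑ j, C (t j) * L (colfun m j) =
      L (∑ j, (C (t j) : MvPolynomial (Fin (N + 1)) A) • colfun m j) := by
    simp [map_sum]
  rw [h2, sum_smul_colfun m t ht, hLv, Matrix.det_succ_row _ (Fin.last s)]
  rw [Finset.sum_eq_single (Fin.last s)]
  · simp only [Matrix.of_apply, Fin.snoc_last, Pi.single_eq_same, Fin.succAbove_last]
    have h3 : (Matrix.of (Fin.snoc (α := fun _ => Fin (s + 1) → MvPolynomial (Fin (N + 1)) A) V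
        (Pi.single (Fin.last s) (∑ j, C (t j) * X j)))).submatrix Fin.castSucc Fin.castSucc =
        (((Matrix.of m).submatrix id c).transpose).map (C : A →+* _) := by
      ext i k
      simp [hV, colfun]
    rw [h3, ← RingHom.mapMatrix_apply, ← RingHom.map_det, Matrix.det_transpose]
    have : ((-1 : MvPolynomial (Fin (N + 1)) A)) ^ ((Fin.last s : ℕ) + (Fin.last s : ℕ)) = 1 := by
      rw [← two_mul, pow_mul]; simp
    rw [this]
    ring
  · intro b _ hb
    simp [Pi.single_eq_of_ne hb]
  · intro h; exact absurd (Finset.mem_univ _) h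

/-- linear forms vanishing on the span of `m` lie in the ideal of maximal minors. -/
theorem linear_mem (m : Fin s → (Fin (N + 1) → A)) (r : Matrix (Fin (N + 1)) (Fin s) A)
    (hr : (Matrix.of m) * r = 1) (t : Fin (N + 1) → A)
    (ht : ∀ i, ∑ j, m i j * t j = 0) :
    (∑ j, C (t j) * X j : MvPolynomial (Fin (N + 1)) A) ∈
      Ideal.span (Set.range (minor m)) := by
  have h1 := det_mul_expand (Matrix.of m) r
  rw [hr, Matrix.det_one] at h1
  have h2 : (∑ j, C (t j) * X j : MvPolynomial (Fin (N + 1)) A) =
      ∑ c : Fin s → Fin (N + 1), C (∏ i, r (c i) i) *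
        (C ((Matrix.of m).submatrix id c).det * ∑ j, C (t j) * X j) := by
    simp only [← mul_assoc, ← Finset.sum_mul, ← C_mul, ← map_sum]
    rw [← h1]; simp
  rw [h2]
  refine Ideal.sum_mem _ fun c _ => Ideal.mul_mem_left _ _ ?_
  rw [key m c t ht]
  exact Ideal.sum_mem _ fun j _ => Ideal.mul_mem_left _ _ (Ideal.subset_span ⟨_, rfl⟩)

/-- the kernel of `a_j ↦ Σ_i (m_i)_j y_i` is the ideal of maximal minors of the bordered matrix
(statement S16254). -/
theorem ker_eq_span_minors
    (A : Type u) [CommRing A] (N s : ℕ) (m : Fin s → (Fin (N + 1) → A))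
    (hli : LinearIndependent A m)
    (hproj : Module.Projective A ((Fin (N + 1) → A) ⧸ Submodule.span A (Set.range m))) :
    RingHom.ker (MvPolynomial.aeval (R := A) (S₁ := MvPolynomial (Fin s) A)
        (fun j : Fin (N + 1) => ∑ i : Fin s, MvPolynomial.C (m i j) * MvPolynomial.X i)) =
      Ideal.span (Set.range fun c : Fin (s + 1) → Fin (N + 1) =>
        (Matrix.of fun (i : Fin (s + 1)) (j : Fin (s + 1)) =>
          (Fin.snoc (α := fun _ => MvPolynomial (Fin (N + 1)) A)
            (fun i' : Fin s => MvPolynomial.C (m i' (c j))) (MvPolynomial.X (c j)) i)).det) := by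
  classical
  obtain ⟨r, hr⟩ := exists_rightInverse m hli hproj
  change _ = Ideal.span (Set.range (minor m))
  set φ := MvPolynomial.aeval (R := A) (S₁ := MvPolynomial (Fin s) A)
        (fun j : Fin (N + 1) => ∑ i : Fin s, MvPolynomial.C (m i j) * MvPolynomial.X i) with hφ
  set ψ := MvPolynomial.aeval (R := A) (S₁ := MvPolynomial (Fin (N + 1)) A)
        (fun i : Fin s => ∑ j : Fin (N + 1), MvPolynomial.C (r j i) * MvPolynomial.X j) with hψ
  set I := Ideal.span (Set.range (minor m)) with hI
  apply le_antisymm
  · -- kernel ⊆ I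
    have h1 : ∀ j, (X j : MvPolynomial (Fin (N + 1)) A) - ψ (φ (X j)) ∈ I := by
      intro j
      set t : Fin (N + 1) → A := fun k => ((1 : Matrix (Fin (N + 1)) (Fin (N + 1)) A) - r * Matrix.of m) k j with ht
      have hmt : ∀ i, ∑ k, m i k * t k = 0 := by
        intro i
        have h0 : (Matrix.of m) * ((1 : Matrix (Fin (N + 1)) (Fin (N + 1)) A) - r * Matrix.of m) = 0 := by
          rw [Matrix.mul_sub, Matrix.mul_one, ← Matrix.mul_assoc, hr, Matrix.one_mul, sub_self]
        have := congrFun (congrFun h0 i) j
        simpa [Matrix.mul_apply, ht] using this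
      have h2 := linear_mem m r hr t hmt
      convert h2 using 1
      simp only [hφ, hψ, aeval_X, map_sum, map_mul, aeval_C, algebraMap_eq, ht, Matrix.sub_apply,
        Matrix.one_apply, Matrix.mul_apply, Matrix.of_apply, C_sub, map_sum, sub_mul,
        Finset.sum_sub_distrib, Finset.mul_sum, Finset.sum_mul]
      congr 1
      · simp
      · rw [Finset.sum_comm]
        refine Finset.sum_congr rfl fun k _ => Finset.sum_congr rfl fun i _ => ?_
        ring
    have h3 : (Ideal.Quotient.mkₐ A I).comp (ψ.comp φ) = Ideal.Quotient.mkₐ A I := by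
      apply MvPolynomial.algHom_ext
      intro j
      simp only [AlgHom.comp_apply, Ideal.Quotient.mkₐ_eq_mk]
      exact (Ideal.Quotient.eq.2 (h1 j)).symm
    intro p hp
    rw [RingHom.mem_ker] at hp
    have h4 := AlgHom.congr_fun h3 p
    simp only [AlgHom.comp_apply, Ideal.Quotient.mkₐ_eq_mk] at h4
    have hp' : φ p = 0 := hp
    rw [hp', map_zero, map_zero] at h4
    exact Ideal.Quotient.eq_zero_iff_mem.1 h4.symm
  · -- I ⊆ kernel
    rw [hI, Ideal.span_le]
    rintro _ ⟨c, rfl⟩
    change φ (minor m c) = 0
    unfold minor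
    rw [AlgHom.map_det]
    set M' := φ.mapMatrix (Matrix.of fun (i : Fin (s + 1)) (j : Fin (s + 1)) =>
          (Fin.snoc (α := fun _ => MvPolynomial (Fin (N + 1)) A)
            (fun i' : Fin s => MvPolynomial.C (m i' (c j))) (MvPolynomial.X (c j)) i)) with hM'
    set u : Fin (s + 1) → MvPolynomial (Fin s) A :=
      Fin.snoc (α := fun _ => MvPolynomial (Fin s) A) (fun i' => X i') (-1) with hu
    have h1 : Matrix.vecMul u M' = 0 := by
      funext k
      simp only [Matrix.vecMul, dotProduct, Fin.sum_univ_castSucc, hu, Fin.snoc_castSucc,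
        Fin.snoc_last, hM', AlgHom.mapMatrix_apply, Matrix.map_apply, Matrix.of_apply, hφ,
        aeval_C, aeval_X, algebraMap_eq, Pi.zero_apply]
      rw [neg_one_mul, ← sub_eq_add_neg, sub_eq_zero]
      exact Finset.sum_congr rfl fun i _ => mul_comm _ _
    have h2 : Matrix.vecMul u (M' * M'.adjugate) = 0 := by
      rw [← Matrix.vecMul_vecMul, h1, Matrix.zero_vecMul]
    rw [Matrix.mul_adjugate, Matrix.vecMul_smul, Matrix.vecMul_one] at h2
    have h3 := congrFun h2 (Fin.last s)
    simpa [hu] using h3

end Groth.Agent.R2.H76.Minors
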