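import Groth.Agent.R2.H56ObsSpec
import Groth.Agent.Lib.Helper19TangentDer
import Mathlib.LinearAlgebra.Dual.Lemmas
import Mathlib.RingTheory.Ideal.Cotangent

/-!
# PROJ:t2-obs, PKG-B (helper76)

For a hull `(R̄, ξ)` of `F` and a bijection `c : F(k[ε]) → V` onto a finite-dimensional `k`-space compatible with
`scale` and `plus`: `dim_κ 𝔪/𝔪² = dim_k V`.

Route: `D ↦ c (ξ (derHomSet D))` is a `k`-linear bijection `Der_k(R̄, k) ≃ V`; `Der_k(R̄, k) ≃ Hom_k(𝔪/𝔪², k)`
(`derToDualCot`); and `k → κ(R̄)` is bijective, so the `κ`-dimension of `𝔪/𝔪²` is its `k`-dimension.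
-/

set_option autoImplicit false

universe u v

open CategoryTheory ArtFun ArtFun.Art

namespace Groth.Agent.R2.H76.ObsB

open Groth.Agent.Lib.Helper19 IsLocalRing

section Alg

variable {k : Type u} [Field k] {R : Type u} [CommRing R] [Algebra k R] [IsLocalRing R]
  [Algebra R k] [IsScalarTower k R k]

omit [IsLocalRing R] in
lemma algebraMap_algebraMap (c : k) : algebraMap R k (algebraMap k R c) = c := by
  rw [← IsScalarTower.algebraMap_apply k R k]; rfl

omit [Algebra k R] [IsScalarTower k R k] in
lemma mem_maximalIdeal_iff (hres : Function.Surjective (algebraMap R k)) (y : R) :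
    y ∈ maximalIdeal R ↔ algebraMap R k y = 0 :=
  algebraMap_eq_zero_iff_mem hres y

lemma sub_mem_maximalIdeal (hres : Function.Surjective (algebraMap R k)) (r : R) :
    r - algebraMap k R (algebraMap R k r) ∈ maximalIdeal R := by
  rw [mem_maximalIdeal_iff hres, map_sub, algebraMap_algebraMap, sub_self]

/-- The projection `R → 𝔪`, `r ↦ r - r̄`. -/
def projMax (hres : Function.Surjective (algebraMap R k)) : R →ₗ[k] maximalIdeal R where
  toFun r := ⟨r - algebraMap k R (algebraMap R k r), sub_mem_maximalIdeal hres r⟩
  map_add' a b := by
    apply Subtype.ext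
    simp only [map_add, Submodule.coe_add]
    ring
  map_smul' c a := by
    apply Subtype.ext
    have h : algebraMap R k (c • a) = c * algebraMap R k a := by
      rw [Algebra.smul_def, map_mul, algebraMap_algebraMap]
    show c • a - algebraMap k R (algebraMap R k (c • a)) =
      c • (a - algebraMap k R (algebraMap R k a))
    rw [h, map_mul, smul_sub, Algebra.smul_def c (algebraMap k R _)]

lemma projMax_coe (hres : Function.Surjective (algebraMap R k)) (r : R) :
    ((projMax hres r : maximalIdeal R) : R) = r - algebraMap k R (algebraMap R k r) := rfl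

lemma projMax_of_mem (hres : Function.Surjective (algebraMap R k)) (x : maximalIdeal R) :
    projMax hres (x : R) = x := by
  apply Subtype.ext
  rw [projMax_coe, (mem_maximalIdeal_iff hres _).1 x.2, map_zero, sub_zero]

omit [IsScalarTower k R k] in
/-- A derivation `R → k` over `k` vanishes on products of elements of `𝔪`. -/
lemma der_mul_eq_zero (hres : Function.Surjective (algebraMap R k)) (D : Derivation k R k)
    (x y : maximalIdeal R) : D ((x : R) * (y : R)) = 0 := by
  rw [D.leibniz, Algebra.smul_def, Algebra.smul_def, (mem_maximalIdeal_iff hres _).1 x.2,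
    (mem_maximalIdeal_iff hres _).1 y.2, zero_mul, zero_mul, add_zero]

/-- Restriction of a derivation to the cotangent space. -/
noncomputable def derToDualCot (hres : Function.Surjective (algebraMap R k)) :
    Derivation k R k →ₗ[k] Module.Dual k (CotangentSpace R) where
  toFun D := Ideal.Cotangent.lift
    ((D : R →ₗ[k] k).comp ((maximalIdeal R).subtype.restrictScalars k))
    (fun x y => der_mul_eq_zero hres D x y)
  map_add' D₁ D₂ := by
    apply LinearMap.ext
    intro x
    obtain ⟨x, rfl⟩ := Ideal.toCotangent_surjective _ x
    rfl
  map_smul' c D := by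
    apply LinearMap.ext
    intro x
    obtain ⟨x, rfl⟩ := Ideal.toCotangent_surjective _ x
    rfl

lemma derToDualCot_apply (hres : Function.Surjective (algebraMap R k)) (D : Derivation k R k)
    (x : maximalIdeal R) : derToDualCot hres D ((maximalIdeal R).toCotangent x) = D (x : R) := rfl

lemma der_eq_projMax (hres : Function.Surjective (algebraMap R k)) (D : Derivation k R k) (r : R) :
    D r = D (projMax hres r : R) := by
  rw [projMax_coe, map_sub, D.map_algebraMap, sub_zero]

lemma derToDualCot_injective (hres : Function.Surjective (algebraMap R k)) :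
    Function.Injective (derToDualCot (k := k) (R := R) hres) := by
  rw [← LinearMap.ker_eq_bot, LinearMap.ker_eq_bot']
  intro D hD
  ext r
  rw [der_eq_projMax hres D r, ← derToDualCot_apply hres, hD]
  rfl

lemma projMax_mul (hres : Function.Surjective (algebraMap R k)) (a b : R) :
    projMax hres (a * b) = algebraMap R k a • projMax hres b + algebraMap R k b • projMax hres a +
      projMax hres a * projMax hres b := by
  apply Subtype.ext
  show a * b - algebraMap k R (algebraMap R k (a * b)) =
    algebraMap R k a • (b - algebraMap k R (algebraMap R k b)) +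
      algebraMap R k b • (a - algebraMap k R (algebraMap R k a)) +
      (a - algebraMap k R (algebraMap R k a)) * (b - algebraMap k R (algebraMap R k b))
  rw [Algebra.smul_def, Algebra.smul_def, map_mul, map_mul]
  ring

lemma derToDualCot_surjective (hres : Function.Surjective (algebraMap R k)) :
    Function.Surjective (derToDualCot (k := k) (R := R) hres) := by
  intro ℓ
  let dl : R →ₗ[k] k := ℓ.comp
    (((maximalIdeal R).toCotangent.restrictScalars k).comp (projMax hres))
  have hdl : ∀ r, dl r = ℓ ((maximalIdeal R).toCotangent (projMax hres r)) := fun _ => rfl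
  have hleib : ∀ a b : R, dl (a * b) = a • dl b + b • dl a := by
    intro a b
    rw [hdl, hdl, hdl, projMax_mul, map_add, map_add, map_add, map_add]
    have h0 : (maximalIdeal R).toCotangent (projMax hres a * projMax hres b) = 0 := by
      rw [Ideal.toCotangent_eq_zero, pow_two]
      exact Ideal.mul_mem_mul (projMax hres a).2 (projMax hres b).2
    rw [h0, map_zero, add_zero]
    have h1 : ∀ (c : k) (x : maximalIdeal R),
        (maximalIdeal R).toCotangent (c • x) = c • (maximalIdeal R).toCotangent x := fun c x =>
      ((maximalIdeal R).toCotangent.restrictScalars k).map_smul c x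
    rw [h1, h1, map_smul, map_smul, Algebra.smul_def a, Algebra.smul_def b]
    rfl
  refine ⟨Derivation.mk' dl hleib, ?_⟩
  apply LinearMap.ext
  intro x
  obtain ⟨x, rfl⟩ := Ideal.toCotangent_surjective _ x
  rw [derToDualCot_apply]
  show dl (x : R) = _
  rw [hdl, projMax_of_mem]

/-- `finrank_k Der_k(R, k) = finrank_k 𝔪/𝔪²`. -/
lemma finrank_derivation_eq_cotangent (hres : Function.Surjective (algebraMap R k)) :
    Module.finrank k (Derivation k R k) = Module.finrank k (CotangentSpace R) := by
  rw [← Subspace.dual_finrank_eq (K := k) (V := CotangentSpace R)]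
  exact LinearEquiv.finrank_eq (LinearEquiv.ofBijective (derToDualCot hres)
    ⟨derToDualCot_injective hres, derToDualCot_surjective hres⟩)

lemma algebraMap_residueField_bijective (hres : Function.Surjective (algebraMap R k)) :
    Function.Bijective (algebraMap k (ResidueField R)) := by
  refine ⟨(algebraMap k (ResidueField R)).injective, ?_⟩
  intro x
  obtain ⟨r, rfl⟩ := residue_surjective x
  refine ⟨algebraMap R k r, ?_⟩
  rw [IsScalarTower.algebraMap_apply k R (ResidueField R)]
  symm
  rw [← sub_eq_zero]
  show residue R r - residue R _ = 0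
  rw [← map_sub, residue_eq_zero_iff]
  exact sub_mem_maximalIdeal hres r

/-- The `κ`-dimension of `𝔪/𝔪²` is its `k`-dimension. -/
lemma finrank_residueField_cotangent (hres : Function.Surjective (algebraMap R k)) :
    Module.finrank (ResidueField R) (CotangentSpace R) = Module.finrank k (CotangentSpace R) := by
  have h := lift_rank_eq_of_equiv_equiv (R := k) (R' := ResidueField R) (M := CotangentSpace R)
    (M' := CotangentSpace R) (algebraMap k (ResidueField R)) (AddEquiv.refl _)
    (algebraMap_residueField_bijective hres) (fun c m => by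
      show c • m = algebraMap k (ResidueField R) c • m
      rw [IsScalarTower.algebraMap_apply k R (ResidueField R), algebraMap_smul, algebraMap_smul])
  simp only [Cardinal.lift_id] at h
  unfold Module.finrank
  rw [h]

end Alg

section Main

variable {k : Type u} [Field k] {F : Art k k ⥤ Type v}

theorem pkgB : Groth.Agent.R2.H56.ObsSpec.PkgB.{u, v} := by
  intro k _ F H V _ _ _ c hc hs hp
  let _ : Algebra H.ring.carrier k := (H.ring.res : H.ring.carrier →+* k).toAlgebra
  have : IsScalarTower k H.ring.carrier k :=
    IsScalarTower.of_algebraMap_eq (fun r => (H.ring.res.commutes r).symm)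
  have hres : ∀ r, algebraMap H.ring.carrier k r = H.ring.res r := fun _ => rfl
  have hsurj : Function.Surjective (algebraMap H.ring.carrier k) := H.ring.res_surjective
  let ξ := H.family
  let L : Derivation k H.ring.carrier k →ₗ[k] V :=
    { toFun := fun D => c (ξ.app (dual k k) (derHomSet H.ring.res hres D))
      map_add' := by
        intro D₁ D₂
        rw [← derHomSet2_plus H.ring.res hres D₁ D₂, ξ.natural, hp, ← ξ.natural, ← ξ.natural,
          derHomSet2_pr₁, derHomSet2_pr₂]
      map_smul' := by
        intro a D
        rw [RingHom.id_apply, ← derHomSet_scale H.ring.res hres a D, ξ.natural, hs] }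
  have hLinj : Function.Injective L := by
    intro D₁ D₂ h
    have h1 : derHomSet H.ring.res hres D₁ = derHomSet H.ring.res hres D₂ :=
      H.miniversal.2.1 (hc.1 h)
    ext r
    have h2 := congrArg (fun φ : HomSet H.ring.carrier H.ring.res (dual k k) => dsnd (φ.1 r)) h1
    exact h2
  have hLsurj : Function.Surjective L := by
    intro w
    obtain ⟨x, rfl⟩ := hc.2 w
    obtain ⟨φ, rfl⟩ := H.miniversal.2.2 x
    obtain ⟨D, rfl⟩ := derHomSet_surjective H.ring.res hres φ
    exact ⟨D, rfl⟩
  rw [finrank_residueField_cotangent hsurj, ← finrank_derivation_eq_cotangent hsurj]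
  exact LinearEquiv.finrank_eq (LinearEquiv.ofBijective L ⟨hLinj, hLsurj⟩)

end Main

end Groth.Agent.R2.H76.ObsB
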