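import Mathlib

/-!
# Determinant trick for invertible modules (helper76)

If `N` is an invertible `R`-module with `N^n ≃ R^n`, then `[N]^n = 1` in `Pic R`.
-/

set_option autoImplicit false
universe u v w

open TensorProduct Module PiTensorProduct

namespace Groth.Agent.R2.H76.PicDet

variable {R : Type u} [CommRing R] {N : Type v} [AddCommGroup N] [Module R N]

section rankOne

variable [Module.Invertible R N]

/-- the rank one identity `f x • y = f y • x` on an invertible module -/
theorem dual_apply_smul_comm (f : Module.Dual R N) (x y : N) : f x • y = f y • x := by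
  have h := congrArg (TensorProduct.lift (LinearMap.lsmul R N ∘ₗ f))
    (Module.Invertible.tmul_comm (R := R) (m₁ := x) (m₂ := y))
  simpa using h

/-- A function of two variables on an invertible module which is homogeneous in each variable and
vanishes on the diagonal vanishes identically. -/
theorem eq_zero_of_homogeneous_of_diag {P : Type w} [AddCommGroup P] [Module R P]
    (B : N → N → P) (h1 : ∀ (c : R) (a b : N), B (c • a) b = c • B a b)
    (h2 : ∀ (c : R) (a b : N), B a (c • b) = c • B a b) (h3 : ∀ x, B x x = 0) (a b : N) :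
    B a b = 0 := by
  let J : Ideal R := LinearMap.ker (LinearMap.toSpanSingleton R P (B a b))
  have hJ : ∀ r : R, r ∈ J ↔ r • B a b = 0 := fun r => by
    simp [J, LinearMap.mem_ker]
  have key : ∀ t : Module.Dual R N ⊗[R] N, contractLeft R N t ∈ J.radical := by
    intro t
    induction t using TensorProduct.induction_on with
    | zero => simp
    | tmul f x =>
      refine ⟨2, ?_⟩
      rw [hJ, contractLeft_apply, pow_two, mul_smul, ← h1, ← h2, dual_apply_smul_comm f x a,
        dual_apply_smul_comm f x b, h1, h2, h3, smul_zero, smul_zero]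
    | add t s ht hs =>
      rw [map_add]
      exact Ideal.add_mem _ ht hs
  obtain ⟨t, ht⟩ := (Module.Invertible.bijective (R := R) (M := N)).2 1
  have h1J : (1 : R) ∈ J.radical := ht ▸ key t
  have : J.radical = ⊤ := (Ideal.eq_top_iff_one _).2 h1J
  rw [Ideal.radical_eq_top] at this
  have h1 : (1 : R) ∈ J := this ▸ Submodule.mem_top
  rw [hJ, one_smul] at h1
  exact h1

end rankOne

section main

theorem alt_zero [Module.Invertible R N] {ι : Type*} [DecidableEq ι] {M : Type*} [AddCommGroup M] [Module R M]
    {P : Type w} [AddCommGroup P] [Module R P]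
    (g : M [⋀^ι]→ₗ[R] P) (L : N →ₗ[R] M) (v : ι → M) (j j' : ι) (hjj' : j ≠ j') (a b : N)
    (ha : v j = L a) (hb : v j' = L b) : g v = 0 := by
  have hv : v = Function.update (Function.update v j (L a)) j' (L b) := by
    rw [← ha, Function.update_eq_self, ← hb, Function.update_eq_self]
  rw [hv]
  refine eq_zero_of_homogeneous_of_diag (R := R) (N := N)
    (fun a' b' => g (Function.update (Function.update v j (L a')) j' (L b'))) ?_ ?_ ?_ a b
  · intro c a' b'

    rw [Function.update_comm hjj', Function.update_comm hjj', map_smul, g.map_update_smul]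
  · intro c a' b'

    rw [map_smul, g.map_update_smul]
  · intro x

    apply g.map_eq_zero_of_eq _ (i := j) (j := j') _ hjj'
    rw [Function.update_self, Function.update_of_ne hjj', Function.update_self]


variable (N)

theorem tensorPower_pic [Module.Invertible R N] : ∀ k : ℕ,
    ∃ (_ : Module.Invertible R (⨂[R]^k N)),
      CommRing.Pic.mk R (⨂[R]^k N) = CommRing.Pic.mk R N ^ k := by
  intro k
  induction k with
  | zero =>
    have inst : Module.Invertible R (⨂[R]^0 N) :=
      Module.Invertible.congr (TensorPower.algebraMap₀ : R ≃ₗ[R] ⨂[R]^0 N)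
    refine ⟨inst, ?_⟩
    rw [pow_zero, CommRing.Pic.mk_eq_one_iff]
    exact ⟨TensorPower.algebraMap₀.symm⟩
  | succ k ih =>
    obtain ⟨inst, hk⟩ := ih
    let e : (⨂[R]^k N) ⊗[R] N ≃ₗ[R] ⨂[R]^(k + 1) N :=
      (TensorProduct.congr (LinearEquiv.refl R _)
        (PiTensorProduct.subsingletonEquiv (R := R) (s := fun _ : Fin 1 => N) (0 : Fin 1)).symm) ≪≫ₗ
        TensorPower.mulEquiv
    have inst' : Module.Invertible R (⨂[R]^(k + 1) N) := Module.Invertible.congr e
    refine ⟨inst', ?_⟩
    rw [pow_succ, ← hk, ← CommRing.Pic.mk_tensor, CommRing.Pic.mk_eq_mk_iff]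
    exact ⟨e.symm⟩


theorem one_mem_range [Module.Invertible R N] (n : ℕ) (e : (Fin n → N) ≃ₗ[R] (Fin n → R))
    (φ : (⨂[R]^n N) →ₗ[R] R)
    (hφ : ∀ z : Fin n → N, φ (tprod R z) =
      Matrix.detRowAlternating (fun i => e (Pi.single i (z i)))) :
    (1 : R) ∈ LinearMap.range φ := by
  classical
  set g : (Fin n → R) [⋀^Fin n]→ₗ[R] R := Matrix.detRowAlternating with hg
  let L : Fin n → N →ₗ[R] (Fin n → R) := fun i => e.toLinearMap ∘ₗ LinearMap.single R (fun _ => N) i
  let y : Fin n → (Fin n → N) := fun j => e.symm (Pi.single j 1)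
  have hy : ∀ j, ∑ i, L i (y j i) = Pi.single j 1 := by
    intro j
    have h1 : ∑ i, L i (y j i) = e (∑ i, Pi.single i (y j i)) := by
      rw [map_sum]
      rfl
    rw [h1, Finset.univ_sum_single, LinearEquiv.apply_symm_apply]
  have h1 : (1 : R) = g (fun j => ∑ i, L i (y j i)) := by
    have : (fun j => ∑ i, L i (y j i)) = (1 : Matrix (Fin n) (Fin n) R) := by
      funext j
      rw [hy j]
      ext k
      simp [Matrix.one_apply, Pi.single_apply, eq_comm]
    rw [this]
    exact (Matrix.det_one (n := Fin n) (R := R)).symm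
  rw [h1]
  change g.toMultilinearMap (fun j => ∑ i, L i (y j i)) ∈ _
  rw [MultilinearMap.map_sum]
  refine Submodule.sum_mem _ (fun σ _ => ?_)
  by_cases hσ : Function.Injective σ
  · let τ : Equiv.Perm (Fin n) := Equiv.ofBijective σ (Finite.injective_iff_bijective.1 hσ)
    let z : Fin n → N := fun i => y (τ.symm i) i
    have hz : (fun j => L (σ j) (y j (σ j))) = (fun i => L i (z i)) ∘ τ := by
      funext j
      simp [z, τ]
    have h2 : g (fun i => L i (z i)) ∈ LinearMap.range φ := ⟨tprod R z, hφ z⟩
    change g (fun j => L (σ j) (y j (σ j))) ∈ _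
    rw [hz, AlternatingMap.map_perm]
    rcases Int.units_eq_one_or (Equiv.Perm.sign τ) with h | h
    · rw [h, one_smul]; exact h2
    · rw [h, Units.neg_smul, one_smul]; exact Submodule.neg_mem _ h2
  · have : ∃ j j', j ≠ j' ∧ σ j = σ j' := by
      by_contra hcon
      simp only [not_exists, not_and] at hcon
      exact hσ (fun a b hab => by_contra (fun hne => hcon a b hne hab))
    obtain ⟨j, j', hne, heq⟩ := this
    have h0 : g (fun j => L (σ j) (y j (σ j))) = 0 :=
      alt_zero g (L (σ j)) _ j j' hne (y j (σ j)) (y j' (σ j')) rfl (by simp only [heq])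
    change g (fun j => L (σ j) (y j (σ j))) ∈ _
    rw [h0]
    exact zero_mem _


/-- If `N` is invertible and `N^n ≃ R^n`, then `[N]^n = 1` in the Picard group. -/
theorem pic_pow_eq_one [Module.Invertible R N] (n : ℕ) (e : (Fin n → N) ≃ₗ[R] (Fin n → R)) :
    CommRing.Pic.mk R N ^ n = 1 := by
  classical
  obtain ⟨inst, hpic⟩ := tensorPower_pic (R := R) N n
  rw [← hpic, CommRing.Pic.mk_eq_one_iff]
  let L : Fin n → N →ₗ[R] (Fin n → R) := fun i => e.toLinearMap ∘ₗ LinearMap.single R (fun _ => N) i
  let D : MultilinearMap R (fun _ : Fin n => N) R :=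
    (Matrix.detRowAlternating (R := R) (n := Fin n)).toMultilinearMap.compLinearMap L
  let φ : (⨂[R]^n N) →ₗ[R] R := PiTensorProduct.lift D
  have hφ : ∀ z : Fin n → N, φ (tprod R z) =
      Matrix.detRowAlternating (fun i => e (Pi.single i (z i))) := by
    intro z
    simp only [φ, PiTensorProduct.lift.tprod]
    rfl
  have h1 : (1 : R) ∈ LinearMap.range φ := one_mem_range N n e φ hφ
  have hsurj : Function.Surjective φ := by
    intro r
    obtain ⟨t, ht⟩ := h1
    exact ⟨r • t, by rw [map_smul, ht, smul_eq_mul, mul_one]⟩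
  exact ⟨LinearEquiv.ofBijective φ (Module.Invertible.bijective_of_surjective hsurj)⟩

end main

end Groth.Agent.R2.H76.PicDet
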