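import Mathlib

/-
helper76 library for S16190 (a geometric smoothing gives a smoothing over `Spec k⟦t⟧`).

* `isAdicComplete_pow` : `I`-adically complete ⇒ `I^n`-adically complete (`n > 0`).
* `exists_injective_lift` : a formally smooth noetherian domain `B` over a field `k` whose nonzero
  primes are maximal, with a `k`-point `ε` with nonzero kernel, admits an INJECTIVE `k`-algebra map
  `B → k⟦t⟧` lifting `ε` (lift a nonzero tangent vector to the dual numbers `k⟦t⟧/(t²)` and then use
  formal smoothness + completeness).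
* `exists_arc` : for an integral smooth `k`-scheme `C` of dimension one with a rational point `c`
  there is `h : Spec k⟦t⟧ ⟶ C` with closed point ↦ `c` and generic point ↦ generic point.
* `exists_smoothing` : the statement S16190 (base change of the family along the arc).
-/

set_option autoImplicit false
set_option linter.style.haveILetI false
universe u
open CategoryTheory Limits AlgebraicGeometry

namespace Groth.Agent.R2.H76.Smoothing


/-- adic completeness passes to positive powers of the ideal. -/
theorem isAdicComplete_pow {R : Type*} [CommRing R] (I : Ideal R) [IsAdicComplete I R] (n : ℕ)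
    (hn : 0 < n) : IsAdicComplete (I ^ n) R := by
  have hle : ∀ m, ((I ^ n) ^ m • ⊤ : Submodule R R) ≤ (I ^ m • ⊤ : Submodule R R) := by
    intro m
    rw [← pow_mul]
    exact Submodule.smul_mono_left (Ideal.pow_le_pow_right (Nat.le_mul_of_pos_left m hn))
  refine { toIsHausdorff := ⟨fun x hx => ?_⟩, toIsPrecomplete := ⟨fun f hf => ?_⟩ }
  · apply IsHausdorff.haus (inferInstance : IsHausdorff I R) x
    intro m
    exact SModEq.mono (hle m) (hx m)
  · have hf' : ∀ {m m'}, m ≤ m' → f m ≡ f m' [SMOD (I ^ m • ⊤ : Submodule R R)] :=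
      fun h => SModEq.mono (hle _) (hf h)
    obtain ⟨L, hL⟩ := IsPrecomplete.prec (inferInstance : IsPrecomplete I R) hf'
    refine ⟨L, fun m => ?_⟩
    have h1 := hf (Nat.le_mul_of_pos_left m hn)
    have h2 := hL (n * m)
    rw [pow_mul] at h2
    exact h1.trans h2

open PowerSeries in
/-- A formally smooth noetherian domain `B` over a field `k` in which nonzero primes are maximal,
with a `k`-point `ε` whose kernel is nonzero, admits an injective `k`-algebra map to `k⟦t⟧` lifting
`ε`. -/
theorem exists_injective_lift (k B : Type*) [Field k] [CommRing B] [IsDomain B] [Algebra k B]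
    [Algebra.FormallySmooth k B] [IsNoetherianRing B]
    (hdim : ∀ P : Ideal B, P ≠ ⊥ → P.IsPrime → P.IsMaximal)
    (ε : B →ₐ[k] k) (hε : RingHom.ker ε ≠ ⊥) :
    ∃ φ : B →ₐ[k] PowerSeries k, Function.Injective φ ∧
      ∀ b, PowerSeries.constantCoeff (φ b) = ε b := by
  classical
  set 𝔪 : Ideal B := RingHom.ker ε with h𝔪
  have hεsurj : Function.Surjective ε := fun a => ⟨algebraMap k B a, by simp⟩
  have hmax : 𝔪.IsMaximal := RingHom.ker_isMaximal_of_surjective _ hεsurj
  -- 𝔪 ≠ 𝔪²
  have hne : 𝔪 ^ 2 ≠ 𝔪 := by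
    intro h
    have hid : IsIdempotentElem 𝔪 := by rw [IsIdempotentElem, ← pow_two, h]
    rcases (Ideal.isIdempotentElem_iff_eq_bot_or_top 𝔪 (IsNoetherian.noetherian 𝔪)).1 hid with h0 | h0
    · exact hε h0
    · exact hmax.ne_top h0
  obtain ⟨b₀, hb₀, hb₀'⟩ : ∃ b₀ ∈ 𝔪, b₀ ∉ 𝔪 ^ 2 := by
    by_contra hcon
    push Not at hcon
    exact hne (le_antisymm (Ideal.pow_le_self two_ne_zero) hcon)
  -- the functional
  let W : Submodule k B := Submodule.span k {(1 : B)} ⊔ (𝔪 ^ 2).restrictScalars k
  have hbW : b₀ ∉ W := by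
    intro h
    obtain ⟨x, hx, y, hy, hxy⟩ := Submodule.mem_sup.1 h
    obtain ⟨a, rfl⟩ := Submodule.mem_span_singleton.1 hx
    have hy' : y ∈ 𝔪 ^ 2 := hy
    have h1 : ε b₀ = 0 := hb₀
    have h2 : ε y = 0 := Ideal.pow_le_self two_ne_zero hy'
    have h3 : a = 0 := by
      have := congrArg ε hxy
      simpa [h1, h2] using this
    apply hb₀'
    rw [← hxy, h3, zero_smul, zero_add]
    exact hy'
  obtain ⟨D, hD, hWD⟩ := Submodule.exists_le_ker_of_notMem hbW
  have hD1 : D 1 = 0 := hWD (Submodule.mem_sup_left (Submodule.mem_span_singleton_self 1))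
  have hD2 : ∀ y ∈ 𝔪 ^ 2, D y = 0 := fun y hy => hWD (Submodule.mem_sup_right hy)
  have hDsub : ∀ b, D (b - algebraMap k B (ε b)) = D b := by
    intro b
    rw [map_sub, Algebra.algebraMap_eq_smul_one, map_smul, hD1, smul_zero, sub_zero]
  have hmem : ∀ b, b - algebraMap k B (ε b) ∈ 𝔪 := by
    intro b
    simp [h𝔪, RingHom.mem_ker]
  have hleib : ∀ b b', D (b * b') = ε b * D b' + ε b' * D b := by
    intro b b'
    have h1 : b * b' = algebraMap k B (ε b * ε b') + ε b • (b' - algebraMap k B (ε b')) +
        ε b' • (b - algebraMap k B (ε b)) +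
        (b - algebraMap k B (ε b)) * (b' - algebraMap k B (ε b')) := by
      simp only [Algebra.smul_def, map_mul]
      ring
    have h2 : (b - algebraMap k B (ε b)) * (b' - algebraMap k B (ε b')) ∈ 𝔪 ^ 2 := by
      rw [pow_two]
      exact Ideal.mul_mem_mul (hmem b) (hmem b')
    conv_lhs => rw [h1]
    rw [map_add, map_add, map_add, hD2 _ h2, map_smul, map_smul, hDsub, hDsub,
      Algebra.algebraMap_eq_smul_one, map_smul, hD1]
    simp
  -- the ideal I = (X)^2
  set I : Ideal (PowerSeries k) := (Ideal.span {(X : PowerSeries k)}) ^ 2 with hI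
  haveI : IsAdicComplete I (PowerSeries k) := isAdicComplete_pow _ 2 two_pos
  have hImem : ∀ p : PowerSeries k, p ∈ I ↔ coeff 0 p = 0 ∧ coeff 1 p = 0 := by
    intro p
    rw [hI, Ideal.span_singleton_pow, Ideal.mem_span_singleton, X_pow_dvd_iff]
    constructor
    · intro h; exact ⟨h 0 (by norm_num), h 1 (by norm_num)⟩
    · rintro ⟨h0, h1⟩ m hm
      interval_cases m
      · exact h0
      · exact h1
  have hX2 : (X : PowerSeries k) ^ 2 ∈ I := by
    rw [hI, Ideal.span_singleton_pow]; exact Ideal.mem_span_singleton_self _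
  -- the map to dual numbers
  let f : B →ₐ[k] PowerSeries k ⧸ I :=
    { toFun := fun b => Ideal.Quotient.mk I (C (ε b) + C (D b) * X)
      map_one' := by simp [hD1]
      map_mul' := fun b b' => by
        rw [← map_mul, Ideal.Quotient.eq]
        have h1 : (C (ε (b * b')) + C (D (b * b')) * X : PowerSeries k) -
            (C (ε b) + C (D b) * X) * (C (ε b') + C (D b') * X) = -C (D b * D b') * X ^ 2 := by
          rw [hleib, map_mul]
          simp only [map_add, map_mul]
          ring
        rw [h1]
        exact Ideal.mul_mem_left _ _ hX2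
      map_zero' := by simp
      map_add' := fun b b' => by simp [add_add_add_comm, add_mul]
      commutes' := fun a => by
        have h1 : D (algebraMap k B a) = 0 := by
          rw [Algebra.algebraMap_eq_smul_one, map_smul, hD1, smul_zero]
        simp only [AlgHom.commutes, h1, map_zero, zero_mul, add_zero]
        rfl }
  obtain ⟨g, hg⟩ := Algebra.FormallySmooth.exists_mkₐ_comp_eq_of_isAdicComplete f
  have hgf : ∀ b, g b - (C (ε b) + C (D b) * X) ∈ I := fun b => by
    have h1 : Ideal.Quotient.mk I (g b) = Ideal.Quotient.mk I (C (ε b) + C (D b) * X) :=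
      congr($hg b)
    exact Ideal.Quotient.eq.1 h1
  have hc0 : ∀ b, constantCoeff (g b) = ε b := fun b => by
    have h1 := ((hImem _).1 (hgf b)).1
    simpa [sub_eq_zero] using h1
  have hc1 : ∀ b, coeff 1 (g b) = D b := fun b => by
    have h1 := ((hImem _).1 (hgf b)).2
    simpa [sub_eq_zero, coeff_one_X] using h1
  refine ⟨g, ?_, hc0⟩
  rw [← AlgHom.coe_toRingHom, RingHom.injective_iff_ker_eq_bot]
  by_contra hker
  have hP : (RingHom.ker g.toRingHom).IsPrime := RingHom.ker_isPrime _
  have hPmax := hdim _ hker hP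
  have hle : RingHom.ker g.toRingHom ≤ 𝔪 := by
    intro b hb
    have h0 : g b = 0 := hb
    have := hc0 b
    rw [h0, map_zero] at this
    exact this.symm
  have heq := hPmax.eq_of_le hmax.ne_top hle
  have hb0 : g b₀ = 0 := by
    have : b₀ ∈ RingHom.ker g.toRingHom := heq ▸ hb₀
    exact this
  have := hc1 b₀
  rw [hb0, map_zero] at this
  exact hD this.symm



set_option backward.isDefEq.respectTransparency false in
/-- an arc `Spec k⟦t⟧ ⟶ C` through a rational point of a smooth integral curve, sending the generic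
point to the generic point. -/
theorem exists_arc (k : Type u) [Field k] (C : Scheme.{u}) (qC : C ⟶ Spec (CommRingCat.of k))
    (c : Spec (CommRingCat.of k) ⟶ C) (hc : c ≫ qC = 𝟙 _) [IsIntegral C] [Smooth qC]
    (hC : topologicalKrullDim C = 1) :
    ∃ h : Spec (CommRingCat.of (PowerSeries k)) ⟶ C,
      Spec.map (CommRingCat.ofHom (PowerSeries.constantCoeff (R := k))) ≫ h = c ∧
      ∀ (K : Type u) [Field K] (ι : PowerSeries k →+* K), Function.Injective ι →
        (Spec.map (CommRingCat.ofHom ι) ≫ h) (IsLocalRing.closedPoint K) = genericPoint C := by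
  classical
  set x₀ : C := c (IsLocalRing.closedPoint k) with hx₀
  obtain ⟨_, ⟨U, hU, rfl⟩, hxU, -⟩ :=
    C.isBasis_affineOpens.exists_subset_of_mem_open (Set.mem_univ x₀) isOpen_univ
  haveI : Nonempty U := ⟨⟨x₀, hxU⟩⟩
  -- `c` factors through `U`
  have hrange : Set.range c ⊆ Set.range hU.fromSpec := by
    rintro _ ⟨y, rfl⟩
    rw [hU.range_fromSpec]
    have : y = IsLocalRing.closedPoint k := Subsingleton.elim _ _
    rw [this]
    exact hxU
  set c' := IsOpenImmersion.lift hU.fromSpec c hrange with hc'
  have hc'fac : c' ≫ hU.fromSpec = c := IsOpenImmersion.lift_fac _ _ _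
  obtain ⟨ε₀, hε₀⟩ := Spec.map_surjective c'
  obtain ⟨ψ, hψ⟩ := Spec.map_surjective (hU.fromSpec ≫ qC)
  have hψε : ψ ≫ ε₀ = 𝟙 _ := by
    apply Spec.map_injective
    rw [Spec.map_comp, hε₀, hψ, ← Category.assoc, hc'fac, hc, Spec.map_id]
  have hsm : Smooth (Spec.map ψ) := by rw [hψ]; infer_instance
  have hsm' : ψ.hom.Smooth := (HasRingHomProperty.Spec_iff (P := @Smooth)).1 hsm
  letI : Algebra k Γ(C, U) := ψ.hom.toAlgebra
  have hsmA : Algebra.Smooth k Γ(C, U) := hsm'
  haveI : Algebra.FormallySmooth k Γ(C, U) := hsmA.1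
  haveI : Algebra.FinitePresentation k Γ(C, U) := hsmA.2
  haveI : IsNoetherianRing Γ(C, U) := Algebra.FiniteType.isNoetherianRing k _
  haveI : IsDomain Γ(C, U) := inferInstance
  let ε : Γ(C, U) →ₐ[k] k := { ε₀.hom with commutes' := fun a => congr($hψε a) }
  have hdim : ∀ P : Ideal Γ(C, U), P ≠ ⊥ → P.IsPrime → P.IsMaximal := by
    have h1 : ringKrullDim Γ(C, U) ≤ 1 := by
      rw [← PrimeSpectrum.topologicalKrullDim_eq_ringKrullDim, ← hC]
      exact hU.fromSpec.isOpenEmbedding.isInducing.topologicalKrullDim_le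
    haveI : Ring.KrullDimLE 1 Γ(C, U) := Ring.krullDimLE_iff.2 h1
    exact Ring.krullDimLE_one_iff_of_noZeroDivisors.1 inferInstance
  have hker : RingHom.ker ε ≠ ⊥ := by
    intro h0
    have hinj : Function.Injective ε := (RingHom.injective_iff_ker_eq_bot ε.toRingHom).2 h0
    have hsurj : Function.Surjective ε := fun a => ⟨algebraMap k _ a, ε.commutes a⟩
    have hfield : IsField Γ(C, U) :=
      MulEquiv.isField (Field.toIsField k) (RingEquiv.ofBijective ε ⟨hinj, hsurj⟩).toMulEquiv
    haveI := Ring.isField_iff_isSimpleOrder_ideal.1 hfield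
    have hsub : Subsingleton ↥(Spec Γ(C, U)) := ⟨fun p q => PrimeSpectrum.ext (by
      rcases eq_bot_or_eq_top p.asIdeal with h | h
      · rcases eq_bot_or_eq_top q.asIdeal with h' | h'
        · rw [h, h']
        · exact absurd h' q.2.ne_top
      · exact absurd h p.2.ne_top)⟩
    have hUeq : (U : Set C) = {x₀} := by
      ext y
      constructor
      · intro hy
        rw [← hU.range_fromSpec] at hy
        obtain ⟨p, rfl⟩ := hy
        have hx : x₀ ∈ Set.range hU.fromSpec := by rw [hU.range_fromSpec]; exact hxU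
        obtain ⟨p₀, hp₀⟩ := hx
        rw [← hp₀, Subsingleton.elim p p₀]
        rfl
      · rintro rfl
        exact hxU
    haveI : JacobsonSpace C := LocallyOfFiniteType.jacobsonSpace qC
    have hcl : IsClosed ({x₀} : Set C) :=
      isClosed_singleton_of_isLocallyClosed_singleton (hUeq ▸ U.isOpen.isLocallyClosed)
    have hdense : Dense ({x₀} : Set C) := hUeq ▸ U.isOpen.dense ⟨x₀, hxU⟩
    have huniv : ({x₀} : Set C) = Set.univ := by
      rw [← hcl.closure_eq]; exact hdense.closure_eq
    haveI : Subsingleton C := ⟨fun a b => by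
      have ha : a ∈ ({x₀} : Set C) := huniv ▸ trivial
      have hb : b ∈ ({x₀} : Set C) := huniv ▸ trivial
      rw [Set.mem_singleton_iff] at ha hb
      rw [ha, hb]⟩
    have := topologicalKrullDim_zero_of_discreteTopology C
    rw [hC] at this
    exact absurd this (by decide)
  obtain ⟨φ, hφinj, hφ0⟩ := exists_injective_lift k Γ(C, U) hdim ε hker
  refine ⟨Spec.map (CommRingCat.ofHom φ.toRingHom) ≫ hU.fromSpec, ?_, ?_⟩
  · rw [← Category.assoc, ← Spec.map_comp, ← hc'fac, ← hε₀]
    congr 2
    ext b
    exact hφ0 b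
  · intro K _ ι hι
    rw [← Category.assoc, ← Spec.map_comp, Scheme.Hom.comp_apply]
    have h1 : Spec.map (CommRingCat.ofHom φ.toRingHom ≫ CommRingCat.ofHom ι)
        (IsLocalRing.closedPoint K) = genericPoint (Spec Γ(C, U)) := by
      rw [genericPoint_eq_bot_of_affine]
      apply PrimeSpectrum.ext
      change Ideal.comap (ι.comp φ.toRingHom) (IsLocalRing.maximalIdeal K) = ⊥
      rw [IsLocalRing.maximalIdeal_eq_bot, ← RingHom.ker_eq_comap_bot]
      exact (RingHom.injective_iff_ker_eq_bot _).1 (hι.comp hφinj)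
    rw [h1]
    exact genericPoint_eq_of_isOpenImmersion hU.fromSpec



set_option backward.isDefEq.respectTransparency false in
/-- statement S16190: a geometric smoothing over a smooth integral curve gives a smoothing over
`Spec k⟦t⟧`, by base change along an arc through the rational point. -/
theorem exists_smoothing
    (k : Type u) [Field k]
    (X : Scheme.{u}) (pX : X ⟶ Spec (CommRingCat.of k))
    (C : Scheme.{u}) (qC : C ⟶ Spec (CommRingCat.of k)) (c : Spec (CommRingCat.of k) ⟶ C)
    (hc : c ≫ qC = 𝟙 (Spec (CommRingCat.of k))) [IsIntegral C] [Smooth qC]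
    (hC : topologicalKrullDim C = 1)
    (Y : Scheme.{u}) (π : Y ⟶ C) [Flat π] [IsProper π] (j : X ⟶ Y) (hsq : IsPullback j pX π c)
    (hgen : Smooth (π.fiberToSpecResidueField (genericPoint C))) :
    ∃ (P : Scheme.{u}) (p : P ⟶ Spec (CommRingCat.of (PowerSeries k))) (_ : Flat p) (_ : IsProper p)
      (i : X ⟶ P),
      IsPullback i pX p (Spec.map (CommRingCat.ofHom (PowerSeries.constantCoeff (R := k)))) ∧
      Smooth (pullback.snd p
        (Spec.map (CommRingCat.ofHom (algebraMap (PowerSeries k) (FractionRing (PowerSeries k)))))) := by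
  obtain ⟨h, hh1, hh2⟩ := exists_arc k C qC c hc hC
  set cc := Spec.map (CommRingCat.ofHom (PowerSeries.constantCoeff (R := k))) with hcc
  have hw : j ≫ π = (pX ≫ cc) ≫ h := by rw [Category.assoc, hh1, hsq.w]
  refine ⟨pullback π h, pullback.snd π h, MorphismProperty.pullback_snd _ _ ‹Flat π›,
    MorphismProperty.pullback_snd _ _ ‹IsProper π›, pullback.lift j (pX ≫ cc) hw, ?_, ?_⟩
  · refine IsPullback.of_right (h₁₂ := pullback.fst π h) (h₂₂ := h) ?_ (by simp)
      (IsPullback.of_hasPullback π h)
    rw [pullback.lift_fst, hh1]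
    exact hsq
  · set K := FractionRing (PowerSeries k) with hK
    set ιK := Spec.map (CommRingCat.ofHom (algebraMap (PowerSeries k) K)) with hιK
    set p := pullback.snd π h with hp
    set m : Spec (CommRingCat.of K) ⟶ C := ιK ≫ h with hm
    have hη : m (IsLocalRing.closedPoint K) = genericPoint C :=
      hh2 K (algebraMap (PowerSeries k) K) (IsFractionRing.injective _ _)
    -- factor `m` through the residue field of the generic point
    have hfac := Scheme.descResidueField_stalkClosedPointTo_fromSpecResidueField K C m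
    have hcongr := Scheme.residueFieldCongr_fromSpecResidueField (X := C) hη.symm
    set r : Spec (CommRingCat.of K) ⟶ Spec (C.residueField (genericPoint C)) :=
      Spec.map (Scheme.descResidueField (Scheme.stalkClosedPointTo m)) ≫
        Spec.map (C.residueFieldCongr hη.symm).hom with hr
    have hmr : m = r ≫ C.fromSpecResidueField (genericPoint C) := by
      rw [hr, Category.assoc, hcongr, hfac]
    -- the big pullback square
    have hbig : IsPullback (pullback.fst p ιK ≫ pullback.fst π h) (pullback.snd p ιK) π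
        (r ≫ C.fromSpecResidueField (genericPoint C)) := by
      rw [← hmr]
      exact (IsPullback.of_hasPullback p ιK).paste_horiz (IsPullback.of_hasPullback π h)
    have hright : IsPullback (π.fiberι (genericPoint C))
        (π.fiberToSpecResidueField (genericPoint C)) π (C.fromSpecResidueField (genericPoint C)) :=
      IsPullback.of_hasPullback _ _
    have hleft := IsPullback.of_right (h₁₁ := hright.lift (pullback.fst p ιK ≫ pullback.fst π h)
      (pullback.snd p ιK ≫ r) (by rw [Category.assoc]; exact hbig.w))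
      (by rw [hright.lift_fst]; exact hbig) (hright.lift_snd _ _ _) hright
    exact MorphismProperty.of_isPullback hleft hgen


end Groth.Agent.R2.H76.Smoothing
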