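import Mathlib

/-!
# Descent of morphisms into finite projective modules for `X ↦ Mod (H X)` (helper76)

For a pseudofunctor of rings `H : LocallyDiscrete Cᵒᵖ ⥤ᵖ LocallyDiscrete CommRingCat` put
`PFH H := H.comp CommRingCat.moduleCatExtendScalarsPseudofunctor` (`X ↦ Mod (H X)`, extension of
scalars).  Main results:

* `bijective_toDescentData_map_of` : for ANY pseudofunctor `F` to `Cat` and one-member family `f`,
  `F.toDescentData` is bijective on `Hom(M, N)` as soon as pullback along `f` is injective on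
  `Hom(M, N)` and morphisms between the pullbacks compatible with the two further pullbacks along
  `g₁, g₂` (with `g₁ ≫ f = g₂ ≫ f`) come from `Hom(M, N)`.
* `bijective_toDescentData_map` : for `F = PFH H`, if `H f` is injective with image the equalizer
  of `H g₁`, `H g₂`, then `toDescentData` is bijective on `Hom(M, N)` for `N` finite projective.
* `bijective_toDescentData_map'` : the same with `F` a variable and `hF : F = PFH H`
  (use this to instantiate at a constant that unfolds to `PFH H`: it keeps the kernel from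
  normalising the composite pseudofunctor).

The ring-level part (`tm`, `CompIso`, `map_injective_abs`, `exists_map_eq_abs`) is elementary:
dual bases of finite projective modules reduce everything to the equalizer statement on rings.
Kernel note: statements are arranged so that conversions between `(PFH H)`-typed and
`ModuleCat.extendScalars`-typed terms only happen at the level of functors/hom-types or through
explicit `congrArg`s on atoms; element-level `rfl`s across the two forms cost minutes.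
-/

set_option autoImplicit false
universe u v w
open CategoryTheory Opposite TensorProduct ChangeOfRings

namespace Groth.Agent.R2.H76.WittDesc

section Tm

variable {R S : Type u} [CommRing R] [CommRing S] (f : R →+* S)

/-- `s ⊗ m` in the extension of scalars along `f`. -/
noncomputable def tm (M : ModuleCat.{u} R) (s : S) (m : M) : (ModuleCat.extendScalars f).obj M :=
  s ⊗ₜ[R, f] m

lemma smul_tm (M : ModuleCat.{u} R) (s s' : S) (m : M) : s • tm f M s' m = tm f M (s * s') m := rfl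

lemma map_tm {M M' : ModuleCat.{u} R} (g : M ⟶ M') (s : S) (m : M) :
    ((ModuleCat.extendScalars f).map g).hom (tm f M s m) = tm f M' s (g.hom m) := rfl

lemma tm_add (M : ModuleCat.{u} R) (s : S) (m m' : M) :
    tm f M s (m + m') = tm f M s m + tm f M s m' :=
  TensorProduct.tmul_add _ _ _

lemma tm_zero (M : ModuleCat.{u} R) (s : S) : tm f M s (0 : M) = 0 :=
  TensorProduct.tmul_zero _ _

lemma tm_sub (M : ModuleCat.{u} R) (s : S) (m m' : M) :
    tm f M s (m - m') = tm f M s m - tm f M s m' :=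
  TensorProduct.tmul_sub _ _ _

lemma tm_sum (M : ModuleCat.{u} R) (s : S) {ι : Type*} (t : Finset ι) (m : ι → M) :
    tm f M s (∑ i ∈ t, m i) = ∑ i ∈ t, tm f M s (m i) :=
  TensorProduct.tmul_sum _ _ _

lemma tm_smul (M : ModuleCat.{u} R) (s : S) (r : R) (m : M) :
    tm f M s (r • m) = tm f M (f r * s) m := by
  let _ : Module R S := Module.compHom S f
  exact (TensorProduct.smul_tmul (R := R) (R' := R) (M := S) (N := M) r s m).symm

lemma tm_induction (M : ModuleCat.{u} R) {P : (ModuleCat.extendScalars f).obj M → Prop}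
    (h0 : P 0) (ht : ∀ s m, P (tm f M s m)) (ha : ∀ x y, P x → P y → P (x + y))
    (x : (ModuleCat.extendScalars f).obj M) : P x :=
  TensorProduct.induction_on x h0 ht ha

lemma tm_add_left (M : ModuleCat.{u} R) (s s' : S) (m : M) :
    tm f M (s + s') m = tm f M s m + tm f M s' m :=
  TensorProduct.add_tmul _ _ _

lemma tm_zero_left (M : ModuleCat.{u} R) (m : M) : tm f M 0 m = 0 :=
  TensorProduct.zero_tmul _ _

/-- `R` as a module over itself. -/
abbrev selfMod (R : Type u) [CommRing R] : ModuleCat.{u} R := ModuleCat.of R R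

lemma exists_eq_tm_one_self (x : (ModuleCat.extendScalars f).obj (selfMod R)) :
    ∃ s : S, x = tm f (selfMod R) s (1 : R) := by
  induction x using tm_induction f (selfMod R) with
  | h0 => exact ⟨0, (tm_zero_left f _ _).symm⟩
  | ht s a =>
    refine ⟨f a * s, ?_⟩
    rw [← tm_smul, smul_eq_mul, mul_one]
  | ha x y hx hy =>
    obtain ⟨s, rfl⟩ := hx
    obtain ⟨s', rfl⟩ := hy
    exact ⟨s + s', (tm_add_left f _ s s' 1).symm⟩

lemma tm_one_self_injective (s s' : S)
    (h : tm f (selfMod R) s (1 : R) = tm f (selfMod R) s' (1 : R)) : s = s' := by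
  let _ : Module R S := Module.compHom S f
  have h2 : (TensorProduct.rid R S) (s ⊗ₜ[R] (1 : R)) = (TensorProduct.rid R S) (s' ⊗ₜ[R] (1 : R)) :=
    congrArg _ h
  rwa [TensorProduct.rid_tmul, TensorProduct.rid_tmul, one_smul, one_smul] at h2

end Tm

section Abs

variable {A B T : Type u} [CommRing A] [CommRing B] [CommRing T]
variable (φ : A →+* B) (θ : A →+* T)

/-- A "composition isomorphism" `θ^* ≅ γ^* φ^*`, normalised on the elements `1 ⊗ p`. -/
structure CompIso (γ : B →+* T) where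
  iso : ModuleCat.extendScalars θ ≅ ModuleCat.extendScalars φ ⋙ ModuleCat.extendScalars γ
  one : ∀ (P : ModuleCat.{u} A) (p : P),
    (iso.hom.app P).hom (tm θ P 1 p) = tm γ ((ModuleCat.extendScalars φ).obj P) 1 (tm φ P 1 p)

variable {φ θ}

lemma CompIso.hom_tm {γ : B →+* T} (c : CompIso φ θ γ) (P : ModuleCat.{u} A) (b : B) (p : P) :
    (c.iso.hom.app P).hom (tm θ P (γ b) p) =
      tm γ ((ModuleCat.extendScalars φ).obj P) 1 (tm φ P b p) := by
  have h1 : tm θ P (γ b) p = γ b • tm θ P 1 p := by rw [smul_tm, mul_one]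
  have h2 : tm φ P b p = b • tm φ P 1 p := by rw [smul_tm, mul_one]
  rw [h1, map_smul, c.one, smul_tm, mul_one, h2, tm_smul, mul_one]

lemma CompIso.inv_tm {γ : B →+* T} (c : CompIso φ θ γ) (P : ModuleCat.{u} A) (b : B) (p : P) :
    (c.iso.inv.app P).hom (tm γ ((ModuleCat.extendScalars φ).obj P) 1 (tm φ P b p)) =
      tm θ P (γ b) p := by
  rw [← c.hom_tm]
  exact congrFun (congrArg (fun t => (ModuleCat.Hom.hom t : _ → _)) (c.iso.hom_inv_id_app P)) _

lemma CompIso.inv_naturality_apply {γ : B →+* T} (c : CompIso φ θ γ) {N P : ModuleCat.{u} A}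
    (l : N ⟶ P) (z : (ModuleCat.extendScalars γ).obj ((ModuleCat.extendScalars φ).obj N)) :
    ((ModuleCat.extendScalars θ).map l).hom ((c.iso.inv.app N).hom z) =
      (c.iso.inv.app P).hom
        (((ModuleCat.extendScalars γ).map ((ModuleCat.extendScalars φ).map l)).hom z) :=
  (congrFun (congrArg (fun t => (ModuleCat.Hom.hom t : _ → _)) (c.iso.inv.naturality l)) z).symm

/-- The key computation: apply a functional to the equalizer condition. -/
lemma CompIso.functional_eq {γ₁ γ₂ : B →+* T} (c₁ : CompIso φ θ γ₁) (c₂ : CompIso φ θ γ₂)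
    {N : ModuleCat.{u} A} (y : (ModuleCat.extendScalars φ).obj N)
    (E : (c₁.iso.inv.app N).hom (tm γ₁ _ 1 y) = (c₂.iso.inv.app N).hom (tm γ₂ _ 1 y))
    (l : N ⟶ selfMod A) (b : B)
    (hb : ((ModuleCat.extendScalars φ).map l).hom y = tm φ (selfMod A) b 1) :
    γ₁ b = γ₂ b := by
  have h := congrArg ((ModuleCat.extendScalars θ).map l).hom E
  rw [c₁.inv_naturality_apply, c₂.inv_naturality_apply, map_tm, map_tm, hb, c₁.inv_tm,
    c₂.inv_tm] at h
  exact tm_one_self_injective θ _ _ h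

end Abs

section DualBasis

variable {A : Type u} [CommRing A] (N : ModuleCat.{u} A) [Module.Finite A N] [Module.Projective A N]

/-- A finite dual basis of a finite projective module, in categorical form. -/
lemma exists_dualBasis :
    ∃ (k : ℕ) (e : Fin k → N) (l : Fin k → (N ⟶ selfMod A)),
      ∀ x : N, x = ∑ j, ((l j).hom x : A) • e j := by
  obtain ⟨k, f, g, -, -, hfg⟩ := Module.Finite.exists_comp_eq_id_of_projective A N
  refine ⟨k, fun j => f (Pi.single j 1),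
    fun j => ModuleCat.ofHom ((LinearMap.proj j : (Fin k → A) →ₗ[A] A) ∘ₗ g), fun x => ?_⟩
  have h1 : f (g x) = x := LinearMap.congr_fun hfg x
  conv_lhs => rw [← h1, LinearMap.pi_apply_eq_sum_univ f (g x)]
  refine Finset.sum_congr rfl fun j _ => ?_
  have h2 : (fun i => if j = i then (1 : A) else 0) = Pi.single j 1 := by
    funext i
    rw [Pi.single_apply]
    exact if_congr eq_comm rfl rfl
  rw [h2]
  rfl

end DualBasis

section Main

variable {A B T : Type u} [CommRing A] [CommRing B] [CommRing T]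
variable {φ : A →+* B} {θ : A →+* T}

lemma tm_one_self_eq (a : A) (s : B) :
    tm φ (selfMod A) s a = tm φ (selfMod A) (φ a * s) (1 : A) := by
  conv_lhs => rw [← mul_one a, ← smul_eq_mul, tm_smul]

/-- `n ↦ 1 ⊗ n` is injective for a finite projective module when `φ` is injective. -/
lemma tm_one_eq_zero (hφ : Function.Injective φ) (N : ModuleCat.{u} A) [Module.Finite A N]
    [Module.Projective A N] (x : N) (hx : tm φ N 1 x = 0) : x = 0 := by
  obtain ⟨k, e, l, hN⟩ := exists_dualBasis N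
  rw [hN x]
  refine Finset.sum_eq_zero fun j _ => ?_
  have h1 : ((ModuleCat.extendScalars φ).map (l j)).hom (tm φ N 1 x) = 0 := by rw [hx, map_zero]
  rw [map_tm, tm_one_self_eq, mul_one] at h1
  have h3 : φ ((l j).hom x) = 0 :=
    tm_one_self_injective φ _ 0 (h1.trans (tm_zero_left φ _ 1).symm)
  rw [hφ (h3.trans (map_zero φ).symm), zero_smul]

lemma tm_one_injective (hφ : Function.Injective φ) (N : ModuleCat.{u} A) [Module.Finite A N]
    [Module.Projective A N] (x x' : N) (hx : tm φ N 1 x = tm φ N 1 x') : x = x' := by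
  rw [← sub_eq_zero]
  apply tm_one_eq_zero hφ N
  rw [tm_sub, hx, sub_self]

/-- Elements satisfying the equalizer condition come from `N`. -/
lemma exists_eq_tm_one {γ₁ γ₂ : B →+* T} (c₁ : CompIso φ θ γ₁) (c₂ : CompIso φ θ γ₂)
    (heq : ∀ b : B, γ₁ b = γ₂ b → ∃ a : A, φ a = b)
    (N : ModuleCat.{u} A) [Module.Finite A N] [Module.Projective A N]
    (y : (ModuleCat.extendScalars φ).obj N)
    (E : (c₁.iso.inv.app N).hom (tm γ₁ _ 1 y) = (c₂.iso.inv.app N).hom (tm γ₂ _ 1 y)) :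
    ∃ n : N, y = tm φ N 1 n := by
  obtain ⟨k, e, l, hN⟩ := exists_dualBasis N
  let ε : Fin k → (selfMod A ⟶ N) := fun j =>
    ModuleCat.ofHom (LinearMap.toSpanSingleton A N (e j))
  have hε : ∀ j (a : A), (ε j).hom a = a • e j := fun j a => rfl
  have hsum : ∑ j, l j ≫ ε j = 𝟙 N := by
    ext x
    rw [ModuleCat.hom_sum, LinearMap.sum_apply]
    exact (hN x).symm
  choose b hb using fun j => exists_eq_tm_one_self φ (((ModuleCat.extendScalars φ).map (l j)).hom y)
  have hγ : ∀ j, γ₁ (b j) = γ₂ (b j) := fun j => c₁.functional_eq c₂ y E (l j) (b j) (hb j)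
  choose a ha using fun j => heq (b j) (hγ j)
  refine ⟨∑ j, a j • e j, ?_⟩
  have : (ModuleCat.extendScalars φ).Additive :=
    (ModuleCat.extendRestrictScalarsAdj φ).left_adjoint_additive
  have h1 : y = ∑ j, ((ModuleCat.extendScalars φ).map (l j ≫ ε j)).hom y := by
    have h2 : ∑ j, (ModuleCat.extendScalars φ).map (l j ≫ ε j) = 𝟙 _ := by
      rw [← Functor.map_sum, hsum, CategoryTheory.Functor.map_id]
    have h3 := congrArg (fun t => (ModuleCat.Hom.hom t) y) h2
    simp only [ModuleCat.hom_sum, LinearMap.sum_apply] at h3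
    exact h3.symm
  rw [h1, tm_sum]
  refine Finset.sum_congr rfl fun j _ => ?_
  rw [Functor.map_comp, ModuleCat.hom_comp, LinearMap.comp_apply, hb j, map_tm, hε, one_smul,
    tm_smul, mul_one, ha j]

/-- Abstract faithfulness. -/
lemma map_injective_abs (hφ : Function.Injective φ) (M N : ModuleCat.{u} A) [Module.Finite A N]
    [Module.Projective A N] (χ χ' : M ⟶ N)
    (h : (ModuleCat.extendScalars φ).map χ = (ModuleCat.extendScalars φ).map χ') : χ = χ' := by
  ext m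
  apply tm_one_injective hφ N
  have h1 := congrArg (fun t => (ModuleCat.Hom.hom t) (tm φ M 1 m)) h
  exact h1

/-- Abstract fullness. -/
lemma exists_map_eq_abs {γ₁ γ₂ : B →+* T} (c₁ : CompIso φ θ γ₁) (c₂ : CompIso φ θ γ₂)
    (hφ : Function.Injective φ) (heq : ∀ b : B, γ₁ b = γ₂ b → ∃ a : A, φ a = b)
    (M N : ModuleCat.{u} A) [Module.Finite A N] [Module.Projective A N]
    (ψ : (ModuleCat.extendScalars φ).obj M ⟶ (ModuleCat.extendScalars φ).obj N)
    (hψ : c₁.iso.hom.app M ≫ (ModuleCat.extendScalars γ₁).map ψ ≫ c₁.iso.inv.app N =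
      c₂.iso.hom.app M ≫ (ModuleCat.extendScalars γ₂).map ψ ≫ c₂.iso.inv.app N) :
    ∃ χ : M ⟶ N, (ModuleCat.extendScalars φ).map χ = ψ := by
  have hE : ∀ m : M, ∃ n : N, ψ.hom (tm φ M 1 m) = tm φ N 1 n := by
    intro m
    apply exists_eq_tm_one c₁ c₂ heq N
    have h1 := congrArg (fun t => (ModuleCat.Hom.hom t) (tm θ M 1 m)) hψ
    simp only [ModuleCat.hom_comp, LinearMap.comp_apply] at h1
    rw [c₁.one, c₂.one, map_tm, map_tm] at h1
    exact h1
  choose χ hχ using hE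
  have hadd : ∀ m m', χ (m + m') = χ m + χ m' := by
    intro m m'
    apply tm_one_injective hφ N
    rw [← hχ, tm_add, map_add, hχ, hχ, tm_add]
  have hsmul : ∀ (a : A) m, χ (a • m) = a • χ m := by
    intro a m
    apply tm_one_injective hφ N
    rw [← hχ, tm_smul, mul_one, tm_smul, mul_one, ← mul_one (φ a), ← smul_tm, map_smul, hχ, smul_tm]
  refine ⟨ModuleCat.ofHom { toFun := χ, map_add' := hadd, map_smul' := hsmul }, ?_⟩
  apply ModuleCat.ExtendScalars.hom_ext
  intro m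
  exact (hχ m).symm

end Main

section PF

/-- `eqToHom` 2-cells of the extension-of-scalars pseudofunctor act trivially on `s ⊗ m`. -/
lemma PF_map₂_eqToHom_tm {X Y : LocallyDiscrete CommRingCat.{u}} {φ ψ : X ⟶ Y} (h : φ = ψ)
    (M : ModuleCat.{u} X.as) (s : Y.as) (m : M) :
    ((CommRingCat.moduleCatExtendScalarsPseudofunctor.map₂ (eqToHom h)).toNatTrans.app M).hom
      (tm φ.as.hom M s m) = tm ψ.as.hom M s m := by
  subst h
  rw [eqToHom_refl, PrelaxFunctor.map₂_id]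
  rfl

lemma PF_mapComp_tm {X Y Z : LocallyDiscrete CommRingCat.{u}} (φ : X ⟶ Y) (ψ : Y ⟶ Z)
    (M : ModuleCat.{u} X.as) (m : M) :
    ((CommRingCat.moduleCatExtendScalarsPseudofunctor.mapComp φ ψ).hom.toNatTrans.app M).hom
        (tm (φ ≫ ψ).as.hom M 1 m) = tm ψ.as.hom _ 1 (tm φ.as.hom M 1 m) :=
  ModuleCat.extendScalarsComp_hom_app_one_tmul φ.as.hom ψ.as.hom M m

lemma PF_comp_tm {X Y Z : LocallyDiscrete CommRingCat.{u}} (φ : X ⟶ Y) (ψ : Y ⟶ Z)
    (θ : X ⟶ Z) (e : θ = φ ≫ ψ) (M : ModuleCat.{u} X.as) (m : M) :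
    ((CommRingCat.moduleCatExtendScalarsPseudofunctor.map₂ (eqToHom e) ≫
      (CommRingCat.moduleCatExtendScalarsPseudofunctor.mapComp φ ψ).hom).toNatTrans.app M).hom
        (tm θ.as.hom M 1 m) = tm ψ.as.hom _ 1 (tm φ.as.hom M 1 m) :=
  ((congrArg (fun t => ModuleCat.Hom.hom t (tm θ.as.hom M 1 m))
    (Cat.Hom₂.comp_app (CommRingCat.moduleCatExtendScalarsPseudofunctor.map₂ (eqToHom e))
      (CommRingCat.moduleCatExtendScalarsPseudofunctor.mapComp φ ψ).hom M)).trans
    (LinearMap.congr_fun (ModuleCat.hom_comp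
      ((CommRingCat.moduleCatExtendScalarsPseudofunctor.map₂ (eqToHom e)).toNatTrans.app M)
      ((CommRingCat.moduleCatExtendScalarsPseudofunctor.mapComp φ ψ).hom.toNatTrans.app M))
      (tm θ.as.hom M 1 m))).trans
  ((congrArg (fun z => ((CommRingCat.moduleCatExtendScalarsPseudofunctor.mapComp φ ψ).hom.toNatTrans.app M).hom z)
    (PF_map₂_eqToHom_tm e M 1 m)).trans (PF_mapComp_tm φ ψ M m))

lemma comp_mapComp'_hom {B : Type*} [Bicategory B] {D : Type*} [Bicategory D] {E : Type*}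
    [Bicategory E] (F : Pseudofunctor B D) (H : Pseudofunctor D E) {b₀ b₁ b₂ : B} (f : b₀ ⟶ b₁)
    (g : b₁ ⟶ b₂) (fg : b₀ ⟶ b₂) (h : f ≫ g = fg) :
    ((F.comp H).mapComp' f g fg h).hom =
      H.map₂ (F.mapComp' f g fg h).hom ≫ (H.mapComp (F.map f) (F.map g)).hom := by
  subst h
  simp only [Pseudofunctor.mapComp', Pseudofunctor.comp, eqToIso_refl, Iso.trans_hom,
    PrelaxFunctor.map₂Iso_hom, Iso.refl_hom]
  erw [PrelaxFunctor.map₂_id, PrelaxFunctor.map₂_id, Category.id_comp, Category.id_comp]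
  rfl

end PF

section Bridge

variable {C : Type v} [Category.{w} C]
  (H : Pseudofunctor (LocallyDiscrete Cᵒᵖ) (LocallyDiscrete CommRingCat.{u}))

/-- The pseudofunctor `X ↦ Mod (H X)`, with extension of scalars. -/
noncomputable abbrev PFH : Pseudofunctor (LocallyDiscrete Cᵒᵖ) Cat.{u, u + 1} :=
  H.comp CommRingCat.moduleCatExtendScalarsPseudofunctor.{u}

/-- The ring map induced by a morphism of `C`. -/
abbrev rh {X S : C} (f : X ⟶ S) : (H.obj ⟨op S⟩).as →+* (H.obj ⟨op X⟩).as :=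
  (H.map f.op.toLoc).as.hom

lemma PFH_mapComp'_hom {Y X S : C} (f : X ⟶ S) (g : Y ⟶ X) (q : Y ⟶ S) (hq : g ≫ f = q) :
    ((PFH H).mapComp' f.op.toLoc g.op.toLoc q.op.toLoc (by rw [← hq]; rfl)).hom =
      CommRingCat.moduleCatExtendScalarsPseudofunctor.map₂
        (eqToHom (LocallyDiscrete.eq_of_hom
          (H.mapComp' f.op.toLoc g.op.toLoc q.op.toLoc (by rw [← hq]; rfl)).hom)) ≫
        (CommRingCat.moduleCatExtendScalarsPseudofunctor.mapComp
          (H.map f.op.toLoc) (H.map g.op.toLoc)).hom := by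
  rw [comp_mapComp'_hom]
  congr 2
  exact Subsingleton.elim _ _

end Bridge

section Bridge2

lemma key {X Y Z : LocallyDiscrete CommRingCat.{u}} (φ : X ⟶ Y) (ψ : Y ⟶ Z) (θ : X ⟶ Z)
    (e : θ = φ ≫ ψ)
    (η₂ : CommRingCat.moduleCatExtendScalarsPseudofunctor.{u}.map θ ⟶ CommRingCat.moduleCatExtendScalarsPseudofunctor.{u}.map φ ≫ CommRingCat.moduleCatExtendScalarsPseudofunctor.{u}.map ψ)
    (hη₂ : η₂ = CommRingCat.moduleCatExtendScalarsPseudofunctor.{u}.map₂ (eqToHom e) ≫ (CommRingCat.moduleCatExtendScalarsPseudofunctor.{u}.mapComp φ ψ).hom)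
    (η : ModuleCat.extendScalars θ.as.hom ⟶
      ModuleCat.extendScalars φ.as.hom ⋙ ModuleCat.extendScalars ψ.as.hom)
    (hη : η = η₂.toNatTrans) (M : ModuleCat.{u} X.as) (m : M) :
    (η.app M).hom (tm θ.as.hom M 1 m) = tm ψ.as.hom _ 1 (tm φ.as.hom M 1 m) := by
  subst hη hη₂
  exact PF_comp_tm φ ψ θ e M m

/-- Constructor for `CompIso` from an iso whose `hom` is a known natural transformation. -/
noncomputable def CompIso.mk' {A B T : Type u} [CommRing A] [CommRing B] [CommRing T]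
    {φ : A →+* B} {θ : A →+* T} {γ : B →+* T}
    (iso : ModuleCat.extendScalars θ ≅ ModuleCat.extendScalars φ ⋙ ModuleCat.extendScalars γ)
    (η : ModuleCat.extendScalars θ ⟶ ModuleCat.extendScalars φ ⋙ ModuleCat.extendScalars γ)
    (h1 : iso.hom = η)
    (h2 : ∀ (P : ModuleCat.{u} A) (p : P),
      (η.app P).hom (tm θ P 1 p) = tm γ ((ModuleCat.extendScalars φ).obj P) 1 (tm φ P 1 p)) :
    CompIso φ θ γ where
  iso := iso
  one := by subst h1; exact h2

variable {C : Type v} [Category.{w} C]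
  (H : Pseudofunctor (LocallyDiscrete Cᵒᵖ) (LocallyDiscrete CommRingCat.{u}))

section
variable {Y X S : C} (f : X ⟶ S) (g : Y ⟶ X) (q : Y ⟶ S) (hq : g ≫ f = q)

/-- The composition 2-cell of `PFH H`, as a natural transformation of extension-of-scalars functors. -/
noncomputable def etaHom :
    ModuleCat.extendScalars (H.map q.op.toLoc).as.hom ⟶
      ModuleCat.extendScalars (H.map f.op.toLoc).as.hom ⋙
        ModuleCat.extendScalars (H.map g.op.toLoc).as.hom :=
  ((PFH H).mapComp' f.op.toLoc g.op.toLoc q.op.toLoc (by rw [← hq]; rfl)).hom.toNatTrans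

/-- The inverse composition 2-cell of `PFH H`. -/
noncomputable def etaInv :
    ModuleCat.extendScalars (H.map f.op.toLoc).as.hom ⋙
        ModuleCat.extendScalars (H.map g.op.toLoc).as.hom ⟶
      ModuleCat.extendScalars (H.map q.op.toLoc).as.hom :=
  ((PFH H).mapComp' f.op.toLoc g.op.toLoc q.op.toLoc (by rw [← hq]; rfl)).inv.toNatTrans

lemma etaHom_eq : etaHom H f g q hq =
    ((PFH H).mapComp' f.op.toLoc g.op.toLoc q.op.toLoc (by rw [← hq]; rfl)).hom.toNatTrans := rfl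

lemma etaInv_eq : etaInv H f g q hq =
    ((PFH H).mapComp' f.op.toLoc g.op.toLoc q.op.toLoc (by rw [← hq]; rfl)).inv.toNatTrans := rfl

lemma etaHom_inv : etaHom H f g q hq ≫ etaInv H f g q hq = 𝟙 _ := by
  rw [etaHom_eq, etaInv_eq]
  exact Cat.Hom.hom_inv_id_toNatTrans _

lemma etaInv_hom : etaInv H f g q hq ≫ etaHom H f g q hq = 𝟙 _ := by
  rw [etaHom_eq, etaInv_eq]
  exact Cat.Hom.inv_hom_id_toNatTrans _

lemma etaHom_tm (M : ModuleCat.{u} (H.obj ⟨op S⟩).as) (m : M) :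
    ((etaHom H f g q hq).app M).hom (tm (H.map q.op.toLoc).as.hom M 1 m) =
      tm (H.map g.op.toLoc).as.hom ((ModuleCat.extendScalars (H.map f.op.toLoc).as.hom).obj M) 1
        (tm (H.map f.op.toLoc).as.hom M 1 m) :=
  key (H.map f.op.toLoc) (H.map g.op.toLoc) (H.map q.op.toLoc)
    (LocallyDiscrete.eq_of_hom
          (H.mapComp' f.op.toLoc g.op.toLoc q.op.toLoc (by rw [← hq]; rfl)).hom)
    ((PFH H).mapComp' f.op.toLoc g.op.toLoc q.op.toLoc (by rw [← hq]; rfl)).hom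
    (PFH_mapComp'_hom H f g q hq)
    (etaHom H f g q hq) (etaHom_eq H f g q hq) M m

/-- The composition isomorphism of `PFH H` as an iso of extension-of-scalars functors. -/
noncomputable def isoDef :
    ModuleCat.extendScalars (H.map q.op.toLoc).as.hom ≅
      ModuleCat.extendScalars (H.map f.op.toLoc).as.hom ⋙
        ModuleCat.extendScalars (H.map g.op.toLoc).as.hom where
  hom := etaHom H f g q hq
  inv := etaInv H f g q hq
  hom_inv_id := etaHom_inv H f g q hq
  inv_hom_id := etaInv_hom H f g q hq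

/-- The composition isomorphism of `PFH H`, packaged as a `CompIso`. -/
noncomputable def compIso :
    CompIso (H.map f.op.toLoc).as.hom (H.map q.op.toLoc).as.hom (H.map g.op.toLoc).as.hom :=
  CompIso.mk' (isoDef H f g q hq) (etaHom H f g q hq) rfl (etaHom_tm H f g q hq)

lemma compIso_hom : (compIso H f g q hq).iso.hom = etaHom H f g q hq := rfl

lemma compIso_inv : (compIso H f g q hq).iso.inv = etaInv H f g q hq := rfl

end


lemma rearr {D : Type*} [Category D] {Q Q' P₁ P₁' P₂ P₂' : D}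
    (h₁ : Q ⟶ P₁) (i₁ : P₁ ⟶ Q) (h₂ : Q ⟶ P₂) (i₂' : P₂' ⟶ Q') (i₁' : P₁' ⟶ Q')
    (h₂' : Q' ⟶ P₂') (a₁ : P₁ ⟶ P₁') (a₂ : P₂ ⟶ P₂')
    (hi₁ : h₁ ≫ i₁ = 𝟙 Q) (hi₂' : h₂' ≫ i₂' = 𝟙 Q')
    (comm : a₁ ≫ i₁' ≫ h₂' = (i₁ ≫ h₂) ≫ a₂) :
    h₁ ≫ a₁ ≫ i₁' = h₂ ≫ a₂ ≫ i₂' := by
  calc h₁ ≫ a₁ ≫ i₁' = h₁ ≫ (a₁ ≫ i₁' ≫ h₂') ≫ i₂' := by
        simp only [Category.assoc, hi₂', Category.comp_id]
    _ = h₁ ≫ ((i₁ ≫ h₂) ≫ a₂) ≫ i₂' := by rw [comm]
    _ = (h₁ ≫ i₁) ≫ h₂ ≫ a₂ ≫ i₂' := by simp only [Category.assoc]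
    _ = h₂ ≫ a₂ ≫ i₂' := by rw [hi₁, Category.id_comp]

lemma hψ_aux {D : Type*} [Category D] {Q Q' P₁ P₁' P₂ P₂' : D}
    {H₁ k₁ : Q ⟶ P₁} {I₁ : P₁ ⟶ Q} {H₂ k₂ : Q ⟶ P₂} {I₂' j₂' : P₂' ⟶ Q'}
    {I₁' j₁' : P₁' ⟶ Q'} {H₂' : Q' ⟶ P₂'} {a₁ b₁ : P₁ ⟶ P₁'} {a₂ b₂ : P₂ ⟶ P₂'}
    (hi₁ : H₁ ≫ I₁ = 𝟙 Q) (hi₂' : H₂' ≫ I₂' = 𝟙 Q')
    (comm : a₁ ≫ I₁' ≫ H₂' = (I₁ ≫ H₂) ≫ a₂)
    (ek₁ : k₁ = H₁) (ej₁' : j₁' = I₁') (ek₂ : k₂ = H₂) (ej₂' : j₂' = I₂')
    (eb₁ : b₁ = a₁) (eb₂ : b₂ = a₂) :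
    k₁ ≫ b₁ ≫ j₁' = k₂ ≫ b₂ ≫ j₂' := by
  subst ek₁ ej₁' ek₂ ej₂' eb₁ eb₂
  exact rearr _ _ _ _ _ _ _ _ hi₁ hi₂' comm


end Bridge2

section Descent

universe t

variable {C : Type v} [Category.{w} C]
  (H : Pseudofunctor (LocallyDiscrete Cᵒᵖ) (LocallyDiscrete CommRingCat.{u}))

section Generic

variable (F : Pseudofunctor (LocallyDiscrete Cᵒᵖ) Cat.{u, u + 1})
variable {Y X S : C} (f : X ⟶ S) (g₁ g₂ : Y ⟶ X) (q : Y ⟶ S) (h₁ : g₁ ≫ f = q) (h₂ : g₂ ≫ f = q)

/-- Generic criterion: the functor to descent data (for a one-member family) is bijective on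
`Hom(M, N)` if pullback along `f` is injective on `Hom(M, N)` and every morphism between the
pullbacks compatible with the two further pullbacks comes from `Hom(M, N)`. -/
theorem bijective_toDescentData_map_of (M N : F.obj ⟨op S⟩)
    (hinj : ∀ χ χ' : M ⟶ N, (F.map f.op.toLoc).toFunctor.map χ = (F.map f.op.toLoc).toFunctor.map χ' →
      χ = χ')
    (hsurj : ∀ ψ : (F.map f.op.toLoc).toFunctor.obj M ⟶ (F.map f.op.toLoc).toFunctor.obj N,
      (F.mapComp' f.op.toLoc g₁.op.toLoc q.op.toLoc (by rw [← h₁]; rfl)).hom.toNatTrans.app M ≫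
        (F.map g₁.op.toLoc).toFunctor.map ψ ≫
        (F.mapComp' f.op.toLoc g₁.op.toLoc q.op.toLoc (by rw [← h₁]; rfl)).inv.toNatTrans.app N =
      (F.mapComp' f.op.toLoc g₂.op.toLoc q.op.toLoc (by rw [← h₂]; rfl)).hom.toNatTrans.app M ≫
        (F.map g₂.op.toLoc).toFunctor.map ψ ≫
        (F.mapComp' f.op.toLoc g₂.op.toLoc q.op.toLoc (by rw [← h₂]; rfl)).inv.toNatTrans.app N →
      ∃ χ : M ⟶ N, (F.map f.op.toLoc).toFunctor.map χ = ψ) :
    Function.Bijective (fun χ : M ⟶ N => (F.toDescentData (fun _ : PUnit.{t + 1} => f)).map χ) := by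
  constructor
  · intro χ χ' h
    apply hinj
    exact congrArg (fun Φ => Pseudofunctor.DescentData.Hom.hom Φ PUnit.unit) h
  · intro Ψ
    have hc := Ψ.comm q (i₁ := PUnit.unit) (i₂ := PUnit.unit) g₁ g₂ h₁ h₂
    obtain ⟨χ, hχ⟩ := hsurj (Ψ.hom PUnit.unit) (by
      refine rearr _ _ _ _ _ _ _ _
        (Cat.Hom.hom_inv_id_toNatTrans_app
          (F.mapComp' f.op.toLoc g₁.op.toLoc q.op.toLoc (by rw [← h₁]; rfl)) M)
        (Cat.Hom.hom_inv_id_toNatTrans_app
          (F.mapComp' f.op.toLoc g₂.op.toLoc q.op.toLoc (by rw [← h₂]; rfl)) N) ?_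
      exact hc)
    refine ⟨χ, ?_⟩
    apply Pseudofunctor.DescentData.hom_ext
    rintro ⟨⟩
    exact hχ

end Generic

lemma eq_transport {D : Type*} [Category D] {Q P₁ P₁' Q' P₂ P₂' : D}
    {H₁ k₁ : Q ⟶ P₁} {a₁ b₁ : P₁ ⟶ P₁'} {I₁ j₁ : P₁' ⟶ Q'}
    {H₂ k₂ : Q ⟶ P₂} {a₂ b₂ : P₂ ⟶ P₂'} {I₂ j₂ : P₂' ⟶ Q'}
    (h : H₁ ≫ a₁ ≫ I₁ = H₂ ≫ a₂ ≫ I₂)
    (ek₁ : k₁ = H₁) (eb₁ : b₁ = a₁) (ej₁ : j₁ = I₁) (ek₂ : k₂ = H₂) (eb₂ : b₂ = a₂)
    (ej₂ : j₂ = I₂) :
    k₁ ≫ b₁ ≫ j₁ = k₂ ≫ b₂ ≫ j₂ := by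
  subst ek₁ eb₁ ej₁ ek₂ eb₂ ej₂
  exact h

section Inst
variable {Y X S : C} (f : X ⟶ S) (g₁ g₂ : Y ⟶ X) (q : Y ⟶ S) (h₁ : g₁ ≫ f = q) (h₂ : g₂ ≫ f = q)

lemma hinj_PFH (hφ : Function.Injective (H.map f.op.toLoc).as.hom)
    (M N : ModuleCat.{u} (H.obj ⟨op S⟩).as) [Module.Finite (H.obj ⟨op S⟩).as N]
    [Module.Projective (H.obj ⟨op S⟩).as N]
    (χ χ' : (M : (PFH H).obj ⟨op S⟩) ⟶ N)
    (h : ((PFH H).map f.op.toLoc).toFunctor.map χ = ((PFH H).map f.op.toLoc).toFunctor.map χ') :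
    χ = χ' :=
  map_injective_abs hφ M N χ χ' h


lemma hsurj_PFH (hφ : Function.Injective (H.map f.op.toLoc).as.hom)
    (heq : ∀ b, (H.map g₁.op.toLoc).as.hom b = (H.map g₂.op.toLoc).as.hom b →
      ∃ a, (H.map f.op.toLoc).as.hom a = b)
    (M N : ModuleCat.{u} (H.obj ⟨op S⟩).as) [Module.Finite (H.obj ⟨op S⟩).as N]
    [Module.Projective (H.obj ⟨op S⟩).as N]
    (ψ : ((PFH H).map f.op.toLoc).toFunctor.obj (M : (PFH H).obj ⟨op S⟩) ⟶
      ((PFH H).map f.op.toLoc).toFunctor.obj (N : (PFH H).obj ⟨op S⟩))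
    (hψ : ((PFH H).mapComp' f.op.toLoc g₁.op.toLoc q.op.toLoc (by rw [← h₁]; rfl)).hom.toNatTrans.app
          (M : (PFH H).obj ⟨op S⟩) ≫
        ((PFH H).map g₁.op.toLoc).toFunctor.map ψ ≫
        ((PFH H).mapComp' f.op.toLoc g₁.op.toLoc q.op.toLoc (by rw [← h₁]; rfl)).inv.toNatTrans.app
          (N : (PFH H).obj ⟨op S⟩) =
      ((PFH H).mapComp' f.op.toLoc g₂.op.toLoc q.op.toLoc (by rw [← h₂]; rfl)).hom.toNatTrans.app
          (M : (PFH H).obj ⟨op S⟩) ≫
        ((PFH H).map g₂.op.toLoc).toFunctor.map ψ ≫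
        ((PFH H).mapComp' f.op.toLoc g₂.op.toLoc q.op.toLoc (by rw [← h₂]; rfl)).inv.toNatTrans.app
          (N : (PFH H).obj ⟨op S⟩)) :
    ∃ χ : (M : (PFH H).obj ⟨op S⟩) ⟶ N, ((PFH H).map f.op.toLoc).toFunctor.map χ = ψ :=
  exists_map_eq_abs (compIso H f g₁ q h₁) (compIso H f g₂ q h₂) hφ heq M N ψ
    (eq_transport (D := ModuleCat.{u} (H.obj ⟨op Y⟩).as) hψ
      (congrArg (fun η => η.app M) ((compIso_hom H f g₁ q h₁).trans (etaHom_eq H f g₁ q h₁)))
      rfl
      (congrArg (fun η => η.app N) ((compIso_inv H f g₁ q h₁).trans (etaInv_eq H f g₁ q h₁)))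
      (congrArg (fun η => η.app M) ((compIso_hom H f g₂ q h₂).trans (etaHom_eq H f g₂ q h₂)))
      rfl
      (congrArg (fun η => η.app N) ((compIso_inv H f g₂ q h₂).trans (etaInv_eq H f g₂ q h₂))))

end Inst

/-- Descent of morphisms into finite projective modules for `X ↦ Mod (H X)`: if `H f` is injective
and its image is the equalizer of `H g₁`, `H g₂`, then the functor to descent data along `f` is
bijective on `Hom(M, N)` for `N` finite projective. -/
theorem bijective_toDescentData_map {Y X S : C} (f : X ⟶ S) (g₁ g₂ : Y ⟶ X)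
    (hg : g₁ ≫ f = g₂ ≫ f)
    (hφ : Function.Injective (H.map f.op.toLoc).as.hom)
    (heq : ∀ b, (H.map g₁.op.toLoc).as.hom b = (H.map g₂.op.toLoc).as.hom b →
      ∃ a, (H.map f.op.toLoc).as.hom a = b)
    (M N : ModuleCat.{u} (H.obj ⟨op S⟩).as) [Module.Finite (H.obj ⟨op S⟩).as N]
    [Module.Projective (H.obj ⟨op S⟩).as N] :
    Function.Bijective (fun χ : (M : (PFH H).obj ⟨op S⟩) ⟶ N =>
      ((PFH H).toDescentData (fun _ : PUnit.{t + 1} => f)).map χ) :=
  bijective_toDescentData_map_of (PFH H) f g₁ g₂ (g₁ ≫ f) rfl hg.symm M N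
    (hinj_PFH H f hφ M N)
    (hsurj_PFH H f g₁ g₂ (g₁ ≫ f) rfl hg.symm hφ heq M N)

/-- Variant of `bijective_toDescentData_map` in which the pseudofunctor is a variable `F`
propositionally equal to `PFH H`.  (Stating it this way lets one instantiate `F` with a constant
that merely unfolds to `PFH H` without the kernel having to compare large terms.) -/
theorem bijective_toDescentData_map' (F : Pseudofunctor (LocallyDiscrete Cᵒᵖ) Cat.{u, u + 1})
    (hF : F = PFH H) {Y X S : C} (f : X ⟶ S) (g₁ g₂ : Y ⟶ X)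
    (hg : g₁ ≫ f = g₂ ≫ f)
    (hφ : Function.Injective (H.map f.op.toLoc).as.hom)
    (heq : ∀ b, (H.map g₁.op.toLoc).as.hom b = (H.map g₂.op.toLoc).as.hom b →
      ∃ a, (H.map f.op.toLoc).as.hom a = b)
    (M N : F.obj ⟨op S⟩)
    (hN : ∃ N' : ModuleCat.{u} (H.obj ⟨op S⟩).as, HEq N N' ∧
      Module.Finite (H.obj ⟨op S⟩).as N' ∧ Module.Projective (H.obj ⟨op S⟩).as N') :
    Function.Bijective (fun χ : M ⟶ N =>
      (F.toDescentData (fun _ : PUnit.{t + 1} => f)).map χ) := by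
  subst hF
  obtain ⟨N', hN, h1, h2⟩ := hN
  have e : N = N' := eq_of_heq hN
  subst e
  have := h1
  have := h2
  exact bijective_toDescentData_map H f g₁ g₂ hg hφ heq M N

end Descent

end Groth.Agent.R2.H76.WittDesc
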