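import Groth.Agent.R2.H76WittDesc
import Groth.Prelude.Def_W4c3truncdispsmoothDesc
import Mathlib.RingTheory.TensorProduct.IncludeLeftSubRight
import Mathlib.RingTheory.Flat.FaithfullyFlat.Basic

/-!
# Descent of morphisms of finite projective modules over truncated Witt vectors

Instantiation of `Groth.Agent.R2.H76.WittDesc.bijective_toDescentData_map` at the pseudofunctor
`R ↦ Mod (W_n(R))` (`W4c3truncdispsmooth.wittModPF`): along a faithfully flat ring map `R → R'`
the functor to descent data is bijective on `Hom(M, N)` for `N` finite projective.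
-/

set_option autoImplicit false
universe u
open CategoryTheory Opposite TensorProduct

namespace Groth.Agent.R2.H76.WittDescW

open Groth.Agent.R2.H76.WittDesc

section Ring

variable (p : ℕ) [Fact p.Prime] (n : ℕ) {A B T : Type*} [CommRing A] [CommRing B] [CommRing T]

lemma truncMap_injective (f : A →+* B) (hf : Function.Injective f) :
    Function.Injective (WittGrp.truncMap p n f) := by
  intro x y h
  refine TruncatedWittVector.ext fun i => hf ?_
  rw [← WittGrp.coeff_truncMap, ← WittGrp.coeff_truncMap, h]

lemma exists_truncMap_eq (f : A →+* B) (g₁ g₂ : B →+* T)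
    (heq : ∀ b, g₁ b = g₂ b → ∃ a, f a = b) (y : TruncatedWittVector p n B)
    (h : WittGrp.truncMap p n g₁ y = WittGrp.truncMap p n g₂ y) :
    ∃ x, WittGrp.truncMap p n f x = y := by
  have h1 : ∀ i, ∃ a, f a = y.coeff i := fun i =>
    heq _ (by rw [← WittGrp.coeff_truncMap, ← WittGrp.coeff_truncMap, h])
  choose a ha using h1
  refine ⟨TruncatedWittVector.mk p a, TruncatedWittVector.ext fun i => ?_⟩
  rw [WittGrp.coeff_truncMap, TruncatedWittVector.coeff_mk, ha]

end Ring

section Eq

variable (R R' : Type u) [CommRing R] [CommRing R'] [Algebra R R'] [Module.FaithfullyFlat R R']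

lemma exists_algebraMap_eq (b : R')
    (h : (Algebra.TensorProduct.includeLeftRingHom : R' →+* R' ⊗[R] R') b =
      (Algebra.TensorProduct.includeRight : R' →ₐ[R] R' ⊗[R] R').toRingHom b) :
    ∃ a, algebraMap R R' a = b := by
  have h1 := Algebra.IsEffective.eqLocus_includeLeft_includeRight
    (Algebra.IsEffective.of_faithfullyFlat R R')
  have h2 : b ∈ (Set.range (algebraMap R R')) := by
    rw [← h1]
    exact h
  exact h2

end Eq

section Main

variable (p : ℕ) [Fact p.Prime] (n : ℕ)
  (R R' : Type u) [CommRing R] [CommRing R'] [Algebra R R'] [Module.FaithfullyFlat R R']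

/-- The pseudofunctor `R ↦ W_n(R)` of rings underlying `wittModPF`. -/
noncomputable abbrev HW :
    Pseudofunctor (LocallyDiscrete (CommRingCat.{u}ᵒᵖ)ᵒᵖ) (LocallyDiscrete CommRingCat.{u}) :=
  ((unopUnop CommRingCat.{u}) ⋙ W4c3truncdispsmooth.wittTrunc p n).toPseudofunctor

omit [Module.FaithfullyFlat R R'] in
lemma witt_hg : (CommRingCat.ofHom
        (Algebra.TensorProduct.includeLeftRingHom : R' →+* R' ⊗[R] R')).op ≫
      (CommRingCat.ofHom (algebraMap R R')).op =
      (CommRingCat.ofHom
        (Algebra.TensorProduct.includeRight : R' →ₐ[R] R' ⊗[R] R').toRingHom).op ≫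
      (CommRingCat.ofHom (algebraMap R R')).op := by
  rw [← op_comp, ← op_comp]
  congr 1
  ext a
  simp only [CommRingCat.hom_comp, CommRingCat.hom_ofHom, RingHom.coe_comp, Function.comp_apply,
    Algebra.TensorProduct.includeLeftRingHom_apply, AlgHom.toRingHom_eq_coe, RingHom.coe_coe,
    Algebra.TensorProduct.includeRight_apply]
  rw [Algebra.algebraMap_eq_smul_one, TensorProduct.smul_tmul]

lemma witt_hφ : Function.Injective (WittGrp.truncMap p n (algebraMap R R')) :=
  truncMap_injective p n _ (FaithfulSMul.algebraMap_injective R R')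

lemma witt_heq : ∀ b, WittGrp.truncMap p n
        (Algebra.TensorProduct.includeLeftRingHom : R' →+* R' ⊗[R] R') b =
      WittGrp.truncMap p n
        (Algebra.TensorProduct.includeRight : R' →ₐ[R] R' ⊗[R] R').toRingHom b →
      ∃ a, WittGrp.truncMap p n (algebraMap R R') a = b := fun b hb =>
  exists_truncMap_eq p n _ _ _ (exists_algebraMap_eq R R') b hb

lemma witt_hφ' : Function.Injective
    ((HW p n).map (CommRingCat.ofHom (algebraMap R R')).op.op.toLoc).as.hom :=
  witt_hφ p n R R'

lemma witt_heq' : ∀ b,
    ((HW p n).map (CommRingCat.ofHom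
      (Algebra.TensorProduct.includeLeftRingHom : R' →+* R' ⊗[R] R')).op.op.toLoc).as.hom b =
    ((HW p n).map (CommRingCat.ofHom
      (Algebra.TensorProduct.includeRight : R' →ₐ[R] R' ⊗[R] R').toRingHom).op.op.toLoc).as.hom b →
    ∃ a, ((HW p n).map (CommRingCat.ofHom (algebraMap R R')).op.op.toLoc).as.hom a = b :=
  witt_heq p n R R'


/-- Along a faithfully flat ring map `R → R'`, the functor from `W_n(R)`-modules to descent data
of `W_n(R')`-modules is bijective on `Hom(M, N)` for `N` finite projective. -/
theorem witt_bijective (M N : ModuleCat.{u} (TruncatedWittVector p n R))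
    [Module.Finite (TruncatedWittVector p n R) N]
    [Module.Projective (TruncatedWittVector p n R) N] :
    Function.Bijective (fun φ : M ⟶ N =>
      ((W4c3truncdispsmooth.wittModPF.{u} p n).toDescentData
        (fun _ : PUnit.{u + 1} => (CommRingCat.ofHom (algebraMap R R')).op)).map φ) :=
  bijective_toDescentData_map' (HW p n) (C := CommRingCat.{u}ᵒᵖ)
    (W4c3truncdispsmooth.wittModPF.{u} p n) rfl
    (CommRingCat.ofHom (algebraMap R R')).op
    (CommRingCat.ofHom (Algebra.TensorProduct.includeLeftRingHom : R' →+* R' ⊗[R] R')).op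
    (CommRingCat.ofHom (Algebra.TensorProduct.includeRight : R' →ₐ[R] R' ⊗[R] R').toRingHom).op
    (witt_hg R R') (witt_hφ' p n R R') (witt_heq' p n R R') M N
    ⟨N, HEq.rfl, ‹Module.Finite (TruncatedWittVector p n R) N›,
      ‹Module.Projective (TruncatedWittVector p n R) N›⟩

end Main


end Groth.Agent.R2.H76.WittDescW
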