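import Mathlib

/-!
# ACC for ideal sheaves on a Noetherian scheme (helper77)
-/

set_option autoImplicit false
set_option linter.unusedSectionVars false
set_option linter.unusedVariables false
set_option linter.style.haveILetI false

open AlgebraicGeometry CategoryTheory

namespace Groth.Agent.R2.H77.IdealACC

universe u

/-- Ideal sheaves on a Noetherian scheme satisfy the ascending chain condition. -/
theorem wellFoundedGT_idealSheafData (X : Scheme.{u}) [IsNoetherian X] :
    WellFoundedGT X.IdealSheafData := by
  rw [wellFoundedGT_iff_monotone_chain_condition]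
  intro a
  obtain ⟨s, hs, hcov⟩ := isCompact_iff_finite_and_eq_biUnion_affineOpens.mp
    (show IsCompact (X := X) ((⊤ : X.Opens) : Set X) from isCompact_univ)
  haveI : Finite s := hs.to_subtype
  have hst : ∀ U : s, ∃ n, ∀ m, n ≤ m → (a n).ideal U.1 = (a m).ideal U.1 := by
    intro U
    haveI : IsNoetherianRing Γ(X, U.1.1) := IsLocallyNoetherian.component_noetherian U.1
    exact monotone_stabilizes_iff_noetherian.mpr inferInstance
      ⟨fun n => (a n).ideal U.1, fun i j hij =>
        Scheme.IdealSheafData.ideal_mono (a.monotone hij) U.1⟩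
  choose n hn using hst
  cases nonempty_fintype s
  refine ⟨Finset.univ.sup n, fun m hm => ?_⟩
  refine Scheme.IdealSheafData.ext_of_iSup_eq_top (fun U : s => U.1) ?_ (fun U => ?_)
  · rw [hcov, iSup_subtype]
  · rw [← hn U _ (Finset.le_sup (Finset.mem_univ U)),
      ← hn U m (le_trans (Finset.le_sup (Finset.mem_univ U)) hm)]

end Groth.Agent.R2.H77.IdealACC
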