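import Mathlib
import Groth.Prelude.Def_EndRing
import Groth.Agent.R2.H77IdealACC

/-!
# Helper for S16394 (helper77): finitely many homomorphisms separate points when all of them do.
-/

set_option autoImplicit false
set_option linter.unusedSectionVars false
set_option linter.unusedVariables false
set_option linter.style.haveILetI false

open CategoryTheory CategoryTheory.Limits MonoidalCategory CartesianMonoidalCategory MonObj GrpObj
  AlgebraicGeometry

namespace Groth.Agent.R2.H77.AbVarKer

universe u

variable {S : Scheme.{u}} {X A : Over S} [GrpObj A]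

/-- The unit section of a separated group scheme is a closed immersion. -/
theorem isClosedImmersion_unit [IsSeparated A.hom] : IsClosedImmersion (η[A]).left := by
  have h : (η[A]).left ≫ A.hom = 𝟙 S := Over.w (η[A])
  haveI : IsClosedImmersion ((η[A]).left ≫ A.hom) := by
    rw [h]
    exact inferInstanceAs (IsClosedImmersion (𝟙 S))
  exact IsClosedImmersion.of_comp (η[A]).left A.hom

/-- The ideal sheaf of the kernel of `f`. -/
noncomputable def kerI (f : X ⟶ A) : X.left.IdealSheafData :=
  (pullback.fst f.left (η[A]).left).ker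

theorem kerI_le_iff [IsSeparated A.hom] (f : X ⟶ A) {T : Scheme.{u}} (t : T ⟶ X.left) :
    kerI f ≤ t.ker ↔ t ≫ f.left = (t ≫ X.hom) ≫ (η[A]).left := by
  haveI := isClosedImmersion_unit (A := A)
  have hsnd : pullback.fst f.left (η[A]).left ≫ X.hom = pullback.snd f.left (η[A]).left := by
    have h1 : (η[A]).left ≫ A.hom = 𝟙 S := Over.w (η[A])
    have h2 : f.left ≫ A.hom = X.hom := Over.w f
    rw [← h2, ← Category.assoc, pullback.condition, Category.assoc, h1]
    exact Category.comp_id _
  constructor
  · intro h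
    have hl := IsClosedImmersion.lift_fac (pullback.fst f.left (η[A]).left) t h
    rw [← hl, Category.assoc, pullback.condition, Category.assoc, Category.assoc,
      ← Category.assoc (pullback.fst f.left (η[A]).left), hsnd]
  · intro h
    have ht : pullback.lift t (t ≫ X.hom) h ≫ pullback.fst f.left (η[A]).left = t :=
      pullback.lift_fst _ _ _
    rw [kerI]
    conv_rhs => rw [← ht]
    exact Scheme.Hom.le_ker_comp _ _

/-- `z ≫ f = 1` in terms of underlying scheme morphisms. -/
theorem comp_eq_one_iff (f : X ⟶ A) {T : Over S} (z : T ⟶ X) :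
    z ≫ f = 1 ↔ z.left ≫ f.left = (z.left ≫ X.hom) ≫ (η[A]).left := by
  have hone : (1 : T ⟶ A) = toUnit T ≫ η[A] := CategoryTheory.Hom.one_def
  have hz : z.left ≫ X.hom = T.hom := Over.w z
  have hu : (toUnit T).left = T.hom := Over.toUnit_left
  constructor
  · intro h
    have := congrArg (fun g : T ⟶ A => g.left) h
    simp only [Over.comp_left] at this
    rw [this, hone, Over.comp_left, hu, hz]
  · intro h
    apply Over.OverMorphism.ext
    rw [hone, Over.comp_left, Over.comp_left, hu, h, hz]

variable [GrpObj X] [IsCommMonObj X] [IsCommMonObj A]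

theorem exists_jointly_mono [IsNoetherian X.left] [IsSeparated A.hom]
    (hsep : ∀ (T : Over S) (x : T ⟶ X), (∀ f : EndAV.Hom X A, x ≫ f.toHom = 1) → x = 1) :
    ∃ (n : ℕ) (ψ : Fin n → EndAV.Hom X A), ∀ (T : Over S) (x y : T ⟶ X),
      (∀ i, x ≫ (ψ i).toHom = y ≫ (ψ i).toHom) → x = y := by
  classical
  haveI := IdealACC.wellFoundedGT_idealSheafData X.left
  let F : Finset (EndAV.Hom X A) → X.left.IdealSheafData := fun s => s.sup (fun f => kerI f.toHom)
  obtain ⟨I, ⟨s₀, rfl⟩, hmax⟩ :=
    WellFounded.has_min (wellFounded_gt (α := X.left.IdealSheafData)) (Set.range F)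
      ⟨F ∅, Set.mem_range_self _⟩
  have hle : ∀ f : EndAV.Hom X A, kerI f.toHom ≤ F s₀ := by
    intro f
    have h1 : F s₀ ≤ F (insert f s₀) := Finset.sup_mono (Finset.subset_insert _ _)
    have h2 : ¬ F (insert f s₀) > F s₀ := hmax _ (Set.mem_range_self _)
    have h3 : F (insert f s₀) = F s₀ := by
      by_contra hne
      exact h2 (lt_of_le_of_ne h1 (Ne.symm hne))
    rw [← h3]
    exact Finset.le_sup (f := fun f : EndAV.Hom X A => kerI f.toHom) (Finset.mem_insert_self f s₀)
  refine ⟨s₀.card, fun i => (s₀.equivFin.symm i).1, ?_⟩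
  intro T x y hxy
  have hkill : ∀ f ∈ s₀, (x / y) ≫ (f : EndAV.Hom X A).toHom = 1 := by
    intro f hf
    have := hxy (s₀.equivFin ⟨f, hf⟩)
    simp only [Equiv.symm_apply_apply] at this
    rw [GrpObj.div_comp, this, div_self']
  have hF : F s₀ ≤ (x / y).left.ker := by
    apply Finset.sup_le
    intro f hf
    rw [kerI_le_iff]
    exact (comp_eq_one_iff _ _).1 (hkill f hf)
  have hz : x / y = 1 := by
    apply hsep
    intro f
    rw [comp_eq_one_iff, ← kerI_le_iff]
    exact (hle f).trans hF
  exact div_eq_one.1 hz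

end Groth.Agent.R2.H77.AbVarKer
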