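import Mathlib

/-!
# Helper for S7931 / S7938 (helper77): weak approximation for finitely many discrete valuations

`approx`: for valuations `v i : Valuation K ℤᵐ⁰` (`i` in a finite type), each having an element of
value `> 1`, and pairwise "independent" (`∀ i ≠ j, ∃ a, v i a ≤ 1 ∧ 1 < v j a`), any family
`g i ∈ K` can be simultaneously approximated: `∃ f, ∀ i, v i (f - g i) < exp (ε i)`.
-/

set_option linter.style.longLine false
set_option linter.unusedVariables false
set_option linter.unusedSectionVars false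

universe u

open WithZero Filter

namespace Groth.Agent.R2.H77.Approx

/-- In `ℤᵐ⁰`: if `x < 1` then `x ^ m * y < B` for all large `m` (`B ≠ 0`). -/
theorem eventually_pow_mul_lt (x y B : ℤᵐ⁰) (hx : x < 1) (hB : B ≠ 0) :
    ∀ᶠ m : ℕ in atTop, x ^ m * y < B := by
  have hBpos : 0 < B := zero_lt_iff.2 hB
  by_cases hx0 : x = 0
  · refine eventually_atTop.2 ⟨1, fun m hm => ?_⟩
    rw [hx0, zero_pow (by omega), zero_mul]
    exact hBpos
  by_cases hy0 : y = 0
  · refine Eventually.of_forall (fun m => ?_)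
    rw [hy0, mul_zero]
    exact hBpos
  have hlx : log x ≤ -1 := by
    have h1 : log x < 0 := by
      rw [log_lt_iff_lt_exp hx0, exp_zero]
      exact hx
    omega
  refine eventually_atTop.2 ⟨(log y - log B).toNat + 1, fun m hm => ?_⟩
  have hxm : x ^ m ≠ 0 := pow_ne_zero _ hx0
  rw [← log_lt_log (mul_ne_zero hxm hy0) hB, log_mul hxm hy0, log_pow, nsmul_eq_mul]
  have h2 : (log y - log B) ≤ ((log y - log B).toNat : ℤ) := Int.self_le_toNat _
  have h3 : (((log y - log B).toNat + 1 : ℕ) : ℤ) ≤ (m : ℤ) := by exact_mod_cast hm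
  push_cast at h3
  nlinarith

variable {K : Type u} [Field K] {ι : Type*} [Fintype ι] [DecidableEq ι]
  (v : ι → Valuation K ℤᵐ⁰)

/-- separate two valuations -/
theorem sepPair (h2 : ∀ i j, i ≠ j → ∃ a, v i a ≤ 1 ∧ 1 < v j a) (i j : ι) (hij : i ≠ j) :
    ∃ z, 1 < v i z ∧ v j z < 1 := by
  obtain ⟨a, ha1, ha2⟩ := h2 j i hij.symm  -- v j a ≤ 1, 1 < v i a
  obtain ⟨b, hb1, hb2⟩ := h2 i j hij  -- v i b ≤ 1, 1 < v j b
  have hb0 : b ≠ 0 := by
    rintro rfl
    rw [map_zero] at hb2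
    exact absurd hb2 (by simp)
  have hvib : v i b ≠ 0 := (Valuation.ne_zero_iff _).2 hb0
  have hvjb : v j b ≠ 0 := (Valuation.ne_zero_iff _).2 hb0
  refine ⟨a / b, ?_, ?_⟩
  · rw [map_div₀, lt_div_iff₀ (zero_lt_iff.2 hvib), one_mul]
    exact lt_of_le_of_lt hb1 ha2
  · rw [map_div₀, div_lt_iff₀ (zero_lt_iff.2 hvjb), one_mul]
    exact lt_of_le_of_lt ha1 hb2

theorem map_one_add_pow_of_lt {w : Valuation K ℤᵐ⁰} {z : K} (hz : w z < 1) (m : ℕ) (hm : 1 ≤ m) :
    w (1 + z ^ m) = 1 := by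
  apply Valuation.map_one_add_of_lt
  rw [map_pow]
  exact pow_lt_one₀ zero_le hz (by omega)

theorem map_one_add_pow_of_gt {w : Valuation K ℤᵐ⁰} {z : K} (hz : 1 < w z) (m : ℕ) (hm : 1 ≤ m) :
    w (1 + z ^ m) = w z ^ m := by
  have h1 : w (1 : K) < w (z ^ m) := by
    rw [map_one, map_pow]
    exact one_lt_pow₀ hz (by omega)
  rw [Valuation.map_add_eq_of_lt_right _ h1, map_pow]

/-- separate one valuation from finitely many others -/
theorem sep (h1 : ∀ i, ∃ a, 1 < v i a) (h2 : ∀ i j, i ≠ j → ∃ a, v i a ≤ 1 ∧ 1 < v j a)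
    (i : ι) (S : Finset ι) (hS : i ∉ S) : ∃ z, 1 < v i z ∧ ∀ j ∈ S, v j z < 1 := by
  induction S using Finset.induction_on with
  | empty =>
    obtain ⟨a, ha⟩ := h1 i
    exact ⟨a, ha, fun j hj => absurd hj (Finset.notMem_empty j)⟩
  | insert j₀ S hj₀ ih =>
    have hiS : i ∉ S := fun h => hS (Finset.mem_insert_of_mem h)
    have hij₀ : i ≠ j₀ := fun h => hS (h ▸ Finset.mem_insert_self _ _)
    obtain ⟨z, hz1, hz2⟩ := ih hiS
    obtain ⟨w, hw1, hw2⟩ := sepPair v h2 i j₀ hij₀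
    have hz0 : z ≠ 0 := by
      rintro rfl
      rw [map_zero] at hz1
      exact absurd hz1 (by simp)
    -- for large m, v j z ^ m * v j w < 1 for all j ∈ S
    have hev : ∀ᶠ m : ℕ in atTop, ∀ j ∈ S, v j z ^ m * v j w < 1 := by
      rw [eventually_all_finset]
      intro j hj
      exact eventually_pow_mul_lt _ _ 1 (hz2 j hj) one_ne_zero
    obtain ⟨m, hm, hm1⟩ := (hev.and (eventually_ge_atTop 1)).exists
    by_cases hcase : v j₀ z ≤ 1
    · refine ⟨z ^ m * w, ?_, ?_⟩
      · rw [map_mul, map_pow]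
        calc (1 : ℤᵐ⁰) = 1 * 1 := (one_mul 1).symm
          _ < v i z ^ m * v i w := mul_lt_mul'' (one_lt_pow₀ hz1 (by omega)) hw1 zero_le zero_le
      · intro j hj
        rw [map_mul, map_pow]
        rcases Finset.mem_insert.1 hj with rfl | hjS
        · calc v j z ^ m * v j w ≤ 1 * v j w :=
                mul_le_mul_left (pow_le_one₀ zero_le hcase) _
            _ = v j w := one_mul _
            _ < 1 := hw2
        · exact hm j hjS
    · push Not at hcase
      have hne : (1 : K) + z ^ m ≠ 0 := by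
        intro h0
        have := map_one_add_pow_of_gt hz1 m hm1
        rw [h0, map_zero] at this
        exact absurd this.symm (pow_ne_zero _ ((Valuation.ne_zero_iff _).2 hz0))
      refine ⟨z ^ m * w / (1 + z ^ m), ?_, ?_⟩
      · rw [map_div₀, map_mul, map_pow, map_one_add_pow_of_gt hz1 m hm1,
          mul_div_cancel_left₀ _ (pow_ne_zero _ ((Valuation.ne_zero_iff _).2 hz0))]
        exact hw1
      · intro j hj
        rcases Finset.mem_insert.1 hj with rfl | hjS
        · rw [map_div₀, map_mul, map_pow, map_one_add_pow_of_gt hcase m hm1,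
            mul_div_cancel_left₀ _ (pow_ne_zero _ ((Valuation.ne_zero_iff _).2 hz0))]
          exact hw2
        · rw [map_div₀, map_mul, map_pow, map_one_add_pow_of_lt (hz2 j hjS) m hm1, div_one]
          exact hm j hjS

/-- approximate idempotents -/
theorem idem (h1 : ∀ i, ∃ a, 1 < v i a) (h2 : ∀ i j, i ≠ j → ∃ a, v i a ≤ 1 ∧ 1 < v j a)
    (i : ι) (B : ℤᵐ⁰) (hB : B ≠ 0) :
    ∃ e, v i (e - 1) < B ∧ ∀ j, j ≠ i → v j e < B := by
  obtain ⟨z, hz1, hz2⟩ := sep v h1 h2 i (Finset.univ.erase i) (Finset.notMem_erase i _)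
  have hz0 : z ≠ 0 := by
    rintro rfl
    rw [map_zero] at hz1
    exact absurd hz1 (by simp)
  have hviz : v i z ≠ 0 := (Valuation.ne_zero_iff _).2 hz0
  have hev : ∀ᶠ m : ℕ in atTop, ∀ j ∈ Finset.univ.erase i, v j z ^ m * 1 < B := by
    rw [eventually_all_finset]
    intro j hj
    exact eventually_pow_mul_lt _ _ B (hz2 j hj) hB
  have hevi : ∀ᶠ m : ℕ in atTop, (v i z)⁻¹ ^ m * 1 < B :=
    eventually_pow_mul_lt _ _ B (inv_lt_one_of_one_lt₀ hz1) hB
  obtain ⟨m, ⟨hm, hmi⟩, hm1⟩ := ((hev.and hevi).and (eventually_ge_atTop 1)).exists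
  have hne : (1 : K) + z ^ m ≠ 0 := by
    intro h0
    have := map_one_add_pow_of_gt hz1 m hm1
    rw [h0, map_zero] at this
    exact absurd this.symm (pow_ne_zero _ hviz)
  refine ⟨z ^ m / (1 + z ^ m), ?_, ?_⟩
  · have h3 : z ^ m / (1 + z ^ m) - 1 = -(1 / (1 + z ^ m)) := by
      field_simp
      ring
    rw [h3, Valuation.map_neg, map_div₀, map_one, map_one_add_pow_of_gt hz1 m hm1, one_div,
      ← inv_pow]
    simpa using hmi
  · intro j hj
    have hjm : j ∈ Finset.univ.erase i := Finset.mem_erase.2 ⟨hj, Finset.mem_univ j⟩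
    rw [map_div₀, map_pow, map_one_add_pow_of_lt (hz2 j hjm) m hm1, div_one]
    simpa using hm j hjm

/-- **Weak approximation.** -/
theorem approx (h1 : ∀ i, ∃ a, 1 < v i a) (h2 : ∀ i j, i ≠ j → ∃ a, v i a ≤ 1 ∧ 1 < v j a)
    (g : ι → K) (ε : ι → ℤ) : ∃ f : K, ∀ i, v i (f - g i) < exp (ε i) := by
  -- a uniform bound `B`
  have hev : ∀ᶠ m : ℕ in atTop, ∀ i j : ι, (exp (-1 : ℤ)) ^ m * v i (g j) < exp (ε i) := by
    rw [eventually_all]
    intro i
    rw [eventually_all]
    intro j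
    exact eventually_pow_mul_lt _ _ _ (by rw [← exp_zero, exp_lt_exp]; omega) exp_ne_zero
  obtain ⟨m, hm⟩ := hev.exists
  set B : ℤᵐ⁰ := (exp (-1 : ℤ)) ^ m with hBdef
  have hB : B ≠ 0 := pow_ne_zero _ exp_ne_zero
  choose e he1 he2 using fun i => idem v h1 h2 i B hB
  refine ⟨∑ j, e j * g j, fun i => ?_⟩
  have hsplit : ∑ j, e j * g j - g i = (e i - 1) * g i + ∑ j ∈ Finset.univ.erase i, e j * g j := by
    rw [← Finset.add_sum_erase Finset.univ (fun j => e j * g j) (Finset.mem_univ i)]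
    ring
  rw [hsplit]
  apply Valuation.map_add_lt
  · rw [map_mul]
    calc v i (e i - 1) * v i (g i) ≤ B * v i (g i) := mul_le_mul_left (he1 i).le _
      _ < exp (ε i) := hm i i
  · apply Valuation.map_sum_lt _ exp_ne_zero
    intro j hj
    rw [map_mul]
    calc v i (e j) * v i (g j) ≤ B * v i (g j) :=
          mul_le_mul_left (he2 j i (Finset.ne_of_mem_erase hj).symm).le _
      _ < exp (ε i) := hm i j

end Groth.Agent.R2.H77.Approx
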