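import Mathlib
import Groth.Agent.R2.H77Approx

/-!
# Helper for S7931 / S7938 (helper77): approximation theorem for finitely many distinct discrete
valuation subrings of a field.
-/

set_option linter.style.longLine false
set_option linter.unusedVariables false
set_option linter.unusedSectionVars false

universe u

open WithZero Filter IsDedekindDomain IsDedekindDomain.HeightOneSpectrum

namespace Groth.Agent.R2.H77.ApproxDVR

open Groth.Agent.R2.H77.Approx

section single

variable {K : Type u} [Field K] (A : ValuationSubring K) [IsDiscreteValuationRing A]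

/-- the normalised discrete valuation attached to a DVR valuation subring -/
noncomputable def val : Valuation K ℤᵐ⁰ :=
  (IsDiscreteValuationRing.maximalIdeal A).valuation K

theorem val_le_one_iff (x : K) : val A x ≤ 1 ↔ x ∈ A := by
  constructor
  · intro h
    obtain ⟨a, rfl⟩ := IsDiscreteValuationRing.exists_lift_of_le_one h
    exact a.2
  · intro hx
    exact valuation_le_one (IsDiscreteValuationRing.maximalIdeal A) (⟨x, hx⟩ : A)

theorem exists_uniformizer : ∃ π : K, val A π = exp (-1 : ℤ) :=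
  valuation_exists_uniformizer K (IsDiscreteValuationRing.maximalIdeal A)

theorem exists_val_gt_one : ∃ a, 1 < val A a := by
  obtain ⟨π, hπ⟩ := exists_uniformizer A
  refine ⟨π⁻¹, ?_⟩
  rw [map_inv₀, hπ, ← exp_neg, neg_neg, ← exp_zero, exp_lt_exp]
  exact one_pos

theorem val_irreducible (ϖ : A) (h : Irreducible ϖ) : val A (ϖ : K) = exp (-1 : ℤ) := by
  have h1 : val A (ϖ : K) = (IsDiscreteValuationRing.maximalIdeal A).intValuation ϖ :=
    valuation_of_algebraMap (K := K) (IsDiscreteValuationRing.maximalIdeal A) ϖ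
  rw [h1]
  exact intValuation_singleton _ h.ne_zero h.maximalIdeal_eq

theorem exists_unit_of_val_eq (x y : K) (h : val A x = val A y) :
    ∃ u : Aˣ, ((u : A) : K) * x = y := by
  obtain ⟨u, hu⟩ := IsDiscreteValuationRing.associated_of_valuation_eq (A := A) x y h
  exact ⟨u, hu⟩

end single

section pair

variable {K : Type u} [Field K] (A B : ValuationSubring K) [IsDiscreteValuationRing A]
  [IsDiscreteValuationRing B]

/-- Two distinct DVR valuation subrings are incomparable. -/
theorem exists_mem_notMem (hAB : A ≠ B) : ∃ a, val A a ≤ 1 ∧ 1 < val B a := by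
  by_contra hcon
  push Not at hcon
  have hle : A ≤ B := fun a ha => (val_le_one_iff B a).1 (hcon a ((val_le_one_iff A a).2 ha))
  apply hAB
  refine le_antisymm hle (fun x hx => ?_)
  by_contra hxA
  have hx1 : 1 < val A x := by
    rw [← not_le, val_le_one_iff]
    exact hxA
  have hx0 : x ≠ 0 := by
    rintro rfl
    exact hxA (zero_mem _)
  -- then every element of K lies in B
  have hall : ∀ y : K, y ∈ B := by
    intro y
    have hev : ∀ᶠ m : ℕ in atTop, (val A x)⁻¹ ^ m * val A y < exp (1 : ℤ) :=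
      eventually_pow_mul_lt _ _ _ (inv_lt_one_of_one_lt₀ hx1) exp_ne_zero
    obtain ⟨m, hm⟩ := hev.exists
    have h1 : val A ((x⁻¹) ^ m * y) ≤ 1 := by
      rw [map_mul, map_pow, map_inv₀]
      have h2 : (val A x)⁻¹ ^ m * val A y < exp (0 + 1 : ℤ) := by simpa using hm
      by_cases h0 : (val A x)⁻¹ ^ m * val A y = 0
      · rw [h0]; exact zero_le
      · rw [← log_lt_iff_lt_exp h0, Int.lt_add_one_iff, log_le_iff_le_exp h0, exp_zero] at h2
        exact h2
    have h3 : (x⁻¹) ^ m * y ∈ B := hle ((val_le_one_iff A _).1 h1)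
    have h4 : y = x ^ m * ((x⁻¹) ^ m * y) := by
      rw [← mul_assoc, ← mul_pow, mul_inv_cancel₀ hx0, one_pow, one_mul]
    rw [h4]
    exact mul_mem (pow_mem hx m) h3
  obtain ⟨π, hπ⟩ := exists_uniformizer B
  have h5 : val B π⁻¹ ≤ 1 := (val_le_one_iff B _).2 (hall _)
  rw [map_inv₀, hπ, ← exp_neg, neg_neg, ← exp_zero, exp_le_exp] at h5
  omega

end pair

/-- **S7931.** -/
theorem main (K : Type u) [Field K] {r : ℕ} (O : Fin r → ValuationSubring K)
    (hO : ∀ i, IsDiscreteValuationRing (O i)) (hinj : Function.Injective O)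
    (fs : Fin r → K) (n : Fin r → ℤ) :
    ∃ f : K, ∀ i : Fin r, ∃ (ϖ : O i) (_ : Irreducible ϖ) (w : (O i)ˣ),
      f - fs i = ((w : O i) : K) * ((ϖ : K) ^ (n i)) := by
  classical
  choose ϖ hϖ using fun i => (hO i).exists_irreducible
  have hval : ∀ i, @val K _ (O i) (hO i) ((ϖ i : O i) : K) = exp (-1 : ℤ) := fun i =>
    @val_irreducible K _ (O i) (hO i) (ϖ i) (hϖ i)
  obtain ⟨f, hf⟩ := approx (fun i => @val K _ (O i) (hO i))
    (fun i => @exists_val_gt_one K _ (O i) (hO i))
    (fun i j hij => @exists_mem_notMem K _ (O i) (O j) (hO i) (hO j) (fun h => hij (hinj h)))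
    (fun i => fs i + ((ϖ i : O i) : K) ^ (n i)) (fun i => - n i)
  refine ⟨f, fun i => ⟨ϖ i, hϖ i, ?_⟩⟩
  have hpow : @val K _ (O i) (hO i) (((ϖ i : O i) : K) ^ (n i)) = exp (- n i) := by
    rw [map_zpow₀, hval i, ← exp_zsmul, smul_eq_mul, mul_neg, mul_one]
  have hsum : f - fs i = (f - (fs i + ((ϖ i : O i) : K) ^ (n i))) + ((ϖ i : O i) : K) ^ (n i) := by
    ring
  have hfv : @val K _ (O i) (hO i) (f - fs i) = exp (- n i) := by
    rw [hsum, Valuation.map_add_eq_of_lt_right _ (by rw [hpow]; exact hf i), hpow]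
  obtain ⟨u, hu⟩ := @exists_unit_of_val_eq K _ (O i) (hO i) (((ϖ i : O i) : K) ^ (n i)) (f - fs i)
    (by rw [hpow, hfv])
  exact ⟨u, hu.symm⟩

end Groth.Agent.R2.H77.ApproxDVR
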