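import Mathlib
import Groth.Agent.Lib.Helper5GorEquidim
import Groth.Agent.Lib.Helper28FGDim
import Groth.Agent.Lib.Helper19SmVarB

/-!
# Cohen–Macaulay finite type algebras over a field: decomposition by height (helper77)

* `height_eq_dim_quotient`: for a maximal ideal `m` and a minimal prime `Q ≤ m` of a CM finite type
  `k`-algebra, `ht m = dim S/Q`.
* `height_map_mk_eq`: `ht (m/K) = ht m` for `K ≤ Q ≤ m`, `Q` a minimal prime.
* `main`: the product decomposition `S ≅ ∏_d T_d` with all maximal ideals of `T_d` of height `d`.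
-/

set_option autoImplicit false
universe u

namespace Groth.Agent.R2.H77.CMDecompA

variable (k S : Type u) [Field k] [CommRing S] [Algebra k S] [Algebra.FiniteType k S]
  [LocCoh.IsCohenMacaulayRing S]

theorem height_eq_height_map (Q : Ideal S) (hQ : Q ∈ minimalPrimes S) (m : Ideal S) [m.IsPrime]
    (hQm : Q ≤ m) : m.height = (m.map (Ideal.Quotient.mk Q)).height := by
  have hQp : Q.IsPrime := hQ.1.1
  have h1 := Groth.Agent.Lib.Helper5.GorUnmixed.height_eq_height_map_add_height Q m hQm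
  have h0 : Q.height = 0 := Ideal.height_eq_zero_iff.mpr hQ
  rw [h0, add_zero] at h1
  exact h1

include k in
theorem height_eq_dim_quotient (Q : Ideal S) (hQ : Q ∈ minimalPrimes S) (m : Ideal S)
    [hm : m.IsMaximal] (hQm : Q ≤ m) :
    ((m.height : ℕ∞) : WithBot ℕ∞) = ringKrullDim (S ⧸ Q) := by
  have hQp : Q.IsPrime := hQ.1.1
  have hM : (m.map (Ideal.Quotient.mk Q)).IsMaximal :=
    Ideal.IsMaximal.map_of_surjective_of_ker_le Ideal.Quotient.mk_surjective
      (by rwa [Ideal.mk_ker])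
  rw [height_eq_height_map S Q hQ m hQm]
  exact Groth.Agent.Lib.Helper28.height_eq_ringKrullDim_quotient_of_isMaximal_of_finiteType
    k S Q (m.map (Ideal.Quotient.mk Q))

theorem height_map_mk_eq (K Q m : Ideal S) (hQ : Q ∈ minimalPrimes S) [hm : m.IsPrime]
    (hKQ : K ≤ Q) (hQm : Q ≤ m) : (m.map (Ideal.Quotient.mk K)).height = m.height := by
  have hQp : Q.IsPrime := hQ.1.1
  have hKm : K ≤ m := hKQ.trans hQm
  have hp : (m.map (Ideal.Quotient.mk K)).IsPrime :=
    Ideal.map_isPrime_of_surjective Ideal.Quotient.mk_surjective (by rwa [Ideal.mk_ker])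
  have hcomap : (m.map (Ideal.Quotient.mk K)).comap (Ideal.Quotient.mk K) = m := by
    rw [Ideal.comap_map_of_surjective _ Ideal.Quotient.mk_surjective, ← RingHom.ker_eq_comap_bot,
      Ideal.mk_ker, sup_eq_left.mpr hKm]
  apply le_antisymm
  · have := Groth.Agent.Lib.Helper19.SmVar.height_le_height_comap_of_surjective
      (Ideal.Quotient.mk K) Ideal.Quotient.mk_surjective (m.map (Ideal.Quotient.mk K))
    rwa [hcomap] at this
  · rw [height_eq_height_map S Q hQ m hQm]
    have hpQ : (m.map (Ideal.Quotient.mk Q)).IsPrime :=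
      Ideal.map_isPrime_of_surjective Ideal.Quotient.mk_surjective (by rwa [Ideal.mk_ker])
    have := Groth.Agent.Lib.Helper19.SmVar.height_le_height_comap_of_surjective
      (Ideal.Quotient.factor hKQ) (Ideal.Quotient.factor_surjective hKQ)
      (m.map (Ideal.Quotient.mk Q))
    have heq : (m.map (Ideal.Quotient.mk Q)).comap (Ideal.Quotient.factor hKQ) =
        m.map (Ideal.Quotient.mk K) := by
      ext x
      obtain ⟨s, rfl⟩ := Ideal.Quotient.mk_surjective x
      rw [Ideal.mem_comap, Ideal.Quotient.factor_mk,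
        Ideal.mem_quotient_iff_mem hQm, Ideal.mem_quotient_iff_mem hKm]
    rwa [heq] at this

include k in
/-- All maximal ideals containing a given minimal prime have the same (finite) height. -/
theorem exists_nat_height_eq (Q : Ideal S) (hQ : Q ∈ minimalPrimes S) :
    ∃ n : ℕ, ∀ (m : Ideal S), m.IsMaximal → Q ≤ m → m.height = n := by
  have hNoeth : IsNoetherianRing S := inferInstance
  have hQp : Q.IsPrime := hQ.1.1
  obtain ⟨m₀, hm₀, hQm₀⟩ := Ideal.exists_le_maximal Q hQp.ne_top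
  have hfin : m₀.height ≠ ⊤ := (Ideal.height_lt_top_of_isPrime (I := m₀)).ne
  refine ⟨m₀.height.toNat, fun m hm hQm => ?_⟩
  have h1 := height_eq_dim_quotient k S Q hQ m hQm
  have h2 := height_eq_dim_quotient k S Q hQ m₀ hQm₀
  rw [← h2] at h1
  have h3 : m.height = m₀.height := by exact_mod_cast h1
  rw [h3, ENat.natCast_toNat hfin]

include k in
theorem main : ∃ (N : ℕ) (T : Fin (N + 1) → Type u) (_ : ∀ d, CommRing (T d))
    (_ : ∀ d, Algebra k (T d)),
      Nonempty (S ≃ₐ[k] ((d : Fin (N + 1)) → T d)) ∧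
        ∀ (d : Fin (N + 1)) (m : Ideal (T d)), m.IsMaximal → m.height = (d : ℕ) := by
  classical
  have hNoeth : IsNoetherianRing S := inferInstance
  have hfin : (minimalPrimes S).Finite := minimalPrimes.finite_of_isNoetherianRing S
  set P : Finset (Ideal S) := hfin.toFinset with hP
  have hmemP : ∀ Q, Q ∈ P ↔ Q ∈ minimalPrimes S := fun Q => hfin.mem_toFinset
  -- the dimension function on minimal primes
  let δ : Ideal S → ℕ := fun Q =>
    if h : Q ∈ minimalPrimes S then (exists_nat_height_eq k S Q h).choose else 0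
  have hδ : ∀ Q ∈ minimalPrimes S, ∀ (m : Ideal S), m.IsMaximal → Q ≤ m → m.height = δ Q := by
    intro Q hQ m hm hQm
    simp only [δ, dif_pos hQ]
    exact (exists_nat_height_eq k S Q hQ).choose_spec m hm hQm
  set N : ℕ := P.sup δ with hN
  have hδN : ∀ Q ∈ minimalPrimes S, δ Q < N + 1 := fun Q hQ =>
    Nat.lt_succ_of_le (Finset.le_sup (f := δ) ((hmemP Q).mpr hQ))
  let I : Fin (N + 1) → Ideal S := fun d => (P.filter (fun Q => δ Q = d)).inf id
  obtain ⟨n, hn⟩ := IsNoetherianRing.isNilpotent_nilradical S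
  let K : Fin (N + 1) → Ideal S := fun d => (I d) ^ n
  -- a maximal ideal containing `I d` contains a minimal prime of class `d`
  have hIle : ∀ (d : Fin (N + 1)) (m : Ideal S), m.IsPrime → I d ≤ m →
      ∃ Q ∈ minimalPrimes S, δ Q = d ∧ Q ≤ m := by
    intro d m hm hle
    obtain ⟨Q, hQ, hQm⟩ := (Ideal.IsPrime.inf_le' hm).mp hle
    rw [Finset.mem_filter] at hQ
    exact ⟨Q, (hmemP Q).mp hQ.1, hQ.2, hQm⟩
  have hKle : ∀ (d : Fin (N + 1)) (m : Ideal S), m.IsPrime → K d ≤ m →
      ∃ Q ∈ minimalPrimes S, δ Q = d ∧ Q ≤ m ∧ K d ≤ Q := by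
    intro d m hm hle
    have hn0 : n ≠ 0 := by
      rintro rfl
      simp only [K, pow_zero, Ideal.one_eq_top, top_le_iff] at hle
      exact hm.ne_top hle
    obtain ⟨Q, hQ, hQd, hQm⟩ := hIle d m hm (Ideal.IsPrime.le_of_pow_le hle)
    refine ⟨Q, hQ, hQd, hQm, (Ideal.pow_le_self hn0).trans ?_⟩
    exact Finset.inf_le (f := id) (Finset.mem_filter.mpr ⟨(hmemP Q).mpr hQ, hQd⟩)
  -- pairwise coprime
  have hcopI : ∀ d d' : Fin (N + 1), d ≠ d' → I d ⊔ I d' = ⊤ := by
    intro d d' hdd'
    by_contra hne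
    obtain ⟨m, hm, hle⟩ := Ideal.exists_le_maximal _ hne
    obtain ⟨Q, hQ, hQd, hQm⟩ := hIle d m hm.isPrime (le_sup_left.trans hle)
    obtain ⟨Q', hQ', hQd', hQm'⟩ := hIle d' m hm.isPrime (le_sup_right.trans hle)
    have h1 := hδ Q hQ m hm hQm
    have h2 := hδ Q' hQ' m hm hQm'
    rw [h1, hQd, hQd'] at h2
    have h3 : (d : ℕ) = d' := by exact_mod_cast h2
    exact hdd' (Fin.ext h3)
  have hcop : Pairwise (Function.onFun IsCoprime K) := by
    intro d d' hdd'
    change IsCoprime (K d) (K d')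
    rw [Ideal.isCoprime_iff_sup_eq]
    exact Ideal.pow_sup_pow_eq_top (hcopI d d' hdd')
  -- the intersection is zero
  have hinf : ⨅ d, K d = ⊥ := by
    have h1 : ∏ d, K d = ⨅ d, K d := by
      have := Ideal.prod_eq_iInf_of_pairwise_isCoprime (s := Finset.univ) (J := K)
        (fun d _ d' _ hdd' => hcop hdd')
      simpa using this
    rw [← h1]
    have h2 : ∏ d, K d = (∏ d, I d) ^ n := Finset.prod_pow _ _ _
    rw [h2, eq_bot_iff, ← Ideal.zero_eq_bot, ← hn]
    apply Ideal.pow_right_mono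
    refine Ideal.prod_le_inf.trans ?_
    rw [nilradical, ← Ideal.sInf_minimalPrimes]
    refine le_sInf fun Q hQ => ?_
    have hQ' : Q ∈ minimalPrimes S := hQ
    refine (Finset.inf_le (Finset.mem_univ (⟨δ Q, hδN Q hQ'⟩ : Fin (N + 1)))).trans ?_
    exact Finset.inf_le (f := id) (Finset.mem_filter.mpr ⟨(hmemP Q).mpr hQ', rfl⟩)
  -- the equivalence
  let e1 : S ≃+* S ⧸ ⨅ d, K d :=
    (RingEquiv.quotientBot S).symm.trans (Ideal.quotEquivOfEq hinf.symm)
  let e2 : S ≃+* ((d : Fin (N + 1)) → S ⧸ K d) :=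
    e1.trans (Ideal.quotientInfRingEquivPiQuotient K hcop)
  have he2 : ∀ (s : S) (d : Fin (N + 1)), e2 s d = Ideal.Quotient.mk (K d) s := by
    intro s d
    rfl
  refine ⟨N, fun d => S ⧸ K d, fun d => inferInstance, fun d => inferInstance,
    ⟨AlgEquiv.ofRingEquiv (f := e2) (fun x => ?_)⟩, ?_⟩
  · funext d
    rw [he2]
    rfl
  · intro d M hM
    have hMp := hM.isPrime
    set m := M.comap (Ideal.Quotient.mk (K d)) with hm
    have hmmax : m.IsMaximal := Ideal.comap_isMaximal_of_surjective _ Ideal.Quotient.mk_surjective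
    have hKm : K d ≤ m := by
      intro x hx
      rw [hm, Ideal.mem_comap, Ideal.Quotient.eq_zero_iff_mem.mpr hx]
      exact M.zero_mem
    have hMm : M = m.map (Ideal.Quotient.mk (K d)) := by
      rw [hm, Ideal.map_comap_of_surjective _ Ideal.Quotient.mk_surjective]
    obtain ⟨Q, hQ, hQd, hQm, hKQ⟩ := hKle d m hmmax.isPrime hKm
    rw [hMm, height_map_mk_eq S (K d) Q m hQ hKQ hQm, hδ Q hQ m hmmax hQm, hQd]

end Groth.Agent.R2.H77.CMDecompA
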