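import Mathlib

/-!
# Coefficients of `det (X P - Q)` lie in the lattice spanned by mixed determinants
-/

set_option autoImplicit false

namespace Groth.Agent.R2.H77.CharpolyLatticeA

open Polynomial

variable {A K : Type*} [CommRing A] [CommRing K] [Algebra A K] {ι : Type*} [Fintype ι]
  [DecidableEq ι]

/-- polynomials with all coefficients in `L`. -/
def coeffsIn (L : Submodule A K) : Submodule A K[X] where
  carrier := {p | ∀ j, p.coeff j ∈ L}
  add_mem' := fun {p q} hp hq j => by
    rw [coeff_add]; exact L.add_mem (hp j) (hq j)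
  zero_mem' := fun j => by simp
  smul_mem' := fun a p hp j => by
    rw [coeff_smul]; exact L.smul_mem a (hp j)

theorem mem_coeffsIn {L : Submodule A K} {p : K[X]} : p ∈ coeffsIn L ↔ ∀ j, p.coeff j ∈ L :=
  Iff.rfl

theorem C_mem_coeffsIn {L : Submodule A K} {d : K} (hd : d ∈ L) : C d ∈ coeffsIn L := by
  intro j
  rw [coeff_C]
  split_ifs
  · exact hd
  · exact L.zero_mem

theorem X_mul_mem_coeffsIn {L : Submodule A K} {p : K[X]} (hp : p ∈ coeffsIn L) :
    X * p ∈ coeffsIn L := by
  intro j
  cases j with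
  | zero => simp
  | succ j => rw [coeff_X_mul]; exact hp j

theorem neg_one_mul_mem_coeffsIn {L : Submodule A K} {p : K[X]} (hp : p ∈ coeffsIn L) :
    (-1 : K[X]) * p ∈ coeffsIn L := by
  rw [neg_one_mul]; exact (coeffsIn L).neg_mem hp

/-- multipliers preserving `coeffsIn L`. -/
def mult (L : Submodule A K) : Submonoid K[X] where
  carrier := {r | ∀ p ∈ coeffsIn L, r * p ∈ coeffsIn L}
  mul_mem' := fun {r r'} hr hr' p hp => by
    rw [mul_assoc]; exact hr _ (hr' _ hp)
  one_mem' := fun p hp => by rwa [one_mul]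

theorem det_expand (L : Submodule A K) (p q : ι → ι → K)
    (h : ∀ s : Finset ι, Matrix.det (Matrix.of (s.piecewise p q)) ∈ L) :
    Matrix.det (Matrix.of fun r i => X * C (p r i) - C (q r i)) ∈ coeffsIn L := by
  have e1 : (Matrix.of fun r i => X * C (p r i) - C (q r i) : Matrix ι ι K[X]) =
      (fun r => (X : K[X]) • (fun i => C (p r i))) + (fun r => (-1 : K[X]) • (fun i => C (q r i))) := by
    ext r i
    simp [sub_eq_add_neg]
  rw [Matrix.det, e1, AlternatingMap.map_add_univ]
  refine (coeffsIn L).sum_mem (fun s _ => ?_)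
  have e2 : (s.piecewise (fun r => (X : K[X]) • (fun i => C (p r i)))
      (fun r => (-1 : K[X]) • (fun i => C (q r i)))) =
      fun r => (if r ∈ s then (X : K[X]) else -1) • (fun i => C (s.piecewise p q r i)) := by
    ext r i
    by_cases hr : r ∈ s <;> simp [hr]
  rw [e2, AlternatingMap.map_smul_univ]
  have e3 : Matrix.detRowAlternating (fun r i => C (s.piecewise p q r i)) =
      C (Matrix.det (Matrix.of (s.piecewise p q))) := by
    rw [RingHom.map_det]
    rfl
  rw [e3, smul_eq_mul]
  have hm : (∏ r, if r ∈ s then (X : K[X]) else -1) ∈ mult L := by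
    refine Submonoid.prod_mem _ (fun r _ => ?_)
    split_ifs
    · exact fun p hp => X_mul_mem_coeffsIn hp
    · exact fun p hp => neg_one_mul_mem_coeffsIn hp
  exact hm _ (C_mem_coeffsIn (h s))

end Groth.Agent.R2.H77.CharpolyLatticeA
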