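import Mathlib
import Groth.Agent.R2.H77CharpolyLatticeA

/-!
# The charpoly-times-determinant identity
-/

set_option autoImplicit false

namespace Groth.Agent.R2.H77.CharpolyLatticeB

open Polynomial Groth.Agent.R2.H77.CharpolyLatticeA

variable {K V : Type*} [CommRing K] [AddCommGroup V] [Module K V] {ι : Type*} [Fintype ι]
  [DecidableEq ι] (b : Module.Basis ι K V)

/-- `charpoly f · det(x) = det (X·[x] - [f x])`. -/
theorem charpoly_mul_det [Module.Free K V] [Module.Finite K V] (f : V →ₗ[K] V) (x : ι → V) :
    f.charpoly * C (b.det x) =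
      Matrix.det (Matrix.of fun r i => X * C (b.repr (x r) i) - C (b.repr (f (x r)) i)) := by
  rw [← LinearMap.charpoly_toMatrix f b, Matrix.charpoly, Module.Basis.det_apply, RingHom.map_det,
    ← Matrix.det_mul, ← Matrix.det_transpose]
  congr 1
  refine Matrix.ext fun r i => ?_
  rw [Matrix.transpose_apply, Matrix.mul_apply, Matrix.of_apply]
  simp only [Matrix.charmatrix_apply, RingHom.mapMatrix_apply, Matrix.map_apply,
    Module.Basis.toMatrix_apply, sub_mul, Finset.sum_sub_distrib]
  refine congrArg₂ (fun a b : K[X] => a - b) ?_ ?_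
  · rw [Finset.sum_eq_single i]
    · simp
    · intro k _ hk
      rw [Matrix.diagonal_apply_ne _ hk.symm, zero_mul]
    · intro h; exact absurd (Finset.mem_univ i) h
  · have := congrFun (LinearMap.toMatrix_mulVec_repr b b f (x r)) i
    rw [← this, Matrix.mulVec, dotProduct, map_sum]
    simp [map_mul]

end Groth.Agent.R2.H77.CharpolyLatticeB
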