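import Mathlib
import Groth.Agent.R2.H77CharpolyLatticeB

/-!
# The lattice of determinants and finiteness of the algebra of charpoly coefficients
-/

set_option autoImplicit false

namespace Groth.Agent.R2.H77.CharpolyLatticeC

universe u

open Polynomial TensorProduct Groth.Agent.R2.H77.CharpolyLatticeA Groth.Agent.R2.H77.CharpolyLatticeB

variable (A : Type u) [CommRing A] (E : Type u) [AddCommGroup E] [Module A E]

/-- `e ↦ 1 ⊗ e`. -/
noncomputable def inc : E →ₗ[A] TensorProduct A (FractionRing A) E :=
  TensorProduct.mk A (FractionRing A) E 1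

variable {A E} {ι : Type*} [Fintype ι] [DecidableEq ι]
  (b : Module.Basis ι (FractionRing A) (TensorProduct A (FractionRing A) E))

/-- the lattice spanned by determinants of tuples from `E`. -/
noncomputable def lattice : Submodule A (FractionRing A) :=
  Submodule.span A (Set.range fun y : ι → E => b.det (fun i => inc A E (y i)))

theorem det_mem_lattice (y : ι → E) : b.det (fun i => inc A E (y i)) ∈ lattice b :=
  Submodule.subset_span ⟨y, rfl⟩

theorem coeff_mul_det_mem
    [Module.Free (FractionRing A) (TensorProduct A (FractionRing A) E)]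
    [Module.Finite (FractionRing A) (TensorProduct A (FractionRing A) E)]
    (v : E →ₗ[A] E) (j : ℕ) (y : ι → E) :
    ((v.baseChange (FractionRing A)).charpoly).coeff j * b.det (fun i => inc A E (y i)) ∈
      lattice b := by
  have h := charpoly_mul_det b (v.baseChange (FractionRing A)) (fun i => inc A E (y i))
  have hmem : (v.baseChange (FractionRing A)).charpoly * C (b.det (fun i => inc A E (y i))) ∈
      coeffsIn (lattice b) := by
    rw [h]
    refine det_expand (lattice b) _ _ (fun s => ?_)
    have e : (Matrix.of (s.piecewise (fun r i => b.repr (inc A E (y r)) i)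
        (fun r i => b.repr ((v.baseChange (FractionRing A)) (inc A E (y r))) i))) =
        (b.toMatrix (fun i => inc A E (s.piecewise y (fun r => v (y r)) i))).transpose := by
      refine Matrix.ext fun r i => ?_
      rw [Matrix.transpose_apply, Module.Basis.toMatrix_apply, Matrix.of_apply]
      by_cases hr : r ∈ s
      · simp [hr]
      · simp [hr, inc, LinearMap.baseChange_tmul]
    rw [e, Matrix.det_transpose, ← Module.Basis.det_apply]
    exact det_mem_lattice b _
  have := hmem j
  rwa [coeff_mul_C] at this

theorem coeff_mul_mem
    [Module.Free (FractionRing A) (TensorProduct A (FractionRing A) E)]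
    [Module.Finite (FractionRing A) (TensorProduct A (FractionRing A) E)]
    (v : E →ₗ[A] E) (j : ℕ) (l : FractionRing A) (hl : l ∈ lattice b) :
    ((v.baseChange (FractionRing A)).charpoly).coeff j * l ∈ lattice b := by
  refine Submodule.span_induction ?_ ?_ ?_ ?_ hl
  · rintro _ ⟨y, rfl⟩
    exact coeff_mul_det_mem b v j y
  · rw [mul_zero]; exact Submodule.zero_mem _
  · intro l l' _ _ h h'
    rw [mul_add]; exact Submodule.add_mem _ h h'
  · intro a l _ h
    rw [mul_smul_comm]; exact Submodule.smul_mem _ a h

/-- the stabiliser of the lattice. -/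
noncomputable def stab : Subalgebra A (FractionRing A) where
  carrier := {c | ∀ l ∈ lattice b, c * l ∈ lattice b}
  mul_mem' := fun {c c'} hc hc' l hl => by
    rw [mul_assoc]; exact hc _ (hc' _ hl)
  one_mem' := fun l hl => by rwa [one_mul]
  add_mem' := fun {c c'} hc hc' l hl => by
    rw [add_mul]; exact Submodule.add_mem _ (hc l hl) (hc' l hl)
  zero_mem' := fun l _ => by rw [zero_mul]; exact Submodule.zero_mem _
  algebraMap_mem' := fun a l hl => by
    rw [← Algebra.smul_def]; exact Submodule.smul_mem _ a hl

theorem adjoin_le_stab
    [Module.Free (FractionRing A) (TensorProduct A (FractionRing A) E)]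
    [Module.Finite (FractionRing A) (TensorProduct A (FractionRing A) E)] :
    Algebra.adjoin A {c : FractionRing A | ∃ (v : E →ₗ[A] E) (j : ℕ),
        c = ((v.baseChange (FractionRing A)).charpoly).coeff j} ≤ stab b := by
  refine Algebra.adjoin_le ?_
  rintro _ ⟨v, j, rfl⟩ l hl
  exact coeff_mul_mem b v j l hl

end Groth.Agent.R2.H77.CharpolyLatticeC
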