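import Mathlib
import Groth.Agent.R2.H77CharpolyLatticeC

/-!
# The lattice of determinants: units, denominators, and the main finiteness theorem
-/

set_option autoImplicit false

namespace Groth.Agent.R2.H77.CharpolyLatticeD

universe u

open Polynomial TensorProduct Groth.Agent.R2.H77.CharpolyLatticeC

variable {A : Type u} [CommRing A] {E : Type u} [AddCommGroup E] [Module A E]

theorem exists_smul_eq_inc (z : TensorProduct A (FractionRing A) E) :
    ∃ s : nonZeroDivisors A, ∃ e : E,
      (algebraMap A (FractionRing A) s) • z = inc A E e := by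
  induction z using TensorProduct.induction_on with
  | zero => exact ⟨1, 0, by simp⟩
  | tmul k e =>
    obtain ⟨⟨a, s⟩, h⟩ := IsLocalization.surj (nonZeroDivisors A) k
    refine ⟨s, a • e, ?_⟩
    simp only at h
    rw [TensorProduct.smul_tmul', smul_eq_mul, mul_comm, h, inc, TensorProduct.mk_apply,
      Algebra.algebraMap_eq_smul_one, TensorProduct.smul_tmul]
  | add z z' hz hz' =>
    obtain ⟨s, e, h⟩ := hz
    obtain ⟨s', e', h'⟩ := hz'
    refine ⟨s * s', (s' : A) • e + (s : A) • e', ?_⟩
    rw [smul_add, map_add, map_smul, map_smul, ← h, ← h', Submonoid.coe_mul, map_mul,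
      ← algebraMap_smul (FractionRing A) (s' : A), ← algebraMap_smul (FractionRing A) (s : A),
      smul_smul, smul_smul,
      mul_comm ((algebraMap A (FractionRing A)) (s' : A)) ((algebraMap A (FractionRing A)) (s : A))]

variable {ι : Type*} [Fintype ι] [DecidableEq ι]
  (b : Module.Basis ι (FractionRing A) (TensorProduct A (FractionRing A) E))

theorem exists_unit_mem_lattice : ∃ u : FractionRing A, IsUnit u ∧ u ∈ lattice b := by
  choose s e h using fun i => exists_smul_eq_inc (b i)
  refine ⟨∏ i, algebraMap A (FractionRing A) (s i), ?_, ?_⟩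
  · exact IsUnit.prod_univ_iff.mpr (fun i => IsLocalization.map_units (FractionRing A) (s i))
      |> fun h => by simpa using h
  · have h1 := det_mem_lattice b e
    have h2 : (fun i => inc A E (e i)) = fun i => (algebraMap A (FractionRing A) (s i)) • b i :=
      funext fun i => (h i).symm
    rw [h2, AlternatingMap.map_smul_univ, Module.Basis.det_self, smul_eq_mul, mul_one] at h1
    exact h1


/-- a common denominator for all coordinates of elements of `E`. -/
theorem exists_common_denominator [Module.Finite A E] :
    ∃ t : nonZeroDivisors A, ∀ (e : E) (i : ι),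
      algebraMap A (FractionRing A) t * b.repr (inc A E e) i ∈
        (algebraMap A (FractionRing A)).range := by
  classical
  obtain ⟨G, hG⟩ := (Module.Finite.fg_top : (⊤ : Submodule A E).FG)
  let F : Finset (FractionRing A) :=
    (G ×ˢ (Finset.univ : Finset ι)).image (fun gi => b.repr (inc A E gi.1) gi.2)
  obtain ⟨t, ht⟩ := IsLocalization.exist_integer_multiples_of_finset (nonZeroDivisors A) F
  refine ⟨t, fun e i => ?_⟩
  -- the linear map `e ↦ t * coordinate`
  let φ : E →ₗ[A] FractionRing A :=
    (algebraMap A (FractionRing A) t) •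
      (((Finsupp.lapply i : (ι →₀ FractionRing A) →ₗ[FractionRing A] FractionRing A).restrictScalars A)
        ∘ₗ (b.repr.toLinearMap.restrictScalars A) ∘ₗ inc A E)
  have hφ : ∀ e, φ e = algebraMap A (FractionRing A) t * b.repr (inc A E e) i := fun e => rfl
  have hle : (⊤ : Submodule A E) ≤ Submodule.comap φ (1 : Submodule A (FractionRing A)) := by
    rw [← hG, Submodule.span_le]
    intro g hg
    rw [SetLike.mem_coe, Submodule.mem_comap, hφ, Submodule.mem_one]
    have := ht (b.repr (inc A E g) i) (Finset.mem_image.mpr ⟨(g, i), by simpa using hg, rfl⟩)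
    obtain ⟨a, ha⟩ := this
    exact ⟨a, by rw [ha, Algebra.smul_def]⟩
  have := hle (Submodule.mem_top : e ∈ ⊤)
  rw [Submodule.mem_comap, hφ, Submodule.mem_one] at this
  obtain ⟨a, ha⟩ := this
  exact ⟨a, ha⟩

theorem exists_lattice_le_span [Module.Finite A E] :
    ∃ w : FractionRing A, lattice b ≤ Submodule.span A {w} := by
  classical
  obtain ⟨t, ht⟩ := exists_common_denominator b
  have hu : IsUnit ((algebraMap A (FractionRing A) t) ^ Fintype.card ι) :=
    (IsLocalization.map_units (FractionRing A) t).pow _
  obtain ⟨u, hu⟩ := hu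
  refine ⟨(↑u⁻¹ : FractionRing A), ?_⟩
  rw [lattice, Submodule.span_le]
  rintro _ ⟨y, rfl⟩
  rw [SetLike.mem_coe, Submodule.mem_span_singleton]
  -- integral matrix
  choose a ha using fun r i => ht (y r) i
  let PA : Matrix ι ι A := Matrix.of fun i r => a r i
  have hPA : PA.map (algebraMap A (FractionRing A)) =
      (algebraMap A (FractionRing A) t) • b.toMatrix (fun i => inc A E (y i)) := by
    refine Matrix.ext fun i r => ?_
    rw [Matrix.map_apply, Matrix.smul_apply, Module.Basis.toMatrix_apply, smul_eq_mul]
    exact ha r i
  have hdet : algebraMap A (FractionRing A) PA.det =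
      (u : FractionRing A) * b.det (fun i => inc A E (y i)) := by
    rw [RingHom.map_det, RingHom.mapMatrix_apply, hPA, Matrix.det_smul, hu,
      Module.Basis.det_apply]
  refine ⟨PA.det, ?_⟩
  rw [Algebra.smul_def, hdet, mul_comm, ← mul_assoc, Units.inv_mul, one_mul]

/-- The main theorem: the algebra generated by charpoly coefficients is a finite module. -/
theorem main [IsNoetherianRing A] [Module.Finite A E]
    [Module.Free (FractionRing A) (TensorProduct A (FractionRing A) E)] :
    (Algebra.adjoin A {c : FractionRing A | ∃ (v : E →ₗ[A] E) (j : ℕ),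
        c = ((v.baseChange (FractionRing A)).charpoly).coeff j}).toSubmodule.FG := by
  classical
  let b := Module.Free.chooseBasis (FractionRing A) (TensorProduct A (FractionRing A) E)
  obtain ⟨w, hw⟩ := exists_lattice_le_span b
  obtain ⟨u, hu, hmem⟩ := exists_unit_mem_lattice b
  have hN0 : IsNoetherian A (Submodule.span A {w}) :=
    isNoetherian_span_of_finite A (Set.finite_singleton w)
  have hN : IsNoetherian A (lattice b) := isNoetherian_of_le hw
  let φ : FractionRing A →ₗ[A] FractionRing A := LinearMap.mulRight A u
  have hφ : Function.Injective φ := by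
    intro c c' h
    exact hu.mul_left_injective h
  refine Submodule.fg_of_fg_map_injective φ hφ ?_
  refine (isNoetherian_submodule.mp hN) _ ?_
  rintro _ ⟨c, hc, rfl⟩
  exact adjoin_le_stab b hc u hmem

end Groth.Agent.R2.H77.CharpolyLatticeD
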