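import Mathlib
import Groth.Agent.Lib.Helper25NilHopf

/-!
# H77CohenCharA: facts about the prime local ring `ℤ_(p)` (`ℚ` for `p = 0`)
-/

set_option autoImplicit false
set_option linter.style.haveILetI false

namespace Groth.Agent.R2.H77.CohenCharA
open IsLocalRing

variable (p : ℕ) [hp : (Ideal.span {(p : ℤ)}).IsPrime]

theorem maximalIdeal_eq :
    maximalIdeal (Localization.AtPrime (Ideal.span {(p : ℤ)})) =
      Ideal.span {(p : Localization.AtPrime (Ideal.span {(p : ℤ)}))} := by
  rw [← Localization.AtPrime.map_eq_maximalIdeal, Ideal.map_span, Set.image_singleton]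
  congr 2
  exact (eq_intCast _ _).trans (Int.cast_natCast p)

theorem map_maximalIdeal {A : Type} [CommRing A]
    [Algebra (Localization.AtPrime (Ideal.span {(p : ℤ)})) A] :
    (maximalIdeal (Localization.AtPrime (Ideal.span {(p : ℤ)}))).map
      (algebraMap (Localization.AtPrime (Ideal.span {(p : ℤ)})) A) = Ideal.span {(p : A)} := by
  rw [maximalIdeal_eq, Ideal.map_span, Set.image_singleton, map_natCast]

theorem algebraMap_int_injective :
    Function.Injective (algebraMap ℤ (Localization.AtPrime (Ideal.span {(p : ℤ)}))) :=
  IsLocalization.injective _ (Ideal.primeCompl_le_nonZeroDivisors (Ideal.span {(p : ℤ)}))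

theorem natCast_ne_zero (hp0 : p ≠ 0) : (p : Localization.AtPrime (Ideal.span {(p : ℤ)})) ≠ 0 := by
  intro h
  have h1 : algebraMap ℤ (Localization.AtPrime (Ideal.span {(p : ℤ)})) (p : ℤ) = 0 := by
    exact ((eq_intCast _ _).trans (Int.cast_natCast p)).trans h
  have := algebraMap_int_injective p (h1.trans (map_zero _).symm)
  exact hp0 (by exact_mod_cast this)

theorem nat_prime (hp0 : p ≠ 0) : p.Prime := by
  have h1 : Prime (p : ℤ) :=
    (Ideal.span_singleton_prime (by exact_mod_cast hp0 : (p : ℤ) ≠ 0)).mp hp
  exact Nat.prime_iff_prime_int.mpr h1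

instance perfectField_residueField :
    PerfectField (ResidueField (Localization.AtPrime (Ideal.span {(p : ℤ)}))) := by
  by_cases hp0 : p = 0
  · haveI : CharZero (ResidueField (Localization.AtPrime (Ideal.span {(p : ℤ)}))) := by
      have hinj : Function.Injective
          (algebraMap ℤ (ResidueField (Localization.AtPrime (Ideal.span {(p : ℤ)})))) := by
        rw [injective_iff_map_eq_zero]
        intro n hn
        have h1 : algebraMap ℤ (Localization.AtPrime (Ideal.span {(p : ℤ)})) n ∈
            maximalIdeal (Localization.AtPrime (Ideal.span {(p : ℤ)})) := by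
          rw [← IsLocalRing.residue_eq_zero_iff]
          exact hn
        rw [IsLocalization.AtPrime.to_map_mem_maximal_iff _ (Ideal.span {(p : ℤ)}),
          Ideal.mem_span_singleton, hp0] at h1
        simpa using h1
      exact charZero_of_injective_ringHom hinj
    exact PerfectField.ofCharZero
  · haveI hmax : (Ideal.span {(p : ℤ)}).IsMaximal :=
      Ideal.IsPrime.isMaximal hp (by
        rw [Ne, Ideal.span_singleton_eq_bot]
        exact_mod_cast hp0)
    haveI : NeZero p := ⟨hp0⟩
    haveI : Finite (ℤ ⧸ Ideal.span {(p : ℤ)}) :=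
      Finite.of_equiv _ (Int.quotientSpanNatEquivZMod p).symm.toEquiv
    haveI : Finite (ResidueField (Localization.AtPrime (Ideal.span {(p : ℤ)}))) :=
      Finite.of_equiv _ (IsLocalization.AtPrime.equivQuotMaximalIdeal (Ideal.span {(p : ℤ)})
        (Localization.AtPrime (Ideal.span {(p : ℤ)}))).toEquiv
    exact PerfectField.ofFinite

theorem isGeometricallyReduced_residueField {A : Type} [CommRing A] [IsLocalRing A]
    [Algebra (ResidueField (Localization.AtPrime (Ideal.span {(p : ℤ)}))) (ResidueField A)] :
    Algebra.IsGeometricallyReduced (ResidueField (Localization.AtPrime (Ideal.span {(p : ℤ)})))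
      (ResidueField A) :=
  Groth.Agent.Lib.Helper25.NilHopf.isGeometricallyReduced_of_perfectField _ _

end Groth.Agent.R2.H77.CohenCharA
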