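import Mathlib
import Groth.Prelude.Def_EGA41
import Groth.Agent.R2.H77CohenCharA
import Groth.Agent.Lib.Helper19CohenExistA

/-!
# H77CohenCharB: Cohen `ℤ_(p)`-algebras are the Cohen rings (EGA 0_IV 19.8.5)
-/

set_option autoImplicit false
set_option linter.style.haveILetI false

namespace Groth.Agent.R2.H77.CohenCharB
open IsLocalRing Groth.Agent.R2.H77.CohenCharA

variable (p : ℕ) [hp : (Ideal.span {(p : ℤ)}).IsPrime]
  {A : Type} [CommRing A] [IsLocalRing A] [CharP (ResidueField A) p]
  [Algebra (Localization.AtPrime (Ideal.span {(p : ℤ)})) A]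
  [IsLocalHom (algebraMap (Localization.AtPrime (Ideal.span {(p : ℤ)})) A)]

theorem cohenRingEGA_of_cohenAlgebra
    (h : EGA41.IsCohenAlgebra (Localization.AtPrime (Ideal.span {(p : ℤ)})) A) :
    EGA41.IsCohenRingEGA A := by
  obtain ⟨-, hNA, hcomp, hflat, hmap, -⟩ := h
  have hmax : maximalIdeal A = Ideal.span {(p : A)} := by
    rw [← hmap, map_maximalIdeal]
  by_cases hp0 : p = 0
  · left
    have hbot : maximalIdeal A = ⊥ := by
      rw [hmax, hp0, Nat.cast_zero, Ideal.span_singleton_eq_bot]
    refine ⟨IsLocalRing.isField_iff_maximalIdeal_eq.mpr hbot, ?_⟩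
    haveI : CharP (ResidueField A) 0 := hp0 ▸ (inferInstance : CharP (ResidueField A) p)
    haveI : CharZero (ResidueField A) := CharP.charP_to_charZero _
    exact (IsLocalRing.residue A).charZero
  · right
    have hprime : p.Prime := nat_prime p hp0
    have hsep : ∀ x : A, (∀ n : ℕ, x ∈ maximalIdeal A ^ n) → x = 0 := by
      intro x hx
      have h1 : x ∈ ⨅ n : ℕ, maximalIdeal A ^ n := (Ideal.mem_iInf).mpr hx
      rw [Ideal.iInf_pow_eq_bot_of_isLocalRing (maximalIdeal A) Ideal.IsPrime.ne_top'] at h1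
      exact h1
    have hreg : IsSMulRegular A (p : Localization.AtPrime (Ideal.span {(p : ℤ)})) :=
      Module.Flat.isSMulRegular_of_nonZeroDivisors
        (mem_nonZeroDivisors_of_ne_zero (natCast_ne_zero p hp0))
    have hnil : ∀ n : ℕ, (p : A) ^ n ≠ 0 := by
      intro n hn
      have h1 : ((p : Localization.AtPrime (Ideal.span {(p : ℤ)})) ^ n) • (1 : A) = 0 := by
        rw [Algebra.smul_def, mul_one, map_pow, map_natCast]
        exact hn
      have h2 := (hreg.pow n) (h1.trans (smul_zero _).symm)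
      exact one_ne_zero h2
    haveI hdom := Groth.Agent.Lib.Helper19.CohenExist.isDomain_of_principal (p : A) hmax hsep hnil
    haveI hdvr :=
      Groth.Agent.Lib.Helper19.CohenExist.isDiscreteValuationRing_of_principal (p : A) hmax hsep hnil
    exact ⟨hdom, hdvr, hcomp, p, hprime, hmax⟩

omit [IsLocalRing A] [CharP (ResidueField A) p]
  [IsLocalHom (algebraMap (Localization.AtPrime (Ideal.span {(p : ℤ)})) A)] in
/-- injectivity of `ℤ_(p) → A` for `A` of characteristic zero. -/
theorem algebraMap_injective_of_charZero [CharZero A] :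
    Function.Injective (algebraMap (Localization.AtPrime (Ideal.span {(p : ℤ)})) A) := by
  rw [injective_iff_map_eq_zero]
  intro x hx
  obtain ⟨n, s, rfl⟩ := IsLocalization.exists_mk'_eq (Ideal.span {(p : ℤ)}).primeCompl x
  have h1 : algebraMap (Localization.AtPrime (Ideal.span {(p : ℤ)})) A
      (algebraMap ℤ (Localization.AtPrime (Ideal.span {(p : ℤ)})) n) = 0 := by
    rw [← IsLocalization.mk'_spec (Localization.AtPrime (Ideal.span {(p : ℤ)})) n s, map_mul, hx,
      zero_mul]
  have h2 : ((n : ℤ) : A) = 0 := by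
    rw [← h1, eq_intCast, map_intCast]
  have h3 : n = 0 := by exact_mod_cast h2
  rw [h3, IsLocalization.mk'_zero]

omit [IsLocalRing A] [CharP (ResidueField A) p]
  [IsLocalHom (algebraMap (Localization.AtPrime (Ideal.span {(p : ℤ)})) A)] in
theorem flat_of_isDomain_of_charZero [IsDomain A] [CharZero A] :
    Module.Flat (Localization.AtPrime (Ideal.span {(p : ℤ)})) A := by
  rw [Module.Flat.flat_iff_torsion_eq_bot_of_isBezout, eq_bot_iff]
  rintro a ⟨⟨x, hx⟩, hxa⟩
  have hx0 : x ≠ 0 := nonZeroDivisors.ne_zero hx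
  have h1 : algebraMap (Localization.AtPrime (Ideal.span {(p : ℤ)})) A x * a = 0 := by
    rw [← Algebra.smul_def]
    exact hxa
  rcases mul_eq_zero.mp h1 with h | h
  · exact (hx0 (algebraMap_injective_of_charZero p (h.trans (map_zero _).symm))).elim
  · exact h

end Groth.Agent.R2.H77.CohenCharB
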