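import Mathlib
import Groth.Prelude.Def_EGA41
import Groth.Agent.R2.H77CohenCharB

/-!
# H77CohenCharC: Cohen rings are Cohen `ℤ_(p)`-algebras
-/

set_option autoImplicit false
set_option linter.style.haveILetI false

namespace Groth.Agent.R2.H77.CohenCharC
open IsLocalRing Groth.Agent.R2.H77.CohenCharA Groth.Agent.R2.H77.CohenCharB

variable (p : ℕ) [hp : (Ideal.span {(p : ℤ)}).IsPrime]
  {A : Type} [CommRing A] [IsLocalRing A] [CharP (ResidueField A) p]
  [Algebra (Localization.AtPrime (Ideal.span {(p : ℤ)})) A]
  [IsLocalHom (algebraMap (Localization.AtPrime (Ideal.span {(p : ℤ)})) A)]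

theorem cohenAlgebra_of_cohenRingEGA (h : EGA41.IsCohenRingEGA A) :
    EGA41.IsCohenAlgebra (Localization.AtPrime (Ideal.span {(p : ℤ)})) A := by
  rcases h with ⟨hfield, hchar⟩ | ⟨hdom, hdvr, hcomp, p', hp', hmax'⟩
  · haveI := hchar
    have hbot : maximalIdeal A = ⊥ := IsLocalRing.isField_iff_maximalIdeal_eq.mp hfield
    haveI : IsDomain A := hfield.isDomain
    have hresinj : Function.Injective (IsLocalRing.residue A) := by
      rw [RingHom.injective_iff_ker_eq_bot, IsLocalRing.ker_residue, hbot]
    haveI : CharZero (ResidueField A) := charZero_of_injective_ringHom hresinj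
    have hp0 : p = 0 := CharP.eq (ResidueField A) inferInstance (CharP.ofCharZero _)
    have hNoeth : IsNoetherianRing A := by
      rw [isNoetherianRing_iff_ideal_fg]
      intro I
      by_cases hI : I = ⊤
      · rw [hI]
        exact ⟨{1}, by rw [Finset.coe_singleton, Ideal.span_singleton_one]⟩
      · have : I = ⊥ := le_bot_iff.mp (hbot ▸ IsLocalRing.le_maximalIdeal hI)
        rw [this]
        exact Submodule.fg_bot
    refine ⟨inferInstance, hNoeth, ?_, flat_of_isDomain_of_charZero p, ?_,
      isGeometricallyReduced_residueField p⟩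
    · rw [hbot]
      infer_instance
    · rw [map_maximalIdeal, hbot, hp0, Nat.cast_zero, Ideal.span_singleton_eq_bot]
  · haveI := hdom
    haveI := hdvr
    have hp'mem : (p' : A) ∈ maximalIdeal A := by
      rw [hmax']
      exact Ideal.subset_span rfl
    have hres : ((p' : ℕ) : ResidueField A) = 0 := by
      rw [← map_natCast (IsLocalRing.residue A), IsLocalRing.residue_eq_zero_iff]
      exact hp'mem
    have hdvd : p ∣ p' := (CharP.cast_eq_zero_iff (ResidueField A) p p').mp hres
    have hpp : p = p' := by
      rcases (Nat.dvd_prime hp').mp hdvd with h1 | h1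
      · exact (CharP.char_ne_one (ResidueField A) p h1).elim
      · exact h1
    have hpne : (p : A) ≠ 0 := by
      intro h0
      apply IsDiscreteValuationRing.not_isField A
      rw [IsLocalRing.isField_iff_maximalIdeal_eq, hmax', ← hpp, h0, Ideal.span_singleton_eq_bot]
    haveI : CharZero A := by
      obtain ⟨c, hc⟩ := CharP.exists A
      rcases CharP.char_is_prime_or_zero A c with hcp | hc0
      · exfalso
        have h1 : ((c : ℕ) : A) = 0 := CharP.cast_eq_zero A c
        have h2 : ((c : ℕ) : ResidueField A) = 0 := by
          rw [← map_natCast (IsLocalRing.residue A), h1, map_zero]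
        have h3 : p ∣ c := (CharP.cast_eq_zero_iff (ResidueField A) p c).mp h2
        rcases (Nat.dvd_prime hcp).mp h3 with h4 | h4
        · exact CharP.char_ne_one (ResidueField A) p h4
        · exact hpne (h4 ▸ h1)
      · subst hc0
        exact CharP.charP_to_charZero A
    refine ⟨inferInstance, inferInstance, hcomp, flat_of_isDomain_of_charZero p, ?_,
      isGeometricallyReduced_residueField p⟩
    rw [map_maximalIdeal, hmax', hpp]

end Groth.Agent.R2.H77.CohenCharC
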