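import Mathlib

/-!
# Helper for S16352 (helper77): Taylor expansion of homogeneous cubics/quadrics along a pencil,
factorisation of binary quadratic/cubic forms over an algebraically closed field, and
"vanishing on a hyperplane implies divisible by its equation".
-/

set_option autoImplicit false
set_option linter.unusedSectionVars false
set_option linter.unusedVariables false

namespace Groth.Agent.R2.H77.Cubic

open MvPolynomial

section Taylor

variable {K : Type*} [Field K] {σ : Type*} [Fintype σ] [DecidableEq σ]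

/-- Directional derivative of `F` at `b` in direction `c`. -/
noncomputable def dirD (F : MvPolynomial σ K) (b c : σ → K) : K :=
  ∑ i, c i * eval b (pderiv i F)

theorem dirD_add (F G : MvPolynomial σ K) (b c : σ → K) :
    dirD (F + G) b c = dirD F b c + dirD G b c := by
  simp only [dirD, map_add, mul_add, Finset.sum_add_distrib]

theorem dirD_zero (b c : σ → K) : dirD (0 : MvPolynomial σ K) b c = 0 := by
  simp [dirD]

theorem dirD_mul (F G : MvPolynomial σ K) (b c : σ → K) :
    dirD (F * G) b c = eval b F * dirD G b c + eval b G * dirD F b c := by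
  simp only [dirD, Derivation.leibniz, smul_eq_mul, map_add, map_mul, mul_add,
    Finset.sum_add_distrib, Finset.mul_sum]
  congr 1 <;> (apply Finset.sum_congr rfl; intros; ring)

theorem dirD_C (r : K) (b c : σ → K) : dirD (C r : MvPolynomial σ K) b c = 0 := by
  simp [dirD]

theorem dirD_X (i : σ) (b c : σ → K) : dirD (X i : MvPolynomial σ K) b c = c i := by
  simp [dirD, pderiv_X, Pi.single_apply]

/-- Induction principle for homogeneous polynomials. -/
theorem homog_induction {n : ℕ} (M : MvPolynomial σ K → Prop) (h0 : M 0)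
    (hadd : ∀ p q, M p → M q → M (p + q))
    (hmon : ∀ (d : σ →₀ ℕ) (r : K), Finsupp.degree d = n → M (monomial d r))
    (F : MvPolynomial σ K) (hF : F.IsHomogeneous n) : M F := by
  rw [F.as_sum]
  refine Finset.sum_induction _ M hadd h0 ?_
  intro d hd
  apply hmon
  have := hF (mem_support_iff.mp hd)
  rw [Finsupp.degree_eq_weight_one]
  exact this

theorem exists_add_single (d : σ →₀ ℕ) (n : ℕ) (hd : Finsupp.degree d = n + 1) :
    ∃ (i : σ) (d' : σ →₀ ℕ), d = d' + Finsupp.single i 1 ∧ Finsupp.degree d' = n := by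
  have hd0 : d ≠ 0 := by
    rintro rfl
    simp at hd
  obtain ⟨i, hi⟩ : ∃ i, d i ≠ 0 := by
    by_contra h
    simp only [not_exists, not_not] at h
    exact hd0 (Finsupp.ext h)
  have hdd : d = (d - Finsupp.single i 1) + Finsupp.single i 1 := by
    ext j
    by_cases hj : j = i
    · subst hj
      simp only [Finsupp.coe_add, Finsupp.coe_tsub, Pi.add_apply, Pi.sub_apply,
        Finsupp.single_eq_same]
      omega
    · simp [Finsupp.single_eq_of_ne hj]
  refine ⟨i, d - Finsupp.single i 1, hdd, ?_⟩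
  have := congrArg Finsupp.degree hdd
  rw [map_add, Finsupp.degree_single, hd] at this
  omega

theorem monomial_deg2 (d : σ →₀ ℕ) (r : K) (hd : Finsupp.degree d = 2) :
    ∃ i j : σ, (monomial d r : MvPolynomial σ K) = C r * X i * X j := by
  obtain ⟨j, d1, rfl, h1⟩ := exists_add_single d 1 hd
  obtain ⟨i, d0, rfl, h0⟩ := exists_add_single d1 0 h1
  rw [Finsupp.degree_eq_zero_iff] at h0
  subst h0
  refine ⟨i, j, ?_⟩
  rw [monomial_add_single, monomial_add_single, pow_one, pow_one, ← C_apply]

theorem monomial_deg3 (d : σ →₀ ℕ) (r : K) (hd : Finsupp.degree d = 3) :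
    ∃ i j k : σ, (monomial d r : MvPolynomial σ K) = C r * X i * X j * X k := by
  obtain ⟨k, d2, rfl, h2⟩ := exists_add_single d 2 hd
  obtain ⟨j, d1, rfl, h1⟩ := exists_add_single d2 1 h2
  obtain ⟨i, d0, rfl, h0⟩ := exists_add_single d1 0 h1
  rw [Finsupp.degree_eq_zero_iff] at h0
  subst h0
  refine ⟨i, j, k, ?_⟩
  rw [monomial_add_single, monomial_add_single, monomial_add_single, pow_one, pow_one, pow_one,
    ← C_apply]

/-- Taylor expansion of a homogeneous cubic along the pencil spanned by `b`, `c`. -/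
theorem taylor3 (F : MvPolynomial σ K) (hF : F.IsHomogeneous 3) (b c : σ → K) (u v : K) :
    eval (u • b + v • c) F =
      u ^ 3 * eval b F + u ^ 2 * v * dirD F b c + u * v ^ 2 * dirD F c b + v ^ 3 * eval c F := by
  refine homog_induction (n := 3) (fun F => eval (u • b + v • c) F =
      u ^ 3 * eval b F + u ^ 2 * v * dirD F b c + u * v ^ 2 * dirD F c b + v ^ 3 * eval c F)
    ?_ ?_ ?_ F hF
  · simp [dirD_zero]
  · intro p q hp hq
    simp only [map_add, dirD_add, hp, hq]
    ring
  · intro d r hd
    obtain ⟨i, j, k, h⟩ := monomial_deg3 d r hd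
    rw [h]
    simp only [dirD_mul, dirD_X, dirD_C, map_mul, eval_X, eval_C, Pi.add_apply, Pi.smul_apply,
      smul_eq_mul]
    ring

/-- Taylor expansion of a homogeneous quadric along the pencil spanned by `b`, `c`. -/
theorem taylor2 (F : MvPolynomial σ K) (hF : F.IsHomogeneous 2) (b c : σ → K) (u v : K) :
    eval (u • b + v • c) F =
      u ^ 2 * eval b F + u * v * dirD F b c + v ^ 2 * eval c F := by
  refine homog_induction (n := 2) (fun F => eval (u • b + v • c) F =
      u ^ 2 * eval b F + u * v * dirD F b c + v ^ 2 * eval c F)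
    ?_ ?_ ?_ F hF
  · simp [dirD_zero]
  · intro p q hp hq
    simp only [map_add, dirD_add, hp, hq]
    ring
  · intro d r hd
    obtain ⟨i, j, h⟩ := monomial_deg2 d r hd
    rw [h]
    simp only [dirD_mul, dirD_X, dirD_C, map_mul, eval_X, eval_C, Pi.add_apply, Pi.smul_apply,
      smul_eq_mul]
    ring

end Taylor

section Binary

variable {K : Type*} [Field K] [IsAlgClosed K] [CharZero K]

/-- A binary quadratic form over an algebraically closed field is a product of two linear forms. -/
theorem quad_factor (α β γ : K) :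
    ∃ p₁ q₁ p₂ q₂ : K, ∀ u v : K,
      α * u ^ 2 + β * (u * v) + γ * v ^ 2 = (p₁ * u + q₁ * v) * (p₂ * u + q₂ * v) := by
  by_cases hα : α = 0
  · subst hα
    refine ⟨0, 1, β, γ, fun u v => ?_⟩
    ring
  · obtain ⟨s, hs⟩ := IsAlgClosed.exists_pow_nat_eq (β ^ 2 - 4 * α * γ) (n := 2) (by norm_num)
    have h2 : (2 : K) ≠ 0 := two_ne_zero
    refine ⟨1, (β + s) / (2 * α), α, (β - s) / 2, fun u v => ?_⟩
    field_simp
    linear_combination (v ^ 2) * hs

/-- A binary cubic form over an algebraically closed field is a product of three linear forms. -/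
theorem cubic_factor (α β γ δ : K) :
    ∃ p₁ q₁ p₂ q₂ p₃ q₃ : K, ∀ u v : K,
      α * u ^ 3 + β * (u ^ 2 * v) + γ * (u * v ^ 2) + δ * v ^ 3 =
        (p₁ * u + q₁ * v) * (p₂ * u + q₂ * v) * (p₃ * u + q₃ * v) := by
  by_cases hα : α = 0
  · subst hα
    obtain ⟨p₁, q₁, p₂, q₂, h⟩ := quad_factor β γ δ
    refine ⟨0, 1, p₁, q₁, p₂, q₂, fun u v => ?_⟩
    rw [mul_assoc, ← h u v]
    ring
  · have hdeg : (Polynomial.C α * Polynomial.X ^ 3 + Polynomial.C β * Polynomial.X ^ 2 +
        Polynomial.C γ * Polynomial.X + Polynomial.C δ : Polynomial K).degree ≠ 0 := by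
      rw [Polynomial.degree_cubic hα]
      decide
    obtain ⟨r, hr⟩ := IsAlgClosed.exists_root _ hdeg
    simp only [Polynomial.IsRoot.def, Polynomial.eval_add, Polynomial.eval_mul, Polynomial.eval_C,
      Polynomial.eval_pow, Polynomial.eval_X] at hr
    obtain ⟨p₁, q₁, p₂, q₂, h⟩ := quad_factor α (β + α * r) (γ + β * r + α * r ^ 2)
    refine ⟨1, -r, p₁, q₁, p₂, q₂, fun u v => ?_⟩
    rw [mul_assoc, ← h u v]
    linear_combination (v ^ 3) * hr

end Binary

section Hyperplane

variable {K : Type*} [Field K] [Infinite K] {σ : Type*} [Fintype σ] [DecidableEq σ]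

/-- A polynomial vanishing on the hyperplane `Σ c i x i = 0` is divisible by `Σ c i X i`. -/
theorem mem_span_of_vanish (c : σ → K) (i₀ : σ) (hc : c i₀ ≠ 0) (G : MvPolynomial σ K)
    (hG : ∀ x : σ → K, ∑ i, c i * x i = 0 → eval x G = 0) :
    G ∈ Ideal.span {(∑ i, C (c i) * X i : MvPolynomial σ K)} := by
  set ℓ : MvPolynomial σ K := ∑ i, C (c i) * X i with hℓ
  let g : σ → MvPolynomial σ K := fun i => X i - (if i = i₀ then C (c i₀)⁻¹ * ℓ else 0)
  let φ : MvPolynomial σ K →ₐ[K] MvPolynomial σ K := aeval g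
  have h1 : ∀ G, G - φ G ∈ Ideal.span {ℓ} := by
    intro G
    induction G using MvPolynomial.induction_on with
    | C r => simp [φ]
    | add p q hp hq =>
      have : p + q - φ (p + q) = (p - φ p) + (q - φ q) := by rw [map_add]; ring
      rw [this]; exact Ideal.add_mem _ hp hq
    | mul_X p i hp =>
      have : p * X i - φ (p * X i) = (p - φ p) * X i + φ p * (X i - g i) := by
        rw [map_mul]; simp only [φ, aeval_X]; ring
      rw [this]
      refine Ideal.add_mem _ (Ideal.mul_mem_right _ _ hp) (Ideal.mul_mem_left _ _ ?_)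
      simp only [g, sub_sub_cancel]
      split_ifs
      · exact Ideal.mul_mem_left _ _ (Ideal.mem_span_singleton_self _)
      · exact Ideal.zero_mem _
  have h2 : ∀ (x : σ → K) (G : MvPolynomial σ K),
      eval x (φ G) = eval (fun i => eval x (g i)) G := by
    intro x G
    induction G using MvPolynomial.induction_on with
    | C r => simp [φ]
    | add p q hp hq => simp [hp, hq]
    | mul_X p i hp =>
      rw [map_mul, map_mul, map_mul, hp]
      simp only [φ, aeval_X, eval_X]
  have h3 : φ G = 0 := by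
    apply MvPolynomial.funext
    intro x
    rw [h2, map_zero]
    apply hG
    have e1 : ∀ i, eval x (g i) = x i - (if i = i₀ then (c i₀)⁻¹ * ∑ j, c j * x j else 0) := by
      intro i
      simp only [g]
      split_ifs <;> simp [hℓ]
    simp only [e1, mul_sub, Finset.sum_sub_distrib, mul_ite, mul_zero, Finset.sum_ite_eq',
      Finset.mem_univ, if_true]
    field_simp
    ring
  have := h1 G
  rwa [h3, sub_zero] at this

end Hyperplane

section Polar

variable {K : Type*} [Field K] [CharZero K] {σ : Type*} [Fintype σ] [DecidableEq σ]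

theorem dirD_dir_add (F : MvPolynomial σ K) (b x y : σ → K) :
    dirD F b (x + y) = dirD F b x + dirD F b y := by
  simp only [dirD, Pi.add_apply, add_mul, Finset.sum_add_distrib]

theorem dirD_dir_smul (F : MvPolynomial σ K) (b x : σ → K) (r : K) :
    dirD F b (r • x) = r * dirD F b x := by
  simp only [dirD, Pi.smul_apply, smul_eq_mul, Finset.mul_sum, mul_assoc]

/-- Euler: the tangent form vanishes at the point itself. -/
theorem dirD_self (F : MvPolynomial σ K) (hF : F.IsHomogeneous 3) (a : σ → K)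
    (hFa : eval a F = 0) : dirD F a a = 0 := by
  have h := congrArg (eval a) hF.sum_X_mul_pderiv
  simp only [map_sum, map_mul, eval_X, nsmul_eq_mul, map_natCast, hFa, mul_zero] at h
  exact h

/-- `F(x + r a) = r² ℓ(x) + r P(x) + F(x)`. -/
theorem eval_add_smul (F : MvPolynomial σ K) (hF : F.IsHomogeneous 3) (a : σ → K)
    (hFa : eval a F = 0) (x : σ → K) (r : K) :
    eval (x + r • a) F = r ^ 2 * dirD F a x + r * dirD F x a + eval x F := by
  have h := taylor3 F hF a x r 1
  rw [one_smul, add_comm] at h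
  rw [h, hFa]
  ring

/-- `P(x + r a) = P(x) + 2 r ℓ(x)`. -/
theorem polar_add_smul (F : MvPolynomial σ K) (hF : F.IsHomogeneous 3) (a : σ → K)
    (hFa : eval a F = 0) (x : σ → K) (r : K) :
    dirD F (x + r • a) a = dirD F x a + 2 * r * dirD F a x := by
  have h1 := taylor3 F hF a (x + r • a) 1 1
  have h2 := taylor3 F hF a x (1 + r) 1
  have e : (1 : K) • a + (1 : K) • (x + r • a) = (1 + r) • a + (1 : K) • x := by
    rw [add_smul, one_smul, one_smul, one_smul]
    abel
  rw [e, h2] at h1
  rw [eval_add_smul F hF a hFa x r, dirD_dir_add, dirD_dir_smul, dirD_self F hF a hFa, hFa] at h1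
  linear_combination -h1

end Polar

section LinAlg

variable {K : Type*} [Field K]

/-- Coordinates on a 3-dimensional space modulo a nonzero vector. -/
theorem exists_coords {V : Type*} [AddCommGroup V] [Module K V] [FiniteDimensional K V]
    (hV : Module.finrank K V = 3) (a : V) (ha : a ≠ 0) :
    ∃ (b c : V) (u v : V →ₗ[K] K), u a = 0 ∧ v a = 0 ∧ u b = 1 ∧ v b = 0 ∧ u c = 0 ∧ v c = 1 ∧
      ∀ x : V, ∃ r : K, x = r • a + u x • b + v x • c := by
  classical
  set S : Submodule K V := K ∙ a with hS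
  have hQ : Module.finrank K (V ⧸ S) = 2 := by
    have h1 := S.finrank_quotient_add_finrank
    have hS1 : Module.finrank K S = 1 := finrank_span_singleton ha
    rw [hV, hS1] at h1
    omega
  let eQ : Module.Basis (Fin 2) K (V ⧸ S) := Module.finBasisOfFinrankEq K (V ⧸ S) hQ
  obtain ⟨b, hb⟩ := S.mkQ_surjective (eQ 0)
  obtain ⟨c, hc⟩ := S.mkQ_surjective (eQ 1)
  have haS : S.mkQ a = 0 := by
    rw [Submodule.mkQ_apply, Submodule.Quotient.mk_eq_zero]
    exact Submodule.mem_span_singleton_self a
  refine ⟨b, c, (eQ.coord 0).comp S.mkQ, (eQ.coord 1).comp S.mkQ, ?_, ?_, ?_, ?_, ?_, ?_, ?_⟩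
  · rw [LinearMap.comp_apply, haS, map_zero]
  · rw [LinearMap.comp_apply, haS, map_zero]
  · rw [LinearMap.comp_apply, hb, Module.Basis.coord_apply, Module.Basis.repr_self]; simp
  · rw [LinearMap.comp_apply, hb, Module.Basis.coord_apply, Module.Basis.repr_self]; simp
  · rw [LinearMap.comp_apply, hc, Module.Basis.coord_apply, Module.Basis.repr_self]; simp
  · rw [LinearMap.comp_apply, hc, Module.Basis.coord_apply, Module.Basis.repr_self]; simp
  · intro x
    have hx : S.mkQ (x - ((eQ.coord 0).comp S.mkQ x • b + (eQ.coord 1).comp S.mkQ x • c)) = 0 := by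
      have h := eQ.sum_repr (S.mkQ x)
      rw [Fin.sum_univ_two] at h
      rw [map_sub, map_add, map_smul, map_smul, hb, hc, LinearMap.comp_apply, LinearMap.comp_apply,
        Module.Basis.coord_apply, Module.Basis.coord_apply, h, sub_self]
    rw [Submodule.mkQ_apply, Submodule.Quotient.mk_eq_zero] at hx
    obtain ⟨r, hr⟩ := Submodule.mem_span_singleton.mp hx
    refine ⟨r, ?_⟩
    rw [hr]
    abel

/-- The kernel of a nonzero functional on a 3-dimensional subspace, pushed to the ambient space,
is 2-dimensional. -/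
theorem finrank_map_ker {W : Type*} [AddCommGroup W] [Module K W] (H : Submodule K W)
    [FiniteDimensional K H] (hH : Module.finrank K H = 3) (m : H →ₗ[K] K) (hm : m ≠ 0) :
    Module.finrank K ((LinearMap.ker m).map H.subtype) = 2 := by
  have h1 := Module.Dual.finrank_ker_add_one_of_ne_zero (f := m) hm
  rw [hH] at h1
  have h2 : Module.finrank K ((LinearMap.ker m).map H.subtype) =
      Module.finrank K (LinearMap.ker m) :=
    (Submodule.equivMapOfInjective H.subtype H.injective_subtype (LinearMap.ker m)).finrank_eq.symm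
  rw [h2]
  omega

end LinAlg

section Main

variable {K : Type*} [Field K]

/-- The linear form (as a polynomial) attached to a linear functional on `K^4`. -/
noncomputable def polyOf (M : (Fin 4 → K) →ₗ[K] K) : MvPolynomial (Fin 4) K :=
  ∑ j, C (M (fun k => if j = k then 1 else 0)) * X j

theorem eval_polyOf (M : (Fin 4 → K) →ₗ[K] K) (x : Fin 4 → K) : eval x (polyOf M) = M x := by
  rw [LinearMap.pi_apply_eq_sum_univ M x]
  simp only [polyOf, map_sum, map_mul, eval_C, eval_X, smul_eq_mul]
  exact Finset.sum_congr rfl fun i _ => mul_comm _ _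

theorem polyOf_hom (M : (Fin 4 → K) →ₗ[K] K) : (polyOf M).IsHomogeneous 1 :=
  IsHomogeneous.sum _ _ _ (fun j _ => isHomogeneous_C_mul_X _ _)

variable [IsAlgClosed K] [CharZero K]

theorem main (F : MvPolynomial (Fin 4) K) (hF : F.IsHomogeneous 3)
    (a : Fin 4 → K) (ha : a ≠ 0) (hFa : eval a F = 0)
    (hsm : ∃ i : Fin 4, eval a (pderiv i F) ≠ 0)
    (hT : ¬ ∃ L₁ L₂ L₃ : MvPolynomial (Fin 4) K, L₁.IsHomogeneous 1 ∧ L₂.IsHomogeneous 1 ∧
      L₃.IsHomogeneous 1 ∧ F - L₁ * L₂ * L₃ ∈
        Ideal.span {(∑ i : Fin 4, C (eval a (pderiv i F)) * X i : MvPolynomial (Fin 4) K)})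
    (H : Submodule K (Fin 4 → K))
    (hH : ∀ x : Fin 4 → K, x ∈ H ↔
      eval x (∑ i : Fin 4, C (eval a (pderiv i F)) * X i : MvPolynomial (Fin 4) K) = 0) :
    (∃ U₁ U₂ : Submodule K (Fin 4 → K), Module.finrank K ↥U₁ = 2 ∧ Module.finrank K ↥U₂ = 2 ∧
        a ∈ U₁ ∧ a ∈ U₂ ∧ U₁ ≤ H ∧ U₂ ≤ H ∧
        {x : Fin 4 → K | x ∈ H ∧ eval x (∑ i : Fin 4, a i • pderiv i F) = 0} =
          (U₁ : Set (Fin 4 → K)) ∪ (U₂ : Set (Fin 4 → K))) ∧
      ∀ U : Submodule K (Fin 4 → K), a ∈ U → Module.finrank K ↥U = 2 →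
        (∀ u ∈ U, eval u F = 0) →
          U ≤ H ∧ ∀ u ∈ U, eval u (∑ i : Fin 4, a i • pderiv i F) = 0 := by
  classical
  have hℓe : ∀ x : Fin 4 → K,
      eval x (∑ i : Fin 4, C (eval a (pderiv i F)) * X i : MvPolynomial (Fin 4) K) =
        dirD F a x := by
    intro x
    simp only [dirD, map_sum, map_mul, eval_C, eval_X]
    exact Finset.sum_congr rfl fun i _ => mul_comm _ _
  have hPe : ∀ x : Fin 4 → K, eval x (∑ i : Fin 4, a i • pderiv i F) = dirD F x a := by
    intro x
    simp only [dirD, map_sum, smul_eval]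
  have hHm : ∀ x, x ∈ H ↔ dirD F a x = 0 := fun x => by rw [hH, hℓe]
  have haH : a ∈ H := (hHm a).mpr (dirD_self F hF a hFa)
  have h2' : (2 : K) ≠ 0 := two_ne_zero
  constructor
  swap
  · -- lines through `a` on the surface
    intro U haU _ hU
    have key : ∀ u ∈ U, dirD F a u = 0 ∧ dirD F u a = 0 := by
      intro u hu
      have h1 := taylor3 F hF a u 1 1
      have h2 := taylor3 F hF a u (-1) 1
      rw [hU _ (U.add_mem (U.smul_mem _ haU) (U.smul_mem _ hu)), hFa, hU u hu] at h1 h2
      constructor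
      · have : 2 * dirD F a u = 0 := by linear_combination -h1 - h2
        exact (mul_eq_zero.mp this).resolve_left h2'
      · have : 2 * dirD F u a = 0 := by linear_combination -h1 + h2
        exact (mul_eq_zero.mp this).resolve_left h2'
    refine ⟨fun u hu => (hHm u).mpr (key u hu).1, fun u hu => ?_⟩
    rw [hPe]
    exact (key u hu).2
  · obtain ⟨i₀, hi₀⟩ := hsm
    let lin : (Fin 4 → K) →ₗ[K] K :=
      { toFun := fun x => dirD F a x
        map_add' := fun x y => dirD_dir_add F a x y
        map_smul' := fun r x => by simp [dirD_dir_smul] }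
    have hlin : ∀ x, lin x = dirD F a x := fun x => rfl
    have hHker : H = LinearMap.ker lin := by
      ext x
      rw [hHm, LinearMap.mem_ker, hlin]
    have hlin0 : lin ≠ 0 := by
      intro h
      have := LinearMap.congr_fun h (Pi.single i₀ 1)
      rw [hlin, LinearMap.zero_apply] at this
      apply hi₀
      simpa [dirD, Pi.single_apply] using this
    have hfinH : Module.finrank K H = 3 := by
      have h1 := Module.Dual.finrank_ker_add_one_of_ne_zero (f := lin) hlin0
      rw [Module.finrank_fin_fun] at h1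
      rw [hHker]
      omega
    have ha' : (⟨a, haH⟩ : H) ≠ 0 := by
      intro h
      exact ha (congrArg Subtype.val h)
    obtain ⟨b, c, u, v, hua, hva, hub, hvb, huc, hvc, hdec⟩ := exists_coords hfinH ⟨a, haH⟩ ha'
    have hPhom : (∑ i : Fin 4, a i • pderiv i F).IsHomogeneous 2 := by
      apply IsHomogeneous.sum
      intro i _
      have h := hF.pderiv (i := i)
      rw [← mem_homogeneousSubmodule] at h ⊢
      exact Submodule.smul_mem _ _ h
    -- decomposition of points of `H`
    have hdec' : ∀ x : H, ∃ r : K, (x : Fin 4 → K) =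
        (u x • (b : Fin 4 → K) + v x • (c : Fin 4 → K)) + r • a := by
      intro x
      obtain ⟨r, hr⟩ := hdec x
      refine ⟨r, ?_⟩
      have := congrArg Subtype.val hr
      simp only [Submodule.coe_add, Submodule.coe_smul] at this
      rw [this]
      abel
    have hyH : ∀ s t : K, s • (b : Fin 4 → K) + t • (c : Fin 4 → K) ∈ H := fun s t =>
      H.add_mem (H.smul_mem _ b.2) (H.smul_mem _ c.2)
    set α := eval (b : Fin 4 → K) (∑ i : Fin 4, a i • pderiv i F) with hα
    set β := dirD (∑ i : Fin 4, a i • pderiv i F) (b : Fin 4 → K) (c : Fin 4 → K) with hβ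
    set γ := eval (c : Fin 4 → K) (∑ i : Fin 4, a i • pderiv i F) with hγ
    have key0 : ∀ x : H, dirD F (x : Fin 4 → K) a =
        α * (u x) ^ 2 + β * (u x * v x) + γ * (v x) ^ 2 := by
      intro x
      obtain ⟨r, hr⟩ := hdec' x
      rw [hr, polar_add_smul F hF a hFa _ r, (hHm _).mp (hyH _ _), mul_zero, add_zero, ← hPe,
        taylor2 _ hPhom]
      ring
    by_cases hz : α = 0 ∧ β = 0 ∧ γ = 0
    · -- the polar vanishes on `H`: then `a` is a T-point
      exfalso
      apply hT
      obtain ⟨hα0, hβ0, hγ0⟩ := hz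
      have hp0 : ∀ x : H, dirD F (x : Fin 4 → K) a = 0 := by
        intro x
        rw [key0 x, hα0, hβ0, hγ0]
        ring
      obtain ⟨p₁, q₁, p₂, q₂, p₃, q₃, hfac⟩ := cubic_factor (eval (b : Fin 4 → K) F)
        (dirD F (b : Fin 4 → K) (c : Fin 4 → K)) (dirD F (c : Fin 4 → K) (b : Fin 4 → K))
        (eval (c : Fin 4 → K) F)
      have hf : ∀ x : H, eval (x : Fin 4 → K) F =
          (p₁ * u x + q₁ * v x) * (p₂ * u x + q₂ * v x) * (p₃ * u x + q₃ * v x) := by
        intro x
        obtain ⟨r, hr⟩ := hdec' x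
        rw [hr, eval_add_smul F hF a hFa _ r, (hHm _).mp (hyH _ _), hp0 ⟨_, hyH _ _⟩,
          taylor3 F hF, ← hfac]
        ring
      obtain ⟨M₁, hM₁⟩ := LinearMap.exists_extend (p₁ • u + q₁ • v)
      obtain ⟨M₂, hM₂⟩ := LinearMap.exists_extend (p₂ • u + q₂ • v)
      obtain ⟨M₃, hM₃⟩ := LinearMap.exists_extend (p₃ • u + q₃ • v)
      refine ⟨polyOf M₁, polyOf M₂, polyOf M₃, polyOf_hom _, polyOf_hom _, polyOf_hom _, ?_⟩
      apply mem_span_of_vanish (fun i => eval a (pderiv i F)) i₀ hi₀
      intro x hx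
      have hxH : x ∈ H := by
        rw [hHm, ← hx]
        exact Finset.sum_congr rfl fun i _ => mul_comm _ _
      have e₁ : M₁ x = p₁ * u ⟨x, hxH⟩ + q₁ * v ⟨x, hxH⟩ := by
        have := LinearMap.congr_fun hM₁ ⟨x, hxH⟩
        simpa using this
      have e₂ : M₂ x = p₂ * u ⟨x, hxH⟩ + q₂ * v ⟨x, hxH⟩ := by
        have := LinearMap.congr_fun hM₂ ⟨x, hxH⟩
        simpa using this
      have e₃ : M₃ x = p₃ * u ⟨x, hxH⟩ + q₃ * v ⟨x, hxH⟩ := by
        have := LinearMap.congr_fun hM₃ ⟨x, hxH⟩
        simpa using this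
      rw [map_sub, map_mul, map_mul, eval_polyOf, eval_polyOf, eval_polyOf, e₁, e₂, e₃,
        hf ⟨x, hxH⟩, sub_self]
    · -- the polar is a nonzero binary quadratic form on `H / a`
      obtain ⟨p₁, q₁, p₂, q₂, hfac⟩ := quad_factor α β γ
      have key : ∀ x : H, dirD F (x : Fin 4 → K) a =
          (p₁ • u + q₁ • v) x * (p₂ • u + q₂ • v) x := by
        intro x
        rw [key0 x, hfac]
        simp
      have hne : ∀ p q p' q' : K, (∀ s t : K, α * s ^ 2 + β * (s * t) + γ * t ^ 2 =
          (p * s + q * t) * (p' * s + q' * t)) → (p • u + q • v : H →ₗ[K] K) ≠ 0 := by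
        intro p q p' q' h h0
        have hp : p = 0 := by
          have := LinearMap.congr_fun h0 b
          simpa [hub, hvb] using this
        have hq : q = 0 := by
          have := LinearMap.congr_fun h0 c
          simpa [huc, hvc] using this
        apply hz
        have h10 := h 1 0
        have h01 := h 0 1
        have h11 := h 1 1
        rw [hp, hq] at h10 h01 h11
        have hα0 : α = 0 := by linear_combination h10
        have hγ0 : γ = 0 := by linear_combination h01
        refine ⟨hα0, ?_, hγ0⟩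
        linear_combination h11 - hα0 - hγ0
      have hm₁ : (p₁ • u + q₁ • v : H →ₗ[K] K) ≠ 0 := hne p₁ q₁ p₂ q₂ hfac
      have hm₂ : (p₂ • u + q₂ • v : H →ₗ[K] K) ≠ 0 :=
        hne p₂ q₂ p₁ q₁ (fun s t => by rw [hfac s t, mul_comm])
      refine ⟨(LinearMap.ker (p₁ • u + q₁ • v)).map H.subtype,
        (LinearMap.ker (p₂ • u + q₂ • v)).map H.subtype,
        finrank_map_ker H hfinH _ hm₁, finrank_map_ker H hfinH _ hm₂, ?_, ?_,
        Submodule.map_subtype_le _ _, Submodule.map_subtype_le _ _, ?_⟩
      · refine Submodule.mem_map.mpr ⟨⟨a, haH⟩, ?_, rfl⟩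
        simp [hua, hva]
      · refine Submodule.mem_map.mpr ⟨⟨a, haH⟩, ?_, rfl⟩
        simp [hua, hva]
      · ext x
        simp only [Set.mem_ofPred_eq, Set.mem_union, SetLike.mem_coe]
        constructor
        · rintro ⟨hxH, hpx⟩
          rw [hPe, key ⟨x, hxH⟩] at hpx
          rcases mul_eq_zero.mp hpx with h | h
          · exact Or.inl (Submodule.mem_map.mpr ⟨⟨x, hxH⟩, LinearMap.mem_ker.mpr h, rfl⟩)
          · exact Or.inr (Submodule.mem_map.mpr ⟨⟨x, hxH⟩, LinearMap.mem_ker.mpr h, rfl⟩)
        · rintro (hx | hx)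
          · obtain ⟨x', hx', rfl⟩ := Submodule.mem_map.mp hx
            refine ⟨x'.2, ?_⟩
            rw [hPe, Submodule.subtype_apply, key x', LinearMap.mem_ker.mp hx', zero_mul]
          · obtain ⟨x', hx', rfl⟩ := Submodule.mem_map.mp hx
            refine ⟨x'.2, ?_⟩
            rw [hPe, Submodule.subtype_apply, key x', LinearMap.mem_ker.mp hx', mul_zero]

end Main

end Groth.Agent.R2.H77.Cubic
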