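import Mathlib
import Groth.Agent.R2.H77Cubic

/-!
# Helper for S16347 (helper77): at most six lines through a singular point of an irreducible
cubic surface which is not a cone.
-/

set_option autoImplicit false
set_option linter.unusedSectionVars false
set_option linter.unusedVariables false

namespace Groth.Agent.R2.H77.CubicSing

open MvPolynomial Groth.Agent.R2.H77.Cubic

section Quadric

variable {K : Type*} [Field K] {σ : Type*} [Fintype σ] [DecidableEq σ]

theorem dirD_symm (P : MvPolynomial σ K) (hP : P.IsHomogeneous 2) (b c : σ → K) :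
    dirD P b c = dirD P c b := by
  have h1 := taylor2 P hP b c 1 1
  have h2 := taylor2 P hP c b 1 1
  have e : (1 : K) • c + (1 : K) • b = (1 : K) • b + (1 : K) • c := add_comm _ _
  rw [e, h1] at h2
  linear_combination h2

theorem dirD_self2 (P : MvPolynomial σ K) (hP : P.IsHomogeneous 2) (z : σ → K) :
    dirD P z z = 2 * eval z P := by
  have h1 := taylor2 P hP z z 1 1
  have h2 := taylor2 P hP z z 2 0
  have e : (1 : K) • z + (1 : K) • z = (2 : K) • z + (0 : K) • z := by
    rw [zero_smul, add_zero, one_smul, two_smul]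
  rw [e, h2] at h1
  linear_combination -h1

theorem eval_smul2 (P : MvPolynomial σ K) (hP : P.IsHomogeneous 2) (z : σ → K) (s : K) :
    eval (s • z) P = s ^ 2 * eval z P := by
  have h2 := taylor2 P hP z z s 0
  rw [zero_smul, add_zero] at h2
  rw [h2]
  ring

theorem eval_smul3 (F : MvPolynomial σ K) (hF : F.IsHomogeneous 3) (z : σ → K) (s : K) :
    eval (s • z) F = s ^ 3 * eval z F := by
  have h2 := taylor3 F hF z z s 0
  rw [zero_smul, add_zero] at h2
  rw [h2]
  ring

end Quadric

section Polar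

variable {K : Type*} [Field K]

/-- The first polar of `a` with respect to `F`. -/
noncomputable def polar (F : MvPolynomial (Fin 4) K) (a : Fin 4 → K) : MvPolynomial (Fin 4) K :=
  ∑ i : Fin 4, a i • pderiv i F

theorem polar_hom (F : MvPolynomial (Fin 4) K) (hF : F.IsHomogeneous 3) (a : Fin 4 → K) :
    (polar F a).IsHomogeneous 2 := by
  apply IsHomogeneous.sum
  intro i _
  have h := hF.pderiv (i := i)
  rw [← mem_homogeneousSubmodule] at h ⊢
  exact Submodule.smul_mem _ _ h

theorem eval_polar (F : MvPolynomial (Fin 4) K) (a x : Fin 4 → K) :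
    eval x (polar F a) = dirD F x a := by
  simp only [polar, dirD, map_sum, smul_eval]

end Polar

section Lines

variable {K : Type*} [Field K]

/-- A 2-dimensional subspace through `a ≠ 0` is spanned by `a` and one more vector. -/
theorem two_dim (a : Fin 4 → K) (ha : a ≠ 0) (U : Submodule K (Fin 4 → K)) (haU : a ∈ U)
    (hU : Module.finrank K U = 2) :
    ∃ x ∈ U, x ∉ Submodule.span K {a} ∧ ∀ y ∈ U, ∃ α β : K, y = α • a + β • x := by
  have h1 : Submodule.span K {a} ≤ U := (Submodule.span_singleton_le_iff_mem a U).mpr haU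
  have h2 : Module.finrank K (Submodule.span K {a}) = 1 := finrank_span_singleton ha
  have h3 : Submodule.span K {a} < U := by
    refine lt_of_le_of_ne h1 ?_
    intro h
    rw [h, hU] at h2
    omega
  obtain ⟨x, hxU, hxa⟩ := SetLike.exists_of_lt h3
  refine ⟨x, hxU, hxa, ?_⟩
  have h4 : Submodule.span K {a, x} ≤ U := by
    rw [Submodule.span_le]
    intro y hy
    rcases hy with rfl | rfl
    · exact haU
    · exact hxU
  have h5 : Submodule.span K {a} < Submodule.span K {a, x} := by
    refine lt_of_le_of_ne (Submodule.span_mono (by simp)) ?_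
    intro h
    apply hxa
    rw [h]
    exact Submodule.subset_span (by simp)
  have h6 := Submodule.finrank_lt_finrank_of_lt h5
  have h7 : Submodule.span K {a, x} = U := by
    apply Submodule.eq_of_le_of_finrank_le h4
    rw [hU]
    omega
  intro y hy
  rw [← h7, Submodule.mem_span_pair] at hy
  obtain ⟨α, β, rfl⟩ := hy
  exact ⟨α, β, rfl⟩

/-- The span of `a` and a vector outside `K a` inside a 2-dimensional `U` is all of `U`. -/
theorem span_pair_eq (a : Fin 4 → K) (ha : a ≠ 0) (U : Submodule K (Fin 4 → K)) (haU : a ∈ U)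
    (hU : Module.finrank K U = 2) (x : Fin 4 → K) (hxU : x ∈ U)
    (hxa : x ∉ Submodule.span K {a}) : Submodule.span K {a, x} = U := by
  have h4 : Submodule.span K {a, x} ≤ U := by
    rw [Submodule.span_le]
    intro y hy
    rcases hy with rfl | rfl
    · exact haU
    · exact hxU
  have h5 : Submodule.span K {a} < Submodule.span K {a, x} := by
    refine lt_of_le_of_ne (Submodule.span_mono (by simp)) ?_
    intro h
    apply hxa
    rw [h]
    exact Submodule.subset_span (by simp)
  have h2 : Module.finrank K (Submodule.span K {a}) = 1 := finrank_span_singleton ha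
  have h6 := Submodule.finrank_lt_finrank_of_lt h5
  apply Submodule.eq_of_le_of_finrank_le h4
  rw [hU]
  omega

theorem line_eq (a : Fin 4 → K) (ha : a ≠ 0) (U U' : Submodule K (Fin 4 → K)) (haU : a ∈ U)
    (hU : Module.finrank K U = 2) (haU' : a ∈ U') (hU' : Module.finrank K U' = 2)
    (x : Fin 4 → K) (hxU : x ∈ U) (hxU' : x ∈ U') (hxa : x ∉ Submodule.span K {a}) : U = U' := by
  rw [← span_pair_eq a ha U haU hU x hxU hxa, ← span_pair_eq a ha U' haU' hU' x hxU' hxa]

end Lines

section Sing

variable {K : Type*} [Field K] [IsAlgClosed K] [CharZero K]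
  (F : MvPolynomial (Fin 4) K) (hF : F.IsHomogeneous 3)
  (a : Fin 4 → K) (ha : a ≠ 0) (hFa : eval a F = 0)
  (hsing : ∀ i : Fin 4, eval a (pderiv i F) = 0)

/-- The set of lines through `a` on the surface. -/
def lineSet : Set (Submodule K (Fin 4 → K)) :=
  {U | a ∈ U ∧ Module.finrank K U = 2 ∧ ∀ u ∈ U, eval u F = 0}

include hsing in
theorem lin_zero (x : Fin 4 → K) : dirD F a x = 0 := by
  simp [dirD, hsing]

include hF hFa hsing in
theorem f_add (x : Fin 4 → K) (r : K) :
    eval (x + r • a) F = eval x F + r * dirD F x a := by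
  rw [eval_add_smul F hF a hFa x r, lin_zero F a hsing]
  ring

include hF hFa hsing in
theorem p_add (x : Fin 4 → K) (r : K) : dirD F (x + r • a) a = dirD F x a := by
  rw [polar_add_smul F hF a hFa x r, lin_zero F a hsing]
  ring

include hF in
theorem p_taylor (b c : Fin 4 → K) (s t : K) :
    dirD F (s • b + t • c) a =
      s ^ 2 * dirD F b a + s * t * dirD (polar F a) b c + t ^ 2 * dirD F c a := by
  rw [← eval_polar, taylor2 _ (polar_hom F hF a), eval_polar, eval_polar]

include hF hFa hsing in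
theorem B_a (x : Fin 4 → K) : dirD (polar F a) x a = 0 := by
  have h := p_taylor F hF a x a 1 1
  rw [one_smul, p_add F hF a hFa hsing x 1, lin_zero F a hsing a] at h
  linear_combination -h

include hF hFa hsing in
theorem p_zero_of_mem {U : Submodule K (Fin 4 → K)} (hU : U ∈ lineSet F a) {u : Fin 4 → K}
    (hu : u ∈ U) : dirD F u a = 0 := by
  have h := f_add F hF a hFa hsing u 1
  rw [hU.2.2 u hu, hU.2.2 _ (U.add_mem hu (U.smul_mem 1 hU.1))] at h
  linear_combination -h

include hF in
/-- If `F` vanishes on the kernel of a nonzero functional then `F` is not irreducible. -/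
theorem not_irreducible_of_vanish (Λ : (Fin 4 → K) →ₗ[K] K) (hΛ : Λ ≠ 0)
    (hvan : ∀ x, Λ x = 0 → eval x F = 0) : ¬ Irreducible F := by
  classical
  intro hirr
  have hsum : ∀ x : Fin 4 → K,
      ∑ i, Λ (fun k => if i = k then 1 else 0) * x i = Λ x := by
    intro x
    rw [LinearMap.pi_apply_eq_sum_univ Λ x]
    exact Finset.sum_congr rfl fun i _ => by rw [smul_eq_mul, mul_comm]
  obtain ⟨i₀, hi₀⟩ : ∃ i₀ : Fin 4, Λ (fun k => if i₀ = k then 1 else 0) ≠ 0 := by
    by_contra h
    simp only [not_exists, not_not] at h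
    apply hΛ
    refine LinearMap.ext fun x => ?_
    rw [← hsum x]
    simp [h]
  have hmem := mem_span_of_vanish (fun i => Λ (fun k => if i = k then 1 else 0)) i₀ hi₀ F
    (fun x hx => hvan x (by rw [← hsum x]; exact hx))
  obtain ⟨G, hG⟩ := Ideal.mem_span_singleton.mp hmem
  have hL : (∑ i, C (Λ (fun k => if i = k then 1 else 0)) * X i : MvPolynomial (Fin 4) K) =
      polyOf Λ := rfl
  rw [hL] at hG
  have hF0 : F ≠ 0 := hirr.ne_zero
  rcases hirr.isUnit_or_isUnit hG with h | h
  · obtain ⟨L', hL'⟩ := h.exists_right_inv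
    have := congrArg (eval (0 : Fin 4 → K)) hL'
    rw [map_mul, eval_polyOf, map_zero, zero_mul, map_one] at this
    exact zero_ne_one this
  · obtain ⟨G', hG'⟩ := h.exists_right_inv
    have h1 : polyOf Λ = F * G' := by
      rw [hG, mul_assoc, hG', mul_one]
    have hG'0 : G' ≠ 0 := by
      rintro rfl
      rw [mul_zero] at hG'
      exact zero_ne_one hG'
    have h2 := totalDegree_mul_of_isDomain hF0 hG'0
    rw [← h1, hF.totalDegree hF0] at h2
    have h3 := (polyOf_hom Λ).totalDegree_le
    omega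

include hF ha hFa hsing in
/-- In a plane through `a` on which the polar vanishes there are at most three lines of the
surface through `a`. -/
theorem plane_bound (hirr : Irreducible F) (Λ : (Fin 4 → K) →ₗ[K] K) (hΛ : Λ ≠ 0)
    (hΛa : Λ a = 0) (hp : ∀ x, Λ x = 0 → dirD F x a = 0) :
    {U | U ∈ lineSet F a ∧ U ≤ LinearMap.ker Λ}.encard ≤ 3 := by
  classical
  have hfinH : Module.finrank K (LinearMap.ker Λ) = 3 := by
    have h1 := Module.Dual.finrank_ker_add_one_of_ne_zero (f := Λ) hΛ
    rw [Module.finrank_fin_fun] at h1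
    omega
  have haH : a ∈ LinearMap.ker Λ := LinearMap.mem_ker.mpr hΛa
  have ha' : (⟨a, haH⟩ : LinearMap.ker Λ) ≠ 0 := by
    intro h
    exact ha (congrArg Subtype.val h)
  obtain ⟨b, c, u, v, hua, hva, hub, hvb, huc, hvc, hdec⟩ := exists_coords hfinH ⟨a, haH⟩ ha'
  have hdec' : ∀ x : LinearMap.ker Λ, ∃ r : K, (x : Fin 4 → K) =
      (u x • (b : Fin 4 → K) + v x • (c : Fin 4 → K)) + r • a := by
    intro x
    obtain ⟨r, hr⟩ := hdec x
    refine ⟨r, ?_⟩
    have := congrArg Subtype.val hr
    simp only [Submodule.coe_add, Submodule.coe_smul] at this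
    rw [this]
    abel
  have hyH : ∀ s t : K, Λ (s • (b : Fin 4 → K) + t • (c : Fin 4 → K)) = 0 := fun s t =>
    LinearMap.mem_ker.mp ((LinearMap.ker Λ).add_mem ((LinearMap.ker Λ).smul_mem _ b.2)
      ((LinearMap.ker Λ).smul_mem _ c.2))
  obtain ⟨p₁, q₁, p₂, q₂, p₃, q₃, hfac⟩ := cubic_factor (eval (b : Fin 4 → K) F)
    (dirD F (b : Fin 4 → K) (c : Fin 4 → K)) (dirD F (c : Fin 4 → K) (b : Fin 4 → K))
    (eval (c : Fin 4 → K) F)
  have hf : ∀ x : LinearMap.ker Λ, eval (x : Fin 4 → K) F =
      (p₁ * u x + q₁ * v x) * (p₂ * u x + q₂ * v x) * (p₃ * u x + q₃ * v x) := by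
    intro x
    obtain ⟨r, hr⟩ := hdec' x
    rw [hr, f_add F hF a hFa hsing, hp _ (hyH _ _), mul_zero, add_zero, taylor3 F hF, ← hfac]
    ring
  by_cases hz : (p₁ = 0 ∧ q₁ = 0) ∨ (p₂ = 0 ∧ q₂ = 0) ∨ (p₃ = 0 ∧ q₃ = 0)
  · exfalso
    refine not_irreducible_of_vanish F hF Λ hΛ (fun x hx => ?_) hirr
    rw [hf ⟨x, LinearMap.mem_ker.mpr hx⟩]
    rcases hz with ⟨h1, h2⟩ | ⟨h1, h2⟩ | ⟨h1, h2⟩ <;> simp [h1, h2]
  · -- the three factors as functions of an index
    let pp : Fin 3 → K := ![p₁, p₂, p₃]
    let qq : Fin 3 → K := ![q₁, q₂, q₃]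
    have hpq : ∀ i : Fin 3, ¬ (pp i = 0 ∧ qq i = 0) := by
      intro i
      fin_cases i
      · exact fun h => hz (Or.inl h)
      · exact fun h => hz (Or.inr (Or.inl h))
      · exact fun h => hz (Or.inr (Or.inr h))
    have hf' : ∀ x : LinearMap.ker Λ, eval (x : Fin 4 → K) F = 0 →
        ∃ i : Fin 3, pp i * u x + qq i * v x = 0 := by
      intro x hx
      rw [hf x] at hx
      rcases mul_eq_zero.mp hx with h | h
      · rcases mul_eq_zero.mp h with h | h
        · exact ⟨0, h⟩
        · exact ⟨1, h⟩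
      · exact ⟨2, h⟩
    -- choice of a point and of an index for each line in the plane
    have hch : ∀ U : Submodule K (Fin 4 → K), U ∈ lineSet F a ∧ U ≤ LinearMap.ker Λ →
        ∃ (x : LinearMap.ker Λ) (i : Fin 3), (x : Fin 4 → K) ∈ U ∧
          (x : Fin 4 → K) ∉ Submodule.span K {a} ∧ pp i * u x + qq i * v x = 0 := by
      rintro U ⟨hU, hUH⟩
      obtain ⟨x, hxU, hxa, -⟩ := two_dim a ha U hU.1 hU.2.1
      obtain ⟨i, hi⟩ := hf' ⟨x, hUH hxU⟩ (hU.2.2 x hxU)
      exact ⟨⟨x, hUH hxU⟩, i, hxU, hxa, hi⟩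
    choose! xs is hxs using hch
    have hinj : Set.InjOn is {U | U ∈ lineSet F a ∧ U ≤ LinearMap.ker Λ} := by
      intro U hU U' hU' hii
      obtain ⟨h1, h2, h3⟩ := hxs U hU
      obtain ⟨h1', h2', h3'⟩ := hxs U' hU'
      rw [← hii] at h3'
      set i := is U
      set x := xs U
      set x' := xs U'
      have hne := hpq i
      -- the coordinates of `x` are not both zero
      have hx0 : ¬ (u x = 0 ∧ v x = 0) := by
        rintro ⟨hu0, hv0⟩
        obtain ⟨r, hr⟩ := hdec' x
        rw [hu0, hv0, zero_smul, zero_smul, add_zero, zero_add] at hr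
        apply h2
        rw [hr]
        exact Submodule.smul_mem _ _ (Submodule.mem_span_singleton_self a)
      have hdet : u x * v x' = u x' * v x := by
        by_cases hpi : pp i = 0
        · have hqi : qq i ≠ 0 := fun h => hne ⟨hpi, h⟩
          rw [hpi, zero_mul, zero_add] at h3 h3'
          have e1 := (mul_eq_zero.mp h3).resolve_left hqi
          have e2 := (mul_eq_zero.mp h3').resolve_left hqi
          rw [e1, e2]
          ring
        · have : pp i * (u x * v x' - u x' * v x) = 0 := by
            linear_combination (v x') * h3 - (v x) * h3'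
          have := (mul_eq_zero.mp this).resolve_left hpi
          linear_combination this
      -- `x'` is a combination of `a` and `x`
      obtain ⟨t, htu, htv⟩ : ∃ t : K, u x' = t * u x ∧ v x' = t * v x := by
        by_cases hu0 : u x = 0
        · have hv0 : v x ≠ 0 := fun h => hx0 ⟨hu0, h⟩
          refine ⟨v x' / v x, ?_, ?_⟩
          · rw [hu0, mul_zero]
            rw [hu0, zero_mul] at hdet
            exact ((mul_eq_zero.mp hdet.symm).resolve_right hv0)
          · field_simp
        · refine ⟨u x' / u x, ?_, ?_⟩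
          · field_simp
          · field_simp
            linear_combination hdet
      obtain ⟨r, hr⟩ := hdec' x
      obtain ⟨r', hr'⟩ := hdec' x'
      have hx'U : (x' : Fin 4 → K) ∈ U := by
        have e : (x' : Fin 4 → K) = t • (x : Fin 4 → K) + (r' - t * r) • a := by
          rw [hr', hr, htu, htv]
          simp only [smul_add, sub_smul, mul_smul]
          abel
        rw [e]
        exact U.add_mem (U.smul_mem _ h1) (U.smul_mem _ hU.1.1)
      exact line_eq a ha U U' hU.1.1 hU.1.2.1 hU'.1.1 hU'.1.2.1 x' hx'U h1' h2'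
    have hle := Set.encard_le_encard_of_injOn (t := (Set.univ : Set (Fin 3)))
      (fun U _ => Set.mem_univ _) hinj
    refine hle.trans ?_
    rw [Set.encard_univ]
    simp

include hF ha hFa hsing in
/-- If the polar vanishes on a plane (but not identically) there are at most six lines. -/
theorem bound_of_plane (hirr : Irreducible F) (hp0 : ∃ z, dirD F z a ≠ 0)
    (Λ : (Fin 4 → K) →ₗ[K] K) (hΛ : Λ ≠ 0) (hp : ∀ x, Λ x = 0 → dirD F x a = 0) :
    (lineSet F a).encard ≤ 6 := by
  classical
  have hΛa : Λ a = 0 := by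
    by_contra h
    obtain ⟨z, hz⟩ := hp0
    apply hz
    have h1 : Λ (z - (Λ z / Λ a) • a) = 0 := by
      rw [map_sub, map_smul, smul_eq_mul]
      field_simp
      ring
    have h2 := hp _ h1
    have e : z = (z - (Λ z / Λ a) • a) + (Λ z / Λ a) • a := by abel
    rw [e, p_add F hF a hFa hsing]
    exact h2
  obtain ⟨z₀, hz₀⟩ : ∃ z₀, Λ z₀ ≠ 0 := by
    by_contra h
    simp only [not_exists, not_not] at h
    exact hΛ (LinearMap.ext h)
  set z := (Λ z₀)⁻¹ • z₀ with hz
  have hΛz : Λ z = 1 := by rw [hz, map_smul, smul_eq_mul, inv_mul_cancel₀ hz₀]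
  let μ : (Fin 4 → K) →ₗ[K] K :=
    { toFun := fun x => dirD (polar F a) z x - Λ x * dirD F z a
      map_add' := fun x y => by
        rw [dirD_dir_add, map_add]
        ring
      map_smul' := fun r x => by
        rw [dirD_dir_smul, map_smul, smul_eq_mul, RingHom.id_apply, smul_eq_mul]
        ring }
  have hμ : ∀ x, μ x = dirD (polar F a) z x - Λ x * dirD F z a := fun x => rfl
  have hprod : ∀ x, dirD F x a = Λ x * μ x := by
    intro x
    have hw0 : Λ (x - Λ x • z) = 0 := by
      rw [map_sub, map_smul, hΛz, smul_eq_mul, mul_one, sub_self]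
    have e : x = (1 : K) • (x - Λ x • z) + Λ x • z := by
      rw [one_smul]
      abel
    have h1 := p_taylor F hF a (x - Λ x • z) z 1 (Λ x)
    rw [← e, hp _ hw0] at h1
    have h2 : dirD (polar F a) (x - Λ x • z) z =
        dirD (polar F a) z x - Λ x * (2 * dirD F z a) := by
      rw [dirD_symm _ (polar_hom F hF a) (x - Λ x • z) z, sub_eq_add_neg, dirD_dir_add,
        ← neg_smul, dirD_dir_smul, dirD_self2 _ (polar_hom F hF a), eval_polar]
      ring
    rw [h1, h2, hμ]
    ring
  have hμ0 : μ ≠ 0 := by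
    intro h
    obtain ⟨z', hz'⟩ := hp0
    apply hz'
    rw [hprod, h, LinearMap.zero_apply, mul_zero]
  have hμa : μ a = 0 := by
    rw [hμ, B_a F hF a hFa hsing, hΛa]
    ring
  have hsub : lineSet F a ⊆ {U | U ∈ lineSet F a ∧ U ≤ LinearMap.ker Λ} ∪
      {U | U ∈ lineSet F a ∧ U ≤ LinearMap.ker μ} := by
    intro U hU
    by_cases h1 : U ≤ LinearMap.ker Λ
    · exact Or.inl ⟨hU, h1⟩
    · right
      refine ⟨hU, ?_⟩
      obtain ⟨y, hyU, hy⟩ := SetLike.not_le_iff_exists.mp h1
      intro w hw
      rw [LinearMap.mem_ker]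
      by_contra hμw
      have hy' : Λ y ≠ 0 := fun h => hy (LinearMap.mem_ker.mpr h)
      have e1 : μ y = 0 := by
        have := p_zero_of_mem F hF a hFa hsing hU hyU
        rw [hprod] at this
        exact (mul_eq_zero.mp this).resolve_left hy'
      have e2 : Λ w = 0 := by
        have := p_zero_of_mem F hF a hFa hsing hU hw
        rw [hprod] at this
        exact (mul_eq_zero.mp this).resolve_right hμw
      have := p_zero_of_mem F hF a hFa hsing hU (U.add_mem hyU hw)
      rw [hprod, map_add, map_add, e1, e2, add_zero, zero_add] at this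
      rcases mul_eq_zero.mp this with h | h
      · exact hy' h
      · exact hμw h
  calc (lineSet F a).encard
      ≤ ({U | U ∈ lineSet F a ∧ U ≤ LinearMap.ker Λ} ∪
          {U | U ∈ lineSet F a ∧ U ≤ LinearMap.ker μ}).encard := Set.encard_le_encard hsub
    _ ≤ {U | U ∈ lineSet F a ∧ U ≤ LinearMap.ker Λ}.encard +
          {U | U ∈ lineSet F a ∧ U ≤ LinearMap.ker μ}.encard := Set.encard_union_le _ _
    _ ≤ 3 + 3 := add_le_add (plane_bound F hF a ha hFa hsing hirr Λ hΛ hΛa hp)
          (plane_bound F hF a ha hFa hsing hirr μ hμ0 hμa (fun x hx => by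
            rw [hprod, hx, mul_zero]))
    _ = 6 := by norm_num

/-- The quintic in `T` whose roots detect the lines through `a` other than `K a + K x₀`. -/
noncomputable def hpoly (F : MvPolynomial (Fin 4) K) (a x₀ y e : Fin 4 → K) : Polynomial K :=
  - (Polynomial.C (dirD F y a) + Polynomial.C (dirD (polar F a) y e) * Polynomial.X +
        Polynomial.C (dirD F e a) * Polynomial.X ^ 2) ^ 2 *
      (Polynomial.C (dirD F x₀ y) + Polynomial.C (dirD F x₀ e) * Polynomial.X)
  + (Polynomial.C (dirD F y a) + Polynomial.C (dirD (polar F a) y e) * Polynomial.X +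
        Polynomial.C (dirD F e a) * Polynomial.X ^ 2) *
      (Polynomial.C (dirD F y x₀) + Polynomial.C (dirD (polar F x₀) y e) * Polynomial.X +
        Polynomial.C (dirD F e x₀) * Polynomial.X ^ 2)
  - (Polynomial.C (eval y F) + Polynomial.C (dirD F y e) * Polynomial.X +
      Polynomial.C (dirD F e y) * Polynomial.X ^ 2 + Polynomial.C (eval e F) * Polynomial.X ^ 3)

theorem hpoly_natDegree (x₀ y e : Fin 4 → K) : (hpoly F a x₀ y e).natDegree ≤ 5 := by
  unfold hpoly
  compute_degree

include hF in
theorem hpoly_eval (x₀ y e : Fin 4 → K) (hx₀ : eval x₀ F = 0) (T : K) :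
    (hpoly F a x₀ y e).eval T =
      eval (dirD F (y + T • e) a • x₀ + (-1 : K) • (y + T • e)) F := by
  have e1 : y + T • e = (1 : K) • y + T • e := by rw [one_smul]
  have h1 : dirD F (y + T • e) a =
      dirD F y a + dirD (polar F a) y e * T + dirD F e a * T ^ 2 := by
    rw [e1, p_taylor F hF a]
    ring
  have h2 : dirD F x₀ (y + T • e) = dirD F x₀ y + dirD F x₀ e * T := by
    rw [dirD_dir_add, dirD_dir_smul]
    ring
  have h3 : dirD F (y + T • e) x₀ =
      dirD F y x₀ + dirD (polar F x₀) y e * T + dirD F e x₀ * T ^ 2 := by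
    rw [e1, p_taylor F hF x₀]
    ring
  have h4 : eval (y + T • e) F =
      eval y F + dirD F y e * T + dirD F e y * T ^ 2 + eval e F * T ^ 3 := by
    rw [e1, taylor3 F hF]
    ring
  rw [taylor3 F hF, hx₀, h2, h3, h4, h1]
  simp only [hpoly, Polynomial.eval_add, Polynomial.eval_sub, Polynomial.eval_mul,
    Polynomial.eval_pow, Polynomial.eval_C, Polynomial.eval_X, Polynomial.eval_neg]
  ring

include hF hFa hsing in
/-- If the polar vanishes at `x`, `y` and they are conjugate, it vanishes on a plane. -/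
theorem vanish_plane (ha : a ≠ 0) (x y : Fin 4 → K) (hx : dirD F x a = 0) (hy : dirD F y a = 0)
    (hxy : dirD (polar F a) x y = 0) (hxa : x ∉ Submodule.span K {a})
    (hyax : y ∉ Submodule.span K {a, x}) :
    ∃ Λ : (Fin 4 → K) →ₗ[K] K, Λ ≠ 0 ∧ ∀ w, Λ w = 0 → dirD F w a = 0 := by
  have hvan : ∀ w ∈ Submodule.span K {a, x, y}, dirD F w a = 0 := by
    intro w hw
    rw [Submodule.mem_span_triple] at hw
    obtain ⟨α, β, γ, rfl⟩ := hw
    have e : α • a + β • x + γ • y = (β • x + γ • y) + α • a := by abel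
    rw [e, p_add F hF a hFa hsing, p_taylor F hF a, hx, hy, hxy]
    ring
  by_cases hT : Submodule.span K {a, x, y} = ⊤
  · refine ⟨LinearMap.proj 0, ?_, fun w _ => hvan w (hT ▸ Submodule.mem_top)⟩
    intro h
    have := LinearMap.congr_fun h (Pi.single 0 1)
    simp at this
  · obtain ⟨Λ, hΛ, hle⟩ := Submodule.exists_le_ker_of_lt_top _ (lt_top_iff_ne_top.mpr hT)
    refine ⟨Λ, hΛ, fun w hw => hvan w ?_⟩
    have hfin : Module.finrank K (LinearMap.ker Λ) = 3 := by
      have h1 := Module.Dual.finrank_ker_add_one_of_ne_zero (f := Λ) hΛ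
      rw [Module.finrank_fin_fun] at h1
      omega
    have h1 : Submodule.span K {a} < Submodule.span K {a, x} := by
      refine lt_of_le_of_ne (Submodule.span_mono (by simp)) ?_
      intro h
      apply hxa
      rw [h]
      exact Submodule.subset_span (by simp)
    have h2 : Submodule.span K {a, x} < Submodule.span K {a, x, y} := by
      refine lt_of_le_of_ne (Submodule.span_mono ?_) ?_
      · intro z hz
        simp only [Set.mem_insert_iff, Set.mem_singleton_iff] at hz ⊢
        tauto
      · intro h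
        apply hyax
        rw [h]
        exact Submodule.subset_span (by simp)
    have h3 := Submodule.finrank_lt_finrank_of_lt h1
    have h4 := Submodule.finrank_lt_finrank_of_lt h2
    rw [finrank_span_singleton ha] at h3
    have h5 : Submodule.span K {a, x, y} = LinearMap.ker Λ :=
      Submodule.eq_of_le_of_finrank_le hle (by rw [hfin]; omega)
    rw [h5]
    exact LinearMap.mem_ker.mpr hw

include hF ha hFa hsing in
/-- With seven lines and no plane in the polar quadric, `F` vanishes on the polar quadric. -/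
theorem f_vanish_of_seven
    (hB2 : ∀ Λ : (Fin 4 → K) →ₗ[K] K, Λ ≠ 0 → ∃ x, Λ x = 0 ∧ dirD F x a ≠ 0)
    (U : Fin 7 → Submodule K (Fin 4 → K)) (hUinj : Function.Injective U)
    (hU : ∀ j, U j ∈ lineSet F a) :
    ∀ x, dirD F x a = 0 → eval x F = 0 := by
  classical
  have noplane : ∀ x y, dirD F x a = 0 → dirD F y a = 0 → dirD (polar F a) x y = 0 →
      x ∉ Submodule.span K {a} → y ∉ Submodule.span K {a, x} → False := by
    intro x y hx hy hxy hxa hyax
    obtain ⟨Λ, hΛ, hv⟩ := vanish_plane F hF a hFa hsing ha x y hx hy hxy hxa hyax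
    obtain ⟨w, hw, hpw⟩ := hB2 Λ hΛ
    exact hpw (hv w hw)
  obtain ⟨x₀, hx₀U, hx₀a, hx₀gen⟩ := two_dim a ha (U 0) (hU 0).1 (hU 0).2.1
  have hU0 : Submodule.span K {a, x₀} = U 0 :=
    span_pair_eq a ha (U 0) (hU 0).1 (hU 0).2.1 x₀ hx₀U hx₀a
  have hpx₀ : dirD F x₀ a = 0 := p_zero_of_mem F hF a hFa hsing (hU 0) hx₀U
  have hfx₀ : eval x₀ F = 0 := (hU 0).2.2 x₀ hx₀U
  have hch : ∀ j : Fin 6, ∃ x ∈ U j.succ, x ∉ Submodule.span K {a} := fun j => by
    obtain ⟨x, h1, h2, -⟩ := two_dim a ha (U j.succ) (hU j.succ).1 (hU j.succ).2.1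
    exact ⟨x, h1, h2⟩
  choose xs hxsU hxsa using hch
  have hpxs : ∀ j, dirD F (xs j) a = 0 := fun j =>
    p_zero_of_mem F hF a hFa hsing (hU j.succ) (hxsU j)
  have hxs0 : ∀ j, xs j ∉ Submodule.span K {a, x₀} := by
    intro j h
    rw [hU0] at h
    have := line_eq a ha (U 0) (U j.succ) (hU 0).1 (hU 0).2.1 (hU j.succ).1 (hU j.succ).2.1
      (xs j) h (hxsU j) (hxsa j)
    exact (Fin.succ_ne_zero j) (hUinj this).symm
  let Bl : (Fin 4 → K) →ₗ[K] K :=
    { toFun := fun y => dirD (polar F a) x₀ y
      map_add' := fun x y => dirD_dir_add _ _ x y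
      map_smul' := fun r x => by simp [dirD_dir_smul] }
  have hBl : ∀ y, Bl y = dirD (polar F a) x₀ y := fun y => rfl
  have hBa : Bl a = 0 := B_a F hF a hFa hsing x₀
  have hBx₀ : Bl x₀ = 0 := by
    rw [hBl, dirD_self2 _ (polar_hom F hF a), eval_polar, hpx₀, mul_zero]
  have hBxs : ∀ j, Bl (xs j) ≠ 0 := fun j h =>
    noplane x₀ (xs j) hpx₀ (hpxs j) h hx₀a (hxs0 j)
  have hpcomb : ∀ (j : Fin 6) (γ β α : K),
      dirD F (γ • xs j + β • x₀ + α • a) a = γ * β * Bl (xs j) := by
    intro j γ β α
    rw [p_add F hF a hFa hsing, p_taylor F hF a, hpxs j, hpx₀,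
      dirD_symm _ (polar_hom F hF a) (xs j) x₀, hBl]
    ring
  intro x hpx
  by_cases hBx : Bl x = 0
  · by_cases hxU0 : x ∈ Submodule.span K {a, x₀}
    · rw [hU0] at hxU0
      exact (hU 0).2.2 x hxU0
    · exact (noplane x₀ x hpx₀ hpx hBx hx₀a hxU0).elim
  · obtain ⟨xB, hxB⟩ : ∃ xB : Fin 4 → K, xB = (Bl x)⁻¹ • x := ⟨_, rfl⟩
    have hBxB : Bl xB = 1 := by rw [hxB, map_smul, smul_eq_mul, inv_mul_cancel₀ hBx]
    have hpxB : dirD F xB a = 0 := by
      rw [hxB, ← eval_polar, eval_smul2 _ (polar_hom F hF a), eval_polar, hpx, mul_zero]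
    have hBl0 : Bl ≠ 0 := fun h => hBx (by rw [h]; rfl)
    have hfinB : Module.finrank K (LinearMap.ker Bl) = 3 := by
      have h1 := Module.Dual.finrank_ker_add_one_of_ne_zero (f := Bl) hBl0
      rw [Module.finrank_fin_fun] at h1
      omega
    have hU0le : U 0 ≤ LinearMap.ker Bl := by
      rw [← hU0, Submodule.span_le]
      intro y hy
      rcases hy with rfl | rfl
      · exact LinearMap.mem_ker.mpr hBa
      · exact LinearMap.mem_ker.mpr hBx₀
    have hU0lt : U 0 < LinearMap.ker Bl := by
      refine lt_of_le_of_ne hU0le ?_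
      intro h
      have := (hU 0).2.1
      rw [h, hfinB] at this
      omega
    obtain ⟨e, heB, heU⟩ := SetLike.exists_of_lt hU0lt
    have hsup : U 0 ⊔ Submodule.span K {e} = LinearMap.ker Bl := by
      apply Submodule.eq_of_le_of_finrank_le
        (sup_le hU0le ((Submodule.span_singleton_le_iff_mem _ _).mpr heB))
      have hlt : U 0 < U 0 ⊔ Submodule.span K {e} := by
        refine lt_of_le_of_ne le_sup_left ?_
        intro h
        apply heU
        rw [h]
        exact Submodule.mem_sup_right (Submodule.mem_span_singleton_self e)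
      have := Submodule.finrank_lt_finrank_of_lt hlt
      rw [(hU 0).2.1] at this
      rw [hfinB]
      omega
    have hT : ∀ j : Fin 6, ∃ (T α β : K),
        xB + T • e = (Bl (xs j))⁻¹ • xs j + β • x₀ + α • a := by
      intro j
      have hd : xB - (Bl (xs j))⁻¹ • xs j ∈ LinearMap.ker Bl := by
        rw [LinearMap.mem_ker, map_sub, map_smul, hBxB, smul_eq_mul,
          inv_mul_cancel₀ (hBxs j), sub_self]
      rw [← hsup, Submodule.mem_sup] at hd
      obtain ⟨y, hy, z, hz, hyz⟩ := hd
      obtain ⟨T', rfl⟩ := Submodule.mem_span_singleton.mp hz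
      obtain ⟨α, β, rfl⟩ := hx₀gen y hy
      refine ⟨-T', α, β, ?_⟩
      have : xB = (α • a + β • x₀ + T' • e) + (Bl (xs j))⁻¹ • xs j := by
        rw [hyz]
        abel
      rw [this, neg_smul]
      abel
    choose Ts αs βs hTs using hT
    have hroot : ∀ j, (hpoly F a x₀ xB e).eval (Ts j) = 0 := by
      intro j
      rw [hpoly_eval F hF a x₀ xB e hfx₀, hTs j, hpcomb j]
      have e1 : (Bl (xs j))⁻¹ * βs j * Bl (xs j) = βs j := by
        rw [mul_comm, ← mul_assoc, mul_inv_cancel₀ (hBxs j), one_mul]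
      rw [e1]
      have e2 : βs j • x₀ + (-1 : K) • ((Bl (xs j))⁻¹ • xs j + βs j • x₀ + αs j • a) =
          (-(Bl (xs j))⁻¹) • xs j + (-αs j) • a := by
        simp only [smul_add, neg_smul, one_smul]
        abel
      rw [e2]
      exact (hU j.succ).2.2 _ ((U j.succ).add_mem ((U j.succ).smul_mem _ (hxsU j))
        ((U j.succ).smul_mem _ (hU j.succ).1))
    have hTinj : Function.Injective Ts := by
      intro j k hjk
      have h1 := hTs j
      have h2 := hTs k
      rw [hjk] at h1
      have h3 := h1.symm.trans h2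
      have h4 : (Bl (xs k))⁻¹ • xs k =
          (Bl (xs j))⁻¹ • xs j + (βs j - βs k) • x₀ + (αs j - αs k) • a := by
        calc (Bl (xs k))⁻¹ • xs k
            = ((Bl (xs k))⁻¹ • xs k + βs k • x₀ + αs k • a) - βs k • x₀ - αs k • a := by abel
          _ = ((Bl (xs j))⁻¹ • xs j + βs j • x₀ + αs j • a) - βs k • x₀ - αs k • a := by rw [h3]
          _ = _ := by
            rw [sub_smul, sub_smul]
            abel
      have h5 : xs k = (Bl (xs k) * (Bl (xs j))⁻¹) • xs j + (Bl (xs k) * (βs j - βs k)) • x₀ +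
          (Bl (xs k) * (αs j - αs k)) • a := by
        have := congrArg (fun v => Bl (xs k) • v) h4
        simp only [smul_smul, smul_add, mul_inv_cancel₀ (hBxs k), one_smul] at this
        exact this
      have h6 := hpcomb j (Bl (xs k) * (Bl (xs j))⁻¹) (Bl (xs k) * (βs j - βs k))
        (Bl (xs k) * (αs j - αs k))
      rw [← h5, hpxs k] at h6
      have h7 : Bl (xs k) * (βs j - βs k) = 0 := by
        have hne : Bl (xs k) * (Bl (xs j))⁻¹ ≠ 0 := mul_ne_zero (hBxs k) (inv_ne_zero (hBxs j))
        rcases mul_eq_zero.mp h6.symm with h | h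
        · rcases mul_eq_zero.mp h with h | h
          · exact (hne h).elim
          · exact h
        · exact (hBxs j h).elim
      rw [h7, zero_smul, add_zero] at h5
      have hmem : xs k ∈ U j.succ := by
        rw [h5]
        exact (U j.succ).add_mem ((U j.succ).smul_mem _ (hxsU j))
          ((U j.succ).smul_mem _ (hU j.succ).1)
      have := line_eq a ha (U j.succ) (U k.succ) (hU j.succ).1 (hU j.succ).2.1 (hU k.succ).1
        (hU k.succ).2.1 (xs k) hmem (hxsU k) (hxsa k)
      exact Fin.succ_injective _ (hUinj this)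
    have hh : hpoly F a x₀ xB e = 0 :=
      Polynomial.eq_zero_of_natDegree_lt_card_of_eval_eq_zero _ hTinj hroot (by
        have := hpoly_natDegree F a x₀ xB e
        rw [Fintype.card_fin]
        omega)
    have h0 := hpoly_eval F hF a x₀ xB e hfx₀ 0
    rw [hh, Polynomial.eval_zero, zero_smul, add_zero, hpxB, zero_smul, zero_add,
      eval_smul3 F hF, hxB, eval_smul3 F hF] at h0
    have hne : (-1 : K) ^ 3 * (Bl x)⁻¹ ^ 3 ≠ 0 :=
      mul_ne_zero (pow_ne_zero _ (neg_ne_zero.mpr one_ne_zero)) (pow_ne_zero _ (inv_ne_zero hBx))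
    have h1 : (-1 : K) ^ 3 * (Bl x)⁻¹ ^ 3 * eval x F = 0 := by
      rw [mul_assoc]
      exact h0.symm
    exact (mul_eq_zero.mp h1).resolve_left hne

include hF ha hFa hsing in
/-- At most six lines through a singular point of an irreducible cubic surface which is not a
cone. -/
theorem main (hirr : Irreducible F)
    (hcone : ¬ ∃ v : Fin 4 → K, v ≠ 0 ∧ ∑ i : Fin 4, v i • pderiv i F = 0) :
    (lineSet F a).encard ≤ 6 := by
  classical
  have hp0 : ∃ z, dirD F z a ≠ 0 := by
    by_contra h
    simp only [not_exists, not_not] at h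
    apply hcone
    refine ⟨a, ha, ?_⟩
    have : polar F a = 0 := by
      apply MvPolynomial.funext
      intro x
      rw [eval_polar, h x, map_zero]
    exact this
  by_cases hB1 : ∃ Λ : (Fin 4 → K) →ₗ[K] K, Λ ≠ 0 ∧ ∀ x, Λ x = 0 → dirD F x a = 0
  · obtain ⟨Λ, hΛ, hp⟩ := hB1
    exact bound_of_plane F hF a ha hFa hsing hirr hp0 Λ hΛ hp
  · have hB2 : ∀ Λ : (Fin 4 → K) →ₗ[K] K, Λ ≠ 0 → ∃ x, Λ x = 0 ∧ dirD F x a ≠ 0 := by
      intro Λ hΛ
      by_contra h
      apply hB1
      refine ⟨Λ, hΛ, fun x hx => ?_⟩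
      by_contra hpx
      exact h ⟨x, hx, hpx⟩
    by_contra hnot
    have h7 : ((7 : ℕ) : ℕ∞) ≤ (lineSet F a).encard := by
      have h6 := not_le.mp hnot
      have := Order.add_one_le_of_lt h6
      refine le_trans ?_ this
      norm_num
    obtain ⟨t, htsub, htcard⟩ := Set.exists_subset_encard_eq h7
    have htfin : t.Finite := Set.finite_of_encard_eq_coe htcard
    have hcard : htfin.toFinset.card = 7 := by
      have := htfin.encard_eq_coe_toFinset_card
      rw [htcard] at this
      exact_mod_cast this.symm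
    let e : Fin 7 ≃ htfin.toFinset := (Finset.equivFinOfCardEq hcard).symm
    have hUinj : Function.Injective (fun j : Fin 7 => ((e j : htfin.toFinset) :
        Submodule K (Fin 4 → K))) := Subtype.val_injective.comp e.injective
    have hU : ∀ j : Fin 7, ((e j : htfin.toFinset) : Submodule K (Fin 4 → K)) ∈ lineSet F a :=
      fun j => htsub (htfin.mem_toFinset.mp (e j).2)
    have hvan := f_vanish_of_seven F hF a ha hFa hsing hB2 _ hUinj hU
    -- Nullstellensatz
    have hmem : F ∈ (Ideal.span {polar F a}).radical := by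
      rw [← MvPolynomial.vanishingIdeal_zeroLocus_eq_radical (K := K)]
      rw [MvPolynomial.mem_vanishingIdeal_iff]
      intro x hx
      rw [MvPolynomial.mem_zeroLocus_iff] at hx
      have h1 := hx (polar F a) (Ideal.subset_span rfl)
      rw [MvPolynomial.aeval_eq_eval] at h1 ⊢
      rw [eval_polar] at h1
      exact hvan x h1
    obtain ⟨m, hm⟩ := hmem
    have hdvd : polar F a ∣ F ^ m := Ideal.mem_span_singleton.mp hm
    have hP0 : polar F a ≠ 0 := by
      intro h
      obtain ⟨z, hz⟩ := hp0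
      apply hz
      rw [← eval_polar, h, map_zero]
    have hPu : ¬ IsUnit (polar F a) := by
      intro h
      obtain ⟨P', hP'⟩ := h.exists_right_inv
      have := congrArg (eval a) hP'
      rw [map_mul, eval_polar, lin_zero F a hsing a, zero_mul, map_one] at this
      exact zero_ne_one this
    obtain ⟨π, hπ, hπP⟩ := WfDvdMonoid.exists_irreducible_factor hPu hP0
    have hπF : π ∣ F :=
      (UniqueFactorizationMonoid.irreducible_iff_prime.mp hπ).dvd_of_dvd_pow (hπP.trans hdvd)
    have hFπ : F ∣ π := hπ.dvd_symm hirr hπF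
    obtain ⟨R, hR⟩ := hFπ.trans hπP
    have hF0 : F ≠ 0 := hirr.ne_zero
    have hR0 : R ≠ 0 := by
      rintro rfl
      rw [mul_zero] at hR
      exact hP0 hR
    have h2 := totalDegree_mul_of_isDomain hF0 hR0
    rw [← hR, hF.totalDegree hF0] at h2
    have h3 := (polar_hom F hF a).totalDegree_le
    omega

end Sing

end Groth.Agent.R2.H77.CubicSing
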