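import Mathlib

/-!
# Helper for S10422 (helper77): the closure of the off-diagonal residue-field points meets the
diagonal.
-/

set_option autoImplicit false
set_option linter.unusedSectionVars false
set_option linter.unusedVariables false
set_option linter.style.haveILetI false

open TensorProduct

namespace Groth.Agent.R2.H77.DiagClosure

universe u

/-- A common field receiving the first `N` fields of a sequence of extensions of `k`. -/
theorem exists_field_algHoms (k : Type u) [Field k] (K : ℕ → Type u) [∀ n, Field (K n)]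
    [∀ n, Algebra k (K n)] (N : ℕ) :
    ∃ (Ω : Type u) (_ : Field Ω) (_ : Algebra k Ω), ∀ n, n < N → Nonempty (K n →ₐ[k] Ω) := by
  induction N with
  | zero => exact ⟨k, inferInstance, inferInstance, fun n hn => absurd hn (Nat.not_lt_zero n)⟩
  | succ N ih =>
    obtain ⟨Ω, _, _, h⟩ := ih
    haveI : Nontrivial (Ω ⊗[k] K N) :=
      Algebra.TensorProduct.nontrivial_of_algebraMap_injective_of_flat_left (R := k) Ω (K N)
        (algebraMap k (K N)).injective
    obtain ⟨M, hM⟩ := Ideal.exists_maximal (Ω ⊗[k] K N)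
    haveI := hM
    letI : Field ((Ω ⊗[k] K N) ⧸ M) := Ideal.Quotient.field M
    refine ⟨(Ω ⊗[k] K N) ⧸ M, inferInstance, inferInstance, fun n hn => ?_⟩
    rcases Nat.lt_succ_iff_lt_or_eq.mp hn with hlt | rfl
    · obtain ⟨f⟩ := h n hlt
      exact ⟨((Ideal.Quotient.mkₐ k M).comp Algebra.TensorProduct.includeLeft).comp f⟩
    · exact ⟨(Ideal.Quotient.mkₐ k M).comp Algebra.TensorProduct.includeRight⟩

/-- Biorthogonality forces an off-diagonal pairing to be non-zero. -/
theorem exists_ne_map_ne_zero {A : Type*} [CommRing A] {Ω : Type*} [Field Ω] (S : Finset (A × A))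
    (hS : ∑ i ∈ S, i.1 * i.2 = 1) (f : Fin (S.card + 1) → (A →+* Ω)) :
    ∃ n m, n ≠ m ∧ ∑ i ∈ S, f n i.1 * f m i.2 ≠ 0 := by
  classical
  by_contra h
  push Not at h
  let α : Fin (S.card + 1) → (↥S → Ω) := fun n i => f n i.1.1
  have hpair : ∀ n m : Fin (S.card + 1),
      ∑ i : ↥S, α n i * f m i.1.2 = if n = m then 1 else 0 := by
    intro n m
    have h1 : ∑ i : ↥S, α n i * f m i.1.2 = ∑ i ∈ S, f n i.1 * f m i.2 :=
      Finset.sum_coe_sort S (fun i => f n i.1 * f m i.2)
    rw [h1]
    by_cases hnm : n = m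
    · rw [if_pos hnm, ← hnm]
      simp_rw [← map_mul]
      rw [← map_sum, hS, map_one]
    · rw [if_neg hnm]
      exact h n m hnm
  have hli : LinearIndependent Ω α := by
    rw [linearIndependent_iff']
    intro s g hg m hm
    have h2 : ∑ i : ↥S, (∑ n ∈ s, g n • α n) i * f m i.1.2 = 0 := by
      rw [hg]
      simp
    have h3 : ∑ i : ↥S, (∑ n ∈ s, g n • α n) i * f m i.1.2 =
        ∑ n ∈ s, g n * ∑ i : ↥S, α n i * f m i.1.2 := by
      simp only [Finset.sum_apply, Pi.smul_apply, smul_eq_mul, Finset.sum_mul, Finset.mul_sum]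
      rw [Finset.sum_comm]
      refine Finset.sum_congr rfl fun n _ => Finset.sum_congr rfl fun i _ => ?_
      ring
    rw [h3] at h2
    simp_rw [hpair] at h2
    simpa [hm] using h2
  have hcard := hli.fintype_card_le_finrank
  rw [Module.finrank_fintype_fun_eq_card, Fintype.card_coe, Fintype.card_fin] at hcard
  omega

section Main

variable (A : Type u) [CommRing A] (k : Type u) [Field k] (K : ℕ → Type u) [∀ n, Field (K n)]
  [∀ n, Algebra A (K n)] [∀ n, Algebra k (K n)]

/-- The map `A ⊗ A → K n ⊗[k] K m`. -/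
noncomputable abbrev phi (n m : ℕ) : A ⊗[ℤ] A →+* K n ⊗[k] K m :=
  (Algebra.TensorProduct.lift
    ((Algebra.TensorProduct.includeLeft (R := k) (S := ℤ) (A := K n)
      (B := K m)).toRingHom.toIntAlgHom.comp (Algebra.ofId A (K n)).toRingHom.toIntAlgHom)
    ((Algebra.TensorProduct.includeRight (R := k) (A := K n) (B := K m)).toRingHom.toIntAlgHom.comp
      (Algebra.ofId A (K m)).toRingHom.toIntAlgHom)
    (fun _ _ => Commute.all _ _)).toRingHom

theorem phi_tmul (n m : ℕ) (a b : A) :
    phi A k K n m (a ⊗ₜ b) = algebraMap A (K n) a ⊗ₜ[k] algebraMap A (K m) b := by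
  simp [phi, Algebra.TensorProduct.tmul_mul_tmul]

/-- Key algebraic lemma: an element of `A ⊗ A` mapping to `1` on the diagonal is not nilpotent
at some off-diagonal pair. -/
theorem exists_prime_notMem (z : A ⊗[ℤ] A)
    (hz : (Algebra.TensorProduct.lmul' (S := A) ℤ).toRingHom z = 1) :
    ∃ n m : ℕ, n ≠ m ∧ ∃ q : PrimeSpectrum (K n ⊗[k] K m), phi A k K n m z ∉ q.asIdeal := by
  classical
  obtain ⟨S, hS⟩ := TensorProduct.exists_finset z
  have hS1 : ∑ i ∈ S, i.1 * i.2 = 1 := by
    rw [← hz, hS, map_sum]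
    refine Finset.sum_congr rfl fun i _ => ?_
    simp
  obtain ⟨Ω, _, _, hΩ⟩ := exists_field_algHoms k K (S.card + 1)
  let ι : ∀ n : Fin (S.card + 1), K n →ₐ[k] Ω := fun n => (hΩ n n.2).some
  let f : Fin (S.card + 1) → (A →+* Ω) := fun n => (ι n).toRingHom.comp (algebraMap A (K n))
  obtain ⟨n, m, hnm, hne⟩ := exists_ne_map_ne_zero S hS1 f
  refine ⟨n, m, fun h => hnm (Fin.ext h), ?_⟩
  let ψ : K n ⊗[k] K m →ₐ[k] Ω :=
    Algebra.TensorProduct.lift (ι n) (ι m) (fun _ _ => Commute.all _ _)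
  haveI : (RingHom.ker ψ.toRingHom).IsPrime := RingHom.ker_isPrime _
  refine ⟨⟨RingHom.ker ψ.toRingHom, inferInstance⟩, ?_⟩
  change ¬ (phi A k K n m z ∈ RingHom.ker ψ.toRingHom)
  rw [RingHom.mem_ker]
  intro h0
  apply hne
  rw [← h0, hS, map_sum, map_sum]
  refine Finset.sum_congr rfl fun i _ => ?_
  rw [phi_tmul]
  simp [ψ, f]

/-- Main theorem for S10422. -/
theorem main :
    (closure (⋃ (n : ℕ) (m : ℕ) (_ : n ≠ m),
        Set.range (PrimeSpectrum.comap
          (Algebra.TensorProduct.lift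
            ((Algebra.TensorProduct.includeLeft (R := k) (S := ℤ) (A := K n)
              (B := K m)).toRingHom.toIntAlgHom.comp
              (Algebra.ofId A (K n)).toRingHom.toIntAlgHom)
            ((Algebra.TensorProduct.includeRight (R := k) (A := K n)
              (B := K m)).toRingHom.toIntAlgHom.comp
              (Algebra.ofId A (K m)).toRingHom.toIntAlgHom)
            (fun _ _ => Commute.all _ _)).toRingHom)) ∩
      Set.range (PrimeSpectrum.comap (Algebra.TensorProduct.lmul' (S := A) ℤ).toRingHom)).Nonempty := by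
  classical
  change (closure (⋃ (n : ℕ) (m : ℕ) (_ : n ≠ m),
        Set.range (PrimeSpectrum.comap (phi A k K n m))) ∩
      Set.range (PrimeSpectrum.comap (Algebra.TensorProduct.lmul' (S := A) ℤ).toRingHom)).Nonempty
  rw [← PrimeSpectrum.zeroLocus_vanishingIdeal_eq_closure]
  set T : Set (PrimeSpectrum (A ⊗[ℤ] A)) := ⋃ (n : ℕ) (m : ℕ) (_ : n ≠ m),
        Set.range (PrimeSpectrum.comap (phi A k K n m)) with hT
  have hμ : Function.Surjective (Algebra.TensorProduct.lmul' (S := A) ℤ).toRingHom :=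
    fun a => ⟨a ⊗ₜ 1, by simp⟩
  have hN : Ideal.map (Algebra.TensorProduct.lmul' (S := A) ℤ).toRingHom
      (PrimeSpectrum.vanishingIdeal T) ≠ ⊤ := by
    intro htop
    have h1 : (1 : A) ∈ Ideal.map (Algebra.TensorProduct.lmul' (S := A) ℤ).toRingHom
        (PrimeSpectrum.vanishingIdeal T) := by
      rw [htop]
      exact Submodule.mem_top
    obtain ⟨z, hzJ, hz1⟩ := (Ideal.mem_map_iff_of_surjective _ hμ).mp h1
    obtain ⟨n, m, hnm, q, hq⟩ := exists_prime_notMem A k K z hz1
    apply hq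
    have hmem : PrimeSpectrum.comap (phi A k K n m) q ∈ T := by
      rw [hT]
      simp only [Set.mem_iUnion]
      exact ⟨n, m, hnm, q, rfl⟩
    exact (PrimeSpectrum.mem_vanishingIdeal _ _).mp hzJ _ hmem
  obtain ⟨P, hPmax, hNP⟩ := Ideal.exists_le_maximal _ hN
  haveI := hPmax.isPrime
  refine ⟨PrimeSpectrum.comap (Algebra.TensorProduct.lmul' (S := A) ℤ).toRingHom ⟨P, inferInstance⟩,
    ?_, ⟨_, rfl⟩⟩
  rw [PrimeSpectrum.mem_zeroLocus]
  intro z hz
  exact hNP (Ideal.mem_map_of_mem _ hz)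

end Main

end Groth.Agent.R2.H77.DiagClosure
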