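import Mathlib

/-!
# Helper for S16417 (helper77): lattices `p M ⊆ M' ⊆ M` in free modules over a PID.
-/

set_option autoImplicit false
set_option linter.unusedSectionVars false
set_option linter.unusedVariables false
set_option linter.style.haveILetI false

namespace Groth.Agent.R2.H77.PLattice

open Module

section Adapted

variable {R : Type*} [CommRing R] [IsDomain R] [IsPrincipalIdealRing R]
variable {M : Type*} [AddCommGroup M] [Module R M] [Module.Free R M] [Module.Finite R M]

/-- A basis of `M` adapted to a submodule `M'` containing `p M`. -/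
theorem exists_adapted_basis {p : R} (hp : Prime p) (M' : Submodule R M)
    (hM' : ∀ x : M, p • x ∈ M') :
    ∃ (e : Basis (Fin (finrank R M)) R M) (t : Fin (finrank R M) → Prop),
      ∀ x, x ∈ M' ↔ ∀ i, ¬ t i → p ∣ e.repr x i := by
  classical
  obtain ⟨n, snf⟩ := M'.smithNormalForm (Module.finBasis R M)
  have hsurj : ∀ j, ∃ i, snf.f i = j := by
    intro j
    by_contra hj
    push Not at hj
    have h0 := snf.repr_eq_zero_of_notMem_range ⟨p • snf.bM j, hM' _⟩ (i := j)
      (by simpa using hj)
    simp only [map_smul, Basis.repr_self, Finsupp.smul_single, smul_eq_mul, mul_one,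
      Finsupp.single_eq_same] at h0
    exact hp.ne_zero h0
  have hdvd : ∀ i, snf.a i ∣ p := by
    intro i
    have h0 := snf.repr_apply_embedding_eq_repr_smul ⟨p • snf.bM (snf.f i), hM' _⟩ (i := i)
    simp only [map_smul, Basis.repr_self, Finsupp.smul_single, smul_eq_mul, mul_one,
      Finsupp.single_eq_same, Finsupp.smul_apply] at h0
    exact ⟨_, h0⟩
  have hmem : ∀ x, x ∈ M' ↔ ∀ i, snf.a i ∣ snf.bM.repr x (snf.f i) := by
    intro x
    constructor
    · intro hx i
      have h0 := snf.repr_apply_embedding_eq_repr_smul ⟨x, hx⟩ (i := i)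
      simp only [map_smul, Finsupp.smul_apply, smul_eq_mul] at h0
      exact ⟨_, h0⟩
    · intro h
      rw [← snf.bM.sum_repr x]
      refine Submodule.sum_mem _ fun j _ => ?_
      obtain ⟨i, rfl⟩ := hsurj j
      obtain ⟨c, hc⟩ := h i
      rw [hc, mul_comm, mul_smul, ← snf.snf i]
      exact M'.smul_mem _ (snf.bN i).2
  refine ⟨snf.bM, fun j => ∃ i, snf.f i = j ∧ IsUnit (snf.a i), fun x => ?_⟩
  rw [hmem]
  constructor
  · intro h j hj
    obtain ⟨i, rfl⟩ := hsurj j
    have hnu : ¬ IsUnit (snf.a i) := fun hu => hj ⟨i, rfl, hu⟩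
    have hassoc : Associated (snf.a i) p := by
      rcases (hp.irreducible.dvd_iff).1 (hdvd i) with hu | ha
      · exact absurd hu hnu
      · exact ha.symm
    exact hassoc.symm.dvd.trans (h i)
  · intro h i
    by_cases hu : IsUnit (snf.a i)
    · exact hu.dvd
    · refine (hdvd i).trans (h (snf.f i) ?_)
      rintro ⟨i', hi', hu'⟩
      rw [snf.f.injective hi'] at hu'
      exact hu hu'

end Adapted

section WithBasis

variable {R : Type*} [CommRing R] {p : R}
variable {M : Type*} [AddCommGroup M] [Module R M]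
variable {N : Type*} [AddCommGroup N] [Module R N]
variable {ι : Type*} [Fintype ι] (e : Basis ι R M) (t : ι → Prop) [DecidablePred t]
variable (M' : Submodule R M) (hmem : ∀ x, x ∈ M' ↔ ∀ i, ¬ t i → p ∣ e.repr x i)
variable (N' : Submodule R N) (hN' : ∀ y : N, p • y ∈ N')

include hmem in
theorem basis_mem (i : ι) (hi : t i) : e i ∈ M' := by
  classical
  rw [hmem]
  intro j hj
  have hne : i ≠ j := fun h => hj (h ▸ hi)
  rw [Basis.repr_self, Finsupp.single_eq_of_ne' hne]
  exact dvd_zero p

include hmem in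
theorem smul_mem (x : M) : p • x ∈ M' := by
  rw [hmem]
  intro j _
  rw [map_smul, Finsupp.smul_apply, smul_eq_mul]
  exact dvd_mul_right p _

include hmem in
/-- Decomposition of an element of `M'` along the generators `e i` (`t i`) and `p • e i`. -/
theorem exists_decomp (x : M) (hx : x ∈ M') :
    ∃ γ : ι → R, x = ∑ i, γ i • (if t i then e i else p • e i) := by
  classical
  have h := (hmem x).1 hx
  choose! d hd using h
  refine ⟨fun i => if t i then e.repr x i else d i, ?_⟩
  conv_lhs => rw [← e.sum_repr x]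
  refine Finset.sum_congr rfl fun i _ => ?_
  by_cases hi : t i
  · simp only [if_pos hi]
  · simp only [if_neg hi]
    rw [hd i hi, smul_smul, mul_comm]

include hmem hN' in
theorem map_mem_iff (h : M →ₗ[R] N) :
    (∀ x ∈ M', h x ∈ N') ↔ ∀ i, t i → h (e i) ∈ N' := by
  classical
  constructor
  · intro H i hi
    exact H _ (basis_mem e t M' hmem i hi)
  · intro H x hx
    obtain ⟨γ, rfl⟩ := exists_decomp e t M' hmem x hx
    rw [map_sum]
    refine Submodule.sum_mem _ fun i _ => ?_
    rw [map_smul]
    refine N'.smul_mem _ ?_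
    by_cases hi : t i
    · simp only [if_pos hi]
      exact H i hi
    · simp only [if_neg hi]
      rw [map_smul]
      exact hN' _

include hmem in
/-- (b): every map `M' → N/N'` killing `p M` is induced by a map `M → N`. -/
theorem exists_lift (g : M' →ₗ[R] N ⧸ N')
    (hg : ∀ x : M, g ⟨p • x, smul_mem e t M' hmem x⟩ = 0) :
    ∃ h : M →ₗ[R] N, ∀ x : M', N'.mkQ (h x) = g x := by
  classical
  have hlift : ∀ i : ι, ∃ y : N, ∀ hi : t i, N'.mkQ y = g ⟨e i, basis_mem e t M' hmem i hi⟩ := by
    intro i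
    by_cases hi : t i
    · obtain ⟨y, hy⟩ := N'.mkQ_surjective (g ⟨e i, basis_mem e t M' hmem i hi⟩)
      exact ⟨y, fun _ => hy⟩
    · exact ⟨0, fun h => absurd h hi⟩
  choose y hy using hlift
  let h : M →ₗ[R] N := e.constr R (fun i => if t i then y i else 0)
  have hh : ∀ i, h (e i) = if t i then y i else 0 := fun i => e.constr_basis R _ i
  refine ⟨h, ?_⟩
  rintro ⟨x, hx⟩
  obtain ⟨γ, hγ⟩ := exists_decomp e t M' hmem x hx
  have hu : ∀ i, (if t i then e i else p • e i) ∈ M' := by
    intro i
    by_cases hi : t i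
    · simp only [if_pos hi]; exact basis_mem e t M' hmem i hi
    · simp only [if_neg hi]; exact smul_mem e t M' hmem _
  have hx' : (⟨x, hx⟩ : M') = ∑ i, γ i • (⟨_, hu i⟩ : M') := by
    apply Subtype.ext
    rw [Submodule.coe_sum]
    simpa using hγ
  rw [hx', map_sum]
  change N'.mkQ (h (M'.subtype (∑ i, γ i • (⟨_, hu i⟩ : M')))) = _
  rw [map_sum, map_sum, map_sum]
  refine Finset.sum_congr rfl fun i _ => ?_
  rw [map_smul, map_smul, map_smul, map_smul]
  congr 1
  by_cases hi : t i
  · have : (⟨_, hu i⟩ : M') = ⟨e i, basis_mem e t M' hmem i hi⟩ := by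
      apply Subtype.ext; simp only [if_pos hi]
    rw [this, Submodule.subtype_apply, hh, if_pos hi, hy i hi]
  · have : (⟨_, hu i⟩ : M') = ⟨p • e i, smul_mem e t M' hmem _⟩ := by
      apply Subtype.ext; simp only [if_neg hi]
    rw [this, hg, Submodule.subtype_apply, map_smul, hh, if_neg hi, smul_zero, map_zero]

/-- The coordinates outside `t`, modulo `p`. -/
noncomputable def coordMap : M →ₗ[R] ({i // ¬ t i} → R ⧸ Ideal.span {p}) :=
  LinearMap.pi fun i => (Submodule.mkQ (Ideal.span {p})) ∘ₗ e.coord i.1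

include hmem in
theorem ker_coordMap : LinearMap.ker (coordMap (p := p) e t) = M' := by
  ext x
  rw [LinearMap.mem_ker, hmem]
  constructor
  · intro h i hi
    have := congrFun h ⟨i, hi⟩
    simp only [coordMap, LinearMap.pi_apply, LinearMap.coe_comp, Function.comp_apply,
      Basis.coord_apply, Pi.zero_apply, Submodule.mkQ_apply,
      Submodule.Quotient.mk_eq_zero] at this
    exact Ideal.mem_span_singleton.1 this
  · intro h
    funext i
    simp only [coordMap, LinearMap.pi_apply, LinearMap.coe_comp, Function.comp_apply,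
      Basis.coord_apply, Pi.zero_apply, Submodule.mkQ_apply, Submodule.Quotient.mk_eq_zero]
    exact Ideal.mem_span_singleton.2 (h i.1 i.2)

theorem coordMap_surjective : Function.Surjective (coordMap (p := p) e t) := by
  classical
  intro y
  choose r hr using fun i => (Submodule.mkQ_surjective (Ideal.span {p})) (y i)
  refine ⟨∑ j, (if hj : ¬ t j then r ⟨j, hj⟩ else 0) • e j, ?_⟩
  funext i
  simp only [coordMap, LinearMap.pi_apply, LinearMap.coe_comp, Function.comp_apply,
    Basis.coord_apply]
  rw [e.repr_sum_self, dif_pos i.2, hr]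

include hmem in
/-- `M/M'` is a direct sum of copies of `R/p`, one for each index outside `t`. -/
theorem length_quotient (hmax : (Ideal.span {p}).IsMaximal) :
    Module.length R (M ⧸ M') = Fintype.card {i // ¬ t i} := by
  have e1 : (M ⧸ LinearMap.ker (coordMap (p := p) e t)) ≃ₗ[R] ({i // ¬ t i} → R ⧸ Ideal.span {p}) :=
    LinearMap.quotKerEquivOfSurjective _ (coordMap_surjective e t)
  have e2 : (M ⧸ M') ≃ₗ[R] (M ⧸ LinearMap.ker (coordMap (p := p) e t)) :=
    Submodule.quotEquivOfEq _ _ (ker_coordMap e t M' hmem).symm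
  haveI : IsSimpleModule R (R ⧸ Ideal.span {p}) :=
    isSimpleModule_iff_isCoatom.2 (Ideal.isMaximal_def.1 hmax)
  rw [(e2.trans e1).length_eq, Module.length_pi, Module.length_eq_one, mul_one,
    ENat.card_eq_coe_fintype_card]

/-- Evaluation of a map at the basis vectors in `t`, modulo `N'`. -/
noncomputable def evalMap : (M →ₗ[R] N) →ₗ[R] ({i // t i} → N ⧸ N') :=
  LinearMap.pi fun i => N'.mkQ ∘ₗ LinearMap.applyₗ (e i.1)

include hmem hN' in
theorem ker_evalMap :
    LinearMap.ker (evalMap e t N') =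
      ⨅ x : M', N'.comap (LinearMap.applyₗ (x : M) : (M →ₗ[R] N) →ₗ[R] N) := by
  ext h
  rw [LinearMap.mem_ker, Submodule.mem_iInf]
  simp only [Submodule.mem_comap, LinearMap.applyₗ_apply_apply]
  have h1 : (∀ x : M', h x ∈ N') ↔ ∀ x ∈ M', h x ∈ N' :=
    ⟨fun H x hx => H ⟨x, hx⟩, fun H x => H x x.2⟩
  rw [h1, map_mem_iff e t M' hmem N' hN']
  constructor
  · intro H i hi
    have := congrFun H ⟨i, hi⟩
    simpa [evalMap] using this
  · intro H
    funext i
    simpa [evalMap] using H i.1 i.2

theorem evalMap_surjective : Function.Surjective (evalMap e t N') := by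
  classical
  intro y
  choose r hr using fun i => N'.mkQ_surjective (y i)
  refine ⟨e.constr R fun j => if hj : t j then r ⟨j, hj⟩ else 0, ?_⟩
  funext i
  simp only [evalMap, LinearMap.pi_apply, LinearMap.coe_comp, Function.comp_apply,
    LinearMap.applyₗ_apply_apply]
  rw [e.constr_basis, dif_pos i.2, hr]

include hmem hN' in
/-- (c): the quotient of `Hom(M, N)` by the maps sending `M'` into `N'`. -/
theorem length_hom_quotient :
    Module.length R ((M →ₗ[R] N) ⧸
      ⨅ x : M', N'.comap (LinearMap.applyₗ (x : M) : (M →ₗ[R] N) →ₗ[R] N)) =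
      Fintype.card {i // t i} * Module.length R (N ⧸ N') := by
  have e1 : ((M →ₗ[R] N) ⧸ LinearMap.ker (evalMap e t N')) ≃ₗ[R] ({i // t i} → N ⧸ N') :=
    LinearMap.quotKerEquivOfSurjective _ (evalMap_surjective e t N')
  have e2 := Submodule.quotEquivOfEq _ _ (ker_evalMap e t M' hmem N' hN').symm
  rw [(e2.trans e1).length_eq, Module.length_pi, ENat.card_eq_coe_fintype_card]

end WithBasis

section Main

variable {R : Type*} [CommRing R] [IsDomain R] [IsPrincipalIdealRing R]
variable {M : Type*} [AddCommGroup M] [Module R M] [Module.Free R M] [Module.Finite R M]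
variable {N : Type*} [AddCommGroup N] [Module R N]

theorem main {p : R} (hp : Prime p) (M' : Submodule R M) (hM' : ∀ x : M, p • x ∈ M')
    (N' : Submodule R N) (hN' : ∀ y : N, p • y ∈ N') :
    (∀ g : M' →ₗ[R] N ⧸ N', (∀ x : M, g ⟨p • x, hM' x⟩ = 0) →
      ∃ h : M →ₗ[R] N, ∀ x : M', N'.mkQ (h x) = g x) ∧
    ∀ r₂ s₁ : ℕ, Module.length R (N ⧸ N') = r₂ →
      (finrank R M : ℕ∞) = Module.length R (M ⧸ M') + s₁ →
      Module.length R ((M →ₗ[R] N) ⧸
        ⨅ x : M', N'.comap (LinearMap.applyₗ (x : M) : (M →ₗ[R] N) →ₗ[R] N)) =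
        (r₂ * s₁ : ℕ) := by
  classical
  obtain ⟨e, t, hmem⟩ := exists_adapted_basis hp M' hM'
  refine ⟨fun g hg => exists_lift e t M' hmem N' g hg, ?_⟩
  intro r₂ s₁ hr₂ hs₁
  rw [length_hom_quotient e t M' hmem N' hN', hr₂]
  have hmax : (Ideal.span {p}).IsMaximal :=
    PrincipalIdealRing.isMaximal_of_irreducible hp.irreducible
  rw [length_quotient e t M' hmem hmax] at hs₁
  have hcard : Fintype.card {i // t i} + Fintype.card {i // ¬ t i} = finrank R M := by
    rw [Fintype.card_subtype_compl, ← Nat.add_sub_assoc (Fintype.card_subtype_le _),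
      Nat.add_sub_cancel_left, Fintype.card_fin]
  have h2 : Fintype.card {i // t i} = s₁ := by
    have h3 : ((Fintype.card {i // t i} + Fintype.card {i // ¬ t i} : ℕ) : ℕ∞) =
        ((Fintype.card {i // ¬ t i} + s₁ : ℕ) : ℕ∞) := by
      rw [hcard]; exact_mod_cast hs₁
    have h4 := Nat.cast_injective (R := ℕ∞) h3
    omega
  rw [h2]
  push_cast
  rw [mul_comm]

end Main

end Groth.Agent.R2.H77.PLattice
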