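import Mathlib
import Groth.Agent.R2.H77PLattice

/-!
# Helper for S16417 (helper77): semilinear Verschiebung maps on free `W(k)`-modules.
-/

set_option autoImplicit false
set_option linter.unusedSectionVars false
set_option linter.unusedVariables false
set_option linter.style.haveILetI false

namespace Groth.Agent.R2.H77.Dieud

universe u v w

variable (p : ℕ) [Fact p.Prime] (k : Type u) [Field k] [CharP k p] [PerfectRing k p]

section OneModule

variable {p k}
variable {M : Type v} [AddCommGroup M] [Module (WittVector p k) M]
  (F V : M →+ M)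
  (hV : ∀ (a : WittVector p k) (m : M), V (WittVector.frobenius a • m) = a • V m)

include hV in
theorem mem_span_range_iff (x : M) :
    x ∈ Submodule.span (WittVector p k) (Set.range V) ↔ ∃ m, V m = x := by
  constructor
  · intro hx
    induction hx using Submodule.span_induction with
    | mem x hx => exact hx
    | zero => exact ⟨0, map_zero V⟩
    | add x y _ _ hx hy =>
      obtain ⟨m, rfl⟩ := hx
      obtain ⟨m', rfl⟩ := hy
      exact ⟨m + m', map_add V m m'⟩
    | smul a x _ hx =>
      obtain ⟨m, rfl⟩ := hx
      exact ⟨WittVector.frobenius a • m, hV a m⟩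
  · rintro ⟨m, rfl⟩
    exact Submodule.subset_span ⟨m, rfl⟩

theorem p_smul_mem (hVF : ∀ m : M, V (F m) = (p : WittVector p k) • m) (x : M) :
    (p : WittVector p k) • x ∈ Submodule.span (WittVector p k) (Set.range V) :=
  Submodule.subset_span ⟨F x, hVF x⟩

theorem V_injective [Module.Free (WittVector p k) M]
    (hFV : ∀ m : M, F (V m) = (p : WittVector p k) • m) : Function.Injective V := by
  rw [injective_iff_map_eq_zero]
  intro m hm
  have h := hFV m
  rw [hm, map_zero] at h
  exact (smul_eq_zero.1 h.symm).resolve_left (WittVector.p_nonzero p k)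

end OneModule

section Main

variable {p k}
variable (M : Type v) [AddCommGroup M] [Module (WittVector p k) M]
    [Module.Free (WittVector p k) M] [Module.Finite (WittVector p k) M]
    (N : Type w) [AddCommGroup N] [Module (WittVector p k) N]
    [Module.Free (WittVector p k) N] [Module.Finite (WittVector p k) N]
    (FM VM : M →+ M) (FN VN : N →+ N)
    (hFM : ∀ (a : WittVector p k) (m : M), FM (a • m) = WittVector.frobenius a • FM m)
    (hVM : ∀ (a : WittVector p k) (m : M), VM (WittVector.frobenius a • m) = a • VM m)
    (hFVM : ∀ m : M, FM (VM m) = (p : WittVector p k) • m)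
    (hVFM : ∀ m : M, VM (FM m) = (p : WittVector p k) • m)
    (hFN : ∀ (a : WittVector p k) (n : N), FN (a • n) = WittVector.frobenius a • FN n)
    (hVN : ∀ (a : WittVector p k) (n : N), VN (WittVector.frobenius a • n) = a • VN n)
    (hFVN : ∀ n : N, FN (VN n) = (p : WittVector p k) • n)
    (hVFN : ∀ n : N, VN (FN n) = (p : WittVector p k) • n)

include hVM hVN hFVN in
/-- (a) -/
theorem part_a (h : M →ₗ[WittVector p k] N) :
    (∀ m : M, h (VM m) ∈ Submodule.span (WittVector p k) (Set.range VN)) ↔
      ∃ h' : M →ₗ[WittVector p k] N, ∀ m : M, h (VM m) = VN (h' m) := by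
  constructor
  · intro H
    have H' : ∀ m : M, ∃ n : N, VN n = h (VM m) := fun m =>
      (mem_span_range_iff VN hVN _).1 (H m)
    choose f hf using H'
    have hinj : Function.Injective VN := V_injective FN VN hFVN
    refine ⟨{ toFun := f, map_add' := ?_, map_smul' := ?_ }, fun m => (hf m).symm⟩
    · intro m m'
      apply hinj
      rw [hf, map_add, map_add, map_add, hf, hf]
    · intro a m
      apply hinj
      obtain ⟨b, rfl⟩ := (WittVector.frobenius_bijective p k).surjective a
      rw [RingHom.id_apply, hf, hVM, map_smul, ← hf, hVN]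
  · rintro ⟨h', hh'⟩ m
    rw [hh']
    exact Submodule.subset_span ⟨h' m, rfl⟩

include hVM hVFM hVN hVFN in
theorem main (r₂ s₁ : ℕ)
    (hr₂ : Module.length (WittVector p k)
      (N ⧸ Submodule.span (WittVector p k) (Set.range VN)) = r₂)
    (hs₁ : (Module.finrank (WittVector p k) M : ℕ∞) =
      Module.length (WittVector p k) (M ⧸ Submodule.span (WittVector p k) (Set.range VM)) + s₁) :
    (∀ g : Submodule.span (WittVector p k) (Set.range VM) →ₗ[WittVector p k]
        N ⧸ Submodule.span (WittVector p k) (Set.range VN),
      (∀ m : M, g ⟨VM (FM m), Submodule.subset_span ⟨FM m, rfl⟩⟩ = 0) →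
      ∃ h : M →ₗ[WittVector p k] N, ∀ x : Submodule.span (WittVector p k) (Set.range VM),
        (Submodule.span (WittVector p k) (Set.range VN)).mkQ (h x) = g x) ∧
    Module.length (WittVector p k) ((M →ₗ[WittVector p k] N) ⧸
      ⨅ m : M, (Submodule.span (WittVector p k) (Set.range VN)).comap
        (LinearMap.applyₗ (VM m) : (M →ₗ[WittVector p k] N) →ₗ[WittVector p k] N)) =
      (r₂ * s₁ : ℕ) := by
  have hp : Prime (p : WittVector p k) :=
    (WittVector.irreducible p).prime
  obtain ⟨hb, hc⟩ := PLattice.main hp (Submodule.span (WittVector p k) (Set.range VM))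
    (p_smul_mem FM VM hVFM) (Submodule.span (WittVector p k) (Set.range VN))
    (p_smul_mem FN VN hVFN)
  refine ⟨fun g hg => hb g fun x => ?_, ?_⟩
  · have : (⟨(p : WittVector p k) • x, p_smul_mem FM VM hVFM x⟩ :
        Submodule.span (WittVector p k) (Set.range VM)) =
        ⟨VM (FM x), Submodule.subset_span ⟨FM x, rfl⟩⟩ := Subtype.ext (hVFM x).symm
    rw [this]
    exact hg x
  · have hEq : (⨅ m : M, (Submodule.span (WittVector p k) (Set.range VN)).comap
        (LinearMap.applyₗ (VM m) : (M →ₗ[WittVector p k] N) →ₗ[WittVector p k] N)) =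
        ⨅ x : Submodule.span (WittVector p k) (Set.range VM),
          (Submodule.span (WittVector p k) (Set.range VN)).comap
            (LinearMap.applyₗ (x : M) : (M →ₗ[WittVector p k] N) →ₗ[WittVector p k] N) := by
      ext h
      simp only [Submodule.mem_iInf, Submodule.mem_comap, LinearMap.applyₗ_apply_apply]
      constructor
      · intro H x
        obtain ⟨m, hm⟩ := (mem_span_range_iff VM hVM _).1 x.2
        rw [← hm]
        exact H m
      · intro H m
        exact H ⟨VM m, Submodule.subset_span ⟨m, rfl⟩⟩
    rw [hEq]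
    exact hc r₂ s₁ hr₂ hs₁

end Main

end Groth.Agent.R2.H77.Dieud
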