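import Mathlib

/-!
# H77EtaleQuotA: a basis of differentials `d j`, `j ∈ J`, near a prime

If `B` is smooth over `C`, `J` an ideal of `B` with `C → B/J` surjective, and `p ⊇ J` a prime,
then on a basic open `D(g) ∋ p` the module `Ω[B_g/C]` is free on `d j_i` for finitely many `j_i ∈ J`.
-/

set_option autoImplicit false
universe v w

namespace Groth.Agent.R2.H77.EtaleQuotA

open KaehlerDifferential

variable {C : Type v} {B : Type w} [CommRing C] [CommRing B] [Algebra C B]

/-- the differentials of elements of `J` span `Ω[B_p/C]` when `C → B/J` is surjective. -/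
theorem span_range_D_ideal (J : Ideal B)
    (hsurj : Function.Surjective ((Ideal.Quotient.mk J).comp (algebraMap C B)))
    (p : Ideal B) [p.IsPrime] :
    Submodule.span (Localization.AtPrime p)
      (Set.range fun j : J => D C (Localization.AtPrime p)
        (algebraMap B (Localization.AtPrime p) (j : B))) = ⊤ := by
  rw [eq_top_iff, ← span_range_map_derivation_of_isLocalization C B (Localization.AtPrime p)
    p.primeCompl]
  refine Submodule.span_le.mpr ?_
  rintro - ⟨b, rfl⟩
  obtain ⟨c, hc⟩ := hsurj (Ideal.Quotient.mk J b)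
  have hj : b - algebraMap C B c ∈ J := by
    rw [← Ideal.Quotient.eq]
    exact hc.symm
  have : D C (Localization.AtPrime p) (algebraMap B (Localization.AtPrime p) b) =
      D C (Localization.AtPrime p)
        (algebraMap B (Localization.AtPrime p) ((⟨_, hj⟩ : J) : B)) := by
    simp only [map_sub, ← IsScalarTower.algebraMap_apply, Derivation.map_algebraMap, sub_zero]
  simp only [Function.comp_apply, map_D]
  rw [this]
  exact Submodule.subset_span ⟨⟨_, hj⟩, rfl⟩

set_option backward.isDefEq.respectTransparency.types false in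
/-- On a basic open `D(g) ∋ p`, `Ω[B_g/C]` is free on `d j_i` with `j_i ∈ J`. -/
theorem exists_basis_away [Algebra.Smooth C B] (J : Ideal B)
    (hsurj : Function.Surjective ((Ideal.Quotient.mk J).comp (algebraMap C B)))
    (p : Ideal B) [p.IsPrime] :
    ∃ (g : B) (_ : g ∉ p) (κ : Type w) (_ : Finite κ) (a : κ → J)
      (b : Module.Basis κ (Localization.Away g) (Ω[Localization.Away g⁄C])),
      ∀ i, b i = D C (Localization.Away g) (algebraMap B (Localization.Away g) (a i : B)) := by
  obtain ⟨κ, a, b, hb⟩ := Module.exists_basis_of_span_of_flat _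
    (span_range_D_ideal (C := C) J hsurj p)
  let e : (κ →₀ B) →ₗ[B] Ω[B⁄C] :=
    Finsupp.linearCombination B fun i : κ ↦ D C B (a i : B)
  let l₁ : (κ →₀ B) →ₗ[B] (κ →₀ Localization.AtPrime p) :=
    Finsupp.mapRange.linearMap (Algebra.linearMap B (Localization.AtPrime p))
  let l₂ : Ω[B⁄C] →ₗ[B] Ω[Localization.AtPrime p⁄C] := map C C B (Localization.AtPrime p)
  let eₚ : (κ →₀ Localization.AtPrime p) →ₗ[Localization.AtPrime p] Ω[Localization.AtPrime p⁄C] :=
    IsLocalizedModule.mapExtendScalars p.primeCompl l₁ l₂ (Localization.AtPrime p) e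
  have : eₚ = b.repr.symm := by
    ext i
    trans IsLocalizedModule.map p.primeCompl l₁ l₂ e <| l₁ <| Finsupp.single i 1
    · simp [eₚ, -IsLocalizedModule.map_apply, l₁]
    · simp [l₂, e, hb]
  have heₚ : Function.Bijective eₚ := this ▸ b.repr.symm.bijective
  have : Finite κ := Module.Finite.finite_basis b
  obtain ⟨g, hg, h⟩ := Module.FinitePresentation.exists_notMem_bijective e p l₁ l₂ heₚ
  let l₁ₜ : (κ →₀ B) →ₗ[B] (κ →₀ Localization.Away g) :=
    Finsupp.mapRange.linearMap (Algebra.linearMap B _)
  let l₂ₜ : Ω[B⁄C] →ₗ[B] Ω[Localization.Away g⁄C] :=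
    map C C B (Localization.Away g)
  rw [← IsLocalizedModule.map_bijective_iff_localizedModuleMap_bijective l₁ₜ l₂ₜ] at h
  let eₜ' : (κ →₀ Localization.Away g) →ₗ[Localization.Away g] Ω[Localization.Away g⁄C] :=
    IsLocalizedModule.mapExtendScalars (Submonoid.powers g) l₁ₜ l₂ₜ (Localization.Away g) e
  refine ⟨g, hg, κ, inferInstance, a, .ofRepr (LinearEquiv.ofBijective eₜ' h).symm, ?_⟩
  intro i
  simp +zetaDelta [IsLocalizedModule.map_linearCombination]

end Groth.Agent.R2.H77.EtaleQuotA
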