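import Mathlib

/-!
# H77EtaleQuotB: quotient of a smooth algebra by elements whose differentials form a basis is étale
-/

set_option autoImplicit false
universe v w

namespace Groth.Agent.R2.H77.EtaleQuotB

open KaehlerDifferential TensorProduct

variable {C : Type v} {P : Type w} [CommRing C] [CommRing P] [Algebra C P]

section

variable {κ : Type*} (a : κ → P) (b : Module.Basis κ P (Ω[P⁄C]))
  (hb : ∀ i, b i = D C P (a i))

include hb in
theorem subsingleton_kaehler_quotient :
    Subsingleton (Ω[(P ⧸ Ideal.span (Set.range a))⁄C]) := by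
  set I := Ideal.span (Set.range a) with hI
  have hf : Function.Surjective (algebraMap P (P ⧸ I)) := Ideal.Quotient.mk_surjective
  have hzero : mapBaseChange C P (P ⧸ I) = 0 := by
    refine (b.baseChange (P ⧸ I)).ext fun i => ?_
    rw [Module.Basis.baseChange_apply, mapBaseChange_tmul, hb, map_D, LinearMap.zero_apply]
    have : algebraMap P (P ⧸ I) (a i) = 0 :=
      Ideal.Quotient.eq_zero_iff_mem.mpr (Ideal.subset_span ⟨i, rfl⟩)
    rw [this, map_zero, smul_zero]
  refine ⟨fun x y => ?_⟩
  obtain ⟨x', rfl⟩ := mapBaseChange_surjective C P (P ⧸ I) hf x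
  obtain ⟨y', rfl⟩ := mapBaseChange_surjective C P (P ⧸ I) hf y
  rw [hzero, LinearMap.zero_apply, LinearMap.zero_apply]

include hb in
theorem kerCotangentToTensor_injective [Finite κ] :
    Function.Injective (kerCotangentToTensor C P (P ⧸ Ideal.span (Set.range a))) := by
  classical
  haveI := Fintype.ofFinite κ
  set I := Ideal.span (Set.range a) with hI
  have hker : RingHom.ker (algebraMap P (P ⧸ I)) = I := Ideal.mk_ker
  rw [← LinearMap.ker_eq_bot, eq_bot_iff]
  intro x hx
  rw [LinearMap.mem_ker] at hx
  obtain ⟨⟨y, hy⟩, rfl⟩ := Ideal.toCotangent_surjective _ x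
  rw [kerCotangentToTensor_toCotangent] at hx
  have hyI : y ∈ I := hker ▸ hy
  obtain ⟨c, hc⟩ := (Ideal.mem_span_range_iff_exists_fun).mp hyI
  -- compute `1 ⊗ D y`
  have hD : (1 : P ⧸ I) ⊗ₜ[P] D C P y =
      ∑ i, (algebraMap P (P ⧸ I) (c i)) • (b.baseChange (P ⧸ I) i) := by
    rw [← hc, map_sum, TensorProduct.tmul_sum]
    refine Finset.sum_congr rfl fun i _ => ?_
    rw [Derivation.leibniz, TensorProduct.tmul_add, Module.Basis.baseChange_apply, hb,
      TensorProduct.tmul_smul, TensorProduct.tmul_smul, TensorProduct.smul_tmul',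
      TensorProduct.smul_tmul', TensorProduct.smul_tmul', Algebra.smul_def, Algebra.smul_def,
      mul_one, mul_one, smul_eq_mul, mul_one]
    have : algebraMap P (P ⧸ I) (a i) = 0 :=
      Ideal.Quotient.eq_zero_iff_mem.mpr (Ideal.subset_span ⟨i, rfl⟩)
    rw [this, TensorProduct.zero_tmul, add_zero]
  rw [Submodule.mem_bot]
  rw [hD] at hx
  have hci : ∀ i, c i ∈ I := by
    intro i
    have := (Fintype.linearIndependent_iff.mp (b.baseChange (P ⧸ I)).linearIndependent) _ hx i
    exact Ideal.Quotient.eq_zero_iff_mem.mp this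
  rw [Ideal.toCotangent_eq_zero]
  change y ∈ _
  rw [hker, ← hc, pow_two]
  exact Ideal.sum_mem _ fun i _ => Ideal.mul_mem_mul (hci i) (Ideal.subset_span ⟨i, rfl⟩)

include hb in
theorem etale_quotient [Algebra.Smooth C P] [Finite κ] :
    Algebra.Etale C (P ⧸ Ideal.span (Set.range a)) := by
  set I := Ideal.span (Set.range a) with hI
  have hf : Function.Surjective (algebraMap P (P ⧸ I)) := Ideal.Quotient.mk_surjective
  haveI : Algebra.FinitePresentation C (P ⧸ I) :=
    Algebra.FinitePresentation.quotient (Submodule.fg_span (Set.finite_range a))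
  refine { formallyEtale := ⟨subsingleton_kaehler_quotient a b hb, ?_⟩, finitePresentation := inferInstance }
  exact (Algebra.FormallySmooth.kerCotangentToTensor_injective_iff hf).mp
    (kerCotangentToTensor_injective a b hb)

end

end Groth.Agent.R2.H77.EtaleQuotB
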