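import Mathlib
import Groth.Agent.Lib.Helper8ExtBC
import Groth.Agent.Lib.Helper18Fitt28
import Groth.Agent.Lib.Helper19LciH1C
import Groth.Agent.R2.H7KosIdeal
import Groth.Agent.S15821
import Groth.Agent.Lib.Helper6OmProjI

/-!
# Fitting ideals of `Ω` and of `T¹ = Ext¹(Ω, B)` for a reduced complete intersection (helper77)
-/

set_option autoImplicit false
set_option linter.unusedSectionVars false
set_option linter.style.haveILetI false
universe u

open CategoryTheory CategoryTheory.Abelian Groth.Agent.Helper18Fitt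

namespace Groth.Agent.R2.H77.FittExt

section Presentation

variable {R : Type u} [CommRing R] {M : Type u} [AddCommGroup M] [Module R M]
  {F : Type*} [AddCommGroup F] [Module R F]

/-- Fitting ideals from a finite free presentation with prescribed relation rows. -/
theorem fitt_eq_minorsFam_of_presentation {n t : ℕ} (bF : Module.Basis (Fin n) R F)
    (π : F →ₗ[R] M) (hπ : Function.Surjective π) (w : Fin t → (Fin n → R))
    (hker : LinearMap.ker π = Submodule.span R (Set.range fun i => bF.equivFun.symm (w i)))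
    (k : ℕ) : Fitt.ideal R M k = minorsFam w (n - k) := by
  have hx : Submodule.span R (Set.range fun j => π (bF j)) = ⊤ := by
    have : (Set.range fun j => π (bF j)) = π '' Set.range bF := by
      rw [← Set.range_comp]; rfl
    rw [this, Submodule.span_image, bF.span_eq, Submodule.map_top, LinearMap.range_eq_top.mpr hπ]
  rw [fitt_eq_minors (fun j => π (bF j)) hx k]
  refine minors_eq_minorsFam _ w (fun z => ?_) _
  have h1 : ∑ i, z i • π (bF i) = π (bF.equivFun.symm z) := by
    rw [Module.Basis.equivFun_symm_apply, map_sum]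
    simp only [map_smul]
  rw [h1, ← LinearMap.mem_ker, hker]
  have h2 : (Set.range fun i => bF.equivFun.symm (w i)) =
      (bF.equivFun.symm : (Fin n → R) →ₗ[R] F) '' Set.range w := by
    rw [← Set.range_comp]; rfl
  rw [h2, Submodule.span_image]
  constructor
  · rintro ⟨z', hz', hzz⟩
    have : z' = z := bF.equivFun.symm.injective hzz
    rwa [← this]
  · intro hz
    exact ⟨z, hz, rfl⟩

end Presentation

section ExtSide

open Groth.Agent.Lib.Helper8.ExtBC

variable {B : Type u} [CommRing B] {C F Om : Type u} [AddCommGroup C] [Module B C]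
  [AddCommGroup F] [Module B F] [AddCommGroup Om] [Module B Om]
  (d : C →ₗ[B] F) (π : F →ₗ[B] Om)

/-- the short complex `C → F → Ω` -/
noncomputable abbrev sc (hex : Function.Exact d π) : ShortComplex (ModuleCat.{u} B) :=
  ShortComplex.mk (ModuleCat.ofHom d) (ModuleCat.ofHom π) (by
    apply ModuleCat.hom_ext
    rw [ModuleCat.hom_comp, ModuleCat.hom_ofHom, ModuleCat.hom_ofHom]
    apply LinearMap.ext
    intro x
    exact hex.apply_apply_eq_zero x)

theorem sc_shortExact (hd : Function.Injective d) (hex : Function.Exact d π)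
    (hπ : Function.Surjective π) : (sc d π hex).ShortExact := by
  refine ShortComplex.ShortExact.mk' ((ShortComplex.moduleCat_exact_iff _).mpr ?_)
    ((ModuleCat.mono_iff_injective _).mpr hd) ((ModuleCat.epi_iff_surjective _).mpr hπ)
  intro x hx
  exact (hex x).mp hx

/-- precomposition with `d` on duals -/
noncomputable def dstar : (F →ₗ[B] B) →ₗ[B] (C →ₗ[B] B) :=
  LinearMap.lcomp B B d

theorem dstar_apply (φ : F →ₗ[B] B) (x : C) : dstar d φ x = φ (d x) := rfl

variable (hd : Function.Injective d) (hex : Function.Exact d π) (hπ : Function.Surjective π)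

/-- the surjection `Hom(C, B) → Ext¹(Ω, B)` -/
noncomputable def toExt : (C →ₗ[B] B) →ₗ[B] Ext.{u} (ModuleCat.of B Om) (ModuleCat.of B B) 1 :=
  (δ (sc d π hex) (sc_shortExact d π hd hex hπ) (ModuleCat.of B B) 0 1 (add_zero 1)) ∘ₗ
    (ext0 (ModuleCat.of B C) (ModuleCat.of B B)).symm.toLinearMap

theorem fStar_mk₀ (φ : F →ₗ[B] B) :
    fStar (sc d π hex) (ModuleCat.of B B) (Ext.mk₀ (ModuleCat.ofHom φ)) =
      Ext.mk₀ (ModuleCat.ofHom (φ ∘ₗ d)) := by
  show (Ext.mk₀ (ModuleCat.ofHom d)).comp (Ext.mk₀ (ModuleCat.ofHom φ)) (zero_add 0) = _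
  rw [Ext.mk₀_comp_mk₀]
  rfl

theorem toExt_surjective [Module.Projective B F] : Function.Surjective (toExt d π hd hex hπ) := by
  haveI : Projective (sc d π hex).X₂ := by
    show Projective (ModuleCat.of B F)
    exact (IsProjective.iff_projective (R := B) (P := F)).mp inferInstance
  have h1 := δ_surjective (sc d π hex) (sc_shortExact d π hd hex hπ) (ModuleCat.of B B) 0
  intro y
  obtain ⟨x, hx⟩ := h1 y
  refine ⟨ext0 _ _ x, ?_⟩
  rw [← hx]
  unfold toExt
  rw [LinearMap.comp_apply, LinearEquiv.coe_coe, LinearEquiv.symm_apply_apply]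

theorem ker_toExt : LinearMap.ker (toExt d π hd hex hπ) = LinearMap.range (dstar d) := by
  ext ψ
  rw [LinearMap.mem_ker, LinearMap.mem_range]
  have hexact := exact_fStar_δ (sc d π hex) (sc_shortExact d π hd hex hπ) (ModuleCat.of B B)
  constructor
  · intro h
    have h' : δ (sc d π hex) (sc_shortExact d π hd hex hπ) (ModuleCat.of B B) 0 1 (add_zero 1)
        ((ext0 (ModuleCat.of B C) (ModuleCat.of B B)).symm ψ) = 0 := h
    obtain ⟨x₂, hx₂⟩ := (hexact _).mp h'
    refine ⟨ext0 _ _ x₂, ?_⟩
    apply (ext0 (ModuleCat.of B C) (ModuleCat.of B B)).symm.injective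
    rw [← hx₂]
    have hx : x₂ = Ext.mk₀ (ModuleCat.ofHom (ext0 (ModuleCat.of B F) (ModuleCat.of B B) x₂)) := by
      rw [← ext0_symm_apply, LinearEquiv.symm_apply_apply]
    conv_rhs => rw [hx]
    rw [fStar_mk₀, ext0_symm_apply]
    rfl
  · rintro ⟨φ, rfl⟩
    show δ (sc d π hex) (sc_shortExact d π hd hex hπ) (ModuleCat.of B B) 0 1 (add_zero 1)
        ((ext0 (ModuleCat.of B C) (ModuleCat.of B B)).symm (dstar d φ)) = 0
    refine (hexact _).mpr ⟨Ext.mk₀ (ModuleCat.ofHom φ), ?_⟩
    rw [fStar_mk₀, ext0_symm_apply]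
    rfl

include hd hex hπ in
/-- the zeroth Fitting ideal of `Ext¹(Ω, B)` for `0 → C → F → Ω → 0` with `C`, `F` finite free -/
theorem fitt_ext_one [Module.Projective B F] {c r : ℕ} (bC : Module.Basis (Fin c) B C)
    (bF : Module.Basis (Fin r) B F) :
    Fitt.ideal B (Ext.{u} (ModuleCat.of B Om) (ModuleCat.of B B) 1) 0 =
      minorsFam (fun (j : Fin r) (i : Fin c) => bF.repr (d (bC i)) j) c := by
  classical
  have hker : LinearMap.ker (toExt d π hd hex hπ) = Submodule.span B (Set.range fun j : Fin r =>
      bC.dualBasis.equivFun.symm (fun i : Fin c => bF.repr (d (bC i)) j)) := by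
    rw [ker_toExt, LinearMap.range_eq_map, ← bF.dualBasis.span_eq, Submodule.map_span,
      ← Set.range_comp]
    congr 2
    funext j
    simp only [Function.comp_apply]
    apply bC.dualBasis.equivFun.injective
    rw [LinearEquiv.apply_symm_apply]
    funext i
    rw [Module.Basis.dualBasis_equivFun, dstar_apply, Module.Basis.dualBasis_apply]
  have h := fitt_eq_minorsFam_of_presentation (R := B)
    (M := Ext.{u} (ModuleCat.of B Om) (ModuleCat.of B B) 1) bC.dualBasis (toExt d π hd hex hπ)
    (toExt_surjective d π hd hex hπ) (fun (j : Fin r) (i : Fin c) => bF.repr (d (bC i)) j) hker 0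
  rwa [Nat.sub_zero] at h

include hex hπ in
/-- Fitting ideals of `Ω` for `C → F → Ω → 0` exact with `F` finite free and `C` generated by `y` -/
theorem fitt_omega {c r : ℕ} (y : Fin c → C) (hy : Submodule.span B (Set.range y) = ⊤)
    (bF : Module.Basis (Fin r) B F) (k : ℕ) :
    Fitt.ideal B Om k = minorsFam (fun (i : Fin c) (j : Fin r) => bF.repr (d (y i)) j) (r - k) := by
  refine fitt_eq_minorsFam_of_presentation bF π hπ _ ?_ k
  rw [hex.linearMap_ker_eq, LinearMap.range_eq_map, ← hy, Submodule.map_span, ← Set.range_comp]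
  congr 2
  funext i
  simp only [Function.comp_apply]
  apply bF.equivFun.injective
  rw [LinearEquiv.apply_symm_apply]
  funext j
  rw [Module.Basis.equivFun_apply]

include hd hex hπ in
/-- `Fitt_{r-c}(Ω) = Fitt_0(Ext¹(Ω, B))` for `0 → C → F → Ω → 0` exact with `C`, `F` free of ranks
`c ≤ r`. -/
theorem fitt_omega_eq_fitt_ext [Module.Projective B F] {c r : ℕ} (hcr : c ≤ r)
    (bC : Module.Basis (Fin c) B C) (bF : Module.Basis (Fin r) B F) :
    Fitt.ideal B Om (r - c) =
      Fitt.ideal B (Ext.{u} (ModuleCat.of B Om) (ModuleCat.of B B) 1) 0 := by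
  rw [fitt_ext_one d π hd hex hπ bC bF, fitt_omega d π hex hπ (fun i => bC i) bC.span_eq bF (r - c),
    Nat.sub_sub_self hcr]
  exact minorsFam_transpose _ c

end ExtSide

section Specific

open Groth.Agent.Lib.Helper19.Kos

theorem ofList_ofFn {S : Type u} [CommRing S] {c : ℕ} (a : Fin c → S) :
    Ideal.ofList (List.ofFn a) = Ideal.span (Set.range a) := by
  unfold Ideal.ofList
  congr 1
  ext x
  simp [List.mem_ofFn]

/-- H¹ of the naive cotangent complex vanishes for a reduced complete intersection over an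
algebraically closed field. -/
theorem h1Cotangent_subsingleton_of_regular
    (k : Type u) [Field k] [IsAlgClosed k] (r c : ℕ)
    (B : Type u) [CommRing B] [Algebra k B] [IsReduced B]
    (φ : MvPolynomial (Fin r) k →ₐ[k] B) (hφ : Function.Surjective φ)
    (a : Fin c → MvPolynomial (Fin r) k)
    (ha : RingTheory.Sequence.IsRegular (MvPolynomial (Fin r) k) (List.ofFn a))
    (hker : RingHom.ker φ.toRingHom = Ideal.span (Set.range a)) :
    Subsingleton (Algebra.H1Cotangent k B) := by
  haveI hft : Algebra.FiniteType k B := Algebra.FiniteType.of_surjective φ hφ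
  have hKR : LCI.IsKoszulRegularIdeal (RingHom.ker φ.toRingHom) := by
    refine Groth.Agent.R2.H7.KosIdeal.isKRI_of_genKR
      ⟨List.ofFn a, (Groth.Agent.S15821.result _ _ ha.toIsWeaklyRegular).1, ?_⟩
    rw [hker, ofList_ofFn, Algebra.algebraMap_self, Ideal.map_id]
  have hlci : LCI.IsLCI k B := ⟨hft, r, φ, hφ, hKR⟩
  refine Groth.Agent.Lib.Helper19.LciH1.h1Cotangent_subsingleton k B hlci ?_
  intro p _ hp
  haveI : Subsingleton (PrimeSpectrum (Localization.AtPrime p)) :=
    IsLocalization.subsingleton_primeSpectrum_of_mem_minimalPrimes p hp _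
  exact Groth.Agent.Lib.Helper6.OmProj.formallySmooth_of_perfectField_of_isReduced

open Algebra.Extension in
/-- the classes of generators of the kernel with only Koszul relations are linearly independent
in the conormal module -/
theorem linearIndependent_cotangent_mk {R S : Type u} [CommRing R] [CommRing S] [Algebra R S]
    (P : Algebra.Extension.{u} R S) {c : ℕ} (a : Fin c → P.Ring)
    (hs : Ideal.span (Set.range a) = P.ker) (hQ : Q P.Ring a ≤ F0 P.Ring a) :
    LinearIndependent S (fun i => Cotangent.mk (P := P)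
      ⟨a i, hs.le (Ideal.subset_span ⟨i, rfl⟩)⟩) := by
  rw [Fintype.linearIndependent_iff]
  intro g hg i
  have hsurj := P.algebraMap_surjective
  choose s hs' using fun i => hsurj (g i)
  have h1 : ∑ i, g i • Cotangent.mk (P := P) ⟨a i, hs.le (Ideal.subset_span ⟨i, rfl⟩)⟩ =
      Cotangent.mk (P := P) (∑ i, s i • ⟨a i, hs.le (Ideal.subset_span ⟨i, rfl⟩)⟩) := by
    rw [map_sum]
    refine Finset.sum_congr rfl fun i _ => ?_
    rw [map_smul, ← hs' i, algebraMap_smul]
  rw [h1, Cotangent.mk_eq_zero_iff] at hg
  have h2 : jm P.Ring a (Finsupp.equivFunOnFinite.symm s) ∈ Ideal.span (Set.range a) ^ 2 := by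
    rw [hs]
    convert hg using 1
    rw [jm, Finsupp.linearCombination_apply]
    rw [Finsupp.sum_fintype (Finsupp.equivFunOnFinite.symm s) (fun i b => b • a i)
      (fun i => zero_smul _ _)]
    rw [AddSubmonoidClass.coe_finsetSum]
    refine Finset.sum_congr rfl fun i _ => ?_
    rfl
  have h3 := Groth.Agent.Lib.Helper19.LciH1.coeff_mem_of_jm_mem_sq a hQ _ h2 i
  rw [hs] at h3
  rw [← hs' i]
  exact h3

/-- `Fitt_{r-c}(Ω_{B/k}) = Fitt_0(Ext¹(Ω_{B/k}, B))` for a reduced complete intersection
`B = k[T_1..T_r]/(a_1..a_c)` over an algebraically closed field. -/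
theorem fitt_kaehler_eq_fitt_ext
    (k : Type u) [Field k] [IsAlgClosed k] (r c : ℕ)
    (B : Type u) [CommRing B] [Algebra k B] [IsReduced B]
    (φ : MvPolynomial (Fin r) k →ₐ[k] B) (hφ : Function.Surjective φ)
    (a : Fin c → MvPolynomial (Fin r) k)
    (ha : RingTheory.Sequence.IsRegular (MvPolynomial (Fin r) k) (List.ofFn a))
    (hker : RingHom.ker φ.toRingHom = Ideal.span (Set.range a)) :
    Fitt.ideal B (KaehlerDifferential k B) (r - c) =
      Fitt.ideal B (Abelian.Ext.{u} (ModuleCat.of B (KaehlerDifferential k B))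
        (ModuleCat.of B B) 1) 0 := by
  rcases subsingleton_or_nontrivial B with hB | hB
  · exact Subsingleton.elim _ _
  have hH1 := h1Cotangent_subsingleton_of_regular k r c B φ hφ a ha hker
  have hval : (MvPolynomial.aeval (R := k) (fun i : Fin r => φ (MvPolynomial.X i))) = φ := by
    refine MvPolynomial.algHom_ext fun i => ?_
    rw [MvPolynomial.aeval_X]
  let Pg : Algebra.Generators k B (Fin r) :=
    Algebra.Generators.ofSurjective (fun i => φ (MvPolynomial.X i)) (by rw [hval]; exact hφ)
  have halg : ∀ x : Pg.toExtension.Ring, algebraMap Pg.toExtension.Ring B x = φ x := by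
    intro x
    have h1 : algebraMap Pg.toExtension.Ring B x =
        MvPolynomial.aeval (R := k) (fun i : Fin r => φ (MvPolynomial.X i)) x := rfl
    rw [h1, hval]
  have hker' : Ideal.span (Set.range (a : Fin c → Pg.toExtension.Ring)) = Pg.toExtension.ker := by
    rw [← hker]
    ext x
    show φ x = 0 ↔ algebraMap Pg.toExtension.Ring B x = 0
    rw [halg]
  -- injectivity of the conormal map
  have hd : Function.Injective Pg.toExtension.cotangentComplex := by
    rw [← LinearMap.ker_eq_bot]
    have h0 : Subsingleton Pg.toExtension.H1Cotangent := Pg.equivH1Cotangent.toEquiv.subsingleton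
    haveI : Subsingleton (LinearMap.ker Pg.toExtension.cotangentComplex) := h0
    exact Submodule.eq_bot_of_subsingleton
  -- the basis of the conormal module
  have hQ := Groth.Agent.Lib.Helper19.CotTVanish.Q_le_F0_of_isWeaklyRegular
    (a : Fin c → Pg.toExtension.Ring) ha.toIsWeaklyRegular
  have hli := linearIndependent_cotangent_mk Pg.toExtension a hker' hQ
  have hsp := Algebra.Extension.Cotangent.span_eq_top_of_span_eq_ker (P := Pg.toExtension) a hker'
  let bC : Module.Basis (Fin c) B Pg.toExtension.Cotangent := Module.Basis.mk hli hsp.ge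
  -- `c ≤ r`
  have hcr : c ≤ r := by
    have h1 : LinearIndependent B (fun i => Pg.toExtension.cotangentComplex (bC i)) :=
      bC.linearIndependent.map' _ (LinearMap.ker_eq_bot.mpr hd)
    have h2 := Pg.cotangentSpaceBasis.card_le_card_of_linearIndependent h1
    simpa using h2
  exact fitt_omega_eq_fitt_ext Pg.toExtension.cotangentComplex Pg.toExtension.toKaehler hd
    Pg.toExtension.exact_cotangentComplex_toKaehler Pg.toExtension.toKaehler_surjective hcr bC
    Pg.cotangentSpaceBasis

end Specific

end Groth.Agent.R2.H77.FittExt
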