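import Mathlib
import Groth.Prelude.Def_EssEt

/-!
# Helper for S16448 / S16443 (helper77): total ring of fractions of a flat quasi-finite algebra over
a reduced ring with finitely many minimal primes.
-/

set_option autoImplicit false
set_option linter.unusedSectionVars false
set_option linter.unusedVariables false
set_option linter.style.haveILetI false

namespace Groth.Agent.R2.H77.FracEt

universe u

section A

variable {A : Type u} [CommRing A] [IsReduced A]

/-- In a reduced ring, an element outside every minimal prime is a non-zero-divisor. -/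
theorem mem_nonZeroDivisors_of_forall_notMem (a : A) (h : ∀ p ∈ minimalPrimes A, a ∉ p) :
    a ∈ nonZeroDivisors A := by
  rw [mem_nonZeroDivisors_iff_right]
  intro b hb
  have hb' : b ∈ sInf (minimalPrimes A) := by
    rw [Ideal.mem_sInf]
    intro p hp
    have hp' : p.IsPrime := hp.1.1
    have : b * a ∈ p := by
      rw [hb]
      exact p.zero_mem
    exact (hp'.mem_or_mem this).resolve_right (h p hp)
  have h2 : sInf (minimalPrimes A) = (⊥ : Ideal A) := by
    have := Ideal.sInf_minimalPrimes (I := (⊥ : Ideal A))
    rw [this]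
    exact nilradical_eq_zero A
  rw [h2] at hb'
  exact hb'

/-- A prime consisting of zero divisors is a minimal prime (finitely many minimal primes). -/
theorem mem_minimalPrimes_of_disjoint (hmin : (minimalPrimes A).Finite) (P : Ideal A) [P.IsPrime]
    (hd : Disjoint (P : Set A) (nonZeroDivisors A)) : P ∈ minimalPrimes A := by
  classical
  have hsub : (P : Set A) ⊆ ⋃ p ∈ (↑hmin.toFinset : Set (Ideal A)), (p : Set A) := by
    intro a ha
    have hnz : a ∉ nonZeroDivisors A := fun h => Set.disjoint_left.mp hd ha h
    have : ¬ ∀ p ∈ minimalPrimes A, a ∉ p := fun h => hnz (mem_nonZeroDivisors_of_forall_notMem a h)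
    simp only [not_forall, not_not] at this
    obtain ⟨p, hp, hap⟩ := this
    simp only [Set.mem_iUnion]
    exact ⟨p, by simpa using hp, hap⟩
  obtain ⟨p, hp, hPp⟩ := (Ideal.subset_union_prime (f := fun p : Ideal A => p) ⊤ ⊤
    (fun i hi _ _ => ((hmin.mem_toFinset.mp hi).1.1))).mp hsub
  have hp' : p ∈ minimalPrimes A := hmin.mem_toFinset.mp hp
  have : p ≤ P := hp'.2 ⟨inferInstance, bot_le⟩ hPp
  rw [le_antisymm hPp this]
  exact hp'

end A

section C

variable {A : Type u} [CommRing A] [IsReduced A]

/-- The total ring of fractions of a reduced ring with finitely many minimal primes is Artinian. -/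
theorem isArtinianRing_fractionRing (hmin : (minimalPrimes A).Finite) :
    IsArtinianRing (Localization (nonZeroDivisors A)) := by
  classical
  have hcomap : ∀ 𝔭 : Ideal (Localization (nonZeroDivisors A)), 𝔭.IsPrime →
      𝔭.comap (algebraMap A (Localization (nonZeroDivisors A))) ∈ minimalPrimes A := by
    intro 𝔭 h𝔭
    haveI := h𝔭
    apply mem_minimalPrimes_of_disjoint hmin
    rw [Set.disjoint_left]
    intro a ha hnz
    exact h𝔭.ne_top (Ideal.eq_top_of_isUnit_mem _ ha
      (IsLocalization.map_units (Localization (nonZeroDivisors A)) ⟨a, hnz⟩))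
  have hinj : ∀ 𝔭 𝔮 : Ideal (Localization (nonZeroDivisors A)),
      𝔭.comap (algebraMap A (Localization (nonZeroDivisors A))) =
        𝔮.comap (algebraMap A (Localization (nonZeroDivisors A))) → 𝔭 = 𝔮 := by
    intro 𝔭 𝔮 h
    rw [← IsLocalization.map_under (nonZeroDivisors A) (Localization (nonZeroDivisors A)) 𝔭,
      ← IsLocalization.map_under (nonZeroDivisors A) (Localization (nonZeroDivisors A)) 𝔮]
    exact congrArg _ h
  haveI : Finite (PrimeSpectrum (Localization (nonZeroDivisors A))) := by
    haveI := hmin.to_subtype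
    refine Finite.of_injective (fun 𝔭 : PrimeSpectrum (Localization (nonZeroDivisors A)) =>
      (⟨𝔭.asIdeal.comap _, hcomap _ 𝔭.2⟩ : minimalPrimes A)) ?_
    intro 𝔭 𝔮 h
    ext1
    exact hinj _ _ (congrArg Subtype.val h)
  haveI : Ring.KrullDimLE 0 (Localization (nonZeroDivisors A)) := by
    rw [Ring.krullDimLE_zero_iff]
    intro 𝔭 h𝔭
    obtain ⟨𝔪, h𝔪, hle⟩ := Ideal.exists_le_maximal 𝔭 h𝔭.ne_top
    have h1 := hcomap 𝔭 h𝔭
    have h2 := hcomap 𝔪 h𝔪.isPrime
    have : 𝔭.comap (algebraMap A (Localization (nonZeroDivisors A))) =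
        𝔪.comap (algebraMap A (Localization (nonZeroDivisors A))) :=
      le_antisymm (Ideal.comap_mono hle) (h2.2 ⟨h1.1.1, bot_le⟩ (Ideal.comap_mono hle))
    rw [hinj _ _ this]
    exact h𝔪
  haveI : DiscreteTopology (PrimeSpectrum (Localization (nonZeroDivisors A))) :=
    PrimeSpectrum.discreteTopology_iff_finite_and_krullDimLE_zero.mpr ⟨inferInstance, inferInstance⟩
  have hbij := PrimeSpectrum.discreteTopology_iff_toPiLocalization_bijective.mp
    (inferInstance : DiscreteTopology (PrimeSpectrum (Localization (nonZeroDivisors A))))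
  let e : Localization (nonZeroDivisors A) ≃+*
      PrimeSpectrum.PiLocalization (Localization (nonZeroDivisors A)) :=
    RingEquiv.ofBijective _ hbij
  haveI : ∀ p : PrimeSpectrum (Localization (nonZeroDivisors A)),
      IsArtinianRing (Localization p.asIdeal.primeCompl) := by
    intro p
    have hpmin : p.asIdeal ∈ minimalPrimes (Localization (nonZeroDivisors A)) := by
      rw [Ring.KrullDimLE.minimalPrimes_eq_setOfPred_isPrime]
      exact p.2
    haveI : Ring.KrullDimLE 0 (Localization p.asIdeal.primeCompl) :=
      Ring.KrullDimLE.of_isLocalization p.asIdeal hpmin _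
    have hf := Ring.KrullDimLE.isField_of_isReduced (R := Localization p.asIdeal.primeCompl)
    letI := hf.toField
    infer_instance
  exact RingEquiv.isArtinianRing e.symm

end C

section B

variable {A E : Type u} [CommRing A] [IsReduced A] [CommRing E] [Algebra A E]

/-- Non-zero-divisors of `A` stay non-zero-divisors in a flat algebra. -/
theorem algebraMapSubmonoid_le [Module.Flat A E] :
    Algebra.algebraMapSubmonoid E (nonZeroDivisors A) ≤ nonZeroDivisors E := by
  rintro _ ⟨a, ha, rfl⟩
  have hreg : IsSMulRegular E a := Module.Flat.isSMulRegular_of_nonZeroDivisors ha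
  rw [mem_nonZeroDivisors_iff_right]
  intro x hx
  apply hreg
  change a • x = a • 0
  rw [smul_zero, Algebra.smul_def, mul_comm]
  exact hx

/-- Every non-zero-divisor of `E` becomes a unit after inverting the non-zero-divisors of `A`. -/
theorem isUnit_of_mem_nonZeroDivisors (hmin : (minimalPrimes A).Finite) [Algebra.QuasiFinite A E]
    (s : E) (hs : s ∈ nonZeroDivisors E) :
    IsUnit (algebraMap E (Localization (Algebra.algebraMapSubmonoid E (nonZeroDivisors A))) s) := by
  classical
  by_contra hu
  obtain ⟨𝔪, h𝔪, hmem⟩ := exists_max_ideal_of_mem_nonunits (mem_nonunits_iff.mpr hu)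
  haveI : 𝔪.IsPrime := h𝔪.isPrime
  set Q : Ideal E := 𝔪.comap
    (algebraMap E (Localization (Algebra.algebraMapSubmonoid E (nonZeroDivisors A)))) with hQ
  haveI : Q.IsPrime := Ideal.comap_isPrime _ _
  have hsQ : s ∈ Q := hmem
  have hQT : ∀ t ∈ Algebra.algebraMapSubmonoid E (nonZeroDivisors A), t ∉ Q := fun t ht htQ =>
    h𝔪.ne_top (Ideal.eq_top_of_isUnit_mem _ htQ (IsLocalization.map_units _ ⟨t, ht⟩))
  haveI : (Q.comap (algebraMap A E)).IsPrime := Ideal.comap_isPrime _ _
  have hPd : Disjoint ((Q.comap (algebraMap A E) : Ideal A) : Set A) (nonZeroDivisors A) := by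
    rw [Set.disjoint_left]
    intro a ha hnz
    exact hQT _ (Algebra.mem_algebraMapSubmonoid_of_mem ⟨a, hnz⟩) ha
  have hPmin := mem_minimalPrimes_of_disjoint hmin _ hPd
  obtain ⟨Q', hQ'min, hQ'le⟩ := Ideal.exists_minimalPrimes_le (bot_le : (⊥ : Ideal E) ≤ Q)
  haveI : Q'.IsPrime := hQ'min.1.1
  haveI : (Q'.comap (algebraMap A E)).IsPrime := Ideal.comap_isPrime _ _
  have hunder : Q'.under A = Q.under A :=
    le_antisymm (Ideal.comap_mono hQ'le)
      (hPmin.2 ⟨inferInstance, bot_le⟩ (Ideal.comap_mono hQ'le))
  have hQQ := Algebra.QuasiFinite.eq_of_le_of_under_eq (R := A) Q' Q hQ'le hunder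
  rw [← hQQ] at hsQ
  exact Set.disjoint_left.mp (Ideal.disjoint_nonZeroDivisors_of_mem_minimalPrimes hQ'min) hsQ hs

/-- The localization at the non-zero-divisors of `A` is the total ring of fractions of `E`. -/
theorem isLocalization_nonZeroDivisors (hmin : (minimalPrimes A).Finite) [Module.Flat A E]
    [Algebra.QuasiFinite A E] :
    IsLocalization (nonZeroDivisors E)
      (Localization (Algebra.algebraMapSubmonoid E (nonZeroDivisors A))) :=
  IsLocalization.of_le (Algebra.algebraMapSubmonoid E (nonZeroDivisors A)) (nonZeroDivisors E)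
    algebraMapSubmonoid_le (fun r hr => isUnit_of_mem_nonZeroDivisors hmin r hr)

/-- `Frac(E)` is the localization of `E` at the image of the non-zero-divisors of `A`. -/
theorem isLocalization_fractionRing (hmin : (minimalPrimes A).Finite) [Module.Flat A E]
    [Algebra.QuasiFinite A E] :
    IsLocalization ((nonZeroDivisors A).map (algebraMap A E)) (FractionRing E) := by
  haveI := isLocalization_nonZeroDivisors (E := E) hmin
  let e : Localization (Algebra.algebraMapSubmonoid E (nonZeroDivisors A)) ≃ₐ[E] FractionRing E :=
    IsLocalization.algEquiv (nonZeroDivisors E) _ _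
  exact IsLocalization.isLocalization_of_algEquiv
    (Algebra.algebraMapSubmonoid E (nonZeroDivisors A)) e

/-- Weak finiteness of `E ⊗ Frac(A)` over `Frac(A)`. -/
theorem exists_finset_span_loc (hmin : (minimalPrimes A).Finite) [Algebra.QuasiFinite A E] :
    ∃ t : Finset (Localization (Algebra.algebraMapSubmonoid E (nonZeroDivisors A))),
      ∀ x : Localization (Algebra.algebraMapSubmonoid E (nonZeroDivisors A)),
        ∃ a ∈ nonZeroDivisors A, a • x ∈ Submodule.span A
          (t : Set (Localization (Algebra.algebraMapSubmonoid E (nonZeroDivisors A)))) := by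
  classical
  haveI := isArtinianRing_fractionRing (A := A) hmin
  haveI : Algebra.QuasiFinite (Localization (nonZeroDivisors A))
      (Localization (Algebra.algebraMapSubmonoid E (nonZeroDivisors A))) :=
    Algebra.QuasiFinite.of_restrictScalars A _ _
  haveI : Module.Finite (Localization (nonZeroDivisors A))
      (Localization (Algebra.algebraMapSubmonoid E (nonZeroDivisors A))) :=
    Module.Finite.of_quasiFinite
  obtain ⟨t, ht⟩ := (Module.Finite.fg_top :
    (⊤ : Submodule (Localization (nonZeroDivisors A))
      (Localization (Algebra.algebraMapSubmonoid E (nonZeroDivisors A)))).FG)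
  refine ⟨t, fun x => ?_⟩
  have hx : x ∈ Submodule.span (Localization (nonZeroDivisors A))
      (t : Set (Localization (Algebra.algebraMapSubmonoid E (nonZeroDivisors A)))) := by
    rw [ht]
    exact Submodule.mem_top
  induction hx using Submodule.span_induction with
  | mem y hy =>
    exact ⟨1, one_mem _, by rw [one_smul]; exact Submodule.subset_span hy⟩
  | zero =>
    exact ⟨1, one_mem _, by rw [smul_zero]; exact Submodule.zero_mem _⟩
  | add y z _ _ hy hz =>
    obtain ⟨a, ha, hay⟩ := hy
    obtain ⟨b, hb, hbz⟩ := hz
    refine ⟨a * b, mul_mem ha hb, ?_⟩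
    have : (a * b) • (y + z) = b • (a • y) + a • (b • z) := by
      rw [smul_add, mul_smul, mul_smul, smul_comm a b y]
    rw [this]
    exact Submodule.add_mem _ (Submodule.smul_mem _ _ hay) (Submodule.smul_mem _ _ hbz)
  | smul κ y _ hy =>
    obtain ⟨a, ha, hay⟩ := hy
    obtain ⟨c, s, rfl⟩ := IsLocalization.exists_mk'_eq (nonZeroDivisors A) κ
    refine ⟨s * a, mul_mem s.2 ha, ?_⟩
    have h0 : (s : A) • IsLocalization.mk' (Localization (nonZeroDivisors A)) c s =
        algebraMap A (Localization (nonZeroDivisors A)) c := by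
      rw [Algebra.smul_def, IsLocalization.mk'_spec']
    have h1 : ((s : A) * a) • (IsLocalization.mk' (Localization (nonZeroDivisors A)) c s • y) =
        c • (a • y) := by
      rw [mul_smul, smul_comm a, ← smul_assoc ((s : A)), h0, algebraMap_smul, smul_comm c a y]
    rw [h1]
    exact Submodule.smul_mem _ _ hay

/-- Weak finiteness of `Frac(E)` over `Frac(A)`. -/
theorem exists_finset_span (hmin : (minimalPrimes A).Finite) [Module.Flat A E]
    [Algebra.QuasiFinite A E] :
    ∃ t : Finset (FractionRing E), ∀ x : FractionRing E, ∃ a ∈ nonZeroDivisors A,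
      algebraMap A (FractionRing E) a * x ∈ Submodule.span A (t : Set (FractionRing E)) := by
  classical
  haveI := isLocalization_nonZeroDivisors (E := E) hmin
  let e : Localization (Algebra.algebraMapSubmonoid E (nonZeroDivisors A)) ≃ₐ[E] FractionRing E :=
    IsLocalization.algEquiv (nonZeroDivisors E) _ _
  let eA : Localization (Algebra.algebraMapSubmonoid E (nonZeroDivisors A)) ≃ₐ[A] FractionRing E :=
    e.restrictScalars A
  obtain ⟨t, ht⟩ := exists_finset_span_loc (E := E) hmin
  refine ⟨t.image eA, fun x => ?_⟩
  obtain ⟨a, ha, hax⟩ := ht (eA.symm x)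
  refine ⟨a, ha, ?_⟩
  have h1 : algebraMap A (FractionRing E) a * x = eA.toLinearMap (a • eA.symm x) := by
    rw [map_smul, AlgEquiv.toLinearMap_apply, AlgEquiv.apply_symm_apply, Algebra.smul_def]
  rw [h1, Finset.coe_image]
  exact Submodule.apply_mem_span_image_of_mem_span eA.toLinearMap hax

/-- A unit of `Frac(E)` lying in an intermediate ring `Frac(A) ⊆ L ⊆ Frac(E)` has its inverse
in `L`. -/
theorem exists_mul_eq_one_of_isUnit (hmin : (minimalPrimes A).Finite) [Module.Flat A E]
    [Algebra.QuasiFinite A E] (L : Subalgebra A (FractionRing E))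
    (hL : ∀ s ∈ nonZeroDivisors A, ∃ y ∈ L, algebraMap A (FractionRing E) s * y = 1)
    (x : FractionRing E) (hx : x ∈ L) (hu : IsUnit x) : ∃ y ∈ L, x * y = 1 := by
  classical
  haveI := isArtinianRing_fractionRing (A := A) hmin
  haveI := isLocalization_nonZeroDivisors (E := E) hmin
  let e : Localization (Algebra.algebraMapSubmonoid E (nonZeroDivisors A)) ≃ₐ[E] FractionRing E :=
    IsLocalization.algEquiv (nonZeroDivisors E) _ _
  letI alg : Algebra (Localization (nonZeroDivisors A)) (FractionRing E) :=
    ((e : Localization (Algebra.algebraMapSubmonoid E (nonZeroDivisors A)) →+*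
        FractionRing E).comp
      (algebraMap (Localization (nonZeroDivisors A))
        (Localization (Algebra.algebraMapSubmonoid E (nonZeroDivisors A))))).toAlgebra
  have halg : ∀ κ : Localization (nonZeroDivisors A),
      algebraMap (Localization (nonZeroDivisors A)) (FractionRing E) κ =
        e (algebraMap (Localization (nonZeroDivisors A))
          (Localization (Algebra.algebraMapSubmonoid E (nonZeroDivisors A))) κ) := fun κ => rfl
  haveI : IsScalarTower A (Localization (nonZeroDivisors A)) (FractionRing E) :=
    IsScalarTower.of_algebraMap_eq (fun a => by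
      rw [halg, ← IsScalarTower.algebraMap_apply A (Localization (nonZeroDivisors A)),
        IsScalarTower.algebraMap_apply A E
          (Localization (Algebra.algebraMapSubmonoid E (nonZeroDivisors A))),
        e.commutes, ← IsScalarTower.algebraMap_apply])
  haveI : Algebra.QuasiFinite A (FractionRing E) := inferInstance
  haveI : Algebra.QuasiFinite (Localization (nonZeroDivisors A)) (FractionRing E) :=
    Algebra.QuasiFinite.of_restrictScalars A _ _
  haveI : Module.Finite (Localization (nonZeroDivisors A)) (FractionRing E) :=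
    Module.Finite.of_quasiFinite
  -- `L` is stable under `Frac(A)`
  have hκ : ∀ κ : Localization (nonZeroDivisors A),
      algebraMap (Localization (nonZeroDivisors A)) (FractionRing E) κ ∈ L := by
    intro κ
    obtain ⟨c, s, rfl⟩ := IsLocalization.exists_mk'_eq (nonZeroDivisors A) κ
    obtain ⟨y, hyL, hy⟩ := hL s s.2
    have h1 : algebraMap (Localization (nonZeroDivisors A)) (FractionRing E)
        (IsLocalization.mk' (Localization (nonZeroDivisors A)) c s) *
          algebraMap A (FractionRing E) s = algebraMap A (FractionRing E) c := by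
      rw [IsScalarTower.algebraMap_apply A (Localization (nonZeroDivisors A)) (FractionRing E),
        ← map_mul, IsLocalization.mk'_spec, ← IsScalarTower.algebraMap_apply]
    have h2 : algebraMap (Localization (nonZeroDivisors A)) (FractionRing E)
        (IsLocalization.mk' (Localization (nonZeroDivisors A)) c s) =
          algebraMap A (FractionRing E) c * y := by
      rw [← h1, mul_assoc, hy, mul_one]
    rw [h2]
    exact L.mul_mem (L.algebraMap_mem c) hyL
  let L' : Submodule (Localization (nonZeroDivisors A)) (FractionRing E) :=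
    { carrier := L
      add_mem' := L.add_mem
      zero_mem' := L.zero_mem
      smul_mem' := fun κ l hl => by
        change κ • l ∈ L
        rw [Algebra.smul_def]
        exact L.mul_mem (hκ κ) hl }
  have hL' : ∀ z, z ∈ L' ↔ z ∈ L := fun z => Iff.rfl
  let f : L' →ₗ[Localization (nonZeroDivisors A)] L' :=
    (LinearMap.mulLeft (Localization (nonZeroDivisors A)) x).restrict
      (fun l hl => L.mul_mem hx hl)
  have hf : Function.Injective f := by
    intro a b hab
    have h3 : x * (a : FractionRing E) = x * (b : FractionRing E) := congrArg Subtype.val hab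
    exact Subtype.ext (hu.mul_left_cancel h3)
  obtain ⟨l, hl⟩ := IsArtinian.surjective_of_injective_endomorphism f hf ⟨1, L.one_mem⟩
  exact ⟨l, l.2, congrArg Subtype.val hl⟩

/-- The preimage in `E` of an intermediate ring `Frac(A) ⊆ L ⊆ Frac(E)` is a local ring with
ring of fractions `L`. -/
theorem exists_subalgebra_isLocalRing (hmin : (minimalPrimes A).Finite) [IsLocalRing E]
    [Module.Flat A E] [Algebra.QuasiFinite A E] (L : Subalgebra A (FractionRing E))
    (hL : ∀ s ∈ nonZeroDivisors A, ∃ y ∈ L, algebraMap A (FractionRing E) s * y = 1) :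
    ∃ D : Subalgebra A E,
      (D : Set E) = (algebraMap E (FractionRing E)) ⁻¹' (L : Set (FractionRing E)) ∧
      ∃ _ : IsLocalRing D, IsLocalHom (algebraMap D E) ∧
        ∀ l ∈ L, ∃ d ∈ D, ∃ s ∈ nonZeroDivisors A, ∃ y ∈ L,
          algebraMap A (FractionRing E) s * y = 1 ∧ l = algebraMap E (FractionRing E) d * y := by
  classical
  let D : Subalgebra A E := L.comap (IsScalarTower.toAlgHom A E (FractionRing E))
  have hD : ∀ d : E, d ∈ D ↔ algebraMap E (FractionRing E) d ∈ L := fun d => Iff.rfl
  have hunit : ∀ d : D, IsUnit (d : E) → IsUnit d := by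
    intro d hd
    obtain ⟨y, hyL, hy⟩ := exists_mul_eq_one_of_isUnit hmin L hL
      (algebraMap E (FractionRing E) d) d.2 (hd.map _)
    obtain ⟨u, hu⟩ := hd
    have h0 : algebraMap E (FractionRing E) (↑u⁻¹ : E) * algebraMap E (FractionRing E) d = 1 := by
      rw [← map_mul, ← hu, Units.inv_mul, map_one]
    have h1 : y = algebraMap E (FractionRing E) (↑u⁻¹ : E) := by
      calc y = (algebraMap E (FractionRing E) (↑u⁻¹ : E) * algebraMap E (FractionRing E) d) * y := by
            rw [h0, one_mul]
        _ = algebraMap E (FractionRing E) (↑u⁻¹ : E) * (algebraMap E (FractionRing E) d * y) :=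
            mul_assoc _ _ _
        _ = algebraMap E (FractionRing E) (↑u⁻¹ : E) := by rw [hy, mul_one]
    have hmem : (↑u⁻¹ : E) ∈ D := by
      rw [hD, ← h1]
      exact hyL
    refine IsUnit.of_mul_eq_one ⟨_, hmem⟩ (Subtype.ext ?_)
    change (d : E) * (↑u⁻¹ : E) = 1
    rw [← hu, Units.mul_inv]
  haveI : Nontrivial D := inferInstance
  have hloc : IsLocalRing D := IsLocalRing.of_nonunits_add (fun a b ha hb hab => by
    have hab' : IsUnit ((a : E) + (b : E)) := hab.map D.val
    have ha' : (a : E) ∈ nonunits E := fun h => ha (hunit a h)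
    have hb' : (b : E) ∈ nonunits E := fun h => hb (hunit b h)
    exact IsLocalRing.nonunits_add ha' hb' hab')
  refine ⟨D, rfl, hloc, ⟨fun d hd => hunit d hd⟩, ?_⟩
  intro l hl
  haveI := isLocalization_fractionRing (E := E) hmin
  obtain ⟨d, t, rfl⟩ := IsLocalization.exists_mk'_eq
    ((nonZeroDivisors A).map (algebraMap A E)) l
  obtain ⟨s, hs, hst⟩ := t.2
  obtain ⟨y, hyL, hy⟩ := hL s hs
  have h1 : IsLocalization.mk' (FractionRing E) d t * algebraMap A (FractionRing E) s =
      algebraMap E (FractionRing E) d := by
    rw [IsScalarTower.algebraMap_apply A E (FractionRing E)]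
    have : algebraMap A E s = (t : E) := hst
    rw [this, IsLocalization.mk'_spec]
  have hdD : d ∈ D := by
    rw [hD, ← h1]
    exact L.mul_mem hl (L.algebraMap_mem s)
  refine ⟨d, hdD, s, hs, y, hyL, hy, ?_⟩
  rw [← h1, mul_assoc, hy, mul_one]

end B

section EssEt

variable {A E : Type u} [CommRing A] [IsLocalRing A] [CommRing E] [Algebra A E]

/-- An essentially etale local algebra is flat. -/
theorem flat_of_isEssentiallyEtale (hE : EGA4loc.IsEssentiallyEtale A E) : Module.Flat A E := by
  obtain ⟨C, _, _, q, _, het, hq, ⟨e⟩⟩ := hE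
  haveI : Module.Flat A C := inferInstance
  haveI : Module.Flat C (Localization.AtPrime q) := IsLocalization.flat _ q.primeCompl
  haveI : Module.Flat A (Localization.AtPrime q) := Module.Flat.trans A C _
  exact Module.Flat.of_linearEquiv e.toLinearEquiv

/-- An essentially etale local algebra is quasi-finite. -/
theorem quasiFinite_of_isEssentiallyEtale (hE : EGA4loc.IsEssentiallyEtale A E) :
    Algebra.QuasiFinite A E := by
  obtain ⟨C, _, _, q, _, het, hq, ⟨e⟩⟩ := hE
  haveI : Algebra.QuasiFinite A C := inferInstance
  haveI : Algebra.QuasiFinite A (Localization.AtPrime q) := inferInstance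
  exact (Algebra.QuasiFinite.iff_of_algEquiv e).mpr inferInstance

end EssEt

end Groth.Agent.R2.H77.FracEt
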