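import Mathlib
import Groth.Prelude.Def_CycDet

/-!
# H77GoodSeqA: `spanBefore` lemmas and cyclic quotient equivalences
-/

set_option autoImplicit false
set_option linter.style.haveILetI false
universe u

namespace Groth.Agent.R2.H77.GoodSeqA
open CycDet

variable {R : Type u} [CommRing R] {M : Type u} [AddCommGroup M] [Module R M]

theorem spanBefore_zero {l : ℕ} (x : Fin l → M) : spanBefore R M x 0 = ⊥ := by
  unfold spanBefore
  have : {j : Fin l | (j : ℕ) < 0} = ∅ := by
    ext j
    simp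
  rw [this, Set.image_empty, Submodule.span_empty]

theorem spanBefore_succ {l : ℕ} (x : Fin l → M) (i : Fin l) :
    spanBefore R M x ((i : ℕ) + 1) = spanBefore R M x i ⊔ Submodule.span R {x i} := by
  unfold spanBefore
  rw [← Submodule.span_union]
  congr 1
  ext m
  constructor
  · rintro ⟨j, hj, rfl⟩
    rcases Nat.lt_succ_iff_lt_or_eq.mp hj with h | h
    · exact Or.inl ⟨j, h, rfl⟩
    · right
      rw [Fin.ext h]
      rfl
  · rintro (⟨j, hj, rfl⟩ | h)
    · exact ⟨j, Nat.lt_succ_of_lt hj, rfl⟩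
    · rw [Set.mem_singleton_iff] at h
      exact ⟨i, Nat.lt_succ_self _, h.symm⟩

theorem spanBefore_of_le {l : ℕ} (x : Fin l → M) {k : ℕ} (h : l ≤ k) :
    spanBefore R M x k = Submodule.span R (Set.range x) := by
  unfold spanBefore
  congr 1
  ext m
  constructor
  · rintro ⟨j, -, rfl⟩
    exact ⟨j, rfl⟩
  · rintro ⟨j, rfl⟩
    exact ⟨j, lt_of_lt_of_le j.2 h, rfl⟩

theorem spanBefore_cons {l : ℕ} (y : M) (x' : Fin l → M) (k : ℕ) :
    spanBefore R M (Fin.cons y x' : Fin (l + 1) → M) (k + 1) =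
      Submodule.span R {y} ⊔ spanBefore R M x' k := by
  unfold spanBefore
  rw [← Submodule.span_union]
  congr 1
  ext m
  constructor
  · rintro ⟨j, hj, rfl⟩
    rcases Fin.eq_zero_or_eq_succ j with rfl | ⟨j', rfl⟩
    · left
      rw [Fin.cons_zero]
      rfl
    · right
      rw [Fin.cons_succ]
      refine ⟨j', ?_, rfl⟩
      have : ((j'.succ : Fin (l + 1)) : ℕ) < k + 1 := hj
      rw [Fin.val_succ] at this
      exact Nat.lt_of_succ_lt_succ this
  · rintro (h | ⟨j', hj', rfl⟩)
    · rw [Set.mem_singleton_iff] at h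
      refine ⟨0, Nat.succ_pos k, ?_⟩
      rw [Fin.cons_zero, h]
    · refine ⟨j'.succ, ?_, ?_⟩
      · show ((j'.succ : Fin (l + 1)) : ℕ) < k + 1
        rw [Fin.val_succ]
        exact Nat.succ_lt_succ hj'
      · rw [Fin.cons_succ]

/-- transport of a subquotient along equalities of submodules. -/
noncomputable def quotCongr {P P' Q Q' : Submodule R M} (hP : P = P') (hQ : Q = Q') :
    (↥Q ⧸ P.submoduleOf Q) ≃ₗ[R] (↥Q' ⧸ P'.submoduleOf Q') := by
  subst hP
  subst hQ
  exact LinearEquiv.refl _ _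

/-- `(N + R y) / N ≅ R / (N : y)`. -/
noncomputable def singleQuotEquiv (N : Submodule R M) (y : M) :
    (↥(N ⊔ Submodule.span R {y}) ⧸ N.submoduleOf (N ⊔ Submodule.span R {y})) ≃ₗ[R]
      R ⧸ N.colon {y} := by
  let y' : ↥(N ⊔ Submodule.span R {y}) :=
    ⟨y, Submodule.mem_sup_right (Submodule.mem_span_singleton_self y)⟩
  let f : R →ₗ[R] (↥(N ⊔ Submodule.span R {y}) ⧸ N.submoduleOf (N ⊔ Submodule.span R {y})) :=
    (Submodule.mkQ _).comp (LinearMap.toSpanSingleton R _ y')
  have hfr : ∀ r : R, f r = Submodule.Quotient.mk (r • y') := fun r => rfl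
  have hf : Function.Surjective f := by
    intro z
    obtain ⟨⟨m, hm⟩, rfl⟩ := Submodule.Quotient.mk_surjective _ z
    obtain ⟨n, hn, w, hw, rfl⟩ := Submodule.mem_sup.mp hm
    obtain ⟨r, rfl⟩ := Submodule.mem_span_singleton.mp hw
    refine ⟨r, ?_⟩
    rw [hfr, Submodule.Quotient.eq]
    show ((r • y' - ⟨n + r • y, hm⟩ : ↥(N ⊔ Submodule.span R {y})) : M) ∈ N
    have : ((r • y' - ⟨n + r • y, hm⟩ : ↥(N ⊔ Submodule.span R {y})) : M) = -n := by
      show r • y - (n + r • y) = -n
      abel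
    rw [this]
    exact N.neg_mem hn
  have hker : LinearMap.ker f = N.colon {y} := by
    ext r
    rw [LinearMap.mem_ker, hfr, Submodule.Quotient.mk_eq_zero, Submodule.mem_colon_singleton]
    rfl
  exact ((Submodule.quotEquivOfEq _ _ hker.symm).trans (f.quotKerEquivOfSurjective hf)).symm

end Groth.Agent.R2.H77.GoodSeqA
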