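import Mathlib
import Groth.Prelude.Def_CycDet
import Groth.Agent.R2.H77GoodSeqA

/-!
# H77GoodSeqB: existence of a filtration with quotients `R/q` up to the support at a minimal prime `q`
-/

set_option autoImplicit false
set_option linter.style.haveILetI false
universe u

namespace Groth.Agent.R2.H77.GoodSeqB
open CycDet Groth.Agent.R2.H77.GoodSeqA

variable {R : Type u} [CommRing R] [IsNoetherianRing R] {M : Type u} [AddCommGroup M] [Module R M]
  [Module.Finite R M]

theorem exists_colon_eq (q : PrimeSpectrum R)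
    (hq : Minimal (fun p : PrimeSpectrum R => p ∈ Module.support R M) q)
    (N : Submodule R M) (hN : q ∈ Module.support R (M ⧸ N)) :
    ∃ y : M, N.colon {y} = q.asIdeal := by
  have hmin : q.asIdeal ∈ (Module.annihilator R (M ⧸ N)).minimalPrimes := by
    rw [Module.support_eq_zeroLocus] at hN
    refine ⟨⟨q.2, hN⟩, ?_⟩
    rintro p ⟨hp, hIp⟩ hpq
    have h1 : (⟨p, hp⟩ : PrimeSpectrum R) ∈ Module.support R (M ⧸ N) := by
      rw [Module.support_eq_zeroLocus]
      exact hIp
    have h2 := Module.support_subset_of_surjective N.mkQ (Submodule.mkQ_surjective N) h1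
    exact hq.2 h2 hpq
  have hass :=
    Module.associatedPrimes.minimalPrimes_annihilator_subset_associatedPrimes R (M ⧸ N) hmin
  obtain ⟨-, z, hz⟩ := isAssociatedPrime_iff.mp hass
  obtain ⟨y, rfl⟩ := Submodule.Quotient.mk_surjective _ z
  refine ⟨y, ?_⟩
  rw [hz]
  ext r
  rw [Submodule.mem_colon_singleton, Submodule.mem_colon_singleton, Submodule.mem_bot,
    ← Submodule.Quotient.mk_smul, Submodule.Quotient.mk_eq_zero]

theorem exists_seq_above (q : PrimeSpectrum R)
    (hq : Minimal (fun p : PrimeSpectrum R => p ∈ Module.support R M) q) (N : Submodule R M) :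
    ∃ (l : ℕ) (x : Fin l → M),
      q ∉ Module.support R (M ⧸ (N ⊔ Submodule.span R (Set.range x))) ∧
      ∀ i : Fin l, Nonempty ((↥(N ⊔ spanBefore R M x ((i : ℕ) + 1)) ⧸
        (N ⊔ spanBefore R M x i).submoduleOf (N ⊔ spanBefore R M x ((i : ℕ) + 1))) ≃ₗ[R]
          (R ⧸ q.asIdeal)) := by
  haveI : IsNoetherian R M := isNoetherian_of_isNoetherianRing_of_finite R M
  induction N using IsNoetherian.induction with
  | hgt N ih =>
    by_cases hN : q ∈ Module.support R (M ⧸ N)
    · obtain ⟨y, hy⟩ := exists_colon_eq q hq N hN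
      have hyN : y ∉ N := by
        intro h
        have : N.colon {y} = ⊤ := by
          rw [eq_top_iff]
          intro r _
          rw [Submodule.mem_colon_singleton]
          exact N.smul_mem r h
        rw [hy] at this
        exact q.2.ne_top this
      have hlt : N < N ⊔ Submodule.span R {y} := by
        refine lt_of_le_of_ne le_sup_left fun h => hyN ?_
        rw [h]
        exact Submodule.mem_sup_right (Submodule.mem_span_singleton_self y)
      obtain ⟨l', x', h1, h2⟩ := ih _ hlt
      refine ⟨l' + 1, Fin.cons y x', ?_, ?_⟩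
      · have : N ⊔ Submodule.span R (Set.range (Fin.cons y x' : Fin (l' + 1) → M)) =
            N ⊔ Submodule.span R {y} ⊔ Submodule.span R (Set.range x') := by
          rw [Fin.range_cons, Submodule.span_insert, sup_assoc]
        rw [this]
        exact h1
      · intro i
        rcases Fin.eq_zero_or_eq_succ i with rfl | ⟨j, rfl⟩
        · have e1 : N ⊔ spanBefore R M (Fin.cons y x' : Fin (l' + 1) → M)
              (((0 : Fin (l' + 1)) : ℕ) + 1) = N ⊔ Submodule.span R {y} := by
            rw [Fin.val_zero, spanBefore_cons, spanBefore_zero, sup_bot_eq]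
          have e0 : N ⊔ spanBefore R M (Fin.cons y x' : Fin (l' + 1) → M)
              ((0 : Fin (l' + 1)) : ℕ) = N := by
            rw [Fin.val_zero, spanBefore_zero, sup_bot_eq]
          exact ⟨(quotCongr e0 e1).trans ((singleQuotEquiv N y).trans
            (Submodule.quotEquivOfEq _ _ hy))⟩
        · have e1 : N ⊔ spanBefore R M (Fin.cons y x' : Fin (l' + 1) → M)
              (((j.succ : Fin (l' + 1)) : ℕ) + 1) =
              N ⊔ Submodule.span R {y} ⊔ spanBefore R M x' ((j : ℕ) + 1) := by
            rw [Fin.val_succ, spanBefore_cons, sup_assoc]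
          have e0 : N ⊔ spanBefore R M (Fin.cons y x' : Fin (l' + 1) → M)
              ((j.succ : Fin (l' + 1)) : ℕ) =
              N ⊔ Submodule.span R {y} ⊔ spanBefore R M x' (j : ℕ) := by
            rw [Fin.val_succ, spanBefore_cons, sup_assoc]
          obtain ⟨e⟩ := h2 j
          exact ⟨(quotCongr e0 e1).trans e⟩
    · refine ⟨0, Fin.elim0, ?_, fun i => i.elim0⟩
      have : N ⊔ Submodule.span R (Set.range (Fin.elim0 : Fin 0 → M)) = N := by
        rw [Set.range_eq_empty, Submodule.span_empty, sup_bot_eq]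
      rw [this]
      exact hN

theorem exists_seq (q : PrimeSpectrum R)
    (hq : Minimal (fun p : PrimeSpectrum R => p ∈ Module.support R M) q) :
    ∃ (l : ℕ) (x : Fin l → M),
      q ∉ Module.support R (M ⧸ Submodule.span R (Set.range x)) ∧
      ∀ i : Fin l, Nonempty ((↥(spanBefore R M x ((i : ℕ) + 1)) ⧸
        (spanBefore R M x i).submoduleOf (spanBefore R M x ((i : ℕ) + 1))) ≃ₗ[R]
          (R ⧸ q.asIdeal)) := by
  obtain ⟨l, x, h1, h2⟩ := exists_seq_above q hq (⊥ : Submodule R M)
  refine ⟨l, x, ?_, ?_⟩
  · rw [bot_sup_eq] at h1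
    exact h1
  · intro i
    obtain ⟨e⟩ := h2 i
    exact ⟨(quotCongr (bot_sup_eq _).symm (bot_sup_eq _).symm).trans e⟩

end Groth.Agent.R2.H77.GoodSeqB
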