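import Mathlib
import Groth.Prelude.Def_CycDet
import Groth.Agent.R2.H77GoodSeqA
import Groth.Agent.Lib.Helper5AssocFormula

/-!
# H77GoodSeqC: the length of a filtration with quotients `R/q` is the length of `M_q`
-/

set_option autoImplicit false
set_option linter.style.haveILetI false
universe u

namespace Groth.Agent.R2.H77.GoodSeqC
open CycDet Groth.Agent.R2.H77.GoodSeqA Groth.Agent.Lib.Helper5.AssocFormula

variable {R : Type u} [CommRing R] {M : Type u} [AddCommGroup M] [Module R M]

theorem L_succ (q : PrimeSpectrum R) (N N' : Submodule R M) (h : N ≤ N') :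
    L R ↥N' q = L R ↥N q + L R (↥N' ⧸ N.submoduleOf N') q := by
  refine L_add (Submodule.inclusion h) (N.submoduleOf N').mkQ (Submodule.inclusion_injective h)
    (Submodule.mkQ_surjective _) ?_ q
  rw [LinearMap.exact_iff, Submodule.ker_mkQ, Submodule.range_inclusion]
  rfl

theorem L_top (q : PrimeSpectrum R) (N : Submodule R M) :
    L R M q = L R ↥N q + L R (M ⧸ N) q :=
  L_add N.subtype N.mkQ N.injective_subtype (Submodule.mkQ_surjective _)
    (LinearMap.exact_subtype_mkQ N) q

theorem L_spanBefore (q : PrimeSpectrum R) {l : ℕ} (x : Fin l → M)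
    (h2 : ∀ i : Fin l, Nonempty ((↥(spanBefore R M x ((i : ℕ) + 1)) ⧸
        (spanBefore R M x i).submoduleOf (spanBefore R M x ((i : ℕ) + 1))) ≃ₗ[R]
          (R ⧸ q.asIdeal))) :
    ∀ k : ℕ, k ≤ l → L R ↥(spanBefore R M x k) q = k := by
  intro k
  induction k with
  | zero =>
    intro _
    rw [Nat.cast_zero]
    apply L_eq_zero_of_notMem
    haveI : Subsingleton ↥(spanBefore R M x 0) := by
      rw [spanBefore_zero]
      infer_instance
    rw [Module.support_eq_empty]
    exact Set.notMem_empty _
  | succ k ih =>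
    intro hk
    have hkl : k < l := hk
    obtain ⟨e⟩ := h2 ⟨k, hkl⟩
    have hle : spanBefore R M x k ≤ spanBefore R M x (k + 1) :=
      Submodule.span_mono (Set.image_mono fun j (hj : (j : ℕ) < k) => Nat.lt_succ_of_lt hj)
    rw [L_succ q _ _ hle, ih hkl.le, L_congr e q, L_quot_self]
    push_cast
    rfl

theorem length_eq (q : PrimeSpectrum R) {l : ℕ} (x : Fin l → M)
    (h1 : q ∉ Module.support R (M ⧸ Submodule.span R (Set.range x)))
    (h2 : ∀ i : Fin l, Nonempty ((↥(spanBefore R M x ((i : ℕ) + 1)) ⧸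
        (spanBefore R M x i).submoduleOf (spanBefore R M x ((i : ℕ) + 1))) ≃ₗ[R]
          (R ⧸ q.asIdeal))) :
    (l : ℕ∞) = Module.length (Localization.AtPrime q.asIdeal)
      (LocalizedModule q.asIdeal.primeCompl M) := by
  have h3 := L_spanBefore q x h2 l le_rfl
  have h4 : L R ↥(Submodule.span R (Set.range x)) q = L R ↥(spanBefore R M x l) q :=
    L_congr (LinearEquiv.ofEq _ _ (spanBefore_of_le x le_rfl).symm) q
  have h5 := L_top q (Submodule.span R (Set.range x))
  rw [h4, h3, L_eq_zero_of_notMem h1, add_zero] at h5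
  exact h5.symm

end Groth.Agent.R2.H77.GoodSeqC
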