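import Mathlib
import Groth.Agent.Lib.Helper5NilFlat

/-!
# Helper for S16454 (helper77): the step `Iⁿ⁺¹ ⊗ M ↪ M ⇒ Iⁿ ⊗ M ↪ M` from graded injectivity.
-/

set_option autoImplicit false
set_option linter.unusedSectionVars false
set_option linter.unusedVariables false

namespace Groth.Agent.R2.H77.GrFlat

open TensorProduct

universe u

variable {A : Type u} [CommRing A] (I : Ideal A) {M : Type u} [AddCommGroup M] [Module A M]

/-- If `I` kills `G` then `M ⊗ G → (M/IM) ⊗ G` is injective. -/
theorem rTensor_mkQ_injective (G : Type u) [AddCommGroup G] [Module A G]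
    (hIG : ∀ a ∈ I, ∀ g : G, a • g = 0) :
    Function.Injective ((I • (⊤ : Submodule A M)).mkQ.rTensor G) := by
  rw [injective_iff_map_eq_zero]
  intro w hw
  have hex : Function.Exact ((I • (⊤ : Submodule A M)).subtype.rTensor G)
      ((I • (⊤ : Submodule A M)).mkQ.rTensor G) :=
    rTensor_exact G (LinearMap.exact_subtype_mkQ _) (Submodule.mkQ_surjective _)
  obtain ⟨w', rfl⟩ := (hex w).mp hw
  induction w' with
  | zero => simp
  | add x y hx hy =>
    rw [map_add] at hw ⊢
    rw [hx ((hex _).mpr ⟨x, rfl⟩), hy ((hex _).mpr ⟨y, rfl⟩), add_zero]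
  | tmul m g =>
    rw [LinearMap.rTensor_tmul, Submodule.subtype_apply]
    obtain ⟨m, hm⟩ := m
    change m ⊗ₜ[A] g = 0
    refine Submodule.smul_induction_on hm ?_ ?_
    · intro a ha n _
      rw [TensorProduct.smul_tmul, hIG a ha g, TensorProduct.tmul_zero]
    · intro x y hx hy
      rw [TensorProduct.add_tmul, hx, hy, add_zero]

/-- The descending step. -/
theorem step (I' J' : Ideal A) (hle : I' ≤ J') (G : Type u) [AddCommGroup G] [Module A G]
    (q : J' →ₗ[A] G) (hq : Function.Surjective q)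
    (hker : ∀ a : J', q a = 0 ↔ (a : A) ∈ I')
    (hIG : ∀ a ∈ I, ∀ g : G, a • g = 0)
    (H : ∀ (k : ℕ) (a : Fin k → J') (x : Fin k → M), ∑ i, (a i : A) • x i = 0 →
      ∑ i, q (a i) ⊗ₜ[A] ((I • (⊤ : Submodule A M)).mkQ (x i)) = 0)
    (hinj : Function.Injective (I'.subtype.lTensor M)) :
    Function.Injective (J'.subtype.lTensor M) := by
  rw [injective_iff_map_eq_zero]
  intro z hz
  -- exactness of `M ⊗ I' → M ⊗ J' → M ⊗ G`
  have hex0 : Function.Exact (Submodule.inclusion hle) q := by
    intro a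
    constructor
    · intro ha
      exact ⟨⟨a, (hker a).mp ha⟩, rfl⟩
    · rintro ⟨b, rfl⟩
      exact (hker _).mpr b.2
  have hex := lTensor_exact M hex0 hq
  -- the image of `z` in `M ⊗ G` vanishes
  have hzG : q.lTensor M z = 0 := by
    obtain ⟨k, x, a, rfl⟩ := TensorProduct.exists_sum_tmul_eq z
    have h0 : ∑ i, (a i : A) • x i = 0 := by
      have := congrArg (TensorProduct.rid A M) hz
      simpa [map_sum] using this
    have h1 := H k a x h0
    apply rTensor_mkQ_injective I G hIG
    rw [map_zero]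
    have h2 := congrArg (TensorProduct.comm A G (M ⧸ (I • (⊤ : Submodule A M)))) h1
    rw [map_zero, map_sum] at h2
    rw [map_sum, map_sum]
    rw [← h2]
    exact Finset.sum_congr rfl fun i _ => by simp
  obtain ⟨z', rfl⟩ := (hex z).mp hzG
  have h3 : I'.subtype.lTensor M z' = 0 := by
    rw [← hz, ← LinearMap.comp_apply, ← LinearMap.lTensor_comp]
    rfl
  rw [hinj (h3.trans (map_zero _).symm), map_zero]

end Groth.Agent.R2.H77.GrFlat
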