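import Mathlib
import Groth.Agent.S14271

/-!
# Helper for S14272 (helper77): an algebraic Hartogs lemma on schemes

`surjective_res_of_depth_two`: for an affine open `V` of a scheme `X` and a quasi-compact open
`W ≤ V` such that the local ring of every point of `V \ W` contains a regular sequence of length
two in its maximal ideal, every section over `W` extends to `V`.
-/

set_option autoImplicit false
set_option linter.unusedSectionVars false
set_option linter.unusedVariables false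
set_option linter.style.haveILetI false

open AlgebraicGeometry CategoryTheory CategoryTheory.Limits Opposite TopologicalSpace

namespace Groth.Agent.R2.H77.Hartogs

universe u

variable (X : Scheme.{u})

/-- Restriction of sections, as a ring homomorphism. -/
noncomputable abbrev res {A B : X.Opens} (h : A ≤ B) : Γ(X, B) →+* Γ(X, A) :=
  (X.presheaf.map (homOfLE h).op).hom

theorem res_res {A B C : X.Opens} (h1 : A ≤ B) (h2 : B ≤ C) (x : Γ(X, C)) :
    res X h1 (res X h2 x) = res X (h1.trans h2) x := by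
  simp only [res]
  rw [← CommRingCat.comp_apply, ← Functor.map_comp]
  rfl

variable {X}

/-- A section over a compact open `W` inside an affine open `V`, multiplied by a suitable power of
`g`, comes from `V`, if `D(g) ≤ W`. -/
theorem exists_pow_mul_mem_range {V W : X.Opens} (hV : IsAffineOpen V) (hWV : W ≤ V)
    (hWc : IsCompact (W : Set X)) (s : Γ(X, W)) (g : Γ(X, V)) (hg : X.basicOpen g ≤ W) :
    ∃ (N : ℕ) (r : Γ(X, V)), res X hWV r = res X hWV g ^ N * s := by
  obtain ⟨n, y, hy⟩ := exists_eq_pow_mul_of_isAffineOpen X V hV g (res X hg s)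
  dsimp only [TopCat.Presheaf.restrictOpenCommRingCat_apply] at hy
  -- the difference vanishes on the basic open of `g` in `W`
  set t : Γ(X, W) := res X hWV y - res X hWV g ^ n * s with ht
  have hB : X.basicOpen (res X hWV g) ≤ X.basicOpen g := by
    rw [Scheme.basicOpen_res]
    exact inf_le_right
  have hBW : X.basicOpen (res X hWV g) ≤ W := X.basicOpen_le _
  have H : res X hBW t = 0 := by
    rw [ht, map_sub, map_mul, map_pow, res_res, res_res]
    have h1 := congrArg (res X hB) hy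
    rw [map_mul, map_pow] at h1
    change res X hB (res X (X.basicOpen_le g) y) =
      res X hB (res X (X.basicOpen_le g) g) ^ n * res X hB (res X hg s) at h1
    rw [res_res, res_res, res_res] at h1
    rw [h1, sub_self]
  obtain ⟨m, hm⟩ := exists_pow_mul_eq_zero_of_res_basicOpen_eq_zero_of_isCompact X hWc t
    (res X hWV g) H
  refine ⟨m + n, g ^ m * y, ?_⟩
  rw [ht, mul_sub, sub_eq_zero] at hm
  rw [map_mul, map_pow, hm, pow_add, mul_assoc]

/-- If `α` is regular in the localization at `𝔭` and kills a section `e` over `W`, then some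
element outside `𝔭` kills the restriction of `e` to a basic open `D(g) ≤ W`. -/
theorem exists_notMem_res_mul_eq_zero_basicOpen {V W : X.Opens} (hV : IsAffineOpen V) (hWV : W ≤ V)
    (𝔭 : Ideal Γ(X, V)) [𝔭.IsPrime]
    (S : Type u) [CommRing S] [Algebra Γ(X, V) S] [IsLocalization.AtPrime S 𝔭]
    (α : Γ(X, V)) (hα : IsSMulRegular S (algebraMap Γ(X, V) S α))
    (e : Γ(X, W)) (he : res X hWV α * e = 0) (g : Γ(X, V)) (hg : X.basicOpen g ≤ W) :
    ∃ w : Γ(X, V), w ∉ 𝔭 ∧ res X hg (res X hWV w * e) = 0 := by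
  obtain ⟨n, ε, hε⟩ := exists_eq_pow_mul_of_isAffineOpen X V hV g (res X hg e)
  dsimp only [TopCat.Presheaf.restrictOpenCommRingCat_apply] at hε
  change res X (X.basicOpen_le g) ε = res X (X.basicOpen_le g) g ^ n * res X hg e at hε
  have H : res X (X.basicOpen_le g) (α * ε) = 0 := by
    rw [map_mul, hε, ← res_res X hg hWV α, mul_left_comm, ← map_mul, he, map_zero, mul_zero]
  obtain ⟨l, hl⟩ := exists_pow_mul_eq_zero_of_res_basicOpen_eq_zero_of_isAffineOpen X hV (α * ε) g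
    (by dsimp only [TopCat.Presheaf.restrictOpenCommRingCat_apply]; exact H)
  have h1 : algebraMap Γ(X, V) S (g ^ l * ε) = 0 := by
    apply hα.right_eq_zero_of_smul
    rw [smul_eq_mul, ← map_mul]
    have : α * (g ^ l * ε) = g ^ l * (α * ε) := by ring
    rw [this, hl, map_zero]
  obtain ⟨w, hw⟩ := (IsLocalization.map_eq_zero_iff 𝔭.primeCompl S (g ^ l * ε)).1 h1
  refine ⟨w, w.2, ?_⟩
  have hunit : IsUnit (res X (X.basicOpen_le g) g ^ (n + l)) :=
    (RingedSpace.isUnit_res_basicOpen X.toRingedSpace g).pow _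
  apply hunit.mul_left_cancel
  rw [mul_zero, map_mul, res_res]
  have : res X (X.basicOpen_le g) g ^ (n + l) * (res X (hg.trans hWV) (w : Γ(X, V)) * res X hg e) =
      res X (X.basicOpen_le g) ((w : Γ(X, V)) * (g ^ l * ε)) := by
    rw [map_mul, map_mul, map_pow, hε, pow_add]
    ring
  rw [this, hw, map_zero]

/-- If `α` is regular in the localization at `𝔭` and kills a section `e` over the compact open
`W`, then some element outside `𝔭` kills `e`. -/
theorem exists_notMem_mul_eq_zero {V W : X.Opens} (hV : IsAffineOpen V) (hWV : W ≤ V)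
    (hWc : IsCompact (W : Set X)) (𝔭 : Ideal Γ(X, V)) [𝔭.IsPrime]
    (S : Type u) [CommRing S] [Algebra Γ(X, V) S] [IsLocalization.AtPrime S 𝔭]
    (α : Γ(X, V)) (hα : IsSMulRegular S (algebraMap Γ(X, V) S α))
    (e : Γ(X, W)) (he : res X hWV α * e = 0) :
    ∃ w : Γ(X, V), w ∉ 𝔭 ∧ res X hWV w * e = 0 := by
  classical
  have hcov : ∀ x : W, ∃ g : Γ(X, V), X.basicOpen g ≤ W ∧ (x : X) ∈ X.basicOpen g :=
    fun x => hV.exists_basicOpen_le x (hWV x.2)
  choose g hg1 hg2 using hcov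
  have hw : ∀ x : W, ∃ w : Γ(X, V), w ∉ 𝔭 ∧ res X (hg1 x) (res X hWV w * e) = 0 :=
    fun x => exists_notMem_res_mul_eq_zero_basicOpen hV hWV 𝔭 S α hα e he (g x) (hg1 x)
  choose w hw1 hw2 using hw
  obtain ⟨T, hT⟩ := hWc.elim_finite_subcover (fun x : W => (X.basicOpen (g x) : Set X))
    (fun x => (X.basicOpen (g x)).isOpen)
    (fun y hy => Set.mem_iUnion.2 ⟨⟨y, hy⟩, hg2 ⟨y, hy⟩⟩)
  refine ⟨∏ x ∈ T, w x, ?_, ?_⟩
  · intro hmem
    obtain ⟨x, -, hx⟩ := Ideal.IsPrime.prod_mem_iff.1 hmem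
    exact hw1 x hx
  · refine X.IsSheaf.section_ext (U := op W) fun y hy => ?_
    obtain ⟨x, hx⟩ := Set.mem_iUnion.1 (hT hy)
    obtain ⟨hxT, hyx⟩ := Set.mem_iUnion.1 hx
    refine ⟨X.basicOpen (g x), hg1 x, hyx, ?_⟩
    change res X (hg1 x) (res X hWV (∏ x ∈ T, w x) * e) = res X (hg1 x) 0
    rw [map_zero, ← Finset.mul_prod_erase T w hxT, map_mul (res X hWV), mul_right_comm, map_mul,
      hw2 x, zero_mul]

section Core

variable {R G S : Type u} [CommRing R] [CommRing G] [CommRing S] [Algebra R S]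

/-- The algebraic core of the Hartogs lemma: the conductor of `s` cannot have a minimal prime at
which the localization has a regular sequence of length two of non-units. -/
theorem core (ρ : R →+* G) (hρ : Function.Injective ρ) (s : G) (𝔭 : Ideal R) [h𝔭p : 𝔭.IsPrime]
    [IsLocalization.AtPrime S 𝔭] (D : Ideal R) (hDdef : ∀ g, g ∈ D ↔ ∃ r, ρ r = ρ g * s)
    (h𝔭 : 𝔭 ∈ D.minimalPrimes)
    (a b : S) (ha : ¬ IsUnit a) (hb : ¬ IsUnit b) (hareg : IsSMulRegular S a)
    (hab : ∀ x y : S, b * x = a * y → ∃ x', x = a * x')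
    (hN : ∀ α : R, IsSMulRegular S (algebraMap R S α) → ∀ e : G, ρ α * e = 0 →
      ∃ w : R, w ∉ 𝔭 ∧ ρ w * e = 0) : False := by
  classical
  have hD𝔭 : D ≤ 𝔭 := h𝔭.1.2
  obtain ⟨⟨α, u⟩, hα⟩ := IsLocalization.surj 𝔭.primeCompl a
  obtain ⟨⟨β, u'⟩, hβ⟩ := IsLocalization.surj 𝔭.primeCompl b
  simp only at hα hβ
  have hu : IsUnit (algebraMap R S u) := IsLocalization.map_units S u
  have hu' : IsUnit (algebraMap R S u') := IsLocalization.map_units S u'
  have hα𝔭 : α ∈ 𝔭 := by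
    by_contra h
    have h1 : IsUnit (algebraMap R S α) := IsLocalization.map_units S (⟨α, h⟩ : 𝔭.primeCompl)
    rw [← hα] at h1
    exact ha (isUnit_of_mul_isUnit_left h1)
  have hβ𝔭 : β ∈ 𝔭 := by
    by_contra h
    have h1 : IsUnit (algebraMap R S β) := IsLocalization.map_units S (⟨β, h⟩ : 𝔭.primeCompl)
    rw [← hβ] at h1
    exact hb (isUnit_of_mul_isUnit_left h1)
  have hαreg : IsSMulRegular S (algebraMap R S α) := by
    rw [← hα]
    exact hareg.mul (hu.isSMulRegular S)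
  have hab' : ∀ x y : S, algebraMap R S β * x = algebraMap R S α * y →
      ∃ x', x = algebraMap R S α * x' := by
    intro x y hxy
    rw [← hα, ← hβ] at hxy
    obtain ⟨x'', hx''⟩ := hab (algebraMap R S u' * x) (algebraMap R S u * y)
      (by rw [← mul_assoc, hxy, mul_assoc])
    obtain ⟨v, hv⟩ := hu.exists_left_inv
    obtain ⟨v', hv'⟩ := hu'.exists_left_inv
    refine ⟨v * v' * x'', ?_⟩
    rw [← hα]
    calc x = v' * (algebraMap R S u' * x) := by rw [← mul_assoc, hv', one_mul]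
      _ = v' * (a * x'') := by rw [hx'']
      _ = a * (v * algebraMap R S u) * (v' * x'') := by rw [hv]; ring
      _ = a * algebraMap R S u * (v * v' * x'') := by ring
  -- local membership
  let Lp : G → Prop := fun t => ∃ w : R, w ∉ 𝔭 ∧ ∃ r, ρ r = ρ w * t
  have hF0 : ¬ Lp s := by
    rintro ⟨w, hw, r, hr⟩
    exact hw (hD𝔭 ((hDdef w).2 ⟨r, hr⟩))
  have hkey : ∀ x ∈ 𝔭, ∃ w : R, w ∉ 𝔭 ∧ ∃ n : ℕ, w * x ^ n ∈ D := by
    intro x hx
    have hrad := IsLocalization.AtPrime.radical_map_of_mem_minimalPrimes (A := S) 𝔭 D h𝔭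
    have hmem : algebraMap R S x ∈ (D.map (algebraMap R S)).radical := by
      rw [hrad]
      exact Ideal.mem_map_of_mem _ hx
    obtain ⟨n, hn⟩ := hmem
    rw [IsLocalization.mem_map_algebraMap_iff (M := 𝔭.primeCompl)] at hn
    obtain ⟨⟨d, v⟩, hn⟩ := hn
    rw [← map_pow, ← map_mul, IsLocalization.eq_iff_exists 𝔭.primeCompl] at hn
    obtain ⟨t, ht⟩ := hn
    simp only at ht
    refine ⟨t * v, (t * v).2, n, ?_⟩
    have : (t : R) * (v : R) * x ^ n = t * (x ^ n * v) := by ring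
    rw [this, ht]
    exact D.mul_mem_left _ d.2
  have hF2 : ∀ x ∈ 𝔭, ∀ c : R, ¬ Lp (ρ c * s) →
      ∃ e : R, ¬ Lp (ρ (e * c) * s) ∧ ∃ r, ρ r = ρ x * (ρ (e * c) * s) := by
    intro x hx c hc
    obtain ⟨w, hw, n, hwn⟩ := hkey x hx
    obtain ⟨r₀, hr₀⟩ := (hDdef _).1 hwn
    have hPn : ∃ k, Lp (ρ x ^ k * (ρ c * s)) := by
      refine ⟨n, w, hw, c * r₀, ?_⟩
      rw [map_mul, hr₀, map_mul, map_pow]
      ring
    have h0 : Nat.find hPn ≠ 0 := by
      intro h
      have := Nat.find_spec hPn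
      rw [h, pow_zero, one_mul] at this
      exact hc this
    obtain ⟨w₁, hw₁, r₁, hr₁⟩ := Nat.find_spec hPn
    have hmin : ¬ Lp (ρ x ^ (Nat.find hPn - 1) * (ρ c * s)) :=
      Nat.find_min hPn (Nat.sub_one_lt h0)
    refine ⟨w₁ * x ^ (Nat.find hPn - 1), ?_, r₁, ?_⟩
    · rintro ⟨w₂, hw₂, r, hr⟩
      refine hmin ⟨w₂ * w₁, ?_, r, ?_⟩
      · intro h
        rcases h𝔭p.mem_or_mem h with h | h
        · exact hw₂ h
        · exact hw₁ h
      · rw [hr, map_mul, map_mul, map_mul, map_pow]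
        ring
    · rw [hr₁, map_mul, map_mul, map_pow]
      have : ρ x ^ Nat.find hPn = ρ x * ρ x ^ (Nat.find hPn - 1) := by
        rw [← pow_succ', Nat.sub_add_cancel (Nat.one_le_iff_ne_zero.2 h0)]
      rw [this]
      ring
  obtain ⟨e₁, he₁, r₁, hr₁⟩ := hF2 α hα𝔭 1 (by rwa [map_one, one_mul])
  obtain ⟨e₂, he₂, r₂, hr₂⟩ := hF2 β hβ𝔭 (e₁ * 1) he₁
  set t : G := ρ (e₂ * (e₁ * 1)) * s with ht
  have hαt : ρ (e₂ * r₁) = ρ α * t := by
    rw [map_mul, hr₁, ht, map_mul ρ e₂ (e₁ * 1)]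
    ring
  have heq : β * (e₂ * r₁) = α * r₂ := by
    apply hρ
    rw [map_mul, hαt, map_mul, hr₂]
    ring
  obtain ⟨x', hx'⟩ := hab' (algebraMap R S (e₂ * r₁)) (algebraMap R S r₂)
    (by rw [← map_mul, ← map_mul, heq])
  obtain ⟨⟨c', v⟩, hc'⟩ := IsLocalization.surj 𝔭.primeCompl x'
  simp only at hc'
  have h2 : algebraMap R S (e₂ * r₁ * v) = algebraMap R S (α * c') := by
    rw [map_mul, hx', map_mul, ← hc']
    ring
  obtain ⟨w, hw⟩ := (IsLocalization.eq_iff_exists 𝔭.primeCompl S).1 h2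
  set e : G := ρ (w * v) * t - ρ (w * c') with he
  have hαe : ρ α * e = 0 := by
    rw [he, mul_sub, sub_eq_zero]
    calc ρ α * (ρ (w * v) * t) = ρ (w * v) * (ρ α * t) := by ring
      _ = ρ ((w : R) * (e₂ * r₁ * v)) := by rw [← hαt, ← map_mul]; congr 1; ring
      _ = ρ ((w : R) * (α * c')) := by rw [hw]
      _ = ρ α * ρ (w * c') := by rw [← map_mul]; congr 1; ring
  obtain ⟨w', hw', hw'e⟩ := hN α hαreg e hαe
  apply he₂
  refine ⟨w' * (w * v), ?_, w' * (w * c'), ?_⟩
  · intro h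
    rcases h𝔭p.mem_or_mem h with h | h
    · exact hw' h
    · rcases h𝔭p.mem_or_mem h with h | h
      · exact w.2 h
      · exact v.2 h
  · rw [he, mul_sub, sub_eq_zero] at hw'e
    rw [map_mul, map_mul ρ w' (w * v), ← hw'e]
    ring

end Core

/-- **Algebraic Hartogs lemma.** Let `V` be an affine open of `X` and `W ≤ V` a quasi-compact open
such that restriction `Γ(V) → Γ(W)` is injective and the local ring of every point of `V \ W`
contains non-units `a, b` with `a` regular and `b` regular modulo `a`. Then every section over `W`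
extends to `V`. -/
theorem surjective_res_of_depth_two {V W : X.Opens} (hV : IsAffineOpen V) (hWV : W ≤ V)
    (hWc : IsCompact (W : Set X)) (hinj : Function.Injective (res X hWV))
    (hZ : ∀ z : X, z ∈ V → z ∉ W → ∃ a b : X.presheaf.stalk z, ¬ IsUnit a ∧ ¬ IsUnit b ∧
      IsSMulRegular (X.presheaf.stalk z) a ∧
      ∀ x y : X.presheaf.stalk z, b * x = a * y → ∃ x', x = a * x') :
    Function.Surjective (res X hWV) := by
  classical
  intro s
  by_contra hs
  let D : Ideal Γ(X, V) :=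
    { carrier := {g | ∃ r, res X hWV r = res X hWV g * s}
      zero_mem' := ⟨0, by simp⟩
      add_mem' := by
        rintro g g' ⟨r, hr⟩ ⟨r', hr'⟩
        exact ⟨r + r', by rw [map_add, map_add, add_mul, hr, hr']⟩
      smul_mem' := by
        rintro c g ⟨r, hr⟩
        exact ⟨c * r, by rw [smul_eq_mul, map_mul, map_mul, hr, mul_assoc]⟩ }
  have hDdef : ∀ g, g ∈ D ↔ ∃ r, res X hWV r = res X hWV g * s := fun g => Iff.rfl
  have hD : D ≠ ⊤ := by
    intro h
    have h1 : (1 : Γ(X, V)) ∈ D := h ▸ Submodule.mem_top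
    obtain ⟨r, hr⟩ := h1
    exact hs ⟨r, by rw [hr, map_one, one_mul]⟩
  obtain ⟨m, hm, hDm⟩ := Ideal.exists_le_maximal D hD
  obtain ⟨𝔭, h𝔭, -⟩ := Ideal.exists_minimalPrimes_le (J := m) hDm
  haveI h𝔭p : 𝔭.IsPrime := h𝔭.1.1
  have hD𝔭 : D ≤ 𝔭 := h𝔭.1.2
  let y : PrimeSpectrum Γ(X, V) := ⟨𝔭, h𝔭p⟩
  have hzV : hV.fromSpec y ∈ V := by
    have h1 : hV.fromSpec y ∈ Set.range hV.fromSpec := ⟨y, rfl⟩
    rwa [hV.range_fromSpec] at h1
  have hzW : hV.fromSpec y ∉ W := by
    intro hzW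
    obtain ⟨g, hg1, hg2⟩ := hV.exists_basicOpen_le ⟨_, hzW⟩ hzV
    obtain ⟨N, r, hr⟩ := exists_pow_mul_mem_range hV hWV hWc s g hg1
    have hgD : g ^ N ∈ D := ⟨r, by rw [hr, map_pow]⟩
    have hg𝔭 : g ∈ 𝔭 := h𝔭p.mem_of_pow_mem N (hD𝔭 hgD)
    have h2 : y ∈ hV.fromSpec ⁻¹ᵁ X.basicOpen g := hg2
    rw [hV.fromSpec_preimage_basicOpen] at h2
    exact h2 hg𝔭
  letI := TopCat.Presheaf.algebra_section_stalk X.presheaf ⟨hV.fromSpec y, hzV⟩
  haveI hloc : IsLocalization.AtPrime (X.presheaf.stalk (hV.fromSpec y)) 𝔭 :=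
    hV.isLocalization_stalk' y hzV
  obtain ⟨a, b, ha, hb, hareg, hab⟩ := hZ _ hzV hzW
  exact core (S := X.presheaf.stalk (hV.fromSpec y)) (res X hWV) hinj s 𝔭 D hDdef h𝔭 a b ha hb
    hareg hab (fun α hα e he => exists_notMem_mul_eq_zero hV hWV hWc 𝔭 _ α hα e he)

section Sections

open RingTheory.Sequence

/-- Elementary form of a weakly regular sequence of length two. -/
theorem elementary_of_isWeaklyRegular {S : Type u} [CommRing S] (a b : S)
    (h : IsWeaklyRegular S [a, b]) :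
    IsSMulRegular S a ∧ ∀ x y : S, b * x = a * y → ∃ x', x = a * x' := by
  rw [isWeaklyRegular_cons_iff] at h
  obtain ⟨h1, h2⟩ := h
  rw [isWeaklyRegular_cons_iff] at h2
  obtain ⟨h2, -⟩ := h2
  refine ⟨h1, fun x y hxy => ?_⟩
  have h3 : b • (Submodule.Quotient.mk x : QuotSMulTop a S) = 0 := by
    rw [← Submodule.Quotient.mk_smul, Submodule.Quotient.mk_eq_zero, smul_eq_mul, hxy]
    exact Submodule.smul_mem_pointwise_smul y a ⊤ Submodule.mem_top
  have h4 := h2.right_eq_zero_of_smul h3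
  rw [Submodule.Quotient.mk_eq_zero] at h4
  obtain ⟨x', -, hx'⟩ := (Submodule.mem_smul_pointwise_iff_exists x a ⊤).1 h4
  exact ⟨x', by rw [← hx', smul_eq_mul]⟩

variable (X)

/-- Under the depth-two hypothesis along `X \ U`, restriction of functions from an affine open `V`
to `V ∩ U` is bijective. -/
theorem bijective_ι_app (U : X.Opens) [QuasiCompact U.ι]
    (hZ : ∀ z : X, z ∉ U → ∃ a b : X.presheaf.stalk z,
      a ∈ IsLocalRing.maximalIdeal (X.presheaf.stalk z) ∧
      b ∈ IsLocalRing.maximalIdeal (X.presheaf.stalk z) ∧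
      IsWeaklyRegular (X.presheaf.stalk z) [a, b])
    (V : X.Opens) (hV : IsAffineOpen V) : Function.Bijective (U.ι.app V) := by
  haveI : IsSchemeTheoreticallyDominant U.ι :=
    Groth.Agent.S14271.isSchemeTheoreticallyDominant_of_regular X U (fun z hz => by
      obtain ⟨a, b, ha, -, hab⟩ := hZ z hz
      exact ⟨a, ha, (elementary_of_isWeaklyRegular a b hab).1⟩)
  have hinj : Function.Injective (U.ι.app V) := U.ι.app_injective V
  refine ⟨hinj, ?_⟩
  have hWV : U.ι ''ᵁ U.ι ⁻¹ᵁ V ≤ V := Set.image_preimage_subset _ _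
  have hWc : IsCompact ((U.ι ''ᵁ U.ι ⁻¹ᵁ V : X.Opens) : Set X) := by
    have h1 : IsCompact ((U.ι ⁻¹ᵁ V : U.toScheme.Opens) : Set U.toScheme) :=
      QuasiCompact.isCompact_preimage (f := U.ι) _ V.isOpen hV.isCompact
    exact h1.image U.ι.continuous
  exact surjective_res_of_depth_two hV hWV hWc hinj (fun z hzV hzW => by
    have hzU : z ∉ U := fun hzU => hzW ⟨⟨z, hzU⟩, hzV, rfl⟩
    obtain ⟨a, b, ha, hb, hab⟩ := hZ z hzU
    obtain ⟨h1, h2⟩ := elementary_of_isWeaklyRegular a b hab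
    exact ⟨a, b, (IsLocalRing.mem_maximalIdeal a).1 ha, (IsLocalRing.mem_maximalIdeal b).1 hb,
      h1, h2⟩)

omit X in
theorem comp_app_apply {X Y Z : Scheme.{u}} (f : X ⟶ Y) (g : Y ⟶ Z) (V : Z.Opens) (r : Γ(Z, V)) :
    (f ≫ g).app V r = f.app (g ⁻¹ᵁ V) (g.app V r) := by
  rw [Scheme.Hom.comp_app]
  rfl

omit X in
theorem congr_app_apply {X Y : Scheme.{u}} {f g : X ⟶ Y} (e : f = g) (V : Y.Opens) (r : Γ(Y, V)) :
    f.app V r = X.presheaf.map (eqToHom (by rw [e])).op (g.app V r) := by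
  subst e
  simp

theorem map_eqToHom_bijective {A B : X.Opens} (h : A = B) :
    Function.Bijective (X.presheaf.map (eqToHom h).op) := by
  subst h
  simp only [eqToHom_refl, op_id, CategoryTheory.Functor.map_id]
  exact Function.bijective_id

end Sections

end Groth.Agent.R2.H77.Hartogs
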