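import Mathlib
import Groth.Agent.R2.H77Hartogs

/-!
# Helper for S14272 (helper77): extending a section of an affine morphism across a
depth-two closed subset (existence part)
-/

set_option linter.style.longLine false
set_option linter.unusedVariables false
set_option linter.unusedSectionVars false

universe u

open CategoryTheory AlgebraicGeometry RingTheory.Sequence Opposite

namespace Groth.Agent.R2.H77.Hartogs

/-- Pure category-theoretic core: if `a ≫ b ≫ c` is an isomorphism and `c` is a monomorphism then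
`a ≫ b` is an isomorphism. -/
theorem isIso_comp_of_isIso_comp_mono {C : Type*} [Category C] {P Q R S : C}
    (a : P ⟶ Q) (b : Q ⟶ R) (c : R ⟶ S) [Mono c] (i : P ⟶ S) [IsIso i]
    (h : a ≫ b ≫ c = i) : IsIso (a ≫ b) := by
  have : IsSplitEpi c := ⟨⟨⟨inv i ≫ a ≫ b, by
    rw [Category.assoc, Category.assoc, h, IsIso.inv_hom_id]⟩⟩⟩
  have : IsIso c := isIso_of_mono_of_isSplitEpi c
  have h3 : a ≫ b = i ≫ inv c := by
    rw [← h, Category.assoc, Category.assoc, IsIso.hom_inv_id, Category.comp_id]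
  rw [h3]
  infer_instance

/-- For a quasi-compact morphism `t : T ⟶ Y` and `f : Y ⟶ X` with `t ≫ f = j`, if `j.app V` is an
isomorphism for an affine open `V` with affine preimage in `Y`, then so is
`f.app V ≫ t.imageι.app (f ⁻¹ᵁ V)`. -/
theorem isIso_app_image {T X Y : Scheme.{u}} (f : Y ⟶ X) (t : T ⟶ Y) [QuasiCompact t]
    (j : T ⟶ X) (ht : t ≫ f = j) (V : X.Opens) (hV' : IsAffineOpen (f ⁻¹ᵁ V))
    [IsIso (j.app V)] :
    IsIso (f.app V ≫ t.imageι.app (f ⁻¹ᵁ V)) := by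
  have : Mono (t.toImage.app (t.imageι ⁻¹ᵁ (f ⁻¹ᵁ V))) :=
    ConcreteCategory.mono_of_injective _ (t.toImage_app_injective ⟨f ⁻¹ᵁ V, hV'⟩)
  have e1 : t.toImage ⁻¹ᵁ t.imageι ⁻¹ᵁ f ⁻¹ᵁ V = t ⁻¹ᵁ f ⁻¹ᵁ V := by
    rw [← Scheme.Hom.comp_preimage, t.toImage_imageι]
  have e2 : t ⁻¹ᵁ f ⁻¹ᵁ V = j ⁻¹ᵁ V := by
    rw [← Scheme.Hom.comp_preimage, ht]
  have h1 : t.imageι.app (f ⁻¹ᵁ V) ≫ t.toImage.app (t.imageι ⁻¹ᵁ (f ⁻¹ᵁ V)) =
      t.app (f ⁻¹ᵁ V) ≫ T.presheaf.map (eqToHom e1).op := by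
    rw [← Scheme.Hom.comp_app, Scheme.Hom.congr_app t.toImage_imageι]
    rfl
  have h2 : f.app V ≫ t.app (f ⁻¹ᵁ V) =
      j.app V ≫ T.presheaf.map (eqToHom e2).op := by
    rw [← Scheme.Hom.comp_app, Scheme.Hom.congr_app ht]
    rfl
  refine isIso_comp_of_isIso_comp_mono _ _ (t.toImage.app (t.imageι ⁻¹ᵁ (f ⁻¹ᵁ V)))
    ((j.app V ≫ T.presheaf.map (eqToHom e2).op) ≫ T.presheaf.map (eqToHom e1).op) ?_
  rw [h1, ← Category.assoc, h2]

/-- A morphism of schemes inducing isomorphisms on sections over all affine opens of the target,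
and with affine preimages of affine opens, is an isomorphism. -/
theorem isIso_of_isIso_app_affine {X Z : Scheme.{u}} (g : Z ⟶ X) [IsAffineHom g]
    (h : ∀ V : X.Opens, IsAffineOpen V → IsIso (g.app V)) : IsIso g := by
  rw [← MorphismProperty.isomorphisms.iff]
  refine HasAffineProperty.of_iSup_eq_top (P := MorphismProperty.isomorphisms Scheme)
    (fun V : X.affineOpens => V) (iSup_affineOpens_eq_top X) (fun V => ⟨?_, ?_⟩)
  · exact (V.2.preimage g)
  · rw [morphismRestrict_appTop]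
    have hVaff : IsAffineOpen (V.1.ι ''ᵁ ⊤) := by
      rw [Scheme.Opens.ι_image_top]
      exact V.2
    have : IsIso (g.app (V.1.ι ''ᵁ ⊤)) := h _ hVaff
    refine @IsIso.comp_isIso _ _ _ _ _ _ _ this ?_
    exact Functor.map_isIso _ _

/-- Existence of the extension: a section over `U` of an affine morphism `f : Y ⟶ X` extends to
`X`, by taking the scheme-theoretic image of the section. -/
theorem exists_section (X : Scheme.{u}) (U : X.Opens) [QuasiCompact U.ι]
    (hZ : ∀ z : X, z ∉ U → ∃ a b : X.presheaf.stalk z,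
      a ∈ IsLocalRing.maximalIdeal (X.presheaf.stalk z) ∧
      b ∈ IsLocalRing.maximalIdeal (X.presheaf.stalk z) ∧
      IsWeaklyRegular (X.presheaf.stalk z) [a, b])
    (Y : Scheme.{u}) (f : Y ⟶ X) [IsAffineHom f]
    (t : (U : Scheme.{u}) ⟶ Y) (ht : t ≫ f = U.ι) :
    ∃ s : X ⟶ Y, s ≫ f = 𝟙 X ∧ U.ι ≫ s = t := by
  have : QuasiCompact (t ≫ f) := by rw [ht]; infer_instance
  have : QuasiCompact t := QuasiCompact.of_comp t f
  have e1 : t.toImage ≫ (t.imageι ≫ f) = U.ι := by rw [Scheme.Hom.toImage_imageι_assoc, ht]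
  have hbij : ∀ V : X.Opens, IsAffineOpen V → IsIso ((t.imageι ≫ f).app V) := by
    intro V hV
    have hb := bijective_ι_app X U hZ V hV
    have : IsIso (U.ι.app V) := (ConcreteCategory.isIso_iff_bijective _).2 hb
    rw [Scheme.Hom.comp_app]
    exact isIso_app_image f t U.ι ht V (hV.preimage f)
  have hiso : IsIso (t.imageι ≫ f) := isIso_of_isIso_app_affine _ hbij
  refine ⟨inv (t.imageι ≫ f) ≫ t.imageι, ?_, ?_⟩
  · rw [Category.assoc, IsIso.inv_hom_id]
  · rw [← e1, Category.assoc, IsIso.hom_inv_id_assoc, Scheme.Hom.toImage_imageι]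

end Groth.Agent.R2.H77.Hartogs
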