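import Mathlib
import Groth.Prelude.Def_OmegaPn
import Groth.Agent.Lib.Helper22IdealComap

/-!
# Helper for S5951 (helper77): infinitesimal neighbourhoods commute with base change.
-/

set_option autoImplicit false
set_option linter.unusedSectionVars false
set_option linter.unusedVariables false
set_option linter.style.haveILetI false

open CategoryTheory CategoryTheory.Limits AlgebraicGeometry TopologicalSpace Opposite

namespace Groth.Agent.R2.H77.InfNbhdBC

universe u

/-- Pullback of ideal sheaves commutes with powers. -/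
theorem comap_pow {X' X : Scheme.{u}} (v : X' ⟶ X) (I : X.IdealSheafData) (m : ℕ) :
    (I ^ m).comap v = (I.comap v) ^ m := by
  let s : Type u := {U : X'.affineOpens // ∃ V : X.affineOpens, U.1 ≤ v ⁻¹ᵁ V.1}
  refine Scheme.IdealSheafData.ext_of_iSup_eq_top (ι := s) (fun U => U.1) ?_ ?_
  · rw [eq_top_iff]
    intro x _
    obtain ⟨V, hV, hxV, -⟩ := exists_isAffineOpen_mem_and_subset
      (TopologicalSpace.Opens.mem_top (v.base x))
    obtain ⟨U, hU, hxU, hUV⟩ := exists_isAffineOpen_mem_and_subset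
      (show x ∈ (v ⁻¹ᵁ V : X'.Opens) from hxV)
    simp only [Opens.mem_iSup]
    exact ⟨⟨⟨U, hU⟩, ⟨⟨V, hV⟩, hUV⟩⟩, hxU⟩
  · rintro ⟨U, V, hUV⟩
    rw [Groth.Agent.Lib.Helper22.IdealComap.ideal_comap_eq_map v _ U V hUV,
      Scheme.IdealSheafData.ideal_pow, Scheme.IdealSheafData.ideal_pow, Pi.pow_apply, Pi.pow_apply,
      Groth.Agent.Lib.Helper22.IdealComap.ideal_comap_eq_map v _ U V hUV, Ideal.map_pow]

/-- The kernel of the base change of a closed immersion. -/
theorem ker_of_isPullback {Y X Y' X' : Scheme.{u}} (f : Y ⟶ X) [IsClosedImmersion f]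
    (v : X' ⟶ X) (u : Y' ⟶ Y) (f' : Y' ⟶ X') (hsq : IsPullback u f' f v) :
    f'.ker = f.ker.comap v := by
  have h1 : hsq.flip.isoPullback.hom ≫ pullback.fst v f = f' := hsq.flip.isoPullback_hom_fst
  rw [← h1, Scheme.Hom.ker_comp_of_isIso, Scheme.IdealSheafData.ker_fst_of_isClosedImmersion]

theorem isPullback_infNbhd {Y X Y' X' : Scheme.{u}} (f : Y ⟶ X) [IsClosedImmersion f]
    (v : X' ⟶ X) (u : Y' ⟶ Y) (f' : Y' ⟶ X') (hsq : IsPullback u f' f v) (n : ℕ)
    (w : PrinPart.infNbhd f' n ⟶ PrinPart.infNbhd f n)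
    (hw : w ≫ PrinPart.infNbhdι f n = PrinPart.infNbhdι f' n ≫ v) :
    IsPullback w (PrinPart.infNbhdι f' n) (PrinPart.infNbhdι f n) v := by
  unfold PrinPart.infNbhdι at hw ⊢
  refine (isPullback_of_isClosedImmersion _ _ w v hw.symm ?_).flip
  rw [Scheme.IdealSheafData.ker_subschemeι, Scheme.IdealSheafData.ker_subschemeι, comap_pow,
    ker_of_isPullback f v u f' hsq]

end Groth.Agent.R2.H77.InfNbhdBC
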