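import Mathlib
import Groth.Agent.S2069
import Groth.Agent.Lib.Helper5KoszulBC
import Groth.Agent.Lib.Helper5GorUnmixed
import Groth.Agent.Lib.Helper19LciH1C

/-!
# `H¹` of the naive cotangent complex of a flat lci algebra with generically smooth fibres (helper77)

* `fibre_minimal_of_mem_associatedPrimes`: for a flat lci algebra `P` over a Noetherian ring `A`,
  every associated prime of `P` is minimal among the primes of its fibre.
* `h1Cotangent_subsingleton`: the relative version of `Helper19.LciH1.h1Cotangent_subsingleton`.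
-/

set_option autoImplicit false
set_option linter.unusedSectionVars false
set_option linter.style.haveILetI false
universe u

open TensorProduct

namespace Groth.Agent.R2.H77.LciH1Rel

section Fibre

variable {A : Type u} [CommRing A] {P : Type u} [CommRing P] [Algebra A P]
  (𝔭 : Ideal A) [𝔭.IsPrime]

/-- elements of `A` outside `𝔭` act invertibly on the fibre `P ⊗ κ(𝔭)` -/
theorem isUnit_algebraMap_fibre {r : A} (hr : r ∉ 𝔭) :
    IsUnit (algebraMap A (P ⊗[A] 𝔭.ResidueField) r) := by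
  have h1 : IsUnit (algebraMap A 𝔭.ResidueField r) := by
    rw [isUnit_iff_ne_zero, Ne, Ideal.algebraMap_residueField_eq_zero]
    exact hr
  have h2 := h1.map (Algebra.TensorProduct.includeRight : 𝔭.ResidueField →ₐ[A] P ⊗[A] 𝔭.ResidueField)
  rwa [AlgHom.commutes] at h2

theorem mem_of_smul_mem (I : Ideal (P ⊗[A] 𝔭.ResidueField)) {r : A} (hr : r ∉ 𝔭)
    {x : P ⊗[A] 𝔭.ResidueField} (h : r • x ∈ I) : x ∈ I := by
  obtain ⟨u, hu⟩ := isUnit_algebraMap_fibre (P := P) 𝔭 hr
  rw [Algebra.smul_def, ← hu] at h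
  have := I.mul_mem_left (↑u⁻¹ : P ⊗[A] 𝔭.ResidueField) h
  rwa [← mul_assoc, Units.inv_mul, one_mul] at this

theorem algebraMap_fibre_apply (s : P) :
    algebraMap P (P ⊗[A] 𝔭.ResidueField) s = s ⊗ₜ[A] 1 := by
  rw [Algebra.TensorProduct.algebraMap_apply, Algebra.algebraMap_self, RingHom.id_apply]

end Fibre

section Ann

variable {A : Type u} [CommRing A] {P : Type u} [CommRing P] [Algebra A P]
  (𝔭 : Ideal A) [𝔭.IsPrime]

/-- the annihilator in the fibre ring of an element whose annihilator in `P` is prime is prime -/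
theorem isPrime_colon_fibre {q : Ideal P} [hqp : q.IsPrime] (w : P ⊗[A] 𝔭.ResidueField)
    (hw : q = (⊥ : Submodule P (P ⊗[A] 𝔭.ResidueField)).colon {w}) :
    ((⊥ : Submodule (P ⊗[A] 𝔭.ResidueField) (P ⊗[A] 𝔭.ResidueField)).colon {w}).IsPrime ∧
    ((⊥ : Submodule (P ⊗[A] 𝔭.ResidueField) (P ⊗[A] 𝔭.ResidueField)).colon {w}).comap
      (algebraMap P (P ⊗[A] 𝔭.ResidueField)) = q := by
  set J := (⊥ : Submodule (P ⊗[A] 𝔭.ResidueField) (P ⊗[A] 𝔭.ResidueField)).colon {w} with hJ
  have hcomap : ∀ s : P, algebraMap P (P ⊗[A] 𝔭.ResidueField) s ∈ J ↔ s ∈ q := by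
    intro s
    rw [hJ, hw, Submodule.mem_colon_singleton, Submodule.mem_colon_singleton, Submodule.mem_bot,
      Submodule.mem_bot, smul_eq_mul, Algebra.smul_def]
  refine ⟨?_, ?_⟩
  · refine ⟨?_, ?_⟩
    · intro htop
      have h1 : (1 : P ⊗[A] 𝔭.ResidueField) ∈ J := by rw [htop]; trivial
      rw [← map_one (algebraMap P (P ⊗[A] 𝔭.ResidueField)), hcomap] at h1
      exact hqp.ne_top ((Ideal.eq_top_iff_one q).mpr h1)
    · intro x y hxy
      obtain ⟨r₁, hr₁, s₁, e₁⟩ := Ideal.ResidueField.exists_smul_eq_tmul_one 𝔭 x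
      obtain ⟨r₂, hr₂, s₂, e₂⟩ := Ideal.ResidueField.exists_smul_eq_tmul_one 𝔭 y
      have h1 : algebraMap P (P ⊗[A] 𝔭.ResidueField) (s₁ * s₂) ∈ J := by
        rw [map_mul, algebraMap_fibre_apply, algebraMap_fibre_apply, ← e₁, ← e₂,
          Algebra.smul_def, Algebra.smul_def]
        have : algebraMap A (P ⊗[A] 𝔭.ResidueField) r₁ * x *
            (algebraMap A (P ⊗[A] 𝔭.ResidueField) r₂ * y) =
            (algebraMap A (P ⊗[A] 𝔭.ResidueField) r₁ * algebraMap A (P ⊗[A] 𝔭.ResidueField) r₂) *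
              (x * y) := by ring
        rw [this]
        exact J.mul_mem_left _ hxy
      rw [hcomap] at h1
      rcases hqp.mem_or_mem h1 with h | h
      · left
        apply mem_of_smul_mem 𝔭 J hr₁
        rw [e₁, ← algebraMap_fibre_apply, hcomap]
        exact h
      · right
        apply mem_of_smul_mem 𝔭 J hr₂
        rw [e₂, ← algebraMap_fibre_apply, hcomap]
        exact h
  · ext s
    rw [Ideal.mem_comap, hcomap]

/-- a prime of `P` lying over `𝔭` comes from a prime of the fibre ring -/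
theorem exists_prime_fibre (Q : Ideal P) [Q.IsPrime] (hQ : Q.comap (algebraMap A P) = 𝔭) :
    ∃ Q' : Ideal (P ⊗[A] 𝔭.ResidueField), Q'.IsPrime ∧
      Q'.comap (algebraMap P (P ⊗[A] 𝔭.ResidueField)) = Q := by
  let pS : PrimeSpectrum A := ⟨𝔭, inferInstance⟩
  let QS : PrimeSpectrum.comap (algebraMap A P) ⁻¹' {pS} :=
    ⟨⟨Q, inferInstance⟩, PrimeSpectrum.ext hQ⟩
  let Q₂ : PrimeSpectrum (𝔭.Fiber P) := PrimeSpectrum.preimageEquivFiber A P pS QS
  have h2 : Q₂.asIdeal.comap (Algebra.TensorProduct.includeRight :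
      P →ₐ[A] 𝔭.ResidueField ⊗[A] P).toRingHom = Q := by
    have := congrArg (fun z => z.1.asIdeal) ((PrimeSpectrum.preimageEquivFiber A P pS).symm_apply_apply QS)
    exact this
  refine ⟨Q₂.asIdeal.comap (Algebra.TensorProduct.comm A P 𝔭.ResidueField).toRingHom,
    Ideal.comap_isPrime _ _, ?_⟩
  rw [← h2]
  ext s
  rw [Ideal.mem_comap, Ideal.mem_comap, Ideal.mem_comap, algebraMap_fibre_apply]
  simp

end Ann

section Main

variable (A : Type u) [CommRing A] [IsNoetherianRing A] (P : Type u) [CommRing P] [Algebra A P]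
  [Module.Flat A P]

/-- an associated prime of a flat algebra is associated to the fibre over some associated prime
of the base -/
theorem exists_mem_associatedPrimes_fibre {q : Ideal P} (hq : q ∈ associatedPrimes P P) :
    ∃ (𝔭 : Ideal A) (_ : 𝔭.IsPrime), q ∈ associatedPrimes P (P ⊗[A] 𝔭.ResidueField) := by
  have h1 := Groth.Agent.S2069.result (R := A) (S := P) (M := A) (N := P)
  have e : P ⊗[A] A ≃ₗ[P] P := TensorProduct.AlgebraTensorModule.rid A P P
  rw [LinearEquiv.AssociatedPrimes.eq e] at h1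
  rw [h1] at hq
  obtain ⟨𝔭, h𝔭, hq'⟩ := Set.mem_iUnion₂.mp hq
  haveI : 𝔭.IsPrime := h𝔭.isPrime
  refine ⟨𝔭, inferInstance, ?_⟩
  have h2 := Groth.Agent.S2069.result (R := A) (S := P) (M := 𝔭.ResidueField) (N := P)
  rw [h2]
  refine Set.mem_iUnion₂.mpr ⟨𝔭, ?_, hq'⟩
  refine isAssociatedPrime_iff.mpr ⟨inferInstance, (1 : 𝔭.ResidueField), ?_⟩
  ext a
  rw [Submodule.mem_colon_singleton, Submodule.mem_bot, Algebra.smul_def, mul_one,
    Ideal.algebraMap_residueField_eq_zero]

/-- **Associated primes of a flat lci algebra are minimal in their fibres.** -/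
theorem fibre_minimal_of_mem_associatedPrimes (hlci : LCI.IsLCI A P) {q : Ideal P}
    (hq : q ∈ associatedPrimes P P) (Q : Ideal P) [Q.IsPrime] (hQq : Q ≤ q)
    (hQ : Q.comap (algebraMap A P) = q.comap (algebraMap A P)) : Q = q := by
  obtain ⟨𝔭, h𝔭, hq2⟩ := exists_mem_associatedPrimes_fibre A P hq
  haveI := h𝔭
  haveI : Algebra.FiniteType A P := hlci.1
  haveI : IsNoetherianRing P := Algebra.FiniteType.isNoetherianRing A P
  obtain ⟨hqp, w, hw⟩ := isAssociatedPrime_iff.mp hq2
  haveI := hqp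
  obtain ⟨hJp, hJc⟩ := isPrime_colon_fibre 𝔭 w hw
  set J := (⊥ : Submodule (P ⊗[A] 𝔭.ResidueField) (P ⊗[A] 𝔭.ResidueField)).colon {w} with hJ
  have hw0 : w ≠ 0 := by
    rintro rfl
    apply hqp.ne_top
    rw [hw, Ideal.eq_top_iff_one, Submodule.mem_colon_singleton, smul_zero]
    exact Submodule.zero_mem _
  have hq𝔭 : q.comap (algebraMap A P) = 𝔭 := by
    ext a
    rw [Ideal.mem_comap]
    constructor
    · intro ha
      by_contra hna
      rw [hw, Submodule.mem_colon_singleton, Submodule.mem_bot, algebraMap_smul] at ha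
      apply hw0
      have h0 : (0 : P ⊗[A] 𝔭.ResidueField) ∈ (⊥ : Ideal (P ⊗[A] 𝔭.ResidueField)) := Ideal.zero_mem _
      rw [← ha] at h0
      exact (Submodule.mem_bot _).mp (mem_of_smul_mem 𝔭 ⊥ hna h0)
    · intro ha
      rw [hw, Submodule.mem_colon_singleton, Submodule.mem_bot, algebraMap_smul, Algebra.smul_def]
      have h1 : algebraMap A (P ⊗[A] 𝔭.ResidueField) a =
          (Algebra.TensorProduct.includeRight : 𝔭.ResidueField →ₐ[A] P ⊗[A] 𝔭.ResidueField)
            (algebraMap A 𝔭.ResidueField a) := (AlgHom.commutes _ a).symm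
      rw [h1, (Ideal.algebraMap_residueField_eq_zero).mpr ha, map_zero, zero_mul]
  haveI : LocCoh.IsGorensteinRing (P ⊗[A] 𝔭.ResidueField) :=
    Groth.Agent.Lib.Helper5.KoszulBC.gorRing_tensor_field_of_flat_isLCI A P hlci 𝔭.ResidueField
  have hJass : J ∈ associatedPrimes (P ⊗[A] 𝔭.ResidueField) (P ⊗[A] 𝔭.ResidueField) :=
    ⟨hJp, w, hJp.radical.symm⟩
  have hJmin := Groth.Agent.Lib.Helper5.GorUnmixed.mem_minimalPrimes_of_mem_associatedPrimes
    (P ⊗[A] 𝔭.ResidueField) hJass
  obtain ⟨Q', hQ'p, hQ'c⟩ := exists_prime_fibre 𝔭 Q (hQ.trans hq𝔭)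
  have hle : Q' ≤ J := by
    intro x hx
    obtain ⟨r, hr, s, e⟩ := Ideal.ResidueField.exists_smul_eq_tmul_one 𝔭 x
    apply mem_of_smul_mem 𝔭 J hr
    have hs : s ∈ Q := by
      rw [← hQ'c, Ideal.mem_comap, algebraMap_fibre_apply, ← e, Algebra.smul_def]
      exact Q'.mul_mem_left _ hx
    rw [e, ← algebraMap_fibre_apply, ← Ideal.mem_comap, hJc]
    exact hQq hs
  have hJQ : J ≤ Q' := hJmin.2 ⟨hQ'p, bot_le⟩ hle
  have hEq : Q' = J := le_antisymm hle hJQ
  rw [← hQ'c, hEq, hJc]

open Groth.Agent.Lib.Helper19.Kos Groth.Agent.Lib.Helper19.LciH1 in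
/-- `H₁(NL_{P/A}) = 0` for an lci algebra `P` over `A` (with `P` Noetherian) which is formally
smooth at all associated primes of `P`. -/
theorem h1Cotangent_subsingleton_of_ass (hlci : LCI.IsLCI A P)
    (hgs : ∀ (q : Ideal P) [q.IsPrime], q ∈ associatedPrimes P P →
      Algebra.FormallySmooth A (Localization.AtPrime q)) :
    Subsingleton (Algebra.H1Cotangent A P) := by
  obtain ⟨hft, n, f, hf, hK⟩ := hlci
  haveI := hft
  haveI : IsNoetherianRing P := Algebra.FiniteType.isNoetherianRing A P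
  have hval : (MvPolynomial.aeval (R := A) (fun i : Fin n => f (MvPolynomial.X i))) = f := by
    refine MvPolynomial.algHom_ext fun i => ?_
    rw [MvPolynomial.aeval_X]
  let Pg : Algebra.Generators A P (Fin n) :=
    Algebra.Generators.ofSurjective (fun i => f (MvPolynomial.X i)) (by rw [hval]; exact hf)
  have halg : ∀ x : Pg.toExtension.Ring, algebraMap Pg.toExtension.Ring P x = f x := by
    intro x
    have h1 : algebraMap Pg.toExtension.Ring P x =
        MvPolynomial.aeval (R := A) (fun i : Fin n => f (MvPolynomial.X i)) x := rfl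
    rw [h1, hval]
  have hsurj : Function.Surjective (algebraMap Pg.toExtension.Ring P) := Pg.algebraMap_surjective
  have hker : Pg.toExtension.ker = RingHom.ker f.toRingHom := by
    ext x
    show algebraMap Pg.toExtension.Ring P x = 0 ↔ f x = 0
    rw [halg]
  have hK' : LCI.IsKoszulRegularIdeal Pg.toExtension.ker := by rw [hker]; exact hK
  haveI : IsNoetherianRing Pg.toExtension.Ring :=
    inferInstanceAs (IsNoetherianRing (MvPolynomial (Fin n) A))
  refine Pg.equivH1Cotangent.symm.toEquiv.subsingleton_congr.mpr ?_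
  refine ⟨fun a b => ?_⟩
  by_contra hab
  have hx0 : a - b ≠ 0 := sub_ne_zero.mpr hab
  set x := a - b with hxdef
  have hx1 : (x.1 : Pg.toExtension.Cotangent) ≠ 0 := fun h => hx0 (Subtype.ext h)
  obtain ⟨q, hqass, hle⟩ := exists_le_isAssociatedPrime_of_isNoetherianRing P
    (x.1 : Pg.toExtension.Cotangent) hx1
  obtain ⟨hqp, y, hqy⟩ := isAssociatedPrime_iff.mp hqass
  haveI := hqp
  have hqA : IsAssociatedPrime q P := by
    obtain ⟨⟨z, hz⟩, rfl⟩ := Algebra.Extension.Cotangent.mk_surjective y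
    have hq'p : (q.comap (algebraMap Pg.toExtension.Ring P)).IsPrime := Ideal.comap_isPrime _ _
    have hIq : Pg.toExtension.ker ≤ q.comap (algebraMap Pg.toExtension.Ring P) := by
      intro w hw
      rw [Ideal.mem_comap, show algebraMap Pg.toExtension.Ring P w = 0 from hw]
      exact q.zero_mem
    have hann : ∀ p : Pg.toExtension.Ring,
        p * z ∈ Pg.toExtension.ker ^ 2 ↔ p ∈ q.comap (algebraMap Pg.toExtension.Ring P) := by
      intro p
      rw [Ideal.mem_comap, hqy, Submodule.mem_colon_singleton, Submodule.mem_bot, algebraMap_smul,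
        ← map_smul, Algebra.Extension.Cotangent.mk_eq_zero_iff]
      rfl
    obtain ⟨c, g, hreg, hspan⟩ := exists_local_regular Pg.toExtension.ker hK'
      (q.comap (algebraMap Pg.toExtension.Ring P)) hIq
    have hQ := Groth.Agent.Lib.Helper19.CotTVanish.Q_le_F0_of_isWeaklyRegular g hreg
    obtain ⟨a₁, ha₁⟩ := exists_colon_eq Pg.toExtension.ker
      (q.comap (algebraMap Pg.toExtension.Ring P)) g hspan hQ z hz hann
    refine isAssociatedPrime_iff.mpr ⟨hqp, algebraMap Pg.toExtension.Ring P a₁, ?_⟩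
    ext s
    obtain ⟨p, rfl⟩ := hsurj s
    rw [Submodule.mem_colon_singleton, Submodule.mem_bot, smul_eq_mul, ← map_mul,
      ← Ideal.mem_comap, ← ha₁ p]
    rfl
  haveI := hgs q hqA
  have hsub : Subsingleton (Algebra.H1Cotangent A (Localization.AtPrime q)) :=
    Algebra.FormallySmooth.subsingleton_h1Cotangent
  have hmap : Algebra.H1Cotangent.map A A P (Localization.AtPrime q) (Pg.equivH1Cotangent x) =
      Algebra.H1Cotangent.map A A P (Localization.AtPrime q) 0 := Subsingleton.elim _ _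
  obtain ⟨s, hs⟩ := IsLocalizedModule.exists_of_eq (S := q.primeCompl)
    (f := Algebra.H1Cotangent.map A A P (Localization.AtPrime q)) hmap
  have hs' : (s : P) • Pg.equivH1Cotangent x = 0 := by
    have := hs
    rwa [Submonoid.smul_def, Submonoid.smul_def, smul_zero] at this
  rw [← map_smul, LinearEquiv.map_eq_zero_iff] at hs'
  have hs1 : (s : P) • (x.1 : Pg.toExtension.Cotangent) = 0 := by
    have := congrArg Subtype.val hs'
    exact this
  have hs2 : (s : P) ∈ (⊥ : Submodule P Pg.toExtension.Cotangent).colon {x.1} := by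
    rw [Submodule.mem_colon_singleton, Submodule.mem_bot]
    exact hs1
  exact s.2 (hle hs2)

/-- **`H₁(NL_{P/A}) = 0` for a flat lci algebra with generically smooth fibres** over a
Noetherian ring. -/
theorem h1Cotangent_subsingleton (hlci : LCI.IsLCI A P)
    (hgs : ∀ 𝔓 : PrimeSpectrum P,
      (∀ 𝔔 : PrimeSpectrum P, 𝔔 ≤ 𝔓 →
          𝔔.asIdeal.comap (algebraMap A P) = 𝔓.asIdeal.comap (algebraMap A P) → 𝔔 = 𝔓) →
        𝔓 ∈ Algebra.smoothLocus A P) :
    Subsingleton (Algebra.H1Cotangent A P) := by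
  refine h1Cotangent_subsingleton_of_ass A P hlci ?_
  intro q hqp hq
  refine hgs ⟨q, hqp⟩ ?_
  intro 𝔔 hle hc
  apply PrimeSpectrum.ext
  exact fibre_minimal_of_mem_associatedPrimes A P hlci hq 𝔔.asIdeal hle hc

end Main

end Groth.Agent.R2.H77.LciH1Rel
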