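import Mathlib

/-!
# Helper for S7917 / S7939 (helper77): additivity of intersection lengths
`length A/(f h, g) = length A/(f, g) + length A/(h, g)` when `f`, `g` are relatively prime in a
domain which is a decomposition monoid (e.g. a UFD).
-/

set_option linter.style.longLine false
set_option linter.unusedVariables false
set_option linter.unusedSectionVars false

universe u

namespace Groth.Agent.R2.H77.LenMul

variable {A : Type u} [CommRing A]

theorem mem_span_pair' {x y z : A} : z ∈ Ideal.span ({x, y} : Set A) ↔ ∃ a b, a * x + b * y = z :=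
  Ideal.mem_span_pair

/-- multiplication by `f` : `A/(h,g) → A/(fh,g)` -/
noncomputable def mulMap (f g h : A) :
    (A ⧸ Ideal.span ({h, g} : Set A)) →ₗ[A] (A ⧸ Ideal.span ({f * h, g} : Set A)) :=
  Submodule.mapQ _ _ (LinearMap.mulLeft A f) (by
    intro x hx
    obtain ⟨a, b, rfl⟩ := Ideal.mem_span_pair.1 hx
    rw [Submodule.mem_comap, LinearMap.mulLeft_apply]
    exact Ideal.mem_span_pair.2 ⟨a, f * b, by ring⟩)

/-- projection `A/(fh,g) → A/(f,g)` -/
noncomputable def projMap (f g h : A) :
    (A ⧸ Ideal.span ({f * h, g} : Set A)) →ₗ[A] (A ⧸ Ideal.span ({f, g} : Set A)) :=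
  Submodule.mapQ _ _ LinearMap.id (by
    intro x hx
    obtain ⟨a, b, rfl⟩ := Ideal.mem_span_pair.1 hx
    rw [Submodule.mem_comap, LinearMap.id_apply]
    exact Ideal.mem_span_pair.2 ⟨a * h, b, by ring⟩)

theorem projMap_surjective (f g h : A) : Function.Surjective (projMap f g h) := by
  intro y
  obtain ⟨a, rfl⟩ := Submodule.Quotient.mk_surjective _ y
  exact ⟨Submodule.Quotient.mk a, rfl⟩

theorem exact_mulMap_projMap (f g h : A) : Function.Exact (mulMap f g h) (projMap f g h) := by
  intro y
  obtain ⟨a, rfl⟩ := Submodule.Quotient.mk_surjective _ y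
  constructor
  · intro hy
    have h1 : a ∈ Ideal.span ({f, g} : Set A) := by
      have : (Submodule.Quotient.mk a : A ⧸ Ideal.span ({f, g} : Set A)) = 0 := hy
      exact (Submodule.Quotient.mk_eq_zero _).1 this
    obtain ⟨c, d, rfl⟩ := Ideal.mem_span_pair.1 h1
    refine ⟨Submodule.Quotient.mk c, ?_⟩
    show (Submodule.Quotient.mk (f * c) : A ⧸ Ideal.span ({f * h, g} : Set A)) = _
    rw [Submodule.Quotient.eq]
    exact Ideal.mem_span_pair.2 ⟨0, -d, by ring⟩
  · rintro ⟨z, hz⟩
    obtain ⟨c, rfl⟩ := Submodule.Quotient.mk_surjective _ z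
    rw [← hz]
    show (Submodule.Quotient.mk (f * c) : A ⧸ Ideal.span ({f, g} : Set A)) = 0
    rw [Submodule.Quotient.mk_eq_zero]
    exact Ideal.mem_span_pair.2 ⟨c, 0, by ring⟩

theorem mulMap_injective [IsDomain A] [DecompositionMonoid A] (f g h : A) (hfg : IsRelPrime f g) :
    Function.Injective (mulMap f g h) := by
  rw [← LinearMap.ker_eq_bot, LinearMap.ker_eq_bot']
  intro y hy
  obtain ⟨a, rfl⟩ := Submodule.Quotient.mk_surjective _ y
  have h1 : f * a ∈ Ideal.span ({f * h, g} : Set A) := by
    have : (Submodule.Quotient.mk (f * a) : A ⧸ Ideal.span ({f * h, g} : Set A)) = 0 := hy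
    exact (Submodule.Quotient.mk_eq_zero _).1 this
  rw [Submodule.Quotient.mk_eq_zero]
  by_cases hf0 : f = 0
  · -- then `g` is a unit
    subst hf0
    have hg : IsUnit g := hfg (dvd_zero g) dvd_rfl
    have : Ideal.span ({h, g} : Set A) = ⊤ :=
      Ideal.eq_top_of_isUnit_mem _ (Ideal.subset_span (by simp)) hg
    rw [this]
    exact Submodule.mem_top
  · obtain ⟨b, c, hbc⟩ := Ideal.mem_span_pair.1 h1
    -- f * (a - b h) = c g
    have h2 : f * (a - b * h) = g * c := by linear_combination -hbc
    have h3 : f ∣ c := hfg.dvd_of_dvd_mul_left ⟨a - b * h, h2.symm⟩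
    obtain ⟨c', rfl⟩ := h3
    have h4 : a - b * h = g * c' := by
      apply mul_left_cancel₀ hf0
      rw [h2]
      ring
    exact Ideal.mem_span_pair.2 ⟨b, c', by linear_combination -h4⟩

theorem length_mul [IsDomain A] [DecompositionMonoid A] (f g h : A) (hfg : IsRelPrime f g) :
    Module.length A (A ⧸ Ideal.span ({f * h, g} : Set A)) =
      Module.length A (A ⧸ Ideal.span ({f, g} : Set A)) +
        Module.length A (A ⧸ Ideal.span ({h, g} : Set A)) := by
  rw [Module.length_eq_add_of_exact (mulMap f g h) (projMap f g h) (mulMap_injective f g h hfg)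
    (projMap_surjective f g h) (exact_mulMap_projMap f g h), add_comm]

end Groth.Agent.R2.H77.LenMul
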