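import Mathlib
import Groth.Agent.R2.H77LenMul

/-!
# Helper for S7939 (helper77): `A/(f₁⋯fₙ) → ∏ A/(fᵢ)` is injective with cokernel of length
`∑_{i<j} length A/(fᵢ, fⱼ)` for pairwise relatively prime `fᵢ` in a UFD.
-/

set_option linter.style.longLine false
set_option linter.unusedVariables false
set_option linter.unusedSectionVars false

universe u

namespace Groth.Agent.R2.H77.LenPi

open Groth.Agent.R2.H77.LenMul

variable {A : Type u} [CommRing A]

/-- The canonical map `A/(∏ fᵢ) → ∏ A/(fᵢ)`. -/
noncomputable def phi {n : ℕ} (f : Fin n → A) :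
    (A ⧸ Ideal.span {∏ i, f i}) →ₗ[A] ((i : Fin n) → A ⧸ Ideal.span {f i}) :=
  LinearMap.pi (fun i => Submodule.mapQ (Ideal.span {∏ i, f i}) (Ideal.span {f i}) LinearMap.id
    (Ideal.span_singleton_le_span_singleton.mpr (Finset.dvd_prod_of_mem f (Finset.mem_univ i))))

theorem phi_mk {n : ℕ} (f : Fin n → A) (a : A) (i : Fin n) :
    phi f (Submodule.Quotient.mk a) i = Submodule.Quotient.mk a := rfl

section domain
variable [IsDomain A] [DecompositionMonoid A]

theorem phi_injective {n : ℕ} (f : Fin n → A) (hcop : ∀ i j, i ≠ j → IsRelPrime (f i) (f j)) :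
    Function.Injective (phi f) := by
  rw [← LinearMap.ker_eq_bot, LinearMap.ker_eq_bot']
  intro y hy
  obtain ⟨a, rfl⟩ := Submodule.Quotient.mk_surjective _ y
  rw [Submodule.Quotient.mk_eq_zero, Ideal.mem_span_singleton]
  refine Fintype.prod_dvd_of_isRelPrime (fun i j hij => hcop i j hij) (fun i => ?_)
  have h1 : phi f (Submodule.Quotient.mk a) i = 0 := by rw [hy]; rfl
  rw [phi_mk, Submodule.Quotient.mk_eq_zero, Ideal.mem_span_singleton] at h1
  exact h1

/-- `length A/(g, ∏ hⱼ) = ∑ length A/(g, hⱼ)`. -/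
theorem length_prod (g : A) {ι : Type*} (s : Finset ι) (h : ι → A)
    (hrel : ∀ j ∈ s, IsRelPrime (h j) g) :
    Module.length A (A ⧸ Ideal.span ({g, ∏ j ∈ s, h j} : Set A)) =
      ∑ j ∈ s, Module.length A (A ⧸ Ideal.span ({g, h j} : Set A)) := by
  classical
  induction s using Finset.induction_on with
  | empty =>
    rw [Finset.prod_empty, Finset.sum_empty]
    have : Ideal.span ({g, 1} : Set A) = ⊤ :=
      Ideal.eq_top_of_isUnit_mem _ (Ideal.subset_span (by simp)) isUnit_one
    rw [this]
    have hs : Subsingleton (A ⧸ (⊤ : Ideal A)) := Ideal.Quotient.subsingleton_iff.2 rfl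
    exact Module.length_eq_zero
  | insert a s has ih =>
    rw [Finset.prod_insert has, Finset.sum_insert has, Set.pair_comm,
      length_mul (h a) g (∏ j ∈ s, h j) (hrel a (Finset.mem_insert_self a s)),
      Set.pair_comm (h a) g, Set.pair_comm _ g,
      ih (fun j hj => hrel j (Finset.mem_insert_of_mem hj))]

end domain

section step
variable {n : ℕ} (f : Fin (n + 1) → A)

/-- forget the zeroth coordinate -/
noncomputable def tailMap :
    ((i : Fin (n + 1)) → A ⧸ Ideal.span {f i}) →ₗ[A]
      ((i : Fin n) → A ⧸ Ideal.span {(fun i : Fin n => f i.succ) i}) :=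
  LinearMap.pi (fun i => LinearMap.proj i.succ)

theorem tailMap_apply (x : (i : Fin (n + 1)) → A ⧸ Ideal.span {f i}) (i : Fin n) :
    tailMap f x i = x i.succ := rfl

theorem tailMap_phi (a : A) :
    tailMap f (phi f (Submodule.Quotient.mk a)) =
      phi (fun i : Fin n => f i.succ) (Submodule.Quotient.mk a) := rfl

/-- the induced map on cokernels -/
noncomputable def rho :
    (((i : Fin (n + 1)) → A ⧸ Ideal.span {f i}) ⧸ LinearMap.range (phi f)) →ₗ[A]
      (((i : Fin n) → A ⧸ Ideal.span {(fun i : Fin n => f i.succ) i}) ⧸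
        LinearMap.range (phi (fun i : Fin n => f i.succ))) :=
  Submodule.mapQ _ _ (tailMap f) (by
    rintro _ ⟨y, rfl⟩
    obtain ⟨a, rfl⟩ := Submodule.Quotient.mk_surjective _ y
    rw [Submodule.mem_comap, tailMap_phi]
    exact LinearMap.mem_range_self _ _)

theorem rho_surjective : Function.Surjective (rho f) := by
  intro y
  obtain ⟨z, rfl⟩ := Submodule.Quotient.mk_surjective _ y
  refine ⟨Submodule.Quotient.mk (Fin.cons (α := fun i => A ⧸ Ideal.span {f i}) 0 z), ?_⟩
  show Submodule.Quotient.mk (tailMap f _) = _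
  congr 1

/-- the inclusion of the zeroth coordinate -/
noncomputable def single0 :
    (A ⧸ Ideal.span {f 0}) →ₗ[A] ((i : Fin (n + 1)) → A ⧸ Ideal.span {f i}) :=
  LinearMap.single A (fun i => A ⧸ Ideal.span {f i}) 0

theorem single0_zero (x : A ⧸ Ideal.span {f 0}) : single0 f x 0 = x := by
  simp [single0]

theorem single0_succ (x : A ⧸ Ideal.span {f 0}) (j : Fin n) : single0 f x j.succ = 0 := by
  simp [single0, Fin.succ_ne_zero]

theorem single0_prod_eq :
    single0 f (Submodule.Quotient.mk (∏ j : Fin n, f j.succ)) =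
      phi f (Submodule.Quotient.mk (∏ j : Fin n, f j.succ)) := by
  funext i
  refine Fin.cases ?_ (fun j => ?_) i
  · rw [single0_zero, phi_mk]
  · rw [single0_succ, phi_mk]
    symm
    rw [Submodule.Quotient.mk_eq_zero, Ideal.mem_span_singleton]
    exact Finset.dvd_prod_of_mem (fun j : Fin n => f j.succ) (Finset.mem_univ j)

/-- the map `A/(f₀, ∏ f_{j+1}) → coker` -/
noncomputable def iota :
    (A ⧸ Ideal.span ({f 0, ∏ j : Fin n, f j.succ} : Set A)) →ₗ[A]
      (((i : Fin (n + 1)) → A ⧸ Ideal.span {f i}) ⧸ LinearMap.range (phi f)) :=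
  Submodule.liftQ _ ((LinearMap.range (phi f)).mkQ ∘ₗ single0 f ∘ₗ (Ideal.span {f 0}).mkQ) (by
    rw [Ideal.span_le]
    intro x hx
    rcases hx with rfl | hx
    · show (LinearMap.range (phi f)).mkQ (single0 f (Submodule.Quotient.mk (f 0))) = 0
      have : (Submodule.Quotient.mk (f 0) : A ⧸ Ideal.span {f 0}) = 0 := by
        rw [Submodule.Quotient.mk_eq_zero]
        exact Ideal.mem_span_singleton_self _
      rw [this, map_zero, map_zero]
    · rw [Set.mem_singleton_iff] at hx
      subst hx
      show (LinearMap.range (phi f)).mkQ (single0 f (Submodule.Quotient.mk _)) = 0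
      rw [single0_prod_eq, Submodule.mkQ_apply, Submodule.Quotient.mk_eq_zero]
      exact LinearMap.mem_range_self _ _)

theorem iota_mk (a : A) :
    iota f (Submodule.Quotient.mk a) =
      Submodule.Quotient.mk (single0 f (Submodule.Quotient.mk a)) := rfl

theorem exact_iota_rho : Function.Exact (iota f) (rho f) := by
  intro y
  obtain ⟨x, rfl⟩ := Submodule.Quotient.mk_surjective _ y
  constructor
  · intro hy
    have h1 : tailMap f x ∈ LinearMap.range (phi (fun i : Fin n => f i.succ)) := by
      have : (Submodule.Quotient.mk (tailMap f x) :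
          _ ⧸ LinearMap.range (phi (fun i : Fin n => f i.succ))) = 0 := hy
      exact (Submodule.Quotient.mk_eq_zero _).1 this
    obtain ⟨z, hz⟩ := h1
    obtain ⟨b, rfl⟩ := Submodule.Quotient.mk_surjective _ z
    obtain ⟨a, ha⟩ := Submodule.Quotient.mk_surjective _ (x 0)
    refine ⟨Submodule.Quotient.mk (a - b), ?_⟩
    rw [iota_mk, Submodule.Quotient.eq]
    refine ⟨Submodule.Quotient.mk (-b), ?_⟩
    funext i
    refine Fin.cases ?_ (fun j => ?_) i
    · rw [phi_mk, Pi.sub_apply, single0_zero, ← ha, ← Submodule.Quotient.mk_sub]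
      congr 1
      ring
    · rw [phi_mk, Pi.sub_apply, single0_succ, zero_sub, ← tailMap_apply f x j, ← hz, phi_mk,
        Submodule.Quotient.mk_neg]
  · rintro ⟨z, hz⟩
    obtain ⟨a, rfl⟩ := Submodule.Quotient.mk_surjective _ z
    rw [← hz, iota_mk]
    show Submodule.Quotient.mk (tailMap f (single0 f (Submodule.Quotient.mk a))) = 0
    have : tailMap f (single0 f (Submodule.Quotient.mk a)) = 0 := by
      funext j
      rw [tailMap_apply, single0_succ]
      rfl
    rw [this, Submodule.Quotient.mk_zero]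

theorem iota_injective [IsDomain A] [DecompositionMonoid A]
    (hcop : ∀ i j, i ≠ j → IsRelPrime (f i) (f j)) : Function.Injective (iota f) := by
  rw [← LinearMap.ker_eq_bot, LinearMap.ker_eq_bot']
  intro y hy
  obtain ⟨a, rfl⟩ := Submodule.Quotient.mk_surjective _ y
  rw [iota_mk, Submodule.Quotient.mk_eq_zero] at hy
  obtain ⟨z, hz⟩ := hy
  obtain ⟨b, rfl⟩ := Submodule.Quotient.mk_surjective _ z
  have h0 : (Submodule.Quotient.mk b : A ⧸ Ideal.span {f 0}) = Submodule.Quotient.mk a := by
    have := congrFun hz 0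
    rwa [phi_mk, single0_zero] at this
  have hs : ∀ j : Fin n, f j.succ ∣ b := by
    intro j
    have := congrFun hz j.succ
    rw [phi_mk, single0_succ, Submodule.Quotient.mk_eq_zero, Ideal.mem_span_singleton] at this
    exact this
  have hF : (∏ j : Fin n, f j.succ) ∣ b :=
    Fintype.prod_dvd_of_isRelPrime (fun i j hij => hcop i.succ j.succ
      (fun h => hij (Fin.succ_injective _ h))) hs
  rw [Submodule.Quotient.eq, Ideal.mem_span_singleton] at h0
  obtain ⟨c, hc⟩ := h0
  obtain ⟨d, hd⟩ := hF
  rw [Submodule.Quotient.mk_eq_zero]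
  exact Ideal.mem_span_pair.2 ⟨-c, d, by linear_combination hc - hd⟩

theorem length_step [IsDomain A] [DecompositionMonoid A]
    (hcop : ∀ i j, i ≠ j → IsRelPrime (f i) (f j)) :
    Module.length A (((i : Fin (n + 1)) → A ⧸ Ideal.span {f i}) ⧸ LinearMap.range (phi f)) =
      Module.length A (A ⧸ Ideal.span ({f 0, ∏ j : Fin n, f j.succ} : Set A)) +
        Module.length A (((i : Fin n) → A ⧸ Ideal.span {(fun i : Fin n => f i.succ) i}) ⧸
          LinearMap.range (phi (fun i : Fin n => f i.succ))) :=
  Module.length_eq_add_of_exact (iota f) (rho f) (iota_injective f hcop) (rho_surjective f)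
    (exact_iota_rho f)

end step

theorem sum_lt_succ {M : Type*} [AddCommMonoid M] (n : ℕ) (G : Fin (n + 1) → Fin (n + 1) → M) :
    ∑ p ∈ (Finset.univ : Finset (Fin (n + 1) × Fin (n + 1))) with p.1 < p.2, G p.1 p.2 =
      ∑ j : Fin n, G 0 j.succ +
        ∑ p ∈ (Finset.univ : Finset (Fin n × Fin n)) with p.1 < p.2, G p.1.succ p.2.succ := by
  rw [Finset.sum_filter, Finset.sum_filter, Fintype.sum_prod_type, Fintype.sum_prod_type,
    Fin.sum_univ_succ]
  congr 1
  · rw [Fin.sum_univ_succ]
    simp
  · apply Finset.sum_congr rfl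
    intro i _
    rw [Fin.sum_univ_succ]
    simp [Fin.succ_lt_succ_iff]

theorem main [IsDomain A] [DecompositionMonoid A] : ∀ (n : ℕ) (f : Fin n → A)
    (hcop : ∀ i j, i ≠ j → IsRelPrime (f i) (f j)),
    Module.length A (((i : Fin n) → A ⧸ Ideal.span {f i}) ⧸ LinearMap.range (phi f)) =
      ∑ p ∈ (Finset.univ : Finset (Fin n × Fin n)) with p.1 < p.2,
        Module.length A (A ⧸ Ideal.span ({f p.1, f p.2} : Set A)) := by
  intro n
  induction n with
  | zero =>
    intro f hcop
    have h1 : Subsingleton (((i : Fin 0) → A ⧸ Ideal.span {f i}) ⧸ LinearMap.range (phi f)) :=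
      inferInstance
    rw [Module.length_eq_zero]
    simp
  | succ n ih =>
    intro f hcop
    rw [length_step f hcop, ih (fun i => f i.succ) (fun i j hij => hcop i.succ j.succ
      (fun h => hij (Fin.succ_injective _ h))),
      length_prod (f 0) Finset.univ (fun j : Fin n => f j.succ)
        (fun j _ => hcop j.succ 0 (Fin.succ_ne_zero j)),
      sum_lt_succ n (fun i j => Module.length A (A ⧸ Ideal.span ({f i, f j} : Set A)))]

end Groth.Agent.R2.H77.LenPi
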