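import Mathlib

/-!
# Detecting elements of the kernel of `kerToTensor` by pairs of algebra homs
-/

set_option autoImplicit false

namespace Groth.Agent.R2.H77.NodalKerA

open TensorProduct

/-- If `f g : S →ₐ[R] E` agree modulo a square-zero "ideal" and `g` kills `I`, then `f - g` is an
`R`-derivation into `E` (an `S/I`-module through `g`), so it detects `kerToTensor`. -/
theorem eq_of_kerToTensor_eq_zero {R S E : Type*} [CommRing R] [CommRing S] [Algebra R S]
    [CommRing E] [Algebra R E] (I : Ideal S) (f g : S →ₐ[R] E)
    (hfg : ∀ s s', (f s - g s) * (f s' - g s') = 0) (hg : ∀ s ∈ I, g s = 0)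
    (x : RingHom.ker (algebraMap S (S ⧸ I)))
    (hx : KaehlerDifferential.kerToTensor R S (S ⧸ I) x = 0) : f x.1 = g x.1 := by
  letI : Module S E := Module.compHom E g.toRingHom
  have smul_def : ∀ (s : S) (e : E), s • e = g s * e := fun _ _ => rfl
  haveI : IsScalarTower R S E :=
    ⟨fun r s e => by rw [smul_def, smul_def, map_smul, smul_mul_assoc]⟩
  let gbar : S ⧸ I →+* E := Ideal.Quotient.lift I g.toRingHom hg
  letI : Module (S ⧸ I) E := Module.compHom E gbar
  have smul_def' : ∀ (q : S ⧸ I) (e : E), q • e = gbar q * e := fun _ _ => rfl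
  haveI : IsScalarTower S (S ⧸ I) E := ⟨fun s q e => by
    obtain ⟨q, rfl⟩ := Ideal.Quotient.mk_surjective q
    rw [smul_def', smul_def, smul_def', Algebra.smul_def, map_mul, mul_assoc]
    rfl⟩
  let D : Derivation R S E :=
    { toLinearMap := f.toLinearMap - g.toLinearMap
      map_one_eq_zero' := by simp
      leibniz' := fun a b => by
        simp only [LinearMap.sub_apply, AlgHom.toLinearMap_apply, map_mul, smul_def]
        have h := hfg a b
        linear_combination h }
  let L := LinearMap.liftBaseChange (S ⧸ I) D.liftKaehlerDifferential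
  have h := congrArg L hx
  rw [KaehlerDifferential.kerToTensor_apply, LinearMap.liftBaseChange_tmul, one_smul,
    Derivation.liftKaehlerDifferential_comp_D, map_zero] at h
  exact sub_eq_zero.mp h

end Groth.Agent.R2.H77.NodalKerA
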