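import Mathlib

/-!
# Laurent polynomials over a trivial square-zero extension: the "forget the square-zero part" map
-/

set_option autoImplicit false

namespace Groth.Agent.R2.H77.NodalKerB

universe u

open LaurentPolynomial

variable (A : Type u) [CommRing A] (J : Type u) [AddCommGroup J] [Module A J] [Module Aᵐᵒᵖ J]
  [IsCentralScalar A J]

/-- `(a, j) ↦ (a, 0)`. -/
noncomputable def rho : TrivSqZeroExt A J →ₐ[A] TrivSqZeroExt A J :=
  (TrivSqZeroExt.inlAlgHom A A J).comp (TrivSqZeroExt.fstHom A A J)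

/-- coefficientwise `rho` on Laurent polynomials. -/
noncomputable def sigma : LaurentPolynomial (TrivSqZeroExt A J) →ₐ[A]
    LaurentPolynomial (TrivSqZeroExt A J) :=
  AddMonoidAlgebra.mapAlgHom ℤ (rho A J)

variable {A J}

theorem mem_kerIdeal_iff (c : TrivSqZeroExt A J) : c ∈ TrivSqZeroExt.kerIdeal A J ↔ c.fst = 0 := by
  simp [TrivSqZeroExt.kerIdeal, RingHom.mem_ker]

theorem rho_apply (c : TrivSqZeroExt A J) : rho A J c = TrivSqZeroExt.inl c.fst := rfl

theorem rho_eq_zero {c : TrivSqZeroExt A J} (hc : c ∈ TrivSqZeroExt.kerIdeal A J) :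
    rho A J c = 0 := by
  rw [rho_apply, (mem_kerIdeal_iff c).mp hc, TrivSqZeroExt.inl_zero]

theorem sub_rho_mem (c : TrivSqZeroExt A J) : c - rho A J c ∈ TrivSqZeroExt.kerIdeal A J := by
  rw [mem_kerIdeal_iff, rho_apply]
  simp

theorem mul_eq_zero_of_mem {c c' : TrivSqZeroExt A J} (hc : c ∈ TrivSqZeroExt.kerIdeal A J)
    (hc' : c' ∈ TrivSqZeroExt.kerIdeal A J) : c * c' = 0 := by
  have h : c * c' ∈ TrivSqZeroExt.kerIdeal A J ^ 2 := by
    rw [pow_two]; exact Ideal.mul_mem_mul hc hc'
  rwa [TrivSqZeroExt.kerIdeal_sq, Ideal.mem_bot] at h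

theorem sigma_single (n : ℤ) (c : TrivSqZeroExt A J) :
    sigma A J (AddMonoidAlgebra.single n c) = AddMonoidAlgebra.single n (rho A J c) :=
  AddMonoidAlgebra.mapAlgHom_single _ _ _

theorem sigma_sub_mul (e e' : LaurentPolynomial (TrivSqZeroExt A J)) :
    (e - sigma A J e) * (e' - sigma A J e') = 0 := by
  induction e using AddMonoidAlgebra.induction_linear with
  | zero => simp
  | add x y hx hy =>
    rw [map_add, add_sub_add_comm, add_mul, hx, hy, add_zero]
  | single m r =>
    induction e' using AddMonoidAlgebra.induction_linear with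
    | zero => simp
    | add x y hx hy =>
      rw [map_add, add_sub_add_comm, mul_add, hx, hy, add_zero]
    | single m' r' =>
      rw [sigma_single, sigma_single, ← AddMonoidAlgebra.single_sub, ← AddMonoidAlgebra.single_sub,
        AddMonoidAlgebra.single_mul_single, mul_eq_zero_of_mem (sub_rho_mem r) (sub_rho_mem r'),
        AddMonoidAlgebra.single_zero]

theorem sigma_C_mul_T {c : TrivSqZeroExt A J} (hc : c ∈ TrivSqZeroExt.kerIdeal A J) (n : ℤ) :
    sigma A J (C c * T n) = 0 := by
  rw [← single_eq_C_mul_T, sigma_single, rho_eq_zero hc, AddMonoidAlgebra.single_zero]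

theorem sigma_C {c : TrivSqZeroExt A J} (hc : c ∈ TrivSqZeroExt.kerIdeal A J) :
    sigma A J (C c) = 0 := by
  have := sigma_C_mul_T hc 0
  rwa [T_zero, mul_one] at this

end Groth.Agent.R2.H77.NodalKerB
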