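import Mathlib
import Groth.Agent.R2.H77NodalKerA
import Groth.Agent.R2.H77NodalKerB

/-!
# The nodal model `A'[x,y]/(xy - τ)` over a trivial square-zero extension
-/

set_option autoImplicit false

namespace Groth.Agent.R2.H77.NodalKerC

universe u

open LaurentPolynomial Groth.Agent.R2.H77.NodalKerB

variable {A : Type u} [CommRing A] {J : Type u} [AddCommGroup J] [Module A J] [Module Aᵐᵒᵖ J]
  [IsCentralScalar A J] {τ : TrivSqZeroExt A J}
  {B' : Type u} [CommRing B'] [Algebra (TrivSqZeroExt A J) B'] [Algebra A B']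
  [IsScalarTower A (TrivSqZeroExt A J) B'] {x y : B'}

section psi

variable
  (hsurj : Function.Surjective
    (MvPolynomial.aeval ![x, y] : MvPolynomial (Fin 2) (TrivSqZeroExt A J) →ₐ[TrivSqZeroExt A J] B'))
  (hker : RingHom.ker
    (MvPolynomial.aeval ![x, y] : MvPolynomial (Fin 2) (TrivSqZeroExt A J) →ₐ[TrivSqZeroExt A J] B') =
    Ideal.span {MvPolynomial.X 0 * MvPolynomial.X 1 - MvPolynomial.C τ})

include hker in
theorem mul_eq : x * y = algebraMap (TrivSqZeroExt A J) B' τ := by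
  have h : (MvPolynomial.X 0 * MvPolynomial.X 1 - MvPolynomial.C τ :
      MvPolynomial (Fin 2) (TrivSqZeroExt A J)) ∈ RingHom.ker
      (MvPolynomial.aeval ![x, y] :
        MvPolynomial (Fin 2) (TrivSqZeroExt A J) →ₐ[TrivSqZeroExt A J] B') := by
    rw [hker]; exact Ideal.subset_span rfl
  rw [RingHom.mem_ker] at h
  simpa [sub_eq_zero] using h

include hker in
theorem ker_le (u v : LaurentPolynomial (TrivSqZeroExt A J)) (huv : u * v = C τ) :
    RingHom.ker (MvPolynomial.aeval ![x, y] :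
      MvPolynomial (Fin 2) (TrivSqZeroExt A J) →ₐ[TrivSqZeroExt A J] B').toRingHom ≤
    RingHom.ker (MvPolynomial.aeval ![u, v] :
      MvPolynomial (Fin 2) (TrivSqZeroExt A J) →ₐ[TrivSqZeroExt A J]
        LaurentPolynomial (TrivSqZeroExt A J)).toRingHom := by
  change RingHom.ker (MvPolynomial.aeval ![x, y] :
      MvPolynomial (Fin 2) (TrivSqZeroExt A J) →ₐ[TrivSqZeroExt A J] B') ≤ _
  rw [hker, Ideal.span_le]
  rintro _ rfl
  change (MvPolynomial.aeval ![u, v] :
      MvPolynomial (Fin 2) (TrivSqZeroExt A J) →ₐ[TrivSqZeroExt A J]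
        LaurentPolynomial (TrivSqZeroExt A J)) _ = 0
  simp [huv, LaurentPolynomial.algebraMap_apply]

/-- the algebra hom `B' → A'[T;T⁻¹]` with `x ↦ u`, `y ↦ v`. -/
noncomputable def psi (u v : LaurentPolynomial (TrivSqZeroExt A J)) (huv : u * v = C τ) :
    B' →ₐ[TrivSqZeroExt A J] LaurentPolynomial (TrivSqZeroExt A J) :=
  AlgHom.liftOfSurjective _ hsurj (MvPolynomial.aeval ![u, v]) (ker_le hker u v huv)

theorem psi_aeval (u v : LaurentPolynomial (TrivSqZeroExt A J)) (huv : u * v = C τ)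
    (p : MvPolynomial (Fin 2) (TrivSqZeroExt A J)) :
    psi hsurj hker u v huv (MvPolynomial.aeval ![x, y] p) = MvPolynomial.aeval ![u, v] p :=
  AlgHom.liftOfSurjective_apply _ hsurj _ _ p

theorem psi_x (u v : LaurentPolynomial (TrivSqZeroExt A J)) (huv : u * v = C τ) :
    psi hsurj hker u v huv x = u := by
  have := psi_aeval hsurj hker u v huv (MvPolynomial.X 0)
  simpa using this

theorem psi_y (u v : LaurentPolynomial (TrivSqZeroExt A J)) (huv : u * v = C τ) :
    psi hsurj hker u v huv y = v := by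
  have := psi_aeval hsurj hker u v huv (MvPolynomial.X 1)
  simpa using this

theorem psi_algebraMap (u v : LaurentPolynomial (TrivSqZeroExt A J)) (huv : u * v = C τ)
    (c : TrivSqZeroExt A J) :
    psi hsurj hker u v huv (algebraMap _ B' c) = C c := by
  rw [AlgHom.commutes, LaurentPolynomial.algebraMap_apply]
  rfl

end psi

/-- Key lemma: `kerToTensor i = 0` forces `Ψ i = σ (Ψ i)` for any `A'`-algebra hom `Ψ`. -/
theorem psi_eq_sigma (Ψ : B' →ₐ[TrivSqZeroExt A J] LaurentPolynomial (TrivSqZeroExt A J))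
    (i : RingHom.ker (algebraMap B'
      (B' ⧸ Ideal.map (algebraMap (TrivSqZeroExt A J) B') (TrivSqZeroExt.kerIdeal A J))))
    (hi : KaehlerDifferential.kerToTensor A B'
      (B' ⧸ Ideal.map (algebraMap (TrivSqZeroExt A J) B') (TrivSqZeroExt.kerIdeal A J)) i = 0) :
    Ψ i.1 = sigma A J (Ψ i.1) := by
  let f : B' →ₐ[A] LaurentPolynomial (TrivSqZeroExt A J) := Ψ.restrictScalars A
  let g : B' →ₐ[A] LaurentPolynomial (TrivSqZeroExt A J) := (sigma A J).comp f
  refine Groth.Agent.R2.H77.NodalKerA.eq_of_kerToTensor_eq_zero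
    (Ideal.map (algebraMap (TrivSqZeroExt A J) B') (TrivSqZeroExt.kerIdeal A J)) f g
    (fun s s' => sigma_sub_mul _ _) ?_ i hi
  intro s hs
  have hle : Ideal.map (algebraMap (TrivSqZeroExt A J) B') (TrivSqZeroExt.kerIdeal A J) ≤
      RingHom.ker g.toRingHom := by
    rw [Ideal.map_le_iff_le_comap]
    intro c hc
    rw [Ideal.mem_comap, RingHom.mem_ker]
    change sigma A J (Ψ (algebraMap _ B' c)) = 0
    rw [AlgHom.commutes, LaurentPolynomial.algebraMap_apply]
    exact sigma_C hc
  exact hle hs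

end Groth.Agent.R2.H77.NodalKerC
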