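import Mathlib
import Groth.Agent.R2.H77NodalKerC

/-!
# Reconstruction of elements of `J·B'` from their images in Laurent polynomials
-/

set_option autoImplicit false

namespace Groth.Agent.R2.H77.NodalKerD

universe u

open LaurentPolynomial Groth.Agent.R2.H77.NodalKerB Groth.Agent.R2.H77.NodalKerC

variable {A : Type u} [CommRing A] {J : Type u} [AddCommGroup J] [Module A J] [Module Aᵐᵒᵖ J]
  [IsCentralScalar A J]
  {B' : Type u} [CommRing B'] [Algebra (TrivSqZeroExt A J) B']

/-- `Σ_{k ≥ lo} algebraMap (e_k) z^k`. -/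
noncomputable def recv (z : B') (lo : ℤ) : LaurentPolynomial (TrivSqZeroExt A J) →+ B' :=
  (Finsupp.liftAddHom (fun k : ℤ =>
    if lo ≤ k then (AddMonoidHom.mulRight (z ^ k.toNat)).comp
      (algebraMap (TrivSqZeroExt A J) B').toAddMonoidHom else 0)).comp
    (AddMonoidAlgebra.coeffAddEquiv (R := TrivSqZeroExt A J) (M := ℤ)).toAddMonoidHom

theorem recv_C_mul_T (z : B') (lo : ℤ) (c : TrivSqZeroExt A J) (n : ℤ) :
    recv z lo (C c * T n) = if lo ≤ n then algebraMap _ B' c * z ^ n.toNat else 0 := by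
  rw [← single_eq_C_mul_T]
  simp only [recv, AddMonoidHom.coe_comp, Function.comp_apply]
  change (Finsupp.liftAddHom _) (Finsupp.single n c) = _
  rw [Finsupp.liftAddHom_apply_single]
  split_ifs <;> simp

/-- `e ↦ e - σ e`. -/
noncomputable def delta : LaurentPolynomial (TrivSqZeroExt A J) →+
    LaurentPolynomial (TrivSqZeroExt A J) :=
  AddMonoidHom.id _ - (sigma A J).toRingHom.toAddMonoidHom

theorem delta_apply (e : LaurentPolynomial (TrivSqZeroExt A J)) :
    delta e = e - sigma A J e := rfl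

theorem delta_C_mul_T {c : TrivSqZeroExt A J} (hc : c ∈ TrivSqZeroExt.kerIdeal A J) (n : ℤ) :
    delta (C c * T n) = C c * T n := by
  rw [delta_apply, sigma_C_mul_T hc, sub_zero]


section rec

variable {τ : TrivSqZeroExt A J} [Algebra A B'] [IsScalarTower A (TrivSqZeroExt A J) B'] {x y : B'}
  (hsurj : Function.Surjective
    (MvPolynomial.aeval ![x, y] : MvPolynomial (Fin 2) (TrivSqZeroExt A J) →ₐ[TrivSqZeroExt A J] B'))
  (hker : RingHom.ker
    (MvPolynomial.aeval ![x, y] : MvPolynomial (Fin 2) (TrivSqZeroExt A J) →ₐ[TrivSqZeroExt A J] B') =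
    Ideal.span {MvPolynomial.X 0 * MvPolynomial.X 1 - MvPolynomial.C τ})

theorem huv1 : (T 1 : LaurentPolynomial (TrivSqZeroExt A J)) * (C τ * T (-1)) = C τ := by
  rw [mul_left_comm, ← T_add]; simp

theorem huv2 : (C τ * T (-1) : LaurentPolynomial (TrivSqZeroExt A J)) * T 1 = C τ := by
  rw [mul_assoc, ← T_add]; simp

/-- `x ↦ T`, `y ↦ τ T⁻¹`. -/
noncomputable def psi1 : B' →ₐ[TrivSqZeroExt A J] LaurentPolynomial (TrivSqZeroExt A J) :=
  psi hsurj hker (T 1) (C τ * T (-1)) huv1

/-- `x ↦ τ T⁻¹`, `y ↦ T`. -/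
noncomputable def psi2 : B' →ₐ[TrivSqZeroExt A J] LaurentPolynomial (TrivSqZeroExt A J) :=
  psi hsurj hker (C τ * T (-1)) (T 1) huv2

theorem psi1_mono (c : TrivSqZeroExt A J) (a b : ℕ) :
    psi1 hsurj hker (algebraMap _ B' c * x ^ a * y ^ b) = C (c * τ ^ b) * T ((a : ℤ) - b) := by
  rw [map_mul, map_mul, map_pow, map_pow, psi1, psi_x, psi_y, psi_algebraMap, mul_pow, T_pow, T_pow,
    ← map_pow, show ((a : ℤ) - b) = (a : ℤ) * 1 + (b : ℤ) * (-1) by ring, T_add, map_mul]
  ring

theorem psi2_mono (c : TrivSqZeroExt A J) (a b : ℕ) :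
    psi2 hsurj hker (algebraMap _ B' c * x ^ a * y ^ b) = C (c * τ ^ a) * T ((b : ℤ) - a) := by
  rw [map_mul, map_mul, map_pow, map_pow, psi2, psi_x, psi_y, psi_algebraMap, mul_pow, T_pow, T_pow,
    ← map_pow, show ((b : ℤ) - a) = (a : ℤ) * (-1) + (b : ℤ) * 1 by ring, T_add, map_mul]
  ring

/-- the reconstruction map. -/
noncomputable def recon (i : B') : B' :=
  recv x 0 (delta (psi1 hsurj hker i)) + recv y 1 (delta (psi2 hsurj hker i))

theorem recon_add (i i' : B') :
    recon hsurj hker (i + i') = recon hsurj hker i + recon hsurj hker i' := by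
  simp only [recon, map_add]
  abel

theorem recon_zero : recon hsurj hker (0 : B') = 0 := by
  simp [recon]

theorem recon_mono {c : TrivSqZeroExt A J} (hc : c ∈ TrivSqZeroExt.kerIdeal A J) (a b : ℕ) :
    recon hsurj hker (algebraMap _ B' c * x ^ a * y ^ b) = algebraMap _ B' c * x ^ a * y ^ b := by
  have hxy := mul_eq hker
  have h1 : c * τ ^ b ∈ TrivSqZeroExt.kerIdeal A J := Ideal.mul_mem_right _ _ hc
  have h2 : c * τ ^ a ∈ TrivSqZeroExt.kerIdeal A J := Ideal.mul_mem_right _ _ hc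
  rw [recon, psi1_mono, psi2_mono, delta_C_mul_T h1, delta_C_mul_T h2, recv_C_mul_T, recv_C_mul_T]
  rcases Nat.lt_or_ge a b with hab | hba
  · obtain ⟨d, rfl⟩ := Nat.exists_eq_add_of_lt hab
    have e1 : ¬ (0 : ℤ) ≤ (a : ℤ) - ((a + d + 1 : ℕ) : ℤ) := by push_cast; omega
    have e2 : ((a + d + 1 : ℕ) : ℤ) - a = ((d + 1 : ℕ) : ℤ) := by push_cast; ring
    have e3 : (1 : ℤ) ≤ ((d + 1 : ℕ) : ℤ) := by push_cast; omega
    rw [if_neg e1, e2, if_pos e3, zero_add, Int.toNat_natCast, map_mul, map_pow, ← hxy]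
    ring
  · obtain ⟨d, rfl⟩ := Nat.exists_eq_add_of_le hba
    have e1 : ((b + d : ℕ) : ℤ) - b = d := by push_cast; ring
    have e2 : ¬ (1 : ℤ) ≤ (b : ℤ) - ((b + d : ℕ) : ℤ) := by push_cast; omega
    rw [e1, if_pos (Int.natCast_nonneg d), if_neg e2, add_zero, Int.toNat_natCast, map_mul, map_pow,
      ← hxy]
    ring

theorem recon_mul_aeval {c : TrivSqZeroExt A J} (hc : c ∈ TrivSqZeroExt.kerIdeal A J)
    (p : MvPolynomial (Fin 2) (TrivSqZeroExt A J)) :
    recon hsurj hker (algebraMap _ B' c * MvPolynomial.aeval ![x, y] p) =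
      algebraMap _ B' c * MvPolynomial.aeval ![x, y] p := by
  induction p using MvPolynomial.induction_on' with
  | monomial u a =>
    rw [MvPolynomial.aeval_monomial, Finsupp.prod_fintype _ _ (fun _ => pow_zero _),
      Fin.prod_univ_two]
    have hca : c * a ∈ TrivSqZeroExt.kerIdeal A J := Ideal.mul_mem_right _ _ hc
    have := recon_mono hsurj hker hca (u 0) (u 1)
    simp only [Matrix.cons_val_zero, Matrix.cons_val_one] at this ⊢
    rw [map_mul] at this
    rw [← mul_assoc, ← mul_assoc]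
    exact this
  | add p q hp hq =>
    rw [map_add, mul_add, recon_add, hp, hq]

include hsurj in
theorem recon_mul_mem (i : B')
    (hi : i ∈ Ideal.map (algebraMap (TrivSqZeroExt A J) B') (TrivSqZeroExt.kerIdeal A J)) :
    ∀ b : B', recon hsurj hker (b * i) = b * i := by
  refine Submodule.span_induction ?_ ?_ ?_ ?_ hi
  · rintro _ ⟨c, hc, rfl⟩ b
    obtain ⟨p, rfl⟩ := hsurj b
    rw [mul_comm]
    exact recon_mul_aeval hsurj hker hc p
  · intro b
    rw [mul_zero, recon_zero]
  · intro i i' _ _ h h' b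
    rw [mul_add, recon_add, h, h']
  · intro a i _ h b
    rw [smul_eq_mul, ← mul_assoc]
    exact h (b * a)

theorem recon_mem (i : B')
    (hi : i ∈ Ideal.map (algebraMap (TrivSqZeroExt A J) B') (TrivSqZeroExt.kerIdeal A J)) :
    recon hsurj hker i = i := by
  have := recon_mul_mem hsurj hker i hi 1
  rwa [one_mul] at this

include hsurj hker in
/-- The main theorem. -/
theorem main :
    Function.Injective (KaehlerDifferential.kerToTensor A B'
      (B' ⧸ Ideal.map (algebraMap (TrivSqZeroExt A J) B') (TrivSqZeroExt.kerIdeal A J))) := by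
  rw [injective_iff_map_eq_zero]
  intro i hi
  have hmem : i.1 ∈ Ideal.map (algebraMap (TrivSqZeroExt A J) B') (TrivSqZeroExt.kerIdeal A J) := by
    have h' : algebraMap B' (B' ⧸ Ideal.map (algebraMap (TrivSqZeroExt A J) B')
        (TrivSqZeroExt.kerIdeal A J)) i.1 = 0 := i.2
    exact Ideal.Quotient.eq_zero_iff_mem.mp h'
  have h1 := psi_eq_sigma (psi1 hsurj hker) i hi
  have h2 := psi_eq_sigma (psi2 hsurj hker) i hi
  have hrec := recon_mem hsurj hker i.1 hmem
  rw [recon, delta_apply, delta_apply, ← h1, ← h2, sub_self, sub_self, map_zero, map_zero,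
    add_zero] at hrec
  exact Subtype.ext hrec.symm

end rec

end Groth.Agent.R2.H77.NodalKerD
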