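import Mathlib
import Groth.Agent.Lib.Helper5CodepthOpen
import Groth.Agent.Lib.Helper5NormFlatDepth
import Groth.Agent.Lib.Helper4TildeCompl4
import Groth.Agent.R2.H77FbcModA
import Groth.Agent.R2.H77FbcModB

/-!
# H77NormFlatSkA: localized depth of a module normally flat along a nilpotent ideal
-/

set_option autoImplicit false
set_option linter.style.haveILetI false
set_option linter.unusedSectionVars false
set_option linter.deprecated false
universe u
open IsLocalRing TensorProduct

namespace Groth.Agent.R2.H77.NormFlatSkA
open Groth.Agent.Lib.Helper28 Groth.Agent.Lib.Helper5 Groth.Agent.Lib.Helper5.GenDepth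
  Groth.Agent.Lib.Helper5.CodepthOpen

section SES

variable {A : Type u} [CommRing A] [IsNoetherianRing A]
  {N' N N'' : Type u} [AddCommGroup N'] [Module A N'] [AddCommGroup N] [Module A N]
  [AddCommGroup N''] [Module A N''] [Module.Finite A N'] [Module.Finite A N]
  [Module.Finite A N'']

theorem ses_loc_right (f : N' →ₗ[A] N) (g : N →ₗ[A] N'') (hf : Function.Injective f)
    (hg : Function.Surjective g) (hfg : Function.Exact f g) (q : Ideal A) [q.IsPrime] :
    min (dep q N) (dep q N' - 1) ≤ dep q N'' := by
  haveI : IsNoetherianRing (Localization.AtPrime q) :=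
    IsLocalization.isNoetherianRing q.primeCompl _ inferInstance
  obtain ⟨fq, hfq⟩ : ∃ fq : LocalizedModule q.primeCompl N' →ₗ[Localization.AtPrime q]
      LocalizedModule q.primeCompl N, fq = (IsLocalizedModule.map q.primeCompl
        (LocalizedModule.mkLinearMap q.primeCompl N')
        (LocalizedModule.mkLinearMap q.primeCompl N) f).extendScalarsOfIsLocalization
          q.primeCompl (Localization.AtPrime q) := ⟨_, rfl⟩
  obtain ⟨gq, hgq⟩ : ∃ gq : LocalizedModule q.primeCompl N →ₗ[Localization.AtPrime q]
      LocalizedModule q.primeCompl N'', gq = (IsLocalizedModule.map q.primeCompl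
        (LocalizedModule.mkLinearMap q.primeCompl N)
        (LocalizedModule.mkLinearMap q.primeCompl N'') g).extendScalarsOfIsLocalization
          q.primeCompl (Localization.AtPrime q) := ⟨_, rfl⟩
  have hinj : Function.Injective fq := by
    rw [hfq]
    exact IsLocalizedModule.map_injective q.primeCompl _ _ f hf
  have hsurj : Function.Surjective gq := by
    rw [hgq]
    exact IsLocalizedModule.map_surjective q.primeCompl _ _ g hg
  have hex : Function.Exact fq gq := by
    rw [hfq, hgq]
    exact IsLocalizedModule.map_exact q.primeCompl _ _ _ f g hfg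
  exact min_idealDepth_le_right _ fq gq hinj hsurj hex

end SES

section Filtration

variable {A : Type u} [CommRing A] [IsNoetherianRing A]
  {M : Type u} [AddCommGroup M] [Module A M] [Module.Finite A M]

theorem dep_bot (q : Ideal A) [q.IsPrime] : dep q ↥(⊥ : Submodule A M) = ⊤ := by
  haveI : Subsingleton ↥(⊥ : Submodule A M) := inferInstance
  haveI : Subsingleton (LocalizedModule q.primeCompl ↥(⊥ : Submodule A M)) :=
    LocalizedModule.instSubsingleton _
  exact depth_eq_top_of_subsingleton

theorem dep_filtration (q : Ideal A) [q.IsPrime] (d : ℕ∞) (hd : d ≠ ⊤)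
    (F : ℕ → Submodule A M) (hanti : ∀ n, F (n + 1) ≤ F n) (s : ℕ) (hs : F s = ⊥)
    (hgr : ∀ n, dep q (F n ⧸ (F (n + 1)).submoduleOf (F n)) = d ∨
      dep q (F n ⧸ (F (n + 1)).submoduleOf (F n)) = ⊤) :
    ∀ k n : ℕ, n + k = s → dep q (F n) = d ∨ dep q (F n) = ⊤ := by
  haveI : IsNoetherian A M := isNoetherian_of_isNoetherianRing_of_finite A M
  intro k
  induction k with
  | zero =>
    intro n hn
    right
    rw [Nat.add_zero] at hn
    rw [hn, hs]
    exact dep_bot q
  | succ k ih =>
    intro n hn
    have ih' := ih (n + 1) (by omega)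
    have hf : Function.Injective (Submodule.inclusion (hanti n)) :=
      Submodule.inclusion_injective _
    have hg : Function.Surjective ((F (n + 1)).submoduleOf (F n)).mkQ :=
      Submodule.mkQ_surjective _
    have hfg : Function.Exact (Submodule.inclusion (hanti n))
        ((F (n + 1)).submoduleOf (F n)).mkQ := by
      rw [LinearMap.exact_iff, Submodule.ker_mkQ, Submodule.range_inclusion]
      rfl
    obtain ⟨hmid, hleft, -⟩ := ses_loc _ _ hf hg hfg q
    have hright := ses_loc_right _ _ hf hg hfg q
    rcases hgr n with hG | hG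
    · rcases ih' with h0 | h0
      · left
        rw [h0, hG] at hmid hleft
        apply le_antisymm
        · rcases min_le_iff.mp hleft with h1 | h1
          · exact h1
          · exact absurd h1 (not_le.mpr ((ENat.lt_add_one_iff hd).mpr le_rfl))
        · simpa using hmid
      · left
        rw [h0, hG] at hmid hright
        apply le_antisymm
        · simpa using hright
        · simpa using hmid
    · rw [hG] at hmid hleft
      have h1 : dep q (F (n + 1)) ≤ dep q (F n) := by simpa using hmid
      have h2 : dep q (F n) ≤ dep q (F (n + 1)) := by simpa using hleft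
      rw [le_antisymm h2 h1]
      exact ih'

end Filtration

section Flat

variable {R : Type u} [CommRing R] [IsNoetherianRing R]
  (G : Type u) [AddCommGroup G] [Module R G] [Module.Finite R G] [Module.Flat R G]

theorem dep_flat (Q : Ideal R) [hQ : Q.IsPrime] : dep Q G = dep Q R ∨ dep Q G = ⊤ := by
  by_cases hQG : (⟨Q, hQ⟩ : PrimeSpectrum R) ∈ Module.support R G
  swap
  · right
    haveI : Subsingleton (LocalizedModule Q.primeCompl G) := Module.notMem_support_iff.mp hQG
    exact depth_eq_top_of_subsingleton
  left
  obtain ⟨h1, -⟩ := Groth.Agent.R2.H77.FbcModA.fbcMod (A := R) (B := R) R G Q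
  obtain ⟨h2, -⟩ := dep_dm_congr Q (TensorProduct.rid R G)
  have hcomap : Q.comap (algebraMap R R) = Q := Ideal.comap_id Q
  obtain ⟨h3, -⟩ := dep_dm_congr_ideal hcomap R
  have hann : Module.annihilator R G ≤ Q := Module.mem_support_iff_of_finite.mp hQG
  have hsup : Module.annihilator R G ⊔ (Q.comap (algebraMap R R)).map (algebraMap R R) = Q := by
    rw [hcomap]
    have : Q.map (algebraMap R R) = Q := Ideal.map_id Q
    rw [this]
    exact sup_eq_right.mpr hann
  have hmin : Q ∈ (Module.annihilator R G ⊔
      (Q.comap (algebraMap R R)).map (algebraMap R R)).minimalPrimes := by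
    rw [hsup, Ideal.minimalPrimes_eq_subsingleton_self]
    exact Set.mem_singleton Q
  obtain ⟨-, h4⟩ := Groth.Agent.R2.H77.FbcModB.fibLocMod_dim_depth_zero (A := R) (F := G) Q hmin
  rw [← h2, h1, h3, h4, add_zero]

end Flat

end Groth.Agent.R2.H77.NormFlatSkA
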