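import Mathlib
import Groth.Agent.R2.H77NormFlatSkA
import Groth.Agent.Lib.Helper28NormalLift

/-!
# H77NormFlatSkB: `dep q M = dep q (A/I)` and `dm q M = dm q (A/I)` for `M` normally flat along
a nilpotent ideal `I` with full support
-/

set_option autoImplicit false
set_option linter.style.haveILetI false
set_option linter.unusedSectionVars false
set_option linter.deprecated false
universe u
open IsLocalRing TensorProduct

namespace Groth.Agent.R2.H77.NormFlatSkB
open Groth.Agent.Lib.Helper28 Groth.Agent.Lib.Helper5 Groth.Agent.Lib.Helper5.GenDepth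
  Groth.Agent.Lib.Helper5.CodepthOpen Groth.Agent.R2.H77.NormFlatSkA
  Groth.Agent.Lib.Helper5.NormFlatDepth

variable {A : Type u} [CommRing A] [IsNoetherianRing A]

theorem dep_flat_quotient (I : Ideal A) (G : Type u) [AddCommGroup G] [Module A G]
    [Module (A ⧸ I) G] [IsScalarTower A (A ⧸ I) G] [Module.Finite A G] [Module.Flat (A ⧸ I) G]
    (q : Ideal A) [hq : q.IsPrime] (hIq : I ≤ q) :
    dep q G = dep q (A ⧸ I) ∨ dep q G = ⊤ := by
  have hs : Function.Surjective (algebraMap A (A ⧸ I)) := Ideal.Quotient.mk_surjective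
  haveI : Module.Finite (A ⧸ I) G := Module.Finite.of_restrictScalars_finite A (A ⧸ I) G
  obtain ⟨hQ, hcomap⟩ := isPrime_map_mk_and_comap_map I q hq hIq
  haveI := hQ
  obtain ⟨h1, -⟩ := surj_transfer hs G (q.map (Ideal.Quotient.mk I))
  obtain ⟨h2, -⟩ := surj_transfer hs (A ⧸ I) (q.map (Ideal.Quotient.mk I))
  have hcomap' : (q.map (Ideal.Quotient.mk I)).comap (algebraMap A (A ⧸ I)) = q := hcomap
  obtain ⟨h3, -⟩ := dep_dm_congr_ideal hcomap' G
  obtain ⟨h4, -⟩ := dep_dm_congr_ideal hcomap' (A ⧸ I)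
  rw [← h3, ← h4, h1, h2]
  exact dep_flat G (q.map (Ideal.Quotient.mk I))

theorem support_quotient_eq_univ (I : Ideal A) (hI : IsNilpotent I) :
    Module.support A (A ⧸ I) = Set.univ := by
  obtain ⟨s, hs⟩ := hI
  rw [Set.eq_univ_iff_forall]
  intro p
  rw [Module.mem_support_iff_of_finite, Ideal.annihilator_quotient]
  have h1 : I ^ s ≤ p.asIdeal := by
    rw [hs]
    exact bot_le
  exact Ideal.IsPrime.le_of_pow_le h1

theorem dep_dm_eq (I : Ideal A) (hI : IsNilpotent I) (M : Type u) [AddCommGroup M] [Module A M]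
    [Module.Finite A M] (hsupp : Module.support A M = Set.univ) (hM : EGA4.IsNormallyFlat I M)
    (q : Ideal A) [hq : q.IsPrime] :
    dep q M = dep q (A ⧸ I) ∧ dm q M = dm q (A ⧸ I) := by
  classical
  haveI : IsNoetherian A M := isNoetherian_of_isNoetherianRing_of_finite A M
  have hsuppI := support_quotient_eq_univ I hI
  have hqM : (⟨q, hq⟩ : PrimeSpectrum A) ∈ Module.support A M := by
    rw [hsupp]
    trivial
  have hqI : (⟨q, hq⟩ : PrimeSpectrum A) ∈ Module.support A (A ⧸ I) := by
    rw [hsuppI]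
    trivial
  have hIq : I ≤ q := by
    have := Module.mem_support_iff_of_finite.mp hqI
    rwa [Ideal.annihilator_quotient] at this
  refine ⟨?_, ?_⟩
  · obtain ⟨s, hs⟩ := hI
    have hd : dep q (A ⧸ I) ≠ ⊤ := dep_ne_top q (A ⧸ I) hqI
    have hanti : ∀ n, I ^ (n + 1) • (⊤ : Submodule A M) ≤ I ^ n • (⊤ : Submodule A M) :=
      fun n => Submodule.smul_mono_left (Ideal.pow_le_pow_right (Nat.le_succ n))
    have hbot : I ^ s • (⊤ : Submodule A M) = ⊥ := by
      rw [hs, Submodule.zero_eq_bot, Submodule.bot_smul]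
    have hF0 : I ^ 0 • (⊤ : Submodule A M) = ⊤ := by
      rw [pow_zero, Ideal.one_eq_top, Submodule.top_smul]
    have hgr : ∀ n, dep q (↥(I ^ n • (⊤ : Submodule A M)) ⧸
        (I ^ (n + 1) • (⊤ : Submodule A M)).submoduleOf (I ^ n • (⊤ : Submodule A M))) =
          dep q (A ⧸ I) ∨
        dep q (↥(I ^ n • (⊤ : Submodule A M)) ⧸
        (I ^ (n + 1) • (⊤ : Submodule A M)).submoduleOf (I ^ n • (⊤ : Submodule A M))) = ⊤ := by
      intro n
      haveI := hM n
      obtain ⟨h1, -⟩ := dep_dm_congr q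
        (Submodule.quotEquivOfEq _ _ (submoduleOf_pow_succ (M := M) I n))
      rw [h1]
      exact dep_flat_quotient I _ q hIq
    have key := dep_filtration q (dep q (A ⧸ I)) hd
      (fun n => I ^ n • (⊤ : Submodule A M)) hanti s hbot hgr s 0 (by omega)
    have e : ↥(I ^ 0 • (⊤ : Submodule A M)) ≃ₗ[A] M :=
      (LinearEquiv.ofEq _ _ hF0).trans Submodule.topEquiv
    obtain ⟨h2, -⟩ := dep_dm_congr q e
    have hne : dep q M ≠ ⊤ := dep_ne_top q M hqM
    rcases key with h0 | h0
    · rw [← h2]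
      exact h0
    · exfalso
      apply hne
      rw [← h2]
      exact h0
  · unfold dm
    rw [Groth.Agent.Lib.Helper4.TC.supportDim_localization_eq_height_of_support_eq_univ
        hsupp q,
      Groth.Agent.Lib.Helper4.TC.supportDim_localization_eq_height_of_support_eq_univ
        hsuppI q]

end Groth.Agent.R2.H77.NormFlatSkB
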