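import Mathlib
import Groth.Prelude.Def_W4c3degenlocivbPfaff

/-!
# Helper for S16355 (helper77): Pfaffians of tridiagonal matrices and sub-Pfaffians of a general
skew matrix of binary linear forms.
-/

set_option autoImplicit false
set_option linter.unusedSectionVars false
set_option linter.unusedVariables false
set_option linter.style.haveILetI false

open W4c3degenlocivb

namespace Groth.Agent.R2.H77.Pfaff

section General

variable {R S : Type*} [CommRing R] [CommRing S]

/-- The Pfaffian commutes with ring homomorphisms. -/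
theorem pf_map (φ : R →+* S) :
    ∀ (n : ℕ) (T : Matrix (Fin n) (Fin n) R), pf n (T.map φ) = φ (pf n T)
  | 0, _ => by simp [pf]
  | 1, _ => by simp [pf]
  | n + 2, T => by
    rw [pf, pf, map_sum]
    refine Finset.sum_congr rfl fun j _ => ?_
    rw [map_mul, map_mul, map_pow, map_neg, map_one,
      ← pf_map φ n (T.submatrix (Fin.castSucc ∘ j.succAbove) (Fin.castSucc ∘ j.succAbove))]
    rfl

/-- The Pfaffian of a matrix of linear forms of size `n` is homogeneous of degree `n / 2`. -/
theorem pf_isHomogeneous {σ : Type*} :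
    ∀ (n : ℕ) (T : Matrix (Fin n) (Fin n) (MvPolynomial σ R))
      (_ : ∀ i j, (T i j).IsHomogeneous 1), (pf n T).IsHomogeneous (n / 2)
  | 0, _, _ => by
    rw [pf]
    exact MvPolynomial.isHomogeneous_one _ _
  | 1, _, _ => by
    rw [pf]
    exact MvPolynomial.isHomogeneous_zero _ _ _
  | n + 2, T, hT => by
    rw [pf]
    refine MvPolynomial.IsHomogeneous.sum _ _ _ fun j _ => ?_
    have h1 : ((-1 : MvPolynomial σ R) ^ ((j : ℕ) + 1)).IsHomogeneous 0 := by
      have := ((MvPolynomial.isHomogeneous_one σ R).neg).pow ((j : ℕ) + 1)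
      rwa [zero_mul] at this
    have h2 := pf_isHomogeneous n
      (T.submatrix (Fin.castSucc ∘ j.succAbove) (Fin.castSucc ∘ j.succAbove))
      (fun a b => hT _ _)
    have h3 := (h1.mul (hT (Fin.last (n + 1)) (Fin.castSucc j))).mul h2
    have h4 : 0 + 1 + n / 2 = (n + 2) / 2 := by omega
    rwa [h4] at h3

/-- The tridiagonal alternating matrix with superdiagonal `b 0, b 1, …`. -/
def tri (b : ℕ → R) (n : ℕ) : Matrix (Fin n) (Fin n) R :=
  Matrix.of fun i j => if (j : ℕ) = i + 1 then b i else if (i : ℕ) = j + 1 then - b j else 0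

theorem tri_apply (b : ℕ → R) (n : ℕ) (i j : Fin n) :
    tri b n i j = if (j : ℕ) = i + 1 then b i else if (i : ℕ) = j + 1 then - b j else 0 := rfl

theorem pf_tri_succ_succ (b : ℕ → R) (n : ℕ) :
    pf (n + 2) (tri b (n + 2)) = (-1) ^ (n + 1) * (-(b n)) * pf n (tri b n) := by
  rw [pf]
  rw [Finset.sum_eq_single (Fin.last n)]
  · have h1 : tri b (n + 2) (Fin.last (n + 1)) (Fin.castSucc (Fin.last n)) = -(b n) := by
      rw [tri_apply]
      have e1 : ((Fin.castSucc (Fin.last n) : Fin (n + 2)) : ℕ) = n := rfl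
      have e2 : ((Fin.last (n + 1) : Fin (n + 2)) : ℕ) = n + 1 := rfl
      rw [e1, e2, if_neg (by omega), if_pos rfl]
    have h2 : (tri b (n + 2)).submatrix (Fin.castSucc ∘ (Fin.last n).succAbove)
        (Fin.castSucc ∘ (Fin.last n).succAbove) = tri b n := by
      ext p q
      rw [Matrix.submatrix_apply, tri_apply, tri_apply]
      simp [Fin.succAbove_last]
    rw [h1, h2]
    simp
  · intro j _ hj
    have hj' : (j : ℕ) ≠ n := fun h => hj (Fin.ext (by simpa using h))
    have hjlt : (j : ℕ) < n + 1 := j.2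
    have h1 : tri b (n + 2) (Fin.last (n + 1)) (Fin.castSucc j) = 0 := by
      rw [tri_apply]
      have e1 : ((Fin.castSucc j : Fin (n + 2)) : ℕ) = j := rfl
      have e2 : ((Fin.last (n + 1) : Fin (n + 2)) : ℕ) = n + 1 := rfl
      rw [e1, e2, if_neg (by omega), if_neg (by omega)]
    rw [h1, mul_zero, zero_mul]
  · intro h
    exact absurd (Finset.mem_univ _) h

theorem pf_tri_even (b : ℕ → R) (m : ℕ) :
    pf (2 * m) (tri b (2 * m)) = ∏ t ∈ Finset.range m, b (2 * t) := by
  induction m with
  | zero => simp [pf]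
  | succ m ih =>
    change pf (2 * m + 2) (tri b (2 * m + 2)) = _
    rw [pf_tri_succ_succ, ih, Finset.prod_range_succ]
    have : ((-1 : R)) ^ (2 * m + 1) = -1 := by
      rw [pow_succ, pow_mul]
      simp
    rw [this]
    ring

/-- Deleting row and column `i` from a tridiagonal alternating matrix gives a tridiagonal
alternating matrix. -/
theorem tri_submatrix_succAbove (a : ℕ → R) (n : ℕ) (i : Fin (n + 1)) :
    (tri a (n + 1)).submatrix i.succAbove i.succAbove =
      tri (fun m => if m + 1 < (i : ℕ) then a m else if m + 1 = (i : ℕ) then 0 else a (m + 1)) n := by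
  ext p q
  rw [Matrix.submatrix_apply, tri_apply, tri_apply]
  have hval : ∀ x : Fin n, ((i.succAbove x : Fin (n + 1)) : ℕ) =
      if (x : ℕ) < (i : ℕ) then (x : ℕ) else (x : ℕ) + 1 := by
    intro x
    by_cases hx : (x : ℕ) < (i : ℕ)
    · rw [if_pos hx, Fin.succAbove_of_castSucc_lt _ _ (by simpa [Fin.lt_def] using hx)]
      rfl
    · rw [if_neg hx, Fin.succAbove_of_le_castSucc _ _ (by simpa [Fin.le_def] using not_lt.mp hx)]
      rfl
  rw [hval p, hval q]
  by_cases hp : (p : ℕ) < (i : ℕ) <;> by_cases hq : (q : ℕ) < (i : ℕ)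
  · rw [if_pos hp, if_pos hq]
    by_cases h1 : (q : ℕ) = p + 1
    · rw [if_pos h1, if_pos h1, if_pos (by omega)]
    · rw [if_neg h1, if_neg h1]
      by_cases h2 : (p : ℕ) = q + 1
      · rw [if_pos h2, if_pos h2, if_pos (by omega)]
      · rw [if_neg h2, if_neg h2]
  · rw [if_pos hp, if_neg hq]
    by_cases h1 : (q : ℕ) = p + 1
    · rw [if_neg (by omega), if_neg (by omega), if_pos h1, if_neg (by omega), if_pos (by omega)]
    · rw [if_neg (by omega), if_neg (by omega), if_neg h1, if_neg (by omega)]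
  · rw [if_neg hp, if_pos hq]
    by_cases h2 : (p : ℕ) = q + 1
    · rw [if_neg (by omega), if_neg (by omega), if_neg (by omega), if_pos h2, if_neg (by omega),
        if_pos (by omega), neg_zero]
    · rw [if_neg (by omega), if_neg (by omega), if_neg (by omega), if_neg h2]
  · rw [if_neg hp, if_neg hq]
    by_cases h1 : (q : ℕ) = p + 1
    · rw [if_pos (by omega), if_pos h1, if_neg (by omega), if_neg (by omega)]
    · rw [if_neg (by omega), if_neg h1]
      by_cases h2 : (p : ℕ) = q + 1
      · rw [if_pos (by omega), if_pos h2, if_neg (by omega), if_neg (by omega)]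
      · rw [if_neg (by omega), if_neg h2]

end General

section Binary

/-- The exponent vector of `y_0^t y_1^(r-t)`. -/
noncomputable def mon (r t : ℕ) : Fin 2 →₀ ℕ := Finsupp.single 0 t + Finsupp.single 1 (r - t)

theorem mon_apply_zero (r t : ℕ) : mon r t 0 = t := by simp [mon]

theorem mon_apply_one (r t : ℕ) : mon r t 1 = r - t := by simp [mon]

theorem mon_degree (r t : ℕ) (h : t ≤ r) : (mon r t).degree = r := by
  rw [mon, map_add, Finsupp.degree_single, Finsupp.degree_single]
  omega

theorem mon_inj {r t s : ℕ} (h : mon r t = mon r s) : t = s := by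
  have := congrArg (fun d => d 0) h
  simpa [mon_apply_zero] using this

theorem eq_mon_of_degree {r : ℕ} (d : Fin 2 →₀ ℕ) (hd : d.degree = r) : d = mon r (d 0) := by
  rw [Finsupp.degree_eq_sum, Fin.sum_univ_two] at hd
  ext i
  fin_cases i
  · simp [mon_apply_zero]
  · change d 1 = mon r (d 0) 1
    rw [mon_apply_one]
    omega

variable {K : Type*} [CommRing K]

/-- A binary form of degree `r` is a combination of the monomials `y_0^t y_1^(r-t)`. -/
theorem eq_sum_mon (r : ℕ) (p : MvPolynomial (Fin 2) K) (hp : p.IsHomogeneous r) :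
    p = ∑ t : Fin (r + 1),
      MvPolynomial.coeff (mon r t) p • MvPolynomial.monomial (mon r t) (1 : K) := by
  classical
  ext d
  rw [MvPolynomial.coeff_sum]
  simp only [MvPolynomial.coeff_smul, MvPolynomial.coeff_monomial, smul_eq_mul, mul_ite, mul_one,
    mul_zero]
  by_cases hd : d.degree = r
  · have hd0 : d 0 < r + 1 := by
      have := hd
      rw [Finsupp.degree_eq_sum, Fin.sum_univ_two] at this
      omega
    rw [Finset.sum_eq_single (⟨d 0, hd0⟩ : Fin (r + 1))]
    · rw [if_pos (eq_mon_of_degree d hd).symm, ← eq_mon_of_degree d hd]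
    · intro t _ ht
      rw [if_neg]
      intro h
      apply ht
      apply Fin.ext
      have := congrArg (fun e => e 0) h
      simp only [mon_apply_zero] at this
      exact this
    · intro h
      exact absurd (Finset.mem_univ _) h
  · rw [hp.coeff_eq_zero hd]
    symm
    apply Finset.sum_eq_zero
    intro t _
    rw [if_neg]
    intro h
    apply hd
    rw [← h]
    exact mon_degree r t (by have := t.2; omega)

/-- If `v = M e` with `M` invertible then each `e t` lies in the span of the `v j`. -/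
theorem mem_span_of_det_ne_zero {F : Type*} [Field F] {ι : Type*} [Fintype ι] [DecidableEq ι]
    {V : Type*} [AddCommGroup V] [Module F V] (M : Matrix ι ι F) (hM : M.det ≠ 0) (v e : ι → V)
    (hv : ∀ j, v j = ∑ t, M j t • e t) (t : ι) : e t ∈ Submodule.span F (Set.range v) := by
  have hunit : IsUnit M.det := isUnit_iff_ne_zero.mpr hM
  have key : e t = ∑ j, M⁻¹ t j • v j := by
    have h1 : ∑ j, M⁻¹ t j • v j = ∑ s, (M⁻¹ * M) t s • e s := by
      simp_rw [hv, Finset.smul_sum, smul_smul, Matrix.mul_apply, Finset.sum_smul]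
      rw [Finset.sum_comm]
    rw [h1, Matrix.nonsing_inv_mul _ hunit]
    simp [Matrix.one_apply]
  rw [key]
  exact Submodule.sum_mem _ fun j _ => Submodule.smul_mem _ _ (Submodule.subset_span ⟨j, rfl⟩)

/-- The skew matrix of binary linear forms with coefficient array `c`. -/
noncomputable def Nmat (n : ℕ) (c : Fin n → Fin n → Fin 2 → K) :
    Matrix (Fin n) (Fin n) (MvPolynomial (Fin 2) K) :=
  Matrix.of fun a b => ∑ l : Fin 2, MvPolynomial.C (c a b l) * MvPolynomial.X l

theorem Nmat_isHomogeneous (n : ℕ) (c : Fin n → Fin n → Fin 2 → K) (a b : Fin n) :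
    (Nmat n c a b).IsHomogeneous 1 := by
  change (∑ l : Fin 2, MvPolynomial.C (c a b l) * MvPolynomial.X l :
    MvPolynomial (Fin 2) K).IsHomogeneous 1
  refine MvPolynomial.IsHomogeneous.sum _ _ _ fun l _ => ?_
  have := (MvPolynomial.isHomogeneous_C (Fin 2) (c a b l)).mul (MvPolynomial.isHomogeneous_X K l)
  rwa [zero_add] at this

theorem Nmat_map {K' : Type*} [CommRing K'] (φ : K →+* K') (n : ℕ)
    (c : Fin n → Fin n → Fin 2 → K) :
    (Nmat n c).map (MvPolynomial.map φ) = Nmat n (fun a b l => φ (c a b l)) := by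
  ext a b : 1
  simp [Nmat, Matrix.map_apply]

/-- The even indices `0, 2, …, 2r` in `Fin (2r+1)`. -/
def idx (r : ℕ) (j : Fin (r + 1)) : Fin (2 * r + 1) := ⟨2 * (j : ℕ), by have := j.2; omega⟩

/-- The matrix of coefficients of the sub-Pfaffians at the even indices. -/
noncomputable def Mc (r : ℕ) (c : Fin (2 * r + 1) → Fin (2 * r + 1) → Fin 2 → K) :
    Matrix (Fin (r + 1)) (Fin (r + 1)) K :=
  Matrix.of fun j t => MvPolynomial.coeff (mon r t)
    (pf (2 * r) ((Nmat (2 * r + 1) c).submatrix (idx r j).succAbove (idx r j).succAbove))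

theorem Mc_map {K' : Type*} [CommRing K'] (φ : K →+* K') (r : ℕ)
    (c : Fin (2 * r + 1) → Fin (2 * r + 1) → Fin 2 → K) :
    (Mc r c).map φ = Mc r (fun a b l => φ (c a b l)) := by
  ext j t
  rw [Matrix.map_apply, Mc, Mc, Matrix.of_apply, Matrix.of_apply, ← Nmat_map φ,
    ← MvPolynomial.coeff_map, ← pf_map]
  rfl

end Binary

section Example

variable (k : Type*) [Field k]

/-- The variable `y_(m mod 2)`. -/
noncomputable def avar (m : ℕ) : MvPolynomial (Fin 2) k :=
  if m % 2 = 0 then MvPolynomial.X 0 else MvPolynomial.X 1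

/-- Coefficients of `avar`. -/
def dcoef (m : ℕ) (l : Fin 2) : k := if m % 2 = (l : ℕ) then 1 else 0

theorem sum_dcoef (m : ℕ) :
    ∑ l : Fin 2, MvPolynomial.C (dcoef k m l) * MvPolynomial.X l = avar k m := by
  rw [Fin.sum_univ_two]
  unfold dcoef avar
  rcases Nat.mod_two_eq_zero_or_one m with h | h <;> simp [h]

/-- The tridiagonal coefficient array. -/
def c0 (n : ℕ) (i j : Fin n) (l : Fin 2) : k :=
  if (j : ℕ) = i + 1 then dcoef k i l else if (i : ℕ) = j + 1 then - dcoef k j l else 0

theorem c0_antisymm (n : ℕ) (i j : Fin n) (l : Fin 2) : c0 k n j i l = - c0 k n i j l := by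
  unfold c0
  by_cases h1 : (j : ℕ) = i + 1
  · rw [if_neg (by omega), if_pos h1, if_pos h1]
  · rw [if_neg h1]
    by_cases h2 : (i : ℕ) = j + 1
    · rw [if_pos h2, if_neg h1, if_pos h2, neg_neg]
    · rw [if_neg h2, if_neg h1, if_neg h2, neg_zero]

theorem Nmat_c0 (n : ℕ) : Nmat n (c0 k n) = tri (avar k) n := by
  ext a b : 1
  rw [tri_apply]
  change ∑ l : Fin 2, MvPolynomial.C (c0 k n a b l) * MvPolynomial.X l = _
  unfold c0
  by_cases h1 : (b : ℕ) = a + 1
  · simp only [if_pos h1]
    exact sum_dcoef k _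
  · simp only [if_neg h1]
    by_cases h2 : (a : ℕ) = b + 1
    · simp only [if_pos h2, map_neg, neg_mul, Finset.sum_neg_distrib]
      rw [sum_dcoef]
    · simp only [if_neg h2, map_zero, zero_mul, Finset.sum_const_zero]

theorem pf_c0 (r : ℕ) (j : Fin (r + 1)) :
    pf (2 * r) ((Nmat (2 * r + 1) (c0 k (2 * r + 1))).submatrix (idx r j).succAbove
      (idx r j).succAbove) = MvPolynomial.monomial (mon r j) (1 : k) := by
  have hj : (j : ℕ) ≤ r := by have := j.2; omega
  rw [Nmat_c0, tri_submatrix_succAbove, pf_tri_even]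
  have h1 : ∀ t ∈ Finset.range r,
      (if 2 * t + 1 < ((idx r j : Fin (2 * r + 1)) : ℕ) then avar k (2 * t)
        else if 2 * t + 1 = ((idx r j : Fin (2 * r + 1)) : ℕ) then 0 else avar k (2 * t + 1)) =
      if t < (j : ℕ) then (MvPolynomial.X 0 : MvPolynomial (Fin 2) k) else MvPolynomial.X 1 := by
    intro t _
    have e : ((idx r j : Fin (2 * r + 1)) : ℕ) = 2 * (j : ℕ) := rfl
    rw [e]
    by_cases ht : t < (j : ℕ)
    · rw [if_pos (by omega), if_pos ht]
      unfold avar
      rw [if_pos (by omega)]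
    · rw [if_neg (by omega), if_neg (by omega), if_neg ht]
      unfold avar
      rw [if_neg (by omega)]
  rw [Finset.prod_congr rfl h1, ← Finset.prod_range_mul_prod_Ico _ hj]
  have h2 : ∀ t ∈ Finset.range (j : ℕ),
      (if t < (j : ℕ) then (MvPolynomial.X 0 : MvPolynomial (Fin 2) k) else MvPolynomial.X 1) =
        MvPolynomial.X 0 := by
    intro t ht
    rw [if_pos (Finset.mem_range.mp ht)]
  have h3 : ∀ t ∈ Finset.Ico (j : ℕ) r,
      (if t < (j : ℕ) then (MvPolynomial.X 0 : MvPolynomial (Fin 2) k) else MvPolynomial.X 1) =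
        MvPolynomial.X 1 := by
    intro t ht
    rw [if_neg (by have := (Finset.mem_Ico.mp ht).1; omega)]
  rw [Finset.prod_congr rfl h2, Finset.prod_congr rfl h3, Finset.prod_const, Finset.prod_const,
    Finset.card_range, Nat.card_Ico, MvPolynomial.X_pow_eq_monomial, MvPolynomial.X_pow_eq_monomial,
    MvPolynomial.monomial_mul, mul_one, mon]

theorem Mc_c0 (r : ℕ) : Mc r (c0 k (2 * r + 1)) = 1 := by
  classical
  ext j t
  rw [Mc, Matrix.of_apply, pf_c0, MvPolynomial.coeff_monomial, Matrix.one_apply]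
  by_cases h : j = t
  · rw [if_pos h, if_pos (by rw [h])]
  · rw [if_neg h, if_neg]
    intro h'
    exact h (Fin.ext (mon_inj h'))

/-- Main theorem for S16355. -/
theorem main (r : ℕ) :
    ∃ Φ : MvPolynomial (Fin (2 * r + 1) × Fin (2 * r + 1) × Fin 2) k,
      (∃ c : Fin (2 * r + 1) → Fin (2 * r + 1) → Fin 2 → k, (∀ i j l, c j i l = -c i j l) ∧
        MvPolynomial.eval (fun p => c p.1 p.2.1 p.2.2) Φ ≠ 0) ∧
      ∀ c : Fin (2 * r + 1) → Fin (2 * r + 1) → Fin 2 → k,
        MvPolynomial.eval (fun p => c p.1 p.2.1 p.2.2) Φ ≠ 0 →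
        Submodule.span k (Set.range fun i : Fin (2 * r + 1) =>
            pf (2 * r) ((Matrix.of fun a b => ∑ l : Fin 2,
              MvPolynomial.C (c a b l) * MvPolynomial.X l).submatrix i.succAbove i.succAbove)) =
          MvPolynomial.homogeneousSubmodule (Fin 2) k r := by
  classical
  let cgen : Fin (2 * r + 1) → Fin (2 * r + 1) → Fin 2 →
      MvPolynomial (Fin (2 * r + 1) × Fin (2 * r + 1) × Fin 2) k :=
    fun a b l => MvPolynomial.X (a, b, l)
  have hev : ∀ c : Fin (2 * r + 1) → Fin (2 * r + 1) → Fin 2 → k,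
      MvPolynomial.eval (fun p => c p.1 p.2.1 p.2.2) (Mc r cgen).det = (Mc r c).det := by
    intro c
    rw [RingHom.map_det, RingHom.mapMatrix_apply, Mc_map]
    congr 2
    funext a b l
    simp [cgen]
  refine ⟨(Mc r cgen).det, ⟨c0 k (2 * r + 1), fun i j l => c0_antisymm k _ i j l, ?_⟩, ?_⟩
  · rw [hev, Mc_c0, Matrix.det_one]
    exact one_ne_zero
  · intro c hc
    rw [hev] at hc
    have hhom : ∀ i : Fin (2 * r + 1),
        (pf (2 * r) ((Nmat (2 * r + 1) c).submatrix i.succAbove i.succAbove)).IsHomogeneous r := by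
      intro i
      have := pf_isHomogeneous (2 * r) ((Nmat (2 * r + 1) c).submatrix i.succAbove i.succAbove)
        (fun a b => Nmat_isHomogeneous _ c _ _)
      rwa [Nat.mul_div_cancel_left _ (by norm_num : 0 < 2)] at this
    change Submodule.span k (Set.range fun i : Fin (2 * r + 1) =>
      pf (2 * r) ((Nmat (2 * r + 1) c).submatrix i.succAbove i.succAbove)) = _
    apply le_antisymm
    · rw [Submodule.span_le]
      rintro _ ⟨i, rfl⟩
      exact hhom i
    · intro p hp
      rw [eq_sum_mon r p hp]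
      refine Submodule.sum_mem _ fun t _ => Submodule.smul_mem _ _ ?_
      have hmem := mem_span_of_det_ne_zero (Mc r c) hc
        (fun j : Fin (r + 1) => pf (2 * r) ((Nmat (2 * r + 1) c).submatrix (idx r j).succAbove
          (idx r j).succAbove))
        (fun t : Fin (r + 1) => MvPolynomial.monomial (mon r t) (1 : k))
        (fun j => eq_sum_mon r _ (hhom (idx r j))) t
      refine Submodule.span_mono ?_ hmem
      rintro _ ⟨j, rfl⟩
      exact ⟨idx r j, rfl⟩

end Example

end Groth.Agent.R2.H77.Pfaff
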