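import Mathlib
import Groth.Agent.R2.H77ApproxDVR

/-!
# Helper for S7938 (helper77): rational functions with prescribed orders at finitely many
codimension-one points of a normal Noetherian integral separated scheme.
-/

set_option linter.style.longLine false
set_option linter.unusedVariables false
set_option linter.unusedSectionVars false

universe u

open AlgebraicGeometry CategoryTheory

namespace Groth.Agent.R2.H77.PrescribedOrders

/-- A Noetherian local domain, integrally closed, of Krull dimension one is a DVR. -/
theorem isDiscreteValuationRing_of_dim_one (R : Type u) [CommRing R] [IsDomain R] [IsLocalRing R]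
    [IsNoetherianRing R] [IsIntegrallyClosed R] (h : ringKrullDim R = 1) :
    IsDiscreteValuationRing R := by
  have hnf : ¬ IsField R := fun hf => by
    have := ringKrullDim_eq_zero_of_isField hf
    rw [h] at this
    exact one_ne_zero this
  have hdim : Ring.KrullDimLE 1 R := Ring.krullDimLE_iff.mpr (le_of_eq (by rw [h]; rfl))
  have hD : IsDedekindDomain R :=
    { toIsDomain := inferInstance
      toIsNoetherian := inferInstance
      toDimensionLEOne := ⟨fun {p} hp hpp =>
        Ring.krullDimLE_one_iff_of_noZeroDivisors.mp hdim p hp hpp⟩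
      toIsIntegralClosure := inferInstance }
  exact ((IsDiscreteValuationRing.TFAE R hnf).out 0 2).mpr hD

section scheme

variable (X : Scheme.{u}) [IsIntegral X]

/-- the image of the local ring at `x` in the function field -/
noncomputable def stalkRange (x : X) : Subring X.functionField :=
  (algebraMap (X.presheaf.stalk x) X.functionField).range

theorem algebraMap_stalk_injective (x : X) :
    Function.Injective (algebraMap (X.presheaf.stalk x) X.functionField) :=
  IsFractionRing.injective _ _

/-- the local ring at `x` is isomorphic to its image in the function field -/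
noncomputable def stalkEquivRange (x : X) : X.presheaf.stalk x ≃+* stalkRange X x :=
  RingEquiv.ofBijective (algebraMap (X.presheaf.stalk x) X.functionField).rangeRestrict
    ⟨fun a b hab => algebraMap_stalk_injective X x (congrArg Subtype.val hab),
      RingHom.rangeRestrict_surjective _⟩

theorem stalkEquivRange_coe (x : X) (a : X.presheaf.stalk x) :
    ((stalkEquivRange X x a : stalkRange X x) : X.functionField) =
      algebraMap (X.presheaf.stalk x) X.functionField a := rfl

/-- A point of a separated integral scheme is determined by its local ring inside the function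
field. -/
theorem eq_of_stalkRange_eq [X.IsSeparated] (x y : X) (h : stalkRange X x = stalkRange X y) :
    x = y := by
  let φ : X.presheaf.stalk y ≃+* X.presheaf.stalk x :=
    (stalkEquivRange X y).trans ((RingEquiv.subringCongr h.symm).trans (stalkEquivRange X x).symm)
  have hφ : ∀ b, algebraMap (X.presheaf.stalk x) X.functionField (φ b) =
      algebraMap (X.presheaf.stalk y) X.functionField b := by
    intro b
    rw [← stalkEquivRange_coe X x (φ b), ← stalkEquivRange_coe X y b]
    simp only [φ, RingEquiv.trans_apply, RingEquiv.apply_symm_apply]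
    rfl
  let ψ : X.presheaf.stalk y ⟶ X.presheaf.stalk x := CommRingCat.ofHom φ.toRingHom
  have hx : genericPoint X ⤳ x := genericPoint_specializes x
  have hy : genericPoint X ⤳ y := genericPoint_specializes y
  have hψ : ψ ≫ X.presheaf.stalkSpecializes hx = X.presheaf.stalkSpecializes hy := by
    ext b
    exact hφ b
  have hinj : Function.Injective (X.presheaf.stalkSpecializes hx).hom :=
    IsFractionRing.injective (X.presheaf.stalk x) X.functionField
  have hdom : IsDominant (Spec.map (X.presheaf.stalkSpecializes hx)) := by
    rw [isDominant_iff]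
    apply (PrimeSpectrum.denseRange_comap_iff_ker_le_nilRadical _).mpr
    rw [(RingHom.injective_iff_ker_eq_bot _).mp hinj]
    exact bot_le
  have key : X.fromSpecStalk x = Spec.map ψ ≫ X.fromSpecStalk y := by
    apply ext_of_isDominant (Spec.map (X.presheaf.stalkSpecializes hx))
    rw [Scheme.SpecMap_stalkSpecializes_fromSpecStalk, ← Category.assoc, ← Spec.map_comp, hψ,
      Scheme.SpecMap_stalkSpecializes_fromSpecStalk]
  have h1 := Scheme.fromSpecStalk_closedPoint (X := X) (x := x)
  rw [key, Scheme.Hom.comp_apply] at h1
  have h2 : (Spec.map ψ) (IsLocalRing.closedPoint (X.presheaf.stalk x)) =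
      IsLocalRing.closedPoint (X.presheaf.stalk y) := by
    have : IsLocalHom ψ.hom := by
      change IsLocalHom φ.toRingHom
      exact ⟨fun a ha => by
        have h3 : IsUnit (φ a) := ha
        have h4 := h3.map φ.symm
        rwa [RingEquiv.symm_apply_apply] at h4⟩
    exact IsLocalRing.comap_closedPoint ψ.hom
  rw [h2, Scheme.fromSpecStalk_closedPoint] at h1
  exact h1.symm

/-- the valuation subring of the function field attached to a point whose local ring is a DVR -/
noncomputable def valSub (x : X) [hv : ValuationRing (X.presheaf.stalk x)] :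
    ValuationSubring X.functionField :=
  { stalkRange X x with
    mem_or_inv_mem' := fun y => by
      rcases ValuationRing.isInteger_or_isInteger (X.presheaf.stalk x) y with ⟨a, ha⟩ | ⟨a, ha⟩
      · exact Or.inl ⟨a, ha⟩
      · exact Or.inr ⟨a, ha⟩ }

theorem mem_valSub_iff (x : X) [hv : ValuationRing (X.presheaf.stalk x)] (y : X.functionField) :
    y ∈ valSub X x ↔ ∃ a, algebraMap (X.presheaf.stalk x) X.functionField a = y := Iff.rfl

/-- the local ring is isomorphic to the valuation subring -/
noncomputable def stalkEquivValSub (x : X) [hv : ValuationRing (X.presheaf.stalk x)] :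
    X.presheaf.stalk x ≃+* valSub X x :=
  RingEquiv.ofBijective
    (RingHom.codRestrict (algebraMap (X.presheaf.stalk x) X.functionField) (valSub X x)
      (fun a => ⟨a, rfl⟩))
    ⟨fun a b hab => algebraMap_stalk_injective X x (congrArg Subtype.val hab),
      fun ⟨y, a, ha⟩ => ⟨a, Subtype.ext ha⟩⟩

theorem stalkEquivValSub_coe (x : X) [hv : ValuationRing (X.presheaf.stalk x)]
    (a : X.presheaf.stalk x) :
    ((stalkEquivValSub X x a : valSub X x) : X.functionField) =
      algebraMap (X.presheaf.stalk x) X.functionField a := rfl

theorem valSub_toSubring (x : X) [hv : ValuationRing (X.presheaf.stalk x)] :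
    (valSub X x).toSubring = stalkRange X x := rfl

end scheme

/-- **S7938.** -/
theorem main (X : Scheme.{u}) [IsIntegral X] [IsNoetherian X] [X.IsSeparated]
    (hnor : ∀ x : X, IsIntegrallyClosed (X.presheaf.stalk x))
    {r : ℕ} (ξ : Fin r → X) (hξ : Function.Injective ξ)
    (hcodim : ∀ i, ringKrullDim (X.presheaf.stalk (ξ i)) = 1) (n : Fin r → ℤ) :
    ∃ f : X.functionField, f ≠ 0 ∧ ∀ i : Fin r,
      ∃ (ϖ : X.presheaf.stalk (ξ i)) (_ : Irreducible ϖ) (w : (X.presheaf.stalk (ξ i))ˣ),
        f = algebraMap (X.presheaf.stalk (ξ i)) X.functionField (w : X.presheaf.stalk (ξ i)) *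
          algebraMap (X.presheaf.stalk (ξ i)) X.functionField ϖ ^ (n i) := by
  have hdvr : ∀ i, IsDiscreteValuationRing (X.presheaf.stalk (ξ i)) := fun i => by
    have := hnor (ξ i)
    exact isDiscreteValuationRing_of_dim_one _ (hcodim i)
  have hvr : ∀ i, ValuationRing (X.presheaf.stalk (ξ i)) := fun i => by
    have := hdvr i
    infer_instance
  rcases Nat.eq_zero_or_pos r with hr | hr
  · subst hr
    exact ⟨1, one_ne_zero, fun i => i.elim0⟩
  let O : Fin r → ValuationSubring X.functionField := fun i => @valSub X _ (ξ i) (hvr i)
  have hO : ∀ i, IsDiscreteValuationRing (O i) := fun i => by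
    have := hdvr i
    exact IsDiscreteValuationRing.RingEquivClass.isDiscreteValuationRing (@stalkEquivValSub X _ (ξ i) (hvr i))
  have hinj : Function.Injective O := by
    intro i j hij
    apply hξ
    apply eq_of_stalkRange_eq X
    have := congrArg ValuationSubring.toSubring hij
    exact this
  obtain ⟨f, hf⟩ := Groth.Agent.R2.H77.ApproxDVR.main X.functionField O hO hinj (fun _ => 0) n
  have hfi : ∀ i : Fin r,
      ∃ (ϖ : X.presheaf.stalk (ξ i)) (_ : Irreducible ϖ) (w : (X.presheaf.stalk (ξ i))ˣ),
        f = algebraMap (X.presheaf.stalk (ξ i)) X.functionField (w : X.presheaf.stalk (ξ i)) *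
          algebraMap (X.presheaf.stalk (ξ i)) X.functionField ϖ ^ (n i) := by
    intro i
    obtain ⟨ϖ, hϖ, w, hw⟩ := hf i
    let e := @stalkEquivValSub X _ (ξ i) (hvr i)
    refine ⟨e.symm ϖ, (MulEquiv.irreducible_iff e.symm.toMulEquiv).2 hϖ,
      Units.map e.symm.toRingHom.toMonoidHom w, ?_⟩
    have h1 : algebraMap (X.presheaf.stalk (ξ i)) X.functionField (e.symm ϖ) = (ϖ : X.functionField) := by
      rw [← @stalkEquivValSub_coe X _ (ξ i) (hvr i) (e.symm ϖ)]
      exact congrArg Subtype.val (e.apply_symm_apply ϖ)
    have h2 : algebraMap (X.presheaf.stalk (ξ i)) X.functionField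
        ((Units.map e.symm.toRingHom.toMonoidHom w : (X.presheaf.stalk (ξ i))ˣ) :
          X.presheaf.stalk (ξ i)) = ((w : O i) : X.functionField) := by
      rw [← @stalkEquivValSub_coe X _ (ξ i) (hvr i)]
      exact congrArg Subtype.val (e.apply_symm_apply (w : O i))
    rw [h1, h2, ← hw, sub_zero]
  refine ⟨f, ?_, hfi⟩
  obtain ⟨ϖ, hϖ, w, hw⟩ := hfi ⟨0, hr⟩
  rw [hw]
  refine mul_ne_zero ?_ (zpow_ne_zero _ ?_)
  · exact (map_ne_zero_iff _ (algebraMap_stalk_injective X _)).2 w.ne_zero
  · exact (map_ne_zero_iff _ (algebraMap_stalk_injective X _)).2 hϖ.ne_zero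

end Groth.Agent.R2.H77.PrescribedOrders
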