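import Mathlib
import Groth.Agent.S2082
import Groth.Agent.Lib.Helper19PsDim
import Groth.Agent.Lib.Helper7ComplKaehler
import Groth.Agent.Lib.Helper5RLR3
import Groth.Agent.Lib.Helper5SamuelAdd

/-!
# A complete regular local ring is finite free over the power series ring on a system of
parameters (helper77)
-/

set_option autoImplicit false
set_option linter.unusedSectionVars false
set_option linter.style.haveILetI false
universe u v

open IsLocalRing

namespace Groth.Agent.R2.H77.PsFree

attribute [local instance] Groth.Agent.Lib.Helper19.isAdicComplete_field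

section Same

variable (A : Type u) [CommRing A] [IsRegularLocalRing A]
  [IsAdicComplete (maximalIdeal A) A] (n : ℕ) (hn : ringKrullDim A = n)
  (k : Type u) [Field k]
  (x : Fin n → A) (hx : (Ideal.span (Set.range x)).radical = maximalIdeal A)
  (φ : MvPowerSeries (Fin n) k →+* A) (hφ : ∀ i, φ (MvPowerSeries.X i) = x i)
  (hres : Function.Surjective (fun c : k => residue A (φ (MvPowerSeries.C c))))

include hx in
theorem span_le_maximalIdeal : Ideal.span (Set.range x) ≤ maximalIdeal A := by
  rw [← hx]; exact Ideal.le_radical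

include hφ in
theorem map_maximalIdeal :
    (maximalIdeal (MvPowerSeries (Fin n) k)).map φ = Ideal.span (Set.range x) := by
  rw [Groth.Agent.Lib.Helper19.maximalIdeal_mvPowerSeries_eq, Ideal.map_span]
  congr 1
  ext y
  constructor
  · rintro ⟨_, ⟨i, rfl⟩, rfl⟩
    exact ⟨i, (hφ i).symm⟩
  · rintro ⟨i, rfl⟩
    exact ⟨_, ⟨i, rfl⟩, hφ i⟩

include hx in
theorem isFiniteLength_quotient : IsFiniteLength A (A ⧸ Ideal.span (Set.range x)) := by
  have hle : maximalIdeal A ≤ (Ideal.span (Set.range x)).radical := hx.ge
  obtain ⟨N, hN⟩ := Ideal.exists_pow_le_of_le_radical_of_fg hle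
    (IsNoetherian.noetherian (maximalIdeal A))
  refine Groth.Agent.Lib.Helper5.SamuelAdd.isFiniteLength_quotient (Ideal.span (Set.range x)) N hN A
    (Ideal.span (Set.range x)) 1 ?_
  rw [pow_one]
  intro y hy
  refine Submodule.smul_induction_on hy ?_ ?_
  · intro a ha z _
    exact Ideal.mul_mem_right _ _ ha
  · intro a b ha hb
    exact Ideal.add_mem _ ha hb

include hn hx hφ hres in
theorem exists_basis_same :
    ∃ (d : ℕ) (b : Fin d → A), (d : ℕ∞) = Module.length A (A ⧸ Ideal.span (Set.range x)) ∧
      Function.Bijective (fun r : Fin d → MvPowerSeries (Fin n) k => ∑ i, φ (r i) * b i) := by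
  classical
  letI : Algebra (MvPowerSeries (Fin n) k) A := φ.toAlgebra
  have halg : ∀ z, algebraMap (MvPowerSeries (Fin n) k) A z = φ z := fun z => rfl
  have hmap : (maximalIdeal (MvPowerSeries (Fin n) k)).map
      (algebraMap (MvPowerSeries (Fin n) k) A) = Ideal.span (Set.range x) :=
    map_maximalIdeal A n k x φ hφ
  have hJle := span_le_maximalIdeal A n x hx
  haveI : IsLocalHom (algebraMap (MvPowerSeries (Fin n) k) A) :=
    ((IsLocalRing.local_hom_TFAE (algebraMap (MvPowerSeries (Fin n) k) A)).out 0 2).mpr
      (hmap.le.trans hJle)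
  have hfl := isFiniteLength_quotient A n x hx
  rw [← hmap] at hfl ⊢
  set pS := (maximalIdeal (MvPowerSeries (Fin n) k)).map
      (algebraMap (MvPowerSeries (Fin n) k) A) with hpS
  -- residue fields
  have hresB : Function.Surjective (algebraMap (ResidueField (MvPowerSeries (Fin n) k))
      (ResidueField A)) := by
    intro y
    obtain ⟨c, hc⟩ := hres y
    refine ⟨residue _ (MvPowerSeries.C c), ?_⟩
    rw [← hc]
    rfl
  have hlen1 : Module.length (ResidueField (MvPowerSeries (Fin n) k)) (ResidueField A) = 1 := by
    rw [Module.length_eq_of_surjective hresB]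
    exact Module.length_eq_one _ _
  have hlenBA : Module.length (MvPowerSeries (Fin n) k) (A ⧸ pS) = Module.length A (A ⧸ pS) := by
    rw [IsLocalRing.length_restrictScalars (MvPowerSeries (Fin n) k) A (A ⧸ pS), hlen1, mul_one]
  -- finiteness
  have hfinq : Module.Finite (MvPowerSeries (Fin n) k) (A ⧸ pS) := by
    have h1 : IsFiniteLength (MvPowerSeries (Fin n) k) (A ⧸ pS) := by
      rw [← Module.length_ne_top_iff, hlenBA, Module.length_ne_top_iff]
      exact hfl
    haveI := (isFiniteLength_iff_isNoetherian_isArtinian.mp h1).1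
    exact Module.IsNoetherian.finite _ _
  haveI hcomplB : IsAdicComplete (maximalIdeal (MvPowerSeries (Fin n) k))
      (MvPowerSeries (Fin n) k) := Groth.Agent.Lib.Helper19.isAdicComplete_mvPowerSeries
  have hpSle : pS ≤ maximalIdeal A := hmap.le.trans hJle
  haveI hhaus : IsHausdorff (maximalIdeal (MvPowerSeries (Fin n) k)) A := by
    refine ⟨fun y hy => ?_⟩
    apply IsHausdorff.haus' (I := maximalIdeal A) y
    intro j
    have hj := hy j
    rw [SModEq.zero] at hj ⊢
    refine Submodule.smul_induction_on hj ?_ ?_
    · intro a ha z _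
      have h1 : algebraMap (MvPowerSeries (Fin n) k) A a ∈ maximalIdeal A ^ j := by
        have h2 : algebraMap (MvPowerSeries (Fin n) k) A a ∈
            (maximalIdeal (MvPowerSeries (Fin n) k) ^ j).map
              (algebraMap (MvPowerSeries (Fin n) k) A) := Ideal.mem_map_of_mem _ ha
        rw [Ideal.map_pow] at h2
        exact Ideal.pow_right_mono hpSle j h2
      rw [Algebra.smul_def]
      exact Submodule.smul_mem_smul h1 (Submodule.mem_top : z ∈ (⊤ : Submodule A A))
    · intro a b ha hb
      exact Submodule.add_mem _ ha hb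
  have hfin : Module.Finite (MvPowerSeries (Fin n) k) A := by
    obtain ⟨r, s, hs⟩ := Module.Finite.exists_fin (R := MvPowerSeries (Fin n) k) (M := A ⧸ pS)
    choose l hl using fun i => Ideal.Quotient.mk_surjective (s i)
    refine Groth.Agent.Lib.Helper7.ComplKaehler.finite_of_isHausdorff_of_finite_quotient
      (maximalIdeal (MvPowerSeries (Fin n) k)) l (fun y => ?_)
    have hy : Ideal.Quotient.mk pS y ∈ Submodule.span (MvPowerSeries (Fin n) k) (Set.range s) := by
      rw [hs]; trivial
    obtain ⟨c, hc⟩ := (Submodule.mem_span_range_iff_exists_fun _).mp hy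
    refine ⟨c, ?_⟩
    rw [Ideal.smul_top_eq_map, Submodule.restrictScalars_mem, ← Ideal.Quotient.eq_zero_iff_mem,
      map_sub, ← hc, map_sum]
    rw [sub_eq_zero]
    refine Finset.sum_congr rfl fun i _ => ?_
    rw [← hl i, Algebra.smul_def, Algebra.smul_def, map_mul]
    rfl
  -- flatness by miracle flatness
  have hdim0 : ringKrullDim (A ⧸ pS) = 0 := by
    haveI : Nontrivial (A ⧸ pS) :=
      Ideal.Quotient.nontrivial_iff.mpr (fun h => (maximalIdeal.isMaximal A).ne_top
        (top_le_iff.mp (h ▸ hpSle)))
    rw [← ringKrullDimZero_iff_ringKrullDim_eq_zero,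
      Ideal.krullDimLE_zero_quotient_iff_forall_minimalPrimes_isMaximal]
    intro Q hQ
    have hQp : Q.IsPrime := hQ.1.1
    have hle : maximalIdeal A ≤ Q := by
      rw [← hx, ← hmap]
      exact (hQp.radical_le_iff).mpr hQ.1.2
    have : Q = maximalIdeal A :=
      ((maximalIdeal.isMaximal A).eq_of_le hQp.ne_top hle).symm
    rw [this]
    exact maximalIdeal.isMaximal A
  haveI : LocCoh.IsCohenMacaulayLocalRing A :=
    Groth.Agent.Lib.Helper5.isCohenMacaulayLocalRing_of_isRegularLocalRing A
  have hflat : Module.Flat (MvPowerSeries (Fin n) k) A := by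
    apply Groth.Agent.S2082.result
    rw [hdim0, add_zero, hn, Groth.Agent.Lib.Helper19.ringKrullDim_mvPowerSeries]
  haveI : Module.Free (MvPowerSeries (Fin n) k) A := Module.free_of_flat_of_isLocalRing
  let b := Module.finBasis (MvPowerSeries (Fin n) k) A
  refine ⟨Module.finrank (MvPowerSeries (Fin n) k) A, fun i => b i, ?_, ?_⟩
  · rw [← hlenBA]
    have h1 : Module.length (MvPowerSeries (Fin n) k) (A ⧸ pS) =
        Module.length (MvPowerSeries (Fin n) k ⧸ maximalIdeal (MvPowerSeries (Fin n) k)) (A ⧸ pS) :=
      Module.length_eq_of_surjective Ideal.Quotient.mk_surjective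
    letI : Field (MvPowerSeries (Fin n) k ⧸ maximalIdeal (MvPowerSeries (Fin n) k)) :=
      Ideal.Quotient.field _
    haveI : Module.Finite (MvPowerSeries (Fin n) k ⧸ maximalIdeal (MvPowerSeries (Fin n) k))
        (A ⧸ pS) := Module.Finite.of_restrictScalars_finite (MvPowerSeries (Fin n) k) _ _
    rw [h1, Module.length_eq_finrank, IsLocalRing.finrank_quotient_map]
  · have hfun : (fun r : Fin (Module.finrank (MvPowerSeries (Fin n) k) A) →
        MvPowerSeries (Fin n) k => ∑ i, φ (r i) * b i) = fun r => b.equivFun.symm r := by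
      funext r
      rw [Module.Basis.equivFun_symm_apply]
      refine Finset.sum_congr rfl fun i _ => ?_
      rw [Algebra.smul_def]
      rfl
    rw [hfun]
    exact b.equivFun.symm.bijective

end Same

section General

variable (A : Type u) [CommRing A] [IsRegularLocalRing A]
  [IsAdicComplete (maximalIdeal A) A] (n : ℕ) (hn : ringKrullDim A = n)
  (k : Type v) [Field k] [Algebra k A]
  (hk : Function.Surjective (residue A ∘ algebraMap k A))
  (x : Fin n → A) (hx : (Ideal.span (Set.range x)).radical = maximalIdeal A)
  (φ : MvPowerSeries (Fin n) k →ₐ[k] A) (hφ : ∀ i, φ (MvPowerSeries.X i) = x i)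

include hn hk hx hφ in
/-- A complete regular local ring with coefficient field `k` is finite free over the power series
ring on a system of parameters, of rank the length of the quotient by the parameters. -/
theorem exists_basis :
    ∃ (d : ℕ) (b : Fin d → A), (d : ℕ∞) = Module.length A (A ⧸ Ideal.span (Set.range x)) ∧
      Function.Bijective (fun r : Fin d → MvPowerSeries (Fin n) k => ∑ i, φ (r i) * b i) := by
  let e : k ≃+* ResidueField A :=
    RingEquiv.ofBijective ((residue A).comp (algebraMap k A))
      ⟨RingHom.injective _, hk⟩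
  let ψ : MvPowerSeries (Fin n) (ResidueField A) →+* MvPowerSeries (Fin n) k :=
    MvPowerSeries.map (e.symm : ResidueField A →+* k)
  let ψi : MvPowerSeries (Fin n) k →+* MvPowerSeries (Fin n) (ResidueField A) :=
    MvPowerSeries.map (e : k →+* ResidueField A)
  have hψ : ∀ z, ψ (ψi z) = z := by
    intro z
    have : ψ.comp ψi = RingHom.id _ := by
      rw [← MvPowerSeries.map_comp]
      have h1 : (e.symm : ResidueField A →+* k).comp (e : k →+* ResidueField A) = RingHom.id k := by
        ext c; simp
      rw [h1, MvPowerSeries.map_id]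
    exact congrArg (fun f => f z) this
  have hψ' : ∀ z, ψi (ψ z) = z := by
    intro z
    have : ψi.comp ψ = RingHom.id _ := by
      rw [← MvPowerSeries.map_comp]
      have h1 : (e : k →+* ResidueField A).comp (e.symm : ResidueField A →+* k) =
          RingHom.id (ResidueField A) := by
        ext c; simp
      rw [h1, MvPowerSeries.map_id]
    exact congrArg (fun f => f z) this
  let φ' : MvPowerSeries (Fin n) (ResidueField A) →+* A := (φ : _ →+* A).comp ψ
  have hφ' : ∀ i, φ' (MvPowerSeries.X i) = x i := by
    intro i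
    show φ (ψ (MvPowerSeries.X i)) = x i
    rw [MvPowerSeries.map_X, hφ]
  have hres : Function.Surjective
      (fun c : ResidueField A => residue A (φ' (MvPowerSeries.C c))) := by
    intro y
    refine ⟨y, ?_⟩
    show residue A (φ (ψ (MvPowerSeries.C y))) = y
    rw [MvPowerSeries.map_C, MvPowerSeries.c_eq_algebraMap, AlgHom.commutes]
    exact e.apply_symm_apply y
  obtain ⟨d, b, hd, hb⟩ := exists_basis_same A n hn (ResidueField A) x hx φ' hφ' hres
  refine ⟨d, b, hd, ?_⟩
  have hfun : (fun r : Fin d → MvPowerSeries (Fin n) k => ∑ i, φ (r i) * b i) =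
      (fun r : Fin d → MvPowerSeries (Fin n) (ResidueField A) => ∑ i, φ' (r i) * b i) ∘
        (fun r i => ψi (r i)) := by
    funext r
    simp only [Function.comp_apply]
    refine Finset.sum_congr rfl fun i _ => ?_
    show φ (r i) * b i = φ (ψ (ψi (r i))) * b i
    rw [hψ]
  rw [hfun]
  refine hb.comp ?_
  refine Function.bijective_iff_has_inverse.mpr ⟨fun r i => ψ (r i), ?_, ?_⟩
  · intro r; funext i; exact hψ _
  · intro r; funext i; exact hψ' _

end General

end Groth.Agent.R2.H77.PsFree
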