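import Mathlib

/-!
# Regularity along flat local homomorphisms with `m_A B = m_B`
-/

set_option autoImplicit false

namespace Groth.Agent.R2.H77.RegFlat

open IsLocalRing

variable {A B : Type*} [CommRing A] [CommRing B] [IsLocalRing A] [IsLocalRing B]
  [IsNoetherianRing A] [IsNoetherianRing B] [Algebra A B]

theorem isLocalHom_of_map_eq (h : (maximalIdeal A).map (algebraMap A B) = maximalIdeal B) :
    IsLocalHom (algebraMap A B) :=
  ((IsLocalRing.local_hom_TFAE _).out 0 2).mpr h.le

theorem comap_eq_of_map_eq (h : (maximalIdeal A).map (algebraMap A B) = maximalIdeal B) :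
    (maximalIdeal B).comap (algebraMap A B) = maximalIdeal A :=
  ((IsLocalRing.local_hom_TFAE _).out 2 4).mp h.le

theorem ringKrullDim_eq [Module.Flat A B]
    (h : (maximalIdeal A).map (algebraMap A B) = maximalIdeal B) :
    ringKrullDim B = ringKrullDim A := by
  have : (maximalIdeal B).LiesOver (maximalIdeal A) :=
    ⟨by rw [Ideal.under_def]; exact (comap_eq_of_map_eq h).symm⟩
  have key := Ideal.height_eq_height_add_of_liesOver_of_hasGoingDown
    (maximalIdeal A) (maximalIdeal B)
  rw [h, Ideal.map_quotient_self, Ideal.height_bot, add_zero] at key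
  rw [← IsLocalRing.maximalIdeal_height_eq_ringKrullDim,
    ← IsLocalRing.maximalIdeal_height_eq_ringKrullDim, key]

theorem spanFinrank_le_of_map_eq [Module.Flat A B]
    (h : (maximalIdeal A).map (algebraMap A B) = maximalIdeal B) :
    (maximalIdeal A).spanFinrank ≤ (maximalIdeal B).spanFinrank := by
  classical
  have := isLocalHom_of_map_eq h
  have : Module.FaithfullyFlat A B := Module.FaithfullyFlat.of_flat_of_isLocalHom
  obtain ⟨S, hS⟩ := (maximalIdeal A).fg_of_isNoetherianRing
  let f := algebraMap A B
  have hfS : ∀ a : A, a ∈ maximalIdeal A → f a ∈ maximalIdeal B := fun a ha => by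
    rw [← h]; exact Ideal.mem_map_of_mem _ ha
  have hSm : ∀ a ∈ S, a ∈ maximalIdeal A := fun a ha => by
    rw [← hS]; exact Ideal.subset_span ha
  -- generators of m_B
  let g : S → maximalIdeal B := fun a => ⟨f a, hfS a (hSm a a.2)⟩
  -- general criterion: a family in m_B generating m_B
  have gen_iff : ∀ (t : Set (maximalIdeal B)),
      Submodule.span B t = ⊤ ↔ Ideal.span (Subtype.val '' t) = maximalIdeal B := by
    intro t
    rw [← (Submodule.map_injective_of_injective (maximalIdeal B).injective_subtype).eq_iff,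
      Submodule.map_span, Submodule.map_top, Submodule.range_subtype]
    rfl
  have hs : Submodule.span B (Set.range g) = ⊤ := by
    rw [gen_iff]
    refine Eq.trans ?_ h
    rw [← hS, Ideal.map_span]
    congr 1
    ext x
    constructor
    · rintro ⟨_, ⟨a, rfl⟩, rfl⟩
      exact ⟨a, a.2, rfl⟩
    · rintro ⟨a, ha, rfl⟩
      exact ⟨g ⟨a, ha⟩, ⟨⟨a, ha⟩, rfl⟩, rfl⟩
  have hs' := (CotangentSpace.span_image_eq_top_iff (R := B)).mpr hs
  obtain ⟨b, hb1, hb2, hb3⟩ := exists_linearIndependent (ResidueField B)
    ((maximalIdeal B).toCotangent '' Set.range g)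
  rw [hs'] at hb2
  have hbfin : b.Finite := hb3.setFinite
  have hcard : b.ncard = Module.finrank (ResidueField B) (CotangentSpace B) := by
    have := hbfin.fintype
    have := finrank_span_set_eq_card hb3
    rw [hb2, finrank_top] at this
    rw [this, Set.ncard_eq_toFinset_card']
  have hex : ∀ v : b, ∃ a : S, (maximalIdeal B).toCotangent (g a) = v := by
    intro v
    obtain ⟨_, ⟨a, rfl⟩, hv⟩ := hb1 v.2
    exact ⟨a, hv⟩
  choose c hc using hex
  let T : Set A := Set.range (fun v : b => (c v : A))
  have : Finite b := hbfin.to_subtype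
  have hTfin : T.Finite := Set.finite_range _
  have hTcard : T.ncard ≤ b.ncard := by
    have := Set.ncard_image_le (f := fun v : b => (c v : A)) (s := Set.univ) Set.finite_univ
    rw [Set.image_univ] at this
    refine this.trans ?_
    rw [Set.ncard_univ, Nat.card_coe_set_eq]
  have hT : Ideal.span T = maximalIdeal A := by
    have hmap : (Ideal.span T).map f = maximalIdeal B := by
      have ht : Submodule.span B (Set.range fun v : b => g (c v)) = ⊤ := by
        rw [← CotangentSpace.span_image_eq_top_iff, eq_top_iff, ← hb2]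
        apply Submodule.span_mono
        intro v hv
        exact ⟨g (c ⟨v, hv⟩), ⟨⟨v, hv⟩, rfl⟩, hc ⟨v, hv⟩⟩
      rw [gen_iff] at ht
      refine Eq.trans ?_ ht
      rw [Ideal.map_span]
      congr 1
      ext x
      constructor
      · rintro ⟨_, ⟨v, rfl⟩, rfl⟩
        exact ⟨g (c v), ⟨v, rfl⟩, rfl⟩
      · rintro ⟨_, ⟨v, rfl⟩, rfl⟩
        exact ⟨(c v : A), ⟨v, rfl⟩, rfl⟩
    rw [← Ideal.comap_map_eq_self_of_faithfullyFlat (B := B) (Ideal.span T), hmap]
    exact comap_eq_of_map_eq h
  calc (maximalIdeal A).spanFinrank = (Ideal.span T).spanFinrank := by rw [hT]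
    _ ≤ T.ncard := Submodule.spanFinrank_span_le_ncard_of_finite hTfin
    _ ≤ b.ncard := hTcard
    _ = Module.finrank (ResidueField B) (CotangentSpace B) := hcard
    _ = (maximalIdeal B).spanFinrank :=
        (spanFinrank_maximalIdeal_eq_finrank_cotangentSpace B).symm

theorem isRegularLocalRing_iff_of_flat [Module.Flat A B]
    (h : (maximalIdeal A).map (algebraMap A B) = maximalIdeal B) :
    IsRegularLocalRing A ↔ IsRegularLocalRing B := by
  have h1 : (maximalIdeal B).spanFinrank ≤ (maximalIdeal A).spanFinrank := by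
    rw [← h]
    exact Ideal.spanFinrank_map_le_of_fg _ (maximalIdeal A).fg_of_isNoetherianRing
  have h2 := spanFinrank_le_of_map_eq h
  rw [isRegularLocalRing_iff, isRegularLocalRing_iff, ringKrullDim_eq h, le_antisymm h1 h2]

end Groth.Agent.R2.H77.RegFlat
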