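import Mathlib
import Groth.Agent.Lib.Helper28FlatNormal
import Groth.Agent.Lib.Helper28RegLoc
import Groth.Agent.Lib.Helper5RLR3
import Groth.Agent.S2082

/-!
# Local homomorphisms of Noetherian local rings: embedding dimension and dimension inequalities
(helper77)

For a local homomorphism `A → B` of Noetherian local rings with closed fibre `B₀ = B / 𝔪_A B`:
* `spanFinrank_maximalIdeal_le_add` : `edim B ≤ edim A + edim B₀`;
* `ringKrullDim_le_add` : `dim B ≤ dim A + dim B₀`.
-/

set_option autoImplicit false
universe u

namespace Groth.Agent.R2.H77.RegHomA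

open IsLocalRing

variable {A B : Type u} [CommRing A] [IsLocalRing A] [IsNoetherianRing A] [CommRing B]
  [IsLocalRing B] [IsNoetherianRing B] [Algebra A B] [IsLocalHom (algebraMap A B)]

omit [IsNoetherianRing B] in
theorem comap_mk_maximalIdeal (J : Ideal B) [IsLocalRing (B ⧸ J)] :
    (maximalIdeal (B ⧸ J)).comap (Ideal.Quotient.mk J) = maximalIdeal B := by
  have : IsLocalHom (Ideal.Quotient.mk J) :=
    IsLocalHom.of_surjective _ Ideal.Quotient.mk_surjective
  exact IsLocalRing.maximalIdeal_comap _

/-- `edim B ≤ edim A + edim (B / 𝔪_A B)`. -/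
theorem spanFinrank_maximalIdeal_le_add
    [IsLocalRing (B ⧸ (maximalIdeal A).map (algebraMap A B))] :
    (maximalIdeal B).spanFinrank ≤ (maximalIdeal A).spanFinrank +
      (maximalIdeal (B ⧸ (maximalIdeal A).map (algebraMap A B))).spanFinrank := by
  classical
  have key : ∀ {R : Type u} [CommRing R] [IsNoetherianRing R] (I : Ideal R),
      ∃ g : Set R, g.Finite ∧ g.ncard = I.spanFinrank ∧ Ideal.span g = I := by
    intro R _ _ I
    have hfg : Submodule.FG I := (isNoetherianRing_iff_ideal_fg R).mp inferInstance I
    exact ⟨Submodule.generators I, Submodule.FG.finite_generators hfg,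
      Submodule.FG.generators_ncard hfg, Submodule.span_generators I⟩
  generalize hJ : (maximalIdeal A).map (algebraMap A B) = J at *
  obtain ⟨gA, hgAfin, hgAcard, hgAspan⟩ := key (maximalIdeal A)
  obtain ⟨gC, hgCfin, hgCcard, hgCspan⟩ := key (maximalIdeal (B ⧸ J))
  have hsurj : Function.Surjective (Ideal.Quotient.mk J) := Ideal.Quotient.mk_surjective
  set t : Set B := Function.surjInv hsurj '' gC with ht
  have hmkt : Ideal.Quotient.mk J '' t = gC := by
    rw [ht, Set.image_image]
    simp [Function.surjInv_eq hsurj]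
  set s : Set B := algebraMap A B '' gA ∪ t with hs
  have hsfin : s.Finite := (hgAfin.image _).union (hgCfin.image _)
  have hJs : J ≤ Ideal.span s := by
    rw [← hJ, ← hgAspan, Ideal.map_span]
    exact Ideal.span_mono Set.subset_union_left
  have hspan : Ideal.span s = maximalIdeal B := by
    have h1 : (Ideal.span s).map (Ideal.Quotient.mk J) = maximalIdeal (B ⧸ J) := by
      apply le_antisymm
      · rw [Ideal.map_le_iff_le_comap, comap_mk_maximalIdeal, Ideal.span_le]
        rintro x (⟨a, ha, rfl⟩ | ⟨c, hc, rfl⟩)
        · have ha' : a ∈ maximalIdeal A := hgAspan ▸ Ideal.subset_span ha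
          have hle : maximalIdeal A ≤ (maximalIdeal B).comap (algebraMap A B) := by
            rw [IsLocalRing.maximalIdeal_comap]
          exact hle ha'
        · have hc' : c ∈ maximalIdeal (B ⧸ J) := hgCspan ▸ Ideal.subset_span hc
          rw [← comap_mk_maximalIdeal J, SetLike.mem_coe, Ideal.mem_comap,
            Function.surjInv_eq hsurj]
          exact hc'
      · rw [← hgCspan, ← hmkt, ← Ideal.map_span]
        exact Ideal.map_mono (Ideal.span_mono Set.subset_union_right)
    have h2 := Ideal.comap_map_of_surjective (Ideal.Quotient.mk J) hsurj (Ideal.span s)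
    rw [h1, comap_mk_maximalIdeal, ← RingHom.ker_eq_comap_bot, Ideal.mk_ker,
      sup_eq_left.mpr hJs] at h2
    exact h2.symm
  calc (maximalIdeal B).spanFinrank = (Submodule.span B s).spanFinrank := by
        rw [← hspan]
    _ ≤ s.ncard := Submodule.spanFinrank_span_le_ncard_of_finite hsfin
    _ ≤ (algebraMap A B '' gA).ncard + t.ncard := Set.ncard_union_le _ _
    _ ≤ gA.ncard + gC.ncard :=
        add_le_add (Set.ncard_image_le hgAfin) (Set.ncard_image_le hgCfin)
    _ = _ := by rw [hgAcard, hgCcard]

/-- `dim B ≤ dim A + dim (B / 𝔪_A B)`. -/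
theorem ringKrullDim_le_add
    [IsLocalRing (B ⧸ (maximalIdeal A).map (algebraMap A B))] :
    ringKrullDim B ≤ ringKrullDim A +
      ringKrullDim (B ⧸ (maximalIdeal A).map (algebraMap A B)) := by
  have : (maximalIdeal B).LiesOver (maximalIdeal A) :=
    ⟨(IsLocalRing.maximalIdeal_comap (algebraMap A B)).symm⟩
  have h := Ideal.height_le_height_add_of_liesOver (maximalIdeal A) (maximalIdeal B)
  have hmax : (maximalIdeal B).map (Ideal.Quotient.mk ((maximalIdeal A).map (algebraMap A B))) =
      maximalIdeal (B ⧸ (maximalIdeal A).map (algebraMap A B)) := by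
    rw [← comap_mk_maximalIdeal ((maximalIdeal A).map (algebraMap A B)),
      Ideal.map_comap_of_surjective _ Ideal.Quotient.mk_surjective]
  rw [hmax] at h
  rw [← IsLocalRing.maximalIdeal_height_eq_ringKrullDim (R := B),
    ← IsLocalRing.maximalIdeal_height_eq_ringKrullDim (R := A),
    ← IsLocalRing.maximalIdeal_height_eq_ringKrullDim
      (R := B ⧸ (maximalIdeal A).map (algebraMap A B))]
  exact_mod_cast h

end Groth.Agent.R2.H77.RegHomA
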