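import Mathlib

/-!
# Helper for S5808 (helper77): parameters inside an ideal of a semi-local Noetherian ring

`exists_list`: successive prime avoidance producing elements `y₁, …, yₙ` of an ideal `b` such that
every minimal prime of `(l₀, y₁, …, yₙ)` is maximal or has height at least `|l₀| + n`.
`main`: the statement of S5808 (EGA 0_IV 16.3.7-type).
-/

set_option linter.style.longLine false
set_option linter.unusedVariables false
set_option linter.unusedSectionVars false

universe u

namespace Groth.Agent.R2.H77.SemiLocalSop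

variable {A : Type u} [CommRing A]

/-- Every minimal prime of `J` is maximal or has height at least `k`. -/
def Inv (J : Ideal A) (k : ℕ) : Prop :=
  ∀ q ∈ J.minimalPrimes, q.IsMaximal ∨ (k : ℕ∞) ≤ q.height

section
variable [IsNoetherianRing A]

/-- Prime avoidance over the non-maximal minimal primes of `J`. -/
theorem exists_avoid (J b : Ideal A)
    (hb : ∀ q ∈ J.minimalPrimes, ¬ q.IsMaximal → ¬ b ≤ q) :
    ∃ y ∈ b, ∀ q ∈ J.minimalPrimes, ¬ q.IsMaximal → y ∉ q := by
  classical
  have hfin : J.minimalPrimes.Finite := Ideal.finite_minimalPrimes_of_isNoetherianRing A J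
  by_contra hcon
  push Not at hcon
  have hsub : (b : Set A) ⊆ ⋃ q ∈ ((hfin.toFinset.filter (fun q => ¬ q.IsMaximal) :
      Finset (Ideal A)) : Set (Ideal A)), (q : Set A) := by
    intro y hy
    obtain ⟨q, hq, hqm, hyq⟩ := hcon y hy
    simp only [Set.mem_iUnion]
    refine ⟨q, ?_, hyq⟩
    simp only [Finset.coe_filter, Set.Finite.mem_toFinset, Set.mem_ofPred_eq]
    exact ⟨hq, hqm⟩
  obtain ⟨q, hq, hbq⟩ := (Ideal.subset_union_prime (f := fun q : Ideal A => q) ⊥ ⊥
    (fun q hq _ _ => by
      simp only [Finset.mem_filter, Set.Finite.mem_toFinset] at hq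
      exact hq.1.1.1)).1 hsub
  simp only [Finset.mem_filter, Set.Finite.mem_toFinset] at hq
  exact hb q hq.1 hq.2 hbq

omit [IsNoetherianRing A] in
theorem inv_step (J : Ideal A) (k : ℕ) (hJ : Inv J k) (y : A)
    (hy : ∀ q ∈ J.minimalPrimes, ¬ q.IsMaximal → y ∉ q) :
    Inv (J ⊔ Ideal.span {y}) (k + 1) := by
  intro P hP
  have hPp : P.IsPrime := hP.1.1
  have hJP : J ≤ P := le_trans le_sup_left hP.1.2
  have hyP : y ∈ P := hP.1.2 (Ideal.mem_sup_right (Ideal.mem_span_singleton_self y))
  obtain ⟨q, hq, hqP⟩ := Ideal.exists_minimalPrimes_le hJP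
  have : q.IsPrime := hq.1.1
  by_cases hqm : q.IsMaximal
  · left
    rw [← hqm.eq_of_le hPp.ne_top hqP]
    exact hqm
  · right
    have hlt : q < P := lt_of_le_of_ne hqP (fun h => hy q hq hqm (h ▸ hyP))
    rcases hJ q hq with h | h
    · exact absurd h hqm
    · calc ((k + 1 : ℕ) : ℕ∞) = (k : ℕ∞) + 1 := by push_cast; rfl
        _ ≤ q.height + 1 := add_le_add h le_rfl
        _ ≤ P.height := Ideal.height_add_one_le_of_lt_of_isPrime hlt

theorem exists_list (l₀ : List A) (b : Ideal A) (n : ℕ)
    (h₀ : Inv (Ideal.ofList l₀) l₀.length)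
    (hb : ∀ l : List A, l.length < n → (∀ y ∈ l, y ∈ b) →
      ∀ q ∈ (Ideal.ofList (l₀ ++ l)).minimalPrimes, ¬ q.IsMaximal → ¬ b ≤ q) :
    ∃ l : List A, l.length = n ∧ (∀ y ∈ l, y ∈ b) ∧
      Inv (Ideal.ofList (l₀ ++ l)) (l₀.length + n) := by
  induction n with
  | zero => exact ⟨[], rfl, by simp, by simpa using h₀⟩
  | succ n ih =>
    obtain ⟨l, hl, hlb, hinv⟩ := ih (fun l hl => hb l (Nat.lt_succ_of_lt hl))
    obtain ⟨y, hyb, hy⟩ := exists_avoid (Ideal.ofList (l₀ ++ l)) b (hb l (by omega) hlb)
    refine ⟨l ++ [y], by simp [hl], ?_, ?_⟩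
    · intro z hz
      rcases List.mem_append.1 hz with h | h
      · exact hlb z h
      · rw [List.mem_singleton] at h
        rw [h]
        exact hyb
    · have h1 : Ideal.ofList (l₀ ++ (l ++ [y])) = Ideal.ofList (l₀ ++ l) ⊔ Ideal.span {y} := by
        rw [← List.append_assoc, Ideal.ofList_append _ [y], Ideal.ofList_singleton]
      rw [h1, ← Nat.add_assoc]
      exact inv_step _ _ hinv y hy

/-- Krull: a minimal prime over an ideal generated by a list has height at most its length. -/
theorem height_le_length (l : List A) (q : Ideal A) (hq : q ∈ (Ideal.ofList l).minimalPrimes) :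
    q.height ≤ l.length := by
  classical
  have h1 : Ideal.ofList l = Ideal.span ((l.toFinset : Finset A) : Set A) := by
    rw [List.coe_toFinset]
  rw [h1] at hq
  refine le_trans (Ideal.height_le_card_of_mem_minimalPrimes_span_finset hq) ?_
  exact_mod_cast List.toFinset_card_le l

end

/-- A prime containing the Jacobson radical of a semi-local ring is maximal. -/
theorem isMaximal_of_jacobson_le [Finite (MaximalSpectrum A)] (q : Ideal A) [hq : q.IsPrime]
    (h : Ring.jacobson A ≤ q) : q.IsMaximal := by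
  classical
  have : Fintype (MaximalSpectrum A) := Fintype.ofFinite _
  have h1 : (Finset.univ : Finset (MaximalSpectrum A)).inf (fun m => m.asIdeal) ≤
      Ring.jacobson A := by
    rw [Ring.jacobson_eq_sInf_isMaximal]
    refine le_sInf (fun J hJ => ?_)
    exact Finset.inf_le (f := fun m : MaximalSpectrum A => m.asIdeal)
      (Finset.mem_univ (⟨J, hJ⟩ : MaximalSpectrum A))
  obtain ⟨m, -, hm⟩ := (Ideal.IsPrime.inf_le' hq).1 (h1.trans h)
  rw [← m.isMaximal.eq_of_le hq.ne_top hm]
  exact m.isMaximal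

theorem finiteRingKrullDim_of_semilocal [IsNoetherianRing A] [Nontrivial A]
    [Finite (MaximalSpectrum A)] : FiniteRingKrullDim A := by
  classical
  have : Fintype (MaximalSpectrum A) := Fintype.ofFinite _
  rw [finiteRingKrullDim_iff_ne_bot_and_top]
  refine ⟨fun hbot => by
    have := ringKrullDim_nonneg_of_nontrivial (R := A)
    rw [hbot] at this
    exact absurd this (by simp), ?_⟩
  have hfin : ∀ m : MaximalSpectrum A, m.asIdeal.height ≠ ⊤ := fun m => by
    have := m.isMaximal.isPrime
    exact Ideal.height_ne_top m.isMaximal.ne_top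
  set N : ℕ := (Finset.univ : Finset (MaximalSpectrum A)).sup (fun m => m.asIdeal.height.toNat)
  have hle : ringKrullDim A ≤ (N : WithBot ℕ∞) := by
    rw [ringKrullDim_le_iff_isMaximal_height_le]
    intro m hm
    have h1 : (⟨m, hm⟩ : MaximalSpectrum A).asIdeal.height.toNat ≤ N :=
      Finset.le_sup (f := fun m : MaximalSpectrum A => m.asIdeal.height.toNat)
        (Finset.mem_univ _)
    have h2 : m.height = (m.height.toNat : ℕ∞) := (ENat.natCast_toNat (hfin ⟨m, hm⟩)).symm
    rw [h2]
    exact_mod_cast h1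
  intro htop
  rw [htop] at hle
  have h3 : ((⊤ : ℕ∞) : WithBot ℕ∞) ≤ ((N : ℕ∞) : WithBot ℕ∞) := hle
  rw [WithBot.coe_le_coe] at h3
  exact absurd h3 (by simp)

/-- If every minimal prime of `I` is maximal then `A ⧸ I` has finite length. -/
theorem isFiniteLength_quotient [IsNoetherianRing A] (I : Ideal A)
    (hI : ∀ q ∈ I.minimalPrimes, q.IsMaximal) : IsFiniteLength A (A ⧸ I) := by
  have hdim : Ring.KrullDimLE 0 (A ⧸ I) := by
    rw [Ring.krullDimLE_zero_iff_forall_minimalPrimes_isMaximal]
    intro Q hQ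
    have hQp : Q.IsPrime := hQ.1.1
    have h1 : Q.comap (Ideal.Quotient.mk I) ∈ I.minimalPrimes := by
      rw [Ideal.minimalPrimes_eq_comap]
      exact ⟨Q, hQ, rfl⟩
    have h2 := hI _ h1
    have h3 : (Q.comap (Ideal.Quotient.mk I)).map (Ideal.Quotient.mk I) = Q :=
      Ideal.map_comap_of_surjective _ Ideal.Quotient.mk_surjective Q
    rcases Ideal.map_eq_top_or_isMaximal_of_surjective (Ideal.Quotient.mk I)
      Ideal.Quotient.mk_surjective h2 with h | h
    · rw [h3] at h
      exact absurd h hQp.ne_top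
    · rwa [h3] at h
  have hart : IsArtinianRing (A ⧸ I) := isArtinianRing_iff_krullDimLE_zero.2 hdim
  have hartA : IsArtinian A (A ⧸ I) :=
    isArtinian_of_surjective_algebraMap (R := A ⧸ I) (S := A) (M := A ⧸ I)
      Ideal.Quotient.mk_surjective
  rw [isFiniteLength_iff_isNoetherian_isArtinian]
  exact ⟨inferInstance, hartA⟩

/-- **S5808.** Parameters inside an ideal of positive height of a semi-local Noetherian ring. -/
theorem main (A : Type u) [CommRing A] [IsNoetherianRing A]
    [Finite (MaximalSpectrum A)] (a : Ideal A) (ha : a ≠ ⊤) (h : ℕ) (hh : a.height = h)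
    (hpos : 0 < h) :
    ∃ x : Fin h → A, (∀ i, x i ∈ a) ∧ (∀ i, x i ∈ Ring.jacobson A) ∧
      (∃ ys : List A, (∀ y ∈ ys, y ∈ Ring.jacobson A) ∧
        (((h + ys.length : ℕ) : ℕ∞) : WithBot ℕ∞) = ringKrullDim A ∧
        IsFiniteLength A (A ⧸ (Ideal.span (Set.range x) ⊔ Ideal.ofList ys))) ∧
      (a.map (Ideal.Quotient.mk (Ideal.span (Set.range x)))).height = 0 := by
  classical
  have hnt : Nontrivial A := by
    by_contra hc
    rw [not_nontrivial_iff_subsingleton] at hc
    exact ha (Subsingleton.elim _ _)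
  have hfd : FiniteRingKrullDim A := finiteRingKrullDim_of_semilocal
  -- the dimension as a natural number
  obtain ⟨d, hd⟩ : ∃ d : ℕ, ringKrullDim A = ((d : ℕ∞) : WithBot ℕ∞) := by
    have h1 := ringKrullDim_ne_bot (R := A)
    have h2 := ringKrullDim_ne_top (R := A)
    obtain ⟨e, he⟩ := WithBot.ne_bot_iff_exists.1 h1
    have h3 : e ≠ ⊤ := fun h => h2 (by rw [← he, h]; rfl)
    exact ⟨e.toNat, by rw [← he, ENat.natCast_toNat h3]⟩
  have hhd : h ≤ d := by
    have h1 := Ideal.height_le_ringKrullDim_of_ne_top ha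
    rw [hh, hd] at h1
    exact_mod_cast h1
  -- phase 1
  obtain ⟨l₁, hl₁, hl₁b, hinv₁⟩ := exists_list ([] : List A) (a ⊓ Ring.jacobson A) h
    (fun q _ => Or.inr (by simp))
    (fun l hl hlb q hq hqm hle => by
      have hqp : q.IsPrime := hq.1.1
      rcases (Ideal.IsPrime.inf_le hqp).1 hle with h1 | h1
      · have h2 : a.height ≤ q.height := Ideal.height_mono h1
        have h3 : q.height ≤ l.length := height_le_length l q (by simpa using hq)
        rw [hh] at h2
        have h4 : (h : ℕ∞) ≤ (l.length : ℕ∞) := h2.trans h3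
        have h5 : h ≤ l.length := by exact_mod_cast h4
        omega
      · exact hqm (isMaximal_of_jacobson_le q h1))
  simp only [List.nil_append, List.length_nil, Nat.zero_add] at hinv₁
  -- phase 2
  obtain ⟨l₂, hl₂, hl₂b, hinv₂⟩ := exists_list l₁ (Ring.jacobson A) (d - h)
    (by rw [hl₁]; exact hinv₁)
    (fun l hl hlb q hq hqm hle => by
      have hqp : q.IsPrime := hq.1.1
      exact hqm (isMaximal_of_jacobson_le q hle))
  have hsum : l₁.length + (d - h) = d := by omega
  rw [hsum] at hinv₂
  subst hl₁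
  have hrange : Ideal.span (Set.range l₁.get) = Ideal.ofList l₁ := by
    rw [Set.range_list_get]
  refine ⟨l₁.get, fun i => (hl₁b _ (List.get_mem l₁ i)).1, fun i => (hl₁b _ (List.get_mem l₁ i)).2,
    ⟨l₂, hl₂b, ?_, ?_⟩, ?_⟩
  · rw [hd, hl₂, hsum]
  · rw [hrange, ← Ideal.ofList_append]
    refine isFiniteLength_quotient _ (fun q hq => ?_)
    have hqp : q.IsPrime := hq.1.1
    rcases hinv₂ q hq with h1 | h1
    · exact h1
    · refine Ideal.isMaximal_of_height_eq_ringKrullDim (le_antisymm
        (Ideal.height_le_ringKrullDim_of_ne_top hqp.ne_top) ?_)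
      rw [hd]
      exact_mod_cast h1
  · -- the height-zero statement
    obtain ⟨P, hPp, haP, hPh⟩ := Ideal.exists_isPrime_height_eq hh
    have hJa : Ideal.ofList l₁ ≤ a := by
      rw [Ideal.ofList, Ideal.span_le]
      intro y hy
      exact (hl₁b y hy).1
    obtain ⟨q, hq, hqP⟩ := Ideal.exists_minimalPrimes_le (hJa.trans haP)
    have hqp : q.IsPrime := hq.1.1
    have hqP' : q = P := by
      rcases hinv₁ q hq with h1 | h1
      · exact h1.eq_of_le hPp.ne_top hqP
      · by_contra hne
        have hlt : q < P := lt_of_le_of_ne hqP hne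
        have h2 := Ideal.height_add_one_le_of_lt_of_isPrime hlt
        rw [hPh] at h2
        have h3 : ((l₁.length : ℕ∞) + 1) ≤ (l₁.length : ℕ∞) := (add_le_add h1 le_rfl).trans h2
        have h4 : l₁.length + 1 ≤ l₁.length := by exact_mod_cast h3
        omega
    rw [hqP'] at hq
    rw [hrange]
    have hPmin : P.map (Ideal.Quotient.mk (Ideal.ofList l₁)) ∈
        minimalPrimes (A ⧸ Ideal.ofList l₁) := by
      rw [Ideal.minimalPrimes_eq_comap] at hq
      obtain ⟨Q, hQ, hQP⟩ := hq
      rw [← hQP, Ideal.map_comap_of_surjective _ Ideal.Quotient.mk_surjective]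
      exact hQ
    have hPmp : (P.map (Ideal.Quotient.mk (Ideal.ofList l₁))).IsPrime := hPmin.1.1
    have h0 : (P.map (Ideal.Quotient.mk (Ideal.ofList l₁))).height = 0 :=
      Ideal.height_eq_zero_iff.2 hPmin
    exact le_antisymm (h0 ▸ Ideal.height_mono (Ideal.map_mono haP)) zero_le

end Groth.Agent.R2.H77.SemiLocalSop
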