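import Mathlib

/-!
# Counting algebra homomorphisms from a finite-dimensional algebra into a field by their kernels
-/

set_option autoImplicit false

namespace Groth.Agent.R2.H77.SepDegSum

open TensorProduct

section fibre

variable (F B Ω : Type*) [Field F] [CommRing B] [Algebra F B] [Module.Finite F B]
  [Field Ω] [Algebra F Ω]

theorem ker_isMaximal (φ : B →ₐ[F] Ω) : (RingHom.ker φ).IsMaximal := by
  have : IsArtinianRing B := IsArtinianRing.of_finite F B
  have : (RingHom.ker φ).IsPrime := RingHom.ker_isPrime _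
  exact IsArtinianRing.isMaximal_of_isPrime _

variable {B} in
/-- homs with a given (maximal) kernel = homs from the quotient. -/
noncomputable def fibreEquiv (m : Ideal B) [m.IsMaximal] :
    {φ : B →ₐ[F] Ω // RingHom.ker φ = m} ≃ (B ⧸ m →ₐ[F] Ω) where
  toFun φ := Ideal.Quotient.liftₐ m φ.1 (fun a ha => by
    have h := φ.2
    rw [← h] at ha
    exact ha)
  invFun ψ := ⟨ψ.comp (Ideal.Quotient.mkₐ F m), by
    let _ := Ideal.Quotient.field m
    ext a
    simp only [RingHom.mem_ker, AlgHom.coe_comp, Function.comp_apply, Ideal.Quotient.mkₐ_eq_mk]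
    rw [map_eq_zero_iff ψ (RingHom.injective ψ.toRingHom), Ideal.Quotient.eq_zero_iff_mem]⟩
  left_inv φ := by
    ext a
    simp
  right_inv ψ := by
    ext a
    obtain ⟨a, rfl⟩ := Ideal.Quotient.mk_surjective a
    simp

/-- the kernel map to the maximal spectrum. -/
noncomputable def kerMax (φ : B →ₐ[F] Ω) : MaximalSpectrum B :=
  ⟨RingHom.ker φ, ker_isMaximal F B Ω φ⟩

theorem card_algHom_eq_sum [Fintype (MaximalSpectrum B)] :
    Nat.card (B →ₐ[F] Ω) = ∑ m : MaximalSpectrum B, Nat.card (B ⧸ m.asIdeal →ₐ[F] Ω) := by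
  classical
  have e := Equiv.sigmaFiberEquiv (kerMax F B Ω)
  rw [← Nat.card_congr e, Nat.card_sigma]
  refine Finset.sum_congr rfl (fun m _ => ?_)
  have := m.isMaximal
  refine Nat.card_congr (Equiv.trans ?_ (fibreEquiv F Ω m.asIdeal))
  refine Equiv.subtypeEquivRight (fun φ => ?_)
  rw [MaximalSpectrum.ext_iff]
  rfl

end fibre

section residue

variable (F B : Type*) [Field F] [CommRing B] [Algebra F B]

/-- the residue field of the localization at a maximal ideal, as an algebra. -/
noncomputable def quotEquivResidue (m : Ideal B) [m.IsMaximal] :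
    (B ⧸ m) ≃ₐ[F] IsLocalRing.ResidueField (Localization.AtPrime m) :=
  AlgEquiv.ofRingEquiv (f := IsLocalization.AtPrime.equivQuotMaximalIdeal m (Localization.AtPrime m))
    (fun c => by
      rw [IsScalarTower.algebraMap_apply F B (B ⧸ m), Ideal.Quotient.algebraMap_eq]
      refine (IsLocalization.AtPrime.equivQuotMaximalIdeal_apply_mk m
        (Localization.AtPrime m) _).trans ?_
      rw [IsScalarTower.algebraMap_apply F (Localization.AtPrime m)
        (IsLocalRing.ResidueField (Localization.AtPrime m)),
        IsScalarTower.algebraMap_apply F B (Localization.AtPrime m)]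
      rfl)

end residue

section main

variable (k A k' : Type*) [Field k] [CommRing A] [Algebra k A] [Module.Finite k A]
  [IsLocalRing A] [Field k'] [Algebra k k']

theorem card_algHom_local (Ω : Type*) [Field Ω] [Algebra k Ω] :
    Nat.card (A →ₐ[k] Ω) = Nat.card (IsLocalRing.ResidueField A →ₐ[k] Ω) := by
  classical
  have : IsArtinianRing A := IsArtinianRing.of_finite k A
  refine Nat.card_congr (Equiv.trans ?_ (fibreEquiv k Ω (IsLocalRing.maximalIdeal A)))
  refine (Equiv.subtypeUnivEquiv (fun φ => ?_)).symm
  have := ker_isMaximal k A Ω φ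
  exact IsLocalRing.eq_maximalIdeal this

/-- base change adjunction for algebra homs. -/
noncomputable def liftEquiv (Ω : Type*) [Field Ω] [Algebra k Ω] [Algebra k' Ω]
    [IsScalarTower k k' Ω] :
    (A →ₐ[k] Ω) ≃ (k' ⊗[k] A →ₐ[k'] Ω) where
  toFun f := Algebra.TensorProduct.lift (Algebra.ofId k' Ω) f (fun _ _ => Commute.all _ _)
  invFun g := (g.restrictScalars k).comp Algebra.TensorProduct.includeRight
  left_inv f := by
    ext a
    simp
  right_inv g := by
    apply Algebra.TensorProduct.ext'
    intro c a
    simp only [Algebra.TensorProduct.lift_tmul, Algebra.ofId_apply, AlgHom.coe_comp,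
      AlgHom.coe_restrictScalars', Function.comp_apply, Algebra.TensorProduct.includeRight_apply]
    rw [← AlgHom.commutes g, ← map_mul]
    congr 1
    rw [Algebra.TensorProduct.algebraMap_apply, Algebra.TensorProduct.tmul_mul_tmul]
    simp

theorem main :
    Field.finSepDegree k (IsLocalRing.ResidueField A) =
      ∑ᶠ m : MaximalSpectrum (k' ⊗[k] A),
        Field.finSepDegree k' (IsLocalRing.ResidueField (Localization.AtPrime m.asIdeal)) := by
  classical
  let Ω := AlgebraicClosure k'
  have : IsArtinianRing (k' ⊗[k] A) := IsArtinianRing.of_finite k' (k' ⊗[k] A)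
  have : Fintype (MaximalSpectrum (k' ⊗[k] A)) := Fintype.ofFinite _
  rw [finsum_eq_sum_of_fintype]
  rw [Field.finSepDegree_eq_of_isAlgClosed k (IsLocalRing.ResidueField A) Ω,
    ← card_algHom_local k A Ω, Nat.card_congr (liftEquiv k A k' Ω),
    card_algHom_eq_sum k' (k' ⊗[k] A) Ω]
  refine Finset.sum_congr rfl (fun m _ => ?_)
  have := m.isMaximal
  let _ := Ideal.Quotient.field m.asIdeal
  rw [← Field.finSepDegree_eq_of_equiv k' _ _ (quotEquivResidue k' (k' ⊗[k] A) m.asIdeal),
    Field.finSepDegree_eq_of_isAlgClosed k' _ Ω]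

end main

end Groth.Agent.R2.H77.SepDegSum
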