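import Mathlib
import Groth.Agent.Lib.Helper28Depth

namespace Groth.Agent.R2.H86.RegPrefix

/-- Davis' coset form of prime avoidance. -/
theorem davis {R : Type*} [CommRing R] (S : Finset (Ideal R)) (hS : ∀ P ∈ S, P.IsPrime)
    (I : Ideal R) (x : R) (h : ∀ y ∈ I, ∃ P ∈ S, x + y ∈ P) : ∃ P ∈ S, x ∈ P ∧ I ≤ P := by
  classical
  induction S using Finset.strongInduction with
  | H S ih =>
    by_cases hred : ∃ P₀ ∈ S, ∀ y ∈ I, ∃ P ∈ S.erase P₀, x + y ∈ P
    · obtain ⟨P₀, hP₀, hy⟩ := hred
      obtain ⟨P, hP, hx, hI⟩ := ih (S.erase P₀) (Finset.erase_ssubset hP₀)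
        (fun P hP => hS P (Finset.mem_of_mem_erase hP)) hy
      exact ⟨P, Finset.mem_of_mem_erase hP, hx, hI⟩
    · push Not at hred
      -- hred : ∀ P₀ ∈ S, ∃ y ∈ I, ∀ P ∈ S.erase P₀, x + y ∉ P
      obtain ⟨P₁, hP₁⟩ : S.Nonempty := by
        obtain ⟨P, hP, -⟩ := h 0 I.zero_mem
        exact ⟨P, hP⟩
      have hprime₁ : P₁.IsPrime := hS P₁ hP₁
      by_cases hsingle : S.erase P₁ = ∅
      · refine ⟨P₁, hP₁, ?_, ?_⟩
        · obtain ⟨P, hP, hxP⟩ := h 0 I.zero_mem
          have : P = P₁ := by
            by_contra hne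
            have : P ∈ S.erase P₁ := Finset.mem_erase.mpr ⟨hne, hP⟩
            rw [hsingle] at this
            exact absurd this (Finset.notMem_empty _)
          rw [add_zero, this] at hxP
          exact hxP
        · have hx : x ∈ P₁ := by
            obtain ⟨P, hP, hxP⟩ := h 0 I.zero_mem
            have : P = P₁ := by
              by_contra hne
              have : P ∈ S.erase P₁ := Finset.mem_erase.mpr ⟨hne, hP⟩
              rw [hsingle] at this
              exact absurd this (Finset.notMem_empty _)
            rw [add_zero, this] at hxP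
            exact hxP
          intro y hy
          obtain ⟨P, hP, hxP⟩ := h y hy
          have : P = P₁ := by
            by_contra hne
            have : P ∈ S.erase P₁ := Finset.mem_erase.mpr ⟨hne, hP⟩
            rw [hsingle] at this
            exact absurd this (Finset.notMem_empty _)
          rw [this] at hxP
          exact (Ideal.add_mem_iff_right P₁ hx).mp hxP
      · exfalso
        obtain ⟨P₂, hP₂⟩ := Finset.nonempty_iff_ne_empty.mpr hsingle
        have hP₂S : P₂ ∈ S := Finset.mem_of_mem_erase hP₂
        have hP₂ne : P₂ ≠ P₁ := Finset.ne_of_mem_erase hP₂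
        -- choose y_P
        have hch : ∀ P : Ideal R, ∃ y : R, P ∈ S → (y ∈ I ∧ ∀ Q ∈ S.erase P, x + y ∉ Q) := by
          intro P
          by_cases hP : P ∈ S
          · obtain ⟨y, hy, hyQ⟩ := hred P hP
            exact ⟨y, fun _ => ⟨hy, hyQ⟩⟩
          · exact ⟨0, fun h' => absurd h' hP⟩
        choose Y hY using hch
        let a : Ideal R → R := fun P => x + Y P
        have haP : ∀ P ∈ S, a P ∈ P := by
          intro P hP
          obtain ⟨Q, hQ, hxQ⟩ := h (Y P) (hY P hP).1
          by_cases hQP : Q = P
          · rw [hQP] at hxQ; exact hxQ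
          · exact absurd hxQ ((hY P hP).2 Q (Finset.mem_erase.mpr ⟨hQP, hQ⟩))
        have haQ : ∀ P ∈ S, ∀ Q ∈ S, Q ≠ P → a P ∉ Q := by
          intro P hP Q hQ hQP
          exact (hY P hP).2 Q (Finset.mem_erase.mpr ⟨hQP, hQ⟩)
        let u : R := (a P₁ - a P₂) * ∏ Q ∈ S.erase P₁, a Q
        have hab : a P₁ - a P₂ = Y P₁ - Y P₂ := by simp [a]
        have huI : u ∈ I := by
          apply Ideal.mul_mem_right
          rw [hab]
          exact I.sub_mem (hY P₁ hP₁).1 (hY P₂ hP₂S).1
        have hw : ∃ P ∈ S, x + (Y P₁ + u) ∈ P := h _ (I.add_mem (hY P₁ hP₁).1 huI)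
        obtain ⟨Q, hQ, hwQ⟩ := hw
        have hwa : x + (Y P₁ + u) = a P₁ + u := by simp [a]; ring
        rw [hwa] at hwQ
        by_cases hQP : Q = P₁
        · rw [hQP] at hwQ
          have hu : u ∈ P₁ := (Ideal.add_mem_iff_right P₁ (haP P₁ hP₁)).mp hwQ
          rcases hprime₁.mem_or_mem hu with h1 | h1
          · have : a P₂ ∈ P₁ := by
              have := P₁.sub_mem (haP P₁ hP₁) h1
              simpa using this
            exact haQ P₂ hP₂S P₁ hP₁ hP₂ne.symm this
          · obtain ⟨Q', hQ', hQ'mem⟩ := (Ideal.IsPrime.prod_mem_iff).mp h1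
            exact haQ Q' (Finset.mem_of_mem_erase hQ') P₁ hP₁ (Finset.ne_of_mem_erase hQ').symm hQ'mem
        · have hQe : Q ∈ S.erase P₁ := Finset.mem_erase.mpr ⟨hQP, hQ⟩
          have hu : u ∈ Q := by
            apply Ideal.mul_mem_left
            exact Ideal.mem_of_dvd _ (Finset.dvd_prod_of_mem a hQe) (haP Q hQ)
          have : a P₁ ∈ Q := (Ideal.add_mem_iff_left Q hu).mp hwQ
          exact haQ P₁ hP₁ Q hQ hQP this


universe u v

open RingTheory.Sequence Groth.Agent.Lib.Helper28

/-- A regular element in a coset `x + I`, given one in `(x) + I`. -/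
theorem exists_add_isSMulRegular {T : Type u} [CommRing T] [IsNoetherianRing T]
    (M : Type v) [AddCommGroup M] [Module T M] [Module.Finite T M] (x : T) (I : Ideal T)
    (h : ∃ r ∈ Ideal.span {x} ⊔ I, IsSMulRegular M r) : ∃ y ∈ I, IsSMulRegular M (x + y) := by
  classical
  by_contra hcon
  push Not at hcon
  obtain ⟨r, hr, hreg⟩ := h
  have hfin : (associatedPrimes T M).Finite := associatedPrimes.finite T M
  have hU := biUnion_associatedPrimes_eq_compl_regular T M
  have h1 : ∀ y ∈ I, ∃ P ∈ hfin.toFinset, x + y ∈ P := by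
    intro y hy
    have : x + y ∈ ({r : T | IsSMulRegular M r}ᶜ : Set T) := hcon y hy
    rw [← hU] at this
    obtain ⟨P, hP, hxP⟩ := Set.mem_iUnion₂.mp this
    exact ⟨P, hfin.mem_toFinset.mpr hP, hxP⟩
  obtain ⟨P, hP, hxP, hIP⟩ := davis hfin.toFinset
    (fun P hP => (hfin.mem_toFinset.mp hP).isPrime) I x h1
  have hrP : r ∈ P := by
    have : Ideal.span {x} ⊔ I ≤ P :=
      sup_le ((Ideal.span_singleton_le_iff_mem P).mpr hxP) hIP
    exact this hr
  have : r ∈ ⋃ p ∈ associatedPrimes T M, (p : Set T) :=
    Set.mem_iUnion₂.mpr ⟨P, hfin.mem_toFinset.mp hP, hrP⟩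
  rw [hU] at this
  exact this hreg

/-- Kaplansky, Theorem 125: generators can be modified so that the first `grade J` of them
form a regular sequence. -/
theorem exists_gens_regular_prefix {T : Type u} [CommRing T] [IsNoetherianRing T]
    (J : Ideal T) (hJ : J ≠ ⊤) (j : ℕ) (hj : LocCoh.idealDepth J T = j)
    (ss : List T) (hss : Ideal.ofList ss = J) :
    j ≤ ss.length ∧ ∃ ts : List T, ts.length = ss.length ∧ Ideal.ofList ts = J ∧
      IsRegular T (ts.take j) := by
  have hIM : J • (⊤ : Submodule T T) ≠ ⊤ := by
    rw [smul_eq_mul, Ideal.mul_top]; exact hJ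
  have key : ∀ k : ℕ, k ≤ j → ∃ pre post : List T, pre.length = k ∧
      (pre ++ post).length = ss.length ∧ Ideal.ofList (pre ++ post) = J ∧
      IsWeaklyRegular T pre := by
    intro k
    induction k with
    | zero =>
      intro _
      exact ⟨[], ss, rfl, rfl, hss, IsWeaklyRegular.nil T T⟩
    | succ k ih =>
      intro hk
      obtain ⟨pre, post, hlen, hlen2, hspan, hreg⟩ := ih (by omega)
      have hmem : ∀ r ∈ pre, r ∈ J := by
        intro r hr
        rw [← hspan]
        exact Ideal.subset_span (List.mem_append_left _ hr)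
      have hd := idealDepth_quot_ofList_add_length J T hIM pre hmem hreg
      have hIM' := smul_top_quot_ofList_ne_top J hmem hIM
      have h1 : 1 ≤ LocCoh.idealDepth J (T ⧸ (Ideal.ofList pre • ⊤ : Submodule T T)) := by
        rw [hj, hlen] at hd
        by_contra hlt
        have h0 : LocCoh.idealDepth J (T ⧸ (Ideal.ofList pre • ⊤ : Submodule T T)) = 0 := by
          rw [Order.one_le_iff_ne_zero] at hlt
          exact not_not.mp hlt
        rw [h0, zero_add] at hd
        have : k = j := by exact_mod_cast hd
        omega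
      obtain ⟨r, hrJ, hrreg⟩ := (one_le_idealDepth_iff hIM').mp h1
      cases post with
      | nil =>
        exfalso
        rw [List.append_nil] at hspan
        have hr0 : r • (Submodule.Quotient.mk (1 : T) :
            T ⧸ (Ideal.ofList pre • ⊤ : Submodule T T)) = 0 := by
          rw [← Submodule.Quotient.mk_smul, Submodule.Quotient.mk_eq_zero]
          exact Submodule.smul_mem_smul (hspan ▸ hrJ) Submodule.mem_top
        have h10 : (Submodule.Quotient.mk (1 : T) :
            T ⧸ (Ideal.ofList pre • ⊤ : Submodule T T)) = 0 := by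
          apply hrreg
          simp only [smul_zero]
          exact hr0
        rw [Submodule.Quotient.mk_eq_zero, smul_eq_mul, Ideal.mul_top, hspan] at h10
        exact hJ ((Ideal.eq_top_iff_one J).mpr h10)
      | cons s post' =>
        have hJeq : J = Ideal.span {s} ⊔ Ideal.ofList (pre ++ post') := by
          rw [← hspan, Ideal.ofList_append, Ideal.ofList_cons, Ideal.ofList_append]
          rw [sup_left_comm]
        obtain ⟨y, hy, hyreg⟩ := exists_add_isSMulRegular
          (T ⧸ (Ideal.ofList pre • ⊤ : Submodule T T)) s (Ideal.ofList (pre ++ post'))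
          ⟨r, hJeq ▸ hrJ, hrreg⟩
        refine ⟨pre ++ [s + y], post', by simp [hlen], ?_, ?_, ?_⟩
        · simp only [List.length_append, List.length_cons, List.length_nil] at hlen2 ⊢
          omega
        · rw [hJeq, List.append_assoc, Ideal.ofList_append, Ideal.ofList_append,
            Ideal.ofList_append, Ideal.ofList_singleton]
          have hy' : y ∈ Ideal.ofList pre ⊔ Ideal.ofList post' := by
            rwa [Ideal.ofList_append] at hy
          symm
          apply le_antisymm
          · refine sup_le ?_ (sup_le le_sup_left (le_sup_of_le_right le_sup_right))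
            rw [Ideal.span_singleton_le_iff_mem]
            have h1 : s + y ∈ Ideal.ofList pre ⊔ (Ideal.span {s + y} ⊔ Ideal.ofList post') :=
              Ideal.mem_sup_right (Ideal.mem_sup_left (Ideal.mem_span_singleton_self (s + y)))
            have h2 : y ∈ Ideal.ofList pre ⊔ (Ideal.span {s + y} ⊔ Ideal.ofList post') :=
              (sup_le le_sup_left (le_sup_of_le_right le_sup_right) :
                Ideal.ofList pre ⊔ Ideal.ofList post' ≤ _) hy'
            have h3 := Ideal.sub_mem _ h1 h2
            rwa [add_sub_cancel_right] at h3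
          · refine sup_le (le_sup_of_le_right le_sup_left)
              (sup_le ?_ (le_sup_of_le_right le_sup_right))
            rw [Ideal.span_singleton_le_iff_mem]
            exact Ideal.add_mem _ (Ideal.mem_sup_left (Ideal.mem_span_singleton_self s))
              (Ideal.mem_sup_right hy')
        · rw [isWeaklyRegular_append_iff]
          exact ⟨hreg, (isWeaklyRegular_singleton_iff _ _).mpr hyreg⟩
  obtain ⟨pre, post, hlen, hlen2, hspan, hreg⟩ := key j le_rfl
  refine ⟨?_, pre ++ post, hlen2, hspan, ?_⟩
  · rw [← hlen2, List.length_append]; omega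
  · have htake : (pre ++ post).take j = pre := by
      rw [← hlen]; exact List.take_left
    rw [htake]
    have hmem : ∀ r ∈ pre, r ∈ J := by
      intro r hr
      rw [← hspan]
      exact Ideal.subset_span (List.mem_append_left _ hr)
    exact isRegular_of_isWeaklyRegular_of_mem hreg hmem hIM

end Groth.Agent.R2.H86.RegPrefix
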