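import Mathlib
import Groth.Prelude.Def_CAlg
import Groth.Agent.Lib.Helper28Catenary
import Groth.Agent.Lib.Helper28Unmixed
import Groth.Agent.R2.H86RegPrefix

/-!
# Helper for S5987 (helper77): lifting a system of parameters of a Cohen–Macaulay localization
-/

set_option autoImplicit false
set_option linter.unusedSectionVars false
set_option linter.unusedVariables false
set_option linter.style.haveILetI false

namespace Groth.Agent.R2.H77.SopLift

universe u

section Lemma1

variable {R : Type u} [CommRing R] [hR : LocCoh.IsCohenMacaulayLocalRing R]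

/-- In a Cohen–Macaulay local ring of dimension `s` with system of parameters `t`, a prime containing
the first `i` parameters has height at least `i`. -/
theorem le_height_of_sop (s : ℕ) (hs : ringKrullDim R = s) (t : Fin s → R)
    (ht : ∀ i, t i ∈ IsLocalRing.maximalIdeal R)
    (hsop : ringKrullDim (R ⧸ Ideal.span (Set.range t)) = 0)
    (Q : Ideal R) [hQp : Q.IsPrime] (i : ℕ) (hi : i ≤ s) (hQ : ∀ j : Fin s, j.val < i → t j ∈ Q) :
    (i : ℕ∞) ≤ Q.height := by
  classical
  have hloc : IsLocalRing (R ⧸ Q) :=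
    IsLocalRing.of_surjective' (Ideal.Quotient.mk Q) Ideal.Quotient.mk_surjective
  have hlh : IsLocalHom (Ideal.Quotient.mk Q) :=
    IsLocalHom.of_surjective (Ideal.Quotient.mk Q) Ideal.Quotient.mk_surjective
  -- dimension of R/Q
  have hdimQ : ringKrullDim (R ⧸ Q) ≤ ((s - i : ℕ) : WithBot ℕ∞) := by
    let S' : Set (R ⧸ Q) := (fun j : Fin s => Ideal.Quotient.mk Q (t j)) '' {j | i ≤ j.val}
    have h1 : ringKrullDim (R ⧸ Q) ≤ ringKrullDim ((R ⧸ Q) ⧸ Ideal.span S') + S'.encard := by
      apply ringKrullDim_le_ringKrullDim_quotient_add_encard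
      rintro _ ⟨j, -, rfl⟩
      rw [IsLocalRing.ringJacobson_eq_maximalIdeal]
      exact (IsLocalRing.mem_maximalIdeal _).2 (fun hu =>
        (IsLocalRing.mem_maximalIdeal _).1 (ht j) (isUnit_of_map_unit (Ideal.Quotient.mk Q) _ hu))
    have h2 : ringKrullDim ((R ⧸ Q) ⧸ Ideal.span S') ≤ 0 := by
      rw [← hsop]
      let g : R →+* (R ⧸ Q) ⧸ Ideal.span S' :=
        (Ideal.Quotient.mk (Ideal.span S')).comp (Ideal.Quotient.mk Q)
      have hg : ∀ a ∈ Ideal.span (Set.range t), g a = 0 := by
        have hle : Ideal.span (Set.range t) ≤ RingHom.ker g := by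
          rw [Ideal.span_le]
          rintro _ ⟨j, rfl⟩
          rw [SetLike.mem_coe, RingHom.mem_ker]
          by_cases hj : j.val < i
          · change Ideal.Quotient.mk (Ideal.span S') (Ideal.Quotient.mk Q (t j)) = 0
            rw [Ideal.Quotient.eq_zero_iff_mem.2 (hQ j hj), map_zero]
          · exact Ideal.Quotient.eq_zero_iff_mem.2 (Ideal.subset_span ⟨j, not_lt.1 hj, rfl⟩)
        exact fun a ha => hle ha
      refine ringKrullDim_le_of_surjective (Ideal.Quotient.lift _ g hg)
        (Ideal.Quotient.lift_surjective_of_surjective _ _ ?_)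
      exact Ideal.Quotient.mk_surjective.comp Ideal.Quotient.mk_surjective
    have h3 : S'.encard ≤ ((s - i : ℕ) : ℕ∞) := by
      refine le_trans (Set.encard_image_le _ _) ?_
      have hfin : ({j : Fin s | i ≤ j.val} : Set (Fin s)) =
          ((Finset.univ.filter fun j : Fin s => ¬ (j.val < i) : Finset (Fin s)) : Set (Fin s)) := by
        ext j; simp
      rw [hfin, Set.encard_coe_eq_coe_finsetCard]
      have hc := Finset.card_filter_add_card_filter_not (s := (Finset.univ : Finset (Fin s)))
        (fun j : Fin s => j.val < i)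
      rw [Fin.card_filter_val_lt, Finset.card_univ, Fintype.card_fin, min_eq_right hi] at hc
      have : (Finset.univ.filter fun j : Fin s => ¬ (j.val < i)).card = s - i := by omega
      rw [this]
    calc ringKrullDim (R ⧸ Q) ≤ ringKrullDim ((R ⧸ Q) ⧸ Ideal.span S') + S'.encard := h1
      _ ≤ 0 + ((s - i : ℕ) : ℕ∞) := add_le_add h2 (by exact_mod_cast h3)
      _ = ((s - i : ℕ) : WithBot ℕ∞) := by rw [zero_add]; rfl
  have hCM := Groth.Agent.Lib.Helper28.ringKrullDim_eq_quotient_add_height_of_isCohenMacaulayModule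
    (R := R) (M := R) hR.supportDim_eq_depth Groth.Agent.Lib.Helper28.support_self_eq_univ Q
  rw [hs] at hCM
  have hfin : Q.height ≠ ⊤ := Ideal.height_ne_top_of_isPrime
  obtain ⟨h, hh⟩ := ENat.ne_top_iff_exists.1 hfin
  rw [← hh] at hCM ⊢
  have : (s : WithBot ℕ∞) ≤ ((s - i : ℕ) : WithBot ℕ∞) + ((h : ℕ∞) : WithBot ℕ∞) := by
    rw [hCM]
    exact add_le_add hdimQ le_rfl
  have h' : s ≤ (s - i) + h := by
    have h'' : ((s : ℕ∞) : WithBot ℕ∞) ≤ (((s - i : ℕ) + h : ℕ) : ℕ∞) := by
      push_cast
      exact this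
    exact_mod_cast h''
  have : i ≤ h := by omega
  exact_mod_cast this

end Lemma1

section Main

variable {A : Type u} [CommRing A] [IsNoetherianRing A] [IsLocalRing A] (p : Ideal A) [p.IsPrime]
  [hCM : LocCoh.IsCohenMacaulayLocalRing (Localization.AtPrime p)] (s : ℕ)
  (hs : ringKrullDim (Localization.AtPrime p) = s) (t : Fin s → Localization.AtPrime p)
  (ht : ∀ i, t i ∈ IsLocalRing.maximalIdeal (Localization.AtPrime p))
  (hsop : ringKrullDim (Localization.AtPrime p ⧸ Ideal.span (Set.range t)) = 0)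

/-- The ideal generated by the first `k` parameters. -/
def T (k : ℕ) : Ideal (Localization.AtPrime p) := Ideal.span (t '' {j : Fin s | j.val < k})

include hs ht hsop in
/-- A prime of `A` containing the contraction of `T k` and a numerator of `t k` has height
at least `k + 1`. -/
theorem succ_le_height (k : ℕ) (hk : k < s) (y c : A) (hc : c ∉ p)
    (hy : algebraMap A (Localization.AtPrime p) y =
      algebraMap A (Localization.AtPrime p) c * t ⟨k, hk⟩)
    (q : Ideal A) [hq : q.IsPrime]
    (hJ : (T p s t k).comap (algebraMap A (Localization.AtPrime p)) ≤ q) (hyq : y ∈ q) :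
    ((k + 1 : ℕ) : ℕ∞) ≤ q.height := by
  obtain ⟨q₀, hq₀, hq₀q⟩ := Ideal.exists_minimalPrimes_le hJ
  rw [IsLocalization.minimalPrimes_comap p.primeCompl (Localization.AtPrime p)] at hq₀
  obtain ⟨Q₀, hQ₀, rfl⟩ := hq₀
  haveI hQ₀p : Q₀.IsPrime := hQ₀.1.1
  have hT : ∀ j : Fin s, j.val < k → t j ∈ Q₀ :=
    fun j hj => hQ₀.1.2 (Ideal.subset_span ⟨j, hj, rfl⟩)
  have hht : (Q₀.comap (algebraMap A (Localization.AtPrime p))).height = Q₀.height :=
    IsLocalization.height_under p.primeCompl Q₀
  rcases hq₀q.lt_or_eq with hlt | heq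
  · have h1 := Ideal.height_add_one_le_of_lt_of_isPrime hlt
    have h2 := le_height_of_sop s hs t ht hsop Q₀ k hk.le hT
    rw [hht] at h1
    calc ((k + 1 : ℕ) : ℕ∞) = (k : ℕ∞) + 1 := by push_cast; rfl
      _ ≤ Q₀.height + 1 := add_le_add h2 le_rfl
      _ ≤ q.height := h1
  · subst heq
    have hyQ : algebraMap A (Localization.AtPrime p) y ∈ Q₀ := hyq
    rw [hy] at hyQ
    have hunit : IsUnit (algebraMap A (Localization.AtPrime p) c) :=
      IsLocalization.map_units _ (⟨c, hc⟩ : p.primeCompl)
    have htk : t ⟨k, hk⟩ ∈ Q₀ := (hQ₀p.mem_or_mem hyQ).resolve_left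
      (fun h => hQ₀p.ne_top (Ideal.eq_top_of_isUnit_mem _ h hunit))
    have h3 := le_height_of_sop s hs t ht hsop Q₀ (k + 1) hk (fun j hj => by
      rcases Nat.lt_succ_iff_lt_or_eq.1 hj with h | h
      · exact hT j h
      · have : j = ⟨k, hk⟩ := Fin.ext h
        rw [this]; exact htk)
    rw [hht]
    exact h3

include hs ht hsop in
/-- The inductive construction. -/
theorem exists_seq (k : ℕ) (hk : k ≤ s) :
    ∃ x a : ℕ → A, (∀ j (hj : j < k), x j ∈ p ∧ a j ∉ p ∧
        algebraMap A (Localization.AtPrime p) (x j) -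
          algebraMap A (Localization.AtPrime p) (a j) * t ⟨j, hj.trans_le hk⟩ ∈ T p s t j) ∧
      ∀ P ∈ (Ideal.span (x '' Set.Iio k)).minimalPrimes, (k : ℕ∞) ≤ P.height := by
  classical
  induction k with
  | zero =>
    exact ⟨fun _ => 0, fun _ => 1, fun j hj => absurd hj (Nat.not_lt_zero j),
      fun P _ => by simp⟩
  | succ k ih =>
    obtain ⟨x, a, h1, h2⟩ := ih (Nat.le_of_succ_le hk)
    have hk' : k < s := hk
    obtain ⟨⟨y, c⟩, hyc⟩ := IsLocalization.surj p.primeCompl (t ⟨k, hk'⟩)
    have hy : algebraMap A (Localization.AtPrime p) y =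
        algebraMap A (Localization.AtPrime p) c * t ⟨k, hk'⟩ := by
      rw [← hyc, mul_comm]
    set I := Ideal.span (x '' Set.Iio k) with hI
    have hfin : I.minimalPrimes.Finite := Ideal.finite_minimalPrimes_of_isNoetherianRing A I
    have hTle : T p s t k ≤ IsLocalRing.maximalIdeal (Localization.AtPrime p) := by
      rw [T, Ideal.span_le]
      rintro _ ⟨j, -, rfl⟩
      exact ht j
    have hJp : (T p s t k).comap (algebraMap A (Localization.AtPrime p)) ≤ p := by
      intro w hw
      exact (IsLocalization.AtPrime.to_map_mem_maximal_iff (Localization.AtPrime p) p w).1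
        (hTle hw)
    have hyp : y ∈ p := by
      apply (IsLocalization.AtPrime.to_map_mem_maximal_iff (Localization.AtPrime p) p y).1
      rw [hy]
      exact Ideal.mul_mem_left _ _ (ht _)
    obtain ⟨z, hz, hzP⟩ : ∃ z ∈ (T p s t k).comap (algebraMap A (Localization.AtPrime p)),
        ∀ P ∈ I.minimalPrimes, y + z ∉ P := by
      by_contra hcon
      push Not at hcon
      obtain ⟨P, hP, hyP, hJP⟩ := Groth.Agent.R2.H86.RegPrefix.davis hfin.toFinset
        (fun P hP => (hfin.mem_toFinset.1 hP).1.1)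
        ((T p s t k).comap (algebraMap A (Localization.AtPrime p))) y
        (fun z hz => by
          obtain ⟨P, hP, h⟩ := hcon z hz
          exact ⟨P, hfin.mem_toFinset.2 hP, h⟩)
      have hP' := hfin.mem_toFinset.1 hP
      haveI : P.IsPrime := hP'.1.1
      have hle : P.height ≤ k := by
        have hspan : I = Ideal.span (((Finset.range k).image x : Finset A) : Set A) := by
          rw [hI, Finset.coe_image, Finset.coe_range]
        rw [hspan] at hP'
        refine le_trans (Ideal.height_le_card_of_mem_minimalPrimes_span_finset hP') ?_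
        exact_mod_cast le_trans Finset.card_image_le (Finset.card_range k).le
      have hge := succ_le_height p s hs t ht hsop k hk' y c c.2 hy P hJP hyP
      have : ((k + 1 : ℕ) : ℕ∞) ≤ k := le_trans hge hle
      have : k + 1 ≤ k := by exact_mod_cast this
      omega
    refine ⟨Function.update x k (y + z), Function.update a k c, ?_, ?_⟩
    · intro j hj
      rcases Nat.lt_succ_iff_lt_or_eq.1 hj with hlt | heq
      · rw [Function.update_of_ne hlt.ne, Function.update_of_ne hlt.ne]
        exact h1 j hlt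
      · subst heq
        rw [Function.update_self, Function.update_self]
        refine ⟨p.add_mem hyp (hJp hz), c.2, ?_⟩
        rw [map_add, hy, add_sub_cancel_left]
        exact hz
    · intro P hP
      haveI : P.IsPrime := hP.1.1
      have hIP : I ≤ P := by
        refine le_trans ?_ hP.1.2
        rw [hI]
        apply Ideal.span_mono
        rintro _ ⟨j, hj, rfl⟩
        exact ⟨j, Nat.lt_succ_of_lt hj, Function.update_of_ne (Nat.ne_of_lt hj) _ _⟩
      have hxP : y + z ∈ P :=
        hP.1.2 (Ideal.subset_span ⟨k, Nat.lt_succ_self k, Function.update_self _ _ _⟩)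
      obtain ⟨q, hq, hqP⟩ := Ideal.exists_minimalPrimes_le hIP
      haveI : q.IsPrime := hq.1.1
      have hne : q ≠ P := fun h => hzP q hq (h ▸ hxP)
      have hlt : q < P := lt_of_le_of_ne hqP hne
      calc ((k + 1 : ℕ) : ℕ∞) = (k : ℕ∞) + 1 := by push_cast; rfl
        _ ≤ q.height + 1 := add_le_add (h2 q hq) le_rfl
        _ ≤ P.height := Ideal.height_add_one_le_of_lt_of_isPrime hlt

include hs ht hsop in
/-- The lifting theorem (statement of S5987). -/
theorem main : ∃ x a : Fin s → A, (∀ i, x i ∈ p) ∧ (∀ i, a i ∉ p) ∧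
      ringKrullDim (A ⧸ Ideal.span (Set.range x)) + (s : WithBot ℕ∞) = ringKrullDim A ∧
      ∀ i : Fin s, algebraMap A (Localization.AtPrime p) (x i) -
          algebraMap A (Localization.AtPrime p) (a i) * t i ∈
        Ideal.span (t '' {j : Fin s | j < i}) := by
  obtain ⟨x, a, h1, h2⟩ := exists_seq p s hs t ht hsop s le_rfl
  refine ⟨fun i => x i.val, fun i => a i.val, fun i => (h1 i.val i.2).1,
    fun i => (h1 i.val i.2).2.1, ?_, fun i => (h1 i.val i.2).2.2⟩
  have hrange : Set.range (fun i : Fin s => x i.val) = x '' Set.Iio s := by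
    ext w
    constructor
    · rintro ⟨i, rfl⟩
      exact ⟨i.val, i.2, rfl⟩
    · rintro ⟨j, hj, rfl⟩
      exact ⟨⟨j, hj⟩, rfl⟩
  rw [hrange]
  set I := Ideal.span (x '' Set.Iio s) with hI
  have hIp : I ≤ p := by
    rw [hI, Ideal.span_le]
    rintro _ ⟨j, hj, rfl⟩
    exact (h1 j hj).1
  have hItop : I ≠ ⊤ := fun h => (‹p.IsPrime›).ne_top (top_le_iff.1 (h ▸ hIp))
  have hht : (s : ℕ∞) ≤ I.height := by
    rw [Ideal.height_eq_inf_minimalPrimes]
    exact le_iInf₂ h2
  have hle1 := Groth.Agent.Lib.Helper28.height_add_ringKrullDim_quotient_le I hItop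
  have hle2 : ringKrullDim A ≤ ringKrullDim (A ⧸ I) + ((x '' Set.Iio s).encard : ℕ∞) := by
    apply ringKrullDim_le_ringKrullDim_quotient_add_encard
    rw [IsLocalRing.ringJacobson_eq_maximalIdeal]
    rintro _ ⟨j, hj, rfl⟩
    exact IsLocalRing.le_maximalIdeal (‹p.IsPrime›).ne_top (h1 j hj).1
  have hcard : (x '' Set.Iio s).encard ≤ (s : ℕ∞) := by
    refine le_trans (Set.encard_image_le _ _) ?_
    rw [← Finset.coe_range, Set.encard_coe_eq_coe_finsetCard, Finset.card_range]
  apply le_antisymm
  · calc ringKrullDim (A ⧸ I) + (s : WithBot ℕ∞)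
        ≤ ringKrullDim (A ⧸ I) + ((I.height : ℕ∞) : WithBot ℕ∞) :=
          add_le_add le_rfl (by exact_mod_cast hht)
      _ = ((I.height : ℕ∞) : WithBot ℕ∞) + ringKrullDim (A ⧸ I) := add_comm _ _
      _ ≤ ringKrullDim A := hle1
  · calc ringKrullDim A ≤ ringKrullDim (A ⧸ I) + ((x '' Set.Iio s).encard : ℕ∞) := hle2
      _ ≤ ringKrullDim (A ⧸ I) + (s : WithBot ℕ∞) :=
          add_le_add le_rfl (by exact_mod_cast hcard)

end Main

end Groth.Agent.R2.H77.SopLift
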