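import Mathlib

/-!
# The staircase basis of a polynomial ring over the elementary symmetric relations

For a commutative ring `R` and a monic polynomial `f` of degree `n`, the quotient of `R[t_0, …, t_{n-1}]`
by the relations `∏ (x - t_i) = f(x)` (the universal splitting algebra of `f`) is a free `R`-module on
the staircase monomials `t^d`, `d_i < n - i`.
-/

set_option autoImplicit false

namespace Groth.Agent.R2.H77.SymBasis

universe u

section Basic

variable {R : Type u} [CommRing R]

/-- The difference `∏ (x - t_i) - f(x)` as a polynomial over `R[t]`. -/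
noncomputable def diffPoly (n : ℕ) (f : Polynomial R) : Polynomial (MvPolynomial (Fin n) R) :=
  (∏ i : Fin n, (Polynomial.X - Polynomial.C (MvPolynomial.X i))) - f.map MvPolynomial.C

/-- The ideal generated by the coefficients of `∏ (x - t_i) - f(x)`. -/
noncomputable def splitIdeal (n : ℕ) (f : Polynomial R) : Ideal (MvPolynomial (Fin n) R) :=
  Ideal.span (Set.range (diffPoly n f).coeff)

theorem map_diffPoly_eq_zero_iff {B : Type*} [CommRing B] (n : ℕ) (f : Polynomial R)
    (φ : MvPolynomial (Fin n) R →+* B) :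
    (diffPoly n f).map φ = 0 ↔
      ∏ i : Fin n, (Polynomial.X - Polynomial.C (φ (MvPolynomial.X i))) =
        f.map (φ.comp MvPolynomial.C) := by
  rw [diffPoly, Polynomial.map_sub, Polynomial.map_prod, Polynomial.map_map, sub_eq_zero]
  simp only [Polynomial.map_sub, Polynomial.map_X, Polynomial.map_C]

theorem splitIdeal_le_ker_iff {B : Type*} [CommRing B] (n : ℕ) (f : Polynomial R)
    (φ : MvPolynomial (Fin n) R →+* B) :
    splitIdeal n f ≤ RingHom.ker φ ↔
      ∏ i : Fin n, (Polynomial.X - Polynomial.C (φ (MvPolynomial.X i))) =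
        f.map (φ.comp MvPolynomial.C) := by
  rw [← map_diffPoly_eq_zero_iff, splitIdeal, Ideal.span_le]
  constructor
  · intro h
    ext k
    rw [Polynomial.coeff_map, Polynomial.coeff_zero]
    exact h ⟨k, rfl⟩
  · rintro h _ ⟨k, rfl⟩
    rw [SetLike.mem_coe, RingHom.mem_ker, ← Polynomial.coeff_map, h, Polynomial.coeff_zero]

/-- In the quotient by the split ideal, `f` splits as `∏ (x - t_i)`. -/
theorem prod_mk_eq (n : ℕ) (f : Polynomial R) :
    ∏ i : Fin n, (Polynomial.X - Polynomial.C (Ideal.Quotient.mk (splitIdeal n f) (MvPolynomial.X i))) =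
        f.map ((Ideal.Quotient.mk (splitIdeal n f)).comp MvPolynomial.C) := by
  rw [← splitIdeal_le_ker_iff, Ideal.mk_ker]

/-- The staircase sum `∑_d r_d t^d`. -/
noncomputable def stairSum {n : ℕ} (bound : Fin n → ℕ) (r : (∀ i : Fin n, Fin (bound i)) → R) :
    MvPolynomial (Fin n) R :=
  ∑ d : (∀ i : Fin n, Fin (bound i)), MvPolynomial.C (r d) * ∏ i : Fin n, MvPolynomial.X i ^ ((d i : ℕ))

end Basic


section Step

variable {R : Type u} [CommRing R] (n : ℕ) (f : Polynomial R)

theorem adjoinRoot_nontrivial (hf : f.Monic) (hdeg : f.natDegree = n + 1) :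
    Nontrivial (AdjoinRoot f) := by
  refine nontrivial_of_ne (1 : AdjoinRoot f) 0 ?_
  rw [ne_eq, ← map_one (AdjoinRoot.mk f), AdjoinRoot.mk_eq_zero]
  intro h
  have h1 : f = 1 := hf.eq_one_of_isUnit (isUnit_of_dvd_one h)
  rw [h1, Polynomial.natDegree_one] at hdeg
  omega

/-- The quotient of `f` by `x - β` over `AdjoinRoot f`, `β` the adjoined root. -/
noncomputable def quotPoly : Polynomial (AdjoinRoot f) :=
  (f.map (AdjoinRoot.of f)) /ₘ (Polynomial.X - Polynomial.C (AdjoinRoot.root f))

theorem X_sub_C_mul_quotPoly :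
    (Polynomial.X - Polynomial.C (AdjoinRoot.root f)) * quotPoly f = f.map (AdjoinRoot.of f) :=
  Polynomial.mul_divByMonic_eq_iff_isRoot.mpr (AdjoinRoot.isRoot_root f)

theorem quotPoly_monic (hf : f.Monic) : (quotPoly f).Monic :=
  (Polynomial.monic_X_sub_C _).of_mul_monic_left (by rw [X_sub_C_mul_quotPoly]; exact hf.map _)

theorem quotPoly_natDegree (hf : f.Monic) (hdeg : f.natDegree = n + 1) :
    (quotPoly f).natDegree = n := by
  have := adjoinRoot_nontrivial n f hf hdeg
  rw [quotPoly, Polynomial.natDegree_divByMonic _ (Polynomial.monic_X_sub_C _),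
    hf.natDegree_map, hdeg, Polynomial.natDegree_X_sub_C]
  rfl

/-- The comparison map `R[t_0, …, t_n] → (AdjoinRoot f)[t_1, …, t_n]`, `t_0 ↦ β`. -/
noncomputable def theta : MvPolynomial (Fin (n + 1)) R →ₐ[R] MvPolynomial (Fin n) (AdjoinRoot f) :=
  MvPolynomial.aeval (Fin.cons (MvPolynomial.C (AdjoinRoot.root f)) MvPolynomial.X :
    Fin (n + 1) → MvPolynomial (Fin n) (AdjoinRoot f))

theorem theta_X_zero : theta n f (MvPolynomial.X 0) = MvPolynomial.C (AdjoinRoot.root f) := by
  simp [theta]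

theorem theta_X_succ (j : Fin n) : theta n f (MvPolynomial.X j.succ) = MvPolynomial.X j := by
  simp [theta]

theorem theta_C (r : R) : theta n f (MvPolynomial.C r) = MvPolynomial.C (AdjoinRoot.of f r) := by
  rw [theta, MvPolynomial.aeval_C, MvPolynomial.algebraMap_apply, AdjoinRoot.algebraMap_eq]

/-- Fact (1): `theta` carries the split ideal of `f` into the split ideal of the quotient polynomial. -/
theorem splitIdeal_le_comap_theta :
    splitIdeal (n + 1) f ≤ (splitIdeal n (quotPoly f)).comap (theta n f).toRingHom := by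
  have hker : (splitIdeal n (quotPoly f)).comap (theta n f).toRingHom =
      RingHom.ker ((Ideal.Quotient.mk (splitIdeal n (quotPoly f))).comp (theta n f).toRingHom) := by
    rw [← RingHom.comap_ker, Ideal.mk_ker]
  rw [hker, splitIdeal_le_ker_iff, Fin.prod_univ_succ]
  simp only [RingHom.comp_apply, AlgHom.toRingHom_eq_coe, RingHom.coe_coe, theta_X_zero, theta_X_succ]
  rw [prod_mk_eq n (quotPoly f)]
  have h1 : (Polynomial.X - Polynomial.C ((Ideal.Quotient.mk (splitIdeal n (quotPoly f)))
      (MvPolynomial.C (AdjoinRoot.root f)))) =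
      (Polynomial.X - Polynomial.C (AdjoinRoot.root f)).map
        ((Ideal.Quotient.mk (splitIdeal n (quotPoly f))).comp MvPolynomial.C) := by
    simp
  rw [h1, ← Polynomial.map_mul, X_sub_C_mul_quotPoly, Polynomial.map_map]
  congr 1
  ext r
  simp

/-- Fact (2): `t_0` is a root of `f` modulo the split ideal. -/
theorem eval₂_mk_X_zero :
    f.eval₂ ((Ideal.Quotient.mk (splitIdeal (n + 1) f)).comp MvPolynomial.C)
      (Ideal.Quotient.mk (splitIdeal (n + 1) f) (MvPolynomial.X 0)) = 0 := by
  rw [← Polynomial.eval_map, ← prod_mk_eq, Polynomial.eval_prod]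
  apply Finset.prod_eq_zero (Finset.mem_univ 0)
  simp

/-- The map `AdjoinRoot f → R[t_0, …, t_n] / I(f)`, `β ↦ t_0`. -/
noncomputable def psi0 : AdjoinRoot f →+* MvPolynomial (Fin (n + 1)) R ⧸ splitIdeal (n + 1) f :=
  AdjoinRoot.lift ((Ideal.Quotient.mk _).comp MvPolynomial.C)
    (Ideal.Quotient.mk _ (MvPolynomial.X 0)) (eval₂_mk_X_zero n f)

/-- The map `(AdjoinRoot f)[t_1, …, t_n] → R[t_0, …, t_n] / I(f)`. -/
noncomputable def psi :
    MvPolynomial (Fin n) (AdjoinRoot f) →+* MvPolynomial (Fin (n + 1)) R ⧸ splitIdeal (n + 1) f :=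
  MvPolynomial.eval₂Hom (psi0 n f) (fun j => Ideal.Quotient.mk _ (MvPolynomial.X j.succ))

theorem psi0_root : psi0 n f (AdjoinRoot.root f) = Ideal.Quotient.mk _ (MvPolynomial.X 0) :=
  AdjoinRoot.lift_root _

theorem psi0_of (r : R) : psi0 n f (AdjoinRoot.of f r) = Ideal.Quotient.mk _ (MvPolynomial.C r) :=
  AdjoinRoot.lift_of _

theorem psi_C (x : AdjoinRoot f) : psi n f (MvPolynomial.C x) = psi0 n f x := by
  simp [psi]

theorem psi_X (j : Fin n) : psi n f (MvPolynomial.X j) = Ideal.Quotient.mk _ (MvPolynomial.X j.succ) := by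
  simp [psi]

theorem psi_comp_theta :
    (psi n f).comp (theta n f).toRingHom = Ideal.Quotient.mk (splitIdeal (n + 1) f) := by
  apply MvPolynomial.ringHom_ext
  · intro r
    simp [psi_C, psi0_of]
  · intro i
    refine Fin.cases ?_ (fun j => ?_) i
    · simp [theta_X_zero, psi_C, psi0_root]
    · simp [theta_X_succ, psi_X]

theorem psi_theta (x : MvPolynomial (Fin (n + 1)) R) :
    psi n f (theta n f x) = Ideal.Quotient.mk (splitIdeal (n + 1) f) x :=
  congrArg (fun φ : MvPolynomial (Fin (n + 1)) R →+* _ => φ x) (psi_comp_theta n f)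

/-- Fact (3): `psi` kills the split ideal of the quotient polynomial. -/
theorem splitIdeal_quotPoly_le_ker_psi : splitIdeal n (quotPoly f) ≤ RingHom.ker (psi n f) := by
  rw [splitIdeal_le_ker_iff]
  have h := prod_mk_eq (n + 1) f
  rw [Fin.prod_univ_succ] at h
  have h2 : f.map ((Ideal.Quotient.mk (splitIdeal (n + 1) f)).comp MvPolynomial.C) =
      (f.map (AdjoinRoot.of f)).map (psi0 n f) := by
    rw [Polynomial.map_map]
    congr 1
    ext r
    simp [psi0_of]
  rw [h2, ← X_sub_C_mul_quotPoly, Polynomial.map_mul] at h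
  simp only [Polynomial.map_sub, Polynomial.map_X, Polynomial.map_C, psi0_root] at h
  have h4 := (Polynomial.monic_X_sub_C
    (Ideal.Quotient.mk (splitIdeal (n + 1) f) (MvPolynomial.X 0))).isRegular.left h
  simp only [psi_X]
  rw [h4]
  congr 1
  exact RingHom.ext fun x => (psi_C n f x).symm

/-- The coefficients, over `AdjoinRoot f`, of the image of a staircase sum under `theta`. -/
noncomputable def thetaCoeff (bound : Fin (n + 1) → ℕ) (r : (∀ i : Fin (n + 1), Fin (bound i)) → R)
    (d' : ∀ j : Fin n, Fin (bound j.succ)) : AdjoinRoot f :=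
  ∑ d0 : Fin (bound 0), AdjoinRoot.of f (r (Fin.cons (α := fun i => Fin (bound i)) d0 d')) *
    AdjoinRoot.root f ^ (d0 : ℕ)

theorem theta_stairSum (bound : Fin (n + 1) → ℕ) (r : (∀ i : Fin (n + 1), Fin (bound i)) → R) :
    theta n f (stairSum bound r) =
      stairSum (fun j : Fin n => bound j.succ) (thetaCoeff n f bound r) := by
  unfold stairSum thetaCoeff
  rw [map_sum, ← (Fin.consEquiv (fun i => Fin (bound i))).sum_comp, Fintype.sum_prod_type,
    Finset.sum_comm]
  refine Finset.sum_congr rfl fun d' _ => ?_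
  rw [map_sum, Finset.sum_mul]
  refine Finset.sum_congr rfl fun d0 _ => ?_
  rw [map_mul, theta_C, map_prod, Fin.prod_univ_succ]
  simp only [map_pow, theta_X_zero, theta_X_succ, Fin.consEquiv_apply, Fin.cons_zero, Fin.cons_succ,
    map_mul]
  have e : (Fin.consEquiv fun i => Fin (bound i)) (d0, d') =
      Fin.cons (α := fun i => Fin (bound i)) d0 d' := rfl
  rw [e]
  ring

end Step

section Main

theorem sum_fin_C_mul_X_pow_coeff {R : Type u} [CommRing R] (m : ℕ) (c : Fin m → R) (k : Fin m) :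
    (∑ i : Fin m, Polynomial.C (c i) * Polynomial.X ^ (i : ℕ)).coeff k = c k := by
  rw [Polynomial.finsetSum_coeff]
  rw [Finset.sum_eq_single k]
  · simp
  · intro i _ hik
    rw [Polynomial.coeff_C_mul_X_pow, if_neg]
    intro h
    exact hik (Fin.ext h.symm)
  · intro h
    exact absurd (Finset.mem_univ k) h

theorem sum_fin_C_mul_X_pow_coeff_of_le {R : Type u} [CommRing R] (m : ℕ) (c : Fin m → R) (k : ℕ)
    (hk : m ≤ k) :
    (∑ i : Fin m, Polynomial.C (c i) * Polynomial.X ^ (i : ℕ)).coeff k = 0 := by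
  rw [Polynomial.finsetSum_coeff]
  refine Finset.sum_eq_zero fun i _ => ?_
  rw [Polynomial.coeff_C_mul_X_pow, if_neg]
  have := i.2
  omega

theorem sum_fin_C_mul_X_pow_degree_lt {R : Type u} [CommRing R] (m : ℕ) (c : Fin m → R) :
    (∑ i : Fin m, Polynomial.C (c i) * Polynomial.X ^ (i : ℕ)).degree < (m : WithBot ℕ) := by
  rw [Polynomial.degree_lt_iff_coeff_zero]
  exact fun k hk => sum_fin_C_mul_X_pow_coeff_of_le m c k hk

theorem eq_sum_fin_of_degree_lt {R : Type u} [CommRing R] (m : ℕ) (q : Polynomial R)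
    (hq : q.degree < (m : WithBot ℕ)) :
    q = ∑ i : Fin m, Polynomial.C (q.coeff i) * Polynomial.X ^ (i : ℕ) := by
  ext k
  by_cases hk : k < m
  · exact (sum_fin_C_mul_X_pow_coeff m (fun i : Fin m => q.coeff i) ⟨k, hk⟩).symm
  · rw [sum_fin_C_mul_X_pow_coeff_of_le m _ k (not_lt.mp hk)]
    exact (Polynomial.degree_lt_iff_coeff_zero q m).mp hq k (not_lt.mp hk)

theorem splitIdeal_zero {R : Type u} [CommRing R] (f : Polynomial R) (hf : f.Monic)
    (hdeg : f.natDegree = 0) : splitIdeal 0 f = ⊥ := by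
  have h1 : f = 1 := hf.natDegree_eq_zero.mp hdeg
  rw [splitIdeal, diffPoly, h1]
  simp

theorem stairSum_zero {R : Type u} [CommRing R] (bound : Fin 0 → ℕ)
    (r : (∀ i : Fin 0, Fin (bound i)) → R) :
    stairSum bound r = MvPolynomial.C (r default) := by
  unfold stairSum
  rw [Fintype.sum_unique]
  simp

/-- The staircase monomials span modulo the split ideal, and are linearly independent modulo it. -/
theorem main (n : ℕ) : ∀ (R : Type u) [CommRing R] (f : Polynomial R), f.Monic → f.natDegree = n →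
    ∀ (bound : Fin n → ℕ), (∀ i, bound i = n - i) →
    (∀ x : MvPolynomial (Fin n) R, ∃ r : (∀ i, Fin (bound i)) → R,
      x - stairSum bound r ∈ splitIdeal n f) ∧
    (∀ r : (∀ i, Fin (bound i)) → R, stairSum bound r ∈ splitIdeal n f → r = 0) := by
  induction n with
  | zero =>
    intro R _ f hf hdeg bound _
    rw [splitIdeal_zero f hf hdeg]
    refine ⟨fun x => ⟨fun _ => MvPolynomial.coeff 0 x, ?_⟩, fun r hr => ?_⟩
    · rw [stairSum_zero, ← MvPolynomial.eq_C_of_isEmpty x, sub_self]
      exact Ideal.zero_mem _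
    · rw [stairSum_zero, Ideal.mem_bot, MvPolynomial.C_eq_zero] at hr
      funext d
      rw [Subsingleton.elim d default, hr]
      rfl
  | succ n ih =>
    intro R _ f hf hdeg bound hb
    have hb0 : bound 0 = n + 1 := by rw [hb 0]; simp
    have hb' : ∀ j : Fin n, bound j.succ = n - j := by
      intro j
      rw [hb j.succ, Fin.val_succ]
      omega
    obtain ⟨ih1, ih2⟩ := ih (AdjoinRoot f) (quotPoly f) (quotPoly_monic f hf)
      (quotPoly_natDegree n f hf hdeg) (fun j => bound j.succ) hb'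
    have hR : Nontrivial R := by
      by_contra h
      rw [not_nontrivial_iff_subsingleton] at h
      have h0 : f = 0 := Subsingleton.elim _ _
      rw [h0, Polynomial.natDegree_zero] at hdeg
      omega
    have hfdeg : f.degree = ((bound 0 : ℕ) : WithBot ℕ) := by
      rw [Polynomial.degree_eq_natDegree hf.ne_zero, hdeg, hb0]
    refine ⟨fun x => ?_, fun r hr => ?_⟩
    · -- spanning
      obtain ⟨ρ, hρ⟩ := ih1 (theta n f x)
      choose q hq using fun d' => AdjoinRoot.mk_surjective (g := f) (ρ d')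
      let r : (∀ i : Fin (n + 1), Fin (bound i)) → R :=
        fun d => ((q (fun j => d j.succ)) %ₘ f).coeff (d 0)
      have hr : thetaCoeff n f bound r = ρ := by
        funext d'
        have hlt : ((q d') %ₘ f).degree < ((bound 0 : ℕ) : WithBot ℕ) := by
          rw [← hfdeg]; exact Polynomial.degree_modByMonic_lt _ hf
        have h1 : AdjoinRoot.mk f ((q d') %ₘ f) = ρ d' := by
          rw [← hq d']
          conv_rhs => rw [← Polynomial.modByMonic_add_div (q d') f]
          rw [map_add, map_mul, AdjoinRoot.mk_self, zero_mul, add_zero]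
        rw [← h1]
        conv_rhs => rw [eq_sum_fin_of_degree_lt (bound 0) _ hlt]
        unfold thetaCoeff
        rw [map_sum]
        refine Finset.sum_congr rfl fun d0 _ => ?_
        rw [map_mul, map_pow, AdjoinRoot.mk_C, AdjoinRoot.mk_X]
        rfl
      refine ⟨r, ?_⟩
      rw [← Ideal.Quotient.eq_zero_iff_mem, ← psi_theta, map_sub, theta_stairSum, hr,
        ← RingHom.mem_ker]
      exact splitIdeal_quotPoly_le_ker_psi n f hρ
    · -- independence
      have h1 : theta n f (stairSum bound r) ∈ splitIdeal n (quotPoly f) :=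
        splitIdeal_le_comap_theta n f hr
      rw [theta_stairSum] at h1
      have h2 := ih2 _ h1
      funext d
      have h3 := congrFun h2 (fun j => d j.succ)
      unfold thetaCoeff at h3
      rw [Pi.zero_apply] at h3
      set c : Fin (bound 0) → R :=
        fun d0 => r (Fin.cons (α := fun i => Fin (bound i)) d0 (fun j => d j.succ)) with hc
      have h4 : AdjoinRoot.mk f (∑ d0 : Fin (bound 0), Polynomial.C (c d0) * Polynomial.X ^ (d0 : ℕ)) = 0 := by
        rw [map_sum]
        refine Eq.trans (Finset.sum_congr rfl fun d0 _ => ?_) h3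
        rw [map_mul, map_pow, AdjoinRoot.mk_C, AdjoinRoot.mk_X]
      rw [AdjoinRoot.mk_eq_zero, ← Polynomial.modByMonic_eq_zero_iff_dvd hf,
        (Polynomial.modByMonic_eq_self_iff hf).mpr (by
          rw [hfdeg]; exact sum_fin_C_mul_X_pow_degree_lt _ _)] at h4
      have h5 := sum_fin_C_mul_X_pow_coeff (bound 0) c (d 0)
      rw [h4, Polynomial.coeff_zero] at h5
      have h6 : c (d 0) = r d := by
        show r (Fin.cons (α := fun i => Fin (bound i)) (d 0) (fun j => d j.succ)) = r d
        congr 1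
        exact Fin.cons_self_tail d
      rw [← h6, ← h5]
      rfl

end Main

section Esymm

variable {R : Type u} [CommRing R] {n : ℕ}

/-- The ideal generated by the relations `e_{i+1}(t) = a_i`. -/
noncomputable def esymmIdeal (a : Fin n → R) : Ideal (MvPolynomial (Fin n) R) :=
  Ideal.span (Set.range fun i : Fin n =>
    MvPolynomial.esymm (Fin n) R ((i : ℕ) + 1) - MvPolynomial.C (a i))

/-- The monic polynomial `x^n - a_0 x^{n-1} + a_1 x^{n-2} - ⋯`. -/
noncomputable def fOf (a : Fin n → R) : Polynomial R :=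
  Polynomial.X ^ n + ∑ j : Fin n, Polynomial.C ((-1) ^ (n - (j : ℕ)) * a (Fin.rev j)) * Polynomial.X ^ (j : ℕ)

theorem fOf_monic (a : Fin n → R) : (fOf a).Monic :=
  Polynomial.monic_X_pow_add (sum_fin_C_mul_X_pow_degree_lt n _)

theorem fOf_natDegree [Nontrivial R] (a : Fin n → R) : (fOf a).natDegree = n := by
  have h := sum_fin_C_mul_X_pow_degree_lt n (fun j : Fin n => (-1) ^ (n - (j : ℕ)) * a (Fin.rev j))
  rw [fOf, Polynomial.natDegree_add_eq_left_of_degree_lt, Polynomial.natDegree_X_pow]
  rw [Polynomial.degree_X_pow]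
  exact h

theorem prod_X_sub_C_X_coeff (k : ℕ) (h : k ≤ n) :
    (∏ i : Fin n, (Polynomial.X - Polynomial.C (MvPolynomial.X i : MvPolynomial (Fin n) R))).coeff k =
      (-1) ^ (n - k) * MvPolynomial.esymm (Fin n) R (n - k) := by
  let s := Finset.univ.val.map fun i : Fin n => (MvPolynomial.X i : MvPolynomial (Fin n) R)
  have hcard : n = Multiset.card s := by
    rw [Multiset.card_map, ← Finset.card_def, Finset.card_univ, Fintype.card_fin]
  have h' : k ≤ Multiset.card s := hcard ▸ h
  have := Multiset.prod_X_sub_C_coeff s h'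
  rw [← hcard, ← MvPolynomial.esymm_eq_multiset_esymm (Fin n) R] at this
  rw [← this, Finset.prod_eq_multiset_prod]
  congr 2
  simp_rw [s, Multiset.map_map, Function.comp_apply]

theorem diffPoly_coeff_lt (a : Fin n → R) (j : Fin n) :
    (diffPoly n (fOf a)).coeff j = (-1) ^ (n - (j : ℕ)) *
      (MvPolynomial.esymm (Fin n) R (((Fin.rev j : Fin n) : ℕ) + 1) - MvPolynomial.C (a (Fin.rev j))) := by
  have hj : ((Fin.rev j : Fin n) : ℕ) + 1 = n - (j : ℕ) := by
    rw [Fin.val_rev]; have := j.2; omega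
  rw [diffPoly, Polynomial.coeff_sub, prod_X_sub_C_X_coeff _ j.2.le, Polynomial.coeff_map, fOf,
    Polynomial.coeff_add, Polynomial.coeff_X_pow, if_neg (ne_of_lt j.2), zero_add,
    sum_fin_C_mul_X_pow_coeff, hj]
  simp only [map_mul, map_pow, map_neg, map_one]
  ring

theorem diffPoly_coeff_ge (a : Fin n → R) (k : ℕ) (hk : n ≤ k) :
    (diffPoly n (fOf a)).coeff k = 0 := by
  rw [diffPoly, Polynomial.coeff_sub, Polynomial.coeff_map, fOf, Polynomial.coeff_add,
    sum_fin_C_mul_X_pow_coeff_of_le _ _ _ hk, add_zero, Polynomial.coeff_X_pow]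
  rcases hk.eq_or_lt with rfl | hlt
  · rw [prod_X_sub_C_X_coeff _ le_rfl]
    simp
  · rw [if_neg (ne_of_gt hlt), map_zero, sub_zero]
    apply Polynomial.coeff_eq_zero_of_natDegree_lt
    refine lt_of_le_of_lt (Polynomial.natDegree_prod_le _ _) ?_
    refine lt_of_le_of_lt (Finset.sum_le_sum fun i _ => Polynomial.natDegree_X_sub_C_le _) ?_
    simpa using hlt

theorem esymmIdeal_eq_splitIdeal (a : Fin n → R) : esymmIdeal a = splitIdeal n (fOf a) := by
  apply le_antisymm
  · rw [esymmIdeal, Ideal.span_le]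
    rintro _ ⟨i, rfl⟩
    have h := diffPoly_coeff_lt a (Fin.rev i)
    rw [Fin.rev_rev] at h
    have h2 : MvPolynomial.esymm (Fin n) R ((i : ℕ) + 1) - MvPolynomial.C (a i) =
        (-1) ^ (n - ((Fin.rev i : Fin n) : ℕ)) * (diffPoly n (fOf a)).coeff (Fin.rev i : Fin n) := by
      rw [h, ← mul_assoc, ← mul_pow]
      simp
    show MvPolynomial.esymm (Fin n) R ((i : ℕ) + 1) - MvPolynomial.C (a i) ∈ splitIdeal n (fOf a)
    rw [h2]
    exact Ideal.mul_mem_left _ _ (Ideal.subset_span ⟨_, rfl⟩)
  · rw [splitIdeal, Ideal.span_le]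
    rintro _ ⟨k, rfl⟩
    by_cases hk : k < n
    · have h := diffPoly_coeff_lt a ⟨k, hk⟩
      rw [SetLike.mem_coe]
      change (diffPoly n (fOf a)).coeff k = _ at h
      rw [h]
      exact Ideal.mul_mem_left _ _ (Ideal.subset_span ⟨_, rfl⟩)
    · rw [diffPoly_coeff_ge a k (not_lt.mp hk)]
      exact Ideal.zero_mem _

end Esymm

section Final

variable {R : Type u} [CommRing R] {n : ℕ}

theorem stairSum_sub (bound : Fin n → ℕ) (r s : (∀ i : Fin n, Fin (bound i)) → R) :
    stairSum bound (r - s) = stairSum bound r - stairSum bound s := by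
  unfold stairSum
  rw [← Finset.sum_sub_distrib]
  refine Finset.sum_congr rfl fun d _ => ?_
  rw [Pi.sub_apply, map_sub, sub_mul]

theorem stairSum_mem_map (bound : Fin n → ℕ) (J : Ideal R) (r : (∀ i : Fin n, Fin (bound i)) → R)
    (hr : ∀ d, r d ∈ J) : stairSum bound r ∈ Ideal.map (MvPolynomial.C : R →+* MvPolynomial (Fin n) R) J := by
  unfold stairSum
  exact Ideal.sum_mem _ fun d _ => Ideal.mul_mem_right _ _ (Ideal.mem_map_of_mem _ (hr d))

/-- Spanning: every polynomial is congruent to a staircase sum modulo the relations. -/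
theorem exists_stairSum_sub_mem (a : Fin n → R) (x : MvPolynomial (Fin n) R) :
    ∃ r : (∀ i : Fin n, Fin (n - (i : ℕ))) → R,
      x - stairSum (fun i : Fin n => n - (i : ℕ)) r ∈ esymmIdeal a := by
  rcases subsingleton_or_nontrivial R with h | h
  · refine ⟨0, ?_⟩
    rw [Subsingleton.elim (x - stairSum (fun i : Fin n => n - (i : ℕ)) 0) 0]
    exact Ideal.zero_mem _
  · rw [esymmIdeal_eq_splitIdeal]
    exact (main n R (fOf a) (fOf_monic a) (fOf_natDegree a) _ (fun _ => rfl)).1 x

/-- Independence: a staircase sum lying in the ideal of relations has zero coefficients. -/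
theorem eq_zero_of_stairSum_mem (a : Fin n → R) (r : (∀ i : Fin n, Fin (n - (i : ℕ))) → R)
    (hr : stairSum (fun i : Fin n => n - (i : ℕ)) r ∈ esymmIdeal a) : r = 0 := by
  rcases subsingleton_or_nontrivial R with h | h
  · funext d
    exact Subsingleton.elim _ _
  · rw [esymmIdeal_eq_splitIdeal] at hr
    exact (main n R (fOf a) (fOf_monic a) (fOf_natDegree a) _ (fun _ => rfl)).2 r hr

/-- Spanning with coefficients in an ideal `J`. -/
theorem exists_stairSum_sub_mem_of_mem_map (a : Fin n → R) (J : Ideal R) (x : MvPolynomial (Fin n) R)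
    (hx : x ∈ Ideal.map (MvPolynomial.C : R →+* MvPolynomial (Fin n) R) J) :
    ∃ j : (∀ i : Fin n, Fin (n - (i : ℕ))) → R, (∀ d, j d ∈ J) ∧
      x - stairSum (fun i : Fin n => n - (i : ℕ)) j ∈ esymmIdeal a := by
  classical
  choose ρ hρ using fun m : Fin n →₀ ℕ =>
    exists_stairSum_sub_mem a (MvPolynomial.monomial m (1 : R))
  have hcoeff : ∀ m, MvPolynomial.coeff m x ∈ J := MvPolynomial.mem_map_C_iff.mp hx
  refine ⟨fun d => ∑ m ∈ x.support, MvPolynomial.coeff m x * ρ m d,
    fun d => Ideal.sum_mem _ fun m _ => Ideal.mul_mem_right _ _ (hcoeff m), ?_⟩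
  have key : x - stairSum (fun i : Fin n => n - (i : ℕ))
      (fun d => ∑ m ∈ x.support, MvPolynomial.coeff m x * ρ m d) =
      ∑ m ∈ x.support, MvPolynomial.C (MvPolynomial.coeff m x) *
        (MvPolynomial.monomial m (1 : R) - stairSum (fun i : Fin n => n - (i : ℕ)) (ρ m)) := by
    conv_lhs => arg 1; rw [MvPolynomial.as_sum x]
    unfold stairSum
    simp only [mul_sub, Finset.sum_sub_distrib, map_sum, Finset.sum_mul, Finset.mul_sum, map_mul]
    congr 1
    · refine Finset.sum_congr rfl fun m _ => ?_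
      rw [MvPolynomial.C_mul_monomial, mul_one]
    · rw [Finset.sum_comm]
      refine Finset.sum_congr rfl fun m _ => Finset.sum_congr rfl fun d _ => ?_
      ring
  rw [key]
  exact Ideal.sum_mem _ fun m _ => Ideal.mul_mem_left _ _ (hρ m)

theorem mem_sup_iff (a : Fin n → R) (J : Ideal R) (x : MvPolynomial (Fin n) R) :
    x ∈ esymmIdeal a ⊔ Ideal.map (MvPolynomial.C : R →+* MvPolynomial (Fin n) R) J ↔
      ∃ j : (∀ i : Fin n, Fin (n - (i : ℕ))) → R, (∀ d, j d ∈ J) ∧
        x - stairSum (fun i : Fin n => n - (i : ℕ)) j ∈ esymmIdeal a := by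
  constructor
  · intro hx
    obtain ⟨y, hy, z, hz, rfl⟩ := Submodule.mem_sup.mp hx
    obtain ⟨j, hj, hjz⟩ := exists_stairSum_sub_mem_of_mem_map a J z hz
    refine ⟨j, hj, ?_⟩
    rw [add_sub_assoc]
    exact Ideal.add_mem _ hy hjz
  · rintro ⟨j, hj, hx⟩
    have : x = (x - stairSum (fun i : Fin n => n - (i : ℕ)) j) +
        stairSum (fun i : Fin n => n - (i : ℕ)) j := by ring
    rw [this]
    exact Submodule.add_mem_sup hx (stairSum_mem_map _ J j hj)

theorem stairSum_sub_mem_sup_iff (a : Fin n → R) (J : Ideal R)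
    (α β : (∀ i : Fin n, Fin (n - (i : ℕ))) → R) :
    stairSum (fun i : Fin n => n - (i : ℕ)) α - stairSum (fun i : Fin n => n - (i : ℕ)) β ∈
        esymmIdeal a ⊔ Ideal.map (MvPolynomial.C : R →+* MvPolynomial (Fin n) R) J ↔
      ∀ d, α d - β d ∈ J := by
  rw [← stairSum_sub]
  constructor
  · intro h
    obtain ⟨j, hj, hx⟩ := (mem_sup_iff a J _).mp h
    rw [← stairSum_sub] at hx
    have h0 := eq_zero_of_stairSum_mem a _ hx
    intro d
    have h1 := congrFun h0 d
    simp only [Pi.sub_apply, Pi.zero_apply, sub_eq_zero] at h1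
    rw [h1]
    exact hj d
  · intro h
    exact Ideal.mem_sup_right (stairSum_mem_map _ J _ h)

end Final

section Universal

variable (n : ℕ)

/-- The substitution `c_i ↦ e_{i+1}(t)`. -/
noncomputable def evalE : MvPolynomial (Fin n) ℤ →ₐ[ℤ] MvPolynomial (Fin n) ℤ :=
  MvPolynomial.aeval (fun i : Fin n => MvPolynomial.esymm (Fin n) ℤ ((i : ℕ) + 1))

/-- `ℤ[c][t] → ℤ[t]`, `c_i ↦ e_{i+1}(t)`, `t_i ↦ t_i`. -/
noncomputable def psiU : MvPolynomial (Fin n) (MvPolynomial (Fin n) ℤ) →+* MvPolynomial (Fin n) ℤ :=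
  MvPolynomial.eval₂Hom (evalE n).toRingHom MvPolynomial.X

/-- `ℤ[t] → ℤ[c][t]`, the inclusion of constants. -/
noncomputable def iotaU : MvPolynomial (Fin n) ℤ →+* MvPolynomial (Fin n) (MvPolynomial (Fin n) ℤ) :=
  MvPolynomial.map (MvPolynomial.C : ℤ →+* MvPolynomial (Fin n) ℤ)

theorem psiU_C (r : MvPolynomial (Fin n) ℤ) : psiU n (MvPolynomial.C r) = evalE n r := by
  simp [psiU]

theorem psiU_X (i : Fin n) : psiU n (MvPolynomial.X i) = MvPolynomial.X i := by
  simp [psiU]

theorem psiU_esymm (k : ℕ) :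
    psiU n (MvPolynomial.esymm (Fin n) (MvPolynomial (Fin n) ℤ) k) = MvPolynomial.esymm (Fin n) ℤ k := by
  simp_rw [MvPolynomial.esymm, map_sum, map_prod, psiU_X]

theorem iotaU_esymm (k : ℕ) :
    iotaU n (MvPolynomial.esymm (Fin n) ℤ k) = MvPolynomial.esymm (Fin n) (MvPolynomial (Fin n) ℤ) k := by
  unfold iotaU
  exact MvPolynomial.map_esymm (Fin n) ℤ k _

theorem evalE_X (i : Fin n) : evalE n (MvPolynomial.X i) = MvPolynomial.esymm (Fin n) ℤ ((i : ℕ) + 1) := by
  simp [evalE]

theorem esymmIdeal_le_ker_psiU :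
    esymmIdeal (fun i : Fin n => (MvPolynomial.X i : MvPolynomial (Fin n) ℤ)) ≤ RingHom.ker (psiU n) := by
  rw [esymmIdeal, Ideal.span_le]
  rintro _ ⟨i, rfl⟩
  rw [SetLike.mem_coe, RingHom.mem_ker, map_sub, psiU_esymm, psiU_C, evalE_X, sub_self]

theorem psiU_iotaU (y : MvPolynomial (Fin n) ℤ) : psiU n (iotaU n y) = y := by
  have : (psiU n).comp (iotaU n) = RingHom.id _ := by
    apply MvPolynomial.ringHom_ext
    · intro m
      simp [psiU, iotaU, evalE]
    · intro i
      simp [psiU, iotaU]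
  exact congrArg (fun φ : MvPolynomial (Fin n) ℤ →+* MvPolynomial (Fin n) ℤ => φ y) this

theorem C_sub_iotaU_evalE_mem (r : MvPolynomial (Fin n) ℤ) :
    MvPolynomial.C r - iotaU n (evalE n r) ∈
      esymmIdeal (fun i : Fin n => (MvPolynomial.X i : MvPolynomial (Fin n) ℤ)) := by
  induction r using MvPolynomial.induction_on with
  | C m =>
    have : MvPolynomial.C (MvPolynomial.C m) - iotaU n (evalE n (MvPolynomial.C m)) = 0 := by
      simp [evalE, iotaU]
    rw [this]
    exact Ideal.zero_mem _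
  | add p q hp hq =>
    have : MvPolynomial.C (p + q) - iotaU n (evalE n (p + q)) =
        (MvPolynomial.C p - iotaU n (evalE n p)) + (MvPolynomial.C q - iotaU n (evalE n q)) := by
      rw [map_add, map_add, map_add]; ring
    rw [this]
    exact Ideal.add_mem _ hp hq
  | mul_X p i hp =>
    have : MvPolynomial.C (p * MvPolynomial.X i) - iotaU n (evalE n (p * MvPolynomial.X i)) =
        MvPolynomial.C p * (MvPolynomial.C (MvPolynomial.X i) - iotaU n (evalE n (MvPolynomial.X i))) +
          (MvPolynomial.C p - iotaU n (evalE n p)) * iotaU n (evalE n (MvPolynomial.X i)) := by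
      rw [map_mul, map_mul, map_mul]; ring
    rw [this]
    refine Ideal.add_mem _ (Ideal.mul_mem_left _ _ ?_) (Ideal.mul_mem_right _ _ hp)
    rw [evalE_X, iotaU_esymm, ← neg_sub]
    exact neg_mem (Ideal.subset_span ⟨i, rfl⟩)

theorem sub_iotaU_psiU_mem (x : MvPolynomial (Fin n) (MvPolynomial (Fin n) ℤ)) :
    x - iotaU n (psiU n x) ∈
      esymmIdeal (fun i : Fin n => (MvPolynomial.X i : MvPolynomial (Fin n) ℤ)) := by
  induction x using MvPolynomial.induction_on with
  | C r =>
    rw [psiU_C]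
    exact C_sub_iotaU_evalE_mem n r
  | add p q hp hq =>
    have : p + q - iotaU n (psiU n (p + q)) =
        (p - iotaU n (psiU n p)) + (q - iotaU n (psiU n q)) := by
      rw [map_add, map_add]; ring
    rw [this]
    exact Ideal.add_mem _ hp hq
  | mul_X p i hp =>
    have : p * MvPolynomial.X i - iotaU n (psiU n (p * MvPolynomial.X i)) =
        (p - iotaU n (psiU n p)) * MvPolynomial.X i := by
      rw [map_mul, map_mul, psiU_X]
      simp only [iotaU, MvPolynomial.map_X]
      ring
    rw [this]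
    exact Ideal.mul_mem_right _ _ hp

theorem ker_psiU :
    RingHom.ker (psiU n) =
      esymmIdeal (fun i : Fin n => (MvPolynomial.X i : MvPolynomial (Fin n) ℤ)) := by
  apply le_antisymm
  · intro x hx
    have h := sub_iotaU_psiU_mem n x
    rw [RingHom.mem_ker.mp hx, map_zero, sub_zero] at h
    exact h
  · exact esymmIdeal_le_ker_psiU n

/-- The staircase monomials form a basis of `ℤ[t]` over `ℤ[e_1, …, e_n]`. -/
theorem bijective_staircase :
    Function.Bijective (fun p : (∀ i : Fin n, Fin (n - (i : ℕ))) → MvPolynomial (Fin n) ℤ =>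
      ∑ d : (∀ i : Fin n, Fin (n - (i : ℕ))),
        (MvPolynomial.aeval (fun i : Fin n => MvPolynomial.esymm (Fin n) ℤ ((i : ℕ) + 1))) (p d) *
          ∏ i : Fin n, MvPolynomial.X i ^ ((d i : ℕ))) := by
  have hΦ : ∀ p : (∀ i : Fin n, Fin (n - (i : ℕ))) → MvPolynomial (Fin n) ℤ,
      (∑ d : (∀ i : Fin n, Fin (n - (i : ℕ))),
        (MvPolynomial.aeval (fun i : Fin n => MvPolynomial.esymm (Fin n) ℤ ((i : ℕ) + 1))) (p d) *
          ∏ i : Fin n, MvPolynomial.X i ^ ((d i : ℕ))) =
        psiU n (stairSum (fun i : Fin n => n - (i : ℕ)) p) := by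
    intro p
    unfold stairSum
    rw [map_sum]
    refine Finset.sum_congr rfl fun d _ => ?_
    rw [map_mul, psiU_C, map_prod]
    simp only [map_pow, psiU_X]
    rfl
  constructor
  · intro p q hpq
    simp only [hΦ] at hpq
    have h1 : stairSum (fun i : Fin n => n - (i : ℕ)) (p - q) ∈ RingHom.ker (psiU n) := by
      rw [RingHom.mem_ker, stairSum_sub, map_sub, hpq, sub_self]
    rw [ker_psiU] at h1
    have h2 := eq_zero_of_stairSum_mem _ _ h1
    exact sub_eq_zero.mp h2
  · intro y
    obtain ⟨r, hr⟩ := exists_stairSum_sub_mem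
      (fun i : Fin n => (MvPolynomial.X i : MvPolynomial (Fin n) ℤ)) (iotaU n y)
    refine ⟨r, ?_⟩
    simp only [hΦ]
    rw [← ker_psiU, RingHom.mem_ker, map_sub, psiU_iotaU, sub_eq_zero] at hr
    exact hr.symm

end Universal

end Groth.Agent.R2.H77.SymBasis
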