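import Mathlib
import Groth.Agent.Lib.Helper13Vasc2

/-!
# Regular elements generating a free summand of the conormal module (helper77)

`exists_regular_mem_not_mem_smul`: for an ideal `I ≠ ⊤` of finite projective dimension in a
Noetherian local ring and a nonzero submodule `F` of `I/I²`, there is a nonzerodivisor `x ∈ I`
whose class lies in `F` but not in `𝔪 F`.
`span_singleton_eq_of_not_mem_smul`: if `F ≃ R/I` such a class generates `F`.
-/

set_option autoImplicit false
universe u
open CategoryTheory IsLocalRing

namespace Groth.Agent.R2.H77.VascA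

variable {R : Type u} [CommRing R]

/-- the kernel of `I → I/I²`, pushed to `R`, is `I²`. -/
theorem map_subtype_ker_toCotangent (I : Ideal R) :
    Submodule.map I.subtype (LinearMap.ker I.toCotangent) = I ^ 2 := by
  ext x
  constructor
  · rintro ⟨c, hc, rfl⟩
    exact (Ideal.mem_toCotangent_ker I).mp hc
  · intro hx
    have hxI : x ∈ I := Ideal.pow_le_self two_ne_zero hx
    exact ⟨⟨x, hxI⟩, (Ideal.mem_toCotangent_ker I).mpr hx, rfl⟩

variable [IsNoetherianRing R] [IsLocalRing R]

theorem exists_regular_mem_not_mem_smul (I : Ideal R) (n : ℕ)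
    (hpd : HasProjectiveDimensionLT (ModuleCat.of R I) n)
    (F : Submodule (R ⧸ I) I.Cotangent) (hF : F ≠ ⊥) :
    ∃ (x : R) (hx : x ∈ I), IsSMulRegular R x ∧ I.toCotangent ⟨x, hx⟩ ∈ F ∧
      I.toCotangent ⟨x, hx⟩ ∉ maximalIdeal R • F.restrictScalars R := by
  classical
  set FR : Submodule R I.Cotangent := F.restrictScalars R with hFR
  set C : Submodule R I := FR.comap I.toCotangent with hC
  set IF : Ideal R := Submodule.map I.subtype C with hIF
  set N : Ideal R := maximalIdeal R * IF ⊔ I ^ 2 with hN
  have hmapC : Submodule.map I.toCotangent C = FR :=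
    Submodule.map_comap_eq_of_surjective I.toCotangent_surjective FR
  have hFR0 : FR ≠ ⊥ := by
    intro h
    apply hF
    rwa [hFR, Submodule.restrictScalars_eq_bot_iff] at h
  have hsmulIF : maximalIdeal R * IF = Submodule.map I.subtype (maximalIdeal R • C) := by
    rw [Submodule.map_smul'', ← smul_eq_mul]
  have hNmap : N = Submodule.map I.subtype (maximalIdeal R • C ⊔ LinearMap.ker I.toCotangent) := by
    rw [Submodule.map_sup, ← hsmulIF, map_subtype_ker_toCotangent]
  -- key: elements of `IF` outside `N` have class outside `𝔪 F`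
  have hkey : ∀ (x : R) (hx : x ∈ I), I.toCotangent ⟨x, hx⟩ ∈ maximalIdeal R • FR → x ∈ N := by
    intro x hx hmem
    rw [← hmapC, ← Submodule.map_smul''] at hmem
    obtain ⟨c, hc, hcx⟩ := hmem
    have h1 : (⟨x, hx⟩ : I) - c ∈ LinearMap.ker I.toCotangent := by
      rw [LinearMap.mem_ker, map_sub, hcx, sub_self]
    rw [hNmap]
    refine ⟨⟨x, hx⟩, ?_, rfl⟩
    have : (⟨x, hx⟩ : I) = c + ((⟨x, hx⟩ : I) - c) := by abel
    rw [this]
    exact Submodule.add_mem_sup hc h1
  by_contra hcon
  push Not at hcon
  -- every element of `IF` outside `N` is a zero divisor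
  have hcon' : ∀ x ∈ IF, x ∉ N → ¬ IsSMulRegular R x := by
    intro x hxIF hxN hreg
    obtain ⟨c, hcC, rfl⟩ := hxIF
    have h1 := hcon (I.subtype c) c.2 hreg hcC
    exact hxN (hkey _ c.2 h1)
  have hfin : (associatedPrimes R R).Finite := associatedPrimes.finite R R
  let T : Finset (Ideal R) := insert N hfin.toFinset
  have hsub : ((IF : Ideal R) : Set R) ⊆
      ⋃ i ∈ (↑T : Set (Ideal R)), ((id i : Ideal R) : Set R) := by
    intro x hx
    by_cases hx2 : x ∈ N
    · refine Set.mem_biUnion (x := N) ?_ hx2
      exact Finset.mem_coe.mpr (Finset.mem_insert_self _ _)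
    · have hnr := hcon' x hx hx2
      have : x ∈ ⋃ p ∈ associatedPrimes R R, (p : Set R) := by
        rw [biUnion_associatedPrimes_eq_compl_regular]
        exact hnr
      obtain ⟨p, hp, hxp⟩ := Set.mem_iUnion₂.mp this
      refine Set.mem_biUnion (x := p) ?_ hxp
      exact Finset.mem_coe.mpr (Finset.mem_insert_of_mem ((Set.Finite.mem_toFinset _).mpr hp))
  rw [Ideal.subset_union_prime N N] at hsub
  · obtain ⟨i, hi, hle⟩ := hsub
    rw [Finset.mem_insert] at hi
    rcases hi with rfl | hi
    · -- `IF ≤ N`: Nakayama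
      apply hFR0
      have h1 : C ≤ maximalIdeal R • C ⊔ LinearMap.ker I.toCotangent := by
        rw [← Submodule.map_le_map_iff_of_injective (Submodule.injective_subtype I), ← hNmap]
        exact hle
      have h2 : FR ≤ maximalIdeal R • FR := by
        calc FR = Submodule.map I.toCotangent C := hmapC.symm
          _ ≤ Submodule.map I.toCotangent (maximalIdeal R • C ⊔ LinearMap.ker I.toCotangent) :=
              Submodule.map_mono h1
          _ = maximalIdeal R • FR := by
              have hk : Submodule.map I.toCotangent (LinearMap.ker I.toCotangent) = ⊥ := by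
                rw [Submodule.eq_bot_iff]
                rintro _ ⟨c, hc, rfl⟩
                exact hc
              rw [Submodule.map_sup, Submodule.map_smul'', hmapC, hk, sup_bot_eq]
      have hNoeth : IsNoetherian R I.Cotangent :=
        isNoetherian_of_surjective I.toCotangent I.toCotangent_range
      have hfg : FR.FG := IsNoetherian.noetherian FR
      exact Submodule.eq_bot_of_le_smul_of_le_jacobson_bot (maximalIdeal R) FR hfg h2
        (by rw [IsLocalRing.jacobson_eq_maximalIdeal ⊥ bot_ne_top])
    · rw [Set.Finite.mem_toFinset] at hi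
      have hPp : i.IsPrime := hi.isPrime
      have hsq : I ^ 2 ≤ IF := by
        intro x hx
        have hxI : x ∈ I := Ideal.pow_le_self two_ne_zero hx
        refine ⟨⟨x, hxI⟩, ?_, rfl⟩
        change I.toCotangent ⟨x, hxI⟩ ∈ FR
        rw [(Ideal.toCotangent_eq_zero I ⟨x, hxI⟩).mpr hx]
        exact FR.zero_mem
      have hIi : I ≤ i := Ideal.IsPrime.le_of_pow_le (hsq.trans hle)
      by_cases hI0 : I = ⊥
      · apply hFR0
        rw [eq_bot_iff]
        intro f _
        obtain ⟨c, rfl⟩ := I.toCotangent_surjective f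
        have hc0 : c = 0 := by
          apply Subtype.ext
          have := hI0.le c.2
          rw [Ideal.mem_bot] at this
          exact this
        rw [hc0, map_zero]
        exact Submodule.zero_mem _
      · have hn1 : HasProjectiveDimensionLT (ModuleCat.of R I) (n + 1) :=
          hasProjectiveDimensionLT_of_ge _ n (n + 1) (Nat.le_succ n)
        have hpdq : HasProjectiveDimensionLT (ModuleCat.of R (R ⧸ I)) (n + 1 + 1) :=
          (Groth.Agent.Lib.Helper21.PdLoc.pdLT_succ_iff_of_ses I.subtype
            (Submodule.mkQ I) (Submodule.injective_subtype _)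
            (Submodule.mkQ_surjective _) (LinearMap.exact_subtype_mkQ _) n).mpr hn1
        obtain ⟨y, hyI, hyreg⟩ :=
          Groth.Agent.Helper13Vasc.exists_isSMulRegular_mem I hI0 (n + 1) hpdq
        have : y ∈ ⋃ p ∈ associatedPrimes R R, (p : Set R) :=
          Set.mem_biUnion hi (hIi hyI)
        rw [biUnion_associatedPrimes_eq_compl_regular] at this
        exact this hyreg
  · intro i hi hne _
    rw [Finset.mem_insert] at hi
    rcases hi with rfl | hi
    · exact absurd rfl hne
    · rw [Set.Finite.mem_toFinset] at hi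
      exact hi.isPrime

omit [IsNoetherianRing R] in
/-- If `F ≃ R/I`, an element of `F` outside `𝔪 F` generates `F`. -/
theorem span_singleton_eq_of_equiv (I : Ideal R) (hI : I ≠ ⊤)
    (F : Submodule (R ⧸ I) I.Cotangent) (e : F ≃ₗ[R ⧸ I] (R ⧸ I)) (g : I.Cotangent)
    (hgF : g ∈ F) (hg : g ∉ maximalIdeal R • F.restrictScalars R) :
    Submodule.span (R ⧸ I) {g} = F := by
  have : IsLocalRing (R ⧸ I) := Groth.Agent.Lib.Helper5.isLocalRing_quotient hI
  apply le_antisymm
  · rw [Submodule.span_le, Set.singleton_subset_iff]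
    exact hgF
  · set a := e ⟨g, hgF⟩ with ha
    have hau : IsUnit a := by
      by_contra hnu
      have ham : a ∈ maximalIdeal (R ⧸ I) := (mem_maximalIdeal a).mpr hnu
      obtain ⟨r, hr⟩ := Ideal.Quotient.mk_surjective a
      rw [← hr, Groth.Agent.Lib.Helper5.mk_mem_maximalIdeal_quotient_iff] at ham
      apply hg
      have h1 : (⟨g, hgF⟩ : F) = (Ideal.Quotient.mk I r) • e.symm 1 := by
        apply e.injective
        rw [map_smul, e.apply_symm_apply, smul_eq_mul, mul_one, hr]
      have h2 : g = r • ((e.symm 1 : F) : I.Cotangent) := by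
        have := congrArg (fun z : F => (z : I.Cotangent)) h1
        simp only [Submodule.coe_smul] at this
        rw [this]
        exact algebraMap_smul (R ⧸ I) r ((e.symm 1 : F) : I.Cotangent)
      rw [h2]
      exact Submodule.smul_mem_smul ham (e.symm 1).2
    intro f hf
    obtain ⟨u, hu⟩ := hau
    have h1 : (⟨f, hf⟩ : F) = (e ⟨f, hf⟩ * (↑u⁻¹ : R ⧸ I)) • (⟨g, hgF⟩ : F) := by
      apply e.injective
      rw [map_smul, smul_eq_mul, ← ha, ← hu, mul_assoc, Units.inv_mul, mul_one]
    have h2 : f = (e ⟨f, hf⟩ * (↑u⁻¹ : R ⧸ I)) • g := by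
      have := congrArg (fun z : F => (z : I.Cotangent)) h1
      simpa only [Submodule.coe_smul] using this
    rw [h2]
    exact Submodule.smul_mem _ _ (Submodule.mem_span_singleton_self g)

end Groth.Agent.R2.H77.VascA
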