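import Mathlib
import Groth.Prelude.Def_Coh
import Groth.Prelude.Def_CohB1
import Groth.Agent.R2.H79TwistCalc
import Groth.Agent.R2.H54ProjInv
import Groth.Agent.R2.H34InvDual
import Groth.Agent.Lib.Helper23SecTw10
import Groth.Agent.Lib.Helper23TensorUnit
import Groth.Agent.Lib.Helper23AmpleIso
import Groth.Agent.Lib.Helper23QCohAbelian
import Groth.Agent.S15744
import Groth.Agent.S0016
import Groth.Agent.R2.H1CohSum
import Groth.Agent.R2.H62CohDelta

set_option autoImplicit false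
universe u
open CategoryTheory CategoryTheory.Limits AlgebraicGeometry Opposite TopologicalSpace TensorProduct MonoidalCategory

namespace Groth.Agent.R2.H78.AmpleAff

open Groth.Agent.R2.H79.TwistCalc Groth.Agent.Lib.Helper23.SecTw Groth.Agent.Lib.Helper6
  Groth.Agent.Lib.Helper21.ModTensor2 Groth.Agent.Lib.Helper21.ModTensor3
  Groth.Agent.Lib.Helper23.AmpleIso Groth.Agent.Lib.Helper23.TensorUnit Groth.Agent.Lib.Helper23.Extend
  Groth.Agent.Lib.Helper23.GenLocus

variable {X : Scheme.{u}}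

/-- naturality of `tm` in the first variable. -/
theorem tR_map_tm {F Z : X.Modules} (g : F ⟶ Z) (Q : X.Modules) (U : X.Opens) (t : Γ(F, U)) (e : Γ(Q, U)) :
    ((tensorRightF Q).map g).app U (tm F Q U t e) = tm Z Q U (g.app U t) e := by
  have h := (adj X.sheaf).unit.naturality ((fgt X.sheaf).map g ▷ (fgt X.sheaf).obj Q)
  have h2 := congrArg (fun φ => (φ.app (op U)).hom (t ⊗ₜ e)) h
  exact h2.symm

/-- an inverse of an invertible module is invertible. -/
theorem isInvertible_of_inverse (L L' : X.Modules) (hL : PicF.IsInvertible L)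
    (e : CohB1.tensorMod L L' ≅ Coh.structureModule X) : PicF.IsInvertible L' := by
  obtain ⟨M, hM, -, ⟨eML⟩⟩ := Groth.Agent.R2.H34.InvDual.exists_inverse L hL
  have Φ : L' ≅ M :=
    (unitTensorIso L').symm ≪≫ tensorModIso eML.symm (Iso.refl L') ≪≫ tensorAssocIso M L L' ≪≫
      tensorModIso (Iso.refl M) e ≪≫ tensorUnitIso M
  exact isInvertible_of_iso Φ.symm hM

/-- `L^N ⊗ L'^N ≅ O`. -/
theorem nonempty_pow_inverse (L L' : X.Modules) (hL : PicF.IsInvertible L)
    (e : CohB1.tensorMod L L' ≅ Coh.structureModule X) (N : ℕ) :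
    Nonempty (CohB1.tensorMod (CohB1.tensorPow L N) (CohB1.tensorPow L' N) ≅ Coh.structureModule X) := by
  obtain ⟨Φ⟩ := nonempty_tensorPow_tensorMod_iso L L' hL (isInvertible_of_inverse L L' hL e) N
  exact ⟨Φ ≪≫ tensorPowIso e N ≪≫ tensorPowUnitIso N⟩

theorem comp_map_eq_zero_abstract {C : Type*} [Category C] [Preadditive C] (Fu G : C ⥤ C)
    [G.Faithful] [G.PreservesZeroMorphisms] (η : 𝟭 C ≅ Fu ⋙ G)
    {F Z A : C} (g : F ⟶ Z) (σ : A ⟶ Fu.obj F)
    (h : G.map σ ≫ (η.app F).inv ≫ g = 0) : σ ≫ Fu.map g = 0 := by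
  have h3 : (η.app F).inv ≫ g = G.map (Fu.map g) ≫ (η.app Z).inv :=
    (η.inv.naturality g).symm
  rw [h3, ← Category.assoc, ← Functor.map_comp] at h
  have h4 : G.map (σ ≫ Fu.map g) = 0 := by
    have := congrArg (fun ψ => ψ ≫ (η.app Z).hom) h
    simpa using this
  apply G.map_injective
  rw [h4, Functor.map_zero]

theorem faithful_tensorRightF (Q Q' : X.Modules)
    (eQ : CohB1.tensorMod Q Q' ≅ Coh.structureModule X) : (tensorRightF Q').Faithful := by
  have ε : tensorRightF Q' ⋙ tensorRightF Q ≅ 𝟭 X.Modules :=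
    tensorAssocNatIso Q' Q ≪≫
      tensorRightFCongr ((((Groth.Agent.Lib.Helper21.ModTensor5.brd X.sheaf).app Q').app Q) ≪≫ eQ) ≪≫
      tensorRightFUnit
  have h1 : (tensorRightF Q' ⋙ tensorRightF Q).Faithful := Functor.Faithful.of_iso ε.symm
  exact Functor.Faithful.of_comp (tensorRightF Q') (tensorRightF Q)

/-- If `g` kills all maps `Q' ⟶ F` (with `Q ⊗ Q' ≅ O`) then `g ⊗ Q` kills all global sections of `F ⊗ Q`. -/
theorem comp_map_eq_zero_of_inverse {F Z : X.Modules} (g : F ⟶ Z) (Q Q' : X.Modules)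
    (eQ : CohB1.tensorMod Q Q' ≅ Coh.structureModule X)
    (hg : ∀ φ : Q' ⟶ F, φ ≫ g = 0) (σ : Coh.structureModule X ⟶ CohB1.tensorMod F Q) :
    σ ≫ (tensorRightF Q).map g = 0 := by
  have hf := faithful_tensorRightF Q Q' eQ
  let η : 𝟭 X.Modules ≅ tensorRightF Q ⋙ tensorRightF Q' :=
    tensorRightFUnit.symm ≪≫ tensorRightFCongr eQ.symm ≪≫ (tensorAssocNatIso Q Q').symm
  refine comp_map_eq_zero_abstract (tensorRightF Q) (tensorRightF Q') η g σ ?_
  obtain ⟨φ₁, hφ₁⟩ : ∃ φ₁ : Q' ⟶ (tensorRightF Q').obj (Coh.structureModule X), IsIso φ₁ :=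
    ⟨(unitTensorIso Q').inv, inferInstanceAs (IsIso (unitTensorIso Q').inv)⟩
  have h1 := hg (φ₁ ≫ ((tensorRightF Q').map σ ≫ (η.app F).inv))
  rw [Category.assoc] at h1
  exact (cancel_epi φ₁).mp (h1.trans comp_zero.symm)

theorem app_sv_eq_zero {M N : X.Modules} (σ : Coh.structureModule X ⟶ M) (ψ : M ⟶ N) (h : σ ≫ ψ = 0)
    (U : X.Opens) : ψ.app U (sv σ U) = 0 := by
  have h1 : sv (σ ≫ ψ) U = sv 0 U := congrArg (fun φ => sv φ U) h
  exact h1.trans (sv_zero U)

/-- On a scheme with an ample `L` (inverse `L'`), a morphism out of a quasi-coherent module which kills all maps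
from `L'^N`, `N ≥ n₀`, is zero. -/
theorem eq_zero_of_kills (L L' : X.Modules) (hL : CohB1.IsAmple L)
    (e : CohB1.tensorMod L L' ≅ Coh.structureModule X) (n₀ : ℕ)
    {F Z : X.Modules} [F.IsQuasicoherent] (g : F ⟶ Z)
    (hg : ∀ N, n₀ ≤ N → ∀ φ : CohB1.tensorPow L' N ⟶ F, φ ≫ g = 0) : g = 0 := by
  have := hL.2.1
  have := quasiSeparatedSpace_of_isAmple L hL
  have hinv := hL.1
  have key : ∀ (V : X.Opens) (t : Γ(F, V)) (x : X), x ∈ V →
      ∃ (U : X.Opens) (hUV : U ≤ V), x ∈ U ∧ res Z hUV (g.app V t) = 0 := by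
    intro V t x hx
    obtain ⟨m, s, hxs, hsV, -⟩ := exists_genLocus_nhd_of_isAmple L hL V x hx
    have hPm : PicF.IsInvertible (CohB1.tensorPow L (m + 1)) := isInvertible_tensorPow hinv _
    have hP : PicF.IsInvertible (CohB1.tensorPow (CohB1.tensorPow L (m + 1)) (n₀ + 1)) :=
      isInvertible_tensorPow hPm _
    have hloc : CohB1.genLocus (CohB1.tensorPow (CohB1.tensorPow L (m + 1)) (n₀ + 1))
        (SecTwist.powHom s (n₀ + 1)) = CohB1.genLocus _ s :=
      genLocus_powHom hPm s (n₀ + 1) (Nat.succ_pos _)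
    have hUV : CohB1.genLocus (CohB1.tensorPow (CohB1.tensorPow L (m + 1)) (n₀ + 1))
        (SecTwist.powHom s (n₀ + 1)) ≤ V := hloc.le.trans hsV
    obtain ⟨n, hn, t', ht'⟩ := Groth.Agent.S15744.main X _ hP (SecTwist.powHom s (n₀ + 1)) F (res F hUV t)
    obtain ⟨Ψ₁⟩ := nonempty_tensorPow_tensorPow_iso L hinv (m + 1) (n₀ + 1) ((m + 1) * (n₀ + 1)) rfl
    obtain ⟨Ψ₂⟩ := nonempty_tensorPow_tensorPow_iso L hinv ((m + 1) * (n₀ + 1)) n
      ((m + 1) * (n₀ + 1) * n) rfl
    obtain ⟨ε⟩ := nonempty_pow_inverse L L' hinv e ((m + 1) * (n₀ + 1) * n)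
    have hN : n₀ ≤ (m + 1) * (n₀ + 1) * n := by
      have h1 : 1 ≤ m + 1 := Nat.succ_pos m
      calc n₀ ≤ n₀ + 1 := Nat.le_succ _
        _ = 1 * (n₀ + 1) * 1 := by ring
        _ ≤ (m + 1) * (n₀ + 1) * n := Nat.mul_le_mul (Nat.mul_le_mul h1 le_rfl) hn
    have h0 := comp_map_eq_zero_of_inverse g
      (CohB1.tensorPow (CohB1.tensorPow (CohB1.tensorPow L (m + 1)) (n₀ + 1)) n)
      (CohB1.tensorPow L' ((m + 1) * (n₀ + 1) * n))
      (tensorModIso (tensorPowIso Ψ₁ n ≪≫ Ψ₂) (Iso.refl _) ≪≫ ε) (hg _ hN) (secHom _ t')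
    have h1 := app_sv_eq_zero (secHom _ t') _ h0 (CohB1.genLocus
      (CohB1.tensorPow (CohB1.tensorPow L (m + 1)) (n₀ + 1)) (SecTwist.powHom s (n₀ + 1)))
    rw [sv_secHom, ht'] at h1
    unfold tw at h1
    replace h1 := (tR_map_tm g _ _ _ _).symm.trans h1
    have hgen := isGen_pw _ _ _ (isGen_sv_genLocus
      (CohB1.tensorPow (CohB1.tensorPow L (m + 1)) (n₀ + 1)) (SecTwist.powHom s (n₀ + 1))) n
    have hinj := injective_tm_of_isGen Z _ _ _ hgen _ le_rfl
    have h2 : g.app _ (res F hUV t) = 0 := by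
      apply hinj
      simp only
      rw [res_self, h1, tm_zero_left]
      rfl
    refine ⟨_, hUV, by rw [hloc]; exact hxs, ?_⟩
    rw [← h2]
    exact (app_map g (homOfLE hUV) t).symm
  apply Scheme.Modules.hom_ext
  intro V
  ext t
  choose U hUV hxU h0 using key V t
  refine (modSheaf Z).eq_of_locally_eq' (fun x : V => U x.1 x.2) V (fun x => homOfLE (hUV x.1 x.2)) ?_ _ _
    (fun x => ?_)
  · intro y hy
    exact Opens.mem_iSup.2 ⟨⟨y, hy⟩, hxU y hy⟩
  · refine (h0 x.1 x.2).trans ?_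
    exact (map_zero _).symm

/-- every quasi-coherent module is a quotient of a direct sum of negative powers of an ample module. -/
theorem exists_epi_sigma (L L' : X.Modules) (hL : CohB1.IsAmple L)
    (e : CohB1.tensorMod L L' ≅ Coh.structureModule X) (n₀ : ℕ) (F : X.Modules) [F.IsQuasicoherent] :
    ∃ (ι : Type u) (N : ι → ℕ) (π : (∐ fun i => CohB1.tensorPow L' (N i)) ⟶ F),
      (∀ i, n₀ ≤ N i) ∧ Epi π := by
  let ι := Σ N : {N : ℕ // n₀ ≤ N}, (CohB1.tensorPow L' N.1 ⟶ F)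
  refine ⟨ι, fun i => i.1.1, Sigma.desc (fun i => i.2), fun i => i.1.2, ?_⟩
  apply Preadditive.epi_of_cancel_zero
  intro Z g hg
  apply eq_zero_of_kills L L' hL e n₀ g
  intro N hN φ
  have h1 := Sigma.ι_desc (fun i : ι => i.2) ⟨⟨N, hN⟩, φ⟩
  change _ ≫ _ = φ at h1
  rw [← h1, Category.assoc, hg, comp_zero]

open Groth.Agent.R2.H62.CohLES in
/-- vanishing of all higher cohomology of quasi-coherent modules. -/
theorem subsingleton_HH_of_ample_neg (L L' : X.Modules) (hL : CohB1.IsAmple L)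
    (e : CohB1.tensorMod L L' ≅ Coh.structureModule X) (n₀ : ℕ)
    (h : ∀ n : ℕ, n₀ ≤ n → ∀ p : ℕ, 0 < p → Subsingleton (Coh.HH X (CohB1.tensorPow L' n) p)) :
    ∀ p : ℕ, 0 < p → ∀ F : X.Modules, Coh.IsQCoh F → Subsingleton (Coh.HH X F p) := by
  have := hL.2.1
  have := quasiSeparatedSpace_of_isAmple L hL
  obtain ⟨d, hd⟩ := Groth.Agent.S0016.result X
  have hL'inv := isInvertible_of_inverse L L' hL.1 e
  have key : ∀ k p : ℕ, 0 < p → d ≤ p + k → ∀ F : X.Modules, Coh.IsQCoh F →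
      Subsingleton (Coh.HH X F p) := by
    intro k
    induction k with
    | zero =>
      intro p hp hdp F hF
      exact hd F hF p (by omega)
    | succ k ih =>
      intro p hp hdp F hF
      have : F.IsQuasicoherent := hF
      obtain ⟨ι, N, π, hN, hπ⟩ := exists_epi_sigma L L' hL e n₀ F
      let S : ShortComplex X.Modules := ShortComplex.mk (kernel.ι π) π (kernel.condition π)
      have hS : S.ShortExact :=
        { exact := ShortComplex.exact_kernel π
          mono_f := inferInstanceAs (Mono (kernel.ι π))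
          epi_g := hπ }
      have hG : Subsingleton (Coh.HH X (∐ fun i => CohB1.tensorPow L' (N i)) p) :=
        Groth.Agent.R2.H1.CohSum.subsingleton_HH_sigma X p _ (fun i => h _ (hN i) p hp)
      have hGq : (∐ fun i => CohB1.tensorPow L' (N i)).IsQuasicoherent :=
        Groth.Agent.Lib.Helper23.QCohLocal.isQuasicoherent_colimit _
          (fun j => isQuasicoherent_of_isInvertible _ (isInvertible_tensorPow hL'inv _))
      have hKq : (kernel π).IsQuasicoherent :=
        Groth.Agent.Lib.Helper23.QCohLocal.isQuasicoherent_kernel π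
      have hK : Subsingleton (Coh.HH X (kernel π) (p + 1)) :=
        ih (p + 1) (Nat.succ_pos p) (by omega) _ hKq
      have hz : ∀ a : Coh.HH X F p, a = 0 := by
        intro a
        have h1 : δ hS p a = 0 := @Subsingleton.elim _ hK _ _
        obtain ⟨y, hy⟩ := (exact_g_δ hS p a).1 h1
        have hy0 : y = 0 := @Subsingleton.elim _ hG _ _
        rw [← hy, hy0, map_zero]
      exact ⟨fun a b => (hz a).trans (hz b).symm⟩
  intro p hp F hF
  exact key d p hp (by omega) F hF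

end Groth.Agent.R2.H78.AmpleAff
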