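import Mathlib
import Groth.Agent.Lib.LeadAzumayaLocal
import Groth.Agent.Lib.Helper22LGProj

/-!
# Residue algebras of Azumaya algebras and modules over them (helper78)
-/

set_option autoImplicit false
set_option linter.style.haveILetI false
universe u v w w'

namespace Groth.Agent.R2.H78.AzuResidue

open TensorProduct

section General

variable {R : Type u} [CommRing R] {Λ : Type v} [Ring Λ] [Algebra R Λ]

/-- the extension of an ideal of the base to an algebra is two-sided -/
theorem isTwoSided_map (m : Ideal R) : (Ideal.map (algebraMap R Λ) m).IsTwoSided := by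
  refine ⟨fun {a} b ha => ?_⟩
  refine Submodule.span_induction ?_ ?_ ?_ ?_ ha
  · rintro _ ⟨r, hr, rfl⟩
    rw [Algebra.commutes]
    exact Ideal.mul_mem_left _ _ (Ideal.mem_map_of_mem _ hr)
  · rw [zero_mul]; exact Ideal.zero_mem _
  · intro x y _ _ hx hy
    rw [add_mul]; exact Ideal.add_mem _ hx hy
  · intro c x _ hx
    rw [smul_eq_mul, mul_assoc]
    exact Ideal.mul_mem_left _ _ hx

variable {M : Type w} [AddCommGroup M] [Module Λ M] [Module R M] [IsScalarTower R Λ M]

theorem smul_mem_smul_top (m : Ideal R) (c : Λ) {y : M} (hy : y ∈ (m • ⊤ : Submodule R M)) :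
    c • y ∈ (m • ⊤ : Submodule R M) := by
  refine Submodule.smul_induction_on hy ?_ ?_
  · intro r hr z _
    rw [smul_comm]
    exact Submodule.smul_mem_smul hr trivial
  · intro y z hy hz
    rw [smul_add]; exact Submodule.add_mem _ hy hz

theorem mem_map_smul_top_iff (m : Ideal R) (y : M) :
    y ∈ ((Ideal.map (algebraMap R Λ) m) • ⊤ : Submodule Λ M) ↔ y ∈ (m • ⊤ : Submodule R M) := by
  constructor
  · intro hy
    refine Submodule.smul_induction_on hy ?_ ?_
    · intro a ha x _
      have : ∀ x : M, a • x ∈ (m • ⊤ : Submodule R M) := by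
        refine Submodule.span_induction ?_ ?_ ?_ ?_ ha
        · rintro _ ⟨r, hr, rfl⟩ x
          rw [algebraMap_smul]
          exact Submodule.smul_mem_smul hr trivial
        · intro x; rw [zero_smul]; exact Submodule.zero_mem _
        · intro a b _ _ ha hb x
          rw [add_smul]; exact Submodule.add_mem _ (ha x) (hb x)
        · intro c a _ ha x
          rw [smul_eq_mul, mul_smul]
          exact smul_mem_smul_top m c (ha x)
      exact this x
    · intro y z hy hz
      exact Submodule.add_mem _ hy hz
  · intro hy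
    refine Submodule.smul_induction_on hy ?_ ?_
    · intro r hr z _
      rw [← algebraMap_smul Λ r z]
      exact Submodule.smul_mem_smul (Ideal.mem_map_of_mem _ hr) trivial
    · intro y z hy hz
      exact Submodule.add_mem _ hy hz

end General

section BaseChange

variable {R : Type u} [CommRing R] {M : Type w} [AddCommGroup M] [Module R M]
  {M' : Type w'} [AddCommGroup M'] [Module R M']

theorem tmul_eq_zero_of_mem (m : Ideal R) (c : R ⧸ m) {y : M} (hy : y ∈ (m • ⊤ : Submodule R M)) :
    c ⊗ₜ[R] y = 0 := by
  refine Submodule.smul_induction_on hy ?_ ?_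
  · intro r hr z _
    rw [TensorProduct.tmul_smul, TensorProduct.smul_tmul']
    have : r • c = 0 := by
      rw [Algebra.smul_def]
      have h0 : algebraMap R (R ⧸ m) r = 0 := Ideal.Quotient.eq_zero_iff_mem.mpr hr
      rw [h0, zero_mul]
    rw [this, TensorProduct.zero_tmul]
  · intro y z hy hz
    rw [TensorProduct.tmul_add, hy, hz, add_zero]

theorem mem_of_one_tmul_eq_zero (m : Ideal R) {y : M} (hy : (1 : R ⧸ m) ⊗ₜ[R] y = 0) :
    y ∈ (m • ⊤ : Submodule R M) := by
  have := congrArg (TensorProduct.quotTensorEquivQuotSMul M m) hy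
  rw [TensorProduct.quotTensorEquivQuotSMul_mk_one_tmul, map_zero,
    Submodule.Quotient.mk_eq_zero] at this
  exact this

theorem baseChange_eq_zero_iff (m : Ideal R) (φ : M →ₗ[R] M') :
    φ.baseChange (R ⧸ m) = 0 ↔ ∀ x, φ x ∈ (m • ⊤ : Submodule R M') := by
  constructor
  · intro h x
    apply mem_of_one_tmul_eq_zero m
    have := congrArg (fun f => f ((1 : R ⧸ m) ⊗ₜ[R] x)) h
    simpa using this
  · intro h
    apply LinearMap.ext
    intro z
    induction z using TensorProduct.induction_on with
    | zero => simp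
    | add z z' hz hz' => rw [map_add, hz, hz']; simp
    | tmul c x =>
      rw [LinearMap.baseChange_tmul, LinearMap.zero_apply]
      exact tmul_eq_zero_of_mem m c (h x)

end BaseChange

section SimpleArtinian

/-- over a simple artinian ring, of two finite modules one is a retract of the other -/
theorem exists_retract {B : Type u} [Ring B] [IsSimpleRing B] [IsArtinianRing B]
    (X : Type w) (Y : Type w) [AddCommGroup X] [Module B X] [AddCommGroup Y] [Module B Y]
    [Module.Finite B X] [Module.Finite B Y] :
    ∃ (f : X →ₗ[B] Y) (g : Y →ₗ[B] X), f ∘ₗ g = LinearMap.id ∨ g ∘ₗ f = LinearMap.id := by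
  classical
  have hiso := IsSimpleRing.isIsotypic B (X × Y)
  rcases subsingleton_or_nontrivial (X × Y) with hs | hn
  · refine ⟨0, 0, Or.inl ?_⟩
    apply LinearMap.ext
    intro y
    have : Subsingleton Y := (LinearMap.inr_injective (R := B) (M := X) (M₂ := Y)).subsingleton
    exact Subsingleton.elim _ _
  · obtain ⟨S, hS⟩ := IsAtomic.exists_atom (Submodule B (X × Y))
    rw [← isSimpleModule_iff_isAtom] at hS
    have hXY : IsIsotypicOfType B (X × Y) S := hiso S
    have hX : IsIsotypicOfType B X S := hXY.of_injective (LinearMap.inl B X Y) LinearMap.inl_injective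
    have hY : IsIsotypicOfType B Y S := hXY.of_injective (LinearMap.inr B X Y) LinearMap.inr_injective
    obtain ⟨n, ⟨eX⟩⟩ := hX.linearEquiv_fun
    obtain ⟨n', ⟨eY⟩⟩ := hY.linearEquiv_fun
    have key : ∀ (a b : ℕ), a ≤ b → ∃ (f : (Fin b → S) →ₗ[B] (Fin a → S))
        (g : (Fin a → S) →ₗ[B] (Fin b → S)), f ∘ₗ g = LinearMap.id := by
      intro a b hab
      refine ⟨LinearMap.funLeft B S (Fin.castLE hab),
        LinearMap.pi (fun i => if h : (i : ℕ) < a then LinearMap.proj ⟨i, h⟩ else 0), ?_⟩
      apply LinearMap.ext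
      intro v
      funext j
      simp [LinearMap.funLeft_apply]
    rcases le_total n' n with hle | hle
    · obtain ⟨f, g, hfg⟩ := key n' n hle
      refine ⟨eY.symm.toLinearMap ∘ₗ f ∘ₗ eX.toLinearMap,
        eX.symm.toLinearMap ∘ₗ g ∘ₗ eY.toLinearMap, Or.inl ?_⟩
      apply LinearMap.ext
      intro y
      have := congrArg (fun h => h (eY y)) hfg
      simp only [LinearMap.comp_apply, LinearMap.id_apply] at this
      simp [this]
    · obtain ⟨f, g, hfg⟩ := key n n' hle
      refine ⟨eY.symm.toLinearMap ∘ₗ g ∘ₗ eX.toLinearMap,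
        eX.symm.toLinearMap ∘ₗ f ∘ₗ eY.toLinearMap, Or.inr ?_⟩
      apply LinearMap.ext
      intro x
      have := congrArg (fun h => h (eX x)) hfg
      simp only [LinearMap.comp_apply, LinearMap.id_apply] at this
      simp [this]

end SimpleArtinian

section AzuQuot

open Groth.Agent.Lib.LeadAzumaya

variable {R : Type u} [CommRing R] {A : Type v} [Ring A] [Algebra R A] [IsAzumaya R A]

theorem map_ne_top (m : Ideal R) [hm : m.IsMaximal] : Ideal.map (algebraMap R A) m ≠ ⊤ := by
  intro h
  have h1 := comap_map_eq_self (R := R) (A := A) m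
  rw [h, Ideal.comap_top] at h1
  exact hm.ne_top h1.symm

/-- the residue algebra of an Azumaya algebra at a maximal ideal is simple -/
theorem isSimpleRing_quot (m : Ideal R) [hm : m.IsMaximal]
    [hI : (Ideal.map (algebraMap R A) m).IsTwoSided] :
    IsSimpleRing (A ⧸ Ideal.map (algebraMap R A) m) := by
  set I := Ideal.map (algebraMap R A) m with hIdef
  rw [isSimpleRing_iff_isTwoSided_imp]
  refine ⟨Ideal.Quotient.nontrivial_iff.mpr (map_ne_top m), ?_⟩
  intro Jb hJb
  set J : Ideal A := Jb.comap (Ideal.Quotient.mk I) with hJ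
  haveI : J.IsTwoSided := inferInstance
  have hJ1 : J = Ideal.map (algebraMap R A) (J.comap (algebraMap R A)) := by
    have := asIdeal_eq_map_comap (R := R) (A := A) J.toTwoSided
    rwa [Ideal.asIdeal_toTwoSided] at this
  have hIJ : I ≤ J := by
    intro x hx
    rw [hJ, Ideal.mem_comap]
    have : Ideal.Quotient.mk I x = 0 := Ideal.Quotient.eq_zero_iff_mem.mpr hx
    rw [this]; exact Ideal.zero_mem _
  have hmc : m ≤ J.comap (algebraMap R A) := by
    intro r hr
    rw [Ideal.mem_comap]
    exact hIJ (Ideal.mem_map_of_mem _ hr)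
  have hJb : Jb = Ideal.map (Ideal.Quotient.mk I) J :=
    (Ideal.map_comap_of_surjective _ Ideal.Quotient.mk_surjective Jb).symm
  by_cases htop : J.comap (algebraMap R A) = ⊤
  · right
    rw [htop, Ideal.map_top] at hJ1
    rw [hJb, hJ1]
    exact Ideal.map_top _
  · left
    have h := hm.eq_of_le htop hmc
    rw [← h] at hJ1
    rw [hJb, hJ1]
    exact Ideal.map_quotient_self I

/-- the residue algebra of an Azumaya algebra at a maximal ideal is artinian -/
theorem isArtinianRing_quot (m : Ideal R) [hm : m.IsMaximal]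
    [hI : (Ideal.map (algebraMap R A) m).IsTwoSided] :
    IsArtinianRing (A ⧸ Ideal.map (algebraMap R A) m) := by
  set I := Ideal.map (algebraMap R A) m with hIdef
  letI := Ideal.Quotient.field m
  have h0 : ∀ r ∈ m, algebraMap R (A ⧸ I) r = 0 := by
    intro r hr
    exact Ideal.Quotient.eq_zero_iff_mem.mpr (Ideal.mem_map_of_mem _ hr)
  let φ : R ⧸ m →+* A ⧸ I := Ideal.Quotient.lift m (algebraMap R (A ⧸ I)) h0
  letI : Algebra (R ⧸ m) (A ⧸ I) := φ.toAlgebra' (by
    intro c x
    obtain ⟨r, rfl⟩ := Ideal.Quotient.mk_surjective c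
    show algebraMap R (A ⧸ I) r * x = x * algebraMap R (A ⧸ I) r
    exact Algebra.commutes r x)
  haveI : IsScalarTower R (R ⧸ m) (A ⧸ I) := IsScalarTower.of_algebraMap_eq (fun r => rfl)
  haveI : Module.Finite R (A ⧸ I) :=
    Module.Finite.of_surjective (Ideal.Quotient.mkₐ R I).toLinearMap Ideal.Quotient.mk_surjective
  haveI : Module.Finite (R ⧸ m) (A ⧸ I) := Module.Finite.of_restrictScalars_finite R (R ⧸ m) (A ⧸ I)
  exact IsArtinianRing.of_finite (R ⧸ m) (A ⧸ I)

end AzuQuot

section Tower

theorem projective_of_tower (R : Type*) (A : Type*) (M : Type*) [CommRing R] [Ring A] [Algebra R A]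
    [Module.Projective R A] [AddCommGroup M] [Module A M] [Module R M] [IsScalarTower R A M]
    [Module.Finite A M] [Module.Projective A M] : Module.Projective R M := by
  classical
  obtain ⟨n, p, i, -, -, hpi⟩ := Module.Finite.exists_comp_eq_id_of_projective A M
  haveI : Module.Projective R (Fin n → A) :=
    Module.Projective.of_equiv (DFinsupp.linearEquivFunOnFintype (R := R) (M := fun _ : Fin n => A))
  refine Module.Projective.of_split (i.restrictScalars R) (p.restrictScalars R) ?_
  apply LinearMap.ext
  intro x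
  have := congrArg (fun f => f x) hpi
  simpa using this

theorem finrank_tensor_quot {R : Type u} [CommRing R] (m : Ideal R) [hm : m.IsMaximal]
    (N : Type w) [AddCommGroup N] [Module R N] [Module.Finite R N] [Module.Projective R N] :
    letI := Ideal.Quotient.field m
    Module.finrank (R ⧸ m) ((R ⧸ m) ⊗[R] N) = Module.rankAtStalk N ⟨m, hm.isPrime⟩ := by
  letI := Ideal.Quotient.field m
  have h1 := Module.rankAtStalk_baseChange (R := R) (M := N) (S := R ⧸ m)
    (⊥ : PrimeSpectrum (R ⧸ m))
  have h2 := congrFun (Module.rankAtStalk_eq_finrank_of_free (R := R ⧸ m)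
    (M := (R ⧸ m) ⊗[R] N)) (⊥ : PrimeSpectrum (R ⧸ m))
  rw [h1] at h2
  rw [Pi.natCast_apply, Nat.cast_id] at h2
  rw [← h2]
  congr 1
  apply PrimeSpectrum.ext
  show Ideal.comap (algebraMap R (R ⧸ m)) ⊥ = m
  rw [← RingHom.ker_eq_comap_bot]
  exact Ideal.mk_ker

end Tower

section FieldStep

variable {R : Type u} [CommRing R] {A : Type v} [Ring A] [Algebra R A] [IsAzumaya R A]

/-- **Field step**: at a maximal ideal `m`, a f.g. projective module `N` over an Azumaya algebra
whose rank at `m` is at most that of `M` is a retract of `M` modulo `m`. -/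
theorem exists_maps_mod (m : Ideal R) [hm : m.IsMaximal] (M N : Type w)
    [AddCommGroup M] [Module A M] [Module R M] [IsScalarTower R A M] [Module.Finite A M]
    [Module.Projective A M] [AddCommGroup N] [Module A N] [Module R N] [IsScalarTower R A N]
    [Module.Finite A N] [Module.Projective A N]
    (hrk : Module.rankAtStalk N ⟨m, hm.isPrime⟩ ≤ Module.rankAtStalk M ⟨m, hm.isPrime⟩) :
    ∃ (f : M →ₗ[A] N) (g : N →ₗ[A] M), ∀ n, f (g n) - n ∈ (m • ⊤ : Submodule R N) := by
  classical
  letI := Ideal.Quotient.field m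
  haveI hI : (Ideal.map (algebraMap R A) m).IsTwoSided := isTwoSided_map m
  haveI := isSimpleRing_quot (A := A) m
  haveI := isArtinianRing_quot (A := A) m
  haveI : Module.Finite R M := Module.Finite.trans A M
  haveI : Module.Finite R N := Module.Finite.trans A N
  haveI : Module.Projective R M := projective_of_tower R A M
  haveI : Module.Projective R N := projective_of_tower R A N
  set I := Ideal.map (algebraMap R A) m with hIdef
  let X := M ⧸ (I • ⊤ : Submodule A M)
  let Y := N ⧸ (I • ⊤ : Submodule A N)
  let πMs : M →ₛₗ[Ideal.Quotient.mk I] X :=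
    { toFun := Submodule.Quotient.mk, map_add' := fun _ _ => rfl, map_smul' := fun _ _ => rfl }
  let πNs : N →ₛₗ[Ideal.Quotient.mk I] Y :=
    { toFun := Submodule.Quotient.mk, map_add' := fun _ _ => rfl, map_smul' := fun _ _ => rfl }
  haveI : Module.Finite (A ⧸ I) X :=
    Module.Finite.of_surjective πMs (Submodule.Quotient.mk_surjective _)
  haveI : Module.Finite (A ⧸ I) Y :=
    Module.Finite.of_surjective πNs (Submodule.Quotient.mk_surjective _)
  obtain ⟨fb, gb, hfg⟩ := exists_retract (B := A ⧸ I) X Y
  let πM : M →ₗ[A] X := Submodule.mkQ _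
  let πN : N →ₗ[A] Y := Submodule.mkQ _
  let fA : X →ₗ[A] Y :=
    { toFun := fb, map_add' := fb.map_add,
      map_smul' := fun a x => fb.map_smul (Ideal.Quotient.mk I a) x }
  let gA : Y →ₗ[A] X :=
    { toFun := gb, map_add' := gb.map_add,
      map_smul' := fun a x => gb.map_smul (Ideal.Quotient.mk I a) x }
  obtain ⟨f, hf⟩ := Module.projective_lifting_property πN (fA ∘ₗ πM)
    (Submodule.mkQ_surjective _)
  obtain ⟨g, hg⟩ := Module.projective_lifting_property πM (gA ∘ₗ πN)
    (Submodule.mkQ_surjective _)
  have hf' : ∀ x, πN (f x) = fb (πM x) := fun x => congrArg (fun h => h x) hf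
  have hg' : ∀ y, πM (g y) = gb (πN y) := fun y => congrArg (fun h => h y) hg
  have memN : ∀ y : N, πN y = 0 → y ∈ (m • ⊤ : Submodule R N) := by
    intro y hy
    rw [← mem_map_smul_top_iff (Λ := A)]
    exact (Submodule.Quotient.mk_eq_zero _).mp hy
  have memM : ∀ y : M, πM y = 0 → y ∈ (m • ⊤ : Submodule R M) := by
    intro y hy
    rw [← mem_map_smul_top_iff (Λ := A)]
    exact (Submodule.Quotient.mk_eq_zero _).mp hy
  rcases hfg with hfg | hfg
  · refine ⟨f, g, fun n => memN _ ?_⟩
    rw [map_sub, hf', hg']
    have := congrArg (fun h => h (πN n)) hfg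
    simp only [LinearMap.comp_apply, LinearMap.id_apply] at this
    rw [this, sub_self]
  · have hgf : ∀ x : M, g (f x) - x ∈ (m • ⊤ : Submodule R M) := by
      intro x
      apply memM
      rw [map_sub, hg', hf']
      have := congrArg (fun h => h (πM x)) hfg
      simp only [LinearMap.comp_apply, LinearMap.id_apply] at this
      rw [this, sub_self]
    refine ⟨f, g, ?_⟩
    let fR : M →ₗ[R] N := f.restrictScalars R
    let gR : N →ₗ[R] M := g.restrictScalars R
    have h1 : (gR ∘ₗ fR - LinearMap.id).baseChange (R ⧸ m) = 0 :=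
      (baseChange_eq_zero_iff m _).mpr hgf
    have h2 : ∀ z, gR.baseChange (R ⧸ m) (fR.baseChange (R ⧸ m) z) = z := by
      intro z
      have := congrArg (fun h => h z) h1
      simp only [LinearMap.baseChange_sub, LinearMap.baseChange_comp, LinearMap.baseChange_id,
        LinearMap.sub_apply, LinearMap.comp_apply, LinearMap.id_apply, LinearMap.zero_apply,
        sub_eq_zero] at this
      exact this
    have hinj : Function.Injective (fR.baseChange (R ⧸ m)) := by
      intro z z' hz
      rw [← h2 z, ← h2 z', hz]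
    have hdim : Module.finrank (R ⧸ m) ((R ⧸ m) ⊗[R] M) =
        Module.finrank (R ⧸ m) ((R ⧸ m) ⊗[R] N) := by
      apply le_antisymm (LinearMap.finrank_le_finrank_of_injective hinj)
      rw [finrank_tensor_quot m M, finrank_tensor_quot m N]
      exact hrk
    have hsurj : Function.Surjective (fR.baseChange (R ⧸ m)) :=
      (LinearMap.injective_iff_surjective_of_finrank_eq_finrank hdim).mp hinj
    have h3 : ∀ w, fR.baseChange (R ⧸ m) (gR.baseChange (R ⧸ m) w) = w := by
      intro w
      obtain ⟨z, rfl⟩ := hsurj w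
      rw [h2]
    have h4 : (fR ∘ₗ gR - LinearMap.id).baseChange (R ⧸ m) = 0 := by
      apply LinearMap.ext
      intro w
      simp only [LinearMap.baseChange_sub, LinearMap.baseChange_comp, LinearMap.baseChange_id,
        LinearMap.sub_apply, LinearMap.comp_apply, LinearMap.id_apply, LinearMap.zero_apply]
      rw [h3, sub_self]
    exact (baseChange_eq_zero_iff m _).mp h4

end FieldStep

end Groth.Agent.R2.H78.AzuResidue
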