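import Mathlib

/-!
# Eisenbud–Evans basic elements (helper78)

Linear algebra part: rank of a finite family of vectors, behaviour under the elementary
modification `x_i ↦ x_i + β_i • x_last`.
-/

set_option autoImplicit false

namespace Groth.Agent.R2.H78.BasicElt

open Module Submodule

section LinAlg

variable (K : Type*) {V : Type*} [Field K] [AddCommGroup V] [Module K V]

/-- rank of a family of vectors. -/
noncomputable def rk {ι : Type*} (x : ι → V) : ℕ := finrank K (span K (Set.range x))

variable {K}

theorem rk_le_of_range_subset {ι ι' : Type*} [Finite ι'] (x : ι → V) (y : ι' → V)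
    (h : Set.range x ⊆ span K (Set.range y)) : rk K x ≤ rk K y := by
  have : Module.Finite K (span K (Set.range y)) :=
    FiniteDimensional.span_of_finite K (Set.finite_range y)
  exact Submodule.finrank_mono (span_le.mpr h)

theorem le_rk_of_linearIndependent {ι : Type*} [Finite ι] {w : ℕ} (x : ι → V) (i : Fin w → ι)
    (h : LinearIndependent K (x ∘ i)) : w ≤ rk K x := by
  have h1 : rk K (x ∘ i) = w := by
    unfold rk
    rw [finrank_span_eq_card h, Fintype.card_fin]
  rw [← h1]
  apply rk_le_of_range_subset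
  rintro _ ⟨a, rfl⟩
  exact subset_span ⟨i a, rfl⟩

theorem exists_indep_of_le_rk {ι : Type*} [Finite ι] {w : ℕ} (x : ι → V) (h : w ≤ rk K x) :
    ∃ i : Fin w → ι, LinearIndependent K (x ∘ i) := by
  have : Module.Finite K (span K (Set.range x)) :=
    FiniteDimensional.span_of_finite K (Set.finite_range x)
  obtain ⟨f, hf, -, hind⟩ := Submodule.exists_fun_fin_finrank_span_eq K (Set.range x)
  choose j hj using hf
  refine ⟨fun a => j (Fin.castLE h a), ?_⟩
  have : x ∘ (fun a => j (Fin.castLE h a)) = f ∘ Fin.castLE h := by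
    funext a
    simp [hj]
  rw [this]
  exact hind.comp _ (Fin.castLE_injective h)

theorem linearIndependent_of_det_ne_zero {w : ℕ} (y : Fin w → V) (Φ : V →ₗ[K] (Fin w → K))
    (h : (Matrix.of fun a b => Φ (y b) a).det ≠ 0) : LinearIndependent K y := by
  apply LinearIndependent.of_comp Φ
  have h2 : IsUnit (Matrix.of fun a b => Φ (y b) a) := by
    rw [Matrix.isUnit_iff_isUnit_det]
    exact isUnit_iff_ne_zero.mpr h
  have h3 := Matrix.linearIndependent_cols_iff_isUnit.mpr h2
  convert h3 using 1
  funext b a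
  rfl

/-- the elementary modification `x_i ↦ x_i + β_i • x_last`. -/
def modV {t : ℕ} (x : Fin (t + 1) → V) (β : Fin t → K) : Fin t → V :=
  fun i => x i.castSucc + β i • x (Fin.last t)

theorem rk_le_rk_modV_add_one {t : ℕ} (x : Fin (t + 1) → V) (β : Fin t → K) :
    rk K x ≤ rk K (modV x β) + 1 := by
  classical
  set S' := span K (Set.range (modV x β)) with hS'
  set L := span K (Set.range (fun _ : Fin 1 => x (Fin.last t))) with hL
  have hfS : Module.Finite K S' := FiniteDimensional.span_of_finite K (Set.finite_range _)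
  have hfL : Module.Finite K L := FiniteDimensional.span_of_finite K (Set.finite_range _)
  have hlast : x (Fin.last t) ∈ L := subset_span ⟨0, rfl⟩
  have h1 : span K (Set.range x) ≤ S' ⊔ L := by
    rw [span_le]
    rintro _ ⟨i, rfl⟩
    induction i using Fin.lastCases with
    | last => exact mem_sup_right hlast
    | cast j =>
      have : x j.castSucc = modV x β j - β j • x (Fin.last t) := by
        simp [modV]
      rw [this]
      exact sub_mem (mem_sup_left (subset_span ⟨j, rfl⟩)) (mem_sup_right (smul_mem _ _ hlast))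
  have hfin : Module.Finite K (S' ⊔ L : Submodule K V) := inferInstance
  have h2 : finrank K (span K (Set.range x)) ≤ finrank K (S' ⊔ L : Submodule K V) :=
    Submodule.finrank_mono h1
  have h3 := Submodule.finrank_add_le_finrank_add_finrank S' L
  have h4 : finrank K L ≤ 1 := by
    have := finrank_range_le_card (R := K) (fun _ : Fin 1 => x (Fin.last t))
    simpa [Set.finrank] using this
  show finrank K (span K (Set.range x)) ≤ finrank K S' + 1
  omega

theorem exists_modV_rk {t w : ℕ} (x : Fin (t + 1) → V) (hw : w ≤ rk K x) (hwt : w ≤ t) :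
    ∃ β : Fin t → K, (∀ i, β i = 0 ∨ β i = 1) ∧ w ≤ rk K (modV x β) := by
  classical
  by_cases h : w ≤ rk K (x ∘ Fin.castSucc)
  · refine ⟨0, fun i => Or.inl rfl, ?_⟩
    have : modV x (0 : Fin t → K) = x ∘ Fin.castSucc := by
      funext i
      simp [modV]
    rwa [this]
  · have hdep : ¬ LinearIndependent K (x ∘ Fin.castSucc) := by
      intro hli
      have := finrank_span_eq_card hli
      rw [Fintype.card_fin] at this
      apply h
      unfold rk
      omega
    obtain ⟨g, hg, i₀, hi₀⟩ := Fintype.not_linearIndependent_iff.mp hdep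
    refine ⟨Pi.single i₀ 1, fun i => ?_, ?_⟩
    · by_cases hi : i = i₀
      · right; subst hi; simp
      · left; simp [hi]
    · refine hw.trans (rk_le_of_range_subset _ _ ?_)
      set S' := span K (Set.range (modV x (Pi.single i₀ (1 : K)))) with hS'
      have hne : ∀ j, j ≠ i₀ → x j.castSucc ∈ S' := by
        intro j hj
        have : modV x (Pi.single i₀ (1 : K)) j = x j.castSucc := by
          simp [modV, hj]
        rw [← this]
        exact subset_span ⟨j, rfl⟩
      have hi0 : x i₀.castSucc ∈ S' := by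
        have h1 : g i₀ • x i₀.castSucc = - ∑ j ∈ Finset.univ.erase i₀, g j • x j.castSucc := by
          have := Finset.add_sum_erase Finset.univ (fun j => g j • (x ∘ Fin.castSucc) j)
            (Finset.mem_univ i₀)
          simp only [Function.comp_apply] at this hg
          rw [hg] at this
          exact eq_neg_of_add_eq_zero_left this
        have h2 : g i₀ • x i₀.castSucc ∈ S' := by
          rw [h1]
          refine neg_mem (sum_mem fun j hj => smul_mem _ _ (hne j ?_))
          exact (Finset.mem_erase.mp hj).1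
        have := smul_mem S' (g i₀)⁻¹ h2
        rwa [inv_smul_smul₀ hi₀] at this
      have hlast : x (Fin.last t) ∈ S' := by
        have : x (Fin.last t) = modV x (Pi.single i₀ (1 : K)) i₀ - x i₀.castSucc := by
          simp [modV]
        rw [this]
        exact sub_mem (subset_span ⟨i₀, rfl⟩) hi0
      rintro _ ⟨i, rfl⟩
      induction i using Fin.lastCases with
      | last => exact hlast
      | cast j =>
        by_cases hj : j = i₀
        · subst hj; exact hi0
        · exact hne j hj

open Polynomial in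
theorem exists_mem_rk_add_smul {t w : ℕ} (P Q : Fin t → V) (σ₀ : K)
    (h : w ≤ rk K (fun i => P i + σ₀ • Q i)) (S : Set K) (hS : S.Infinite) :
    ∃ σ ∈ S, w ≤ rk K (fun i => P i + σ • Q i) := by
  classical
  obtain ⟨i, hi⟩ := exists_indep_of_le_rk _ h
  set y₀ : Fin w → V := (fun i => P i + σ₀ • Q i) ∘ i with hy₀
  have hinj : LinearMap.ker (Fintype.linearCombination K y₀) = ⊥ :=
    LinearMap.ker_eq_bot.mpr hi.fintypeLinearCombination_injective
  obtain ⟨φ, hφ⟩ := (Fintype.linearCombination K y₀).exists_leftInverse_of_injective hinj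
  have hφy : ∀ b, φ (y₀ b) = Pi.single b 1 := by
    intro b
    have := LinearMap.congr_fun hφ (Pi.single b 1)
    rw [LinearMap.comp_apply, Fintype.linearCombination_apply_single, one_smul,
      LinearMap.id_apply] at this
    exact this
  set N : Matrix (Fin w) (Fin w) K[X] :=
    Matrix.of fun a b => C (φ (P (i b)) a) + X * C (φ (Q (i b)) a) with hN
  have heval : ∀ σ : K, N.det.eval σ =
      (Matrix.of fun a b => φ ((fun j => P j + σ • Q j) (i b)) a).det := by
    intro σ
    have := RingHom.map_det (Polynomial.evalRingHom σ) N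
    rw [Polynomial.coe_evalRingHom] at this
    rw [this]
    congr 1
    ext a b
    simp only [hN, RingHom.mapMatrix_apply, Matrix.map_apply, Matrix.of_apply,
      Polynomial.coe_evalRingHom, Polynomial.eval_add, Polynomial.eval_C, Polynomial.eval_mul,
      Polynomial.eval_X, map_add, map_smul, Pi.add_apply, Pi.smul_apply, smul_eq_mul]
  have h1 : N.det.eval σ₀ = 1 := by
    rw [heval σ₀]
    have : (Matrix.of fun a b => φ ((fun j => P j + σ₀ • Q j) (i b)) a) = (1 : Matrix _ _ K) := by
      ext a b
      have := hφy b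
      simp only [hy₀, Function.comp_apply] at this
      simp only [Matrix.of_apply, this, Matrix.one_apply, Pi.single_apply]
    rw [this, Matrix.det_one]
  have hD : N.det ≠ 0 := by
    intro h0
    rw [h0] at h1
    simp at h1
  obtain ⟨σ, hσS, hσ⟩ := hS.exists_notMem_finset N.det.roots.toFinset
  refine ⟨σ, hσS, ?_⟩
  have hne : N.det.eval σ ≠ 0 := by
    intro h0
    apply hσ
    rw [Multiset.mem_toFinset, Polynomial.mem_roots hD]
    exact h0
  rw [heval σ] at hne
  exact le_rk_of_linearIndependent _ i (linearIndependent_of_det_ne_zero _ φ hne)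

/-- Row selection: independent functions on `L` have a nonvanishing minor. -/
theorem exists_rows_det_ne_zero {L : Type*} {w : ℕ} (y : Fin w → (L → K))
    (hy : LinearIndependent K y) :
    ∃ ℓ : Fin w → L, (Matrix.of fun a b => y b (ℓ a)).det ≠ 0 := by
  classical
  set X := Fintype.linearCombination K y with hX
  have hXinj : Function.Injective X := hy.fintypeLinearCombination_injective
  set φ : L → Module.Dual K (Fin w → K) := fun l => (LinearMap.proj l) ∘ₗ X with hφ
  set E := span K (Set.range φ) with hE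
  have hco : E.dualCoannihilator = ⊥ := by
    rw [eq_bot_iff]
    intro c hc
    rw [Submodule.mem_dualCoannihilator] at hc
    rw [Submodule.mem_bot]
    apply hXinj
    rw [map_zero]
    funext l
    exact hc (φ l) (subset_span ⟨l, rfl⟩)
  have hfr : finrank K E = w := by
    have := Subspace.finrank_add_finrank_dualCoannihilator_eq E
    rw [hco, finrank_bot, add_zero] at this
    rw [this]
    simp
  obtain ⟨f, hf, -, hind⟩ := Submodule.exists_fun_fin_finrank_span_eq K (Set.range φ)
  choose l hl using hf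
  refine ⟨fun a => l (Fin.cast hfr.symm a), ?_⟩
  intro hdet
  obtain ⟨u, hu0, hu⟩ := Matrix.exists_vecMul_eq_zero_iff.mpr hdet
  apply hu0
  have hind' : LinearIndependent K (fun a : Fin w => φ (l (Fin.cast hfr.symm a))) := by
    have : (fun a : Fin w => φ (l (Fin.cast hfr.symm a))) = f ∘ Fin.cast hfr.symm := by
      funext a
      simp [hl]
    rw [this]
    exact hind.comp _ (Fin.cast_injective _)
  rw [Fintype.linearIndependent_iff] at hind'
  funext a
  refine hind' u ?_ a
  apply LinearMap.pi_ext
  intro b c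
  have hb := congrFun hu b
  simp only [Matrix.vecMul, dotProduct, Matrix.of_apply, Pi.zero_apply] at hb
  simp only [LinearMap.sum_apply, LinearMap.smul_apply, hφ,
    LinearMap.comp_apply, LinearMap.proj_apply, hX, Fintype.linearCombination_apply_single,
    Pi.smul_apply, smul_eq_mul, LinearMap.zero_apply]
  calc ∑ a, u a * (c * y b (l (Fin.cast hfr.symm a)))
      = c * ∑ a, u a * y b (l (Fin.cast hfr.symm a)) := by
        rw [Finset.mul_sum]
        refine Finset.sum_congr rfl fun a _ => ?_
        ring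
    _ = 0 := by rw [hb, mul_zero]

end LinAlg

section Ring

variable {A : Type*} [CommRing A] {M : Type*} [AddCommGroup M] [Module A M]

/-- Evaluate all functionals `M → A` on `m` and reduce to the residue field at `p`. -/
noncomputable def rho (p : PrimeSpectrum A) :
    M →ₗ[A] ((M →ₗ[A] A) → p.asIdeal.ResidueField) where
  toFun m := fun ℓ => algebraMap A p.asIdeal.ResidueField (ℓ m)
  map_add' m m' := by
    funext ℓ
    simp
  map_smul' a m := by
    funext ℓ
    simp [Algebra.smul_def]

@[simp] theorem rho_apply (p : PrimeSpectrum A) (m : M) (ℓ : M →ₗ[A] A) :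
    rho p m ℓ = algebraMap A p.asIdeal.ResidueField (ℓ m) := rfl

/-- `v` has rank at least `w` at `p`. -/
def HasRank {ι : Type*} (v : ι → M) (p : PrimeSpectrum A) (w : ℕ) : Prop :=
  w ≤ rk p.asIdeal.ResidueField (fun i => rho p (v i))

theorem HasRank.mono {ι : Type*} {v : ι → M} {p : PrimeSpectrum A} {w w' : ℕ}
    (h : HasRank v p w) (hw : w' ≤ w) : HasRank v p w' := le_trans hw h

/-- the elementary modification of a family. -/
def modify {t : ℕ} (v : Fin (t + 1) → M) (b : Fin t → A) : Fin t → M :=
  fun i => v i.castSucc + b i • v (Fin.last t)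

theorem rho_modify {t : ℕ} (v : Fin (t + 1) → M) (b : Fin t → A) (p : PrimeSpectrum A) :
    (fun i => rho p (modify v b i)) =
      modV (fun i => rho p (v i)) (fun i => algebraMap A p.asIdeal.ResidueField (b i)) := by
  funext i
  simp only [modify, modV, map_add, map_smul, algebraMap_smul]

theorem HasRank.modify {t w : ℕ} {v : Fin (t + 1) → M} {p : PrimeSpectrum A}
    (h : HasRank v p (w + 1)) (b : Fin t → A) : HasRank (modify v b) p w := by
  unfold HasRank at h ⊢
  rw [rho_modify]
  have := rk_le_rk_modV_add_one (fun i => rho p (v i))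
    (fun i => algebraMap A p.asIdeal.ResidueField (b i))
  omega

theorem hasRank_modify_congr {t w : ℕ} (v : Fin (t + 1) → M) (p : PrimeSpectrum A)
    (b b' : Fin t → A) (hb : ∀ i, b i - b' i ∈ p.asIdeal) :
    HasRank (modify v b) p w ↔ HasRank (modify v b') p w := by
  unfold HasRank
  rw [rho_modify, rho_modify]
  have : (fun i => algebraMap A p.asIdeal.ResidueField (b i)) =
      (fun i => algebraMap A p.asIdeal.ResidueField (b' i)) := by
    funext i
    rw [← sub_eq_zero, ← map_sub, Ideal.algebraMap_residueField_eq_zero]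
    exact hb i
  rw [this]

theorem range_infinite_or_surjective (p : PrimeSpectrum A) :
    (Set.range (algebraMap A p.asIdeal.ResidueField)).Infinite ∨
      Function.Surjective (algebraMap A p.asIdeal.ResidueField) := by
  by_cases hfin : (Set.range (algebraMap A p.asIdeal.ResidueField)).Finite
  · right
    have hsub : Set.range (algebraMap (A ⧸ p.asIdeal) p.asIdeal.ResidueField) ⊆
        Set.range (algebraMap A p.asIdeal.ResidueField) := by
      rintro _ ⟨x, rfl⟩
      obtain ⟨a, rfl⟩ := Ideal.Quotient.mk_surjective x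
      exact ⟨a, rfl⟩
    have hfin' := hfin.subset hsub
    have : Finite (Set.range (algebraMap (A ⧸ p.asIdeal) p.asIdeal.ResidueField)) := hfin'
    have hF : Finite (A ⧸ p.asIdeal) :=
      Finite.of_injective_finite_range p.asIdeal.injective_algebraMap_quotient_residueField
    have hmax : p.asIdeal.IsMaximal :=
      Ideal.Quotient.maximal_of_isField _ (Finite.isField_of_domain (A ⧸ p.asIdeal))
    exact p.asIdeal.algebraMap_residueField_surjective
  · left
    exact hfin

theorem exists_modify_hasRank_of_prime {t w : ℕ} (v : Fin (t + 1) → M) (p : PrimeSpectrum A)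
    (hw : HasRank v p w) (hwt : w ≤ t) (a : Fin t → A) (r : A) (hr : r ∉ p.asIdeal) :
    ∃ c : Fin t → A, HasRank (modify v (fun i => a i + r * c i)) p w := by
  classical
  set κ := p.asIdeal.ResidueField
  set x : Fin (t + 1) → ((M →ₗ[A] A) → κ) := fun i => rho p (v i) with hx
  obtain ⟨β, hβ01, hβ⟩ := exists_modV_rk x hw hwt
  have hlift : ∃ b0 : Fin t → A, ∀ i, algebraMap A κ (b0 i) = β i := by
    refine ⟨fun i => if β i = 0 then 0 else 1, fun i => ?_⟩
    rcases hβ01 i with h | h
    · simp [h]
    · simp [h]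
  obtain ⟨b0, hb0⟩ := hlift
  have hr' : algebraMap A κ r ≠ 0 := by
    rwa [ne_eq, Ideal.algebraMap_residueField_eq_zero]
  set P : Fin t → ((M →ₗ[A] A) → κ) :=
    fun i => x i.castSucc + algebraMap A κ (a i) • x (Fin.last t) with hP
  set Q : Fin t → ((M →ₗ[A] A) → κ) :=
    fun i => (algebraMap A κ r * (β i - algebraMap A κ (a i))) • x (Fin.last t) with hQ
  have h0 : (fun i => P i + (algebraMap A κ r)⁻¹ • Q i) = modV x β := by
    funext i
    simp only [hP, hQ, modV, smul_smul, add_assoc, ← add_smul]
    congr 2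
    rw [← mul_assoc, inv_mul_cancel₀ hr', one_mul]
    ring
  have key : ∃ s : A, w ≤ rk κ (fun i => P i + algebraMap A κ s • Q i) := by
    rcases range_infinite_or_surjective p with hinf | hsurj
    · have h1 : w ≤ rk κ (fun i => P i + (algebraMap A κ r)⁻¹ • Q i) := by rw [h0]; exact hβ
      obtain ⟨σ, ⟨s, rfl⟩, hσ⟩ := exists_mem_rk_add_smul P Q _ h1 _ hinf
      exact ⟨s, hσ⟩
    · obtain ⟨s, hs⟩ := hsurj (algebraMap A κ r)⁻¹
      refine ⟨s, ?_⟩
      rw [hs, h0]
      exact hβ
  obtain ⟨s, hs⟩ := key
  refine ⟨fun i => s * (b0 i - a i), ?_⟩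
  unfold HasRank
  rw [rho_modify]
  convert hs using 2
  funext i
  simp only [modV, hP, hQ, smul_smul, add_assoc, ← add_smul, map_add, map_mul, map_sub]
  congr 2
  rw [← hb0 i]
  ring

theorem exists_modify_hasRank_of_finset {t : ℕ} (v : Fin (t + 1) → M)
    (w : PrimeSpectrum A → ℕ) (T : Finset (PrimeSpectrum A)) (hwt : ∀ p ∈ T, w p ≤ t)
    (hw : ∀ p ∈ T, HasRank v p (w p)) :
    ∃ b : Fin t → A, ∀ p ∈ T, HasRank (modify v b) p (w p) := by
  classical
  induction T using Finset.strongInduction with
  | H T ih =>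
    rcases T.eq_empty_or_nonempty with rfl | hne
    · exact ⟨0, by simp⟩
    · obtain ⟨p, hpT, hpmin⟩ := T.exists_minimal hne
      obtain ⟨b', hb'⟩ := ih (T.erase p) (Finset.erase_ssubset hpT)
        (fun q hq => hwt q (Finset.mem_of_mem_erase hq))
        (fun q hq => hw q (Finset.mem_of_mem_erase hq))
      have hnle : ¬ (T.erase p).inf (fun q => q.asIdeal) ≤ p.asIdeal := by
        rw [Ideal.IsPrime.inf_le' p.isPrime]
        rintro ⟨q, hq, hqp⟩
        have hqT := Finset.mem_of_mem_erase hq
        have hqp' : q ≤ p := (PrimeSpectrum.asIdeal_le_asIdeal q p).mp hqp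
        have := le_antisymm hqp' (hpmin hqT hqp')
        exact (Finset.mem_erase.mp hq).1 this
      obtain ⟨r, hrT, hrp⟩ := SetLike.not_le_iff_exists.mp hnle
      obtain ⟨c, hc⟩ := exists_modify_hasRank_of_prime v p (hw p hpT) (hwt p hpT) b' r hrp
      refine ⟨fun i => b' i + r * c i, fun q hq => ?_⟩
      by_cases hqp : q = p
      · subst hqp; exact hc
      · have hqe : q ∈ T.erase p := Finset.mem_erase.mpr ⟨hqp, hq⟩
        rw [hasRank_modify_congr v q _ b']
        · exact hb' q hqe
        · intro i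
          have : r ∈ q.asIdeal := (Finset.inf_le hqe : _ ≤ q.asIdeal) hrT
          simpa using Ideal.mul_mem_right (c i) _ this

/-- The `w × w` minor of the pairing between functionals and the family `v`. -/
def minor {ι : Type*} (v : ι → M) {w : ℕ} (i : Fin w → ι) (ℓ : Fin w → (M →ₗ[A] A)) : A :=
  (Matrix.of fun a b => ℓ a (v (i b))).det

/-- ideal generated by all `w × w` minors. -/
def minorIdeal {ι : Type*} (v : ι → M) (w : ℕ) : Ideal A :=
  Ideal.span {d | ∃ (i : Fin w → ι) (ℓ : Fin w → (M →ₗ[A] A)), d = minor v i ℓ}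

theorem algebraMap_minor {ι : Type*} (v : ι → M) {w : ℕ} (i : Fin w → ι)
    (ℓ : Fin w → (M →ₗ[A] A)) (p : PrimeSpectrum A) :
    algebraMap A p.asIdeal.ResidueField (minor v i ℓ) =
      (Matrix.of fun a b => rho p (v (i b)) (ℓ a)).det := by
  unfold minor
  rw [RingHom.map_det]
  congr 1

theorem hasRank_of_minor_notMem {ι : Type*} [Finite ι] (v : ι → M) {w : ℕ} (i : Fin w → ι)
    (ℓ : Fin w → (M →ₗ[A] A)) (p : PrimeSpectrum A) (h : minor v i ℓ ∉ p.asIdeal) :
    HasRank v p w := by
  have h1 : algebraMap A p.asIdeal.ResidueField (minor v i ℓ) ≠ 0 := by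
    rwa [ne_eq, Ideal.algebraMap_residueField_eq_zero]
  rw [algebraMap_minor] at h1
  refine le_rk_of_linearIndependent (fun j => rho p (v j)) i ?_
  exact linearIndependent_of_det_ne_zero _
    (LinearMap.funLeft p.asIdeal.ResidueField p.asIdeal.ResidueField ℓ) h1

theorem exists_minor_notMem_of_linearIndependent {w : ℕ} (v : Fin w → M) (p : PrimeSpectrum A)
    (h : LinearIndependent p.asIdeal.ResidueField (fun b => rho p (v b))) :
    ∃ ℓ : Fin w → (M →ₗ[A] A), minor v id ℓ ∉ p.asIdeal := by
  obtain ⟨ℓ, hℓ⟩ := exists_rows_det_ne_zero _ h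
  refine ⟨ℓ, fun hmem => hℓ ?_⟩
  have := algebraMap_minor v id ℓ p
  rw [Ideal.algebraMap_residueField_eq_zero.mpr hmem] at this
  exact this.symm

theorem exists_minor_notMem_of_hasRank {ι : Type*} [Finite ι] (v : ι → M) {w : ℕ}
    (p : PrimeSpectrum A) (h : HasRank v p w) :
    ∃ (i : Fin w → ι) (ℓ : Fin w → (M →ₗ[A] A)), minor v i ℓ ∉ p.asIdeal := by
  obtain ⟨i, hi⟩ := exists_indep_of_le_rk _ h
  obtain ⟨ℓ, hℓ⟩ := exists_minor_notMem_of_linearIndependent (v ∘ i) p hi
  exact ⟨i, ℓ, hℓ⟩

theorem hasRank_iff_not_minorIdeal_le {ι : Type*} [Finite ι] (v : ι → M) (w : ℕ)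
    (p : PrimeSpectrum A) : HasRank v p w ↔ ¬ minorIdeal v w ≤ p.asIdeal := by
  constructor
  · intro h hle
    obtain ⟨i, ℓ, hiℓ⟩ := exists_minor_notMem_of_hasRank v p h
    exact hiℓ (hle (Ideal.subset_span ⟨i, ℓ, rfl⟩))
  · intro h
    by_contra hnr
    apply h
    unfold minorIdeal
    rw [Ideal.span_le]
    rintro _ ⟨i, ℓ, rfl⟩
    by_contra hmem
    exact hnr (hasRank_of_minor_notMem v i ℓ p hmem)

/-- codimension-type function `k - ht p`. -/
noncomputable def dfun (k : ℕ) (p : PrimeSpectrum A) : ℕ := k - p.asIdeal.height.toNat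

theorem dfun_le (k : ℕ) (p : PrimeSpectrum A) : dfun k p ≤ k := Nat.sub_le _ _

theorem dfun_lt {k : ℕ} {q p : PrimeSpectrum A} (hqp : q.asIdeal < p.asIdeal)
    (hp : p.asIdeal.height ≤ k) : q.asIdeal.height ≤ k ∧ dfun k p + 1 ≤ dfun k q := by
  have hptop : p.asIdeal.height ≠ ⊤ := ne_top_of_le_ne_top (ENat.natCast_ne_top k) hp
  have : p.asIdeal.FiniteHeight := p.asIdeal.finiteHeight_iff.mpr (Or.inr hptop)
  have hlt := Ideal.height_strict_mono_of_isPrime_of_isPrime hqp
  have hqtop : q.asIdeal.height ≠ ⊤ := ne_top_of_lt hlt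
  obtain ⟨n, hn⟩ := ENat.ne_top_iff_exists.mp hptop
  obtain ⟨m, hm⟩ := ENat.ne_top_iff_exists.mp hqtop
  unfold dfun
  rw [← hn, ← hm] at hlt ⊢
  rw [← hn] at hp
  simp only [ENat.toNat_natCast]
  have h1 : m < n := by exact_mod_cast hlt
  have h2 : n ≤ k := by exact_mod_cast hp
  refine ⟨by exact_mod_cast (h1.le.trans h2), by omega⟩

section Noeth

variable [IsNoetherianRing A]

theorem finite_trouble (k j t : ℕ) (v : Fin (t + 1) → M)
    (hinv : ∀ p : PrimeSpectrum A, p.asIdeal.height ≤ k →
      HasRank v p (min (t + 1) (dfun k p + j))) :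
    {p : PrimeSpectrum A | p.asIdeal.height ≤ k ∧ dfun k p + j ≤ t ∧
      ¬ HasRank v p (dfun k p + j + 1)}.Finite := by
  have hfin : (⋃ d ∈ Finset.range (k + 1), (minorIdeal v (d + j + 1)).minimalPrimes).Finite :=
    Set.Finite.biUnion (Finset.finite_toSet _)
      (fun d _ => Ideal.finite_minimalPrimes_of_isNoetherianRing A _)
  refine (hfin.preimage (f := PrimeSpectrum.asIdeal)
    (fun x _ y _ h => PrimeSpectrum.ext h)).subset ?_
  rintro p ⟨hpk, hpt, hnr⟩
  simp only [Set.mem_preimage, Set.mem_iUnion, Finset.mem_range, exists_prop]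
  refine ⟨dfun k p, Nat.lt_succ_of_le (dfun_le k p), ?_⟩
  have hle : minorIdeal v (dfun k p + j + 1) ≤ p.asIdeal := by
    by_contra h
    exact hnr ((hasRank_iff_not_minorIdeal_le v _ p).mpr h)
  refine ⟨⟨p.isPrime, hle⟩, ?_⟩
  rintro q ⟨hqprime, hIq⟩ hqp
  by_contra hnle
  have hlt : q < p.asIdeal := lt_of_le_of_ne hqp (fun h => hnle (h ▸ le_rfl))
  obtain ⟨hqk, hd⟩ := dfun_lt (q := ⟨q, hqprime⟩) (p := p) hlt hpk
  have h1 := hinv ⟨q, hqprime⟩ hqk
  have h2 : HasRank v (⟨q, hqprime⟩ : PrimeSpectrum A) (dfun k p + j + 1) := by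
    refine h1.mono ?_
    apply le_min <;> omega
  exact (hasRank_iff_not_minorIdeal_le v _ _).mp h2 hIq

theorem exists_modify_inv (k j t : ℕ) (v : Fin (t + 1) → M)
    (hinv : ∀ p : PrimeSpectrum A, p.asIdeal.height ≤ k →
      HasRank v p (min (t + 1) (dfun k p + j))) :
    ∃ b : Fin t → A, ∀ p : PrimeSpectrum A, p.asIdeal.height ≤ k →
      HasRank (modify v b) p (min t (dfun k p + j)) := by
  classical
  have hfin := finite_trouble k j t v hinv
  obtain ⟨b, hb⟩ := exists_modify_hasRank_of_finset v (fun p => dfun k p + j) hfin.toFinset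
    (fun p hp => by
      rw [Set.Finite.mem_toFinset] at hp
      exact hp.2.1)
    (fun p hp => by
      rw [Set.Finite.mem_toFinset] at hp
      have h1 := hp.2.1
      exact (hinv p hp.1).mono (le_min (by omega) le_rfl))
  refine ⟨b, fun p hp => ?_⟩
  by_cases h1 : dfun k p + j ≤ t
  · rw [min_eq_right h1]
    by_cases h2 : HasRank v p (dfun k p + j + 1)
    · exact h2.modify b
    · exact hb p (by rw [Set.Finite.mem_toFinset]; exact ⟨hp, h1, h2⟩)
  · push Not at h1
    rw [min_eq_left h1.le]
    have := hinv p hp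
    rw [min_eq_left (by omega)] at this
    exact this.modify b

theorem exists_family_hasRank (k j : ℕ) (n : ℕ) (v : Fin (j + n) → M)
    (hinv : ∀ p : PrimeSpectrum A, p.asIdeal.height ≤ k →
      HasRank v p (min (j + n) (dfun k p + j))) :
    ∃ v' : Fin j → M, ∀ p : PrimeSpectrum A, p.asIdeal.height ≤ k → HasRank v' p j := by
  induction n with
  | zero =>
    refine ⟨v, fun p hp => ?_⟩
    exact (hinv p hp).mono (le_min (by omega) (by omega))
  | succ n ih =>
    obtain ⟨b, hb⟩ := exists_modify_inv k j (j + n) v hinv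
    exact ih (modify v b) hb

theorem hasRank_of_free [Module.Finite A M] {ι : Type*} [Finite ι] (v : ι → M)
    (hv : span A (Set.range v) = ⊤) (p : PrimeSpectrum A) (r : ℕ)
    (e : LocalizedModule p.asIdeal.primeCompl M ≃ₗ[Localization.AtPrime p.asIdeal]
      (Fin r → Localization.AtPrime p.asIdeal)) : HasRank v p r := by
  classical
  have hfp : Module.FinitePresentation A M := Module.finitePresentation_of_finite A M
  let S := p.asIdeal.primeCompl
  let Ap := Localization.AtPrime p.asIdeal
  let κ := p.asIdeal.ResidueField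
  let mk : M →ₗ[A] LocalizedModule S M := LocalizedModule.mkLinearMap S M
  let f : (Fin r → A) →ₗ[A] (Fin r → Ap) :=
    LinearMap.pi fun j => Algebra.linearMap A Ap ∘ₗ LinearMap.proj j
  let g : M →ₗ[A] (Fin r → Ap) := (e.toLinearMap.restrictScalars A) ∘ₗ mk
  obtain ⟨h, s, hs⟩ := Module.FinitePresentation.exists_lift_of_isLocalizedModule S f g
  have hcoord : ∀ m j, algebraMap A Ap (h m j) = algebraMap A Ap s * e (mk m) j := by
    intro m j
    have := congrFun (LinearMap.congr_fun hs m) j
    simpa [f, g, Submonoid.smul_def, Algebra.smul_def] using this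
  let ℓ : Fin r → (M →ₗ[A] A) := fun j => LinearMap.proj j ∘ₗ h
  have hσ : algebraMap A κ (s : A) ≠ 0 := by
    rw [ne_eq, Ideal.algebraMap_residueField_eq_zero]
    exact s.2
  let u : ι → (Fin r → κ) := fun i j => algebraMap Ap κ (e (mk (v i)) j)
  have hkey : ∀ i j, rho p (v i) (ℓ j) = algebraMap A κ (s : A) * u i j := by
    intro i j
    simp only [rho_apply, ℓ, LinearMap.comp_apply, LinearMap.proj_apply, u]
    rw [IsScalarTower.algebraMap_apply A Ap κ, hcoord, map_mul,
      ← IsScalarTower.algebraMap_apply A Ap κ]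
  -- the `u i` span `κ^r`
  let Pr : (Fin r → Ap) →ₗ[Ap] (Fin r → κ) := LinearMap.compLeft (Algebra.linearMap Ap κ) (Fin r)
  have hPr : Function.Surjective Pr := by
    intro y
    have hres : Function.Surjective (algebraMap Ap κ) := IsLocalRing.residue_surjective
    choose z hz using fun j => hres (y j)
    exact ⟨z, funext hz⟩
  have hu : span κ (Set.range u) = ⊤ := by
    have h1 : span Ap (mk '' Set.range v) = ⊤ := span_eq_top_of_isLocalizedModule Ap S mk hv
    have h2 : span Ap (Set.range u) = ⊤ := by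
      have : Set.range u = (Pr ∘ₗ e.toLinearMap) '' (mk '' Set.range v) := by
        ext y
        simp only [Set.mem_range, Set.mem_image, exists_exists_eq_and]
        constructor
        · rintro ⟨i, rfl⟩; exact ⟨i, rfl⟩
        · rintro ⟨i, rfl⟩; exact ⟨i, rfl⟩
      rw [this, ← Submodule.map_span, h1, Submodule.map_top, LinearMap.range_eq_top]
      exact hPr.comp e.surjective
    rw [eq_top_iff]
    intro y _
    have : y ∈ span Ap (Set.range u) := by rw [h2]; trivial
    exact Submodule.span_le_restrictScalars Ap κ _ this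
  let Φ : ((M →ₗ[A] A) → κ) →ₗ[κ] (Fin r → κ) := LinearMap.funLeft κ κ ℓ
  have hΦ : ∀ i, Φ (rho p (v i)) = algebraMap A κ (s : A) • u i := by
    intro i
    funext j
    simp only [Φ, LinearMap.funLeft_apply, Pi.smul_apply, smul_eq_mul]
    exact hkey i j
  set W := span κ (Set.range (fun i => rho p (v i))) with hW
  have hWfin : Module.Finite κ W := FiniteDimensional.span_of_finite κ (Set.finite_range _)
  have hmap : W.map Φ = ⊤ := by
    rw [eq_top_iff, ← hu, span_le]
    rintro _ ⟨i, rfl⟩
    have h1 : Φ (rho p (v i)) ∈ W.map Φ := Submodule.mem_map_of_mem (subset_span ⟨i, rfl⟩)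
    rw [hΦ i] at h1
    have := smul_mem _ (algebraMap A κ (s : A))⁻¹ h1
    rwa [inv_smul_smul₀ hσ] at this
  have h3 := Submodule.finrank_map_le Φ W
  rw [hmap, finrank_top] at h3
  simpa [HasRank, rk] using h3

theorem exists_basic_family [Module.Finite A M] (k j : ℕ)
    (hM : ∀ p : PrimeSpectrum A, p.asIdeal.height ≤ k →
      Nonempty (LocalizedModule p.asIdeal.primeCompl M ≃ₗ[Localization.AtPrime p.asIdeal]
        (Fin (k + j) → Localization.AtPrime p.asIdeal))) :
    ∃ v : Fin j → M, ∀ p : PrimeSpectrum A, p.asIdeal.height ≤ k → HasRank v p j := by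
  obtain ⟨n, s, hs⟩ := Module.Finite.exists_fin (R := A) (M := M)
  set v₀ : Fin (j + n) → M := Fin.append (fun _ : Fin j => (0 : M)) s with hv₀
  have hspan : span A (Set.range v₀) = ⊤ := by
    rw [eq_top_iff, ← hs]
    apply span_mono
    rintro _ ⟨i, rfl⟩
    exact ⟨Fin.natAdd j i, by simp [hv₀]⟩
  apply exists_family_hasRank k j n v₀
  intro p hp
  obtain ⟨e⟩ := hM p hp
  refine (hasRank_of_free v₀ hspan p (k + j) e).mono ?_
  have := dfun_le k p
  exact (min_le_right _ _).trans (by omega)

theorem linearCombination_injective_of_minor {j : ℕ} (v : Fin j → M)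
    (h : ∀ q : Ideal A, q ∈ associatedPrimes A A →
      ∃ ℓ : Fin j → (M →ₗ[A] A), minor v id ℓ ∉ q) :
    Function.Injective (Fintype.linearCombination A v) := by
  classical
  rw [injective_iff_map_eq_zero]
  intro c hc
  by_contra hne
  obtain ⟨b₀, hb₀⟩ := Function.ne_iff.mp hne
  obtain ⟨q, hq, hle⟩ := exists_le_isAssociatedPrime_of_isNoetherianRing A (c b₀) hb₀
  obtain ⟨ℓ, hℓ⟩ := h q hq
  apply hℓ
  apply hle
  rw [Submodule.mem_colon_singleton, Submodule.mem_bot]
  set G : Matrix (Fin j) (Fin j) A := Matrix.of fun a b => ℓ a (v b) with hG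
  have hGc : G.mulVec c = 0 := by
    funext a
    simp only [Matrix.mulVec, dotProduct, hG, Matrix.of_apply, Pi.zero_apply]
    have := congrArg (ℓ a) hc
    rw [Fintype.linearCombination_apply, map_sum, map_zero] at this
    simpa [mul_comm] using this
  have h2 : G.det • c = 0 := by
    have : (G.adjugate * G).mulVec c = 0 := by
      rw [← Matrix.mulVec_mulVec, hGc, Matrix.mulVec_zero]
    rwa [Matrix.adjugate_mul, Matrix.smul_mulVec, Matrix.one_mulVec] at this
  exact congrFun h2 b₀

end Noeth

theorem quotient_localization_equiv {j k : ℕ} (v : Fin j → M) (p : PrimeSpectrum A)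
    (ℓ : Fin j → (M →ₗ[A] A)) (hℓ : minor v id ℓ ∉ p.asIdeal)
    (e : LocalizedModule p.asIdeal.primeCompl M ≃ₗ[Localization.AtPrime p.asIdeal]
        (Fin (k + j) → Localization.AtPrime p.asIdeal)) :
    Nonempty (LocalizedModule p.asIdeal.primeCompl
        (M ⧸ LinearMap.range (Fintype.linearCombination A v)) ≃ₗ[Localization.AtPrime p.asIdeal]
        (Fin k → Localization.AtPrime p.asIdeal)) := by
  classical
  let S := p.asIdeal.primeCompl
  let Ap := Localization.AtPrime p.asIdeal
  let V : (Fin j → A) →ₗ[A] M := Fintype.linearCombination A v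
  let Λ : M →ₗ[A] (Fin j → A) := LinearMap.pi ℓ
  let N := LinearMap.range V
  let π : M →ₗ[A] M ⧸ N := N.mkQ
  let G : Matrix (Fin j) (Fin j) A := Matrix.of fun a b => ℓ a (v b)
  have hΛV : ∀ c, Λ (V c) = G.mulVec c := by
    intro c
    funext a
    simp [Λ, V, Fintype.linearCombination_apply, Matrix.mulVec, dotProduct, G, mul_comm]
  let d : A := G.det
  have hd : d ∈ S := hℓ
  have hdu : IsUnit (algebraMap A Ap d) := IsLocalization.map_units Ap ⟨d, hd⟩
  let Vp := LocalizedModule.map S V
  let Λp := LocalizedModule.map S Λ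
  let πp := LocalizedModule.map S π
  let adjL : (Fin j → A) →ₗ[A] (Fin j → A) := (G.adjugate).mulVecLin
  let adjp := LocalizedModule.map S adjL
  have hΘ1 : ∀ x, adjp (Λp (Vp x)) = d • x := by
    intro x
    induction x using LocalizedModule.induction_on with
    | h c s =>
      simp only [Vp, Λp, adjp, LocalizedModule.map_mk, hΛV, LocalizedModule.smul'_mk]
      congr 1
      simp only [adjL, Matrix.mulVecLin_apply, Matrix.mulVec_mulVec, Matrix.adjugate_mul,
        Matrix.smul_mulVec, Matrix.one_mulVec, d]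
  have hΘ2 : ∀ x, Λp (Vp (adjp x)) = d • x := by
    intro x
    induction x using LocalizedModule.induction_on with
    | h c s =>
      simp only [Vp, Λp, adjp, LocalizedModule.map_mk, hΛV, LocalizedModule.smul'_mk]
      congr 1
      simp only [adjL, Matrix.mulVecLin_apply, Matrix.mulVec_mulVec, Matrix.mul_adjugate,
        Matrix.smul_mulVec, Matrix.one_mulVec, d]
  have hΘinj : ∀ x, Λp (Vp x) = 0 → x = 0 := by
    intro x hx
    have h1 := hΘ1 x
    rw [hx, map_zero, ← algebraMap_smul Ap d x] at h1
    exact (hdu.smul_eq_zero).mp h1.symm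
  have hΘsurj : ∀ y, ∃ x, Λp (Vp x) = y := by
    intro y
    refine ⟨adjp ((↑hdu.unit⁻¹ : Ap) • y), ?_⟩
    rw [hΘ2, ← algebraMap_smul Ap d, smul_smul]
    rw [show algebraMap A Ap d * (↑hdu.unit⁻¹ : Ap) = 1 from hdu.mul_val_inv, one_smul]
  have hex : Function.Exact Vp πp :=
    LocalizedModule.map_exact S V π (LinearMap.exact_map_mkQ_range V)
  have hπsurj : Function.Surjective πp :=
    LocalizedModule.map_surjective S π (Submodule.mkQ_surjective N)
  let Ψ := LinearMap.prod Λp πp
  have hΨinj : Function.Injective Ψ := by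
    rw [injective_iff_map_eq_zero]
    intro x hx
    have h1 : Λp x = 0 := congrArg Prod.fst hx
    have h2 : πp x = 0 := congrArg Prod.snd hx
    obtain ⟨y, rfl⟩ := (hex x).mp h2
    rw [hΘinj y h1, map_zero]
  have hΨsurj : Function.Surjective Ψ := by
    rintro ⟨q, z⟩
    obtain ⟨x₀, hx₀⟩ := hπsurj z
    obtain ⟨y, hy⟩ := hΘsurj (q - Λp x₀)
    refine ⟨x₀ + Vp y, ?_⟩
    have h3 : πp (Vp y) = 0 := (hex _).mpr ⟨y, rfl⟩
    refine Prod.ext ?_ ?_
    · show Λp (x₀ + Vp y) = q
      rw [map_add, hy]
      abel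
    · show πp (x₀ + Vp y) = z
      rw [map_add, h3, hx₀, add_zero]
  let Eqv := LinearEquiv.ofBijective Ψ ⟨hΨinj, hΨsurj⟩
  have hMfree : Module.Free Ap (LocalizedModule S M) := Module.Free.of_equiv e.symm
  have hMfin : Module.Finite Ap (LocalizedModule S M) := Module.Finite.equiv e.symm
  have hPprod : Module.Projective Ap
      (LocalizedModule S (Fin j → A) × LocalizedModule S (M ⧸ N)) :=
    Module.Projective.of_equiv' Eqv
  have hCproj : Module.Projective Ap (LocalizedModule S (M ⧸ N)) :=
    Module.Projective.of_split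
      (LinearMap.inr Ap (LocalizedModule S (Fin j → A)) (LocalizedModule S (M ⧸ N)))
      (LinearMap.snd Ap (LocalizedModule S (Fin j → A)) (LocalizedModule S (M ⧸ N)))
      (LinearMap.snd_comp_inr _ _ _)
  have hCfin : Module.Finite Ap (LocalizedModule S (M ⧸ N)) := Module.Finite.of_surjective πp hπsurj
  have hCfree : Module.Free Ap (LocalizedModule S (M ⧸ N)) := Module.free_of_flat_of_isLocalRing
  let bQ := (Pi.basisFun A (Fin j)).ofIsLocalizedModule Ap S
    (LocalizedModule.mkLinearMap S (Fin j → A))
  have hQfree : Module.Free Ap (LocalizedModule S (Fin j → A)) := Module.Free.of_basis bQ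
  have hQfin : Module.Finite Ap (LocalizedModule S (Fin j → A)) := Module.Finite.of_basis bQ
  have hQrank : finrank Ap (LocalizedModule S (Fin j → A)) = j := by
    rw [Module.finrank_eq_card_basis bQ, Fintype.card_fin]
  have hMrank : finrank Ap (LocalizedModule S M) = k + j := by
    rw [e.finrank_eq, Module.finrank_fin_fun]
  have hsum : finrank Ap (LocalizedModule S M) =
      finrank Ap (LocalizedModule S (Fin j → A)) + finrank Ap (LocalizedModule S (M ⧸ N)) := by
    rw [← Module.finrank_prod]
    exact Eqv.finrank_eq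
  have hCrank : finrank Ap (LocalizedModule S (M ⧸ N)) = k := by omega
  apply FiniteDimensional.nonempty_linearEquiv_of_finrank_eq
  rw [hCrank, Module.finrank_fin_fun]

end Ring

end Groth.Agent.R2.H78.BasicElt
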