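import Mathlib

/-!
# helper86: `Proj.map` of a surjective graded ring homomorphism is a closed immersion
-/

set_option autoImplicit false
universe u

open HomogeneousIdeal HomogeneousLocalization TopologicalSpace CategoryTheory Graded
open AlgebraicGeometry ProjectiveSpectrum Proj CategoryTheory.Limits

namespace Groth.Agent.R2.H86.ProjClosed

variable {A B σ τ : Type u} [CommRing A] [SetLike σ A] [AddSubgroupClass σ A]
  [CommRing B] [SetLike τ B] [AddSubgroupClass τ B]
  {𝒜 : ℕ → σ} {ℬ : ℕ → τ} [GradedRing 𝒜] [GradedRing ℬ]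
  (f : 𝒜 →+*ᵍ ℬ) (hf : ℬ₊ ≤ 𝒜₊.map f)

/-- a surjective graded hom is surjective on each graded piece -/
theorem exists_mem_map_eq (hsurj : Function.Surjective f) {n : ℕ} {b : B} (hb : b ∈ ℬ n) :
    ∃ a ∈ 𝒜 n, f a = b := by
  classical
  obtain ⟨a, rfl⟩ := hsurj b
  refine ⟨DirectSum.decompose 𝒜 a n, SetLike.coe_mem _, ?_⟩
  rw [GradedRingHom.map_directSumDecompose, DirectSum.decompose_of_mem_same _ hb]

/-- for a surjective graded hom the irrelevant-ideal hypothesis of `Proj.map` holds -/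
theorem irrelevant_le_map_of_surjective (hsurj : Function.Surjective f) : ℬ₊ ≤ 𝒜₊.map f := by
  rw [HomogeneousIdeal.irrelevant_le]
  intro i hi b hb
  change b ∈ Ideal.map f (𝒜₊.toIdeal)
  obtain ⟨a, ha, rfl⟩ := exists_mem_map_eq f hsurj hb
  exact Ideal.mem_map_of_mem _ (HomogeneousIdeal.mem_irrelevant_of_mem _ hi ha)

theorem away_map_surjective (hsurj : Function.Surjective f) {i : ℕ} {s : A} (hs : s ∈ 𝒜 i) :
    Function.Surjective (Away.map f s : Away 𝒜 s →+* Away ℬ (f s)) := by
  intro z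
  obtain ⟨n, b, hb, rfl⟩ := Away.mk_surjective ℬ (f.map_mem hs) z
  obtain ⟨a, ha, rfl⟩ := exists_mem_map_eq f hsurj hb
  exact ⟨Away.mk 𝒜 hs n a ha, Away.map_mk f s hs n a ha⟩

include hf in
theorem isPullback_awayι {i : ℕ} (hi : 0 < i) (s : A) (hs : s ∈ 𝒜 i) :
    IsPullback (awayι ℬ (f s) (f.map_mem hs) hi) (Spec.map (CommRingCat.ofHom (Away.map f s)))
      (Proj.map f hf) (awayι 𝒜 s hs hi) :=
  (IsOpenImmersion.isPullback (Spec.map (CommRingCat.ofHom (Away.map f s)))
    (awayι ℬ (f s) (f.map_mem hs) hi) (awayι 𝒜 s hs hi) (Proj.map f hf)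
    (awayι_comp_map f hf hi s hs)
    (by rw [opensRange_awayι, opensRange_awayι, map_preimage_basicOpen])).flip

/-- `Proj.map` of a surjective graded ring homomorphism is a closed immersion. -/
theorem isClosedImmersion_map (hsurj : Function.Surjective f) :
    IsClosedImmersion (Proj.map f hf) := by
  refine IsZariskiLocalAtTarget.of_openCover (P := @IsClosedImmersion)
    (𝒰 := (affineOpenCover 𝒜).openCover) ?_
  intro (j : (i : ℕ+) × 𝒜 i)
  have hpb := isPullback_awayι f hf j.1.2 j.2.1 j.2.2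
  have hcl : IsClosedImmersion (Spec.map (CommRingCat.ofHom (Away.map f (j.2 : A)))) :=
    IsClosedImmersion.spec_of_surjective _ (away_map_surjective f hsurj j.2.2)
  have : hpb.isoPullback.hom ≫ pullback.snd (Proj.map f hf) (awayι 𝒜 j.2.1 j.2.2 j.1.2) =
      Spec.map (CommRingCat.ofHom (Away.map f (j.2 : A))) := hpb.isoPullback_hom_snd
  change IsClosedImmersion (pullback.snd (Proj.map f hf) (awayι 𝒜 j.2.1 j.2.2 j.1.2))
  refine (MorphismProperty.cancel_left_of_respectsIso (P := @IsClosedImmersion)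
    hpb.isoPullback.hom _).mp ?_
  rw [this]
  exact hcl

end Groth.Agent.R2.H86.ProjClosed
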