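import Mathlib
import Groth.Agent.Lib.Helper13ProjUPa
import Groth.Agent.R2.H86ProjClosed

/-!
# helper86: `Proj.map` is compatible with the structure morphisms `toBase` to the base rings
-/

set_option autoImplicit false
universe u

open HomogeneousIdeal HomogeneousLocalization TopologicalSpace CategoryTheory Graded
open AlgebraicGeometry ProjectiveSpectrum Proj CategoryTheory.Limits

namespace Groth.Agent.R2.H86.ProjBase

open Groth.Agent.Helper13ProjUP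

variable {R R₂ A A₂ : Type u} [CommRing R] [CommRing R₂] [CommRing A] [CommRing A₂]
  [Algebra R A] [Algebra R₂ A₂] {𝒜 : ℕ → Submodule R A} {ℬ : ℕ → Submodule R₂ A₂}
  [GradedAlgebra 𝒜] [GradedAlgebra ℬ]

/-- `awayι ≫ toBase` is `Spec` of the structure map `R → Away 𝒜 s`. -/
theorem awayι_toBase {i : ℕ} (hi : 0 < i) (s : A) (hs : s ∈ 𝒜 i) :
    awayι 𝒜 s hs hi ≫ toBase 𝒜 =
      Spec.map (CommRingCat.ofHom ((algebraMap (𝒜 0) (Away 𝒜 s)).comp (algebraMap R (𝒜 0)))) := by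
  rw [toBase, awayι_toSpecZero_assoc, ← Spec.map_comp]
  rfl

theorem away_map_fromZero (ρ : 𝒜 →+*ᵍ ℬ) (s : A) (x : 𝒜 0) :
    (Away.map ρ s (algebraMap (𝒜 0) (Away 𝒜 s) x)).val =
      (algebraMap (ℬ 0) (Away ℬ (ρ s)) ⟨ρ x, ρ.map_mem x.2⟩).val := by
  rw [HomogeneousLocalization.algebraMap_eq, HomogeneousLocalization.algebraMap_eq]
  simp only [fromZeroRingHom, RingHom.coe_mk, MonoidHom.coe_mk, OneHom.coe_mk]
  rw [Away.map, HomogeneousLocalization.map_mk, val_mk, val_mk]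
  simp

theorem map_toBase (φ : R →+* R₂) (ρ : 𝒜 →+*ᵍ ℬ)
    (hρ : ∀ r, ρ (algebraMap R A r) = algebraMap R₂ A₂ (φ r)) (hirr : ℬ₊ ≤ 𝒜₊.map ρ) :
    Proj.map ρ hirr ≫ toBase 𝒜 = toBase ℬ ≫ Spec.map (CommRingCat.ofHom φ) := by
  refine (mapAffineOpenCover ρ hirr).openCover.hom_ext _ _ fun (s : (i : ℕ+) × 𝒜 i) => ?_
  change awayι ℬ (ρ s.2) (ρ.map_mem s.2.2) s.1.pos ≫ Proj.map ρ hirr ≫ toBase 𝒜 =
    awayι ℬ (ρ s.2) (ρ.map_mem s.2.2) s.1.pos ≫ toBase ℬ ≫ Spec.map (CommRingCat.ofHom φ)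
  rw [awayι_comp_map_assoc ρ hirr s.1.pos s.2.1 s.2.2, awayι_toBase, ← Category.assoc (awayι ℬ _ _ _),
    awayι_toBase, ← Spec.map_comp, ← Spec.map_comp]
  congr 1
  refine CommRingCat.hom_ext (RingHom.ext fun r => ?_)
  apply HomogeneousLocalization.val_injective
  refine (away_map_fromZero ρ (s.2 : A) (algebraMap R (𝒜 0) r)).trans ?_
  have h1 : (⟨ρ ((algebraMap R (𝒜 0) r : 𝒜 0) : A), ρ.map_mem (algebraMap R (𝒜 0) r).2⟩ : ℬ 0) =
      algebraMap R₂ (ℬ 0) (φ r) := Subtype.ext (hρ r)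
  rw [h1]
  rfl

end Groth.Agent.R2.H86.ProjBase
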