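import Mathlib
import Groth.Prelude.Def_Rees
import Groth.Agent.R2.H86ReesChart
import Groth.Agent.R2.H86ProjClosed

/-!
# helper86: functoriality of the Rees algebra in `(A, I)`; surjectivity; closed immersion of `Proj`
-/

set_option autoImplicit false
universe u

open Polynomial HomogeneousIdeal AlgebraicGeometry Graded

namespace Groth.Agent.R2.H86.ReesMap

open Groth.Agent.R2.H86.ReesChart

variable {A A₂ : Type u} [CommRing A] [CommRing A₂] (φ : A →+* A₂) (I : Ideal A) (I₂ : Ideal A₂)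
  (h : I.map φ ≤ I₂)

include h in
theorem map_mem_reesAlgebra {p : A[X]} (hp : p ∈ reesAlgebra I) : p.map φ ∈ reesAlgebra I₂ := by
  intro i
  rw [coeff_map]
  have h1 : φ (p.coeff i) ∈ (I ^ i).map φ := Ideal.mem_map_of_mem φ (hp i)
  rw [Ideal.map_pow] at h1
  exact Ideal.pow_right_mono h i h1

/-- the ring hom `reesAlgebra I → reesAlgebra I₂` induced by `φ` with `φ(I) ⊆ I₂` -/
noncomputable def reesMap : reesAlgebra I →+* reesAlgebra I₂ :=
  ((Polynomial.mapRingHom φ).comp (reesAlgebra I).val.toRingHom).codRestrict (reesAlgebra I₂)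
    (fun p => map_mem_reesAlgebra φ I I₂ h p.2)

theorem coe_reesMap (p : reesAlgebra I) :
    ((reesMap φ I I₂ h p : reesAlgebra I₂) : A₂[X]) = (p : A[X]).map φ := rfl

theorem reesMap_algebraMap (r : A) :
    reesMap φ I I₂ h (algebraMap A (reesAlgebra I) r) = algebraMap A₂ (reesAlgebra I₂) (φ r) := by
  apply Subtype.ext
  rw [coe_reesMap, Subalgebra.coe_algebraMap, Subalgebra.coe_algebraMap, Polynomial.algebraMap_apply,
    Polynomial.algebraMap_apply, Algebra.algebraMap_self, Algebra.algebraMap_self, RingHom.id_apply,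
    RingHom.id_apply, Polynomial.map_C]

theorem reesMap_mon (n : ℕ) (c : A) (hc : c ∈ I ^ n) (hc' : φ c ∈ I₂ ^ n) :
    reesMap φ I I₂ h (mon I n c hc) = mon I₂ n (φ c) hc' := by
  apply Subtype.ext
  rw [coe_reesMap, coe_mon, coe_mon, Polynomial.map_monomial]

/-- the graded ring hom `Rees(I) → Rees(I₂)` -/
noncomputable def reesMapGr : Rees.deg (reesAlgebra I) →+*ᵍ Rees.deg (reesAlgebra I₂) where
  __ := reesMap φ I I₂ h
  map_mem {n p} hp := by
    intro m hm
    change ((reesMap φ I I₂ h p : reesAlgebra I₂) : A₂[X]).coeff m = 0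
    rw [coe_reesMap, coeff_map, hp m hm, map_zero]

theorem reesMapGr_apply (p : reesAlgebra I) : reesMapGr φ I I₂ h p = reesMap φ I I₂ h p := rfl

theorem reesMap_surjective (hφ : Function.Surjective φ) (hI : I₂ = I.map φ) :
    Function.Surjective (reesMap φ I I₂ h) := by
  classical
  intro q
  have hq : ∀ i, ∃ c : A, c ∈ I ^ i ∧ φ c = (q : A₂[X]).coeff i := by
    intro i
    have h1 : (q : A₂[X]).coeff i ∈ (I ^ i).map φ := by
      rw [Ideal.map_pow, ← hI]; exact q.2 i
    obtain ⟨c, hc, hc'⟩ := (Ideal.mem_map_iff_of_surjective φ hφ).mp h1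
    exact ⟨c, hc, hc'⟩
  choose c hc hc' using hq
  refine ⟨∑ i ∈ (q : A₂[X]).support, mon I i (c i) (hc i), Subtype.ext ?_⟩
  rw [coe_reesMap, AddSubmonoidClass.coe_finsetSum, Polynomial.map_sum]
  conv_rhs => rw [(q : A₂[X]).as_sum_support]
  refine Finset.sum_congr rfl fun i _ => ?_
  rw [coe_mon, Polynomial.map_monomial, hc']

end Groth.Agent.R2.H86.ReesMap
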