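import Mathlib
import Groth.Prelude.Def_BlowUp2
import Groth.Prelude.Def_Rees
import Groth.Agent.S1680
import Groth.Agent.R2.H92BlowExists
import Groth.Agent.R2.H86ReesMap
import Groth.Agent.R2.H86ProjBase

/-!
# helper86: the strict transform of a closed subscheme under a blow-up is a closed subscheme
-/

set_option autoImplicit false
universe u

open CategoryTheory CategoryTheory.Limits AlgebraicGeometry HomogeneousIdeal Graded

namespace Groth.Agent.R2.H86.StrictTransform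

open Groth.Agent.R2.H92.BlowExists Groth.Agent.R2.H92.BlowAffB Groth.Agent.R2.H92.BlowAffC
  Groth.Agent.R2.H92.BlowGlue Groth.Agent.R2.H86.ReesMap Groth.Agent.R2.H86.ProjClosed
  Groth.Agent.R2.H86.ProjBase

/-- blow-ups are stable under isomorphisms of the source -/
theorem isBlowUp_iso_comp {X X' Y : Scheme.{u}} {𝓘 : X.IdealSheafData} {b : X' ⟶ X}
    (hb : BlowUp.IsBlowUp b 𝓘) (e : Y ≅ X') : BlowUp.IsBlowUp (e.hom ≫ b) 𝓘 := by
  refine ⟨?_, fun T g hg => ?_⟩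
  · rw [Scheme.IdealSheafData.comap_comp]
    exact Groth.Agent.S10855.result e.hom _ hb.1
  · obtain ⟨h, hh, huniq⟩ := hb.2 T g hg
    refine ⟨h ≫ e.inv, ?_, fun h' hh' => ?_⟩
    · change (h ≫ e.inv) ≫ e.hom ≫ b = g
      rw [Category.assoc, Iso.inv_hom_id_assoc, hh]
    · have hh'' : h' ≫ e.hom ≫ b = g := hh'
      have := huniq (h' ≫ e.hom) (by change (h' ≫ e.hom) ≫ b = g; rw [Category.assoc, hh''])
      rw [← this, Category.assoc, Iso.hom_inv_id, Category.comp_id]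

/-- the restriction of a blow-up over an open is a blow-up of the open -/
theorem isBlowUp_morphismRestrict {X X' : Scheme.{u}} {𝓘 : X.IdealSheafData} {b : X' ⟶ X}
    (hb : BlowUp.IsBlowUp b 𝓘) (U : X.Opens) : BlowUp.IsBlowUp (b ∣_ U) (𝓘.comap U.ι) := by
  have h1 : BlowUp.IsBlowUp (pullback.fst U.ι b) (𝓘.comap U.ι) := Groth.Agent.S1680.result U.ι 𝓘 b hb
  have h2 : b ∣_ U = ((pullbackRestrictIsoRestrict b U).symm ≪≫ pullbackSymmetry b U.ι).hom ≫
      pullback.fst U.ι b := by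
    rw [Iso.trans_hom, Iso.symm_hom, Category.assoc, pullbackSymmetry_hom_comp_fst,
      eq_comm, Iso.inv_comp_eq, pullbackRestrictIsoRestrict_hom_morphismRestrict]
  rw [h2]
  exact isBlowUp_iso_comp h1 _

/-- affine case: the blow-up of a closed subscheme of an affine scheme maps to the blow-up of the ambient
scheme by a closed immersion. -/
theorem isClosedImmersion_of_isAffine {T Z X' Z' : Scheme.{u}} [IsAffine T] (𝓘 : T.IdealSheafData)
    (i : Z ⟶ T) [IsClosedImmersion i] (b : X' ⟶ T) (hb : BlowUp.IsBlowUp b 𝓘)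
    (b' : Z' ⟶ Z) (hb' : BlowUp.IsBlowUp b' (𝓘.comap i)) (k : Z' ⟶ X') (hk : k ≫ b = b' ≫ i) :
    IsClosedImmersion k := by
  have : IsAffine Z := isAffine_of_isAffineHom i
  let φ : Γ(T, ⊤) →+* Γ(Z, ⊤) := i.appTop.hom
  have hφ : Function.Surjective φ := (IsClosedImmersion.isAffine_surjective_of_isAffine i).2
  have hI : topIdeal (𝓘.comap i) = (topIdeal 𝓘).map φ := by
    have h := ideal_comap_eq 𝓘 i (isAffineOpen_top Z)
    have h2 : Scheme.Hom.appLE i ⊤ ⊤ (le_pre_top i ⊤) = i.appTop := Scheme.Hom.appLE_eq_app i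
    rw [h2] at h
    exact h
  let ρ : Rees.deg (reesAlgebra (topIdeal 𝓘)) →+*ᵍ Rees.deg (reesAlgebra (topIdeal (𝓘.comap i))) :=
    reesMapGr φ (topIdeal 𝓘) (topIdeal (𝓘.comap i)) hI.ge
  have hρs : Function.Surjective ρ := reesMap_surjective φ _ _ hI.ge hφ hI
  have hirr := irrelevant_le_map_of_surjective ρ hρs
  let κ : projRees (𝓘.comap i) ⟶ projRees 𝓘 := Proj.map ρ hirr
  have hκ : IsClosedImmersion κ := isClosedImmersion_map ρ hirr hρs
  have hcomm : κ ≫ projReesHom 𝓘 = projReesHom (𝓘.comap i) ≫ i := by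
    change Proj.map ρ hirr ≫ Groth.Agent.Helper13ProjUP.toBase _ ≫ (isAffineOpen_top T).fromSpec =
      (Groth.Agent.Helper13ProjUP.toBase _ ≫ (isAffineOpen_top Z).fromSpec) ≫ i
    rw [← Category.assoc, map_toBase φ ρ (reesMap_algebraMap φ _ _ hI.ge) hirr, Category.assoc,
      Category.assoc, IsAffineOpen.fromSpec_top, IsAffineOpen.fromSpec_top]
    congr 1
    exact Scheme.isoSpec_inv_naturality i
  have hPT := isBlowUp_projRees 𝓘
  have hPZ := isBlowUp_projRees (𝓘.comap i)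
  obtain ⟨eX, heX, -⟩ := hPT.2 X' b hb.1
  have heX' : eX ≫ projReesHom 𝓘 = b := heX
  have hisoX : IsIso eX := isIso_of_isBlowUp hb hPT eX heX'
  obtain ⟨eZ, heZ, -⟩ := hPZ.2 Z' b' hb'.1
  have heZ' : eZ ≫ projReesHom (𝓘.comap i) = b' := heZ
  have hisoZ : IsIso eZ := isIso_of_isBlowUp hb' hPZ eZ heZ'
  have key : k = eZ ≫ κ ≫ inv eX := by
    apply hom_ext_isBlowUp hb
    · rw [hk, Scheme.IdealSheafData.comap_comp]; exact hb'.1
    · have h1 : inv eX ≫ b = projReesHom 𝓘 := by rw [IsIso.inv_comp_eq, heX']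
      rw [Category.assoc, Category.assoc, h1, hcomm, ← Category.assoc, heZ', hk]
  rw [key]
  infer_instance

theorem isClosedImmersion_morphismRestrict_of_resLE {X Y : Scheme.{u}} (k : X ⟶ Y) (V : Y.Opens)
    (W : X.Opens) (hW : W = k ⁻¹ᵁ V) (h : IsClosedImmersion (k.resLE V W hW.le)) :
    IsClosedImmersion (k ∣_ V) := by
  subst hW
  rwa [Scheme.Hom.resLE_eq_morphismRestrict] at h

/-- The blow-up of a closed subscheme `Z ⊆ X` in the inverse image ideal maps to the blow-up of `X` by a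
closed immersion (the strict transform), for an arbitrary scheme `X`. -/
theorem isClosedImmersion_strictTransform {X Z X' Z' : Scheme.{u}} (𝓘 : X.IdealSheafData)
    (i : Z ⟶ X) [IsClosedImmersion i] (b : X' ⟶ X) (hb : BlowUp.IsBlowUp b 𝓘)
    (b' : Z' ⟶ Z) (hb' : BlowUp.IsBlowUp b' (𝓘.comap i)) (k : Z' ⟶ X') (hk : k ≫ b = b' ≫ i) :
    IsClosedImmersion k := by
  refine IsZariskiLocalAtTarget.of_iSup_eq_top (P := @IsClosedImmersion)
    (fun U : X.affineOpens => b ⁻¹ᵁ U.1) ?_ ?_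
  · rw [← Scheme.Hom.preimage_iSup, iSup_affineOpens_eq_top, Scheme.Hom.preimage_top]
  · intro U
    have hWV : b' ⁻¹ᵁ (i ⁻¹ᵁ U.1) = k ⁻¹ᵁ (b ⁻¹ᵁ U.1) := by
      rw [← Scheme.Hom.comp_preimage, ← Scheme.Hom.comp_preimage, hk]
    have hT : IsAffine U.1 := U.2
    have h1 : BlowUp.IsBlowUp (b ∣_ U.1) (𝓘.comap U.1.ι) := isBlowUp_morphismRestrict hb U.1
    have h2 : BlowUp.IsBlowUp (b' ∣_ (i ⁻¹ᵁ U.1)) ((𝓘.comap i).comap (i ⁻¹ᵁ U.1).ι) :=
      isBlowUp_morphismRestrict hb' _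
    have h3 : (𝓘.comap i).comap (i ⁻¹ᵁ U.1).ι = (𝓘.comap U.1.ι).comap (i ∣_ U.1) := by
      rw [← Scheme.IdealSheafData.comap_comp, ← Scheme.IdealSheafData.comap_comp,
        morphismRestrict_ι]
    rw [h3] at h2
    have hcl : IsClosedImmersion (i ∣_ U.1) := inferInstance
    refine isClosedImmersion_morphismRestrict_of_resLE k (b ⁻¹ᵁ U.1) (b' ⁻¹ᵁ (i ⁻¹ᵁ U.1)) hWV ?_
    refine isClosedImmersion_of_isAffine (𝓘.comap U.1.ι) (i ∣_ U.1) (b ∣_ U.1) h1
      (b' ∣_ (i ⁻¹ᵁ U.1)) h2 _ ?_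
    rw [← cancel_mono U.1.ι, Category.assoc, Category.assoc, morphismRestrict_ι,
      Scheme.Hom.resLE_comp_ι_assoc, morphismRestrict_ι, morphismRestrict_ι_assoc, hk]

end Groth.Agent.R2.H86.StrictTransform
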