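import Mathlib
import Groth.Prelude.Def_BlowUp2
import Groth.Prelude.Def_Rees
import Groth.Prelude.Def_CurvBase
import Groth.Agent.R2.H92BlowExists
import Groth.Agent.R2.H86ReesCover
import Groth.Agent.R2.H86BlowChartsGen

/-!
# A blow-up of `Spec A` in an ideal with two generators is covered by two affine opens (helper78, S1623)
-/

set_option autoImplicit false
universe u

open CategoryTheory CategoryTheory.Limits AlgebraicGeometry HomogeneousLocalization

namespace Groth.Agent.R2.H78.BlowTwo

open Groth.Agent.R2.H92.BlowExists Groth.Agent.R2.H92.BlowAffB Groth.Agent.R2.H92.BlowAffC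
  Groth.Agent.R2.H86.ReesChart Groth.Agent.R2.H86.BlowChartsGen

/-- a blow-up of `Spec A` in `I = (x, y)` is separated and covered by two affine opens. -/
theorem exists_two_affine_cover (A : Type u) [CommRing A] (I : Ideal A) (x y : A)
    (hI : I = Ideal.span {x, y}) {X' : Scheme.{u}} (b : X' ⟶ Spec (CommRingCat.of A))
    (hb : BlowUp.IsBlowUp b (Curv2.idealSheaf A I)) :
    X'.IsSeparated ∧ ∃ U : Fin 2 → X'.Opens, (∀ i, IsAffineOpen (U i)) ∧ ⨆ i, U i = ⊤ := by
  let T : Scheme.{u} := Spec (CommRingCat.of A)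
  let ι : A →+* Γ(T, ⊤) := (Scheme.ΓSpecIso (CommRingCat.of A)).inv.hom
  let J : T.IdealSheafData := Scheme.IdealSheafData.ofIdealTop (I.map ι)
  have hbJ : BlowUp.IsBlowUp b J := hb
  have htop : topIdeal J = I.map ι := Scheme.IdealSheafData.equivOfIsAffine.right_inv (I.map ι)
  have hP : BlowUp.IsBlowUp (projReesHom J) J := isBlowUp_projRees J
  obtain ⟨k, hk, -⟩ := hP.2 X' b hbJ.1
  have hkiso : IsIso k := Groth.Agent.R2.H92.BlowGlue.isIso_of_isBlowUp hbJ hP k hk
  have hxI : ι x ∈ topIdeal J := by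
    rw [htop]; exact Ideal.mem_map_of_mem _ (hI ▸ Ideal.subset_span (by simp))
  have hyI : ι y ∈ topIdeal J := by
    rw [htop]; exact Ideal.mem_map_of_mem _ (hI ▸ Ideal.subset_span (by simp))
  let G' : Set Γ(T, ⊤) := {ι x, ι y}
  have hG' : ∀ a ∈ G', a ∈ topIdeal J := by
    rintro a (rfl | rfl)
    · exact hxI
    · exact hyI
  have hspan' : topIdeal J ≤ Ideal.span G' := by
    rw [htop, hI, Ideal.map_span]
    apply Ideal.span_mono
    rintro _ ⟨a, (rfl | rfl), rfl⟩
    · exact Or.inl rfl
    · exact Or.inr rfl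
  have hcov := iSup_basicOpen_aX_gen_eq_top (topIdeal J) G' hG' hspan'
  refine ⟨?_, ?_⟩
  · -- separatedness
    have h1 : IsSeparated (terminal.from (projRees J)) :=
      (inferInstance : (projRees J).IsSeparated).isSeparated_terminal_from
    have h2 : terminal.from X' = k ≫ terminal.from (projRees J) := terminal.hom_ext _ _
    exact ⟨by rw [h2]; infer_instance⟩
  · let D : Γ(T, ⊤) → topIdeal J → (projRees J).Opens := fun _ a =>
      Proj.basicOpen (Rees.deg (reesAlgebra (topIdeal J))) (aX (topIdeal J) a.1 a.2)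
    refine ⟨![k ⁻¹ᵁ Proj.basicOpen (Rees.deg (reesAlgebra (topIdeal J))) (aX (topIdeal J) (ι x) hxI),
      k ⁻¹ᵁ Proj.basicOpen (Rees.deg (reesAlgebra (topIdeal J))) (aX (topIdeal J) (ι y) hyI)],
      ?_, ?_⟩
    · intro i
      fin_cases i
      · exact (Proj.isAffineOpen_basicOpen _ _ (aX_mem_deg (topIdeal J) (ι x) hxI)
          one_pos).preimage_of_isIso k
      · exact (Proj.isAffineOpen_basicOpen _ _ (aX_mem_deg (topIdeal J) (ι y) hyI)
          one_pos).preimage_of_isIso k
    · rw [eq_top_iff]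
      intro p _
      have hp : k p ∈ (⨆ a : G', Proj.basicOpen (Rees.deg (reesAlgebra (topIdeal J)))
          (aX (topIdeal J) a.1 (hG' a.1 a.2))) := by rw [hcov]; trivial
      obtain ⟨⟨a, ha⟩, hpa⟩ := TopologicalSpace.Opens.mem_iSup.mp hp
      rcases ha with rfl | rfl
      · exact TopologicalSpace.Opens.mem_iSup.mpr ⟨0, hpa⟩
      · exact TopologicalSpace.Opens.mem_iSup.mpr ⟨1, hpa⟩

/-- the maximal ideal of a two-dimensional regular local ring is generated by two elements. -/
theorem exists_span_pair_of_regular (A : Type u) [CommRing A] [IsRegularLocalRing A]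
    (hA : ringKrullDim A = 2) :
    ∃ x y : A, IsLocalRing.maximalIdeal A = Ideal.span {x, y} := by
  have hfg : (IsLocalRing.maximalIdeal A).FG := (IsLocalRing.maximalIdeal A).fg_of_isNoetherianRing
  have h1 : ((IsLocalRing.maximalIdeal A).spanFinrank : WithBot ℕ∞) = 2 := by
    rw [IsRegularLocalRing.spanFinrank_maximalIdeal, hA]
  have h2 : (IsLocalRing.maximalIdeal A).spanFinrank = 2 := by exact_mod_cast h1
  have h3 : (Submodule.generators (IsLocalRing.maximalIdeal A)).ncard = 2 := by
    rw [Submodule.FG.generators_ncard hfg, h2]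
  obtain ⟨x, y, -, hxy⟩ := Set.ncard_eq_two.mp h3
  refine ⟨x, y, ?_⟩
  rw [← hxy]
  exact (Submodule.span_generators (IsLocalRing.maximalIdeal A)).symm

end Groth.Agent.R2.H78.BlowTwo
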