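import Mathlib
import Groth.Prelude.Def_LocCohZ
import Groth.Agent.Lib.Helper23AffOpen3

/-!
# `H¹` of a quasi-coherent module on a scheme covered by two affine opens (helper78, S1624)

`subsingleton_HH_one_of_two_affines`: if `X = U₁ ∪ U₂` with `U₁`, `U₂` affine and every section of the quasi-coherent
module `M` over `U₁ ∩ U₂` is a difference of restrictions of sections over `U₁` and `U₂`, then `H¹(X, M) = 0`.
-/

set_option autoImplicit false
universe u
open CategoryTheory CategoryTheory.Limits Opposite TopologicalSpace AlgebraicGeometry Abelian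

namespace Groth.Agent.R2.H78.MVTwo

open Groth.Agent.Lib.Helper23.AffVanish Groth.Agent.Lib.Helper6

variable {X : Scheme.{u}}

theorem subsingleton_HH_one_of_two_affines (U₁ U₂ : X.Opens) (h₁ : IsAffineOpen U₁)
    (h₂ : IsAffineOpen U₂) (hcov : U₁ ⊔ U₂ = ⊤) (M : X.Modules) [M.IsQuasicoherent]
    (hs : ∀ s : Γ(M, U₁ ⊓ U₂), ∃ (s₁ : Γ(M, U₁)) (s₂ : Γ(M, U₂)),
      s = res M inf_le_left s₁ - res M inf_le_right s₂) :
    Subsingleton (Coh.HH X M 1) := by
  have h1 : Subsingleton (HE (ab' M) (0 + 1) U₁) := subsingleton_HE_of_isAffineOpen h₁ M 0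
  have h2 : Subsingleton (HE (ab' M) (0 + 1) U₂) := subsingleton_HE_of_isAffineOpen h₂ M 0
  have key : ∀ α : HE (ab' M) (0 + 1) (⊤ : X.Opens), α = 0 := by
    intro α
    refine eq_zero_of_mv (ab' M) 0 U₁ U₂ ⊤ le_top le_top hcov.ge α
      (Subsingleton.elim _ _) (Subsingleton.elim _ _) ?_
    intro γ
    obtain ⟨s₁, s₂, h⟩ := hs (h0F' M _ γ)
    refine ⟨(h0F' M U₁).symm s₁, (h0F' M U₂).symm s₂, ?_⟩
    apply (h0F' M _).injective
    rw [map_sub, h0F'_res, h0F'_res, AddEquiv.apply_symm_apply, AddEquiv.apply_symm_apply]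
    exact h
  have : Subsingleton (HE (ab' M) 1 (⊤ : X.Opens)) := ⟨fun a b => (key a).trans (key b).symm⟩
  exact (HETopEquivH X.carrier (ab' M) 1).symm.subsingleton

end Groth.Agent.R2.H78.MVTwo
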