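import Mathlib
import Groth.Prelude.Def_Rees
import Groth.Agent.R2.H86ReesChart

/-!
# The Čech `H¹` computation for the Rees algebra of a two-generated ideal (helper78, S1624)

For `I = (x, y)`, `f = xT`, `g = yT` in the Rees algebra `𝒜` of `I`: every element of `𝒜_{(fg)}` is a sum of an
element coming from `𝒜_{(f)}` and one coming from `𝒜_{(g)}`.
-/

set_option autoImplicit false
universe u

open Polynomial HomogeneousLocalization

namespace Groth.Agent.R2.H78.ReesTwo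

open Groth.Agent.R2.H86.ReesChart

variable {A : Type u} [CommRing A]

/-- `(P + Q)^{2n} ⊆ Pⁿ (P + Q)ⁿ + Qⁿ (P + Q)ⁿ`. -/
theorem pow_add_self_le' (P Q : Ideal A) (n : ℕ) :
    (P + Q) ^ (n + n) ≤ P ^ n * (P + Q) ^ n ⊔ Q ^ n * (P + Q) ^ n := by
  have hxI : P ≤ P + Q := le_sup_left
  have hyI : Q ≤ P + Q := le_sup_right
  rw [add_pow, Ideal.sum_eq_sup]
  apply Finset.sup_le
  intro i hi
  have hi' : i ≤ n + n := by
    have := Finset.mem_range.mp hi
    omega
  refine Ideal.mul_le_left.trans ?_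
  by_cases hn : n ≤ i
  · refine le_trans ?_ le_sup_left
    obtain ⟨e, rfl⟩ := Nat.exists_eq_add_of_le hn
    rw [pow_add, mul_assoc]
    refine Ideal.mul_mono_right ?_
    have h2 : e + (n + n - (n + e)) = n := by omega
    calc P ^ e * Q ^ (n + n - (n + e))
        ≤ (P + Q) ^ e * (P + Q) ^ (n + n - (n + e)) :=
          Ideal.mul_mono (Ideal.pow_right_mono hxI e) (Ideal.pow_right_mono hyI _)
      _ = (P + Q) ^ n := by rw [← pow_add, h2]
  · refine le_trans ?_ le_sup_right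
    have hn' : n ≤ n + n - i := by omega
    obtain ⟨e, he⟩ := Nat.exists_eq_add_of_le hn'
    rw [he, pow_add, mul_left_comm]
    refine Ideal.mul_mono_right ?_
    have h2 : i + e = n := by omega
    calc P ^ i * Q ^ e
        ≤ (P + Q) ^ i * (P + Q) ^ e :=
          Ideal.mul_mono (Ideal.pow_right_mono hxI i) (Ideal.pow_right_mono hyI e)
      _ = (P + Q) ^ n := by rw [← pow_add, h2]

/-- `(x, y)^{2n} ⊆ xⁿ (x, y)ⁿ + yⁿ (x, y)ⁿ`. -/
theorem pow_add_self_le (x y : A) (n : ℕ) :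
    (Ideal.span {x} ⊔ Ideal.span {y}) ^ (n + n) ≤
      Ideal.span {x ^ n} * (Ideal.span {x} ⊔ Ideal.span {y}) ^ n ⊔
        Ideal.span {y ^ n} * (Ideal.span {x} ⊔ Ideal.span {y}) ^ n := by
  have h := pow_add_self_le' (Ideal.span {x}) (Ideal.span {y}) n
  rw [Ideal.span_singleton_pow, Ideal.span_singleton_pow] at h
  exact h

/-- elementwise form -/
theorem exists_decomp (I : Ideal A) (x y : A) (hI : I = Ideal.span {x, y}) (n : ℕ) (c : A)
    (hc : c ∈ I ^ (n + n)) : ∃ c₁ ∈ I ^ n, ∃ c₂ ∈ I ^ n, c = x ^ n * c₁ + y ^ n * c₂ := by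
  have hI' : I = Ideal.span {x} ⊔ Ideal.span {y} := by
    rw [hI, Ideal.span_insert]
  rw [hI'] at hc ⊢
  have h := pow_add_self_le x y n hc
  obtain ⟨a, ha, b, hb, rfl⟩ := Submodule.mem_sup.mp h
  obtain ⟨c₁, hc₁, rfl⟩ := Ideal.mem_span_singleton_mul.mp ha
  obtain ⟨c₂, hc₂, rfl⟩ := Ideal.mem_span_singleton_mul.mp hb
  exact ⟨c₁, hc₁, c₂, hc₂, rfl⟩

variable (I : Ideal A) (x y : A) (hx : x ∈ I) (hy : y ∈ I)

theorem mon_eq (n : ℕ) (c₁ c₂ : A) (hc₁ : c₁ ∈ I ^ n) (hc₂ : c₂ ∈ I ^ n) (c : A) (m : ℕ) (hm : m = n + n)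
    (hc : c ∈ I ^ m) (h : c = x ^ n * c₁ + y ^ n * c₂) :
    mon I m c hc = mon I n c₂ hc₂ * aX I y hy ^ n + mon I n c₁ hc₁ * aX I x hx ^ n := by
  subst hm
  apply Subtype.ext
  have e : n + 1 * n = n + n := by omega
  rw [Subalgebra.coe_add, Subalgebra.coe_mul, Subalgebra.coe_mul, Subalgebra.coe_pow,
    Subalgebra.coe_pow, coe_mon, coe_mon, coe_mon, coe_aX, coe_aX, monomial_pow, monomial_pow,
    monomial_mul_monomial, monomial_mul_monomial, e, ← map_add, h]
  congr 1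
  ring

/-- Čech surjectivity for the two charts of the Rees algebra of `I = (x, y)`. -/
theorem away_mul_decomp (hI : I = Ideal.span {x, y})
    (z : Away (Rees.deg (reesAlgebra I)) (aX I x hx * aX I y hy)) :
    ∃ (z₁ : Away (Rees.deg (reesAlgebra I)) (aX I x hx))
      (z₂ : Away (Rees.deg (reesAlgebra I)) (aX I y hy)),
      z = awayMap (Rees.deg (reesAlgebra I)) (aX_mem_deg I y hy) rfl z₁ +
        awayMap (Rees.deg (reesAlgebra I)) (aX_mem_deg I x hx) (mul_comm _ _) z₂ := by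
  have hfg : aX I x hx * aX I y hy ∈ Rees.deg (reesAlgebra I) (1 + 1) :=
    SetLike.mul_mem_graded (aX_mem_deg I x hx) (aX_mem_deg I y hy)
  obtain ⟨n, s, hs, rfl⟩ := Away.mk_surjective (Rees.deg (reesAlgebra I)) hfg z
  obtain ⟨c, hc, rfl⟩ := exists_eq_mon_of_mem_deg I (n • (1 + 1)) s hs
  have hm : n • (1 + 1) = n + n := by rw [smul_eq_mul]; omega
  have hc' : c ∈ I ^ (n + n) := hm ▸ hc
  obtain ⟨c₁, hc₁, c₂, hc₂, h⟩ := exists_decomp I x y hI n c hc'
  refine ⟨frac I x hx n c₂ hc₂, frac I y hy n c₁ hc₁, ?_⟩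
  apply HomogeneousLocalization.val_injective
  rw [HomogeneousLocalization.val_add, frac, frac, awayMap_mk, awayMap_mk, Away.val_mk, Away.val_mk,
    Away.val_mk, Localization.add_mk_self]
  congr 1
  exact mon_eq I x y hx hy n c₁ c₂ hc₁ hc₂ c _ hm hc h

end Groth.Agent.R2.H78.ReesTwo
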