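import Mathlib
import Groth.Prelude.Def_BlowUp2
import Groth.Prelude.Def_Rees
import Groth.Prelude.Def_CurvBase
import Groth.Agent.R2.H78BlowTwo
import Groth.Agent.R2.H78ReesTwo
import Groth.Agent.R2.H78MVTwo
import Groth.Agent.Lib.Helper23Serre

/-!
# `H¹(X, O_X) = 0` for the blow-up of `Spec A` in a two-generated ideal (helper78, S1624)
-/

set_option autoImplicit false
universe u

open CategoryTheory CategoryTheory.Limits AlgebraicGeometry HomogeneousLocalization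

namespace Groth.Agent.R2.H78.BlowH1

open Groth.Agent.Lib.Helper6

section ProjPart

variable {σ : Type*} {A : Type u}
variable [CommRing A] [SetLike σ A] [AddSubgroupClass σ A]
variable (𝒜 : ℕ → σ)
variable [GradedRing 𝒜]

/-- Čech surjectivity on `Proj` from Čech surjectivity on homogeneous localizations. -/
theorem proj_sections_decomp {m m' : ℕ} {f g : A} (f_deg : f ∈ 𝒜 m) (g_deg : g ∈ 𝒜 m')
    (hm : 0 < m) (_hm' : 0 < m')
    (h : ∀ z : Away 𝒜 (f * g), ∃ (z₁ : Away 𝒜 f) (z₂ : Away 𝒜 g),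
      z = awayMap 𝒜 g_deg rfl z₁ + awayMap 𝒜 f_deg (mul_comm f g) z₂)
    (W : (Proj 𝒜).Opens) (hW : W = Proj.basicOpen 𝒜 (f * g))
    (h₁ : W ≤ Proj.basicOpen 𝒜 f) (h₂ : W ≤ Proj.basicOpen 𝒜 g) (s : Γ(Proj 𝒜, W)) :
    ∃ (s₁ : Γ(Proj 𝒜, Proj.basicOpen 𝒜 f)) (s₂ : Γ(Proj 𝒜, Proj.basicOpen 𝒜 g)),
      s = resf h₁ s₁ + resf h₂ s₂ := by
  subst hW
  have hiso : IsIso (Proj.awayToSection 𝒜 (f * g)) :=
    (Proj.basicOpenIsoAway 𝒜 (f * g) (SetLike.mul_mem_graded f_deg g_deg)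
      (Nat.add_pos_left hm m')).isIso_hom
  obtain ⟨z, rfl⟩ := (ConcreteCategory.bijective_of_isIso (Proj.awayToSection 𝒜 (f * g))).2 s
  obtain ⟨z₁, z₂, rfl⟩ := h z
  refine ⟨(Proj.awayToSection 𝒜 f).hom z₁, (Proj.awayToSection 𝒜 g).hom z₂, ?_⟩
  rw [map_add]
  congr 1
  · exact congr($(Proj.awayMap_awayToSection 𝒜 g_deg rfl) z₁)
  · exact congr($(Proj.awayMap_awayToSection 𝒜 f_deg (mul_comm f g)) z₂)

end ProjPart

section Transport

variable {X Y : Scheme.{u}} (k : X ⟶ Y) [IsIso k]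

/-- Čech surjectivity is transported along an isomorphism of schemes. -/
theorem sections_decomp_of_iso (D₁ D₂ : Y.Opens)
    (h : ∀ t : Γ(Y, D₁ ⊓ D₂), ∃ (t₁ : Γ(Y, D₁)) (t₂ : Γ(Y, D₂)),
      t = resf inf_le_left t₁ + resf inf_le_right t₂)
    (s : Γ(X, k ⁻¹ᵁ D₁ ⊓ k ⁻¹ᵁ D₂)) :
    ∃ (s₁ : Γ(X, k ⁻¹ᵁ D₁)) (s₂ : Γ(X, k ⁻¹ᵁ D₂)),
      s = resf inf_le_left s₁ + resf inf_le_right s₂ := by
  obtain ⟨t, rfl⟩ : ∃ t, (k.app (D₁ ⊓ D₂)).hom t = s :=
    (ConcreteCategory.bijective_of_isIso (k.app (D₁ ⊓ D₂))).2 s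
  obtain ⟨t₁, t₂, rfl⟩ := h t
  refine ⟨(k.app D₁).hom t₁, (k.app D₂).hom t₂, ?_⟩
  rw [map_add]
  congr 1
  · exact congr($(k.naturality (homOfLE (inf_le_left : D₁ ⊓ D₂ ≤ D₁)).op) t₁)
  · exact congr($(k.naturality (homOfLE (inf_le_right : D₁ ⊓ D₂ ≤ D₂)).op) t₂)

end Transport

open Groth.Agent.R2.H92.BlowExists Groth.Agent.R2.H92.BlowAffB Groth.Agent.R2.H92.BlowAffC
  Groth.Agent.R2.H86.ReesChart Groth.Agent.R2.H86.BlowChartsGen

/-- `H¹(X, O_X) = 0` for a blow-up `X` of `Spec A` in an ideal generated by two elements. -/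
theorem subsingleton_HH_one_structureModule (A : Type u) [CommRing A] (I : Ideal A) (x y : A)
    (hI : I = Ideal.span {x, y}) {X' : Scheme.{u}} (b : X' ⟶ Spec (CommRingCat.of A))
    (hb : BlowUp.IsBlowUp b (Curv2.idealSheaf A I)) :
    Subsingleton (Coh.HH X' (Coh.structureModule X') 1) := by
  let T : Scheme.{u} := Spec (CommRingCat.of A)
  let ι : A →+* Γ(T, ⊤) := (Scheme.ΓSpecIso (CommRingCat.of A)).inv.hom
  let J : T.IdealSheafData := Scheme.IdealSheafData.ofIdealTop (I.map ι)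
  have hbJ : BlowUp.IsBlowUp b J := hb
  have htop : topIdeal J = I.map ι := Scheme.IdealSheafData.equivOfIsAffine.right_inv (I.map ι)
  have hP : BlowUp.IsBlowUp (projReesHom J) J := isBlowUp_projRees J
  obtain ⟨k, hk, -⟩ := hP.2 X' b hbJ.1
  have hkiso : IsIso k := Groth.Agent.R2.H92.BlowGlue.isIso_of_isBlowUp hbJ hP k hk
  have hspan : topIdeal J = Ideal.span {ι x, ι y} := by
    rw [htop, hI, Ideal.map_span, Set.image_pair]
  have hxI : ι x ∈ topIdeal J := by rw [hspan]; exact Ideal.subset_span (by simp)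
  have hyI : ι y ∈ topIdeal J := by rw [hspan]; exact Ideal.subset_span (by simp)
  have f_deg : aX (topIdeal J) (ι x) hxI ∈ Rees.deg (reesAlgebra (topIdeal J)) 1 := aX_mem_deg _ _ _
  have g_deg : aX (topIdeal J) (ι y) hyI ∈ Rees.deg (reesAlgebra (topIdeal J)) 1 := aX_mem_deg _ _ _
  let D₁ : (projRees J).Opens :=
    Proj.basicOpen (Rees.deg (reesAlgebra (topIdeal J))) (aX (topIdeal J) (ι x) hxI)
  let D₂ : (projRees J).Opens :=
    Proj.basicOpen (Rees.deg (reesAlgebra (topIdeal J))) (aX (topIdeal J) (ι y) hyI)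
  have hcovP : D₁ ⊔ D₂ = ⊤ := by
    let G' : Set Γ(T, ⊤) := {ι x, ι y}
    have hG' : ∀ a ∈ G', a ∈ topIdeal J := by
      rintro a (rfl | rfl)
      · exact hxI
      · exact hyI
    have hcov0 := iSup_basicOpen_aX_gen_eq_top (topIdeal J) G' hG' hspan.le
    rw [eq_top_iff]
    intro p _
    have hp : p ∈ (⨆ a : G', Proj.basicOpen (Rees.deg (reesAlgebra (topIdeal J)))
        (aX (topIdeal J) a.1 (hG' a.1 a.2))) := by rw [hcov0]; trivial
    obtain ⟨⟨a, ha⟩, hpa⟩ := TopologicalSpace.Opens.mem_iSup.mp hp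
    rcases ha with rfl | rfl
    · exact Or.inl hpa
    · exact Or.inr hpa
  have hdec := proj_sections_decomp (Rees.deg (reesAlgebra (topIdeal J))) f_deg g_deg one_pos one_pos
    (Groth.Agent.R2.H78.ReesTwo.away_mul_decomp (topIdeal J) (ι x) (ι y) hxI hyI hspan)
    (D₁ ⊓ D₂) (Proj.basicOpen_mul _ _ _).symm inf_le_left inf_le_right
  have hdecX := sections_decomp_of_iso k D₁ D₂ hdec
  have aff₁ : IsAffineOpen (k ⁻¹ᵁ D₁) :=
    (Proj.isAffineOpen_basicOpen _ _ f_deg one_pos).preimage_of_isIso k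
  have aff₂ : IsAffineOpen (k ⁻¹ᵁ D₂) :=
    (Proj.isAffineOpen_basicOpen _ _ g_deg one_pos).preimage_of_isIso k
  have hcov : k ⁻¹ᵁ D₁ ⊔ k ⁻¹ᵁ D₂ = ⊤ := by
    rw [eq_top_iff]
    intro p _
    have hp : k p ∈ D₁ ⊔ D₂ := by rw [hcovP]; trivial
    rcases hp with hp | hp
    · exact Or.inl hp
    · exact Or.inr hp
  have hq : (Coh.structureModule X').IsQuasicoherent :=
    Groth.Agent.Lib.Helper23.Serre.isQuasicoherent_structureModule' X'
  refine Groth.Agent.R2.H78.MVTwo.subsingleton_HH_one_of_two_affines (k ⁻¹ᵁ D₁) (k ⁻¹ᵁ D₂)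
    aff₁ aff₂ hcov (Coh.structureModule X') ?_
  intro s
  obtain ⟨s₁, s₂, h⟩ := hdecX s
  refine ⟨s₁, -s₂, ?_⟩
  have h2 : res (Coh.structureModule X') (inf_le_right : k ⁻¹ᵁ D₁ ⊓ k ⁻¹ᵁ D₂ ≤ k ⁻¹ᵁ D₂) (-s₂) =
      - res (Coh.structureModule X') (inf_le_right : k ⁻¹ᵁ D₁ ⊓ k ⁻¹ᵁ D₂ ≤ k ⁻¹ᵁ D₂) s₂ :=
    map_neg _ _
  rw [h2, sub_neg_eq_add]
  exact h

end Groth.Agent.R2.H78.BlowH1
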