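import Mathlib
import Groth.Agent.Lib.Helper5RLR
import Groth.Agent.Lib.Helper5RLR2

/-!
# Regularity of `P/(f)` at primes (helper78, S1622): two local criteria

* `isRegularLocalRing_quot_of_derivation`: `P` a regular ring, `Q ∋ f` a prime, `D` a derivation with `D f ∉ Q`:
  `P_Q/(f)` is regular.
* `isRegularLocalRing_localization_of_quotient`: `R` a domain, `q` a prime, `ξ ∈ q` nonzero with `R/(ξ)` a regular
  ring: `R_q` is regular.
-/

set_option autoImplicit false
universe u

namespace Groth.Agent.R2.H78.BlowReg

open IsLocalRing Groth.Agent.Lib.Helper5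

section Deriv

variable {P : Type u} [CommRing P]

theorem isRegularLocalRing_quot_of_derivation [IsRegularRing P] (f : P) (Q : Ideal P) [hQ : Q.IsPrime]
    (hf : f ∈ Q) (D : Derivation ℤ P P) (hD : D f ∉ Q) :
    IsRegularLocalRing (Localization.AtPrime Q ⧸
      (Ideal.span ({f} : Set P)).map (algebraMap P (Localization.AtPrime Q))) := by
  rw [Ideal.map_span, Set.image_singleton]
  have hmax := IsLocalization.AtPrime.map_eq_maximalIdeal Q (Localization.AtPrime Q)
  have hfm : algebraMap P (Localization.AtPrime Q) f ∈ IsLocalRing.maximalIdeal _ := by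
    rw [← hmax]
    exact Ideal.mem_map_of_mem _ hf
  have hloc : IsLocalRing (Localization.AtPrime Q ⧸
      Ideal.span {algebraMap P (Localization.AtPrime Q) f}) := by
    apply isLocalRing_quotient
    intro htop
    rw [Ideal.span_singleton_eq_top] at htop
    exact (IsLocalRing.mem_maximalIdeal _).mp hfm htop
  refine (isRegularLocalRing_quotient_span_singleton hfm ?_).1
  rw [← hmax, ← Ideal.map_pow]
  intro hmem
  rw [IsLocalization.algebraMap_mem_map_algebraMap_iff Q.primeCompl] at hmem
  obtain ⟨s, hs, hsf⟩ := hmem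
  have h1 := derivation_mem_of_mem_sq D _ hsf
  rw [Derivation.leibniz, smul_eq_mul, smul_eq_mul] at h1
  have h2 : f * D s ∈ Q := Ideal.mul_mem_right _ _ hf
  have h3 : s * D f ∈ Q := (Ideal.add_mem_iff_left _ h2).mp h1
  rcases hQ.mem_or_mem h3 with h4 | h4
  · exact hs h4
  · exact hD h4

end Deriv

section Lift

variable {R : Type u} [CommRing R]

/-- regularity of the localization of `R ⧸ I` at `qb` gives regularity of `R_p ⧸ I R_p`, `p` the
preimage of `qb` (copy of helper19's lemma, to keep imports light) -/
theorem isRegularLocalRing_quotient_localization (I : Ideal R)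
    (p : Ideal R) [p.IsPrime] (qb : Ideal (R ⧸ I)) [qb.IsPrime]
    (h : qb.comap (Ideal.Quotient.mk I) = p) (hreg : IsRegularLocalRing (Localization.AtPrime qb)) :
    IsRegularLocalRing (Localization.AtPrime p ⧸ I.map (algebraMap R (Localization.AtPrime p))) := by
  subst h
  have hM : Algebra.algebraMapSubmonoid (R ⧸ I) (qb.comap (Ideal.Quotient.mk I)).primeCompl =
      qb.primeCompl := by
    ext y
    constructor
    · rintro ⟨x, hx, rfl⟩
      exact hx
    · intro hy
      obtain ⟨x, rfl⟩ := Ideal.Quotient.mk_surjective y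
      exact ⟨x, hy, rfl⟩
  have hloc : IsLocalization (Algebra.algebraMapSubmonoid (R ⧸ I)
      (qb.comap (Ideal.Quotient.mk I)).primeCompl)
      (Localization.AtPrime (qb.comap (Ideal.Quotient.mk I)) ⧸
        I.map (algebraMap R (Localization.AtPrime (qb.comap (Ideal.Quotient.mk I))))) :=
    inferInstance
  rw [hM] at hloc
  exact IsRegularLocalRing.of_ringEquiv
    (IsLocalization.algEquiv qb.primeCompl (Localization.AtPrime qb)
      (Localization.AtPrime (qb.comap (Ideal.Quotient.mk I)) ⧸
        I.map (algebraMap R (Localization.AtPrime (qb.comap (Ideal.Quotient.mk I)))))).toRingEquiv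

/-- `R` a Noetherian domain, `q` a prime containing `ξ ≠ 0`, `R ⧸ (ξ)` a regular ring: then `R_q` is regular. -/
theorem isRegularLocalRing_localization_of_quotient [IsDomain R] [IsNoetherianRing R] (ξ : R) (hξ : ξ ≠ 0)
    [hreg : IsRegularRing (R ⧸ Ideal.span ({ξ} : Set R))] (q : Ideal R) [hq : q.IsPrime] (hξq : ξ ∈ q) :
    IsRegularLocalRing (Localization.AtPrime q) := by
  have hle : Ideal.span ({ξ} : Set R) ≤ q := (Ideal.span_singleton_le_iff_mem q).mpr hξq
  -- the prime of the quotient
  have hqb : (q.map (Ideal.Quotient.mk (Ideal.span ({ξ} : Set R)))).IsPrime :=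
    Ideal.map_isPrime_of_surjective Ideal.Quotient.mk_surjective (by rwa [Ideal.mk_ker])
  have hcomap : (q.map (Ideal.Quotient.mk (Ideal.span ({ξ} : Set R)))).comap
      (Ideal.Quotient.mk (Ideal.span ({ξ} : Set R))) = q := by
    rw [Ideal.comap_map_of_surjective _ Ideal.Quotient.mk_surjective, ← RingHom.ker_eq_comap_bot,
      Ideal.mk_ker, sup_eq_left]
    exact hle
  have h1 := isRegularLocalRing_quotient_localization (Ideal.span ({ξ} : Set R)) q
    (q.map (Ideal.Quotient.mk (Ideal.span ({ξ} : Set R)))) hcomap
    (IsRegularRing.isRegularLocalRing_localization _)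
  rw [Ideal.map_span, Set.image_singleton] at h1
  have hmax := IsLocalization.AtPrime.map_eq_maximalIdeal q (Localization.AtPrime q)
  have hξm : algebraMap R (Localization.AtPrime q) ξ ∈ IsLocalRing.maximalIdeal _ := by
    rw [← hmax]
    exact Ideal.mem_map_of_mem _ hξq
  have hinj : Function.Injective (algebraMap R (Localization.AtPrime q)) :=
    IsLocalization.injective _ q.primeCompl_le_nonZeroDivisors
  have hξ0 : algebraMap R (Localization.AtPrime q) ξ ≠ 0 := by
    intro h0
    exact hξ (hinj (h0.trans (map_zero _).symm))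
  have hnzd : algebraMap R (Localization.AtPrime q) ξ ∈ nonZeroDivisors (Localization.AtPrime q) :=
    mem_nonZeroDivisors_of_ne_zero hξ0
  exact (isRegularLocalRing_of_quotient_span_singleton hξm hnzd).1

end Lift

end Groth.Agent.R2.H78.BlowReg
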