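import Mathlib
import Groth.Prelude.Def_BlowUp2
import Groth.Agent.Lib.Helper5RLR
import Groth.Agent.Lib.Helper5RLR2
import Groth.Agent.Lib.Helper28RegLoc
import Groth.Agent.S0615
import Groth.Agent.R2.H78BlowRegA

/-!
# The affine blow-up algebra `A[m/x]` of a two-dimensional regular local ring is a regular domain (helper78, S1622)
-/

set_option autoImplicit false
universe u

namespace Groth.Agent.R2.H78.BlowReg

open IsLocalRing MvPolynomial

section Quot

variable (A : Type u) [CommRing A] [IsRegularLocalRing A] (x y : A)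

/-- the equation `x T - y` of the chart -/
noncomputable def eqn : MvPolynomial (Fin 1) A := C x * X 0 - C y

theorem span_eqn_sup (hm : maximalIdeal A = Ideal.span {x, y}) :
    Ideal.span ({eqn A x y} : Set (MvPolynomial (Fin 1) A)) ⊔ Ideal.span {C x} =
      Ideal.map (C : A →+* MvPolynomial (Fin 1) A) (maximalIdeal A) := by
  rw [hm, Ideal.map_span, Set.image_pair]
  apply le_antisymm
  · refine sup_le ?_ ?_
    · rw [Ideal.span_singleton_le_iff_mem]
      exact Ideal.sub_mem _ (Ideal.mul_mem_right _ _ (Ideal.subset_span (by simp)))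
        (Ideal.subset_span (by simp))
    · rw [Ideal.span_singleton_le_iff_mem]
      exact Ideal.subset_span (by simp)
  · rw [Ideal.span_le]
    rintro _ (rfl | rfl)
    · exact Ideal.mem_sup_right (Ideal.mem_span_singleton_self _)
    · have h : (C y : MvPolynomial (Fin 1) A) = C x * X 0 - eqn A x y := by
        unfold eqn; ring
      rw [SetLike.mem_coe, h]
      exact Ideal.sub_mem _
        (Ideal.mem_sup_right (Ideal.mul_mem_right _ _ (Ideal.mem_span_singleton_self _)))
        (Ideal.mem_sup_left (Ideal.mem_span_singleton_self _))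

/-- `(A[T]/(xT - y))/(x) ≅ κ[T]` is a regular ring. -/
theorem isRegularRing_quot_quot (hm : maximalIdeal A = Ideal.span {x, y}) :
    IsRegularRing ((MvPolynomial (Fin 1) A ⧸ Ideal.span ({eqn A x y} : Set (MvPolynomial (Fin 1) A))) ⧸
      Ideal.span ({Ideal.Quotient.mk (Ideal.span ({eqn A x y} : Set (MvPolynomial (Fin 1) A))) (C x)} :
        Set (MvPolynomial (Fin 1) A ⧸ Ideal.span ({eqn A x y} : Set (MvPolynomial (Fin 1) A))))) := by
  let _ : Field (A ⧸ maximalIdeal A) := Ideal.Quotient.field _
  have hfield : IsRegularRing (A ⧸ maximalIdeal A) := inferInstance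
  have h0 : IsRegularRing (MvPolynomial (Fin 1) (A ⧸ maximalIdeal A)) := inferInstance
  have e3 := (MvPolynomial.quotientEquivQuotientMvPolynomial (σ := Fin 1) (maximalIdeal A)).toRingEquiv
  have h3 : IsRegularRing (MvPolynomial (Fin 1) A ⧸
      Ideal.map (C : A →+* MvPolynomial (Fin 1) A) (maximalIdeal A)) := IsRegularRing.of_ringEquiv e3
  have h2 : IsRegularRing (MvPolynomial (Fin 1) A ⧸
      (Ideal.span ({eqn A x y} : Set (MvPolynomial (Fin 1) A)) ⊔ Ideal.span {C x})) :=
    IsRegularRing.of_ringEquiv (Ideal.quotEquivOfEq (span_eqn_sup A x y hm).symm)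
  have e1 := DoubleQuot.quotQuotEquivQuotSup (Ideal.span ({eqn A x y} : Set (MvPolynomial (Fin 1) A)))
    (Ideal.span {C x})
  have h1 := IsRegularRing.of_ringEquiv e1.symm
  rw [Ideal.map_span, Set.image_singleton] at h1
  exact h1

variable [IsDomain (MvPolynomial (Fin 1) A ⧸ Ideal.span ({eqn A x y} : Set (MvPolynomial (Fin 1) A)))]

/-- `A[T]/(xT - y)` is a regular ring. -/
theorem isRegularRing_quot (hm : maximalIdeal A = Ideal.span {x, y})
    (hx : Ideal.Quotient.mk (Ideal.span ({eqn A x y} : Set (MvPolynomial (Fin 1) A))) (C x) ≠ 0) :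
    IsRegularRing (MvPolynomial (Fin 1) A ⧸ Ideal.span ({eqn A x y} : Set (MvPolynomial (Fin 1) A))) := by
  have hA : IsRegularRing A := isRegularRing_iff.mpr fun p _ =>
    Groth.Agent.Lib.Helper28.isRegularLocalRing_localization_of_isRegularLocalRing A p
  have hP : IsRegularRing (MvPolynomial (Fin 1) A) := inferInstance
  rw [isRegularRing_iff]
  intro q hq
  by_cases hxq : Ideal.Quotient.mk (Ideal.span ({eqn A x y} : Set (MvPolynomial (Fin 1) A))) (C x) ∈ q
  · have := isRegularRing_quot_quot A x y hm
    exact isRegularLocalRing_localization_of_quotient _ hx q hxq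
  · apply Groth.Agent.Lib.Helper5.isRegularLocalRing_localization_quotient_of
    have hfQ : eqn A x y ∈ q.comap (Ideal.Quotient.mk (Ideal.span ({eqn A x y} : Set (MvPolynomial (Fin 1) A)))) := by
      rw [Ideal.mem_comap]
      have : Ideal.Quotient.mk (Ideal.span ({eqn A x y} : Set (MvPolynomial (Fin 1) A))) (eqn A x y) = 0 :=
        Ideal.Quotient.eq_zero_iff_mem.mpr (Ideal.mem_span_singleton_self _)
      rw [this]
      exact q.zero_mem
    let D : Derivation ℤ (MvPolynomial (Fin 1) A) (MvPolynomial (Fin 1) A) :=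
      (MvPolynomial.pderiv (0 : Fin 1)).restrictScalars ℤ
    have hD : D (eqn A x y) = C x := by
      change MvPolynomial.pderiv (0 : Fin 1) (eqn A x y) = C x
      unfold eqn
      simp
    refine isRegularLocalRing_quot_of_derivation (eqn A x y) _ hfQ D ?_
    intro hmem
    apply hxq
    have h5 : D (eqn A x y) ∈ Ideal.comap (Ideal.Quotient.mk
        (Ideal.span ({eqn A x y} : Set (MvPolynomial (Fin 1) A)))) q := hmem
    rw [hD] at h5
    exact h5

end Quot

end Groth.Agent.R2.H78.BlowReg
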