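import Mathlib
import Groth.Prelude.Def_BlowUp2
import Groth.Agent.Lib.Helper5RLR
import Groth.Agent.S0615
import Groth.Agent.R2.H78BlowRegB

/-!
# The affine blow-up algebra `A[m/x]` of a two-dimensional regular local ring is a regular ring (helper78, S1622)
-/

set_option autoImplicit false
universe u

namespace Groth.Agent.R2.H78.BlowReg

open IsLocalRing MvPolynomial

variable (A : Type u) [CommRing A] [IsRegularLocalRing A] (a : Fin 2 → A)

/-- the `A`-algebra map `A[T] → A_x`, `T ↦ y/x`, in the form of S0615 -/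
noncomputable def chartHom : MvPolynomial (Fin 1) A →ₐ[A] Localization.Away (a 0) :=
  MvPolynomial.aeval (R := A) (S₁ := Localization.Away (a 0))
    (fun i : Fin 1 => IsLocalization.mk' (Localization.Away (a 0)) (a i.succ)
      (⟨a 0, Submonoid.mem_powers (a 0)⟩ : Submonoid.powers (a 0)))

omit [IsRegularLocalRing A] [CommRing A] in
theorem range_eq_pair : Set.range a = {a 0, a 1} := by
  ext z
  constructor
  · rintro ⟨i, rfl⟩
    fin_cases i
    · exact Or.inl rfl
    · exact Or.inr rfl
  · rintro (rfl | rfl)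
    · exact ⟨0, rfl⟩
    · exact ⟨1, rfl⟩

theorem isRegular_ofFn (hA : ringKrullDim A = 2) (hm : maximalIdeal A = Ideal.span {a 0, a 1}) :
    RingTheory.Sequence.IsRegular A (List.ofFn a) := by
  refine Groth.Agent.Lib.Helper5.isRegular_ofFn_of_span_eq_maximalIdeal (d := 2) ?_ a ?_
  · rw [hA]; rfl
  · rw [range_eq_pair, hm]

theorem ne_zero_of (hA : ringKrullDim A = 2) (hm : maximalIdeal A = Ideal.span {a 0, a 1}) : a 0 ≠ 0 := by
  have h := (isRegular_ofFn A a hA hm).toIsWeaklyRegular
  rw [List.ofFn_succ, RingTheory.Sequence.isWeaklyRegular_cons_iff] at h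
  intro h0
  have h1 := h.1
  rw [h0] at h1
  have h2 : (0 : A) • (1 : A) = (0 : A) • (0 : A) := by simp
  exact one_ne_zero (h1 h2)

theorem ker_chartHom (hA : ringKrullDim A = 2) (hm : maximalIdeal A = Ideal.span {a 0, a 1}) :
    RingHom.ker (chartHom A a) = Ideal.span {eqn A (a 0) (a 1)} := by
  have h := Groth.Agent.S0615.result a (isRegular_ofFn A a hA hm).toIsWeaklyRegular
  rw [Set.range_unique] at h
  exact h

theorem range_chartHom (hm : maximalIdeal A = Ideal.span {a 0, a 1}) :
    (chartHom A a).range = BlowUp.affineAlgebra A (maximalIdeal A) (a 0) := by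
  unfold chartHom BlowUp.affineAlgebra
  rw [← Algebra.adjoin_range_eq_range_aeval]
  apply le_antisymm
  · apply Algebra.adjoin_mono
    rintro _ ⟨i, rfl⟩
    refine ⟨a i.succ, ?_, rfl⟩
    rw [hm]
    refine Ideal.subset_span ?_
    fin_cases i
    exact Or.inr rfl
  · apply Algebra.adjoin_le
    rintro _ ⟨z, hz, rfl⟩
    rw [hm, Ideal.mem_span_pair] at hz
    obtain ⟨r, s, rfl⟩ := hz
    have h : IsLocalization.mk' (Localization.Away (a 0)) (r * a 0 + s * a 1)
        (⟨a 0, Submonoid.mem_powers (a 0)⟩ : Submonoid.powers (a 0)) =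
        algebraMap A (Localization.Away (a 0)) r + s • IsLocalization.mk' (Localization.Away (a 0)) (a 1)
          (⟨a 0, Submonoid.mem_powers (a 0)⟩ : Submonoid.powers (a 0)) := by
      rw [IsLocalization.mk'_eq_iff_eq_mul, add_mul, Algebra.smul_def, mul_assoc,
        IsLocalization.mk'_spec, map_add, map_mul, map_mul]
    rw [SetLike.mem_coe, h]
    exact Subalgebra.add_mem _ (Subalgebra.algebraMap_mem _ r)
      (Subalgebra.smul_mem _ (Algebra.subset_adjoin (Set.mem_range_self (0 : Fin 1))) s)

/-- The affine blow-up algebra `A[m/x]` of a two-dimensional regular local ring with `m = (x, y)` is a regular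
domain. -/
theorem isRegularRing_affineAlgebra (hA : ringKrullDim A = 2)
    (hm : maximalIdeal A = Ideal.span {a 0, a 1}) :
    IsRegularRing (BlowUp.affineAlgebra A (maximalIdeal A) (a 0)) := by
  have hAdom : IsDomain A := Groth.Agent.Lib.Helper5.isDomain_of_isRegularLocalRing A
  have ha0 : a 0 ≠ 0 := ne_zero_of A a hA hm
  have hle : Submonoid.powers (a 0) ≤ nonZeroDivisors A :=
    powers_le_nonZeroDivisors_of_noZeroDivisors ha0
  have hLdom : IsDomain (Localization.Away (a 0)) := IsLocalization.isDomain_localization hle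
  have hker := ker_chartHom A a hA hm
  have hrange := range_chartHom A a hm
  -- the isomorphism
  let e : (MvPolynomial (Fin 1) A ⧸ Ideal.span ({eqn A (a 0) (a 1)} : Set (MvPolynomial (Fin 1) A))) ≃+*
      BlowUp.affineAlgebra A (maximalIdeal A) (a 0) :=
    (Ideal.quotEquivOfEq hker.symm).trans
      ((Ideal.quotientKerEquivRange (chartHom A a)).toRingEquiv.trans
        (Subalgebra.equivOfEq _ _ hrange).toRingEquiv)
  have hdom : IsDomain (MvPolynomial (Fin 1) A ⧸
      Ideal.span ({eqn A (a 0) (a 1)} : Set (MvPolynomial (Fin 1) A))) :=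
    e.injective.isDomain e.toRingHom
  have hx : Ideal.Quotient.mk (Ideal.span ({eqn A (a 0) (a 1)} : Set (MvPolynomial (Fin 1) A))) (C (a 0)) ≠ 0 := by
    intro h0
    rw [Ideal.Quotient.eq_zero_iff_mem, ← hker, RingHom.mem_ker] at h0
    have h1 : chartHom A a (C (a 0)) = algebraMap A (Localization.Away (a 0)) (a 0) := by
      unfold chartHom
      rw [MvPolynomial.aeval_C]
    rw [h1] at h0
    exact ha0 ((IsLocalization.injective (Localization.Away (a 0)) hle) (h0.trans (map_zero _).symm))
  have hreg := isRegularRing_quot A (a 0) (a 1) hm hx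
  exact IsRegularRing.of_ringEquiv e

end Groth.Agent.R2.H78.BlowReg
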