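import Mathlib

/-!
# Stalks of a scheme isomorphic to `Spec` of a regular ring (helper78, S1622; copies of helper5's CMAffSp lemmas
with Mathlib-only imports)
-/

set_option autoImplicit false
universe u

open CategoryTheory AlgebraicGeometry

namespace Groth.Agent.R2.H78.BlowReg

/-- the local ring of `Spec R` at a point is regular if `R` is a regular ring. -/
theorem isRegularLocalRing_stalk_spec (R : Type u) [CommRing R] [IsRegularRing R]
    (p : ↥(Spec (CommRingCat.of R))) :
    IsRegularLocalRing ((Spec (CommRingCat.of R)).presheaf.stalk p) := by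
  have hp : p.asIdeal.IsPrime := p.isPrime
  let _ : Algebra R ((Spec (CommRingCat.of R)).presheaf.stalk p) := StructureSheaf.stalkAlgebra R p
  have : IsLocalization.AtPrime ((Spec (CommRingCat.of R)).presheaf.stalk p) p.asIdeal :=
    StructureSheaf.IsLocalization.to_stalk R p
  exact IsRegularLocalRing.of_ringEquiv
    (IsLocalization.algEquiv p.asIdeal.primeCompl (Localization.AtPrime p.asIdeal)
      ((Spec (CommRingCat.of R)).presheaf.stalk p)).toRingEquiv

theorem isRegularLocalRing_stalk_of_iso {Z : Scheme.{u}} (R : Type u) [CommRing R]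
    [IsRegularRing R] (Φ : Z ≅ Spec (CommRingCat.of R)) (z : Z) :
    IsRegularLocalRing (Z.presheaf.stalk z) := by
  have := isRegularLocalRing_stalk_spec R (Φ.hom z)
  exact IsRegularLocalRing.of_ringEquiv (asIso (Φ.hom.stalkMap z)).commRingCatIsoToRingEquiv

/-- regularity of stalks passes from an open subscheme to the ambient scheme -/
theorem isRegularLocalRing_stalk_of_open {X : Scheme.{u}} (V : X.Opens) (x : X) (hx : x ∈ V)
    (h : IsRegularLocalRing ((V : Scheme.{u}).presheaf.stalk ⟨x, hx⟩)) :
    IsRegularLocalRing (X.presheaf.stalk x) := by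
  have hiso : IsIso (V.ι.stalkMap ⟨x, hx⟩) :=
    inferInstanceAs (IsIso (V.ι.stalkMap (show V.toScheme from ⟨x, hx⟩)))
  have e : (V : Scheme.{u}).presheaf.stalk ⟨x, hx⟩ ≃+* X.presheaf.stalk x :=
    (asIso (V.ι.stalkMap ⟨x, hx⟩)).commRingCatIsoToRingEquiv.symm
  exact IsRegularLocalRing.of_ringEquiv e

end Groth.Agent.R2.H78.BlowReg
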