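import Mathlib

/-!
# Corner embeddings of algebras (helper78)

A `CornerEmb R B Λ` exhibits the `R`-algebra `B` as the corner `εΛε` of the `R`-algebra `Λ`
(`ε = ι 1`), together with the `R`-linear retraction `l ↦ ε l ε`.
-/

set_option autoImplicit false
set_option linter.style.haveILetI false
universe u v v' w w'

namespace Groth.Agent.R2.H78.CEmb

open TensorProduct MulOpposite

variable (R : Type u) [CommRing R]

/-- `B` as a corner of `Λ` -/
structure CornerEmb (B : Type v) [Ring B] [Algebra R B] (Λ : Type w) [Ring Λ] [Algebra R Λ] where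
  ι : B →ₗ[R] Λ
  ρ : Λ →ₗ[R] B
  hm : ∀ b b', ι (b * b') = ι b * ι b'
  hρι : ∀ b, ρ (ι b) = b
  hιρ : ∀ l, ι (ρ l) = ι 1 * l * ι 1

variable {R}

namespace CornerEmb

variable {B : Type v} [Ring B] [Algebra R B] {Λ : Type w} [Ring Λ] [Algebra R Λ]

lemma inj (D : CornerEmb R B Λ) : Function.Injective D.ι :=
  Function.LeftInverse.injective D.hρι

lemma one_mul_ι (D : CornerEmb R B Λ) (b : B) : D.ι 1 * D.ι b = D.ι b := by
  rw [← D.hm, one_mul]

lemma ι_mul_one (D : CornerEmb R B Λ) (b : B) : D.ι b * D.ι 1 = D.ι b := by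
  rw [← D.hm, mul_one]

/-- the identity corner embedding -/
def refl (B : Type v) [Ring B] [Algebra R B] : CornerEmb R B B where
  ι := LinearMap.id
  ρ := LinearMap.id
  hm := fun _ _ => rfl
  hρι := fun _ => rfl
  hιρ := fun l => by simp

/-- transport along an algebra isomorphism -/
def transport {Λ' : Type w'} [Ring Λ'] [Algebra R Λ'] (D : CornerEmb R B Λ) (e : Λ ≃ₐ[R] Λ') :
    CornerEmb R B Λ' where
  ι := e.toLinearMap ∘ₗ D.ι
  ρ := D.ρ ∘ₗ e.symm.toLinearMap
  hm := fun b b' => by simp [D.hm]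
  hρι := fun b => by simp [D.hρι]
  hιρ := fun l => by simp [D.hιρ]

/-- opposite -/
def op (D : CornerEmb R B Λ) : CornerEmb R Bᵐᵒᵖ Λᵐᵒᵖ where
  ι := (opLinearEquiv R).toLinearMap ∘ₗ D.ι ∘ₗ (opLinearEquiv R).symm.toLinearMap
  ρ := (opLinearEquiv R).toLinearMap ∘ₗ D.ρ ∘ₗ (opLinearEquiv R).symm.toLinearMap
  hm := fun b b' => by
    simp only [LinearMap.comp_apply, LinearEquiv.coe_coe, coe_opLinearEquiv_symm, unop_mul,
      coe_opLinearEquiv, D.hm, op_mul]
  hρι := fun b => by simp [D.hρι]
  hιρ := fun l => by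
    simp only [LinearMap.comp_apply, LinearEquiv.coe_coe, coe_opLinearEquiv_symm,
      coe_opLinearEquiv, unop_op, D.hιρ, op_mul, unop_one, mul_assoc, op_unop]

@[simp] lemma op_ι_apply (D : CornerEmb R B Λ) (b : Bᵐᵒᵖ) :
    D.op.ι b = MulOpposite.op (D.ι b.unop) := rfl

/-- tensor product -/
def tensor {B' : Type v'} [Ring B'] [Algebra R B'] {Λ' : Type w'} [Ring Λ'] [Algebra R Λ']
    (D : CornerEmb R B Λ) (D' : CornerEmb R B' Λ') : CornerEmb R (B ⊗[R] B') (Λ ⊗[R] Λ') where
  ι := TensorProduct.map D.ι D'.ι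
  ρ := TensorProduct.map D.ρ D'.ρ
  hm := fun x y => by
    induction x using TensorProduct.induction_on with
    | zero => simp
    | add x x' hx hx' => rw [add_mul, map_add, hx, hx', map_add, add_mul]
    | tmul b b' =>
      induction y using TensorProduct.induction_on with
      | zero => simp
      | add y y' hy hy' => rw [mul_add, map_add, hy, hy', map_add, mul_add]
      | tmul c c' =>
        simp only [Algebra.TensorProduct.tmul_mul_tmul, TensorProduct.map_tmul, D.hm, D'.hm]
  hρι := fun x => by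
    rw [← LinearMap.comp_apply, ← TensorProduct.map_comp]
    have h1 : D.ρ ∘ₗ D.ι = LinearMap.id := LinearMap.ext D.hρι
    have h2 : D'.ρ ∘ₗ D'.ι = LinearMap.id := LinearMap.ext D'.hρι
    rw [h1, h2, TensorProduct.map_id, LinearMap.id_apply]
  hιρ := fun l => by
    induction l using TensorProduct.induction_on with
    | zero => simp
    | add x x' hx hx' => rw [map_add, map_add, hx, hx', mul_add, add_mul]
    | tmul l l' =>
      simp only [TensorProduct.map_tmul, Algebra.TensorProduct.one_def,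
        Algebra.TensorProduct.tmul_mul_tmul, D.hιρ, D'.hιρ]

@[simp] lemma tensor_ι_tmul {B' : Type v'} [Ring B'] [Algebra R B'] {Λ' : Type w'} [Ring Λ']
    [Algebra R Λ'] (D : CornerEmb R B Λ) (D' : CornerEmb R B' Λ') (b : B) (b' : B') :
    (D.tensor D').ι (b ⊗ₜ b') = D.ι b ⊗ₜ D'.ι b' := rfl

/-- two corners with the same unit are isomorphic -/
theorem exists_algEquiv {B' : Type v'} [Ring B'] [Algebra R B'] (D : CornerEmb R B Λ)
    (D' : CornerEmb R B' Λ) (h1 : D.ι 1 = D'.ι 1) :
    ∃ ψ : B ≃ₐ[R] B', ∀ b, D'.ι (ψ b) = D.ι b := by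
  have key : ∀ b, D'.ι (D'.ρ (D.ι b)) = D.ι b := by
    intro b
    rw [D'.hιρ, ← h1, one_mul_ι, ι_mul_one]
  have key' : ∀ b, D.ι (D.ρ (D'.ι b)) = D'.ι b := by
    intro b
    rw [D.hιρ, h1, one_mul_ι, ι_mul_one]
  let ψl : B →ₗ[R] B' := D'.ρ ∘ₗ D.ι
  have hone : ψl 1 = 1 := by
    apply D'.inj
    show D'.ι (D'.ρ (D.ι 1)) = D'.ι 1
    rw [key, h1]
  have hmul : ∀ b c, ψl (b * c) = ψl b * ψl c := by
    intro b c
    apply D'.inj
    show D'.ι (D'.ρ (D.ι (b * c))) = D'.ι (D'.ρ (D.ι b) * D'.ρ (D.ι c))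
    rw [key, D'.hm, key, key, D.hm]
  let ψa : B →ₐ[R] B' := AlgHom.ofLinearMap ψl hone hmul
  have hbij : Function.Bijective ψa := by
    constructor
    · intro b c hbc
      apply D.inj
      have : D'.ι (D'.ρ (D.ι b)) = D'.ι (D'.ρ (D.ι c)) := congrArg D'.ι hbc
      rwa [key, key] at this
    · intro b'
      refine ⟨D.ρ (D'.ι b'), ?_⟩
      apply D'.inj
      show D'.ι (D'.ρ (D.ι (D.ρ (D'.ι b')))) = D'.ι b'
      rw [key, key']
  exact ⟨AlgEquiv.ofBijective ψa hbij, fun b => key b⟩

end CornerEmb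

section EndCorner

variable {M : Type w} [AddCommGroup M] [Module R M] {N : Type w'} [AddCommGroup N] [Module R N]

/-- `End_R(N)` as a corner of `End_R(M)` for a retract `N` of `M` -/
def endCorner (i : N →ₗ[R] M) (p : M →ₗ[R] N) (hpi : ∀ n, p (i n) = n) :
    CornerEmb R (Module.End R N) (Module.End R M) where
  ι :=
    { toFun := fun φ => i ∘ₗ φ ∘ₗ p
      map_add' := fun φ φ' => by ext x; simp
      map_smul' := fun r φ => by ext x; simp }
  ρ :=
    { toFun := fun l => p ∘ₗ l ∘ₗ i
      map_add' := fun φ φ' => by ext x; simp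
      map_smul' := fun r φ => by ext x; simp }
  hm := fun φ φ' => by
    ext x
    simp [Module.End.mul_apply, hpi]
  hρι := fun φ => by
    ext x
    simp [hpi]
  hιρ := fun l => by
    ext x
    simp [Module.End.mul_apply, hpi]

@[simp] lemma endCorner_ι_apply (i : N →ₗ[R] M) (p : M →ₗ[R] N) (hpi : ∀ n, p (i n) = n)
    (φ : Module.End R N) (x : M) : (endCorner i p hpi).ι φ x = i (φ (p x)) := rfl

end EndCorner

section CornerAlg

variable {A : Type v} [Ring A] [Algebra R A] {e : A} (he : IsIdempotentElem e)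

lemma corner_left (x : he.Corner) : e * x.1 = x.1 := ((Subsemigroup.mem_corner_iff he).mp x.2).1

lemma corner_right (x : he.Corner) : x.1 * e = x.1 := ((Subsemigroup.mem_corner_iff he).mp x.2).2

/-- the inclusion of the corner -/
def cornerVal : he.Corner →+ A where
  toFun := fun x => x.1
  map_zero' := rfl
  map_add' := fun _ _ => rfl

lemma cornerVal_injective : Function.Injective (cornerVal he) := fun _ _ h => Subtype.ext h

instance cornerSMul : SMul R he.Corner :=
  ⟨fun r x => ⟨r • x.1, (Subsemigroup.mem_corner_iff he).mpr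
    ⟨by rw [mul_smul_comm, corner_left], by rw [smul_mul_assoc, corner_right]⟩⟩⟩

instance cornerModule : Module R he.Corner :=
  Function.Injective.module R (cornerVal he) (cornerVal_injective he) (fun _ _ => rfl)

instance cornerAlgebra : Algebra R he.Corner :=
  Algebra.ofModule (fun r x y => Subtype.ext (smul_mul_assoc r x.1 y.1))
    (fun r x y => Subtype.ext (mul_smul_comm r x.1 y.1))

/-- the corner `eAe` as a corner embedding -/
def cornerEmb : CornerEmb R he.Corner A where
  ι :=
    { toFun := fun x => x.1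
      map_add' := fun _ _ => rfl
      map_smul' := fun _ _ => rfl }
  ρ :=
    { toFun := fun a => ⟨e * a * e, (Subsemigroup.mem_corner_iff he).mpr
        ⟨by rw [← mul_assoc, ← mul_assoc, he.eq], by rw [mul_assoc, he.eq]⟩⟩
      map_add' := fun a b => Subtype.ext (by
        show e * (a + b) * e = e * a * e + e * b * e
        rw [mul_add, add_mul])
      map_smul' := fun r a => Subtype.ext (by
        show e * (r • a) * e = r • (e * a * e)
        rw [mul_smul_comm, smul_mul_assoc]) }
  hm := fun _ _ => rfl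
  hρι := fun x => Subtype.ext (by
    show e * x.1 * e = x.1
    rw [corner_left, corner_right])
  hιρ := fun l => rfl

@[simp] lemma cornerEmb_ι_one : (cornerEmb (R := R) he).ι 1 = e := rfl

end CornerAlg

end Groth.Agent.R2.H78.CEmb
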