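import Mathlib
import Groth.Agent.R2.H78CornerEmb

/-!
# Corners of Azumaya algebras: commutant isomorphism (helper78)
-/

set_option autoImplicit false
set_option linter.style.haveILetI false
universe u v

namespace Groth.Agent.R2.H78.Commutant

open TensorProduct MulOpposite Groth.Agent.R2.H78.CEmb

variable {R : Type u} [CommRing R] {A : Type v} [Ring A] [Algebra R A]

/-- the `R`-module `Ae` -/
def Q (R : Type u) [CommRing R] {A : Type v} [Ring A] [Algebra R A] (e : A) : Submodule R A :=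
  LinearMap.range (LinearMap.mulRight R e)

lemma mem_Q {e x : A} : x ∈ Q R e ↔ ∃ c, c * e = x := by
  simp [Q, LinearMap.mem_range]

lemma mul_of_mem_Q {e : A} (he : IsIdempotentElem e) {x : A} (hx : x ∈ Q R e) : x * e = x := by
  obtain ⟨c, rfl⟩ := mem_Q.mp hx
  rw [mul_assoc, he.eq]

/-- `x ↦ x e` onto `Ae` -/
def pQ (R : Type u) [CommRing R] {A : Type v} [Ring A] [Algebra R A] (e : A) : A →ₗ[R] Q R e :=
  (LinearMap.mulRight R e).rangeRestrict

@[simp] lemma pQ_apply (e x : A) : ((pQ R e x : Q R e) : A) = x * e := rfl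

lemma pQ_subtype {e : A} (he : IsIdempotentElem e) (q : Q R e) : pQ R e ((Q R e).subtype q) = q :=
  Subtype.ext (mul_of_mem_Q he q.2)

variable [IsAzumaya R A]

/-- `A ⊗ Aᵐᵒᵖ ≃ End_R(A)` -/
noncomputable def μ (R : Type u) [CommRing R] (A : Type v) [Ring A] [Algebra R A] [IsAzumaya R A] :
    A ⊗[R] Aᵐᵒᵖ ≃ₐ[R] Module.End R A :=
  AlgEquiv.ofBijective (AlgHom.mulLeftRight R A) IsAzumaya.bij

@[simp] lemma μ_tmul_apply (a : A) (b : Aᵐᵒᵖ) (x : A) : μ R A (a ⊗ₜ b) x = a * x * b.unop :=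
  AlgHom.mulLeftRight_apply R A a b x

variable {e : A} (he : IsIdempotentElem e)

/-- **commutant isomorphism**: `A ⊗ (eAe)ᵐᵒᵖ ≃ End_R(Ae)` -/
theorem commutant_equiv : Nonempty (A ⊗[R] (he.Corner)ᵐᵒᵖ ≃ₐ[R] Module.End R (Q R e)) := by
  let D₁ : CornerEmb R (A ⊗[R] (he.Corner)ᵐᵒᵖ) (Module.End R A) :=
    ((CornerEmb.refl A).tensor (cornerEmb (R := R) he).op).transport (μ R A)
  let D₂ : CornerEmb R (Module.End R (Q R e)) (Module.End R A) :=
    endCorner (Q R e).subtype (pQ R e) (pQ_subtype he)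
  have h1 : D₁.ι 1 = D₂.ι 1 := by
    apply LinearMap.ext
    intro x
    show μ R A ((CornerEmb.refl A).ι 1 ⊗ₜ (cornerEmb (R := R) he).op.ι 1) x = _
    rw [μ_tmul_apply]
    simp [D₂, CornerEmb.refl, Module.End.one_apply]
  obtain ⟨ψ, -⟩ := D₁.exists_algEquiv D₂ h1
  exact ⟨ψ⟩

/-- the corner `eAe` of an Azumaya algebra satisfies the Azumaya bijectivity -/
theorem corner_mulLeftRight_bijective :
    Function.Bijective (AlgHom.mulLeftRight R he.Corner) := by
  let DB := cornerEmb (R := R) he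
  let D₃ : CornerEmb R (he.Corner ⊗[R] (he.Corner)ᵐᵒᵖ) (Module.End R A) :=
    (DB.tensor DB.op).transport (μ R A)
  let D₄ : CornerEmb R (Module.End R he.Corner) (Module.End R A) :=
    endCorner DB.ι DB.ρ DB.hρι
  have h1 : D₃.ι 1 = D₄.ι 1 := by
    apply LinearMap.ext
    intro x
    show μ R A (DB.ι 1 ⊗ₜ DB.op.ι 1) x = _
    rw [μ_tmul_apply]
    simp only [D₄, endCorner_ι_apply, Module.End.one_apply, DB.hιρ]
    rfl
  obtain ⟨ψ, hψ⟩ := D₃.exists_algEquiv D₄ h1
  have key : (AlgHom.mulLeftRight R he.Corner).toLinearMap = ψ.toLinearMap := by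
    apply TensorProduct.ext'
    intro b b'
    apply LinearMap.ext
    intro c
    apply DB.inj
    have h2 := congrArg (fun φ => φ (DB.ι c)) (hψ (b ⊗ₜ b'))
    simp only [D₄, endCorner_ι_apply, DB.hρι] at h2
    show DB.ι (AlgHom.mulLeftRight R he.Corner (b ⊗ₜ b') c) = DB.ι (ψ (b ⊗ₜ b') c)
    rw [h2, AlgHom.mulLeftRight_apply]
    show _ = μ R A (DB.ι b ⊗ₜ DB.op.ι b') (DB.ι c)
    rw [μ_tmul_apply, DB.hm, DB.hm]
    rfl
  have : ⇑(AlgHom.mulLeftRight R he.Corner) = ⇑ψ := by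
    funext z
    exact congrArg (fun φ => φ z) key
  rw [this]
  exact ψ.bijective

end Groth.Agent.R2.H78.Commutant
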