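import Mathlib
import Groth.Agent.R2.H78Commutant
import Groth.Agent.R2.H78AzuResidue
import Groth.Agent.Lib.LeadAzumaya

/-!
# Corners of Azumaya algebras over a connected base (helper78)
-/

set_option autoImplicit false
set_option linter.style.haveILetI false
universe u v

namespace Groth.Agent.R2.H78.BrauerRep

open TensorProduct MulOpposite Groth.Agent.R2.H78.CEmb Groth.Agent.R2.H78.Commutant

section Faithful

variable {R : Type u} [CommRing R] {M : Type v} [AddCommGroup M] [Module R M]
  [Module.Finite R M] [Module.Projective R M]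

/-- a f.g. projective module of everywhere positive rank is faithful -/
theorem faithfulSMul_of_rank_pos (h : ∀ p : PrimeSpectrum R, 0 < Module.rankAtStalk M p) :
    FaithfulSMul R M := by
  haveI : Module.FaithfullyFlat R M := by
    refine ⟨fun m hm htop => ?_⟩
    letI := Ideal.Quotient.field m
    have h1 := AzuResidue.finrank_tensor_quot m M
    have h2 : Subsingleton ((R ⧸ m) ⊗[R] M) := by
      have e := TensorProduct.quotTensorEquivQuotSMul M m
      rw [htop] at e
      haveI : Subsingleton (M ⧸ (⊤ : Submodule R M)) := Submodule.Quotient.subsingleton_iff.mpr rfl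
      exact e.toEquiv.subsingleton
    have h3 : Module.finrank (R ⧸ m) ((R ⧸ m) ⊗[R] M) = 0 := Module.finrank_zero_of_subsingleton
    have := h ⟨m, hm.isPrime⟩
    omega
  exact Groth.Agent.Lib.LeadAzumaya.faithfulSMul_of_faithfullyFlat

/-- on a connected base the rank of a f.g. projective module is constant -/
theorem rank_const [ConnectedSpace (PrimeSpectrum R)] (p q : PrimeSpectrum R) :
    Module.rankAtStalk M p = Module.rankAtStalk M q := by
  haveI : Module.FinitePresentation R M := Module.finitePresentation_of_projective R M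
  exact (Module.isLocallyConstant_rankAtStalk (R := R) (M := M)).apply_eq_of_preconnectedSpace p q

theorem rank_pos_of_nontrivial [ConnectedSpace (PrimeSpectrum R)] [Nontrivial M]
    (p : PrimeSpectrum R) : 0 < Module.rankAtStalk M p := by
  by_contra h0
  have h0' : Module.rankAtStalk M p = 0 := by omega
  have : Module.rankAtStalk (R := R) M = 0 := by
    funext q
    rw [rank_const q p, h0']
    rfl
  have hs : Subsingleton M := Module.rankAtStalk_eq_zero_iff_subsingleton.mp this
  exact not_subsingleton M hs

end Faithful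

section QModule

variable {R : Type u} [CommRing R] {A : Type v} [Ring A] [Algebra R A] [Module.Finite R A]
  [Module.Projective R A]

instance finite_Q (e : A) : Module.Finite R (Q R e) :=
  Module.Finite.of_surjective (pQ R e) (LinearMap.surjective_rangeRestrict _)

omit [Module.Finite R A] in
theorem projective_Q {e : A} (he : IsIdempotentElem e) : Module.Projective R (Q R e) :=
  Module.Projective.of_split (Q R e).subtype (pQ R e) (LinearMap.ext (pQ_subtype he))

omit [Module.Finite R A] [Module.Projective R A] in
theorem self_mem_Q {e : A} (he : IsIdempotentElem e) : e ∈ Q R e := mem_Q.mpr ⟨e, he.eq⟩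

omit [Module.Finite R A] [Module.Projective R A] in
theorem nontrivial_Q {e : A} (he : IsIdempotentElem e) (h0 : e ≠ 0) : Nontrivial (Q R e) :=
  ⟨⟨⟨e, self_mem_Q he⟩, 0, fun h => h0 (congrArg Subtype.val h)⟩⟩

omit [Module.Finite R A] [Module.Projective R A] in
theorem mem_Q_iff {e : A} (he : IsIdempotentElem e) {x : A} : x ∈ Q R e ↔ x * e = x :=
  ⟨mul_of_mem_Q he, fun h => mem_Q.mpr ⟨x, h⟩⟩

/-- `Ae = Af ⊕ A(e-f)` for an idempotent `f = ef = fe` -/
noncomputable def splitEquiv {e f : A} (he : IsIdempotentElem e) (hf : IsIdempotentElem f)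
    (hef : e * f = f) (hfe : f * e = f) : Q R e ≃ₗ[R] Q R f × Q R (e - f) := by
  have hg : IsIdempotentElem (e - f) := by
    show (e - f) * (e - f) = e - f
    rw [mul_sub, sub_mul, sub_mul, he.eq, hf.eq, hef, hfe]
    abel
  refine LinearEquiv.ofLinearMap
    (LinearMap.prod ((pQ R f) ∘ₗ (Q R e).subtype) ((pQ R (e - f)) ∘ₗ (Q R e).subtype))
    (LinearMap.coprod
      (LinearMap.codRestrict (Q R e) (Q R f).subtype (fun y => by
        rw [mem_Q_iff he]
        have := mul_of_mem_Q hf y.2
        show (y : A) * e = y
        rw [← this, mul_assoc, hfe]))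
      (LinearMap.codRestrict (Q R e) (Q R (e - f)).subtype (fun z => by
        rw [mem_Q_iff he]
        have := mul_of_mem_Q hg z.2
        show (z : A) * e = z
        rw [← this, mul_assoc, sub_mul, he.eq, hfe]))) ?_ ?_
  · apply LinearMap.ext
    rintro ⟨y, z⟩
    have hy := mul_of_mem_Q hf y.2
    have hz := mul_of_mem_Q hg z.2
    apply Prod.ext
    · apply Subtype.ext
      show ((y : A) + (z : A)) * f = y
      rw [add_mul, hy, ← hz, mul_assoc, sub_mul, hef, hf.eq, sub_self, mul_zero, add_zero]
    · apply Subtype.ext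
      show ((y : A) + (z : A)) * (e - f) = z
      rw [add_mul, hz, ← hy, mul_assoc, mul_sub, hfe, hf.eq, sub_self, mul_zero, zero_add]
  · apply LinearMap.ext
    intro x
    have hx := mul_of_mem_Q he x.2
    apply Subtype.ext
    show (x : A) * f + (x : A) * (e - f) = x
    rw [← mul_add, add_sub_cancel, hx]

end QModule

section Main

variable {R : Type u} [CommRing R] [ConnectedSpace (PrimeSpectrum R)] {A : Type v} [Ring A]
  [Algebra R A] [IsAzumaya R A]

theorem faithful_Q {e : A} (he : IsIdempotentElem e) (h0 : e ≠ 0) : FaithfulSMul R (Q R e) := by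
  haveI := nontrivial_Q (R := R) he h0
  haveI := projective_Q (R := R) he
  exact faithfulSMul_of_rank_pos (fun p => rank_pos_of_nontrivial (M := Q R e) p)

/-- the corner `eAe` of an Azumaya algebra over a connected base at a nonzero idempotent is
Azumaya -/
theorem isAzumaya_corner {e : A} (he : IsIdempotentElem e) (h0 : e ≠ 0) :
    IsAzumaya R he.Corner := by
  let DB := cornerEmb (R := R) he
  haveI : Module.Finite R he.Corner :=
    Module.Finite.of_surjective DB.ρ (Function.LeftInverse.surjective DB.hρι)
  haveI : Module.Projective R he.Corner :=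
    Module.Projective.of_split DB.ι DB.ρ (LinearMap.ext DB.hρι)
  haveI := faithful_Q (R := R) he h0
  haveI : FaithfulSMul R he.Corner := by
    refine ⟨fun {r r'} h => ?_⟩
    have h1 : r • e = r' • e := congrArg Subtype.val (h (1 : he.Corner))
    apply FaithfulSMul.eq_of_smul_eq_smul (α := Q R e)
    intro q
    apply Subtype.ext
    show r • (q : A) = r' • (q : A)
    rw [← mul_of_mem_Q he q.2, ← mul_smul_comm, ← mul_smul_comm, h1]
  exact { bij := corner_mulLeftRight_bijective he }

/-- `A` and `eAe` are Brauer equivalent -/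
theorem brauer_equiv_corner {e : A} (he : IsIdempotentElem e) (h0 : e ≠ 0) :
    Nonempty (A ⊗[R] Module.End R he.Corner ≃ₐ[R] he.Corner ⊗[R] Module.End R (Q R e)) := by
  haveI := isAzumaya_corner (R := R) he h0
  obtain ⟨Ψ⟩ := commutant_equiv (R := R) he
  let μB := μ R he.Corner
  exact ⟨(Algebra.TensorProduct.congr AlgEquiv.refl μB.symm).trans <|
    (Algebra.TensorProduct.assoc R R R A he.Corner (he.Corner)ᵐᵒᵖ).symm.trans <|
      (Algebra.TensorProduct.congr (Algebra.TensorProduct.comm R A he.Corner) AlgEquiv.refl).trans <|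
        (Algebra.TensorProduct.assoc R R R he.Corner A (he.Corner)ᵐᵒᵖ).trans <|
          Algebra.TensorProduct.congr AlgEquiv.refl Ψ⟩

end Main

section Main2

theorem one_ne_zero_of_azumaya (R : Type u) [CommRing R] {A : Type v} [Ring A]
    [Algebra R A] [IsAzumaya R A] [Nontrivial R] : (1 : A) ≠ 0 := by
  intro h
  have hs : Subsingleton A := subsingleton_of_zero_eq_one h.symm
  have : (0 : R) = 1 := FaithfulSMul.eq_of_smul_eq_smul (α := A) (fun a => Subsingleton.elim _ _)
  exact (zero_ne_one (α := R)) this

/-- a nonzero idempotent whose corner has only trivial idempotents -/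
theorem exists_min_idem (R : Type u) [CommRing R] [ConnectedSpace (PrimeSpectrum R)]
    {A : Type v} [Ring A] [Algebra R A] [IsAzumaya R A] : ∃ (e : A) (he : IsIdempotentElem e), e ≠ 0 ∧
    ∀ β : he.Corner, IsIdempotentElem β → β = 0 ∨ β = 1 := by
  classical
  obtain ⟨p₀⟩ : Nonempty (PrimeSpectrum R) := inferInstance
  haveI : Nontrivial R := (PrimeSpectrum.nonempty_iff_nontrivial).mp ⟨p₀⟩
  let n : A → ℕ := fun e => Module.rankAtStalk (Q R e) p₀
  have hex : ∃ k, ∃ e : A, IsIdempotentElem e ∧ e ≠ 0 ∧ n e = k :=
    ⟨n 1, 1, IsIdempotentElem.one, one_ne_zero_of_azumaya R, rfl⟩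
  obtain ⟨e, he, h0, hk⟩ := Nat.find_spec hex
  refine ⟨e, he, h0, ?_⟩
  intro β hβ
  have hf : IsIdempotentElem β.1 := congrArg Subtype.val hβ
  have hef : e * β.1 = β.1 := corner_left he β
  have hfe : β.1 * e = β.1 := corner_right he β
  by_cases hf0 : β.1 = 0
  · left
    exact Subtype.ext hf0
  · right
    have hmin : Nat.find hex ≤ n β.1 := Nat.find_min' hex ⟨β.1, hf, hf0, rfl⟩
    have hg : IsIdempotentElem (e - β.1) := by
      show (e - β.1) * (e - β.1) = e - β.1
      rw [mul_sub, sub_mul, sub_mul, he.eq, hf.eq, hef, hfe]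
      abel
    haveI := projective_Q (R := R) he
    haveI := projective_Q (R := R) hf
    haveI := projective_Q (R := R) hg
    have hadd : n e = n β.1 + n (e - β.1) := by
      have h1 := congrFun (Module.rankAtStalk_eq_of_equiv (splitEquiv (R := R) he hf hef hfe)) p₀
      rw [Module.rankAtStalk_prod] at h1
      exact h1
    have hzero : n (e - β.1) = 0 := by omega
    have hsub : e - β.1 = 0 := by
      by_contra hne
      haveI := nontrivial_Q (R := R) hg hne
      have := rank_pos_of_nontrivial (R := R) (M := Q R (e - β.1)) p₀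
      have hz' : Module.rankAtStalk (Q R (e - β.1)) p₀ = 0 := hzero
      omega
    apply Subtype.ext
    show β.1 = e
    exact (sub_eq_zero.mp hsub).symm

end Main2

end Groth.Agent.R2.H78.BrauerRep
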