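import Mathlib
import Groth.Prelude.Def_Coh
import Groth.Prelude.Def_CohB1
import Groth.Prelude.Def_CAlg
import Groth.Prelude.Def_FlatMod2
import Groth.Agent.S0605
import Groth.Agent.S0604
import Groth.Agent.S9806
import Groth.Agent.S0018
import Groth.Agent.Lib.Helper20ZClos14
import Groth.Agent.Lib.Helper5RLR3
import Groth.Agent.Lib.Helper2FibreCrit2
import Groth.Agent.Lib.Helper2LocFree
import Groth.Agent.Lib.Helper2RankLoc

set_option autoImplicit false
universe u
open CategoryTheory AlgebraicGeometry TensorProduct

namespace Groth.Agent.R2.H78.CMFree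

theorem supportDim_eq_of_support_eq_univ (R : Type u) [CommRing R] (M : Type u) [AddCommGroup M] [Module R M]
    (h : Module.support R M = Set.univ) : Module.supportDim R M = ringKrullDim R := by
  unfold Module.supportDim ringKrullDim
  rw [h]
  exact Order.krullDim_eq_of_orderIso (OrderIso.Set.univ)

/-- a nontrivial finite free module over a regular local ring is Cohen-Macaulay. -/
theorem isCohenMacaulayModule_of_free (R : Type u) [CommRing R] [IsRegularLocalRing R]
    (M : Type u) [AddCommGroup M] [Module R M] [Module.Finite R M] [Module.Free R M] [Nontrivial M] :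
    LocCoh.IsCohenMacaulayModule R M := by
  unfold LocCoh.IsCohenMacaulayModule
  have hdom : IsDomain R := Groth.Agent.Lib.Helper5.isDomain_of_isRegularLocalRing R
  have h1 : Module.support R M = Set.univ := Module.support_of_noZeroSMulDivisors
  rw [supportDim_eq_of_support_eq_univ R M h1]
  have hpd : projectiveDimension (ModuleCat.of R M) = ((0 : ℕ) : WithBot ℕ∞) := by
    have : Nontrivial (ModuleCat.of R M) := inferInstanceAs (Nontrivial M)
    have : Projective (ModuleCat.of R M) := by
      rw [← IsProjective.iff_projective]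
      infer_instance
    exact ModuleCat.projectiveDimension_eq_zero_of_projective _
  have hAB := Groth.Agent.S0604.result R M 0 hpd
  have hCM : LocCoh.IsCohenMacaulayLocalRing R :=
    Groth.Agent.Lib.Helper5.isCohenMacaulayLocalRing_of_isRegularLocalRing R
  have h2 := hCM.supportDim_eq_depth
  rw [Module.supportDim_self_eq_ringKrullDim] at h2
  rw [h2, hAB]
  simp

variable {X : Scheme.{u}}

/-- the rank of a local trivialisation is positive iff the stalk is nontrivial. -/
theorem nontrivial_stalk_iff_pos (F : X.Modules) [F.IsQuasicoherent]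
    [SheafOfModules.IsFiniteType (R := X.ringCatSheaf) F] (U : X.Opens) (n : ℕ)
    (e : F.restrict U.ι ≅ FlatMod.freeMod (↑U) n) (x : X) (hx : x ∈ U) :
    Nontrivial (F.presheaf.stalk x) ↔ 0 < n := by
  obtain ⟨hfree, hrk⟩ :=
    Groth.Agent.Lib.Helper2.RankLoc.fibreRank_eq_of_restrict_iso_freeMod U.ι F e ⟨x, hx⟩
  change Module.Free (X.presheaf.stalk x) (F.presheaf.stalk x) at hfree
  change Groth.Agent.Lib.Helper2.RankLoc.fibreRank F x = n at hrk
  have hfin : Module.Finite (X.presheaf.stalk x) (F.presheaf.stalk x) :=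
    Groth.Agent.Lib.Helper2.FibreCrit.finite_stalk F x
  unfold Groth.Agent.Lib.Helper2.RankLoc.fibreRank at hrk
  rw [Module.finrank_baseChange] at hrk
  rw [← hrk]
  exact (Module.finrank_pos_iff_of_free (R := X.presheaf.stalk x) (M := F.presheaf.stalk x)).symm

/-- the main theorem. -/
theorem main (X : Scheme.{u}) [IsLocallyNoetherian X]
    (hreg : ∀ x : X, IsRegularLocalRing (X.presheaf.stalk x)) (F : X.Modules) (hF : Coh.IsCoh F) :
    (CohB1.support F = Set.univ ∧
        ∀ x : X, LocCoh.IsCohenMacaulayModule (X.presheaf.stalk x) ↑(F.presheaf.stalk x)) ↔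
      ∀ x : X, ∃ (U : X.Opens) (n : ℕ), x ∈ U ∧ 0 < n ∧
        Nonempty (F.restrict U.ι ≅ FlatMod.freeMod (↑U) n) := by
  have hq : F.IsQuasicoherent := hF.1
  have hft : SheafOfModules.IsFiniteType (R := X.ringCatSheaf) F := hF.2
  have hFP : CohB1.IsFP F := (Groth.Agent.S0018.result X F).mp hF
  constructor
  · rintro ⟨hsupp, hCM⟩
    have hnt : ∀ x : X, Nontrivial (F.presheaf.stalk x) := by
      intro x
      have hx : x ∈ CohB1.support F := by rw [hsupp]; trivial
      exact not_subsingleton_iff_nontrivial.mp hx
    have hfree : ∀ x : X, Module.Free (X.presheaf.stalk x) (F.presheaf.stalk x) := by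
      intro x
      have := hreg x
      have hfin : Module.Finite (X.presheaf.stalk x) (F.presheaf.stalk x) :=
        Groth.Agent.Lib.Helper2.FibreCrit.finite_stalk F x
      apply Groth.Agent.S0605.result
      have h1 := Groth.Agent.Lib.Helper20.ZClosLib.support_stalk_eq_univ F hnt x
      rw [← supportDim_eq_of_support_eq_univ _ _ h1]
      exact (hCM x).symm
    have hlf := (Groth.Agent.S9806.result X F hq).mp ⟨hFP, hfree⟩
    intro x
    obtain ⟨U, n, hxU, ⟨e⟩⟩ := hlf x
    exact ⟨U, n, hxU, (nontrivial_stalk_iff_pos F U n e x hxU).mp (hnt x), ⟨e⟩⟩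
  · intro h
    have hlf : FlatMod.IsFinLocFree F := fun x => by
      obtain ⟨U, n, hxU, -, he⟩ := h x
      exact ⟨U, n, hxU, he⟩
    obtain ⟨-, hfree⟩ := (Groth.Agent.S9806.result X F hq).mpr hlf
    have hnt : ∀ x : X, Nontrivial (F.presheaf.stalk x) := by
      intro x
      obtain ⟨U, n, hxU, hn, ⟨e⟩⟩ := h x
      exact (nontrivial_stalk_iff_pos F U n e x hxU).mpr hn
    refine ⟨?_, fun x => ?_⟩
    · rw [Set.eq_univ_iff_forall]
      intro x
      exact not_subsingleton_iff_nontrivial.mpr (hnt x)
    · have := hreg x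
      have := hfree x
      have := hnt x
      have hfin : Module.Finite (X.presheaf.stalk x) (F.presheaf.stalk x) :=
        Groth.Agent.Lib.Helper2.FibreCrit.finite_stalk F x
      exact isCohenMacaulayModule_of_free _ _

end Groth.Agent.R2.H78.CMFree
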