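import Mathlib
import Groth.Prelude.Def_W4c4lgringredgrpLG
import Groth.Agent.S16597
import Groth.Agent.Lib.Helper22LGProj

/-!
# LG-rings: lifting split surjections of modules from residue fields (helper78)

* `exists_bijective_bilin`: over an LG-ring `R`, for a f.g. projective module `N` and a finite
  bilinear family `θ i j` of endomorphisms, if at every maximal ideal some combination
  `∑ x_i y_j θ_ij` is the identity modulo `m`, then some combination is bijective.
-/

set_option autoImplicit false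
universe u v w w'

namespace Groth.Agent.R2.H78.LGLift

open MvPolynomial

section Tm

variable {R : Type u} [CommRing R] {N : Type w} [AddCommGroup N] [Module R N] {d : ℕ}

/-- the matrix of `i φ p + (1 - i p)` -/
noncomputable def Tm (p : (Fin d → R) →ₗ[R] N) (i : N →ₗ[R] (Fin d → R)) (φ : N →ₗ[R] N) :
    Matrix (Fin d) (Fin d) R :=
  LinearMap.toMatrix' (i ∘ₗ φ ∘ₗ p) + 1 - LinearMap.toMatrix' (i ∘ₗ p)

lemma Tm_apply (p : (Fin d → R) →ₗ[R] N) (i : N →ₗ[R] (Fin d → R)) (φ : N →ₗ[R] N)
    (l l' : Fin d) :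
    Tm p i φ l l' = i (φ (p (Pi.single l' 1)) - p (Pi.single l' 1)) l +
      (1 : Matrix (Fin d) (Fin d) R) l l' := by
  classical
  simp only [Tm, Matrix.sub_apply, Matrix.add_apply, LinearMap.toMatrix'_apply,
    LinearMap.comp_apply, map_sub, Pi.sub_apply]
  ring

lemma bijective_of_isUnit_det_Tm (p : (Fin d → R) →ₗ[R] N) (i : N →ₗ[R] (Fin d → R))
    (hpi : p ∘ₗ i = LinearMap.id) (φ : N →ₗ[R] N) (hdet : IsUnit (Tm p i φ).det) :
    Function.Bijective φ := by
  classical
  set T := Tm p i φ with hT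
  have hpi' : ∀ x, p (i x) = x := fun x => by
    have := congrArg (fun f => f x) hpi
    simpa using this
  have hTlin : ∀ v, T.mulVec v = i (φ (p v)) + (v - i (p v)) := by
    intro v
    have h1 : Matrix.toLin' T = i ∘ₗ φ ∘ₗ p + (LinearMap.id - i ∘ₗ p) := by
      rw [hT, Tm, add_sub_assoc, map_add, map_sub, Matrix.toLin'_toMatrix',
        Matrix.toLin'_toMatrix', Matrix.toLin'_one]
    have := congrArg (fun f => f v) h1
    simpa using this
  have hTinj : ∀ v, T.mulVec v = 0 → v = 0 := by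
    intro v hv
    have := congrArg (fun w => (T⁻¹).mulVec w) hv
    simp only [Matrix.mulVec_mulVec, Matrix.nonsing_inv_mul T hdet, Matrix.one_mulVec,
      Matrix.mulVec_zero] at this
    exact this
  constructor
  · rw [injective_iff_map_eq_zero]
    intro x hx
    have h1 : T.mulVec (i x) = 0 := by
      rw [hTlin, hpi', hx, map_zero, sub_self, add_zero]
    have h2 := hTinj _ h1
    rw [← hpi' x, h2, map_zero]
  · intro y
    refine ⟨p ((T⁻¹).mulVec (i y)), ?_⟩
    have h1 : T.mulVec ((T⁻¹).mulVec (i y)) = i y := by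
      rw [Matrix.mulVec_mulVec, Matrix.mul_nonsing_inv T hdet, Matrix.one_mulVec]
    rw [hTlin] at h1
    have h2 := congrArg p h1
    rw [map_add, map_sub, hpi', hpi', sub_self, add_zero, hpi'] at h2
    exact h2

/-- coordinates of elements of `m • ⊤` lie in `m` -/
lemma coord_mem_of_mem_smul_top (m : Ideal R) (i : N →ₗ[R] (Fin d → R)) {y : N}
    (hy : y ∈ (m • ⊤ : Submodule R N)) (l : Fin d) : i y l ∈ m := by
  refine Submodule.smul_induction_on hy ?_ ?_
  · intro r hr z _
    rw [map_smul, Pi.smul_apply, smul_eq_mul]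
    exact Ideal.mul_mem_right _ _ hr
  · intro y z hy hz
    rw [map_add, Pi.add_apply]
    exact Ideal.add_mem _ hy hz

lemma Tm_map_mk_eq_one (p : (Fin d → R) →ₗ[R] N) (i : N →ₗ[R] (Fin d → R)) (φ : N →ₗ[R] N)
    (m : Ideal R) (hφ : ∀ n, φ n - n ∈ (m • ⊤ : Submodule R N)) :
    (Tm p i φ).map (Ideal.Quotient.mk m) = 1 := by
  classical
  ext l l'
  rw [Matrix.map_apply, Tm_apply, map_add]
  have h1 : Ideal.Quotient.mk m (i (φ (p (Pi.single l' 1)) - p (Pi.single l' 1)) l) = 0 :=
    Ideal.Quotient.eq_zero_iff_mem.mpr (coord_mem_of_mem_smul_top m i (hφ _) l)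
  rw [h1, zero_add, Matrix.one_apply, Matrix.one_apply]
  split_ifs <;> simp

end Tm

section Bilin

variable {R : Type u} [CommRing R]

/-- **LG bilinear lemma.** -/
theorem exists_bijective_bilin (hR : LGRing.IsLGRing R) {N : Type w} [AddCommGroup N] [Module R N]
    [Module.Finite R N] [Module.Projective R N] {ι κ : Type} [Fintype ι] [Fintype κ]
    (θ : ι → κ → (N →ₗ[R] N))
    (h : ∀ (m : Ideal R) [m.IsMaximal], ∃ (x : ι → R) (y : κ → R),
      ∀ n, (∑ i, ∑ j, (x i * y j) • θ i j) n - n ∈ (m • ⊤ : Submodule R N)) :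
    ∃ (x : ι → R) (y : κ → R),
      Function.Bijective ⇑(∑ i, ∑ j, (x i * y j) • θ i j : N →ₗ[R] N) := by
  classical
  obtain ⟨d, p, i, -, -, hpi⟩ := Module.Finite.exists_comp_eq_id_of_projective R N
  let σ := ι ⊕ κ
  let P : Matrix (Fin d) (Fin d) (MvPolynomial σ R) := Matrix.of fun l l' =>
    ∑ i', ∑ j', X (Sum.inl i') * X (Sum.inr j') *
        C (i (θ i' j' (p (Pi.single l' 1))) l) +
      C ((1 : Matrix (Fin d) (Fin d) R) l l' - i (p (Pi.single l' 1)) l)
  let F : MvPolynomial σ R := P.det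
  have haeval : ∀ (s : σ → R), aeval s F =
      (Tm p i (∑ i', ∑ j', (s (Sum.inl i') * s (Sum.inr j')) • θ i' j')).det := by
    intro s
    have h1 : aeval s F = (aeval s).toRingHom F := rfl
    rw [h1]
    simp only [F]
    rw [RingHom.map_det]
    congr 1
    ext l l'
    rw [RingHom.mapMatrix_apply, Matrix.map_apply, Tm_apply]
    simp only [P, Matrix.of_apply, AlgHom.toRingHom_eq_coe, RingHom.coe_coe, map_add, map_sum,
      map_mul, aeval_X, aeval_C, Algebra.algebraMap_self, RingHom.id_apply, map_sub,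
      LinearMap.sum_apply, LinearMap.smul_apply, Pi.sub_apply, Finset.sum_apply, map_smul,
      Pi.smul_apply, smul_eq_mul]
    ring
  have hres : ∀ (m : Ideal R) [m.IsMaximal], LGRing.RepresentsUnit F (R ⧸ m) := by
    intro m hm
    obtain ⟨x, y, hxy⟩ := h m
    refine ⟨algebraMap R (R ⧸ m) ∘ Sum.elim x y, ?_⟩
    rw [aeval_algebraMap_apply, haeval]
    have h2 := Tm_map_mk_eq_one p i (∑ i', ∑ j', (x i' * y j') • θ i' j') m hxy
    have h3 : algebraMap R (R ⧸ m) (Tm p i (∑ i', ∑ j', (x i' * y j') • θ i' j')).det = 1 := by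
      show (Ideal.Quotient.mk m) _ = 1
      rw [RingHom.map_det, RingHom.mapMatrix_apply, h2, Matrix.det_one]
    simp only [Sum.elim_inl, Sum.elim_inr]
    rw [h3]
    exact isUnit_one
  obtain ⟨s, hs⟩ := Groth.Agent.S16597.of_fintype hR F hres
  rw [haeval] at hs
  exact ⟨fun i' => s (Sum.inl i'), fun j' => s (Sum.inr j'),
    bijective_of_isUnit_det_Tm p i hpi _ hs⟩

end Bilin

section Modules

variable {R : Type u} [CommRing R] {Λ : Type v} [Ring Λ] [Algebra R Λ]
  {M : Type w} {N : Type w'} [AddCommGroup M] [Module Λ M] [Module R M] [IsScalarTower R Λ M]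
  [AddCommGroup N] [Module Λ N] [Module R N] [IsScalarTower R Λ N]

/-- finite-family version of the lifting theorem -/
theorem exists_bijective_comp_of_families (hR : LGRing.IsLGRing R) [Module.Finite R N]
    [Module.Projective R N] {ι κ : Type} [Fintype ι] [Fintype κ] (F : ι → (M →ₗ[Λ] N))
    (G : κ → (N →ₗ[Λ] M))
    (h : ∀ (m : Ideal R) [m.IsMaximal], ∃ (x : ι → R) (y : κ → R),
      ∀ n, (∑ i, x i • F i) ((∑ j, y j • G j) n) - n ∈ (m • ⊤ : Submodule R N)) :
    ∃ (f : M →ₗ[Λ] N) (g : N →ₗ[Λ] M), Function.Bijective (f ∘ g) := by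
  classical
  let θ : ι → κ → (N →ₗ[R] N) := fun i j =>
    (F i).restrictScalars R ∘ₗ (G j).restrictScalars R
  have key : ∀ (x : ι → R) (y : κ → R) (n : N),
      (∑ i, x i • F i) ((∑ j, y j • G j) n) = (∑ i, ∑ j, (x i * y j) • θ i j) n := by
    intro x y n
    simp only [LinearMap.sum_apply, LinearMap.smul_apply, map_sum, θ, LinearMap.comp_apply,
      LinearMap.restrictScalars_apply, LinearMap.map_smul_of_tower, smul_smul]
    exact Finset.sum_comm
  obtain ⟨x, y, hxy⟩ := exists_bijective_bilin hR θ (by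
    intro m hm
    obtain ⟨x, y, hxy⟩ := h m
    exact ⟨x, y, fun n => by rw [← key]; exact hxy n⟩)
  refine ⟨∑ i, x i • F i, ∑ j, y j • G j, ?_⟩
  have : (⇑(∑ i, x i • F i) ∘ ⇑(∑ j, y j • G j)) = ⇑(∑ i, ∑ j, (x i * y j) • θ i j) := by
    funext n
    exact key x y n
  rw [this]
  exact hxy

omit [Module R M] [IsScalarTower R Λ M] in
/-- `Hom_Λ(M, N)` is spanned over `R` by a finite family when `M` is f.g. projective over `Λ` and
`N` is finite over `R`. -/
theorem exists_spanning_family [Module.Finite Λ M] [Module.Projective Λ M] [Module.Finite R N] :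
    ∃ (a c : ℕ) (F : Fin a × Fin c → (M →ₗ[Λ] N)),
      ∀ f : M →ₗ[Λ] N, ∃ x : Fin a × Fin c → R, f = ∑ i, x i • F i := by
  classical
  obtain ⟨a, p, i, -, -, hpi⟩ := Module.Finite.exists_comp_eq_id_of_projective Λ M
  obtain ⟨c, ν, hν⟩ := Module.Finite.exists_fin (R := R) (M := N)
  have hpi' : ∀ x, p (i x) = x := fun x => by
    have := congrArg (fun f => f x) hpi
    simpa using this
  have hrec : ∀ x : M, x = ∑ l, i x l • p (Pi.single l 1) := by
    intro x
    conv_lhs => rw [← hpi' x]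
    have h2 : i x = ∑ l, (i x l) • (Pi.single l (1 : Λ) : Fin a → Λ) := by
      funext j
      simp [Finset.sum_apply, Pi.single_apply]
    conv_lhs => rw [h2]
    rw [map_sum]
    refine Finset.sum_congr rfl fun l _ => ?_
    rw [map_smul]
  refine ⟨a, c, fun lt => ((LinearMap.proj lt.1) ∘ₗ i).smulRight (ν lt.2), ?_⟩
  intro f
  have hgen : ∀ y : N, ∃ r : Fin c → R, ∑ t, r t • ν t = y := by
    intro y
    have : y ∈ Submodule.span R (Set.range ν) := by rw [hν]; trivial
    exact (Submodule.mem_span_range_iff_exists_fun R).mp this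
  choose r hr using fun l : Fin a => hgen (f (p (Pi.single l 1)))
  refine ⟨fun lt => r lt.1 lt.2, ?_⟩
  apply LinearMap.ext
  intro x
  conv_lhs => rw [hrec x]
  rw [map_sum, LinearMap.sum_apply, Fintype.sum_prod_type]
  refine Finset.sum_congr rfl fun l _ => ?_
  rw [map_smul, ← hr l, Finset.smul_sum]
  refine Finset.sum_congr rfl fun t _ => ?_
  rw [LinearMap.smul_apply, LinearMap.smulRight_apply, LinearMap.comp_apply, LinearMap.proj_apply,
    smul_comm]

/-- **Lifting theorem over LG-rings.** If at every maximal ideal `m` of the LG-ring `R` there are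
`Λ`-linear `f : M → N`, `g : N → M` with `f ∘ g ≡ id` modulo `m`, then there are `Λ`-linear
`f`, `g` with `f ∘ g` bijective. -/
theorem exists_bijective_comp (hR : LGRing.IsLGRing R) [Module.Finite Λ M] [Module.Projective Λ M]
    [Module.Finite Λ N] [Module.Projective Λ N] [Module.Finite R M] [Module.Finite R N]
    [Module.Projective R N]
    (h : ∀ (m : Ideal R) [m.IsMaximal], ∃ (f : M →ₗ[Λ] N) (g : N →ₗ[Λ] M),
      ∀ n, f (g n) - n ∈ (m • ⊤ : Submodule R N)) :
    ∃ (f : M →ₗ[Λ] N) (g : N →ₗ[Λ] M), Function.Bijective (f ∘ g) := by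
  obtain ⟨a, c, F, hF⟩ := exists_spanning_family (R := R) (Λ := Λ) (M := M) (N := N)
  obtain ⟨a', c', G, hG⟩ := exists_spanning_family (R := R) (Λ := Λ) (M := N) (N := M)
  refine exists_bijective_comp_of_families hR F G ?_
  intro m hm
  obtain ⟨f, g, hfg⟩ := h m
  obtain ⟨x, hx⟩ := hF f
  obtain ⟨y, hy⟩ := hG g
  exact ⟨x, y, fun n => by rw [← hx, ← hy]; exact hfg n⟩

end Modules

end Groth.Agent.R2.H78.LGLift
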