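import Mathlib
import Groth.Agent.R2.H78LGLift
import Groth.Agent.R2.H78AzuResidue

/-!
# Corner rings of Azumaya algebras over LG-rings and cancellation (helper78)
-/

set_option autoImplicit false
set_option linter.style.haveILetI false
universe u v v' w w'

namespace Groth.Agent.R2.H78.Corner

open TensorProduct

section LeftIdeal

variable {Λ : Type w} [Ring Λ]

/-- the left ideal `Λε` -/
def L (ε : Λ) : Submodule Λ Λ := LinearMap.range (LinearMap.toSpanSingleton Λ Λ ε)

lemma mem_L {ε l : Λ} : l ∈ L ε ↔ ∃ c, c * ε = l := by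
  simp [L, LinearMap.mem_range, LinearMap.toSpanSingleton_apply]

lemma mem_L_iff {ε : Λ} (hε : IsIdempotentElem ε) {l : Λ} : l ∈ L ε ↔ l * ε = l := by
  rw [mem_L]
  constructor
  · rintro ⟨c, rfl⟩
    rw [mul_assoc, hε.eq]
  · intro h
    exact ⟨l, h⟩

lemma self_mem_L {ε : Λ} : ε ∈ L ε := mem_L.mpr ⟨1, one_mul _⟩

instance finite_L (ε : Λ) : Module.Finite Λ (L ε) :=
  Module.Finite.of_surjective (LinearMap.toSpanSingleton Λ Λ ε).rangeRestrict
    (LinearMap.surjective_rangeRestrict _)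

lemma projective_L {ε : Λ} (hε : IsIdempotentElem ε) : Module.Projective Λ (L ε) := by
  refine Module.Projective.of_split (L ε).subtype
    (LinearMap.toSpanSingleton Λ Λ ε).rangeRestrict ?_
  apply LinearMap.ext
  intro z
  apply Subtype.ext
  have := (mem_L_iff hε).mp z.2
  show (z : Λ) • ε = z
  exact this

/-- from an isomorphism `Λε ≅ Λε'` of left modules: elements `x`, `y` -/
lemma exists_xy_of_equiv {ε ε' : Λ} (hε : IsIdempotentElem ε) (hε' : IsIdempotentElem ε')
    (φ : L ε ≃ₗ[Λ] L ε') :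
    ∃ x y : Λ, x * y = ε ∧ y * x = ε' ∧ ε * x = x ∧ y * ε = y := by
  let x : Λ := (φ ⟨ε, self_mem_L⟩ : Λ)
  let y : Λ := (φ.symm ⟨ε', self_mem_L⟩ : Λ)
  have hyε : y * ε = y := (mem_L_iff hε).mp (φ.symm ⟨ε', self_mem_L⟩).2
  have hxε' : x * ε' = x := (mem_L_iff hε').mp (φ ⟨ε, self_mem_L⟩).2
  refine ⟨x, y, ?_, ?_, ?_, hyε⟩
  · -- x * y = ε
    have h1 : (x • (φ.symm ⟨ε', self_mem_L⟩) : L ε) = φ.symm (x • ⟨ε', self_mem_L⟩) :=
      (map_smul φ.symm x _).symm
    have h2 : (x • (⟨ε', self_mem_L⟩ : L ε') : L ε') = φ ⟨ε, self_mem_L⟩ := by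
      apply Subtype.ext
      exact hxε'
    rw [h2, LinearEquiv.symm_apply_apply] at h1
    exact congrArg Subtype.val h1
  · have h1 : (y • (φ ⟨ε, self_mem_L⟩) : L ε') = φ (y • ⟨ε, self_mem_L⟩) :=
      (map_smul φ y _).symm
    have h2 : (y • (⟨ε, self_mem_L⟩ : L ε) : L ε) = φ.symm ⟨ε', self_mem_L⟩ := by
      apply Subtype.ext
      exact hyε
    rw [h2, LinearEquiv.apply_symm_apply] at h1
    exact congrArg Subtype.val h1
  · have h1 : (ε • (φ ⟨ε, self_mem_L⟩) : L ε') = φ (ε • ⟨ε, self_mem_L⟩) :=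
      (map_smul φ ε _).symm
    have h2 : (ε • (⟨ε, self_mem_L⟩ : L ε) : L ε) = ⟨ε, self_mem_L⟩ := by
      apply Subtype.ext
      exact hε.eq
    rw [h2] at h1
    exact congrArg Subtype.val h1

end LeftIdeal

section Transfer

variable {R : Type u} [CommRing R] {Λ : Type w} [Ring Λ] [Algebra R Λ]
  {A : Type v} [Ring A] [Algebra R A] {B : Type v'} [Ring B] [Algebra R B]

/-- **corner transfer** -/
theorem corner_algEquiv (ιA : A →ₗ[R] Λ) (ιB : B →ₗ[R] Λ)
    (hmA : ∀ a a', ιA (a * a') = ιA a * ιA a') (hiA : Function.Injective ιA)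
    (hrA : ∀ l, ∃ a, ιA a = ιA 1 * l * ιA 1)
    (hmB : ∀ b b', ιB (b * b') = ιB b * ιB b') (hiB : Function.Injective ιB)
    (hrB : ∀ l, ∃ b, ιB b = ιB 1 * l * ιB 1)
    (x y : Λ) (hxy : x * y = ιA 1) (hyx : y * x = ιB 1) (hεx : ιA 1 * x = x)
    (hyε : y * ιA 1 = y) : Nonempty (A ≃ₐ[R] B) := by
  have hxε' : x * ιB 1 = x := by rw [← hyx, ← mul_assoc, hxy, hεx]
  have hε'y : ιB 1 * y = y := by rw [← hyx, mul_assoc, hxy, hyε]
  have hAl : ∀ a, ιA 1 * ιA a = ιA a := fun a => by rw [← hmA, one_mul]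
  have hAr : ∀ a, ιA a * ιA 1 = ιA a := fun a => by rw [← hmA, mul_one]
  have hBl : ∀ b, ιB 1 * ιB b = ιB b := fun b => by rw [← hmB, one_mul]
  have hBr : ∀ b, ιB b * ιB 1 = ιB b := fun b => by rw [← hmB, mul_one]
  have hex : ∀ a : A, ∃ b : B, ιB b = y * ιA a * x := by
    intro a
    obtain ⟨b, hb⟩ := hrB (y * ιA a * x)
    refine ⟨b, ?_⟩
    rw [hb]
    calc ιB 1 * (y * ιA a * x) * ιB 1 = (ιB 1 * y) * ιA a * (x * ιB 1) := by
          simp only [mul_assoc]
      _ = y * ιA a * x := by rw [hε'y, hxε']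
  have hex' : ∀ b : B, ∃ a : A, ιA a = x * ιB b * y := by
    intro b
    obtain ⟨a, ha⟩ := hrA (x * ιB b * y)
    refine ⟨a, ?_⟩
    rw [ha]
    calc ιA 1 * (x * ιB b * y) * ιA 1 = (ιA 1 * x) * ιB b * (y * ιA 1) := by
          simp only [mul_assoc]
      _ = x * ιB b * y := by rw [hεx, hyε]
  choose ψ hψ using hex
  choose ψ' hψ' using hex'
  let ψl : A →ₗ[R] B :=
    { toFun := ψ
      map_add' := fun a a' => by
        apply hiB
        rw [map_add, hψ, hψ, hψ, map_add, mul_add, add_mul]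
      map_smul' := fun r a => by
        apply hiB
        rw [map_smul, hψ, hψ, map_smul, RingHom.id_apply, mul_smul_comm, smul_mul_assoc] }
  have hone : ψ 1 = 1 := by
    apply hiB
    rw [hψ, mul_assoc, hεx, hyx]
  have hmul : ∀ a a', ψ (a * a') = ψ a * ψ a' := by
    intro a a'
    apply hiB
    rw [hmB, hψ, hψ, hψ, hmA]
    calc y * (ιA a * ιA a') * x = y * (ιA a * ιA 1) * ιA a' * x := by
          rw [hAr]; simp only [mul_assoc]
      _ = y * ιA a * (x * y) * ιA a' * x := by rw [hxy]; simp only [mul_assoc]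
      _ = y * ιA a * x * (y * ιA a' * x) := by simp only [mul_assoc]
  let ψa : A →ₐ[R] B := AlgHom.ofLinearMap ψl hone hmul
  have hinj : Function.Injective ψa := by
    rw [injective_iff_map_eq_zero]
    intro a ha
    have h1 : ιB (ψ a) = 0 := by
      have : ψ a = 0 := ha
      rw [this, map_zero]
    rw [hψ] at h1
    apply hiA
    rw [map_zero]
    calc ιA a = ιA 1 * ιA a * ιA 1 := by rw [hAl, hAr]
      _ = x * (y * ιA a * x) * y := by rw [← hxy]; simp only [mul_assoc]
      _ = 0 := by rw [h1, mul_zero, zero_mul]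
  have hsurj : Function.Surjective ψa := by
    intro b
    refine ⟨ψ' b, ?_⟩
    apply hiB
    show ιB (ψ (ψ' b)) = ιB b
    rw [hψ, hψ']
    calc y * (x * ιB b * y) * x = (y * x) * ιB b * (y * x) := by simp only [mul_assoc]
      _ = ιB b := by rw [hyx, hBl, hBr]
  exact ⟨AlgEquiv.ofBijective ψa ⟨hinj, hsurj⟩⟩

end Transfer

section Cancel

variable {R : Type u} [CommRing R] {Λ : Type w} [Ring Λ] [Algebra R Λ] [IsAzumaya R Λ]

/-- over an LG-ring, left ideals `Λε`, `Λε'` of an Azumaya algebra generated by idempotents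
with the same rank function are isomorphic -/
theorem nonempty_equiv_L (hR : LGRing.IsLGRing R) {ε ε' : Λ} (hε : IsIdempotentElem ε)
    (hε' : IsIdempotentElem ε')
    (hrk : ∀ p : PrimeSpectrum R, Module.rankAtStalk (L ε) p = Module.rankAtStalk (L ε') p) :
    Nonempty (L ε ≃ₗ[Λ] L ε') := by
  haveI : Module.Projective Λ (L ε) := projective_L hε
  haveI : Module.Projective Λ (L ε') := projective_L hε'
  haveI : Module.Finite R (L ε) := Module.Finite.trans Λ (L ε)
  haveI : Module.Finite R (L ε') := Module.Finite.trans Λ (L ε')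
  haveI : Module.Projective R (L ε) := AzuResidue.projective_of_tower R Λ (L ε)
  haveI : Module.Projective R (L ε') := AzuResidue.projective_of_tower R Λ (L ε')
  obtain ⟨f, g, hfg⟩ := LGLift.exists_bijective_comp (Λ := Λ) (M := L ε) (N := L ε') hR
    (fun m hm => AzuResidue.exists_maps_mod m (L ε) (L ε') (le_of_eq (hrk _).symm))
  have hs : Function.Surjective f := Function.Surjective.of_comp hfg.surjective
  have hb : Function.Bijective (f.restrictScalars R) :=
    Module.bijective_of_surjective_of_rankAtStalk_eq (φ := f.restrictScalars R) hs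
      (fun m _ => hrk ⟨m, _⟩)
  exact ⟨LinearEquiv.ofBijective f hb⟩

variable {A : Type v} [Ring A] [Algebra R A] {B : Type v'} [Ring B] [Algebra R B]

/-- **abstract cancellation**: two algebras realised as corners `εΛε`, `ε'Λε'` of an Azumaya
algebra `Λ` over an LG-ring, with `Λε`, `Λε'` of the same rank, are isomorphic. -/
theorem nonempty_algEquiv_of_corners (hR : LGRing.IsLGRing R) (ιA : A →ₗ[R] Λ) (ιB : B →ₗ[R] Λ)
    (hmA : ∀ a a', ιA (a * a') = ιA a * ιA a') (hiA : Function.Injective ιA)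
    (hrA : ∀ l, ∃ a, ιA a = ιA 1 * l * ιA 1)
    (hmB : ∀ b b', ιB (b * b') = ιB b * ιB b') (hiB : Function.Injective ιB)
    (hrB : ∀ l, ∃ b, ιB b = ιB 1 * l * ιB 1)
    (hrk : ∀ p : PrimeSpectrum R,
      Module.rankAtStalk (L (ιA 1)) p = Module.rankAtStalk (L (ιB 1)) p) :
    Nonempty (A ≃ₐ[R] B) := by
  have hε : IsIdempotentElem (ιA 1) := by
    show ιA 1 * ιA 1 = ιA 1
    rw [← hmA, one_mul]
  have hε' : IsIdempotentElem (ιB 1) := by
    show ιB 1 * ιB 1 = ιB 1
    rw [← hmB, one_mul]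
  obtain ⟨φ⟩ := nonempty_equiv_L hR hε hε' hrk
  obtain ⟨x, y, hxy, hyx, hεx, hyε⟩ := exists_xy_of_equiv hε hε' φ
  exact corner_algEquiv ιA ιB hmA hiA hrA hmB hiB hrB x y hxy hyx hεx hyε

omit [IsAzumaya R Λ] in
/-- rank of `Λε` via a retraction datum -/
theorem rankAtStalk_L_eq {V : Type w'} [AddCommGroup V] [Module R V] (ε : Λ)
    (i : V →ₗ[R] Λ) (p : Λ →ₗ[R] V) (hpi : ∀ v, p (i v) = v) (hip : ∀ l, i (p l) = l * ε) :
    Module.rankAtStalk (R := R) (L ε) = Module.rankAtStalk (R := R) V := by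
  have hmem : ∀ v, i v ∈ L ε := by
    intro v
    rw [mem_L]
    exact ⟨i v, by rw [← hip, hpi]⟩
  have hεε : ε * ε = ε := by
    have h1 : i (p 1) = ε := by rw [hip, one_mul]
    have hpe : p ε = p 1 := by
      conv_lhs => rw [← h1]
      exact hpi _
    have h2 := hip ε
    rw [hpe, h1] at h2
    exact h2.symm
  let e : V ≃ₗ[R] L ε :=
    { toFun := fun v => ⟨i v, hmem v⟩
      map_add' := fun v v' => by apply Subtype.ext; simp
      map_smul' := fun r v => by apply Subtype.ext; simp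
      invFun := fun z => p z.1
      left_inv := fun v => hpi v
      right_inv := fun z => by
        apply Subtype.ext
        obtain ⟨c, hc⟩ := mem_L.mp z.2
        show i (p z.1) = z.1
        rw [hip, ← hc, mul_assoc, hεε] }
  exact (Module.rankAtStalk_eq_of_equiv e).symm

end Cancel

section Datum

variable (R : Type u) [CommRing R]

/-- an algebra `A` realised as a corner `εΛε` together with a module `V` realising `Λε` -/
structure CornerDatum (A : Type v) [Ring A] [Algebra R A] (Λ : Type w) [Ring Λ] [Algebra R Λ]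
    (V : Type w') [AddCommGroup V] [Module R V] where
  ι : A →ₗ[R] Λ
  i : V →ₗ[R] Λ
  p : Λ →ₗ[R] V
  hm : ∀ a a', ι (a * a') = ι a * ι a'
  hi : Function.Injective ι
  hr : ∀ l, ∃ a, ι a = ι 1 * l * ι 1
  hpi : ∀ v, p (i v) = v
  hip : ∀ l, i (p l) = l * ι 1

variable {R}

/-- transport a corner datum along an algebra isomorphism -/
def CornerDatum.trans {A : Type v} [Ring A] [Algebra R A] {Λ₁ : Type w} [Ring Λ₁] [Algebra R Λ₁]
    {Λ₂ : Type w} [Ring Λ₂] [Algebra R Λ₂] {V : Type w'} [AddCommGroup V] [Module R V]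
    (D : CornerDatum R A Λ₁ V) (e : Λ₁ ≃ₐ[R] Λ₂) : CornerDatum R A Λ₂ V where
  ι := e.toLinearMap ∘ₗ D.ι
  i := e.toLinearMap ∘ₗ D.i
  p := D.p ∘ₗ e.symm.toLinearMap
  hm := fun a a' => by simp [D.hm]
  hi := e.injective.comp D.hi
  hr := fun l => by
    obtain ⟨a, ha⟩ := D.hr (e.symm l)
    refine ⟨a, ?_⟩
    simp [ha]
  hpi := fun v => by simp [D.hpi]
  hip := fun l => by simp [D.hip]

theorem nonempty_algEquiv_of_data (hR : LGRing.IsLGRing R) {Λ : Type w} [Ring Λ] [Algebra R Λ]
    [IsAzumaya R Λ] {A : Type v} [Ring A] [Algebra R A] {B : Type v'} [Ring B] [Algebra R B]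
    {VA : Type w'} [AddCommGroup VA] [Module R VA] {VB : Type w'} [AddCommGroup VB] [Module R VB]
    (DA : CornerDatum R A Λ VA) (DB : CornerDatum R B Λ VB)
    (hrk : ∀ p : PrimeSpectrum R, Module.rankAtStalk VA p = Module.rankAtStalk VB p) :
    Nonempty (A ≃ₐ[R] B) := by
  refine nonempty_algEquiv_of_corners hR DA.ι DB.ι DA.hm DA.hi DA.hr DB.hm DB.hi DB.hr ?_
  intro p
  rw [rankAtStalk_L_eq (DA.ι 1) DA.i DA.p DA.hpi DA.hip,
    rankAtStalk_L_eq (DB.ι 1) DB.i DB.p DB.hpi DB.hip]
  exact hrk p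

end Datum

section RankOne

variable {R : Type u} [CommRing R] {P : Type w'} [AddCommGroup P] [Module R P]
  (u : P) (f : Module.Dual R P)

/-- the rank one projection `x ↦ f x • u` -/
def eP : Module.End R P := f.smulRight u

/-- `q ↦ (x ↦ f x • q)` -/
def iP : P →ₗ[R] Module.End R P := LinearMap.smulRightₗ f

/-- `φ ↦ φ u` -/
def pP : Module.End R P →ₗ[R] P := LinearMap.applyₗ u

variable {u f}

lemma pP_iP (hfu : f u = 1) (q : P) : pP u (iP f q) = q := by
  simp [pP, iP, hfu]

lemma iP_pP (φ : Module.End R P) : iP f (pP u φ) = φ * eP u f := by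
  apply LinearMap.ext
  intro x
  simp [pP, iP, eP, Module.End.mul_apply]

lemma eP_mul_mul (φ : Module.End R P) : eP u f * φ * eP u f = f (φ u) • eP u f := by
  apply LinearMap.ext
  intro x
  simp [eP, Module.End.mul_apply, smul_smul, mul_comm]

lemma eP_idem (hfu : f u = 1) : eP u f * eP u f = eP u f := by
  apply LinearMap.ext
  intro x
  simp [eP, Module.End.mul_apply, hfu]

lemma f_pP_eP (hfu : f u = 1) : f (pP u (eP u f)) = 1 := by
  simp [pP, eP, hfu]

end RankOne

section TensorEnd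

variable {R : Type u} [CommRing R] (A : Type v) [Ring A] [Algebra R A]
  {P : Type w'} [AddCommGroup P] [Module R P] {u : P} {f : Module.Dual R P}

/-- `A` as a corner of `A ⊗ End_R(P)` via a rank one projection of `P` -/
noncomputable def tensorEndDatum (hfu : f u = 1) :
    CornerDatum R A (A ⊗[R] Module.End R P) (A ⊗[R] P) where
  ι := (TensorProduct.mk R A (Module.End R P)).flip (eP u f)
  i := LinearMap.lTensor A (iP f)
  p := LinearMap.lTensor A (pP u)
  hm := fun a a' => by
    simp only [LinearMap.flip_apply, TensorProduct.mk_apply, Algebra.TensorProduct.tmul_mul_tmul,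
      eP_idem hfu]
  hi := by
    have hl : Function.LeftInverse
        ((TensorProduct.rid R A).toLinearMap ∘ₗ LinearMap.lTensor A (f ∘ₗ pP u))
        ((TensorProduct.mk R A (Module.End R P)).flip (eP u f)) := by
      intro a
      simp only [LinearMap.flip_apply, TensorProduct.mk_apply, LinearMap.comp_apply,
        LinearMap.lTensor_tmul, LinearEquiv.coe_coe, TensorProduct.rid_tmul]
      rw [f_pP_eP hfu, one_smul]
    exact hl.injective
  hr := fun l => by
    simp only [LinearMap.flip_apply, TensorProduct.mk_apply]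
    induction l using TensorProduct.induction_on with
    | zero => exact ⟨0, by simp⟩
    | tmul a φ =>
      refine ⟨f (φ u) • a, ?_⟩
      rw [Algebra.TensorProduct.tmul_mul_tmul, Algebra.TensorProduct.tmul_mul_tmul, one_mul,
        mul_one, eP_mul_mul, TensorProduct.tmul_smul, TensorProduct.smul_tmul']
    | add l l' hl hl' =>
      obtain ⟨a, ha⟩ := hl
      obtain ⟨a', ha'⟩ := hl'
      refine ⟨a + a', ?_⟩
      rw [TensorProduct.add_tmul, ha, ha', mul_add, add_mul]
  hpi := fun v => by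
    rw [← LinearMap.comp_apply, ← LinearMap.lTensor_comp]
    have : pP u ∘ₗ iP f = LinearMap.id := LinearMap.ext (pP_iP hfu)
    rw [this, LinearMap.lTensor_id, LinearMap.id_apply]
  hip := fun l => by
    simp only [LinearMap.flip_apply, TensorProduct.mk_apply]
    induction l using TensorProduct.induction_on with
    | zero => simp
    | tmul a φ =>
      rw [LinearMap.lTensor_tmul, LinearMap.lTensor_tmul, iP_pP,
        Algebra.TensorProduct.tmul_mul_tmul, mul_one]
    | add l l' hl hl' =>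
      rw [map_add, map_add, hl, hl', add_mul]

end TensorEnd

end Groth.Agent.R2.H78.Corner
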