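import Mathlib
import Groth.Agent.R2.H78Corner
import Groth.Agent.Lib.LeadAzumaya
import Groth.Agent.S16598
import Groth.Agent.S19587
import Groth.Agent.S19589

/-!
# Cancellation for Azumaya algebras over LG-rings (helper78)
-/

set_option autoImplicit false
set_option linter.style.haveILetI false
universe u v w

namespace Groth.Agent.R2.H78.Cancel

open TensorProduct Groth.Agent.R2.H78.Corner

section Rank

variable {R : Type u} [CommRing R] (P : Type w) [AddCommGroup P] [Module R P]
  [Module.Finite R P] [Module.Projective R P]

theorem finite_end : Module.Finite R (Module.End R P) :=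
  Module.Finite.equiv (dualTensorHomEquiv R P P)

theorem projective_end : Module.Projective R (Module.End R P) :=
  Module.Projective.of_equiv (dualTensorHomEquiv R P P)

theorem rankAtStalk_end (p : PrimeSpectrum R) :
    Module.rankAtStalk (Module.End R P) p = (Module.rankAtStalk P p) ^ 2 := by
  haveI := finite_end (R := R) P
  haveI := projective_end (R := R) P
  have hb := Groth.Agent.Lib.LeadAzumaya.tensorProductEnd_bijective (R := R)
    p.asIdeal.ResidueField P
  let eq : p.asIdeal.ResidueField ⊗[R] Module.End R P ≃ₗ[p.asIdeal.ResidueField]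
      Module.End p.asIdeal.ResidueField (p.asIdeal.ResidueField ⊗[R] P) :=
    LinearEquiv.ofBijective _ hb
  rw [Module.rankAtStalk_eq, Module.rankAtStalk_eq]
  show Module.finrank p.asIdeal.ResidueField (p.asIdeal.ResidueField ⊗[R] Module.End R P) = _
  rw [eq.finrank_eq, Module.finrank_linearMap, sq]

omit [Module.Finite R P] [Module.Projective R P] in
theorem rankAtStalk_pos_of_faithful [Module.Finite R P] [Module.Projective R P] [FaithfulSMul R P]
    (p : PrimeSpectrum R) : 0 < Module.rankAtStalk P p := by
  rw [Module.rankAtStalk_pos_iff_mem_support, Module.support_eq_zeroLocus,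
    Module.annihilator_eq_bot.mpr inferInstance]
  simp

end Rank

/-- **Cancellation core**: over an LG-ring, Azumaya algebras of the same rank which are Brauer
equivalent are isomorphic. -/
theorem core {R : Type u} [CommRing R] (hR : LGRing.IsLGRing R) (A B : Type v) [Ring A]
    [Algebra R A] [IsAzumaya R A] [Ring B] [Algebra R B] [IsAzumaya R B]
    (hdeg : ∀ p : PrimeSpectrum R, Module.rankAtStalk A p = Module.rankAtStalk B p)
    (P Q : Type w) [AddCommGroup P] [Module R P] [Module.Finite R P] [Module.Projective R P]
    [FaithfulSMul R P] [AddCommGroup Q] [Module R Q] [Module.Finite R Q] [Module.Projective R Q]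
    [FaithfulSMul R Q]
    (e : A ⊗[R] Module.End R P ≃ₐ[R] B ⊗[R] Module.End R Q) : Nonempty (A ≃ₐ[R] B) := by
  obtain ⟨uP, fP, hP⟩ := Groth.Agent.S16598.result hR P
  obtain ⟨uQ, fQ, hQ⟩ := Groth.Agent.S16598.result hR Q
  haveI : IsAzumaya R (Module.End R Q) := Groth.Agent.S19589.result R Q
  haveI : IsAzumaya R (B ⊗[R] Module.End R Q) := Groth.Agent.S19587.result R B (Module.End R Q)
  haveI := finite_end (R := R) P
  haveI := projective_end (R := R) P
  haveI := finite_end (R := R) Q
  haveI := projective_end (R := R) Q
  refine nonempty_algEquiv_of_data hR ((tensorEndDatum A hP).trans e) (tensorEndDatum B hQ) ?_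
  intro p
  have h1 := congrFun (Module.rankAtStalk_eq_of_equiv e.toLinearEquiv) p
  rw [Module.rankAtStalk_tensorProduct, Module.rankAtStalk_tensorProduct, Pi.mul_apply,
    Pi.mul_apply, rankAtStalk_end, rankAtStalk_end, hdeg p] at h1
  have hpos : 0 < Module.rankAtStalk B p := rankAtStalk_pos_of_faithful B p
  have h2 : Module.rankAtStalk P p ^ 2 = Module.rankAtStalk Q p ^ 2 :=
    Nat.eq_of_mul_eq_mul_left hpos h1
  have h3 : Module.rankAtStalk P p = Module.rankAtStalk Q p :=
    Nat.pow_left_injective (by norm_num : 2 ≠ 0) h2
  rw [Module.rankAtStalk_tensorProduct, Module.rankAtStalk_tensorProduct, Pi.mul_apply,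
    Pi.mul_apply, hdeg p, h3]

end Groth.Agent.R2.H78.Cancel
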