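import Mathlib
import Groth.Agent.Lib.Helper26Witt
import Groth.Agent.Lib.Helper27WittFilt

/-!
# Witt vectors of a square-zero ideal killed by `p` (helper78)

For an ideal `𝔟` of `S`, `WI 𝔟 = W(𝔟)` is the ideal of Witt vectors with all coefficients in `𝔟`.
If `𝔟² = 0` and `p𝔟 = 0`, then `F`, `p` and `I_S = V W(S)` kill `W(𝔟)`, Teichmüller representatives
are additive on `𝔟`, and the shift `ξ ↦ (ξ₁, ξ₂, …)` is additive and Frobenius-semilinear on `W(𝔟)`.
-/

set_option autoImplicit false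
universe u

namespace Groth.Agent.R2.H78.WittSq

open WittVector MvPolynomial

variable {p : ℕ} [hp : Fact p.Prime] {S : Type u} [CommRing S]

/-- `W(𝔟)` -/
noncomputable def WI (𝔟 : Ideal S) : Ideal (WittVector p S) :=
  RingHom.ker (WittVector.map (Ideal.Quotient.mk 𝔟) : WittVector p S →+* WittVector p (S ⧸ 𝔟))

lemma mem_WI {𝔟 : Ideal S} {ξ : WittVector p S} : ξ ∈ WI 𝔟 ↔ ∀ n, ξ.coeff n ∈ 𝔟 := by
  rw [WI, RingHom.mem_ker, WittVector.ext_iff]
  refine forall_congr' fun n => ?_
  rw [WittVector.map_coeff, WittVector.zero_coeff, Ideal.Quotient.eq_zero_iff_mem]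

lemma WI_bot : (WI ⊥ : Ideal (WittVector p S)) = ⊥ := by
  ext ξ
  rw [mem_WI, Ideal.mem_bot, WittVector.ext_iff]
  simp

lemma WI_mono {𝔟 𝔠 : Ideal S} (h : 𝔟 ≤ 𝔠) : (WI 𝔟 : Ideal (WittVector p S)) ≤ WI 𝔠 := by
  intro ξ hξ
  rw [mem_WI] at hξ ⊢
  exact fun n => h (hξ n)

lemma verschiebung_mem_WI {𝔟 : Ideal S} {ξ : WittVector p S} (hξ : ξ ∈ WI 𝔟) :
    verschiebung ξ ∈ WI 𝔟 := by
  rw [mem_WI] at hξ ⊢
  intro n
  cases n with
  | zero => rw [verschiebung_coeff_zero]; exact Ideal.zero_mem _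
  | succ n => rw [verschiebung_coeff_succ]; exact hξ n

lemma teichmuller_mem_WI {𝔟 : Ideal S} {a : S} (ha : a ∈ 𝔟) : teichmuller p a ∈ WI 𝔟 := by
  rw [mem_WI]
  intro n
  cases n with
  | zero => rw [teichmuller_coeff_zero]; exact ha
  | succ n => rw [teichmuller_coeff_pos p a _ (Nat.succ_pos n)]; exact Ideal.zero_mem _

lemma shift_mem_WI {𝔟 : Ideal S} {ξ : WittVector p S} (hξ : ξ ∈ WI 𝔟) : ξ.shift 1 ∈ WI 𝔟 := by
  rw [mem_WI] at hξ ⊢
  intro n
  rw [shift_coeff]
  exact hξ _

/-- `ξ = [ξ₀] + V(ξ₁, ξ₂, …)` -/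
lemma decomp (ξ : WittVector p S) :
    ξ = teichmuller p (ξ.coeff 0) + verschiebung (ξ.shift 1) := by
  ext n
  rw [coeff_add_of_disjoint]
  · cases n with
    | zero => rw [teichmuller_coeff_zero, verschiebung_coeff_zero, add_zero]
    | succ n =>
      rw [teichmuller_coeff_pos p _ _ (Nat.succ_pos n), verschiebung_coeff_succ, shift_coeff,
        zero_add, add_comm]
  · intro n
    cases n with
    | zero => right; exact verschiebung_coeff_zero _
    | succ n => left; exact teichmuller_coeff_pos p _ _ (Nat.succ_pos n)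

/-- uniqueness of the decomposition -/
lemma eq_of_decomp {a : S} {η ξ : WittVector p S} (h : ξ = teichmuller p a + verschiebung η) :
    a = ξ.coeff 0 ∧ η = ξ.shift 1 := by
  have h0 : ξ.coeff 0 = a := by
    have := congrArg (fun x => WittVector.constantCoeff x) h
    simp only [map_add, WittVector.constantCoeff_apply, teichmuller_coeff_zero,
      verschiebung_coeff_zero, add_zero] at this
    exact this
  refine ⟨h0.symm, ?_⟩
  have h1 := decomp ξ
  rw [h0] at h1
  have : verschiebung η = verschiebung (ξ.shift 1) := by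
    have h2 : teichmuller p a + verschiebung η = teichmuller p a + verschiebung (ξ.shift 1) := by
      rw [← h, ← h1]
    exact add_left_cancel h2
  exact verschiebung_injective _ _ this

/-- an integer polynomial without constant term takes values in any ideal containing the
arguments -/
lemma aeval_mem_of_constantCoeff_zero {σ : Type*} (φ : MvPolynomial σ ℤ)
    (h0 : constantCoeff φ = 0) (x : σ → S) (𝔟 : Ideal S) (hx : ∀ i, x i ∈ 𝔟) :
    aeval x φ ∈ 𝔟 := by
  classical
  rw [aeval_def, eval₂_eq]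
  apply Ideal.sum_mem
  intro d hd
  have hd0 : d ≠ 0 := by
    rintro rfl
    rw [mem_support_iff, ← constantCoeff_eq] at hd
    exact hd h0
  obtain ⟨i, hi⟩ : ∃ i, d i ≠ 0 := by
    by_contra hcon
    push Not at hcon
    exact hd0 (Finsupp.ext hcon)
  apply Ideal.mul_mem_left
  have him : i ∈ d.support := Finsupp.mem_support_iff.mpr hi
  rw [← Finset.mul_prod_erase _ _ him]
  apply Ideal.mul_mem_right
  obtain ⟨k, hk⟩ := Nat.exists_eq_succ_of_ne_zero hi
  rw [hk, pow_succ]
  exact Ideal.mul_mem_left _ _ (hx i)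

lemma constantCoeff_frobeniusPolyAux (n : ℕ) :
    constantCoeff (frobeniusPolyAux p n) = 0 := by
  have h1 := WittVector.coeff_frobenius (p := p) (0 : WittVector p ℤ) n
  rw [map_zero, WittVector.zero_coeff, frobeniusPoly] at h1
  have h2 : (fun n => (0 : WittVector p ℤ).coeff n) = fun _ => (0 : ℤ) := by
    funext k; exact WittVector.zero_coeff p ℤ k
  rw [show (0 : WittVector p ℤ).coeff = fun _ => (0 : ℤ) from h2, map_add, map_mul, map_pow,
    aeval_X, aeval_C, aeval_zero'] at h1
  have hp0 : (p : ℤ) ≠ 0 := by exact_mod_cast hp.out.ne_zero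
  have h3 : (0 : ℤ) ^ p = 0 := zero_pow hp.out.ne_zero
  rw [h3, zero_add] at h1
  simp only [algebraMap_int_eq, eq_intCast, Int.cast_id, Int.cast_natCast] at h1
  rcases mul_eq_zero.mp h1.symm with h | h
  · exact absurd h hp0
  · exact h

section Sq

variable {𝔟 : Ideal S} (h2 : ∀ a ∈ 𝔟, ∀ b ∈ 𝔟, a * b = 0) (hpb : ∀ a ∈ 𝔟, (p : S) * a = 0)

include h2 in
lemma pow_eq_zero_of_mem {a : S} (ha : a ∈ 𝔟) {k : ℕ} (hk : 2 ≤ k) : a ^ k = 0 := by
  obtain ⟨m, rfl⟩ := Nat.exists_eq_add_of_le hk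
  rw [pow_add, pow_two, h2 a ha a ha, zero_mul]

include h2 hpb in
/-- `F` kills `W(𝔟)` -/
lemma frobenius_eq_zero {ξ : WittVector p S} (hξ : ξ ∈ WI 𝔟) : frobenius ξ = 0 := by
  rw [mem_WI] at hξ
  ext n
  rw [WittVector.coeff_frobenius, frobeniusPoly, map_add, map_mul, map_pow, aeval_X, aeval_C,
    WittVector.zero_coeff, pow_eq_zero_of_mem h2 (hξ n) hp.out.two_le, zero_add]
  have h1 := aeval_mem_of_constantCoeff_zero (frobeniusPolyAux p n)
    (constantCoeff_frobeniusPolyAux n) ξ.coeff 𝔟 hξ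
  have := hpb _ h1
  simpa using this

include h2 hpb in
/-- `p` kills `W(𝔟)` -/
lemma mul_p_eq_zero {ξ : WittVector p S} (hξ : ξ ∈ WI 𝔟) : ξ * (p : WittVector p S) = 0 := by
  rw [← frobenius_verschiebung]
  exact frobenius_eq_zero h2 hpb (verschiebung_mem_WI hξ)

include h2 hpb in
/-- `I_S = V W(S)` kills `W(𝔟)` -/
lemma verschiebung_mul_eq_zero (w : WittVector p S) {ξ : WittVector p S} (hξ : ξ ∈ WI 𝔟) :
    verschiebung w * ξ = 0 := by
  rw [← verschiebung_mul_frobenius, frobenius_eq_zero h2 hpb hξ, mul_zero, map_zero]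

include h2 in
/-- Teichmüller representatives are additive on `𝔟` -/
lemma teichmuller_add {a b : S} (ha : a ∈ 𝔟) (hb : b ∈ 𝔟) :
    teichmuller p (a + b) = teichmuller p a + teichmuller p b := by
  ext n
  cases n with
  | zero =>
    rw [teichmuller_coeff_zero]
    show a + b = WittVector.constantCoeff (teichmuller p a + teichmuller p b)
    rw [RingHom.map_add, WittVector.constantCoeff_apply, WittVector.constantCoeff_apply,
      teichmuller_coeff_zero, teichmuller_coeff_zero]
  | succ n =>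
    rw [teichmuller_coeff_pos p _ _ (Nat.succ_pos n), WittVector.add_coeff]
    have hmem := Groth.Agent.Lib.Helper27.aeval_mem_of_isWeightedHomogeneous (A := S) (K := S)
      (fun j => (𝔟 ^ j : Ideal S)) (fun i : Fin 2 × ℕ => p ^ i.2)
      (Function.uncurry ![(teichmuller p a).coeff, (teichmuller p b).coeff])
      (by
        rintro ⟨i, k⟩ j y hy
        have hx : Function.uncurry ![(teichmuller p a).coeff, (teichmuller p b).coeff] (i, k) ∈
            (𝔟 ^ (p ^ k) : Ideal S) := by
          cases k with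
          | zero =>
            rw [pow_zero, pow_one]
            fin_cases i
            · simpa [teichmuller_coeff_zero] using ha
            · simpa [teichmuller_coeff_zero] using hb
          | succ k =>
            fin_cases i
            · simp [teichmuller_coeff_pos p a _ (Nat.succ_pos k)]
            · simp [teichmuller_coeff_pos p b _ (Nat.succ_pos k)]
        show _ * y ∈ (𝔟 ^ (p ^ k + j) : Ideal S)
        rw [pow_add]
        exact Ideal.mul_mem_mul hx hy)
      (by
        rintro ⟨i, k⟩ _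
        cases k with
        | zero =>
          show _ ∈ (𝔟 ^ (p ^ 0) : Ideal S)
          rw [pow_zero, pow_one]
          fin_cases i
          · simpa [teichmuller_coeff_zero] using ha
          · simpa [teichmuller_coeff_zero] using hb
        | succ k =>
          fin_cases i
          · simp [teichmuller_coeff_pos p a _ (Nat.succ_pos k)]
          · simp [teichmuller_coeff_pos p b _ (Nat.succ_pos k)])
      (WittVector.wittAdd p (n + 1)) (p ^ (n + 1)) (pow_pos hp.out.pos _)
      (Groth.Agent.Lib.Helper27.wittAdd_isWeightedHomogeneous p (n + 1))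
    have hle : (𝔟 ^ (p ^ (n + 1)) : Ideal S) ≤ ⊥ := by
      have h2' : (𝔟 ^ 2 : Ideal S) = ⊥ := by
        rw [pow_two, eq_bot_iff, Ideal.mul_le]
        intro a ha b hb
        rw [Ideal.mem_bot]
        exact h2 a ha b hb
      have hk : 2 ≤ p ^ (n + 1) := by
        calc 2 ≤ p := hp.out.two_le
          _ = p ^ 1 := (pow_one p).symm
          _ ≤ p ^ (n + 1) := Nat.pow_le_pow_right hp.out.pos (by omega)
      calc (𝔟 ^ (p ^ (n + 1)) : Ideal S) ≤ 𝔟 ^ 2 := Ideal.pow_le_pow_right hk
        _ = ⊥ := h2'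
    have := hle hmem
    rw [Ideal.mem_bot] at this
    exact this.symm

include h2 in
/-- `w * [a] = [w₀ a]` for `a ∈ 𝔟` -/
lemma mul_teichmuller (w : WittVector p S) {a : S} (ha : a ∈ 𝔟) :
    w * teichmuller p a = teichmuller p (w.coeff 0 * a) := by
  ext n
  rw [Groth.Agent.Lib.Helper26.coeff_mul_teichmuller]
  cases n with
  | zero => rw [teichmuller_coeff_zero, pow_zero, pow_one]
  | succ n =>
    have hk : 2 ≤ p ^ (n + 1) := by
      calc 2 ≤ p := hp.out.two_le
        _ = p ^ 1 := (pow_one p).symm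
        _ ≤ p ^ (n + 1) := Nat.pow_le_pow_right hp.out.pos (by omega)
    rw [teichmuller_coeff_pos p _ _ (Nat.succ_pos n), pow_eq_zero_of_mem h2 ha hk, mul_zero]

include h2 in
/-- the shift is additive on `W(𝔟)` -/
lemma shift_add {ξ ξ' : WittVector p S} (hξ : ξ ∈ WI 𝔟) (hξ' : ξ' ∈ WI 𝔟) :
    (ξ + ξ').shift 1 = ξ.shift 1 + ξ'.shift 1 := by
  have h0 : ξ.coeff 0 ∈ 𝔟 := mem_WI.mp hξ 0
  have h0' : ξ'.coeff 0 ∈ 𝔟 := mem_WI.mp hξ' 0
  have h : ξ + ξ' = teichmuller p (ξ.coeff 0 + ξ'.coeff 0) +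
      verschiebung (ξ.shift 1 + ξ'.shift 1) := by
    conv_lhs => rw [decomp ξ, decomp ξ']
    rw [teichmuller_add h2 h0 h0', map_add]
    abel
  exact (eq_of_decomp h).2.symm

include h2 in
/-- the shift is Frobenius-semilinear on `W(𝔟)` -/
lemma shift_mul (w : WittVector p S) {ξ : WittVector p S} (hξ : ξ ∈ WI 𝔟) :
    (w * ξ).shift 1 = frobenius w * ξ.shift 1 := by
  have h0 : ξ.coeff 0 ∈ 𝔟 := mem_WI.mp hξ 0
  have h : w * ξ = teichmuller p (w.coeff 0 * ξ.coeff 0) +
      verschiebung (frobenius w * ξ.shift 1) := by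
    conv_lhs => rw [decomp ξ]
    rw [mul_add, mul_teichmuller h2 w h0, mul_comm (frobenius w), verschiebung_mul_frobenius,
      mul_comm w]
  exact (eq_of_decomp h).2.symm

end Sq

end Groth.Agent.R2.H78.WittSq
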