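import Mathlib
import Groth.Prelude.Def_Disp2
import Groth.Agent.Lib.Helper14Disp2
import Groth.Agent.R2.H78WittSq
import Groth.Agent.S16538

/-!
# Rigidity of homomorphisms of displays, square-zero step (helper78)

* `LemmaN`: abstract nilpotence argument. If `β : P → N` is linear into a module `N` killed by
  `I + (p)`, `Φ : N → N` is Frobenius-semilinear and `β ∘ V⁻¹ = Φ ∘ β` on `Q`, then
  `β = Φ^{n} β ∘ V^{n#}` for all `n`, hence `β = 0` for a display.
-/

set_option autoImplicit false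
universe u v w

namespace Groth.Agent.R2.H78.DispRigid

open Dieu WittVector
open Groth.Agent.Lib.Helper14.Disp

section LemmaN

variable {A : Type u} [CommRing A] (σ : A →+* A) {P : Type v} [AddCommGroup P] [Module A P]
  {N : Type w} [AddCommGroup N] [Module A N]

/-- `Φ ∘ g` as a `σ ∘ ρ`-semilinear map -/
noncomputable def Gstep (Φ : N →ₛₗ[σ] N) {ρ : A →+* A} (g : P →ₛₗ[ρ] N) : P →ₛₗ[σ.comp ρ] N where
  toFun := fun x => Φ (g x)
  map_add' := fun x y => by rw [map_add, map_add]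
  map_smul' := fun a x => by rw [map_smulₛₗ, map_smulₛₗ]; rfl

lemma Gstep_apply (Φ : N →ₛₗ[σ] N) {ρ : A →+* A} (g : P →ₛₗ[ρ] N) (x : P) :
    Gstep σ Φ g x = Φ (g x) := rfl

/-- `Φ ∘ β` as a `σ`-semilinear map -/
noncomputable def G0 (Φ : N →ₛₗ[σ] N) (β : P →ₗ[A] N) : P →ₛₗ[σ] N where
  toFun := fun x => Φ (β x)
  map_add' := fun x y => by rw [map_add, map_add]
  map_smul' := fun a x => by rw [map_smul, map_smulₛₗ]

lemma G0_apply (Φ : N →ₛₗ[σ] N) (β : P →ₗ[A] N) (x : P) : G0 σ Φ β x = Φ (β x) := rfl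

/-- `G n x = Φ^{n+1} (β x)`, as a `τ σ n = σ^{n+1}`-semilinear map -/
noncomputable def G (Φ : N →ₛₗ[σ] N) (β : P →ₗ[A] N) : (n : ℕ) → (P →ₛₗ[τ σ n] N)
  | 0 => G0 σ Φ β
  | n + 1 => Gstep σ Φ (G Φ β n)

/-- `Λ' (push v) = Φ (Λ v)` -/
lemma lift_push (Φ : N →ₛₗ[σ] N) {ρ : A →+* A} (g : P →ₛₗ[ρ] N) (v : BC ρ P) :
    BC.lift (σ.comp ρ) (Gstep σ Φ g) (BC.push ρ σ v) = Φ (BC.lift ρ g v) := by
  induction v using BC.induction_on ρ with
  | zero => rw [map_zero, map_zero, map_zero, map_zero]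
  | tmul b x =>
    rw [BC.push_tmul, BC.lift_tmul, BC.lift_tmul, map_smulₛₗ, Gstep_apply]
  | add z₁ z₂ h₁ h₂ =>
    rw [map_add, map_add, map_add, map_add, h₁, h₂]

lemma lift_inner (Φ : N →ₛₗ[σ] N) (β : P →ₗ[A] N) {ρ : A →+* A} (g : P →ₛₗ[ρ] N)
    (ψ : P →ₗ[A] BC ρ P) (hψ : ∀ y, BC.lift ρ g (ψ y) = β y) (u : BC σ P) :
    BC.lift (σ.comp ρ) (Gstep σ Φ g) (inner σ ρ ψ u) = BC.lift σ (G0 σ Φ β) u := by
  induction u using BC.induction_on σ with
  | zero => rw [map_zero, map_zero, map_zero]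
  | tmul b y =>
    rw [inner_tmul, map_smul, lift_push, hψ, BC.lift_tmul, G0_apply]
  | add z₁ z₂ h₁ h₂ =>
    rw [map_add, map_add, map_add, h₁, h₂]

end LemmaN

section LemmaN2

variable {p : ℕ} [Fact p.Prime] {S : Type u} [CommRing S]
  {P : Type v} [AddCommGroup P] [Module (WittVector p S) P]
  {N : Type w} [AddCommGroup N] [Module (WittVector p S) N]

variable (D : W4c1extbt610.Display3n p S P)
  (Vs : P →ₗ[WittVector p S] BC (WittVector.frobenius : WittVector p S →+* WittVector p S) P)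
  (hVs : IsVSharp D Vs)
  (Φ : N →ₛₗ[(WittVector.frobenius : WittVector p S →+* WittVector p S)] N)
  (β : P →ₗ[WittVector p S] N)
  (hβ : ∀ y : D.Q, β (D.Vinv y) = Φ (β y))

local notation "σS" => (WittVector.frobenius : WittVector p S →+* WittVector p S)

include hVs hβ in
lemma lift_G_zero_Vs (x : P) : BC.lift σS (G0 σS Φ β) (Vs x) = β x := by
  have hx : x ∈ Submodule.span (WittVector p S) (Set.range D.Vinv) := by
    rw [D.span_range_Vinv]; exact Submodule.mem_top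
  induction hx using Submodule.span_induction with
  | mem x hx =>
    obtain ⟨y, rfl⟩ := hx
    have := hVs.app_smul_Vinv 1 y
    rw [one_smul] at this
    rw [this, BC.lift_tmul, one_smul, G0_apply, hβ]
  | zero => rw [map_zero, map_zero, map_zero]
  | add x y _ _ hx hy => rw [map_add, map_add, map_add, hx, hy]
  | smul a x _ hx => rw [map_smul, map_smul, map_smul, hx]

include hVs hβ in
lemma lift_G_iter (n : ℕ) (x : P) :
    BC.lift (τ σS n) (G σS Φ β n) (iter σS Vs n x) = β x := by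
  induction n generalizing x with
  | zero => exact lift_G_zero_Vs D Vs hVs Φ β hβ x
  | succ n ih =>
    change BC.lift (RingHom.comp σS (τ σS n)) (Gstep σS Φ (G σS Φ β n))
      (inner σS (τ σS n) (iter σS Vs n) (Vs x)) = β x
    rw [lift_inner σS Φ β (G σS Φ β n) (iter σS Vs n) ih]
    exact lift_G_zero_Vs D Vs hVs Φ β hβ x

include hVs hβ in
/-- **Lemma N**: a linear map into a module killed by `I_S + (p)` which intertwines `V⁻¹` with a
Frobenius-semilinear endomorphism vanishes, if `V^#` is nilpotent. -/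
theorem eq_zero_of_intertwine (hnil : IsVNilpotent Vs)
    (hN : ∀ a ∈ W4c1extbt610.IV p S ⊔ Ideal.span {(p : WittVector p S)}, ∀ n : N, a • n = 0) :
    β = 0 := by
  obtain ⟨n, hn⟩ := hnil
  ext x
  rw [LinearMap.zero_apply, ← lift_G_iter D Vs hVs Φ β hβ n x]
  have h1 := hn x
  rw [vSharpPow_eq_iter, castHom_mem_smul_top_iff] at h1
  refine Submodule.smul_induction_on h1 ?_ ?_
  · intro a ha v _
    rw [map_smul, hN a ha]
  · intro v₁ v₂ h₁ h₂
    rw [map_add, h₁, h₂, add_zero]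

end LemmaN2

section SqZero

open Groth.Agent.R2.H78.WittSq W4c1extbt610

variable {p : ℕ} [hp : Fact p.Prime] {S : Type u} [CommRing S]
  {P' : Type v} [AddCommGroup P'] [Module (WittVector p S) P']

/-- coordinates of an element of `𝔞 P'` lie in `𝔞` -/
lemma coord_mem {m : ℕ} (ι : P' →ₗ[WittVector p S] (Fin m → WittVector p S))
    (𝔞 : Ideal (WittVector p S)) {z : P'} (hz : z ∈ 𝔞 • (⊤ : Submodule (WittVector p S) P'))
    (k : Fin m) : ι z k ∈ 𝔞 := by
  refine Submodule.smul_induction_on hz ?_ ?_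
  · intro a ha y _
    rw [map_smul, Pi.smul_apply, smul_eq_mul]
    exact Ideal.mul_mem_right _ _ ha
  · intro x y hx hy
    rw [map_add, Pi.add_apply]
    exact Ideal.add_mem _ hx hy

variable {𝔟 : Ideal S} (h2 : ∀ a ∈ 𝔟, ∀ b ∈ 𝔟, a * b = 0) (hpb : ∀ a ∈ 𝔟, (p : S) * a = 0)

include h2 in
/-- Teichmüller representatives are additive on finite sums in `𝔟` -/
lemma teichmuller_sum {κ : Type*} (s : Finset κ) (b : κ → S) (hb : ∀ k, b k ∈ 𝔟) :
    teichmuller p (∑ k ∈ s, b k) = ∑ k ∈ s, teichmuller p (b k) := by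
  classical
  induction s using Finset.induction_on with
  | empty => rw [Finset.sum_empty, Finset.sum_empty, teichmuller_zero]
  | insert a s ha ih =>
    rw [Finset.sum_insert ha, Finset.sum_insert ha,
      teichmuller_add h2 (hb a) (Ideal.sum_mem _ fun k _ => hb k), ih]

variable {m : ℕ} (p₀ : (Fin m → WittVector p S) →ₗ[WittVector p S] P')
  (ι : P' →ₗ[WittVector p S] (Fin m → WittVector p S)) (hpi : ∀ z, p₀ (ι z) = z)

/-- the images of the standard basis vectors -/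
noncomputable def ee (k : Fin m) : P' := p₀ (fun j => if k = j then 1 else 0)

include hpi in
lemma eq_sum_coord (z : P') : z = ∑ k, ι z k • ee p₀ k := by
  conv_lhs => rw [← hpi z, LinearMap.pi_apply_eq_sum_univ p₀ (ι z)]
  rfl

include h2 hpi in
/-- an element `∑ [a_k] t_k` (with `a_k ∈ 𝔟`) of `I_S P'` is zero -/
lemma sum_teich_eq_zero (a : Fin m → S) (ha : ∀ k, a k ∈ 𝔟) (t : Fin m → P')
    (hv : (∑ k, teichmuller p (a k) • t k) ∈
      IV p S • (⊤ : Submodule (WittVector p S) P')) :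
    (∑ k, teichmuller p (a k) • t k) = 0 := by
  set v := ∑ k, teichmuller p (a k) • t k with hvdef
  have hcoord : ∀ j, ι v j = teichmuller p (∑ k, (ι (t k) j).coeff 0 * a k) := by
    intro j
    rw [teichmuller_sum h2 _ _ (fun k => Ideal.mul_mem_left _ _ (ha k)), hvdef, map_sum,
      Finset.sum_apply]
    refine Finset.sum_congr rfl fun k _ => ?_
    rw [map_smul, Pi.smul_apply, smul_eq_mul, mul_comm, mul_teichmuller h2 _ (ha k)]
  have hzero : ι v = 0 := by
    funext j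
    have h1 := coord_mem ι (IV p S) hv j
    obtain ⟨w, hw⟩ := Groth.Agent.S16538.exists_eq_verschiebung_of_mem_IV _ h1
    have h3 : (ι v j).coeff 0 = 0 := by rw [hw, verschiebung_coeff_zero]
    rw [hcoord j, teichmuller_coeff_zero] at h3
    rw [hcoord j, h3, teichmuller_zero]
    rfl
  rw [← hpi v, hzero, map_zero]

variable (D' : Display3n p S P')

lemma Vinv_sum_verschiebung {κ : Type*} (s : Finset κ) (w : κ → WittVector p S) (x : κ → P')
    (h : (∑ k ∈ s, verschiebung (w k) • x k) ∈ D'.Q) :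
    D'.Vinv ⟨_, h⟩ = ∑ k ∈ s, w k • D'.F (x k) := by
  have h1 : (⟨_, h⟩ : D'.Q) = ∑ k ∈ s, (⟨verschiebung (w k) • x k,
      D'.IV_smul_le (Submodule.smul_mem_smul (verschiebung_mem_IV p S (w k))
        Submodule.mem_top)⟩ : D'.Q) := by
    apply Subtype.ext
    rw [AddSubmonoidClass.coe_finsetSum]
  rw [h1, map_sum]
  exact Finset.sum_congr rfl fun k _ => D'.Vinv_verschiebung_smul _ _

include h2 hpb in
lemma Vinv_sum_teich {κ : Type*} (s : Finset κ) (a : κ → S) (ha : ∀ k, a k ∈ 𝔟) (l : κ → P')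
    (hl : ∀ k, l k ∈ D'.Q) (h : (∑ k ∈ s, teichmuller p (a k) • l k) ∈ D'.Q) :
    D'.Vinv ⟨_, h⟩ = 0 := by
  have h1 : (⟨_, h⟩ : D'.Q) = ∑ k ∈ s, teichmuller p (a k) • (⟨l k, hl k⟩ : D'.Q) := by
    apply Subtype.ext
    rw [AddSubmonoidClass.coe_finsetSum]
    rfl
  rw [h1, map_sum]
  refine Finset.sum_eq_zero fun k _ => ?_
  rw [map_smulₛₗ, frobenius_eq_zero h2 hpb (teichmuller_mem_WI (ha k)), zero_smul]

/-- the shifted Frobenius on `W(𝔟) P'`, in coordinates -/
noncomputable def Φ₀ (z : P') : P' := ∑ k, (ι z k).shift 1 • D'.F (ee p₀ k)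

include h2 in
lemma Φ₀_add {z z' : P'} (hz : z ∈ (WI 𝔟 : Ideal (WittVector p S)) • (⊤ : Submodule (WittVector p S) P'))
    (hz' : z' ∈ (WI 𝔟 : Ideal (WittVector p S)) • (⊤ : Submodule (WittVector p S) P')) :
    Φ₀ p₀ ι D' (z + z') = Φ₀ p₀ ι D' z + Φ₀ p₀ ι D' z' := by
  rw [Φ₀, Φ₀, Φ₀, ← Finset.sum_add_distrib]
  refine Finset.sum_congr rfl fun k _ => ?_
  rw [map_add, Pi.add_apply, shift_add h2 (coord_mem ι _ hz k) (coord_mem ι _ hz' k), add_smul]

include h2 in
lemma Φ₀_smul (w : WittVector p S) {z : P'}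
    (hz : z ∈ (WI 𝔟 : Ideal (WittVector p S)) • (⊤ : Submodule (WittVector p S) P')) :
    Φ₀ p₀ ι D' (w • z) = frobenius w • Φ₀ p₀ ι D' z := by
  rw [Φ₀, Φ₀, Finset.smul_sum]
  refine Finset.sum_congr rfl fun k _ => ?_
  rw [map_smul, Pi.smul_apply, smul_eq_mul, shift_mul h2 w (coord_mem ι _ hz k), mul_smul]

lemma Φ₀_mem {z : P'} (hz : z ∈ (WI 𝔟 : Ideal (WittVector p S)) • (⊤ : Submodule (WittVector p S) P')) :
    Φ₀ p₀ ι D' z ∈ (WI 𝔟 : Ideal (WittVector p S)) • (⊤ : Submodule (WittVector p S) P') := by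
  rw [Φ₀]
  refine Submodule.sum_mem _ fun k _ => ?_
  exact Submodule.smul_mem_smul (shift_mem_WI (coord_mem ι _ hz k)) Submodule.mem_top

include h2 hpb hpi in
/-- **Crux**: on `W(𝔟) P' ∩ Q'`, `V⁻¹` is the shifted Frobenius. -/
lemma Vinv_eq_Φ₀ {z : P'} (hz : z ∈ (WI 𝔟 : Ideal (WittVector p S)) • (⊤ : Submodule (WittVector p S) P'))
    (hzQ : z ∈ D'.Q) : D'.Vinv ⟨z, hzQ⟩ = Φ₀ p₀ ι D' z := by
  obtain ⟨L, T, hLT, hQ⟩ := D'.exists_normal
  have hc : ∀ k, ι z k ∈ (WI 𝔟 : Ideal (WittVector p S)) := fun k => coord_mem ι _ hz k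
  have ha : ∀ k, (ι z k).coeff 0 ∈ 𝔟 := fun k => mem_WI.mp (hc k) 0
  have hsplit : z = (∑ k, teichmuller p ((ι z k).coeff 0) • Groth.Agent.S16538.πL L T hLT (ee p₀ k))
      + (∑ k, teichmuller p ((ι z k).coeff 0) • Groth.Agent.S16538.πT L T hLT (ee p₀ k))
      + ∑ k, verschiebung ((ι z k).shift 1) • ee p₀ k := by
    conv_lhs => rw [eq_sum_coord p₀ ι hpi z]
    rw [← Finset.sum_add_distrib, ← Finset.sum_add_distrib]
    refine Finset.sum_congr rfl fun k _ => ?_
    rw [← smul_add, Groth.Agent.S16538.πL_add_πT, ← add_smul, ← decomp]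
  set u := ∑ k, teichmuller p ((ι z k).coeff 0) • Groth.Agent.S16538.πL L T hLT (ee p₀ k)
    with hu_def
  set v := ∑ k, teichmuller p ((ι z k).coeff 0) • Groth.Agent.S16538.πT L T hLT (ee p₀ k)
    with hv_def
  set z₂ := ∑ k, verschiebung ((ι z k).shift 1) • ee p₀ k with hz₂_def
  have hz₂ : z₂ ∈ D'.Q := D'.IV_smul_le (Submodule.sum_mem _ fun k _ =>
    Submodule.smul_mem_smul (verschiebung_mem_IV p S _) Submodule.mem_top)
  have hlQ : ∀ k, Groth.Agent.S16538.πL L T hLT (ee p₀ k) ∈ D'.Q := fun k =>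
    Groth.Agent.S16538.L_le_Q D' L T hQ (Groth.Agent.S16538.πL_mem L T hLT _)
  have hu : u ∈ D'.Q := Submodule.sum_mem _ fun k _ => Submodule.smul_mem _ _ (hlQ k)
  have hv : v ∈ D'.Q := by
    have : v = z - u - z₂ := by rw [hsplit]; abel
    rw [this]
    exact Submodule.sub_mem _ (Submodule.sub_mem _ hzQ hu) hz₂
  have hvT : v ∈ T := Submodule.sum_mem _ fun k _ =>
    Submodule.smul_mem _ _ (Groth.Agent.S16538.πT_mem L T hLT _)
  have hvI : v ∈ IV p S • (⊤ : Submodule (WittVector p S) P') := by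
    have h1 := Groth.Agent.S16538.πT_mem_of_mem_Q D' L T hLT hQ hv
    rw [Groth.Agent.S16538.πT_of_mem L T hLT hvT] at h1
    exact Submodule.smul_mono le_rfl le_top h1
  have hv0 : v = 0 := sum_teich_eq_zero h2 p₀ ι hpi _ ha _ hvI
  have h3 : (⟨z, hzQ⟩ : D'.Q) = ⟨u, hu⟩ + ⟨z₂, hz₂⟩ := by
    apply Subtype.ext
    change z = u + z₂
    rw [hsplit, hv0, add_zero]
  rw [h3, map_add, Vinv_sum_teich h2 hpb D' _ _ ha _ hlQ hu, zero_add,
    Vinv_sum_verschiebung D' _ _ _ hz₂]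
  rfl

/-- the shifted Frobenius as a semilinear endomorphism of `W(𝔟) P'` -/
noncomputable def Φ :
    ((WI 𝔟 : Ideal (WittVector p S)) • (⊤ : Submodule (WittVector p S) P') : Submodule (WittVector p S) P')
      →ₛₗ[(WittVector.frobenius : WittVector p S →+* WittVector p S)]
    ((WI 𝔟 : Ideal (WittVector p S)) • (⊤ : Submodule (WittVector p S) P') : Submodule (WittVector p S) P') where
  toFun z := ⟨Φ₀ p₀ ι D' z.1, Φ₀_mem p₀ ι D' z.2⟩
  map_add' z z' := Subtype.ext (Φ₀_add h2 p₀ ι D' z.2 z'.2)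
  map_smul' w z := Subtype.ext (Φ₀_smul h2 p₀ ι D' w z.2)

end SqZero

section Main

open Groth.Agent.R2.H78.WittSq W4c1extbt610

variable {p : ℕ} [hp : Fact p.Prime] {S : Type u} [CommRing S]
  {P : Type v} [AddCommGroup P] [Module (WittVector p S) P]
  {P' : Type w} [AddCommGroup P'] [Module (WittVector p S) P']
  {𝔟 : Ideal S}

/-- **Square-zero rigidity.** If `𝔟² = 0 = p𝔟`, a homomorphism from a display to a 3n-display with
image in `W(𝔟) P'` vanishes. -/
theorem eq_zero_of_sq_zero (h2 : ∀ a ∈ 𝔟, ∀ b ∈ 𝔟, a * b = 0) (hpb : ∀ a ∈ 𝔟, (p : S) * a = 0)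
    (D : Display3n p S P) (D' : Display3n p S P') (hD : IsDisplay D)
    (α : P →ₗ[WittVector p S] P') (hα : IsHom D D' α)
    (hαN : ∀ x, α x ∈ (WI 𝔟 : Ideal (WittVector p S)) • (⊤ : Submodule (WittVector p S) P')) :
    α = 0 := by
  obtain ⟨Vs, hVs, hnil⟩ := hD
  have := D'.finite
  have := D'.projective
  obtain ⟨m, p₀, hp₀⟩ := Module.Finite.exists_fin' (WittVector p S) P'
  obtain ⟨ι, hι⟩ := Module.projective_lifting_property p₀ LinearMap.id hp₀
  have hpi : ∀ z, p₀ (ι z) = z := fun z => LinearMap.congr_fun hι z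
  have hβ0 := eq_zero_of_intertwine D Vs hVs (Φ h2 p₀ ι D')
    (α.codRestrict ((WI 𝔟 : Ideal (WittVector p S)) • (⊤ : Submodule (WittVector p S) P')) hαN)
    (by
      intro y
      apply Subtype.ext
      change α (D.Vinv y) = Φ₀ p₀ ι D' (α y)
      rw [hα.comm_Vinv, Vinv_eq_Φ₀ h2 hpb p₀ ι hpi D' (hαN y)])
    hnil
    (by
      intro a ha n
      have hann : ∀ ξ ∈ (WI 𝔟 : Ideal (WittVector p S)), a * ξ = 0 := by
        obtain ⟨a₁, ha₁, a₂, ha₂, rfl⟩ := Submodule.mem_sup.mp ha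
        intro ξ hξ
        obtain ⟨w, rfl⟩ := Groth.Agent.S16538.exists_eq_verschiebung_of_mem_IV _ ha₁
        obtain ⟨c, rfl⟩ := Ideal.mem_span_singleton'.mp ha₂
        rw [add_mul, verschiebung_mul_eq_zero h2 hpb w hξ, zero_add, mul_assoc, mul_comm _ ξ,
          mul_p_eq_zero h2 hpb hξ, mul_zero]
      apply Subtype.ext
      change a • (n : P') = 0
      refine Submodule.smul_induction_on n.2 ?_ ?_
      · intro ξ hξ y _
        rw [← mul_smul, hann ξ hξ, zero_smul]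
      · intro x y hx hy
        rw [smul_add, hx, hy, add_zero])
  ext x
  have := congrArg Subtype.val (LinearMap.congr_fun hβ0 x)
  exact this

end Main

end Groth.Agent.R2.H78.DispRigid
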