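import Mathlib
import Groth.Agent.R2.H78DispRigid

/-!
# Rigidity of homomorphisms of displays along nilpotent ideals (helper78)

* `mem_of_tmul_one_eq_zero`: for a surjective ring map `φ`, `1 ⊗ y = 0` in `B ⊗_φ P` iff
  `y ∈ (ker φ) P`.
* `isHom_map`: base change of a homomorphism of 3n-displays is a homomorphism of the base changes.
* `step`: from `α(P) ⊆ W(𝔟) P'` to `α(P) ⊆ W(𝔠) P'` if `𝔟² + p𝔟 ⊆ 𝔠 ⊆ 𝔟`.
* `eq_zero_of_nilpotent`: a homomorphism of displays with image in `W(𝔞) P'`, `𝔞` nilpotent, is zero.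
-/

set_option autoImplicit false
universe u v w

namespace Groth.Agent.R2.H78.DispStep

open Dieu WittVector W4c1extbt610
open Groth.Agent.Lib.Helper14.Disp Groth.Agent.R2.H78.WittSq Groth.Agent.R2.H78.DispRigid

section BCker

variable {A : Type u} {B : Type u} [CommRing A] [CommRing B] (φ : A →+* B)
  {P : Type v} [AddCommGroup P] [Module A P]

theorem mem_of_tmul_one_eq_zero (hs : Function.Surjective φ) (y : P)
    (h : BC.tmul φ 1 y = 0) : y ∈ RingHom.ker φ • (⊤ : Submodule A P) := by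
  have e : φ = φ.comp (RingHom.id A) := (RingHom.comp_id φ).symm
  have h1 : BC.tmul (φ.comp (RingHom.id A)) 1 y = 0 := by
    have := congrArg (BC.castHom e) h
    rwa [BC.castHom_tmul, map_zero] at this
  have h2 : BC.push (RingHom.id A) φ (BC.tmul (RingHom.id A) 1 y) = 0 := by
    rw [BC.push_tmul, map_one, h1]
  have h3 := mem_of_push_eq_zero (RingHom.id A) φ hs _ h2
  have h4 : ∀ z ∈ Kt (RingHom.id A) φ P,
      BC.lift (RingHom.id A) (LinearMap.id : P →ₗ[A] P) z ∈
        RingHom.ker φ • (⊤ : Submodule A P) := by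
    intro z hz
    refine Submodule.smul_induction_on hz ?_ ?_
    · intro a ha v _
      rw [map_smul]
      exact Submodule.smul_mem_smul ha Submodule.mem_top
    · intro v₁ v₂ h₁ h₂
      rw [map_add]
      exact Submodule.add_mem _ h₁ h₂
  have h5 := h4 _ h3
  rwa [BC.lift_tmul, one_smul, LinearMap.id_apply] at h5

end BCker

section IsHomMap

variable {p : ℕ} [Fact p.Prime] {S R : Type u} [CommRing S] [CommRing R] (f : S →+* R)
variable {P : Type v} [AddCommGroup P] [Module (WittVector p S) P]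
variable {P' : Type v} [AddCommGroup P'] [Module (WittVector p S) P']

lemma Vinv_congr {M : Type w} [AddCommGroup M] [Module (WittVector p R) M] (E : Display3n p R M)
    {z z' : M} (h : z = z') (hz : z ∈ E.Q) (hz' : z' ∈ E.Q) :
    E.Vinv ⟨z, hz⟩ = E.Vinv ⟨z', hz'⟩ := by
  subst h; rfl

open Groth.Agent.S16540 in
/-- base change of a homomorphism of 3n-displays is a homomorphism -/
theorem isHom_map (D : Display3n p S P) (D' : Display3n p S P')
    (DR : Display3n p R (BC (WittVector.map f : WittVector p S →+* WittVector p R) P))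
    (hDR : IsDispBaseChange f D DR)
    (DR' : Display3n p R (BC (WittVector.map f : WittVector p S →+* WittVector p R) P'))
    (hDR' : IsDispBaseChange f D' DR')
    (α : P →ₗ[WittVector p S] P') (hα : IsHom D D' α) :
    IsHom DR DR' (BC.map (WittVector.map f : WittVector p S →+* WittVector p R) α) := by
  have hcl : ∀ q ∈ DR.Q, q ∈ AddSubgroup.closure (gens f D.Q) := fun q hq =>
    mem_closure_gens f D.Q q (LinearMap.mem_ker.1 (hDR.Q_eq ▸ hq))
  have hsub' : AddSubgroup.closure (gens f D'.Q) ≤ DR'.Q.toAddSubgroup :=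
    (AddSubgroup.closure_le DR'.Q.toAddSubgroup).2 (gens_subset f D' DR' hDR')
  have hsub : AddSubgroup.closure (gens f D.Q) ≤ DR.Q.toAddSubgroup :=
    (AddSubgroup.closure_le DR.Q.toAddSubgroup).2 (gens_subset f D DR hDR)
  have hmaps : ∀ q ∈ AddSubgroup.closure (gens f D.Q),
      BC.map (WittVector.map f : WittVector p S →+* WittVector p R) α q ∈ DR'.Q := by
    intro q hq
    induction hq using AddSubgroup.closure_induction with
    | mem t ht =>
      rcases ht with ⟨w, y, hy, rfl⟩ | ⟨w, x, rfl⟩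
      · rw [BC.map_tmul]
        exact gens_subset f D' DR' hDR' (Or.inl ⟨w, α y, hα.mapsTo y hy, rfl⟩)
      · rw [BC.map_tmul]
        exact gens_subset f D' DR' hDR' (Or.inr ⟨w, α x, rfl⟩)
    | zero => rw [map_zero]; exact Submodule.zero_mem _
    | add q₁ q₂ _ _ ih₁ ih₂ => rw [map_add]; exact Submodule.add_mem _ ih₁ ih₂
    | neg q₁ _ ih₁ => rw [map_neg]; exact Submodule.neg_mem _ ih₁
  refine ⟨fun q hq => hmaps q (hcl q hq), ?_, ?_⟩
  · intro z
    induction z using BC.induction_on (WittVector.map f : WittVector p S →+* WittVector p R) with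
    | zero => simp only [map_zero]
    | tmul w x => rw [hDR.F_tmul, BC.map_tmul, BC.map_tmul, hDR'.F_tmul, hα.comm_F]
    | add z₁ z₂ h₁ h₂ => rw [map_add, map_add, map_add, map_add, h₁, h₂]
  · have key : ∀ q (_ : q ∈ AddSubgroup.closure (gens f D.Q)) (hq : q ∈ DR.Q)
        (hq' : BC.map (WittVector.map f : WittVector p S →+* WittVector p R) α q ∈ DR'.Q),
        BC.map (WittVector.map f : WittVector p S →+* WittVector p R) α (DR.Vinv ⟨q, hq⟩) =
          DR'.Vinv ⟨_, hq'⟩ := by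
      intro q hqc
      induction hqc using AddSubgroup.closure_induction with
      | mem t ht =>
        intro hq hq'
        rcases ht with ⟨w, y, hy, rfl⟩ | ⟨w, x, rfl⟩
        · rw [hDR.Vinv_tmul w ⟨y, hy⟩ hq, BC.map_tmul, hα.comm_Vinv]
          have e : BC.map (WittVector.map f : WittVector p S →+* WittVector p R) α
              (BC.tmul (WittVector.map f : WittVector p S →+* WittVector p R) w y) =
              BC.tmul (WittVector.map f : WittVector p S →+* WittVector p R) w (α y) :=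
            BC.map_tmul _ _ _ _
          rw [Vinv_congr DR' e hq' (e ▸ hq')]
          exact (hDR'.Vinv_tmul w ⟨α y, hα.mapsTo y hy⟩ _).symm
        · rw [hDR.Vinv_verschiebung_tmul w x hq, BC.map_tmul, hα.comm_F]
          have e : BC.map (WittVector.map f : WittVector p S →+* WittVector p R) α
              (BC.tmul (WittVector.map f : WittVector p S →+* WittVector p R)
                (verschiebung w) x) =
              BC.tmul (WittVector.map f : WittVector p S →+* WittVector p R)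
                (verschiebung w) (α x) :=
            BC.map_tmul _ _ _ _
          rw [Vinv_congr DR' e hq' (e ▸ hq')]
          exact (hDR'.Vinv_verschiebung_tmul w (α x) _).symm
      | zero =>
        intro hq hq'
        have e : BC.map (WittVector.map f : WittVector p S →+* WittVector p R) α 0 = 0 :=
          map_zero _
        rw [Vinv_congr DR' e hq' (Submodule.zero_mem _)]
        have h0 : (⟨0, hq⟩ : DR.Q) = 0 := rfl
        have h0' : (⟨0, Submodule.zero_mem _⟩ : DR'.Q) = 0 := rfl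
        rw [h0, h0', map_zero, map_zero, map_zero]
      | add q₁ q₂ h₁ h₂ ih₁ ih₂ =>
        intro hq hq'
        have hq₁ : q₁ ∈ DR.Q := hsub h₁
        have hq₂ : q₂ ∈ DR.Q := hsub h₂
        have hq₁' := hmaps q₁ h₁
        have hq₂' := hmaps q₂ h₂
        have e : BC.map (WittVector.map f : WittVector p S →+* WittVector p R) α (q₁ + q₂) =
            BC.map (WittVector.map f : WittVector p S →+* WittVector p R) α q₁ +
            BC.map (WittVector.map f : WittVector p S →+* WittVector p R) α q₂ := map_add _ _ _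
        rw [Vinv_congr DR' e hq' (Submodule.add_mem _ hq₁' hq₂')]
        have h0 : (⟨q₁ + q₂, hq⟩ : DR.Q) = ⟨q₁, hq₁⟩ + ⟨q₂, hq₂⟩ := rfl
        have h0' : (⟨_, Submodule.add_mem _ hq₁' hq₂'⟩ : DR'.Q) = ⟨_, hq₁'⟩ + ⟨_, hq₂'⟩ := rfl
        rw [h0, h0', map_add, map_add, map_add, ih₁ hq₁ hq₁', ih₂ hq₂ hq₂']
      | neg q₁ h₁ ih₁ =>
        intro hq hq'
        have hq₁ : q₁ ∈ DR.Q := hsub h₁
        have hq₁' := hmaps q₁ h₁
        have e : BC.map (WittVector.map f : WittVector p S →+* WittVector p R) α (-q₁) =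
            -BC.map (WittVector.map f : WittVector p S →+* WittVector p R) α q₁ := map_neg _ _
        rw [Vinv_congr DR' e hq' (Submodule.neg_mem _ hq₁')]
        have h0 : (⟨-q₁, hq⟩ : DR.Q) = -⟨q₁, hq₁⟩ := rfl
        have h0' : (⟨_, Submodule.neg_mem _ hq₁'⟩ : DR'.Q) = -⟨_, hq₁'⟩ := rfl
        rw [h0, h0', map_neg, map_neg, map_neg, ih₁ hq₁ hq₁']
    intro q
    exact key q (hcl q q.2) q.2 _

end IsHomMap

section Step

variable {p : ℕ} [hp' : Fact p.Prime] {S : Type u} [CommRing S]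
variable {P : Type v} [AddCommGroup P] [Module (WittVector p S) P]
variable {P' : Type v} [AddCommGroup P'] [Module (WittVector p S) P']

/-- `W(g)` maps `W(𝔟)` into `W(g 𝔟)` -/
lemma map_mem_WI {R : Type u} [CommRing R] (g : S →+* R) (𝔟 : Ideal S) {ξ : WittVector p S}
    (hξ : ξ ∈ (WI 𝔟 : Ideal (WittVector p S))) :
    WittVector.map g ξ ∈ (WI (𝔟.map g) : Ideal (WittVector p R)) := by
  rw [mem_WI] at hξ ⊢
  intro n
  rw [WittVector.map_coeff]
  exact Ideal.mem_map_of_mem g (hξ n)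

/-- **Step**: if `𝔟² + p𝔟 ⊆ 𝔠 ⊆ 𝔟`, a homomorphism of displays with image in `W(𝔟) P'` has image
in `W(𝔠) P'`. -/
theorem step (hp : IsNilpotent (p : S)) (𝔟 𝔠 : Ideal S) (hsq : 𝔟 * 𝔟 ≤ 𝔠)
    (hpb : ∀ a ∈ 𝔟, (p : S) * a ∈ 𝔠)
    (D : Display3n p S P) (D' : Display3n p S P') (hD : IsDisplay D)
    (α : P →ₗ[WittVector p S] P') (hα : IsHom D D' α)
    (h : ∀ x, α x ∈ (WI 𝔟 : Ideal (WittVector p S)) • (⊤ : Submodule (WittVector p S) P')) :
    ∀ x, α x ∈ (WI 𝔠 : Ideal (WittVector p S)) • (⊤ : Submodule (WittVector p S) P') := by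
  obtain ⟨L, T, hLT, hQ⟩ := D.exists_normal
  obtain ⟨L', T', hLT', hQ'⟩ := D'.exists_normal
  have hDR := Groth.Agent.S16538.isDispBaseChange_DRof (Ideal.Quotient.mk 𝔠) D L T hLT hQ
  have hDR' := Groth.Agent.S16538.isDispBaseChange_DRof (Ideal.Quotient.mk 𝔠) D' L' T' hLT' hQ'
  have hdisp := Groth.Agent.S16540.result p S (S ⧸ 𝔠) hp (Ideal.Quotient.mk 𝔠) P D hD _ hDR
  have hᾱ := isHom_map (Ideal.Quotient.mk 𝔠) D D' _ hDR _ hDR' α hα
  have hsurj : Function.Surjective (Ideal.Quotient.mk 𝔠) := Ideal.Quotient.mk_surjective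
  have h2 : ∀ a ∈ 𝔟.map (Ideal.Quotient.mk 𝔠), ∀ b ∈ 𝔟.map (Ideal.Quotient.mk 𝔠), a * b = 0 := by
    intro a ha b hb
    obtain ⟨a', ha', rfl⟩ := (Ideal.mem_map_iff_of_surjective _ hsurj).mp ha
    obtain ⟨b', hb', rfl⟩ := (Ideal.mem_map_iff_of_surjective _ hsurj).mp hb
    rw [← map_mul, Ideal.Quotient.eq_zero_iff_mem]
    exact hsq (Ideal.mul_mem_mul ha' hb')
  have hpb' : ∀ a ∈ 𝔟.map (Ideal.Quotient.mk 𝔠), (p : S ⧸ 𝔠) * a = 0 := by
    intro a ha
    obtain ⟨a', ha', rfl⟩ := (Ideal.mem_map_iff_of_surjective _ hsurj).mp ha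
    rw [← map_natCast (Ideal.Quotient.mk 𝔠), ← map_mul, Ideal.Quotient.eq_zero_iff_mem]
    exact hpb a' ha'
  have hι : ∀ y ∈ (WI 𝔟 : Ideal (WittVector p S)) • (⊤ : Submodule (WittVector p S) P'),
      BC.tmul (WittVector.map (Ideal.Quotient.mk 𝔠) : WittVector p S →+* WittVector p (S ⧸ 𝔠)) 1 y
        ∈ (WI (𝔟.map (Ideal.Quotient.mk 𝔠)) : Ideal (WittVector p (S ⧸ 𝔠))) •
          (⊤ : Submodule (WittVector p (S ⧸ 𝔠)) (BC (WittVector.map (Ideal.Quotient.mk 𝔠) :
            WittVector p S →+* WittVector p (S ⧸ 𝔠)) P')) := by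
    intro y hy
    refine Submodule.smul_induction_on hy ?_ ?_
    · intro ξ hξ y' _
      rw [← BC.tmul_mul_apply, one_mul, BC.tmul_eq_smul_tmul_one]
      exact Submodule.smul_mem_smul (map_mem_WI _ 𝔟 hξ) Submodule.mem_top
    · intro y₁ y₂ h₁ h₂
      rw [BC.tmul_add]
      exact Submodule.add_mem _ h₁ h₂
  have hᾱN : ∀ z, BC.map (WittVector.map (Ideal.Quotient.mk 𝔠) :
      WittVector p S →+* WittVector p (S ⧸ 𝔠)) α z ∈
        (WI (𝔟.map (Ideal.Quotient.mk 𝔠)) : Ideal (WittVector p (S ⧸ 𝔠))) •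
          (⊤ : Submodule (WittVector p (S ⧸ 𝔠)) (BC (WittVector.map (Ideal.Quotient.mk 𝔠) :
            WittVector p S →+* WittVector p (S ⧸ 𝔠)) P')) := by
    intro z
    induction z using BC.induction_on (WittVector.map (Ideal.Quotient.mk 𝔠) :
      WittVector p S →+* WittVector p (S ⧸ 𝔠)) with
    | zero => rw [map_zero]; exact Submodule.zero_mem _
    | tmul w x =>
      rw [BC.map_tmul, BC.tmul_eq_smul_tmul_one]
      exact Submodule.smul_mem _ _ (hι _ (h x))
    | add z₁ z₂ h₁ h₂ => rw [map_add]; exact Submodule.add_mem _ h₁ h₂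
  have hzero := eq_zero_of_sq_zero h2 hpb' _ _ hdisp _ hᾱ hᾱN
  intro x
  have h1 : BC.tmul (WittVector.map (Ideal.Quotient.mk 𝔠) :
      WittVector p S →+* WittVector p (S ⧸ 𝔠)) 1 (α x) = 0 := by
    rw [← BC.map_tmul, hzero, LinearMap.zero_apply]
  exact mem_of_tmul_one_eq_zero _ (WittVector.map_surjective _ hsurj) _ h1

/-- **Rigidity**: a homomorphism from a display to a 3n-display over `S` (with `p` nilpotent in `S`)
whose image lies in `W(𝔞) P'` for a nilpotent ideal `𝔞` is zero. -/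
theorem eq_zero_of_nilpotent (hp : IsNilpotent (p : S)) (𝔞 : Ideal S) (h𝔞 : IsNilpotent 𝔞)
    (D : Display3n p S P) (D' : Display3n p S P') (hD : IsDisplay D)
    (α : P →ₗ[WittVector p S] P') (hα : IsHom D D' α)
    (h : ∀ x, α x ∈ (WI 𝔞 : Ideal (WittVector p S)) • (⊤ : Submodule (WittVector p S) P')) :
    α = 0 := by
  set 𝔪 : Ideal S := 𝔞 ⊔ Ideal.span {(p : S)} with h𝔪
  have hnil : ∃ N, 𝔪 ^ N = ⊥ := by
    obtain ⟨a, ha⟩ := h𝔞
    obtain ⟨b, hb⟩ := hp
    refine ⟨a + b, ?_⟩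
    rw [eq_bot_iff]
    refine Ideal.sup_pow_add_le_pow_sup_pow.trans ?_
    rw [ha, Ideal.span_singleton_pow, hb, Ideal.zero_eq_bot, Ideal.span_singleton_zero, sup_bot_eq]
  obtain ⟨N, hN⟩ := hnil
  have key : ∀ n : ℕ, ∀ 𝔟 : Ideal S, 𝔟 ≤ 𝔪 → 𝔟 * 𝔪 ^ n = ⊥ →
      (∀ x, α x ∈ (WI 𝔟 : Ideal (WittVector p S)) • (⊤ : Submodule (WittVector p S) P')) →
      α = 0 := by
    intro n
    induction n with
    | zero =>
      intro 𝔟 _ h0 hx
      rw [pow_zero, Ideal.one_eq_top, Ideal.mul_top] at h0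
      ext x
      have := hx x
      rw [h0, WI_bot, Submodule.bot_smul, Submodule.mem_bot] at this
      rw [this, LinearMap.zero_apply]
    | succ n ih =>
      intro 𝔟 h𝔟 h0 hx
      refine ih (𝔟 * 𝔪) Ideal.mul_le_right ?_ ?_
      · rw [mul_assoc, ← pow_succ', h0]
      · refine step hp 𝔟 (𝔟 * 𝔪) (Ideal.mul_mono_right h𝔟) ?_ D D' hD α hα hx
        intro a ha
        rw [mul_comm (p : S) a]
        exact Ideal.mul_mem_mul ha (Ideal.mem_sup_right (Ideal.mem_span_singleton_self _))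
  refine key N 𝔞 le_sup_left ?_ h
  rw [hN, Ideal.mul_bot]

end Step

end Groth.Agent.R2.H78.DispStep
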