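import Mathlib
import Groth.Agent.R2.H78DispStep

/-!
# Lifting homomorphisms of displays along nilpotent thickenings, up to a power of `p` (helper78)

* `tmul_one_eq_zero_iff`, `tmul_one_surjective`, `exists_linear_lift`: generalities on `Dieu.BC`
  along a surjective ring map.
* `IsHomMod g D D' DR' ψ`: `ψ : P → P'` is a homomorphism of 3n-displays "modulo `ker g`".
  `isHomMod_iff`: this is equivalent to `BC.map ψ` being a homomorphism of the base changes.
* `isHomMod_p_smul`: if `ψ` is a homomorphism modulo `𝔟` and `𝔟² + p𝔟 ⊆ 𝔠` then `p ψ` is a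
  homomorphism modulo `𝔠`.
* `isHom_pow_smul`: hence `p^n ψ` is a homomorphism of 3n-displays for `n ≫ 0` if `𝔟` and `p` are
  nilpotent.
-/

set_option autoImplicit false
universe u v w

namespace Groth.Agent.R2.H78.DispLift

open Dieu WittVector W4c1extbt610
open Groth.Agent.Lib.Helper14.Disp Groth.Agent.R2.H78.WittSq Groth.Agent.R2.H78.DispRigid
  Groth.Agent.R2.H78.DispStep

section BCgen

variable {A : Type u} {B : Type u} [CommRing A] [CommRing B] (φ : A →+* B)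
  {P : Type v} [AddCommGroup P] [Module A P] {P' : Type w} [AddCommGroup P'] [Module A P']

theorem tmul_one_eq_zero_of_mem {y : P} (h : y ∈ RingHom.ker φ • (⊤ : Submodule A P)) :
    BC.tmul φ 1 y = 0 := by
  refine Submodule.smul_induction_on h ?_ ?_
  · intro a ha y' _
    rw [← BC.tmul_mul_apply, one_mul, (RingHom.mem_ker).1 ha, BC.zero_tmul]
  · intro y₁ y₂ h₁ h₂
    rw [BC.tmul_add, h₁, h₂, add_zero]

theorem tmul_one_eq_zero_iff (hs : Function.Surjective φ) (y : P) :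
    BC.tmul φ 1 y = 0 ↔ y ∈ RingHom.ker φ • (⊤ : Submodule A P) :=
  ⟨mem_of_tmul_one_eq_zero φ hs y, tmul_one_eq_zero_of_mem φ⟩

theorem tmul_one_sub (y y' : P) :
    BC.tmul φ 1 (y - y') = BC.tmul φ 1 y - BC.tmul φ 1 y' := by
  rw [sub_eq_add_neg, BC.tmul_add, BC.tmul_neg, ← sub_eq_add_neg]

theorem tmul_one_smul (a : A) (y : P) : BC.tmul φ 1 (a • y) = φ a • BC.tmul φ 1 y := by
  rw [← BC.tmul_mul_apply, one_mul, BC.tmul_eq_smul_tmul_one]

theorem tmul_one_surjective (hs : Function.Surjective φ) (z : BC φ P) :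
    ∃ y : P, BC.tmul φ 1 y = z := by
  induction z using BC.induction_on φ with
  | zero => exact ⟨0, BC.tmul_zero φ 1⟩
  | tmul b x =>
    obtain ⟨a, rfl⟩ := hs b
    exact ⟨a • x, by rw [← BC.tmul_mul_apply, one_mul]⟩
  | add z₁ z₂ h₁ h₂ =>
    obtain ⟨y₁, rfl⟩ := h₁
    obtain ⟨y₂, rfl⟩ := h₂
    exact ⟨y₁ + y₂, BC.tmul_add φ 1 y₁ y₂⟩

theorem map_smul_left (c : A) (u : P →ₗ[A] P') : BC.map φ (c • u) = φ c • BC.map φ u := by
  apply BC.ext
  intro x
  rw [BC.map_tmul, LinearMap.smul_apply, LinearMap.smul_apply, BC.map_tmul, tmul_one_smul]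

theorem map_sub_left (u u' : P →ₗ[A] P') : BC.map φ (u - u') = BC.map φ u - BC.map φ u' := by
  apply BC.ext
  intro x
  rw [BC.map_tmul, LinearMap.sub_apply, LinearMap.sub_apply, BC.map_tmul, BC.map_tmul,
    tmul_one_sub]

/-- a linear map between scalar extensions along a surjection lifts, if the source is finite
projective -/
theorem exists_linear_lift (hs : Function.Surjective φ) [Module.Finite A P]
    [Module.Projective A P] (χ : BC φ P →ₗ[B] BC φ P') : ∃ u : P →ₗ[A] P', BC.map φ u = χ := by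
  obtain ⟨m, p₀, hp₀⟩ := Module.Finite.exists_fin' A P
  obtain ⟨ι, hι⟩ := Module.projective_lifting_property p₀ LinearMap.id hp₀
  have hpi : ∀ z, p₀ (ι z) = z := fun z => LinearMap.congr_fun hι z
  choose y hy using fun k : Fin m =>
    tmul_one_surjective φ hs (χ (BC.tmul φ 1 (p₀ (fun j => if k = j then 1 else 0))))
  refine ⟨∑ k, ((LinearMap.proj k).comp ι).smulRight (y k), ?_⟩
  apply BC.ext
  intro x
  rw [BC.map_tmul, LinearMap.sum_apply]
  have h1 : BC.tmul φ 1 (∑ k, (((LinearMap.proj k).comp ι).smulRight (y k)) x) =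
      ∑ k, φ (ι x k) • χ (BC.tmul φ 1 (p₀ (fun j => if k = j then 1 else 0))) := by
    change BC.ι φ P' _ = _
    rw [map_sum]
    refine Finset.sum_congr rfl fun k _ => ?_
    rw [LinearMap.smulRight_apply, LinearMap.comp_apply, LinearMap.proj_apply, BC.ι_apply,
      tmul_one_smul, hy]
  rw [h1]
  conv_rhs => rw [← hpi x, LinearMap.pi_apply_eq_sum_univ p₀ (ι x)]
  change _ = χ (BC.ι φ P _)
  rw [map_sum, map_sum]
  refine Finset.sum_congr rfl fun k _ => ?_
  rw [map_smulₛₗ, map_smul, BC.ι_apply]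

end BCgen

section HomMod

variable {p : ℕ} [hp' : Fact p.Prime] {S R : Type u} [CommRing S] [CommRing R] (f : S →+* R)
variable {P : Type v} [AddCommGroup P] [Module (WittVector p S) P]
variable {P' : Type v} [AddCommGroup P'] [Module (WittVector p S) P']

local notation "φ" => (WittVector.map f : WittVector p S →+* WittVector p R)

/-- `ψ` is a homomorphism of 3n-displays modulo `ker f` -/
structure IsHomMod (D : Display3n p S P) (D' : Display3n p S P')
    (DR' : Display3n p R (BC (WittVector.map f : WittVector p S →+* WittVector p R) P'))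
    (ψ : P →ₗ[WittVector p S] P') : Prop where
  mapsTo : ∀ y ∈ D.Q, BC.tmul φ 1 (ψ y) ∈ DR'.Q
  comm_F : ∀ x, BC.tmul φ 1 (ψ (D.F x)) = BC.tmul φ 1 (D'.F (ψ x))
  comm_Vinv : ∀ (y : D.Q) (h : BC.tmul φ 1 (ψ y) ∈ DR'.Q),
    BC.tmul φ 1 (ψ (D.Vinv y)) = DR'.Vinv ⟨_, h⟩

theorem tmul_one_mem_Q (D : Display3n p S P)
    (DR : Display3n p R (BC (WittVector.map f : WittVector p S →+* WittVector p R) P))
    (hDR : IsDispBaseChange f D DR) {q : P} (hq : q ∈ D.Q) : BC.tmul φ 1 q ∈ DR.Q :=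
  Groth.Agent.S16540.gens_subset f D DR hDR (Or.inl ⟨1, q, hq, rfl⟩)

theorem isHomMod_of_isHom_map (D : Display3n p S P) (D' : Display3n p S P')
    (DR : Display3n p R (BC (WittVector.map f : WittVector p S →+* WittVector p R) P))
    (hDR : IsDispBaseChange f D DR)
    (DR' : Display3n p R (BC (WittVector.map f : WittVector p S →+* WittVector p R) P'))
    (hDR' : IsDispBaseChange f D' DR')
    (ψ : P →ₗ[WittVector p S] P') (h : IsHom DR DR' (BC.map φ ψ)) :
    IsHomMod f D D' DR' ψ := by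
  refine ⟨?_, ?_, ?_⟩
  · intro y hy
    have := h.mapsTo _ (tmul_one_mem_Q f D DR hDR hy)
    rwa [BC.map_tmul] at this
  · intro x
    have := h.comm_F (BC.tmul φ 1 x)
    rwa [hDR.F_tmul, BC.map_tmul, BC.map_tmul, hDR'.F_tmul, map_one] at this
  · intro y hy'
    have hy1 := tmul_one_mem_Q f D DR hDR y.2
    have h1 := h.comm_Vinv ⟨_, hy1⟩
    rw [hDR.Vinv_tmul 1 y hy1, BC.map_tmul, map_one] at h1
    rw [h1]
    exact Vinv_congr DR' (BC.map_tmul _ _ _ _) _ _

open Groth.Agent.S16540 in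
theorem isHom_map_of_isHomMod (D : Display3n p S P) (D' : Display3n p S P')
    (DR : Display3n p R (BC (WittVector.map f : WittVector p S →+* WittVector p R) P))
    (hDR : IsDispBaseChange f D DR)
    (DR' : Display3n p R (BC (WittVector.map f : WittVector p S →+* WittVector p R) P'))
    (hDR' : IsDispBaseChange f D' DR')
    (ψ : P →ₗ[WittVector p S] P') (hψ : IsHomMod f D D' DR' ψ) :
    IsHom DR DR' (BC.map φ ψ) := by
  have hcl : ∀ q ∈ DR.Q, q ∈ AddSubgroup.closure (gens f D.Q) := fun q hq =>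
    mem_closure_gens f D.Q q (LinearMap.mem_ker.1 (hDR.Q_eq ▸ hq))
  have hsub : AddSubgroup.closure (gens f D.Q) ≤ DR.Q.toAddSubgroup :=
    (AddSubgroup.closure_le DR.Q.toAddSubgroup).2 (gens_subset f D DR hDR)
  have hmaps : ∀ q ∈ AddSubgroup.closure (gens f D.Q), BC.map φ ψ q ∈ DR'.Q := by
    intro q hq
    induction hq using AddSubgroup.closure_induction with
    | mem t ht =>
      rcases ht with ⟨w, y, hy, rfl⟩ | ⟨w, x, rfl⟩
      · rw [BC.map_tmul, BC.tmul_eq_smul_tmul_one]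
        exact Submodule.smul_mem _ _ (hψ.mapsTo y hy)
      · rw [BC.map_tmul]
        exact gens_subset f D' DR' hDR' (Or.inr ⟨w, ψ x, rfl⟩)
    | zero => rw [map_zero]; exact Submodule.zero_mem _
    | add q₁ q₂ _ _ ih₁ ih₂ => rw [map_add]; exact Submodule.add_mem _ ih₁ ih₂
    | neg q₁ _ ih₁ => rw [map_neg]; exact Submodule.neg_mem _ ih₁
  refine ⟨fun q hq => hmaps q (hcl q hq), ?_, ?_⟩
  · intro z
    induction z using BC.induction_on φ with
    | zero => simp only [map_zero]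
    | tmul w x =>
      rw [hDR.F_tmul, BC.map_tmul, BC.map_tmul, hDR'.F_tmul, BC.tmul_eq_smul_tmul_one, hψ.comm_F,
        ← BC.tmul_eq_smul_tmul_one]
    | add z₁ z₂ h₁ h₂ => rw [map_add, map_add, map_add, map_add, h₁, h₂]
  · have key : ∀ q (_ : q ∈ AddSubgroup.closure (gens f D.Q)) (hq : q ∈ DR.Q)
        (hq' : BC.map φ ψ q ∈ DR'.Q),
        BC.map φ ψ (DR.Vinv ⟨q, hq⟩) = DR'.Vinv ⟨_, hq'⟩ := by
      intro q hqc
      induction hqc using AddSubgroup.closure_induction with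
      | mem t ht =>
        intro hq hq'
        rcases ht with ⟨w, y, hy, rfl⟩ | ⟨w, x, rfl⟩
        · rw [hDR.Vinv_tmul w ⟨y, hy⟩ hq, BC.map_tmul, BC.tmul_eq_smul_tmul_one,
            hψ.comm_Vinv ⟨y, hy⟩ (hψ.mapsTo y hy), ← map_smulₛₗ]
          refine congrArg DR'.Vinv (Subtype.ext ?_)
          change w • BC.tmul φ 1 (ψ y) = BC.map φ ψ (BC.tmul φ w y)
          rw [BC.map_tmul, ← BC.tmul_eq_smul_tmul_one]
        · rw [hDR.Vinv_verschiebung_tmul w x hq, BC.map_tmul, BC.tmul_eq_smul_tmul_one,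
            hψ.comm_F, ← BC.tmul_eq_smul_tmul_one]
          have e : BC.map φ ψ (BC.tmul φ (verschiebung w) x) =
              BC.tmul φ (verschiebung w) (ψ x) := BC.map_tmul _ _ _ _
          rw [Vinv_congr DR' e hq' (e ▸ hq')]
          exact (hDR'.Vinv_verschiebung_tmul w (ψ x) _).symm
      | zero =>
        intro hq hq'
        have e : BC.map φ ψ 0 = 0 := map_zero _
        rw [Vinv_congr DR' e hq' (Submodule.zero_mem _)]
        have h0 : (⟨0, hq⟩ : DR.Q) = 0 := rfl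
        have h0' : (⟨0, Submodule.zero_mem _⟩ : DR'.Q) = 0 := rfl
        rw [h0, h0', map_zero, map_zero, map_zero]
      | add q₁ q₂ h₁ h₂ ih₁ ih₂ =>
        intro hq hq'
        have hq₁ : q₁ ∈ DR.Q := hsub h₁
        have hq₂ : q₂ ∈ DR.Q := hsub h₂
        have hq₁' := hmaps q₁ h₁
        have hq₂' := hmaps q₂ h₂
        have e : BC.map φ ψ (q₁ + q₂) = BC.map φ ψ q₁ + BC.map φ ψ q₂ := map_add _ _ _
        rw [Vinv_congr DR' e hq' (Submodule.add_mem _ hq₁' hq₂')]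
        have h0 : (⟨q₁ + q₂, hq⟩ : DR.Q) = ⟨q₁, hq₁⟩ + ⟨q₂, hq₂⟩ := rfl
        have h0' : (⟨_, Submodule.add_mem _ hq₁' hq₂'⟩ : DR'.Q) = ⟨_, hq₁'⟩ + ⟨_, hq₂'⟩ := rfl
        rw [h0, h0', map_add, map_add, map_add, ih₁ hq₁ hq₁', ih₂ hq₂ hq₂']
      | neg q₁ h₁ ih₁ =>
        intro hq hq'
        have hq₁ : q₁ ∈ DR.Q := hsub h₁
        have hq₁' := hmaps q₁ h₁
        have e : BC.map φ ψ (-q₁) = -BC.map φ ψ q₁ := map_neg _ _
        rw [Vinv_congr DR' e hq' (Submodule.neg_mem _ hq₁')]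
        have h0 : (⟨-q₁, hq⟩ : DR.Q) = -⟨q₁, hq₁⟩ := rfl
        have h0' : (⟨_, Submodule.neg_mem _ hq₁'⟩ : DR'.Q) = -⟨_, hq₁'⟩ := rfl
        rw [h0, h0', map_neg, map_neg, map_neg, ih₁ hq₁ hq₁']
    intro q
    exact key q (hcl q q.2) q.2 _

open Groth.Agent.S16540 in
/-- the preimage of `Q_R` in `P'` is `Q' + (ker φ) P'` -/
theorem exists_sub_mem_of_tmul_one_mem (hf : Function.Surjective f) (D' : Display3n p S P')
    (DR' : Display3n p R (BC (WittVector.map f : WittVector p S →+* WittVector p R) P'))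
    (hDR' : IsDispBaseChange f D' DR') (z : P') (hz : BC.tmul φ 1 z ∈ DR'.Q) :
    ∃ q' ∈ D'.Q, z - q' ∈ RingHom.ker φ • (⊤ : Submodule (WittVector p S) P') := by
  have hφ : Function.Surjective φ := WittVector.map_surjective f hf
  have h1 : BC.tmul φ 1 z ∈ AddSubgroup.closure (gens f D'.Q) :=
    mem_closure_gens f D'.Q _ (LinearMap.mem_ker.1 (hDR'.Q_eq ▸ hz))
  have h2 : ∀ t ∈ AddSubgroup.closure (gens f D'.Q), ∃ q' ∈ D'.Q, BC.tmul φ 1 q' = t := by
    intro t ht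
    induction ht using AddSubgroup.closure_induction with
    | mem t ht =>
      rcases ht with ⟨w, y, hy, rfl⟩ | ⟨w, x, rfl⟩
      · obtain ⟨a, rfl⟩ := hφ w
        exact ⟨a • y, Submodule.smul_mem _ _ hy, by rw [← BC.tmul_mul_apply, one_mul]⟩
      · obtain ⟨a, rfl⟩ := hφ w
        refine ⟨verschiebung a • x, D'.IV_smul_le (Submodule.smul_mem_smul
          (verschiebung_mem_IV p S a) Submodule.mem_top), ?_⟩
        rw [← BC.tmul_mul_apply, one_mul]
        rw [WittVector.map_verschiebung]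
    | zero => exact ⟨0, Submodule.zero_mem _, BC.tmul_zero _ _⟩
    | add t₁ t₂ _ _ ih₁ ih₂ =>
      obtain ⟨q₁, hq₁, rfl⟩ := ih₁
      obtain ⟨q₂, hq₂, rfl⟩ := ih₂
      exact ⟨q₁ + q₂, Submodule.add_mem _ hq₁ hq₂, BC.tmul_add _ _ _ _⟩
    | neg t₁ _ ih₁ =>
      obtain ⟨q₁, hq₁, rfl⟩ := ih₁
      exact ⟨-q₁, Submodule.neg_mem _ hq₁, BC.tmul_neg _ _ _⟩
  obtain ⟨q', hq', e⟩ := h2 _ h1
  refine ⟨q', hq', ?_⟩
  rw [← tmul_one_eq_zero_iff φ hφ, tmul_one_sub, e, sub_self]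

end HomMod

section StepLift

variable {p : ℕ} [hp' : Fact p.Prime] {S : Type u} [CommRing S]
variable {P : Type v} [AddCommGroup P] [Module (WittVector p S) P]
variable {P' : Type v} [AddCommGroup P'] [Module (WittVector p S) P']

lemma ker_map_eq_WI {R : Type u} [CommRing R] (g : S →+* R) :
    RingHom.ker (WittVector.map g : WittVector p S →+* WittVector p R) = WI (RingHom.ker g) := by
  ext ξ
  rw [mem_WI, RingHom.mem_ker, WittVector.ext_iff]
  refine forall_congr' fun n => ?_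
  rw [WittVector.map_coeff, WittVector.zero_coeff, RingHom.mem_ker]

/-- if `𝔟² + p𝔟 ⊆ 𝔠` then `p W(𝔟) ⊆ W(𝔠)` -/
lemma p_mul_mem_WI (𝔟 𝔠 : Ideal S) (hsq : 𝔟 * 𝔟 ≤ 𝔠) (hpb : ∀ a ∈ 𝔟, (p : S) * a ∈ 𝔠)
    {ξ : WittVector p S} (hξ : ξ ∈ (WI 𝔟 : Ideal (WittVector p S))) :
    (p : WittVector p S) * ξ ∈ (WI 𝔠 : Ideal (WittVector p S)) := by
  have hsurj : Function.Surjective (Ideal.Quotient.mk 𝔠) := Ideal.Quotient.mk_surjective
  have h2 : ∀ a ∈ 𝔟.map (Ideal.Quotient.mk 𝔠), ∀ b ∈ 𝔟.map (Ideal.Quotient.mk 𝔠), a * b = 0 := by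
    intro a ha b hb
    obtain ⟨a', ha', rfl⟩ := (Ideal.mem_map_iff_of_surjective _ hsurj).mp ha
    obtain ⟨b', hb', rfl⟩ := (Ideal.mem_map_iff_of_surjective _ hsurj).mp hb
    rw [← map_mul, Ideal.Quotient.eq_zero_iff_mem]
    exact hsq (Ideal.mul_mem_mul ha' hb')
  have hpb' : ∀ a ∈ 𝔟.map (Ideal.Quotient.mk 𝔠), (p : S ⧸ 𝔠) * a = 0 := by
    intro a ha
    obtain ⟨a', ha', rfl⟩ := (Ideal.mem_map_iff_of_surjective _ hsurj).mp ha
    rw [← map_natCast (Ideal.Quotient.mk 𝔠), ← map_mul, Ideal.Quotient.eq_zero_iff_mem]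
    exact hpb a' ha'
  rw [WI, RingHom.mem_ker, map_mul, map_natCast, mul_comm]
  exact mul_p_eq_zero h2 hpb' (map_mem_WI _ 𝔟 hξ)

lemma p_smul_mem (𝔟 𝔠 : Ideal S) (hsq : 𝔟 * 𝔟 ≤ 𝔠) (hpb : ∀ a ∈ 𝔟, (p : S) * a ∈ 𝔠)
    {n : P'} (hn : n ∈ (WI 𝔟 : Ideal (WittVector p S)) • (⊤ : Submodule (WittVector p S) P')) :
    (p : WittVector p S) • n ∈
      (WI 𝔠 : Ideal (WittVector p S)) • (⊤ : Submodule (WittVector p S) P') := by
  refine Submodule.smul_induction_on hn ?_ ?_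
  · intro ξ hξ y _
    rw [← mul_smul]
    exact Submodule.smul_mem_smul (p_mul_mem_WI 𝔟 𝔠 hsq hpb hξ) Submodule.mem_top
  · intro x y hx hy
    rw [smul_add]
    exact Submodule.add_mem _ hx hy

/-- **Lifting step**: if `u` is a homomorphism modulo `𝔟 = ker g₁` and `𝔟² + p𝔟 ⊆ 𝔠`, then `p u` is
a homomorphism modulo `𝔠`. -/
theorem isHomMod_p_smul {R₁ : Type u} [CommRing R₁] (g₁ : S →+* R₁)
    (hg₁ : Function.Surjective g₁) (𝔠 : Ideal S)
    (hsq : RingHom.ker g₁ * RingHom.ker g₁ ≤ 𝔠) (hpb : ∀ a ∈ RingHom.ker g₁, (p : S) * a ∈ 𝔠)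
    (D : Display3n p S P) (D' : Display3n p S P')
    (D₁' : Display3n p R₁ (BC (WittVector.map g₁ : WittVector p S →+* WittVector p R₁) P'))
    (hD₁' : IsDispBaseChange g₁ D' D₁')
    (D₂' : Display3n p (S ⧸ 𝔠) (BC (WittVector.map (Ideal.Quotient.mk 𝔠) :
      WittVector p S →+* WittVector p (S ⧸ 𝔠)) P'))
    (hD₂' : IsDispBaseChange (Ideal.Quotient.mk 𝔠) D' D₂')
    (u : P →ₗ[WittVector p S] P') (hu : IsHomMod g₁ D D' D₁' u) :
    IsHomMod (Ideal.Quotient.mk 𝔠) D D' D₂' ((p : WittVector p S) • u) := by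
  have hφ₁ : Function.Surjective (WittVector.map g₁ : WittVector p S →+* WittVector p R₁) :=
    WittVector.map_surjective g₁ hg₁
  have hφ₂ : Function.Surjective (WittVector.map (Ideal.Quotient.mk 𝔠) :
      WittVector p S →+* WittVector p (S ⧸ 𝔠)) :=
    WittVector.map_surjective _ Ideal.Quotient.mk_surjective
  -- `p` maps `ker φ₁ • P'` into `ker φ₂ • P'`
  have hpN : ∀ n ∈ RingHom.ker (WittVector.map g₁ : WittVector p S →+* WittVector p R₁) •
      (⊤ : Submodule (WittVector p S) P'),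
      BC.tmul (WittVector.map (Ideal.Quotient.mk 𝔠) :
        WittVector p S →+* WittVector p (S ⧸ 𝔠)) 1 ((p : WittVector p S) • n) = 0 := by
    intro n hn
    rw [ker_map_eq_WI] at hn
    exact tmul_one_eq_zero_of_mem _ (p_smul_mem _ 𝔠 hsq hpb hn)
  -- decomposition of `u y` for `y ∈ Q`
  have hdec : ∀ y ∈ D.Q, ∃ q' ∈ D'.Q, u y - q' ∈
      RingHom.ker (WittVector.map g₁ : WittVector p S →+* WittVector p R₁) •
        (⊤ : Submodule (WittVector p S) P') := fun y hy =>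
    exists_sub_mem_of_tmul_one_mem g₁ hg₁ D' D₁' hD₁' (u y) (hu.mapsTo y hy)
  have hpu : ∀ y ∈ D.Q, ∀ q' ∈ D'.Q, u y - q' ∈
      RingHom.ker (WittVector.map g₁ : WittVector p S →+* WittVector p R₁) •
        (⊤ : Submodule (WittVector p S) P') →
      BC.tmul (WittVector.map (Ideal.Quotient.mk 𝔠) :
        WittVector p S →+* WittVector p (S ⧸ 𝔠)) 1 (((p : WittVector p S) • u) y) =
      BC.tmul (WittVector.map (Ideal.Quotient.mk 𝔠) :
        WittVector p S →+* WittVector p (S ⧸ 𝔠)) 1 ((p : WittVector p S) • q') := by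
    intro y _ q' _ hn
    have := hpN _ hn
    rw [smul_sub, tmul_one_sub, sub_eq_zero] at this
    rw [LinearMap.smul_apply, this]
  refine ⟨?_, ?_, ?_⟩
  · intro y hy
    obtain ⟨q', hq', hn⟩ := hdec y hy
    rw [hpu y hy q' hq' hn]
    exact tmul_one_mem_Q _ D' D₂' hD₂' (Submodule.smul_mem _ _ hq')
  · intro x
    have h1 := hu.comm_F x
    rw [← sub_eq_zero, ← tmul_one_sub, tmul_one_eq_zero_iff _ hφ₁] at h1
    have h2 := hpN _ h1
    rw [smul_sub, tmul_one_sub, sub_eq_zero] at h2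
    rw [LinearMap.smul_apply, LinearMap.smul_apply, h2, map_smulₛₗ, map_natCast]
  · intro y hy'
    obtain ⟨q', hq', hn⟩ := hdec y y.2
    have e := hpu y y.2 q' hq' hn
    have hq₂ := tmul_one_mem_Q _ D' D₂' hD₂' (Submodule.smul_mem _ (p : WittVector p S) hq')
    rw [Vinv_congr D₂' e hy' hq₂]
    have h3 := hD₂'.Vinv_tmul 1 ⟨(p : WittVector p S) • q', Submodule.smul_mem _ _ hq'⟩ hq₂
    rw [map_one] at h3
    rw [h3]
    have h4 : (⟨(p : WittVector p S) • q', Submodule.smul_mem _ _ hq'⟩ : D'.Q) =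
        (p : WittVector p S) • ⟨q', hq'⟩ := rfl
    rw [h4, map_smulₛₗ, map_natCast, LinearMap.smul_apply]
    -- now compare `u (V⁻¹ y)` and `V'⁻¹ q'` modulo `ker φ₁`
    have hq₁ := tmul_one_mem_Q _ D' D₁' hD₁' hq'
    have e₁ : BC.tmul (WittVector.map g₁ : WittVector p S →+* WittVector p R₁) 1 (u y) =
        BC.tmul (WittVector.map g₁ : WittVector p S →+* WittVector p R₁) 1 q' := by
      rw [← sub_eq_zero, ← tmul_one_sub]
      exact tmul_one_eq_zero_of_mem _ hn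
    have h5 := hu.comm_Vinv y (hu.mapsTo y y.2)
    rw [Vinv_congr D₁' e₁ (hu.mapsTo y y.2) hq₁] at h5
    have h6 := hD₁'.Vinv_tmul 1 ⟨q', hq'⟩ hq₁
    rw [map_one] at h6
    rw [h6, ← sub_eq_zero, ← tmul_one_sub, tmul_one_eq_zero_iff _ hφ₁] at h5
    have h7 := hpN _ h5
    rw [smul_sub, tmul_one_sub, sub_eq_zero] at h7
    exact h7

/-- for `ker g = ⊥`, a homomorphism modulo `ker g` is a homomorphism -/
theorem isHom_of_isHomMod_of_ker_eq_bot {R₁ : Type u} [CommRing R₁] (g : S →+* R₁)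
    (hg : Function.Surjective g) (hker : RingHom.ker g = ⊥)
    (D : Display3n p S P) (D' : Display3n p S P')
    (DR' : Display3n p R₁ (BC (WittVector.map g : WittVector p S →+* WittVector p R₁) P'))
    (hDR' : IsDispBaseChange g D' DR')
    (u : P →ₗ[WittVector p S] P') (hu : IsHomMod g D D' DR' u) : IsHom D D' u := by
  have hφ : Function.Surjective (WittVector.map g : WittVector p S →+* WittVector p R₁) :=
    WittVector.map_surjective g hg
  have hN : RingHom.ker (WittVector.map g : WittVector p S →+* WittVector p R₁) •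
      (⊤ : Submodule (WittVector p S) P') = ⊥ := by
    rw [ker_map_eq_WI, hker, WI_bot, Submodule.bot_smul]
  have hinj : ∀ y y' : P', BC.tmul (WittVector.map g : WittVector p S →+* WittVector p R₁) 1 y =
      BC.tmul (WittVector.map g : WittVector p S →+* WittVector p R₁) 1 y' → y = y' := by
    intro y y' h
    rw [← sub_eq_zero, ← tmul_one_sub, tmul_one_eq_zero_iff _ hφ, hN, Submodule.mem_bot,
      sub_eq_zero] at h
    exact h
  have hmaps : ∀ y ∈ D.Q, u y ∈ D'.Q := by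
    intro y hy
    obtain ⟨q', hq', hn⟩ := exists_sub_mem_of_tmul_one_mem g hg D' DR' hDR' (u y) (hu.mapsTo y hy)
    rw [hN, Submodule.mem_bot, sub_eq_zero] at hn
    rw [hn]
    exact hq'
  refine ⟨hmaps, fun x => hinj _ _ (hu.comm_F x), ?_⟩
  intro y
  apply hinj
  have hq := tmul_one_mem_Q g D' DR' hDR' (hmaps y y.2)
  rw [hu.comm_Vinv y hq]
  have h6 := hDR'.Vinv_tmul 1 ⟨u y, hmaps y y.2⟩ hq
  rw [map_one] at h6
  exact h6

/-- **Lifting up to a power of `p`**: if `u` is a homomorphism modulo `ker g` and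
`ker g · 𝔪ⁿ = 0`, where `ker g ⊆ 𝔪 ∋ p`, then `pⁿ u` is a homomorphism of 3n-displays. -/
theorem isHom_pow_smul (𝔪 : Ideal S) (hp𝔪 : (p : S) ∈ 𝔪)
    (D : Display3n p S P) (D' : Display3n p S P') (n : ℕ) :
    ∀ (R₁ : Type u) [CommRing R₁] (g : S →+* R₁), Function.Surjective g → RingHom.ker g ≤ 𝔪 →
      RingHom.ker g * 𝔪 ^ n = ⊥ →
      ∀ (DR' : Display3n p R₁ (BC (WittVector.map g : WittVector p S →+* WittVector p R₁) P')),
        IsDispBaseChange g D' DR' → ∀ u : P →ₗ[WittVector p S] P', IsHomMod g D D' DR' u →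
          IsHom D D' ((p : WittVector p S) ^ n • u) := by
  induction n with
  | zero =>
    intro R₁ _ g hg _ h0 DR' hDR' u hu
    rw [pow_zero, Ideal.one_eq_top, Ideal.mul_top] at h0
    rw [pow_zero, one_smul]
    exact isHom_of_isHomMod_of_ker_eq_bot g hg h0 D D' DR' hDR' u hu
  | succ n ih =>
    intro R₁ _ g hg h𝔪 h0 DR' hDR' u hu
    obtain ⟨L', T', hLT', hQ'⟩ := D'.exists_normal
    have hD₂' := Groth.Agent.S16538.isDispBaseChange_DRof
      (Ideal.Quotient.mk (RingHom.ker g * 𝔪)) D' L' T' hLT' hQ'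
    have hstep := isHomMod_p_smul g hg (RingHom.ker g * 𝔪) (Ideal.mul_mono_right h𝔪)
      (fun a ha => by
        rw [mul_comm (p : S) a]
        exact Ideal.mul_mem_mul ha hp𝔪)
      D D' DR' hDR' _ hD₂' u hu
    have := ih (S ⧸ (RingHom.ker g * 𝔪)) (Ideal.Quotient.mk (RingHom.ker g * 𝔪))
      Ideal.Quotient.mk_surjective
      (by rw [Ideal.mk_ker]; exact (Ideal.mul_le_right : RingHom.ker g * 𝔪 ≤ 𝔪))
      (by rw [Ideal.mk_ker, mul_assoc, ← pow_succ', h0]) _ hD₂' _ hstep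
    rwa [← mul_smul, ← pow_succ] at this

end StepLift

section Sub

variable {p : ℕ} [hp' : Fact p.Prime] {S : Type u} [CommRing S]
variable {P : Type v} [AddCommGroup P] [Module (WittVector p S) P]
variable {P' : Type w} [AddCommGroup P'] [Module (WittVector p S) P']

theorem isHom_sub (D : Display3n p S P) (D' : Display3n p S P') {ψ χ : P →ₗ[WittVector p S] P'}
    (hψ : IsHom D D' ψ) (hχ : IsHom D D' χ) : IsHom D D' (ψ - χ) := by
  refine ⟨fun q hq => ?_, fun x => ?_, fun q => ?_⟩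
  · rw [LinearMap.sub_apply]
    exact Submodule.sub_mem _ (hψ.mapsTo q hq) (hχ.mapsTo q hq)
  · rw [LinearMap.sub_apply, LinearMap.sub_apply, hψ.comm_F, hχ.comm_F, map_sub]
  · rw [LinearMap.sub_apply, hψ.comm_Vinv, hχ.comm_Vinv, ← map_sub]
    rfl

end Sub

section Nil

variable {S : Type u} [CommRing S]

lemma exists_pow_sup_span_eq_bot (𝔞 : Ideal S) (h𝔞 : IsNilpotent 𝔞) (a : S) (ha : IsNilpotent a) :
    ∃ N, (𝔞 ⊔ Ideal.span {a}) ^ N = ⊥ := by
  obtain ⟨m, hm⟩ := h𝔞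
  obtain ⟨b, hb⟩ := ha
  refine ⟨m + b, ?_⟩
  rw [eq_bot_iff]
  refine Ideal.sup_pow_add_le_pow_sup_pow.trans ?_
  rw [hm, Ideal.span_singleton_pow, hb, Ideal.zero_eq_bot, Ideal.span_singleton_zero, sup_bot_eq]

end Nil

end Groth.Agent.R2.H78.DispLift
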