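import Mathlib
import Groth.Agent.R2.H78DispStep

/-!
# `p`-torsion Witt vectors have nilpotent coefficients (helper78)

If `p` is nilpotent in `S` and `ξ * p = 0` in `W(S)`, then all coefficients of `ξ` are nilpotent.
Consequently a linear map `ψ : P → P'` into a finite projective `W(S)`-module with `p ψ = 0` has
image in `W(nilradical S) P'`.
-/

set_option autoImplicit false
universe u v w

namespace Groth.Agent.R2.H78.DispTors

open WittVector Groth.Agent.R2.H78.WittSq

variable {p : ℕ} [hp' : Fact p.Prime] {S : Type u} [CommRing S]

/-- in a reduced ring of characteristic `p`, `W(R)` has no `p`-torsion -/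
lemma eq_zero_of_mul_p_eq_zero {R : Type u} [CommRing R] [CharP R p] [IsReduced R]
    (ξ : WittVector p R) (h : ξ * (p : WittVector p R) = 0) : ξ = 0 := by
  rw [← verschiebung_frobenius] at h
  have h1 : frobenius ξ = 0 := by
    apply verschiebung_injective p R
    rw [h, map_zero]
  ext n
  have h2 := congrArg (fun x => WittVector.coeff x n) h1
  simp only [coeff_frobenius_charP, WittVector.zero_coeff] at h2
  rw [WittVector.zero_coeff]
  exact IsReduced.eq_zero _ ⟨p, h2⟩

lemma mem_WI_nilradical_of_mul_p_eq_zero [Nontrivial S] (hp : IsNilpotent (p : S))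
    (ξ : WittVector p S) (h : ξ * (p : WittVector p S) = 0) :
    ξ ∈ (WI (nilradical S) : Ideal (WittVector p S)) := by
  have hne : (nilradical S) ≠ ⊤ := by
    intro htop
    have h1 : (1 : S) ∈ nilradical S := htop ▸ Submodule.mem_top
    rw [mem_nilradical] at h1
    exact not_isNilpotent_one h1
  have : Nontrivial (S ⧸ nilradical S) := Ideal.Quotient.nontrivial_iff.mpr hne
  have : IsReduced (S ⧸ nilradical S) :=
    (Ideal.isRadical_iff_quotient_reduced _).mp (Ideal.radical_isRadical _)
  have : CharP (S ⧸ nilradical S) p := by
    rw [CharP.charP_iff_prime_eq_zero hp'.out, ← map_natCast (Ideal.Quotient.mk (nilradical S)),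
      Ideal.Quotient.eq_zero_iff_mem, mem_nilradical]
    exact hp
  rw [WI, RingHom.mem_ker]
  apply eq_zero_of_mul_p_eq_zero
  rw [← map_natCast (WittVector.map (Ideal.Quotient.mk (nilradical S))), ← map_mul, h, map_zero]

/-- a `p`-torsion linear map into a finite projective module has image in `W(nil) P'` -/
theorem image_le_of_p_smul_eq_zero (hp : IsNilpotent (p : S))
    {P : Type v} [AddCommGroup P] [Module (WittVector p S) P]
    {P' : Type w} [AddCommGroup P'] [Module (WittVector p S) P']
    [Module.Finite (WittVector p S) P'] [Module.Projective (WittVector p S) P']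
    (ψ : P →ₗ[WittVector p S] P') (h : (p : WittVector p S) • ψ = 0) (x : P) :
    ψ x ∈ (WI (nilradical S) : Ideal (WittVector p S)) •
      (⊤ : Submodule (WittVector p S) P') := by
  rcases subsingleton_or_nontrivial S with hS | hS
  · haveI : Subsingleton (WittVector p S) :=
      ⟨fun a b => WittVector.ext fun n => Subsingleton.elim _ _⟩
    have : Subsingleton P' := Module.subsingleton (WittVector p S) P'
    rw [Subsingleton.elim (ψ x) 0]
    exact Submodule.zero_mem _
  · obtain ⟨m, p₀, hp₀⟩ := Module.Finite.exists_fin' (WittVector p S) P'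
    obtain ⟨ι, hι⟩ := Module.projective_lifting_property p₀ LinearMap.id hp₀
    have hpi : ∀ z, p₀ (ι z) = z := fun z => LinearMap.congr_fun hι z
    have hx : (p : WittVector p S) • ψ x = 0 := by
      have := LinearMap.congr_fun h x
      rwa [LinearMap.smul_apply, LinearMap.zero_apply] at this
    have hc : ∀ k, ι (ψ x) k ∈ (WI (nilradical S) : Ideal (WittVector p S)) := by
      intro k
      apply mem_WI_nilradical_of_mul_p_eq_zero hp
      have := congrFun (congrArg ι hx) k
      rw [map_smul, Pi.smul_apply, smul_eq_mul, map_zero, Pi.zero_apply] at this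
      rw [mul_comm, this]
    rw [← hpi (ψ x), LinearMap.pi_apply_eq_sum_univ p₀ (ι (ψ x))]
    exact Submodule.sum_mem _ fun k _ => Submodule.smul_mem_smul (hc k) Submodule.mem_top

end Groth.Agent.R2.H78.DispTors
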