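import Mathlib

/-!
# The Eakin–Nagata theorem (Formanek's proof)

* `isNoetherian_of_forall_quotient_smul`: a finite module `M` such that `M / rM` is Noetherian
  for every `r` not annihilating `M` is Noetherian.
* `isNoetherian_of_acc_smul_top`: Formanek's theorem: a finite module `M` with ACC on
  submodules of the form `I M` is Noetherian.
* `isNoetherianRing_of_finite_of_injective`: Eakin–Nagata.
-/

set_option autoImplicit false

namespace Groth.Agent.R2.H78.EakinNagata

open Submodule

variable {R : Type*} [CommRing R] {M : Type*} [AddCommGroup M] [Module R M]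

theorem mem_span_singleton_smul_top (r : R) (x : M) :
    x ∈ (Ideal.span {r} • (⊤ : Submodule R M)) ↔ ∃ m : M, r • m = x := by
  rw [Submodule.ideal_span_singleton_smul, Submodule.mem_smul_pointwise_iff_exists]
  simp

theorem fg_span_singleton_smul_top [Module.Finite R M] (r : R) :
    (Ideal.span {r} • (⊤ : Submodule R M)).FG := by
  have : (Ideal.span {r} • (⊤ : Submodule R M)) = Submodule.map (LinearMap.lsmul R M r) ⊤ := by
    ext x
    rw [mem_span_singleton_smul_top]
    simp
  rw [this]
  exact (Module.Finite.fg_top).map _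

/-- A finite module `M` such that `M / rM` is Noetherian for every `r` not annihilating `M`
is Noetherian. -/
theorem isNoetherian_of_forall_quotient_smul [Module.Finite R M]
    (h : ∀ r : R, (∃ m : M, r • m ≠ 0) →
      IsNoetherian R (M ⧸ (Ideal.span {r} • (⊤ : Submodule R M)))) :
    IsNoetherian R M := by
  classical
  let Γ : Set (Submodule R M) :=
    {N | ∀ r : R, (Ideal.span {r} • (⊤ : Submodule R M)) ≤ N → ∀ m : M, r • m = 0}
  have hbot : (⊥ : Submodule R M) ∈ Γ := by
    intro r hr m
    have : r • m ∈ (Ideal.span {r} • (⊤ : Submodule R M)) :=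
      (mem_span_singleton_smul_top r _).2 ⟨m, rfl⟩
    simpa using hr this
  have hchain : ∀ c ⊆ Γ, IsChain (· ≤ ·) c → ∀ y ∈ c, ∃ ub ∈ Γ, ∀ z ∈ c, z ≤ ub := by
    intro c hcΓ hc y hy
    refine ⟨sSup c, ?_, fun z hz => le_sSup hz⟩
    intro r hr m
    have hcomp := (Submodule.fg_iff_compact _).1 (fg_span_singleton_smul_top (M := M) r)
    rw [CompleteLattice.isCompactElement_iff_le_of_directed_sSup_le] at hcomp
    obtain ⟨N, hNc, hN⟩ := hcomp c ⟨y, hy⟩ hc.directedOn hr
    exact hcΓ hNc r hN m
  obtain ⟨N₀, -, hN₀⟩ := zorn_le_nonempty₀ Γ hchain ⊥ hbot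
  · have hfg : ∀ N' : Submodule R M, N₀ < N' → N'.FG := by
      intro N' hlt
      have hN' : N' ∉ Γ := fun hmem => hlt.not_ge (hN₀.2 hmem hlt.le)
      simp only [Γ, Set.mem_ofPred_eq, not_forall] at hN'
      obtain ⟨r, hr, m, hm⟩ := hN'
      have := h r ⟨m, hm⟩
      apply Submodule.fg_of_fg_map_of_fg_inf_ker
        (Submodule.mkQ (Ideal.span {r} • (⊤ : Submodule R M)))
      · exact IsNoetherian.noetherian _
      · rw [Submodule.ker_mkQ, inf_eq_right.2 hr]
        exact fg_span_singleton_smul_top r
    have hM₂ : IsNoetherian R (M ⧸ N₀) := by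
      refine ⟨fun N => ?_⟩
      by_cases hN : N = ⊥
      · rw [hN]; exact Submodule.fg_bot
      · have hlt : N₀ < N.comap N₀.mkQ := by
          refine lt_of_le_of_ne ?_ ?_
          · conv_lhs => rw [← Submodule.ker_mkQ N₀]
            exact LinearMap.ker_le_comap _
          · intro heq
            apply hN
            have := Submodule.map_comap_eq_of_surjective N₀.mkQ_surjective N
            rw [← this, ← heq]
            simp
        have := (hfg _ hlt).map N₀.mkQ
        rwa [Submodule.map_comap_eq_of_surjective N₀.mkQ_surjective] at this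
    have hann : ∀ r : R, (∀ x : M ⧸ N₀, r • x = 0) → ∀ m : M, r • m = 0 := by
      intro r hr
      apply hN₀.1 r
      intro x hx
      obtain ⟨m, rfl⟩ := (mem_span_singleton_smul_top r x).1 hx
      have := hr (Submodule.Quotient.mk m)
      rwa [← Submodule.Quotient.mk_smul, Submodule.Quotient.mk_eq_zero] at this
    let L : R →ₗ[R] (M ⧸ N₀) →ₗ[R] (M ⧸ N₀) := LinearMap.lsmul R (M ⧸ N₀)
    have hQ : IsNoetherian R (R ⧸ LinearMap.ker L) :=
      isNoetherian_of_linearEquiv (L.quotKerEquivRange).symm
    have hker : ∀ r ∈ LinearMap.ker L, ∀ m : M, r • m = 0 := by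
      intro r hr
      apply hann
      intro x
      have := LinearMap.congr_fun (LinearMap.mem_ker.1 hr) x
      simpa [L] using this
    have hcyc : ∀ m : M, IsNoetherian R (Submodule.span R {m}) := by
      intro m
      have hle : LinearMap.ker L ≤ LinearMap.ker (LinearMap.toSpanSingleton R M m) := by
        intro r hr
        rw [LinearMap.mem_ker, LinearMap.toSpanSingleton_apply]
        exact hker r hr m
      have : IsNoetherian R (LinearMap.range ((LinearMap.ker L).liftQ _ hle)) := inferInstance
      rwa [Submodule.range_liftQ, ← LinearMap.span_singleton_eq_range] at this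
    obtain ⟨S, hS⟩ := (Module.Finite.fg_top : (⊤ : Submodule R M).FG)
    rw [← isNoetherian_top_iff, ← hS, Submodule.span_eq_iSup_of_singleton_spans, iSup_subtype']
    infer_instance

/-- **Formanek's theorem**: a finite module with the ascending chain condition on submodules of
the form `I M` is Noetherian. -/
theorem isNoetherian_of_acc_smul_top [Module.Finite R M]
    (hacc : ∀ S : Set (Ideal R), S.Nonempty →
      ∃ I ∈ S, ∀ J ∈ S, I ≤ J → J • (⊤ : Submodule R M) ≤ I • ⊤) :
    IsNoetherian R M := by
  by_contra hM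
  let S : Set (Ideal R) := {I | ¬ IsNoetherian R (M ⧸ (I • (⊤ : Submodule R M)))}
  have hS : S.Nonempty := by
    refine ⟨⊥, ?_⟩
    intro hbot
    apply hM
    have e : (M ⧸ ((⊥ : Ideal R) • (⊤ : Submodule R M))) ≃ₗ[R] M :=
      Submodule.quotEquivOfEqBot _ (Submodule.bot_smul _)
    exact isNoetherian_of_linearEquiv e
  obtain ⟨I₀, hI₀, hmax⟩ := hacc S hS
  apply hI₀
  apply isNoetherian_of_forall_quotient_smul
  rintro r ⟨x, hx⟩
  by_contra hr
  have hJ : I₀ ⊔ Ideal.span {r} ∈ S := by
    intro hJN
    apply hr
    rw [Submodule.sup_smul] at hJN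
    have e := Submodule.quotientQuotientEquivQuotientSup (I₀ • (⊤ : Submodule R M))
      (Ideal.span {r} • (⊤ : Submodule R M))
    have h1 : (Ideal.span {r} • (⊤ : Submodule R M)).map (I₀ • (⊤ : Submodule R M)).mkQ =
        Ideal.span {r} • ⊤ := by
      rw [Submodule.map_smul'', Submodule.map_top, Submodule.range_mkQ]
    have hN := isNoetherian_of_linearEquiv e.symm
    rwa [h1] at hN
  have hle := hmax _ hJ le_sup_left
  obtain ⟨m, rfl⟩ := Submodule.Quotient.mk_surjective _ x
  apply hx
  rw [← Submodule.Quotient.mk_smul, Submodule.Quotient.mk_eq_zero]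
  exact hle (Submodule.smul_mem_smul (Ideal.mem_sup_right (Ideal.subset_span rfl))
    Submodule.mem_top)

/-- **Eakin–Nagata**: if `B → A` is an injective finite ring map with `A` Noetherian, then `A` is
a Noetherian `B`-module. -/
theorem isNoetherian_of_finite_of_isNoetherianRing {B A : Type*} [CommRing B] [CommRing A]
    [Algebra B A] [Module.Finite B A] [IsNoetherianRing A] :
    IsNoetherian B A := by
  apply isNoetherian_of_acc_smul_top
  intro S hS
  have hwf : WellFoundedGT (Ideal A) := inferInstance
  obtain ⟨I', ⟨I, hI, rfl⟩, hmax⟩ :=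
    WellFounded.has_min hwf.wf ((Ideal.map (algebraMap B A)) '' S) (hS.image _)
  refine ⟨I, hI, fun J hJ hIJ => ?_⟩
  have h1 : Ideal.map (algebraMap B A) I ≤ Ideal.map (algebraMap B A) J := Ideal.map_mono hIJ
  have h2 : ¬ (Ideal.map (algebraMap B A) I < Ideal.map (algebraMap B A) J) :=
    hmax _ ⟨J, hJ, rfl⟩
  have h3 : Ideal.map (algebraMap B A) J = Ideal.map (algebraMap B A) I := by
    by_contra hne
    exact h2 (lt_of_le_of_ne h1 (Ne.symm hne))
  rw [Ideal.smul_top_eq_map, Ideal.smul_top_eq_map, h3]

/-- **Eakin–Nagata**: if `B → A` is an injective finite ring map with `A` Noetherian, then `B` is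
Noetherian. -/
theorem isNoetherianRing_of_finite_of_injective {B A : Type*} [CommRing B] [CommRing A]
    [Algebra B A] [Module.Finite B A] [IsNoetherianRing A]
    (hinj : Function.Injective (algebraMap B A)) :
    IsNoetherianRing B := by
  have hA : IsNoetherian B A := isNoetherian_of_finite_of_isNoetherianRing
  exact isNoetherian_of_injective (Algebra.linearMap B A) hinj

end Groth.Agent.R2.H78.EakinNagata
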