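import Mathlib

/-!
# Ramification bound for a totally ramified, residually trivial prime under a finite group

`pow_card_dvd`: let a finite group `D` act faithfully on a domain `A`, finite over a ring `B'`
whose image is the ring of invariants; let `t` be a prime element with `δ • t ~ t` for all `δ`,
and assume that every element of `A` is congruent modulo `t` to a fraction of elements of `B'`.
Then every nonzero element of `B'` divisible by `t` is divisible by `t ^ |D|`.
-/

set_option autoImplicit false

namespace Groth.Agent.R2.H78.InvPrincipal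

open Polynomial

section LemmaE

variable {A B' D : Type*} [CommRing A] [CommRing B'] [Algebra B' A]

theorem exists_approx {t : A} (ht : Prime t)
    (hres : ∀ a : A, ∃ b c : B', ¬ t ∣ algebraMap B' A c ∧
      t ∣ algebraMap B' A c * a - algebraMap B' A b) (k : ℕ) (a : A) :
    ∃ (c : B') (b : ℕ → B'), ¬ t ∣ algebraMap B' A c ∧
      t ^ k ∣ algebraMap B' A c * a - ∑ i ∈ Finset.range k, algebraMap B' A (b i) * t ^ i := by
  induction k with
  | zero =>
    refine ⟨1, fun _ => 0, ?_, by simp⟩
    rw [map_one]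
    exact fun h => ht.not_isUnit (isUnit_of_dvd_one h)
  | succ k ih =>
    obtain ⟨c, b, hc, a', ha'⟩ := ih
    obtain ⟨b', c', hc', a'', ha''⟩ := hres a'
    refine ⟨c' * c, fun i => if i = k then b' else c' * b i, ?_, ?_⟩
    · rw [map_mul]
      intro h
      rcases ht.dvd_or_dvd h with h | h
      exacts [hc' h, hc h]
    · rw [Finset.sum_range_succ]
      refine ⟨a'', ?_⟩
      have h1 : ∑ i ∈ Finset.range k,
          algebraMap B' A (if i = k then b' else c' * b i) * t ^ i =
          algebraMap B' A c' * ∑ i ∈ Finset.range k, algebraMap B' A (b i) * t ^ i := by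
        rw [Finset.mul_sum]
        apply Finset.sum_congr rfl
        intro i hi
        rw [if_neg (Finset.mem_range.1 hi).ne, map_mul]
        ring
      have h2 : (fun i => if i = k then b' else c' * b i) k = b' := if_pos rfl
      rw [h1, h2, map_mul, pow_succ]
      linear_combination (algebraMap B' A c') * ha' + t ^ k * ha''

theorem smul_dvd_smul {M : Type*} [Monoid M] [MulSemiringAction M A] (g : M) {x y : A}
    (h : x ∣ y) : g • x ∣ g • y := by
  obtain ⟨z, rfl⟩ := h
  exact ⟨g • z, smul_mul' g x z⟩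

end LemmaE

section Main

variable {A B' D : Type*} [CommRing A] [IsDomain A] [CommRing B'] [Algebra B' A]
  [Module.Finite B' A] [Group D] [Finite D] [MulSemiringAction D A] [FaithfulSMul D A]
  [SMulCommClass D B' A] [Algebra.IsInvariant B' A D]

theorem pow_card_dvd {t : A} (ht : Prime t) (hD : ∀ δ : D, Associated (δ • t) t)
    (hres : ∀ a : A, ∃ b c : B', ¬ t ∣ algebraMap B' A c ∧
      t ∣ algebraMap B' A c * a - algebraMap B' A b)
    (π' : B') (hπ : t ∣ algebraMap B' A π') :
    t ^ Nat.card D ∣ algebraMap B' A π' := by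
  classical
  have : Fintype D := Fintype.ofFinite D
  by_contra hnot
  -- the exact exponent `e < |D|`
  have hP : ∃ k, ¬ t ^ k ∣ algebraMap B' A π' := ⟨_, hnot⟩
  have hk0 : Nat.find hP ≠ 0 := by
    intro h0
    have := Nat.find_spec hP
    rw [h0, pow_zero] at this
    exact this (one_dvd _)
  obtain ⟨e, he⟩ := Nat.exists_eq_succ_of_ne_zero hk0
  have he1 : t ^ e ∣ algebraMap B' A π' := by
    have := Nat.find_min hP (m := e) (by omega)
    exact not_not.1 this
  have he2 : ¬ t ^ (e + 1) ∣ algebraMap B' A π' := by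
    have := Nat.find_spec hP
    rwa [he] at this
  have hen : e < Nat.card D := by
    have := Nat.find_min' hP hnot
    omega
  obtain ⟨a₀, ha₀⟩ := he1
  have ha₀t : ¬ t ∣ a₀ := by
    rintro ⟨a₁, rfl⟩
    exact he2 ⟨a₁, by rw [ha₀, pow_succ]; ring⟩
  -- the invariant element `s₀`
  have hs₀inv : ∀ g : D, g • (∏ δ : D, δ • a₀) = ∏ δ : D, δ • a₀ := by
    intro g
    rw [Finset.smul_prod']
    simp only [smul_smul]
    exact Fintype.prod_equiv (Equiv.mulLeft g) _ _ (fun δ => rfl)
  obtain ⟨s₀, hs₀⟩ := Algebra.IsInvariant.isInvariant (A := B') (∏ δ : D, δ • a₀) hs₀inv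
  have hs₀t : ¬ t ∣ algebraMap B' A s₀ := by
    rw [hs₀]
    intro h
    obtain ⟨δ, -, hδ⟩ := (Prime.dvd_finsetProd_iff ht _).1 h
    have h1 : δ⁻¹ • t ∣ a₀ := by
      have := smul_dvd_smul δ⁻¹ hδ
      rwa [inv_smul_smul] at this
    exact ha₀t ((hD δ⁻¹).symm.dvd.trans h1)
  obtain ⟨rest, hrest⟩ : algebraMap B' A π' ∣ algebraMap B' A s₀ * t ^ e := by
    rw [hs₀, ← Finset.mul_prod_erase Finset.univ (fun δ : D => δ • a₀) (Finset.mem_univ 1),
      one_smul, ha₀]
    exact ⟨∏ x ∈ Finset.univ.erase (1 : D), x • a₀, by ring⟩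
  -- the module `W` and the ideal `p'`
  let W : Submodule B' A := Submodule.span B' (Set.range fun i : Fin e => t ^ (i : ℕ))
  let p' : Ideal B' := (Ideal.span {t}).comap (algebraMap B' A)
  have hπp' : π' ∈ p' := Ideal.mem_comap.2 (Ideal.mem_span_singleton.2 hπ)
  have key : ∀ a : A, ∃ c : B', ¬ t ∣ algebraMap B' A c ∧
      c • a ∈ W ⊔ p' • (⊤ : Submodule B' A) := by
    intro a
    obtain ⟨c, b, hc, a', ha'⟩ := exists_approx ht hres e a
    refine ⟨s₀ * c, ?_, ?_⟩
    · rw [map_mul]
      intro h
      rcases ht.dvd_or_dvd h with h | h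
      exacts [hs₀t h, hc h]
    · have h1 : (s₀ * c) • a = s₀ • (∑ i ∈ Finset.range e, b i • t ^ i) + π' • (rest * a') := by
        simp only [Algebra.smul_def, map_mul]
        linear_combination (algebraMap B' A s₀) * ha' + a' * hrest
      rw [h1]
      apply Submodule.add_mem_sup
      · apply W.smul_mem
        apply W.sum_mem
        intro i hi
        apply W.smul_mem
        exact Submodule.subset_span ⟨⟨i, Finset.mem_range.1 hi⟩, rfl⟩
      · exact Submodule.smul_mem_smul hπp' Submodule.mem_top
  -- a uniform multiplier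
  obtain ⟨S, hS⟩ := (Module.Finite.fg_top : (⊤ : Submodule B' A).FG)
  choose cf hcf1 hcf2 using key
  have hc't : ¬ t ∣ algebraMap B' A (∏ a ∈ S, cf a) := by
    rw [map_prod]
    intro h
    obtain ⟨a, _, ha⟩ := (Prime.dvd_finsetProd_iff ht _).1 h
    exact hcf1 a ha
  have hc'S : ∀ a ∈ S, (∏ a ∈ S, cf a) • a ∈ W ⊔ p' • (⊤ : Submodule B' A) := by
    intro a ha
    rw [← Finset.prod_erase_mul S cf ha, mul_smul]
    exact Submodule.smul_mem _ _ (hcf2 a)
  have hc'all : ∀ a : A, (∏ a ∈ S, cf a) • a ∈ W ⊔ p' • (⊤ : Submodule B' A) := by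
    intro a
    have hle : Submodule.span B' (S : Set A) ≤
        (W ⊔ p' • (⊤ : Submodule B' A)).comap (LinearMap.lsmul B' A (∏ a ∈ S, cf a)) :=
      Submodule.span_le.2 (fun x hx => hc'S x hx)
    rw [hS] at hle
    exact hle Submodule.mem_top
  -- Cayley–Hamilton on `A ⧸ W`
  have hf : LinearMap.range (algebraMap B' (Module.End B' (A ⧸ W)) (∏ a ∈ S, cf a)) ≤
      p' • (⊤ : Submodule B' (A ⧸ W)) := by
    rintro _ ⟨x, rfl⟩
    obtain ⟨a, rfl⟩ := W.mkQ_surjective x
    have h1 : (algebraMap B' (Module.End B' (A ⧸ W)) (∏ a ∈ S, cf a)) (W.mkQ a) =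
        W.mkQ ((∏ a ∈ S, cf a) • a) := by
      rw [Module.algebraMap_end_apply, map_smul]
    rw [h1]
    obtain ⟨w, hw, z, hz, hwz⟩ := Submodule.mem_sup.1 (hc'all a)
    have h2 : W.mkQ w = 0 := by
      rw [Submodule.mkQ_apply, Submodule.Quotient.mk_eq_zero]
      exact hw
    rw [← hwz, map_add, h2, zero_add]
    have h3 : W.mkQ z ∈ (p' • (⊤ : Submodule B' A)).map W.mkQ := Submodule.mem_map_of_mem hz
    rwa [Submodule.map_smul'', Submodule.map_top, Submodule.range_mkQ] at h3
  obtain ⟨P, hPmonic, -, hPcoeff, hPf⟩ :=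
    LinearMap.exists_monic_and_natDegree_eq_and_coeff_mem_pow_and_aeval_eq_zero B' _ p' hf
  have hsM : ∀ a : A, (P.eval (∏ a ∈ S, cf a)) • a ∈ W := by
    intro a
    have h1 : Polynomial.aeval (algebraMap B' (Module.End B' (A ⧸ W)) (∏ a ∈ S, cf a)) P =
        algebraMap B' (Module.End B' (A ⧸ W)) (P.eval (∏ a ∈ S, cf a)) := by
      rw [Polynomial.aeval_algebraMap_apply, Polynomial.coe_aeval_eq_eval]
    have h2 := LinearMap.congr_fun hPf (W.mkQ a)
    rw [h1, Module.algebraMap_end_apply, ← map_smul, LinearMap.zero_apply, Submodule.mkQ_apply,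
      Submodule.Quotient.mk_eq_zero] at h2
    exact h2
  have hst : ¬ t ∣ algebraMap B' A (P.eval (∏ a ∈ S, cf a)) := by
    intro h
    rw [Polynomial.eval_eq_sum_range, Finset.sum_range_succ, hPmonic.coeff_natDegree, one_mul,
      map_add] at h
    have hlow : t ∣ algebraMap B' A
        (∑ k ∈ Finset.range P.natDegree, P.coeff k * (∏ a ∈ S, cf a) ^ k) := by
      rw [map_sum]
      apply Finset.dvd_sum
      intro k hk
      have hk' : P.natDegree - k ≠ 0 := by
        have := Finset.mem_range.1 hk
        omega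
      have hmem : P.coeff k ∈ p' := Ideal.pow_le_self hk' (hPcoeff k)
      rw [map_mul]
      exact Dvd.dvd.mul_right (Ideal.mem_span_singleton.1 (Ideal.mem_comap.1 hmem)) _
    have h3 : t ∣ algebraMap B' A ((∏ a ∈ S, cf a) ^ P.natDegree) := (dvd_add_right hlow).1 h
    rw [map_pow] at h3
    exact hc't (ht.dvd_of_dvd_pow h3)
  have hs0 : algebraMap B' A (P.eval (∏ a ∈ S, cf a)) ≠ 0 := fun h => hst (h ▸ dvd_zero t)
  -- an element of `D` fixing `t` is trivial
  have hfix : ∀ ρ : D, ρ • t = t → ρ = 1 := by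
    intro ρ hρ
    apply FaithfulSMul.eq_of_smul_eq_smul (α := A)
    intro a
    rw [one_smul]
    obtain ⟨β, hβ⟩ := (Submodule.mem_span_range_iff_exists_fun B').1 (hsM a)
    have h1 : ρ • (algebraMap B' A (P.eval (∏ a ∈ S, cf a)) * a) =
        algebraMap B' A (P.eval (∏ a ∈ S, cf a)) * a := by
      rw [← Algebra.smul_def, ← hβ, Finset.smul_sum]
      apply Finset.sum_congr rfl
      intro i _
      rw [Algebra.smul_def, smul_mul', smul_algebraMap, smul_pow', hρ]
    rw [smul_mul', smul_algebraMap] at h1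
    exact mul_left_cancel₀ hs0 h1
  have hinj : Function.Injective (fun δ : D => δ • t) := by
    intro δ₁ δ₂ h
    have h' : δ₁ • t = δ₂ • t := h
    have := hfix (δ₂⁻¹ * δ₁) (by rw [mul_smul, h', inv_smul_smul])
    exact (inv_mul_eq_one.1 this).symm
  -- the polynomial
  obtain ⟨β, hβ⟩ := (Submodule.mem_span_range_iff_exists_fun B').1 (hsM (t ^ e))
  let Q : A[X] := C (algebraMap B' A (P.eval (∏ a ∈ S, cf a))) * X ^ e -
    ∑ i : Fin e, C (algebraMap B' A (β i)) * X ^ (i : ℕ)
  have hQcoeff : Q.coeff e = algebraMap B' A (P.eval (∏ a ∈ S, cf a)) := by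
    simp only [Q, Polynomial.coeff_sub, Polynomial.coeff_C_mul_X_pow, Polynomial.finsetSum_coeff,
      if_true]
    rw [Finset.sum_eq_zero, sub_zero]
    intro i _
    rw [if_neg (by have := i.2; omega)]
  have hQ0 : Q ≠ 0 := by
    intro h
    rw [h, Polynomial.coeff_zero] at hQcoeff
    exact hs0 hQcoeff.symm
  have hQdeg : Q.natDegree ≤ e := by
    have h1 : (C (algebraMap B' A (P.eval (∏ a ∈ S, cf a))) * X ^ e : A[X]).natDegree ≤ e :=
      Polynomial.natDegree_C_mul_X_pow_le _ _
    have h2 : (∑ i : Fin e, C (algebraMap B' A (β i)) * X ^ (i : ℕ) : A[X]).natDegree ≤ e := by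
      apply Polynomial.natDegree_sum_le_of_forall_le
      intro i _
      exact (Polynomial.natDegree_C_mul_X_pow_le _ _).trans i.2.le
    have h3 := Polynomial.natDegree_sub_le_of_le h1 h2
    rwa [max_self] at h3
  have hQt : Q.eval t = 0 := by
    simp only [Q, Polynomial.eval_sub, Polynomial.eval_mul, Polynomial.eval_C, Polynomial.eval_pow,
      Polynomial.eval_X, Polynomial.eval_finsetSum]
    rw [← Algebra.smul_def, ← hβ, sub_eq_zero]
    apply Finset.sum_congr rfl
    intro i _
    rw [Algebra.smul_def]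
  have hQroot : ∀ δ : D, Q.eval (δ • t) = 0 := by
    intro δ
    have h1 : δ • (Q.eval t) = Q.eval (δ • t) := by
      simp only [Q, Polynomial.eval_sub, Polynomial.eval_mul, Polynomial.eval_C,
        Polynomial.eval_pow, Polynomial.eval_X, Polynomial.eval_finsetSum, smul_sub, smul_mul',
        smul_algebraMap, smul_pow', Finset.smul_sum]
    rw [← h1, hQt, smul_zero]
  have hcard := Polynomial.card_le_degree_of_subset_roots (p := Q)
    (Z := Finset.univ.image (fun δ : D => δ • t)) (by
      intro x hx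
      obtain ⟨δ, -, rfl⟩ := Finset.mem_image.1 hx
      exact (Polynomial.mem_roots hQ0).2 (hQroot δ))
  rw [Finset.card_image_of_injective _ hinj, Finset.card_univ, ← Nat.card_eq_fintype_card] at hcard
  omega

end Main

section Global

open Pointwise

variable {A B G : Type*} [CommRing A] [IsDomain A] [CommRing B] [Algebra B A]
  [Module.Finite B A] [Group G] [Finite G] [MulSemiringAction G A] [FaithfulSMul G A]
  [SMulCommClass G B A] [Algebra.IsInvariant B A G]

/-- The decomposition group of the principal ideal `(t)`. -/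
def decomp (G : Type*) [Group G] [MulSemiringAction G A] (t : A) : Subgroup G :=
  MulAction.stabilizer G (Ideal.span {t} : Ideal A)

omit [Finite G] [FaithfulSMul G A] in
theorem mem_decomp_iff {t : A} (σ : G) : σ ∈ decomp G t ↔ Associated (σ • t) t := by
  rw [decomp, MulAction.mem_stabilizer_iff, Ideal.pointwise_smul_def, Ideal.map_span,
    Set.image_singleton, Ideal.span_singleton_eq_span_singleton]
  rfl

omit [Algebra.IsInvariant B A G] in
theorem pow_card_decomp_dvd {t : A} (ht : Prime t)
    (hres : ∀ a : A, ∃ b c : B, ¬ t ∣ algebraMap B A c ∧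
      t ∣ algebraMap B A c * a - algebraMap B A b)
    (b : B) (hb : t ∣ algebraMap B A b) :
    t ^ Nat.card (decomp G t) ∣ algebraMap B A b := by
  have : Module.Finite (FixedPoints.subalgebra B A (decomp G t)) A :=
    Module.Finite.of_restrictScalars_finite B (FixedPoints.subalgebra B A (decomp G t)) A
  have : Algebra.IsInvariant (FixedPoints.subalgebra B A (decomp G t)) A (decomp G t) :=
    ⟨fun a ha => ⟨⟨a, ha⟩, rfl⟩⟩
  have hD : ∀ δ : decomp G t, Associated (δ • t) t := fun δ => (mem_decomp_iff δ.1).1 δ.2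
  have hres' : ∀ a : A, ∃ b c : FixedPoints.subalgebra B A (decomp G t),
      ¬ t ∣ algebraMap (FixedPoints.subalgebra B A (decomp G t)) A c ∧
      t ∣ algebraMap (FixedPoints.subalgebra B A (decomp G t)) A c * a -
        algebraMap (FixedPoints.subalgebra B A (decomp G t)) A b := by
    intro a
    obtain ⟨b, c, hc, h⟩ := hres a
    exact ⟨algebraMap B (FixedPoints.subalgebra B A (decomp G t)) b,
      algebraMap B (FixedPoints.subalgebra B A (decomp G t)) c, hc, h⟩
  exact pow_card_dvd (B' := FixedPoints.subalgebra B A (decomp G t)) (D := decomp G t) ht hD hres'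
    (algebraMap B (FixedPoints.subalgebra B A (decomp G t)) b) hb

omit [IsDomain A] [Finite G] [FaithfulSMul G A] in
theorem prime_smul {t : A} (ht : Prime t) (g : G) : Prime (g • t) :=
  (MulEquiv.prime_iff (MulSemiringAction.toRingEquiv G A g).toMulEquiv).2 ht

omit [FaithfulSMul G A] in
theorem prod_smul_dvd [UniqueFactorizationMonoid A] [Fintype G] {t : A} (ht : Prime t) (a : A)
    (h : ∀ g : G, (g • t) ^ Nat.card (decomp G t) ∣ a) : ∏ g : G, g • t ∣ a := by
  classical
  have hassoc : ∀ g g' : G, (g : G ⧸ decomp G t) = g' → g • t ∣ g' • t := by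
    intro g g' hgg'
    have hmem : g'⁻¹ * g ∈ decomp G t := QuotientGroup.eq.1 hgg'.symm
    have h1 := ((mem_decomp_iff _).1 hmem).dvd
    have h2 := smul_dvd_smul g' h1
    rwa [smul_smul, mul_inv_cancel_left] at h2
  rw [← Finset.prod_fiberwise Finset.univ (fun g : G => (g : G ⧸ decomp G t)) (fun g => g • t)]
  have h2 : ∀ c : G ⧸ decomp G t,
      (∏ g ∈ Finset.univ.filter (fun g : G => (g : G ⧸ decomp G t) = c), g • t) ∣
        (c.out • t) ^ Nat.card (decomp G t) := by
    intro c
    have hcard : (Finset.univ.filter (fun g : G => (g : G ⧸ decomp G t) = c)).card ≤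
        Nat.card (decomp G t) := by
      rw [← Set.ncard_coe_finset, ← SetLike.coe_sort_coe, Nat.card_coe_set_eq]
      apply Set.ncard_le_ncard_of_injOn (fun g => c.out⁻¹ * g)
      · intro g hg
        have hg' : (g : G ⧸ decomp G t) = c := by simpa using hg
        have : ((c.out : G) : G ⧸ decomp G t) = g := by rw [hg', QuotientGroup.out_eq']
        exact QuotientGroup.eq.1 this
      · intro g _ g' _ hgg'
        exact mul_left_cancel hgg'
    calc (∏ g ∈ Finset.univ.filter (fun g : G => (g : G ⧸ decomp G t) = c), g • t)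
        ∣ ∏ _g ∈ Finset.univ.filter (fun g : G => (g : G ⧸ decomp G t) = c), c.out • t := by
          apply Finset.prod_dvd_prod_of_dvd
          intro g hg
          have hg' : (g : G ⧸ decomp G t) = c := by simpa using hg
          exact hassoc g c.out (by rw [hg', QuotientGroup.out_eq'])
      _ = (c.out • t) ^ (Finset.univ.filter (fun g : G => (g : G ⧸ decomp G t) = c)).card :=
          Finset.prod_const _
      _ ∣ (c.out • t) ^ Nat.card (decomp G t) := pow_dvd_pow _ hcard
  refine (Finset.prod_dvd_prod_of_dvd _ _ (fun c _ => h2 c)).trans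
    (Fintype.prod_dvd_of_isRelPrime ?_ (fun c => h c.out))
  intro c c' hcc'
  apply IsRelPrime.pow
  rw [(prime_smul ht _).irreducible.isRelPrime_iff_not_dvd]
  intro hdvd
  apply hcc'
  have hass : Associated (c.out • t) (c'.out • t) :=
    ((prime_smul ht _).dvd_prime_iff_associated (prime_smul ht _)).1 hdvd
  have h3 : Associated ((c'.out⁻¹ * c.out) • t) t := by
    have := hass.map (MulSemiringAction.toRingHom G A c'.out⁻¹)
    simpa [smul_smul] using this
  have h4 : c'.out⁻¹ * c.out ∈ decomp G t := (mem_decomp_iff _).2 h3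
  have h5 : ((c'.out : G) : G ⧸ decomp G t) = c.out := QuotientGroup.eq.2 h4
  rw [QuotientGroup.out_eq', QuotientGroup.out_eq'] at h5
  exact h5.symm

end Global

/-- Under the residual triviality hypothesis, the contraction of the principal prime `(t)` to the
ring of invariants is principal, generated by (the preimage of) the norm of `t`. -/
theorem exists_generator {A B : Type*} (G : Type*) [CommRing A] [IsDomain A] [CommRing B]
    [Algebra B A] [Module.Finite B A] [Group G] [Finite G] [MulSemiringAction G A]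
    [FaithfulSMul G A] [SMulCommClass G B A] [Algebra.IsInvariant B A G]
    [UniqueFactorizationMonoid A] [FaithfulSMul B A] {t : A} (ht : Prime t)
    (hres : ∀ a : A, ∃ b c : B, ¬ t ∣ algebraMap B A c ∧
      t ∣ algebraMap B A c * a - algebraMap B A b) :
    ∃ π : B, π ≠ 0 ∧ (Ideal.span {t}).comap (algebraMap B A) = Ideal.span {π} := by
  classical
  have : Fintype G := Fintype.ofFinite G
  have hinj := FaithfulSMul.algebraMap_injective B A
  have hNinv : ∀ g : G, g • (∏ σ : G, σ • t) = ∏ σ : G, σ • t := by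
    intro g
    rw [Finset.smul_prod']
    simp only [smul_smul]
    exact Fintype.prod_equiv (Equiv.mulLeft g) _ _ (fun _ => rfl)
  obtain ⟨π, hπ⟩ := Algebra.IsInvariant.isInvariant (A := B) (∏ σ : G, σ • t) hNinv
  have hN0 : (∏ σ : G, σ • t) ≠ 0 :=
    Finset.prod_ne_zero_iff.2 (fun σ _ => (prime_smul ht σ).ne_zero)
  refine ⟨π, ?_, ?_⟩
  · rintro rfl
    rw [map_zero] at hπ
    exact hN0 hπ.symm
  · apply le_antisymm
    · intro b hb
      have hb' : t ∣ algebraMap B A b := Ideal.mem_span_singleton.1 (Ideal.mem_comap.1 hb)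
      have h1 : ∀ g : G, (g • t) ^ Nat.card (decomp G t) ∣ algebraMap B A b := by
        intro g
        have := smul_dvd_smul g (pow_card_decomp_dvd (G := G) ht hres b hb')
        rwa [smul_pow', smul_algebraMap] at this
      obtain ⟨a', ha'⟩ := prod_smul_dvd ht _ h1
      have ha'inv : ∀ g : G, g • a' = a' := by
        intro g
        have h2 : g • (algebraMap B A b) = algebraMap B A b := smul_algebraMap g b
        rw [ha', smul_mul', hNinv g] at h2
        exact mul_left_cancel₀ hN0 h2
      obtain ⟨b', hb'eq⟩ := Algebra.IsInvariant.isInvariant (A := B) a' ha'inv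
      rw [Ideal.mem_span_singleton]
      refine ⟨b', hinj ?_⟩
      rw [map_mul, hπ, hb'eq, ha']
    · rw [Ideal.span_singleton_le_iff_mem, Ideal.mem_comap, hπ, Ideal.mem_span_singleton]
      have := Finset.dvd_prod_of_mem (fun σ : G => σ • t) (Finset.mem_univ (1 : G))
      simpa using this

end Groth.Agent.R2.H78.InvPrincipal
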