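import Mathlib
import Groth.Agent.S12080
import Groth.Agent.R2.H76PicDet

/-!
# Surjectivity of `Pic R → Pic S` by Milnor patching (helper78)

`pic_map_surjective`: for a surjective ring hom `f : R → S` and an ideal `𝔟'` of `R` with
`ker f ⊓ 𝔟' = ⊥` such that `S / f(𝔟')` is semilocal, `Pic R → Pic S` is surjective.
-/

set_option autoImplicit false
set_option linter.unusedSectionVars false
universe u
namespace Groth.Agent.R2.H78.PicSurj
open TensorProduct
open scoped Pointwise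

/-- If `m₀` generates `M` after inverting `f` and its annihilator is killed by `f`, then `M_f` is free
of rank one. -/
theorem nonempty_localizedModule_away_equiv {R : Type u} [CommRing R] {M : Type u}
    [AddCommGroup M] [Module R M] (f : R) (m₀ : M)
    (ha : ∀ m : M, ∃ r : R, f • m = r • m₀) (hb : ∀ r : R, r • m₀ = 0 → r * f = 0) :
    Nonempty (LocalizedModule.Away f M ≃ₗ[Localization.Away f] Localization.Away f) := by
  let S := Submonoid.powers f
  let ψ : Localization.Away f →ₗ[Localization.Away f] LocalizedModule.Away f M :=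
    LinearMap.toSpanSingleton _ _ (LocalizedModule.mk m₀ (1 : S))
  have hfS : f ∈ S := Submonoid.mem_powers f
  have hsurj : Function.Surjective ψ := by
    intro x
    induction x using LocalizedModule.induction_on with
    | h m s =>
      obtain ⟨r, hr⟩ := ha m
      refine ⟨Localization.mk r (⟨f, hfS⟩ * s), ?_⟩
      show Localization.mk r (⟨f, hfS⟩ * s) • LocalizedModule.mk m₀ (1 : S) = _
      rw [LocalizedModule.mk_smul_mk, mul_one, ← hr]
      exact LocalizedModule.mk_cancel_common_left (⟨f, hfS⟩ : S) s m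
  have hinj : Function.Injective ψ := by
    rw [← LinearMap.ker_eq_bot, LinearMap.ker_eq_bot']
    intro y hy
    induction y using Localization.induction_on with
    | H y =>
      obtain ⟨r, s⟩ := y
      have h1 : Localization.mk r s • LocalizedModule.mk m₀ (1 : S) = 0 := hy
      rw [LocalizedModule.mk_smul_mk, mul_one, ← LocalizedModule.zero_mk (1 : S),
        LocalizedModule.mk_eq] at h1
      obtain ⟨u, hu⟩ := h1
      rw [smul_zero, smul_zero, one_smul] at hu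
      have h2 : ((u : R) * r) • m₀ = 0 := by rw [mul_smul]; exact hu
      have h3 := hb _ h2
      rw [Localization.mk_eq_mk', IsLocalization.mk'_eq_zero_iff]
      refine ⟨u * ⟨f, hfS⟩, ?_⟩
      show (u : R) * f * r = 0
      rw [← h3]; ring
  exact ⟨(LinearEquiv.ofBijective ψ ⟨hinj, hsurj⟩).symm⟩

section Gen
variable {S : Type u} [CommRing S] (𝔠 : Ideal S) [Finite (MaximalSpectrum (S ⧸ 𝔠))]
  (L : Type u) [AddCommGroup L] [Module S L] [Module.Invertible S L]

lemma exists_one_tmul (z : (S ⧸ 𝔠) ⊗[S] L) : ∃ x : L, z = (1 : S ⧸ 𝔠) ⊗ₜ[S] x := by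
  induction z using TensorProduct.induction_on with
  | zero => exact ⟨0, by simp⟩
  | tmul c x =>
    obtain ⟨s, rfl⟩ := Ideal.Quotient.mk_surjective c
    refine ⟨s • x, ?_⟩
    rw [← TensorProduct.smul_tmul]
    congr 1
    rw [Algebra.smul_def, mul_one]; rfl
  | add z w hz hw =>
    obtain ⟨x, rfl⟩ := hz
    obtain ⟨y, rfl⟩ := hw
    exact ⟨x + y, by rw [TensorProduct.tmul_add]⟩

lemma one_tmul_eq_zero_iff (y : L) :
    (1 : S ⧸ 𝔠) ⊗ₜ[S] y = 0 ↔ y ∈ (𝔠 • ⊤ : Submodule S L) := by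
  rw [← (TensorProduct.quotTensorEquivQuotSMul L 𝔠).map_eq_zero_iff, ← map_one (Ideal.Quotient.mk 𝔠),
    TensorProduct.quotTensorEquivQuotSMul_mk_tmul, one_smul, Submodule.Quotient.mk_eq_zero]

lemma one_tmul_smul (s : S) (x : L) : (1 : S ⧸ 𝔠) ⊗ₜ[S] (s • x) =
    (Ideal.Quotient.mk 𝔠 s) • ((1 : S ⧸ 𝔠) ⊗ₜ[S] x) := by
  rw [TensorProduct.smul_tmul', ← TensorProduct.smul_tmul]
  congr 1

/-- A generator of `L / 𝔠 L` when `S / 𝔠` is semilocal. -/
theorem exists_generator_mod :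
    ∃ l : L, (∀ x : L, ∃ s : S, x - s • l ∈ (𝔠 • ⊤ : Submodule S L)) ∧
      (∀ s : S, s • l ∈ (𝔠 • ⊤ : Submodule S L) → s ∈ 𝔠) := by
  have hfree : Module.Free (S ⧸ 𝔠) ((S ⧸ 𝔠) ⊗[S] L) := inferInstance
  obtain ⟨e⟩ := Module.Invertible.free_iff_linearEquiv.mp hfree
  obtain ⟨l, hl⟩ := exists_one_tmul 𝔠 L (e.symm 1)
  have hel : e ((1 : S ⧸ 𝔠) ⊗ₜ[S] l) = 1 := by rw [← hl]; simp
  refine ⟨l, fun x => ?_, fun s hs => ?_⟩
  · obtain ⟨s, hs⟩ := Ideal.Quotient.mk_surjective (e ((1 : S ⧸ 𝔠) ⊗ₜ[S] x))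
    refine ⟨s, ?_⟩
    rw [← one_tmul_eq_zero_iff, TensorProduct.tmul_sub, sub_eq_zero]
    apply e.injective
    have h1 := one_tmul_smul 𝔠 L s l
    rw [h1, map_smul, hel, smul_eq_mul, mul_one, hs]
  · rw [← one_tmul_eq_zero_iff] at hs
    have h1 := one_tmul_smul 𝔠 L s l
    rw [h1] at hs
    have h2 := congrArg e hs
    rw [map_smul, hel, map_zero, smul_eq_mul, mul_one] at h2
    exact Ideal.Quotient.eq_zero_iff_mem.mp h2

end Gen

section Main
variable {R S : Type u} [CommRing R] [CommRing S] [Algebra R S]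
  (𝔟' : Ideal R)
  (L : Type u) [AddCommGroup L] [Module R L] [Module S L] [IsScalarTower R S L]

variable (S) in
/-- `𝔠 L` where `𝔠` is the image of `𝔟'` in `S`. -/
abbrev cL : Submodule S L := ((𝔟'.map (algebraMap R S)) • ⊤ : Submodule S L)

variable {L}

variable (S) in
/-- The patched module `L ×_{L/𝔠L} R/𝔟'`. -/
def patch (l : L) : Submodule R (L × (R ⧸ 𝔟')) where
  carrier := {p | ∃ r : R, Ideal.Quotient.mk 𝔟' r = p.2 ∧ p.1 - r • l ∈ cL S 𝔟' L}
  add_mem' := by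
    rintro p p' ⟨r, hr, h⟩ ⟨r', hr', h'⟩
    refine ⟨r + r', by rw [map_add, hr, hr']; rfl, ?_⟩
    have : (p + p').1 - (r + r') • l = (p.1 - r • l) + (p'.1 - r' • l) := by
      rw [Prod.fst_add, add_smul]; abel
    rw [this]; exact Submodule.add_mem _ h h'
  zero_mem' := ⟨0, by simp, by simp⟩
  smul_mem' := by
    rintro a p ⟨r, hr, h⟩
    refine ⟨a * r, by rw [map_mul, hr]; rfl, ?_⟩
    have : (a • p).1 - (a * r) • l = algebraMap R S a • (p.1 - r • l) := by
      rw [algebraMap_smul, smul_sub, mul_smul]; rfl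
    rw [this]; exact Submodule.smul_mem _ _ h

lemma mem_patch_iff (l : L) (p : L × (R ⧸ 𝔟')) :
    p ∈ patch S 𝔟' l ↔ ∃ r : R, Ideal.Quotient.mk 𝔟' r = p.2 ∧ p.1 - r • l ∈ cL S 𝔟' L := Iff.rfl

lemma smul_mem_cL {b : R} (hb : b ∈ 𝔟') (x : L) : b • x ∈ cL S 𝔟' L := by
  rw [← algebraMap_smul S b x]
  exact Submodule.smul_mem_smul (Ideal.mem_map_of_mem _ hb) Submodule.mem_top

variable (S) in
lemma ker_smul {b : R} (hb : b ∈ RingHom.ker (algebraMap R S)) (x : L) : b • x = 0 := by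
  rw [← algebraMap_smul S b x, RingHom.mem_ker.mp hb, zero_smul]

lemma mul_eq_zero_of_mem (hbb : RingHom.ker (algebraMap R S) ⊓ 𝔟' = ⊥) {b b' : R}
    (hb : b ∈ RingHom.ker (algebraMap R S)) (hb' : b' ∈ 𝔟') : b * b' = 0 := by
  have : b * b' ∈ RingHom.ker (algebraMap R S) ⊓ 𝔟' :=
    ⟨Ideal.mul_mem_right _ _ hb, Ideal.mul_mem_left _ _ hb'⟩
  rw [hbb] at this
  exact this

lemma gen_mem_patch (l : L) : ((l, 1) : L × (R ⧸ 𝔟')) ∈ patch S 𝔟' l :=
  ⟨1, by simp, by simp⟩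


variable (S) in
/-- `f` is good if the patched module has a generator after inverting `f` whose annihilator is killed
by `f`. -/
def Good (l : L) (f : R) : Prop :=
  ∃ m₀ : patch S 𝔟' l, (∀ m : patch S 𝔟' l, ∃ r : R, f • m = r • m₀) ∧
    (∀ r : R, r • m₀ = 0 → r * f = 0)

lemma good_of_mem_ker (hbb : RingHom.ker (algebraMap R S) ⊓ 𝔟' = ⊥) (l : L) {b : R}
    (hb : b ∈ RingHom.ker (algebraMap R S)) : Good S 𝔟' l b := by
  refine ⟨⟨(0, Ideal.Quotient.mk 𝔟' b), ⟨b, rfl, ?_⟩⟩, ?_, ?_⟩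
  · rw [ker_smul S hb, sub_zero]; exact Submodule.zero_mem _
  · rintro ⟨⟨x, ρ⟩, ⟨r, hr, h⟩⟩
    refine ⟨r, ?_⟩
    apply Subtype.ext
    apply Prod.ext
    · show b • x = r • (0 : L)
      rw [ker_smul S hb, smul_zero]
    · show b • ρ = r • Ideal.Quotient.mk 𝔟' b
      change Ideal.Quotient.mk 𝔟' r = ρ at hr
      rw [← hr, Algebra.smul_def, Algebra.smul_def, Ideal.Quotient.algebraMap_eq, ← map_mul,
        ← map_mul, mul_comm]
  · intro r hr
    have h2 : r • Ideal.Quotient.mk 𝔟' b = 0 := congrArg (fun m : patch S 𝔟' l => m.1.2) hr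
    rw [Algebra.smul_def, Ideal.Quotient.algebraMap_eq, ← map_mul,
      Ideal.Quotient.eq_zero_iff_mem] at h2
    have : r * b ∈ RingHom.ker (algebraMap R S) ⊓ 𝔟' := ⟨Ideal.mul_mem_left _ _ hb, h2⟩
    rw [hbb] at this
    exact this

lemma good_of_dual (hf : Function.Surjective (algebraMap R S))
    (hbb : RingHom.ker (algebraMap R S) ⊓ 𝔟' = ⊥) [Module.Invertible S L] (l : L) {t : R}
    (ht : t ∈ 𝔟') (ξ : Module.Dual S L) (x₀ : L) (g' : R) (hg : algebraMap R S g' = ξ x₀) :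
    Good S 𝔟' l (t * g') := by
  refine ⟨⟨(t • x₀, 0), ⟨0, by simp, ?_⟩⟩, ?_, ?_⟩
  · rw [zero_smul, sub_zero]; exact smul_mem_cL 𝔟' ht x₀
  · rintro ⟨⟨x, ρ⟩, ⟨r, hr, h⟩⟩
    obtain ⟨r₁, hr₁⟩ := hf (ξ x)
    refine ⟨r₁, ?_⟩
    apply Subtype.ext
    apply Prod.ext
    · show (t * g') • x = r₁ • (t • x₀)
      rw [mul_smul, ← algebraMap_smul S g' x, hg,
        Groth.Agent.R2.H76.PicDet.dual_apply_smul_comm ξ x₀ x, ← hr₁, algebraMap_smul,
        smul_comm]
    · show (t * g') • ρ = r₁ • (0 : R ⧸ 𝔟')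
      change Ideal.Quotient.mk 𝔟' r = ρ at hr
      rw [smul_zero, ← hr, Algebra.smul_def, Ideal.Quotient.algebraMap_eq, ← map_mul,
        Ideal.Quotient.eq_zero_iff_mem]
      exact Ideal.mul_mem_right _ _ (Ideal.mul_mem_right _ _ ht)
  · intro r hr
    have h1 : r • (t • x₀) = 0 := congrArg (fun m : patch S 𝔟' l => m.1.1) hr
    have h2 : algebraMap R S (r * t) * ξ x₀ = 0 := by
      apply eq_of_smul_eq_smul (α := L)
      intro y
      rw [zero_smul, mul_smul, Groth.Agent.R2.H76.PicDet.dual_apply_smul_comm ξ x₀ y,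
        smul_comm, algebraMap_smul, mul_smul, h1, smul_zero]
    rw [← hg, ← map_mul] at h2
    have : r * t * g' ∈ RingHom.ker (algebraMap R S) ⊓ 𝔟' :=
      ⟨h2, Ideal.mul_mem_right _ _ (Ideal.mul_mem_left _ _ ht)⟩
    rw [hbb] at this
    rw [← mul_assoc]
    exact this

lemma good_of_gen (hf : Function.Surjective (algebraMap R S))
    (hbb : RingHom.ker (algebraMap R S) ⊓ 𝔟' = ⊥) [Module.Invertible S L] (l : L) (g' : R)
    (hg2 : ∀ x : L, ∃ s : S, algebraMap R S g' • x = s • l) :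
    Good S 𝔟' l g' := by
  refine ⟨⟨(l, 1), gen_mem_patch 𝔟' l⟩, ?_, ?_⟩
  · rintro ⟨⟨x, ρ⟩, ⟨r, hr, h⟩⟩
    have key : ∀ y ∈ cL S 𝔟' L, ∃ b' ∈ 𝔟', algebraMap R S g' • y = b' • l := by
      intro y hy
      refine Submodule.smul_induction_on hy ?_ ?_
      · intro c hc y₁ _
        obtain ⟨b', hb', rfl⟩ := (Ideal.mem_map_iff_of_surjective _ hf).mp hc
        obtain ⟨s₁, hs₁⟩ := hg2 y₁
        obtain ⟨r₁, rfl⟩ := hf s₁
        refine ⟨b' * r₁, Ideal.mul_mem_right _ _ hb', ?_⟩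
        rw [smul_comm, hs₁, algebraMap_smul, algebraMap_smul, mul_smul]
      · intro y₁ y₂ h₁ h₂
        obtain ⟨b₁, hb₁, e₁⟩ := h₁
        obtain ⟨b₂, hb₂, e₂⟩ := h₂
        exact ⟨b₁ + b₂, Ideal.add_mem _ hb₁ hb₂, by rw [smul_add, e₁, e₂, add_smul]⟩
    obtain ⟨b', hb', e⟩ := key _ h
    refine ⟨g' * r + b', ?_⟩
    apply Subtype.ext
    apply Prod.ext
    · show g' • x = (g' * r + b') • l
      have : x = (x - r • l) + r • l := by abel
      rw [this, smul_add, ← algebraMap_smul S g' (x - r • l), e, add_smul, mul_smul]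
      abel
    · show g' • ρ = (g' * r + b') • (1 : R ⧸ 𝔟')
      change Ideal.Quotient.mk 𝔟' r = ρ at hr
      rw [← hr, Algebra.smul_def, Algebra.smul_def, Ideal.Quotient.algebraMap_eq, mul_one,
        ← map_mul, map_add, Ideal.Quotient.eq_zero_iff_mem.mpr hb', add_zero]
  · intro r hr
    have h1 : r • l = 0 := congrArg (fun m : patch S 𝔟' l => m.1.1) hr
    have h2 : r • (1 : R ⧸ 𝔟') = 0 := congrArg (fun m : patch S 𝔟' l => m.1.2) hr
    rw [Algebra.smul_def, mul_one, Ideal.Quotient.algebraMap_eq,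
      Ideal.Quotient.eq_zero_iff_mem] at h2
    have h3 : algebraMap R S (r * g') = 0 := by
      apply eq_of_smul_eq_smul (α := L)
      intro y
      obtain ⟨s, hs⟩ := hg2 y
      rw [zero_smul, map_mul, mul_smul, hs, smul_comm, algebraMap_smul, h1, smul_zero]
    have : r * g' ∈ RingHom.ker (algebraMap R S) ⊓ 𝔟' := ⟨h3, Ideal.mul_mem_right _ _ h2⟩
    rw [hbb] at this
    exact this


/-- Every maximal ideal misses a good element. -/
lemma exists_good (hf : Function.Surjective (algebraMap R S))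
    (hbb : RingHom.ker (algebraMap R S) ⊓ 𝔟' = ⊥) [Module.Invertible S L] (l : L)
    (hl1 : ∀ x : L, ∃ s : S, x - s • l ∈ cL S 𝔟' L)
    (𝔪 : Ideal R) [h𝔪 : 𝔪.IsMaximal] : ∃ f : R, f ∉ 𝔪 ∧ Good S 𝔟' l f := by
  by_cases hA : RingHom.ker (algebraMap R S) ≤ 𝔪
  · by_cases hB : 𝔟' ≤ 𝔪
    · -- gluing locus: Nakayama
      have hsup : (⊤ : Submodule S L) ≤ Submodule.span S {l} ⊔
          (𝔟'.map (algebraMap R S)) • (⊤ : Submodule S L) := by
        intro x _
        obtain ⟨s, hs⟩ := hl1 x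
        have : x = s • l + (x - s • l) := by abel
        rw [this]
        exact Submodule.add_mem_sup (Submodule.smul_mem _ _ (Submodule.mem_span_singleton_self l)) hs
      obtain ⟨g, hg1, hg2⟩ := Submodule.exists_sub_one_mem_and_smul_le_of_fg_of_le_sup
        (I := 𝔟'.map (algebraMap R S)) (N := Submodule.span S {l}) (N' := ⊤) (P := ⊤)
        (Module.Finite.fg_top) le_rfl hsup
      obtain ⟨g', rfl⟩ := hf g
      refine ⟨g', ?_, good_of_gen 𝔟' hf hbb l g' ?_⟩
      · intro hmem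
        obtain ⟨b', hb', e⟩ := (Ideal.mem_map_iff_of_surjective _ hf).mp hg1
        have h1 : g' - 1 - b' ∈ RingHom.ker (algebraMap R S) := by
          rw [RingHom.mem_ker, map_sub, map_sub, map_one, e, sub_self]
        have h2 : (1 : R) ∈ 𝔪 := by
          have : (1 : R) = g' - (g' - 1 - b') - b' := by ring
          rw [this]
          exact Ideal.sub_mem _ (Ideal.sub_mem _ hmem (hA h1)) (hB hb')
        exact h𝔪.ne_top ((Ideal.eq_top_iff_one _).mpr h2)
      · intro x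
        have : algebraMap R S g' • x ∈ Submodule.span S {l} :=
          hg2 (Submodule.smul_mem_pointwise_smul x _ _ Submodule.mem_top)
        obtain ⟨s, hs⟩ := Submodule.mem_span_singleton.mp this
        exact ⟨s, hs.symm⟩
    · -- away from `𝔟'`
      obtain ⟨t, ht, htm⟩ := Set.not_subset.mp hB
      obtain ⟨T, hT⟩ := ((Module.Invertible.linearEquiv S L).symm 1).exists_finset
      replace hT : (1 : S) = ∑ i ∈ T, i.1 i.2 := by
        simpa [LinearEquiv.symm_apply_eq, Module.Invertible.linearEquiv] using hT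
      have hex : ∃ i ∈ T, i.1 i.2 ∉ 𝔪.map (algebraMap R S) := by
        by_contra hcon
        push Not at hcon
        have h1 : (1 : S) ∈ 𝔪.map (algebraMap R S) := by
          rw [hT]; exact Ideal.sum_mem _ hcon
        obtain ⟨a, ha, e⟩ := (Ideal.mem_map_iff_of_surjective _ hf).mp h1
        have h2 : a - 1 ∈ RingHom.ker (algebraMap R S) := by
          rw [RingHom.mem_ker, map_sub, map_one, e, sub_self]
        have h3 : (1 : R) ∈ 𝔪 := by
          have : (1 : R) = a - (a - 1) := by ring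
          rw [this]
          exact Ideal.sub_mem _ ha (hA h2)
        exact h𝔪.ne_top ((Ideal.eq_top_iff_one _).mpr h3)
      obtain ⟨⟨ξ, x₀⟩, -, hi⟩ := hex
      obtain ⟨g', hg'⟩ := hf (ξ x₀)
      refine ⟨t * g', ?_, good_of_dual 𝔟' hf hbb l ht ξ x₀ g' hg'⟩
      intro hmem
      rcases h𝔪.isPrime.mem_or_mem hmem with h | h
      · exact htm h
      · exact hi (hg' ▸ Ideal.mem_map_of_mem _ h)
  · obtain ⟨b, hb, hbm⟩ := Set.not_subset.mp hA
    exact ⟨b, hbm, good_of_mem_ker 𝔟' hbb l hb⟩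

/-- The patched module is invertible. -/
theorem invertible_patch (hf : Function.Surjective (algebraMap R S))
    (hbb : RingHom.ker (algebraMap R S) ⊓ 𝔟' = ⊥) [Module.Invertible S L] (l : L)
    (hl1 : ∀ x : L, ∃ s : S, x - s • l ∈ cL S 𝔟' L) :
    Module.Invertible R (patch S 𝔟' l) := by
  apply Groth.Agent.S12080.result R (patch S 𝔟' l) {f | Good S 𝔟' l f}
  · by_contra hne
    obtain ⟨𝔪, h𝔪, hle⟩ := Ideal.exists_le_maximal _ hne
    obtain ⟨f, hf1, hf2⟩ := exists_good 𝔟' hf hbb l hl1 𝔪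
    exact hf1 (hle (Ideal.subset_span hf2))
  · rintro f ⟨m₀, ha, hb⟩
    exact nonempty_localizedModule_away_equiv f m₀ ha hb

/-- The base change of the patched module to `S` is `L`. -/
theorem nonempty_baseChange_patch_equiv (hf : Function.Surjective (algebraMap R S))
    (l : L) (hl1 : ∀ x : L, ∃ s : S, x - s • l ∈ cL S 𝔟' L)
    (hl2 : ∀ s : S, s • l ∈ cL S 𝔟' L → s ∈ 𝔟'.map (algebraMap R S)) :
    Nonempty (S ⊗[R] (patch S 𝔟' l) ≃ₗ[S] L) := by
  let π₁ : patch S 𝔟' l →ₗ[R] L := (LinearMap.fst R L (R ⧸ 𝔟')).comp (patch S 𝔟' l).subtype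
  let Φ : S ⊗[R] (patch S 𝔟' l) →ₗ[S] L := LinearMap.liftBaseChange S π₁
  have hΦ : ∀ (s : S) (m : patch S 𝔟' l), Φ (s ⊗ₜ m) = s • m.1.1 := by
    intro s m; simp [Φ, π₁]
  have hone : ∀ z : S ⊗[R] (patch S 𝔟' l), ∃ m : patch S 𝔟' l, z = (1 : S) ⊗ₜ[R] m := by
    intro z
    induction z using TensorProduct.induction_on with
    | zero => exact ⟨0, by simp⟩
    | tmul s m =>
      obtain ⟨r, rfl⟩ := hf s
      refine ⟨r • m, ?_⟩
      rw [← TensorProduct.smul_tmul, Algebra.smul_def, mul_one]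
    | add z w hz hw =>
      obtain ⟨m, rfl⟩ := hz
      obtain ⟨m', rfl⟩ := hw
      exact ⟨m + m', by rw [TensorProduct.tmul_add]⟩
  refine ⟨LinearEquiv.ofBijective Φ ⟨?_, ?_⟩⟩
  · rw [← LinearMap.ker_eq_bot, LinearMap.ker_eq_bot']
    intro z hz
    obtain ⟨⟨⟨x, ρ⟩, ⟨r, hr, h⟩⟩, rfl⟩ := hone z
    rw [hΦ, one_smul] at hz
    change x = 0 at hz
    subst hz
    change Ideal.Quotient.mk 𝔟' r = ρ at hr
    subst hr
    rw [zero_sub, Submodule.neg_mem_iff, ← algebraMap_smul S r l] at h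
    obtain ⟨b', hb', e⟩ := (Ideal.mem_map_iff_of_surjective _ hf).mp (hl2 _ h)
    have hker : r - b' ∈ RingHom.ker (algebraMap R S) := by
      rw [RingHom.mem_ker, map_sub, e, sub_self]
    have hm : (⟨((0 : L), Ideal.Quotient.mk 𝔟' r), ⟨r, rfl, by
        rw [zero_sub, Submodule.neg_mem_iff, ← algebraMap_smul S r l]; exact h⟩⟩ : patch S 𝔟' l) =
        (r - b') • (⟨(l, 1), gen_mem_patch 𝔟' l⟩ : patch S 𝔟' l) := by
      apply Subtype.ext
      apply Prod.ext
      · show (0 : L) = (r - b') • l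
        rw [ker_smul S hker]
      · show Ideal.Quotient.mk 𝔟' r = (r - b') • (1 : R ⧸ 𝔟')
        rw [Algebra.smul_def, mul_one, Ideal.Quotient.algebraMap_eq, map_sub,
          Ideal.Quotient.eq_zero_iff_mem.mpr hb', sub_zero]
    rw [hm, ← TensorProduct.smul_tmul, Algebra.smul_def, mul_one, RingHom.mem_ker.mp hker,
      TensorProduct.zero_tmul]
  · intro x
    obtain ⟨s, hs⟩ := hl1 x
    obtain ⟨r, rfl⟩ := hf s
    refine ⟨(1 : S) ⊗ₜ[R] ⟨(x, Ideal.Quotient.mk 𝔟' r), ⟨r, rfl, ?_⟩⟩, ?_⟩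
    · rw [← algebraMap_smul S r l]; exact hs
    · rw [hΦ, one_smul]

end Main

/-- **Milnor patching for the Picard group.** If `f : R → S` is surjective, `ker f ⊓ 𝔟' = ⊥` and
`S / f(𝔟')` is semilocal then `Pic R → Pic S` is surjective. -/
theorem pic_map_surjective {R S : Type u} [CommRing R] [CommRing S] (f : R →+* S)
    (hf : Function.Surjective f) (𝔟' : Ideal R) (hbb : RingHom.ker f ⊓ 𝔟' = ⊥)
    [Finite (MaximalSpectrum (S ⧸ 𝔟'.map f))] :
    Function.Surjective (CommRing.Pic.mapRingHom f) := by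
  intro N
  let _ : Algebra R S := f.toAlgebra
  let _ : Module R N := Module.compHom N f
  have : IsScalarTower R S N := IsScalarTower.of_algebraMap_smul fun r x => rfl
  have hf' : Function.Surjective (algebraMap R S) := hf
  have hfin : Finite (MaximalSpectrum (S ⧸ 𝔟'.map (algebraMap R S))) := ‹_›
  obtain ⟨l, hl1, hl2⟩ := exists_generator_mod (𝔟'.map (algebraMap R S)) N
  have hinv : Module.Invertible R (patch S 𝔟' l) := invertible_patch 𝔟' hf' hbb l hl1
  obtain ⟨e⟩ := nonempty_baseChange_patch_equiv 𝔟' hf' l hl1 hl2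
  refine ⟨CommRing.Pic.mk R (patch S 𝔟' l), ?_⟩
  show CommRing.Pic.mapAlgebra R S (CommRing.Pic.mk R (patch S 𝔟' l)) = N
  rw [CommRing.Pic.mapAlgebra_apply, CommRing.Pic.mk_eq_iff]
  exact ⟨(TensorProduct.AlgebraTensorModule.congr (LinearEquiv.refl S S)
    (CommRing.Pic.mk.linearEquiv R (patch S 𝔟' l))).trans e⟩

end Groth.Agent.R2.H78.PicSurj
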