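import Mathlib

/-!
# Tame ramification and separability of residue fields (helper78, S16548)

Algebra core: let `A → B` be a local homomorphism of local `k`-algebras with `Ω[B⁄k]` cyclic, separable residue
field extension, and `κ(A)/k` with nonzero differentials.  Then `B` is formally unramified over `A`.
-/

set_option autoImplicit false
universe u
open TensorProduct IsLocalRing KaehlerDifferential

namespace Groth.Agent.R2.H78.TameSep

section Core

variable {k A B : Type u} [Field k] [CommRing A] [CommRing B] [Algebra k A] [Algebra k B] [Algebra A B]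
  [IsScalarTower k A B] [IsLocalRing A] [IsLocalRing B] [IsLocalHom (algebraMap A B)]

/-- a proper submodule of a cyclic module over a local ring lies in `m • ⊤`. -/
theorem le_smul_top_of_cyclic {M : Type*} [AddCommGroup M] [Module B M] (ω : M)
    (hω : ∀ y : M, ∃ b : B, y = b • ω) (N : Submodule B M) (hN : N ≠ ⊤) :
    N ≤ maximalIdeal B • (⊤ : Submodule B M) := by
  intro n hn
  obtain ⟨b, rfl⟩ := hω n
  by_cases hb : IsUnit b
  · exfalso
    apply hN
    rw [eq_top_iff]
    intro y _
    obtain ⟨c, rfl⟩ := hω y
    have h1 : ω ∈ N := by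
      obtain ⟨u, rfl⟩ := hb
      have := N.smul_mem (↑u⁻¹ : B) hn
      rwa [smul_smul, Units.inv_mul, one_smul] at this
    exact N.smul_mem c h1
  · exact Submodule.smul_mem_smul ((mem_maximalIdeal b).2 hb) Submodule.mem_top

/-- the map `Ω[B⁄k] → Ω[κ(B)⁄k]` kills `m_B • ⊤`. -/
theorem map_residue_eq_zero_of_mem (y : Ω[B⁄k])
    (hy : y ∈ maximalIdeal B • (⊤ : Submodule B Ω[B⁄k])) :
    KaehlerDifferential.map k k B (ResidueField B) y = 0 := by
  refine Submodule.smul_induction_on hy (fun b hb y _ => ?_) (fun x y hx hy => ?_)
  · rw [map_smul, ← algebraMap_smul (ResidueField B) b, ResidueField.algebraMap_eq,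
      (residue_eq_zero_iff b).2 hb, zero_smul]
  · rw [map_add, hx, hy, add_zero]

theorem formallyUnramified_of_nontrivial_kaehler_residueField
    (ω : Ω[B⁄k]) (hω : ∀ y : Ω[B⁄k], ∃ b : B, y = b • ω)
    [Algebra.IsSeparable (ResidueField A) (ResidueField B)]
    (hins : Nontrivial Ω[ResidueField A⁄k]) :
    Algebra.FormallyUnramified A B := by
  have hsurj : LinearMap.range (mapBaseChange k A B) = ⊤ := by
    by_contra hne
    have hle := le_smul_top_of_cyclic ω hω _ hne
    -- `D` of the image of `A` dies in `Ω[κ(B)⁄k]`
    have h1 : ∀ a : A, D k (ResidueField B) (algebraMap (ResidueField A) (ResidueField B)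
        (algebraMap A (ResidueField A) a)) = 0 := by
      intro a
      have h2 : D k B (algebraMap A B a) ∈ LinearMap.range (mapBaseChange k A B) :=
        ⟨1 ⊗ₜ D k A a, by rw [mapBaseChange_tmul, one_smul, map_D]⟩
      have h3 := map_residue_eq_zero_of_mem _ (hle h2)
      rw [map_D] at h3
      rw [← IsScalarTower.algebraMap_apply A (ResidueField A) (ResidueField B),
        IsScalarTower.algebraMap_apply A B (ResidueField B)]
      exact h3
    have h4 : ∀ z : ResidueField A, KaehlerDifferential.map k k (ResidueField A) (ResidueField B)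
        (D k (ResidueField A) z) = 0 := by
      intro z
      obtain ⟨a, rfl⟩ := residue_surjective z
      rw [map_D]
      exact h1 a
    have h5 : ∀ x : Ω[ResidueField A⁄k],
        KaehlerDifferential.map k k (ResidueField A) (ResidueField B) x = 0 := by
      intro x
      have hx : x ∈ Submodule.span (ResidueField A) (Set.range (D k (ResidueField A))) := by
        rw [span_range_derivation]; trivial
      induction hx using Submodule.span_induction with
      | mem x hx => obtain ⟨z, rfl⟩ := hx; exact h4 z
      | zero => exact map_zero _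
      | add x y _ _ hx hy => rw [map_add, hx, hy, add_zero]
      | smul c x _ hx => rw [map_smul, hx, smul_zero]
    have : Algebra.FormallyEtale (ResidueField A) (ResidueField B) :=
      Algebra.FormallyEtale.of_isSeparable _ _
    obtain ⟨x, hx⟩ := exists_ne (0 : Ω[ResidueField A⁄k])
    apply hx
    apply Module.Flat.tensorProduct_mk_injective (ResidueField A) Ω[ResidueField A⁄k]
      (ResidueField B)
    apply (tensorKaehlerEquivOfFormallyEtale k (ResidueField A) (ResidueField B)).injective
    rw [map_zero, map_zero, TensorProduct.mk_apply, tensorKaehlerEquivOfFormallyEtale_apply,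
      mapBaseChange_tmul, one_smul]
    exact h5 x
  constructor
  rw [range_mapBaseChange] at hsurj
  refine ⟨fun a b => ?_⟩
  obtain ⟨a', rfl⟩ := KaehlerDifferential.map_surjective k A B a
  obtain ⟨b', rfl⟩ := KaehlerDifferential.map_surjective k A B b
  have ha : a' ∈ LinearMap.ker (KaehlerDifferential.map k A B B) := hsurj ▸ Submodule.mem_top
  have hb : b' ∈ LinearMap.ker (KaehlerDifferential.map k A B B) := hsurj ▸ Submodule.mem_top
  rw [LinearMap.mem_ker.1 ha, LinearMap.mem_ker.1 hb]

/-- a formally unramified local extension whose closed fibre is cut out by `m_B ^ e`, `e ≥ 2`, is a field. -/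
theorem isField_of_map_maximalIdeal_eq_pow [IsNoetherianRing B] [Algebra.EssFiniteType A B]
    [Algebra.FormallyUnramified A B] (e : ℕ) (h2 : 2 ≤ e)
    (he : (maximalIdeal A).map (algebraMap A B) = maximalIdeal B ^ e) : IsField B := by
  have h1 : maximalIdeal B = maximalIdeal B ^ e :=
    (Algebra.FormallyUnramified.map_maximalIdeal (R := A) (S := B)).symm.trans he
  have h3 : maximalIdeal B ≤ maximalIdeal B • maximalIdeal B := by
    calc maximalIdeal B = maximalIdeal B ^ e := h1
      _ ≤ maximalIdeal B ^ 2 := Ideal.pow_le_pow_right h2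
      _ = maximalIdeal B • maximalIdeal B := by rw [pow_two, smul_eq_mul]
  have h4 : maximalIdeal B = ⊥ :=
    Submodule.eq_bot_of_le_smul_of_le_jacobson_bot (maximalIdeal B) (maximalIdeal B)
      (IsNoetherian.noetherian _) h3 (IsLocalRing.maximalIdeal_le_jacobson _)
  exact (IsLocalRing.isField_iff_maximalIdeal_eq).2 h4

end Core

section NotField

/-- the localization of a standard smooth algebra of relative dimension one over a field at a maximal ideal is not a
field. -/
theorem not_isField_of_isLocalization {k S : Type u} [Field k] [CommRing S] [Algebra k S]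
    [Algebra.IsStandardSmoothOfRelativeDimension 1 k S] (q : Ideal S) [hq : q.IsMaximal]
    (B : Type u) [CommRing B] [Algebra S B] [IsLocalization.AtPrime B q] : ¬ IsField B := by
  intro hB
  obtain ⟨g, hg⟩ := Algebra.IsStandardSmoothOfRelativeDimension.exists_etale_mvPolynomial 1 k S
  algebraize [g.toRingHom]
  have hfl : Module.Flat (MvPolynomial (Fin 1) k) S := inferInstance
  have hss : Algebra.IsStandardSmooth k S :=
    Algebra.IsStandardSmoothOfRelativeDimension.isStandardSmooth 1
  have hsm : Algebra.Smooth k S := inferInstance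
  have hfp : Algebra.FinitePresentation k S := hsm.finitePresentation
  have hSft : Algebra.FiniteType k S := Algebra.FiniteType.of_finitePresentation
  have hSN : IsNoetherianRing S := Algebra.FiniteType.isNoetherianRing k S
  have hq0 : q.height = 0 := by
    have h1 := IsLocalization.AtPrime.ringKrullDim_eq_height q B
    rw [ringKrullDim_eq_zero_of_isField hB] at h1
    exact_mod_cast h1.symm
  have hp0 : (q.under (MvPolynomial (Fin 1) k)).height = 0 := by
    have h1 := Ideal.height_eq_height_add_of_liesOver_of_hasGoingDown
      (q.under (MvPolynomial (Fin 1) k)) q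
    rw [hq0] at h1
    exact (add_eq_zero.1 h1.symm).1
  have hpbot : q.under (MvPolynomial (Fin 1) k) = ⊥ := Ideal.height_eq_zero_iff_eq_bot.1 hp0
  let _ : Field (S ⧸ q) := Ideal.Quotient.field q
  have hfin : Module.Finite k (S ⧸ q) := finite_of_finite_type_of_isJacobsonRing k (S ⧸ q)
  have hint : IsIntegral k (Ideal.Quotient.mk q (g (MvPolynomial.X 0))) :=
    Algebra.IsIntegral.isIntegral _
  obtain ⟨r, hr, hr0⟩ := hint
  have h1 : Polynomial.aeval (MvPolynomial.X 0 : MvPolynomial (Fin 1) k) r ∈
      q.under (MvPolynomial (Fin 1) k) := by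
    rw [Ideal.under_def, Ideal.mem_comap, ← Ideal.Quotient.eq_zero_iff_mem]
    have h2 : algebraMap (MvPolynomial (Fin 1) k) S
        (Polynomial.aeval (MvPolynomial.X 0 : MvPolynomial (Fin 1) k) r) =
        Polynomial.aeval (g (MvPolynomial.X 0)) r := by
      change g _ = _
      rw [← Polynomial.aeval_algHom_apply]
    rw [h2]
    have h3 : Ideal.Quotient.mk q (Polynomial.aeval (g (MvPolynomial.X 0)) r) =
        Polynomial.aeval (Ideal.Quotient.mk q (g (MvPolynomial.X 0))) r := by
      have := Polynomial.aeval_algHom_apply (Ideal.Quotient.mkₐ k q) (g (MvPolynomial.X 0)) r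
      exact this.symm
    rw [h3]
    exact hr0
  rw [hpbot, Ideal.mem_bot] at h1
  exact MvPolynomial.transcendental_X k (0 : Fin 1) ⟨r, hr.ne_zero, h1⟩

end NotField

end Groth.Agent.R2.H78.TameSep
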