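import Mathlib
import Groth.Prelude.Def_CurvBase
import Groth.Agent.R2.H78TameSep

/-!
# Tame ramification and separability of residue fields: scheme plumbing (helper78, S16548)
-/

set_option autoImplicit false
universe u
open CategoryTheory AlgebraicGeometry TensorProduct IsLocalRing KaehlerDifferential

namespace Groth.Agent.R2.H78.TameSep

attribute [local instance] Curv2.stalkAlgebra

section General

variable (k : Type u) [Field k] (X : Scheme.{u}) [X.Over (Spec (CommRingCat.of k))]

/-- the structure map `k → O_{X,x}` through the local ring of `Spec k` (copied from helper49's `H49SepHypGeom`). -/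
theorem ofHom_stalkMap_eq (x : X) :
    CommRingCat.ofHom (Curv2.stalkMap k X x) =
      (Scheme.ΓSpecIso (CommRingCat.of k)).inv ≫
        (Spec (CommRingCat.of k)).presheaf.germ ⊤ ((X ↘ Spec (CommRingCat.of k)) x) trivial ≫
        (X ↘ Spec (CommRingCat.of k)).stalkMap x := by
  have h := Scheme.Hom.germ_stalkMap (X ↘ Spec (CommRingCat.of k)) ⊤ x trivial
  refine Eq.trans ?_ (congrArg (fun t => (Scheme.ΓSpecIso (CommRingCat.of k)).inv ≫ t) h.symm)
  rfl

theorem essFiniteType_toStalk (R : CommRingCat.{u}) (p : PrimeSpectrum R) :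
    ((Scheme.ΓSpecIso R).inv ≫ (Spec R).presheaf.germ ⊤ p trivial).hom.EssFiniteType := by
  rw [show ((Scheme.ΓSpecIso R).inv ≫ (Spec R).presheaf.germ ⊤ p trivial) = _ from
    (Spec.algebraMap_stalkIso_inv (R := R) p).symm]
  rw [CommRingCat.hom_comp]
  refine RingHom.EssFiniteType.comp ?_ ?_
  · rw [CommRingCat.hom_ofHom, RingHom.essFiniteType_algebraMap]
    exact Algebra.EssFiniteType.of_isLocalization _ p.asIdeal.primeCompl
  · refine RingHom.FiniteType.essFiniteType (RingHom.FiniteType.of_surjective _ ?_)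
    exact ((ConcreteCategory.isIso_iff_bijective _).mp
      (inferInstanceAs (IsIso (Spec.stalkIso R p).inv))).2

/-- local rings of a scheme locally of finite type over a field are essentially of finite type. -/
theorem essFiniteType_stalk [LocallyOfFiniteType (X ↘ Spec (CommRingCat.of k))] (x : X) :
    Algebra.EssFiniteType k (X.presheaf.stalk x) := by
  rw [← RingHom.essFiniteType_algebraMap]
  have h1 : algebraMap k (X.presheaf.stalk x) = Curv2.stalkMap k X x := rfl
  have h2 := congrArg CommRingCat.Hom.hom (ofHom_stalkMap_eq k X x)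
  rw [CommRingCat.hom_ofHom] at h2
  rw [h1, h2, ← Category.assoc, CommRingCat.hom_comp]
  exact RingHom.EssFiniteType.comp (essFiniteType_toStalk _ _)
    (LocallyOfFiniteType.stalkMap (X ↘ Spec (CommRingCat.of k)) x)

/-- the prime ideal of a closed point of an affine open is maximal (copied from helper49's `H49PnLin`). -/
theorem isMaximal_primeIdealOf {Y : Scheme.{u}} {U : Y.Opens} (hU : IsAffineOpen U) (y : Y) (hy : y ∈ U)
    (hcl : IsClosed ({y} : Set Y)) : (hU.primeIdealOf ⟨y, hy⟩).asIdeal.IsMaximal := by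
  rw [← PrimeSpectrum.isClosed_singleton_iff_isMaximal]
  have h1 : hU.fromSpec ⁻¹' {y} = {hU.primeIdealOf ⟨y, hy⟩} := by
    ext p
    simp only [Set.mem_preimage, Set.mem_singleton_iff]
    constructor
    · intro h
      apply hU.fromSpec.isOpenEmbedding.injective
      rw [h]
      exact (hU.fromSpec_primeIdealOf ⟨y, hy⟩).symm
    · rintro rfl
      exact hU.fromSpec_primeIdealOf ⟨y, hy⟩
  have h2 := hcl.preimage hU.fromSpec.continuous
  rw [h1] at h2
  exact h2

/-- the constants as functions on an open. -/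
noncomputable def const (V : X.Opens) : k →+* Γ(X, V) :=
  ((X ↘ Spec (CommRingCat.of k)).appLE ⊤ V (fun _ _ => trivial)).hom.comp
    (Scheme.ΓSpecIso (CommRingCat.of k)).inv.hom

theorem germ_const (V : X.Opens) (x : X) (hx : x ∈ V) (c : k) :
    (X.presheaf.germ V x hx).hom (const k X V c) = Curv2.stalkMap k X x c := by
  exact TopCat.Presheaf.germ_res_apply X.presheaf (homOfLE (le_top : V ≤ ⊤)) x hx _

/-- a standard smooth chart of relative dimension one around a point. -/
theorem exists_chart [SmoothOfRelativeDimension 1 (X ↘ Spec (CommRingCat.of k))] (x : X) :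
    ∃ (V : X.Opens) (_ : IsAffineOpen V) (_ : x ∈ V),
      (const k X V).IsStandardSmoothOfRelativeDimension 1 := by
  obtain ⟨U, hU, V, hV, hxV, e, hstd⟩ :=
    SmoothOfRelativeDimension.exists_isStandardSmoothOfRelativeDimension (n := 1)
      (f := X ↘ Spec (CommRingCat.of k)) x
  obtain rfl : U = ⊤ := by
    rw [eq_top_iff]
    intro z _
    have h1 : z = (X ↘ Spec (CommRingCat.of k)) x := Subsingleton.elim _ _
    rw [h1]
    exact e hxV
  refine ⟨V, hV, hxV, ?_⟩
  have h2 := RingHom.IsStandardSmoothOfRelativeDimension.comp hstd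
    (RingHom.IsStandardSmoothOfRelativeDimension.equiv
      (Scheme.ΓSpecIso (CommRingCat.of k)).symm.commRingCatIsoToRingEquiv)
  exact h2

set_option maxHeartbeats 800000 in
/-- the local ring at a point of a smooth curve: cyclic differentials, Noetherian, and not a field at closed points. -/
theorem stalk_props [SmoothOfRelativeDimension 1 (X ↘ Spec (CommRingCat.of k))] (x : X) :
    (∃ ω : Ω[X.presheaf.stalk x⁄k], ∀ y : Ω[X.presheaf.stalk x⁄k],
      ∃ b : X.presheaf.stalk x, y = b • ω) ∧
    IsNoetherianRing (X.presheaf.stalk x) ∧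
    (IsClosed ({x} : Set X) → ¬ IsField (X.presheaf.stalk x)) := by
  obtain ⟨V, hV, hxV, hstd⟩ := exists_chart k X x
  let algS : Algebra k Γ(X, V) := (const k X V).toAlgebra
  let algB : Algebra Γ(X, V) (X.presheaf.stalk x) :=
    TopCat.Presheaf.algebra_section_stalk X.presheaf ⟨x, hxV⟩
  have htow : IsScalarTower k Γ(X, V) (X.presheaf.stalk x) :=
    IsScalarTower.of_algebraMap_eq (fun c => (germ_const k X V x hxV c).symm)
  have hss1 : Algebra.IsStandardSmoothOfRelativeDimension 1 k Γ(X, V) := hstd
  have hloc : IsLocalization.AtPrime (X.presheaf.stalk x) (hV.primeIdealOf ⟨x, hxV⟩).asIdeal :=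
    hV.isLocalization_stalk ⟨x, hxV⟩
  have hnt : Nontrivial Γ(X, V) := RingHom.domain_nontrivial (algebraMap Γ(X, V) (X.presheaf.stalk x))
  have hss : Algebra.IsStandardSmooth k Γ(X, V) :=
    Algebra.IsStandardSmoothOfRelativeDimension.isStandardSmooth 1
  have hsm : Algebra.Smooth k Γ(X, V) := inferInstance
  have hfp : Algebra.FinitePresentation k Γ(X, V) := hsm.finitePresentation
  have hSft : Algebra.FiniteType k Γ(X, V) := Algebra.FiniteType.of_finitePresentation
  have hSN : IsNoetherianRing Γ(X, V) := Algebra.FiniteType.isNoetherianRing k Γ(X, V)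
  refine ⟨?_, ?_, ?_⟩
  · have hfree : Module.Free Γ(X, V) Ω[Γ(X, V)⁄k] := inferInstance
    have hrank : Module.rank Γ(X, V) Ω[Γ(X, V)⁄k] = 1 := by
      exact_mod_cast Algebra.IsStandardSmoothOfRelativeDimension.rank_kaehlerDifferential
        (R := k) (S := Γ(X, V)) 1
    have hfr : Module.finrank Γ(X, V) Ω[Γ(X, V)⁄k] = 1 := Module.finrank_eq_of_rank_eq hrank
    let b := Module.basisUnique Unit hfr
    have hfe : Algebra.FormallyEtale Γ(X, V) (X.presheaf.stalk x) :=
      Algebra.FormallyEtale.of_isLocalization (hV.primeIdealOf ⟨x, hxV⟩).asIdeal.primeCompl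
    let E := tensorKaehlerEquivOfFormallyEtale k Γ(X, V) (X.presheaf.stalk x)
    refine ⟨E (1 ⊗ₜ b default), fun y => ?_⟩
    obtain ⟨t, rfl⟩ := E.surjective y
    induction t with
    | zero => exact ⟨0, by rw [map_zero, zero_smul]⟩
    | tmul c w =>
      have hw : w = (b.repr w default) • b default := by
        conv_lhs => rw [← b.sum_repr w]
        rw [Fintype.sum_unique]
      refine ⟨c * algebraMap Γ(X, V) (X.presheaf.stalk x) (b.repr w default), ?_⟩
      rw [← map_smul E]
      congr 1
      rw [TensorProduct.smul_tmul', smul_eq_mul, mul_one]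
      conv_lhs => rw [hw]
      rw [TensorProduct.tmul_smul, TensorProduct.smul_tmul', Algebra.smul_def, mul_comm]
    | add t₁ t₂ h₁ h₂ =>
      obtain ⟨b₁, h₁⟩ := h₁
      obtain ⟨b₂, h₂⟩ := h₂
      exact ⟨b₁ + b₂, by rw [map_add, h₁, h₂, add_smul]⟩
  · exact IsLocalization.isNoetherianRing (hV.primeIdealOf ⟨x, hxV⟩).asIdeal.primeCompl _ hSN
  · intro hcl
    have hmax := isMaximal_primeIdealOf hV x hxV hcl
    exact not_isField_of_isLocalization (k := k) (hV.primeIdealOf ⟨x, hxV⟩).asIdeal
      (X.presheaf.stalk x)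

end General

section Main

theorem isSeparable_congr {F E : Type*} [Field F] [Field E] (i₁ i₂ : Algebra F E)
    (h : ∀ c, @algebraMap F E _ _ i₁ c = @algebraMap F E _ _ i₂ c)
    (hs : @Algebra.IsSeparable F E _ _ i₁) : @Algebra.IsSeparable F E _ _ i₂ := by
  have : i₁ = i₂ := Algebra.algebra_ext _ _ h
  subst this
  exact hs

variable (k : Type u) [Field k] (X Y : Scheme.{u}) [X.Over (Spec (CommRingCat.of k))]
  [Y.Over (Spec (CommRingCat.of k))]
  [SmoothOfRelativeDimension 1 (X ↘ Spec (CommRingCat.of k))]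
  [SmoothOfRelativeDimension 1 (Y ↘ Spec (CommRingCat.of k))]

theorem stalkMap_comp (f : X ⟶ Y)
    (hf : f ≫ (Y ↘ Spec (CommRingCat.of k)) = X ↘ Spec (CommRingCat.of k)) (x : X) (c : k) :
    Curv2.stalkMap k X x c = (f.stalkMap x).hom (Curv2.stalkMap k Y (f.base x) c) := by
  have h1 := Scheme.Hom.germ_stalkMap_apply f ⊤ x trivial
    ((Y ↘ Spec (CommRingCat.of k)).appTop.hom ((Scheme.ΓSpecIso (CommRingCat.of k)).inv.hom c))
  refine Eq.trans ?_ h1.symm
  change (X.presheaf.germ ⊤ x trivial).hom
    ((X ↘ Spec (CommRingCat.of k)).appTop.hom ((Scheme.ΓSpecIso (CommRingCat.of k)).inv.hom c)) = _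
  have h2 : (X ↘ Spec (CommRingCat.of k)).appTop =
      (Y ↘ Spec (CommRingCat.of k)).appTop ≫ f.appTop := by
    rw [← Scheme.Hom.comp_appTop, hf]
  rw [h2]
  rfl

set_option maxHeartbeats 800000 in
theorem main (f : X ⟶ Y)
    (hf : f ≫ (Y ↘ Spec (CommRingCat.of k)) = X ↘ Spec (CommRingCat.of k))
    (x : X) (hx : IsClosed ({x} : Set X)) (e : ℕ)
    (he : (IsLocalRing.maximalIdeal (Y.presheaf.stalk (f.base x))).map (f.stalkMap x).hom =
      IsLocalRing.maximalIdeal (X.presheaf.stalk x) ^ e)
    (h2 : 2 ≤ e)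
    (hsep : @Algebra.IsSeparable (Y.residueField (f.base x)) (X.residueField x) _ _
      (f.residueFieldMap x).hom.toAlgebra) :
    @Algebra.IsSeparable k (X.residueField x) _ _ (Curv2.resAlgebra k X x) := by
  let algAB : Algebra (Y.presheaf.stalk (f.base x)) (X.presheaf.stalk x) :=
    (f.stalkMap x).hom.toAlgebra
  have hloc : IsLocalHom (algebraMap (Y.presheaf.stalk (f.base x)) (X.presheaf.stalk x)) :=
    inferInstanceAs (IsLocalHom (f.stalkMap x).hom)
  have htow : IsScalarTower k (Y.presheaf.stalk (f.base x)) (X.presheaf.stalk x) :=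
    IsScalarTower.of_algebraMap_eq (fun c => stalkMap_comp k X Y f hf x c)
  have hsmX : Smooth (X ↘ Spec (CommRingCat.of k)) := SmoothOfRelativeDimension.smooth 1 _
  have hsmY : Smooth (Y ↘ Spec (CommRingCat.of k)) := SmoothOfRelativeDimension.smooth 1 _
  have hEA : Algebra.EssFiniteType k (Y.presheaf.stalk (f.base x)) := essFiniteType_stalk k Y _
  have hEB : Algebra.EssFiniteType k (X.presheaf.stalk x) := essFiniteType_stalk k X _
  have hEAB : Algebra.EssFiniteType (Y.presheaf.stalk (f.base x)) (X.presheaf.stalk x) :=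
    Algebra.EssFiniteType.of_comp k _ _
  -- separability of the residue extension for Mathlib's algebra instance
  have hsep' : Algebra.IsSeparable (ResidueField (Y.presheaf.stalk (f.base x)))
      (ResidueField (X.presheaf.stalk x)) := by
    refine isSeparable_congr _ _ (fun c => ?_) hsep
    obtain ⟨a, rfl⟩ := residue_surjective c
    rw [IsLocalRing.ResidueField.algebraMap_residue]
    rfl
  by_contra hns
  have hnsA : ¬ Algebra.IsSeparable k (ResidueField (Y.presheaf.stalk (f.base x))) := by
    intro hs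
    apply hns
    have h1 : Algebra.IsSeparable k (ResidueField (X.presheaf.stalk x)) :=
      Algebra.IsSeparable.trans k (ResidueField (Y.presheaf.stalk (f.base x))) _
    refine isSeparable_congr _ _ (fun c => ?_) h1
    rfl
  have hEK : Algebra.EssFiniteType k (ResidueField (Y.presheaf.stalk (f.base x))) :=
    Algebra.EssFiniteType.comp k (Y.presheaf.stalk (f.base x)) _
  have hins : Nontrivial Ω[ResidueField (Y.presheaf.stalk (f.base x))⁄k] := by
    rw [← not_subsingleton_iff_nontrivial]
    intro hsub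
    have : Algebra.FormallyUnramified k (ResidueField (Y.presheaf.stalk (f.base x))) := ⟨hsub⟩
    exact hnsA (Algebra.FormallyUnramified.isSeparable k _)
  obtain ⟨⟨ω, hω⟩, hBN, hBnf⟩ := stalk_props k X x
  have hunr : Algebra.FormallyUnramified (Y.presheaf.stalk (f.base x)) (X.presheaf.stalk x) :=
    formallyUnramified_of_nontrivial_kaehler_residueField ω hω hins
  exact hBnf hx (isField_of_map_maximalIdeal_eq_pow e h2 he)

end Main

end Groth.Agent.R2.H78.TameSep
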