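import Mathlib

/-!
# The minimal central order `ℤ[F,V]/(FV - q, h)`: Laurent model (helper78)

`A = ℤ[F,V] = MvPolynomial (Fin 2) ℤ`, `rel q = FV - q`, `rho q : A → ℤ[T;T⁻¹]`, `F ↦ T`,
`V ↦ q T⁻¹`.  Normal forms `nf a c = a(F) + c(V)` modulo `rel q`, the kernel of `rho q`
is `(rel q)` for `q ≠ 0`.
-/

set_option autoImplicit false

namespace Groth.Agent.R2.H78.WeilNumA

open MvPolynomial
open scoped Pointwise

/-- `ℤ[F,V]`. -/
abbrev A := MvPolynomial (Fin 2) ℤ

/-- The relation `FV - q`. -/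
noncomputable def rel (q : ℤ) : A := X 0 * X 1 - C q

/-- The ideal `(FV - q)`. -/
noncomputable def J (q : ℤ) : Ideal A := Ideal.span {rel q}

/-- The Laurent model `F ↦ T`, `V ↦ q T⁻¹`. -/
noncomputable def rho (q : ℤ) : A →ₐ[ℤ] LaurentPolynomial ℤ :=
  MvPolynomial.aeval ![LaurentPolynomial.T 1, LaurentPolynomial.C q * LaurentPolynomial.T (-1)]

@[simp] lemma rho_X0 (q : ℤ) : rho q (X 0) = LaurentPolynomial.T 1 := by
  simp [rho]

@[simp] lemma rho_X1 (q : ℤ) :
    rho q (X 1) = LaurentPolynomial.C q * LaurentPolynomial.T (-1) := by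
  simp [rho]

@[simp] lemma rho_C (q z : ℤ) : rho q (C z) = LaurentPolynomial.C z := by
  rw [rho, MvPolynomial.aeval_C, LaurentPolynomial.C_eq_algebraMap]

lemma rho_rel (q : ℤ) : rho q (rel q) = 0 := by
  rw [rel, map_sub, map_mul, rho_X0, rho_X1, rho_C, mul_left_comm, ← LaurentPolynomial.T_add]
  simp

lemma J_le_ker (q : ℤ) : J q ≤ RingHom.ker (rho q) := by
  rw [J, Ideal.span_le, Set.singleton_subset_iff]
  exact rho_rel q

lemma rel_mem_J (q : ℤ) : rel q ∈ J q := Ideal.subset_span rfl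

/-- Normal form `a(F) + c(V)`. -/
noncomputable def nf (a c : Polynomial ℤ) : A :=
  Polynomial.aeval (X 0 : A) a + Polynomial.aeval (X 1 : A) c

lemma X0_mul_X1_sub_mem (q : ℤ) (g : A) : X 0 * X 1 * g - C q * g ∈ J q := by
  have : X 0 * X 1 * g - C q * g = g * rel q := by rw [rel]; ring
  rw [this]
  exact Ideal.mul_mem_left _ _ (rel_mem_J q)

/-- `F * c(V) ≡ q * (c/X)(V) + c₀ F`. -/
lemma X0_mul_aeval_X1 (q : ℤ) (c : Polynomial ℤ) :
    X 0 * Polynomial.aeval (X 1 : A) c -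
      (Polynomial.aeval (X 1 : A) (Polynomial.C q * c.divX) +
        Polynomial.aeval (X 0 : A) (Polynomial.C (c.coeff 0) * Polynomial.X)) ∈ J q := by
  have key : ∀ (d : Polynomial ℤ) (z : ℤ),
      X 0 * Polynomial.aeval (X 1 : A) (d * Polynomial.X + Polynomial.C z) -
      (Polynomial.aeval (X 1 : A) (Polynomial.C q * d) +
        Polynomial.aeval (X 0 : A) (Polynomial.C z * Polynomial.X)) ∈ J q := by
    intro d z
    simp only [map_add, map_mul, Polynomial.aeval_X, Polynomial.aeval_C]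
    have : X 0 * (Polynomial.aeval (X 1 : A) d * X 1 + algebraMap ℤ A z) -
        (algebraMap ℤ A q * Polynomial.aeval (X 1 : A) d + algebraMap ℤ A z * X 0) =
        X 0 * X 1 * Polynomial.aeval (X 1 : A) d - C q * Polynomial.aeval (X 1 : A) d := by
      rw [MvPolynomial.algebraMap_eq]; ring
    rw [this]
    exact X0_mul_X1_sub_mem q _
  have := key c.divX (c.coeff 0)
  rwa [Polynomial.divX_mul_X_add] at this

/-- `V * a(F) ≡ q * (a/X)(F) + a₀ V`. -/
lemma X1_mul_aeval_X0 (q : ℤ) (a : Polynomial ℤ) :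
    X 1 * Polynomial.aeval (X 0 : A) a -
      (Polynomial.aeval (X 0 : A) (Polynomial.C q * a.divX) +
        Polynomial.aeval (X 1 : A) (Polynomial.C (a.coeff 0) * Polynomial.X)) ∈ J q := by
  have key : ∀ (d : Polynomial ℤ) (z : ℤ),
      X 1 * Polynomial.aeval (X 0 : A) (d * Polynomial.X + Polynomial.C z) -
      (Polynomial.aeval (X 0 : A) (Polynomial.C q * d) +
        Polynomial.aeval (X 1 : A) (Polynomial.C z * Polynomial.X)) ∈ J q := by
    intro d z
    simp only [map_add, map_mul, Polynomial.aeval_X, Polynomial.aeval_C]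
    have : X 1 * (Polynomial.aeval (X 0 : A) d * X 0 + algebraMap ℤ A z) -
        (algebraMap ℤ A q * Polynomial.aeval (X 0 : A) d + algebraMap ℤ A z * X 1) =
        X 0 * X 1 * Polynomial.aeval (X 0 : A) d - C q * Polynomial.aeval (X 0 : A) d := by
      rw [MvPolynomial.algebraMap_eq]; ring
    rw [this]
    exact X0_mul_X1_sub_mem q _
  have := key a.divX (a.coeff 0)
  rwa [Polynomial.divX_mul_X_add] at this

/-- Every polynomial is congruent to a normal form modulo `FV - q`. -/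
lemma exists_nf' (q : ℤ) (g : A) : ∃ a c : Polynomial ℤ, g - nf a c ∈ J q := by
  induction g using MvPolynomial.induction_on with
  | C z =>
    refine ⟨Polynomial.C z, 0, ?_⟩
    simp [nf]
  | add g₁ g₂ h₁ h₂ =>
    obtain ⟨a₁, c₁, h₁⟩ := h₁
    obtain ⟨a₂, c₂, h₂⟩ := h₂
    refine ⟨a₁ + a₂, c₁ + c₂, ?_⟩
    have : g₁ + g₂ - nf (a₁ + a₂) (c₁ + c₂) = (g₁ - nf a₁ c₁) + (g₂ - nf a₂ c₂) := by
      simp only [nf, map_add]; ring
    rw [this]
    exact Ideal.add_mem _ h₁ h₂
  | mul_X g i hg =>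
    obtain ⟨a, c, hg⟩ := hg
    fin_cases i
    · refine ⟨a * Polynomial.X + Polynomial.C (c.coeff 0) * Polynomial.X,
        Polynomial.C q * c.divX, ?_⟩
      have h1 := X0_mul_aeval_X1 q c
      have : g * X 0 - nf (a * Polynomial.X + Polynomial.C (c.coeff 0) * Polynomial.X)
          (Polynomial.C q * c.divX) = X 0 * (g - nf a c) +
          (X 0 * Polynomial.aeval (X 1 : A) c -
            (Polynomial.aeval (X 1 : A) (Polynomial.C q * c.divX) +
              Polynomial.aeval (X 0 : A) (Polynomial.C (c.coeff 0) * Polynomial.X))) := by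
        simp only [nf, map_add, map_mul, Polynomial.aeval_X]; ring
      show g * X 0 - _ ∈ J q
      rw [this]
      exact Ideal.add_mem _ (Ideal.mul_mem_left _ _ hg) h1
    · refine ⟨Polynomial.C q * a.divX,
        c * Polynomial.X + Polynomial.C (a.coeff 0) * Polynomial.X, ?_⟩
      have h1 := X1_mul_aeval_X0 q a
      have : g * X 1 - nf (Polynomial.C q * a.divX)
          (c * Polynomial.X + Polynomial.C (a.coeff 0) * Polynomial.X) = X 1 * (g - nf a c) +
          (X 1 * Polynomial.aeval (X 0 : A) a -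
            (Polynomial.aeval (X 0 : A) (Polynomial.C q * a.divX) +
              Polynomial.aeval (X 1 : A) (Polynomial.C (a.coeff 0) * Polynomial.X))) := by
        simp only [nf, map_add, map_mul, Polynomial.aeval_X]; ring
      show g * X 1 - _ ∈ J q
      rw [this]
      exact Ideal.add_mem _ (Ideal.mul_mem_left _ _ hg) h1

/-- Normal form with `c₀ = 0`. -/
lemma exists_nf (q : ℤ) (g : A) :
    ∃ a c : Polynomial ℤ, c.coeff 0 = 0 ∧ g - nf a c ∈ J q := by
  obtain ⟨a, c, h⟩ := exists_nf' q g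
  refine ⟨a + Polynomial.C (c.coeff 0), c - Polynomial.C (c.coeff 0), by simp, ?_⟩
  have : nf (a + Polynomial.C (c.coeff 0)) (c - Polynomial.C (c.coeff 0)) = nf a c := by
    simp only [nf, map_add, map_sub, Polynomial.aeval_C]; ring
  rw [this]; exact h

lemma coeff_toLaurent_nat (f : Polynomial ℤ) (k : ℕ) :
    (Polynomial.toLaurent f).coeff (k : ℤ) = f.coeff k := by
  rw [LaurentPolynomial.coeff_toLaurent]
  exact Finsupp.mapDomain_apply Nat.castEmbedding.injective _ _

lemma coeff_toLaurent_neg (f : Polynomial ℤ) (m : ℤ) (hm : m < 0) :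
    (Polynomial.toLaurent f).coeff m = 0 := by
  rw [LaurentPolynomial.coeff_toLaurent]
  apply Finsupp.mapDomain_of_notMem_range
  rintro ⟨k, hk⟩
  have : (0 : ℤ) ≤ (k : ℤ) := Int.natCast_nonneg k
  change (k : ℤ) = m at hk
  omega

lemma rho_aeval_X0 (q : ℤ) (a : Polynomial ℤ) :
    rho q (Polynomial.aeval (X 0 : A) a) = Polynomial.toLaurent a := by
  have : (rho q).comp (Polynomial.aeval (X 0 : A)) = Polynomial.toLaurentAlg :=
    Polynomial.algHom_ext (by simp)
  have h := AlgHom.congr_fun this a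
  simpa using h

lemma rho_aeval_X1 (q : ℤ) (c : Polynomial ℤ) :
    rho q (Polynomial.aeval (X 1 : A) c) =
      LaurentPolynomial.invert
        (Polynomial.toLaurent (c.comp (Polynomial.C q * Polynomial.X))) := by
  have : (rho q).comp (Polynomial.aeval (X 1 : A)) =
      ((LaurentPolynomial.invert (R := ℤ)).toAlgHom.comp Polynomial.toLaurentAlg).comp
        (Polynomial.aeval (Polynomial.C q * Polynomial.X)) :=
    Polynomial.algHom_ext (by simp)
  have h := AlgHom.congr_fun this c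
  rw [Polynomial.comp_eq_aeval]
  simpa using h

lemma coeff_rho_nf_nat (q : ℤ) (a c : Polynomial ℤ) (hc : c.coeff 0 = 0) (k : ℕ) :
    (rho q (nf a c)).coeff (k : ℤ) = a.coeff k := by
  rw [nf, map_add, rho_aeval_X0, rho_aeval_X1, AddMonoidAlgebra.coeff_add, Finsupp.add_apply,
    coeff_toLaurent_nat, LaurentPolynomial.invert_apply]
  rcases Nat.eq_zero_or_pos k with rfl | hk
  · have : (-((0 : ℕ) : ℤ)) = ((0 : ℕ) : ℤ) := by simp
    rw [this, coeff_toLaurent_nat, Polynomial.comp_C_mul_X_coeff, hc]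
    simp
  · rw [coeff_toLaurent_neg _ _ (by omega), add_zero]

lemma coeff_rho_nf_neg (q : ℤ) (a c : Polynomial ℤ) (k : ℕ) (hk : 0 < k) :
    (rho q (nf a c)).coeff (-(k : ℤ)) = c.coeff k * q ^ k := by
  rw [nf, map_add, rho_aeval_X0, rho_aeval_X1, AddMonoidAlgebra.coeff_add, Finsupp.add_apply,
    coeff_toLaurent_neg _ _ (by omega), LaurentPolynomial.invert_apply, neg_neg,
    coeff_toLaurent_nat, Polynomial.comp_C_mul_X_coeff, zero_add]

/-- uniqueness of normal forms -/
lemma nf_eq_zero_of_rho (q : ℤ) (hq : q ≠ 0) (a c : Polynomial ℤ) (hc : c.coeff 0 = 0)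
    (h : rho q (nf a c) = 0) : a = 0 ∧ c = 0 := by
  constructor
  · ext k
    rw [← coeff_rho_nf_nat q a c hc k, h]; simp
  · ext k
    rcases Nat.eq_zero_or_pos k with rfl | hk
    · simpa using hc
    · have := coeff_rho_nf_neg q a c k hk
      rw [h] at this
      simp only [AddMonoidAlgebra.coeff_zero, Finsupp.coe_zero, Pi.zero_apply] at this
      have h2 : c.coeff k = 0 := by
        rcases mul_eq_zero.mp this.symm with h | h
        · exact h
        · exact absurd h (pow_ne_zero _ hq)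
      simpa using h2

lemma ker_rho (q : ℤ) (hq : q ≠ 0) : RingHom.ker (rho q) = J q := by
  apply le_antisymm _ (J_le_ker q)
  intro g hg
  obtain ⟨a, c, hc, hgn⟩ := exists_nf q g
  have h1 : rho q (nf a c) = 0 := by
    have := J_le_ker q hgn
    rw [RingHom.mem_ker, map_sub, RingHom.mem_ker.mp hg, zero_sub, neg_eq_zero] at this
    exact this
  obtain ⟨ha, hc0⟩ := nf_eq_zero_of_rho q hq a c hc h1
  have : nf a c = 0 := by rw [ha, hc0]; simp [nf]
  rw [this, sub_zero] at hgn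
  exact hgn

lemma coeff_T_mul (f : LaurentPolynomial ℤ) (D n : ℤ) :
    (LaurentPolynomial.T D * f).coeff n = f.coeff (n - D) := by
  rw [LaurentPolynomial.T, AddMonoidAlgebra.coeff_single_mul_apply, one_mul]
  congr 1; ring

/-- The shape of `h`: if `F^D h ≡ P(F)` then `h ≡ a(F) + c(V)` with the coefficients of `a`, `c`
determined by those of `P`. -/
lemma exists_shape (q : ℤ) (D : ℕ) (P : Polynomial ℤ) (h : A)
    (hh : X 0 ^ D * h - Polynomial.aeval (X 0 : A) P ∈ J q) :
    ∃ a c : Polynomial ℤ, c.coeff 0 = 0 ∧ h - nf a c ∈ J q ∧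
      (∀ k, a.coeff k = P.coeff (D + k)) ∧
      (∀ j, 0 < j → j ≤ D → c.coeff j * q ^ j = P.coeff (D - j)) ∧
      (∀ j, D < j → c.coeff j * q ^ j = 0) ∧
      LaurentPolynomial.T (D : ℤ) * rho q h = Polynomial.toLaurent P := by
  obtain ⟨a, c, hc, hn⟩ := exists_nf q h
  have h1 : rho q h = rho q (nf a c) := by
    have := J_le_ker q hn
    rwa [RingHom.mem_ker, map_sub, sub_eq_zero] at this
  have h2 : LaurentPolynomial.T (D : ℤ) * rho q h = Polynomial.toLaurent P := by
    have := J_le_ker q hh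
    rw [RingHom.mem_ker, map_sub, sub_eq_zero, map_mul, map_pow, rho_X0, rho_aeval_X0,
      LaurentPolynomial.T_pow, mul_one] at this
    exact this
  have key : ∀ n : ℤ, (rho q (nf a c)).coeff (n - D) = (Polynomial.toLaurent P).coeff n := by
    intro n
    rw [← h2, coeff_T_mul, h1]
  refine ⟨a, c, hc, hn, ?_, ?_, ?_, h2⟩
  · intro k
    have := key ((D + k : ℕ) : ℤ)
    rw [coeff_toLaurent_nat] at this
    rw [← this]
    have e : (((D + k : ℕ) : ℤ) - D) = (k : ℤ) := by push_cast; ring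
    rw [e, coeff_rho_nf_nat q a c hc]
  · intro j hj hjD
    have := key ((D - j : ℕ) : ℤ)
    rw [coeff_toLaurent_nat] at this
    rw [← this]
    have e : (((D - j : ℕ) : ℤ) - D) = -(j : ℤ) := by
      rw [Nat.cast_sub hjD]; ring
    rw [e, coeff_rho_nf_neg q a c j hj]
  · intro j hj
    have := key ((D : ℤ) - j)
    rw [coeff_toLaurent_neg _ _ (by omega)] at this
    rw [← this]
    have e : ((D : ℤ) - j - D) = -(j : ℤ) := by ring
    rw [e, coeff_rho_nf_neg q a c j (by omega)]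

/-- The `2D` monomials `1, F, …, F^{D-1}, V, …, V^D`. -/
noncomputable def mon (D : ℕ) : Fin D ⊕ Fin D → A :=
  Sum.elim (fun i => X 0 ^ (i : ℕ)) (fun j => X 1 ^ ((j : ℕ) + 1))

/-- Their `ℤ`-span. -/
noncomputable def M (D : ℕ) : Submodule ℤ A := Submodule.span ℤ (Set.range (mon D))

lemma X0_pow_mem_M {D i : ℕ} (hi : i < D) : (X 0 : A) ^ i ∈ M D :=
  Submodule.subset_span ⟨Sum.inl ⟨i, hi⟩, rfl⟩

lemma X1_pow_mem_M {D j : ℕ} (hj : j < D) : (X 1 : A) ^ (j + 1) ∈ M D :=
  Submodule.subset_span ⟨Sum.inr ⟨j, hj⟩, rfl⟩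

lemma aeval_X0_mem_M (D : ℕ) (p : Polynomial ℤ) (hp : ∀ k, D ≤ k → p.coeff k = 0) :
    Polynomial.aeval (X 0 : A) p ∈ M D := by
  rw [Polynomial.aeval_eq_sum_range]
  refine Submodule.sum_mem _ fun i _ => ?_
  rcases lt_or_ge i D with hi | hi
  · exact Submodule.smul_mem _ _ (X0_pow_mem_M hi)
  · rw [hp i hi, zero_smul]; exact Submodule.zero_mem _

lemma aeval_X1_mem_M (D : ℕ) (c : Polynomial ℤ) (hc0 : c.coeff 0 = 0)
    (hc : ∀ k, D < k → c.coeff k = 0) :
    Polynomial.aeval (X 1 : A) c ∈ M D := by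
  rw [Polynomial.aeval_eq_sum_range]
  refine Submodule.sum_mem _ fun i _ => ?_
  rcases Nat.eq_zero_or_pos i with rfl | hi0
  · rw [hc0, zero_smul]; exact Submodule.zero_mem _
  rcases le_or_gt i D with hi | hi
  · obtain ⟨j, rfl⟩ : ∃ j, i = j + 1 := ⟨i - 1, by omega⟩
    exact Submodule.smul_mem _ _ (X1_pow_mem_M (by omega))
  · rw [hc i hi, zero_smul]; exact Submodule.zero_mem _

/-- The ideal `(FV - q, h)`. -/
noncomputable def Iqh (q : ℤ) (h : A) : Ideal A := Ideal.span {rel q, h}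

lemma J_le_Iqh (q : ℤ) (h : A) : J q ≤ Iqh q h :=
  Ideal.span_mono (by simp)

lemma h_mem_Iqh (q : ℤ) (h : A) : h ∈ Iqh q h := Ideal.subset_span (by simp)

/-- `(FV - q, h) + M`. -/
noncomputable def G (q : ℤ) (h : A) (D : ℕ) : Submodule ℤ A :=
  (Iqh q h).restrictScalars ℤ ⊔ M D

lemma mem_G_of_mem_I {q : ℤ} {h : A} {D : ℕ} {g : A} (hg : g ∈ Iqh q h) : g ∈ G q h D :=
  Submodule.mem_sup_left hg

lemma mem_G_of_mem_M {q : ℤ} {h : A} {D : ℕ} {g : A} (hg : g ∈ M D) : g ∈ G q h D :=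
  Submodule.mem_sup_right hg

lemma mul_mem_G_of_gen (q : ℤ) (h : A) (D : ℕ) (t : A)
    (hgen : ∀ s, mon D s * t ∈ G q h D) : ∀ g ∈ G q h D, g * t ∈ G q h D := by
  intro g hg
  obtain ⟨i, hi, m, hm, rfl⟩ := Submodule.mem_sup.mp hg
  rw [add_mul]
  refine Submodule.add_mem _ (mem_G_of_mem_I (Ideal.mul_mem_right _ _ hi)) ?_
  clear hg
  induction hm using Submodule.span_induction with
  | mem x hx =>
    obtain ⟨s, rfl⟩ := hx
    exact hgen s
  | zero => rw [zero_mul]; exact Submodule.zero_mem _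
  | add x y _ _ hx hy => rw [add_mul]; exact Submodule.add_mem _ hx hy
  | smul z x _ hx => rw [smul_mul_assoc]; exact Submodule.smul_mem _ _ hx

section Span

variable (q : ℤ) (D : ℕ) (h : A) (a c : Polynomial ℤ)
  (hn : h - nf a c ∈ J q)
  (ha1 : ∀ k, D < k → a.coeff k = 0) (ha2 : a.coeff D = 1)
  (hc0 : c.coeff 0 = 0) (hc1 : ∀ k, D < k → c.coeff k = 0)
  (hc2 : 0 < D → (c.coeff D = 1 ∨ c.coeff D = -1))

include hn in
lemma nf_mem_Iqh : nf a c ∈ Iqh q h := by
  have : nf a c = h - (h - nf a c) := by ring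
  rw [this]
  exact Ideal.sub_mem _ (h_mem_Iqh q h) (J_le_Iqh q h hn)

include hn ha1 ha2 hc0 hc1 in
lemma X0_pow_D_mem_G : (X 0 : A) ^ D ∈ G q h D := by
  have hdeg : a.natDegree < D + 1 :=
    Nat.lt_succ_of_le (Polynomial.natDegree_le_iff_coeff_eq_zero.mpr ha1)
  have h1 : Polynomial.aeval (X 0 : A) a =
      ∑ i ∈ Finset.range D, a.coeff i • (X 0 : A) ^ i + (X 0 : A) ^ D := by
    rw [Polynomial.aeval_eq_sum_range' hdeg, Finset.sum_range_succ, ha2, one_smul]
  have h2 : (X 0 : A) ^ D = nf a c - ∑ i ∈ Finset.range D, a.coeff i • (X 0 : A) ^ i -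
      Polynomial.aeval (X 1 : A) c := by
    rw [nf, h1]; ring
  rw [h2]
  refine Submodule.sub_mem _ (Submodule.sub_mem _ (mem_G_of_mem_I (nf_mem_Iqh q h a c hn)) ?_)
    (mem_G_of_mem_M (aeval_X1_mem_M D c hc0 hc1))
  refine mem_G_of_mem_M (Submodule.sum_mem _ fun i hi => ?_)
  exact Submodule.smul_mem _ _ (X0_pow_mem_M (Finset.mem_range.mp hi))

include hn ha1 ha2 hc0 hc1 in
lemma one_mem_G : (1 : A) ∈ G q h D := by
  rcases Nat.eq_zero_or_pos D with rfl | hD
  · simpa using X0_pow_D_mem_G q 0 h a c hn ha1 ha2 hc0 hc1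
  · have := X0_pow_mem_M (D := D) hD
    rw [pow_zero] at this
    exact mem_G_of_mem_M this

include hn ha1 hc1 hc2 in
lemma X1_pow_succ_D_mem_G (hD : 0 < D) : (X 1 : A) ^ (D + 1) ∈ G q h D := by
  have hdeg : c.natDegree < D + 1 :=
    Nat.lt_succ_of_le (Polynomial.natDegree_le_iff_coeff_eq_zero.mpr hc1)
  have h1 : X 1 * Polynomial.aeval (X 1 : A) c =
      ∑ i ∈ Finset.range D, c.coeff i • (X 1 : A) ^ (i + 1) + c.coeff D • (X 1 : A) ^ (D + 1) := by
    rw [Polynomial.aeval_eq_sum_range' hdeg, Finset.sum_range_succ, mul_add, Finset.mul_sum]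
    congr 1
    · refine Finset.sum_congr rfl fun i _ => ?_
      rw [mul_smul_comm, pow_succ']
    · rw [mul_smul_comm, pow_succ']
  have h3 := X1_mul_aeval_X0 q a
  have key : c.coeff D • (X 1 : A) ^ (D + 1) ∈ G q h D := by
    have : c.coeff D • (X 1 : A) ^ (D + 1) = X 1 * nf a c -
        (X 1 * Polynomial.aeval (X 0 : A) a -
          (Polynomial.aeval (X 0 : A) (Polynomial.C q * a.divX) +
            Polynomial.aeval (X 1 : A) (Polynomial.C (a.coeff 0) * Polynomial.X))) -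
        Polynomial.aeval (X 0 : A) (Polynomial.C q * a.divX) -
        Polynomial.aeval (X 1 : A) (Polynomial.C (a.coeff 0) * Polynomial.X) -
        ∑ i ∈ Finset.range D, c.coeff i • (X 1 : A) ^ (i + 1) := by
      rw [nf, mul_add, h1]; ring
    rw [this]
    refine Submodule.sub_mem _ (Submodule.sub_mem _ (Submodule.sub_mem _ (Submodule.sub_mem _
      (mem_G_of_mem_I (Ideal.mul_mem_left _ _ (nf_mem_Iqh q h a c hn)))
      (mem_G_of_mem_I (J_le_Iqh q h h3))) (mem_G_of_mem_M ?_)) (mem_G_of_mem_M ?_))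
      (mem_G_of_mem_M ?_)
    · apply aeval_X0_mem_M
      intro k hk
      rw [Polynomial.coeff_C_mul, Polynomial.coeff_divX, ha1 (k + 1) (by omega), mul_zero]
    · apply aeval_X1_mem_M
      · simp
      · intro k hk
        rw [Polynomial.coeff_C_mul, Polynomial.coeff_X, if_neg (by omega), mul_zero]
    · refine Submodule.sum_mem _ fun i hi => ?_
      exact Submodule.smul_mem _ _ (X1_pow_mem_M (Finset.mem_range.mp hi))
  rcases hc2 hD with h | h
  · rwa [h, one_smul] at key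
  · rw [h, neg_smul, one_smul] at key
    simpa using Submodule.neg_mem _ key

include hn ha1 ha2 hc0 hc1 in
lemma mul_X0_mem_G : ∀ g ∈ G q h D, g * X 0 ∈ G q h D := by
  apply mul_mem_G_of_gen
  rintro (⟨i, hi⟩ | ⟨j, hj⟩)
  · show (X 0 : A) ^ i * X 0 ∈ G q h D
    rw [← pow_succ]
    rcases Nat.lt_or_ge (i + 1) D with h1 | h1
    · exact mem_G_of_mem_M (X0_pow_mem_M h1)
    · have : i + 1 = D := by omega
      rw [this]
      exact X0_pow_D_mem_G q D h a c hn ha1 ha2 hc0 hc1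
  · show (X 1 : A) ^ (j + 1) * X 0 ∈ G q h D
    have : (X 1 : A) ^ (j + 1) * X 0 = X 1 ^ j * rel q + q • (X 1 : A) ^ j := by
      rw [rel, pow_succ, Algebra.smul_def, MvPolynomial.algebraMap_eq]; ring
    rw [this]
    refine Submodule.add_mem _
      (mem_G_of_mem_I (Ideal.mul_mem_left _ _ (J_le_Iqh q h (rel_mem_J q)))) ?_
    refine Submodule.smul_mem _ _ ?_
    rcases Nat.eq_zero_or_pos j with rfl | hj0
    · rw [pow_zero]; exact one_mem_G q D h a c hn ha1 ha2 hc0 hc1
    · obtain ⟨j', rfl⟩ : ∃ j', j = j' + 1 := ⟨j - 1, by omega⟩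
      exact mem_G_of_mem_M (X1_pow_mem_M (by omega))

include hn ha1 hc1 hc2 in
lemma mul_X1_mem_G : ∀ g ∈ G q h D, g * X 1 ∈ G q h D := by
  apply mul_mem_G_of_gen
  rintro (⟨i, hi⟩ | ⟨j, hj⟩)
  · show (X 0 : A) ^ i * X 1 ∈ G q h D
    rcases Nat.eq_zero_or_pos i with rfl | hi0
    · rw [pow_zero, one_mul]
      have := X1_pow_mem_M (D := D) (j := 0) hi
      rw [zero_add, pow_one] at this
      exact mem_G_of_mem_M this
    · obtain ⟨i', rfl⟩ : ∃ i', i = i' + 1 := ⟨i - 1, by omega⟩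
      have : (X 0 : A) ^ (i' + 1) * X 1 = X 0 ^ i' * rel q + q • (X 0 : A) ^ i' := by
        rw [rel, pow_succ, Algebra.smul_def, MvPolynomial.algebraMap_eq]; ring
      rw [this]
      refine Submodule.add_mem _
        (mem_G_of_mem_I (Ideal.mul_mem_left _ _ (J_le_Iqh q h (rel_mem_J q)))) ?_
      exact Submodule.smul_mem _ _ (mem_G_of_mem_M (X0_pow_mem_M (by omega)))
  · show (X 1 : A) ^ (j + 1) * X 1 ∈ G q h D
    rw [← pow_succ]
    rcases Nat.lt_or_ge (j + 1) D with h1 | h1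
    · exact mem_G_of_mem_M (X1_pow_mem_M h1)
    · have : j + 1 = D := by omega
      rw [this]
      exact X1_pow_succ_D_mem_G q D h a c hn ha1 hc1 hc2 (by omega)

include hn ha1 ha2 hc0 hc1 hc2 in
theorem G_eq_top : G q h D = ⊤ := by
  rw [eq_top_iff]
  rintro g -
  induction g using MvPolynomial.induction_on with
  | C z =>
    have : (C z : A) = z • (1 : A) := by
      rw [Algebra.smul_def, MvPolynomial.algebraMap_eq, mul_one]
    rw [this]
    exact Submodule.smul_mem _ _ (one_mem_G q D h a c hn ha1 ha2 hc0 hc1)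
  | add g₁ g₂ h₁ h₂ => exact Submodule.add_mem _ h₁ h₂
  | mul_X g i hg =>
    fin_cases i
    · exact mul_X0_mem_G q D h a c hn ha1 ha2 hc0 hc1 g hg
    · exact mul_X1_mem_G q D h a c hn ha1 hc1 hc2 g hg

end Span

/-- Spanning: `(FV - q, h) + M = ℤ[F,V]`. -/
theorem G_eq_top_of_shape (q : ℤ) (hq : q ≠ 0) (D : ℕ) (P : Polynomial ℤ) (hP : P.Monic)
    (hdeg : P.natDegree = 2 * D) (hP0 : P.coeff 0 = q ^ D ∨ P.coeff 0 = -q ^ D) (h : A)
    (hh : X 0 ^ D * h - Polynomial.aeval (X 0 : A) P ∈ J q) : G q h D = ⊤ := by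
  obtain ⟨a, c, hc0, hn, hak, hcj, hcj0, -⟩ := exists_shape q D P h hh
  have hq' : ∀ k : ℕ, q ^ k ≠ 0 := fun k => pow_ne_zero _ hq
  refine G_eq_top q D h a c hn ?_ ?_ hc0 ?_ ?_
  · intro k hk
    rw [hak]
    exact Polynomial.coeff_eq_zero_of_natDegree_lt (by omega)
  · rw [hak]
    have : D + D = P.natDegree := by omega
    rw [this]
    exact hP.coeff_natDegree
  · intro k hk
    rcases mul_eq_zero.mp (hcj0 k hk) with h | h
    · exact h
    · exact absurd h (hq' k)
  · intro hD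
    have h1 := hcj D hD le_rfl
    rw [Nat.sub_self] at h1
    rcases hP0 with h0 | h0
    · left
      rw [h0] at h1
      exact mul_right_cancel₀ (hq' D) (by rw [h1, one_mul])
    · right
      rw [h0] at h1
      exact mul_right_cancel₀ (hq' D) (by rw [h1, neg_one_mul])

lemma rho_h_ne_zero (q : ℤ) (D : ℕ) (P : Polynomial ℤ) (hP : P ≠ 0) (h : A)
    (hh : X 0 ^ D * h - Polynomial.aeval (X 0 : A) P ∈ J q) : rho q h ≠ 0 := by
  obtain ⟨a, c, -, -, -, -, -, h2⟩ := exists_shape q D P h hh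
  intro h0
  rw [h0, mul_zero] at h2
  exact hP (Polynomial.toLaurent_eq_zero.mp h2.symm)

lemma rel_ne_zero (q : ℤ) (hq : q ≠ 0) : rel q ≠ 0 := by
  intro h0
  have := congrArg (MvPolynomial.eval (0 : Fin 2 → ℤ)) h0
  simp [rel] at this
  exact hq this

/-- `h` is regular modulo `FV - q`. -/
lemma mem_J_of_mul_mem (q : ℤ) (hq : q ≠ 0) (h : A) (hh : rho q h ≠ 0) (g : A)
    (hg : h * g ∈ J q) : g ∈ J q := by
  rw [← ker_rho q hq, RingHom.mem_ker] at hg ⊢
  rw [map_mul] at hg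
  exact (mul_eq_zero.mp hg).resolve_left hh

/-- `(FV - q, h)` is a weakly regular sequence. -/
theorem isWeaklyRegular (q : ℤ) (hq : q ≠ 0) (h : A) (hh : rho q h ≠ 0) :
    RingTheory.Sequence.IsWeaklyRegular A [rel q, h] := by
  rw [RingTheory.Sequence.isWeaklyRegular_cons_iff, RingTheory.Sequence.isWeaklyRegular_singleton_iff]
  constructor
  · exact (IsRegular.of_ne_zero (rel_ne_zero q hq)).isSMulRegular
  · rw [isSMulRegular_quotient_iff_mem_of_smul_mem]
    intro g hg
    have e : ∀ x : A, x ∈ (rel q • (⊤ : Submodule A A)) ↔ x ∈ J q := by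
      intro x
      rw [Submodule.mem_smul_pointwise_iff_exists, J, Ideal.mem_span_singleton']
      constructor
      · rintro ⟨y, -, rfl⟩; exact ⟨y, by rw [smul_eq_mul, mul_comm]⟩
      · rintro ⟨y, rfl⟩; exact ⟨y, trivial, by rw [smul_eq_mul, mul_comm]⟩
    rw [e] at hg ⊢
    exact mem_J_of_mul_mem q hq h hh g hg

end Groth.Agent.R2.H78.WeilNumA
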