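import Groth.Agent.R2.H78WeilNumA

/-!
# The minimal central order of a family of Weil numbers (helper78)

`phi π q : ℤ[F,V] → ∏ K_i`, `F ↦ π`, `V ↦ q/π`.  Kernel `= (FV - q, h)`, the image is free of rank
`2D` on the monomials `1, …, F^{D-1}, V, …, V^D`.
-/

set_option autoImplicit false
set_option linter.unusedSectionVars false
universe u
namespace Groth.Agent.R2.H78.WeilNumB
open MvPolynomial Groth.Agent.R2.H78.WeilNumA

lemma norm_multiset_prod_eq (m : Multiset ℂ) (r : ℝ) (h : ∀ z ∈ m, ‖z‖ = r) :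
    ‖m.prod‖ = r ^ Multiset.card m := by
  induction m using Multiset.induction_on with
  | empty => simp
  | cons a s ih =>
    rw [Multiset.prod_cons, norm_mul, Multiset.card_cons, pow_succ', h a (Multiset.mem_cons_self a s),
      ih (fun z hz => h z (Multiset.mem_cons_of_mem hz))]

section
variable {ι : Type} [Fintype ι] {K : ι → Type u} [∀ i, Field (K i)] [∀ i, CharZero (K i)]
  (π : ∀ i, K i) (q : ℤ)

/-- The product of the minimal polynomials. -/
noncomputable def Pw : Polynomial ℤ := ∏ i, minpoly ℤ (π i)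

lemma Pw_monic (hint : ∀ i, IsIntegral ℤ (π i)) : (Pw π).Monic :=
  Polynomial.monic_prod_of_monic _ _ fun i _ => minpoly.monic (hint i)

lemma Pw_natDegree (hint : ∀ i, IsIntegral ℤ (π i)) :
    (Pw π).natDegree = ∑ i, (minpoly ℤ (π i)).natDegree :=
  Polynomial.natDegree_prod_of_monic _ _ fun i _ => minpoly.monic (hint i)

lemma aeval_Pw (k : ι) : Polynomial.aeval (π k) (Pw π) = 0 := by
  rw [Pw, map_prod]
  exact Finset.prod_eq_zero (Finset.mem_univ k) (minpoly.aeval ℤ (π k))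

/-- A polynomial vanishing at all the `π i` is divisible by the product of the minimal
polynomials. -/
lemma Pw_dvd (hint : ∀ i, IsIntegral ℤ (π i))
    (hinj : ∀ i j, minpoly ℤ (π i) = minpoly ℤ (π j) → i = j)
    (f : Polynomial ℤ) (hf : ∀ k, Polynomial.aeval (π k) f = 0) : Pw π ∣ f := by
  rw [Pw]
  apply Finset.prod_dvd_of_isRelPrime
  · intro i _ j _ hij
    have hi : Irreducible (minpoly ℤ (π i)) := (minpoly.prime_of_isIntegrallyClosed (hint i)).irreducible
    have hj : Irreducible (minpoly ℤ (π j)) := (minpoly.prime_of_isIntegrallyClosed (hint j)).irreducible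
    show IsRelPrime (minpoly ℤ (π i)) (minpoly ℤ (π j))
    rw [hi.isRelPrime_iff_not_dvd]
    intro hdvd
    apply hij
    apply hinj
    exact Polynomial.eq_of_monic_of_associated (minpoly.monic (hint i)) (minpoly.monic (hint j))
      (hi.associated_of_dvd hj hdvd)
  · intro i _
    exact minpoly.isIntegrallyClosed_dvd (hint i) (hf i)

/-- The map `ℤ[F,V] → ∏ K_i`, `F ↦ π`, `V ↦ q/π`. -/
noncomputable def phi : A →ₐ[ℤ] ((i : ι) → K i) :=
  MvPolynomial.aeval ![fun i => π i, fun i => (q : K i) / π i]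

lemma phi_apply (g : A) (k : ι) :
    phi π q g k = MvPolynomial.aeval ![π k, (q : K k) / π k] g := by
  have : (Pi.evalAlgHom ℤ K k).comp (phi π q) =
      MvPolynomial.aeval ![π k, (q : K k) / π k] := by
    apply MvPolynomial.algHom_ext
    intro i
    fin_cases i <;> simp [phi]
  exact AlgHom.congr_fun this g

lemma phi_X0_pow (n : ℕ) (k : ι) : phi π q (X 0 ^ n) k = π k ^ n := by
  rw [phi_apply]; simp

lemma phi_X1_pow (n : ℕ) (k : ι) : phi π q (X 1 ^ n) k = ((q : K k) / π k) ^ n := by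
  rw [phi_apply]; simp

/-- The polynomial attached to a combination of the `2D` monomials. -/
noncomputable def cs (D : ℕ) (g : Fin D ⊕ Fin D → ℤ) : Polynomial ℤ :=
  ∑ i : Fin D, Polynomial.C (g (Sum.inl i)) * Polynomial.X ^ (D + (i : ℕ)) +
    ∑ j : Fin D, Polynomial.C (g (Sum.inr j) * q ^ ((j : ℕ) + 1)) * Polynomial.X ^ (D - 1 - (j : ℕ))

lemma cs_degree_lt (D : ℕ) (g : Fin D ⊕ Fin D → ℤ) : (cs q D g).degree < ((2 * D : ℕ) : WithBot ℕ) := by
  rw [← Polynomial.mem_degreeLT]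
  refine Submodule.add_mem _ (Submodule.sum_mem _ fun i _ => ?_) (Submodule.sum_mem _ fun j _ => ?_)
  · rw [Polynomial.mem_degreeLT]
    refine lt_of_le_of_lt (Polynomial.degree_C_mul_X_pow_le _ _) ?_
    have := i.2
    exact_mod_cast (by omega : D + (i : ℕ) < 2 * D)
  · rw [Polynomial.mem_degreeLT]
    refine lt_of_le_of_lt (Polynomial.degree_C_mul_X_pow_le _ _) ?_
    have := j.2
    exact_mod_cast (by omega : D - 1 - (j : ℕ) < 2 * D)

lemma cs_coeff_inl (D : ℕ) (g : Fin D ⊕ Fin D → ℤ) (i : Fin D) :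
    (cs q D g).coeff (D + (i : ℕ)) = g (Sum.inl i) := by
  rw [cs, Polynomial.coeff_add, Polynomial.finsetSum_coeff, Polynomial.finsetSum_coeff]
  simp only [Polynomial.coeff_C_mul_X_pow]
  rw [Finset.sum_eq_single i, if_pos rfl, Finset.sum_eq_zero, add_zero]
  · intro j _
    have := j.2
    rw [if_neg (by omega)]
  · intro i' _ hi'
    rw [if_neg]
    intro h
    apply hi'
    apply Fin.ext
    omega
  · intro h; exact absurd (Finset.mem_univ i) h

lemma cs_coeff_inr (D : ℕ) (g : Fin D ⊕ Fin D → ℤ) (j : Fin D) :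
    (cs q D g).coeff (D - 1 - (j : ℕ)) = g (Sum.inr j) * q ^ ((j : ℕ) + 1) := by
  rw [cs, Polynomial.coeff_add, Polynomial.finsetSum_coeff, Polynomial.finsetSum_coeff]
  simp only [Polynomial.coeff_C_mul_X_pow]
  rw [Finset.sum_eq_zero, zero_add, Finset.sum_eq_single j, if_pos rfl]
  · intro j' _ hj'
    rw [if_neg]
    intro h
    apply hj'
    apply Fin.ext
    have := j.2
    have := j'.2
    omega
  · intro h; exact absurd (Finset.mem_univ j) h
  · intro i _
    have := j.2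
    rw [if_neg (by omega)]

lemma aeval_cs (hπ : ∀ i, π i ≠ 0) (D : ℕ) (g : Fin D ⊕ Fin D → ℤ) (k : ι) :
    Polynomial.aeval (π k) (cs q D g) = π k ^ D * phi π q (∑ s, g s • mon D s) k := by
  rw [Fintype.sum_sum_type, map_add, Pi.add_apply, map_sum, map_sum, Finset.sum_apply,
    Finset.sum_apply, mul_add, Finset.mul_sum, Finset.mul_sum, cs, map_add, map_sum, map_sum]
  congr 1
  · refine Finset.sum_congr rfl fun i _ => ?_
    rw [map_smul, Pi.smul_apply]
    show _ = π k ^ D * (g (Sum.inl i) • phi π q (X 0 ^ (i : ℕ)) k)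
    rw [phi_X0_pow, map_mul, Polynomial.aeval_C, map_pow, Polynomial.aeval_X, zsmul_eq_mul,
      pow_add, eq_intCast]
    ring
  · refine Finset.sum_congr rfl fun j _ => ?_
    rw [map_smul, Pi.smul_apply]
    show _ = π k ^ D * (g (Sum.inr j) • phi π q (X 1 ^ ((j : ℕ) + 1)) k)
    rw [phi_X1_pow, map_mul, Polynomial.aeval_C, map_pow, Polynomial.aeval_X, zsmul_eq_mul,
      eq_intCast, div_pow]
    have hj := j.2
    have e : π k ^ D = π k ^ (D - 1 - (j : ℕ)) * π k ^ ((j : ℕ) + 1) := by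
      rw [← pow_add]; congr 1; omega
    rw [e]
    have h0 : π k ^ ((j : ℕ) + 1) ≠ 0 := pow_ne_zero _ (hπ k)
    push_cast
    field_simp

lemma phi_aeval_X0 (P : Polynomial ℤ) (k : ι) :
    phi π q (Polynomial.aeval (X 0 : A) P) k = Polynomial.aeval (π k) P := by
  rw [phi_apply, ← Polynomial.aeval_algHom_apply]; simp

lemma phi_rel (hπ : ∀ i, π i ≠ 0) : phi π q (rel q) = 0 := by
  funext k
  rw [phi_apply]
  simp only [rel, map_sub, map_mul, aeval_X, aeval_C, Matrix.cons_val_zero, Matrix.cons_val_one,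
    Pi.zero_apply]
  rw [mul_div_cancel₀ _ (hπ k)]
  simp


theorem coeff_eq_zero_of_phi_eq_zero (hπ : ∀ i, π i ≠ 0) (hq : q ≠ 0)
    (hint : ∀ i, IsIntegral ℤ (π i))
    (hinj : ∀ i j, minpoly ℤ (π i) = minpoly ℤ (π j) → i = j)
    (D : ℕ) (hD : ∑ i, (minpoly ℤ (π i)).natDegree = 2 * D)
    (g : Fin D ⊕ Fin D → ℤ) (hg : phi π q (∑ s, g s • mon D s) = 0) : g = 0 := by
  have h1 : ∀ k, Polynomial.aeval (π k) (cs q D g) = 0 := by
    intro k; rw [aeval_cs π q hπ, hg]; simp
  have h2 : Pw π ∣ cs q D g := Pw_dvd π hint hinj _ h1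
  have h3 : cs q D g = 0 := by
    apply Polynomial.eq_zero_of_dvd_of_degree_lt h2
    rw [Polynomial.degree_eq_natDegree (Pw_monic π hint).ne_zero, Pw_natDegree π hint, hD]
    exact cs_degree_lt q D g
  funext s
  rcases s with i | j
  · rw [← cs_coeff_inl q D g i, h3]; simp
  · have := cs_coeff_inr q D g j
    rw [h3, Polynomial.coeff_zero] at this
    rcases mul_eq_zero.mp this.symm with h | h
    · exact h
    · exact absurd h (pow_ne_zero _ hq)

lemma J_le_ker_phi (hπ : ∀ i, π i ≠ 0) : J q ≤ RingHom.ker (phi π q) := by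
  rw [J, Ideal.span_le, Set.singleton_subset_iff]
  exact phi_rel π q hπ

theorem ker_phi (hπ : ∀ i, π i ≠ 0) (hq : q ≠ 0)
    (hint : ∀ i, IsIntegral ℤ (π i))
    (hinj : ∀ i j, minpoly ℤ (π i) = minpoly ℤ (π j) → i = j)
    (D : ℕ) (hD : ∑ i, (minpoly ℤ (π i)).natDegree = 2 * D)
    (hP0 : (Pw π).coeff 0 = q ^ D ∨ (Pw π).coeff 0 = -q ^ D) (h : A)
    (hh : X 0 ^ D * h - Polynomial.aeval (X 0 : A) (Pw π) ∈ J q) :
    RingHom.ker (phi π q) = Iqh q h := by
  apply le_antisymm
  · intro g hg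
    have hG : g ∈ G q h D := by
      rw [G_eq_top_of_shape q hq D (Pw π) (Pw_monic π hint) (by rw [Pw_natDegree π hint, hD]) hP0 h hh]
      trivial
    obtain ⟨i, hi, m, hm, rfl⟩ := Submodule.mem_sup.mp hG
    obtain ⟨c, rfl⟩ := (Submodule.mem_span_range_iff_exists_fun ℤ).mp hm
    have hi' : phi π q i = 0 := by
      have : Iqh q h ≤ RingHom.ker (phi π q) := by
        rw [Iqh, Ideal.span_le]
        rintro x (rfl | rfl)
        · exact phi_rel π q hπ
        · show phi π q x = 0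
          funext k
          have h1 := J_le_ker_phi π q hπ hh
          rw [RingHom.mem_ker, map_sub, sub_eq_zero] at h1
          have h2 := congrFun h1 k
          rw [map_mul, Pi.mul_apply, phi_X0_pow, phi_aeval_X0, aeval_Pw] at h2
          rcases mul_eq_zero.mp h2 with h3 | h3
          · exact absurd h3 (pow_ne_zero _ (hπ k))
          · exact h3
      exact this hi
    have hm0 : phi π q (∑ s, c s • mon D s) = 0 := by
      have := RingHom.mem_ker.mp hg
      rwa [map_add, hi', zero_add] at this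
    have hc := coeff_eq_zero_of_phi_eq_zero π q hπ hq hint hinj D hD c hm0
    have : ∑ s, c s • mon D s = 0 := by
      rw [hc]; simp
    rw [this, add_zero]
    exact hi
  · rw [Iqh, Ideal.span_le]
    rintro x (rfl | rfl)
    · exact phi_rel π q hπ
    · show phi π q x = 0
      funext k
      have h1 := J_le_ker_phi π q hπ hh
      rw [RingHom.mem_ker, map_sub, sub_eq_zero] at h1
      have h2 := congrFun h1 k
      rw [map_mul, Pi.mul_apply, phi_X0_pow, phi_aeval_X0, aeval_Pw] at h2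
      rcases mul_eq_zero.mp h2 with h3 | h3
      · exact absurd h3 (pow_ne_zero _ (hπ k))
      · exact h3

lemma pi_ne_zero (hP0 : (Pw π).coeff 0 ≠ 0) (k : ι) : π k ≠ 0 := by
  intro h0
  have h1 := aeval_Pw π k
  rw [h0, ← Polynomial.coeff_zero_eq_aeval_zero', eq_intCast, Int.cast_eq_zero] at h1
  exact hP0 h1

lemma Pw_coeff_zero_sq (Q : ℝ) (hQ : 0 ≤ Q) (hint : ∀ i, IsIntegral ℤ (π i))
    (hweil : ∀ i, ∀ z ∈ (minpoly ℤ (π i)).aroots ℂ, ‖z‖ = Real.sqrt Q)
    (D : ℕ) (hD : ∑ i, (minpoly ℤ (π i)).natDegree = 2 * D) :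
    (((Pw π).coeff 0 : ℤ) : ℝ) ^ 2 = (Q ^ D) ^ 2 := by
  set Pc := (Pw π).map (algebraMap ℤ ℂ) with hPc
  have hPcm : Pc.Monic := (Pw_monic π hint).map _
  have hdeg : Pc.natDegree = 2 * D := by
    rw [hPc, (Pw_monic π hint).natDegree_map, Pw_natDegree π hint, hD]
  have hroots : ∀ z ∈ Pc.roots, ‖z‖ = Real.sqrt Q := by
    intro z hz
    rw [Polynomial.mem_roots hPcm.ne_zero, Polynomial.IsRoot.def, hPc, Pw, Polynomial.map_prod,
      Polynomial.eval_prod, Finset.prod_eq_zero_iff] at hz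
    obtain ⟨i, -, hi⟩ := hz
    apply hweil i z
    rw [Polynomial.aroots_def, Polynomial.mem_roots ((minpoly.monic (hint i)).map _).ne_zero]
    exact hi
  have h1 := (IsAlgClosed.splits Pc).coeff_zero_eq_prod_roots_of_monic hPcm
  have h2 : ‖Pc.coeff 0‖ = Q ^ D := by
    rw [h1, norm_mul, norm_pow, norm_neg, norm_one, one_pow, one_mul,
      norm_multiset_prod_eq _ _ hroots, IsAlgClosed.card_roots_eq_natDegree, hdeg,
      pow_mul, Real.sq_sqrt hQ]
  rw [hPc, Polynomial.coeff_map, eq_intCast, Complex.norm_intCast] at h2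
  rw [← h2, sq_abs]

lemma Pw_coeff_zero (hq : 0 ≤ q) (hint : ∀ i, IsIntegral ℤ (π i))
    (hweil : ∀ i, ∀ z ∈ (minpoly ℤ (π i)).aroots ℂ, ‖z‖ = Real.sqrt (q : ℝ))
    (D : ℕ) (hD : ∑ i, (minpoly ℤ (π i)).natDegree = 2 * D) :
    (Pw π).coeff 0 = q ^ D ∨ (Pw π).coeff 0 = -q ^ D := by
  have h := Pw_coeff_zero_sq π (q : ℝ) (by exact_mod_cast hq) hint hweil D hD
  have h' : ((Pw π).coeff 0) ^ 2 = (q ^ D) ^ 2 := by exact_mod_cast h
  exact sq_eq_sq_iff_eq_or_eq_neg.mp h'

end
end Groth.Agent.R2.H78.WeilNumB
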