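import Groth.Agent.R2.H78WeilNumB
import Groth.Agent.S17983

/-!
# Functional equation of `P_w` and existence of `h` (helper78)
-/

set_option autoImplicit false
set_option linter.unusedSectionVars false
universe u
namespace Groth.Agent.R2.H78.WeilNumC
open MvPolynomial Groth.Agent.R2.H78.WeilNumA Groth.Agent.R2.H78.WeilNumB
open Groth.Agent.S17983.Aux.WN
open ComplexConjugate

lemma pow_sub_pow_mem_J (q : ℤ) (n : ℕ) : ((X 0 : A) * X 1) ^ n - (C q) ^ n ∈ J q := by
  rw [J, Ideal.mem_span_singleton, rel]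
  exact sub_dvd_pow_sub_pow _ _ n

/-- Existence of `h` from the functional equation. -/
theorem exists_h (q : ℤ) (D : ℕ) (P : Polynomial ℤ) (hdeg : P.natDegree = 2 * D) (ε : ℤ)
    (hfe : ∀ n, n < D → P.coeff n = ε * q ^ (D - n) * P.coeff (2 * D - n)) :
    ∃ h : A, X 0 ^ D * h - Polynomial.aeval (X 0 : A) P ∈ J q := by
  refine ⟨∑ k ∈ Finset.range (D + 1), P.coeff (D + k) • (X 0 : A) ^ k +
    ∑ n ∈ Finset.range D, (ε * P.coeff (2 * D - n)) • (X 1 : A) ^ (D - n), ?_⟩
  have h1 : Polynomial.aeval (X 0 : A) P =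
      ∑ n ∈ Finset.range D, P.coeff n • (X 0 : A) ^ n +
      ∑ k ∈ Finset.range (D + 1), P.coeff (D + k) • (X 0 : A) ^ (D + k) := by
    rw [Polynomial.aeval_eq_sum_range' (n := D + (D + 1)) (by omega), Finset.sum_range_add]
  have h2 : X 0 ^ D * (∑ k ∈ Finset.range (D + 1), P.coeff (D + k) • (X 0 : A) ^ k +
      ∑ n ∈ Finset.range D, (ε * P.coeff (2 * D - n)) • (X 1 : A) ^ (D - n)) -
      Polynomial.aeval (X 0 : A) P =
      ∑ n ∈ Finset.range D, ((ε * P.coeff (2 * D - n)) • (X 0 : A) ^ n) *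
        (((X 0 : A) * X 1) ^ (D - n) - (C q) ^ (D - n)) := by
    rw [h1, mul_add, Finset.mul_sum, Finset.mul_sum]
    have e1 : ∀ k ∈ Finset.range (D + 1), (X 0 : A) ^ D * (P.coeff (D + k) • (X 0 : A) ^ k) =
        P.coeff (D + k) • (X 0 : A) ^ (D + k) := by
      intro k _
      rw [mul_smul_comm, pow_add]
    rw [Finset.sum_congr rfl e1]
    have e2 : ∀ n ∈ Finset.range D, (X 0 : A) ^ D * ((ε * P.coeff (2 * D - n)) • (X 1 : A) ^ (D - n)) -
        P.coeff n • (X 0 : A) ^ n = ((ε * P.coeff (2 * D - n)) • (X 0 : A) ^ n) *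
        (((X 0 : A) * X 1) ^ (D - n) - (C q) ^ (D - n)) := by
      intro n hn
      have hn' : n < D := Finset.mem_range.mp hn
      have e3 : (X 0 : A) ^ D = X 0 ^ n * X 0 ^ (D - n) := by
        rw [← pow_add]; congr 1; omega
      rw [hfe n hn', e3, mul_pow]
      simp only [Algebra.smul_def, MvPolynomial.algebraMap_eq, map_mul, map_pow]
      ring
    rw [← Finset.sum_congr rfl e2, Finset.sum_sub_distrib]
    ring
  rw [h2]
  exact Ideal.sum_mem _ fun n _ => Ideal.mul_mem_left _ _ (pow_sub_pow_mem_J q _)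

section
variable {ι : Type} [Fintype ι] {K : ι → Type u} [∀ i, Field (K i)] [∀ i, CharZero (K i)]
  (π : ∀ i, K i) (q : ℤ)

/-- every minimal polynomial has a complex root, with the same minimal polynomial -/
lemma exists_complex_root (hint : ∀ i, IsIntegral ℤ (π i)) (i : ι) :
    ∃ z : ℂ, z ∈ (minpoly ℤ (π i)).aroots ℂ ∧ IsIntegral ℤ z ∧ minpoly ℤ z = minpoly ℤ (π i) := by
  have hm := minpoly.monic (hint i)
  have hdeg : ((minpoly ℤ (π i)).map (algebraMap ℤ ℂ)).degree ≠ 0 := by
    rw [Polynomial.degree_map_eq_of_injective (RingHom.injective_int (algebraMap ℤ ℂ))]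
    exact (minpoly.degree_pos (hint i)).ne'
  obtain ⟨z, hz⟩ := IsAlgClosed.exists_root _ hdeg
  have hz' : Polynomial.aeval z (minpoly ℤ (π i)) = 0 := by
    rwa [Polynomial.aeval_def, Polynomial.eval₂_eq_eval_map]
  have hzint : IsIntegral ℤ z := ⟨minpoly ℤ (π i), hm, hz'⟩
  refine ⟨z, ?_, hzint, ?_⟩
  · rw [Polynomial.mem_aroots]
    exact ⟨hm.ne_zero, hz'⟩
  · have hdvd := minpoly.isIntegrallyClosed_dvd hzint hz'
    have h1 : Irreducible (minpoly ℤ z) := (minpoly.prime_of_isIntegrallyClosed hzint).irreducible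
    have h2 : Irreducible (minpoly ℤ (π i)) :=
      (minpoly.prime_of_isIntegrallyClosed (hint i)).irreducible
    exact Polynomial.eq_of_monic_of_associated (minpoly.monic hzint) hm
      (h1.associated_of_dvd h2 hdvd)

/-- The functional equation of the Weil polynomial `P_w`. -/
theorem star_Pw (hq : 0 ≤ q) (hint : ∀ i, IsIntegral ℤ (π i))
    (hweil : ∀ i, ∀ z ∈ (minpoly ℤ (π i)).aroots ℂ, ‖z‖ = Real.sqrt (q : ℝ))
    (hinj : ∀ i j, minpoly ℤ (π i) = minpoly ℤ (π j) → i = j) :
    star (Pw π) q = Polynomial.C ((Pw π).coeff 0) * Pw π := by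
  classical
  choose z hz1 hz2 hz3 using exists_complex_root π hint
  have hPw : Pw z = Pw π := by
    rw [Pw, Pw]
    exact Finset.prod_congr rfl fun i _ => hz3 i
  have hinj' : ∀ i j, minpoly ℤ (z i) = minpoly ℤ (z j) → i = j := by
    intro i j hij
    rw [hz3, hz3] at hij
    exact hinj i j hij
  set P := Pw π with hP
  have hPm : P.Monic := Pw_monic π hint
  by_contra hne
  have hD : star P q - Polynomial.C (P.coeff 0) * P ≠ 0 := sub_ne_zero.mpr hne
  have hdegD : (star P q - Polynomial.C (P.coeff 0) * P).natDegree < P.natDegree := by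
    rw [Polynomial.natDegree_lt_iff_degree_lt hD, Polynomial.degree_lt_iff_coeff_zero]
    intro m hm
    rw [Polynomial.coeff_sub, coeff_star, Polynomial.coeff_C_mul]
    rcases Nat.lt_or_ge P.natDegree m with h | h
    · rw [if_neg (by omega), Polynomial.coeff_eq_zero_of_natDegree_lt h]; simp
    · have : m = P.natDegree := le_antisymm h hm
      subst this
      rw [if_pos le_rfl, Nat.sub_self, pow_zero, mul_one, hPm.coeff_natDegree, mul_one, sub_self]
  have hdvd : Pw z ∣ star P q - Polynomial.C (P.coeff 0) * P := by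
    apply Pw_dvd z hz2 hinj'
    intro k
    have hzk : ‖z k‖ = Real.sqrt (q : ℝ) := hweil k _ (hz1 k)
    have hwz : z k * conj (z k) = (q : ℂ) := by
      rw [Complex.mul_conj, Complex.normSq_eq_norm_sq, hzk, Real.sq_sqrt (by exact_mod_cast hq)]
      push_cast; rfl
    have hroot : (P.map (algebraMap ℤ ℂ)).eval (z k) = 0 := by
      rw [← Polynomial.eval₂_eq_eval_map, ← Polynomial.aeval_def, ← hPw]
      exact aeval_Pw z k
    rw [Polynomial.aeval_def, Polynomial.eval₂_eq_eval_map, Polynomial.map_sub, Polynomial.eval_sub,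
      eval_star P hPm q (z k) (conj (z k)) hwz, Polynomial.map_mul, Polynomial.eval_mul, hroot,
      eval_conj, hroot]
    simp
  rw [hPw] at hdvd
  exact hD (Polynomial.eq_zero_of_dvd_of_natDegree_lt hdvd hdegD)


/-- Existence of `h` for a family of Weil numbers of even total degree. -/
theorem exists_h_Pw (hq : 0 < q) (hint : ∀ i, IsIntegral ℤ (π i))
    (hweil : ∀ i, ∀ z ∈ (minpoly ℤ (π i)).aroots ℂ, ‖z‖ = Real.sqrt (q : ℝ))
    (hinj : ∀ i j, minpoly ℤ (π i) = minpoly ℤ (π j) → i = j)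
    (D : ℕ) (hD : ∑ i, (minpoly ℤ (π i)).natDegree = 2 * D) :
    ∃ h : A, X 0 ^ D * h - Polynomial.aeval (X 0 : A) (Pw π) ∈ J q := by
  have hdeg : (Pw π).natDegree = 2 * D := by rw [Pw_natDegree π hint, hD]
  have hstar := star_Pw π q hq.le hint hweil hinj
  have hq' : ∀ k : ℕ, q ^ k ≠ 0 := fun k => pow_ne_zero _ hq.ne'
  have hfe : ∀ ε : ℤ, (Pw π).coeff 0 = ε * q ^ D →
      ∀ n, n < D → (Pw π).coeff n = ε * q ^ (D - n) * (Pw π).coeff (2 * D - n) := by
    intro ε hε n hn
    have h1 := congrArg (fun f => f.coeff (2 * D - n)) hstar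
    simp only [coeff_star, hdeg, if_pos (Nat.sub_le _ _), Polynomial.coeff_C_mul] at h1
    have e : 2 * D - (2 * D - n) = n := by omega
    rw [e, hε] at h1
    have e2 : q ^ D = q ^ (D - n) * q ^ n := by
      rw [← pow_add]; congr 1; omega
    rw [e2] at h1
    apply mul_right_cancel₀ (hq' n)
    rw [h1]; ring
  rcases Pw_coeff_zero π q hq.le hint hweil D hD with h0 | h0
  · exact exists_h q D (Pw π) hdeg 1 (hfe 1 (by rw [h0, one_mul]))
  · exact exists_h q D (Pw π) hdeg (-1) (hfe (-1) (by rw [h0]; ring))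

end
end Groth.Agent.R2.H78.WeilNumC
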