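import Groth.Agent.R2.H78WeilNumC
import Groth.Agent.Lib.Helper5GorRing
import Groth.Agent.Lib.Helper5IntDim

/-!
# Structure of the minimal central order (helper78)

Free of rank `2D`, Krull dimension one, Gorenstein (complete intersection in `ℤ[F,V]`).
-/

set_option autoImplicit false
set_option linter.unusedSectionVars false
universe u
namespace Groth.Agent.R2.H78.WeilNumD
open MvPolynomial Groth.Agent.R2.H78.WeilNumA Groth.Agent.R2.H78.WeilNumB
open LocCoh Groth.Agent.Lib.Helper5.GorRing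

/-- A quotient of a Gorenstein ring by a regular sequence of length two is Gorenstein. -/
theorem gor_of_surj {B S : Type u} [CommRing B] [CommRing S] [IsGorensteinRing B] (f : B →+* S)
    (hf : Function.Surjective f) (b₁ b₂ : B) (hker : RingHom.ker f = Ideal.span {b₁, b₂})
    (h1 : IsSMulRegular B b₁) (h2 : ∀ x, b₂ * x ∈ Ideal.span {b₁} → x ∈ Ideal.span {b₁}) :
    IsGorensteinRing S := by
  have G1 : IsGorensteinRing (B ⧸ Ideal.span {b₁}) := gorRing_quotient_of_regular b₁ h1
  have h2' : IsSMulRegular (B ⧸ Ideal.span {b₁}) (Ideal.Quotient.mk (Ideal.span {b₁}) b₂) := by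
    rw [isSMulRegular_iff_right_eq_zero_of_smul]
    intro x hx
    obtain ⟨y, rfl⟩ := Ideal.Quotient.mk_surjective x
    rw [smul_eq_mul, ← map_mul, Ideal.Quotient.eq_zero_iff_mem] at hx
    exact Ideal.Quotient.eq_zero_iff_mem.mpr (h2 y hx)
  have G2 : IsGorensteinRing ((B ⧸ Ideal.span {b₁}) ⧸
      Ideal.span {Ideal.Quotient.mk (Ideal.span {b₁}) b₂}) :=
    gorRing_quotient_of_regular _ h2'
  have e0 : Ideal.span {Ideal.Quotient.mk (Ideal.span {b₁}) b₂} =
      (Ideal.span {b₂}).map (Ideal.Quotient.mk (Ideal.span {b₁})) := by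
    rw [Ideal.map_span, Set.image_singleton]
  have e2 : Ideal.span {b₁} ⊔ Ideal.span {b₂} = RingHom.ker f := by
    rw [hker, ← Ideal.span_union, Set.singleton_union]
  exact gorRing_of_ringEquiv
    ((((Ideal.quotEquivOfEq e0).trans
      (DoubleQuot.quotQuotEquivQuotSup (Ideal.span {b₁}) (Ideal.span {b₂}))).trans
      (Ideal.quotEquivOfEq e2)).trans (RingHom.quotientKerEquivOfSurjective hf))


section
variable {ι : Type} [Fintype ι] {K : ι → Type u} [∀ i, Field (K i)] [∀ i, CharZero (K i)]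
  (π : ∀ i, K i) (q : ℤ)

/-- The images of the `2D` monomials in the minimal central order. -/
noncomputable def bvec (D : ℕ) (s : Fin D ⊕ Fin D) : (phi π q).range :=
  ⟨phi π q (mon D s), AlgHom.mem_range_self _ _⟩

theorem bvec_linearIndependent (hπ : ∀ i, π i ≠ 0) (hq : q ≠ 0)
    (hint : ∀ i, IsIntegral ℤ (π i))
    (hinj : ∀ i j, minpoly ℤ (π i) = minpoly ℤ (π j) → i = j)
    (D : ℕ) (hD : ∑ i, (minpoly ℤ (π i)).natDegree = 2 * D) :
    LinearIndependent ℤ (bvec π q D) := by
  rw [Fintype.linearIndependent_iff]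
  intro g hg
  have h1 : phi π q (∑ s, g s • mon D s) = 0 := by
    have := congrArg Subtype.val hg
    rw [map_sum]
    simp only [map_smul]
    simpa [bvec] using this
  have := coeff_eq_zero_of_phi_eq_zero π q hπ hq hint hinj D hD g h1
  intro s
  rw [this]; rfl

theorem bvec_span (hq : q ≠ 0)
    (hint : ∀ i, IsIntegral ℤ (π i))
    (D : ℕ) (hD : ∑ i, (minpoly ℤ (π i)).natDegree = 2 * D)
    (hP0 : (Pw π).coeff 0 = q ^ D ∨ (Pw π).coeff 0 = -q ^ D) (h : A)
    (hh : X 0 ^ D * h - Polynomial.aeval (X 0 : A) (Pw π) ∈ J q)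
    (hker : RingHom.ker (phi π q) = Iqh q h) :
    ⊤ ≤ Submodule.span ℤ (Set.range (bvec π q D)) := by
  rintro ⟨x, g, rfl⟩ -
  have hG : g ∈ G q h D := by
    rw [G_eq_top_of_shape q hq D (Pw π) (Pw_monic π hint) (by rw [Pw_natDegree π hint, hD]) hP0 h hh]
    trivial
  obtain ⟨i, hi, m, hm, rfl⟩ := Submodule.mem_sup.mp hG
  obtain ⟨c, rfl⟩ := (Submodule.mem_span_range_iff_exists_fun ℤ).mp hm
  have hi' : phi π q i = 0 := by
    have : i ∈ RingHom.ker (phi π q) := by rw [hker]; exact hi
    exact this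
  have : (⟨(phi π q).toRingHom (i + ∑ s, c s • mon D s), ⟨i + ∑ s, c s • mon D s, rfl⟩⟩ :
      (phi π q).range) = ∑ s, c s • bvec π q D s := by
    apply Subtype.ext
    show phi π q (i + ∑ s, c s • mon D s) = _
    rw [map_add, hi', zero_add, map_sum]
    simp [bvec]
  rw [this]
  exact Submodule.sum_mem _ fun s _ => Submodule.smul_mem _ _ (Submodule.subset_span ⟨s, rfl⟩)


/-- The 2D monomials give a `ℤ`-basis of the minimal central order. -/
noncomputable def basis (hπ : ∀ i, π i ≠ 0) (hq : q ≠ 0)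
    (hint : ∀ i, IsIntegral ℤ (π i))
    (hinj : ∀ i j, minpoly ℤ (π i) = minpoly ℤ (π j) → i = j)
    (D : ℕ) (hD : ∑ i, (minpoly ℤ (π i)).natDegree = 2 * D)
    (hP0 : (Pw π).coeff 0 = q ^ D ∨ (Pw π).coeff 0 = -q ^ D) (h : A)
    (hh : X 0 ^ D * h - Polynomial.aeval (X 0 : A) (Pw π) ∈ J q) :
    Module.Basis (Fin D ⊕ Fin D) ℤ (phi π q).range :=
  Module.Basis.mk (bvec_linearIndependent π q hπ hq hint hinj D hD)
    (bvec_span π q hq hint D hD hP0 h hh (ker_phi π q hπ hq hint hinj D hD hP0 h hh))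

theorem algebraMap_injective [Nonempty ι] :
    Function.Injective (algebraMap ℤ (phi π q).range) := by
  intro m n hmn
  obtain ⟨k⟩ := ‹Nonempty ι›
  have h1 := congrArg (fun x : (phi π q).range => (x : (i : ι) → K i) k) hmn
  simpa using h1

theorem gorenstein (hq : q ≠ 0) (h : A) (hh : rho q h ≠ 0)
    (hker : RingHom.ker (phi π q) = Iqh q h) :
    LocCoh.IsGorensteinRing (phi π q).range := by
  have : IsRegularRing (ULift.{u} A) :=
    IsRegularRing.of_ringEquiv (ULift.ringEquiv (R := A)).symm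
  have : IsGorensteinRing (ULift.{u} A) := gorRing_of_isRegularRing _
  let f : ULift.{u} A →+* (phi π q).range :=
    ((phi π q).rangeRestrict : A →+* (phi π q).range).comp
      (ULift.ringEquiv (R := A) : ULift.{u} A →+* A)
  have hf : Function.Surjective f := by
    intro y
    obtain ⟨x, hx⟩ := (phi π q).rangeRestrict_surjective y
    exact ⟨ULift.up x, hx⟩
  refine gor_of_surj f hf (ULift.up (rel q)) (ULift.up h) ?_ ?_ ?_
  · ext x
    rw [RingHom.mem_ker, Ideal.mem_span_pair]
    have e1 : f x = 0 ↔ x.down ∈ RingHom.ker (phi π q) := by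
      rw [RingHom.mem_ker]
      constructor
      · intro hx
        exact congrArg Subtype.val hx
      · intro hx
        exact Subtype.ext hx
    rw [e1, hker, Iqh, Ideal.mem_span_pair]
    constructor
    · rintro ⟨a, b, hab⟩
      exact ⟨ULift.up a, ULift.up b, ULift.ext _ _ hab⟩
    · rintro ⟨a, b, hab⟩
      exact ⟨a.down, b.down, congrArg ULift.down hab⟩
  · rw [isSMulRegular_iff_right_eq_zero_of_smul]
    intro x hx
    have h1 : rel q * x.down = 0 := congrArg ULift.down hx
    rcases mul_eq_zero.mp h1 with h2 | h2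
    · exact absurd h2 (rel_ne_zero q hq)
    · exact ULift.ext _ _ h2
  · intro x hx
    rw [Ideal.mem_span_singleton'] at hx ⊢
    obtain ⟨a, ha⟩ := hx
    have h1 : h * x.down ∈ J q := by
      rw [J, Ideal.mem_span_singleton']
      exact ⟨a.down, congrArg ULift.down ha⟩
    have h2 := mem_J_of_mul_mem q hq h hh x.down h1
    rw [J, Ideal.mem_span_singleton'] at h2
    obtain ⟨b, hb⟩ := h2
    exact ⟨ULift.up b, ULift.ext _ _ hb⟩

/-- The structure of the minimal central order. -/
theorem structure_thm [Nonempty ι] (hπ : ∀ i, π i ≠ 0) (hq : q ≠ 0)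
    (hint : ∀ i, IsIntegral ℤ (π i))
    (hinj : ∀ i j, minpoly ℤ (π i) = minpoly ℤ (π j) → i = j)
    (D : ℕ) (hD : ∑ i, (minpoly ℤ (π i)).natDegree = 2 * D)
    (hP0 : (Pw π).coeff 0 = q ^ D ∨ (Pw π).coeff 0 = -q ^ D) (h : A)
    (hh : X 0 ^ D * h - Polynomial.aeval (X 0 : A) (Pw π) ∈ J q) :
    Module.Free ℤ (phi π q).range ∧ Module.finrank ℤ (phi π q).range = 2 * D ∧
      ringKrullDim (phi π q).range = 1 ∧ LocCoh.IsGorensteinRing (phi π q).range := by
  have b := basis π q hπ hq hint hinj D hD hP0 h hh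
  refine ⟨Module.Free.of_basis b, ?_, ?_, ?_⟩
  · rw [Module.finrank_eq_card_basis b]
    simp only [Fintype.card_sum, Fintype.card_fin]
    ring
  · have : Module.Finite ℤ (phi π q).range := Module.Finite.of_basis b
    have : Algebra.IsIntegral ℤ (phi π q).range := Algebra.IsIntegral.of_finite ℤ _
    rw [Groth.Agent.Lib.Helper5.ringKrullDim_eq_of_isIntegral_of_injective ℤ (phi π q).range
      (algebraMap_injective π q)]
    exact IsPrincipalIdealRing.ringKrullDim_eq_one ℤ Int.not_isField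
  · exact gorenstein π q hq h
      (rho_h_ne_zero q D (Pw π) (Pw_monic π hint).ne_zero h hh)
      (ker_phi π q hπ hq hint hinj D hD hP0 h hh)

end

end Groth.Agent.R2.H78.WeilNumD
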