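import Groth.Agent.R2.H78WeilNumC

/-!
# Modules over the minimal central order (helper78)

An `R_w`-module structure on a free f.g. `ℤ`-module `T` with `F` acting as `F_T` exists iff
`P_w(F_T) = 0` and `F_T ∘ V_T = q` for some `V_T`.
-/
set_option autoImplicit false
set_option linter.unusedSectionVars false
universe u
namespace Groth.Agent.R2.H78.WeilNumE
open MvPolynomial Groth.Agent.R2.H78.WeilNumA Groth.Agent.R2.H78.WeilNumB
open scoped IsMulCommutative

section
variable {ι : Type} [Fintype ι] {K : ι → Type u} [∀ i, Field (K i)] [∀ i, CharZero (K i)]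
  (π : ∀ i, K i) (q : ℤ)

lemma Iqh_le_ker_phi (hπ : ∀ i, π i ≠ 0) (D : ℕ) (h : A)
    (hh : X 0 ^ D * h - Polynomial.aeval (X 0 : A) (Pw π) ∈ J q) :
    Iqh q h ≤ RingHom.ker (phi π q) := by
  rw [Iqh, Ideal.span_le]
  rintro x (rfl | rfl)
  · exact phi_rel π q hπ
  · show phi π q x = 0
    funext k
    have h1 := J_le_ker_phi π q hπ hh
    rw [RingHom.mem_ker, map_sub, sub_eq_zero] at h1
    have h2 := congrFun h1 k
    rw [map_mul, Pi.mul_apply, phi_X0_pow, phi_aeval_X0, aeval_Pw] at h2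
    rcases mul_eq_zero.mp h2 with h3 | h3
    · exact absurd h3 (pow_ne_zero _ (hπ k))
    · exact h3

/-- forward direction -/
theorem module_forward (hπ : ∀ i, π i ≠ 0)
    (T : Type) [AddCommGroup T] (FT : T →ₗ[ℤ] T)
    (inst : Module (phi π q).range T)
    (hF : ∀ t : T, (⟨phi π q (X 0), AlgHom.mem_range_self _ _⟩ : (phi π q).range) • t = FT t) :
    Polynomial.aeval FT (Pw π) = 0 ∧ ∃ VT : T →ₗ[ℤ] T, FT ∘ₗ VT = q • LinearMap.id := by
  set Fb : (phi π q).range := ⟨phi π q (X 0), AlgHom.mem_range_self _ _⟩ with hFb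
  set Vb : (phi π q).range := ⟨phi π q (X 1), AlgHom.mem_range_self _ _⟩ with hVb
  have hFV : Fb * Vb = (q : (phi π q).range) := by
    apply Subtype.ext
    have h1 := phi_rel π q hπ
    rw [rel, map_sub, sub_eq_zero, map_mul] at h1
    show phi π q (X 0) * phi π q (X 1) = _
    rw [h1]
    simp
  have hpow : ∀ (n : ℕ) (t : T), (FT ^ n) t = Fb ^ n • t := by
    intro n
    induction n with
    | zero => intro t; simp
    | succ n ih =>
      intro t
      rw [pow_succ, Module.End.mul_apply, ih, ← hF, pow_succ, mul_smul]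
  have key : ∀ (P : Polynomial ℤ) (t : T), (Polynomial.aeval FT P) t = (Polynomial.aeval Fb P) • t := by
    intro P t
    induction P using Polynomial.induction_on' with
    | add p q hp hq => rw [map_add, map_add, LinearMap.add_apply, add_smul, hp, hq]
    | monomial n a =>
      rw [Polynomial.aeval_monomial, Polynomial.aeval_monomial, Module.End.mul_apply,
        Module.algebraMap_end_apply, hpow, mul_smul, eq_intCast, Int.cast_smul_eq_zsmul]
  have hP0 : Polynomial.aeval Fb (Pw π) = 0 := by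
    apply Subtype.ext
    rw [Polynomial.aeval_subalgebra_coe]
    show Polynomial.aeval (phi π q (X 0)) (Pw π) = 0
    rw [Polynomial.aeval_algHom_apply]
    funext k
    rw [phi_aeval_X0, aeval_Pw]; rfl
  constructor
  · apply LinearMap.ext
    intro t
    rw [key, hP0, zero_smul]; rfl
  · refine ⟨(DistribSMul.toAddMonoidHom T Vb).toIntLinearMap, ?_⟩
    apply LinearMap.ext
    intro t
    show FT (Vb • t) = q • t
    rw [← hF, ← mul_smul, hFV, Int.cast_smul_eq_zsmul]


/-- backward direction -/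
theorem module_backward (hq : q ≠ 0)
    (D : ℕ) (h : A) (hh : X 0 ^ D * h - Polynomial.aeval (X 0 : A) (Pw π) ∈ J q)
    (hker : RingHom.ker (phi π q) = Iqh q h)
    (T : Type) [AddCommGroup T] [Module.Finite ℤ T] [Module.Free ℤ T] (FT : T →ₗ[ℤ] T)
    (hP : Polynomial.aeval FT (Pw π) = 0) (VT : T →ₗ[ℤ] T) (hV : FT ∘ₗ VT = q • LinearMap.id) :
    ∃ _ : Module (phi π q).range T,
      ∀ t : T, (⟨phi π q (X 0), AlgHom.mem_range_self _ _⟩ : (phi π q).range) • t = FT t := by
  -- FT is injective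
  have hdet : LinearMap.det FT ≠ 0 := by
    intro h0
    have h1 := congrArg LinearMap.det hV
    rw [LinearMap.det_comp, h0, zero_mul, LinearMap.det_smul, LinearMap.det_id, mul_one] at h1
    exact pow_ne_zero _ hq h1.symm
  have hinjF : Function.Injective FT := by
    rw [← LinearMap.ker_eq_bot]
    by_contra hne
    exact hdet (LinearMap.det_eq_zero_iff_ker_ne_bot.mpr hne)
  have hFV : FT * VT = q • (1 : Module.End ℤ T) := hV
  have hVF : VT * FT = q • (1 : Module.End ℤ T) := by
    apply LinearMap.ext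
    intro t
    apply hinjF
    have h1 := LinearMap.congr_fun hFV (FT t)
    simp only [Module.End.mul_apply, LinearMap.smul_apply, Module.End.one_apply] at h1 ⊢
    rw [h1, map_smul]
  have hcomm : ∀ a ∈ ({FT, VT} : Set (Module.End ℤ T)), ∀ b ∈ ({FT, VT} : Set (Module.End ℤ T)),
      a * b = b * a := by
    rintro a (rfl | rfl) b (rfl | rfl)
    · rfl
    · rw [hFV, hVF]
    · rw [hFV, hVF]
    · rfl
  have := Algebra.isMulCommutative_adjoin ℤ hcomm
  let S := Algebra.adjoin ℤ ({FT, VT} : Set (Module.End ℤ T))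
  let ψ : A →ₐ[ℤ] S := MvPolynomial.aeval
    ![⟨FT, Algebra.subset_adjoin (by simp)⟩, ⟨VT, Algebra.subset_adjoin (by simp)⟩]
  let ψ' : A →+* Module.End ℤ T := (S.val : S →+* Module.End ℤ T).comp (ψ : A →+* S)
  have hψ0 : ψ' (X 0) = FT := by simp [ψ', ψ]
  have hψ1 : ψ' (X 1) = VT := by simp [ψ', ψ]
  have hψC : ∀ z : ℤ, ψ' (C z) = z • (1 : Module.End ℤ T) := by
    intro z
    simp [ψ', ψ, Algebra.smul_def]
  have hψrel : ψ' (rel q) = 0 := by
    rw [rel, map_sub, map_mul, hψ0, hψ1, hψC, hFV, sub_self]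
  have hψJ : J q ≤ RingHom.ker ψ' := by
    rw [J, Ideal.span_le, Set.singleton_subset_iff]
    exact hψrel
  have hψP : ∀ P : Polynomial ℤ, ψ' (Polynomial.aeval (X 0 : A) P) = Polynomial.aeval FT P := by
    intro P
    induction P using Polynomial.induction_on' with
    | add p q hp hq => rw [map_add, map_add, map_add, hp, hq]
    | monomial n a =>
      rw [Polynomial.aeval_monomial, Polynomial.aeval_monomial, map_mul, map_pow, hψ0,
        MvPolynomial.algebraMap_eq, hψC, Algebra.algebraMap_eq_smul_one]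
  have hψh : ψ' h = 0 := by
    have h1 := hψJ hh
    rw [RingHom.mem_ker, map_sub, sub_eq_zero, map_mul, map_pow, hψ0, hψP, hP] at h1
    apply LinearMap.ext
    intro t
    have hinjD : Function.Injective (FT ^ D) := by
      rw [Module.End.coe_pow]
      exact hinjF.iterate D
    apply hinjD
    have := LinearMap.congr_fun h1 t
    rw [Module.End.mul_apply] at this
    rw [this]; simp
  have hle : RingHom.ker ((phi π q).rangeRestrict : A →+* (phi π q).range) ≤ RingHom.ker ψ' := by
    intro x hx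
    have hx' : x ∈ RingHom.ker (phi π q) := by
      rw [RingHom.mem_ker] at hx ⊢
      exact congrArg Subtype.val hx
    rw [hker, Iqh, Ideal.mem_span_pair] at hx'
    obtain ⟨a, b, rfl⟩ := hx'
    rw [RingHom.mem_ker, map_add, map_mul, map_mul, hψrel, hψh, mul_zero, mul_zero, add_zero]
  let Θ : (phi π q).range →+* Module.End ℤ T :=
    RingHom.liftOfSurjective ((phi π q).rangeRestrict : A →+* (phi π q).range)
      (phi π q).rangeRestrict_surjective ⟨ψ', hle⟩
  have hΘ : ∀ x : A, Θ ((phi π q).rangeRestrict x) = ψ' x := by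
    intro x
    exact RingHom.liftOfRightInverse_comp_apply _ _ _ ⟨ψ', hle⟩ x
  refine ⟨Module.compHom T Θ, ?_⟩
  intro t
  show Θ ((phi π q).rangeRestrict (X 0)) t = FT t
  rw [hΘ, hψ0]


/-- `R_w`-module structures on `T` with `F` acting as `FT`. -/
theorem module_iff (f : A →ₐ[ℤ] ((i : ι) → K i)) (hf : f = phi π q)
    (hπ : ∀ i, π i ≠ 0) (hq : q ≠ 0)
    (hint : ∀ i, IsIntegral ℤ (π i))
    (hinj : ∀ i j, minpoly ℤ (π i) = minpoly ℤ (π j) → i = j)
    (D : ℕ) (hD : ∑ i, (minpoly ℤ (π i)).natDegree = 2 * D)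
    (hP0 : (Pw π).coeff 0 = q ^ D ∨ (Pw π).coeff 0 = -q ^ D) (h : A)
    (hh : X 0 ^ D * h - Polynomial.aeval (X 0 : A) (Pw π) ∈ J q)
    (T : Type) [AddCommGroup T] [Module.Finite ℤ T] [Module.Free ℤ T] (FT : T →ₗ[ℤ] T) :
    (∃ _ : Module f.range T,
      ∀ t : T, (⟨f (X 0), AlgHom.mem_range_self _ _⟩ : f.range) • t = FT t) ↔
    (Polynomial.aeval FT (Pw π) = 0 ∧ ∃ VT : T →ₗ[ℤ] T, FT ∘ₗ VT = q • LinearMap.id) := by
  subst hf
  constructor
  · rintro ⟨inst, hF⟩
    exact module_forward π q hπ T FT inst hF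
  · rintro ⟨hP, VT, hV⟩
    exact module_backward π q hq D h hh (ker_phi π q hπ hq hint hinj D hD hP0 h hh) T FT hP VT hV

end
end Groth.Agent.R2.H78.WeilNumE
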