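import Groth.Agent.R2.H78WeilNumC
import Groth.Agent.R2.H78PicSurj
import Groth.Agent.Lib.Helper5IntDim
set_option autoImplicit false
set_option linter.unusedSectionVars false
universe u
namespace Groth.Agent.R2.H78.WeilNumF
open MvPolynomial Groth.Agent.R2.H78.WeilNumA Groth.Agent.R2.H78.WeilNumB
  Groth.Agent.R2.H78.WeilNumC
open Groth.Agent.S17983.Aux.WN

lemma aeval_star {B : Type*} [CommRing B] (P : Polynomial ℤ) (q : ℤ) (w z : B)
    (hwz : w * z = (q : B)) :
    Polynomial.aeval w (star P q) = w ^ P.natDegree * Polynomial.aeval z P := by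
  unfold Groth.Agent.S17983.Aux.WN.star
  rw [map_sum, Polynomial.aeval_eq_sum_range, Finset.mul_sum]
  refine Finset.sum_congr rfl fun j hj => ?_
  rw [Finset.mem_range] at hj
  rw [Polynomial.aeval_monomial, eq_intCast, zsmul_eq_mul]
  have e : w ^ P.natDegree = w ^ j * w ^ (P.natDegree - j) := by
    rw [← pow_add]; congr 1; omega
  rw [e]
  push_cast
  rw [← hwz, mul_pow]
  ring

section
variable {ι : Type} [Fintype ι] {K : ι → Type u} [∀ i, Field (K i)] [∀ i, CharZero (K i)]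
  (π : ∀ i, K i) (q : ℤ)

lemma pi_ne_zero' (Q : ℝ) (hQ : 0 < Q)
    (hweil : ∀ i, ∀ z ∈ (minpoly ℤ (π i)).aroots ℂ, ‖z‖ = Real.sqrt Q) (k : ι) : π k ≠ 0 := by
  intro h0
  have h1 : (0 : ℂ) ∈ (minpoly ℤ (π k)).aroots ℂ := by
    have hX : minpoly ℤ (0 : K k) = Polynomial.X := by
      have := minpoly.eq_X_sub_C_of_algebraMap_inj (B := K k) (0 : ℤ)
        (RingHom.injective_int (algebraMap ℤ (K k)))
      simpa using this
    rw [Polynomial.mem_aroots, h0, hX]
    exact ⟨Polynomial.X_ne_zero, by simp⟩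
  have h2 := hweil k 0 h1
  rw [norm_zero] at h2
  exact (Real.sqrt_pos.mpr hQ).ne h2

/-- `q/π` is again a root of `P_w`. -/
lemma aeval_div_Pw (hq : 0 < q) (hint : ∀ i, IsIntegral ℤ (π i))
    (hweil : ∀ i, ∀ z ∈ (minpoly ℤ (π i)).aroots ℂ, ‖z‖ = Real.sqrt (q : ℝ))
    (hinj : ∀ i j, minpoly ℤ (π i) = minpoly ℤ (π j) → i = j) (k : ι) :
    Polynomial.aeval ((q : K k) / π k) (Pw π) = 0 := by
  have hπ : π k ≠ 0 := pi_ne_zero' π (q : ℝ) (by exact_mod_cast hq) hweil k
  have h1 := aeval_star (Pw π) q (π k) ((q : K k) / π k) (mul_div_cancel₀ _ hπ)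
  rw [star_Pw π q hq.le hint hweil hinj, map_mul, aeval_Pw, mul_zero] at h1
  rcases mul_eq_zero.mp h1.symm with h | h
  · exact absurd h (pow_ne_zero _ hπ)
  · exact h

end

lemma withBot_le_zero_of_add_one_le_one (x : WithBot ℕ∞) (h : x + 1 ≤ 1) : x ≤ 0 := by
  induction x with
  | bot => exact bot_le
  | coe a =>
    have h' : (a + 1 : ℕ∞) ≤ 1 := by exact_mod_cast h
    have : a ≤ 0 := by
      induction a with
      | top => simp at h'
      | coe n =>
        have : n + 1 ≤ 1 := by exact_mod_cast h'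
        exact_mod_cast (by omega : n ≤ 0)
    exact_mod_cast this


/-- The quotient `A / ker φ` is integral over `ℤ`. -/
lemma isIntegral_quotient_ker {ι : Type} [Fintype ι] {K : ι → Type u} [∀ i, Field (K i)]
    [∀ i, CharZero (K i)] (π : ∀ i, K i) (q : ℤ) (hq : 0 < q) (hint : ∀ i, IsIntegral ℤ (π i))
    (hweil : ∀ i, ∀ z ∈ (minpoly ℤ (π i)).aroots ℂ, ‖z‖ = Real.sqrt (q : ℝ))
    (hinj : ∀ i j, minpoly ℤ (π i) = minpoly ℤ (π j) → i = j) :
    Algebra.IsIntegral ℤ (A ⧸ RingHom.ker (phi π q)) := by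
  have hX : ∀ i : Fin 2, IsIntegral ℤ (Ideal.Quotient.mk (RingHom.ker (phi π q)) (X i)) := by
    intro i
    refine ⟨Pw π, Pw_monic π hint, ?_⟩
    rw [← Polynomial.aeval_def]
    have h1 : Polynomial.aeval (Ideal.Quotient.mk (RingHom.ker (phi π q)) (X i)) (Pw π) =
        Ideal.Quotient.mk (RingHom.ker (phi π q)) (Polynomial.aeval (X i : A) (Pw π)) := by
      rw [← Ideal.Quotient.mkₐ_eq_mk ℤ, Polynomial.aeval_algHom_apply]
    rw [h1, Ideal.Quotient.eq_zero_iff_mem, RingHom.mem_ker]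
    funext k
    rw [phi_apply, ← Polynomial.aeval_algHom_apply]
    fin_cases i
    · simpa using aeval_Pw π k
    · simpa using aeval_div_Pw π q hq hint hweil hinj k
  constructor
  intro x
  obtain ⟨g, rfl⟩ := Ideal.Quotient.mk_surjective x
  induction g using MvPolynomial.induction_on with
  | C z =>
    have : Ideal.Quotient.mk (RingHom.ker (phi π q)) (C z) =
        algebraMap ℤ (A ⧸ RingHom.ker (phi π q)) z := by
      rw [IsScalarTower.algebraMap_apply ℤ A, MvPolynomial.algebraMap_eq]; rfl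
    rw [this]
    exact isIntegral_algebraMap
  | add g₁ g₂ h₁ h₂ => rw [map_add]; exact h₁.add h₂
  | mul_X g i hg => rw [map_mul]; exact hg.mul (hX i)

section App
variable {J J' : Type} [Fintype J] [Fintype J'] (emb : J' → J)
  {K : J → Type u} [∀ j, Field (K j)] [∀ j, CharZero (K j)] (ϖ : ∀ j, K j) (q : ℤ)

open scoped Classical in
/-- The product of the minimal polynomials over the complement of the subfamily. -/
noncomputable def Pc : Polynomial ℤ :=
  ∏ j ∈ Finset.univ.filter (fun j => j ∉ Set.range emb), minpoly ℤ (ϖ j)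

lemma aeval_Pc_of_notMem {j : J} (hj : j ∉ Set.range emb) :
    Polynomial.aeval (ϖ j) (Pc emb ϖ) = 0 := by
  classical
  rw [Pc, map_prod]
  exact Finset.prod_eq_zero (Finset.mem_filter.mpr ⟨Finset.mem_univ j, hj⟩) (minpoly.aeval ℤ (ϖ j))

lemma aeval_Pc_ne_zero (hint : ∀ j, IsIntegral ℤ (ϖ j))
    (hinj : ∀ i j, minpoly ℤ (ϖ i) = minpoly ℤ (ϖ j) → i = j) (j' : J') :
    Polynomial.aeval (ϖ (emb j')) (Pc emb ϖ) ≠ 0 := by
  classical
  intro h0
  have hdvd := minpoly.isIntegrallyClosed_dvd (hint (emb j')) h0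
  have hp := minpoly.prime_of_isIntegrallyClosed (hint (emb j'))
  rw [Pc, hp.dvd_finsetProd_iff] at hdvd
  obtain ⟨j, hj, hjd⟩ := hdvd
  have h1 : Irreducible (minpoly ℤ (ϖ j)) := (minpoly.prime_of_isIntegrallyClosed (hint j)).irreducible
  have h2 := Polynomial.eq_of_monic_of_associated (minpoly.monic (hint (emb j'))) (minpoly.monic (hint j))
    (hp.irreducible.associated_of_dvd h1 hjd)
  have h3 := hinj _ _ h2
  exact (Finset.mem_filter.mp hj).2 ⟨j', h3⟩

lemma phi_comp_apply (g : A) (j' : J') :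
    phi (fun j' => ϖ (emb j')) q g j' = phi ϖ q g (emb j') := by
  rw [phi_apply, phi_apply]


/-- Surjectivity of `Pic R_w → Pic R_v` for a subfamily. -/
theorem pic_surj (hemb : Function.Injective emb) (hq : 0 < q)
    (hint : ∀ j, IsIntegral ℤ (ϖ j))
    (hweil : ∀ j, ∀ z ∈ (minpoly ℤ (ϖ j)).aroots ℂ, ‖z‖ = Real.sqrt (q : ℝ))
    (hinj : ∀ i j, minpoly ℤ (ϖ i) = minpoly ℤ (ϖ j) → i = j)
    (φw : A →ₐ[ℤ] ((j : J) → K j)) (φv : A →ₐ[ℤ] ((j' : J') → K (emb j')))
    (hw : φw = phi ϖ q) (hv : φv = phi (fun j' => ϖ (emb j')) q)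
    (hle : RingHom.ker φw ≤ RingHom.ker φv) :
    Function.Surjective (CommRing.Pic.mapRingHom (Ideal.Quotient.factor hle)) := by
  subst hw hv
  have hfs : Function.Surjective (Ideal.Quotient.factor hle) := Ideal.Quotient.factor_surjective hle
  set tA : A := Polynomial.aeval (X 0 : A) (Pc emb ϖ) with htA
  set t : A ⧸ RingHom.ker (phi ϖ q) := Ideal.Quotient.mk _ tA with ht
  have hphit : ∀ j, phi ϖ q tA j = Polynomial.aeval (ϖ j) (Pc emb ϖ) := fun j =>
    phi_aeval_X0 ϖ q _ j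
  have hft : Ideal.Quotient.factor hle t =
      Ideal.Quotient.mk (RingHom.ker (phi (fun j' => ϖ (emb j')) q)) tA :=
    Ideal.Quotient.factor_mk hle tA
  -- the intersection is trivial
  have hbb : RingHom.ker (Ideal.Quotient.factor hle) ⊓ Ideal.span {t} = ⊥ := by
    rw [eq_bot_iff]
    rintro x ⟨hx1, hx2⟩
    obtain ⟨a, rfl⟩ := Ideal.Quotient.mk_surjective x
    rw [SetLike.mem_coe, Ideal.mem_span_singleton'] at hx2
    obtain ⟨y, hy⟩ := hx2
    obtain ⟨b, rfl⟩ := Ideal.Quotient.mk_surjective y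
    have h1 : phi ϖ q (b * tA) = phi ϖ q a := by
      rw [ht, ← map_mul, Ideal.Quotient.eq, RingHom.mem_ker, map_sub, sub_eq_zero] at hy
      exact hy
    have h2 : phi (fun j' => ϖ (emb j')) q a = 0 := by
      have := RingHom.mem_ker.mp hx1
      rw [Ideal.Quotient.factor_mk, Ideal.Quotient.eq_zero_iff_mem] at this
      exact this
    rw [Ideal.mem_bot, Ideal.Quotient.eq_zero_iff_mem, RingHom.mem_ker]
    funext j
    by_cases hj : j ∈ Set.range emb
    · obtain ⟨j', rfl⟩ := hj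
      rw [← phi_comp_apply]
      exact congrFun h2 j'
    · rw [← h1, map_mul, Pi.mul_apply, hphit, aeval_Pc_of_notMem emb ϖ hj, mul_zero]
      rfl
  -- semilocality
  have hmap : (Ideal.span {t}).map (Ideal.Quotient.factor hle) =
      Ideal.span {Ideal.Quotient.factor hle t} := by
    rw [Ideal.map_span, Set.image_singleton]
  have hnzd : Ideal.Quotient.factor hle t ∈
      nonZeroDivisors (A ⧸ RingHom.ker (phi (fun j' => ϖ (emb j')) q)) := by
    rw [mem_nonZeroDivisors_iff_right]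
    intro y hy
    obtain ⟨b, rfl⟩ := Ideal.Quotient.mk_surjective y
    rw [hft, ← map_mul, Ideal.Quotient.eq_zero_iff_mem, RingHom.mem_ker] at hy
    rw [Ideal.Quotient.eq_zero_iff_mem, RingHom.mem_ker]
    funext j'
    have h1 := congrFun hy j'
    rw [map_mul, Pi.mul_apply, phi_comp_apply emb ϖ q tA, hphit] at h1
    exact (mul_eq_zero.mp h1).resolve_right (aeval_Pc_ne_zero emb ϖ hint hinj j')
  have hintS : Algebra.IsIntegral ℤ (A ⧸ RingHom.ker (phi (fun j' => ϖ (emb j')) q)) :=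
    isIntegral_quotient_ker (fun j' => ϖ (emb j')) q hq (fun j' => hint _) (fun j' => hweil _)
      (fun a b hab => hemb (hinj _ _ hab))
  have hdim : ringKrullDim (A ⧸ RingHom.ker (phi (fun j' => ϖ (emb j')) q)) ≤ 1 := by
    refine (Groth.Agent.Lib.Helper5.ringKrullDim_le_of_isIntegral ℤ _).trans ?_
    rw [IsPrincipalIdealRing.ringKrullDim_eq_one ℤ Int.not_isField]
  have hdim0 : Ring.KrullDimLE 0 ((A ⧸ RingHom.ker (phi (fun j' => ϖ (emb j')) q)) ⧸
      Ideal.span {Ideal.Quotient.factor hle t}) := by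
    rw [Ring.krullDimLE_iff]
    exact withBot_le_zero_of_add_one_le_one _
      ((ringKrullDim_quotient_succ_le_of_nonZeroDivisor hnzd).trans hdim)
  have hnoeA : IsNoetherianRing A := by unfold A; infer_instance
  have hnoe : IsNoetherianRing ((A ⧸ RingHom.ker (phi (fun j' => ϖ (emb j')) q)) ⧸
      Ideal.span {Ideal.Quotient.factor hle t}) := inferInstance
  have hart : IsArtinianRing ((A ⧸ RingHom.ker (phi (fun j' => ϖ (emb j')) q)) ⧸
      Ideal.span {Ideal.Quotient.factor hle t}) :=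
    (isArtinianRing_iff_krullDimLE_zero (R := ((A ⧸ RingHom.ker (phi (fun j' => ϖ (emb j')) q)) ⧸
      Ideal.span {Ideal.Quotient.factor hle t}))).mpr hdim0
  have hfin : Finite (MaximalSpectrum ((A ⧸ RingHom.ker (phi (fun j' => ϖ (emb j')) q)) ⧸
      (Ideal.span {t}).map (Ideal.Quotient.factor hle))) := by
    rw [hmap]; infer_instance
  exact Groth.Agent.R2.H78.PicSurj.pic_map_surjective (Ideal.Quotient.factor hle) hfs
    (Ideal.span {t}) hbb

end App

end Groth.Agent.R2.H78.WeilNumF
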