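import Mathlib

/-!
# Ordinary Weil numbers and the middle coefficient (helper78)

`coeff_prod`: coefficients of `∏ (X - z)` over an ultrametric field; `ordinary_iff`: a monic integer
polynomial of degree `2d` with `p ∣ a_k` for `k < d` has exactly `d` unit roots in `PadicAlgCl p`
iff `p ∤ a_d`.
-/
set_option autoImplicit false
set_option linter.unusedSectionVars false
namespace Groth.Agent.R2.H78.WeilOrd

open Polynomial

section Ultra
variable {L : Type*} [NormedField L] [IsUltrametricDist L]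

lemma norm_sub_le_one {x y : L} (hx : ‖x‖ ≤ 1) (hy : ‖y‖ ≤ 1) : ‖x - y‖ ≤ 1 := by
  rw [sub_eq_add_neg]
  refine (IsUltrametricDist.norm_add_le_max x (-y)).trans ?_
  rw [norm_neg]
  exact max_le hx hy

lemma norm_sub_lt_one {x y : L} (hx : ‖x‖ < 1) (hy : ‖y‖ < 1) : ‖x - y‖ < 1 := by
  rw [sub_eq_add_neg]
  refine lt_of_le_of_lt (IsUltrametricDist.norm_add_le_max x (-y)) ?_
  rw [norm_neg]
  exact max_lt hx hy

lemma norm_sub_eq_one_left {x y : L} (hx : ‖x‖ = 1) (hy : ‖y‖ < 1) : ‖x - y‖ = 1 := by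
  rw [sub_eq_add_neg, IsUltrametricDist.norm_add_eq_max_of_norm_ne_norm, norm_neg, hx,
    max_eq_left hy.le]
  rw [norm_neg, hx]
  exact hy.ne'

lemma norm_sub_eq_one_right {x y : L} (hx : ‖x‖ < 1) (hy : ‖y‖ = 1) : ‖x - y‖ = 1 := by
  rw [← norm_neg, neg_sub]
  exact norm_sub_eq_one_left hy hx

lemma norm_mul_le_one' {x y : L} (hx : ‖x‖ ≤ 1) (hy : ‖y‖ ≤ 1) : ‖x * y‖ ≤ 1 := by
  rw [norm_mul]
  exact mul_le_one₀ hx (norm_nonneg _) hy

lemma norm_mul_lt_one_left {x y : L} (hx : ‖x‖ < 1) (hy : ‖y‖ ≤ 1) : ‖x * y‖ < 1 := by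
  rw [norm_mul]
  calc ‖x‖ * ‖y‖ ≤ ‖x‖ * 1 := mul_le_mul_of_nonneg_left hy (norm_nonneg _)
    _ = ‖x‖ := mul_one _
    _ < 1 := hx

lemma norm_mul_lt_one_right {x y : L} (hx : ‖x‖ ≤ 1) (hy : ‖y‖ < 1) : ‖x * y‖ < 1 := by
  rw [mul_comm]; exact norm_mul_lt_one_left hy hx

/-- Coefficients of `∏ (X - z)` for `‖z‖ ≤ 1` in an ultrametric field: the first coefficient of
norm one sits at the number of roots of norm `< 1`. -/
theorem coeff_prod (R : Multiset L) (hR : ∀ z ∈ R, ‖z‖ ≤ 1) :
    (∀ k, ‖((R.map (fun z => X - C z)).prod).coeff k‖ ≤ 1) ∧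
    (∀ k, k < Multiset.card (R.filter (fun z => ‖z‖ < 1)) →
      ‖((R.map (fun z => X - C z)).prod).coeff k‖ < 1) ∧
    ‖((R.map (fun z => X - C z)).prod).coeff (Multiset.card (R.filter (fun z => ‖z‖ < 1)))‖ = 1 := by
  induction R using Multiset.induction_on with
  | empty =>
    refine ⟨fun k => ?_, fun k hk => ?_, ?_⟩
    · simp only [Multiset.map_zero, Multiset.prod_zero, coeff_one]
      split_ifs <;> simp
    · simp at hk
    · simp
  | cons z R' ih =>
    obtain ⟨ih1, ih2, ih3⟩ := ih (fun w hw => hR w (Multiset.mem_cons_of_mem hw))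
    have hz : ‖z‖ ≤ 1 := hR z (Multiset.mem_cons_self z R')
    set f' := (R'.map (fun z => X - C z)).prod with hf'
    set m' := Multiset.card (R'.filter (fun z => ‖z‖ < 1)) with hm'
    have hf : ((z ::ₘ R').map (fun z => X - C z)).prod = (X - C z) * f' := by
      rw [Multiset.map_cons, Multiset.prod_cons]
    have c0 : ((X - C z) * f').coeff 0 = - (z * f'.coeff 0) := by
      rw [sub_mul, coeff_sub, coeff_X_mul_zero, coeff_C_mul, zero_sub]
    have cs : ∀ k, ((X - C z) * f').coeff (k + 1) = f'.coeff k - z * f'.coeff (k + 1) := by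
      intro k
      rw [sub_mul, coeff_sub, coeff_X_mul, coeff_C_mul]
    rw [hf]
    have hi : ∀ k, ‖((X - C z) * f').coeff k‖ ≤ 1 := by
      intro k
      rcases k with _ | k
      · rw [c0, norm_neg]; exact norm_mul_le_one' hz (ih1 0)
      · rw [cs]; exact norm_sub_le_one (ih1 k) (norm_mul_le_one' hz (ih1 _))
    by_cases hz1 : ‖z‖ < 1
    · have hcard : Multiset.card ((z ::ₘ R').filter (fun z => ‖z‖ < 1)) = m' + 1 := by
        rw [Multiset.filter_cons_of_pos (p := fun w : L => ‖w‖ < 1) R' hz1, Multiset.card_cons]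
      rw [hcard]
      refine ⟨hi, fun k hk => ?_, ?_⟩
      · rcases k with _ | k
        · rw [c0, norm_neg]; exact norm_mul_lt_one_left hz1 (ih1 0)
        · rw [cs]
          exact norm_sub_lt_one (ih2 k (by omega)) (norm_mul_lt_one_left hz1 (ih1 _))
      · rw [cs]
        exact norm_sub_eq_one_left ih3 (norm_mul_lt_one_left hz1 (ih1 _))
    · have hz2 : ‖z‖ = 1 := le_antisymm hz (not_lt.mp hz1)
      have hcard : Multiset.card ((z ::ₘ R').filter (fun z => ‖z‖ < 1)) = m' := by
        rw [Multiset.filter_cons_of_neg (p := fun w : L => ‖w‖ < 1) R' hz1]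
      rw [hcard]
      refine ⟨hi, fun k hk => ?_, ?_⟩
      · rcases k with _ | k
        · rw [c0, norm_neg]; exact norm_mul_lt_one_right hz (ih2 0 hk)
        · rw [cs]
          exact norm_sub_lt_one (ih2 k (by omega)) (norm_mul_lt_one_right hz (ih2 _ hk))
      · rcases Nat.eq_zero_or_pos m' with h0 | h0
        · rw [h0, c0, norm_neg, norm_mul, hz2, one_mul]
          rw [h0] at ih3; exact ih3
        · obtain ⟨j, hj⟩ : ∃ j, m' = j + 1 := ⟨m' - 1, by omega⟩
          rw [hj, cs]
          refine norm_sub_eq_one_right (ih2 j (by omega)) ?_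
          rw [norm_mul, hz2, one_mul, ← hj]
          exact ih3

end Ultra

section Padic
variable (p : ℕ) [Fact p.Prime]

lemma intCast_eq (n : ℤ) : (n : PadicAlgCl p) = algebraMap ℚ_[p] (PadicAlgCl p) (n : ℚ_[p]) :=
  (map_intCast (algebraMap ℚ_[p] (PadicAlgCl p)) n).symm

lemma norm_intCast_le_one (n : ℤ) : ‖(n : PadicAlgCl p)‖ ≤ 1 := by
  rw [intCast_eq, PadicAlgCl.norm_extends]
  exact Padic.norm_int_le_one n

lemma norm_intCast_lt_one_iff (n : ℤ) : ‖(n : PadicAlgCl p)‖ < 1 ↔ (p : ℤ) ∣ n := by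
  rw [intCast_eq, PadicAlgCl.norm_extends]
  exact Padic.norm_intCast_lt_one_iff

lemma norm_le_one_of_isIntegral (z : PadicAlgCl p) (hz : IsIntegral ℤ z) : ‖z‖ ≤ 1 := by
  have hv := Valuation.integer.integers (Valued.v : Valuation (PadicAlgCl p) NNReal)
  have h1 : IsIntegral (Valued.v : Valuation (PadicAlgCl p) NNReal).integer z := hz.tower_top
  have h2 := hv.isIntegral_iff_v_le_one.mp h1
  rw [PadicAlgCl.valuation_def] at h2
  exact_mod_cast h2


/-- A monic integer polynomial of degree `2d` whose coefficients below the middle are divisible by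
`p` has exactly `d` unit roots in `PadicAlgCl p` iff `p` does not divide the middle coefficient. -/
theorem ordinary_iff (P : ℤ[X]) (hP : P.Monic) (d : ℕ) (hdeg : P.natDegree = 2 * d)
    (hlow : ∀ k, k < d → (p : ℤ) ∣ P.coeff k) :
    2 * Multiset.card ((P.aroots (PadicAlgCl p)).filter (fun z => ‖z‖ = 1)) = P.natDegree ↔
      ¬ (p : ℤ) ∣ P.coeff d := by
  classical
  set Pm := P.map (algebraMap ℤ (PadicAlgCl p)) with hPm
  have hPmm : Pm.Monic := hP.map _
  set R := Pm.roots with hR
  have haroots : P.aroots (PadicAlgCl p) = R := rfl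
  have hsplit : Pm = (R.map (fun z => X - C z)).prod :=
    (IsAlgClosed.splits Pm).eq_prod_roots_of_monic hPmm
  have hcard : Multiset.card R = 2 * d := by
    rw [hR, IsAlgClosed.card_roots_eq_natDegree, hPm, hP.natDegree_map, hdeg]
  have hRle : ∀ z ∈ R, ‖z‖ ≤ 1 := by
    intro z hz
    apply norm_le_one_of_isIntegral
    rw [hR, mem_roots hPmm.ne_zero, IsRoot.def, hPm, eval_map, ← aeval_def] at hz
    exact ⟨P, hP, hz⟩
  obtain ⟨-, c2, c3⟩ := coeff_prod R hRle
  rw [← hsplit] at c2 c3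
  have hcoeff : ∀ k, Pm.coeff k = ((P.coeff k : ℤ) : PadicAlgCl p) := by
    intro k; rw [hPm, coeff_map, eq_intCast]
  set m := Multiset.card (R.filter (fun z => ‖z‖ < 1)) with hm
  set u := Multiset.card (R.filter (fun z => ‖z‖ = 1)) with hu
  have hum : u + m = 2 * d := by
    have h1 := Multiset.filter_add_not (p := fun z : PadicAlgCl p => ‖z‖ = 1) R
    have h2 : R.filter (fun z => ¬ ‖z‖ = 1) = R.filter (fun z => ‖z‖ < 1) := by
      apply Multiset.filter_congr
      intro z hz
      constructor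
      · intro h; exact lt_of_le_of_ne (hRle z hz) h
      · intro h; exact h.ne
    rw [h2] at h1
    have h3 := congrArg Multiset.card h1
    rw [Multiset.card_add, hcard] at h3
    exact h3
  have hmge : d ≤ m := by
    by_contra hlt
    rw [not_le] at hlt
    have h1 := (norm_intCast_lt_one_iff p (P.coeff m)).mpr (hlow m hlt)
    rw [hcoeff] at c3
    rw [c3] at h1
    exact lt_irrefl _ h1
  rw [hdeg]
  constructor
  · intro h2u hdvd
    have hmd : m = d := by omega
    have h1 := (norm_intCast_lt_one_iff p (P.coeff d)).mpr hdvd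
    rw [hmd, hcoeff] at c3
    rw [c3] at h1
    exact lt_irrefl _ h1
  · intro hnd
    have h1 : ¬ d < m := by
      intro hlt
      have h2 := c2 d hlt
      rw [hcoeff, norm_intCast_lt_one_iff] at h2
      exact hnd h2
    omega

end Padic

end Groth.Agent.R2.H78.WeilOrd
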