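import Mathlib

/-!
# Jacobson / Hochschild identities in characteristic `p` (helper for S16794)

* `sub_pow_prime_of_commute`, `sub_pow_pred_of_commute`: `(L - R)^p = L^p - R^p` and
  `(L - R)^(p-1) = ∑ L^i R^(p-1-i)` for commuting elements of a ring in which `p = 0`.
* `ad_pow_prime`, `ad_pow_pred`: the same for `ad T = (T * ·) - (· * T)`.
-/

set_option autoImplicit false
universe v u
open Polynomial

namespace Groth.Agent.R2.H79.Hochschild

section Binom

variable {F : Type*} [Ring F] {p : ℕ}

theorem cast_choose_prime (hp : p.Prime) (hpF : (p : F) = 0) {j : ℕ} (h0 : 0 < j) (hj : j < p) :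
    ((p.choose j : ℕ) : F) = 0 := by
  obtain ⟨q, hq⟩ := hp.dvd_choose_self h0.ne' hj
  rw [hq, Nat.cast_mul, hpF, zero_mul]

theorem cast_choose_pred_prime (hp : p.Prime) (hpF : (p : F) = 0) (i : ℕ) (hi : i ≤ p - 1) :
    (((p - 1).choose i : ℕ) : F) = (-1) ^ i := by
  induction i with
  | zero => simp
  | succ i ih =>
    have h1 : (p - 1).choose i + (p - 1).choose (i + 1) = p.choose (i + 1) := by
      have : p = (p - 1) + 1 := (Nat.sub_add_cancel hp.one_le).symm
      conv_rhs => rw [this]
      rw [Nat.choose_succ_succ]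
    have h2 : ((p.choose (i + 1) : ℕ) : F) = 0 :=
      cast_choose_prime hp hpF (Nat.succ_pos i) (by omega)
    have h3 := congrArg (Nat.cast (R := F)) h1
    rw [Nat.cast_add, h2, ih (by omega)] at h3
    rw [pow_succ, eq_neg_of_add_eq_zero_right h3, mul_neg, mul_one]

theorem sub_pow_pred_of_commute (hp : p.Prime) (hpF : (p : F) = 0) (L R : F) (h : Commute L R) :
    (L - R) ^ (p - 1) = ∑ i ∈ Finset.range p, L ^ i * R ^ (p - 1 - i) := by
  have hc : Commute L (-R) := h.neg_right
  rw [sub_eq_add_neg, hc.add_pow, Nat.sub_add_cancel hp.one_le]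
  refine Finset.sum_congr rfl (fun m hm => ?_)
  have hm' : m ≤ p - 1 := by have := Finset.mem_range.mp hm; omega
  rw [← Nat.choose_symm hm', cast_choose_pred_prime hp hpF _ (Nat.sub_le _ _), mul_assoc,
    ← (Commute.neg_one_right (-R)).mul_pow, neg_mul_neg, mul_one]

theorem sub_pow_prime_of_commute (hp : p.Prime) (hpF : (p : F) = 0) (L R : F) (h : Commute L R) :
    (L - R) ^ p = L ^ p - R ^ p := by
  obtain ⟨r, hr⟩ := (h.neg_right).exists_add_pow_prime_eq hp
  rw [sub_eq_add_neg, hr, hpF, zero_mul, zero_mul, zero_mul, add_zero]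
  rcases hp.eq_two_or_odd' with rfl | hodd
  · rw [neg_sq]
    have h2 : (2 : F) = 0 := by exact_mod_cast hpF
    have h3 : R ^ 2 + R ^ 2 = 0 := by rw [← two_mul, h2, zero_mul]
    rw [sub_eq_add_neg]
    congr 1
    exact eq_neg_of_add_eq_zero_left h3
  · rw [hodd.neg_pow, sub_eq_add_neg]

end Binom

section Ad

variable {E : Type*} [Ring E] {p : ℕ}

theorem natCast_end_eq_zero (hpE : (p : E) = 0) : ((p : ℕ) : Module.End ℤ E) = 0 := by
  ext x
  rw [Module.End.natCast_apply, LinearMap.zero_apply, nsmul_eq_mul, hpE, zero_mul]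

/-- `ad T = (T * ·) - (· * T)` as an additive endomorphism -/
noncomputable def ad (T : E) : Module.End ℤ E := LinearMap.mulLeft ℤ T - LinearMap.mulRight ℤ T

theorem ad_apply (T c : E) : ad T c = T * c - c * T := rfl

theorem ad_pow_prime (hp : p.Prime) (hpE : (p : E) = 0) (T c : E) :
    (ad T ^ p) c = T ^ p * c - c * T ^ p := by
  unfold ad
  rw [sub_pow_prime_of_commute hp (natCast_end_eq_zero hpE) _ _
    (LinearMap.commute_mulLeft_right T T), LinearMap.pow_mulLeft, LinearMap.pow_mulRight]
  rfl

theorem ad_pow_pred (hp : p.Prime) (hpE : (p : E) = 0) (T c : E) :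
    (ad T ^ (p - 1)) c = ∑ i ∈ Finset.range p, T ^ i * c * T ^ (p - 1 - i) := by
  unfold ad
  rw [sub_pow_pred_of_commute hp (natCast_end_eq_zero hpE) _ _
    (LinearMap.commute_mulLeft_right T T), LinearMap.sum_apply]
  refine Finset.sum_congr rfl (fun i _ => ?_)
  rw [LinearMap.pow_mulLeft, LinearMap.pow_mulRight, Module.End.mul_apply,
    LinearMap.mulRight_apply, LinearMap.mulLeft_apply, mul_assoc]

end Ad

section IterDer

variable {A : Type v} {B : Type u} [CommRing A] [CommRing B] [Algebra A B]

theorem natCast_endB_eq_zero (p : ℕ) [CharP B p] : ((p : ℕ) : Module.End A B) = 0 := by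
  refine LinearMap.ext (fun x => ?_)
  rw [Module.End.natCast_apply, LinearMap.zero_apply, nsmul_eq_mul, CharP.cast_eq_zero, zero_mul]

theorem ad_mulLeft (θ : Derivation A B B) (x : B) :
    ad (θ : B →ₗ[A] B) (LinearMap.mulLeft A x) = LinearMap.mulLeft A (θ x) := by
  refine LinearMap.ext (fun y => ?_)
  rw [ad_apply, LinearMap.sub_apply, Module.End.mul_apply, Module.End.mul_apply,
    LinearMap.mulLeft_apply, LinearMap.mulLeft_apply, LinearMap.mulLeft_apply,
    Derivation.coeFn_coe, Derivation.leibniz, smul_eq_mul, smul_eq_mul]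
  ring

theorem ad_pow_mulLeft (θ : Derivation A B B) (j : ℕ) (x : B) :
    (ad (θ : B →ₗ[A] B) ^ j) (LinearMap.mulLeft A x) = LinearMap.mulLeft A (θ^[j] x) := by
  induction j generalizing x with
  | zero => simp
  | succ j ih =>
    rw [pow_succ, Module.End.mul_apply, ad_mulLeft, ih, Function.iterate_succ_apply]

/-- in characteristic `p` the `p`-fold iterate of a derivation is a derivation -/
noncomputable def iterDer (p : ℕ) [Fact p.Prime] [CharP B p] (θ : Derivation A B B) :
    Derivation A B B :=
  Derivation.mk' ((θ : B →ₗ[A] B) ^ p) (by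
    intro x y
    have h := ad_pow_prime (Fact.out : p.Prime) (natCast_endB_eq_zero (A := A) (B := B) p)
      (θ : B →ₗ[A] B) (LinearMap.mulLeft A x)
    rw [ad_pow_mulLeft] at h
    have h' := LinearMap.congr_fun h y
    rw [LinearMap.sub_apply, Module.End.mul_apply, Module.End.mul_apply,
      LinearMap.mulLeft_apply, LinearMap.mulLeft_apply, LinearMap.mulLeft_apply] at h'
    rw [smul_eq_mul, smul_eq_mul, Module.End.pow_apply, Module.End.pow_apply,
      Module.End.pow_apply] at *
    rw [Derivation.coeFn_coe] at *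
    rw [mul_comm y, h']
    ring)

theorem iterDer_apply (p : ℕ) [Fact p.Prime] [CharP B p] (θ : Derivation A B B) (x : B) :
    iterDer p θ x = θ^[p] x := by
  show ((θ : B →ₗ[A] B) ^ p) x = _
  rw [Module.End.pow_apply, Derivation.coeFn_coe]

end IterDer

section Univ

variable {A : Type v} {B : Type u} [CommRing A] [CommRing B] [Algebra A B]
variable (θ : Derivation A B B) (b : B)

/-- the derivation of `B[X]` acting through `θ` on the coefficients -/
noncomputable def dX : Derivation A B[X] B[X] :=
  PolynomialModule.equivPolynomialSelf.compDer θ.mapCoeffs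

theorem coeff_dX (f : B[X]) (i : ℕ) : (dX θ f).coeff i = θ (f.coeff i) := rfl

theorem dX_C (x : B) : dX θ (C x) = C (θ x) := by
  ext i
  rw [coeff_dX, coeff_C, coeff_C]
  split_ifs
  · rfl
  · exact map_zero _

/-- `f ↦ θ(f) + X f`, the universal operator with `[D, x] = θ x` -/
noncomputable def Dop : Module.End A B[X] :=
  (dX θ : B[X] →ₗ[A] B[X]) + LinearMap.mulLeft A (X : B[X])

theorem Dop_apply (f : B[X]) : Dop θ f = dX θ f + X * f := rfl

/-- `b • D` on `B[X]` -/
noncomputable def Top : Module.End A B[X] := LinearMap.mulLeft A (C b) * Dop θ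

theorem Top_apply (f : B[X]) : Top θ b f = C b * (dX θ f + X * f) := rfl

/-- the universal polynomials: `(b D)^n = P_n(D)` with coefficients on the left -/
noncomputable def P (n : ℕ) : B[X] := (Top θ b ^ n) 1

theorem P_zero : P θ b 0 = 1 := by
  unfold P
  rw [pow_zero, Module.End.one_apply]

theorem P_succ (n : ℕ) : P θ b (n + 1) = Top θ b (P θ b n) := by
  unfold P
  rw [pow_succ', Module.End.mul_apply]

theorem coeff_Top_zero (f : B[X]) : (Top θ b f).coeff 0 = b * θ (f.coeff 0) := by
  rw [Top_apply, coeff_C_mul, coeff_add, coeff_dX, coeff_X_mul_zero, add_zero]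

theorem coeff_Top_succ (f : B[X]) (k : ℕ) :
    (Top θ b f).coeff (k + 1) = b * (θ (f.coeff (k + 1)) + f.coeff k) := by
  rw [Top_apply, coeff_C_mul, coeff_add, coeff_dX, coeff_X_mul]

theorem coeff_P_succ_zero (n : ℕ) : (P θ b (n + 1)).coeff 0 = 0 := by
  induction n with
  | zero =>
    rw [P_succ, coeff_Top_zero, P_zero, coeff_one_zero, Derivation.map_one_eq_zero, mul_zero]
  | succ n ih =>
    rw [P_succ, coeff_Top_zero, ih, map_zero, mul_zero]

theorem coeff_P_of_lt (n : ℕ) : ∀ k, n < k → (P θ b n).coeff k = 0 := by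
  induction n with
  | zero =>
    intro k hk
    rw [P_zero, coeff_one, if_neg (by omega)]
  | succ n ih =>
    intro k hk
    obtain ⟨k', rfl⟩ : ∃ k', k = k' + 1 := ⟨k - 1, by omega⟩
    rw [P_succ, coeff_Top_succ, ih (k' + 1) (by omega), ih k' (by omega), map_zero, add_zero,
      mul_zero]

theorem coeff_P_self (n : ℕ) : (P θ b n).coeff n = b ^ n := by
  induction n with
  | zero => rw [P_zero, coeff_one_zero, pow_zero]
  | succ n ih =>
    rw [P_succ, coeff_Top_succ, coeff_P_of_lt θ b n (n + 1) (by omega), ih, map_zero, zero_add,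
      pow_succ']

end Univ

section UnivCharP

variable {A : Type v} {B : Type u} [CommRing A] [CommRing B] [Algebra A B]
variable (θ : Derivation A B B) (b : B)

theorem ad_Top_mulLeft_C (x : B) :
    ad (Top θ b) (LinearMap.mulLeft A (C x)) = LinearMap.mulLeft A (C (b * θ x)) := by
  refine LinearMap.ext (fun f => ?_)
  rw [ad_apply, LinearMap.sub_apply, Module.End.mul_apply, Module.End.mul_apply,
    LinearMap.mulLeft_apply, LinearMap.mulLeft_apply, LinearMap.mulLeft_apply, Top_apply,
    Top_apply, Derivation.leibniz, dX_C, smul_eq_mul, smul_eq_mul, C_mul]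
  ring

theorem ad_Top_pow_mulLeft_C (j : ℕ) (x : B) :
    (ad (Top θ b) ^ j) (LinearMap.mulLeft A (C x)) =
      LinearMap.mulLeft A (C ((fun y => b * θ y)^[j] x)) := by
  induction j generalizing x with
  | zero => simp
  | succ j ih =>
    rw [pow_succ, Module.End.mul_apply, ad_Top_mulLeft_C, ih, Function.iterate_succ_apply]

theorem derivative_dX (f : B[X]) : derivative (dX θ f) = dX θ (derivative f) := by
  ext n
  rw [coeff_derivative, coeff_dX, coeff_dX, coeff_derivative, Derivation.leibniz]
  have h : θ ((n : B) + 1) = 0 := by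
    have : ((n : B) + 1) = ((n + 1 : ℕ) : B) := by push_cast; rfl
    rw [this, Derivation.map_natCast]
  rw [h, smul_zero, zero_add, smul_eq_mul, mul_comm]

theorem derivative_Top (f : B[X]) :
    derivative (Top θ b f) = Top θ b (derivative f) + C b * f := by
  rw [Top_apply, Top_apply, derivative_C_mul, derivative_add, derivative_dX, derivative_mul,
    derivative_X, one_mul]
  ring

theorem derivative_Top_pow (n : ℕ) (f : B[X]) :
    derivative ((Top θ b ^ n) f) = (Top θ b ^ n) (derivative f) +
      (∑ i ∈ Finset.range n, Top θ b ^ i * LinearMap.mulLeft A (C b) * Top θ b ^ (n - 1 - i)) f := by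
  induction n with
  | zero => simp
  | succ n ih =>
    rw [pow_succ', Module.End.mul_apply, derivative_Top, ih, map_add, Finset.sum_range_succ',
      LinearMap.add_apply, LinearMap.sum_apply, LinearMap.sum_apply, map_sum, add_assoc]
    congr 1
    congr 1
    · refine Finset.sum_congr rfl (fun i hi => ?_)
      have hi' := Finset.mem_range.mp hi
      have h1 : n + 1 - 1 - (i + 1) = n - 1 - i := by omega
      rw [h1, pow_succ', Module.End.mul_apply, Module.End.mul_apply, Module.End.mul_apply,
        Module.End.mul_apply, Module.End.mul_apply]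

variable (p : ℕ) [Fact p.Prime] [CharP B p]

omit [Fact p.Prime] in
theorem natCast_endS_eq_zero : ((p : ℕ) : Module.End A B[X]) = 0 := by
  refine LinearMap.ext (fun f => ?_)
  rw [Module.End.natCast_apply, LinearMap.zero_apply, nsmul_eq_mul, CharP.cast_eq_zero, zero_mul]

theorem derivative_P_prime :
    derivative (P θ b p) = C ((fun y => b * θ y)^[p - 1] b) := by
  unfold P
  rw [derivative_Top_pow, derivative_one, map_zero, zero_add,
    ← ad_pow_pred (Fact.out : p.Prime) (natCast_endS_eq_zero (A := A) (B := B) p),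
    ad_Top_pow_mulLeft_C, LinearMap.mulLeft_apply, mul_one]

theorem natCast_mul_eq_zero {k : ℕ} (h0 : 0 < k) (hk : k < p) {a : B} (h : a * (k : B) = 0) :
    a = 0 := by
  let _ : Algebra (ZMod p) B := ZMod.algebra B p
  have hne : ((k : ℕ) : ZMod p) ≠ 0 := by
    rw [Ne, ZMod.natCast_eq_zero_iff]
    exact Nat.not_dvd_of_pos_of_lt h0 hk
  have hu : IsUnit ((k : ℕ) : B) := by
    have := (IsUnit.mk0 _ hne).map (algebraMap (ZMod p) B)
    rwa [map_natCast] at this
  exact (hu.mul_left_eq_zero).mp h

theorem P_prime_eq :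
    P θ b p = C (b ^ p) * X ^ p + C ((fun y => b * θ y)^[p - 1] b) * X := by
  have hp : p.Prime := Fact.out
  have hp2 : 2 ≤ p := hp.two_le
  have hder := derivative_P_prime θ b p
  ext k
  rw [coeff_add, coeff_C_mul_X_pow, coeff_C_mul_X]
  rcases k with _ | k
  · obtain ⟨q, rfl⟩ : ∃ q, p = q + 1 := ⟨p - 1, by omega⟩
    rw [coeff_P_succ_zero, if_neg (by omega), if_neg (by omega), add_zero]
  · have hk := congrArg (fun g => g.coeff k) hder
    simp only [coeff_derivative, coeff_C] at hk
    rcases k with _ | k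
    · rw [if_neg (by omega), if_pos rfl, zero_add]
      simpa using hk
    · have h1 : ¬ (k + 1 + 1 = 1) := by omega
      rw [if_neg h1, add_zero]
      rcases lt_trichotomy (k + 1 + 1) p with hlt | heq | hgt
      · rw [if_neg (by omega)]
        have hk' : (P θ b p).coeff (k + 1 + 1) * ((k + 1 + 1 : ℕ) : B) = 0 := by
          rw [if_neg (by omega)] at hk
          push_cast at hk ⊢
          exact hk
        exact natCast_mul_eq_zero p (by omega) hlt hk'
      · rw [if_pos heq, heq, coeff_P_self]
      · rw [if_neg (by omega), coeff_P_of_lt θ b p _ hgt]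

end UnivCharP

section Expansion

variable {A : Type v} {B : Type u} [CommRing A] [CommRing B] [Algebra A B]
variable (θ : Derivation A B B) (b : B)
variable {R : Type*} [Ring R] (μ : B →+* R) (D : R)

theorem eval₂_C_mul' (x : B) (f : B[X]) : (C x * f).eval₂ μ D = μ x * f.eval₂ μ D := by
  induction f using Polynomial.induction_on' with
  | add f g hf hg => rw [mul_add, eval₂_add, eval₂_add, hf, hg, mul_add]
  | monomial k c => rw [C_mul_monomial, eval₂_monomial, eval₂_monomial, map_mul, mul_assoc]

variable (hD : ∀ x, D * μ x = μ x * D + μ (θ x))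

include hD in
theorem eval₂_Dop (f : B[X]) : (Dop θ f).eval₂ μ D = D * f.eval₂ μ D := by
  induction f using Polynomial.induction_on' with
  | add f g hf hg => rw [map_add, eval₂_add, eval₂_add, hf, hg, mul_add]
  | monomial k c =>
    have h1 : dX θ (monomial k c) = monomial k (θ c) := by
      ext i
      rw [coeff_dX, coeff_monomial, coeff_monomial]
      split_ifs
      · rfl
      · exact map_zero _
    rw [Dop_apply, h1, X_mul_monomial, eval₂_add, eval₂_monomial, eval₂_monomial, eval₂_monomial,
      ← mul_assoc, hD, add_mul, mul_assoc, ← pow_succ', add_comm]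

include hD in
/-- `(b D)^n = P_n(D)` -/
theorem eval₂_P (n : ℕ) : (P θ b n).eval₂ μ D = (μ b * D) ^ n := by
  induction n with
  | zero => rw [P_zero, eval₂_one, pow_zero]
  | succ n ih =>
    rw [P_succ, Top_apply, ← Dop_apply, eval₂_C_mul', eval₂_Dop θ μ D hD, ih, pow_succ', mul_assoc]

include hD in
/-- **Hochschild's identity**: `(b D)^p = b^p D^p + (b θ)^{p-1}(b) D` in characteristic `p`,
whenever `[D, x] = θ x` for all `x ∈ B`. -/
theorem hochschild (p : ℕ) [Fact p.Prime] [CharP B p] :
    (μ b * D) ^ p = μ (b ^ p) * D ^ p + μ ((fun y => b * θ y)^[p - 1] b) * D := by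
  rw [← eval₂_P θ b μ D hD, P_prime_eq, eval₂_add, C_mul_X_pow_eq_monomial,
    ← monomial_one_one_eq_X, C_mul_monomial, mul_one, eval₂_monomial, eval₂_monomial, pow_one]

end Expansion

end Groth.Agent.R2.H79.Hochschild




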