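import Mathlib
import Groth.Prelude.Def_ComodSub

/-!
# Existence of the left dual comodule structure on the dual of a finitely presented comodule
over a flat coalgebra (helper for S16690).
-/

set_option autoImplicit false
universe u v w

open TensorProduct

namespace Groth.Agent.R2.H79.LDual

section Bij

variable {k : Type u} [CommRing k] {M : Type w} [AddCommGroup M] [Module k M]
  [Module.FinitePresentation k M] (N : Type v) [AddCommGroup N] [Module k N] [Module.Flat k N]

/-- For `M` finitely presented and `N` flat, `M^* ⊗ N → Hom(M, N)` is bijective. -/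
theorem dualTensorHom_bijective_of_fp_flat :
    Function.Bijective (dualTensorHom k M N) := by
  obtain ⟨n, m, f, g, hf, hfg⟩ := Module.FinitePresentation.exists_fin' k M
  -- rows: 0 → M^* ⊗ N → (k^n)^* ⊗ N → (k^m)^* ⊗ N and 0 → Hom(M,N) → Hom(k^n,N) → Hom(k^m,N)
  have hdual_exact : Function.Exact f.dualMap g.dualMap :=
    LinearMap.exact_lcomp_of_exact_of_surjective k hfg hf
  have hdual_inj : Function.Injective f.dualMap := LinearMap.dualMap_injective_of_surjective hf
  have hc₁ : (f.lcomp k N) ∘ₗ dualTensorHom k M N =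
      dualTensorHom k (Fin n → k) N ∘ₗ f.dualMap.rTensor N :=
    (dualTensorHom_comp_rTensor_dualMap (R := k) (P := N) f).symm
  have hc₂ : (g.lcomp k N) ∘ₗ dualTensorHom k (Fin n → k) N =
      dualTensorHom k (Fin m → k) N ∘ₗ g.dualMap.rTensor N :=
    (dualTensorHom_comp_rTensor_dualMap (R := k) (P := N) g).symm
  have hex₁ : Function.Exact (f.dualMap.rTensor N) (g.dualMap.rTensor N) :=
    Module.Flat.rTensor_exact N hdual_exact
  have hex₂ : Function.Exact (f.lcomp k N) (g.lcomp k N) :=
    LinearMap.exact_lcomp_of_exact_of_surjective N hfg hf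
  have hinj₁ : Function.Injective (f.dualMap.rTensor N) :=
    Module.Flat.rTensor_preserves_injective_linearMap _ hdual_inj
  have hinj₂ : Function.Injective (f.lcomp k N) := LinearMap.lcomp_injective_of_surjective f hf
  have hb₂ : Function.Bijective (dualTensorHom k (Fin n → k) N) := dualTensorHom_bijective
  have hb₃ : Function.Bijective (dualTensorHom k (Fin m → k) N) := dualTensorHom_bijective
  constructor
  · intro x y hxy
    apply hinj₁
    apply hb₂.1
    have h1 := LinearMap.congr_fun hc₁ x
    have h2 := LinearMap.congr_fun hc₁ y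
    simp only [LinearMap.coe_comp, Function.comp_apply] at h1 h2
    rw [← h1, ← h2, hxy]
  · intro φ
    obtain ⟨y, hy⟩ := hb₂.2 (f.lcomp k N φ)
    have hy0 : g.dualMap.rTensor N y = 0 := by
      apply hb₃.1
      have h1 := LinearMap.congr_fun hc₂ y
      simp only [LinearMap.coe_comp, Function.comp_apply] at h1
      rw [← h1, hy, map_zero]
      exact (hex₂ _).2 ⟨φ, rfl⟩
    obtain ⟨x, hx⟩ := (hex₁ y).1 hy0
    refine ⟨x, hinj₂ ?_⟩
    have h1 := LinearMap.congr_fun hc₁ x
    simp only [LinearMap.coe_comp, Function.comp_apply] at h1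
    rw [h1, hx, hy]

end Bij

section Main

variable {k : Type u} [CommRing k] {A : Type v} [AddCommGroup A] [Module k A] [Coalgebra k A]
  [Module.Flat k A] {M : Type w} [AddCommGroup M] [Module k M] [Module.FinitePresentation k M]

/-- `ldualFun c` as a linear map in the form. -/
noncomputable def ldualFunₗ (c : HopfRep.Comod k A M) : Module.Dual k M →ₗ[k] (M →ₗ[k] A) where
  toFun g := ComodSub.ldualFun c g
  map_add' g h := by
    apply LinearMap.ext
    intro m
    simp only [ComodSub.ldualFun_apply, LinearMap.rTensor_add, LinearMap.add_apply, map_add]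
  map_smul' r g := by
    apply LinearMap.ext
    intro m
    simp only [ComodSub.ldualFun_apply, LinearMap.rTensor_smul, LinearMap.smul_apply, map_smul,
      RingHom.id_apply]

/-- The equivalence `M^* ⊗ N ≃ Hom(M, N)` for `N` flat. -/
noncomputable def dthEquiv (N : Type v) [AddCommGroup N] [Module k N] [Module.Flat k N] :
    Module.Dual k M ⊗[k] N ≃ₗ[k] (M →ₗ[k] N) :=
  LinearEquiv.ofBijective (dualTensorHom k M N) (dualTensorHom_bijective_of_fp_flat N)

/-- The reading map `A ⊗ M^* → Hom(M, A)`, `a ⊗ φ ↦ (m ↦ φ m • a)`. -/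
noncomputable def T₁ : A ⊗[k] Module.Dual k M →ₗ[k] (M →ₗ[k] A) :=
  dualTensorHom k M A ∘ₗ (TensorProduct.comm k A (Module.Dual k M)).toLinearMap

omit [Coalgebra k A] [Module.Flat k A] [Module.FinitePresentation k M] in
theorem T₁_tmul (a : A) (φ : Module.Dual k M) (m : M) : T₁ (a ⊗ₜ[k] φ) m = φ m • a := rfl

/-- the candidate left coaction on the dual -/
noncomputable def lcoact (c : HopfRep.Comod k A M) :
    Module.Dual k M →ₗ[k] A ⊗[k] Module.Dual k M :=
  (TensorProduct.comm k A (Module.Dual k M)).symm.toLinearMap ∘ₗ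
    (dthEquiv (M := M) A).symm.toLinearMap ∘ₗ ldualFunₗ c

theorem T₁_lcoact (c : HopfRep.Comod k A M) (g : Module.Dual k M) :
    T₁ (lcoact c g) = ComodSub.ldualFun c g := by
  unfold T₁ lcoact
  simp only [LinearMap.coe_comp, LinearEquiv.coe_coe, Function.comp_apply,
    LinearEquiv.apply_symm_apply]
  exact (dthEquiv (M := M) A).apply_symm_apply _

/-- The reading map `A ⊗ (A ⊗ M^*) → Hom(M, A ⊗ A)`. -/
noncomputable def T₂ : A ⊗[k] (A ⊗[k] Module.Dual k M) →ₗ[k] (M →ₗ[k] A ⊗[k] A) :=
  dualTensorHom k M (A ⊗[k] A) ∘ₗ (TensorProduct.comm k (A ⊗[k] A) (Module.Dual k M)).toLinearMap ∘ₗ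
    (TensorProduct.assoc k A A (Module.Dual k M)).symm.toLinearMap

omit [Coalgebra k A] [Module.Flat k A] [Module.FinitePresentation k M] in
theorem T₂_tmul (a a' : A) (φ : Module.Dual k M) (m : M) :
    T₂ (a ⊗ₜ[k] (a' ⊗ₜ[k] φ)) m = φ m • (a ⊗ₜ[k] a') := rfl

omit [Coalgebra k A] in
theorem T₂_injective : Function.Injective (T₂ (k := k) (A := A) (M := M)) := by
  unfold T₂
  simp only [LinearMap.coe_comp, LinearEquiv.coe_coe]
  exact (dualTensorHom_bijective_of_fp_flat (A ⊗[k] A)).1.comp
    ((TensorProduct.comm k (A ⊗[k] A) (Module.Dual k M)).injective.comp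
      (TensorProduct.assoc k A A (Module.Dual k M)).symm.injective)

/-- `T₂ ((id ⊗ λ) x) = (T₁ x ⊗ id) ∘ ρ`. -/
theorem T₂_lTensor_lcoact (c : HopfRep.Comod k A M) (x : A ⊗[k] Module.Dual k M) :
    T₂ ((lcoact c).lTensor A x) = (T₁ x).rTensor A ∘ₗ c.coact := by
  induction x using TensorProduct.induction_on with
  | zero => simp
  | add x y hx hy => simp only [map_add, hx, hy, LinearMap.rTensor_add, LinearMap.add_comp]
  | tmul a φ =>
    rw [LinearMap.lTensor_tmul]
    -- first: `T₂ (a ⊗ y) m = a ⊗ T₁ y m` for all `y`
    have key : ∀ y : A ⊗[k] Module.Dual k M, ∀ m : M,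
        T₂ (a ⊗ₜ[k] y) m = a ⊗ₜ[k] T₁ y m := by
      intro y m
      induction y using TensorProduct.induction_on with
      | zero => simp
      | add y z hy hz => simp only [tmul_add, map_add, LinearMap.add_apply, hy, hz]
      | tmul a' φ' => rw [T₂_tmul, T₁_tmul, tmul_smul]
    apply LinearMap.ext
    intro m
    rw [key, T₁_lcoact, ComodSub.ldualFun_apply, LinearMap.comp_apply]
    generalize c.coact m = z
    induction z using TensorProduct.induction_on with
    | zero => simp
    | add y z hy hz => simp only [map_add, tmul_add, hy, hz]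
    | tmul m' a' =>
      simp only [LinearMap.rTensor_tmul, TensorProduct.lid_tmul, T₁_tmul, tmul_smul, smul_tmul']

omit [Module.Flat k A] [Module.FinitePresentation k M] in
/-- `T₂ (assoc ((Δ ⊗ id) x)) = Δ ∘ T₁ x`. -/
theorem T₂_comul (x : A ⊗[k] Module.Dual k M) :
    T₂ ((TensorProduct.assoc k A A (Module.Dual k M))
      ((CoalgebraStruct.comul (R := k) (A := A)).rTensor (Module.Dual k M) x)) =
      (CoalgebraStruct.comul (R := k) (A := A)) ∘ₗ T₁ x := by
  induction x using TensorProduct.induction_on with
  | zero => simp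
  | add x y hx hy => simp only [map_add, hx, hy, LinearMap.comp_add]
  | tmul a φ =>
    rw [LinearMap.rTensor_tmul]
    have key : ∀ w : A ⊗[k] A, ∀ m : M,
        T₂ ((TensorProduct.assoc k A A (Module.Dual k M)) (w ⊗ₜ[k] φ)) m = φ m • w := by
      intro w m
      induction w using TensorProduct.induction_on with
      | zero => simp
      | add y z hy hz => simp only [add_tmul, map_add, LinearMap.add_apply, hy, hz, smul_add]
      | tmul a₁ a₂ => rw [TensorProduct.assoc_tmul, T₂_tmul]
    apply LinearMap.ext
    intro m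
    rw [key, LinearMap.comp_apply, T₁_tmul, map_smul]

theorem lcoact_coassoc (c : HopfRep.Comod k A M) :
    (lcoact c).lTensor A ∘ₗ lcoact c =
      (TensorProduct.assoc k A A (Module.Dual k M)).toLinearMap ∘ₗ
        (CoalgebraStruct.comul (R := k) (A := A)).rTensor (Module.Dual k M) ∘ₗ lcoact c := by
  apply LinearMap.ext
  intro g
  apply T₂_injective
  simp only [LinearMap.coe_comp, LinearEquiv.coe_coe, Function.comp_apply]
  rw [T₂_lTensor_lcoact, T₂_comul, T₁_lcoact]
  apply LinearMap.ext
  intro m
  have hc := LinearMap.congr_fun c.coassoc m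
  simp only [LinearMap.coe_comp, LinearEquiv.coe_coe, Function.comp_apply] at hc
  simp only [LinearMap.coe_comp, Function.comp_apply, ComodSub.ldualFun_apply]
  -- apply `lid ∘ (g ⊗ id)` to both sides of coassociativity
  have e1 : ∀ z : (M ⊗[k] A) ⊗[k] A,
      TensorProduct.lid k (A ⊗[k] A) (g.rTensor (A ⊗[k] A) (TensorProduct.assoc k M A A z)) =
        ((TensorProduct.lid k A).toLinearMap ∘ₗ g.rTensor A).rTensor A z := by
    intro z
    induction z using TensorProduct.induction_on with
    | zero => simp
    | add y z hy hz => simp only [map_add, hy, hz]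
    | tmul y a₂ =>
      induction y using TensorProduct.induction_on with
      | zero => simp
      | add y z hy hz => simp only [add_tmul, map_add, hy, hz]
      | tmul m₁ a₁ =>
        simp only [TensorProduct.assoc_tmul, LinearMap.rTensor_tmul, TensorProduct.lid_tmul,
          LinearMap.coe_comp, LinearEquiv.coe_coe, Function.comp_apply, smul_tmul']
  have e2 : ∀ z : M ⊗[k] A,
      TensorProduct.lid k (A ⊗[k] A) (g.rTensor (A ⊗[k] A)
        ((CoalgebraStruct.comul (R := k) (A := A)).lTensor M z)) =
        CoalgebraStruct.comul (R := k) (A := A) (TensorProduct.lid k A (g.rTensor A z)) := by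
    intro z
    induction z using TensorProduct.induction_on with
    | zero => simp
    | add y z hy hz => simp only [map_add, hy, hz]
    | tmul m₁ a₁ =>
      simp only [LinearMap.lTensor_tmul, LinearMap.rTensor_tmul, TensorProduct.lid_tmul, map_smul]
  rw [← e2, ← hc, e1, ← LinearMap.comp_apply (LinearMap.rTensor A _) (LinearMap.rTensor A _),
    ← LinearMap.rTensor_comp]
  rfl

theorem lcoact_counit (c : HopfRep.Comod k A M) :
    (CoalgebraStruct.counit (R := k) (A := A)).rTensor (Module.Dual k M) ∘ₗ lcoact c =
      TensorProduct.mk k k (Module.Dual k M) 1 := by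
  apply LinearMap.ext
  intro g
  apply (TensorProduct.lid k (Module.Dual k M)).injective
  simp only [LinearMap.coe_comp, Function.comp_apply, TensorProduct.mk_apply,
    TensorProduct.lid_tmul, one_smul]
  have key : ∀ x : A ⊗[k] Module.Dual k M,
      TensorProduct.lid k (Module.Dual k M)
        ((CoalgebraStruct.counit (R := k) (A := A)).rTensor (Module.Dual k M) x) =
        (CoalgebraStruct.counit (R := k) (A := A)) ∘ₗ T₁ x := by
    intro x
    induction x using TensorProduct.induction_on with
    | zero => simp
    | add y z hy hz => simp only [map_add, hy, hz, LinearMap.comp_add]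
    | tmul a φ =>
      apply LinearMap.ext
      intro m
      simp only [LinearMap.rTensor_tmul, TensorProduct.lid_tmul, LinearMap.smul_apply,
        LinearMap.coe_comp, Function.comp_apply, T₁_tmul, map_smul, smul_eq_mul, mul_comm]
  rw [key, T₁_lcoact]
  apply LinearMap.ext
  intro m
  have hc := LinearMap.congr_fun c.counit_comp m
  simp only [LinearMap.coe_comp, Function.comp_apply, LinearMap.flip_apply,
    TensorProduct.mk_apply] at hc
  simp only [LinearMap.coe_comp, Function.comp_apply, ComodSub.ldualFun_apply]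
  have e : ∀ z : M ⊗[k] A,
      CoalgebraStruct.counit (R := k) (A := A) (TensorProduct.lid k A (g.rTensor A z)) =
        TensorProduct.rid k k (g.rTensor k ((CoalgebraStruct.counit (R := k) (A := A)).lTensor M z)) := by
    intro z
    induction z using TensorProduct.induction_on with
    | zero => simp
    | add y z hy hz => simp only [map_add, hy, hz]
    | tmul m₁ a₁ =>
      simp only [LinearMap.lTensor_tmul, LinearMap.rTensor_tmul, TensorProduct.lid_tmul, map_smul,
        TensorProduct.rid_tmul, smul_eq_mul, mul_comm]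
  rw [e, hc, LinearMap.rTensor_tmul, TensorProduct.rid_tmul, one_smul]

/-- The left dual comodule structure. -/
@[reducible] noncomputable def ldual (c : HopfRep.Comod k A M) :
    ComodSub.LComod k A (Module.Dual k M) where
  coact := lcoact c
  coassoc := lcoact_coassoc c
  counit_comp := lcoact_counit c

theorem isLDual_ldual (c : HopfRep.Comod k A M) : ComodSub.LComod.IsLDual c (ldual c) := by
  intro g
  exact T₁_lcoact c g

end Main

end Groth.Agent.R2.H79.LDual
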