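import Mathlib
import Groth.Prelude.Def_Conn
import Groth.Prelude.Def_LogDiff
import Groth.Prelude.Def_W4swconnpcurvhiggsLogLam
import Groth.Agent.Lib.Helper24LogConn

/-!
# Layers of a logarithmic λ-connection: generators and stability (helper for S16796–S16798)
-/

set_option autoImplicit false
universe v u
open TensorProduct

namespace Groth.Agent.R2.H79.LogConn

open Groth.Agent.Lib.Helper24LogConn

variable {A : Type v} {B L E : Type u} [CommRing A] [CommRing B]
    [Algebra A B] [AddCommGroup L] [Module B L] [Module A L] [IsScalarTower A B L]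
    [AddCommGroup E] [Module B E] [Module A E] [IsScalarTower A B E]

section Coord

variable {n : ℕ} (ω : Module.Basis (Fin n) B L) (p : ℕ)

omit [Module A L] [IsScalarTower A B L] [Module A E] [IsScalarTower A B E] [CommRing A] [Algebra A B] in
theorem coordE_tmul (K : Set.powersetCard (Fin n) p) (y : E) (z : ↥(⋀[B]^p L)) :
    LogConn.coordE (E := E) ω p K (y ⊗ₜ[B] z) = (ω.exteriorPower p).coord K z • y := by
  unfold LogConn.coordE
  simp only [LinearMap.coe_comp, LinearEquiv.coe_coe, Function.comp_apply, TensorProduct.map_tmul,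
    LinearMap.id_apply, TensorProduct.rid_tmul]

omit [Module A L] [IsScalarTower A B L] [Module A E] [IsScalarTower A B E] [CommRing A] [Algebra A B] in
theorem coordE_tmul_basis (K K' : Set.powersetCard (Fin n) p) (y : E) :
    LogConn.coordE (E := E) ω p K (y ⊗ₜ[B] (ω.exteriorPower p K')) = if K' = K then y else 0 := by
  rw [coordE_tmul, Module.Basis.coord_apply, Module.Basis.repr_self, Finsupp.single_apply]
  split_ifs <;> simp

omit [Module A L] [IsScalarTower A B L] [Module A E] [IsScalarTower A B E] [CommRing A] [Algebra A B] in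
/-- expansion of an element of `E ⊗ ⋀^p L` along the basis `ω_K` -/
theorem sum_coordE_tmul (x : E ⊗[B] ↥(⋀[B]^p L)) :
    x = ∑ K : Set.powersetCard (Fin n) p,
      LogConn.coordE (E := E) ω p K x ⊗ₜ[B] (ω.exteriorPower p K) := by
  induction x using TensorProduct.induction_on with
  | zero => simp
  | add x y hx hy =>
    conv_lhs => rw [hx, hy]
    rw [← Finset.sum_add_distrib]
    refine Finset.sum_congr rfl (fun K _ => ?_)
    rw [map_add, add_tmul]
  | tmul y z =>
    simp only [coordE_tmul]
    conv_lhs => rw [← (ω.exteriorPower p).sum_repr z]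
    rw [tmul_sum]
    refine Finset.sum_congr rfl (fun K _ => ?_)
    rw [tmul_smul, smul_tmul', Module.Basis.coord_apply]

omit [Module A L] [IsScalarTower A B L] [Module A E] [IsScalarTower A B E] [CommRing A] [Algebra A B] in
/-- For an injective indexing `g` with values in `K`, `ω_{g 0} ∧ ⋯ ∧ ω_{g (p-1)} = ± ω_K`. -/
theorem ιMulti_comp_eq_sign_smul (g : Fin p → Fin n) (hg : Function.Injective g)
    (K : Set.powersetCard (Fin n) p) (hK : ∀ k, g k ∈ K.val) :
    ∃ ε : ℤˣ, exteriorPower.ιMulti B p (ω ∘ g) = ε • ω.exteriorPower p K := by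
  classical
  have g_card : (Finset.image g Finset.univ).card = p :=
    (Finset.card_image_of_injective Finset.univ hg).trans (Finset.card_fin p)
  have himg : Finset.image g Finset.univ = K.val := by
    apply Finset.eq_of_subset_of_card_le
    · intro x hx
      obtain ⟨k, -, rfl⟩ := Finset.mem_image.mp hx
      exact hK k
    · rw [g_card, K.prop]
  obtain ⟨Kv, hKv⟩ := K
  simp only at himg
  subst himg
  let σ : Equiv.Perm (Fin p) := (Finset.orderIsoOfFin (Finset.image g Finset.univ) g_card).toEquiv.trans
    ((Equiv.setCongr Fintype.coe_image_univ).trans (Equiv.ofInjective g hg).symm)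
  have hσ : ∀ i, g (σ i) = (Finset.image g Finset.univ).orderEmbOfFin g_card i := by
    intro i
    simp only [σ, Equiv.trans_apply]
    have := Equiv.apply_ofInjective_symm hg
      ((Equiv.setCongr Fintype.coe_image_univ) ((Finset.orderIsoOfFin (Finset.image g Finset.univ) g_card).toEquiv i))
    rw [this]
    rfl
  refine ⟨Equiv.Perm.sign σ, ?_⟩
  have h1 : exteriorPower.ιMulti B p ((ω ∘ g) ∘ σ) =
      ω.exteriorPower p ⟨Finset.image g Finset.univ, hKv⟩ := by
    rw [exteriorPower.basis_apply, exteriorPower.ιMulti_family]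
    congr 1
    funext i
    simp only [Function.comp_apply, hσ]
    rfl
  rw [AlternatingMap.map_perm] at h1
  rw [← h1, smul_smul]
  simp

end Coord

section Layer

variable (lam : B) {n : ℕ} (t : Fin n → B)
    (bΩ : Module.Basis (Fin n) B (KaehlerDifferential A B))
    (hbΩ : ∀ i, bΩ i = KaehlerDifferential.D A B (t i))
    (ω : Module.Basis (Fin n) B L) (ι : KaehlerDifferential A B →ₗ[B] L)
    (hι : ∀ i, ι (KaehlerDifferential.D A B (t i)) = t i • ω i)
    (nabla : E →ₗ[A] E ⊗[B] L)
    (hc : Conn.IsLamConn (ι.compDer (KaehlerDifferential.D A B)) lam nabla)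

omit [Module A L] [IsScalarTower A B L] in
theorem mem_layer_iff (p : ℕ) (x : E ⊗[B] ↥(⋀[B]^p L)) :
    x ∈ LogConn.layer nabla ω t p ↔
      ∀ K : Set.powersetCard (Fin n) p,
        LogConn.coordE (E := E) ω p K x ∈ LogConn.piece nabla ω t (K : Finset (Fin n)) := by
  unfold LogConn.layer
  simp only [Submodule.mem_iInf, Submodule.mem_comap, LinearMap.coe_restrictScalars]

include hbΩ hι in
omit [Module A L] [IsScalarTower A B L] in
/-- the `ω`-coordinates of a form without poles are divisible by the coordinates `t` -/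
theorem coord_ι (η : KaehlerDifferential A B) (i : Fin n) :
    ω.coord i (ι η) = bΩ.repr η i * t i := by
  have h1 : ι η = ∑ j, (bΩ.repr η j * t j) • ω j := by
    conv_lhs => rw [← bΩ.sum_repr η]
    rw [map_sum]
    refine Finset.sum_congr rfl (fun j _ => ?_)
    rw [map_smul, hbΩ, hι, smul_smul]
  rw [h1, Module.Basis.coord_apply, ω.repr_sum_self]

include hbΩ hι hc in
theorem smul_mem_layer (p : ℕ) (b : B) {x : E ⊗[B] ↥(⋀[B]^p L)}
    (hx : x ∈ LogConn.layer nabla ω t p) : b • x ∈ LogConn.layer nabla ω t p := by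
  rw [mem_layer_iff] at hx ⊢
  intro K
  rw [map_smul]
  exact s16792 lam t bΩ hbΩ ω ι hι nabla hc _ b _ (hx K)

omit [Module A L] [IsScalarTower A B L] in
theorem tmul_basis_mem_layer (p : ℕ) (K : Set.powersetCard (Fin n) p) {y : E}
    (hy : y ∈ LogConn.piece nabla ω t (K : Finset (Fin n))) :
    y ⊗ₜ[B] (ω.exteriorPower p K) ∈ LogConn.layer nabla ω t p := by
  rw [mem_layer_iff]
  intro K'
  rw [coordE_tmul_basis]
  split_ifs with h
  · subst h; exact hy
  · exact Submodule.zero_mem _

include hbΩ hι hc in
/-- Generators lie in the layer. -/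
theorem gens_subset_layer (p : ℕ) :
    LogConn.gens nabla ω ι p ⊆ (LogConn.layer nabla ω t p : Set (E ⊗[B] ↥(⋀[B]^p L))) := by
  classical
  rintro x ⟨I, hIp, e, v, hv₁, hv₂, rfl⟩
  rw [SetLike.mem_coe, mem_layer_iff]
  intro K
  rw [coordE_tmul, exteriorPower.basis_coord, exteriorPower.ιMultiDual_apply_ιMulti]
  by_cases hIK : I ⊆ K.val
  · -- divisibility of the determinant by `∏_{K \ I} t`
    have hdvd : (∏ i ∈ K.val \ I, t i) ∣
        (Matrix.of fun i j => ω.coord (Set.powersetCard.ofFinEmbEquiv.symm K j) (v i)).det := by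
      rw [Matrix.det_apply]
      apply Finset.dvd_sum
      intro σ _
      rw [Units.smul_def, zsmul_eq_mul]
      apply Dvd.dvd.mul_left
      set Kj : Fin p → Fin n := fun j => Set.powersetCard.ofFinEmbEquiv.symm K j with hKj
      have hKjinj : Function.Injective Kj := (Set.powersetCard.ofFinEmbEquiv.symm K).injective
      let F : Finset (Fin p) := Finset.univ.filter (fun j => Kj j ∉ I)
      have hF : K.val \ I = F.image Kj := by
        ext x
        simp only [Finset.mem_sdiff, Finset.mem_image, Finset.mem_filter, Finset.mem_univ, true_and, F]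
        constructor
        · rintro ⟨hxK, hxI⟩
          have : x ∈ Set.range (Set.powersetCard.ofFinEmbEquiv.symm K) :=
            (Set.powersetCard.mem_range_ofFinEmbEquiv_symm_iff_mem K x).mpr hxK
          obtain ⟨j, rfl⟩ := this
          exact ⟨j, hxI, rfl⟩
        · rintro ⟨j, hj, rfl⟩
          refine ⟨?_, hj⟩
          exact (Set.powersetCard.mem_range_ofFinEmbEquiv_symm_iff_mem K _).mp ⟨j, rfl⟩
      rw [hF, Finset.prod_image (fun a _ b _ h => hKjinj h)]
      refine dvd_trans ?_ (Finset.prod_dvd_prod_of_subset F Finset.univ _ (Finset.subset_univ _))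
      apply Finset.prod_dvd_prod_of_dvd
      intro j hj
      have hjI : Kj j ∉ I := (Finset.mem_filter.mp hj).2
      simp only [Matrix.of_apply]
      by_cases hσ : (σ j).val < I.card
      · rw [hv₁ (σ j) hσ, Module.Basis.coord_apply, Module.Basis.repr_self, Finsupp.single_apply,
          if_neg]
        · exact dvd_zero _
        · intro h
          apply hjI
          rw [hKj]
          simp only
          rw [← h]
          exact Finset.orderEmbOfFin_mem I rfl _
      · obtain ⟨η, hη⟩ := hv₂ (σ j) (not_lt.mp hσ)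
        rw [← hη, coord_ι t bΩ hbΩ ω ι hι]
        exact Dvd.intro_left _ rfl
    obtain ⟨b, hb⟩ := hdvd
    rw [hb, mul_comm, ← smul_smul]
    exact s16792 lam t bΩ hbΩ ω ι hι nabla hc _ b _ (gen_mem nabla ω t hIK e)
  · -- a row of the matrix vanishes
    obtain ⟨i, hiI, hiK⟩ := Finset.not_subset.mp hIK
    have hi' : i ∈ Set.range (I.orderEmbOfFin rfl) := by
      rw [Finset.range_orderEmbOfFin]; exact hiI
    obtain ⟨k, rfl⟩ := hi'
    have hkp : k.val < p := lt_of_lt_of_le k.isLt hIp
    have hdet : (Matrix.of fun i j => ω.coord (Set.powersetCard.ofFinEmbEquiv.symm K j) (v i)).det = 0 := by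
      apply Matrix.det_eq_zero_of_row_eq_zero ⟨k.val, hkp⟩
      intro j
      simp only [Matrix.of_apply]
      rw [hv₁ ⟨k.val, hkp⟩ k.isLt, Module.Basis.coord_apply, Module.Basis.repr_self,
        Finsupp.single_apply, if_neg]
      intro h
      apply hiK
      have : (Set.powersetCard.ofFinEmbEquiv.symm K j) ∈ K.val :=
        (Set.powersetCard.mem_range_ofFinEmbEquiv_symm_iff_mem K _).mp ⟨j, rfl⟩
      rw [← h] at this
      exact this
    rw [hdet, zero_smul]
    exact Submodule.zero_mem _

omit [Module A L] [IsScalarTower A B L] in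
include hι in
/-- The element `t_{K∖J} ∇_J(e) ⊗ ω_K` is, up to a sign, one of the generators. -/
theorem smul_compProd_tmul_basis_mem_span (p : ℕ) (K : Set.powersetCard (Fin n) p)
    {J : Finset (Fin n)} (hJ : J ⊆ K.val) (e : E) :
    ((∏ i ∈ K.val \ J, t i) • LogConn.compProd nabla ω J e) ⊗ₜ[B] (ω.exteriorPower p K) ∈
      Submodule.span B (LogConn.gens nabla ω ι p) := by
  classical
  have hJp : J.card ≤ p := by rw [← K.prop]; exact Finset.card_le_card hJ
  have hcard : (K.val \ J).card = p - J.card := by
    rw [Finset.card_sdiff_of_subset hJ, K.prop]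
  -- the enumeration: first `J` in increasing order, then `K \ J` in increasing order
  let g : Fin p → Fin n := fun k =>
    if hk : k.val < J.card then J.orderEmbOfFin rfl ⟨k.val, hk⟩
    else (K.val \ J).orderEmbOfFin hcard ⟨k.val - J.card, by omega⟩
  have hg_lt : ∀ (k : Fin p) (hk : k.val < J.card), g k = J.orderEmbOfFin rfl ⟨k.val, hk⟩ := by
    intro k hk; simp only [g, dif_pos hk]
  have hg_ge : ∀ (k : Fin p) (hk : ¬ k.val < J.card),
      g k = (K.val \ J).orderEmbOfFin hcard ⟨k.val - J.card, by omega⟩ := by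
    intro k hk; simp only [g, dif_neg hk]
  have hg_memJ : ∀ (k : Fin p), k.val < J.card → g k ∈ J := by
    intro k hk; rw [hg_lt k hk]; exact Finset.orderEmbOfFin_mem J rfl _
  have hg_memKJ : ∀ (k : Fin p), ¬ k.val < J.card → g k ∈ K.val \ J := by
    intro k hk; rw [hg_ge k hk]; exact Finset.orderEmbOfFin_mem _ hcard _
  have hgK : ∀ k, g k ∈ K.val := by
    intro k
    by_cases hk : k.val < J.card
    · exact hJ (hg_memJ k hk)
    · exact (Finset.mem_sdiff.mp (hg_memKJ k hk)).1
  have hginj : Function.Injective g := by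
    intro k k' h
    by_cases hk : k.val < J.card <;> by_cases hk' : k'.val < J.card
    · rw [hg_lt k hk, hg_lt k' hk'] at h
      have := (J.orderEmbOfFin rfl).injective h
      exact Fin.ext (by simpa using congrArg Fin.val this)
    · exact absurd (h ▸ hg_memJ k hk) (Finset.mem_sdiff.mp (hg_memKJ k' hk')).2
    · exact absurd (h.symm ▸ hg_memJ k' hk') (Finset.mem_sdiff.mp (hg_memKJ k hk)).2
    · rw [hg_ge k hk, hg_ge k' hk'] at h
      have := ((K.val \ J).orderEmbOfFin hcard).injective h
      have h2 : k.val - J.card = k'.val - J.card := by simpa using congrArg Fin.val this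
      exact Fin.ext (by omega)
  -- the coefficients
  let c : Fin p → B := fun k => if k.val < J.card then 1 else t (g k)
  let v : Fin p → L := fun k => c k • ω (g k)
  have hv₁ : ∀ (k : Fin p) (hk : k.val < J.card), v k = ω (J.orderEmbOfFin rfl ⟨k.val, hk⟩) := by
    intro k hk
    simp only [v, c, if_pos hk, one_smul, hg_lt k hk]
  have hv₂ : ∀ k : Fin p, J.card ≤ k.val → v k ∈ LinearMap.range ι := by
    intro k hk
    have hk' : ¬ k.val < J.card := not_lt.mpr hk
    simp only [v, c, if_neg hk']
    exact ⟨KaehlerDifferential.D A B (t (g k)), hι (g k)⟩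
  have hgen : LogConn.compProd nabla ω J e ⊗ₜ[B] exteriorPower.ιMulti B p v ∈
      LogConn.gens nabla ω ι p := ⟨J, hJp, e, v, hv₁, hv₂, rfl⟩
  have hprod : ∏ k, c k = ∏ i ∈ K.val \ J, t i := by
    have hF : K.val \ J = (Finset.univ.filter (fun k : Fin p => ¬ k.val < J.card)).image g := by
      apply Finset.eq_of_superset_of_card_ge
      · intro x hx
        obtain ⟨k, hk, rfl⟩ := Finset.mem_image.mp hx
        exact hg_memKJ k (Finset.mem_filter.mp hk).2
      · rw [Finset.card_image_of_injective _ hginj, hcard]
        have h1 : (Finset.univ.filter (fun k : Fin p => ¬ k.val < J.card)).card +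
            (Finset.univ.filter (fun k : Fin p => k.val < J.card)).card = p := by
          rw [add_comm, Finset.card_filter_add_card_filter_not]
          simp
        have h2 : (Finset.univ.filter (fun k : Fin p => k.val < J.card)).card = J.card := by
          rw [Fin.card_filter_val_lt]
          exact min_eq_right hJp
        omega
    rw [hF, Finset.prod_image (fun a _ b _ h => hginj h), Finset.prod_filter]
    refine Finset.prod_congr rfl (fun k _ => ?_)
    simp only [c]
    split_ifs <;> rfl
  obtain ⟨ε, hε⟩ := ιMulti_comp_eq_sign_smul ω p g hginj K hgK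
  have hv : exteriorPower.ιMulti B p v = (∏ k, c k) • exteriorPower.ιMulti B p (ω ∘ g) := by
    have := (exteriorPower.ιMulti B p (M := L)).map_smul_univ c (ω ∘ g)
    exact this
  have key : ((∏ i ∈ K.val \ J, t i) • LogConn.compProd nabla ω J e) ⊗ₜ[B] (ω.exteriorPower p K) =
      ε • (LogConn.compProd nabla ω J e ⊗ₜ[B] exteriorPower.ιMulti B p v) := by
    have hεB : ∀ z : ↥(⋀[B]^p L), ε • z = (((ε : ℤ) : B)) • z := by
      intro z; rw [Units.smul_def]; exact (Int.cast_smul_eq_zsmul B (ε : ℤ) z).symm
    have hεB' : ∀ z : E ⊗[B] ↥(⋀[B]^p L), ε • z = (((ε : ℤ) : B)) • z := by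
      intro z; rw [Units.smul_def]; exact (Int.cast_smul_eq_zsmul B (ε : ℤ) z).symm
    have hεε : (((ε : ℤ) : B)) * (((ε : ℤ) : B)) = 1 := by
      rw [← Int.cast_mul, ← Units.val_mul, Int.units_mul_self]; simp
    rw [hv, hε, hprod, hεB, hεB', smul_tmul', tmul_smul, tmul_smul, smul_tmul', smul_tmul',
      smul_smul, smul_smul, mul_right_comm, mul_assoc, hεε, mul_one]
  rw [key]
  exact Submodule.smul_of_tower_mem _ ε (Submodule.subset_span hgen)

include hι in
theorem layer_le_span_gens (p : ℕ) :
    LogConn.layer nabla ω t p ≤ (Submodule.span B (LogConn.gens nabla ω ι p)).restrictScalars A := by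
  intro x hx
  rw [mem_layer_iff] at hx
  rw [sum_coordE_tmul ω p x]
  apply Submodule.sum_mem
  intro K _
  have hle : LogConn.piece nabla ω t (K : Finset (Fin n)) ≤
      ((Submodule.span B (LogConn.gens nabla ω ι p)).restrictScalars A).comap
        (((TensorProduct.mk B E ↥(⋀[B]^p L)).flip (ω.exteriorPower p K)).restrictScalars A) := by
    apply piece_le
    intro J hJ e
    rw [Submodule.mem_comap, Submodule.restrictScalars_mem]
    exact smul_compProd_tmul_basis_mem_span t ω ι hι nabla p K hJ e
  exact hle (hx K)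

include hbΩ hι hc in
theorem span_gens_eq_layer (p : ℕ) :
    (Submodule.span B (LogConn.gens nabla ω ι p)).restrictScalars A = LogConn.layer nabla ω t p := by
  apply le_antisymm
  · intro x hx
    rw [Submodule.restrictScalars_mem] at hx
    induction hx using Submodule.span_induction with
    | mem x h => exact gens_subset_layer lam t bΩ hbΩ ω ι hι nabla hc p h
    | zero => exact Submodule.zero_mem _
    | add x y _ _ hx hy => exact Submodule.add_mem _ hx hy
    | smul b x _ hx => exact smul_mem_layer lam t bΩ hbΩ ω ι hι nabla hc p b hx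
  · exact layer_le_span_gens t ω ι hι nabla p

end Layer

end Groth.Agent.R2.H79.LogConn
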