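import Mathlib
import Groth.Agent.R2.H79LogConn

/-!
# Layers of a logarithmic λ-connection, part B: the extended maps `∇^p` preserve the layers
(helper for S16797).
-/

set_option autoImplicit false
universe v u
open TensorProduct

namespace Groth.Agent.R2.H79.LogConnB

open Groth.Agent.Lib.Helper24LogConn Groth.Agent.R2.H79.LogConn

variable {A : Type v} {B L E : Type u} [CommRing A] [CommRing B]
    [Algebra A B] [AddCommGroup L] [Module B L] [Module A L] [IsScalarTower A B L]
    [AddCommGroup E] [Module B E] [Module A E] [IsScalarTower A B E]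

section Wedge

variable {n : ℕ} (ω : Module.Basis (Fin n) B L)

omit [CommRing A] [Algebra A B] [Module A L] [IsScalarTower A B L] in
/-- `l ∧ (e₁ ∧ ⋯ ∧ e_p) = l ∧ e₁ ∧ ⋯ ∧ e_p` in the notation of `Conn.wedge`. -/
theorem wedge_oneEquiv_symm_ιMulti (p : ℕ) (l : L) (e : Fin p → L) :
    Conn.wedge p ((exteriorPower.oneEquiv B L).symm l) (exteriorPower.ιMulti B p e) =
      exteriorPower.ιMulti B (p + 1) (Fin.cons l e) := by
  apply Subtype.ext
  rw [Conn.wedge_apply_coe, exteriorPower.oneEquiv_symm_apply, exteriorPower.ιMulti_apply_coe,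
    exteriorPower.ιMulti_apply_coe, exteriorPower.ιMulti_apply_coe,
    ExteriorAlgebra.ιMulti_succ_apply, ExteriorAlgebra.ιMulti_succ_apply]
  simp only [ExteriorAlgebra.ιMulti_zero_apply, mul_one, Fin.cons_zero]
  congr 2

omit [Module A L] [IsScalarTower A B L] [Module A E] [IsScalarTower A B E] [CommRing A] [Algebra A B] in
/-- expansion of an element of `E ⊗ L` along the basis `ω` -/
theorem sum_coord_tmul (z : E ⊗[B] L) :
    z = ∑ i, (TensorProduct.rid B E (TensorProduct.map LinearMap.id (ω.coord i) z)) ⊗ₜ[B] ω i := by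
  induction z using TensorProduct.induction_on with
  | zero => simp
  | add x y hx hy =>
    conv_lhs => rw [hx, hy]
    rw [← Finset.sum_add_distrib]
    refine Finset.sum_congr rfl (fun K _ => ?_)
    rw [map_add, map_add, add_tmul]
  | tmul y l =>
    simp only [TensorProduct.map_tmul, LinearMap.id_apply, TensorProduct.rid_tmul]
    conv_lhs => rw [← ω.sum_repr l]
    rw [tmul_sum]
    refine Finset.sum_congr rfl (fun K _ => ?_)
    rw [tmul_smul, smul_tmul', Module.Basis.coord_apply]

omit [Module A L] [IsScalarTower A B L] in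
theorem nabla_eq_sum_comp (nabla : E →ₗ[A] E ⊗[B] L) (e : E) :
    nabla e = ∑ i, LogConn.comp nabla ω i e ⊗ₜ[B] ω i :=
  sum_coord_tmul ω (nabla e)

end Wedge

section Main

variable (lam : B) {n : ℕ} (t : Fin n → B)
    (bΩ : Module.Basis (Fin n) B (KaehlerDifferential A B))
    (hbΩ : ∀ i, bΩ i = KaehlerDifferential.D A B (t i))
    (ω : Module.Basis (Fin n) B L) (ι : KaehlerDifferential A B →ₗ[B] L)
    (hι : ∀ i, ι (KaehlerDifferential.D A B (t i)) = t i • ω i)
    (nabla : E →ₗ[A] E ⊗[B] L)
    (hc : Conn.IsLamConn (ι.compDer (KaehlerDifferential.D A B)) lam nabla)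
    (d : ∀ p : ℕ, ↥(⋀[B]^p L) →ₗ[A] ↥(⋀[B]^(p + 1) L))
    (hd : LogDiff.IsLogRule (KaehlerDifferential.D A B) ι (⇑ω) d)
    (nablas : ∀ p : ℕ, E ⊗[B] ↥(⋀[B]^p L) →ₗ[A] E ⊗[B] ↥(⋀[B]^(p + 1) L))
    (hint : Conn.IsIntegrable nabla (fun p => lam • d p) nablas)

include hd in
/-- the log differential kills wedge products of the `ω i` -/
theorem d_ιMulti_ω (p : ℕ) (g : Fin p → Fin n) : d p (exteriorPower.ιMulti B p (ω ∘ g)) = 0 := by
  have h := hd p 1 (ω ∘ g) (fun k => Or.inr ⟨g k, rfl⟩)
  rw [one_smul] at h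
  rw [h]
  apply (exteriorPower.ιMulti B (p + 1) (M := L)).map_coord_zero 0
  rw [Fin.cons_zero, Derivation.map_one_eq_zero, map_zero]

include hd hint in
theorem nablas_tmul_ω (p : ℕ) (y : E) (g : Fin p → Fin n) :
    nablas p (y ⊗ₜ[B] exteriorPower.ιMulti B p (ω ∘ g)) =
      ∑ i, LogConn.comp nabla ω i y ⊗ₜ[B] exteriorPower.ιMulti B (p + 1) (ω ∘ (Fin.cons i g : Fin (p + 1) → Fin n)) := by
  rw [hint.1 p y _]
  have hd0 : (lam • d p) (exteriorPower.ιMulti B p (ω ∘ g)) = 0 := by
    rw [LinearMap.smul_apply, d_ιMulti_ω ω ι d hd p g, smul_zero]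
  rw [hd0, tmul_zero, add_zero, nabla_eq_sum_comp ω nabla y, map_sum, map_sum, LinearMap.sum_apply]
  refine Finset.sum_congr rfl (fun i _ => ?_)
  rw [Conn.toOne_tmul, Conn.twedge_tmul, wedge_oneEquiv_symm_ιMulti]
  congr 2
  funext k
  refine Fin.cases ?_ (fun k' => ?_) k
  · simp
  · simp

include hd hint in
theorem comp_comm_of_lt (a b : Fin n) (hab : a < b) (e : E) :
    LogConn.comp nabla ω a (LogConn.comp nabla ω b e) =
      LogConn.comp nabla ω b (LogConn.comp nabla ω a e) := by
  classical
  have h0 := hint.2 e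
  rw [nabla_eq_sum_comp ω nabla e, map_sum, map_sum] at h0
  have h1 : ∀ i, nablas 1 (Conn.toOne (LogConn.comp nabla ω i e ⊗ₜ[B] ω i)) =
      ∑ j, LogConn.comp nabla ω j (LogConn.comp nabla ω i e) ⊗ₜ[B]
        exteriorPower.ιMulti B 2 (ω ∘ (Fin.cons j (fun _ : Fin 1 => i) : Fin 2 → Fin n)) := by
    intro i
    rw [Conn.toOne_tmul, exteriorPower.oneEquiv_symm_apply]
    exact nablas_tmul_ω lam ω ι nabla d hd nablas hint 1 _ (fun _ => i)
  simp only [h1] at h0
  have hcard : ({a, b} : Finset (Fin n)).card = 2 := Finset.card_pair hab.ne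
  let K : Set.powersetCard (Fin n) 2 := ⟨{a, b}, hcard⟩
  have hf : (![a, b] : Fin 2 → Fin n) = ({a, b} : Finset (Fin n)).orderEmbOfFin hcard := by
    apply Finset.orderEmbOfFin_unique hcard
    · intro x; fin_cases x <;> simp
    · intro x y hxy
      fin_cases x <;> fin_cases y <;> simp_all
  have hK0 : Set.powersetCard.ofFinEmbEquiv.symm K 0 = a := by
    rw [Set.powersetCard.ofFinEmbEquiv_symm_apply]
    exact (congrFun hf 0).symm
  have hK1 : Set.powersetCard.ofFinEmbEquiv.symm K 1 = b := by
    rw [Set.powersetCard.ofFinEmbEquiv_symm_apply]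
    exact (congrFun hf 1).symm
  have h2 := congrArg (LogConn.coordE (E := E) ω 2 K) h0
  rw [map_zero, map_sum] at h2
  simp only [map_sum, coordE_tmul, exteriorPower.basis_coord, exteriorPower.ιMultiDual_apply_ιMulti,
    Matrix.det_fin_two, Matrix.of_apply, hK0, hK1, Function.comp_apply, Fin.cons_zero,
    Module.Basis.coord_apply, Module.Basis.repr_self, Finsupp.single_apply] at h2
  have h3 : ∀ i j : Fin n, (Fin.cons j (fun _ : Fin 1 => i) : Fin 2 → Fin n) 1 = i := by
    intro i j; rfl
  simp only [h3, sub_smul, Finset.sum_sub_distrib, ite_smul, one_smul,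
    zero_smul, mul_ite, mul_one, mul_zero] at h2
  simp only [← ite_and] at h2
  have key : ∀ (F : Fin n → Fin n → E) (c d : Fin n),
      (∑ x, ∑ x1, if x = c ∧ x1 = d then F x1 x else 0) = F d c := by
    intro F c d
    rw [Finset.sum_eq_single c, Finset.sum_eq_single d]
    · simp
    · intro x1 _ hx1; simp [hx1]
    · simp
    · intro x _ hx; simp [hx]
    · simp
  rw [key (fun x1 x => LogConn.comp nabla ω x1 (LogConn.comp nabla ω x e)),
    key (fun x1 x => LogConn.comp nabla ω x1 (LogConn.comp nabla ω x e))] at h2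
  exact sub_eq_zero.mp h2

include hd hint in
theorem comp_comm (a b : Fin n) (e : E) :
    LogConn.comp nabla ω a (LogConn.comp nabla ω b e) =
      LogConn.comp nabla ω b (LogConn.comp nabla ω a e) := by
  rcases lt_trichotomy a b with hab | hab | hab
  · exact comp_comm_of_lt lam ω ι nabla d hd nablas hint a b hab e
  · subst hab; rfl
  · exact (comp_comm_of_lt lam ω ι nabla d hd nablas hint b a hab e).symm

include hd hint in
/-- with commuting components, `∇_i ∘ ∇_J = ∇_{J ∪ i}` for `i ∉ J`, whatever the position of `i` -/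
theorem comp_compProd (i : Fin n) (J : Finset (Fin n)) (hi : i ∉ J) (e : E) :
    LogConn.comp nabla ω i (LogConn.compProd nabla ω J e) =
      LogConn.compProd nabla ω (insert i J) e := by
  classical
  induction J using Finset.induction_on_min generalizing e with
  | empty =>
    rw [compProd_insert nabla ω i ∅ (by simp)]
    rfl
  | insert j J' hj ih =>
    have hij : i ≠ j := fun h => hi (h ▸ Finset.mem_insert_self _ _)
    have hiJ' : i ∉ J' := fun h => hi (Finset.mem_insert_of_mem h)
    rcases lt_or_gt_of_ne hij with h | h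
    · rw [compProd_insert nabla ω i (insert j J') (by
        intro x hx
        rcases Finset.mem_insert.mp hx with rfl | hx
        · exact h
        · exact h.trans (hj x hx))]
      rfl
    · rw [compProd_insert nabla ω j J' hj, LinearMap.comp_apply,
        comp_comm lam ω ι nabla d hd nablas hint i j, ih hiJ', Finset.insert_comm i j J',
        compProd_insert nabla ω j (insert i J') (by
          intro x hx
          rcases Finset.mem_insert.mp hx with rfl | hx
          · exact h
          · exact hj x hx)]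
      rfl

include hbΩ hι hc hd hint in
theorem comp_mem_piece_insert (i : Fin n) (K : Finset (Fin n)) (hi : i ∉ K) {y : E}
    (hy : y ∈ LogConn.piece nabla ω t K) :
    LogConn.comp nabla ω i y ∈ LogConn.piece nabla ω t (insert i K) := by
  classical
  have h : LogConn.piece nabla ω t K ≤
      (LogConn.piece nabla ω t (insert i K)).comap (LogConn.comp nabla ω i) := by
    apply piece_le
    intro J hJ e
    rw [Submodule.mem_comap, comp_smul lam t bΩ hbΩ ω ι hι nabla hc i (∏ k ∈ K \ J, t k)
      (LogConn.compProd nabla ω J e),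
      pd_prod t bΩ hbΩ i (K \ J) (fun h => hi (Finset.mem_sdiff.mp h).1), zero_mul, mul_zero,
      zero_smul, add_zero,
      comp_compProd lam ω ι nabla d hd nablas hint i J (fun h => hi (hJ h)) e]
    have e2 : K \ J = insert i K \ insert i J := by
      ext x
      simp only [Finset.mem_sdiff, Finset.mem_insert]
      constructor
      · rintro ⟨h1, h2⟩
        exact ⟨Or.inr h1, fun h => h.elim (fun h3 => hi (h3 ▸ h1)) h2⟩
      · rintro ⟨h1 | h1, h2⟩
        · exact absurd (Or.inl h1) h2
        · exact ⟨h1, fun h3 => h2 (Or.inr h3)⟩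
    rw [e2]
    exact gen_mem nabla ω t (Finset.insert_subset_insert i hJ) e
  exact h hy

include hbΩ hι hc hd hint in
theorem nablas_mem_layer (p : ℕ) (x : E ⊗[B] ↥(⋀[B]^p L)) (hx : x ∈ LogConn.layer nabla ω t p) :
    nablas p x ∈ LogConn.layer nabla ω t (p + 1) := by
  classical
  rw [mem_layer_iff] at hx
  rw [sum_coordE_tmul ω p x, map_sum]
  apply Submodule.sum_mem
  intro K _
  have hyK := hx K
  generalize LogConn.coordE (E := E) ω p K x = y at hyK
  rw [exteriorPower.basis_apply, exteriorPower.ιMulti_family,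
    nablas_tmul_ω lam ω ι nabla d hd nablas hint p y _]
  apply Submodule.sum_mem
  intro i _
  by_cases hiK : i ∈ K.val
  · -- repeated index: the wedge vanishes
    have h0 : exteriorPower.ιMulti B (p + 1)
        (ω ∘ (Fin.cons i (Set.powersetCard.ofFinEmbEquiv.symm K) : Fin (p + 1) → Fin n)) = 0 := by
      apply AlternatingMap.map_eq_zero_of_not_injective
      intro hinj
      obtain ⟨k, hk⟩ : i ∈ Set.range (Set.powersetCard.ofFinEmbEquiv.symm K) :=
        (Set.powersetCard.mem_range_ofFinEmbEquiv_symm_iff_mem K i).mpr hiK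
      have h1 : (ω ∘ (Fin.cons i (Set.powersetCard.ofFinEmbEquiv.symm K) : Fin (p + 1) → Fin n)) 0 =
          (ω ∘ (Fin.cons i (Set.powersetCard.ofFinEmbEquiv.symm K) : Fin (p + 1) → Fin n)) k.succ := by
        simp [hk]
      exact (Fin.succ_ne_zero k) (hinj h1).symm
    rw [h0, tmul_zero]
    exact Submodule.zero_mem _
  · have hcard : (insert i K.val).card = p + 1 := by
      rw [Finset.card_insert_of_notMem hiK, K.prop]
    let K' : Set.powersetCard (Fin n) (p + 1) := ⟨insert i K.val, hcard⟩
    have hmem : ∀ k, Set.powersetCard.ofFinEmbEquiv.symm K k ∈ K.val := fun k =>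
      (Set.powersetCard.mem_range_ofFinEmbEquiv_symm_iff_mem K _).mp ⟨k, rfl⟩
    have hginj : Function.Injective
        (Fin.cons i (Set.powersetCard.ofFinEmbEquiv.symm K) : Fin (p + 1) → Fin n) := by
      rw [Fin.cons_injective_iff]
      refine ⟨?_, (Set.powersetCard.ofFinEmbEquiv.symm K).injective⟩
      rintro ⟨k, hk⟩
      exact hiK (hk ▸ hmem k)
    have hgK' : ∀ k, (Fin.cons i (Set.powersetCard.ofFinEmbEquiv.symm K) : Fin (p + 1) → Fin n) k ∈
        K'.val := by
      intro k
      refine Fin.cases ?_ (fun k' => ?_) k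
      · simp [K']
      · simp only [Fin.cons_succ, K']
        exact Finset.mem_insert_of_mem (hmem k')
    obtain ⟨ε, hε⟩ := ιMulti_comp_eq_sign_smul ω (p + 1) _ hginj K' hgK'
    rw [hε]
    have hmem' : LogConn.comp nabla ω i y ⊗ₜ[B] (ω.exteriorPower (p + 1) K') ∈
        LogConn.layer nabla ω t (p + 1) :=
      tmul_basis_mem_layer t ω nabla (p + 1) K'
        (comp_mem_piece_insert lam t bΩ hbΩ ω ι hι nabla hc d hd nablas hint i K.val hiK hyK)
    rcases Int.units_eq_one_or ε with rfl | rfl
    · rw [one_smul]; exact hmem'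
    · rw [Units.neg_smul, one_smul, tmul_neg]; exact Submodule.neg_mem _ hmem'

end Main

end Groth.Agent.R2.H79.LogConnB
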