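import Mathlib
import Groth.Agent.R2.H79LogConnB

/-!
# Layers of a logarithmic λ-connection, part C: independence of the coordinates
(helper for S16798).
-/

set_option autoImplicit false
universe v u
open TensorProduct

namespace Groth.Agent.R2.H79.LogConnC

open Groth.Agent.Lib.Helper24LogConn Groth.Agent.R2.H79.LogConn Groth.Agent.R2.H79.LogConnB

variable {A : Type v} {B L E : Type u} [CommRing A] [CommRing B]
    [Algebra A B] [AddCommGroup L] [Module B L] [Module A L] [IsScalarTower A B L]
    [AddCommGroup E] [Module B E] [Module A E] [IsScalarTower A B E]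

section Sys

variable (lam : B) {n : ℕ} (t : Fin n → B)
    (bΩ : Module.Basis (Fin n) B (KaehlerDifferential A B))
    (hbΩ : ∀ i, bΩ i = KaehlerDifferential.D A B (t i))
    (ω : Module.Basis (Fin n) B L) (ι : KaehlerDifferential A B →ₗ[B] L)
    (hι : ∀ i, ι (KaehlerDifferential.D A B (t i)) = t i • ω i)
    (nabla : E →ₗ[A] E ⊗[B] L)
    (hc : Conn.IsLamConn (ι.compDer (KaehlerDifferential.D A B)) lam nabla)

include hbΩ hι hc in
/-- `E_{j ∪ J'} ⊆ t_j E_{J'} + ∇_j E_{J'}` for `j` below all of `J'` (no commutation needed). -/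
theorem piece_insert_min_le (j : Fin n) (J' : Finset (Fin n)) (hj : ∀ x ∈ J', j < x) :
    LogConn.piece nabla ω t (insert j J') ≤
      (LogConn.piece nabla ω t J').map ((LinearMap.lsmul B E (t j)).restrictScalars A) ⊔
      (LogConn.piece nabla ω t J').map (LogConn.comp nabla ω j) := by
  classical
  have hjJ' : j ∉ J' := fun h => lt_irrefl j (hj j h)
  apply piece_le
  intro K hK e
  by_cases hjK : j ∈ K
  · -- `K = insert j K₀`
    apply Submodule.mem_sup_right
    have hK₀ : K.erase j ⊆ J' := by
      intro x hx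
      have hx' := Finset.mem_erase.mp hx
      rcases Finset.mem_insert.mp (hK hx'.2) with h | h
      · exact absurd h hx'.1
      · exact h
    have hKeq : K = insert j (K.erase j) := (Finset.insert_erase hjK).symm
    have hsd : insert j J' \ K = J' \ K.erase j := by
      ext x
      simp only [Finset.mem_sdiff, Finset.mem_insert, Finset.mem_erase, not_and]
      constructor
      · rintro ⟨h1 | h1, h2⟩
        · exact absurd (h1 ▸ hjK) h2
        · exact ⟨h1, fun _ => h2⟩
      · rintro ⟨h1, h2⟩
        refine ⟨Or.inr h1, fun h3 => h2 (fun h4 => hjJ' (h4 ▸ h1)) h3⟩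
    refine ⟨(∏ i ∈ J' \ K.erase j, t i) • LogConn.compProd nabla ω (K.erase j) e,
      gen_mem nabla ω t hK₀ e, ?_⟩
    rw [comp_smul lam t bΩ hbΩ ω ι hι nabla hc j, pd_prod t bΩ hbΩ j (J' \ K.erase j)
      (fun h => hjJ' (Finset.mem_sdiff.mp h).1), zero_mul, mul_zero, zero_smul, add_zero, hsd]
    congr 1
    conv_rhs => rw [hKeq]
    rw [compProd_insert nabla ω j (K.erase j) (fun x hx => hj x (hK₀ hx))]
    rfl
  · apply Submodule.mem_sup_left
    have hKJ' : K ⊆ J' := by
      intro x hx
      rcases Finset.mem_insert.mp (hK hx) with h | h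
      · exact absurd (h ▸ hx) hjK
      · exact h
    have hsd : insert j J' \ K = insert j (J' \ K) := by
      ext x
      simp only [Finset.mem_sdiff, Finset.mem_insert]
      constructor
      · rintro ⟨h1 | h1, h2⟩
        · exact Or.inl h1
        · exact Or.inr ⟨h1, h2⟩
      · rintro (h1 | ⟨h1, h2⟩)
        · exact ⟨Or.inl h1, fun h => hjK (h1 ▸ h)⟩
        · exact ⟨Or.inr h1, h2⟩
    refine ⟨(∏ i ∈ J' \ K, t i) • LogConn.compProd nabla ω K e, gen_mem nabla ω t hKJ' e, ?_⟩
    rw [hsd, Finset.prod_insert (fun h => hjJ' (Finset.mem_sdiff.mp h).1), ← smul_smul]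
    rfl

include hbΩ hι hc in
theorem piece_insert_min (j : Fin n) (J' : Finset (Fin n)) (hj : ∀ x ∈ J', j < x) :
    LogConn.piece nabla ω t (insert j J') =
      (LogConn.piece nabla ω t J').map ((LinearMap.lsmul B E (t j)).restrictScalars A) ⊔
      (LogConn.piece nabla ω t J').map (LogConn.comp nabla ω j) := by
  classical
  have hjJ' : j ∉ J' := fun h => lt_irrefl j (hj j h)
  apply le_antisymm (piece_insert_min_le lam t bΩ hbΩ ω ι hι nabla hc j J' hj)
  apply sup_le
  · rintro _ ⟨y, hy, rfl⟩
    have := smul_piece_mem nabla ω t (Finset.subset_insert j J') hy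
    have hs : insert j J' \ J' = {j} := by
      ext x
      simp only [Finset.mem_sdiff, Finset.mem_insert, Finset.mem_singleton]
      constructor
      · rintro ⟨h1 | h1, h2⟩
        · exact h1
        · exact absurd h1 h2
      · rintro rfl
        exact ⟨Or.inl rfl, hjJ'⟩
    rwa [hs, Finset.prod_singleton] at this
  · rintro _ ⟨y, hy, rfl⟩
    exact comp_piece lam t bΩ hbΩ ω ι hι nabla hc j J' hj hy

variable (hcomm : ∀ (a b : Fin n) (e : E),
    LogConn.comp nabla ω a (LogConn.comp nabla ω b e) =
      LogConn.comp nabla ω b (LogConn.comp nabla ω a e))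

include hcomm in
theorem comp_compProd_comm (j : Fin n) (J : Finset (Fin n)) (e : E) :
    LogConn.comp nabla ω j (LogConn.compProd nabla ω J e) =
      LogConn.compProd nabla ω J (LogConn.comp nabla ω j e) := by
  classical
  induction J using Finset.induction_on_min generalizing e with
  | empty => rw [compProd_empty]; rfl
  | insert a J' ha ih =>
    rw [compProd_insert nabla ω a J' ha, LinearMap.comp_apply, LinearMap.comp_apply, hcomm, ih]

include hbΩ in
omit [Module A L] [IsScalarTower A B L] [AddCommGroup E] [Module B E] [Module A E] [IsScalarTower A B E]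
  [AddCommGroup L] [Module B L] in
theorem pd_prod_mul (j : Fin n) (S : Finset (Fin n)) :
    ∃ c : B, pd bΩ j (∏ k ∈ S, t k) * t j = c * ∏ k ∈ S, t k := by
  classical
  induction S using Finset.induction_on with
  | empty =>
    refine ⟨0, ?_⟩
    rw [Finset.prod_empty, (pd bΩ j).map_one_eq_zero, zero_mul, zero_mul]
  | insert a S ha ih =>
    obtain ⟨c, hc'⟩ := ih
    rw [Finset.prod_insert ha, Derivation.leibniz, pd_t t bΩ hbΩ]
    by_cases haj : a = j
    · subst haj
      refine ⟨c + 1, ?_⟩
      rw [if_pos rfl, smul_eq_mul, smul_eq_mul, add_mul, mul_assoc, hc']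
      ring
    · refine ⟨c, ?_⟩
      rw [if_neg haj, smul_zero, add_zero, smul_eq_mul, mul_assoc, hc']
      ring

include hbΩ hι hc hcomm in
/-- with commuting components every piece is stable under every component -/
theorem comp_mem_piece (j : Fin n) (K : Finset (Fin n)) {y : E}
    (hy : y ∈ LogConn.piece nabla ω t K) :
    LogConn.comp nabla ω j y ∈ LogConn.piece nabla ω t K := by
  have h : LogConn.piece nabla ω t K ≤
      (LogConn.piece nabla ω t K).comap (LogConn.comp nabla ω j) := by
    apply piece_le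
    intro J hJ e
    obtain ⟨c, hc'⟩ := pd_prod_mul t bΩ hbΩ j (K \ J)
    rw [Submodule.mem_comap, comp_smul lam t bΩ hbΩ ω ι hι nabla hc j, hc',
      comp_compProd_comm ω nabla hcomm j J e]
    apply Submodule.add_mem
    · exact gen_mem nabla ω t hJ _
    · rw [← mul_assoc, ← smul_smul]
      exact s16792 lam t bΩ hbΩ ω ι hι nabla hc K _ _ (gen_mem nabla ω t hJ e)
  exact h hy

include hcomm in
/-- with commuting components, `∇_i ∘ ∇_J = ∇_{J ∪ i}` for `i ∉ J`, whatever the position of `i` -/
theorem comp_compProd' (i : Fin n) (J : Finset (Fin n)) (hi : i ∉ J) (e : E) :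
    LogConn.comp nabla ω i (LogConn.compProd nabla ω J e) =
      LogConn.compProd nabla ω (insert i J) e := by
  classical
  induction J using Finset.induction_on_min generalizing e with
  | empty =>
    rw [compProd_insert nabla ω i ∅ (by simp)]
    rfl
  | insert j J' hj ih =>
    have hij : i ≠ j := fun h => hi (h ▸ Finset.mem_insert_self _ _)
    have hiJ' : i ∉ J' := fun h => hi (Finset.mem_insert_of_mem h)
    rcases lt_or_gt_of_ne hij with h | h
    · rw [compProd_insert nabla ω i (insert j J') (by
        intro x hx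
        rcases Finset.mem_insert.mp hx with rfl | hx
        · exact h
        · exact h.trans (hj x hx))]
      rfl
    · rw [compProd_insert nabla ω j J' hj, LinearMap.comp_apply,
        hcomm i j, ih hiJ', Finset.insert_comm i j J',
        compProd_insert nabla ω j (insert i J') (by
          intro x hx
          rcases Finset.mem_insert.mp hx with rfl | hx
          · exact h
          · exact hj x hx)]
      rfl

include hbΩ hι hc hcomm in
theorem piece_insert_le (i : Fin n) (K : Finset (Fin n)) (hi : i ∉ K) :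
    LogConn.piece nabla ω t (insert i K) ≤ LogConn.piece nabla ω t K := by
  classical
  apply piece_le
  intro K'' hK'' e
  by_cases hiK : i ∈ K''
  · have hK₀ : K''.erase i ⊆ K := by
      intro x hx
      have hx' := Finset.mem_erase.mp hx
      rcases Finset.mem_insert.mp (hK'' hx'.2) with h | h
      · exact absurd h hx'.1
      · exact h
    have hKeq : K'' = insert i (K''.erase i) := (Finset.insert_erase hiK).symm
    have hsd : insert i K \ K'' = K \ K''.erase i := by
      ext x
      simp only [Finset.mem_sdiff, Finset.mem_insert, Finset.mem_erase, not_and]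
      constructor
      · rintro ⟨h1 | h1, h2⟩
        · exact absurd (h1 ▸ hiK) h2
        · exact ⟨h1, fun _ => h2⟩
      · rintro ⟨h1, h2⟩
        refine ⟨Or.inr h1, fun h3 => h2 (fun h4 => hi (h4 ▸ h1)) h3⟩
    have h1 : (∏ k ∈ insert i K \ K'', t k) • LogConn.compProd nabla ω K'' e =
        LogConn.comp nabla ω i
          ((∏ k ∈ K \ K''.erase i, t k) • LogConn.compProd nabla ω (K''.erase i) e) := by
      rw [comp_smul lam t bΩ hbΩ ω ι hι nabla hc i, pd_prod t bΩ hbΩ i (K \ K''.erase i)
        (fun h => hi (Finset.mem_sdiff.mp h).1), zero_mul, mul_zero, zero_smul, add_zero, hsd,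
        comp_compProd' ω nabla hcomm i (K''.erase i) (Finset.notMem_erase i K'') e, ← hKeq]
    rw [h1]
    exact comp_mem_piece lam t bΩ hbΩ ω ι hι nabla hc hcomm i K (gen_mem nabla ω t hK₀ e)
  · have hKK : K'' ⊆ K := by
      intro x hx
      rcases Finset.mem_insert.mp (hK'' hx) with h | h
      · exact absurd (h ▸ hx) hiK
      · exact h
    have hsd : insert i K \ K'' = insert i (K \ K'') := by
      ext x
      simp only [Finset.mem_sdiff, Finset.mem_insert]
      constructor
      · rintro ⟨h1 | h1, h2⟩
        · exact Or.inl h1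
        · exact Or.inr ⟨h1, h2⟩
      · rintro (h1 | ⟨h1, h2⟩)
        · exact ⟨Or.inl h1, fun h => hiK (h1 ▸ h)⟩
        · exact ⟨Or.inr h1, h2⟩
    rw [hsd, Finset.prod_insert (fun h => hi (Finset.mem_sdiff.mp h).1), ← smul_smul]
    exact s16792 lam t bΩ hbΩ ω ι hι nabla hc K _ _ (gen_mem nabla ω t hKK e)

include hbΩ hι hc hcomm in
/-- with commuting components the pieces decrease with the index set -/
theorem piece_antitone {J K : Finset (Fin n)} (hJK : J ⊆ K) :
    LogConn.piece nabla ω t K ≤ LogConn.piece nabla ω t J := by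
  classical
  have key : ∀ S : Finset (Fin n), Disjoint S J →
      LogConn.piece nabla ω t (S ∪ J) ≤ LogConn.piece nabla ω t J := by
    intro S
    induction S using Finset.induction_on with
    | empty => intro _; rw [Finset.empty_union]
    | insert a S ha ih =>
      intro hd
      have hd' : Disjoint S J := Finset.disjoint_of_subset_left (Finset.subset_insert a S) hd
      have haJ : a ∉ J := Finset.disjoint_left.mp hd (Finset.mem_insert_self a S)
      rw [Finset.insert_union]
      refine le_trans (piece_insert_le lam t bΩ hbΩ ω ι hι nabla hc hcomm a (S ∪ J) ?_) (ih hd')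
      intro h
      rcases Finset.mem_union.mp h with h | h
      · exact ha h
      · exact haJ h
  have := key (K \ J) Finset.sdiff_disjoint
  rwa [Finset.sdiff_union_of_subset hJK] at this

end Sys

section Change

variable {n : ℕ}

omit [Module A L] [IsScalarTower A B L] in
/-- components of `∇` in a second basis `ω̃` in terms of those in `ω` -/
theorem comp_change (ω ω' : Module.Basis (Fin n) B L) (nabla : E →ₗ[A] E ⊗[B] L)
    (s : Fin n → Fin n → B) (τ : Fin n → B)
    (hrel : ∀ j l, ω'.coord j (ω l) = (if l = j then 1 else 0) + s l j * τ j) (j : Fin n) (e : E) :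
    LogConn.comp nabla ω' j e =
      LogConn.comp nabla ω j e + τ j • ∑ l, s l j • LogConn.comp nabla ω l e := by
  classical
  have h1 : LogConn.comp nabla ω' j e =
      TensorProduct.rid B E (TensorProduct.map LinearMap.id (ω'.coord j) (nabla e)) := rfl
  rw [h1, nabla_eq_sum_comp ω nabla e, map_sum, map_sum]
  simp only [TensorProduct.map_tmul, LinearMap.id_apply, TensorProduct.rid_tmul, hrel, add_smul,
    Finset.sum_add_distrib, ite_smul, one_smul, zero_smul, Finset.sum_ite_eq', Finset.mem_univ,
    if_true, Finset.smul_sum, smul_smul]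
  congr 1
  refine Finset.sum_congr rfl (fun l _ => ?_)
  rw [mul_comm]

omit [Module A L] [IsScalarTower A B L] in
/-- change of basis for the coordinates of `y ⊗ ω_K` -/
theorem coord_change_mem (ω ω' : Module.Basis (Fin n) B L) (τ : Fin n → B)
    (N : Finset (Fin n) → Submodule A E)
    (hdiv : ∀ i k, i ≠ k → τ k ∣ ω'.coord k (ω i))
    (hN_smul : ∀ (K : Finset (Fin n)) (b : B) (y : E), y ∈ N K → b • y ∈ N K)
    (hN_anti : ∀ J K : Finset (Fin n), J ⊆ K → N K ≤ N J)
    (hN_scale : ∀ J K : Finset (Fin n), J ⊆ K → ∀ y ∈ N J, (∏ i ∈ K \ J, τ i) • y ∈ N K)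
    (p : ℕ) (K : Set.powersetCard (Fin n) p) {y : E} (hy : y ∈ N K.val)
    (K' : Set.powersetCard (Fin n) p) :
    LogConn.coordE (E := E) ω' p K' (y ⊗ₜ[B] (ω.exteriorPower p K)) ∈ N K'.val := by
  classical
  rw [coordE_tmul, exteriorPower.basis_coord, exteriorPower.basis_apply, exteriorPower.ιMulti_family,
    exteriorPower.ιMultiDual_apply_ιMulti]
  have hdvd : (∏ i ∈ K'.val \ K.val, τ i) ∣
      (Matrix.of fun i j => ω'.coord (Set.powersetCard.ofFinEmbEquiv.symm K' j)
        ((ω ∘ (Set.powersetCard.ofFinEmbEquiv.symm K)) i)).det := by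
    rw [Matrix.det_apply]
    apply Finset.dvd_sum
    intro σ _
    rw [Units.smul_def, zsmul_eq_mul]
    apply Dvd.dvd.mul_left
    set Kj : Fin p → Fin n := fun j => Set.powersetCard.ofFinEmbEquiv.symm K' j with hKj
    have hKjinj : Function.Injective Kj := (Set.powersetCard.ofFinEmbEquiv.symm K').injective
    let F : Finset (Fin p) := Finset.univ.filter (fun j => Kj j ∉ K.val)
    have hF : K'.val \ K.val = F.image Kj := by
      ext x
      simp only [Finset.mem_sdiff, Finset.mem_image, Finset.mem_filter, Finset.mem_univ, true_and, F]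
      constructor
      · rintro ⟨hxK, hxI⟩
        have : x ∈ Set.range (Set.powersetCard.ofFinEmbEquiv.symm K') :=
          (Set.powersetCard.mem_range_ofFinEmbEquiv_symm_iff_mem K' x).mpr hxK
        obtain ⟨j, rfl⟩ := this
        exact ⟨j, hxI, rfl⟩
      · rintro ⟨j, hj, rfl⟩
        refine ⟨?_, hj⟩
        exact (Set.powersetCard.mem_range_ofFinEmbEquiv_symm_iff_mem K' _).mp ⟨j, rfl⟩
    rw [hF, Finset.prod_image (fun a _ b _ h => hKjinj h)]
    refine dvd_trans ?_ (Finset.prod_dvd_prod_of_subset F Finset.univ _ (Finset.subset_univ _))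
    apply Finset.prod_dvd_prod_of_dvd
    intro j hj
    have hjK : Kj j ∉ K.val := (Finset.mem_filter.mp hj).2
    simp only [Matrix.of_apply, Function.comp_apply]
    apply hdiv
    intro h
    apply hjK
    have h' : Kj j = Set.powersetCard.ofFinEmbEquiv.symm K (σ j) := h.symm
    rw [h']
    exact (Set.powersetCard.mem_range_ofFinEmbEquiv_symm_iff_mem K _).mp ⟨σ j, rfl⟩
  obtain ⟨b, hb⟩ := hdvd
  rw [hb, mul_comm, ← smul_smul]
  apply hN_smul
  have h1 : K'.val \ K.val = K'.val \ (K.val ∩ K'.val) := by
    ext x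
    simp only [Finset.mem_sdiff, Finset.mem_inter, not_and]
    constructor
    · rintro ⟨h1, h2⟩; exact ⟨h1, fun h3 => absurd h3 h2⟩
    · rintro ⟨h1, h2⟩; exact ⟨h1, fun h3 => h2 h3 h1⟩
  rw [h1]
  exact hN_scale _ _ Finset.inter_subset_right y (hN_anti _ _ Finset.inter_subset_left hy)

end Change

section Two

theorem piece_empty {n : ℕ} (ω : Module.Basis (Fin n) B L) (t : Fin n → B)
    (nabla : E →ₗ[A] E ⊗[B] L) : LogConn.piece nabla ω t ∅ = ⊤ := by
  rw [eq_top_iff]
  intro e _
  have := gen_mem nabla ω t (K := ∅) (J := ∅) (Finset.Subset.refl _) e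
  rwa [Finset.sdiff_self, Finset.prod_empty, one_smul, compProd_empty] at this

variable (lam : B) {n : ℕ} (t t' : Fin n → B)
    (bΩ bΩ' : Module.Basis (Fin n) B (KaehlerDifferential A B))
    (hbΩ : ∀ i, bΩ i = KaehlerDifferential.D A B (t i))
    (hbΩ' : ∀ i, bΩ' i = KaehlerDifferential.D A B (t' i))
    (ω ω' : Module.Basis (Fin n) B L) (ι : KaehlerDifferential A B →ₗ[B] L)
    (hι : ∀ i, ι (KaehlerDifferential.D A B (t i)) = t i • ω i)
    (hι' : ∀ i, ι (KaehlerDifferential.D A B (t' i)) = t' i • ω' i)
    (nabla : E →ₗ[A] E ⊗[B] L)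
    (hc : Conn.IsLamConn (ι.compDer (KaehlerDifferential.D A B)) lam nabla)
    (hcomm : ∀ (a b : Fin n) (e : E),
      LogConn.comp nabla ω a (LogConn.comp nabla ω b e) =
        LogConn.comp nabla ω b (LogConn.comp nabla ω a e))
    (u : Fin n → Bˣ) (hu : ∀ i, t' i = (u i : B) * t i)
    (s : Fin n → Fin n → B)
    (hrel : ∀ j l, ω'.coord j (ω l) = (if l = j then 1 else 0) + s l j * t' j)

include hbΩ hbΩ' hι hι' hc hcomm hu hrel in
/-- the pieces do not depend on the admissible coordinate system -/
theorem piece_eq (I : Finset (Fin n)) :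
    LogConn.piece nabla ω' t' I = LogConn.piece nabla ω t I := by
  classical
  induction I using Finset.induction_on_min with
  | empty => rw [piece_empty, piece_empty]
  | insert j J' hj ih =>
    rw [piece_insert_min lam t' bΩ' hbΩ' ω' ι hι' nabla hc j J' hj,
      piece_insert_min lam t bΩ hbΩ ω ι hι nabla hc j J' hj, ih]
    set P := LogConn.piece nabla ω t J' with hP
    have hP_smul : ∀ (b : B) (y : E), y ∈ P → b • y ∈ P :=
      fun b y hy => s16792 lam t bΩ hbΩ ω ι hι nabla hc J' b y hy
    have hP_comp : ∀ (l : Fin n) (y : E), y ∈ P → LogConn.comp nabla ω l y ∈ P :=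
      fun l y hy => comp_mem_piece lam t bΩ hbΩ ω ι hι nabla hc hcomm l J' hy
    have h1 : P.map ((LinearMap.lsmul B E (t' j)).restrictScalars A) =
        P.map ((LinearMap.lsmul B E (t j)).restrictScalars A) := by
      apply le_antisymm
      · rintro _ ⟨y, hy, rfl⟩
        refine ⟨(u j : B) • y, hP_smul _ _ hy, ?_⟩
        show t j • ((u j : B) • y) = t' j • y
        rw [smul_smul, hu, mul_comm]
      · rintro _ ⟨y, hy, rfl⟩
        refine ⟨((u j)⁻¹ : Bˣ).val • y, hP_smul _ _ hy, ?_⟩
        show t' j • (((u j)⁻¹ : Bˣ).val • y) = t j • y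
        rw [smul_smul, hu, mul_comm (u j : B), mul_assoc, Units.mul_inv, mul_one]
    have hz : ∀ y ∈ P, ∑ l, s l j • LogConn.comp nabla ω l y ∈ P := by
      intro y hy
      exact Submodule.sum_mem _ (fun l _ => hP_smul _ _ (hP_comp l y hy))
    apply le_antisymm
    · apply sup_le
      · rw [h1]; exact le_sup_left
      · rintro _ ⟨y, hy, rfl⟩
        rw [comp_change ω ω' nabla s t' hrel j y]
        apply Submodule.add_mem
        · exact Submodule.mem_sup_right ⟨y, hy, rfl⟩
        · apply Submodule.mem_sup_left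
          rw [← h1]
          exact ⟨_, hz y hy, rfl⟩
    · apply sup_le
      · rw [← h1]; exact le_sup_left
      · rintro _ ⟨y, hy, rfl⟩
        have h2 : LogConn.comp nabla ω j y =
            LogConn.comp nabla ω' j y - t' j • ∑ l, s l j • LogConn.comp nabla ω l y := by
          rw [comp_change ω ω' nabla s t' hrel j y]; abel
        rw [h2]
        apply Submodule.sub_mem
        · exact Submodule.mem_sup_right ⟨y, hy, rfl⟩
        · exact Submodule.mem_sup_left ⟨_, hz y hy, rfl⟩

variable (s' : Fin n → Fin n → B)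
    (hrel' : ∀ j l, ω.coord j (ω' l) = (if l = j then 1 else 0) + s' l j * t j)

include hbΩ hbΩ' hι hι' hc hcomm hu hrel hrel' in
/-- the layers do not depend on the admissible coordinate system -/
theorem layer_eq (p : ℕ) :
    LogConn.layer nabla ω t p = LogConn.layer nabla ω' t' p := by
  classical
  have hpe := piece_eq lam t t' bΩ bΩ' hbΩ hbΩ' ω ω' ι hι hι' nabla hc hcomm u hu s hrel
  have hN_smul : ∀ (K : Finset (Fin n)) (b : B) (y : E),
      y ∈ LogConn.piece nabla ω t K → b • y ∈ LogConn.piece nabla ω t K :=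
    fun K b y hy => s16792 lam t bΩ hbΩ ω ι hι nabla hc K b y hy
  have hN_anti : ∀ J K : Finset (Fin n), J ⊆ K →
      LogConn.piece nabla ω t K ≤ LogConn.piece nabla ω t J :=
    fun J K hJK => piece_antitone lam t bΩ hbΩ ω ι hι nabla hc hcomm hJK
  have hN_scale : ∀ J K : Finset (Fin n), J ⊆ K → ∀ y ∈ LogConn.piece nabla ω t J,
      (∏ i ∈ K \ J, t i) • y ∈ LogConn.piece nabla ω t K :=
    fun J K hJK y hy => smul_piece_mem nabla ω t hJK hy
  have hN_scale' : ∀ J K : Finset (Fin n), J ⊆ K → ∀ y ∈ LogConn.piece nabla ω t J,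
      (∏ i ∈ K \ J, t' i) • y ∈ LogConn.piece nabla ω t K := by
    intro J K hJK y hy
    rw [← hpe] at hy ⊢
    exact smul_piece_mem nabla ω' t' hJK hy
  have hdiv : ∀ i k, i ≠ k → t' k ∣ ω'.coord k (ω i) := by
    intro i k hik
    rw [hrel, if_neg hik, zero_add]
    exact Dvd.intro_left _ rfl
  have hdiv' : ∀ i k, i ≠ k → t k ∣ ω.coord k (ω' i) := by
    intro i k hik
    rw [hrel', if_neg hik, zero_add]
    exact Dvd.intro_left _ rfl
  apply le_antisymm
  · intro x hx
    rw [mem_layer_iff] at hx ⊢
    intro K'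
    have hx' : LogConn.coordE (E := E) ω' p K' x = ∑ K : Set.powersetCard (Fin n) p,
        LogConn.coordE (E := E) ω' p K'
          (LogConn.coordE (E := E) ω p K x ⊗ₜ[B] (ω.exteriorPower p K)) := by
      conv_lhs => rw [sum_coordE_tmul ω p x, map_sum]
    rw [hx', hpe]
    apply Submodule.sum_mem
    intro K _
    exact coord_change_mem ω ω' t' (fun K => LogConn.piece nabla ω t K) hdiv hN_smul hN_anti
      hN_scale' p K (hx K) K'
  · intro x hx
    rw [mem_layer_iff] at hx ⊢
    intro K'
    have hx' : LogConn.coordE (E := E) ω p K' x = ∑ K : Set.powersetCard (Fin n) p,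
        LogConn.coordE (E := E) ω p K'
          (LogConn.coordE (E := E) ω' p K x ⊗ₜ[B] (ω'.exteriorPower p K)) := by
      conv_lhs => rw [sum_coordE_tmul ω' p x, map_sum]
    rw [hx']
    apply Submodule.sum_mem
    intro K _
    have hxK := hx K
    rw [hpe] at hxK
    exact coord_change_mem ω' ω t (fun K => LogConn.piece nabla ω t K) hdiv' hN_smul hN_anti
      hN_scale p K hxK K'

end Two

end Groth.Agent.R2.H79.LogConnC
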