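import Mathlib
import Groth.Prelude.Def_Conn
import Groth.Agent.R2.H79Hochschild

/-!
# `p`-linearity of the `p`-curvature along multiples of one derivation (helper for S16794)
-/

set_option autoImplicit false
universe v u
open TensorProduct

namespace Groth.Agent.R2.H79.PCurv

open Groth.Agent.R2.H79.Hochschild

variable {A : Type v} {B M : Type u} [CommRing A] [CommRing B] [Algebra A B]
  [AddCommGroup M] [Module B M] [Module A M] [IsScalarTower A B M]

/-- scalar multiplication by `B`, as a ring homomorphism into the `A`-linear endomorphisms -/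
noncomputable def μ : B →+* Module.End A M := Module.toModuleEnd A (S := B) M

theorem μ_apply (x : B) (m : M) : (μ (A := A) (M := M) x) m = x • m := rfl

theorem along_smul (nabla : M →ₗ[A] M ⊗[B] Ω[B⁄A]) (x : B) (φ : Ω[B⁄A] →ₗ[B] B) :
    Conn.along nabla (x • φ) = μ x * Conn.along nabla φ := by
  refine LinearMap.ext (fun m => ?_)
  rw [Module.End.mul_apply, μ_apply, Conn.along_apply, Conn.along_apply,
    TensorProduct.map_smul_right, LinearMap.smul_apply, map_smul]

theorem along_add (nabla : M →ₗ[A] M ⊗[B] Ω[B⁄A]) (φ ψ : Ω[B⁄A] →ₗ[B] B) :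
    Conn.along nabla (φ + ψ) = Conn.along nabla φ + Conn.along nabla ψ := by
  refine LinearMap.ext (fun m => ?_)
  rw [LinearMap.add_apply, Conn.along_apply, Conn.along_apply, Conn.along_apply,
    TensorProduct.map_add_right, LinearMap.add_apply, map_add]

theorem alongDer_comm (nabla : M →ₗ[A] M ⊗[B] Ω[B⁄A])
    (hc : Conn.IsConn (KaehlerDifferential.D A B) nabla) (θ : Derivation A B B) (x : B) :
    Conn.alongDer nabla θ * μ x = μ x * Conn.alongDer nabla θ + μ (θ x) := by
  refine LinearMap.ext (fun m => ?_)
  rw [LinearMap.add_apply, Module.End.mul_apply, Module.End.mul_apply, μ_apply, μ_apply, μ_apply]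
  unfold Conn.alongDer
  rw [Conn.along_apply, Conn.along_apply, hc x m, map_add, map_add, map_smul, map_smul,
    TensorProduct.map_tmul, TensorProduct.rid_tmul, LinearMap.id_apply,
    Derivation.liftKaehlerDifferential_comp_D]

variable (p : ℕ) [Fact p.Prime] [CharP B p]

/-- `p`-linearity of the `p`-curvature along the multiples of one derivation `θ₀`. -/
theorem pCurv_smul (nabla : M →ₗ[A] M ⊗[B] Ω[B⁄A])
    (hc : Conn.IsConn (KaehlerDifferential.D A B) nabla) (θ₀ θ θp : Derivation A B B) (b : B)
    (hlift : θ.liftKaehlerDifferential = b • θ₀.liftKaehlerDifferential)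
    (hθp : Conn.IsIterPow θ p θp) :
    Conn.pCurv p nabla θ θp = μ (b ^ p) * Conn.pCurv p nabla θ₀ (iterDer p θ₀) := by
  set c : B := (fun y => b * θ₀ y)^[p - 1] b with hcdef
  -- `θ = b θ₀`
  have hθ : ∀ x, θ x = b * θ₀ x := by
    intro x
    rw [← Derivation.liftKaehlerDifferential_comp_D θ, hlift, LinearMap.smul_apply,
      Derivation.liftKaehlerDifferential_comp_D, smul_eq_mul]
  -- the iterate of `θ`
  have hD' : ∀ x : B, (θ₀ : B →ₗ[A] B) * μ x = μ x * (θ₀ : B →ₗ[A] B) + μ (θ₀ x) := by
    intro x
    refine LinearMap.ext (fun y => ?_)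
    rw [LinearMap.add_apply, Module.End.mul_apply, Module.End.mul_apply, μ_apply, μ_apply,
      μ_apply, Derivation.coeFn_coe, smul_eq_mul, Derivation.leibniz, smul_eq_mul, smul_eq_mul,
      smul_eq_mul]
    ring
  have hθlin : (θ : B →ₗ[A] B) = μ b * (θ₀ : B →ₗ[A] B) := by
    refine LinearMap.ext (fun y => ?_)
    rw [Module.End.mul_apply, μ_apply, Derivation.coeFn_coe, Derivation.coeFn_coe, hθ, smul_eq_mul]
  have hiter : ∀ x, θp x = b ^ p * iterDer p θ₀ x + c * θ₀ x := by
    intro x
    rw [hθp x, ← Derivation.coeFn_coe θ, ← Module.End.pow_apply, hθlin,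
      hochschild θ₀ b (μ (A := A) (M := B)) (θ₀ : B →ₗ[A] B) hD' p, LinearMap.add_apply,
      Module.End.mul_apply, Module.End.mul_apply, μ_apply, μ_apply, smul_eq_mul, smul_eq_mul,
      iterDer_apply, Module.End.pow_apply, Derivation.coeFn_coe]
  have hliftp : θp.liftKaehlerDifferential =
      b ^ p • (iterDer p θ₀).liftKaehlerDifferential + c • θ₀.liftKaehlerDifferential := by
    apply Derivation.liftKaehlerDifferential_unique
    ext x
    show θp.liftKaehlerDifferential (KaehlerDifferential.D A B x) =
      (b ^ p • (iterDer p θ₀).liftKaehlerDifferential + c • θ₀.liftKaehlerDifferential)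
        (KaehlerDifferential.D A B x)
    rw [LinearMap.add_apply, LinearMap.smul_apply, LinearMap.smul_apply,
      Derivation.liftKaehlerDifferential_comp_D, Derivation.liftKaehlerDifferential_comp_D,
      Derivation.liftKaehlerDifferential_comp_D, smul_eq_mul, smul_eq_mul]
    exact hiter x
  -- the covariant derivatives
  have h1 : Conn.alongDer nabla θ = μ b * Conn.alongDer nabla θ₀ := by
    unfold Conn.alongDer
    rw [hlift, along_smul]
  have h2 : Conn.alongDer nabla θp =
      μ (b ^ p) * Conn.alongDer nabla (iterDer p θ₀) + μ c * Conn.alongDer nabla θ₀ := by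
    unfold Conn.alongDer
    rw [hliftp, along_add, along_smul, along_smul]
  unfold Conn.pCurv
  rw [h1, h2, hochschild θ₀ b (μ (A := A) (M := M)) (Conn.alongDer nabla θ₀)
    (alongDer_comm nabla hc θ₀) p, mul_sub]
  abel

end Groth.Agent.R2.H79.PCurv

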