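import Mathlib
import Groth.Agent.R2.H58PnLaurent

/-!
# The residue pairing on Laurent polynomials (helper79, PROJ:pn-duality, package P3)

In helper58's Laurent model `T σ R = R[x_i^{±1}]`: the residue `resid g` (coefficient of `∏ x_i⁻¹`), the
perfectness of the pairing `R[x]_k × (all-negative Laurent polynomials of degree -(N+k)) → R`,
`(f, g) ↦ resid (f g)`, and auxiliary facts on the sign-pattern submodules.
-/

set_option autoImplicit false
set_option linter.unusedSectionVars false
set_option linter.unusedVariables false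

open Finset

namespace Groth.Agent.R2.H79.PnDualAlg

open Groth.Agent.R2.H58.PnLaurent

variable {σ : Type*} [Fintype σ] [DecidableEq σ] {R : Type*} [CommRing R]

/-- the exponent `(-1, …, -1)`. -/
def negOne : σ → ℤ := fun _ => -1

theorem negShift_zero : negShift (0 : σ →₀ ℕ) = (negOne : σ → ℤ) := by
  ext i
  simp [negShift, negOne]

theorem negSupp_negOne : negSupp (negOne : σ → ℤ) = univ := by
  rw [← negShift_zero]
  exact negSupp_negShift 0

theorem negOne_sub_negShift (s : σ →₀ ℕ) : (negOne : σ → ℤ) - negShift s = toZ s := by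
  ext i
  simp only [Pi.sub_apply, negOne, negShift, toZ_apply]
  ring

/-- the residue: the coefficient of `∏ x_i⁻¹`. -/
noncomputable def resid : T σ R →ₗ[R] R where
  toFun g := g.coeff negOne
  map_add' g h := by rw [AddMonoidAlgebra.coeff_add]; rfl
  map_smul' r g := by rw [AddMonoidAlgebra.coeff_smul]; rfl

theorem resid_apply (g : T σ R) : resid g = g.coeff negOne := rfl

theorem resid_piN_univ (g : T σ R) : resid (piN univ g) = resid g := by
  rw [resid_apply, coeff_piN, if_pos negSupp_negOne, resid_apply]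

theorem coeff_mono (m m' : σ → ℤ) : (mono m : T σ R).coeff m' = if m = m' then 1 else 0 := by
  rw [mono, AddMonoidAlgebra.coeff_single, Finsupp.single_apply]

theorem resid_incl_mul_mono_negShift (f : MvPolynomial σ R) (s : σ →₀ ℕ) :
    resid (incl f * mono (negShift s)) = f.coeff s := by
  rw [resid_apply, coeff_mul_mono, negOne_sub_negShift, coeff_incl]

/-! ### multiplication by polynomials and the all-negative projection -/

/-- no all-negative monomial occurs. -/
def IsNN (h : T σ R) : Prop := ∀ m : σ → ℤ, negSupp m = univ → h.coeff m = 0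

theorem isNN_sub_piN (g : T σ R) : IsNN (g - piN univ g) := by
  intro m hm
  have : (g - piN univ g).coeff m = g.coeff m - (piN univ g).coeff m := rfl
  rw [this, coeff_piN, if_pos hm, sub_self]

theorem piN_univ_eq_zero_of_isNN {h : T σ R} (hh : IsNN h) : piN univ h = 0 := by
  apply ext_coeff
  intro m
  rw [coeff_piN]
  split_ifs with hm
  · rw [hh m hm]; rfl
  · rfl

theorem negSupp_sub_toZ {m : σ → ℤ} (hm : negSupp m = univ) (s : σ →₀ ℕ) :
    negSupp (m - toZ s) = univ := by
  ext i
  simp only [mem_negSupp, Finset.mem_univ, iff_true, Pi.sub_apply, toZ_apply]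
  have : m i < 0 := mem_negSupp.1 (hm ▸ Finset.mem_univ i)
  omega

theorem isNN_incl_mul (f : MvPolynomial σ R) {h : T σ R} (hh : IsNN h) : IsNN (incl f * h) := by
  induction f using MvPolynomial.induction_on' with
  | monomial s r =>
    intro m hm
    rw [incl_monomial]
    have e : (AddMonoidAlgebra.single (toZ s) r : T σ R) = r • mono (toZ s) := by
      rw [mono, AddMonoidAlgebra.smul_single, smul_eq_mul, mul_one]
    rw [e, smul_mul_assoc, AddMonoidAlgebra.coeff_smul, mul_comm, Finsupp.smul_apply, coeff_mul_mono,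
      hh _ (negSupp_sub_toZ hm s), smul_zero]
  | add p q hp hq =>
    intro m hm
    rw [map_add, add_mul, AddMonoidAlgebra.coeff_add, Finsupp.add_apply, hp m hm, hq m hm, add_zero]

/-- **dropping non-all-negative monomials commutes with multiplication by a polynomial.** -/
theorem piN_univ_incl_mul (f : MvPolynomial σ R) (g : T σ R) :
    piN univ (incl f * piN univ g) = piN univ (incl f * g) := by
  have h := piN_univ_eq_zero_of_isNN (isNN_incl_mul f (isNN_sub_piN g))
  rw [mul_sub, map_sub, sub_eq_zero] at h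
  exact h.symm

theorem resid_piN_univ_incl_mul (f : MvPolynomial σ R) (g : T σ R) :
    resid (piN univ (incl f * g)) = resid (incl f * g) := resid_piN_univ _

/-! ### the pairing is perfect -/

theorem mono_negShift_mem_Lpat {k : ℕ} {s : σ →₀ ℕ} (hs : s.degree = k) :
    (mono (negShift s) : T σ R) ∈ (Lpat univ (-((Fintype.card σ : ℤ) + k)) : Submodule R (T σ R)) := by
  refine mem_supp.2 fun m hm => ?_
  rw [coeff_mono] at hm
  split_ifs at hm with h
  · subst h
    exact ⟨by rw [deg_negShift, hs], negSupp_negShift s⟩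
  · exact (hm rfl).elim

theorem Lpat_univ_eq_span (k : ℕ) :
    (Lpat univ (-((Fintype.card σ : ℤ) + k)) : Submodule R (T σ R)) =
      Submodule.span R ((fun s : σ →₀ ℕ => (mono (negShift s) : T σ R)) '' {s | s.degree = k}) := by
  apply le_antisymm
  · unfold Lpat
    change AddMonoidAlgebra.supported R R _ ≤ _
    rw [AddMonoidAlgebra.supported_eq_span_single]
    refine Submodule.span_mono ?_
    rintro _ ⟨m, ⟨hd, hN⟩, rfl⟩
    obtain ⟨s, rfl⟩ := exists_negShift_eq hN
    refine ⟨s, ?_, rfl⟩
    rw [deg_negShift] at hd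
    have : (s.degree : ℤ) = k := by linarith
    exact_mod_cast this
  · rw [Submodule.span_le]
    rintro _ ⟨s, hs, rfl⟩
    exact mono_negShift_mem_Lpat hs

/-- the finite set of exponents of degree `k`. -/
noncomputable def degFin (k : ℕ) : Finset (σ →₀ ℕ) := (Finsupp.finite_of_degree_eq (σ := σ) k).toFinset

theorem mem_degFin {k : ℕ} {s : σ →₀ ℕ} : s ∈ degFin k ↔ s.degree = k :=
  Set.Finite.mem_toFinset _

/-- the polynomial attached to a linear form on the all-negative part. -/
noncomputable def dualPoly (k : ℕ)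
    (ψ : (Lpat univ (-((Fintype.card σ : ℤ) + k)) : Submodule R (T σ R)) →ₗ[R] R) : MvPolynomial σ R :=
  ∑ s ∈ degFin k,
    MvPolynomial.monomial s (if hs : s.degree = k then ψ ⟨mono (negShift s), mono_negShift_mem_Lpat hs⟩ else 0)

theorem coeff_dualPoly (k : ℕ)
    (ψ : (Lpat univ (-((Fintype.card σ : ℤ) + k)) : Submodule R (T σ R)) →ₗ[R] R) (s : σ →₀ ℕ) :
    (dualPoly k ψ).coeff s =
      if hs : s.degree = k then ψ ⟨mono (negShift s), mono_negShift_mem_Lpat hs⟩ else 0 := by
  unfold dualPoly
  rw [MvPolynomial.coeff_sum]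
  simp only [MvPolynomial.coeff_monomial]
  by_cases hs : s.degree = k
  · rw [Finset.sum_eq_single s]
    · rw [if_pos rfl]
    · intro s' _ hne
      rw [if_neg hne]
    · intro hns
      exact (hns (mem_degFin.2 hs)).elim
  · rw [dif_neg hs]
    refine Finset.sum_eq_zero (fun s' hs' => ?_)
    have h' : s'.degree = k := mem_degFin.1 hs'
    rw [if_neg (fun e : s' = s => hs (e ▸ h'))]

theorem dualPoly_isHomogeneous (k : ℕ)
    (ψ : (Lpat univ (-((Fintype.card σ : ℤ) + k)) : Submodule R (T σ R)) →ₗ[R] R) :
    (dualPoly k ψ).IsHomogeneous k := by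
  rw [isHomogeneous_iff]
  intro s hs
  rw [coeff_dualPoly] at hs
  by_contra h
  rw [dif_neg h] at hs
  exact hs rfl

/-- **existence**: every linear form on the all-negative part of degree `-(N+k)` is `g ↦ resid (f g)`. -/
theorem dualPoly_spec (k : ℕ)
    (ψ : (Lpat univ (-((Fintype.card σ : ℤ) + k)) : Submodule R (T σ R)) →ₗ[R] R)
    (g : T σ R) (hg : g ∈ (Lpat univ (-((Fintype.card σ : ℤ) + k)) : Submodule R (T σ R))) :
    ψ ⟨g, hg⟩ = resid (incl (dualPoly k ψ) * g) := by
  have key : ∀ (g : T σ R) (hg : g ∈ Submodule.span R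
      ((fun s : σ →₀ ℕ => (mono (negShift s) : T σ R)) '' {s | s.degree = k})),
      ψ ⟨g, (Lpat_univ_eq_span (R := R) (σ := σ) k).symm ▸ hg⟩ = resid (incl (dualPoly k ψ) * g) := by
    intro g hg
    induction hg using Submodule.span_induction with
    | mem x hx =>
      obtain ⟨s, hs, rfl⟩ := hx
      have hs' : s.degree = k := hs
      rw [resid_incl_mul_mono_negShift, coeff_dualPoly, dif_pos hs']
    | zero =>
      rw [mul_zero, map_zero]
      exact map_zero ψ
    | add x y hx hy ihx ihy =>
      rw [mul_add, map_add, ← ihx, ← ihy, ← map_add]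
      rfl
    | smul a x hx ih =>
      rw [mul_smul_comm, map_smul, ← ih, ← map_smul]
      rfl
  have hg' : g ∈ Submodule.span R
      ((fun s : σ →₀ ℕ => (mono (negShift s) : T σ R)) '' {s | s.degree = k}) := by
    rw [← Lpat_univ_eq_span]
    exact hg
  exact key g hg'

/-- **uniqueness**: a homogeneous polynomial of degree `k` pairing to zero with the all-negative part of
degree `-(N+k)` vanishes. -/
theorem eq_zero_of_resid_eq_zero {k : ℕ} {f : MvPolynomial σ R} (hf : f.IsHomogeneous k)
    (h : ∀ g ∈ (Lpat univ (-((Fintype.card σ : ℤ) + k)) : Submodule R (T σ R)),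
      resid (incl f * g) = 0) : f = 0 := by
  ext s
  rw [MvPolynomial.coeff_zero]
  by_cases hs : s.degree = k
  · rw [← resid_incl_mul_mono_negShift]
    exact h _ (mono_negShift_mem_Lpat hs)
  · by_contra hne
    exact hs (isHomogeneous_iff.1 hf s hne)

/-! ### the residue isomorphism in degree `-N` -/

theorem eq_negOne_of_mem {m : σ → ℤ} (hd : deg m = -(Fintype.card σ : ℤ)) (hN : negSupp m = univ) :
    m = negOne := by
  obtain ⟨s, rfl⟩ := exists_negShift_eq hN
  rw [deg_negShift] at hd
  have h0 : s.degree = 0 := by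
    have : (s.degree : ℤ) = 0 := by linarith
    exact_mod_cast this
  have : s = 0 := by
    rwa [Finsupp.degree_eq_zero_iff] at h0
  rw [this, negShift_zero]

theorem eq_resid_smul_of_mem {g : T σ R}
    (hg : g ∈ (Lpat univ (-(Fintype.card σ : ℤ)) : Submodule R (T σ R))) :
    g = resid g • mono negOne := by
  apply ext_coeff
  intro m
  rw [AddMonoidAlgebra.coeff_smul, Finsupp.smul_apply, coeff_mono, resid_apply]
  by_cases hm : negOne = m
  · subst hm
    rw [if_pos rfl, smul_eq_mul, mul_one]
  · rw [if_neg hm, smul_zero]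
    by_contra hne
    obtain ⟨hd, hN⟩ := mem_supp.1 hg m hne
    exact hm (eq_negOne_of_mem hd hN).symm

theorem mono_negOne_mem :
    (mono negOne : T σ R) ∈ (Lpat univ (-(Fintype.card σ : ℤ)) : Submodule R (T σ R)) := by
  have h := mono_negShift_mem_Lpat (R := R) (σ := σ) (k := 0) (s := 0) (by simp)
  rw [negShift_zero] at h
  simpa using h

/-- **the residue isomorphism** `(all-negative Laurent polynomials of degree -N) ≃ R`. -/
noncomputable def residEquiv : (Lpat univ (-(Fintype.card σ : ℤ)) : Submodule R (T σ R)) ≃ₗ[R] R where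
  toFun g := resid g.1
  map_add' g h := by rw [Submodule.coe_add, map_add]
  map_smul' r g := by rw [Submodule.coe_smul, map_smul]; rfl
  invFun r := ⟨r • mono negOne, Submodule.smul_mem _ r mono_negOne_mem⟩
  left_inv g := Subtype.ext (eq_resid_smul_of_mem g.2).symm
  right_inv r := by
    change resid (r • mono negOne) = r
    rw [map_smul, resid_apply, coeff_mono, if_pos rfl, smul_eq_mul, mul_one]

theorem residEquiv_apply (g : (Lpat univ (-(Fintype.card σ : ℤ)) : Submodule R (T σ R))) :
    residEquiv g = resid g.1 := rfl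

/-! ### sign patterns: intersections and monomial shifts -/

theorem LJ_inf_le {i j : σ} (hij : i ≠ j) (d : ℤ) :
    (LJ {i} d ⊓ LJ {j} d : Submodule R (T σ R)) ≤ LJ ∅ d := by
  rintro g ⟨hi, hj⟩
  refine mem_supp.2 fun m hm => ?_
  obtain ⟨hd, h1⟩ := mem_supp.1 hi m hm
  obtain ⟨-, h2⟩ := mem_supp.1 hj m hm
  refine ⟨hd, fun l hl => ?_⟩
  have e1 : l = i := Finset.mem_singleton.1 (h1 hl)
  have e2 : l = j := Finset.mem_singleton.1 (h2 hl)
  exact (hij (e1.symm.trans e2)).elim

theorem negSupp_sub_smul_ind {m : σ → ℤ} {i : σ} {J : Finset σ} (hi : i ∈ J) (c : ℤ)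
    (h : negSupp (m - c • ind {i}) ⊆ J) : negSupp m ⊆ J := by
  intro l hl
  by_cases hli : l = i
  · subst hli; exact hi
  · apply h
    rw [mem_negSupp] at hl ⊢
    simp only [Pi.sub_apply, Pi.smul_apply, ind, Finset.mem_singleton, if_neg hli, smul_zero, sub_zero]
    exact hl

/-- multiplying by a power (possibly negative) of `x_i`, `i ∈ J`, shifts the degree in `LJ J`. -/
theorem mul_mono_mem_LJ {J : Finset σ} {i : σ} (hi : i ∈ J) {d : ℤ} (c : ℤ) {g : T σ R}
    (hg : g ∈ (LJ J d : Submodule R (T σ R))) : g * mono (c • ind {i}) ∈ (LJ J (d + c) : Submodule R (T σ R)) := by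
  have h1 := (mul_mono_mem_supp (R := R) (g := g) (P := {m | deg m = d ∧ negSupp m ⊆ J})
    (c • ind {i})).2 hg
  refine supp_mono ?_ h1
  rintro m ⟨hd, hN⟩
  refine ⟨?_, negSupp_sub_smul_ind hi c hN⟩
  have e : m = (m - c • ind {i}) + c • ind {i} := by abel
  have hdeg : deg (c • ind ({i} : Finset σ)) = c := by
    simp [deg, ind, Finset.sum_ite_eq']
  rw [e, deg_add, hd, hdeg]

end Groth.Agent.R2.H79.PnDualAlg
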