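import Mathlib
import Groth.Agent.R2.H79PnLaurentGlue
import Groth.Agent.R2.H62CohDelta
import Groth.Agent.Lib.Helper27GrTildeMul
import Groth.Agent.Lib.Helper23SecTw5
import Groth.Agent.Lib.Helper2RelTildeMonoEpi
import Groth.Agent.Lib.Helper27PnSections

/-!
# Ideal sheaves on `P^n_k`: monotonicity of `H^0(J(d))` and extensions `0 → O → E → J(c) → 0` (helper79)
-/

set_option autoImplicit false
set_option linter.unusedSectionVars false
set_option linter.unusedVariables false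
universe u

open CategoryTheory CategoryTheory.Limits AlgebraicGeometry TopologicalSpace Opposite

namespace Groth.Agent.R2.H79.PnIdeal

open Groth.Agent.Lib.Helper27GrTildeSect Groth.Agent.Lib.Helper23.SecTw Groth.Agent.Lib.Helper6

section MulBy

variable {R A : Type u} [CommRing R] [CommRing A] [Algebra R A] (𝒜 : ℕ → Submodule R A)
  [GradedAlgebra 𝒜]
variable {M : Type u} [AddCommGroup M] [Module R M] [Module A M] [IsScalarTower R A M]
  (ℳ : ℕ → Submodule R M) [DirectSum.Decomposition ℳ] [SetLike.GradedSMul 𝒜 ℳ]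

/-- multiplication by a global section of `O(k)`, as a morphism `M(p)~ ⟶ M(p+k)~`. -/
theorem exists_mulBy {p k q : ℤ} (h : p + k = q) (t : Γ(GrTilde.tilde 𝒜 𝒜 k, ⊤)) :
    ∃ Φ : GrTilde.tilde 𝒜 ℳ p ⟶ GrTilde.tilde 𝒜 ℳ q,
      ∀ (V : (Proj 𝒜).Opens) (m : Γ(GrTilde.tilde 𝒜 ℳ p, V)),
        Φ.app V m = mulSec 𝒜 ℳ h V m (res (GrTilde.tilde 𝒜 𝒜 k) le_top t) :=
  exists_hom_of_sections _ _
    (fun V m => mulSec 𝒜 ℳ h V m (res (GrTilde.tilde 𝒜 𝒜 k) le_top t))
    (fun V m m' => mulSec_add_left 𝒜 ℳ h V m m' _)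
    (fun V r m => mulSec_smul_left 𝒜 ℳ h V r m _)
    (fun U V hVU m => by
      change (GrTilde.tilde 𝒜 ℳ q).presheaf.map (homOfLE hVU).op _ = _
      rw [mulSec_map]
      rfl)

/-- over a graded domain, multiplication by `b / 1`, `b ≠ 0` homogeneous of degree `k`, is a
monomorphism `O(p) ⟶ O(p + k)`. -/
theorem exists_mono_mulBy [IsDomain A] {p q : ℤ} (k : ℕ) (h : p + (k : ℤ) = q) {b : A} (hb : b ∈ 𝒜 k)
    (hb0 : b ≠ 0) :
    ∃ Φ : GrTilde.tilde 𝒜 𝒜 p ⟶ GrTilde.tilde 𝒜 𝒜 q, Mono Φ := by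
  obtain ⟨Φ, hΦ⟩ := exists_mulBy 𝒜 𝒜 h (gsec 𝒜 k ⊤ hb)
  refine ⟨Φ, Groth.Agent.Lib.Helper2.RelTildeMonoEpi.mono_of_app_injective Φ (fun V => ?_)⟩
  rw [injective_iff_map_eq_zero]
  intro m hm
  apply sec_ext
  intro y hy
  have h1 := congrArg (fun s => secVal 𝒜 𝒜 q V s y hy) hm
  simp only [hΦ] at h1
  rw [secVal_mulSec, secVal_zero] at h1
  rw [secVal_zero]
  have h2 : (secVal 𝒜 𝒜 (k : ℤ) V (res (GrTilde.tilde 𝒜 𝒜 (k : ℤ)) le_top (gsec 𝒜 k ⊤ hb)) y hy :
      Twist.Loc 𝒜 y) = algebraMap A (Twist.Loc 𝒜 y) b := by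
    rw [← Localization.mk_one_eq_algebraMap]
    rfl
  have h3 : (algebraMap A (Twist.Loc 𝒜 y) b) * (secVal 𝒜 𝒜 p V m y hy : Twist.Loc 𝒜 y) = 0 := by
    rw [← h2]
    exact h1
  have h4 : algebraMap A (Twist.Loc 𝒜 y) b ≠ 0 := by
    intro h0
    rw [IsLocalization.to_map_eq_zero_iff (Twist.Loc 𝒜 y)
      y.asHomogeneousIdeal.toIdeal.primeCompl_le_nonZeroDivisors] at h0
    exact hb0 h0
  exact (mul_eq_zero.1 h3).resolve_left h4

end MulBy

section General

open Groth.Agent.R2.H62.CohLES Groth.Agent.R2.H79.TwistCalc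
open Groth.Agent.Lib.Helper21.ModTensor3 Groth.Agent.Lib.Helper21.ModTensor7

variable {X : Scheme.{u}}

/-- an isomorphism of modules induces an isomorphism on cohomology. -/
noncomputable def HHequiv {M N : X.Modules} (e : M ≅ N) (n : ℕ) : Coh.HH X M n ≃+ Coh.HH X N n where
  toFun := HHmap e.hom n
  invFun := HHmap e.inv n
  left_inv x := by rw [← HHmap_comp, e.hom_inv_id, HHmap_id]
  right_inv x := by rw [← HHmap_comp, e.inv_hom_id, HHmap_id]
  map_add' := map_add _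

theorem subsingleton_HH_of_iso {M N : X.Modules} (e : M ≅ N) (n : ℕ)
    (h : Subsingleton (Coh.HH X N n)) : Subsingleton (Coh.HH X M n) :=
  (HHequiv e n).toEquiv.subsingleton

theorem subsingleton_HH_iff_of_iso {M N : X.Modules} (e : M ≅ N) (n : ℕ) :
    Subsingleton (Coh.HH X M n) ↔ Subsingleton (Coh.HH X N n) :=
  ⟨subsingleton_HH_of_iso e.symm n, subsingleton_HH_of_iso e n⟩

/-- `H^0` of a monomorphism is injective. -/
theorem HHmap_zero_injective_of_mono {M N : X.Modules} (f : M ⟶ N) [Mono f] :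
    Function.Injective (HHmap f 0) := by
  let S : ShortComplex X.Modules := ShortComplex.mk f (cokernel.π f) (cokernel.condition f)
  have hS : S.ShortExact :=
    { exact := ShortComplex.exact_cokernel f
      mono_f := inferInstanceAs (Mono f)
      epi_g := inferInstanceAs (Epi (cokernel.π f)) }
  exact HHmap_f_zero_injective (S := S) hS

theorem subsingleton_HH_zero_of_mono {M N : X.Modules} (f : M ⟶ N) [Mono f]
    (h : Subsingleton (Coh.HH X N 0)) : Subsingleton (Coh.HH X M 0) :=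
  (HHmap_zero_injective_of_mono f).subsingleton

theorem mono_map_of_natIso_id {C : Type*} [Category C] (F : C ⥤ C) (α : F ≅ 𝟭 C) {A B : C}
    (μ : A ⟶ B) [Mono μ] : Mono (F.map μ) := by
  rw [← NatIso.naturality_2 α μ]
  simp only [Functor.id_map]
  infer_instance

theorem mono_of_comm_sq {C : Type*} [Category C] {A B A' B' : C} (f : A ⟶ B) (g : B ⟶ B')
    (g' : A ⟶ A') (f' : A' ⟶ B') (h : f ≫ g = g' ≫ f') [Mono g'] [Mono f'] : Mono f := by
  haveI : Mono (f ≫ g) := by rw [h]; infer_instance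
  exact mono_of_mono f g

/-- if `ι : J ⟶ O` and `μ : L ⟶ L'` are monomorphisms and `L` is invertible, then
`J ⊗ μ : J ⊗ L ⟶ J ⊗ L'` is a monomorphism. -/
theorem mono_tensorLeftF_map {J : X.Modules} (ι : J ⟶ Coh.structureModule X) [Mono ι]
    {L L' : X.Modules} (hL : PicF.IsInvertible L) (μ : L ⟶ L') [hμ : Mono μ] :
    Mono ((tensorLeftF J).map μ) := by
  have h1 : Mono ((tensorRightF L).map ι) := mono_map_tensorRightF L hL ι
  have h2 : Mono ((tL X.sheaf (ModSite.unit X.sheaf)).map μ) :=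
    @mono_map_of_natIso_id _ _ (tL X.sheaf (ModSite.unit X.sheaf)) (tLUnitIso X.sheaf) L L' μ hμ
  exact @mono_of_comm_sq _ _ _ _ _ _ ((tensorLeftF J).map μ) ((tensorRightF L').map ι)
    ((tensorRightF L).map ι) ((tL X.sheaf (ModSite.unit X.sheaf)).map μ)
    (((ModSite.tensorBi X.sheaf).map ι).naturality μ) h1 h2

end General


end Groth.Agent.R2.H79.PnIdeal
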