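import Mathlib
import Groth.Agent.R2.H79PnIdeal
import Groth.Agent.R2.H79PnDualAlg
import Groth.Agent.Lib.Helper27SerreGen

/-!
# Morphisms `O(a) ⟶ O(b)` on `P^n_R` in the Laurent model (helper79, PROJ:pn-duality, package P1)

Every morphism of `O`-modules `φ : O(a) ⟶ O(b)` on `P^n_R` (`n ≥ 1`) acts on the sections over
`W0 = D₊(x_0 ⋯ x_n)` as multiplication by a unique Laurent polynomial `u` which has no negative exponents
(`u ∈ LJ ∅ (b - a)`), and `φ` is determined by `u`; multiplication by a form `f` corresponds to `u = incl f`.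
-/

set_option autoImplicit false
set_option linter.unusedSectionVars false
set_option linter.unusedVariables false
universe u

open CategoryTheory CategoryTheory.Limits AlgebraicGeometry TopologicalSpace Opposite
  HomogeneousLocalization MvPolynomial

namespace Groth.Agent.R2.H79.PnDualHom

open Groth.Agent.Lib.Helper27GrTildeSect Groth.Agent.Lib.Helper27ProjGamma
  Groth.Agent.Lib.Helper27PnSections Groth.Agent.R2.H79.PnBridge Groth.Agent.R2.H79.PnCoh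
  Groth.Agent.R2.H79.PnLaurentGlue Groth.Agent.R2.H58.PnLaurent Groth.Agent.R2.H79.PnDualAlg
  Groth.Agent.Lib.Helper23.SecTw Groth.Agent.Lib.Helper23.GenLocus Groth.Agent.Lib.Helper23.Extend
  Groth.Agent.Lib.Helper6

section General

variable {X : Scheme.{u}}

/-- two morphisms of modules agreeing on local generators are equal. -/
theorem hom_ext_of_isGen (M N : X.Modules) {ι : Type*} (W : ι → X.Opens)
    (hcov : ∀ x : X, ∃ i, x ∈ W i) (a : ∀ i, Γ(M, W i)) (ha : ∀ i, IsGen M (W i) (a i))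
    (φ ψ : M ⟶ N) (h : ∀ i, φ.app (W i) (a i) = ψ.app (W i) (a i)) : φ = ψ := by
  ext U m
  change φ.app U m = ψ.app U m
  have hcovV : U ≤ ⨆ i, U ⊓ W i := by
    intro x hx
    obtain ⟨i, hi⟩ := hcov x
    exact Opens.mem_iSup.2 ⟨i, hx, hi⟩
  refine (modSheaf N).eq_of_locally_eq' (fun i => U ⊓ W i) U (fun i => homOfLE inf_le_left) hcovV _ _
    (fun i => ?_)
  change res N (inf_le_left : U ⊓ W i ≤ U) (φ.app U m) = res N inf_le_left (ψ.app U m)
  have h1 : res N (inf_le_left : U ⊓ W i ≤ U) (φ.app U m) = φ.app (U ⊓ W i) (res M inf_le_left m) :=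
    (app_map φ (homOfLE inf_le_left) m).symm
  have h2 : res N (inf_le_left : U ⊓ W i ≤ U) (ψ.app U m) = ψ.app (U ⊓ W i) (res M inf_le_left m) :=
    (app_map ψ (homOfLE inf_le_left) m).symm
  have h3 : φ.app (U ⊓ W i) (res M inf_le_right (a i)) = ψ.app (U ⊓ W i) (res M inf_le_right (a i)) := by
    have e1 := app_map φ (homOfLE (inf_le_right : U ⊓ W i ≤ W i)) (a i)
    have e2 := app_map ψ (homOfLE (inf_le_right : U ⊓ W i ≤ W i)) (a i)
    exact e1.trans ((congrArg _ (h i)).trans e2.symm)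
  rw [h1, h2, ← coef_spec (ha i) (inf_le_right : U ⊓ W i ≤ W i) (res M inf_le_left m),
    Scheme.Modules.Hom.app_smul, Scheme.Modules.Hom.app_smul, h3]

end General

variable (n : ℕ) (R : Type u) [CommRing R]

local notation "𝒢" => CohB1.polyGrading n R
local notation "σ" => Fin (n + 1)
local notation "S" => MvPolynomial (Fin (n + 1)) R

/-- `β` in the concrete Laurent model. -/
noncomputable abbrev βL (d : ℤ) (s : Γ(GrTilde.tilde 𝒢 𝒢 d, W0 n R)) : T σ R :=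
  β (laurentModel n R d) s

variable {n R}

theorem mul_mem_grading {i j : ℕ} {a b : S} (ha : a ∈ 𝒢 i) (hb : b ∈ 𝒢 j) : a * b ∈ 𝒢 (i + j) :=
  (show a.IsHomogeneous i from ha).mul (show b.IsHomogeneous j from hb)

theorem X_pow_mem (i : σ) (k : ℕ) : (X i : S) ^ k ∈ 𝒢 k := by
  have h := (MvPolynomial.isHomogeneous_X R i).pow k
  rwa [one_mul] at h

theorem incl_X_pow (i : σ) (k : ℕ) : (incl ((X i : S) ^ k) : T σ R) = mono ((k : ℤ) • ind {i}) := by
  rw [map_pow, incl_X, natCast_zsmul]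
  induction k with
  | zero => rw [pow_zero, zero_smul, mono_zero]
  | succ k ih => rw [pow_succ, ih, ← mono_add, succ_nsmul]

theorem isUnit_incl_X_pow (i : σ) (k : ℕ) : IsUnit (incl ((X i : S) ^ k) : T σ R) := by
  rw [incl_X_pow]
  exact isUnit_mono _

/-! ### multiplication of sections over `W0` by fractions -/

theorem isRepOn_fracFun_smul {d : ℤ} {i' : ℕ} {a' b' : S} (ha' : a' ∈ 𝒢 i') (hb' : b' ∈ 𝒢 i')
    (hW : ∀ y : W0 n R, b' ∉ y.1.asHomogeneousIdeal) {g : Γ(GrTilde.tilde 𝒢 𝒢 d, W0 n R)} {a b : S}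
    (h : IsRepOn g a b) : IsRepOn (fracFun 𝒢 (W0 n R) ha' hb' hW • g) (a' * a) (b' * b) := by
  intro y hy
  obtain ⟨hby, e⟩ := h y hy
  have hbb : b' * b ∉ y.asHomogeneousIdeal := fun hh =>
    (y.isPrime.mem_or_mem hh).elim (hW ⟨y, hy⟩) hby
  refine ⟨hbb, ?_⟩
  rw [secVal_smul', funVal_fracFun, e, Localization.mk_mul]
  rfl

theorem β_fracFun_smul {d : ℤ} {i' : ℕ} {a' b' : S} (ha' : a' ∈ 𝒢 i') (hb' : b' ∈ 𝒢 i')
    (hW : ∀ y : W0 n R, b' ∉ y.1.asHomogeneousIdeal) (g : Γ(GrTilde.tilde 𝒢 𝒢 d, W0 n R)) :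
    βL n R d (fracFun 𝒢 (W0 n R) ha' hb' hW • g) * incl b' = incl a' * βL n R d g := by
  obtain ⟨k, i, a, ha, hi, h⟩ := exists_isRepOn g
  have hb := fJ_pow_mem n R Finset.univ k
  have hij : (i : ℤ) = (k * (Finset.univ : Finset σ).card : ℕ) + d := by rw [hi]; push_cast; ring
  have e1 : βL n R d g * incl (fJ n R Finset.univ ^ k) = incl a :=
    β_mul_eq (laurentModel n R d) g ha hb hij h
  have e2 : βL n R d (fracFun 𝒢 (W0 n R) ha' hb' hW • g) * incl (b' * fJ n R Finset.univ ^ k) =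
      incl (a' * a) :=
    β_mul_eq (laurentModel n R d) _ (mul_mem_grading ha' ha) (mul_mem_grading hb' hb)
      (by push_cast; rw [hi]; ring) (isRepOn_fracFun_smul ha' hb' hW h)
  have hu : IsUnit (incl (fJ n R Finset.univ ^ k) : T σ R) := by
    rw [map_pow]
    exact (laurentModel n R d).isUnit_fJ_pow Finset.univ k
  apply hu.mul_left_injective
  change _ * incl (fJ n R Finset.univ ^ k) = _ * incl (fJ n R Finset.univ ^ k)
  rw [map_mul, map_mul] at e2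
  rw [mul_assoc, e2, mul_assoc, e1]

/-! ### the monomial sections `x_i^a` -/

theorem toNat_eq (a : ℤ) : ((a.toNat : ℕ) : ℤ) = ((-a).toNat : ℕ) + a := by omega

/-- the section `x_i^a` of `O(a)` over an open where `x_i` is invertible. -/
noncomputable def monoSec (a : ℤ) (i : σ) (V : (Proj 𝒢).Opens)
    (hV : ∀ y : V, (X i : S) ∉ y.1.asHomogeneousIdeal) : Γ(GrTilde.tilde 𝒢 𝒢 a, V) :=
  fracSec 𝒢 a V (X_pow_mem i a.toNat) (X_pow_mem i (-a).toNat) (toNat_eq a)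
    (fun y h => hV y (y.1.isPrime.mem_of_pow_mem _ h))

theorem isGen_monoSec (a : ℤ) (i : σ) (V : (Proj 𝒢).Opens)
    (hV : ∀ y : V, (X i : S) ∉ y.1.asHomogeneousIdeal) :
    IsGen (GrTilde.tilde 𝒢 𝒢 a) V (monoSec a i V hV) :=
  isGen_fracSec 𝒢 a V _ _ _ _ (fun y h => hV y (y.1.isPrime.mem_of_pow_mem _ h))

theorem isRepOn_monoSec (a : ℤ) (i : σ) (V : (Proj 𝒢).Opens)
    (hV : ∀ y : V, (X i : S) ∉ y.1.asHomogeneousIdeal) (f : W0 n R ⟶ V) :
    IsRepOn ((GrTilde.tilde 𝒢 𝒢 a).presheaf.map f.op (monoSec a i V hV))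
      ((X i : S) ^ a.toNat) ((X i : S) ^ (-a).toNat) := by
  intro y hy
  refine ⟨fun h => hV ⟨y, f.le hy⟩ (y.isPrime.mem_of_pow_mem _ h), ?_⟩
  rw [secVal_map']
  exact secVal_fracSec 𝒢 a V _ _ _ _ y (f.le hy)

theorem mono_zsmul_mul (a : ℤ) (i : σ) :
    (mono (a • ind {i}) : T σ R) * incl ((X i : S) ^ (-a).toNat) = incl ((X i : S) ^ a.toNat) := by
  rw [incl_X_pow, incl_X_pow, ← mono_add, ← add_smul]
  congr 2
  omega

theorem β_monoSec (a : ℤ) (i : σ) (V : (Proj 𝒢).Opens)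
    (hV : ∀ y : V, (X i : S) ∉ y.1.asHomogeneousIdeal) (f : W0 n R ⟶ V) :
    βL n R a ((GrTilde.tilde 𝒢 𝒢 a).presheaf.map f.op (monoSec a i V hV)) = mono (a • ind {i}) :=
  β_eq_of_mul_eq (laurentModel n R a) _ (X_pow_mem i a.toNat) (X_pow_mem i (-a).toNat) (toNat_eq a)
    (isRepOn_monoSec a i V hV f) (isUnit_incl_X_pow i _) (mono_zsmul_mul a i)

/-! ### a morphism `O(a) ⟶ O(b)` acts on `W0` by multiplication with a Laurent polynomial -/

theorem X_not_mem_of_mem_W0 (i : σ) (y : W0 n R) : (X i : S) ∉ y.1.asHomogeneousIdeal :=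
  (fJ_not_mem_iff n R Finset.univ y.1).1 ((mem_W0_iff y.1).1 y.2) i (Finset.mem_univ i)

theorem isRepOn_monoSec_W0 (a : ℤ) (i : σ) :
    IsRepOn (monoSec a i (W0 n R) (X_not_mem_of_mem_W0 i))
      ((X i : S) ^ a.toNat) ((X i : S) ^ (-a).toNat) := by
  intro y hy
  exact ⟨fun h => X_not_mem_of_mem_W0 i ⟨y, hy⟩ (y.isPrime.mem_of_pow_mem _ h),
    secVal_fracSec 𝒢 a (W0 n R) _ _ _ _ y hy⟩

theorem β_monoSec_W0 (a : ℤ) (i : σ) :
    βL n R a (monoSec a i (W0 n R) (X_not_mem_of_mem_W0 i)) = mono (a • ind {i}) :=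
  β_eq_of_mul_eq (laurentModel n R a) _ (X_pow_mem i a.toNat) (X_pow_mem i (-a).toNat) (toNat_eq a)
    (isRepOn_monoSec_W0 a i) (isUnit_incl_X_pow i _) (mono_zsmul_mul a i)

/-- every section of `O(a)` over `W0` is a fraction times `x_0^a`. -/
theorem exists_eq_fracFun_smul (a : ℤ) (g : Γ(GrTilde.tilde 𝒢 𝒢 a, W0 n R)) :
    ∃ (i' : ℕ) (a' b' : S) (ha' : a' ∈ 𝒢 i') (hb' : b' ∈ 𝒢 i')
      (hW : ∀ y : W0 n R, b' ∉ y.1.asHomogeneousIdeal), IsUnit (incl b' : T σ R) ∧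
      g = fracFun 𝒢 (W0 n R) ha' hb' hW • monoSec a 0 (W0 n R) (X_not_mem_of_mem_W0 0) := by
  obtain ⟨k, i, ag, hag, hi, hrep⟩ := exists_isRepOn g
  have hb := fJ_pow_mem n R Finset.univ k
  have hdeg : k * (Finset.univ : Finset σ).card + a.toNat = i + (-a).toNat := by
    have := toNat_eq a
    zify
    rw [hi]
    linarith
  have hnum : ag * (X 0 : S) ^ (-a).toNat ∈ 𝒢 (i + (-a).toNat) :=
    mul_mem_grading hag (X_pow_mem 0 _)
  have hden : fJ n R Finset.univ ^ k * (X 0 : S) ^ a.toNat ∈ 𝒢 (i + (-a).toNat) :=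
    hdeg ▸ mul_mem_grading hb (X_pow_mem 0 _)
  have hW : ∀ y : W0 n R, fJ n R Finset.univ ^ k * (X 0 : S) ^ a.toNat ∉ y.1.asHomogeneousIdeal := by
    intro y hh
    rcases y.1.isPrime.mem_or_mem hh with h1 | h1
    · exact fJ_pow_not_mem n R Finset.univ k y.1 ((mem_W0_iff y.1).1 y.2) h1
    · exact X_not_mem_of_mem_W0 0 y (y.1.isPrime.mem_of_pow_mem _ h1)
  refine ⟨_, _, _, hnum, hden, hW, ?_, ?_⟩
  · rw [map_mul, map_pow]
    exact ((laurentModel n R a).isUnit_fJ_pow Finset.univ k).mul (isUnit_incl_X_pow 0 _)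
  · apply sec_ext
    intro y hy
    obtain ⟨hby, e⟩ := hrep y hy
    rw [secVal_smul', funVal_fracFun, e]
    obtain ⟨hqy, e'⟩ := isRepOn_monoSec_W0 (n := n) (R := R) a 0 y hy
    rw [e', Localization.mk_mul, Localization.mk_eq_mk_iff, Localization.r_iff_exists]
    refine ⟨1, ?_⟩
    simp only [OneMemClass.coe_one, one_mul, Submonoid.coe_mul]
    ring

/-- the Laurent polynomial by which `φ` acts over `W0`. -/
noncomputable def uOf {a b : ℤ} (φ : GrTilde.tilde 𝒢 𝒢 a ⟶ GrTilde.tilde 𝒢 𝒢 b) : T σ R :=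
  βL n R b (φ.app (W0 n R) (monoSec a 0 (W0 n R) (X_not_mem_of_mem_W0 0))) * mono ((-a) • ind {0})

theorem mono_neg_mul_mono (a : ℤ) (i : σ) :
    (mono ((-a) • ind {i}) : T σ R) * mono (a • ind {i}) = 1 := by
  rw [← mono_add, ← add_smul, neg_add_cancel, zero_smul, mono_zero]

/-- **`φ` acts over `W0` as multiplication by `uOf φ`.** -/
theorem β_app {a b : ℤ} (φ : GrTilde.tilde 𝒢 𝒢 a ⟶ GrTilde.tilde 𝒢 𝒢 b)
    (g : Γ(GrTilde.tilde 𝒢 𝒢 a, W0 n R)) :
    βL n R b (φ.app (W0 n R) g) = uOf φ * βL n R a g := by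
  obtain ⟨i', a', b', ha', hb', hW, hu, rfl⟩ := exists_eq_fracFun_smul a g
  rw [Scheme.Modules.Hom.app_smul]
  apply hu.mul_left_injective
  change _ * incl b' = _ * incl b'
  rw [β_fracFun_smul, mul_assoc, β_fracFun_smul, β_monoSec_W0, uOf]
  calc incl a' * βL n R b (φ.app (W0 n R) (monoSec a 0 (W0 n R) (X_not_mem_of_mem_W0 0)))
      = βL n R b (φ.app (W0 n R) (monoSec a 0 (W0 n R) (X_not_mem_of_mem_W0 0))) *
          (mono ((-a) • ind {0}) * mono (a • ind {0})) * incl a' := by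
        rw [mono_neg_mul_mono]; ring
    _ = _ := by ring

/-! ### `uOf φ` has no negative exponents -/

theorem X_not_mem_of_mem_Ucov (i : σ) (y : Ucov n R (ULift.up i)) :
    (X i : S) ∉ y.1.asHomogeneousIdeal :=
  (ProjectiveSpectrum.mem_basicOpen 𝒢 _ y.1).1 y.2

theorem Ucov_eq (i : σ) : Ucov n R (ULift.up i) = Proj.basicOpen 𝒢 (fJ n R {i}) := by
  unfold fJ
  rw [Finset.prod_singleton]

theorem uOf_mem_LJ_singleton {a b : ℤ} (φ : GrTilde.tilde 𝒢 𝒢 a ⟶ GrTilde.tilde 𝒢 𝒢 b) (i : σ) :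
    uOf φ ∈ (LJ {i} (b + -a) : Submodule R (T σ R)) := by
  set V := Ucov n R (ULift.up i) with hVdef
  let f : W0 n R ⟶ V := homOfLE (W0_le (ULift.up i))
  set s := monoSec a i V (X_not_mem_of_mem_Ucov i) with hs
  have h1 : βL n R b ((GrTilde.tilde 𝒢 𝒢 b).presheaf.map f.op (φ.app V s)) =
      uOf φ * mono (a • ind {i}) := by
    rw [← app_map φ f s, β_app, β_monoSec]
  have h2 : βL n R b ((GrTilde.tilde 𝒢 𝒢 b).presheaf.map f.op (φ.app V s)) ∈
      (LJ {i} b : Submodule R (T σ R)) := by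
    rw [mem_LJ_iff_exists n R b {i} (Finset.singleton_nonempty i)]
    exact exists_β_map_mul_eq (laurentModel n R b) {i} (Finset.singleton_nonempty i) V (Ucov_eq i) f
      (φ.app V s)
  rw [h1] at h2
  have h3 := mul_mono_mem_LJ (Finset.mem_singleton_self i) (-a) h2
  rwa [mul_assoc, mul_comm (mono (a • ind {i})), mono_neg_mul_mono, mul_one] at h3

/-- for `n ≥ 1`, the multiplier of a morphism `O(a) ⟶ O(b)` is a polynomial. -/
theorem uOf_mem_LJ_empty (hn : 1 ≤ n) {a b : ℤ}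
    (φ : GrTilde.tilde 𝒢 𝒢 a ⟶ GrTilde.tilde 𝒢 𝒢 b) :
    uOf φ ∈ (LJ ∅ (b + -a) : Submodule R (T σ R)) := by
  have hne : (0 : σ) ≠ Fin.last n := by
    intro h
    have := congrArg Fin.val h
    simp at this
    omega
  exact LJ_inf_le hne _ ⟨uOf_mem_LJ_singleton φ 0, uOf_mem_LJ_singleton φ (Fin.last n)⟩

/-- on `P^0`, the multiplier of an endomorphism-type morphism (`a = b`) is a constant. -/
theorem uOf_mem_LJ_empty_of_eq (h0 : n = 0) {a b : ℤ} (hab : b + -a = 0)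
    (φ : GrTilde.tilde 𝒢 𝒢 a ⟶ GrTilde.tilde 𝒢 𝒢 b) :
    uOf φ ∈ (LJ ∅ (b + -a) : Submodule R (T σ R)) := by
  have h1 := uOf_mem_LJ_singleton φ 0
  rw [hab] at h1 ⊢
  refine supp_mono ?_ h1
  rintro m ⟨hd, -⟩
  refine ⟨hd, fun l hl => ?_⟩
  exfalso
  subst h0
  have hl0 : l = 0 := Fin.ext (by omega)
  subst hl0
  have h2 : Groth.Agent.R2.H58.PnLaurent.deg m = m 0 := by
    unfold Groth.Agent.R2.H58.PnLaurent.deg
    exact Fin.sum_univ_one m
  rw [mem_negSupp] at hl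
  omega

/-! ### a morphism is determined by its action over `W0` -/

theorem hom_ext_of_βL {a b : ℤ} (φ φ' : GrTilde.tilde 𝒢 𝒢 a ⟶ GrTilde.tilde 𝒢 𝒢 b)
    (h : ∀ g : Γ(GrTilde.tilde 𝒢 𝒢 a, W0 n R),
      βL n R b (φ.app (W0 n R) g) = βL n R b (φ'.app (W0 n R) g)) : φ = φ' := by
  have h' : ∀ g : Γ(GrTilde.tilde 𝒢 𝒢 a, W0 n R), φ.app (W0 n R) g = φ'.app (W0 n R) g :=
    fun g => βHom_injective (laurentModel n R b) (h g)
  refine hom_ext_of_isGen (GrTilde.tilde 𝒢 𝒢 a) (GrTilde.tilde 𝒢 𝒢 b)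
    (fun i : σ => Ucov n R (ULift.up i)) (fun y => ?_)
    (fun i => monoSec a i _ (X_not_mem_of_mem_Ucov i))
    (fun i => isGen_monoSec a i _ (X_not_mem_of_mem_Ucov i)) φ φ' (fun i => ?_)
  · obtain ⟨i, hi⟩ := exists_X_not_mem n R y
    exact ⟨i, (ProjectiveSpectrum.mem_basicOpen 𝒢 _ y).2 hi⟩
  · set V := Ucov n R (ULift.up i)
    let f : W0 n R ⟶ V := homOfLE (W0_le (ULift.up i))
    set s := monoSec a i V (X_not_mem_of_mem_Ucov i)
    have h0 : (GrTilde.tilde 𝒢 𝒢 b).presheaf.map f.op (φ.app V s - φ'.app V s) = 0 := by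
      rw [map_sub, sub_eq_zero, ← app_map φ f s, ← app_map φ' f s]
      exact h' _
    exact sub_eq_zero.1 (eq_zero_of_map_eq_zero {i} (Finset.singleton_nonempty i) V (Ucov_eq i) f _ h0)

/-! ### multiplication by a form -/

theorem β_mulBy {p q : ℤ} (k : ℕ) (h : p + (k : ℤ) = q) {f : S} (hf : f ∈ 𝒢 k)
    (Φ : GrTilde.tilde 𝒢 𝒢 p ⟶ GrTilde.tilde 𝒢 𝒢 q)
    (hΦ : ∀ (V : (Proj 𝒢).Opens) (m : Γ(GrTilde.tilde 𝒢 𝒢 p, V)),
      Φ.app V m = mulSec 𝒢 𝒢 h V m (res (GrTilde.tilde 𝒢 𝒢 k) le_top (gsec 𝒢 k ⊤ hf)))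
    (g : Γ(GrTilde.tilde 𝒢 𝒢 p, W0 n R)) :
    βL n R q (Φ.app (W0 n R) g) = incl f * βL n R p g := by
  obtain ⟨k', i, a, ha, hi, hrep⟩ := exists_isRepOn g
  have hb := fJ_pow_mem n R Finset.univ k'
  have hij : (i : ℤ) = (k' * (Finset.univ : Finset σ).card : ℕ) + p := by rw [hi]; push_cast; ring
  have e1 : βL n R p g * incl (fJ n R Finset.univ ^ k') = incl a :=
    β_mul_eq (laurentModel n R p) g ha hb hij hrep
  have hrep' : IsRepOn (Φ.app (W0 n R) g) (f * a) (fJ n R Finset.univ ^ k') := by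
    intro y hy
    obtain ⟨hby, e⟩ := hrep y hy
    refine ⟨hby, ?_⟩
    rw [hΦ, secVal_mulSec]
    have h2 : (secVal 𝒢 𝒢 (k : ℤ) (W0 n R)
        (res (GrTilde.tilde 𝒢 𝒢 (k : ℤ)) le_top (gsec 𝒢 k ⊤ hf)) y hy : Twist.Loc 𝒢 y) =
        Localization.mk f (1 : y.asHomogeneousIdeal.toIdeal.primeCompl) := rfl
    change (secVal 𝒢 𝒢 (k : ℤ) (W0 n R)
        (res (GrTilde.tilde 𝒢 𝒢 (k : ℤ)) le_top (gsec 𝒢 k ⊤ hf)) y hy : Twist.Loc 𝒢 y) *
      (secVal 𝒢 𝒢 p (W0 n R) g y hy : Twist.Loc 𝒢 y) = _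
    rw [h2, e, Localization.mk_mul, one_mul]
  have e2 : βL n R q (Φ.app (W0 n R) g) * incl (fJ n R Finset.univ ^ k') = incl (f * a) :=
    β_mul_eq (laurentModel n R q) _ (mul_mem_grading hf ha) hb
      (by push_cast; rw [hi, ← h]; ring) hrep'
  have hu : IsUnit (incl (fJ n R Finset.univ ^ k') : T σ R) := by
    rw [map_pow]
    exact (laurentModel n R p).isUnit_fJ_pow Finset.univ k'
  apply hu.mul_left_injective
  change _ * incl (fJ n R Finset.univ ^ k') = _ * incl (fJ n R Finset.univ ^ k')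
  rw [e2, map_mul, mul_assoc, e1]

end Groth.Agent.R2.H79.PnDualHom
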