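import Mathlib
import Groth.Agent.R2.H79PnDualHom
import Groth.Agent.R2.H16CbcG5

/-!
# Top cohomology of `O(d)` on `P^n_R` in the Laurent model, functorially (helper79, PROJ:pn-duality, P2)

A family of `R`-linear isomorphisms `Θ_d : H^n(P^n_R, O(d)) ≃ (all-negative Laurent polynomials of degree d)`
such that a morphism of abelian sheaves `O(a) ⟶ O(b)` acting over `W0` as multiplication by `u` acts on
top cohomology as `g ↦ piN univ (u g)`.
-/

set_option autoImplicit false
set_option linter.unusedSectionVars false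
set_option linter.unusedVariables false
universe u

open CategoryTheory CategoryTheory.Limits AlgebraicGeometry TopologicalSpace Opposite
  HomogeneousLocalization MvPolynomial

namespace Groth.Agent.R2.H79.PnDualCoh

open Groth.Agent.Lib.Helper27GrTildeSect Groth.Agent.Lib.Helper27ProjGamma
  Groth.Agent.Lib.Helper27PnSections Groth.Agent.R2.H79.PnBridge Groth.Agent.R2.H79.PnCoh
  Groth.Agent.R2.H79.PnLaurentGlue Groth.Agent.R2.H58.PnLaurent Groth.Agent.R2.H79.PnDualAlg
  Groth.Agent.R2.H79.PnDualHom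
  Groth.Agent.Lib.Helper16.CechLow Groth.Agent.Lib.Helper16.CechH1 Groth.Agent.R2.H82.CechComb
  Groth.Agent.R2.H82.CechModel Groth.Agent.R2.H79.CechNat Groth.Agent.R2.H16.CbcG5

section CechGeneral

variable {X : Scheme.{u}} {ι : Type u} (U : ι → X.Opens) {M N : X.Modules}
  (ψ : Coh.toAb M ⟶ Coh.toAb N)

lemma cechMap₂_homologyπ (p : ℕ) (z : (CK U M.presheaf).cycles p) :
    cechMap₂ U ψ p ((CK U M.presheaf).homologyπ p z) =
      (CK U N.presheaf).homologyπ p
        (HomologicalComplex.cyclesMap ((cechComplexFunctor U).map ψ.hom) p z) :=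
  ConcreteCategory.congr_hom
    (HomologicalComplex.homologyπ_naturality ((cechComplexFunctor U).map ψ.hom) p) z

lemma iCycles_cyclesMap₂ (p : ℕ) (z : (CK U M.presheaf).cycles p) :
    (CK U N.presheaf).iCycles p
        (HomologicalComplex.cyclesMap ((cechComplexFunctor U).map ψ.hom) p z) =
      ((cechComplexFunctor U).map ψ.hom).f p ((CK U M.presheaf).iCycles p z) :=
  ConcreteCategory.congr_hom
    (HomologicalComplex.cyclesMap_i ((cechComplexFunctor U).map ψ.hom) p) z

lemma pr_map_apply₂ (p : ℕ) (a : Fin (p + 1) → ι) (c : (CK U M.presheaf).X p) :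
    pr U N.presheaf p a (((cechComplexFunctor U).map ψ.hom).f p c) =
      ψ.hom.app (op (Ux U a)) (pr U M.presheaf p a c) :=
  ConcreteCategory.congr_hom (map_pr U ψ.hom p a) c

end CechGeneral

variable {n : ℕ} {R : Type u} [CommRing R]

local notation "𝒢" => CohB1.polyGrading n R
local notation "σ" => Fin (n + 1)
local notation "S" => MvPolynomial (Fin (n + 1)) R

set_option maxHeartbeats 4000000 in
/-- the action of a morphism of abelian sheaves `O(a) ⟶ O(b)` on the top Čech cohomology, in the model. -/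
theorem Ψ_e_cechMap₂ {a b : ℤ}
    (ea : ↑((CK (Ucov n R) (GrTilde.tilde 𝒢 𝒢 a).presheaf).homology n) ≃+
      ↥((signDecomp (laurentModel n R a)).π Finset.univ).range)
    (hea : ∀ z, ea ((CK (Ucov n R) (GrTilde.tilde 𝒢 𝒢 a).presheaf).homologyπ n z) =
      (signDecomp (laurentModel n R a)).topEval a₀
        ((CK (Ucov n R) (GrTilde.tilde 𝒢 𝒢 a).presheaf).iCycles n z))
    (eb : ↑((CK (Ucov n R) (GrTilde.tilde 𝒢 𝒢 b).presheaf).homology n) ≃+
      ↥((signDecomp (laurentModel n R b)).π Finset.univ).range)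
    (heb : ∀ z, eb ((CK (Ucov n R) (GrTilde.tilde 𝒢 𝒢 b).presheaf).homologyπ n z) =
      (signDecomp (laurentModel n R b)).topEval a₀
        ((CK (Ucov n R) (GrTilde.tilde 𝒢 𝒢 b).presheaf).iCycles n z))
    (ψ : Coh.toAb (GrTilde.tilde 𝒢 𝒢 a) ⟶ Coh.toAb (GrTilde.tilde 𝒢 𝒢 b)) (u : T σ R)
    (hu : ∀ g : Γ(GrTilde.tilde 𝒢 𝒢 a, W0 n R),
      βL n R b (ψ.hom.app (op (W0 n R)) g) = u * βL n R a g)
    (hu' : ∀ t : T σ R, piN Finset.univ (u * piN Finset.univ t) = piN Finset.univ (u * t))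
    (x : ↑(CohB1.cechH (Ucov n R) (GrTilde.tilde 𝒢 𝒢 a) n)) :
    ((Ψ (laurentModel n R b) (eb (cechMap₂ (Ucov n R) ψ n x)) : topMod (laurentModel n R b)) : T σ R) =
      piN Finset.univ (u * ((Ψ (laurentModel n R a) (ea x) : topMod (laurentModel n R a)) : T σ R)) := by
  have hsurj : Function.Surjective
      ((CK (Ucov n R) (GrTilde.tilde 𝒢 𝒢 a).presheaf).homologyπ n) :=
    (AddCommGrpCat.epi_iff_surjective _).1 inferInstance
  obtain ⟨z, rfl⟩ := hsurj x
  set c0 := ((CK (Ucov n R) (GrTilde.tilde 𝒢 𝒢 a).presheaf).iCycles n) z with hc0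
  have h1 := cechMap₂_homologyπ (Ucov n R) ψ n z
  have h2 := heb (HomologicalComplex.cyclesMap ((cechComplexFunctor (Ucov n R)).map ψ.hom) n z)
  have h3 := iCycles_cyclesMap₂ (Ucov n R) ψ n z
  have h4 := pr_map_apply₂ (Ucov n R) ψ n a₀ c0
  have hnat : rhoW b a₀
      (ψ.hom.app (op (Ux (Ucov n R) a₀)) (pr (Ucov n R) (GrTilde.tilde 𝒢 𝒢 a).presheaf n a₀ c0)) =
      ψ.hom.app (op (W0 n R)) (rhoW a a₀
        (pr (Ucov n R) (GrTilde.tilde 𝒢 𝒢 a).presheaf n a₀ c0)) :=
    ConcreteCategory.congr_hom (ψ.hom.naturality (toUx a₀).op).symm _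
  have h5 : (signDecomp (laurentModel n R b)).hat
      (((cechComplexFunctor (Ucov n R)).map ψ.hom).f n c0) a₀ =
      ψ.hom.app (op (W0 n R)) ((signDecomp (laurentModel n R a)).hat c0 a₀) :=
    (congrArg (rhoW b a₀) h4).trans hnat
  have h6 : β (laurentModel n R b) ((signDecomp (laurentModel n R b)).π Finset.univ
      ((signDecomp (laurentModel n R b)).hat
        (((cechComplexFunctor (Ucov n R)).map ψ.hom).f n c0) a₀)) =
      piN Finset.univ (u * β (laurentModel n R a) ((signDecomp (laurentModel n R a)).π Finset.univ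
        ((signDecomp (laurentModel n R a)).hat c0 a₀))) := by
    rw [h5]
    refine (β_πHom (laurentModel n R b) (dn Finset.univ) _).trans ?_
    refine Eq.trans ?_ (congrArg (fun t => piN Finset.univ (u * t))
      (β_πHom (laurentModel n R a) (dn Finset.univ) _).symm)
    rw [dn_univ]
    have e1 := hu ((signDecomp (laurentModel n R a)).hat c0 a₀)
    have e2 := hu' (βL n R a ((signDecomp (laurentModel n R a)).hat c0 a₀))
    exact (congrArg (piN Finset.univ) e1).trans e2.symm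
  refine (congrArg (fun t => ((Ψ (laurentModel n R b) (eb t) : topMod (laurentModel n R b)) : T σ R))
    h1).trans ?_
  refine (congrArg (fun t => ((Ψ (laurentModel n R b) t : topMod (laurentModel n R b)) : T σ R))
    h2).trans ?_
  refine Eq.trans ?_ (congrArg (fun t => piN Finset.univ
    (u * ((Ψ (laurentModel n R a) t : topMod (laurentModel n R a)) : T σ R))) (hea z).symm)
  refine Eq.trans ?_ h6
  exact congrArg (fun t => β (laurentModel n R b) ((signDecomp (laurentModel n R b)).π Finset.univ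
    ((signDecomp (laurentModel n R b)).hat t a₀))) h3

section Theta

variable (n R) in
/-- the structure morphism, for `Proj` of the polynomial grading (the frozen instance is attached to the
name `CohB1.ProjSpace`). -/
noncomputable local instance overProj : (Proj 𝒢).Over (Spec (CommRingCat.of R)) :=
  ⟨CohB1.ProjSpace.toSpec n R⟩

set_option maxHeartbeats 4000000 in
/-- **the functorial family** `Θ_d : H^n(P^n_R, O(d)) ≃+ (all-negative part of degree d)`. -/
theorem exists_Theta :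
    ∃ Θ : ∀ d : ℤ, (n = 0 → d < 0) →
        (Coh.HH (Proj 𝒢) (GrTilde.tilde 𝒢 𝒢 d) n ≃+ topMod (laurentModel n R d)),
      ∀ (a b : ℤ) (ha : n = 0 → a < 0) (hb : n = 0 → b < 0)
        (ψ : Coh.toAb (GrTilde.tilde 𝒢 𝒢 a) ⟶ Coh.toAb (GrTilde.tilde 𝒢 𝒢 b)) (u : T σ R)
        (hu : ∀ g : Γ(GrTilde.tilde 𝒢 𝒢 a, W0 n R),
          βL n R b (ψ.hom.app (op (W0 n R)) g) = u * βL n R a g)
        (hu' : ∀ t : T σ R, piN Finset.univ (u * piN Finset.univ t) = piN Finset.univ (u * t))
        (y : Coh.HH (Proj 𝒢) (GrTilde.tilde 𝒢 𝒢 a) n),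
        ((Θ b hb (Sheaf.H.map ψ n y) : topMod (laurentModel n R b)) : T σ R) =
          piN Finset.univ (u * ((Θ a ha y : topMod (laurentModel n R a)) : T σ R)) := by
  obtain ⟨Φ, hΦ⟩ := exists_cech_equiv_functorial (Proj 𝒢) (Ucov n R) (iSup_Ucov n R)
    (isAffineOpen_biInf_Ucov n R) n
  choose e he using fun (d : ℤ) (hd : n = 0 → d < 0) =>
    (signDecomp (laurentModel n R d)).exists_top_addEquiv (card_idx n)
      a₀ a₀_bijective (fun h0 => π_empty_eq_zero (laurentModel n R d) (hd h0))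
  refine ⟨fun d hd => ((Φ (GrTilde.tilde 𝒢 𝒢 d) (isQCoh_tilde' n R d)).symm.trans (e d hd)).trans
    (AddEquiv.ofBijective (Ψ (laurentModel n R d)) (Ψ_bijective (laurentModel n R d))), ?_⟩
  intro a b ha hb ψ u hu hu' y
  obtain ⟨x, rfl⟩ := (Φ (GrTilde.tilde 𝒢 𝒢 a) (isQCoh_tilde' n R a)).surjective y
  rw [← hΦ _ _ (isQCoh_tilde' n R a) (isQCoh_tilde' n R b) ψ x]
  change ((Ψ (laurentModel n R b) (e b hb ((Φ _ _).symm (Φ _ _ _))) : topMod (laurentModel n R b)) : T σ R) =
    piN Finset.univ (u * ((Ψ (laurentModel n R a) (e a ha ((Φ _ _).symm (Φ _ _ x))) :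
      topMod (laurentModel n R a)) : T σ R))
  rw [AddEquiv.symm_apply_apply, AddEquiv.symm_apply_apply]
  exact Ψ_e_cechMap₂ (e a ha) (he a ha) (e b hb) (he b hb) ψ u hu hu' x

theorem app_toSheaf_map {a b : ℤ} (φ : GrTilde.tilde 𝒢 𝒢 a ⟶ GrTilde.tilde 𝒢 𝒢 b)
    (g : Γ(GrTilde.tilde 𝒢 𝒢 a, W0 n R)) :
    ((SheafOfModules.toSheaf (Proj 𝒢).ringCatSheaf).map φ).hom.app (op (W0 n R)) g =
      φ.app (W0 n R) g := rfl

theorem piN_univ_coe {d : ℤ} (g : topMod (laurentModel n R d)) :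
    piN Finset.univ (g : T σ R) = g := by
  obtain ⟨_, ⟨g', rfl⟩, -⟩ := g
  change piN Finset.univ (piN Finset.univ g') = piN Finset.univ g'
  rw [piN_piN, if_pos rfl]

set_option maxHeartbeats 1000000 in
/-- **the functorial family, `R`-linearly**: `Θ_d : H^n(P^n_R, O(d)) ≃ₗ Lpat univ d`, and a morphism of modules
`O(a) ⟶ O(b)` acting over `W0` as multiplication by the polynomial `f` acts on top cohomology as
`g ↦ piN univ (f g)`. -/
theorem exists_ThetaLin :
    ∃ Θ : ∀ d : ℤ, (n = 0 → d < 0) → (Coh.HH (Proj 𝒢) (GrTilde.tilde 𝒢 𝒢 d) n ≃ₗ[R]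
        (Lpat Finset.univ d : Submodule R (T σ R))),
      ∀ (a b : ℤ) (ha : n = 0 → a < 0) (hb : n = 0 → b < 0)
        (φ : GrTilde.tilde 𝒢 𝒢 a ⟶ GrTilde.tilde 𝒢 𝒢 b) (f : S)
        (hf : ∀ g : Γ(GrTilde.tilde 𝒢 𝒢 a, W0 n R),
          βL n R b (φ.app (W0 n R) g) = incl f * βL n R a g)
        (y : Coh.HH (Proj 𝒢) (GrTilde.tilde 𝒢 𝒢 a) n),
        ((Θ b hb (Sheaf.H.map ((SheafOfModules.toSheaf (Proj 𝒢).ringCatSheaf).map φ) n y) :
            (Lpat Finset.univ b : Submodule R (T σ R))) : T σ R) =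
          piN Finset.univ (incl f * ((Θ a ha y : (Lpat Finset.univ a : Submodule R (T σ R))) : T σ R)) := by
  obtain ⟨Θ, hΘ⟩ := exists_Theta (n := n) (R := R)
  have hlin : ∀ (d : ℤ) (hd : n = 0 → d < 0) (r : R) (y : Coh.HH (Proj 𝒢) (GrTilde.tilde 𝒢 𝒢 d) n),
      Θ d hd (r • y) = r • Θ d hd y := by
    intro d hd r y
    apply Subtype.ext
    have h1 := hΘ d d hd hd (Coh.smulAb (GrTilde.tilde 𝒢 𝒢 d)
      (Coh.toGlobal ((Proj 𝒢) ↘ Spec (CommRingCat.of R)) r)) (algebraMap R (T σ R) r)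
      (fun g => by
        change βL n R d (rAct d r g) = _
        exact (β_rAct (laurentModel n R d) r g).trans (Algebra.smul_def _ _))
      (fun t => by
        rw [← Algebra.smul_def, ← Algebra.smul_def, map_smul, map_smul, piN_piN, if_pos rfl]) y
    refine h1.trans ?_
    rw [← Algebra.smul_def, map_smul, piN_univ_coe]
    rfl
  refine ⟨fun d hd => ({ Θ d hd with map_smul' := hlin d hd } :
      Coh.HH (Proj 𝒢) (GrTilde.tilde 𝒢 𝒢 d) n ≃ₗ[R] topMod (laurentModel n R d)).trans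
    (LinearEquiv.ofEq _ _ (topMod_eq n R d)), ?_⟩
  intro a b ha hb φ f hf y
  exact hΘ a b ha hb ((SheafOfModules.toSheaf (Proj 𝒢).ringCatSheaf).map φ) (incl f)
    (fun g => hf g) (fun t => piN_univ_incl_mul f t) y

end Theta

end Groth.Agent.R2.H79.PnDualCoh
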