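import Mathlib
import Groth.Agent.R2.H79PnDualCoh

/-!
# Serre duality for the twisting sheaves on `P^n_R` (helper79, PROJ:pn-duality): assembly

`H^n(P^n_R, O(-n-1)) ≃ R`, and `Hom(O(-m-n-1), O(-n-1)) → Hom_R(H^n(O(-m-n-1)), R)` is bijective.
-/

set_option autoImplicit false
set_option linter.unusedSectionVars false
set_option linter.unusedVariables false
universe u

open CategoryTheory CategoryTheory.Limits AlgebraicGeometry TopologicalSpace Opposite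
  HomogeneousLocalization MvPolynomial

namespace Groth.Agent.R2.H79.PnDualMain

open Groth.Agent.Lib.Helper27GrTildeSect Groth.Agent.Lib.Helper27ProjGamma
  Groth.Agent.Lib.Helper27PnSections Groth.Agent.R2.H79.PnBridge Groth.Agent.R2.H79.PnCoh
  Groth.Agent.R2.H79.PnLaurentGlue Groth.Agent.R2.H58.PnLaurent Groth.Agent.R2.H79.PnDualAlg
  Groth.Agent.R2.H79.PnDualHom Groth.Agent.R2.H79.PnDualCoh Groth.Agent.R2.H79.PnIdeal

section Alg

variable {τ : Type*} [Fintype τ] [DecidableEq τ] {R : Type*} [CommRing R]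

theorem dual_exists {d : ℤ} (k : ℕ) (hd : d = -((Fintype.card τ : ℤ) + k))
    (ψ : (Lpat Finset.univ d : Submodule R (T τ R)) →ₗ[R] R) :
    ∃ f : MvPolynomial τ R, f.IsHomogeneous k ∧
      ∀ (g : T τ R) (hg : g ∈ (Lpat Finset.univ d : Submodule R (T τ R))),
        ψ ⟨g, hg⟩ = resid (incl f * g) := by
  subst hd
  exact ⟨dualPoly k ψ, dualPoly_isHomogeneous k ψ, dualPoly_spec k ψ⟩

theorem dual_unique {d : ℤ} (k : ℕ) (hd : d = -((Fintype.card τ : ℤ) + k)) {f : MvPolynomial τ R}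
    (hf : f.IsHomogeneous k)
    (h : ∀ g ∈ (Lpat Finset.univ d : Submodule R (T τ R)), resid (incl f * g) = 0) : f = 0 := by
  subst hd
  exact eq_zero_of_resid_eq_zero hf h

theorem exists_residEquiv {d : ℤ} (hd : d = -(Fintype.card τ : ℤ)) :
    ∃ e : (Lpat Finset.univ d : Submodule R (T τ R)) ≃ₗ[R] R, ∀ g, e g = resid g.1 := by
  subst hd
  exact ⟨residEquiv, fun _ => rfl⟩

end Alg

variable {n : ℕ} {R : Type u} [CommRing R]

local notation "𝒢" => CohB1.polyGrading n R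
local notation "σ" => Fin (n + 1)
local notation "S" => MvPolynomial (Fin (n + 1)) R

/-- every morphism `O(a) ⟶ O(b)` on `P^n_R`, `n ≥ 1`, acts over `W0` as multiplication by a form of degree
`b - a` (by `0` if `b < a`). -/
theorem exists_form {a b : ℤ} (m : ℤ) (hn : 1 ≤ n ∨ (n = 0 ∧ m = 0)) (hm : b + -a = m)
    (φ : GrTilde.tilde 𝒢 𝒢 a ⟶ GrTilde.tilde 𝒢 𝒢 b) :
    ∃ f : S, (∀ g : Γ(GrTilde.tilde 𝒢 𝒢 a, W0 n R),
        βL n R b (φ.app (W0 n R) g) = incl f * βL n R a g) ∧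
      (m < 0 → f = 0) ∧ ∀ k : ℕ, m = k → f.IsHomogeneous k := by
  have h1 : uOf φ ∈ (LJ ∅ (b + -a) : Submodule R (T σ R)) := by
    rcases hn with hn | ⟨h0, hm0⟩
    · exact uOf_mem_LJ_empty hn φ
    · exact uOf_mem_LJ_empty_of_eq h0 (hm.trans hm0) φ
  rw [hm] at h1
  rcases lt_or_ge m 0 with h | h
  · rw [LJ_empty_eq_bot h, Submodule.mem_bot] at h1
    refine ⟨0, fun g => ?_, fun _ => rfl, fun k hk => ?_⟩
    · rw [β_app, h1, map_zero]
    · omega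
  · obtain ⟨k, rfl⟩ := Int.eq_ofNat_of_zero_le h
    rw [LJ_empty_eq_map] at h1
    obtain ⟨f, hf, hfu⟩ := h1
    refine ⟨f, fun g => ?_, fun h' => by omega, fun k' hk' => ?_⟩
    · rw [β_app, ← hfu]
      rfl
    · have : k = k' := by exact_mod_cast hk'
      subst this
      exact hf

section Main

variable (n R) in
/-- the structure morphism, for `Proj` of the polynomial grading (the frozen instance is attached to the
name `CohB1.ProjSpace`). -/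
noncomputable local instance overProj : (Proj 𝒢).Over (Spec (CommRingCat.of R)) :=
  ⟨CohB1.ProjSpace.toSpec n R⟩

set_option maxHeartbeats 4000000 in
/-- **Serre duality for twisting sheaves on `P^n_R`** (any ring `R`; all `m` if `n ≥ 1`, and `m = 0` if `n = 0`), on
`Proj` of the polynomial grading. -/
theorem main_tilde' :
    ∃ t : Coh.HH (Proj 𝒢) (GrTilde.tilde 𝒢 𝒢 (-((n : ℤ) + 1))) n ≃ₗ[R] R,
      ∀ (m : ℤ) (hn : 1 ≤ n ∨ (n = 0 ∧ m = 0))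
        (ψ : Coh.HH (Proj 𝒢) (GrTilde.tilde 𝒢 𝒢 (-(m + n + 1))) n →ₗ[R] R),
        ∃! φ : GrTilde.tilde 𝒢 𝒢 (-(m + n + 1)) ⟶ GrTilde.tilde 𝒢 𝒢 (-((n : ℤ) + 1)),
          ∀ x : Coh.HH (Proj 𝒢) (GrTilde.tilde 𝒢 𝒢 (-(m + n + 1))) n,
            ψ x = t (Sheaf.H.map ((SheafOfModules.toSheaf (Proj 𝒢).ringCatSheaf).map φ) n x) := by
  obtain ⟨Θ', hΘ'⟩ := exists_ThetaLin (n := n) (R := R)
  have hd₀ : n = 0 → -((n : ℤ) + 1) < 0 := fun _ => by omega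
  have hcard : (Fintype.card σ : ℤ) = (n : ℤ) + 1 := by
    rw [Fintype.card_fin]; push_cast; rfl
  obtain ⟨e0, he0⟩ := exists_residEquiv (R := R) (τ := Fin (n + 1)) (d := -((n : ℤ) + 1)) (by rw [hcard])
  obtain ⟨Θb, hΘb⟩ : ∃ Θb : Coh.HH (Proj 𝒢) (GrTilde.tilde 𝒢 𝒢 (-((n : ℤ) + 1))) n ≃ₗ[R]
      (Lpat Finset.univ (-((n : ℤ) + 1)) : Submodule R (T σ R)), Θb = Θ' (-((n : ℤ) + 1)) hd₀ := ⟨_, rfl⟩
  refine ⟨Θb.trans e0, ?_⟩
  intro m hn ψ
  have hda : n = 0 → -(m + (n : ℤ) + 1) < 0 := fun _ => by omega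
  have ht : ∀ y : Coh.HH (Proj 𝒢) (GrTilde.tilde 𝒢 𝒢 (-((n : ℤ) + 1))) n,
      (Θb.trans e0) y =
        resid ((Θb y : (Lpat Finset.univ (-((n : ℤ) + 1)) : Submodule R (T σ R))) : T σ R) :=
    fun y => he0 _
  have hm : -((n : ℤ) + 1) + -(-(m + n + 1)) = m := by ring
  suffices hmain : ∀ (Θa : Coh.HH (Proj 𝒢) (GrTilde.tilde 𝒢 𝒢 (-(m + n + 1))) n ≃ₗ[R]
      (Lpat Finset.univ (-(m + n + 1)) : Submodule R (T σ R)))
      (hΘ : ∀ (φ : GrTilde.tilde 𝒢 𝒢 (-(m + n + 1)) ⟶ GrTilde.tilde 𝒢 𝒢 (-((n : ℤ) + 1))) (f : S)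
        (hf : ∀ g : Γ(GrTilde.tilde 𝒢 𝒢 (-(m + n + 1)), W0 n R),
          βL n R (-((n : ℤ) + 1)) (φ.app (W0 n R) g) = incl f * βL n R (-(m + n + 1)) g)
        (y : Coh.HH (Proj 𝒢) (GrTilde.tilde 𝒢 𝒢 (-(m + n + 1))) n),
        ((Θb (Sheaf.H.map ((SheafOfModules.toSheaf (Proj 𝒢).ringCatSheaf).map φ) n y) :
            (Lpat Finset.univ (-((n : ℤ) + 1)) : Submodule R (T σ R))) : T σ R) =
          piN Finset.univ (incl f * ((Θa y :
            (Lpat Finset.univ (-(m + n + 1)) : Submodule R (T σ R))) : T σ R))),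
      ∃! φ : GrTilde.tilde 𝒢 𝒢 (-(m + n + 1)) ⟶ GrTilde.tilde 𝒢 𝒢 (-((n : ℤ) + 1)),
        ∀ x : Coh.HH (Proj 𝒢) (GrTilde.tilde 𝒢 𝒢 (-(m + n + 1))) n,
          ψ x = (Θb.trans e0)
            (Sheaf.H.map ((SheafOfModules.toSheaf (Proj 𝒢).ringCatSheaf).map φ) n x) from
    hmain (Θ' (-(m + (n : ℤ) + 1)) hda)
      (hΘb ▸ hΘ' (-(m + (n : ℤ) + 1)) (-((n : ℤ) + 1)) hda hd₀)
  intro Θa hΘ
  -- the value of the pairing for a morphism acting as multiplication by `f`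
  have key : ∀ (φ : GrTilde.tilde 𝒢 𝒢 (-(m + n + 1)) ⟶ GrTilde.tilde 𝒢 𝒢 (-((n : ℤ) + 1))) (f : S)
      (hf : ∀ g : Γ(GrTilde.tilde 𝒢 𝒢 (-(m + n + 1)), W0 n R),
        βL n R (-((n : ℤ) + 1)) (φ.app (W0 n R) g) = incl f * βL n R (-(m + n + 1)) g)
      (x : Coh.HH (Proj 𝒢) (GrTilde.tilde 𝒢 𝒢 (-(m + n + 1))) n),
      (Θb.trans e0)
        (Sheaf.H.map ((SheafOfModules.toSheaf (Proj 𝒢).ringCatSheaf).map φ) n x) =
        resid (incl f * ((Θa x :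
          (Lpat Finset.univ (-(m + n + 1)) : Submodule R (T σ R))) : T σ R)) := by
    intro φ f hf x
    rw [ht, hΘ φ f hf x, resid_piN_univ]
  rcases lt_or_ge m 0 with hneg | hpos
  · -- `m < 0`: the source cohomology vanishes and all morphisms are zero
    have hsub : Subsingleton (Coh.HH (Proj 𝒢) (GrTilde.tilde 𝒢 𝒢 (-(m + n + 1))) n) :=
      subsingleton_HH_tilde (laurentModel n R (-(m + n + 1))) n (fun h => by omega)
        (fun h => by omega)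
    have hall : ∀ φ : GrTilde.tilde 𝒢 𝒢 (-(m + n + 1)) ⟶ GrTilde.tilde 𝒢 𝒢 (-((n : ℤ) + 1)),
        ∀ g : Γ(GrTilde.tilde 𝒢 𝒢 (-(m + n + 1)), W0 n R),
          βL n R (-((n : ℤ) + 1)) (φ.app (W0 n R) g) = 0 := by
      intro φ g
      obtain ⟨f, hf, hf0, -⟩ := exists_form m hn hm φ
      rw [hf g, hf0 hneg, map_zero, zero_mul]
    refine ⟨0, fun x => ?_, fun φ _ => hom_ext_of_βL φ 0 (fun g => by rw [hall φ g, hall 0 g])⟩
    rw [Subsingleton.elim x 0, map_zero, map_zero, map_zero]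
  · -- `m = k ≥ 0`
    obtain ⟨k, rfl⟩ := Int.eq_ofNat_of_zero_le hpos
    have hd : -((k : ℤ) + n + 1) = -((Fintype.card σ : ℤ) + k) := by rw [hcard]; ring
    obtain ⟨ψ', hψ'⟩ : ∃ ψ' : (Lpat Finset.univ (-((k : ℤ) + n + 1)) : Submodule R (T σ R)) →ₗ[R] R,
        ∀ g, ψ' g = ψ (Θa.symm g) := ⟨ψ.comp Θa.symm.toLinearMap, fun g => rfl⟩
    obtain ⟨f, hfhom, hfspec⟩ := dual_exists (R := R) (τ := Fin (n + 1))
      (d := -((k : ℤ) + n + 1)) k hd ψ'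
    have hψ : ∀ x : Coh.HH (Proj 𝒢) (GrTilde.tilde 𝒢 𝒢 (-((k : ℤ) + n + 1))) n,
        ψ x = resid (incl f * ((Θa x :
          (Lpat Finset.univ (-((k : ℤ) + n + 1)) : Submodule R (T σ R))) : T σ R)) := by
      intro x
      have h1 := hfspec _ (Θa x).2
      rw [← h1, hψ']
      change ψ x = ψ (Θa.symm (Θa x))
      rw [LinearEquiv.symm_apply_apply]
    have hk : -((k : ℤ) + n + 1) + (k : ℤ) = -((n : ℤ) + 1) := by ring
    obtain ⟨Φ, hΦ⟩ := exists_mulBy 𝒢 𝒢 hk (gsec 𝒢 k ⊤ (show f ∈ 𝒢 k from hfhom))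
    have hΦβ := β_mulBy k hk (show f ∈ 𝒢 k from hfhom) Φ hΦ
    refine ⟨Φ, fun x => ?_, fun φ hφ => ?_⟩
    · rw [key Φ f hΦβ x]
      exact hψ x
    · obtain ⟨f', hf', -, hf'hom⟩ := exists_form (k : ℤ) hn hm φ
      have hdiff : f' - f = 0 := by
        refine dual_unique k hd ((hf'hom k rfl).sub hfhom) (fun g hg => ?_)
        have h1 := hφ (Θa.symm ⟨g, hg⟩)
        rw [key φ f' hf', hψ, LinearEquiv.apply_symm_apply] at h1
        rw [map_sub, sub_mul, map_sub, sub_eq_zero]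
        exact h1.symm
      have hff : f' = f := sub_eq_zero.1 hdiff
      subst hff
      exact hom_ext_of_βL φ Φ (fun g => by rw [hf' g, hΦβ g])

/-- **Serre duality for twisting sheaves on `P^n_R`** (`n ≥ 1`, any ring `R`), on `Proj` of the polynomial
grading. -/
theorem main_tilde (hn : 1 ≤ n) :
    ∃ t : Coh.HH (Proj 𝒢) (GrTilde.tilde 𝒢 𝒢 (-((n : ℤ) + 1))) n ≃ₗ[R] R,
      ∀ (m : ℤ) (ψ : Coh.HH (Proj 𝒢) (GrTilde.tilde 𝒢 𝒢 (-(m + n + 1))) n →ₗ[R] R),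
        ∃! φ : GrTilde.tilde 𝒢 𝒢 (-(m + n + 1)) ⟶ GrTilde.tilde 𝒢 𝒢 (-((n : ℤ) + 1)),
          ∀ x : Coh.HH (Proj 𝒢) (GrTilde.tilde 𝒢 𝒢 (-(m + n + 1))) n,
            ψ x = t (Sheaf.H.map ((SheafOfModules.toSheaf (Proj 𝒢).ringCatSheaf).map φ) n x) := by
  obtain ⟨t, ht⟩ := main_tilde' (n := n) (R := R)
  exact ⟨t, fun m => ht m (Or.inl hn)⟩

set_option maxHeartbeats 1000000 in
/-- the same for any family of modules equal to the twisting sheaves, on the frozen `CohB1.ProjSpace`. -/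
theorem main_family (hn : 1 ≤ n) (F : ℤ → (CohB1.ProjSpace n R).Modules)
    (hF : F = fun d => GrTilde.tilde 𝒢 𝒢 d) :
    ∃ t : Coh.HH (CohB1.ProjSpace n R) (F (-((n : ℤ) + 1))) n ≃ₗ[R] R,
      ∀ (m : ℤ) (ψ : Coh.HH (CohB1.ProjSpace n R) (F (-(m + n + 1))) n →ₗ[R] R),
        ∃! φ : F (-(m + n + 1)) ⟶ F (-((n : ℤ) + 1)),
          ∀ x : Coh.HH (CohB1.ProjSpace n R) (F (-(m + n + 1))) n,
            ψ x = t (Sheaf.H.map
              ((SheafOfModules.toSheaf (CohB1.ProjSpace n R).ringCatSheaf).map φ) n x) := by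
  subst hF
  exact main_tilde hn

set_option maxHeartbeats 1000000 in
/-- the general form (all `m` if `n ≥ 1`, `m = 0` if `n = 0`) for any family of modules equal to the twisting
sheaves, on the frozen `CohB1.ProjSpace`. -/
theorem main_family' (F : ℤ → (CohB1.ProjSpace n R).Modules)
    (hF : F = fun d => GrTilde.tilde 𝒢 𝒢 d) :
    ∃ t : Coh.HH (CohB1.ProjSpace n R) (F (-((n : ℤ) + 1))) n ≃ₗ[R] R,
      ∀ (m : ℤ) (hn : 1 ≤ n ∨ (n = 0 ∧ m = 0))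
        (ψ : Coh.HH (CohB1.ProjSpace n R) (F (-(m + n + 1))) n →ₗ[R] R),
        ∃! φ : F (-(m + n + 1)) ⟶ F (-((n : ℤ) + 1)),
          ∀ x : Coh.HH (CohB1.ProjSpace n R) (F (-(m + n + 1))) n,
            ψ x = t (Sheaf.H.map
              ((SheafOfModules.toSheaf (CohB1.ProjSpace n R).ringCatSheaf).map φ) n x) := by
  subst hF
  exact main_tilde'

end Main

end Groth.Agent.R2.H79.PnDualMain
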