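import Mathlib
import Groth.Prelude.Def_Coh
import Groth.Agent.R2.H62CohDelta

/-!
# Dualizing pairs: dévissage (helper79, PROJ:pn-duality)

For `X` over `Spec A`, a module `ω` and a linear form `t : H^n(X, ω) → A`, the pairing map
`D_F : Hom(F, ω) → Hom_A(H^n(X, F), A)`, `φ ↦ t ∘ H^n(φ)`.  `D` is bijective for finite coproducts of modules for
which it is bijective, and for `F = coker (E₁ → E₀)` when it is bijective for `E₀`, injective for `E₁` and
`H^n(E₀) → H^n(F)` is surjective.
-/

set_option autoImplicit false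
set_option linter.unusedSectionVars false
set_option linter.unusedVariables false
universe u

open CategoryTheory CategoryTheory.Limits AlgebraicGeometry

namespace Groth.Agent.R2.H79.PnDualGen

open Groth.Agent.R2.H62.CohLES

variable {A : Type u} [CommRing A] {X : Scheme.{u}} [X.Over (Spec (CommRingCat.of A))]
  {ω : X.Modules} {n : ℕ} (t : Coh.HH X ω n →ₗ[A] A)

/-- the pairing map `φ ↦ t ∘ H^n(φ)`. -/
noncomputable def D (F : X.Modules) (φ : F ⟶ ω) : Coh.HH X F n →ₗ[A] A := t.comp (HHmapA A φ n)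

theorem D_apply (F : X.Modules) (φ : F ⟶ ω) (x : Coh.HH X F n) : D t F φ x = t (HHmap φ n x) := rfl

theorem D_comp {F G : X.Modules} (f : F ⟶ G) (φ : G ⟶ ω) (x : Coh.HH X F n) :
    D t F (f ≫ φ) x = D t G φ (HHmap f n x) := by
  rw [D_apply, D_apply, HHmap_comp]

theorem D_zero (F : X.Modules) : D t F (0 : F ⟶ ω) = 0 := by
  ext x
  rw [D_apply, HHmap_zero, map_zero]
  rfl

/-- `(ω, t)` dualizes `F` in degree `n` (the form of the frozen statements). -/
def IsDual (F : X.Modules) : Prop :=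
  ∀ ψ : Coh.HH X F n →ₗ[A] A, ∃! φ : F ⟶ ω, ∀ x : Coh.HH X F n,
    ψ x = t (Sheaf.H.map ((SheafOfModules.toSheaf X.ringCatSheaf).map φ) n x)

theorem isDual_iff (F : X.Modules) : IsDual t F ↔ Function.Bijective (D t F) := by
  rw [Function.bijective_iff_existsUnique]
  refine forall_congr' fun ψ => ?_
  have key : ∀ φ : F ⟶ ω, (∀ x : Coh.HH X F n,
      ψ x = t (Sheaf.H.map ((SheafOfModules.toSheaf X.ringCatSheaf).map φ) n x)) ↔ D t F φ = ψ := by
    intro φ
    constructor
    · intro h
      ext x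
      exact (h x).symm
    · intro h x
      rw [← h]
      rfl
  simp only [key]

theorem HHmap_sum {M N : X.Modules} {ι : Type*} (s : Finset ι) (f : ι → (M ⟶ N)) (x : Coh.HH X M n) :
    HHmap (∑ i ∈ s, f i) n x = ∑ i ∈ s, HHmap (f i) n x := by
  classical
  induction s using Finset.induction_on with
  | empty => rw [Finset.sum_empty, Finset.sum_empty, HHmap_zero]
  | insert a s ha ih => rw [Finset.sum_insert ha, Finset.sum_insert ha, HHmap_add, ih]

/-- invariance under isomorphism. -/
theorem bijective_D_of_iso {F G : X.Modules} (e : F ≅ G) (h : Function.Bijective (D t F)) :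
    Function.Bijective (D t G) := by
  constructor
  · intro φ φ' hφ
    have h1 : D t F (e.hom ≫ φ) = D t F (e.hom ≫ φ') := by
      ext x
      rw [D_comp, D_comp, hφ]
    exact (cancel_epi e.hom).1 (h.1 h1)
  · intro ψ
    obtain ⟨φ, hφ⟩ := h.2 (ψ.comp (HHmapA A e.hom n))
    refine ⟨e.inv ≫ φ, ?_⟩
    ext x
    rw [D_comp, hφ]
    change ψ (HHmap e.hom n (HHmap e.inv n x)) = ψ x
    rw [← HHmap_comp, e.inv_hom_id, HHmap_id]

/-- finite coproducts. -/
theorem bijective_D_coprod {r : ℕ} (E : Fin r → X.Modules)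
    (h : ∀ i, Function.Bijective (D t (E i))) : Function.Bijective (D t (∐ E)) := by
  constructor
  · intro φ φ' hφ
    refine Sigma.hom_ext _ _ (fun i => ?_)
    apply (h i).1
    ext x
    rw [D_comp, D_comp, hφ]
  · intro ψ
    choose φ hφ using fun i => (h i).2 (ψ.comp (HHmapA A (Sigma.ι E i) n))
    refine ⟨Sigma.desc φ, ?_⟩
    ext x
    -- decompose `x` along the biproduct
    have : HasFiniteBiproducts X.Modules := Abelian.hasFiniteBiproducts
    let e : ⨁ E ≅ ∐ E := biproduct.isoCoproduct E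
    have hι : ∀ i, biproduct.ι E i ≫ e.hom = Sigma.ι E i := by
      intro i
      change biproduct.ι E i ≫ (biproduct.isoCoproduct E).hom = _
      rw [biproduct.isoCoproduct_hom, biproduct.ι_desc]
    have hx : x = ∑ i, HHmap (Sigma.ι E i) n (HHmap (e.inv ≫ biproduct.π E i) n x) := by
      have h1 : (𝟙 (∐ E) : ∐ E ⟶ ∐ E) = ∑ i, (e.inv ≫ biproduct.π E i) ≫ Sigma.ι E i := by
        have h2 : (𝟙 (∐ E) : ∐ E ⟶ ∐ E) = e.inv ≫ (∑ i, biproduct.π E i ≫ biproduct.ι E i) ≫ e.hom := by
          rw [biproduct.total, Category.id_comp, e.inv_hom_id]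
        rw [h2, Preadditive.sum_comp, Preadditive.comp_sum]
        refine Finset.sum_congr rfl (fun i _ => ?_)
        rw [Category.assoc, hι, Category.assoc]
      have h3 := HHmap_id (M := ∐ E) n x
      rw [h1, HHmap_sum] at h3
      refine h3.symm.trans (Finset.sum_congr rfl (fun i _ => ?_))
      rw [HHmap_comp]
    have hval : ∀ i (y : Coh.HH X (E i) n),
        D t (∐ E) (Sigma.desc φ) (HHmap (Sigma.ι E i) n y) = ψ (HHmap (Sigma.ι E i) n y) := by
      intro i y
      rw [← D_comp, Sigma.ι_desc, hφ i]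
      rfl
    rw [hx, map_sum, map_sum]
    exact Finset.sum_congr rfl (fun i _ => hval i _)

/-- cokernels: `F = coker (E₁ → E₀)`. -/
theorem bijective_D_of_exact (S : ShortComplex X.Modules) (hS : S.Exact) [Epi S.g]
    (h0 : Function.Bijective (D t S.X₂)) (h1 : Function.Injective (D t S.X₁))
    (hsurj : Function.Surjective (HHmap S.g n)) : Function.Bijective (D t S.X₃) := by
  constructor
  · intro φ φ' hφ
    have h2 : D t S.X₂ (S.g ≫ φ) = D t S.X₂ (S.g ≫ φ') := by
      ext x
      rw [D_comp, D_comp, hφ]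
    exact (cancel_epi S.g).1 (h0.1 h2)
  · intro ψ
    obtain ⟨φ₀, hφ₀⟩ := h0.2 (ψ.comp (HHmapA A S.g n))
    have hz : S.f ≫ φ₀ = 0 := by
      apply h1
      rw [D_zero]
      ext x
      rw [D_comp, hφ₀]
      change ψ (HHmap S.g n (HHmap S.f n x)) = 0
      rw [← HHmap_comp, S.zero, HHmap_zero, map_zero]
    refine ⟨hS.desc φ₀ hz, ?_⟩
    ext y
    obtain ⟨x, rfl⟩ := hsurj y
    rw [← D_comp, hS.g_desc, hφ₀]
    rfl

end Groth.Agent.R2.H79.PnDualGen
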