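import Mathlib
import Groth.Agent.R2.H79PnDualGen
import Groth.Agent.R2.H79TwistCalc2
import Groth.Agent.R2.H58SerreFinPn
import Groth.Agent.S9514
import Groth.Agent.S0010
import Groth.Agent.S9705

/-!
# From twisting sheaves to coherent sheaves on `P^n_A` (helper79, PROJ:pn-duality)

If `(ω, t)` dualizes every `O(q)` in degree `n` on `P^n_A` (`A` Noetherian), it dualizes every coherent module.
-/

set_option autoImplicit false
set_option linter.unusedSectionVars false
set_option linter.unusedVariables false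
set_option linter.style.haveILetI false
universe u

open CategoryTheory CategoryTheory.Limits AlgebraicGeometry TopologicalSpace

namespace Groth.Agent.R2.H79.PnDualSerre

open Groth.Agent.R2.H79.PnDualGen Groth.Agent.R2.H62.CohLES Groth.Agent.R2.H79.TwistCalc

variable (n : ℕ) (A : Type u) [CommRing A]

/-- `H^q(P^n_A, M) = 0` for `q > n` and `M` quasi-coherent. -/
theorem subsingleton_HH_succ (M : (CohB1.ProjSpace n A).Modules) [Coh.IsQCoh M] (q : ℕ) (hq : n + 1 ≤ q) :
    Subsingleton (Coh.HH (CohB1.ProjSpace n A) M q) := by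
  have hP : IsProper (CohB1.ProjSpace.toSpec n A) := Groth.Agent.S9705.isProper_projSpace_toSpec n A
  have hd : ∀ V W : (CohB1.ProjSpace n A).Opens, IsAffineOpen V → IsAffineOpen W →
      IsAffineOpen (V ⊓ W) := by
    intro V W hV hW
    have h : IsAffineHom (pullback.diagonal (CohB1.ProjSpace.toSpec n A)) := inferInstance
    exact isAffineHom_diagonal_iff.mp h ⊤ (isAffineOpen_top _) V le_top W le_top hV hW
  let U : Fin (n + 1) → (CohB1.ProjSpace n A).Opens := fun i =>
    Proj.basicOpen (CohB1.polyGrading n A) (MvPolynomial.X i : MvPolynomial (Fin (n + 1)) A)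
  have hU : ∀ i, IsAffineOpen (U i) := fun i =>
    Proj.isAffineOpen_basicOpen (CohB1.polyGrading n A) _
      (Groth.Agent.Lib.Helper27ProjGamma.hX n A i) Nat.one_pos
  have hcov : ⨆ i, U i = ⊤ := by
    rw [eq_top_iff]
    intro y _
    obtain ⟨i, hi⟩ := Groth.Agent.Lib.Helper27PnSections.exists_X_not_mem n A y
    exact Opens.mem_iSup.2 ⟨i, (ProjectiveSpectrum.mem_basicOpen (CohB1.polyGrading n A) _ y).2 hi⟩
  exact Groth.Agent.S0010.result (CohB1.ProjSpace n A) (n + 1) U hU hcov hd M q hq

/-- `H^n(P^n_A, -)` is right exact on quasi-coherent modules: an epimorphism with quasi-coherent kernel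
induces a surjection. -/
theorem HHmap_surjective_of_epi {M N : (CohB1.ProjSpace n A).Modules} (p : M ⟶ N) [Epi p]
    (hK : Coh.IsQCoh (kernel p)) : Function.Surjective (HHmap p n) := by
  let S : ShortComplex (CohB1.ProjSpace n A).Modules :=
    ShortComplex.mk (kernel.ι p) p (kernel.condition p)
  have hS : S.ShortExact :=
    { exact := ShortComplex.exact_kernel p
      mono_f := inferInstanceAs (Mono (kernel.ι p))
      epi_g := inferInstanceAs (Epi p) }
  have hsub : Subsingleton (Coh.HH (CohB1.ProjSpace n A) S.X₁ (n + 1)) :=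
    subsingleton_HH_succ n A (kernel p) (n + 1) le_rfl
  intro y
  have h1 : δ hS n y = 0 := Subsingleton.elim _ _
  exact (exact_g_δ hS n y).1 h1

variable [IsNoetherianRing A] {ω : (CohB1.ProjSpace n A).Modules}
  (t : Coh.HH (CohB1.ProjSpace n A) ω n →ₗ[A] A)

/-- **dévissage**: a pair dualizing all the twisting sheaves dualizes all coherent modules. -/
theorem bijective_D_of_isCoh
    (hline : ∀ q : ℤ, Function.Bijective (D t (Twist.twistProjSpace n A q)))
    (F : (CohB1.ProjSpace n A).Modules) (hF : Coh.IsCoh F) : Function.Bijective (D t F) := by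
  haveI := Groth.Agent.R2.H58.SerreFin.isLocallyNoetherian_projSpace n A
  obtain ⟨m₀, h⟩ := exists_epi_coprod_twistProjSpace n A F hF
  obtain ⟨r, p, hp, hE⟩ := h m₀ le_rfl
  have hK : Coh.IsCoh (kernel p) := (Groth.Agent.S9514.result (CohB1.ProjSpace n A) hE hF p).1
  obtain ⟨m₁, h'⟩ := exists_epi_coprod_twistProjSpace n A (kernel p) hK
  obtain ⟨r', p', hp', hE'⟩ := h' m₁ le_rfl
  let S : ShortComplex (CohB1.ProjSpace n A).Modules :=
    ShortComplex.mk (p' ≫ kernel.ι p) p (by rw [Category.assoc, kernel.condition, comp_zero])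
  let S' : ShortComplex (CohB1.ProjSpace n A).Modules :=
    ShortComplex.mk (kernel.ι p) p (kernel.condition p)
  let φ : S ⟶ S' :=
    { τ₁ := p'
      τ₂ := 𝟙 _
      τ₃ := 𝟙 _
      comm₁₂ := by simp [S, S']
      comm₂₃ := by simp [S, S'] }
  haveI : Epi φ.τ₁ := hp'
  haveI : IsIso φ.τ₂ := inferInstanceAs (IsIso (𝟙 _))
  haveI : Mono φ.τ₃ := inferInstanceAs (Mono (𝟙 _))
  have hS : S.Exact := (ShortComplex.exact_iff_of_epi_of_isIso_of_mono φ).2 (ShortComplex.exact_kernel p)
  haveI : Epi S.g := hp
  exact bijective_D_of_exact t S hS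
    (bijective_D_coprod t _ (fun _ => hline _))
    (bijective_D_coprod t _ (fun _ => hline _)).1
    (HHmap_surjective_of_epi n A p hK.1)

end Groth.Agent.R2.H79.PnDualSerre
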