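import Mathlib
import Groth.Agent.R2.H79PnDualMain
import Groth.Agent.R2.H79PnDualSerre

/-!
# `O(-n-1)` is a dualizing sheaf on `P^n_A` (helper79, PROJ:pn-duality): final assembly

For a Noetherian ring `A` and every `n` (including `n = 0`): there is an `A`-linear isomorphism
`t : H^n(P^n_A, O(-n-1)) ≃ A` such that for every coherent `F` the map `Hom(F, O(-n-1)) → Hom_A(H^n(F), A)`,
`φ ↦ t ∘ H^n(φ)`, is bijective.
-/

set_option autoImplicit false
set_option linter.unusedSectionVars false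
set_option linter.unusedVariables false
universe u

open CategoryTheory CategoryTheory.Limits AlgebraicGeometry TopologicalSpace Opposite MvPolynomial

namespace Groth.Agent.R2.H79.PnDualFinal

open Groth.Agent.Lib.Helper27GrTildeSect Groth.Agent.Lib.Helper27ProjGamma
  Groth.Agent.Lib.Helper27PnSections Groth.Agent.R2.H79.PnBridge Groth.Agent.R2.H79.PnCoh
  Groth.Agent.R2.H79.PnDualHom Groth.Agent.R2.H79.PnDualMain Groth.Agent.R2.H79.PnDualGen
  Groth.Agent.R2.H79.PnDualSerre
  Groth.Agent.Lib.Helper23.SecTw Groth.Agent.Lib.Helper23.GenLocus Groth.Agent.Lib.Helper23.Extend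
  Groth.Agent.Lib.Helper6

section Zero

variable {n : ℕ} {R : Type u} [CommRing R]

local notation "𝒢" => CohB1.polyGrading n R
local notation "S" => MvPolynomial (Fin (n + 1)) R

/-- on `P^0_R` all twisting sheaves are isomorphic. -/
theorem nonempty_iso_tilde_of_zero (h0 : n = 0) (a b : ℤ) :
    Nonempty (GrTilde.tilde 𝒢 𝒢 a ≅ GrTilde.tilde 𝒢 𝒢 b) := by
  obtain ⟨Φ, -⟩ := exists_iso_of_frames (GrTilde.tilde 𝒢 𝒢 a) (GrTilde.tilde 𝒢 𝒢 b)
    (fun _ : Unit => Ucov n R (ULift.up 0))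
    (fun y => by
      obtain ⟨i, hi⟩ := exists_X_not_mem n R y
      have hi0 : i = 0 := Fin.ext (by have := i.2; omega)
      subst hi0
      exact ⟨(), (ProjectiveSpectrum.mem_basicOpen 𝒢 _ y).2 hi⟩)
    (fun _ => monoSec a 0 _ (X_not_mem_of_mem_Ucov 0))
    (fun _ => monoSec b 0 _ (X_not_mem_of_mem_Ucov 0))
    (fun _ => isGen_monoSec a 0 _ (X_not_mem_of_mem_Ucov 0))
    (fun _ => isGen_monoSec b 0 _ (X_not_mem_of_mem_Ucov 0))
    (fun _ _ g hg => by
      have hinj := (isGen_monoSec (n := n) (R := R) a 0 _ (X_not_mem_of_mem_Ucov 0) _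
        (inf_le_right : Ucov n R (ULift.up 0) ⊓ Ucov n R (ULift.up 0) ≤ Ucov n R (ULift.up 0))).1
      have h1 : g = 1 := by
        apply hinj
        change g • _ = (1 : Γ(Proj 𝒢, _)) • _
        rw [one_smul]
        exact hg.symm
      rw [h1, one_smul])
  exact ⟨Φ⟩

end Zero

variable (A : Type u) [CommRing A] [IsNoetherianRing A] (n : ℕ)

/-- **`O(-n-1)` is dualizing on `P^n_A`.** -/
theorem exists_dualizing :
    ∃ t : Coh.HH (CohB1.ProjSpace n A) (Twist.twistProjSpace n A (-((n : ℤ) + 1))) n ≃ₗ[A] A,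
      ∀ F : (CohB1.ProjSpace n A).Modules, Coh.IsCoh F → IsDual t.toLinearMap F := by
  obtain ⟨t, ht⟩ := main_family' (n := n) (R := A) (fun d => Twist.twistProjSpace n A d)
    (funext (twistProjSpace_eq_tilde n A))
  refine ⟨t, fun F hF => ?_⟩
  rw [isDual_iff]
  refine bijective_D_of_isCoh n A t.toLinearMap (fun q => ?_) F hF
  rcases Nat.eq_zero_or_pos n with h0 | hpos
  · -- `n = 0`: all twisting sheaves are isomorphic to `ω`
    have h1 : IsDual t.toLinearMap (Twist.twistProjSpace n A (-(0 + (n : ℤ) + 1))) :=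
      ht 0 (Or.inr ⟨h0, rfl⟩)
    have e : -(0 + (n : ℤ) + 1) = -((n : ℤ) + 1) := by ring
    rw [e, isDual_iff] at h1
    obtain ⟨ι⟩ : Nonempty (Twist.twistProjSpace n A (-((n : ℤ) + 1)) ≅ Twist.twistProjSpace n A q) := by
      rw [twistProjSpace_eq_tilde, twistProjSpace_eq_tilde]
      exact nonempty_iso_tilde_of_zero h0 _ _
    exact bijective_D_of_iso t.toLinearMap ι h1
  · obtain ⟨m, rfl⟩ : ∃ m : ℤ, q = -(m + (n : ℤ) + 1) := ⟨-q - n - 1, by ring⟩
    rw [← isDual_iff]
    exact ht m (Or.inl hpos)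

end Groth.Agent.R2.H79.PnDualFinal
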