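import Mathlib
import Groth.Agent.R2.H79PnLaurentGlue
import Groth.Agent.Lib.Helper27PnSections

/-!
# Dimensions of the cohomology of `O(n)` on `P^r_k` and the Euler characteristic (helper79)
-/

set_option autoImplicit false
set_option linter.unusedSectionVars false
set_option linter.unusedVariables false
universe u

open MvPolynomial

namespace Groth.Agent.R2.H79.PnEuler

section Count

variable (σ : Type) [Fintype σ] [DecidableEq σ]

/-- exponent vectors of degree `d` are the `finsuppAntidiag` of `univ`. -/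
noncomputable def degreeEquiv (d : ℕ) :
    {s : σ →₀ ℕ // s.degree = d} ≃ ↥((Finset.univ : Finset σ).finsuppAntidiag d) where
  toFun s := ⟨s.1, by
    rw [Finset.mem_finsuppAntidiag]
    exact ⟨(Finsupp.degree_eq_sum s.1).symm.trans s.2, Finset.subset_univ _⟩⟩
  invFun s := ⟨s.1, by
    exact (Finsupp.degree_eq_sum s.1).trans (Finset.mem_finsuppAntidiag.1 s.2).1⟩
  left_inv s := rfl
  right_inv s := rfl

/-- the number of exponent vectors of degree `d` in `r + 1` variables. -/
theorem card_degree_eq (r d : ℕ) :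
    Nat.card {s : Fin (r + 1) →₀ ℕ // s.degree = d} = (d + r).choose r := by
  rw [Nat.card_congr (degreeEquiv (Fin (r + 1)) d), Nat.card_eq_fintype_card, Fintype.card_coe,
    Finset.card_finsuppAntidiag_nat_eq_choose, Finset.card_univ, Fintype.card_fin]
  have e : r + 1 + d - 1 = d + r := by omega
  rw [e, ← Nat.choose_symm_add]

end Count

section Finrank

variable (k : Type u) [Field k]

/-- the dimension of the space of homogeneous polynomials of degree `d` in `r + 1` variables. -/
theorem finrank_homogeneousSubmodule (r d : ℕ) :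
    Module.finrank k ↥(MvPolynomial.homogeneousSubmodule (Fin (r + 1)) k d) = (d + r).choose r := by
  rw [MvPolynomial.homogeneousSubmodule_eq_finsupp_supported,
    LinearEquiv.finrank_eq (AddMonoidAlgebra.supportedEquivFinsupp (R := k) (S := k)
      {s : Fin (r + 1) →₀ ℕ | s.degree = d})]
  let _ : Fintype ↥{s : Fin (r + 1) →₀ ℕ | s.degree = d} :=
    (Finsupp.finite_of_degree_eq (σ := Fin (r + 1)) d).fintype
  rw [Module.finrank_finsupp_self, ← Nat.card_eq_fintype_card]
  exact card_degree_eq r d

end Finrank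

section Coh

open AlgebraicGeometry CategoryTheory Coherent

variable (k : Type u) [Field k] (r : ℕ)

/-- `h^0(P^r_k, O(d)) = C(d + r, r)` for `d ≥ 0`. -/
theorem finrank_HH_zero (d : ℕ) :
    Module.finrank k (Coh.HH (CohB1.ProjSpace r k) (Twist.twistProjSpace r k (d : ℤ)) 0) =
      (d + r).choose r := by
  obtain ⟨e⟩ := Groth.Agent.Lib.Helper27PnSections.nonempty_linearEquiv r k d
  rw [LinearEquiv.finrank_eq e, finrank_homogeneousSubmodule]

/-- `h^r(P^r_k, O(-r-1-d)) = C(d + r, r)` for `d ≥ 0`. -/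
theorem finrank_HH_top (d : ℕ) :
    Module.finrank k (Coh.HH (CohB1.ProjSpace r k)
      (Twist.twistProjSpace r k (-((r : ℤ) + 1 + d))) r) = (d + r).choose r := by
  obtain ⟨e⟩ := Groth.Agent.R2.H79.PnLaurentGlue.nonempty_top_linearEquiv_homogeneous r k d
  rw [LinearEquiv.finrank_eq e, finrank_homogeneousSubmodule]

/-- all other cohomology groups vanish. -/
theorem finrank_HH_eq_zero (n : ℤ) (q : ℕ) (h₀ : ¬ (q = 0 ∧ 0 ≤ n))
    (hn : ¬ (q = r ∧ n ≤ -((r : ℤ) + 1))) :
    Module.finrank k (Coh.HH (CohB1.ProjSpace r k) (Twist.twistProjSpace r k n) q) = 0 := by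
  have := Groth.Agent.R2.H79.PnLaurentGlue.subsingleton_HH_twist r k n q h₀ hn
  exact Module.finrank_zero_of_subsingleton

/-- **Euler characteristic of `O(n)` on `P^r_k`** (S4466). -/
theorem euler_twist (hr : 0 < r) (n : ℤ) :
    ((Finset.range (r + 1)).sum fun j => (-1 : ℤ) ^ j *
        (Module.finrank k (Coh.HH (CohB1.ProjSpace r k) (Twist.twistProjSpace r k n) j) : ℤ)) =
      Ring.choose (n + r) r := by
  rcases le_or_gt 0 n with h | h
  · -- `n ≥ 0`: only `j = 0` contributes
    obtain ⟨d, rfl⟩ := Int.eq_ofNat_of_zero_le h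
    rw [Finset.sum_eq_single_of_mem 0 (by simp)]
    · rw [finrank_HH_zero, pow_zero, one_mul]
      have : ((d : ℤ) + (r : ℤ)) = ((d + r : ℕ) : ℤ) := by push_cast; rfl
      rw [this, Ring.choose_natCast]
    · intro j _ hj
      rw [finrank_HH_eq_zero k r _ j (fun h => hj h.1) (fun h => by omega)]
      simp
  rcases le_or_gt n (-((r : ℤ) + 1)) with h' | h'
  · -- `n ≤ -r-1`: only `j = r` contributes
    obtain ⟨d, hd⟩ := Int.eq_ofNat_of_zero_le (show 0 ≤ -((r : ℤ) + 1) - n by omega)
    have hn : n = -((r : ℤ) + 1 + d) := by omega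
    subst hn
    rw [Finset.sum_eq_single_of_mem r (by simp)]
    · rw [finrank_HH_top]
      have : (-((r : ℤ) + 1 + d) + (r : ℤ)) = -(((d : ℕ) : ℤ) + 1) := by ring
      rw [this, Ring.choose_neg]
      have h2 : ((d : ℕ) : ℤ) + 1 + ((r : ℕ) : ℤ) - 1 = ((d + r : ℕ) : ℤ) := by push_cast; ring
      rw [h2, Ring.choose_natCast]
      simp [Units.smul_def, Int.negOnePow_def]
    · intro j _ hj
      rw [finrank_HH_eq_zero k r _ j (fun h => by omega) (fun h => hj h.1)]
      simp
  · -- `-r-1 < n < 0`: everything vanishes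
    rw [Finset.sum_eq_zero]
    · obtain ⟨m, hm⟩ := Int.eq_ofNat_of_zero_le (show 0 ≤ n + r by omega)
      rw [hm, Ring.choose_natCast, Nat.choose_eq_zero_of_lt (by omega)]
      rfl
    · intro j _
      rw [finrank_HH_eq_zero k r _ j (fun h => by omega) (fun h => by omega)]
      simp

end Coh

end Groth.Agent.R2.H79.PnEuler
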