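import Mathlib
import Groth.Agent.S12483
import Groth.Agent.Lib.Helper20LocFree
import Groth.Agent.R2.H79TwistCalc2
import Groth.Agent.R2.H79PnLaurentGlue
import Groth.Agent.R2.H79PnDualSerre
import Groth.Agent.R2.H79PnIdeal

/-!
# Vanishing of `Ext^i(⊕ O(-q), O(d))` on `P^n_R` (helper79, PROJ:pn-duality)
-/

set_option autoImplicit false
set_option linter.unusedSectionVars false
set_option linter.unusedVariables false
set_option linter.style.haveILetI false
universe u

open CategoryTheory CategoryTheory.Limits AlgebraicGeometry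

namespace Groth.Agent.R2.H79.PnExtVan

open Groth.Agent.Lib.Helper21.ModTensor3 Groth.Agent.Lib.Helper21.ModTensor7

section General

variable {C : Type*} [Category C] [Abelian C] [HasExt.{u} C]

/-- vanishing of `Ext` is invariant under isomorphisms in the first variable. -/
theorem subsingleton_ext_of_iso_left {X X' : C} (e : X ≅ X') (Y : C) (n : ℕ)
    (h : Subsingleton (Abelian.Ext.{u} X Y n)) : Subsingleton (Abelian.Ext.{u} X' Y n) := by
  refine ⟨fun a b => ?_⟩
  have key : ∀ x : Abelian.Ext.{u} X' Y n,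
      x = (Abelian.Ext.mk₀ e.inv).comp ((Abelian.Ext.mk₀ e.hom).comp x (zero_add n)) (zero_add n) := by
    intro x
    rw [← Abelian.Ext.comp_assoc_of_second_deg_zero, Abelian.Ext.mk₀_comp_mk₀, e.inv_hom_id,
      Abelian.Ext.mk₀_id_comp]
  rw [key a, key b, Subsingleton.elim ((Abelian.Ext.mk₀ e.hom).comp a (zero_add n))
    ((Abelian.Ext.mk₀ e.hom).comp b (zero_add n))]

/-- vanishing of `Ext` is invariant under isomorphisms in the second variable. -/
theorem subsingleton_ext_of_iso_right (X : C) {Y Y' : C} (e : Y ≅ Y') (n : ℕ)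
    (h : Subsingleton (Abelian.Ext.{u} X Y n)) : Subsingleton (Abelian.Ext.{u} X Y' n) :=
  (Groth.Agent.S12483.extAddEquivRight X e n).symm.toEquiv.subsingleton

end General

section Equiv

variable {C : Type (u + 1)} [Category.{u} C] [Abelian C] [HasExt.{u} C] [EnoughInjectives C]

/-- an exact auto-equivalence induces bijections on `Ext`. -/
theorem mapExt_bijective_of_equivalence (e : C ≌ C) [e.functor.Additive] (X Y : C) (n : ℕ) :
    Function.Bijective (e.functor.mapExtAddHom X Y n) := by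
  haveI : e.functor.PreservesInjectiveObjects :=
    Functor.preservesInjectiveObjects_of_adjunction_of_preservesMonomorphisms e.symm.toAdjunction
  exact Functor.mapExt_bijective_of_preservesInjectiveObjects e.functor X Y n

end Equiv

section Unit

variable (X : Scheme.{u}) [HasExt.{u} X.Modules]

theorem isFinLocFree_structureModule : FlatMod.IsFinLocFree (Coh.structureModule X) :=
  Groth.Agent.Lib.Helper20.LocFree.isFinLocFree_of_retract (n := 1)
    (Sigma.ι (fun _ : Fin 1 => Coh.structureModule X) 0) (Sigma.desc (fun _ => 𝟙 _)) (by simp)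

/-- the adjunction `O ⊗ - ⊣ id`. -/
noncomputable def unitAdj : tL X.sheaf (ModSite.unit X.sheaf) ⊣ 𝟭 (ModSite.Mod X.sheaf) :=
  (Adjunction.id (C := ModSite.Mod X.sheaf)).ofNatIsoLeft (tLUnitIso X.sheaf).symm

theorem hasSheafHom_structureModule : DCoh.HasSheafHom (Coh.structureModule X) :=
  (unitAdj X).isLeftAdjoint

/-- `ℋom(O, -) ≅ id`. -/
noncomputable def sheafHomUnitIso [DCoh.HasSheafHom (Coh.structureModule X)] :
    (DCoh.sheafHom (Coh.structureModule X) : ModSite.Mod X.sheaf ⥤ ModSite.Mod X.sheaf) ≅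
      𝟭 (ModSite.Mod X.sheaf) :=
  (DCoh.sheafHomAdj (Coh.structureModule X)).rightAdjointUniq (unitAdj X)

/-- **`Ext^p(O_X, M) ≅ H^p(X, M)`** (additively). -/
theorem nonempty_ext_unit_addEquiv_HH (M : X.Modules) (p : ℕ) :
    Nonempty (Abelian.Ext.{u} (Coh.structureModule X) M p ≃+ Coh.HH X M p) := by
  haveI := hasSheafHom_structureModule X
  obtain ⟨e⟩ := Groth.Agent.S12483.result X (Coh.structureModule X) M (isFinLocFree_structureModule X) p
  exact ⟨e.trans (Groth.Agent.R2.H79.PnIdeal.HHequiv ((sheafHomUnitIso X).app M) p)⟩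

end Unit

section Coprod

variable {C : Type (u + 1)} [Category.{u} C] [Abelian C] [HasExt.{u} C]

/-- `Ext^n(∐ E_j, Y) = 0` if all `Ext^n(E_j, Y) = 0`. -/
theorem subsingleton_ext_coprod {r : ℕ} (E : Fin r → C) (Y : C) (n : ℕ)
    (h : ∀ j, Subsingleton (Abelian.Ext.{u} (E j) Y n)) :
    Subsingleton (Abelian.Ext.{u} (∐ E) Y n) := by
  haveI : HasFiniteBiproducts C := Abelian.hasFiniteBiproducts
  have h1 : Subsingleton (Abelian.Ext.{u} (⨁ E) Y n) :=
    (Abelian.Ext.biproductAddEquiv (biproduct.isBilimit E) Y n).toEquiv.subsingleton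
  exact subsingleton_ext_of_iso_left (biproduct.isoCoproduct E) Y n h1

end Coprod

section Pn

open Groth.Agent.R2.H79.TwistCalc

variable (n : ℕ) (R : Type u) [CommRing R]

/-- twisting by `O(d)` on `P^n_R`, as a functor on the modules of the frozen `CohB1.ProjSpace`. -/
noncomputable abbrev twF (d : ℤ) :
    (CohB1.ProjSpace n R).Modules ⥤ (CohB1.ProjSpace n R).Modules :=
  tensorRightF (Twist.twistProjSpace n R d)

/-- `(-)(a)(b) ≅ (-)(c)` for `a + b = c`. -/
noncomputable def twFComp (a b c : ℤ) (h : a + b = c) : twF n R a ⋙ twF n R b ≅ twF n R c :=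
  tensorAssocNatIso _ _ ≪≫ tensorRightFCongr
    ((nonempty_twistProjSpace_tensor_iso n R a b).some ≪≫ eqToIso (by rw [h]))

/-- `(-)(0) ≅ id`. -/
noncomputable def twFZero : twF n R 0 ≅ 𝟭 _ :=
  tensorRightFCongr (nonempty_twistProjSpace_zero_iso n R).some.symm ≪≫ tensorRightFUnit

/-- twisting by `O(d)` is an auto-equivalence of the category of modules on `P^n_R`. -/
noncomputable def twEquiv (d : ℤ) :
    (CohB1.ProjSpace n R).Modules ≌ (CohB1.ProjSpace n R).Modules :=
  CategoryTheory.Equivalence.mk (twF n R d) (twF n R (-d))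
    ((twFZero n R).symm ≪≫ (twFComp n R d (-d) 0 (add_neg_cancel d)).symm)
    (twFComp n R (-d) d 0 (neg_add_cancel d) ≪≫ twFZero n R)

theorem twEquiv_functor (d : ℤ) : (twEquiv n R d).functor = twF n R d := rfl

variable [HasExt.{u} (CohB1.ProjSpace n R).Modules]

/-- `Ext^i(A, B) = 0` if `Ext^i(A(d), B(d)) = 0`. -/
theorem subsingleton_ext_of_twist (d : ℤ) (A B : (CohB1.ProjSpace n R).Modules) (i : ℕ)
    (h : Subsingleton (Abelian.Ext.{u} ((twF n R d).obj A) ((twF n R d).obj B) i)) :
    Subsingleton (Abelian.Ext.{u} A B i) := by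
  haveI := Groth.Agent.Lib.Helper21.ModTensor3.isGrothendieckAbelian (CohB1.ProjSpace n R).sheaf
  haveI : EnoughInjectives (CohB1.ProjSpace n R).Modules :=
    inferInstanceAs (EnoughInjectives (ModSite.Mod (CohB1.ProjSpace n R).sheaf))
  haveI : (twEquiv n R d).functor.Additive := inferInstanceAs (twF n R d).Additive
  haveI : Subsingleton (Abelian.Ext.{u} ((twEquiv n R d).functor.obj A)
      ((twEquiv n R d).functor.obj B) i) := h
  exact (mapExt_bijective_of_equivalence (twEquiv n R d) A B i).1.subsingleton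

/-- **`Ext^i(O(a), O(b)) ≅ H^i(O(b - a))`, vanishing form.** -/
theorem subsingleton_ext_twist_of_HH (a b c : ℤ) (hc : b + -a = c) (i : ℕ)
    (h : Subsingleton (Coh.HH (CohB1.ProjSpace n R) (Twist.twistProjSpace n R c) i)) :
    Subsingleton (Abelian.Ext.{u} (Twist.twistProjSpace n R a) (Twist.twistProjSpace n R b) i) := by
  apply subsingleton_ext_of_twist n R (-a)
  -- `O(a)(-a) ≅ O`, `O(b)(-a) ≅ O(c)`
  have e1 : (twF n R (-a)).obj (Twist.twistProjSpace n R a) ≅
      Coh.structureModule (CohB1.ProjSpace n R) :=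
    (nonempty_twistProjSpace_tensor_iso n R a (-a)).some ≪≫ eqToIso (by rw [add_neg_cancel]) ≪≫
      (nonempty_twistProjSpace_zero_iso n R).some.symm
  have e2 : (twF n R (-a)).obj (Twist.twistProjSpace n R b) ≅ Twist.twistProjSpace n R c :=
    (nonempty_twistProjSpace_tensor_iso n R b (-a)).some ≪≫ eqToIso (by rw [hc])
  obtain ⟨e3⟩ := nonempty_ext_unit_addEquiv_HH (CohB1.ProjSpace n R) (Twist.twistProjSpace n R c) i
  have h3 : Subsingleton (Abelian.Ext.{u} (Coh.structureModule (CohB1.ProjSpace n R))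
      (Twist.twistProjSpace n R c) i) := e3.toEquiv.subsingleton
  exact subsingleton_ext_of_iso_left e1.symm _ i (subsingleton_ext_of_iso_right _ e2.symm i h3)

/-- `Ext^i(O(-q), O(-n-1)) = 0` for `q ≥ 1`, `i ≥ 1`. -/
theorem subsingleton_ext_neg_twist (q : ℕ) (hq : 1 ≤ q) (i : ℕ) (hi : 1 ≤ i) :
    Subsingleton (Abelian.Ext.{u} (Twist.twistProjSpace n R (-(q : ℤ)))
      (Twist.twistProjSpace n R (-((n : ℤ) + 1))) i) := by
  refine subsingleton_ext_twist_of_HH n R _ _ ((q : ℤ) - n - 1) (by ring) i ?_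
  rcases Nat.lt_or_ge n i with h | h
  · haveI : Coh.IsQCoh (Twist.twistProjSpace n R ((q : ℤ) - n - 1)) :=
      (isCoh_twistProjSpace n R _).1
    exact Groth.Agent.R2.H79.PnDualSerre.subsingleton_HH_succ n R _ i h
  · exact Groth.Agent.R2.H79.PnLaurentGlue.subsingleton_HH_twist n R _ i (fun h0 => by omega)
      (fun h0 => by omega)

/-- `Ext^i(⊕ O(-q), O(-n-1)) = 0` for `q ≥ 1`, `i ≥ 1`. -/
theorem subsingleton_ext_coprod_neg_twist (q : ℕ) (hq : 1 ≤ q) (r : ℕ) (i : ℕ) (hi : 1 ≤ i) :
    Subsingleton (Abelian.Ext.{u} (∐ fun _ : Fin r => Twist.twistProjSpace n R (-(q : ℤ)))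
      (Twist.twistProjSpace n R (-((n : ℤ) + 1))) i) :=
  subsingleton_ext_coprod _ _ i (fun _ => subsingleton_ext_neg_twist n R q hq i hi)

end Pn

end Groth.Agent.R2.H79.PnExtVan
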