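import Mathlib
import Groth.Prelude.Def_KLin
import Groth.Agent.R2.H79PnExtVan
import Groth.Agent.R2.H79PnDualFinal

/-!
# `Ext^i(F, ω) ≅ H^{n-i}(F)^*` on `P^n_k` (helper79, PROJ:pn-duality)

Dimension shifting along presentations `0 → K → ⊕ O(-q) → F → 0`.
-/

set_option autoImplicit false
set_option linter.unusedSectionVars false
set_option linter.unusedVariables false
set_option linter.style.haveILetI false
universe w u

open CategoryTheory CategoryTheory.Limits AlgebraicGeometry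

namespace Groth.Agent.R2.H79.PnExtDual

open Groth.Agent.R2.H62.CohLES Groth.Agent.R2.H79.PnDualGen

section LinAlg

variable {k : Type*} [CommRing k] {M N P : Type*} [AddCommGroup M] [Module k M]
  [AddCommGroup N] [Module k N] [AddCommGroup P] [Module k P]

/-- two surjections with the same kernel have isomorphic targets. -/
noncomputable def equivOfSurjOfKerEq (f : M →ₗ[k] N) (g : M →ₗ[k] P) (hf : Function.Surjective f)
    (hg : Function.Surjective g) (h : LinearMap.ker f = LinearMap.ker g) : N ≃ₗ[k] P :=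
  (f.quotKerEquivOfSurjective hf).symm ≪≫ₗ Submodule.quotEquivOfEq _ _ h ≪≫ₗ
    g.quotKerEquivOfSurjective hg

end LinAlg

section ExtGen

open Abelian

variable {k : Type*} [CommRing k] {C : Type*} [Category C] [Abelian C] [Linear k C] [HasExt.{w} C]
  {S : ShortComplex C} (hS : S.ShortExact) (Y : C)

/-- the connecting map of the contravariant long exact `Ext` sequence, as a linear map. -/
noncomputable def extδ {n₀ n₁ : ℕ} (h : 1 + n₀ = n₁) : Ext.{w} S.X₁ Y n₀ →ₗ[k] Ext.{w} S.X₃ Y n₁ :=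
  hS.extClass.precompOfLinear k Y h

theorem extδ_apply {n₀ n₁ : ℕ} (h : 1 + n₀ = n₁) (x : Ext.{w} S.X₁ Y n₀) :
    extδ (k := k) hS Y h x = hS.extClass.comp x h := rfl

theorem extδ_eq_zero_iff {n₀ n₁ : ℕ} (h : 1 + n₀ = n₁) (x : Ext.{w} S.X₁ Y n₀) :
    extδ (k := k) hS Y h x = 0 ↔ ∃ x₂ : Ext.{w} S.X₂ Y n₀, (Ext.mk₀ S.f).comp x₂ (zero_add n₀) = x := by
  rw [extδ_apply]
  constructor
  · intro hx
    exact Ext.contravariant_sequence_exact₁ hS Y x h hx
  · rintro ⟨x₂, rfl⟩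
    exact hS.extClass_comp_assoc x₂

theorem extδ_injective {n₀ n₁ : ℕ} (h : 1 + n₀ = n₁) (h0 : Subsingleton (Ext.{w} S.X₂ Y n₀)) :
    Function.Injective (extδ (k := k) hS Y h) := by
  rw [injective_iff_map_eq_zero]
  intro x hx
  obtain ⟨x₂, rfl⟩ := (extδ_eq_zero_iff hS Y h x).1 hx
  rw [Subsingleton.elim x₂ 0, Ext.comp_zero]

theorem extδ_surjective {n₀ n₁ : ℕ} (h : 1 + n₀ = n₁) (h1 : Subsingleton (Ext.{w} S.X₂ Y n₁)) :
    Function.Surjective (extδ (k := k) hS Y h) := by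
  intro x₃
  obtain ⟨x₁, hx₁⟩ := Ext.contravariant_sequence_exact₃ hS Y x₃ (Subsingleton.elim _ _) h
  exact ⟨x₁, hx₁⟩

/-- dimension shifting. -/
noncomputable def extδEquiv {n₀ n₁ : ℕ} (h : 1 + n₀ = n₁) (h0 : Subsingleton (Ext.{w} S.X₂ Y n₀))
    (h1 : Subsingleton (Ext.{w} S.X₂ Y n₁)) : Ext.{w} S.X₁ Y n₀ ≃ₗ[k] Ext.{w} S.X₃ Y n₁ :=
  LinearEquiv.ofBijective (extδ (k := k) hS Y h) ⟨extδ_injective hS Y h h0, extδ_surjective hS Y h h1⟩

end ExtGen

section CohGen

variable {X : Scheme.{u}}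

/-- cohomology of a finite coproduct of modules with vanishing cohomology vanishes. -/
theorem subsingleton_HH_coprod {r : ℕ} (E : Fin r → X.Modules) (j : ℕ)
    (h : ∀ i, Subsingleton (Coh.HH X (E i) j)) : Subsingleton (Coh.HH X (∐ E) j) := by
  refine ⟨fun x y => ?_⟩
  have : HasFiniteBiproducts X.Modules := Abelian.hasFiniteBiproducts
  let e : ⨁ E ≅ ∐ E := biproduct.isoCoproduct E
  have hι : ∀ i, biproduct.ι E i ≫ e.hom = Sigma.ι E i := by
    intro i
    change biproduct.ι E i ≫ (biproduct.isoCoproduct E).hom = _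
    rw [biproduct.isoCoproduct_hom, biproduct.ι_desc]
  have hx : ∀ x : Coh.HH X (∐ E) j, x = 0 := by
    intro x
    have h1 : (𝟙 (∐ E) : ∐ E ⟶ ∐ E) = ∑ i, (e.inv ≫ biproduct.π E i) ≫ Sigma.ι E i := by
      have h2 : (𝟙 (∐ E) : ∐ E ⟶ ∐ E) = e.inv ≫ (∑ i, biproduct.π E i ≫ biproduct.ι E i) ≫ e.hom := by
        rw [biproduct.total, Category.id_comp, e.inv_hom_id]
      rw [h2, Preadditive.sum_comp, Preadditive.comp_sum]
      refine Finset.sum_congr rfl (fun i _ => ?_)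
      rw [Category.assoc, hι, Category.assoc]
    have h3 := HHmap_id (M := ∐ E) j x
    rw [h1, HHmap_sum] at h3
    rw [← h3]
    refine Finset.sum_eq_zero (fun i _ => ?_)
    rw [HHmap_comp, Subsingleton.elim (HHmap (e.inv ≫ biproduct.π E i) j x) 0, map_zero]
  rw [hx x, hx y]

variable {S : ShortComplex X.Modules} (hS : S.ShortExact)

theorem δ_injective (m : ℕ) (h : Subsingleton (Coh.HH X S.X₂ m)) : Function.Injective (δ hS m) := by
  rw [injective_iff_map_eq_zero]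
  intro y hy
  obtain ⟨z, rfl⟩ := (exact_g_δ hS m y).1 hy
  rw [Subsingleton.elim z 0, map_zero]

theorem δ_surjective (m : ℕ) (h : Subsingleton (Coh.HH X S.X₂ (m + 1))) :
    Function.Surjective (δ hS m) := by
  intro z
  exact (exact_δ_f hS m z).1 (Subsingleton.elim _ _)

variable (A : Type u) [CommRing A] [X.Over (Spec (CommRingCat.of A))]

theorem range_δA (m : ℕ) : LinearMap.range (δA hS A m) = LinearMap.ker (HHmapA A S.f (m + 1)) := by
  ext z
  rw [LinearMap.mem_range, LinearMap.mem_ker, HHmapA_apply]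
  exact ((exact_δ_f hS m z).symm : _)

/-- `H^m(F) ≃ H^{m+1}(K)` when the cohomology of the middle term vanishes in degrees `m`, `m + 1`. -/
noncomputable def δEquiv (m : ℕ) (h0 : Subsingleton (Coh.HH X S.X₂ m))
    (h1 : Subsingleton (Coh.HH X S.X₂ (m + 1))) : Coh.HH X S.X₃ m ≃ₗ[A] Coh.HH X S.X₁ (m + 1) :=
  LinearEquiv.ofBijective (δA hS A m) ⟨δ_injective hS m h0, δ_surjective hS m h1⟩

/-- `H^m(F) ≃ ker (H^{m+1}(K) → H^{m+1}(E))` when `H^m(E) = 0`. -/
noncomputable def δKerEquiv (m : ℕ) (h0 : Subsingleton (Coh.HH X S.X₂ m)) :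
    Coh.HH X S.X₃ m ≃ₗ[A] LinearMap.ker (HHmapA A S.f (m + 1)) :=
  LinearEquiv.ofInjective (δA hS A m) (δ_injective hS m h0) ≪≫ₗ LinearEquiv.ofEq _ _ (range_δA hS A m)

variable {A} {ω : X.Modules} {n : ℕ} (t : Coh.HH X ω n →ₗ[A] A)

/-- the pairing map `φ ↦ t ∘ H^n(φ)` is `A`-linear. -/
noncomputable def DL (F : X.Modules) : (F ⟶ ω) →ₗ[A] (Coh.HH X F n →ₗ[A] A) where
  toFun := D t F
  map_add' φ ψ := by
    ext x
    rw [LinearMap.add_apply, D_apply, D_apply, D_apply, HHmap_add, map_add]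
  map_smul' a φ := by
    ext x
    rw [RingHom.id_apply, LinearMap.smul_apply, D_apply, D_apply, KLin.smul_def, HHmap_comp]
    change t (HHmap φ n (a • x)) = a • t (HHmap φ n x)
    rw [← HHmapA_apply A φ n, map_smul, map_smul, HHmapA_apply]

theorem DL_apply (F : X.Modules) (φ : F ⟶ ω) : DL t F φ = D t F φ := rfl

end CohGen

section Abstract

open Abelian

variable {k : Type u} [Field k] {X : Scheme.{u}} [X.Over (Spec (CommRingCat.of k))]
  [HasExt.{u} X.Modules] {ω : X.Modules} {n : ℕ} (t : Coh.HH X ω n →ₗ[k] k)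

theorem lin₀_mk₀ {F G : X.Modules} (φ : F ⟶ G) :
    Ext.linearEquiv₀ (R := k) (Ext.mk₀ φ : Ext.{u} F G 0) = φ := by
  rw [← Ext.linearEquiv₀_symm_apply (R := k), LinearEquiv.apply_symm_apply]

/-- degree `0`. -/
theorem nonempty_ext_zero (F : X.Modules) (hF : Function.Bijective (D t F)) :
    Nonempty (Ext.{u} F ω 0 ≃ₗ[k] Module.Dual k (Coh.HH X F n)) :=
  ⟨Ext.linearEquiv₀ (R := k) ≪≫ₗ LinearEquiv.ofBijective (DL t F) hF⟩

/-- degree `1`: `Ext^1(F, ω) ≅ (ker (H^n(K) → H^n(E)))^*` for `0 → K → E → F → 0` with `Ext^1(E, ω) = 0`. -/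
theorem nonempty_ext_one (S : ShortComplex X.Modules) (hS : S.ShortExact)
    (h1 : Subsingleton (Ext.{u} S.X₂ ω 1)) (hK : Function.Bijective (D t S.X₁))
    (hE : Function.Surjective (D t S.X₂)) :
    Nonempty (Ext.{u} S.X₃ ω 1 ≃ₗ[k] Module.Dual k (LinearMap.ker (HHmapA k S.f n))) := by
  let W : Submodule k (Coh.HH X S.X₁ n) := LinearMap.ker (HHmapA k S.f n)
  let δ₀ : Ext.{u} S.X₁ ω 0 →ₗ[k] Ext.{u} S.X₃ ω 1 := extδ (k := k) hS ω (by norm_num : 1 + 0 = 1)
  let Φ : Ext.{u} S.X₁ ω 0 →ₗ[k] Module.Dual k W :=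
    W.dualRestrict ∘ₗ (DL t S.X₁) ∘ₗ (Ext.linearEquiv₀ (R := k)).toLinearMap
  have hδ₀ : Function.Surjective δ₀ := extδ_surjective hS ω _ h1
  have hΦ : Function.Surjective Φ :=
    (Subspace.dualRestrict_surjective (W := W)).comp (hK.2.comp (LinearEquiv.surjective _))
  have hker : LinearMap.ker δ₀ = LinearMap.ker Φ := by
    ext x
    obtain ⟨φ, rfl⟩ := (Ext.linearEquiv₀ (R := k)).symm.surjective x
    rw [Ext.linearEquiv₀_symm_apply, LinearMap.mem_ker, LinearMap.mem_ker, extδ_eq_zero_iff]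
    have h2 : Φ (Ext.mk₀ φ) = 0 ↔ DL t S.X₁ φ ∈ W.dualAnnihilator := by
      rw [← Submodule.dualRestrict_ker_eq_dualAnnihilator, LinearMap.mem_ker]
      change W.dualRestrict (DL t S.X₁ (Ext.linearEquiv₀ (R := k) (Ext.mk₀ φ))) = 0 ↔ _
      rw [lin₀_mk₀]
    rw [h2, ← LinearMap.range_dualMap_eq_dualAnnihilator_ker, LinearMap.mem_range]
    constructor
    · rintro ⟨x₂, hx₂⟩
      obtain ⟨φ', rfl⟩ := (Ext.linearEquiv₀ (R := k)).symm.surjective x₂
      rw [Ext.linearEquiv₀_symm_apply, Ext.mk₀_comp_mk₀] at hx₂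
      have hφ : S.f ≫ φ' = φ := by
        have := congrArg (Ext.linearEquiv₀ (R := k)) hx₂
        rwa [lin₀_mk₀, lin₀_mk₀] at this
      refine ⟨D t S.X₂ φ', ?_⟩
      ext y
      rw [LinearMap.dualMap_apply, DL_apply, ← hφ, D_comp]
      rfl
    · rintro ⟨ψ, hψ⟩
      obtain ⟨φ', rfl⟩ := hE ψ
      refine ⟨Ext.mk₀ φ', ?_⟩
      rw [Ext.mk₀_comp_mk₀]
      congr 1
      apply hK.1
      ext y
      rw [D_comp]
      exact LinearMap.congr_fun hψ y
  exact ⟨equivOfSurjOfKerEq δ₀ Φ hδ₀ hΦ hker⟩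

end Abstract

section Pn

open Abelian Groth.Agent.R2.H79.PnExtVan Groth.Agent.R2.H79.TwistCalc

variable (k : Type u) [Field k] (n : ℕ) [HasExt.{u} (CohB1.ProjSpace n k).Modules]

/-- presentations `0 → K → E → F → 0` of coherent modules on `P^n_k` with `Ext^i(E, ω) = 0` for `i ≥ 1` and
`H^j(E) = 0` for `j < n`. -/
theorem exists_presentation (F : (CohB1.ProjSpace n k).Modules) (hF : Coh.IsCoh F) :
    ∃ (K E : (CohB1.ProjSpace n k).Modules) (f : K ⟶ E) (p : E ⟶ F) (w : f ≫ p = 0),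
      (ShortComplex.mk f p w).ShortExact ∧ Coh.IsCoh K ∧ Coh.IsCoh E ∧
      (∀ i : ℕ, 1 ≤ i →
        Subsingleton (Ext.{u} E (Twist.twistProjSpace n k (-((n : ℤ) + 1))) i)) ∧
      (∀ j : ℕ, j < n → Subsingleton (Coh.HH (CohB1.ProjSpace n k) E j)) := by
  haveI := Groth.Agent.R2.H58.SerreFin.isLocallyNoetherian_projSpace n k
  obtain ⟨m₀, h⟩ := exists_epi_coprod_twistProjSpace n k F hF
  obtain ⟨r, p, hp, hE⟩ := h (max m₀ 1) (le_max_left _ _)
  have hq : 1 ≤ max m₀ 1 := le_max_right _ _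
  have hK : Coh.IsCoh (kernel p) := (Groth.Agent.S9514.result (CohB1.ProjSpace n k) hE hF p).1
  refine ⟨kernel p, _, kernel.ι p, p, kernel.condition p, ?_, hK, hE, ?_, ?_⟩
  · exact ShortComplex.ShortExact.mk' (ShortComplex.exact_kernel p) inferInstance hp
  · intro i hi
    exact subsingleton_ext_coprod_neg_twist n k _ hq r i hi
  · intro j hj
    exact subsingleton_HH_coprod _ j (fun _ =>
      Groth.Agent.R2.H79.PnLaurentGlue.subsingleton_HH_twist n k _ j (fun h0 => by omega)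
        (fun h0 => by omega))

variable {k n}
variable (t : Coh.HH (CohB1.ProjSpace n k) (Twist.twistProjSpace n k (-((n : ℤ) + 1))) n →ₗ[k] k)
  (ht : ∀ F : (CohB1.ProjSpace n k).Modules, Coh.IsCoh F → Function.Bijective (D t F))

include ht in
theorem p_one (F : (CohB1.ProjSpace n k).Modules) (hF : Coh.IsCoh F) :
    (1 ≤ n → Nonempty (Ext.{u} F (Twist.twistProjSpace n k (-((n : ℤ) + 1))) 1 ≃ₗ[k]
      Module.Dual k (Coh.HH (CohB1.ProjSpace n k) F (n - 1)))) ∧
    (n < 1 → Subsingleton (Ext.{u} F (Twist.twistProjSpace n k (-((n : ℤ) + 1))) 1)) := by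
  obtain ⟨K, E, f, p, w, hS, hK, hEcoh, hExt, hHH⟩ := exists_presentation k n F hF
  obtain ⟨e₁⟩ := nonempty_ext_one t (ShortComplex.mk f p w) hS (hExt 1 le_rfl) (ht K hK)
    (ht E hEcoh).2
  constructor
  · intro hn
    obtain ⟨m, rfl⟩ : ∃ m, n = m + 1 := ⟨n - 1, by omega⟩
    have e₂ := δKerEquiv hS k m (hHH m (by omega))
    rw [Nat.add_sub_cancel]
    exact ⟨e₁ ≪≫ₗ e₂.dualMap⟩
  · intro hn
    obtain rfl : n = 0 := by omega
    have h0 : Function.Injective (HHmapA k f 0) := HHmap_f_zero_injective hS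
    have h1 : Subsingleton (LinearMap.ker (HHmapA k f 0)) := by
      rw [LinearMap.ker_eq_bot.2 h0]
      infer_instance
    have h2 : Subsingleton (Module.Dual k (LinearMap.ker (HHmapA k f 0))) :=
      ⟨fun a b => LinearMap.ext (fun x => by rw [Subsingleton.elim x 0, map_zero, map_zero])⟩
    exact e₁.toEquiv.subsingleton

include ht in
theorem p_step (i : ℕ)
    (ih : ∀ F : (CohB1.ProjSpace n k).Modules, Coh.IsCoh F →
      (i + 1 ≤ n → Nonempty (Ext.{u} F (Twist.twistProjSpace n k (-((n : ℤ) + 1))) (i + 1) ≃ₗ[k]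
        Module.Dual k (Coh.HH (CohB1.ProjSpace n k) F (n - (i + 1))))) ∧
      (n < i + 1 → Subsingleton (Ext.{u} F (Twist.twistProjSpace n k (-((n : ℤ) + 1))) (i + 1))))
    (F : (CohB1.ProjSpace n k).Modules) (hF : Coh.IsCoh F) :
    (i + 2 ≤ n → Nonempty (Ext.{u} F (Twist.twistProjSpace n k (-((n : ℤ) + 1))) (i + 2) ≃ₗ[k]
      Module.Dual k (Coh.HH (CohB1.ProjSpace n k) F (n - (i + 2))))) ∧
    (n < i + 2 → Subsingleton (Ext.{u} F (Twist.twistProjSpace n k (-((n : ℤ) + 1))) (i + 2))) := by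
  obtain ⟨K, E, f, p, w, hS, hK, hEcoh, hExt, hHH⟩ := exists_presentation k n F hF
  have eδ : Ext.{u} K (Twist.twistProjSpace n k (-((n : ℤ) + 1))) (i + 1) ≃ₗ[k]
      Ext.{u} F (Twist.twistProjSpace n k (-((n : ℤ) + 1))) (i + 2) :=
    extδEquiv (k := k) hS _ (by omega : 1 + (i + 1) = i + 2) (hExt (i + 1) (by omega))
      (hExt (i + 2) (by omega))
  constructor
  · intro hn
    generalize hm : n - (i + 2) = m
    have hm' : n - (i + 1) = m + 1 := by omega
    have h2 := (ih K hK).1 (by omega)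
    rw [hm'] at h2
    obtain ⟨e⟩ := h2
    have e' : Coh.HH (CohB1.ProjSpace n k) F m ≃ₗ[k] Coh.HH (CohB1.ProjSpace n k) K (m + 1) :=
      δEquiv hS k m (hHH m (by omega)) (hHH (m + 1) (by omega))
    exact ⟨eδ.symm ≪≫ₗ e ≪≫ₗ e'.dualMap⟩
  · intro hn
    have hKs : Subsingleton (Ext.{u} K (Twist.twistProjSpace n k (-((n : ℤ) + 1))) (i + 1)) := by
      rcases Nat.lt_or_ge n (i + 1) with h | h
      · exact (ih K hK).2 h
      · obtain ⟨e⟩ := (ih K hK).1 h
        have h0 : n - (i + 1) = 0 := by omega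
        rw [h0] at e
        have hinj : Function.Injective (HHmap (ShortComplex.mk f p w).f 0) :=
          HHmap_f_zero_injective (S := ShortComplex.mk f p w) hS
        have hE0 : Subsingleton (Coh.HH (CohB1.ProjSpace n k) E 0) := hHH 0 (by omega)
        have hK0 : Subsingleton (Coh.HH (CohB1.ProjSpace n k) K 0) := hinj.subsingleton
        have h2 : Subsingleton (Module.Dual k (Coh.HH (CohB1.ProjSpace n k) K 0)) :=
          ⟨fun a b => LinearMap.ext (fun x => by rw [Subsingleton.elim x 0, map_zero, map_zero])⟩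
        exact e.toEquiv.subsingleton
    exact eδ.symm.toEquiv.subsingleton

include ht in
/-- **Serre duality for `Ext` on `P^n_k`.** -/
theorem main (i : ℕ) : ∀ F : (CohB1.ProjSpace n k).Modules, Coh.IsCoh F →
    (i ≤ n → Nonempty (Ext.{u} F (Twist.twistProjSpace n k (-((n : ℤ) + 1))) i ≃ₗ[k]
      Module.Dual k (Coh.HH (CohB1.ProjSpace n k) F (n - i)))) ∧
    (n < i → Subsingleton (Ext.{u} F (Twist.twistProjSpace n k (-((n : ℤ) + 1))) i)) := by
  induction i with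
  | zero =>
    intro F hF
    exact ⟨fun _ => nonempty_ext_zero t F (ht F hF), fun h => absurd h (Nat.not_lt_zero n)⟩
  | succ i ih =>
    rcases i with _ | i
    · exact p_one t ht
    · exact p_step t ht i ih

end Pn

section Final

open Abelian

/-- **`Ext^i(F, ω) ≅ H^{n-i}(F)^*` on `P^n_k`.** -/
theorem ext_duality (k : Type u) [Field k] (n : ℕ) [HasExt.{u} (CohB1.ProjSpace n k).Modules]
    (F : (CohB1.ProjSpace n k).Modules) (hF : Coh.IsCoh F) (i : ℕ) :
    (i ≤ n → Nonempty (Ext.{u} F (Twist.twistProjSpace n k (-((n : ℤ) + 1))) i ≃ₗ[k]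
      Module.Dual k (Coh.HH (CohB1.ProjSpace n k) F (n - i)))) ∧
    (n < i → Subsingleton (Ext.{u} F (Twist.twistProjSpace n k (-((n : ℤ) + 1))) i)) := by
  obtain ⟨t, ht⟩ := Groth.Agent.R2.H79.PnDualFinal.exists_dualizing k n
  exact main t.toLinearMap (fun G hG => (isDual_iff _ G).1 (ht G hG)) i F hF

end Final

end Groth.Agent.R2.H79.PnExtDual
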