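import Mathlib
import Groth.Agent.R2.H79PnIdeal

/-!
# Extensions `0 → O → E → J(c) → 0` on `P^n_k` (helper79)
-/

set_option autoImplicit false
set_option linter.unusedSectionVars false
set_option linter.unusedVariables false
universe u

open CategoryTheory CategoryTheory.Limits AlgebraicGeometry TopologicalSpace Opposite

namespace Groth.Agent.R2.H79.PnIdeal

open Groth.Agent.R2.H62.CohLES Groth.Agent.R2.H79.TwistCalc
open Groth.Agent.Lib.Helper21.ModTensor3 Groth.Agent.Lib.Helper21.ModTensor7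

section General

variable {X : Scheme.{u}}

/-- for a short exact sequence with `H^1` of the first term zero, `H^0` of the middle term vanishes
iff `H^0` of both outer terms vanish. -/
theorem subsingleton_H0_mid_iff {T : ShortComplex X.Modules} (hT : T.ShortExact)
    (h1 : Subsingleton (Coh.HH X T.X₁ 1)) :
    Subsingleton (Coh.HH X T.X₂ 0) ↔
      Subsingleton (Coh.HH X T.X₁ 0) ∧ Subsingleton (Coh.HH X T.X₃ 0) := by
  constructor
  · intro h2
    refine ⟨(HHmap_f_zero_injective hT).subsingleton, ⟨fun x y => ?_⟩⟩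
    have key : ∀ z : Coh.HH X T.X₃ 0, z = 0 := by
      intro z
      have hz : δ hT 0 z = 0 := Subsingleton.elim _ _
      obtain ⟨w, rfl⟩ := (exact_g_δ hT 0 z).1 hz
      rw [Subsingleton.elim w 0, map_zero]
    rw [key x, key y]
  · rintro ⟨h1, h3⟩
    refine ⟨fun x y => ?_⟩
    have key : ∀ z : Coh.HH X T.X₂ 0, z = 0 := by
      intro z
      have hz : HHmap T.g 0 z = 0 := Subsingleton.elim _ _
      obtain ⟨w, rfl⟩ := (exact_f_g hT 0 z).1 hz
      rw [Subsingleton.elim w 0, map_zero]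
    rw [key x, key y]

end General

section Pn

variable (n : ℕ) (k : Type u) [Field k]

/-- multiplication by `x_0^(d'-d)`: a monomorphism `O(d) ⟶ O(d')` for `d ≤ d'`. -/
theorem exists_mono_twistProjSpace (d d' : ℤ) (h : d ≤ d') :
    ∃ μ : Twist.twistProjSpace n k d ⟶ Twist.twistProjSpace n k d', Mono μ := by
  obtain ⟨a, ha⟩ := Int.eq_ofNat_of_zero_le (sub_nonneg.2 h)
  have hb : (MvPolynomial.X 0 : MvPolynomial (Fin (n + 1)) k) ^ a ∈ CohB1.polyGrading n k a := by
    have := (MvPolynomial.isHomogeneous_X k (0 : Fin (n + 1))).pow a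
    simpa using this
  exact exists_mono_mulBy (CohB1.polyGrading n k) a (by omega) hb
    (pow_ne_zero _ (MvPolynomial.X_ne_zero _))

/-- **monotonicity**: for a submodule `J ⊆ O` on `P^n_k`, `H^0(J(d')) = 0` and `d ≤ d'` imply
`H^0(J(d)) = 0`. -/
theorem subsingleton_H0_tensor_of_le {J : (CohB1.ProjSpace n k).Modules}
    (ι : J ⟶ Coh.structureModule (CohB1.ProjSpace n k)) [Mono ι] (d d' : ℤ) (h : d ≤ d')
    (h0 : Subsingleton (Coh.HH (CohB1.ProjSpace n k)
      (CohB1.tensorMod J (Twist.twistProjSpace n k d')) 0)) :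
    Subsingleton (Coh.HH (CohB1.ProjSpace n k)
      (CohB1.tensorMod J (Twist.twistProjSpace n k d)) 0) := by
  obtain ⟨μ, hμ⟩ := exists_mono_twistProjSpace n k d d' h
  have := mono_tensorLeftF_map ι (isInvertible_twistProjSpace n k d) μ
  rw [← tensorLeftF_obj] at h0 ⊢
  exact subsingleton_HH_zero_of_mono ((tensorLeftF J).map μ) h0

/-- `H^0(P^n_k, O(e)) = 0` iff `e < 0` (for `n ≥ 1`). -/
theorem subsingleton_H0_twist_iff (hn : 1 ≤ n) (e : ℤ) :
    Subsingleton (Coh.HH (CohB1.ProjSpace n k) (Twist.twistProjSpace n k e) 0) ↔ e < 0 := by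
  constructor
  · intro hs
    by_contra hne
    obtain ⟨d, rfl⟩ := Int.eq_ofNat_of_zero_le (not_lt.1 hne)
    obtain ⟨φ⟩ := Groth.Agent.Lib.Helper27PnSections.nonempty_linearEquiv n k d
    have hb : (MvPolynomial.X 0 : MvPolynomial (Fin (n + 1)) k) ^ d ∈
        MvPolynomial.homogeneousSubmodule (Fin (n + 1)) k d := by
      have := (MvPolynomial.isHomogeneous_X k (0 : Fin (n + 1))).pow d
      simpa using this
    have h1 : φ.symm ⟨_, hb⟩ = φ.symm 0 := Subsingleton.elim _ _
    have h2 := φ.symm.injective h1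
    have h3 : (MvPolynomial.X 0 : MvPolynomial (Fin (n + 1)) k) ^ d = 0 := congrArg Subtype.val h2
    exact pow_ne_zero _ (MvPolynomial.X_ne_zero _) h3
  · intro he
    exact Groth.Agent.R2.H79.PnLaurentGlue.subsingleton_HH_twist n k e 0 (fun h => by omega)
      (fun h => by omega)

/-- the extension lemma: for `0 → O → E → J(c) → 0` on `P^n_k`, `n ≥ 2`:
`H^0(E(e)) = 0` iff `e < 0` and `H^0(J(c + e)) = 0`. -/
theorem subsingleton_H0_ext_iff (hn : 2 ≤ n) (J : (CohB1.ProjSpace n k).Modules) (c e : ℤ)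
    (S : ShortComplex (CohB1.ProjSpace n k).Modules) (hS : S.ShortExact)
    (h₁ : Nonempty (S.X₁ ≅ Coh.structureModule (CohB1.ProjSpace n k)))
    (h₃ : Nonempty (S.X₃ ≅ CohB1.tensorMod J (Twist.twistProjSpace n k c))) :
    Subsingleton (Coh.HH (CohB1.ProjSpace n k)
        (CohB1.tensorMod S.X₂ (Twist.twistProjSpace n k e)) 0) ↔
      (e < 0 ∧ Subsingleton (Coh.HH (CohB1.ProjSpace n k)
        (CohB1.tensorMod J (Twist.twistProjSpace n k (c + e))) 0)) := by
  obtain ⟨i₁⟩ := h₁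
  obtain ⟨i₃⟩ := h₃
  obtain ⟨ice⟩ := nonempty_twistProjSpace_tensor_iso n k c e
  have hL := isInvertible_twistProjSpace n k e
  have hT := shortExact_map_tensorRightF (Twist.twistProjSpace n k e) hL S hS
  -- identification of the outer terms
  have e1 : (tensorRightF (Twist.twistProjSpace n k e)).obj S.X₁ ≅ Twist.twistProjSpace n k e :=
    (tensorRightF (Twist.twistProjSpace n k e)).mapIso i₁ ≪≫
      (tLUnitIso (CohB1.ProjSpace n k).sheaf).app (Twist.twistProjSpace n k e)
  have a1 : (tensorRightF (Twist.twistProjSpace n k e)).obj S.X₃ ≅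
      (tensorRightF (Twist.twistProjSpace n k e)).obj
        (CohB1.tensorMod J (Twist.twistProjSpace n k c)) :=
    (tensorRightF (Twist.twistProjSpace n k e)).mapIso i₃
  have a2 : (tensorRightF (Twist.twistProjSpace n k e)).obj
        (CohB1.tensorMod J (Twist.twistProjSpace n k c)) ≅
      (tensorLeftF J).obj
        (CohB1.tensorMod (Twist.twistProjSpace n k c) (Twist.twistProjSpace n k e)) :=
    tensorAssocIso J (Twist.twistProjSpace n k c) (Twist.twistProjSpace n k e)
  have a3 : (tensorLeftF J).obj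
        (CohB1.tensorMod (Twist.twistProjSpace n k c) (Twist.twistProjSpace n k e)) ≅
      (tensorLeftF J).obj (Twist.twistProjSpace n k (c + e)) :=
    (tensorLeftF J).mapIso ice
  have e3 : (tensorRightF (Twist.twistProjSpace n k e)).obj S.X₃ ≅
      (tensorLeftF J).obj (Twist.twistProjSpace n k (c + e)) := a1 ≪≫ a2 ≪≫ a3
  have hH1 : Subsingleton (Coh.HH (CohB1.ProjSpace n k)
      ((tensorRightF (Twist.twistProjSpace n k e)).obj S.X₁) 1) :=
    subsingleton_HH_of_iso e1 1
      (Groth.Agent.R2.H79.PnLaurentGlue.subsingleton_HH_twist n k e 1 (fun h => by omega)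
        (fun h => by omega))
  have hH0 : Subsingleton (Coh.HH (CohB1.ProjSpace n k)
      ((tensorRightF (Twist.twistProjSpace n k e)).obj S.X₁) 0) ↔ e < 0 :=
    (subsingleton_HH_iff_of_iso e1 0).trans (subsingleton_H0_twist_iff n k (by omega) e)
  have hmid := subsingleton_H0_mid_iff hT hH1
  rw [ShortComplex.map_X₁, ShortComplex.map_X₂, ShortComplex.map_X₃, hH0,
    subsingleton_HH_iff_of_iso e3 0, tensorRightF_obj, tensorLeftF_obj] at hmid
  exact hmid

instance mono_idealModι {X : Scheme.{u}} (I : X.IdealSheafData) : Mono (ClSub.idealModι I) :=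
  inferInstanceAs (Mono (kernel.ι _))

/-- S11515: `0 → O → E → J(2m) → 0`; `H^0(E(-m-1)) = 0` iff `m ≥ 0` and `H^0(J(d)) = 0` for `d ≤ m - 1`. -/
theorem s11515 (hn : 2 ≤ n) (I : (CohB1.ProjSpace n k).IdealSheafData) (m : ℤ)
    (S : ShortComplex (CohB1.ProjSpace n k).Modules) (hS : S.ShortExact)
    (h₁ : Nonempty (S.X₁ ≅ Coh.structureModule (CohB1.ProjSpace n k)))
    (h₃ : Nonempty (S.X₃ ≅ CohB1.tensorMod (ClSub.idealMod I) (Twist.twistProjSpace n k (2 * m)))) :
    Subsingleton (Coh.HH (CohB1.ProjSpace n k)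
        (CohB1.tensorMod S.X₂ (Twist.twistProjSpace n k (-m - 1))) 0) ↔
      (0 ≤ m ∧ ∀ d : ℤ, d ≤ m - 1 →
        Subsingleton (Coh.HH (CohB1.ProjSpace n k)
          (CohB1.tensorMod (ClSub.idealMod I) (Twist.twistProjSpace n k d)) 0)) := by
  rw [subsingleton_H0_ext_iff n k hn (ClSub.idealMod I) (2 * m) (-m - 1) S hS h₁ h₃,
    show 2 * m + (-m - 1) = m - 1 by ring]
  constructor
  · rintro ⟨he, h0⟩
    exact ⟨by omega, fun d hd =>
      subsingleton_H0_tensor_of_le n k (ClSub.idealModι I) d (m - 1) hd h0⟩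
  · rintro ⟨hm, h⟩
    exact ⟨by omega, h (m - 1) le_rfl⟩

/-- S11514: `0 → O → E → J(c) → 0`, `c + 2k₀ ∈ {0, -1}`; `H^0(E(k₀)) = 0` iff `c > 0` and
`H^0(J(d)) = 0` for `2d ≤ c`. -/
theorem s11514 (hn : 2 ≤ n) (I : (CohB1.ProjSpace n k).IdealSheafData) (c : ℤ)
    (S : ShortComplex (CohB1.ProjSpace n k).Modules) (hS : S.ShortExact)
    (h₁ : Nonempty (S.X₁ ≅ Coh.structureModule (CohB1.ProjSpace n k)))
    (h₃ : Nonempty (S.X₃ ≅ CohB1.tensorMod (ClSub.idealMod I) (Twist.twistProjSpace n k c)))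
    (k₀ : ℤ) (hk₀ : c + 2 * k₀ = 0 ∨ c + 2 * k₀ = -1) :
    Subsingleton (Coh.HH (CohB1.ProjSpace n k)
        (CohB1.tensorMod S.X₂ (Twist.twistProjSpace n k k₀)) 0) ↔
      (0 < c ∧ ∀ d : ℤ, 2 * d ≤ c →
        Subsingleton (Coh.HH (CohB1.ProjSpace n k)
          (CohB1.tensorMod (ClSub.idealMod I) (Twist.twistProjSpace n k d)) 0)) := by
  rw [subsingleton_H0_ext_iff n k hn (ClSub.idealMod I) c k₀ S hS h₁ h₃]
  constructor
  · rintro ⟨he, h0⟩
    exact ⟨by omega, fun d hd =>
      subsingleton_H0_tensor_of_le n k (ClSub.idealModι I) d (c + k₀) (by omega) h0⟩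
  · rintro ⟨hc, h⟩
    exact ⟨by omega, h (c + k₀) (by omega)⟩

end Pn

end Groth.Agent.R2.H79.PnIdeal
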