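import Mathlib

/-!
# Prime algebras over a field (helper for S15939)

A commutative `κ`-algebra `A` is *prime* when its only subalgebras are `⊥ ≠ ⊤`.
-/

set_option autoImplicit false
universe u
open Polynomial

namespace Groth.Agent.R2.H79.PrimeAlg

variable {κ A : Type u} [Field κ] [CommRing A] [Algebra κ A]

theorem nontrivial_of_simple (h : IsSimpleOrder (Subalgebra κ A)) : Nontrivial A := by
  by_contra hn
  rw [not_nontrivial_iff_subsingleton] at hn
  have : (⊥ : Subalgebra κ A) = ⊤ := by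
    apply SetLike.ext
    intro x
    rw [Subsingleton.elim x 0]
    exact ⟨fun _ => Subalgebra.zero_mem _, fun _ => Subalgebra.zero_mem _⟩
  exact bot_ne_top this

theorem adjoin_eq_top (h : IsSimpleOrder (Subalgebra κ A)) {x : A}
    (hx : x ∉ (⊥ : Subalgebra κ A)) : Algebra.adjoin κ {x} = ⊤ := by
  rcases eq_bot_or_eq_top (Algebra.adjoin κ {x}) with h1 | h1
  · exact absurd (h1 ▸ Algebra.subset_adjoin (Set.mem_singleton x)) hx
  · exact h1

theorem isUnit_of_mem_bot [Nontrivial A] {z : A} (hz : z ∈ (⊥ : Subalgebra κ A)) (hz0 : z ≠ 0) :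
    IsUnit z := by
  obtain ⟨c, rfl⟩ := Algebra.mem_bot.mp hz
  have hc : c ≠ 0 := by
    rintro rfl
    exact hz0 (map_zero _)
  exact (IsUnit.mk0 c hc).map (algebraMap κ A)

theorem exists_not_mem_bot (h : IsSimpleOrder (Subalgebra κ A)) :
    ∃ x : A, x ∉ (⊥ : Subalgebra κ A) := by
  obtain ⟨x, -, hx⟩ := SetLike.exists_of_lt (bot_lt_top (α := Subalgebra κ A))
  exact ⟨x, hx⟩

/-- every element outside `κ` is algebraic -/
theorem isIntegral_of_simple (h : IsSimpleOrder (Subalgebra κ A)) (x : A) : IsIntegral κ x := by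
  rw [← isAlgebraic_iff_isIntegral]
  by_cases h2 : x ^ 2 ∈ (⊥ : Subalgebra κ A)
  · obtain ⟨c, hc⟩ := Algebra.mem_bot.mp h2
    refine ⟨X ^ 2 - C c, ?_, ?_⟩
    · exact X_pow_sub_C_ne_zero (by norm_num) c
    · rw [map_sub, map_pow, aeval_X, aeval_C, hc, sub_self]
  · have h3 := adjoin_eq_top h h2
    have hxm : x ∈ Algebra.adjoin κ {x ^ 2} := h3 ▸ Algebra.mem_top
    rw [Algebra.adjoin_singleton_eq_range_aeval] at hxm
    obtain ⟨q, hq⟩ := hxm
    refine ⟨q.comp (X ^ 2) - X, ?_, ?_⟩
    · intro h0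
      have h1 : q.comp (X ^ 2) = X := sub_eq_zero.mp h0
      have h4 := congrArg natDegree h1
      rw [natDegree_comp, natDegree_X_pow, natDegree_X] at h4
      omega
    · rw [map_sub, aeval_comp, map_pow, aeval_X]
      exact sub_eq_zero.mpr hq

theorem finite_of_simple (h : IsSimpleOrder (Subalgebra κ A)) : Module.Finite κ A := by
  obtain ⟨x, hx⟩ := exists_not_mem_bot h
  have hfg := (isIntegral_of_simple h x).fg_adjoin_singleton
  rw [adjoin_eq_top h hx, Algebra.top_toSubmodule] at hfg
  exact Module.finite_def.mpr hfg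

/-- `κ + J = A` for every nonzero proper ideal `J` -/
theorem exists_sub_mem (h : IsSimpleOrder (Subalgebra κ A)) (J : Ideal A) (hJ0 : J ≠ ⊥)
    (hJ1 : J ≠ ⊤) (a : A) : ∃ c : κ, a - algebraMap κ A c ∈ J := by
  haveI := nontrivial_of_simple h
  set S : Subalgebra κ A := (⊥ : Subalgebra κ (A ⧸ J)).comap (Ideal.Quotient.mkₐ κ J) with hS
  rcases eq_bot_or_eq_top S with h1 | h1
  · exfalso
    obtain ⟨z, hzJ, hz0⟩ := Submodule.exists_mem_ne_zero_of_ne_bot hJ0
    have hzS : z ∈ S := by
      rw [hS, Subalgebra.mem_comap]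
      have : Ideal.Quotient.mkₐ κ J z = 0 := Ideal.Quotient.eq_zero_iff_mem.mpr hzJ
      rw [this]
      exact Subalgebra.zero_mem _
    rw [h1] at hzS
    exact hJ1 (Ideal.eq_top_of_isUnit_mem J hzJ (isUnit_of_mem_bot hzS hz0))
  · have haS : a ∈ S := h1 ▸ Algebra.mem_top
    rw [hS, Subalgebra.mem_comap] at haS
    obtain ⟨c, hc⟩ := Algebra.mem_bot.mp haS
    refine ⟨c, ?_⟩
    rw [← Ideal.Quotient.eq_zero_iff_mem, map_sub]
    have h2 : Ideal.Quotient.mk J (algebraMap κ A c) = algebraMap κ (A ⧸ J) c := rfl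
    rw [h2, hc]
    exact sub_self _

/-- nonzero proper ideals are minimal -/
theorem ideal_eq_of_le (h : IsSimpleOrder (Subalgebra κ A)) {J I : Ideal A} (hJI : J ≤ I)
    (hJ0 : J ≠ ⊥) (hI1 : I ≠ ⊤) : J = I := by
  haveI := nontrivial_of_simple h
  have hJ1 : J ≠ ⊤ := fun hh => hI1 (top_le_iff.mp (hh ▸ hJI))
  apply le_antisymm hJI
  intro z hz
  obtain ⟨c, hc⟩ := exists_sub_mem h J hJ0 hJ1 z
  have hcI : algebraMap κ A c ∈ I := by
    have := I.sub_mem hz (hJI hc)
    rwa [sub_sub_cancel] at this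
  have hc0 : c = 0 := by
    by_contra hne
    exact hI1 (Ideal.eq_top_of_isUnit_mem I hcI ((IsUnit.mk0 c hne).map (algebraMap κ A)))
  rw [hc0, map_zero, sub_zero] at hc
  exact hc

/-- a square-zero element outside `κ` makes `A` the dual numbers -/
theorem equiv_dualNumber (h : IsSimpleOrder (Subalgebra κ A)) {ε : A} (hε0 : ε ≠ 0)
    (hεε : ε * ε = 0) : Nonempty (A ≃ₐ[κ] DualNumber κ) := by
  have hnt := nontrivial_of_simple h
  have hεbot : ε ∉ (⊥ : Subalgebra κ A) := by
    intro hmem
    have hu := isUnit_of_mem_bot hmem hε0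
    exact hε0 ((hu.mul_right_eq_zero).mp hεε)
  have hadj := adjoin_eq_top h hεbot
  let φ : DualNumber κ →ₐ[κ] A :=
    DualNumber.lift ⟨(Algebra.ofId κ A, ε), hεε, fun a => Commute.all _ _⟩
  have hφε : φ DualNumber.eps = ε := DualNumber.lift_apply_eps _
  have hsurj : Function.Surjective φ := by
    rw [← AlgHom.range_eq_top, eq_top_iff, ← hadj]
    apply Algebra.adjoin_le
    intro y hy
    rw [Set.mem_singleton_iff] at hy
    subst hy
    exact (AlgHom.mem_range φ).mpr ⟨DualNumber.eps, hφε⟩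
  have hinj : Function.Injective φ := by
    rw [injective_iff_map_eq_zero]
    intro x hx
    have hx' : algebraMap κ A x.fst + algebraMap κ A x.snd * ε = 0 := by
      rw [← hx]
      exact (DualNumber.lift_apply_apply (R := κ) (A := κ) (B := A)
        ⟨(Algebra.ofId κ A, ε), hεε, fun a => Commute.all _ _⟩ x).symm
    have hsnd : x.snd = 0 := by
      by_contra hne
      apply hεbot
      have h3 : algebraMap κ A x.snd * ε = - algebraMap κ A x.fst :=
        eq_neg_of_add_eq_zero_right hx'
      have h1 : ε = algebraMap κ A (-(x.snd)⁻¹ * x.fst) := by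
        calc ε = algebraMap κ A ((x.snd)⁻¹ * x.snd) * ε := by
              rw [inv_mul_cancel₀ hne, map_one, one_mul]
          _ = algebraMap κ A (x.snd)⁻¹ * (algebraMap κ A x.snd * ε) := by rw [map_mul, mul_assoc]
          _ = _ := by rw [h3, neg_mul, map_neg, map_mul, mul_neg]
      rw [h1]
      exact Subalgebra.algebraMap_mem _ _
    rw [hsnd, map_zero, zero_mul, add_zero] at hx'
    have hfst : x.fst = 0 := (FaithfulSMul.algebraMap_injective κ A) (by rw [hx', map_zero])
    exact TrivSqZeroExt.ext hfst hsnd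
  exact ⟨(AlgEquiv.ofBijective φ ⟨hinj, hsurj⟩).symm⟩

/-- a nontrivial idempotent makes `A` the product `κ × κ` -/
theorem equiv_prod (h : IsSimpleOrder (Subalgebra κ A)) {e : A} (he : e * e = e) (he0 : e ≠ 0)
    (he1 : e ≠ 1) : Nonempty (A ≃ₐ[κ] (κ × κ)) := by
  have hnt := nontrivial_of_simple h
  have hinjκ : Function.Injective (algebraMap κ A) := FaithfulSMul.algebraMap_injective κ A
  have hebot : e ∉ (⊥ : Subalgebra κ A) := by
    intro hmem
    obtain ⟨c, hc⟩ := Algebra.mem_bot.mp hmem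
    have hcc : c * c = c := hinjκ (by rw [map_mul, hc, he])
    have : c = 0 ∨ c = 1 := by
      by_cases h0 : c = 0
      · exact Or.inl h0
      · right
        have := mul_right_cancel₀ h0 (hcc.trans (one_mul c).symm)
        exact this
    rcases this with rfl | rfl
    · exact he0 (by rw [← hc, map_zero])
    · exact he1 (by rw [← hc, map_one])
  have hadj := adjoin_eq_top h hebot
  have he' : (1 - e) * e = 0 := by rw [sub_mul, one_mul, he, sub_self]
  have he'' : (1 - e) * (1 - e) = 1 - e := by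
    rw [mul_sub, mul_one, he', sub_zero]
  have he1' : (1 : A) - e ≠ 0 := fun hh => he1 (sub_eq_zero.mp hh).symm
  let ψ : κ × κ →ₗ[κ] A :=
    (LinearMap.fst κ κ κ).smulRight e + (LinearMap.snd κ κ κ).smulRight (1 - e)
  have hψ : ∀ x : κ × κ, ψ x = algebraMap κ A x.1 * e + algebraMap κ A x.2 * (1 - e) := by
    intro x
    simp only [ψ, LinearMap.add_apply, LinearMap.smulRight_apply, LinearMap.fst_apply,
      LinearMap.snd_apply, Algebra.smul_def]
  let φ : κ × κ →ₐ[κ] A := AlgHom.ofLinearMap ψ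
    (by rw [hψ]; simp)
    (by
      intro x y
      rw [hψ, hψ, hψ]
      simp only [Prod.fst_mul, Prod.snd_mul, map_mul]
      linear_combination (-(algebraMap κ A x.1 - algebraMap κ A x.2) *
        (algebraMap κ A y.1 - algebraMap κ A y.2)) * he)
  have hφ : ∀ x : κ × κ, φ x = algebraMap κ A x.1 * e + algebraMap κ A x.2 * (1 - e) := hψ
  have hsurj : Function.Surjective φ := by
    rw [← AlgHom.range_eq_top, eq_top_iff, ← hadj]
    apply Algebra.adjoin_le
    intro y hy
    rw [Set.mem_singleton_iff] at hy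
    subst hy
    refine (AlgHom.mem_range φ).mpr ⟨(1, 0), ?_⟩
    rw [hφ]
    simp
  have hinj : Function.Injective φ := by
    rw [injective_iff_map_eq_zero]
    intro x hx
    rw [hφ] at hx
    have h1 : algebraMap κ A x.1 * e = 0 := by
      have := congrArg (· * e) hx
      simp only [add_mul, zero_mul, mul_assoc, he, he', mul_zero, add_zero] at this
      exact this
    have h2 : algebraMap κ A x.2 * (1 - e) = 0 := by
      rw [h1, zero_add] at hx
      exact hx
    have hx1 : x.1 = 0 := by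
      by_contra hne
      apply he0
      have hu : IsUnit (algebraMap κ A x.1) := (IsUnit.mk0 _ hne).map (algebraMap κ A)
      exact (hu.mul_right_eq_zero).mp h1
    have hx2 : x.2 = 0 := by
      by_contra hne
      apply he1'
      have hu : IsUnit (algebraMap κ A x.2) := (IsUnit.mk0 _ hne).map (algebraMap κ A)
      exact (hu.mul_right_eq_zero).mp h2
    exact Prod.ext hx1 hx2
  exact ⟨(AlgEquiv.ofBijective φ ⟨hinj, hsurj⟩).symm⟩

theorem nonfield_case (h : IsSimpleOrder (Subalgebra κ A)) (hF : ¬ IsField A) :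
    Nonempty (A ≃ₐ[κ] DualNumber κ) ∨ Nonempty (A ≃ₐ[κ] (κ × κ)) := by
  have hnt := nontrivial_of_simple h
  obtain ⟨I, hI0, hI1⟩ := Ring.not_isField_iff_exists_ideal_bot_lt_and_lt_top.mp hF
  by_cases hII : I * I = ⊥
  · left
    obtain ⟨ε, hεI, hε0⟩ := Submodule.exists_mem_ne_zero_of_ne_bot hI0.ne'
    have hmem : ε * ε ∈ I * I := Ideal.mul_mem_mul hεI hεI
    rw [hII, Ideal.mem_bot] at hmem
    exact equiv_dualNumber h hε0 hmem
  · right
    have hidem : I * I = I := ideal_eq_of_le h Ideal.mul_le_right hII hI1.ne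
    haveI : Module.Finite κ A := finite_of_simple h
    haveI : IsNoetherianRing A := IsNoetherianRing.of_finite κ A
    obtain ⟨e, he, hIe⟩ :=
      (Ideal.isIdempotentElem_iff_of_fg I (IsNoetherian.noetherian I)).mp hidem
    have he0 : e ≠ 0 := by
      rintro rfl
      apply hI0.ne'
      rw [hIe]
      simp
    have he1 : e ≠ 1 := by
      rintro rfl
      apply hI1.ne
      rw [hIe]
      simp
    exact equiv_prod h he he0 he1

theorem field_case (h : IsSimpleOrder (Subalgebra κ A)) (hF : IsField A) :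
    Algebra.IsSeparable κ A ∨
      ∃ (p : ℕ) (a : κ), p.Prime ∧ CharP κ p ∧ (∀ b : κ, b ^ p ≠ a) ∧
        Nonempty (A ≃ₐ[κ] AdjoinRoot (X ^ p - C a)) := by
  have hnt := nontrivial_of_simple h
  haveI : IsDomain A := hF.isDomain
  by_cases hsep : Algebra.IsSeparable κ A
  · exact Or.inl hsep
  right
  rw [Algebra.isSeparable_def] at hsep
  push Not at hsep
  obtain ⟨x, hx⟩ := hsep
  have hxbot : x ∉ (⊥ : Subalgebra κ A) := by
    intro hmem
    obtain ⟨c, rfl⟩ := Algebra.mem_bot.mp hmem
    exact hx (isSeparable_algebraMap c)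
  have hxint := isIntegral_of_simple h x
  have hirr := minpoly.irreducible hxint
  obtain ⟨p, hp⟩ := CharP.exists κ
  have hp0 : p ≠ 0 := by
    rintro rfl
    haveI := CharP.charP_to_charZero κ
    exact hx hirr.separable
  have hpp : p.Prime := (CharP.char_is_prime_or_zero κ p).resolve_right hp0
  haveI := Fact.mk hpp
  rcases Polynomial.separable_or p hirr with hs | ⟨-, g, hg, hgf⟩
  · exact absurd hs hx
  have hadj := adjoin_eq_top h hxbot
  have hpz : (p : κ[X]) = 0 := by rw [← C_eq_natCast, CharP.cast_eq_zero κ p, C_0]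
  have hxp : x ^ p ∈ (⊥ : Subalgebra κ A) := by
    by_contra hnot
    have h3 := adjoin_eq_top h hnot
    have hxm : x ∈ Algebra.adjoin κ {x ^ p} := h3 ▸ Algebra.mem_top
    rw [Algebra.adjoin_singleton_eq_range_aeval] at hxm
    obtain ⟨q, hq⟩ := hxm
    have h4 : aeval x (expand κ p q - X) = 0 := by
      rw [map_sub, expand_aeval, aeval_X]
      exact sub_eq_zero.mpr hq
    obtain ⟨s, hs⟩ := minpoly.dvd κ x h4
    have h5 := congrArg derivative hs
    rw [derivative_sub, derivative_X, derivative_mul, ← hgf, derivative_expand, derivative_expand,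
      hpz, zero_mul, mul_zero, mul_zero, zero_mul, zero_add, zero_sub] at h5
    have hu : IsUnit (expand κ p g) := by
      refine IsUnit.of_mul_eq_one (-(derivative s)) ?_
      rw [mul_neg, ← h5, neg_neg]
    rw [hgf] at hu
    exact hirr.not_isUnit hu
  obtain ⟨a, ha⟩ := Algebra.mem_bot.mp hxp
  have hroot : aeval x (X ^ p - C a : κ[X]) = 0 := by
    rw [map_sub, map_pow, aeval_X, aeval_C, ha, sub_self]
  have hdvd := minpoly.dvd κ x hroot
  have hdeg : (X ^ p - C a : κ[X]).natDegree ≤ (minpoly κ x).natDegree := by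
    rw [natDegree_X_pow_sub_C, ← hgf, natDegree_expand]
    have : 0 < g.natDegree := hg.natDegree_pos
    exact Nat.le_mul_of_pos_left p this
  have hmin : X ^ p - C a = minpoly κ x :=
    eq_of_monic_of_dvd_of_natDegree_le (minpoly.monic hxint) (monic_X_pow_sub_C a hp0) hdvd hdeg
  refine ⟨p, a, hpp, hp, ?_, ?_⟩
  · intro b hb
    haveI : CharP A p := charP_of_injective_algebraMap (FaithfulSMul.algebraMap_injective κ A) p
    have h6 : (x - algebraMap κ A b) ^ p = 0 := by
      rw [sub_pow_char, ← map_pow, hb, ha, sub_self]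
    have h7 := (pow_eq_zero_iff hp0).mp h6
    apply hxbot
    rw [sub_eq_zero.mp h7]
    exact Subalgebra.algebraMap_mem _ _
  · rw [hmin]
    exact ⟨(Subalgebra.topEquiv.symm.trans (Subalgebra.equivOfEq _ _ hadj.symm)).trans
      (AlgEquiv.adjoinSingletonEquivAdjoinRootMinpoly κ x)⟩

end Groth.Agent.R2.H79.PrimeAlg



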