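import Mathlib
import Groth.Prelude.Def_NonAbH1
import Groth.Prelude.Def_EtBase

/-!
# Torsors on small étale sites: pushforward and local triviality over the base (helper for S8562)
-/

set_option autoImplicit false
universe u
open CategoryTheory CategoryTheory.Limits AlgebraicGeometry Opposite

namespace Groth.Agent.R2.H79.Tors

variable {Y : Scheme.{u}}

/-- The terminal map of the small étale site. -/
noncomputable def toTop (U : Y.Etale) : U ⟶ EtCoh.top Y :=
  MorphismProperty.Over.homMk U.hom (Category.comp_id _) trivial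

/-- The sieve on the top object generated by a family of étale `Y`-schemes. -/
noncomputable def topSieve {ι : Type u} (V : ι → Y.Etale) : Sieve (EtCoh.top Y) :=
  Sieve.ofArrows V (fun i => toTop (V i))

theorem topSieve_mem {ι : Type u} (V : ι → Y.Etale) (hV : EtCoh.Covers V) :
    topSieve V ∈ Y.smallEtaleTopology (EtCoh.top Y) := by
  rw [topSieve, Scheme.ofArrows_mem_smallEtaleTopology_iff]
  ext y
  simp only [Set.mem_iUnion, Set.mem_range, Set.mem_univ, iff_true]
  obtain ⟨i, z, hz⟩ := hV y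
  exact ⟨i, z, hz⟩

theorem hom_top_ext {U : Y.Etale} (g : U ⟶ EtCoh.top Y) : g = toTop U := by
  apply MorphismProperty.Over.Hom.ext
  have h1 : g.left ≫ 𝟙 Y = U.hom := CategoryTheory.Over.w g.hom
  exact (Category.comp_id _).symm.trans h1

theorem exists_cover_of_mem {S : Sieve (EtCoh.top Y)}
    (hS : S ∈ Y.smallEtaleTopology (EtCoh.top Y)) :
    ∃ (ι : Type u) (V : ι → Y.Etale), EtCoh.Covers V ∧ ∀ i, S (toTop (V i)) := by
  let I := Σ Z : Y.Etale, {g : Z ⟶ EtCoh.top Y // S g}
  have hle : S ≤ Sieve.ofArrows (fun j : I => j.1) (fun j => j.2.1) := by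
    intro Z g hg
    exact ⟨Z, 𝟙 Z, g, ⟨(⟨Z, g, hg⟩ : I)⟩, Category.id_comp _⟩
  have hmem := Y.smallEtaleTopology.superset_covering hle hS
  rw [Scheme.ofArrows_mem_smallEtaleTopology_iff] at hmem
  have hy : ∀ y : Y, ∃ j : I, y ∈ Set.range (j.2.1).left := by
    intro y
    have h1 : y ∈ ⋃ i : I, Set.range (i.2.1).left := hmem ▸ Set.mem_univ y
    exact Set.mem_iUnion.1 h1
  choose j hj using hy
  refine ⟨Y, fun y => (j y).1, fun y => ?_, fun y => ?_⟩
  · obtain ⟨z, hz⟩ := hj y
    refine ⟨y, z, ?_⟩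
    have h1 : (j y).2.1 = toTop (j y).1 := hom_top_ext (j y).2.1
    have h2 : ((j y).2.1).left = (j y).1.hom := by rw [h1]; rfl
    have h3 : (j y).1.hom z = ((j y).2.1).left z := by rw [h2]; rfl
    exact h3.trans hz
  · rw [← hom_top_ext (j y).2.1]
    exact (j y).2.2

variable {X : Scheme.{u}} (f : X ⟶ Y) [EtCoh.BCCont f]

/-- The direct image of a torsor, as a sheaf with an action of the direct image of the group. -/
noncomputable def pushGSheaf (F : Sheaf X.smallEtaleTopology GrpCat.{u + 1}) (Q : NonAbH1.GSheaf F) :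
    NonAbH1.GSheaf (((EtCoh.bc f).sheafPushforwardContinuous GrpCat.{u + 1}
      Y.smallEtaleTopology X.smallEtaleTopology).obj F) where
  P := ((EtCoh.bc f).sheafPushforwardContinuous (Type (u + 1))
    Y.smallEtaleTopology X.smallEtaleTopology).obj Q.P
  smul {V} g s := Q.smul (U := op ((EtCoh.bc f).obj V.unop)) g s
  one_smul {V} p := Q.one_smul (U := op ((EtCoh.bc f).obj V.unop)) p
  mul_smul {V} g h p := Q.mul_smul (U := op ((EtCoh.bc f).obj V.unop)) g h p
  map_smul {_ _} h g p := Q.map_smul ((EtCoh.bc f).map h.unop).op g p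

theorem pushGSheaf_isPseudoTorsor (F : Sheaf X.smallEtaleTopology GrpCat.{u + 1})
    (Q : NonAbH1.GSheaf F) (hQ : Q.IsPseudoTorsor) : (pushGSheaf f F Q).IsPseudoTorsor :=
  fun U p q => hQ (op ((EtCoh.bc f).obj U.unop)) p q

theorem pushGSheaf_locallyNonempty (F : Sheaf X.smallEtaleTopology GrpCat.{u + 1})
    (Q : NonAbH1.GSheaf F) {ι : Type u} (V : ι → Y.Etale) (hV : EtCoh.Covers V)
    (hne : ∀ i, Nonempty (Q.P.obj.obj (op ((EtCoh.bc f).obj (V i))))) :
    (pushGSheaf f F Q).LocallyNonempty := by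
  intro U
  refine ⟨(topSieve V).pullback (toTop U), Y.smallEtaleTopology.pullback_stable _ (topSieve_mem V hV),
    fun W h hW => ?_⟩
  obtain ⟨Z, a, b, ⟨i⟩, -⟩ := hW
  obtain ⟨q⟩ := hne i
  exact ⟨Q.P.obj.map ((EtCoh.bc f).map a).op q⟩

end Groth.Agent.R2.H79.Tors
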