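import Mathlib
import Groth.Agent.Lib.Helper15ChartSp
import Groth.Agent.Lib.Helper15PtsQc
import Groth.Agent.Lib.Helper15QcLocal
import Groth.Prelude.Def_W4stkstmodspWNA
import Groth.Prelude.Def_AlgSt3
import Groth.Agent.S10267
import Groth.Agent.S9947
import Groth.Agent.Lib.Helper15MonoSep
import Groth.Agent.Lib.Helper15DiagLft
import Groth.Agent.Lib.Helper15LocQEngine
import Groth.Agent.Lib.Helper15EquivRep
import Groth.Agent.Lib.Helper12ProperLoc
import Groth.Agent.S10278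
import Groth.Agent.S10536

/-!
# Well-nigh affine stacks are quasi-compact, quasi-DM and separated (helper for S16697)
-/

set_option autoImplicit false
set_option backward.isDefEq.respectTransparency false
set_option backward.isDefEq.respectTransparency.types false
open CategoryTheory CategoryTheory.Functor CategoryTheory.Limits Opposite AlgebraicGeometry

universe u

namespace Groth.Agent.R2.H79.WNA2

open Groth.Agent.Lib.Helper17 Groth.Agent.Lib.Helper15DiagRepSp Groth.Agent.Lib.Helper15PtsQc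
  Groth.Agent.Lib.Helper15QcLocal Groth.Agent.Lib.Helper15PtsComp Groth.Agent.Lib.Helper15SrcCancel
  Groth.Agent.Lib.Helper15ChartSp Groth.Agent.Lib.Helper15DiagLft Groth.Agent.Lib.Helper15MonoSep

variable {S : Scheme.{u}} {𝒳 : AlgSt.Cat S}

/-- the four properties of a well-nigh affine chart, separately -/
theorem split_chart {U : Over S} (x : FibCat.overCat U ⥤ᵇ 𝒳)
    (hx : AlgSt.RepByAlgSpWith (AlgSp.IsSurjectiveMor ⊓ AlgSp.LocP @Flat ⊓ AlgSp.IsFiniteMor ⊓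
      AlgSp.LocP @LocallyOfFinitePresentation) x) :
    AlgSt.RepByAlgSpWith AlgSp.IsSurjectiveMor x ∧ AlgSt.RepByAlgSpWith (AlgSp.LocP @Flat) x ∧
      AlgSt.RepByAlgSpWith AlgSp.IsFiniteMor x ∧
      AlgSt.RepByAlgSpWith (AlgSp.LocP @LocallyOfFinitePresentation) x := by
  refine ⟨repByAlgSpWith_mono (fun _ _ f h => h.1.1.1) x hx,
    repByAlgSpWith_mono (fun _ _ f h => h.1.1.2) x hx,
    repByAlgSpWith_mono (fun _ _ f h => h.1.2) x hx,
    repByAlgSpWith_mono (fun _ _ f h => h.2) x hx⟩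

theorem isQuasiCompact_of_wna (h𝒳 : AlgSt.IsAlgStack Scheme.fppfPrecoverage 𝒳)
    (hw : AlgSt.IsWellNighAffine 𝒳) : AlgSt.IsQuasiCompact 𝒳 := by
  obtain ⟨U, x, hU, hx⟩ := hw
  obtain ⟨hs, -, -, -⟩ := split_chart x hx
  have hsurj : AlgSt.IsSurjective x :=
    (isSurjective_iff_repByAlgSpWith (isAlgStack_overCat U) h𝒳 x
      (repByAlgSp1_of_repByAlgSpWith _ x hs)).2 hs
  exact isQuasiCompact_of_isSurjective (isAlgStack_overCat U) h𝒳 x hsurj
    (isQuasiCompact_overCat U hU)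

/-- a finite morphism from an algebraic space to a scheme is locally quasi-finite -/
theorem locP_lqf_of_isFiniteMor (X : AlgSp.Space S) (T : Over S)
    (s : X.obj ⟶ (AlgSp.yon S).obj T) (hs : AlgSp.IsFiniteMor s) :
    AlgSp.LocP (@LocallyQuasiFinite ⊓ @LocallyOfFiniteType) s := by
  let TT : AlgSp.Space S := ⟨(AlgSp.yon S).obj T, AlgSp.IsAlgSpace.yon_obj T⟩
  let f : X ⟶ TT := ObjectProperty.homMk s
  have hrep : AlgSp.RepWith @IsFinite f.hom := (Groth.Agent.S10267.result f).2.1 hs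
  obtain ⟨hr, hP⟩ := (AlgSp.repWith_iff _ _).1 hrep
  obtain ⟨V, snd, fst, hpb⟩ := hr (𝟙 ((AlgSp.yon S).obj T))
  have hfin : IsFinite snd.left := hP _ fst snd hpb
  have : IsIso fst := hpb.isIso_fst_of_isIso
  exact Groth.Agent.S9947.result (@LocallyQuasiFinite ⊓ @LocallyOfFiniteType)
    (Or.inr (Or.inr (Or.inr (Or.inr (Or.inr (Or.inl (fun _ _ g => Iff.rfl)))))))
    f fst (𝟙 _) snd (repWith_of_isIso @Etale fst) (repWith_of_isIso @Surjective fst)
    (repWith_of_isIso @Etale (𝟙 _)) hpb.w ⟨inferInstance, inferInstance⟩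

theorem isQuasiDMOver_of_wna (h𝒳 : AlgSt.IsAlgStack Scheme.fppfPrecoverage 𝒳)
    (hw : AlgSt.IsWellNighAffine 𝒳) : AlgSt.IsQuasiDMOver 𝒳 := by
  obtain ⟨U, x, hU, hx⟩ := hw
  obtain ⟨hs, hfl, hfin, hlfp⟩ := split_chart x hx
  have hlqf : AlgSt.RepByAlgSpWith (AlgSp.LocP (@LocallyQuasiFinite ⊓ @LocallyOfFiniteType)) x := by
    intro T y
    obtain ⟨F, e, he, hP⟩ := hfin T y
    exact ⟨F, e, he, locP_lqf_of_isFiniteMor F T _ hP⟩
  let W : AlgSp.Space S := ⟨(AlgSp.yon S).obj U, AlgSp.IsAlgSpace.yon_obj U⟩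
  let w : AlgSt.ofSp W.obj ⥤ᵇ 𝒳 := BasedFunctor.comp (AlgSt.toOverCat U) x
  have tr : ∀ Q : MorphismProperty (AlgSp.Sp S), AlgSt.RepByAlgSpWith Q x →
      AlgSt.RepByAlgSpWith Q w := fun Q h =>
    (repByAlgSpWith_of_square Q x w (AlgSt.toOverCat U) (BasedFunctor.id _)
      (isEquivOver_toOverCat U) (isEquivOver_id _) (Iso.refl _)).1 h
  exact isQuasiDMOver_of_lqf_cover h𝒳.diag W w (tr _ hfl) (tr _ hlfp) (tr _ hs) (tr _ hlqf)

/-! ### Separatedness -/

open Groth.Agent.Lib.Helper15EquivRep Groth.Agent.Lib.Helper15DiagDescent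
  Groth.Agent.Lib.Helper15SpMapRep Groth.Agent.Lib.Helper15PshFib Groth.Agent.Lib.Helper15RepPsh
  Groth.Agent.Lib.Helper15RepComp Groth.Agent.Lib.Helper15DiagBase

theorem bcStable_isProperMor : BCStable (AlgSp.IsProperMor (S := S)) :=
  fun _ _ _ _ hX₁ hY₁ _ hY₂ _ _ _ _ sq ha =>
    Groth.Agent.Lib.Helper12.Proper.isProperMor_baseChange hX₁ hY₁ hY₂ sq ha

theorem bcStable_isSeparatedMor : BCStable (AlgSp.IsSeparatedMor (S := S)) :=
  fun _ _ _ _ _ _ _ _ _ _ _ _ sq ha =>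
    Groth.Agent.Lib.Helper12.Proper.isSeparatedMor_baseChange sq ha

/-- Conditional cancellation for functors between categories representable by algebraic spaces,
over a slice: `Q` can be cancelled on the right along morphisms with `R`. -/
theorem repByAlgSpWith_of_comp_to_slice' {𝒜 ℬ : AlgSt.Cat S} (Q R : MorphismProperty (AlgSp.Sp S))
    (hQb : BCStable Q) (hRb : BCStable R)
    (hcancel : ∀ {X Y Z : AlgSp.Space S} (f : X ⟶ Y) (g : Y ⟶ Z), Q (f ≫ g).hom → R g.hom →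
      Q f.hom)
    (h𝒜 : AlgSt.RepByAlgSp 𝒜) (hℬ : AlgSt.RepByAlgSp ℬ) (r : 𝒜 ⥤ᵇ ℬ) {T : Over S}
    (p : ℬ ⥤ᵇ FibCat.overCat T) (h : AlgSt.RepByAlgSpWith Q (BasedFunctor.comp r p))
    (hp : AlgSt.RepByAlgSpWith R p) :
    AlgSt.RepByAlgSpWith Q r := by
  obtain ⟨A, eA, heA⟩ := h𝒜
  obtain ⟨B, eB, heB⟩ := hℬ
  obtain ⟨eB', heB', -, ⟨β⟩⟩ := IsEquivOver.exists_inverse_isEquivOver' eB heB
  let r' : AlgSt.ofSp A.obj ⥤ᵇ AlgSt.ofSp B.obj :=
    BasedFunctor.comp eA (BasedFunctor.comp r eB')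
  let a₀ : A.obj ⟶ B.obj := ObjectProperty.homMk (pshMapOf r')
  let a : A ⟶ B := ObjectProperty.homMk a₀
  let TT : AlgSp.Space S := ⟨(AlgSp.yon S).obj T, AlgSp.IsAlgSpace.yon_obj T⟩
  let b : B ⟶ TT := ObjectProperty.homMk (AlgSt.spMapOfOver (BasedFunctor.comp eB p))
  let σ : BasedFunctor.comp (AlgSt.ofSpMap a₀) eB ≅ BasedFunctor.comp eA r :=
    (whiskerRightIso (ofPshMapIso r') eB : _ ≅
      BasedFunctor.comp (BasedFunctor.comp eA r) (BasedFunctor.comp eB' eB)) ≪≫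
    whiskerLeftIso (BasedFunctor.comp eA r) β
  have h1 : Q (a ≫ b).hom := by
    change Q (a₀ ≫ AlgSt.spMapOfOver (BasedFunctor.comp eB p))
    rw [← spMapOfOver_ofSpMap_comp]
    have h2 := spMapOfOver_eq_of_iso
      (BasedFunctor.comp (AlgSt.ofSpMap a₀) (BasedFunctor.comp eB p))
      (BasedFunctor.comp eA (BasedFunctor.comp r p)) (whiskerRightIso σ p)
    rw [h2]
    exact prop_spMapOfOver_of_repByAlgSpWith Q hQb _ h A eA heA
  have hb : R b.hom := prop_spMapOfOver_of_repByAlgSpWith R hRb p hp B eB heB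
  have h3 : Q a.hom := hcancel a b h1 hb
  have h4 : AlgSt.RepByAlgSpWith Q (AlgSt.ofSpMap a.hom) := repByAlgSpWith_ofSpMap Q hQb A B a h3
  exact (repByAlgSpWith_of_square Q r (AlgSt.ofSpMap a₀) eA eB heA heB σ).2 h4

/-- The structure functor of a slice has every property that the projections
`T × U ⟶ T` have. -/
theorem repByAlgSpWith_toSelf_overCat (Q : MorphismProperty (AlgSp.Sp S)) (U : Over S)
    (hQ : ∀ T : Over S, Q ((AlgSp.yon S).map (Limits.prod.fst : T ⨯ U ⟶ T))) :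
    AlgSt.RepByAlgSpWith Q (FibCat.toSelf (FibCat.overCat U)) := by
  intro T y
  have := IsEquivOver.isEquivalence (BasedFunctor.id (FibCat.selfOver (Over S))) (isEquivOver_id _)
  have hM := isEquivOver_fpMap y (FibCat.toSelf (FibCat.overCat U))
    (FibCat.toSelf (FibCat.overCat T))
    (FibCat.toSelf (FibCat.overCat U)) (BasedFunctor.id _) (BasedFunctor.id _) (BasedFunctor.id _)
    (selfOverIso _ _) (selfOverIso _ _) (isEquivOver_id _) (isEquivOver_id _)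
  refine ⟨⟨(AlgSp.yon S).obj (T ⨯ U), AlgSp.IsAlgSpace.yon_obj _⟩,
    BasedFunctor.comp (AlgSt.toOverCat (T ⨯ U)) (BasedFunctor.comp (toProdSlice T U) _),
    IsEquivOver.comp _ _ (isEquivOver_toOverCat _)
      (IsEquivOver.comp _ _ (isEquivOver_toProdSlice T U) hM), ?_⟩
  have h2 := spMapOfOver_eq_of_iso
    (BasedFunctor.comp (BasedFunctor.comp (AlgSt.toOverCat (T ⨯ U))
      (BasedFunctor.comp (toProdSlice T U) (fpMap y (FibCat.toSelf (FibCat.overCat U))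
        (FibCat.toSelf (FibCat.overCat T)) (FibCat.toSelf (FibCat.overCat U))
        (BasedFunctor.id _) (BasedFunctor.id _) (BasedFunctor.id _)
        (selfOverIso _ _) (selfOverIso _ _))))
      (FibCat.fpFst y (FibCat.toSelf (FibCat.overCat U))))
    (BasedFunctor.comp (AlgSt.toOverCat (T ⨯ U))
      (AlgSt.overMap (Limits.prod.fst : T ⨯ U ⟶ T))) (Iso.refl _)
  rw [h2, Groth.Agent.Lib.Helper15LocQEngine.spMapOfOver_comp_overMap, spMapOfOver_toOverCat,
    Category.id_comp]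
  exact hQ T

theorem isSeparated_prod_fst (T U : Over S) [IsSeparated U.hom] :
    IsSeparated (Limits.prod.fst : T ⨯ U ⟶ T).left := by
  rw [← Over.prodLeftIsoPullback_hom_fst]
  infer_instance

theorem isSeparatedOver_of_wna (h𝒳 : AlgSt.IsAlgStack Scheme.fppfPrecoverage 𝒳)
    (hw : AlgSt.IsWellNighAffine 𝒳) : AlgSt.IsSeparatedOver 𝒳 := by
  obtain ⟨U, x, hU, hx⟩ := hw
  obtain ⟨hs, hfl, hfin, hlfp⟩ := split_chart x hx
  have : IsAffine U.left := hU
  have hprop : AlgSt.RepByAlgSpWith AlgSp.IsProperMor x := by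
    intro T y
    obtain ⟨F, e, he, hP⟩ := hfin T y
    let TT : AlgSp.Space S := ⟨(AlgSp.yon S).obj T, AlgSp.IsAlgSpace.yon_obj T⟩
    let g : F ⟶ TT := ObjectProperty.homMk
      (AlgSt.spMapOfOver (BasedFunctor.comp e (FibCat.fpFst y x)))
    exact ⟨F, e, he, Groth.Agent.Lib.Helper12.ProperLoc.isProperMor_of_isFiniteMor g hP⟩
  have hX := h𝒳.diag
  have hY : AlgSt.RepByAlgSp1 (FibCat.diag (FibCat.toSelf (FibCat.selfOver (Over S)))) :=
    repByAlgSp1_diag_toSelf_iff.2 (fun U x V y => repByAlgSp_fp_selfOver V U y x)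
  have hΔ : AlgSt.RepByAlgSp1 (FibCat.diag (FibCat.toSelf 𝒳)) :=
    repByAlgSp1_diag_of_diag (FibCat.toSelf 𝒳) hX hY
  have h𝒜 : AlgSt.RepByAlgSp (FibCat.fp x x) := repByAlgSp1_of_repByAlgSp1_diag hX U x U x
  have hℬ : AlgSt.RepByAlgSp (FibCat.fp (BasedFunctor.comp x (FibCat.toSelf 𝒳))
      (BasedFunctor.comp x (FibCat.toSelf 𝒳))) :=
    repByAlgSp1_of_repByAlgSp1_diag hY U (BasedFunctor.comp x (FibCat.toSelf 𝒳)) U
      (BasedFunctor.comp x (FibCat.toSelf 𝒳))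
  have h1 : AlgSt.RepByAlgSpWith AlgSp.IsProperMor (FibCat.fpFst x x) :=
    repByAlgSpWith_fpFst _ x x hprop
  have hsep : AlgSt.RepByAlgSpWith AlgSp.IsSeparatedMor
      (BasedFunctor.comp x (FibCat.toSelf 𝒳)) :=
    Groth.Agent.Lib.Helper15LocQEngine.repByAlgSpWith_of_iso _ (selfOverIso _ _)
      (repByAlgSpWith_toSelf_overCat AlgSp.IsSeparatedMor U
        (fun T => (AlgSp.isSeparatedMor_yon_map_iff _).2 (isSeparated_prod_fst T U)))
  have hp : AlgSt.RepByAlgSpWith AlgSp.IsSeparatedMor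
      (FibCat.fpFst (BasedFunctor.comp x (FibCat.toSelf 𝒳))
        (BasedFunctor.comp x (FibCat.toSelf 𝒳))) :=
    repByAlgSpWith_fpFst _ _ _ hsep
  have h2 : AlgSt.RepByAlgSpWith AlgSp.IsProperMor (toRel x x (FibCat.toSelf 𝒳)) :=
    repByAlgSpWith_of_comp_to_slice' AlgSp.IsProperMor AlgSp.IsSeparatedMor bcStable_isProperMor
      bcStable_isSeparatedMor
      (fun f g h1 h2 => (Groth.Agent.S10278.result f (f ≫ g) g rfl h2).2 h1) h𝒜 hℬ
      (toRel x x (FibCat.toSelf 𝒳))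
      (FibCat.fpFst (BasedFunctor.comp x (FibCat.toSelf 𝒳))
        (BasedFunctor.comp x (FibCat.toSelf 𝒳))) h1 hp
  have h3 : AlgSt.RepByAlgSpWith AlgSp.IsProperMor
      (FibCat.fpFst (relProd x x (FibCat.toSelf 𝒳)) (FibCat.diag (FibCat.toSelf 𝒳))) :=
    (repByAlgSpWith_of_square _ (FibCat.fpFst (relProd x x (FibCat.toSelf 𝒳))
      (FibCat.diag (FibCat.toSelf 𝒳))) (toRel x x (FibCat.toSelf 𝒳))
      (magicRel x x (FibCat.toSelf 𝒳)) (BasedFunctor.id _)
      (isEquivOver_magicRel x x (FibCat.toSelf 𝒳)) (isEquivOver_id _)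
      (Iso.refl _)).2 h2
  exact repByAlgSpWith_of_fpFst_of_locLift _
    (isLocalOnBase_fppf_of_fpqc _ (Groth.Agent.S10536.result S))
    (FibCat.diag (FibCat.toSelf 𝒳)) hΔ (relProd x x (FibCat.toSelf 𝒳))
    (fun T w => locLift_relProd x (hasSchemeCovers_of_cover x hfl hlfp hs) (FibCat.toSelf 𝒳) w) h3

end Groth.Agent.R2.H79.WNA2
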