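import Mathlib
import Groth.Prelude.Def_MoreMor
import Groth.Agent.Lib.Helper1RelPC3

/-!
# Pseudo-coherent ring maps (helper7)

Ring-hom form `PCH φ` of `MoreMor.IsPseudoCoherentHom`, independence of the presentation,
composition, localisation away.
-/

set_option autoImplicit false
universe u
open CategoryTheory CategoryTheory.Limits
attribute [local instance] HasDerivedCategory.standard

namespace Groth.Agent.R2.H7.PCHom

open Groth.Agent.Lib.Helper1.Restrict Groth.Agent.Lib.Helper1.RelPC
open Groth.Agent.Lib.Helper1.PC Groth.Agent.Lib.Helper1.PCTower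

section Basic

variable {A B : Type u} [CommRing A] [CommRing B]

/-- `φ : A → B` is a pseudo-coherent ring map (ring-hom form of `MoreMor.IsPseudoCoherentHom`). -/
def PCH (φ : A →+* B) : Prop :=
  ∃ (n : ℕ) (γ : MvPolynomial (Fin n) A →+* B),
    γ.comp MvPolynomial.C = φ ∧ Function.Surjective γ ∧ BPC γ

/-- a ring hom out of a polynomial ring restricting to `algebraMap` on constants, as an algebra hom -/
def mkAlgHom [Algebra A B] {n : ℕ} (γ : MvPolynomial (Fin n) A →+* B)
    (hC : γ.comp MvPolynomial.C = algebraMap A B) : MvPolynomial (Fin n) A →ₐ[A] B :=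
  { γ with commutes' := fun a => congrArg (fun f : A →+* B => f a) hC }

lemma bpc_iff_restrictD {P : Type u} [CommRing P] (γ : P →+* B) :
    BPC γ ↔ ∀ m : ℤ, DRing.IsPseudoCoherent P m ((DRing.restrictD γ).obj (Dual.inD B B)) := by
  refine forall_congr' fun m => ?_
  exact ⟨fun h => isPC_of_iso (restrictDSingleIso γ _ 0).symm h,
    fun h => isPC_of_iso (restrictDSingleIso γ _ 0) h⟩

/-- the frozen predicate in ring-hom form -/
theorem isPseudoCoherentHom_iff [Algebra A B] :
    MoreMor.IsPseudoCoherentHom A B ↔ PCH (algebraMap A B) := by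
  constructor
  · rintro ⟨n, φ, hφ, h⟩
    refine ⟨n, φ.toRingHom, ?_, hφ, ?_⟩
    · ext a
      exact φ.commutes a
    · let _ := φ.toRingHom.toAlgebra
      exact bpc_of_algebra h
  · rintro ⟨n, γ, hC, hγ, h⟩
    let φ : MvPolynomial (Fin n) A →ₐ[A] B := mkAlgHom γ hC
    refine ⟨n, φ, hγ, ?_⟩
    let _ := φ.toRingHom.toAlgebra
    exact pcModule'_of_bpc (A := MvPolynomial (Fin n) A) (B := B) h

/-- independence of the presentation -/
theorem PCH.bpc_of_presentation {φ : A →+* B} (h : PCH φ) {k : ℕ}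
    (β : MvPolynomial (Fin k) A →+* B) (hC : β.comp MvPolynomial.C = φ)
    (hβ : Function.Surjective β) : BPC β := by
  obtain ⟨n, γ, hγC, hγ, hb⟩ := h
  let _ := φ.toAlgebra
  let γa : MvPolynomial (Fin n) A →ₐ[A] B := mkAlgHom γ hγC
  let βa : MvPolynomial (Fin k) A →ₐ[A] B := mkAlgHom β hC
  rw [bpc_iff_restrictD]
  intro m
  have h1 : DerCA.IsRelPseudoCoherentVia γa m (Dual.inD B B) := (bpc_iff_restrictD γ).1 hb m
  exact (via_iff γa hγ βa hβ (Dual.inD B B) m).1 h1

end Basic

section Comp

variable {A B C : Type u} [CommRing A] [CommRing B] [CommRing C]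

/-- a surjection with pseudo-coherent target (as a module) is a pseudo-coherent ring map -/
theorem PCH.of_surjective_bpc {φ : A →+* B} (hs : Function.Surjective φ) (hb : BPC φ) : PCH φ := by
  let e : MvPolynomial (Fin 0) A ≃ₐ[A] A := MvPolynomial.isEmptyAlgEquiv A (Fin 0)
  refine ⟨0, φ.comp e.toRingEquiv.toRingHom, ?_, hs.comp e.surjective, ?_⟩
  · ext a
    show φ (e (MvPolynomial.C a)) = φ a
    congr 1
    exact e.commutes a
  · exact bpc_comp _ _ (bpc_of_bijective _ e.toRingEquiv.bijective) hb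

theorem PCH.bpc_of_surjective {φ : A →+* B} (h : PCH φ) (hs : Function.Surjective φ) : BPC φ := by
  let e : MvPolynomial (Fin 0) A ≃ₐ[A] A := MvPolynomial.isEmptyAlgEquiv A (Fin 0)
  have h1 : BPC (φ.comp e.toRingEquiv.toRingHom) := by
    refine h.bpc_of_presentation _ ?_ (hs.comp e.surjective)
    ext a
    show φ (e (MvPolynomial.C a)) = φ a
    congr 1
    exact e.commutes a
  have h2 := bpc_comp _ _ (bpc_of_bijective e.symm.toRingEquiv.toRingHom
    e.symm.toRingEquiv.bijective) h1
  have h3 : (φ.comp e.toRingEquiv.toRingHom).comp e.symm.toRingEquiv.toRingHom = φ := by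
    ext a
    show φ (e (e.symm a)) = φ a
    rw [AlgEquiv.apply_symm_apply]
  rwa [h3] at h2

theorem PCH.of_bijective {φ : A →+* B} (h : Function.Bijective φ) : PCH φ :=
  PCH.of_surjective_bpc h.2 (bpc_of_bijective φ h)

/-- composition of pseudo-coherent ring maps -/
theorem PCH.comp {φ : A →+* B} {ψ : B →+* C} (hφ : PCH φ) (hψ : PCH ψ) : PCH (ψ.comp φ) := by
  obtain ⟨n, γ₁, h1C, h1s, h1b⟩ := hφ
  obtain ⟨k, γ₂, h2C, h2s, h2b⟩ := hψ
  let m₁ : MvPolynomial (Fin k) (MvPolynomial (Fin n) A) →+* MvPolynomial (Fin k) B :=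
    MvPolynomial.map γ₁
  have hm₁ : Function.Surjective m₁ := MvPolynomial.map_surjective γ₁ h1s
  let σ : MvPolynomial (Fin (k + n)) A →+* MvPolynomial (Fin k) (MvPolynomial (Fin n) A) :=
    (sumEquiv A n k).toRingEquiv.toRingHom
  have hσ : Function.Bijective σ := (sumEquiv A n k).toRingEquiv.bijective
  refine ⟨k + n, (γ₂.comp m₁).comp σ, ?_, (h2s.comp hm₁).comp hσ.2, ?_⟩
  · ext a
    show γ₂ (m₁ (sumEquiv A n k (MvPolynomial.C a))) = ψ (φ a)
    have e1 : sumEquiv A n k (MvPolynomial.C a) = MvPolynomial.C (MvPolynomial.C a) :=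
      (sumEquiv A n k).commutes a
    rw [e1]
    have e2 : m₁ (MvPolynomial.C (MvPolynomial.C a)) = MvPolynomial.C (γ₁ (MvPolynomial.C a)) :=
      MvPolynomial.map_C γ₁ _
    rw [e2]
    have e3 : γ₁ (MvPolynomial.C a) = φ a := congrArg (fun f : A →+* B => f a) h1C
    rw [e3]
    exact congrArg (fun f : B →+* C => f (φ a)) h2C
  · exact bpc_comp _ _ (bpc_of_bijective σ hσ) (bpc_comp _ _ (bpc_map γ₁ h1b k) h2b)

end Comp

section Poly

variable {A B : Type u} [CommRing A] [CommRing B]

/-- `A[T₀] ≃ A[X]` -/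
noncomputable def finOneEquiv (A : Type u) [CommRing A] :
    MvPolynomial (Fin 1) A ≃ₐ[A] Polynomial A :=
  MvPolynomial.uniqueAlgEquiv A (Fin 1)

/-- a presentation by a one-variable polynomial ring -/
theorem PCH.of_polynomial {φ : A →+* B} (γ : Polynomial A →+* B)
    (hC : γ.comp Polynomial.C = φ) (hs : Function.Surjective γ) (hb : BPC γ) : PCH φ := by
  let e := finOneEquiv A
  refine ⟨1, γ.comp e.toRingEquiv.toRingHom, ?_, hs.comp e.surjective, ?_⟩
  · ext a
    show γ (e (MvPolynomial.C a)) = φ a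
    have e1 : e (MvPolynomial.C a) = Polynomial.C a := e.commutes a
    rw [e1]
    exact congrArg (fun f : A →+* B => f a) hC
  · exact bpc_comp _ _ (bpc_of_bijective _ e.toRingEquiv.bijective) hb

open Polynomial in
lemma isRegular_C_mul_X_sub_one (f : A) (q : A[X]) (h : (C f * X - 1) * q = 0) : q = 0 := by
  have h' : q = C f * (X * q) := by linear_combination (-1 : A[X]) * h
  ext n
  induction n with
  | zero =>
    rw [h']
    simp
  | succ n ih =>
    rw [h', coeff_C_mul, coeff_X_mul, ih]
    simp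

open Polynomial in
/-- a localisation away from one element is a pseudo-coherent ring map -/
theorem PCH.of_isLocalizationAway [Algebra A B] (f : A) [IsLocalization.Away f B] :
    PCH (algebraMap A B) := by
  let p : A[X] := C f * X - 1
  have : IsLocalization.Away f (AdjoinRoot p) := IsLocalization.adjoin_inv f
  let e : AdjoinRoot p ≃ₐ[A] B := IsLocalization.algEquiv (Submonoid.powers f) (AdjoinRoot p) B
  let γ : A[X] →+* B := e.toRingEquiv.toRingHom.comp (AdjoinRoot.mk p)
  have hγ : ∀ q, γ q = e (AdjoinRoot.mk p q) := fun q => rfl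
  refine PCH.of_polynomial γ ?_ (e.surjective.comp AdjoinRoot.mk_surjective) ?_
  · ext a
    show e (AdjoinRoot.mk p (C a)) = algebraMap A B a
    exact e.commutes a
  · refine bpc_of_principal γ p (e.surjective.comp AdjoinRoot.mk_surjective) (fun q hq => ?_) ?_
      (isRegular_C_mul_X_sub_one f)
    · rw [hγ] at hq
      have : AdjoinRoot.mk p q = 0 := by
        have := congrArg e.symm hq
        simpa using this
      exact AdjoinRoot.mk_eq_zero.1 this
    · rw [hγ, AdjoinRoot.mk_self, map_zero]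

end Poly

end Groth.Agent.R2.H7.PCHom
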