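import Mathlib
import Groth.Agent.R2.H7KosIndep
import Groth.Agent.R2.H7PCHom

/-!
# Local complete intersection ring maps as a ring-hom property (helper7)

`LCIH φ` is the ring-hom form of `LCI.IsLCI`; independence of the presentation, surjections with
Koszul-regular kernel, composition, localisation away.
-/

set_option autoImplicit false
set_option linter.style.haveILetI false
universe u

namespace Groth.Agent.R2.H7.LCIHom

open MvPolynomial
open Groth.Agent.R2.H7.KosBasic Groth.Agent.R2.H7.KosIdeal Groth.Agent.R2.H7.KosAdd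
open Groth.Agent.R2.H7.KosIndep Groth.Agent.R2.H7.PCHom

section Basic

variable {A B : Type u} [CommRing A] [CommRing B]

/-- `φ : A → B` is a local complete intersection ring map (ring-hom form of `LCI.IsLCI`) -/
def LCIH (φ : A →+* B) : Prop :=
  ∃ (n : ℕ) (γ : MvPolynomial (Fin n) A →+* B),
    γ.comp MvPolynomial.C = φ ∧ Function.Surjective γ ∧ LCI.IsKoszulRegularIdeal (RingHom.ker γ)

theorem isLCI_iff [Algebra A B] : LCI.IsLCI A B ↔ LCIH (algebraMap A B) := by
  constructor
  · rintro ⟨-, n, f, hf, hI⟩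
    refine ⟨n, f.toRingHom, ?_, hf, hI⟩
    ext a
    exact f.commutes a
  · rintro ⟨n, γ, hC, hγ, hI⟩
    let f : MvPolynomial (Fin n) A →ₐ[A] B := mkAlgHom γ hC
    refine ⟨?_, n, f, hγ, hI⟩
    exact Algebra.FiniteType.of_surjective f hγ

theorem LCIH.finiteType {φ : A →+* B} (h : LCIH φ) : φ.FiniteType := by
  obtain ⟨n, γ, hC, hγ, -⟩ := h
  rw [← hC]
  refine RingHom.FiniteType.comp (RingHom.FiniteType.of_surjective γ hγ) ?_
  exact (RingHom.finiteType_algebraMap (A := A) (B := MvPolynomial (Fin n) A)).2 inferInstance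

/-- independence of the presentation -/
theorem LCIH.isKRI_of_presentation {φ : A →+* B} (h : LCIH φ) {k : ℕ}
    (β : MvPolynomial (Fin k) A →+* B) (hC : β.comp MvPolynomial.C = φ)
    (hβ : Function.Surjective β) : LCI.IsKoszulRegularIdeal (RingHom.ker β) := by
  obtain ⟨n, γ, hγC, hγ, hI⟩ := h
  let _ := φ.toAlgebra
  let γa : MvPolynomial (Fin n) A →ₐ[A] B := mkAlgHom γ hγC
  let βa : MvPolynomial (Fin k) A →ₐ[A] B := mkAlgHom β hC
  exact isKRI_ker_of_isKRI_ker γa hγ βa hβ hI

end Basic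

section Bot

variable {A : Type u} [CommRing A]

theorem isKRI_bot : LCI.IsKoszulRegularIdeal (⊥ : Ideal A) := by
  apply isKRI_of_genKR
  refine ⟨[], ?_, ?_⟩
  · rw [Groth.Agent.Helper13KzLift.isKoszulRegularSeq_iff]
    intro i hi
    exact Groth.Agent.Helper13Kz.subsingleton_KH_nil A i hi
  · rw [Ideal.map_bot, Ideal.ofList_nil]

end Bot

section Comp

variable {A B D : Type u} [CommRing A] [CommRing B] [CommRing D]

/-- a presentation with bijective structure map -/
theorem LCIH.of_presentation_bijective {φ : A →+* B} {n : ℕ} (γ : MvPolynomial (Fin n) A →+* B)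
    (hC : γ.comp MvPolynomial.C = φ) (hγ : Function.Bijective γ) : LCIH φ := by
  refine ⟨n, γ, hC, hγ.2, ?_⟩
  rw [(RingHom.injective_iff_ker_eq_bot γ).1 hγ.1]
  exact isKRI_bot

/-- a surjection with Koszul-regular kernel is a local complete intersection map -/
theorem LCIH.of_surjective {φ : A →+* B} (hs : Function.Surjective φ)
    (hI : LCI.IsKoszulRegularIdeal (RingHom.ker φ)) : LCIH φ := by
  let e : MvPolynomial (Fin 0) A ≃+* A := MvPolynomial.isEmptyRingEquiv A (Fin 0)
  refine ⟨0, φ.comp (e : MvPolynomial (Fin 0) A →+* A), ?_, hs.comp e.surjective, ?_⟩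
  · ext a
    simp only [e, RingHom.comp_apply, RingHom.coe_coe]
    congr 1
    simp
    exact MvPolynomial.coeff_zero_C a
  · rw [← RingHom.comap_ker]
    exact (isKRI_comap_ringEquiv e _).2 hI

theorem LCIH.of_bijective {φ : A →+* B} (h : Function.Bijective φ) : LCIH φ := by
  refine LCIH.of_surjective h.2 ?_
  rw [(RingHom.injective_iff_ker_eq_bot φ).1 h.1]
  exact isKRI_bot

/-- **composition** of local complete intersection maps -/
theorem LCIH.comp {φ : A →+* B} {ψ : B →+* D} (hφ : LCIH φ) (hψ : LCIH ψ) : LCIH (ψ.comp φ) := by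
  obtain ⟨n, γ₁, hC₁, hγ₁, hI₁⟩ := hφ
  obtain ⟨m, γ₂, hC₂, hγ₂, hI₂⟩ := hψ
  -- the big polynomial ring
  let μ : MvPolynomial (Fin m) (MvPolynomial (Fin n) A) →+* MvPolynomial (Fin m) B :=
    MvPolynomial.map γ₁
  have hμ : Function.Surjective μ := MvPolynomial.map_surjective γ₁ hγ₁
  have hkerμ : LCI.IsKoszulRegularIdeal (RingHom.ker μ) := by
    rw [MvPolynomial.ker_map]
    refine isKRI_map_of_flat _ ?_ hI₁
    exact (RingHom.flat_algebraMap_iff (R := MvPolynomial (Fin n) A)
      (S := MvPolynomial (Fin m) (MvPolynomial (Fin n) A))).2 inferInstance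
  have hK : LCI.IsKoszulRegularIdeal (RingHom.ker (γ₂.comp μ)) := by
    rw [← RingHom.comap_ker]
    exact isKRI_comap_of_surjective μ hμ hkerμ hI₂
  let E : MvPolynomial (Fin (m + n)) A ≃ₐ[A] MvPolynomial (Fin m) (MvPolynomial (Fin n) A) :=
    (MvPolynomial.renameEquiv A finSumFinEquiv.symm).trans (MvPolynomial.sumAlgEquiv A (Fin m) (Fin n))
  let Er : MvPolynomial (Fin (m + n)) A →+* MvPolynomial (Fin m) (MvPolynomial (Fin n) A) :=
    (E.toRingEquiv : _ →+* _)
  refine ⟨m + n, (γ₂.comp μ).comp Er, ?_, (hγ₂.comp hμ).comp E.surjective, ?_⟩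
  · ext a
    have h1 : Er (C a) = C (C a) := by
      have := E.commutes a
      simpa [Er, MvPolynomial.algebraMap_eq] using this
    change γ₂ (μ (Er (C a))) = ψ (φ a)
    rw [h1]
    change γ₂ (MvPolynomial.map γ₁ (C (C a))) = _
    rw [MvPolynomial.map_C, ← hC₂, ← hC₁]
    rfl
  · rw [← RingHom.comap_ker]
    exact (isKRI_comap_ringEquiv E.toRingEquiv _).2 hK

end Comp

end Groth.Agent.R2.H7.LCIHom
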