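import Mathlib
import Groth.Agent.R2.H7LCIHom

/-!
# lci ring maps: localisation away, flat base change (helper7)
-/

set_option autoImplicit false
set_option linter.style.haveILetI false
universe u

namespace Groth.Agent.R2.H7.LCILoc

open Groth.Agent.R2.H7.KosBasic Groth.Agent.R2.H7.KosIdeal Groth.Agent.R2.H7.KosAdd
open Groth.Agent.R2.H7.KosIndep Groth.Agent.R2.H7.PCHom Groth.Agent.R2.H7.LCIHom

section Away

variable {A : Type u} [CommRing A]

open Polynomial in
theorem lcih_polynomial_C : LCIH (Polynomial.C : A →+* A[X]) := by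
  let e1 : MvPolynomial (Fin 1) A ≃ₐ[A] Polynomial (MvPolynomial (Fin 0) A) :=
    MvPolynomial.finSuccEquiv A 0
  let e2 : Polynomial (MvPolynomial (Fin 0) A) ≃ₐ[A] Polynomial A :=
    Polynomial.mapAlgEquiv (MvPolynomial.isEmptyAlgEquiv A (Fin 0))
  let e := e1.trans e2
  refine LCIH.of_presentation_bijective (e.toRingEquiv : MvPolynomial (Fin 1) A →+* A[X]) ?_
    e.bijective
  apply RingHom.ext
  intro a
  have := e.commutes a
  simpa [MvPolynomial.algebraMap_eq] using this

open Polynomial in
lemma isKRI_span_C_mul_X_sub_one (r : A) :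
    LCI.IsKoszulRegularIdeal (Ideal.span {(C r * X - 1 : A[X])}) := by
  apply isKRI_of_genKR
  refine ⟨[C r * X - 1], ?_, ?_⟩
  · refine (Groth.Agent.S15821.result _ _ ?_).1
    refine RingTheory.Sequence.IsWeaklyRegular.cons ?_ (RingTheory.Sequence.IsWeaklyRegular.nil _ _)
    exact Groth.Agent.R2.H93.RegSeqAway.isSMulRegular_C_mul_X_sub_one r
  · rw [Ideal.ofList_singleton]
    simp

open Polynomial in
/-- a localisation away from an element is a local complete intersection map -/
theorem lcih_of_isLocalizationAway {S : Type u} [CommRing S] [Algebra A S] (r : A)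
    [IsLocalization.Away r S] : LCIH (algebraMap A S) := by
  let f : A[X] := C r * X - 1
  haveI : IsLocalization.Away r (AdjoinRoot f) := IsLocalization.adjoin_inv r
  have h1 : LCIH (Polynomial.C : A →+* A[X]) := lcih_polynomial_C
  have h2 : LCIH (AdjoinRoot.mk f) := by
    refine LCIH.of_surjective AdjoinRoot.mk_surjective ?_
    have : RingHom.ker (AdjoinRoot.mk f) = Ideal.span {f} := Ideal.mk_ker
    rw [this]
    exact isKRI_span_C_mul_X_sub_one r
  have h3 := h1.comp h2
  let ε : AdjoinRoot f ≃ₐ[A] S := IsLocalization.algEquiv (Submonoid.powers r) _ _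
  have h4 : LCIH (ε.toRingEquiv : AdjoinRoot f →+* S) := LCIH.of_bijective ε.bijective
  have h5 := h3.comp h4
  have h6 : ((ε.toRingEquiv : AdjoinRoot f →+* S).comp ((AdjoinRoot.mk f).comp C)) =
      algebraMap A S := by
    ext a
    exact ε.commutes a
  rw [h6] at h5
  exact h5

end Away

section BaseChange

open TensorProduct

attribute [local instance] MvPolynomial.algebraMvPolynomial

variable {A A' B : Type u} [CommRing A] [CommRing A'] [CommRing B] [Algebra A A'] [Algebra A B]

/-- flat base change of lci maps, tensor product form -/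
theorem lcih_tensor [Module.Flat A A'] (h : LCIH (algebraMap A B)) :
    LCIH (algebraMap A' (A' ⊗[A] B)) := by
  obtain ⟨n, γ, hC, hγ, hI⟩ := h
  let γa : MvPolynomial (Fin n) A →ₐ[A] B := mkAlgHom γ hC
  let ε : A' ⊗[A] MvPolynomial (Fin n) A ≃ₐ[A'] MvPolynomial (Fin n) A' :=
    MvPolynomial.algebraTensorAlgEquiv A A'
  let Γ : A' ⊗[A] MvPolynomial (Fin n) A →ₐ[A'] A' ⊗[A] B :=
    Algebra.TensorProduct.map (AlgHom.id A' A') γa
  have hΓ : Function.Surjective Γ :=
    Algebra.TensorProduct.map_surjective (AlgHom.id A' A') γa Function.surjective_id hγ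
  have hkerΓ : RingHom.ker Γ = (RingHom.ker γa).map
      (Algebra.TensorProduct.includeRight : MvPolynomial (Fin n) A →ₐ[A] A' ⊗[A] _) :=
    Algebra.TensorProduct.lTensor_ker γa hγ
  let γ' : MvPolynomial (Fin n) A' →ₐ[A'] A' ⊗[A] B := Γ.comp ε.symm.toAlgHom
  have hflat : (algebraMap (MvPolynomial (Fin n) A) (MvPolynomial (Fin n) A')).Flat := by
    have hpo : Algebra.IsPushout A (MvPolynomial (Fin n) A) A' (MvPolynomial (Fin n) A') :=
      inferInstance
    exact Module.Flat.isBaseChange A (MvPolynomial (Fin n) A) A' _ hpo.out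
  refine ⟨n, γ'.toRingHom, ?_, hΓ.comp ε.symm.surjective, ?_⟩
  · ext a
    exact γ'.commutes a
  · have h1 : RingHom.ker γ'.toRingHom = (RingHom.ker γ).map
        (algebraMap (MvPolynomial (Fin n) A) (MvPolynomial (Fin n) A')) := by
      have h2 : RingHom.ker γ'.toRingHom =
          (RingHom.ker Γ).comap (ε.symm.toRingEquiv : MvPolynomial (Fin n) A' →+* _) := by
        ext x
        rw [Ideal.mem_comap, RingHom.mem_ker, RingHom.mem_ker]
        rfl
      rw [h2, hkerΓ]
      have h3 : ∀ J : Ideal (A' ⊗[A] MvPolynomial (Fin n) A),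
          J.comap (ε.symm.toRingEquiv : MvPolynomial (Fin n) A' →+* _) =
            J.map (ε.toRingEquiv : _ →+* MvPolynomial (Fin n) A') := fun J =>
        Ideal.comap_symm ε.toRingEquiv
      rw [h3]
      change Ideal.map (ε.toRingEquiv : _ →+* MvPolynomial (Fin n) A')
        (Ideal.map (Algebra.TensorProduct.includeRight :
          MvPolynomial (Fin n) A →ₐ[A] A' ⊗[A] _).toRingHom (RingHom.ker γ)) = _
      rw [Ideal.map_map]
      congr 1
      apply RingHom.ext
      intro p
      change ε ((1 : A') ⊗ₜ[A] p) = MvPolynomial.map (algebraMap A A') p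
      rw [MvPolynomial.algebraTensorAlgEquiv_tmul, one_smul]
    rw [h1]
    exact isKRI_map_of_flat _ hflat hI

variable {B' : Type u} [CommRing B'] [Algebra A B'] [Algebra A' B'] [Algebra B B']
  [IsScalarTower A A' B'] [IsScalarTower A B B'] [Algebra.IsPushout A A' B B']

/-- **flat base change** of lci maps -/
theorem lcih_baseChange [Module.Flat A A'] (h : LCIH (algebraMap A B)) :
    LCIH (algebraMap A' B') := by
  have h1 : LCIH (algebraMap A' (A' ⊗[A] B)) := lcih_tensor h
  let e : A' ⊗[A] B ≃ₐ[A'] B' := Algebra.IsPushout.equiv A A' B B'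
  have h2 : LCIH (e.toRingEquiv : A' ⊗[A] B →+* B') := LCIH.of_bijective e.bijective
  have h3 := h1.comp h2
  have h4 : (e.toRingEquiv : A' ⊗[A] B →+* B').comp (algebraMap A' (A' ⊗[A] B)) =
      algebraMap A' B' := by
    ext a
    exact e.commutes a
  rw [h4] at h3
  exact h3

end BaseChange

end Groth.Agent.R2.H7.LCILoc
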