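import Mathlib
import Groth.Agent.R2.H7LCILoc

/-!
# lci ring maps are local on the source (helper7)
-/

set_option autoImplicit false
set_option linter.style.haveILetI false
universe u

namespace Groth.Agent.R2.H7.LCISrc

open Groth.Agent.R2.H7.KosBasic Groth.Agent.R2.H7.KosIdeal Groth.Agent.R2.H7.KosAdd
open Groth.Agent.R2.H7.KosIndep Groth.Agent.R2.H7.PCHom Groth.Agent.R2.H7.LCIHom
open Groth.Agent.R2.H7.LCILoc

section Glue

variable {P : Type u} [CommRing P]

/-- Koszul-regularity of an ideal can be checked on principal localisations -/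
theorem isKRI_of_localizations {I : Ideal P}
    (h : ∀ 𝔭 : Ideal P, 𝔭.IsPrime → I ≤ 𝔭 → ∃ σ : P, σ ∉ 𝔭 ∧
      LCI.IsKoszulRegularIdeal (I.map (algebraMap P (Localization.Away σ)))) :
    LCI.IsKoszulRegularIdeal I := by
  rw [isKRI_iff]
  intro 𝔭 h𝔭 hI𝔭
  obtain ⟨σ, hσ, hK⟩ := h 𝔭 h𝔭 hI𝔭
  rw [isKRI_iff] at hK
  have hdisj : Disjoint (Submonoid.powers σ : Set P) (𝔭 : Set P) := by
    rw [Set.disjoint_left]
    rintro x ⟨k, rfl⟩ hx
    exact hσ (h𝔭.mem_of_pow_mem k hx)
  haveI : (𝔭.map (algebraMap P (Localization.Away σ))).IsPrime :=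
    IsLocalization.isPrime_of_isPrime_disjoint (Submonoid.powers σ) _ 𝔭 h𝔭 hdisj
  obtain ⟨g', hg', hgen⟩ := hK (𝔭.map (algebraMap P (Localization.Away σ))) inferInstance
    (Ideal.map_mono hI𝔭)
  obtain ⟨k, g, hg⟩ := IsLocalization.Away.surj σ g'
  have hunit : IsUnit (algebraMap P (Localization.Away σ) σ ^ k) :=
    (IsLocalization.Away.algebraMap_isUnit σ).pow k
  have hg𝔭 : g ∉ 𝔭 := by
    intro hmem
    have h1 : algebraMap P (Localization.Away σ) g ∈ 𝔭.map (algebraMap P (Localization.Away σ)) :=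
      Ideal.mem_map_of_mem _ hmem
    rw [← hg] at h1
    exact hg' ((Ideal.unit_mul_mem_iff_mem _ hunit).1 (by rwa [mul_comm] at h1))
  refine ⟨σ * g, fun hm => (h𝔭.mem_or_mem hm).elim hσ hg𝔭, ?_⟩
  have hassoc : Associated (algebraMap P (Localization.Away σ) g) g' :=
    ⟨hunit.unit⁻¹, by
      rw [← hg, mul_assoc]
      have : (algebraMap P (Localization.Away σ)) σ ^ k * ↑hunit.unit⁻¹ = 1 := by
        have := hunit.unit.mul_inv
        rwa [IsUnit.unit_spec] at this
      rw [this, mul_one]⟩
  haveI : IsLocalization.Away (σ * g) (Localization.Away g') :=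
    IsLocalization.Away.mul_of_associated σ g g' hassoc
  obtain ⟨l, hl, hIl⟩ := hgen
  have h2 : GenKR I (Localization.Away g') := by
    refine ⟨l, hl, ?_⟩
    rw [IsScalarTower.algebraMap_eq P (Localization.Away σ) (Localization.Away g'), ← Ideal.map_map,
      hIl]
  exact h2.of_away (σ * g)

end Glue

section Core

open Polynomial

attribute [local instance] Polynomial.algebra

variable {P B : Type u} [CommRing P] [CommRing B] (γ : P →+* B) (σ : P)

/-- the presentation of `B_r` (`r = γ σ`) by `P[t]`, `t ↦ 1/r` -/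
noncomputable def delta : P[X] →+* Localization.Away (γ σ) :=
  eval₂RingHom ((algebraMap B (Localization.Away (γ σ))).comp γ)
    (IsLocalization.Away.invSelf (γ σ))

lemma delta_surjective (hγ : Function.Surjective γ) : Function.Surjective (delta γ σ) := by
  intro z
  obtain ⟨k, b, hb⟩ := IsLocalization.Away.surj (γ σ) z
  obtain ⟨p, rfl⟩ := hγ b
  refine ⟨C p * X ^ k, ?_⟩
  simp only [delta, coe_eval₂RingHom, eval₂_mul, eval₂_C, eval₂_pow, eval₂_X, RingHom.comp_apply]
  rw [← hb, mul_assoc, ← mul_pow, IsLocalization.Away.mul_invSelf, one_pow, mul_one]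

theorem isKRI_map_away_of_isKRI_ker_delta
    (h : LCI.IsKoszulRegularIdeal (RingHom.ker (delta γ σ))) :
    LCI.IsKoszulRegularIdeal ((RingHom.ker γ).map (algebraMap P (Localization.Away σ))) := by
  let lam : P[X] →+* (Localization.Away σ)[X] := algebraMap P[X] (Localization.Away σ)[X]
  haveI : IsLocalization ((Submonoid.powers σ).map C) (Localization.Away σ)[X] :=
    Polynomial.isLocalization _ _
  have hflat : lam.Flat :=
    (RingHom.flat_algebraMap_iff).2
      (IsLocalization.flat (Localization.Away σ)[X] ((Submonoid.powers σ).map C))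
  let ε : (Localization.Away σ)[X] →+* Localization.Away σ :=
    evalRingHom (IsLocalization.Away.invSelf σ)
  let γσ : Localization.Away σ →+* Localization.Away (γ σ) :=
    IsLocalization.Away.map (Localization.Away σ) (Localization.Away (γ σ)) γ σ
  have hγσ : ∀ p, γσ (algebraMap P _ p) = algebraMap B _ (γ p) := fun p =>
    IsLocalization.map_eq _ _
  have hinv : γσ (IsLocalization.Away.invSelf σ) = IsLocalization.Away.invSelf (γ σ) := by
    have h2 : algebraMap B (Localization.Away (γ σ)) (γ σ) * γσ (IsLocalization.Away.invSelf σ) =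
        1 := by
      rw [← hγσ, ← map_mul, IsLocalization.Away.mul_invSelf, map_one]
    calc γσ (IsLocalization.Away.invSelf σ)
        = (IsLocalization.Away.invSelf (γ σ) * algebraMap B (Localization.Away (γ σ)) (γ σ)) *
            γσ (IsLocalization.Away.invSelf σ) := by
          rw [mul_comm (IsLocalization.Away.invSelf (γ σ)), IsLocalization.Away.mul_invSelf, one_mul]
      _ = IsLocalization.Away.invSelf (γ σ) := by rw [mul_assoc, h2, mul_one]
  have hcomp : delta γ σ = (γσ.comp ε).comp lam := by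
    apply Polynomial.ringHom_ext
    · intro p
      simp [delta, lam, ε, hγσ, Polynomial.algebraMap_def]
    · simp [delta, lam, ε, hinv, Polynomial.algebraMap_def]
  have hmap : (RingHom.ker (delta γ σ)).map lam = RingHom.ker (γσ.comp ε) := by
    rw [hcomp, ← RingHom.comap_ker]
    exact IsLocalization.map_under ((Submonoid.powers σ).map C) (Localization.Away σ)[X] _
  have h1 : LCI.IsKoszulRegularIdeal (RingHom.ker (γσ.comp ε)) :=
    hmap ▸ isKRI_map_of_flat lam hflat h
  rw [← RingHom.comap_ker] at h1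
  have h2 := isKRI_of_comap_evalRingHom _ h1
  rwa [ker_awayMap'] at h2

end Core

section Main

/-- **lci ring maps are local on the source.** -/
theorem lcih_ofLocalizationSpanTarget : RingHom.OfLocalizationSpanTarget @LCIH := by
  rw [RingHom.ofLocalizationSpanTarget_iff_finite]
  intro A B _ _ φ s hs H
  have hft : φ.FiniteType :=
    (RingHom.ofLocalizationSpanTarget_iff_finite _).1 RingHom.finiteType_ofLocalizationSpanTarget
      φ s hs (fun r => (H r).finiteType)
  let _ := φ.toAlgebra
  obtain ⟨n, γa, hγ⟩ := Algebra.FiniteType.iff_quotient_mvPolynomial''.1 hft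
  have hC : γa.toRingHom.comp MvPolynomial.C = φ := by
    ext a
    exact γa.commutes a
  refine ⟨n, γa.toRingHom, hC, hγ, ?_⟩
  apply isKRI_of_localizations
  intro 𝔭 h𝔭 hI𝔭
  haveI : (𝔭.map γa.toRingHom).IsPrime := Ideal.map_isPrime_of_surjective hγ hI𝔭
  obtain ⟨r, hrs, hr⟩ : ∃ r ∈ s, r ∉ 𝔭.map γa.toRingHom := by
    by_contra hcon
    push Not at hcon
    have h1 : Ideal.span (s : Set B) ≤ 𝔭.map γa.toRingHom := Ideal.span_le.2 hcon
    rw [hs] at h1
    exact (inferInstance : (𝔭.map γa.toRingHom).IsPrime).ne_top (top_le_iff.1 h1)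
  obtain ⟨σ, rfl⟩ := hγ r
  refine ⟨σ, fun hm => hr (Ideal.mem_map_of_mem _ hm), ?_⟩
  apply isKRI_map_away_of_isKRI_ker_delta γa.toRingHom σ
  have hH := H ⟨γa σ, hrs⟩
  let E : MvPolynomial (Fin (n + 1)) A ≃ₐ[A] Polynomial (MvPolynomial (Fin n) A) :=
    MvPolynomial.finSuccEquiv A n
  let Er : MvPolynomial (Fin (n + 1)) A →+* Polynomial (MvPolynomial (Fin n) A) :=
    (E.toRingEquiv : _ →+* _)
  let β : MvPolynomial (Fin (n + 1)) A →+* Localization.Away (γa σ) :=
    (delta γa.toRingHom σ).comp Er
  have hβC : β.comp MvPolynomial.C = (algebraMap B (Localization.Away (γa σ))).comp φ := by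
    ext a
    have h1 : Er (MvPolynomial.C a) = Polynomial.C (MvPolynomial.C a) := by
      have := E.commutes a
      simpa [Er, MvPolynomial.algebraMap_eq, Polynomial.algebraMap_apply] using this
    change delta γa.toRingHom σ (Er (MvPolynomial.C a)) = _
    have h2 : φ a = γa (MvPolynomial.C a) := (γa.commutes a).symm
    rw [h1, RingHom.comp_apply, h2]
    simp [delta]
  have hβ : Function.Surjective β := (delta_surjective _ σ hγ).comp E.surjective
  have hK := hH.isKRI_of_presentation β hβC hβ
  rw [← RingHom.comap_ker] at hK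
  exact (isKRI_comap_ringEquiv E.toRingEquiv _).1 hK

end Main

end Groth.Agent.R2.H7.LCISrc
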