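import Mathlib
import Groth.Agent.R2.H7LCISrc

/-!
# lci morphisms of schemes (affine-local form) as a `HasRingHomProperty` (helper7)
-/

set_option autoImplicit false
set_option linter.style.haveILetI false
universe u
open CategoryTheory CategoryTheory.Limits AlgebraicGeometry MorphismProperty

namespace Groth.Agent.R2.H7.LCIMor

open Groth.Agent.R2.H7.LCIHom Groth.Agent.R2.H7.LCILoc Groth.Agent.R2.H7.LCISrc

theorem lcih_stableUnderComposition : RingHom.StableUnderComposition @LCIH :=
  fun _ _ _ _ _ _ _ _ hf hg => hf.comp hg

theorem lcih_holdsForLocalizationAway : RingHom.HoldsForLocalizationAway @LCIH :=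
  fun _ _ _ _ _ r _ => lcih_of_isLocalizationAway r

theorem lcih_respectsIso : RingHom.RespectsIso @LCIH :=
  lcih_stableUnderComposition.respectsIso (fun e => LCIH.of_bijective e.bijective)

theorem lcih_localizationAwayPreserves : RingHom.LocalizationAwayPreserves @LCIH := by
  intro R S _ _ f r R' S' _ _ _ _ _ _ hf
  let _ : Algebra R S := f.toAlgebra
  let _ : Algebra R' S' := (IsLocalization.Away.map R' S' f r).toAlgebra
  let _ : Algebra R S' := ((algebraMap S S').comp f).toAlgebra
  have t1 : IsScalarTower R S S' := IsScalarTower.of_algebraMap_eq fun _ => rfl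
  have t2 : IsScalarTower R R' S' := IsScalarTower.of_algebraMap_eq fun x => by
    show algebraMap S S' (f x) = IsLocalization.Away.map R' S' f r (algebraMap R R' x)
    rw [IsLocalization.Away.map, IsLocalization.map_eq]
  have : IsLocalization (Algebra.algebraMapSubmonoid S (Submonoid.powers r)) S' := by
    show IsLocalization ((Submonoid.powers r).map (algebraMap R S)) S'
    rw [Submonoid.map_powers]
    exact ‹IsLocalization.Away (f r) S'›
  have hpo : Algebra.IsPushout R S R' S' :=
    Algebra.isPushout_of_isLocalization (Submonoid.powers r) R' S S'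
  have : Algebra.IsPushout R R' S S' := hpo.symm
  have : Module.Flat R R' := IsLocalization.flat R' (Submonoid.powers r)
  exact lcih_baseChange (A := R) (A' := R') (B := S) (B' := S') hf

theorem lcih_isLocal : RingHom.PropertyIsLocal @LCIH where
  localizationAwayPreserves := lcih_localizationAwayPreserves
  ofLocalizationSpanTarget := lcih_ofLocalizationSpanTarget
  ofLocalizationSpan := lcih_ofLocalizationSpanTarget.ofLocalizationSpan
    (lcih_stableUnderComposition.stableUnderCompositionWithLocalizationAway
      lcih_holdsForLocalizationAway).1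
  StableUnderCompositionWithLocalizationAwayTarget :=
    (lcih_stableUnderComposition.stableUnderCompositionWithLocalizationAway
      lcih_holdsForLocalizationAway).2

/-- lci morphisms in the affine-local form of the statements -/
def lciMor : MorphismProperty Scheme.{u} := fun X Y f =>
  ∀ (U : X.Opens) (V : Y.Opens) (_ : IsAffineOpen U) (_ : IsAffineOpen V) (hUV : U ≤ f ⁻¹ᵁ V),
    letI := (f.appLE V U hUV).hom.toAlgebra
    LCI.IsLCI Γ(Y, V) Γ(X, U)

lemma lciMor_iff {X Y : Scheme.{u}} (f : X ⟶ Y) :
    lciMor f ↔
      ∀ (U : Y.affineOpens) (V : X.affineOpens) (e : V.1 ≤ f ⁻¹ᵁ U.1), LCIH (f.appLE U V e).hom := by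
  constructor
  · intro h U V e
    have := h V.1 U.1 V.2 U.2 e
    let _ := (f.appLE U.1 V.1 e).hom.toAlgebra
    exact isLCI_iff.1 this
  · intro h U V hU hV hUV
    let _ := (f.appLE V U hUV).hom.toAlgebra
    exact isLCI_iff.2 (h ⟨V, hV⟩ ⟨U, hU⟩ hUV)

instance : HasRingHomProperty lciMor.{u} @LCIH where
  isLocal_ringHomProperty := lcih_isLocal
  eq_affineLocally' := by
    ext X Y f
    rw [affineLocally_iff_affineOpens_le]
    exact lciMor_iff f

instance : lciMor.{u}.IsStableUnderComposition :=
  HasRingHomProperty.stableUnderComposition (P := lciMor) lcih_stableUnderComposition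

theorem lciMor_comp {X Y Z : Scheme.{u}} (f : X ⟶ Y) (g : Y ⟶ Z) (hf : lciMor f)
    (hg : lciMor g) : lciMor (f ≫ g) :=
  lciMor.comp_mem f g hf hg

end Groth.Agent.R2.H7.LCIMor
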