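import Mathlib
import Groth.Agent.R2.H7PCHom
import Groth.Agent.Lib.Helper1Tor

/-!
# Pseudo-coherent ring maps: base change, descent, Tor-independent base change (helper7)
-/

set_option autoImplicit false
universe u
open CategoryTheory CategoryTheory.Limits
attribute [local instance] HasDerivedCategory.standard

namespace Groth.Agent.R2.H7.PCBase

open Groth.Agent.Lib.Helper1.Restrict Groth.Agent.Lib.Helper1.RelPC
open Groth.Agent.Lib.Helper1.PC Groth.Agent.Lib.Helper1.PCTower Groth.Agent.Lib.Helper1.Extend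
open Groth.Agent.R2.H7.PCHom Groth.Agent.S7017 Groth.Agent.S14388
open TensorProduct

section Modules

variable {P P' : Type u} [CommRing P] [CommRing P'] [Algebra P P']
  {M M' : Type u} [AddCommGroup M] [Module P M] [AddCommGroup M'] [Module P M'] [Module P' M']
  [IsScalarTower P P' M'] {f : M →ₗ[P] M'}

/-- flat base change of pseudo-coherent modules -/
theorem pc'_of_isBaseChange [Module.Flat P P'] (hf : IsBaseChange P' f)
    (h : DRing.IsPseudoCoherentModule' P M) : DRing.IsPseudoCoherentModule' P' M' := by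
  have h2 := isPC'_extD (A := P) (B := P') (Dual.inD P M) h
  have h3 := pc'_of_iso (extDInDIso (A := P) (B := P') M) h2
  exact pc'_of_iso ((DerivedCategory.singleFunctor (ModuleCat.{u} P') 0).mapIso
    hf.equiv.toModuleIso) h3

/-- faithfully flat descent of pseudo-coherent modules -/
theorem pc'_of_isBaseChange_of_faithfullyFlat [Module.FaithfullyFlat P P'] (hf : IsBaseChange P' f)
    (h : DRing.IsPseudoCoherentModule' P' M') : DRing.IsPseudoCoherentModule' P M := by
  refine isPC'_of_extD (A := P) (B := P') (Dual.inD P M) ?_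
  refine pc'_of_iso (extDInDIso (A := P) (B := P') M).symm ?_
  exact pc'_of_iso ((DerivedCategory.singleFunctor (ModuleCat.{u} P') 0).mapIso
    hf.equiv.toModuleIso).symm h

end Modules

section TorIndep

variable {R₀ : Type u} (R : Type u) {P₀ P : Type u} [CommRing R₀] [CommRing R] [CommRing P₀]
  [CommRing P] [Algebra R₀ R] [Algebra R₀ P₀] [Algebra R₀ P] [Algebra R P] [Algebra P₀ P]
  [IsScalarTower R₀ R P] [IsScalarTower R₀ P₀ P] [Algebra.IsPushout R₀ R P₀ P]

include R

/-- if `P = R ⊗[R₀] P₀` and the cokernel of an injection `g : K → F` of `P₀`-modules is `R₀`-flat,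
then `P ⊗[P₀] g` is injective. -/
lemma lTensor_injective_of_flat_coker
    {K F M : Type u} [AddCommGroup K] [AddCommGroup F] [AddCommGroup M]
    [Module P₀ K] [Module P₀ F] [Module P₀ M] [Module R₀ K] [Module R₀ F] [Module R₀ M]
    [IsScalarTower R₀ P₀ K] [IsScalarTower R₀ P₀ F] [IsScalarTower R₀ P₀ M] [Module.Flat R₀ M]
    (g : K →ₗ[P₀] F) (f : F →ₗ[P₀] M) (hg : Function.Injective g) (hf : Function.Surjective f)
    (hex : Function.Exact g f) : Function.Injective (g.lTensor P) := by
  have h1 : Function.Injective ((g.restrictScalars R₀).lTensor R) :=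
    LinearMap.lTensor_injective_of_exact_of_flat (f.restrictScalars R₀) hf (g.restrictScalars R₀) hg
      hex R
  let cK := Algebra.IsPushout.cancelBaseChange R₀ R P₀ P K
  let cF := Algebra.IsPushout.cancelBaseChange R₀ R P₀ P F
  have hnat : ∀ x : R ⊗[R₀] K, cF.symm (((g.restrictScalars R₀).lTensor R) x) =
      g.lTensor P (cK.symm x) := by
    intro x
    induction x using TensorProduct.induction_on with
    | zero => simp
    | tmul r k =>
      simp only [LinearMap.lTensor_tmul, LinearMap.restrictScalars_apply, cK, cF,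
        Algebra.IsPushout.cancelBaseChange_symm_tmul]
    | add x y hx hy => simp only [map_add, hx, hy]
  intro y1 y2 hy
  obtain ⟨x1, rfl⟩ := cK.symm.surjective y1
  obtain ⟨x2, rfl⟩ := cK.symm.surjective y2
  rw [← hnat, ← hnat] at hy
  rw [h1 (cF.symm.injective hy)]

variable [IsNoetherianRing P₀] [Module.Free R₀ P₀]

/-- Tor-independent base change: a finite `P₀`-module which is flat over `R₀` stays pseudo-coherent
after the base change `P₀ → P = R ⊗[R₀] P₀`. -/
theorem isPC_baseChange_of_flat_aux : ∀ (k : ℕ) (M : Type u) [AddCommGroup M] [Module P₀ M]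
    [Module R₀ M] [IsScalarTower R₀ P₀ M] [Module.Finite P₀ M] [Module.Flat R₀ M],
    DRing.IsPseudoCoherentModule P (1 - k) (P ⊗[P₀] M) := by
  intro k
  induction k with
  | zero =>
    intro M _ _ _ _ _ _
    show DRing.IsPseudoCoherent P (1 - (0 : ℕ)) (Dual.inD P (P ⊗[P₀] M))
    have : (Dual.inD P (P ⊗[P₀] M)).IsLE ((1 - ((0 : ℕ) : ℤ)) - 1) := by
      have h0 : (1 - ((0 : ℕ) : ℤ)) - 1 = 0 := by simp
      rw [h0]
      infer_instance
    exact isPC_of_isLE _ _
  | succ k ih =>
    intro M _ _ _ _ _ _
    obtain ⟨n, f, hf⟩ := Module.Finite.exists_fin' P₀ M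
    let K := LinearMap.ker f
    have hKflat : Module.Flat R₀ K :=
      Groth.Agent.Lib.Helper1.Tor.flat_ker (K.subtype.restrictScalars R₀) (f.restrictScalars R₀)
        K.subtype_injective hf (LinearMap.exact_subtype_ker_map f)
    have hK := ih K
    -- the short exact sequence after base change
    have hinj : Function.Injective (K.subtype.lTensor P) :=
      lTensor_injective_of_flat_coker (R₀ := R₀) R K.subtype f K.subtype_injective hf
        (LinearMap.exact_subtype_ker_map f)
    have hex : Function.Exact (K.subtype.lTensor P) (f.lTensor P) :=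
      lTensor_exact P (LinearMap.exact_subtype_ker_map f) hf
    have hsurj : Function.Surjective (f.lTensor P) := LinearMap.lTensor_surjective P hf
    let ι' : P ⊗[P₀] K →ₗ[P] P ⊗[P₀] (Fin n → P₀) := K.subtype.baseChange P
    let f' : P ⊗[P₀] (Fin n → P₀) →ₗ[P] P ⊗[P₀] M := f.baseChange P
    have w : ModuleCat.ofHom ι' ≫ ModuleCat.ofHom f' = 0 := by
      refine ModuleCat.hom_ext (LinearMap.ext fun x => ?_)
      exact hex.apply_apply_eq_zero x
    let S : ShortComplex (ModuleCat.{u} P) :=
      ShortComplex.mk (ModuleCat.ofHom ι') (ModuleCat.ofHom f') w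
    have hS : S.ShortExact := by
      refine ShortComplex.ShortExact.mk' ?_ ?_ ?_
      · rw [ShortComplex.moduleCat_exact_iff]
        intro x hx
        exact (hex x).1 hx
      · rw [ModuleCat.mono_iff_injective]
        exact hinj
      · rw [ModuleCat.epi_iff_surjective]
        exact hsurj
    have hT := hS.singleTriangle_distinguished
    have hFF : FF (ModuleCat.of P (P ⊗[P₀] (Fin n → P₀))) :=
      ⟨inferInstanceAs (Module.Finite P (P ⊗[P₀] (Fin n → P₀))),
        inferInstanceAs (Module.Free P (P ⊗[P₀] (Fin n → P₀)))⟩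
    have h2 : DRing.IsPseudoCoherent P (1 - ((k + 1 : ℕ) : ℤ))
        ((DerivedCategory.singleFunctor (ModuleCat.{u} P) 0).obj
          (ModuleCat.of P (P ⊗[P₀] (Fin n → P₀)))) :=
      isPC_of_rep _ (rep_single _ hFF 0)
    have h1 : DRing.IsPseudoCoherent P (1 - ((k + 1 : ℕ) : ℤ) + 1)
        ((DerivedCategory.singleFunctor (ModuleCat.{u} P) 0).obj (ModuleCat.of P (P ⊗[P₀] K))) := by
      have e : (1 - ((k + 1 : ℕ) : ℤ) + 1) = 1 - (k : ℤ) := by push_cast; ring
      rw [e]
      exact hK
    exact isPC_obj₃ _ hT _ h1 h2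

theorem isPC'_baseChange_of_flat (M : Type u) [AddCommGroup M] [Module P₀ M]
    [Module R₀ M] [IsScalarTower R₀ P₀ M] [Module.Finite P₀ M] [Module.Flat R₀ M] :
    DRing.IsPseudoCoherentModule' P (P ⊗[P₀] M) := by
  refine isPseudoCoherent'_of_forall _ (fun m => ?_)
  have h := isPC_baseChange_of_flat_aux (R₀ := R₀) R (P₀ := P₀) (P := P) (1 - m).toNat M
  refine isPC_mono ?_ h
  lia

end TorIndep

section Presentation

attribute [local instance] MvPolynomial.algebraMvPolynomial

variable {A A' B B' : Type u} [CommRing A] [CommRing A'] [CommRing B] [CommRing B']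
  [Algebra A A'] [Algebra A B] [Algebra A B'] [Algebra A' B'] [Algebra B B']
  [IsScalarTower A A' B'] [IsScalarTower A B B']
variable {n : ℕ} (γ : MvPolynomial (Fin n) A →ₐ[A] B)

variable (A' B') in
/-- the base-changed presentation `A'[x] → B'` -/
noncomputable def bcPres : MvPolynomial (Fin n) A' →ₐ[A'] B' :=
  MvPolynomial.aeval (fun i => algebraMap B B' (γ (MvPolynomial.X i)))

lemma bcPres_map (p : MvPolynomial (Fin n) A) :
    bcPres A' B' γ (MvPolynomial.map (algebraMap A A') p) = algebraMap B B' (γ p) := by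
  induction p using MvPolynomial.induction_on with
  | C a =>
    rw [MvPolynomial.map_C, bcPres, MvPolynomial.aeval_C, ← IsScalarTower.algebraMap_apply,
      ← MvPolynomial.algebraMap_eq, γ.commutes, ← IsScalarTower.algebraMap_apply]
  | add p q hp hq => rw [map_add, map_add, hp, hq, map_add, map_add]
  | mul_X p i hp =>
    rw [map_mul, map_mul, hp, MvPolynomial.map_X, map_mul, map_mul]
    congr 1
    rw [bcPres, MvPolynomial.aeval_X]

lemma bcPres_surjective [Algebra.IsPushout A A' B B'] (hγ : Function.Surjective γ) :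
    Function.Surjective (bcPres A' B' γ) := by
  intro x
  have hbc : IsBaseChange A' (IsScalarTower.toAlgHom A B B').toLinearMap :=
    (Algebra.IsPushout.out : IsBaseChange A' (IsScalarTower.toAlgHom A B B').toLinearMap)
  refine hbc.inductionOn x (fun x => ∃ q, bcPres A' B' γ q = x) ⟨0, map_zero _⟩ ?_ ?_ ?_
  · intro b
    obtain ⟨p, rfl⟩ := hγ b
    exact ⟨MvPolynomial.map (algebraMap A A') p, bcPres_map γ p⟩
  · rintro a' _ ⟨q, rfl⟩
    exact ⟨a' • q, map_smul _ _ _⟩
  · rintro _ _ ⟨q1, rfl⟩ ⟨q2, rfl⟩
    exact ⟨q1 + q2, map_add _ _ _⟩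

theorem exists_isPushout_bcPres [Algebra.IsPushout A A' B B']
    [Algebra (MvPolynomial (Fin n) A) B] [Algebra (MvPolynomial (Fin n) A') B']
    [Algebra (MvPolynomial (Fin n) A) B']
    (h1 : ∀ p, algebraMap (MvPolynomial (Fin n) A) B p = γ p)
    (h2 : ∀ p, algebraMap (MvPolynomial (Fin n) A') B' p = bcPres A' B' γ p)
    (h3 : ∀ p, algebraMap (MvPolynomial (Fin n) A) B' p = algebraMap B B' (γ p)) :
    ∃ (_ : IsScalarTower (MvPolynomial (Fin n) A) B B')
      (_ : IsScalarTower (MvPolynomial (Fin n) A) (MvPolynomial (Fin n) A') B'),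
      Algebra.IsPushout (MvPolynomial (Fin n) A) (MvPolynomial (Fin n) A') B B' := by
  have t1 : IsScalarTower (MvPolynomial (Fin n) A) B B' :=
    IsScalarTower.of_algebraMap_eq fun p => by rw [h3, h1]
  have t2 : IsScalarTower (MvPolynomial (Fin n) A) (MvPolynomial (Fin n) A') B' :=
    IsScalarTower.of_algebraMap_eq fun p => by
      rw [h3, h2, MvPolynomial.algebraMap_def, bcPres_map]
  have t3 : IsScalarTower A (MvPolynomial (Fin n) A) B :=
    IsScalarTower.of_algebraMap_eq fun a => by rw [h1, γ.commutes]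
  have t4 : IsScalarTower A' (MvPolynomial (Fin n) A') B' :=
    IsScalarTower.of_algebraMap_eq fun a => by rw [h2, AlgHom.commutes]
  have t5 : IsScalarTower A (MvPolynomial (Fin n) A') B' :=
    IsScalarTower.of_algebraMap_eq fun a => by
      rw [h2, IsScalarTower.algebraMap_apply A A' (MvPolynomial (Fin n) A'), AlgHom.commutes,
        ← IsScalarTower.algebraMap_apply]
  have hpo : Algebra.IsPushout A B A' B' := Algebra.IsPushout.symm inferInstance
  have h := (Algebra.IsPushout.comp_iff A (MvPolynomial (Fin n) A) A'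
    (MvPolynomial (Fin n) A') (T := B) (T' := B')).1 hpo
  exact ⟨t1, t2, Algebra.IsPushout.symm h⟩

section BPC

variable [Algebra.IsPushout A A' B B']

/-- flat base change of a presentation -/
theorem bpc_bcPres_of_flat [Module.Flat A A'] (hb : BPC γ.toRingHom) :
    BPC (bcPres A' B' γ).toRingHom := by
  let _ : Algebra (MvPolynomial (Fin n) A) B := γ.toRingHom.toAlgebra
  let _ : Algebra (MvPolynomial (Fin n) A') B' := (bcPres A' B' γ).toRingHom.toAlgebra
  let _ : Algebra (MvPolynomial (Fin n) A) B' := ((algebraMap B B').comp γ.toRingHom).toAlgebra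
  obtain ⟨_, _, hpo⟩ := exists_isPushout_bcPres (A' := A') (B' := B') γ (fun _ => rfl) (fun _ => rfl) (fun _ => rfl)
  have hbc : IsBaseChange (MvPolynomial (Fin n) A')
      (IsScalarTower.toAlgHom (MvPolynomial (Fin n) A) B B').toLinearMap := hpo.out
  have : Module.Flat (MvPolynomial (Fin n) A) (MvPolynomial (Fin n) A') :=
    Module.Flat.isBaseChange (R := A) (S := MvPolynomial (Fin n) A) (M := A')
      (MvPolynomial (Fin n) A')
      (inferInstance : Algebra.IsPushout A (MvPolynomial (Fin n) A) A' (MvPolynomial (Fin n) A')).out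
  have h1 : DRing.IsPseudoCoherentModule' (MvPolynomial (Fin n) A) B := pcModule'_of_bpc hb
  exact bpc_of_algebra (pc'_of_isBaseChange hbc h1)

/-- faithfully flat descent for a presentation -/
theorem bpc_of_bpc_bcPres [Module.FaithfullyFlat A A'] (hb : BPC (bcPres A' B' γ).toRingHom) :
    BPC γ.toRingHom := by
  let _ : Algebra (MvPolynomial (Fin n) A) B := γ.toRingHom.toAlgebra
  let _ : Algebra (MvPolynomial (Fin n) A') B' := (bcPres A' B' γ).toRingHom.toAlgebra
  let _ : Algebra (MvPolynomial (Fin n) A) B' := ((algebraMap B B').comp γ.toRingHom).toAlgebra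
  obtain ⟨_, _, hpo⟩ := exists_isPushout_bcPres (A' := A') (B' := B') γ (fun _ => rfl) (fun _ => rfl) (fun _ => rfl)
  have hbc : IsBaseChange (MvPolynomial (Fin n) A')
      (IsScalarTower.toAlgHom (MvPolynomial (Fin n) A) B B').toLinearMap := hpo.out
  have hP : IsBaseChange (MvPolynomial (Fin n) A)
      (IsScalarTower.toAlgHom A A' (MvPolynomial (Fin n) A')).toLinearMap :=
    (inferInstance : Algebra.IsPushout A (MvPolynomial (Fin n) A) A' (MvPolynomial (Fin n) A')).out
  have : Module.FaithfullyFlat (MvPolynomial (Fin n) A) (MvPolynomial (Fin n) A') :=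
    Module.FaithfullyFlat.of_linearEquiv _ _ hP.equiv.symm
  have h1 : DRing.IsPseudoCoherentModule' (MvPolynomial (Fin n) A') B' := pcModule'_of_bpc hb
  exact bpc_of_algebra (pc'_of_isBaseChange_of_faithfullyFlat hbc h1)

/-- Tor-independent base change of a presentation -/
theorem bpc_bcPres_of_flat_target [IsNoetherianRing A] [Module.Flat A B]
    (hγ : Function.Surjective γ) : BPC (bcPres A' B' γ).toRingHom := by
  let _ : Algebra (MvPolynomial (Fin n) A) B := γ.toRingHom.toAlgebra
  let _ : Algebra (MvPolynomial (Fin n) A') B' := (bcPres A' B' γ).toRingHom.toAlgebra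
  let _ : Algebra (MvPolynomial (Fin n) A) B' := ((algebraMap B B').comp γ.toRingHom).toAlgebra
  obtain ⟨_, _, hpo⟩ := exists_isPushout_bcPres (A' := A') (B' := B') γ (fun _ => rfl) (fun _ => rfl) (fun _ => rfl)
  have hbc : IsBaseChange (MvPolynomial (Fin n) A')
      (IsScalarTower.toAlgHom (MvPolynomial (Fin n) A) B B').toLinearMap := hpo.out
  have t3 : IsScalarTower A (MvPolynomial (Fin n) A) B :=
    IsScalarTower.of_algebraMap_eq fun a => (γ.commutes a).symm
  have : Module.Finite (MvPolynomial (Fin n) A) B :=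
    Module.Finite.of_surjective (Algebra.linearMap (MvPolynomial (Fin n) A) B) hγ
  have h1 := isPC'_baseChange_of_flat (R₀ := A) A' (P₀ := MvPolynomial (Fin n) A)
    (P := MvPolynomial (Fin n) A') B
  have h2 : DRing.IsPseudoCoherentModule' (MvPolynomial (Fin n) A') B' :=
    pc'_of_iso ((DerivedCategory.singleFunctor (ModuleCat.{u} (MvPolynomial (Fin n) A')) 0).mapIso
      hbc.equiv.toModuleIso) h1
  exact bpc_of_algebra h2

end BPC

end Presentation

section PCHLevel

variable {A A' B B' : Type u} [CommRing A] [CommRing A'] [CommRing B] [CommRing B']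
  [Algebra A A'] [Algebra A B] [Algebra A B'] [Algebra A' B'] [Algebra B B']
  [IsScalarTower A A' B'] [IsScalarTower A B B'] [Algebra.IsPushout A A' B B']

lemma mkAlgHom_toRingHom {n : ℕ} (γ : MvPolynomial (Fin n) A →+* B)
    (hC : γ.comp MvPolynomial.C = algebraMap A B) : (mkAlgHom γ hC).toRingHom = γ := rfl

lemma algHom_comp_C {n : ℕ} (γ : MvPolynomial (Fin n) A →ₐ[A] B) :
    γ.toRingHom.comp MvPolynomial.C = algebraMap A B := by
  ext a
  exact γ.commutes a

/-- pseudo-coherent ring maps are stable under flat base change -/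
theorem PCH.baseChange [Module.Flat A A'] (h : PCH (algebraMap A B)) : PCH (algebraMap A' B') := by
  obtain ⟨n, γr, hC, hs, hb⟩ := h
  let γ := mkAlgHom γr hC
  exact ⟨n, (bcPres A' B' γ).toRingHom, algHom_comp_C _, bcPres_surjective γ hs,
    bpc_bcPres_of_flat γ hb⟩

/-- pseudo-coherent ring maps descend along faithfully flat base change -/
theorem PCH.descent [Module.FaithfullyFlat A A'] (h : PCH (algebraMap A' B')) :
    PCH (algebraMap A B) := by
  have hpo : Algebra.IsPushout A B A' B' := Algebra.IsPushout.symm inferInstance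
  have hft' : (algebraMap A' B').FiniteType := by
    obtain ⟨n, γr, hC, hs, -⟩ := h
    rw [RingHom.finiteType_algebraMap]
    exact Algebra.FiniteType.of_surjective (mkAlgHom γr hC) hs
  have hft : (algebraMap A B).FiniteType :=
    RingHom.FiniteType.codescendsAlong_faithfullyFlat
      ((RingHom.faithfullyFlat_algebraMap_iff).2 inferInstance) hft'
  rw [RingHom.finiteType_algebraMap] at hft
  obtain ⟨n, γ, hγ⟩ := exists_presentation A B
  have hb' : BPC (bcPres A' B' γ).toRingHom :=
    h.bpc_of_presentation _ (algHom_comp_C _) (bcPres_surjective γ hγ)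
  exact ⟨n, γ.toRingHom, algHom_comp_C γ, hγ, bpc_of_bpc_bcPres γ hb'⟩

end PCHLevel

end Groth.Agent.R2.H7.PCBase
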