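import Mathlib
import Groth.Agent.R2.H7PCBase
import Groth.Agent.Lib.Helper3FlatModel

/-!
# Flat ring maps of finite presentation are pseudo-coherent (helper7)
-/

set_option autoImplicit false
universe u
open CategoryTheory CategoryTheory.Limits
attribute [local instance] HasDerivedCategory.standard

namespace Groth.Agent.R2.H7.PCFlat

open Groth.Agent.Lib.Helper1.Restrict Groth.Agent.Lib.Helper1.RelPC
open Groth.Agent.R2.H7.PCHom Groth.Agent.R2.H7.PCBase
open TensorProduct

attribute [local instance] Algebra.TensorProduct.rightAlgebra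

/-- **Flat ring maps of finite presentation are pseudo-coherent** (ring-hom form). -/
theorem pch_of_flat_of_finitePresentation (A B : Type u) [CommRing A] [CommRing B] [Algebra A B]
    [Module.Flat A B] [Algebra.FinitePresentation A B] : PCH (algebraMap A B) := by
  obtain ⟨A₀, B₀, _, _, _, _, hft, hfp, hflat, ⟨e⟩⟩ :=
    Groth.Agent.Lib.Helper3.FlatOpen.exists_flat_model A B
  have : IsNoetherianRing A₀ := Algebra.FiniteType.isNoetherianRing ℤ A₀
  have : Algebra.FiniteType A₀ B₀ := inferInstance
  obtain ⟨n, γ₀, hγ₀⟩ := exists_presentation A₀ B₀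
  have hb : BPC (bcPres A (A ⊗[A₀] B₀) γ₀).toRingHom := bpc_bcPres_of_flat_target γ₀ hγ₀
  have h1 : PCH (algebraMap A (A ⊗[A₀] B₀)) :=
    ⟨n, (bcPres A (A ⊗[A₀] B₀) γ₀).toRingHom, algHom_comp_C _, bcPres_surjective γ₀ hγ₀, hb⟩
  have h2 : PCH (e.toRingEquiv.toRingHom.comp (algebraMap A (A ⊗[A₀] B₀))) :=
    h1.comp (PCH.of_bijective e.toRingEquiv.bijective)
  have h3 : e.toRingEquiv.toRingHom.comp (algebraMap A (A ⊗[A₀] B₀)) = algebraMap A B := by
    ext a
    exact e.commutes a
  rwa [h3] at h2

/-- **Flat ring maps of finite presentation are pseudo-coherent.** -/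
theorem isPseudoCoherentHom_of_flat_of_finitePresentation (A B : Type u) [CommRing A] [CommRing B]
    [Algebra A B] [Module.Flat A B] [Algebra.FinitePresentation A B] :
    MoreMor.IsPseudoCoherentHom A B :=
  isPseudoCoherentHom_iff.2 (pch_of_flat_of_finitePresentation A B)

end Groth.Agent.R2.H7.PCFlat
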