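import Mathlib
import Groth.Agent.R2.H7PCBase

/-!
# Zariski descent of pseudo-coherence and locality of pseudo-coherent ring maps (helper7)
-/

set_option autoImplicit false
universe u
open CategoryTheory CategoryTheory.Limits
attribute [local instance] HasDerivedCategory.standard

namespace Groth.Agent.R2.H7.PCZar

open DerivedCategory Pretriangulated
open Groth.Agent.Lib.Helper1.Restrict Groth.Agent.Lib.Helper1.RelPC
open Groth.Agent.Lib.Helper1.PC Groth.Agent.Lib.Helper1.PCTower Groth.Agent.Lib.Helper1.Extend
open Groth.Agent.R2.H7.PCHom Groth.Agent.R2.H7.PCBase Groth.Agent.S7017 Groth.Agent.S14388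
open TensorProduct

section Family

variable {A : Type u} [CommRing A] {ι : Type*} (B : ι → Type u)
  [∀ i, CommRing (B i)] [∀ i, Algebra A (B i)]

variable (A) in
/-- a family of `A`-algebras jointly detects vanishing and finiteness of modules -/
structure Detects : Prop where
  zero : ∀ H : ModuleCat.{u} A, (∀ i, IsZero ((ext A (B i)).obj H)) → IsZero H
  fin : ∀ H : ModuleCat.{u} A, (∀ i, Module.Finite (B i) ((ext A (B i)).obj H)) → Module.Finite A H

variable {B} [∀ i, Module.Flat A (B i)] (hd : Detects A B)
include hd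

lemma isLE_of_extD_family (X : Dual.D A) (n : ℤ) (h : ∀ i, ((extD A (B i)).obj X).IsLE n) :
    X.IsLE n := by
  rw [DerivedCategory.isLE_iff]
  intro j hj
  refine hd.zero _ (fun i => ?_)
  have := (DerivedCategory.isLE_iff _ n).1 (h i) j hj
  exact this.of_iso (homologyMapDIso (ext A (B i)) X j).symm

lemma finite_homology_of_extD_family (X : Dual.D A) (n : ℤ)
    (h : ∀ i, Module.Finite (B i)
      ((homologyFunctor (ModuleCat.{u} (B i)) n).obj ((extD A (B i)).obj X))) :
    Module.Finite A ((homologyFunctor (ModuleCat.{u} A) n).obj X) :=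
  hd.fin _ (fun i => Module.Finite.equiv (homologyMapDIso (ext A (B i)) X n).toLinearEquiv)

lemma isPC_of_extD_family_aux (m : ℤ) (k : ℕ) : ∀ (K : Dual.D A) (n : ℤ),
    n < m + k → K.IsLE n → (∀ i, DRing.IsPseudoCoherent (B i) m ((extD A (B i)).obj K)) →
    DRing.IsPseudoCoherent A m K := by
  induction k with
  | zero =>
    intro K n hn hK _
    have : K.IsLE (m - 1) := tt.isLE_of_le K n (m - 1) (by push_cast at hn; lia)
    exact isPC_of_isLE m K
  | succ k ih =>
    intro K n hn hK h
    by_cases hn' : n < m + k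
    · exact ih K n hn' hK h
    have hmn : m ≤ n := by lia
    have hfinA : Module.Finite A ((homologyFunctor (ModuleCat.{u} A) n).obj K) := by
      refine finite_homology_of_extD_family hd K n (fun i => ?_)
      have hKB : ((extD A (B i)).obj K).IsLE n := isLE_map (ext A (B i)) K n hK
      exact (Groth.Agent.S2068.result ((extD A (B i)).obj K) n (isPC_mono hmn (h i))).1
        (fun j hj => (DerivedCategory.isLE_iff _ n).1 hKB j hj)
    obtain ⟨F, ψ, hF, hψ⟩ := exists_single_conn K n hfinA
    obtain ⟨K', v, w, hT⟩ := distinguished_cocone_triangle ψ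
    have hK' : K'.IsLE (n - 1) := (conn_iff_of_distTriang _ hT n).1 hψ
    have h' : ∀ i, DRing.IsPseudoCoherent (B i) m ((extD A (B i)).obj K') := by
      intro i
      have hT' := (extD A (B i)).map_distinguished _ hT
      have h1 : DRing.IsPseudoCoherent (B i) (m + 1)
          ((extD A (B i)).obj ((DerivedCategory.singleFunctor (ModuleCat.{u} A) n).obj F)) :=
        isPC_of_iso (mapSingleIso (ext A (B i)) F n).symm
          (isPC_of_rep (m + 1) (rep_single _ (FF_ext F hF) n))
      exact isPC_obj₃ _ hT' m h1 (h i)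
    have hK'pc := ih K' (n - 1) (by push_cast at hn; lia) hK' h'
    exact isPC_obj₂ _ hT m (isPC_of_rep m (rep_single F hF n)) hK'pc

/-- descent of `m`-pseudo-coherence along a finite jointly detecting flat family -/
theorem isPC_of_extD_family [Finite ι] (K : Dual.D A) (m : ℤ)
    (h : ∀ i, DRing.IsPseudoCoherent (B i) m ((extD A (B i)).obj K)) :
    DRing.IsPseudoCoherent A m K := by
  have hn : ∃ n : ℤ, ∀ i, ((extD A (B i)).obj K).IsLE n := by
    choose f hf using fun i => exists_isLE_of_isPC m _ (h i)
    obtain ⟨n, hn⟩ := (Set.finite_range f).bddAbove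
    exact ⟨n, fun i => tt.isLE_of_le _ (f i) n (hn ⟨i, rfl⟩)⟩
  obtain ⟨n, hn⟩ := hn
  have hK : K.IsLE n := isLE_of_extD_family hd K n hn
  exact isPC_of_extD_family_aux hd m (n - m + 1).toNat K n (by lia) hK h

theorem isPC'_of_extD_family [Finite ι] (K : Dual.D A)
    (h : ∀ i, DRing.IsPseudoCoherent' (B i) ((extD A (B i)).obj K)) :
    DRing.IsPseudoCoherent' A K :=
  isPseudoCoherent'_of_forall _ (fun m => isPC_of_extD_family hd K m
    (fun i => Groth.Agent.S6938.isPC_of_pc' _ (h i) m))

end Family

section Cancel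

variable {A B C : Type u} [CommRing A] [CommRing B] [CommRing C]

/-- cancellation for `BPC` -/
lemma bpc_cancel (φ : A →+* B) (ψ : B →+* C) (hφ : BPC φ) (h : BPC (ψ.comp φ)) : BPC ψ := by
  intro j
  rw [isPC_restrictD_iff φ hφ _ j]
  refine isPC_of_iso ?_ (h j)
  exact (restrictDSingleIso φ _ 0 ≪≫ (DerivedCategory.singleFunctor (ModuleCat.{u} A) 0).mapIso
    (ModuleCat.restrictScalarsComp'App φ ψ (ψ.comp φ) rfl (ModuleCat.of C C)).symm).symm

lemma bpc_of_comp_bijective (σ : A →+* B) (hσ : Function.Bijective σ) (ψ : B →+* C)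
    (h : BPC (ψ.comp σ)) : BPC ψ :=
  bpc_cancel σ ψ (bpc_of_bijective σ hσ) h

theorem PCH.finiteType {φ : A →+* B} (h : PCH φ) : φ.FiniteType := by
  obtain ⟨n, γ, hC, hs, -⟩ := h
  let _ := φ.toAlgebra
  have : Algebra.FiniteType A B := Algebra.FiniteType.of_surjective (mkAlgHom γ hC) hs
  exact (RingHom.finiteType_algebraMap (A := A) (B := B)).2 this

/-- a polynomial ring is pseudo-coherent over its base -/
theorem PCH.mvPolynomial_C (n : ℕ) : PCH (MvPolynomial.C : A →+* MvPolynomial (Fin n) A) :=
  ⟨n, RingHom.id _, rfl, Function.surjective_id, bpc_of_bijective _ Function.bijective_id⟩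

/-- cancellation for pseudo-coherent ring maps -/
theorem PCH.of_comp {φ : A →+* B} {ψ : B →+* C} (hφ : PCH φ) (h : PCH (ψ.comp φ)) : PCH ψ := by
  obtain ⟨n, γ₁, h1C, h1s, h1b⟩ := hφ
  have hft : ψ.FiniteType := RingHom.FiniteType.of_comp_finiteType (PCH.finiteType h)
  let _ := ψ.toAlgebra
  have : Algebra.FiniteType B C := (RingHom.finiteType_algebraMap (A := B) (B := C)).1 hft
  obtain ⟨k, γ₂, h2s⟩ := exists_presentation B C
  let m₁ : MvPolynomial (Fin k) (MvPolynomial (Fin n) A) →+* MvPolynomial (Fin k) B :=
    MvPolynomial.map γ₁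
  have hm₁ : Function.Surjective m₁ := MvPolynomial.map_surjective γ₁ h1s
  let σ : MvPolynomial (Fin (k + n)) A →+* MvPolynomial (Fin k) (MvPolynomial (Fin n) A) :=
    (sumEquiv A n k).toRingEquiv.toRingHom
  have hσ : Function.Bijective σ := (sumEquiv A n k).toRingEquiv.bijective
  have hC : ((γ₂.toRingHom.comp m₁).comp σ).comp MvPolynomial.C = ψ.comp φ := by
    ext a
    show γ₂ (m₁ (sumEquiv A n k (MvPolynomial.C a))) = ψ (φ a)
    have e1 : sumEquiv A n k (MvPolynomial.C a) = MvPolynomial.C (MvPolynomial.C a) :=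
      (sumEquiv A n k).commutes a
    rw [e1]
    have e2 : m₁ (MvPolynomial.C (MvPolynomial.C a)) = MvPolynomial.C (γ₁ (MvPolynomial.C a)) :=
      MvPolynomial.map_C γ₁ _
    rw [e2]
    have e3 : γ₁ (MvPolynomial.C a) = φ a := congrArg (fun f : A →+* B => f a) h1C
    rw [e3]
    exact γ₂.commutes (φ a)
  have hb : BPC ((γ₂.toRingHom.comp m₁).comp σ) :=
    h.bpc_of_presentation _ hC ((h2s.comp hm₁).comp hσ.2)
  have hb2 : BPC (γ₂.toRingHom.comp m₁) := bpc_of_comp_bijective σ hσ _ hb
  have hb3 : BPC γ₂.toRingHom := bpc_cancel m₁ _ (bpc_map γ₁ h1b k) hb2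
  exact ⟨k, γ₂.toRingHom, algHom_comp_C γ₂, h2s, hb3⟩

end Cancel

section Loc

variable {P : Type u} [CommRing P]

/-- localisations at a spanning set jointly detect vanishing and finiteness -/
theorem detects_away (s : Set P) (hs : Ideal.span s = ⊤) :
    Detects P (fun g : s => Localization.Away g.1) := by
  have inst : ∀ (H : ModuleCat.{u} P) (g : s), IsLocalizedModule (Submonoid.powers g.1)
      (TensorProduct.mk P (Localization.Away g.1) H 1) := fun H g =>
    (isLocalizedModule_iff_isBaseChange (Submonoid.powers g.1) (Localization.Away g.1) _).2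
      (TensorProduct.isBaseChange P H (Localization.Away g.1))
  refine ⟨fun H h => ?_, fun H h => ?_⟩
  · have hx : ∀ z : H, z = 0 := fun z =>
      Module.eq_zero_of_isLocalized_span s hs
        (fun g => Localization.Away g.1 ⊗[P] H)
        (fun g => TensorProduct.mk P (Localization.Away g.1) H 1) z (fun g => by
          have h1 : Subsingleton ((ext P (Localization.Away g.1)).obj H) :=
            ModuleCat.subsingleton_of_isZero (h g)
          have h2 : Subsingleton (Localization.Away g.1 ⊗[P] H) :=
            (extEquiv (A := P) (B := Localization.Away g.1) H).symm.injective.subsingleton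
          exact Subsingleton.elim _ _)
    have : Subsingleton H := ⟨fun x y => (hx x).trans (hx y).symm⟩
    exact ModuleCat.isZero_of_subsingleton H
  · refine Module.Finite.of_localizationSpan' s hs
      (Mₚ := fun g => Localization.Away g.1 ⊗[P] H) (Rₚ := fun g => Localization.Away g.1)
      (fun g => TensorProduct.mk P (Localization.Away g.1) H 1) (fun g => ?_)
    have := h g
    exact Module.Finite.equiv (extEquiv (A := P) (B := Localization.Away g.1) H)

end Loc

section SpanTarget

lemma pc'_of_subsingleton {P : Type u} [CommRing P] (X : Type u) [AddCommGroup X] [Module P X]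
    [Subsingleton X] : DRing.IsPseudoCoherentModule' P X :=
  isPseudoCoherent'_of_forall _ (fun j => isPC_of_isZero j _
    ((DerivedCategory.singleFunctor (ModuleCat.{u} P) 0).map_isZero
      (ModuleCat.isZero_of_subsingleton (ModuleCat.of P X))))

/-- the local piece of the argument: `S_r` is pseudo-coherent over `P_g` -/
lemma pc'_tensor_away_of_pch {R S : Type u} [CommRing R] [CommRing S] (f : R →+* S) {n : ℕ}
    (γ : MvPolynomial (Fin n) R →+* S) (hC : γ.comp MvPolynomial.C = f)
    (hγ : Function.Surjective γ) (g : MvPolynomial (Fin n) R)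
    (Pg : Type u) [CommRing Pg] [Algebra (MvPolynomial (Fin n) R) Pg] [IsLocalization.Away g Pg]
    (Sr : Type u) [CommRing Sr] [Algebra S Sr] [IsLocalization.Away (γ g) Sr]
    (H : PCH ((algebraMap S Sr).comp f)) :
    letI := γ.toAlgebra
    DRing.IsPseudoCoherentModule' Pg (Pg ⊗[MvPolynomial (Fin n) R] S) := by
  let _ : Algebra (MvPolynomial (Fin n) R) S := γ.toAlgebra
  let P := MvPolynomial (Fin n) R
  have hmap : (Submonoid.powers g).map γ = Submonoid.powers (γ g) := Submonoid.map_powers γ g
  have : IsLocalization ((Submonoid.powers g).map γ) Sr := by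
    rw [hmap]
    infer_instance
  let γg : Pg →+* Sr := IsLocalization.map Sr γ (Submonoid.le_comap_map (Submonoid.powers g))
  have hγg : Function.Surjective γg :=
    IsLocalization.map_surjective_of_surjective (Submonoid.powers g) Pg Sr hγ
  let _ : Algebra Pg Sr := γg.toAlgebra
  let _ : Algebra P Sr := ((algebraMap S Sr).comp γ).toAlgebra
  have t1 : IsScalarTower P S Sr := IsScalarTower.of_algebraMap_eq fun p => rfl
  have t2 : IsScalarTower P Pg Sr := IsScalarTower.of_algebraMap_eq fun p =>
    (IsLocalization.map_eq (Submonoid.le_comap_map (Submonoid.powers g)) p).symm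
  have : IsLocalization (Algebra.algebraMapSubmonoid S (Submonoid.powers g)) Sr := by
    show IsLocalization ((Submonoid.powers g).map (algebraMap P S)) Sr
    exact this
  have hpo : Algebra.IsPushout P S Pg Sr :=
    Algebra.isPushout_of_isLocalization (Submonoid.powers g) Pg S Sr
  have hbc : IsBaseChange Pg (IsScalarTower.toAlgHom P S Sr).toLinearMap := hpo.symm.out
  -- `P_g → S_r` is a pseudo-coherent ring map
  have h1 : PCH ((algebraMap P Pg).comp (MvPolynomial.C : R →+* P)) :=
    (PCH.mvPolynomial_C n).comp (PCH.of_isLocalizationAway g)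
  have h2 : (algebraMap Pg Sr).comp ((algebraMap P Pg).comp (MvPolynomial.C : R →+* P)) =
      (algebraMap S Sr).comp f := by
    ext a
    show algebraMap Pg Sr (algebraMap P Pg (MvPolynomial.C a)) = algebraMap S Sr (f a)
    rw [← IsScalarTower.algebraMap_apply P Pg Sr, IsScalarTower.algebraMap_apply P S Sr]
    congr 1
    exact congrArg (fun φ : R →+* S => φ a) hC
  have h3 : PCH (algebraMap Pg Sr) := PCH.of_comp h1 (h2 ▸ H)
  have h4 : DRing.IsPseudoCoherentModule' Pg Sr := pcModule'_of_bpc (h3.bpc_of_surjective hγg)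
  exact pc'_of_iso ((DerivedCategory.singleFunctor (ModuleCat.{u} Pg) 0).mapIso
    hbc.equiv.toModuleIso).symm h4

/-- **Pseudo-coherent ring maps are local on the target ring** (Zariski-local on the source
scheme). -/
theorem pch_ofLocalizationFiniteSpanTarget : RingHom.OfLocalizationFiniteSpanTarget @PCH := by
  intro R S _ _ f s hs H
  classical
  have hft : f.FiniteType :=
    RingHom.finiteType_ofLocalizationSpanTarget f (s : Set S) hs
      (fun r => PCH.finiteType (H ⟨r.1, r.2⟩))
  let _ := f.toAlgebra
  have : Algebra.FiniteType R S := (RingHom.finiteType_algebraMap (A := R) (B := S)).1 hft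
  obtain ⟨n, γa, hγ⟩ := exists_presentation R S
  let γ : MvPolynomial (Fin n) R →+* S := γa.toRingHom
  have hC : γ.comp MvPolynomial.C = f := algHom_comp_C γa
  have hγ' : Function.Surjective γ := hγ
  choose G hG using hγ'
  obtain ⟨c, hc⟩ : ∃ c : S → S, ∑ r ∈ s, c r * r = 1 := by
    have h1 : (1 : S) ∈ Submodule.span S (s : Set S) := by
      have : Submodule.span S (s : Set S) = ⊤ := hs
      rw [this]
      trivial
    obtain ⟨c, -, hc⟩ := Submodule.mem_span_finset.1 h1
    exact ⟨c, by simpa [smul_eq_mul] using hc⟩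
  let h : MvPolynomial (Fin n) R := 1 - ∑ r ∈ s, G (c r) * G r
  have hh : γ h = 0 := by
    simp only [h, map_sub, map_one, map_sum, map_mul, hG, hc, sub_self]
  let t : Set (MvPolynomial (Fin n) R) := insert h (G '' (s : Set S))
  have ht : Ideal.span t = ⊤ := by
    rw [Ideal.eq_top_iff_one]
    have e1 : (1 : MvPolynomial (Fin n) R) = h + ∑ r ∈ s, G (c r) * G r := by simp [h]
    rw [e1]
    refine Ideal.add_mem _ (Ideal.subset_span (Set.mem_insert _ _))
      (Ideal.sum_mem _ fun r hr => Ideal.mul_mem_left _ _
        (Ideal.subset_span (Set.mem_insert_of_mem _ ⟨r, hr, rfl⟩)))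
  have htfin : Finite t := (Set.Finite.insert _ (s.finite_toSet.image G)).to_subtype
  let _ : Algebra (MvPolynomial (Fin n) R) S := γ.toAlgebra
  suffices hS : DRing.IsPseudoCoherentModule' (MvPolynomial (Fin n) R) S from
    ⟨n, γ, hC, hγ, bpc_of_algebra hS⟩
  refine isPC'_of_extD_family (detects_away t ht) (Dual.inD (MvPolynomial (Fin n) R) S)
    (fun g => ?_)
  refine pc'_of_iso (extDInDIso (A := MvPolynomial (Fin n) R) (B := Localization.Away g.1) S).symm ?_
  obtain ⟨g, hg⟩ := g
  rcases hg with rfl | ⟨r, hr, rfl⟩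
  · -- the tensor product vanishes
    have hz : ∀ z : Localization.Away h ⊗[MvPolynomial (Fin n) R] S, z = 0 := by
      intro z
      induction z using TensorProduct.induction_on with
      | zero => rfl
      | tmul a x =>
        have e1 : a = h • (a * IsLocalization.Away.invSelf h) := by
          rw [Algebra.smul_def, mul_comm a, ← mul_assoc, IsLocalization.Away.mul_invSelf, one_mul]
        have e2 : h • x = 0 := by
          rw [Algebra.smul_def]
          show γ h * x = 0
          rw [hh, zero_mul]
        rw [e1, TensorProduct.smul_tmul, e2, TensorProduct.tmul_zero]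
      | add x y hx hy => rw [hx, hy, add_zero]
    have : Subsingleton (Localization.Away h ⊗[MvPolynomial (Fin n) R] S) :=
      ⟨fun x y => (hz x).trans (hz y).symm⟩
    exact pc'_of_subsingleton _
  · have : IsLocalization.Away (γ (G r)) (Localization.Away r) := by
      rw [hG r]
      infer_instance
    exact pc'_tensor_away_of_pch f γ hC hγ (G r) (Localization.Away (G r)) (Localization.Away r)
      (H ⟨r, hr⟩)

theorem pch_ofLocalizationSpanTarget : RingHom.OfLocalizationSpanTarget @PCH :=
  (RingHom.ofLocalizationSpanTarget_iff_finite @PCH).2 pch_ofLocalizationFiniteSpanTarget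

end SpanTarget

end Groth.Agent.R2.H7.PCZar
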