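import Mathlib
import Groth.Agent.R2.H7PCZar
import Groth.Agent.R2.H7PCFlat

/-!
# Pseudo-coherent morphisms of schemes as a `HasRingHomProperty` (helper7)
-/

set_option autoImplicit false
universe u
open CategoryTheory CategoryTheory.Limits AlgebraicGeometry
attribute [local instance] HasDerivedCategory.standard

namespace Groth.Agent.R2.H7.PCMor

open Groth.Agent.Lib.Helper1.Restrict Groth.Agent.Lib.Helper1.RelPC
open Groth.Agent.R2.H7.PCHom Groth.Agent.R2.H7.PCBase Groth.Agent.R2.H7.PCZar
open Groth.Agent.R2.H7.PCFlat

section RingLevel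

theorem pch_stableUnderComposition : RingHom.StableUnderComposition @PCH :=
  fun _ _ _ _ _ _ _ _ hf hg => hf.comp hg

theorem pch_holdsForLocalizationAway : RingHom.HoldsForLocalizationAway @PCH :=
  fun _ _ _ _ _ r _ => PCH.of_isLocalizationAway r

theorem pch_respectsIso : RingHom.RespectsIso @PCH :=
  pch_stableUnderComposition.respectsIso (fun e => PCH.of_bijective e.bijective)

theorem pch_localizationAwayPreserves : RingHom.LocalizationAwayPreserves @PCH := by
  intro R S _ _ f r R' S' _ _ _ _ _ _ hf
  let _ : Algebra R S := f.toAlgebra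
  let _ : Algebra R' S' := (IsLocalization.Away.map R' S' f r).toAlgebra
  let _ : Algebra R S' := ((algebraMap S S').comp f).toAlgebra
  have t1 : IsScalarTower R S S' := IsScalarTower.of_algebraMap_eq fun _ => rfl
  have t2 : IsScalarTower R R' S' := IsScalarTower.of_algebraMap_eq fun x => by
    show algebraMap S S' (f x) = IsLocalization.Away.map R' S' f r (algebraMap R R' x)
    rw [IsLocalization.Away.map, IsLocalization.map_eq]
  have : IsLocalization (Algebra.algebraMapSubmonoid S (Submonoid.powers r)) S' := by
    show IsLocalization ((Submonoid.powers r).map (algebraMap R S)) S'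
    rw [Submonoid.map_powers]
    exact ‹IsLocalization.Away (f r) S'›
  have hpo : Algebra.IsPushout R S R' S' :=
    Algebra.isPushout_of_isLocalization (Submonoid.powers r) R' S S'
  have : Algebra.IsPushout R R' S S' := hpo.symm
  have : Module.Flat R R' := IsLocalization.flat R' (Submonoid.powers r)
  exact PCH.baseChange (A := R) (A' := R') (B := S) (B' := S') hf

theorem pch_isLocal : RingHom.PropertyIsLocal @PCH where
  localizationAwayPreserves := pch_localizationAwayPreserves
  ofLocalizationSpanTarget := pch_ofLocalizationSpanTarget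
  ofLocalizationSpan := pch_ofLocalizationSpanTarget.ofLocalizationSpan
    (pch_stableUnderComposition.stableUnderCompositionWithLocalizationAway
      pch_holdsForLocalizationAway).1
  StableUnderCompositionWithLocalizationAwayTarget :=
    (pch_stableUnderComposition.stableUnderCompositionWithLocalizationAway
      pch_holdsForLocalizationAway).2

end RingLevel

section SchemeLevel

/-- pseudo-coherent morphisms as a morphism property -/
def pcMor : MorphismProperty Scheme.{u} := fun _ _ f => MoreMor.IsPseudoCoherentMor f

lemma pcMor_iff {X Y : Scheme.{u}} (f : X ⟶ Y) : pcMor f ↔ MoreMor.IsPseudoCoherentMor f := Iff.rfl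

lemma isPseudoCoherentMor_iff {X Y : Scheme.{u}} (f : X ⟶ Y) :
    MoreMor.IsPseudoCoherentMor f ↔
      ∀ (U : Y.affineOpens) (V : X.affineOpens) (e : V.1 ≤ f ⁻¹ᵁ U.1), PCH (f.appLE U V e).hom := by
  constructor
  · intro h U V e
    have := h V.1 U.1 V.2 U.2 e
    let _ := (f.appLE U.1 V.1 e).hom.toAlgebra
    exact isPseudoCoherentHom_iff.1 this
  · intro h U V hU hV hUV
    let _ := (f.appLE V U hUV).hom.toAlgebra
    exact isPseudoCoherentHom_iff.2 (h ⟨V, hV⟩ ⟨U, hU⟩ hUV)

instance : HasRingHomProperty pcMor.{u} @PCH where
  isLocal_ringHomProperty := pch_isLocal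
  eq_affineLocally' := by
    ext X Y f
    rw [affineLocally_iff_affineOpens_le]
    exact isPseudoCoherentMor_iff f

end SchemeLevel

end Groth.Agent.R2.H7.PCMor
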