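import Mathlib
import Groth.Agent.R2.H7PCMor

/-!
# fpqc descent for pseudo-coherent morphisms (helper7)

Mathlib's `HasRingHomProperty.descendsAlong` assumes that the property is stable under arbitrary base
change; pseudo-coherent morphisms are only stable under flat base change, so the reduction steps are
redone here using only locality on the target.
-/

set_option autoImplicit false
universe u
open CategoryTheory CategoryTheory.Limits AlgebraicGeometry MorphismProperty
attribute [local instance] HasDerivedCategory.standard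

namespace Groth.Agent.R2.H7.PCDesc

open Groth.Agent.R2.H7.PCHom Groth.Agent.R2.H7.PCBase Groth.Agent.R2.H7.PCZar
open Groth.Agent.R2.H7.PCMor

theorem pch_codescendsAlong_faithfullyFlat :
    RingHom.CodescendsAlong (@PCH) RingHom.FaithfullyFlat := by
  intro R S R' S' _ _ _ _ _ _ _ _ _ _ _ hpo hff h
  have : Algebra.IsPushout R R' S S' := hpo.symm
  have : Module.FaithfullyFlat R R' := (RingHom.faithfullyFlat_algebraMap_iff).1 hff
  exact PCH.descent (A := R) (A' := R') (B := S) (B' := S') h

section General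

variable (P : MorphismProperty Scheme.{u})

/-- a property local on the target is stable under base change along local isomorphisms -/
lemma of_isPullback_of_isLocalIso [IsZariskiLocalAtTarget P]
    {X Y W W' : Scheme.{u}} {h : W ⟶ X} {p : Y ⟶ X} {h' : W' ⟶ Y} {p' : W' ⟶ W}
    (sq : IsPullback h' p' p h) (hp : IsLocalIso p) (hh : P h) : P h' := by
  obtain ⟨𝒰, hU⟩ := IsLocalIso.eq_sourceLocalClosure_isOpenImmersion ▸ hp
  rw [IsZariskiLocalAtTarget.iff_of_openCover (P := P) 𝒰]
  intro i
  have : IsOpenImmersion (𝒰.f i ≫ p) := hU i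
  have sq2 : IsPullback (pullback.fst h' (𝒰.f i) ≫ p') (pullback.snd h' (𝒰.f i)) h (𝒰.f i ≫ p) :=
    (IsPullback.of_hasPullback h' (𝒰.f i)).paste_horiz sq.flip
  exact IsZariskiLocalAtTarget.of_isPullback (P := P) sq2 hh

end General

section Descent

variable (P P' : MorphismProperty Scheme.{u})
variable (Q Q' : ∀ {R S : Type u} [CommRing R] [CommRing S], (R →+* S) → Prop)
variable [P'.IsStableUnderBaseChange] [P'.IsStableUnderComposition]
variable
  (H₁ : (@IsLocalIso ⊓ @Surjective : MorphismProperty Scheme) ≤ P')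
  (H₂ : ∀ {R S : CommRingCat.{u}} {f : R ⟶ S}, P' (Spec.map f) → Q' f.hom)

include H₁ in
/-- variant of Mathlib's `IsZariskiLocalAtTarget.descendsAlong_inf_quasiCompact` without stability
of `P` under base change -/
lemma descendsAlong_inf_quasiCompact' [IsZariskiLocalAtTarget P]
    (H : ∀ {R S : CommRingCat.{u}} {Y : Scheme.{u}} (φ : R ⟶ S) (g : Y ⟶ Spec R),
      P' (Spec.map φ) → P (pullback.fst (Spec.map φ) g) → P g) :
    P.DescendsAlong (P' ⊓ @QuasiCompact) := by
  apply IsZariskiLocalAtTarget.descendsAlong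
  intro R X Y f g hf h
  wlog hX : ∃ T, X = Spec T generalizing X
  · have _ : CompactSpace X := by simpa [← quasiCompact_iff_compactSpace f] using hf.2
    obtain ⟨Y', p, hsurj, hP', hY⟩ := X.exists_hom_isAffine_of_isZariskiLocalAtSource @IsLocalIso
    refine this (f := (Y'.isoSpec.inv ≫ p) ≫ f) ?_ ?_ ⟨_, rfl⟩
    · rw [Category.assoc, (P' ⊓ @QuasiCompact).cancel_left_of_respectsIso]
      exact ⟨P'.comp_mem _ _ (H₁ _ ⟨hP', hsurj⟩) hf.1, inferInstance⟩
    · rw [← pullbackRightPullbackFstIso_inv_fst f g _, P.cancel_left_of_respectsIso]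
      have hli : IsLocalIso (Y'.isoSpec.inv ≫ p) :=
        (MorphismProperty.cancel_left_of_respectsIso @IsLocalIso Y'.isoSpec.inv p).2 hP'
      exact of_isPullback_of_isLocalIso P (IsPullback.of_hasPullback _ _) hli h
  obtain ⟨T, rfl⟩ := hX
  obtain ⟨φ, rfl⟩ := Spec.map_surjective f
  exact H φ g hf.1 h

include H₁ H₂ in
/-- variant of Mathlib's `HasRingHomProperty.descendsAlong` without stability of `P` under base
change -/
lemma descendsAlong' [HasRingHomProperty P Q] (hQQ' : RingHom.CodescendsAlong Q Q') :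
    P.DescendsAlong (P' ⊓ @QuasiCompact) := by
  apply descendsAlong_inf_quasiCompact' _ _ H₁
  introv h hf
  wlog hY : ∃ S, Y = Spec S generalizing Y
  · rw [IsZariskiLocalAtSource.iff_of_openCover (P := P) Y.affineCover]
    intro i
    have heq : pullback.fst (Spec.map φ) (Y.affineCover.f i ≫ g) =
        pullback.map _ _ _ _ (𝟙 _) (Y.affineCover.f i) (𝟙 _) (by simp) (by simp) ≫
          pullback.fst (Spec.map φ) g := (pullback.lift_fst _ _ _).symm
    exact this _ (heq ▸ AlgebraicGeometry.IsZariskiLocalAtSource.comp hf _) ⟨_, rfl⟩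
  obtain ⟨S, rfl⟩ := hY
  apply of_pullback_fst_Spec_of_codescendsAlong _ _ hQQ' H₂ _ h hf
  simp [HasRingHomProperty.Spec_iff (P := P)]

/-- variant of Mathlib's `HasRingHomProperty.descendsAlong_flat` without stability of `P` under base
change -/
lemma descendsAlong_flat' [HasRingHomProperty P Q]
    (h : RingHom.CodescendsAlong Q RingHom.FaithfullyFlat) :
    P.DescendsAlong (@Surjective ⊓ @Flat ⊓ @QuasiCompact) := by
  refine descendsAlong' _ _ _ _ ?_ ?_ h
  · rw [inf_comm]
    gcongr
    exact IsLocalIso.le_of_isZariskiLocalAtSource @Flat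
  · intro R S f ⟨hf₁, hf₂⟩
    rw [RingHom.FaithfullyFlat.iff_flat_and_comap_surjective]
    refine ⟨?_, (Spec.map f).surjective⟩
    rwa [HasRingHomProperty.Spec_iff (P := @Flat)] at hf₂

end Descent

/-- **fpqc descent for pseudo-coherent morphisms.** -/
instance : pcMor.{u}.DescendsAlong (@Surjective ⊓ @Flat ⊓ @QuasiCompact) :=
  descendsAlong_flat' pcMor (@PCH) pch_codescendsAlong_faithfullyFlat

end Groth.Agent.R2.H7.PCDesc
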