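import Mathlib
import Groth.Agent.R2.H7KosDesc
import Groth.Agent.R2.H7LCIMor
import Groth.Agent.R2.H7PCDesc

/-!
# fpqc descent of local complete intersection morphisms (helper7)

`lcih_of_tensor`: if `A → A'` is faithfully flat and `A' → A' ⊗[A] B` is a local complete intersection
ring map then so is `A → B`.  `lcih_codescendsAlong_faithfullyFlat`, the `DescendsAlong` instance for
`lciMor`, and `lciMor_of_flat_surjective_qc_baseChange`.
-/

set_option autoImplicit false
set_option linter.style.haveILetI false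
universe u
open CategoryTheory CategoryTheory.Limits AlgebraicGeometry MorphismProperty

namespace Groth.Agent.R2.H7.LCIDesc

open Groth.Agent.R2.H7.KosBasic Groth.Agent.R2.H7.KosIdeal Groth.Agent.R2.H7.KosDesc
open Groth.Agent.R2.H7.PCHom Groth.Agent.R2.H7.LCIHom Groth.Agent.R2.H7.LCILoc
open Groth.Agent.R2.H7.LCIMor Groth.Agent.R2.H7.PCDesc

section Ring

open TensorProduct

attribute [local instance] MvPolynomial.algebraMvPolynomial

variable {A A' B : Type u} [CommRing A] [CommRing A'] [CommRing B] [Algebra A A'] [Algebra A B]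

/-- base change of a presentation -/
theorem exists_presentation_tensor {n : ℕ} (γ : MvPolynomial (Fin n) A →+* B)
    (hC : γ.comp MvPolynomial.C = algebraMap A B) (hγ : Function.Surjective γ) :
    ∃ γ' : MvPolynomial (Fin n) A' →+* A' ⊗[A] B,
      γ'.comp MvPolynomial.C = algebraMap A' (A' ⊗[A] B) ∧ Function.Surjective γ' ∧
      RingHom.ker γ' = (RingHom.ker γ).map
        (algebraMap (MvPolynomial (Fin n) A) (MvPolynomial (Fin n) A')) := by
  let γa : MvPolynomial (Fin n) A →ₐ[A] B := mkAlgHom γ hC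
  let ε : A' ⊗[A] MvPolynomial (Fin n) A ≃ₐ[A'] MvPolynomial (Fin n) A' :=
    MvPolynomial.algebraTensorAlgEquiv A A'
  let Γ : A' ⊗[A] MvPolynomial (Fin n) A →ₐ[A'] A' ⊗[A] B :=
    Algebra.TensorProduct.map (AlgHom.id A' A') γa
  have hΓ : Function.Surjective Γ :=
    Algebra.TensorProduct.map_surjective (AlgHom.id A' A') γa Function.surjective_id hγ
  have hkerΓ : RingHom.ker Γ = (RingHom.ker γa).map
      (Algebra.TensorProduct.includeRight : MvPolynomial (Fin n) A →ₐ[A] A' ⊗[A] _) :=
    Algebra.TensorProduct.lTensor_ker γa hγ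
  let γ' : MvPolynomial (Fin n) A' →ₐ[A'] A' ⊗[A] B := Γ.comp ε.symm.toAlgHom
  refine ⟨γ'.toRingHom, ?_, hΓ.comp ε.symm.surjective, ?_⟩
  · ext a
    exact γ'.commutes a
  · have h2 : RingHom.ker γ'.toRingHom =
        (RingHom.ker Γ).comap (ε.symm.toRingEquiv : MvPolynomial (Fin n) A' →+* _) := by
      ext x
      rw [Ideal.mem_comap, RingHom.mem_ker, RingHom.mem_ker]
      rfl
    rw [h2, hkerΓ]
    have h3 : ∀ J : Ideal (A' ⊗[A] MvPolynomial (Fin n) A),
        J.comap (ε.symm.toRingEquiv : MvPolynomial (Fin n) A' →+* _) =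
          J.map (ε.toRingEquiv : _ →+* MvPolynomial (Fin n) A') := fun J =>
      Ideal.comap_symm ε.toRingEquiv
    rw [h3]
    change Ideal.map (ε.toRingEquiv : _ →+* MvPolynomial (Fin n) A')
      (Ideal.map (Algebra.TensorProduct.includeRight :
        MvPolynomial (Fin n) A →ₐ[A] A' ⊗[A] _).toRingHom (RingHom.ker γ)) = _
    rw [Ideal.map_map]
    congr 1
    apply RingHom.ext
    intro p
    change ε ((1 : A') ⊗ₜ[A] p) = MvPolynomial.map (algebraMap A A') p
    rw [MvPolynomial.algebraTensorAlgEquiv_tmul, one_smul]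

/-- **faithfully flat descent** of local complete intersection ring maps, tensor product form -/
theorem lcih_of_tensor [Module.FaithfullyFlat A A'] (h : LCIH (algebraMap A' (A' ⊗[A] B))) :
    LCIH (algebraMap A B) := by
  haveI : Algebra.FiniteType A' (A' ⊗[A] B) := (RingHom.finiteType_algebraMap).1 h.finiteType
  have hft : Algebra.FiniteType A B := Algebra.FiniteType.of_finiteType_tensorProduct_of_faithfullyFlat A'
  obtain ⟨n, f, hf⟩ := Algebra.FiniteType.iff_quotient_mvPolynomial''.1 hft
  have hC : f.toRingHom.comp MvPolynomial.C = algebraMap A B := by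
    ext a
    exact f.commutes a
  obtain ⟨γ', hC', hγ', hker⟩ := exists_presentation_tensor (A' := A') f.toRingHom hC hf
  have hK : LCI.IsKoszulRegularIdeal (RingHom.ker γ') := h.isKRI_of_presentation γ' hC' hγ'
  rw [hker] at hK
  refine ⟨n, f.toRingHom, hC, hf, ?_⟩
  refine isKRI_of_map_faithfullyFlat _ ?_ _ hK
  have hpo : Algebra.IsPushout A A' (MvPolynomial (Fin n) A) (MvPolynomial (Fin n) A') :=
    Algebra.IsPushout.symm inferInstance
  exact RingHom.FaithfullyFlat.isStableUnderBaseChange A A' (MvPolynomial (Fin n) A)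
    (MvPolynomial (Fin n) A') ((RingHom.faithfullyFlat_algebraMap_iff).2 inferInstance)

end Ring

theorem lcih_codescendsAlong_faithfullyFlat :
    RingHom.CodescendsAlong (@LCIH) RingHom.FaithfullyFlat := by
  refine RingHom.CodescendsAlong.mk _ lcih_respectsIso ?_
  intro R S T _ _ _ _ _ hff h
  haveI : Module.FaithfullyFlat R S := (RingHom.faithfullyFlat_algebraMap_iff).1 hff
  exact lcih_of_tensor h

/-- **fpqc descent for local complete intersection morphisms.** -/
instance : lciMor.{u}.DescendsAlong (@Surjective ⊓ @Flat ⊓ @QuasiCompact) :=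
  descendsAlong_flat' lciMor (@LCIH) lcih_codescendsAlong_faithfullyFlat

theorem lciMor_of_flat_surjective_qc_baseChange {X S X' S' : Scheme.{u}} (f : X ⟶ S)
    (f' : X' ⟶ S') (g' : X' ⟶ X) (g : S' ⟶ S)
    [Flat g] [Surjective g] [QuasiCompact g] (hc : IsPullback g' f' f g)
    (hf' : lciMor f') : lciMor f := by
  have hg : (@Surjective ⊓ @Flat ⊓ @QuasiCompact : MorphismProperty Scheme.{u}) g :=
    ⟨⟨inferInstance, inferInstance⟩, inferInstance⟩
  exact MorphismProperty.of_isPullback_of_descendsAlong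
    (P := lciMor.{u}) (Q := @Surjective ⊓ @Flat ⊓ @QuasiCompact) hc.flip hg hf'

end Groth.Agent.R2.H7.LCIDesc
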