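import Mathlib
import Groth.Agent.R2.H7LCIMor
import Groth.Prelude.Def_RegImm

/-!
# Smooth ring maps and morphisms are local complete intersections (helper7)

`lcih_of_smooth`: a smooth algebra is a local complete intersection (via Mathlib's local structure:
standard etale over a polynomial ring; a standard etale algebra is `(P[X]/f)[1/g]` with `f` monic).
`lciMor_of_smooth`, `lciMor_of_koszulRegularImmersion`, and `lciMor_of_forall_isKoszulAt`: a morphism
which is lci in the factorisation sense (`Synt.IsKoszulAt` at all points) is lci in the affine-local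
sense.
-/

set_option autoImplicit false
set_option linter.style.haveILetI false
universe u
open CategoryTheory CategoryTheory.Limits AlgebraicGeometry MorphismProperty

namespace Groth.Agent.R2.H7.LCISmooth

open Polynomial
open Groth.Agent.R2.H7.KosBasic Groth.Agent.R2.H7.KosIdeal
open Groth.Agent.R2.H7.LCIHom Groth.Agent.R2.H7.LCILoc Groth.Agent.R2.H7.LCISrc
open Groth.Agent.R2.H7.LCIMor

/-- the polynomial ring in `n` variables is a local complete intersection -/
theorem lcih_mvPolynomial (A : Type u) [CommRing A] (n : ℕ) :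
    LCIH (algebraMap A (MvPolynomial (Fin n) A)) :=
  LCIH.of_presentation_bijective (RingHom.id _) (by ext a; simp [MvPolynomial.algebraMap_eq])
    Function.bijective_id

/-- quotient of a polynomial ring by a monic polynomial -/
theorem lcih_adjoinRoot {P : Type u} [CommRing P] (f : P[X]) (hf : f.Monic) :
    LCIH (algebraMap P (AdjoinRoot f)) := by
  have h1 : LCIH (Polynomial.C : P →+* P[X]) := lcih_polynomial_C
  have h2 : LCIH (AdjoinRoot.mk f) := by
    refine LCIH.of_surjective AdjoinRoot.mk_surjective ?_
    have : RingHom.ker (AdjoinRoot.mk f) = Ideal.span {f} := Ideal.mk_ker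
    rw [this]
    apply isKRI_of_genKR
    refine ⟨[f], ?_, ?_⟩
    · refine (Groth.Agent.S15821.result _ _ ?_).1
      refine RingTheory.Sequence.IsWeaklyRegular.cons ?_
        (RingTheory.Sequence.IsWeaklyRegular.nil _ _)
      exact hf.isRegular.isSMulRegular
    · rw [Ideal.ofList_singleton]
      simp
  exact h1.comp h2

/-- a standard etale algebra is a local complete intersection -/
theorem lcih_of_isStandardEtale (P E : Type u) [CommRing P] [CommRing E] [Algebra P E]
    [Algebra.IsStandardEtale P E] : LCIH (algebraMap P E) := by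
  obtain ⟨Q⟩ := Algebra.IsStandardEtale.nonempty_standardEtalePresentation (R := P) (S := E)
  let e : E ≃ₐ[P] Localization.Away (AdjoinRoot.mk Q.f Q.g) :=
    Q.equivRing.trans Q.P.equivAwayAdjoinRoot
  have h1 : LCIH (algebraMap P (AdjoinRoot Q.f)) := lcih_adjoinRoot Q.f Q.monic_f
  have h2 : LCIH (algebraMap (AdjoinRoot Q.f) (Localization.Away (AdjoinRoot.mk Q.f Q.g))) :=
    lcih_of_isLocalizationAway (AdjoinRoot.mk Q.f Q.g)
  have h3 : LCIH (e.symm.toRingEquiv : Localization.Away (AdjoinRoot.mk Q.f Q.g) →+* E) :=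
    LCIH.of_bijective e.symm.bijective
  have h4 := (h1.comp h2).comp h3
  have h5 : ((e.symm.toRingEquiv : Localization.Away (AdjoinRoot.mk Q.f Q.g) →+* E).comp
      ((algebraMap (AdjoinRoot Q.f) (Localization.Away (AdjoinRoot.mk Q.f Q.g))).comp
        (algebraMap P (AdjoinRoot Q.f)))) = algebraMap P E := by
    ext a
    have := e.symm.commutes a
    rw [IsScalarTower.algebraMap_apply P (AdjoinRoot Q.f)
      (Localization.Away (AdjoinRoot.mk Q.f Q.g))] at this
    exact this
  rw [h5] at h4
  exact h4

/-- **smooth ring maps are local complete intersections** -/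
theorem lcih_of_smooth (A B : Type u) [CommRing A] [CommRing B] [Algebra A B]
    [Algebra.Smooth A B] : LCIH (algebraMap A B) := by
  let s : Set B := {f | LCIH ((algebraMap B (Localization.Away f)).comp (algebraMap A B))}
  refine lcih_ofLocalizationSpanTarget (algebraMap A B) s ?_ (fun r => r.2)
  by_contra hne
  obtain ⟨𝔪, h𝔪, hle⟩ := Ideal.exists_le_maximal _ hne
  haveI := h𝔪.isPrime
  haveI : Algebra.FinitePresentation A B := Algebra.Smooth.finitePresentation
  haveI : Algebra.IsSmoothAt A 𝔪 := inferInstance
  obtain ⟨f, hf, n, _, htower, hst⟩ :=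
    Algebra.IsSmoothAt.exists_isStandardEtale_mvPolynomial (R := A) (p := 𝔪)
  apply hf
  apply hle
  apply Ideal.subset_span
  change LCIH ((algebraMap B (Localization.Away f)).comp (algebraMap A B))
  have h1 : LCIH (algebraMap A (MvPolynomial (Fin n) A)) := lcih_mvPolynomial A n
  have h2 : LCIH (algebraMap (MvPolynomial (Fin n) A) (Localization.Away f)) :=
    lcih_of_isStandardEtale _ _
  have h3 := h1.comp h2
  have h4 : (algebraMap (MvPolynomial (Fin n) A) (Localization.Away f)).comp
      (algebraMap A (MvPolynomial (Fin n) A)) =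
      (algebraMap B (Localization.Away f)).comp (algebraMap A B) := by
    rw [← IsScalarTower.algebraMap_eq, ← IsScalarTower.algebraMap_eq]
  rw [h4] at h3
  exact h3

theorem lcih_of_ringHom_smooth {A B : Type u} [CommRing A] [CommRing B] (φ : A →+* B)
    (h : φ.Smooth) : LCIH φ := by
  algebraize [φ]
  have := lcih_of_smooth A B
  rwa [RingHom.algebraMap_toAlgebra] at this

/-- **smooth morphisms are local complete intersection morphisms** -/
theorem lciMor_of_smooth {X Y : Scheme.{u}} (f : X ⟶ Y) [hf : Smooth f] : lciMor f := by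
  rw [HasRingHomProperty.iff_appLE (P := lciMor)]
  intro U V e
  exact lcih_of_ringHom_smooth _ (HasRingHomProperty.appLE (P := @Smooth) f hf U V e)

/-- a surjection whose kernel is generated by a Koszul-regular sequence is lci -/
theorem lcih_of_surjective_of_koszulRegular {A B : Type u} [CommRing A] [CommRing B] (φ : A →+* B)
    (hφ : Function.Surjective φ) (rs : List A) (hrs : LCI.IsKoszulRegularSeq A rs)
    (hker : RingHom.ker φ = Ideal.ofList rs) : LCIH φ := by
  refine LCIH.of_surjective hφ ?_
  apply isKRI_of_genKR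
  refine ⟨rs, hrs, ?_⟩
  rw [hker]
  simp

theorem lciMor_of_koszulRegularImmersion {Z X : Scheme.{u}} (i : Z ⟶ X)
    (hi : RegImm.IsRegularImmersion .koszul i) : lciMor i := by
  obtain ⟨-, hreg⟩ := hi
  have hQ : RingHom.StableUnderCompositionWithLocalizationAwaySource @LCIH :=
    (lcih_stableUnderComposition.stableUnderCompositionWithLocalizationAway
      lcih_holdsForLocalizationAway).1
  rw [AlgebraicGeometry.HasRingHomProperty.iff_exists_appLE (P := lciMor) (Q := @LCIH) hQ]
  intro z
  obtain ⟨U, hzU, hcl, rs, hrs, hker⟩ := hreg z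
  have hUaff : IsAffine (U.1 : Scheme.{u}) := U.2
  have hV : IsAffineOpen (i ⁻¹ᵁ U.1) := by
    show IsAffine ((i ⁻¹ᵁ U.1 : Z.Opens) : Scheme.{u})
    exact isAffine_of_isAffineHom (i ∣_ U.1)
  refine ⟨U, ⟨i ⁻¹ᵁ U.1, hV⟩, hzU, le_rfl, ?_⟩
  have happ : i.appLE U.1 (i ⁻¹ᵁ U.1) le_rfl = i.app U.1 := Scheme.Hom.appLE_eq_app ..
  show LCIH (i.appLE U.1 (i ⁻¹ᵁ U.1) le_rfl).hom
  rw [happ]
  refine lcih_of_surjective_of_koszulRegular _ ?_ rs hrs hker
  have h1 : Function.Surjective ((i ∣_ U.1).appTop).hom :=
    (i ∣_ U.1).app_surjective ⊤ (isAffineOpen_top _)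
  rw [morphismRestrict_appTop] at h1
  have h2 : Function.Surjective (i.app (U.1.ι ''ᵁ ⊤)).hom := by
    have h3 : Function.Surjective
        ((Z.presheaf.map (eqToHom (image_morphismRestrict_preimage i U.1 ⊤)).op).hom ∘
          (i.app (U.1.ι ''ᵁ ⊤)).hom) := h1
    have hinj : Function.Injective
        (Z.presheaf.map (eqToHom (image_morphismRestrict_preimage i U.1 ⊤)).op).hom :=
      ((ConcreteCategory.bijective_of_isIso
        (Z.presheaf.map (eqToHom (image_morphismRestrict_preimage i U.1 ⊤)).op))).1
    exact (Function.Surjective.of_comp_iff' ⟨hinj, Function.Surjective.of_comp h3⟩ _).1 h3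
  have h4 : ∀ V : X.Opens, V = U.1 → Function.Surjective (i.app V).hom →
      Function.Surjective (i.app U.1).hom := by
    rintro V rfl h
    exact h
  exact h4 _ (by simp) h2

/-- **lci in the factorisation sense implies lci in the affine-local sense** -/
theorem lciMor_of_forall_isKoszulAt {X Y : Scheme.{u}} (f : X ⟶ Y)
    (hf : ∀ x : X, Synt.IsKoszulAt f x) : lciMor f := by
  choose U P i π hxU hft hi hπ hcomm using hf
  refine IsZariskiLocalAtSource.of_iSup_eq_top (P := lciMor) U ?_ (fun x => ?_)
  · refine top_le_iff.1 (fun x _ => ?_)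
    exact TopologicalSpace.Opens.mem_iSup.2 ⟨x, hxU x⟩
  · rw [← hcomm x]
    haveI := hπ x
    exact lciMor.comp_mem _ _ (lciMor_of_koszulRegularImmersion (i x) (hi x))
      (lciMor_of_smooth (π x))

end Groth.Agent.R2.H7.LCISmooth
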