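import Mathlib
import Groth.Agent.R2.H7LCISmooth
import Groth.Agent.Lib.Helper13RegImm
import Groth.Agent.Lib.Helper5RegImm2
import Groth.Agent.Lib.Helper5CMAffSp
import Groth.Agent.Lib.Helper4RectDepthB
import Groth.Agent.Lib.Helper7PolyPsCore

/-!
# Local factorisation of a morphism of finite type, and lci for regular schemes (helper7)

`exists_factorization`: over affine opens `U ⊆ f⁻¹ V` and a presentation `Γ(V)[x₁..xₙ] ↠ Γ(U)`, the
morphism `U ⟶ Y` factors as a closed immersion into `Spec Γ(V)[x₁..xₙ]` followed by a smooth morphism.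
`lciMor_of_regular`: a morphism locally of finite type between regular locally Noetherian schemes is a
local complete intersection morphism (affine-local form).
-/

set_option autoImplicit false
set_option linter.style.haveILetI false
universe u
open CategoryTheory CategoryTheory.Limits AlgebraicGeometry MorphismProperty

namespace Groth.Agent.R2.H7.LCIFac

open Groth.Agent.R2.H7.KosBasic Groth.Agent.R2.H7.KosIdeal
open Groth.Agent.R2.H7.LCIHom Groth.Agent.R2.H7.LCILoc Groth.Agent.R2.H7.LCISrc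
open Groth.Agent.R2.H7.LCIMor Groth.Agent.R2.H7.LCISmooth

/-- the factorisation of `f` over a pair of affine opens attached to a presentation -/
theorem exists_factorization {X Y : Scheme.{u}} (f : X ⟶ Y) {U : X.Opens} {V : Y.Opens}
    (hU : IsAffineOpen U) (hV : IsAffineOpen V) (e : U ≤ f ⁻¹ᵁ V) {n : ℕ}
    (γ : MvPolynomial (Fin n) Γ(Y, V) →+* Γ(X, U))
    (hC : γ.comp MvPolynomial.C = (f.appLE V U e).hom) (hγ : Function.Surjective γ) :
    IsClosedImmersion (hU.isoSpec.hom ≫ Spec.map (CommRingCat.ofHom γ)) ∧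
    Smooth (Spec.map (CommRingCat.ofHom (MvPolynomial.C :
      Γ(Y, V) →+* MvPolynomial (Fin n) Γ(Y, V))) ≫ hV.fromSpec) ∧
    (hU.isoSpec.hom ≫ Spec.map (CommRingCat.ofHom γ)) ≫
      (Spec.map (CommRingCat.ofHom (MvPolynomial.C :
        Γ(Y, V) →+* MvPolynomial (Fin n) Γ(Y, V))) ≫ hV.fromSpec) = U.ι ≫ f := by
  refine ⟨?_, ?_, ?_⟩
  · haveI : IsClosedImmersion (Spec.map (CommRingCat.ofHom γ)) :=
      IsClosedImmersion.spec_of_surjective _ hγ
    infer_instance
  · haveI : Smooth (Spec.map (CommRingCat.ofHom (MvPolynomial.C :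
        Γ(Y, V) →+* MvPolynomial (Fin n) Γ(Y, V)))) := by
      rw [HasRingHomProperty.Spec_iff (P := @Smooth)]
      have : (CommRingCat.ofHom (MvPolynomial.C :
        Γ(Y, V) →+* MvPolynomial (Fin n) Γ(Y, V))).hom =
          algebraMap Γ(Y, V) (MvPolynomial (Fin n) Γ(Y, V)) := rfl
      rw [this, RingHom.smooth_algebraMap]
      exact ⟨inferInstance, inferInstance⟩
    haveI : IsOpenImmersion hV.fromSpec := inferInstance
    infer_instance
  · rw [Category.assoc, ← Category.assoc (Spec.map _), ← Spec.map_comp]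
    have h1 : CommRingCat.ofHom (MvPolynomial.C :
        Γ(Y, V) →+* MvPolynomial (Fin n) Γ(Y, V)) ≫ CommRingCat.ofHom γ = f.appLE V U e := by
      apply CommRingCat.hom_ext
      exact hC
    rw [h1, IsAffineOpen.SpecMap_appLE_fromSpec f hV hU e, IsAffineOpen.isoSpec_hom_fromSpec_assoc]

/-- **a morphism locally of finite type between regular locally Noetherian schemes is lci** -/
theorem lciMor_of_regular {X Y : Scheme.{u}} (f : X ⟶ Y) [LocallyOfFiniteType f]
    [IsLocallyNoetherian X] [IsLocallyNoetherian Y]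
    (hX : ∀ x : X, IsRegularLocalRing ↑(X.presheaf.stalk x))
    (hY : ∀ y : Y, IsRegularLocalRing ↑(Y.presheaf.stalk y)) : lciMor f := by
  have key : ∀ x : X, ∃ U : X.Opens, x ∈ U ∧ lciMor (U.ι ≫ f) := by
    intro x
    obtain ⟨_, ⟨V, hV, rfl⟩, hxV, -⟩ := Y.isBasis_affineOpens.exists_subset_of_mem_open
      (Set.mem_univ (f x)) isOpen_univ
    obtain ⟨_, ⟨U, hU, rfl⟩, hxU, hUV⟩ := X.isBasis_affineOpens.exists_subset_of_mem_open
      (show x ∈ (f ⁻¹ᵁ V : Set X) from hxV) (f ⁻¹ᵁ V).2
    have hUV' : U ≤ f ⁻¹ᵁ V := hUV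
    have hft : (f.appLE V U hUV').hom.FiniteType :=
      HasRingHomProperty.appLE (P := @LocallyOfFiniteType) f inferInstance ⟨V, hV⟩ ⟨U, hU⟩ hUV'
    letI := (f.appLE V U hUV').hom.toAlgebra
    have hft' : Algebra.FiniteType Γ(Y, V) Γ(X, U) := hft
    obtain ⟨n, g, hg⟩ := Algebra.FiniteType.iff_quotient_mvPolynomial''.1 hft'
    obtain ⟨hcl, hsm, hcomm⟩ := exists_factorization f hU hV hUV' g.toRingHom
      (by ext a; exact g.commutes a) hg
    refine ⟨U, hxU, ?_⟩
    rw [← hcomm]
    haveI := hsm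
    refine lciMor.comp_mem _ _ (lciMor_of_koszulRegularImmersion _ ?_) (lciMor_of_smooth _)
    haveI : IsRegularRing Γ(Y, V) :=
      Groth.Agent.Lib.Helper4.RectDepth.isRegularRing_sections hY hV
    haveI : IsRegularRing (MvPolynomial (Fin n) Γ(Y, V)) :=
      Groth.Agent.Lib.Helper7.PolyPsCore.isRegularRing_mvPolynomial_fin _ n
    haveI : IsNoetherianRing (MvPolynomial (Fin n) Γ(Y, V)) := inferInstance
    haveI : IsLocallyNoetherian (Spec (CommRingCat.of (MvPolynomial (Fin n) Γ(Y, V)))) :=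
      inferInstance
    haveI : IsLocallyNoetherian (U : Scheme.{u}) := inferInstance
    haveI := hcl
    have hreg := Groth.Agent.Lib.Helper5.RegImm.isRegularImmersion_of_regular
      (hU.isoSpec.hom ≫ Spec.map (CommRingCat.ofHom g.toRingHom))
      (fun p => Groth.Agent.Lib.Helper5.CMAffSp.isRegularLocalRing_stalk_spec _ p)
      (fun z => by
        haveI := hX z.1
        exact IsRegularLocalRing.of_ringEquiv
          (Scheme.Opens.stalkIso U z).commRingCatIsoToRingEquiv.symm)
    exact Groth.Agent.Helper13RegImm.isRegularImmersion_koszul_of_kind _ .regular (Or.inl rfl) hreg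
  choose U hxU hU using key
  refine IsZariskiLocalAtSource.of_iSup_eq_top (P := lciMor) U ?_ (fun x => hU x)
  refine top_le_iff.1 (fun x _ => ?_)
  exact TopologicalSpace.Opens.mem_iSup.2 ⟨x, hxU x⟩

end Groth.Agent.R2.H7.LCIFac
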