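import Mathlib
import Groth.Agent.R2.H7LCIFac
import Groth.Agent.R2.H7KosIndep

set_option autoImplicit false
set_option linter.style.haveILetI false
universe u
open CategoryTheory CategoryTheory.Limits AlgebraicGeometry MorphismProperty

namespace Groth.Agent.R2.H7.RegImmLoc

open Groth.Agent.R2.H7.KosBasic Groth.Agent.R2.H7.KosIdeal

/-- sections over an open equal to a basic open form a localisation -/
theorem isLocalization_of_eq_basicOpen {Z : Scheme.{u}} {W : Z.Opens} (hW : IsAffineOpen W)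
    (s : Γ(Z, W)) (V : Z.Opens) (hV : V = Z.basicOpen s) :
    letI : Algebra Γ(Z, W) Γ(Z, V) :=
      (Z.presheaf.map (homOfLE (hV ▸ Z.basicOpen_le s) : V ⟶ W).op).hom.toAlgebra
    IsLocalization.Away s Γ(Z, V) := by
  subst hV
  exact hW.isLocalization_basicOpen s

/-- the kernel of `i.app` over a basic open is the extension of the kernel over the affine open -/
theorem ker_app_basicOpen {Z X : Scheme.{u}} (i : Z ⟶ X) {U : X.Opens} (hU : IsAffineOpen U)
    (hU' : IsAffineOpen (i ⁻¹ᵁ U)) (g : Γ(X, U)) :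
    RingHom.ker (i.app (X.basicOpen g)).hom =
      (RingHom.ker (i.app U).hom).map (algebraMap Γ(X, U) Γ(X, X.basicOpen g)) := by
  have hpre : i ⁻¹ᵁ X.basicOpen g = Z.basicOpen ((i.app U).hom g) := Scheme.preimage_basicOpen i g
  letI : Algebra Γ(Z, i ⁻¹ᵁ U) Γ(Z, i ⁻¹ᵁ X.basicOpen g) :=
    (Z.presheaf.map (homOfLE (hpre ▸ Z.basicOpen_le _) :
      i ⁻¹ᵁ X.basicOpen g ⟶ i ⁻¹ᵁ U).op).hom.toAlgebra
  haveI : IsLocalization.Away ((i.app U).hom g) Γ(Z, i ⁻¹ᵁ X.basicOpen g) :=
    isLocalization_of_eq_basicOpen hU' _ _ hpre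
  haveI : IsLocalization.Away g Γ(X, X.basicOpen g) := hU.isLocalization_basicOpen g
  have hnat : (i.app (X.basicOpen g)).hom.comp (algebraMap Γ(X, U) Γ(X, X.basicOpen g)) =
      (algebraMap Γ(Z, i ⁻¹ᵁ U) Γ(Z, i ⁻¹ᵁ X.basicOpen g)).comp (i.app U).hom := by
    have h1 := i.naturality (homOfLE (X.basicOpen_le g) : X.basicOpen g ⟶ U).op
    exact congrArg CommRingCat.Hom.hom h1
  have hmap : (i.app (X.basicOpen g)).hom =
      IsLocalization.Away.map Γ(X, X.basicOpen g) Γ(Z, i ⁻¹ᵁ X.basicOpen g) (i.app U).hom g := by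
    apply IsLocalization.ringHom_ext (Submonoid.powers g)
    rw [hnat]
    exact (IsLocalization.map_comp _).symm
  rw [hmap]
  exact ker_awayMap' (i.app U).hom g _ _

theorem range_morphismRestrict {Z X : Scheme.{u}} (i : Z ⟶ X) (U : X.Opens) :
    Set.range (i ∣_ U) = {x : ↥(U : Scheme.{u}) | x.1 ∈ Set.range i} := by
  ext x
  constructor
  · rintro ⟨y, rfl⟩
    exact ⟨y.1, (morphismRestrict_base_coe i U y).symm⟩
  · rintro ⟨y, hy⟩
    have hyU : y ∈ i ⁻¹ᵁ U := by
      change i y ∈ U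
      rw [hy]
      exact x.2
    exact ⟨⟨y, hyU⟩, Subtype.ext ((morphismRestrict_base_coe i U ⟨y, hyU⟩).trans hy)⟩

/-- closed immersions restrict to smaller opens -/
theorem isClosedImmersion_restrict_of_le {Z X : Scheme.{u}} (i : Z ⟶ X) [IsImmersion i]
    {W W' : X.Opens} (hcl : IsClosedImmersion (i ∣_ W)) (hle : W' ≤ W) :
    IsClosedImmersion (i ∣_ W') := by
  refine .of_isPreimmersion _ ?_
  rw [range_morphismRestrict]
  have h1 : IsClosed (Set.range (i ∣_ W)) := (i ∣_ W).isClosedEmbedding.isClosed_range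
  rw [range_morphismRestrict] at h1
  have hsub : (W' : Set X) ⊆ (W : Set X) := fun x hx => hle hx
  have hcont : Continuous (Set.inclusion hsub) := continuous_inclusion hsub
  exact h1.preimage hcont

/-- the prime of `Γ(X, W)` of a point of `W` -/
noncomputable def primeOf {X : Scheme.{u}} (W : X.Opens) (x : X) (hx : x ∈ W) : Ideal Γ(X, W) :=
  (IsLocalRing.maximalIdeal (X.presheaf.stalk x)).comap (X.presheaf.germ W x hx).hom

instance {X : Scheme.{u}} (W : X.Opens) (x : X) (hx : x ∈ W) : (primeOf W x hx).IsPrime :=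
  Ideal.comap_isPrime _ _

theorem notMem_primeOf_iff {X : Scheme.{u}} (W : X.Opens) (x : X) (hx : x ∈ W) (g : Γ(X, W)) :
    g ∉ primeOf W x hx ↔ x ∈ X.basicOpen g := by
  rw [Scheme.mem_basicOpen X g x hx]
  change ¬ ((X.presheaf.germ W x hx).hom g ∈ IsLocalRing.maximalIdeal _) ↔ _
  rw [IsLocalRing.mem_maximalIdeal, mem_nonunits_iff, not_not]

theorem ker_app_le_primeOf {Z X : Scheme.{u}} (i : Z ⟶ X) (z : Z) (W : X.Opens)
    (hzW : i z ∈ W) : RingHom.ker (i.app W).hom ≤ primeOf W (i z) hzW := by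
  intro s hs
  by_contra hne
  rw [notMem_primeOf_iff] at hne
  have h1 : z ∈ i ⁻¹ᵁ X.basicOpen s := hne
  rw [Scheme.preimage_basicOpen] at h1
  have h2 : (i.app W).hom s = 0 := hs
  change z ∈ Z.basicOpen ((i.app W).hom s) at h1
  rw [h2, Scheme.basicOpen_zero] at h1
  exact h1

/-- **Affine criterion, "if" part**: an immersion which over some affine open neighbourhood of `i z` is
a closed immersion whose ideal is a Koszul-regular ideal is a Koszul-regular immersion at `z`. -/
theorem isRegularImmersionAt_of_isKRI {Z X : Scheme.{u}} (i : Z ⟶ X) [IsImmersion i] (z : Z)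
    (W : X.Opens) (hW : IsAffineOpen W) (hzW : i z ∈ W) (hcl : IsClosedImmersion (i ∣_ W))
    (hK : LCI.IsKoszulRegularIdeal (RingHom.ker (i.app W).hom)) :
    RegImm.IsRegularImmersionAt .koszul i z := by
  have hW' : IsAffineOpen (i ⁻¹ᵁ W) := by
    haveI : IsAffine (W : Scheme.{u}) := hW
    show IsAffine ((i ⁻¹ᵁ W : Z.Opens) : Scheme.{u})
    exact isAffine_of_isAffineHom (i ∣_ W)
  rw [isKRI_iff] at hK
  obtain ⟨g, hg, l, hl, hIl⟩ := hK (primeOf W (i z) hzW) inferInstance
    (ker_app_le_primeOf i z W hzW)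
  rw [notMem_primeOf_iff] at hg
  refine ⟨⟨X.basicOpen g, hW.basicOpen g⟩, hg,
    isClosedImmersion_restrict_of_le i hcl (X.basicOpen_le g), ?_⟩
  haveI : IsLocalization.Away g Γ(X, X.basicOpen g) := hW.isLocalization_basicOpen g
  let e : Localization.Away g ≃ₐ[Γ(X, W)] Γ(X, X.basicOpen g) :=
    IsLocalization.algEquiv (Submonoid.powers g) _ _
  refine ⟨l.map (e : Localization.Away g →+* Γ(X, X.basicOpen g)), ?_, ?_⟩
  · exact kr_map_of_flat (e : Localization.Away g →+* Γ(X, X.basicOpen g))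
      (RingHom.Flat.of_bijective e.bijective) l hl
  · rw [ker_app_basicOpen i hW hW' g, ← Ideal.map_ofList, ← hIl, Ideal.map_map]
    congr 1
    ext a
    exact (e.commutes a).symm

end Groth.Agent.R2.H7.RegImmLoc
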