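import Mathlib
import Groth.Agent.R2.H7RegImmLoc

set_option autoImplicit false
set_option linter.style.haveILetI false
universe u
open CategoryTheory CategoryTheory.Limits AlgebraicGeometry MorphismProperty

namespace Groth.Agent.R2.H7.RegImmBridge

open Groth.Agent.R2.H7.KosBasic Groth.Agent.R2.H7.KosIdeal
open Groth.Agent.R2.H7.LCIHom Groth.Agent.R2.H7.LCILoc Groth.Agent.R2.H7.LCISrc
open Groth.Agent.R2.H7.LCIMor Groth.Agent.R2.H7.LCISmooth Groth.Agent.R2.H7.RegImmLoc
open Groth.Agent.R2.H7.LCIFac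

/-- the kernel of `Spec.map φ` on global sections -/
theorem ker_specMap_appTop {R B : CommRingCat.{u}} (φ : R ⟶ B) :
    RingHom.ker (Spec.map φ).appTop.hom =
      (RingHom.ker φ.hom).comap ((Scheme.ΓSpecIso R).commRingCatIsoToRingEquiv : _ →+* R) := by
  have h := Scheme.ΓSpecIso_naturality φ
  ext a
  simp only [RingHom.mem_ker, Ideal.mem_comap]
  have h2 : (Scheme.ΓSpecIso B).hom.hom ((Spec.map φ).appTop.hom a) =
      φ.hom ((Scheme.ΓSpecIso R).hom.hom a) := by
    have := congrArg (fun t => t.hom a) h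
    exact this
  constructor
  · intro ha
    change φ.hom ((Scheme.ΓSpecIso R).hom.hom a) = 0
    rw [← h2, ha, map_zero]
  · intro ha
    change φ.hom ((Scheme.ΓSpecIso R).hom.hom a) = 0 at ha
    rw [← h2] at ha
    have hinj : Function.Injective (Scheme.ΓSpecIso B).hom.hom :=
      (Scheme.ΓSpecIso B).commRingCatIsoToRingEquiv.injective
    exact hinj (by rw [ha, map_zero])

/-- **a surjection of rings with Koszul-regular kernel gives a Koszul-regular immersion of spectra** -/
theorem isRegularImmersion_specMap {R B : Type u} [CommRing R] [CommRing B] (γ : R →+* B)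
    (hγ : Function.Surjective γ) (hK : LCI.IsKoszulRegularIdeal (RingHom.ker γ)) :
    RegImm.IsRegularImmersion .koszul (Spec.map (CommRingCat.ofHom γ)) := by
  haveI : IsClosedImmersion (Spec.map (CommRingCat.ofHom γ)) :=
    IsClosedImmersion.spec_of_surjective _ hγ
  refine ⟨inferInstance, fun z => ?_⟩
  refine isRegularImmersionAt_of_isKRI _ z ⊤ (isAffineOpen_top _) trivial ?_ ?_
  · exact IsZariskiLocalAtTarget.restrict ‹_› _
  · have h1 := ker_specMap_appTop (CommRingCat.ofHom γ)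
    have h2 : LCI.IsKoszulRegularIdeal (RingHom.ker (Spec.map (CommRingCat.ofHom γ)).appTop.hom) := by
      rw [h1, KosIndep.isKRI_comap_ringEquiv]
      exact hK
    exact h2

/-- **affine-local lci ⇒ factorisation-sense lci at every point** -/
theorem isKoszulAt_of_lciMor {X Y : Scheme.{u}} (f : X ⟶ Y) (hf : lciMor f) (x : X) :
    Synt.IsKoszulAt f x := by
  obtain ⟨_, ⟨V, hV, rfl⟩, hxV, -⟩ := Y.isBasis_affineOpens.exists_subset_of_mem_open
      (Set.mem_univ (f x)) isOpen_univ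
  obtain ⟨_, ⟨U, hU, rfl⟩, hxU, hUV⟩ := X.isBasis_affineOpens.exists_subset_of_mem_open
      (show x ∈ (f ⁻¹ᵁ V : Set X) from hxV) (f ⁻¹ᵁ V).2
  have hUV' : U ≤ f ⁻¹ᵁ V := hUV
  obtain ⟨n, γ, hC, hγ, hK⟩ := (lciMor_iff f).1 hf ⟨V, hV⟩ ⟨U, hU⟩ hUV'
  obtain ⟨hcl, hsm, hcomm⟩ := exists_factorization f hU hV hUV' γ hC hγ
  refine ⟨U, _, hU.isoSpec.hom ≫ Spec.map (CommRingCat.ofHom γ), _, hxU, ?_, ?_, hsm, hcomm⟩
  · rw [← hcomm]
    infer_instance
  · exact Groth.Agent.Helper13RegImm.isRegularImmersion_iso_comp _ _ _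
      (isRegularImmersion_specMap γ hγ hK)

/-- **the two forms of "local complete intersection morphism" agree** -/
theorem forall_isKoszulAt_iff_lciMor {X Y : Scheme.{u}} (f : X ⟶ Y) :
    (∀ x, Synt.IsKoszulAt f x) ↔ lciMor f :=
  ⟨lciMor_of_forall_isKoszulAt f, isKoszulAt_of_lciMor f⟩

end Groth.Agent.R2.H7.RegImmBridge
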