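import Mathlib
import Groth.Agent.R2.H7RegImmBridge
import Groth.Agent.R2.H7LCIDesc

set_option autoImplicit false
set_option linter.style.haveILetI false
universe u
open CategoryTheory CategoryTheory.Limits AlgebraicGeometry MorphismProperty

namespace Groth.Agent.R2.H7.LCIBC

open Groth.Agent.R2.H7.KosBasic Groth.Agent.R2.H7.KosIdeal
open Groth.Agent.R2.H7.LCIHom Groth.Agent.R2.H7.LCILoc Groth.Agent.R2.H7.LCISrc
open Groth.Agent.R2.H7.LCIMor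

/-- flat base change of an lci morphism (affine-local form) is lci -/
theorem lciMor_flat_baseChange {X S X' S' : Scheme.{u}} (f : X ⟶ S) (f' : X' ⟶ S')
    (g' : X' ⟶ X) (g : S' ⟶ S) [Flat g] (hc : IsPullback g' f' f g)
    (hf : lciMor f) : lciMor f' := by
  have hQ : RingHom.StableUnderCompositionWithLocalizationAwaySource @LCIH :=
    (lcih_stableUnderComposition.stableUnderCompositionWithLocalizationAway
      lcih_holdsForLocalizationAway).1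
  rw [AlgebraicGeometry.HasRingHomProperty.iff_exists_appLE (P := lciMor) (Q := @LCIH) hQ]
  intro x'
  obtain ⟨_, ⟨W, hW, rfl⟩, hxW, -⟩ :=
    S.isBasis_affineOpens.exists_subset_of_mem_open (Set.mem_univ (g (f' x'))) isOpen_univ
  obtain ⟨_, ⟨W', hW', rfl⟩, hxW', hW'W⟩ :=
    S'.isBasis_affineOpens.exists_subset_of_mem_open
      (show f' x' ∈ ((g ⁻¹ᵁ W : S'.Opens) : Set S') from hxW) (g ⁻¹ᵁ W).isOpen
  have hpt : f (g' x') = g (f' x') := by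
    have := congrArg (fun φ : X' ⟶ S => φ x') hc.w
    exact this
  obtain ⟨_, ⟨U, hU, rfl⟩, hxU, hUW⟩ :=
    X.isBasis_affineOpens.exists_subset_of_mem_open
      (show g' x' ∈ ((f ⁻¹ᵁ W : X.Opens) : Set X) by
        change f (g' x') ∈ W
        rw [hpt]; exact hxW) (f ⁻¹ᵁ W).isOpen
  have hUST : W' ≤ g ⁻¹ᵁ W := hW'W
  have hUSX : U ≤ f ⁻¹ᵁ W := hUW
  have hiso := AlgebraicGeometry.isIso_pushoutSection_of_isAffineOpen hc hUST hUSX rfl hW hW' hU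
  have hpo := (AlgebraicGeometry.isIso_pushoutSection_iff hc hUST hUSX rfl).mp hiso
  have haffY : IsAffineOpen (g' ⁻¹ᵁ U ⊓ f' ⁻¹ᵁ W') := by
    have : IsAffine (W : Scheme.{u}) := hW
    have : IsAffine (W' : Scheme.{u}) := hW'
    have : IsAffine (U : Scheme.{u}) := hU
    exact .of_isIso (AlgebraicGeometry.Scheme.Hom.isPullback_resLE hc hUST hUSX rfl).isoPullback.hom
  have hle2 : g' ⁻¹ᵁ U ⊓ f' ⁻¹ᵁ W' ≤ f' ⁻¹ᵁ W' := inf_le_right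
  have hle1 : g' ⁻¹ᵁ U ⊓ f' ⁻¹ᵁ W' ≤ g' ⁻¹ᵁ U := inf_le_left
  refine ⟨⟨W', hW'⟩, ⟨_, haffY⟩, ⟨hxU, hxW'⟩, hle2, ?_⟩
  -- algebra structures
  letI iAA' : Algebra Γ(S, W) Γ(S', W') := (g.appLE W W' hUST).hom.toAlgebra
  letI iAB : Algebra Γ(S, W) Γ(X, U) := (f.appLE W U hUSX).hom.toAlgebra
  letI iA'B' : Algebra Γ(S', W') Γ(X', g' ⁻¹ᵁ U ⊓ f' ⁻¹ᵁ W') := (f'.appLE W' _ hle2).hom.toAlgebra
  letI iBB' : Algebra Γ(X, U) Γ(X', g' ⁻¹ᵁ U ⊓ f' ⁻¹ᵁ W') := (g'.appLE U _ hle1).hom.toAlgebra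
  letI iAB' : Algebra Γ(S, W) Γ(X', g' ⁻¹ᵁ U ⊓ f' ⁻¹ᵁ W') :=
    ((f'.appLE W' _ hle2).hom.comp (g.appLE W W' hUST).hom).toAlgebra
  have t1 : IsScalarTower Γ(S, W) Γ(S', W') Γ(X', g' ⁻¹ᵁ U ⊓ f' ⁻¹ᵁ W') :=
    IsScalarTower.of_algebraMap_eq (fun _ => rfl)
  have hcomm : f.appLE W U hUSX ≫ g'.appLE U _ hle1 = g.appLE W W' hUST ≫ f'.appLE W' _ hle2 := by
    rw [AlgebraicGeometry.Scheme.Hom.appLE_comp_appLE, AlgebraicGeometry.Scheme.Hom.appLE_comp_appLE]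
    simp only [hc.w]
  have t2 : IsScalarTower Γ(S, W) Γ(X, U) Γ(X', g' ⁻¹ᵁ U ⊓ f' ⁻¹ᵁ W') :=
    IsScalarTower.of_algebraMap_eq (fun x => (congrArg (fun φ => φ.hom x) hcomm).symm)
  have hpo' : IsPushout (CommRingCat.ofHom (algebraMap Γ(S, W) Γ(S', W')))
      (CommRingCat.ofHom (algebraMap Γ(S, W) Γ(X, U)))
      (CommRingCat.ofHom (algebraMap Γ(S', W') Γ(X', g' ⁻¹ᵁ U ⊓ f' ⁻¹ᵁ W')))
      (CommRingCat.ofHom (algebraMap Γ(X, U) Γ(X', g' ⁻¹ᵁ U ⊓ f' ⁻¹ᵁ W'))) := hpo.flip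
  haveI hP : Algebra.IsPushout Γ(S, W) Γ(S', W') Γ(X, U) Γ(X', g' ⁻¹ᵁ U ⊓ f' ⁻¹ᵁ W') :=
    CommRingCat.isPushout_iff_isPushout.mp hpo'
  haveI : Module.Flat Γ(S, W) Γ(S', W') :=
    AlgebraicGeometry.HasRingHomProperty.appLE (P := @AlgebraicGeometry.Flat) g inferInstance
      ⟨W, hW⟩ ⟨W', hW'⟩ hUST
  have h1 : LCIH (algebraMap Γ(S, W) Γ(X, U)) :=
    (lciMor_iff f).1 hf ⟨W, hW⟩ ⟨U, hU⟩ hUSX
  exact lcih_baseChange (A := Γ(S, W)) (A' := Γ(S', W')) (B := Γ(X, U))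
    (B' := Γ(X', g' ⁻¹ᵁ U ⊓ f' ⁻¹ᵁ W')) h1

end Groth.Agent.R2.H7.LCIBC
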