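import Mathlib
import Groth.Prelude.Def_LCI2
import Groth.Agent.R2.H7KosIdeal

/-!
# PROJ:lci-fibre — specification (helper7)

Goal rows: S1494 (TARGET tier: Koszul locus of `f : X ⟶ Y`, `X`, `Y` flat lfp over `S`, commutes with
arbitrary base change `S' ⟶ S`), S1459 (slicing by a fibrewise regular sequence), and as by-products the
fibrewise criterion for local complete intersections (towards S9758, S9287, S9365, S8660, S2890).

Packages (each a `Prop`; prove it as `theorem <name> : <Stmt>` in your own file):

* `P1Stmt`   Koszul-regular sequence with `A`-flat quotient in an `A`-flat ring stays Koszul-regular after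
             ANY base change `A → A'` (the Koszul complex is a bounded flat resolution of a flat module).
* `BCStmt`   ideal form of P1: `I` Koszul-regular ideal of `P`, `P` and `P/I` flat over `A` ⇒ `I (A' ⊗ P)`
             Koszul-regular ideal.
* `P2Stmt`   fibre criterion, spread out: `A → C` flat of finite presentation, `q` prime, `hs` a list in `q`
             which is (elementwise) a regular sequence on the local ring at `q` of the fibre ⇒ after
             inverting some `g ∉ q`, `hs` is weakly regular and the quotient is `A`-flat.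
             (Iterate helper6's `R2/H6NzdSlice.exists_away_flat_slice`.)
-/

set_option autoImplicit false
universe u
open TensorProduct

namespace Groth.Agent.R2.H7.LciFibSpec

/-- P1 -/
def P1Stmt : Prop :=
  ∀ (A P A' : Type u) [CommRing A] [CommRing P] [CommRing A'] [Algebra A P] [Algebra A A']
    [Module.Flat A P] (l : List P), LCI.IsKoszulRegularSeq P l →
    Module.Flat A (P ⧸ Ideal.ofList l) →
    LCI.IsKoszulRegularSeq (A' ⊗[A] P)
      (l.map (Algebra.TensorProduct.includeRight : P →ₐ[A] A' ⊗[A] P))

/-- BC -/
def BCStmt : Prop :=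
  ∀ (A P A' : Type u) [CommRing A] [CommRing P] [CommRing A'] [Algebra A P] [Algebra A A']
    [Module.Flat A P] (I : Ideal P), LCI.IsKoszulRegularIdeal I → Module.Flat A (P ⧸ I) →
    LCI.IsKoszulRegularIdeal
      (I.map (Algebra.TensorProduct.includeRight : P →ₐ[A] A' ⊗[A] P).toRingHom)

section FibReg

variable {A C : Type u} [CommRing A] [CommRing C]

/-- `h` is a nonzerodivisor on the local ring at `q` of the fibre of `C/J` over `q ∩ A`
(elementwise form, no localisations) -/
def FibNZD (ρ : A →+* C) (q J : Ideal C) (h : C) : Prop :=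
  ∀ c : C, (∃ t, t ∉ q ∧ t * (h * c) ∈ (q.comap ρ).map ρ ⊔ J) →
    ∃ t, t ∉ q ∧ t * c ∈ (q.comap ρ).map ρ ⊔ J

/-- `hs` is a regular sequence on the local ring at `q` of the fibre of `C/J` -/
def FibReg (ρ : A →+* C) (q : Ideal C) : Ideal C → List C → Prop
  | _, [] => True
  | J, h :: hs => FibNZD ρ q J h ∧ FibReg ρ q (J ⊔ Ideal.span {h}) hs

end FibReg

/-- P2 -/
def P2Stmt : Prop :=
  ∀ (A C : Type u) [CommRing A] [CommRing C] [Algebra A C] [Algebra.FinitePresentation A C]
    [Module.Flat A C] (q : Ideal C) [q.IsPrime] (hs : List C), (∀ h ∈ hs, h ∈ q) →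
    FibReg (algebraMap A C) q ⊥ hs →
    ∃ g, g ∉ q ∧
      RingTheory.Sequence.IsWeaklyRegular (Localization.Away g)
        (hs.map (algebraMap C (Localization.Away g))) ∧
      Module.Flat A (Localization.Away g ⧸ Ideal.ofList (hs.map (algebraMap C (Localization.Away g))))

end Groth.Agent.R2.H7.LciFibSpec
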