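import Mathlib
import Groth.Agent.R2.H7PCMor
import Groth.Agent.Lib.Helper1RelPC3

set_option autoImplicit false
set_option linter.style.haveILetI false
universe u
attribute [local instance] HasDerivedCategory.standard

open Groth.Agent.Lib.Helper1.Restrict Groth.Agent.Lib.Helper1.Extend
open Groth.Agent.R2.H7.PCHom

namespace Groth.Agent.R2.H7.PCFin

variable {A B : Type u} [CommRing A] [CommRing B]

/-- for a finite ring map, pseudo-coherence of the ring map is pseudo-coherence of the module. -/
theorem pch_iff_bpc_of_finite (φ : A →+* B) (hφ : φ.Finite) : PCH φ ↔ BPC φ := by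
  letI := φ.toAlgebra
  haveI : Module.Finite A B := hφ
  obtain ⟨k, b, hb⟩ := Module.Finite.exists_fin (R := A) (M := B)
  let β : MvPolynomial (Fin k) A →+* B := MvPolynomial.eval₂Hom φ b
  have hβC : β.comp MvPolynomial.C = φ := by
    ext a
    simp [β]
  have hβs : Function.Surjective β := by
    intro x
    have hx : x ∈ Submodule.span A (Set.range b) := by rw [hb]; trivial
    obtain ⟨c, rfl⟩ := (Submodule.mem_span_range_iff_exists_fun A).mp hx
    refine ⟨∑ i, MvPolynomial.C (c i) * MvPolynomial.X i, ?_⟩
    simp only [β, map_sum, map_mul, MvPolynomial.eval₂Hom_C, MvPolynomial.eval₂Hom_X']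
    rfl
  have hint : ∀ j, φ.IsIntegralElem (b j) := fun j => hφ.to_isIntegral (b j)
  have key : BPC β ↔ BPC φ := by
    rw [bpc_iff_restrictD, bpc_iff_restrictD]
    exact forall_congr' fun m =>
      Groth.Agent.Lib.Helper1.RelPC.isPC_eval₂_iff_of_integral k A B φ b hint (Dual.inD B B) m
  constructor
  · intro h
    exact key.mp (h.bpc_of_presentation β hβC hβs)
  · intro h
    exact ⟨k, β, hβC, hβs, key.mpr h⟩

theorem pch_iff_pcModule_of_finite [Algebra A B] [Module.Finite A B] :
    PCH (algebraMap A B) ↔ DRing.IsPseudoCoherentModule' A B := by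
  rw [pch_iff_bpc_of_finite (algebraMap A B) (RingHom.finite_algebraMap.mpr ‹Module.Finite A B›)]
  exact ⟨Groth.Agent.Lib.Helper1.RelPC.pcModule'_of_bpc, bpc_of_algebra⟩

end Groth.Agent.R2.H7.PCFin
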