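import Mathlib

/-!
# Ind-constructible sets and the compactness of the constructible topology

`IndC s`: `s` is a union of constructible sets (open in the constructible/patch topology when the
ambient space is spectral).  Main results (for a spectral space `X`):

* `exists_finite_cover`: a cover by constructible sets has a finite subcover;
* `isConstructible_of_indC`: `s` and `sᶜ` ind-constructible ⇒ `s` constructible;
* `indC_compl_image`: images of pro-constructible sets under spectral maps are pro-constructible;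
* `isConstructible_fibres_of_locally_const`: a function which is constant on an ind-constructible
  neighbourhood of every point has constructible level sets and finite range.
-/

set_option autoImplicit false

open Topology Set

namespace Groth.Agent.R2.H7.Patch

variable {X Y : Type*} [TopologicalSpace X] [TopologicalSpace Y]

/-- `s` is a union of constructible sets. -/
def IndC (s : Set X) : Prop := ∀ x ∈ s, ∃ t, IsConstructible t ∧ x ∈ t ∧ t ⊆ s

theorem IndC.of_isConstructible {s : Set X} (hs : IsConstructible s) : IndC s :=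
  fun _ hx => ⟨s, hs, hx, subset_rfl⟩

theorem IndC.univ : IndC (Set.univ : Set X) := IndC.of_isConstructible IsConstructible.univ

theorem IndC.empty : IndC (∅ : Set X) := fun _ hx => hx.elim

theorem IndC.union {s t : Set X} (hs : IndC s) (ht : IndC t) : IndC (s ∪ t) := by
  rintro x (hx | hx)
  · obtain ⟨c, hc, hxc, hcs⟩ := hs x hx
    exact ⟨c, hc, hxc, hcs.trans subset_union_left⟩
  · obtain ⟨c, hc, hxc, hcs⟩ := ht x hx
    exact ⟨c, hc, hxc, hcs.trans subset_union_right⟩

theorem IndC.inter {s t : Set X} (hs : IndC s) (ht : IndC t) : IndC (s ∩ t) := by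
  rintro x ⟨hx, hx'⟩
  obtain ⟨c, hc, hxc, hcs⟩ := hs x hx
  obtain ⟨c', hc', hxc', hcs'⟩ := ht x hx'
  exact ⟨c ∩ c', hc.inter hc', ⟨hxc, hxc'⟩, Set.inter_subset_inter hcs hcs'⟩

theorem IndC.iUnion {ι : Sort*} {s : ι → Set X} (hs : ∀ i, IndC (s i)) : IndC (⋃ i, s i) := by
  intro x hx
  obtain ⟨i, hi⟩ := Set.mem_iUnion.mp hx
  obtain ⟨c, hc, hxc, hcs⟩ := hs i x hi
  exact ⟨c, hc, hxc, hcs.trans (Set.subset_iUnion s i)⟩

theorem IndC.image {s : Set X} (f : X → Y)
    (hf : ∀ t : Set X, IsConstructible t → IsConstructible (f '' t)) (hs : IndC s) :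
    IndC (f '' s) := by
  rintro _ ⟨x, hx, rfl⟩
  obtain ⟨c, hc, hxc, hcs⟩ := hs x hx
  exact ⟨f '' c, hf c hc, ⟨x, hxc, rfl⟩, Set.image_mono hcs⟩

theorem IndC.preimage {s : Set Y} (f : X → Y)
    (hf : ∀ t : Set Y, IsConstructible t → IsConstructible (f ⁻¹' t)) (hs : IndC s) :
    IndC (f ⁻¹' s) := by
  intro x hx
  obtain ⟨c, hc, hxc, hcs⟩ := hs (f x) hx
  exact ⟨f ⁻¹' c, hf c hc, hxc, Set.preimage_mono hcs⟩

/-- constructible sets are clopen in the constructible topology of a compact space. -/
theorem isOpen_patch_of_isConstructible [CompactSpace X] {s : Set X} (hs : IsConstructible s) :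
    IsOpen[constructibleTopology X] s ∧ IsOpen[constructibleTopology X] sᶜ := by
  induction hs using IsConstructible.empty_union_induction with
  | open_retrocompact U hUopen hUcomp =>
    have hc : IsCompact U := by simpa using hUcomp isCompact_univ isOpen_univ
    refine ⟨hc.isOpen_constructibleTopology_of_isOpen hUopen, ?_⟩
    exact IsCompact.isOpen_constructibleTopology_of_isClosed (by simpa using hc)
      hUopen.isClosed_compl
  | union s hs t ht hs' ht' =>
    refine ⟨@IsOpen.union X s t (constructibleTopology X) hs'.1 ht'.1, ?_⟩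
    rw [Set.compl_union]
    exact @IsOpen.inter X (constructibleTopology X) sᶜ tᶜ hs'.2 ht'.2
  | compl s hs hs' => exact ⟨hs'.2, by rw [compl_compl]; exact hs'.1⟩

variable [CompactSpace X] [QuasiSober X] [PrespectralSpace X] [QuasiSeparatedSpace X]

/-- compactness of the constructible topology: constructible covers have finite subcovers. -/
theorem exists_finite_cover {ι : Type*} (t : ι → Set X) (ht : ∀ i, IsConstructible (t i))
    (hcov : ∀ x, ∃ i, x ∈ t i) : ∃ F : Finset ι, ∀ x, ∃ i ∈ F, x ∈ t i := by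
  let e := WithTopology.ofTopology (X := X) (t := constructibleTopology X)
  have hopen : ∀ i, IsOpen (e ⁻¹' t i) := by
    intro i
    rw [WithConstructibleTopology.isOpen_iff]
    exact (isOpen_patch_of_isConstructible (ht i)).1
  have hcov' : (Set.univ : Set (WithConstructibleTopology X)) ⊆ ⋃ i, e ⁻¹' t i := by
    intro x _
    obtain ⟨i, hi⟩ := hcov (e x)
    exact Set.mem_iUnion.mpr ⟨i, hi⟩
  obtain ⟨F, hF⟩ := isCompact_univ.elim_finite_subcover _ hopen hcov'
  refine ⟨F, fun x => ?_⟩
  have := hF (Set.mem_univ (WithTopology.toTopology _ x))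
  simp only [Set.mem_iUnion, exists_prop] at this
  obtain ⟨i, hi, hx⟩ := this
  exact ⟨i, hi, hx⟩

/-- a set which is ind-constructible with ind-constructible complement is constructible. -/
theorem isConstructible_of_indC {s : Set X} (h1 : IndC s) (h2 : IndC sᶜ) : IsConstructible s := by
  classical
  have H : ∀ x : X, ∃ t : Set X, IsConstructible t ∧ x ∈ t ∧ (t ⊆ s ∨ t ⊆ sᶜ) := by
    intro x
    by_cases hx : x ∈ s
    · obtain ⟨t, ht, hxt, hts⟩ := h1 x hx
      exact ⟨t, ht, hxt, Or.inl hts⟩
    · obtain ⟨t, ht, hxt, hts⟩ := h2 x hx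
      exact ⟨t, ht, hxt, Or.inr hts⟩
  choose t ht hxt hts using H
  obtain ⟨F, hF⟩ := exists_finite_cover t ht (fun x => ⟨x, hxt x⟩)
  have : s = ⋃ i ∈ (F.filter (fun i => t i ⊆ s) : Finset X), t i := by
    ext x
    simp only [Finset.mem_filter, Set.mem_iUnion, exists_prop]
    constructor
    · intro hx
      obtain ⟨i, hi, hxi⟩ := hF x
      refine ⟨i, ⟨hi, ?_⟩, hxi⟩
      rcases hts i with h | h
      · exact h
      · exact absurd hx (h hxi)
    · rintro ⟨i, ⟨-, his⟩, hxi⟩
      exact his hxi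
  rw [this]
  exact IsConstructible.biUnion (Finset.finite_toSet _) (fun i _ => ht i)

/-- the image of a pro-constructible set under a spectral map is pro-constructible. -/
theorem indC_compl_image [T0Space Y] [PrespectralSpace Y] [QuasiSeparatedSpace Y] (f : X → Y)
    (hf : IsSpectralMap f) {s : Set X} (hs : IndC sᶜ) : IndC (f '' s)ᶜ := by
  classical
  intro y hy
  -- for each `x ∈ s` a constructible `K ∌ y` containing `f x`
  have H1 : ∀ x : X, x ∈ s → ∃ K : Set Y, IsConstructible K ∧ f x ∈ K ∧ y ∉ K ∧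
      IsConstructible (f ⁻¹' K) := by
    intro x hx
    have hne : f x ≠ y := fun h => hy ⟨x, hx, h⟩
    obtain ⟨U, hU, hxor⟩ := exists_isOpen_xor_mem hne
    rcases hxor with ⟨h1, h2⟩ | ⟨h1, h2⟩
    · obtain ⟨V, ⟨hVo, hVc⟩, hxV, hVU⟩ :=
        PrespectralSpace.isTopologicalBasis.exists_subset_of_mem_open h1 hU
      refine ⟨V, hVc.isConstructible hVo, hxV, fun h => h2 (hVU h), ?_⟩
      exact (hf.isCompact_preimage_of_isOpen hVo hVc).isConstructible
        (hVo.preimage hf.continuous)
    · obtain ⟨V, ⟨hVo, hVc⟩, hxV, hVU⟩ :=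
        PrespectralSpace.isTopologicalBasis.exists_subset_of_mem_open h1 hU
      refine ⟨Vᶜ, (hVc.isConstructible hVo).compl, fun h => h2 (hVU h), fun h => h hxV, ?_⟩
      rw [Set.preimage_compl]
      exact ((hf.isCompact_preimage_of_isOpen hVo hVc).isConstructible
        (hVo.preimage hf.continuous)).compl
  have H : ∀ x : X, ∃ t : Set X, IsConstructible t ∧ x ∈ t ∧
      (t ⊆ sᶜ ∨ ∃ K : Set Y, IsConstructible K ∧ y ∉ K ∧ t ⊆ f ⁻¹' K) := by
    intro x
    by_cases hx : x ∈ s
    · obtain ⟨K, hK, hxK, hyK, hpre⟩ := H1 x hx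
      exact ⟨f ⁻¹' K, hpre, hxK, Or.inr ⟨K, hK, hyK, subset_rfl⟩⟩
    · obtain ⟨t, ht, hxt, hts⟩ := hs x hx
      exact ⟨t, ht, hxt, Or.inl hts⟩
  choose t ht hxt hts using H
  obtain ⟨F, hF⟩ := exists_finite_cover t ht (fun x => ⟨x, hxt x⟩)
  -- the finitely many `K`s
  let K : X → Set Y := fun i => if h : ∃ K : Set Y, IsConstructible K ∧ y ∉ K ∧ t i ⊆ f ⁻¹' K
    then h.choose else ∅
  have hK1 : ∀ i, IsConstructible (K i) := by
    intro i
    dsimp only [K]
    split_ifs with h
    · exact h.choose_spec.1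
    · exact IsConstructible.empty
  have hK2 : ∀ i, y ∉ K i := by
    intro i
    dsimp only [K]
    split_ifs with h
    · exact h.choose_spec.2.1
    · exact Set.notMem_empty y
  have hK3 : ∀ i, (∃ K : Set Y, IsConstructible K ∧ y ∉ K ∧ t i ⊆ f ⁻¹' K) →
      t i ⊆ f ⁻¹' K i := by
    intro i h
    dsimp only [K]
    rw [dif_pos h]
    exact h.choose_spec.2.2
  refine ⟨(⋃ i ∈ F, K i)ᶜ, (IsConstructible.biUnion F.finite_toSet (fun i _ => hK1 i)).compl,
    ?_, ?_⟩
  · simp only [Set.mem_compl_iff, Set.mem_iUnion, exists_prop, not_exists, not_and]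
    exact fun i _ => hK2 i
  · rw [Set.compl_subset_compl]
    rintro _ ⟨x, hx, rfl⟩
    obtain ⟨i, hi, hxi⟩ := hF x
    rcases hts i with h | h
    · exact absurd hx (h hxi)
    · exact Set.mem_iUnion₂.mpr ⟨i, hi, hK3 i h hxi⟩

/-- a function which is constant on an ind-constructible neighbourhood of each point has
constructible level sets and finite range. -/
theorem isConstructible_fibres_of_locally_const {α : Type*} (w : X → α)
    (h : ∀ x, ∃ s : Set X, IndC s ∧ x ∈ s ∧ ∀ y ∈ s, w y = w x) :
    (∀ a, IsConstructible (w ⁻¹' {a})) ∧ (Set.range w).Finite := by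
  classical
  have H : ∀ x : X, ∃ t : Set X, IsConstructible t ∧ x ∈ t ∧ ∀ y ∈ t, w y = w x := by
    intro x
    obtain ⟨s, hs, hxs, hw⟩ := h x
    obtain ⟨t, ht, hxt, hts⟩ := hs x hxs
    exact ⟨t, ht, hxt, fun y hy => hw y (hts hy)⟩
  choose t ht hxt hw using H
  obtain ⟨F, hF⟩ := exists_finite_cover t ht (fun x => ⟨x, hxt x⟩)
  refine ⟨fun a => ?_, ?_⟩
  · have : w ⁻¹' {a} = ⋃ i ∈ (F.filter (fun i => w i = a) : Finset X), t i := by
      ext x
      simp only [Set.mem_preimage, Set.mem_singleton_iff, Finset.mem_filter, Set.mem_iUnion,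
        exists_prop]
      constructor
      · intro hx
        obtain ⟨i, hi, hxi⟩ := hF x
        exact ⟨i, ⟨hi, (hw i x hxi).symm.trans hx⟩, hxi⟩
      · rintro ⟨i, ⟨-, hia⟩, hxi⟩
        exact (hw i x hxi).trans hia
    rw [this]
    exact IsConstructible.biUnion (Finset.finite_toSet _) (fun i _ => ht i)
  · refine (F.finite_toSet.image w).subset ?_
    rintro _ ⟨x, rfl⟩
    obtain ⟨i, hi, hxi⟩ := hF x
    exact ⟨i, hi, (hw i x hxi).symm⟩

end Groth.Agent.R2.H7.Patch
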