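import Mathlib
import Groth.Agent.R2.H7PCMor
import Groth.Agent.Lib.Helper1TorDim
import Groth.Agent.Lib.Helper13TorBC2
import Groth.Agent.Lib.Helper13TorMore
import Groth.Agent.R2.H31PolyTorDim

/-!
# Perfect ring maps as a local property of ring homomorphisms (helper7)

`FTD φ` : `B` has finite tor dimension over `A` (via `φ`); `PFH φ := PCH φ ∧ FTD φ` is the
ring-hom form of `MoreMor.IsPerfectHom`.  We prove: stability under composition, flat base change,
descent along faithfully flat base change, Zariski-locality on the target, hence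
`RingHom.PropertyIsLocal @PFH`.
-/

set_option autoImplicit false
set_option linter.style.haveILetI false
universe u
open CategoryTheory CategoryTheory.Limits
attribute [local instance] HasDerivedCategory.standard

namespace Groth.Agent.R2.H7.PerfHom

open Groth.Agent.R2.H7.PCHom Groth.Agent.Lib.Helper1.TorDim
open Groth.Agent.Lib.Helper1.Restrict Groth.Agent.Lib.Helper1.Tor
open Groth.Agent.Helper13TorBC Groth.Agent.R2.H7.PCBase Groth.Agent.R2.H7.PCZar
open Groth.Agent.R2.H7.PCMor Groth.Agent.R2.H7.PCFlat
open scoped TensorProduct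
open TensorProduct

/-! ## Module level -/

/-- transitivity of tor dimension along an algebra of finite tor dimension -/
theorem hasTorDimLE_trans {A B : Type u} [CommRing A] [CommRing B] [Algebra A B]
    (M : Type u) [AddCommGroup M] [Module B M] [Module A M] [IsScalarTower A B M] (d e : ℕ)
    (hB : DRing.HasTorDimLE A d B) (hM : DRing.HasTorDimLE B e M) :
    DRing.HasTorDimLE A (e + d) M := by
  rw [hasTorDimLE_iff_hasTorAmp] at hB hM ⊢
  have h := hasTorAmp_restrictD d hB (Dual.inD B M) (-(e : ℤ)) 0 hM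
  have e1 : (DRing.restrictD (algebraMap A B)).obj (Dual.inD B M) ≅ Dual.inD A M :=
    restrictDSingleIso (algebraMap A B) (ModuleCat.of B M) 0 ≪≫
      (DerivedCategory.singleFunctor (ModuleCat.{u} A) 0).mapIso
        (restrictScalarsAlgebraIso (A := A) (B := B) M)
  have h2 := hasTorAmp_of_iso e1 h
  have : (-((e + d : ℕ) : ℤ)) = -(e : ℤ) - d := by push_cast; ring
  rw [this]
  exact h2

theorem hasTorDimLE_mono {A : Type u} [CommRing A] (M : Type u) [AddCommGroup M] [Module A M]
    {d e : ℕ} (hde : d ≤ e) (h : DRing.HasTorDimLE A d M) : DRing.HasTorDimLE A e M :=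
  fun N _ _ p hp => h N p (lt_of_le_of_lt hde hp)

section BC
variable {A A' : Type u} [CommRing A] [CommRing A'] [Algebra A A']

/-- tor dimension is preserved by flat extension of scalars (categorical form) -/
theorem hasTorDimLE_extendScalars [Module.Flat A A'] (P : ModuleCat.{u} A) (d : ℕ)
    (h : DRing.HasTorDimLE A d P) : DRing.HasTorDimLE A' d ((E A A').obj P) := by
  intro N' _ _ p hp
  letI : Module A N' := Module.compHom N' (algebraMap A A')
  haveI : IsScalarTower A A' N' := IsScalarTower.of_algebraMap_smul (fun r m => rfl)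
  have hTor : ∀ q : ℕ, 0 < q →
      IsZero (((Tor (ModuleCat.{u} A) q).obj P).obj (ModuleCat.of A A')) := fun q hq =>
    Groth.Agent.Helper13Tor.isZero_tor_of_flat_right P (ModuleCat.of A A') q hq
  obtain ⟨i⟩ := nonempty_restrict_tor_iso A' N' P hTor p
  have hs : Subsingleton (((Tor (ModuleCat.{u} A) p).obj P).obj (ModuleCat.of A N')) := h N' p hp
  have hz : IsZero (((Tor (ModuleCat.{u} A) p).obj P).obj (ModuleCat.of A N')) :=
    ModuleCat.isZero_of_subsingleton _
  have hz2 := hz.of_iso i
  have : Subsingleton ((ρ A A').obj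
        (((Tor (ModuleCat.{u} A') p).obj ((E A A').obj P)).obj (ModuleCat.of A' N'))) :=
    ModuleCat.subsingleton_of_isZero hz2
  exact this

variable {B B' : Type u} [CommRing B] [CommRing B']
  [Algebra A B] [Algebra A B'] [Algebra A' B'] [Algebra B B']
  [IsScalarTower A A' B'] [IsScalarTower A B B'] [Algebra.IsPushout A A' B B']

/-- tor dimension of an algebra is preserved by flat base change -/
theorem hasTorDimLE_baseChange [Module.Flat A A'] (d : ℕ) (h : DRing.HasTorDimLE A d B) :
    DRing.HasTorDimLE A' d B' := by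
  have h1 := hasTorDimLE_extendScalars (A' := A') (ModuleCat.of A B) d h
  let e1 : ((E A A').obj (ModuleCat.of A B)) ≃ₗ[A'] (A' ⊗[A] B) :=
    Groth.Agent.S2380.bridge A A' (ModuleCat.of A B)
  let e2 : (A' ⊗[A] B) ≃ₗ[A'] B' := (Algebra.IsPushout.equiv A A' B B').toLinearEquiv
  exact Groth.Agent.R2.H31.PolyTorDim.hasTorDimLE_of_linearEquiv (e1 ≪≫ₗ e2) d h1

/-- tor dimension of an algebra descends along faithfully flat base change -/
theorem hasTorDimLE_descent [Module.FaithfullyFlat A A'] (d : ℕ)
    (h : DRing.HasTorDimLE A' d B') : DRing.HasTorDimLE A d B := by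
  let e2 : (A' ⊗[A] B) ≃ₗ[A'] B' := (Algebra.IsPushout.equiv A A' B B').toLinearEquiv
  have h1 : DRing.HasTorDimLE A' d (A' ⊗[A] B) :=
    Groth.Agent.R2.H31.PolyTorDim.hasTorDimLE_of_linearEquiv e2.symm d h
  intro N _ _ p hp
  obtain ⟨i⟩ := nonempty_tor_baseChange A A' B N p
  have hs := h1 (A' ⊗[A] N) p hp
  have hs2 : Subsingleton (A' ⊗[A]
      (((Tor (ModuleCat.{u} A) p).obj (ModuleCat.of A B)).obj (ModuleCat.of A N))) :=
    i.toEquiv.injective.subsingleton
  exact Module.FaithfullyFlat.lTensor_reflects_triviality A A' _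

end BC

/-- tor dimension of an algebra is Zariski-local on the algebra -/
theorem hasTorDimLE_of_span {A B : Type u} [CommRing A] [CommRing B] [Algebra A B] (s : Set B)
    (hs : Ideal.span s = ⊤) (d : ℕ)
    (Bₚ : s → Type u) [∀ r, CommRing (Bₚ r)] [∀ r, Algebra B (Bₚ r)] [∀ r, Algebra A (Bₚ r)]
    [∀ r, IsScalarTower A B (Bₚ r)] [∀ r : s, IsLocalization.Away r.1 (Bₚ r)]
    (h : ∀ r, DRing.HasTorDimLE A d (Bₚ r)) : DRing.HasTorDimLE A d B := by
  intro N _ _ p hp
  obtain ⟨q, rfl⟩ : ∃ q, p = q + 1 := ⟨p - 1, by omega⟩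
  let P := ProjectiveResolution.of (ModuleCat.of A N)
  rw [subsingleton_tor_iff B N P q]
  set f := (P.complex.d (q + 2) (q + 1)).hom
  set g := (P.complex.d (q + 1) q).hom
  show Function.Exact (AlgebraTensorModule.lTensor B B f) (AlgebraTensorModule.lTensor B B g)
  refine exact_of_isLocalized_span s hs
    (fun r => Bₚ r ⊗[A] P.complex.X (q+2))
    (fun r => AlgebraTensorModule.rTensor A _ (Algebra.linearMap B (Bₚ r)))
    (fun r => Bₚ r ⊗[A] P.complex.X (q+1))
    (fun r => AlgebraTensorModule.rTensor A _ (Algebra.linearMap B (Bₚ r)))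
    (fun r => Bₚ r ⊗[A] P.complex.X q)
    (fun r => AlgebraTensorModule.rTensor A _ (Algebra.linearMap B (Bₚ r)))
    _ _ (fun r => ?_)
  rw [IsLocalizedModule.map_lTensor, IsLocalizedModule.map_lTensor]
  exact (subsingleton_tor_iff (Bₚ r) N P q).1 (h r N (q+1) hp)

/-! ## Ring-hom level -/

variable {A B C : Type u} [CommRing A] [CommRing B] [CommRing C]

/-- `B` has finite tor dimension over `A` via `φ`. -/
def FTD (φ : A →+* B) : Prop :=
  letI := φ.toAlgebra
  DRing.HasFiniteTorDim A B

/-- perfect ring map (ring-hom form of `MoreMor.IsPerfectHom`). -/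
def PFH (φ : A →+* B) : Prop := PCH φ ∧ FTD φ

theorem ftd_algebraMap_iff [Algebra A B] : FTD (algebraMap A B) ↔ DRing.HasFiniteTorDim A B := by
  have h : (algebraMap A B).toAlgebra = ‹Algebra A B› := Algebra.algebra_ext _ _ (fun r => rfl)
  unfold FTD
  rw [h]

theorem isPerfectHom_iff [Algebra A B] : MoreMor.IsPerfectHom A B ↔ PFH (algebraMap A B) := by
  unfold MoreMor.IsPerfectHom PFH
  rw [isPseudoCoherentHom_iff, ftd_algebraMap_iff]

theorem FTD.comp {φ : A →+* B} {ψ : B →+* C} (hφ : FTD φ) (hψ : FTD ψ) : FTD (ψ.comp φ) := by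
  letI := φ.toAlgebra
  letI := ψ.toAlgebra
  letI := (ψ.comp φ).toAlgebra
  haveI : IsScalarTower A B C := IsScalarTower.of_algebraMap_eq (fun _ => rfl)
  obtain ⟨d, hd⟩ := hφ
  obtain ⟨e, he⟩ := hψ
  exact ⟨e + d, hasTorDimLE_trans C d e hd he⟩

theorem FTD.of_flat {φ : A →+* B} (h : φ.Flat) : FTD φ := by
  letI := φ.toAlgebra
  have : Module.Flat A B := h
  exact ⟨0, (hasTorDimLE_zero_iff_flat B).2 this⟩

theorem FTD.of_bijective {φ : A →+* B} (h : Function.Bijective φ) : FTD φ :=
  FTD.of_flat (RingHom.Flat.of_bijective h)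

theorem PFH.comp {φ : A →+* B} {ψ : B →+* C} (hφ : PFH φ) (hψ : PFH ψ) : PFH (ψ.comp φ) :=
  ⟨hφ.1.comp hψ.1, hφ.2.comp hψ.2⟩

theorem PFH.of_bijective {φ : A →+* B} (h : Function.Bijective φ) : PFH φ :=
  ⟨PCH.of_bijective h, FTD.of_bijective h⟩

theorem PFH.of_isLocalizationAway [Algebra A B] (r : A) [IsLocalization.Away r B] :
    PFH (algebraMap A B) :=
  ⟨PCH.of_isLocalizationAway r, FTD.of_flat
    ((RingHom.flat_algebraMap_iff).2 (IsLocalization.flat B (Submonoid.powers r)))⟩

section Pushout
variable {A A' B B' : Type u} [CommRing A] [CommRing A'] [CommRing B] [CommRing B']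
  [Algebra A A'] [Algebra A B] [Algebra A B'] [Algebra A' B'] [Algebra B B']
  [IsScalarTower A A' B'] [IsScalarTower A B B'] [Algebra.IsPushout A A' B B']

theorem FTD.baseChange [Module.Flat A A'] (h : FTD (algebraMap A B)) :
    FTD (algebraMap A' B') := by
  rw [ftd_algebraMap_iff] at h ⊢
  obtain ⟨d, hd⟩ := h
  exact ⟨d, hasTorDimLE_baseChange d hd⟩

theorem FTD.descent [Module.FaithfullyFlat A A'] (h : FTD (algebraMap A' B')) :
    FTD (algebraMap A B) := by
  rw [ftd_algebraMap_iff] at h ⊢
  obtain ⟨d, hd⟩ := h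
  exact ⟨d, hasTorDimLE_descent (A' := A') (B' := B') d hd⟩

theorem PFH.baseChange [Module.Flat A A'] (h : PFH (algebraMap A B)) :
    PFH (algebraMap A' B') :=
  ⟨PCH.baseChange h.1, FTD.baseChange h.2⟩

theorem PFH.descent [Module.FaithfullyFlat A A'] (h : PFH (algebraMap A' B')) :
    PFH (algebraMap A B) :=
  ⟨PCH.descent (A' := A') (B' := B') h.1, FTD.descent (A' := A') (B' := B') h.2⟩

end Pushout

theorem pfh_stableUnderComposition : RingHom.StableUnderComposition @PFH :=
  fun _ _ _ _ _ _ _ _ hf hg => hf.comp hg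

theorem pfh_holdsForLocalizationAway : RingHom.HoldsForLocalizationAway @PFH :=
  fun _ _ _ _ _ r _ => PFH.of_isLocalizationAway r

theorem pfh_respectsIso : RingHom.RespectsIso @PFH :=
  pfh_stableUnderComposition.respectsIso (fun e => PFH.of_bijective e.bijective)

theorem pfh_localizationAwayPreserves : RingHom.LocalizationAwayPreserves @PFH := by
  intro R S _ _ f r R' S' _ _ _ _ _ _ hf
  let _ : Algebra R S := f.toAlgebra
  let _ : Algebra R' S' := (IsLocalization.Away.map R' S' f r).toAlgebra
  let _ : Algebra R S' := ((algebraMap S S').comp f).toAlgebra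
  have t1 : IsScalarTower R S S' := IsScalarTower.of_algebraMap_eq fun _ => rfl
  have t2 : IsScalarTower R R' S' := IsScalarTower.of_algebraMap_eq fun x => by
    show algebraMap S S' (f x) = IsLocalization.Away.map R' S' f r (algebraMap R R' x)
    rw [IsLocalization.Away.map, IsLocalization.map_eq]
  have : IsLocalization (Algebra.algebraMapSubmonoid S (Submonoid.powers r)) S' := by
    show IsLocalization ((Submonoid.powers r).map (algebraMap R S)) S'
    rw [Submonoid.map_powers]
    exact ‹IsLocalization.Away (f r) S'›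
  have hpo : Algebra.IsPushout R S R' S' :=
    Algebra.isPushout_of_isLocalization (Submonoid.powers r) R' S S'
  have : Algebra.IsPushout R R' S S' := hpo.symm
  have : Module.Flat R R' := IsLocalization.flat R' (Submonoid.powers r)
  exact PFH.baseChange (A := R) (A' := R') (B := S) (B' := S') hf

theorem ftd_ofLocalizationFiniteSpanTarget : RingHom.OfLocalizationFiniteSpanTarget @FTD := by
  intro R S _ _ f s hs H
  letI : Algebra R S := f.toAlgebra
  have H' : ∀ r : (s : Set S), DRing.HasFiniteTorDim R (Localization.Away r.1) := fun r => by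
    have h1 := H r
    have h2 : (algebraMap S (Localization.Away r.1)).comp f =
        algebraMap R (Localization.Away r.1) :=
      (IsScalarTower.algebraMap_eq R S (Localization.Away r.1)).symm
    rw [h2, ftd_algebraMap_iff] at h1
    exact h1
  choose d hd using H'
  classical
  let D : ℕ := s.attach.sup d
  refine ⟨D, hasTorDimLE_of_span (s : Set S) hs D (fun r => Localization.Away r.1) (fun r => ?_)⟩
  exact hasTorDimLE_mono _ (Finset.le_sup (f := d) (Finset.mem_attach s r)) (hd r)

theorem pfh_ofLocalizationSpanTarget : RingHom.OfLocalizationSpanTarget @PFH := by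
  rw [RingHom.ofLocalizationSpanTarget_iff_finite]
  intro R S _ _ f s hs H
  exact ⟨(RingHom.ofLocalizationSpanTarget_iff_finite @PCH).1 pch_ofLocalizationSpanTarget f s hs
    (fun r => (H r).1), ftd_ofLocalizationFiniteSpanTarget f s hs (fun r => (H r).2)⟩

theorem pfh_isLocal : RingHom.PropertyIsLocal @PFH where
  localizationAwayPreserves := pfh_localizationAwayPreserves
  ofLocalizationSpanTarget := pfh_ofLocalizationSpanTarget
  ofLocalizationSpan := pfh_ofLocalizationSpanTarget.ofLocalizationSpan
    (pfh_stableUnderComposition.stableUnderCompositionWithLocalizationAway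
      pfh_holdsForLocalizationAway).1
  StableUnderCompositionWithLocalizationAwayTarget :=
    (pfh_stableUnderComposition.stableUnderCompositionWithLocalizationAway
      pfh_holdsForLocalizationAway).2

end Groth.Agent.R2.H7.PerfHom
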