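import Mathlib
import Groth.Agent.R2.H7PerfHom
import Groth.Agent.R2.H7PCDesc

/-!
# Perfect morphisms of schemes as a `HasRingHomProperty` (helper7)

`perfMor f ↔ MoreMor.IsPerfectMor f`, with `HasRingHomProperty perfMor @PFH`; composition,
flat base change and fpqc descent.
-/

set_option autoImplicit false
set_option linter.style.haveILetI false
universe u
open CategoryTheory CategoryTheory.Limits AlgebraicGeometry MorphismProperty
attribute [local instance] HasDerivedCategory.standard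

namespace Groth.Agent.R2.H7.PerfMor

open Groth.Agent.R2.H7.PCHom Groth.Agent.R2.H7.PCBase Groth.Agent.R2.H7.PCZar
open Groth.Agent.R2.H7.PCMor Groth.Agent.R2.H7.PerfHom Groth.Agent.R2.H7.PCDesc

/-- perfect morphisms as a morphism property -/
def perfMor : MorphismProperty Scheme.{u} := fun _ _ f => MoreMor.IsPerfectMor f

lemma perfMor_iff {X Y : Scheme.{u}} (f : X ⟶ Y) : perfMor f ↔ MoreMor.IsPerfectMor f := Iff.rfl

lemma isPerfectMor_iff {X Y : Scheme.{u}} (f : X ⟶ Y) :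
    MoreMor.IsPerfectMor f ↔
      ∀ (U : Y.affineOpens) (V : X.affineOpens) (e : V.1 ≤ f ⁻¹ᵁ U.1), PFH (f.appLE U V e).hom := by
  constructor
  · intro h U V e
    have := h V.1 U.1 V.2 U.2 e
    let _ := (f.appLE U.1 V.1 e).hom.toAlgebra
    exact isPerfectHom_iff.1 this
  · intro h U V hU hV hUV
    let _ := (f.appLE V U hUV).hom.toAlgebra
    exact isPerfectHom_iff.2 (h ⟨V, hV⟩ ⟨U, hU⟩ hUV)

instance : HasRingHomProperty perfMor.{u} @PFH where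
  isLocal_ringHomProperty := pfh_isLocal
  eq_affineLocally' := by
    ext X Y f
    rw [affineLocally_iff_affineOpens_le]
    exact isPerfectMor_iff f

instance : perfMor.{u}.IsStableUnderComposition :=
  HasRingHomProperty.stableUnderComposition (P := perfMor) pfh_stableUnderComposition

theorem isPerfectMor_comp {X Y Z : Scheme.{u}} (f : X ⟶ Y) (g : Y ⟶ Z)
    (hf : MoreMor.IsPerfectMor f) (hg : MoreMor.IsPerfectMor g) : MoreMor.IsPerfectMor (f ≫ g) :=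
  perfMor.comp_mem f g hf hg

theorem pfh_codescendsAlong_faithfullyFlat :
    RingHom.CodescendsAlong (@PFH) RingHom.FaithfullyFlat := by
  intro R S R' S' _ _ _ _ _ _ _ _ _ _ _ hpo hff h
  have : Algebra.IsPushout R R' S S' := hpo.symm
  have : Module.FaithfullyFlat R R' := (RingHom.faithfullyFlat_algebraMap_iff).1 hff
  exact PFH.descent (A := R) (A' := R') (B := S) (B' := S') h

/-- **fpqc descent for perfect morphisms.** -/
instance : perfMor.{u}.DescendsAlong (@Surjective ⊓ @Flat ⊓ @QuasiCompact) :=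
  descendsAlong_flat' perfMor (@PFH) pfh_codescendsAlong_faithfullyFlat

theorem isPerfectMor_of_flat_surjective_qc_baseChange {X S X' S' : Scheme.{u}} (f : X ⟶ S)
    (f' : X' ⟶ S') (g' : X' ⟶ X) (g : S' ⟶ S)
    [Flat g] [Surjective g] [QuasiCompact g] (hc : IsPullback g' f' f g)
    (hf' : MoreMor.IsPerfectMor f') : MoreMor.IsPerfectMor f := by
  have hg : (@Surjective ⊓ @Flat ⊓ @QuasiCompact : MorphismProperty Scheme.{u}) g :=
    ⟨⟨inferInstance, inferInstance⟩, inferInstance⟩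
  exact MorphismProperty.of_isPullback_of_descendsAlong
    (P := perfMor.{u}) (Q := @Surjective ⊓ @Flat ⊓ @QuasiCompact) hc.flip hg hf'

/-- flat base change of a perfect morphism is perfect -/
theorem isPerfectMor_flat_baseChange {X S X' S' : Scheme.{u}} (f : X ⟶ S) (f' : X' ⟶ S')
    (g' : X' ⟶ X) (g : S' ⟶ S) [Flat g] (hc : IsPullback g' f' f g)
    (hf : MoreMor.IsPerfectMor f) : MoreMor.IsPerfectMor f' := by
  have hQ : RingHom.StableUnderCompositionWithLocalizationAwaySource @PFH :=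
    (pfh_stableUnderComposition.stableUnderCompositionWithLocalizationAway
      pfh_holdsForLocalizationAway).1
  rw [← perfMor_iff,
    AlgebraicGeometry.HasRingHomProperty.iff_exists_appLE (P := perfMor) (Q := @PFH) hQ]
  intro x'
  obtain ⟨_, ⟨W, hW, rfl⟩, hxW, -⟩ :=
    S.isBasis_affineOpens.exists_subset_of_mem_open (Set.mem_univ (g (f' x'))) isOpen_univ
  obtain ⟨_, ⟨W', hW', rfl⟩, hxW', hW'W⟩ :=
    S'.isBasis_affineOpens.exists_subset_of_mem_open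
      (show f' x' ∈ ((g ⁻¹ᵁ W : S'.Opens) : Set S') from hxW) (g ⁻¹ᵁ W).isOpen
  have hpt : f (g' x') = g (f' x') := by
    have := congrArg (fun φ : X' ⟶ S => φ x') hc.w
    exact this
  obtain ⟨_, ⟨U, hU, rfl⟩, hxU, hUW⟩ :=
    X.isBasis_affineOpens.exists_subset_of_mem_open
      (show g' x' ∈ ((f ⁻¹ᵁ W : X.Opens) : Set X) by
        change f (g' x') ∈ W
        rw [hpt]; exact hxW) (f ⁻¹ᵁ W).isOpen
  have hUST : W' ≤ g ⁻¹ᵁ W := hW'W
  have hUSX : U ≤ f ⁻¹ᵁ W := hUW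
  have hiso := AlgebraicGeometry.isIso_pushoutSection_of_isAffineOpen hc hUST hUSX rfl hW hW' hU
  have hpo := (AlgebraicGeometry.isIso_pushoutSection_iff hc hUST hUSX rfl).mp hiso
  have haffY : IsAffineOpen (g' ⁻¹ᵁ U ⊓ f' ⁻¹ᵁ W') := by
    have : IsAffine (W : Scheme.{u}) := hW
    have : IsAffine (W' : Scheme.{u}) := hW'
    have : IsAffine (U : Scheme.{u}) := hU
    exact .of_isIso (AlgebraicGeometry.Scheme.Hom.isPullback_resLE hc hUST hUSX rfl).isoPullback.hom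
  have hle2 : g' ⁻¹ᵁ U ⊓ f' ⁻¹ᵁ W' ≤ f' ⁻¹ᵁ W' := inf_le_right
  have hle1 : g' ⁻¹ᵁ U ⊓ f' ⁻¹ᵁ W' ≤ g' ⁻¹ᵁ U := inf_le_left
  refine ⟨⟨W', hW'⟩, ⟨_, haffY⟩, ⟨hxU, hxW'⟩, hle2, ?_⟩
  -- algebra structures
  letI iAA' : Algebra Γ(S, W) Γ(S', W') := (g.appLE W W' hUST).hom.toAlgebra
  letI iAB : Algebra Γ(S, W) Γ(X, U) := (f.appLE W U hUSX).hom.toAlgebra
  letI iA'B' : Algebra Γ(S', W') Γ(X', g' ⁻¹ᵁ U ⊓ f' ⁻¹ᵁ W') := (f'.appLE W' _ hle2).hom.toAlgebra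
  letI iBB' : Algebra Γ(X, U) Γ(X', g' ⁻¹ᵁ U ⊓ f' ⁻¹ᵁ W') := (g'.appLE U _ hle1).hom.toAlgebra
  letI iAB' : Algebra Γ(S, W) Γ(X', g' ⁻¹ᵁ U ⊓ f' ⁻¹ᵁ W') :=
    ((f'.appLE W' _ hle2).hom.comp (g.appLE W W' hUST).hom).toAlgebra
  have t1 : IsScalarTower Γ(S, W) Γ(S', W') Γ(X', g' ⁻¹ᵁ U ⊓ f' ⁻¹ᵁ W') :=
    IsScalarTower.of_algebraMap_eq (fun _ => rfl)
  have hcomm : f.appLE W U hUSX ≫ g'.appLE U _ hle1 = g.appLE W W' hUST ≫ f'.appLE W' _ hle2 := by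
    rw [AlgebraicGeometry.Scheme.Hom.appLE_comp_appLE, AlgebraicGeometry.Scheme.Hom.appLE_comp_appLE]
    simp only [hc.w]
  have t2 : IsScalarTower Γ(S, W) Γ(X, U) Γ(X', g' ⁻¹ᵁ U ⊓ f' ⁻¹ᵁ W') :=
    IsScalarTower.of_algebraMap_eq (fun x => (congrArg (fun φ => φ.hom x) hcomm).symm)
  have hpo' : IsPushout (CommRingCat.ofHom (algebraMap Γ(S, W) Γ(S', W')))
      (CommRingCat.ofHom (algebraMap Γ(S, W) Γ(X, U)))
      (CommRingCat.ofHom (algebraMap Γ(S', W') Γ(X', g' ⁻¹ᵁ U ⊓ f' ⁻¹ᵁ W')))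
      (CommRingCat.ofHom (algebraMap Γ(X, U) Γ(X', g' ⁻¹ᵁ U ⊓ f' ⁻¹ᵁ W'))) := hpo.flip
  haveI hP : Algebra.IsPushout Γ(S, W) Γ(S', W') Γ(X, U) Γ(X', g' ⁻¹ᵁ U ⊓ f' ⁻¹ᵁ W') :=
    CommRingCat.isPushout_iff_isPushout.mp hpo'
  haveI : Module.Flat Γ(S, W) Γ(S', W') :=
    AlgebraicGeometry.HasRingHomProperty.appLE (P := @AlgebraicGeometry.Flat) g inferInstance
      ⟨W, hW⟩ ⟨W', hW'⟩ hUST
  have h1 : PFH (algebraMap Γ(S, W) Γ(X, U)) :=
    (isPerfectMor_iff f).1 hf ⟨W, hW⟩ ⟨U, hU⟩ hUSX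
  exact PFH.baseChange (A := Γ(S, W)) (A' := Γ(S', W')) (B := Γ(X, U))
    (B' := Γ(X', g' ⁻¹ᵁ U ⊓ f' ⁻¹ᵁ W')) h1

end Groth.Agent.R2.H7.PerfMor
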