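import Mathlib
import Groth.Prelude.Def_Mor2
import Groth.Agent.R2.H7PerfMor
import Groth.Agent.R2.H7PCFin
import Groth.Agent.R2.H31KoszulPerf
import Groth.Agent.S15821
import Groth.Agent.S6954

/-!
# Regular closed immersions are perfect (helper7)
-/

set_option autoImplicit false
set_option linter.style.haveILetI false
universe u
open CategoryTheory CategoryTheory.Limits AlgebraicGeometry
attribute [local instance] HasDerivedCategory.standard

namespace Groth.Agent.R2.H7.PerfReg

open Groth.Agent.R2.H7.PCHom Groth.Agent.Lib.Helper1.TorDim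
open Groth.Agent.Lib.Helper1.Restrict Groth.Agent.Lib.Helper1.Tor
open Groth.Agent.R2.H7.PerfHom Groth.Agent.R2.H7.PerfMor Groth.Agent.R2.H7.PCFin
open DerivedCategory

/-- a module whose associated complex has tor amplitude in some `[a, b]` has finite tor dimension -/
theorem hasFiniteTorDim_of_hasTorAmp {R : Type u} [CommRing R] (M : Type u) [AddCommGroup M]
    [Module R M] (a b : ℤ) (h : DRing.HasTorAmplitudeIn R a b (Dual.inD R M)) :
    DRing.HasFiniteTorDim R M := by
  let P := ProjectiveResolution.of (ModuleCat.of R M)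
  set G := P.cochainComplex with hG
  have e : Q.obj G ≅ Dual.inD R M := resIso M P
  have hGb : DRing.VanishesAbove G 0 := fun i hi => G.isZero_of_isStrictlyLE 0 i hi
  have hGf : DRing.TermwiseFlat G := termwiseFlat_of_projective G (fun k => inferInstance)
  obtain ⟨E, hE, hEf, ⟨e'⟩⟩ := h
  have htv : TorVan G a b := torVan_of_iso G E 0 hGb hGf a b hE hEf (e' ≪≫ e.symm)
  refine ⟨(-a).toNat, fun N _ _ p hp => ?_⟩
  obtain ⟨q, rfl⟩ : ∃ q, p = q + 1 := ⟨p - 1, by omega⟩
  exact (exactAt_TC_iff_subsingleton_tor M N P q).1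
    (htv (ModuleCat.of R N) _ (Or.inl (by push_cast; omega)))

/-- a finite algebra that is a perfect module is a perfect ring map -/
theorem pfh_of_isPerfectModule {A B : Type u} [CommRing A] [CommRing B] [Algebra A B]
    [Module.Finite A B] (h : DRing.IsPerfectModule A B) : PFH (algebraMap A B) := by
  obtain ⟨hpc, a, b, hab⟩ := (Groth.Agent.S6954.result A (Dual.inD A B)).1 h
  exact ⟨pch_iff_pcModule_of_finite.2 hpc, ftd_algebraMap_iff.2 (hasFiniteTorDim_of_hasTorAmp B a b hab)⟩

/-- the quotient by a (weakly) regular sequence is a perfect ring map -/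
theorem pfh_quotient_of_regular {A : Type u} [CommRing A] (rs : List A)
    (hrs : RingTheory.Sequence.IsWeaklyRegular A rs) :
    PFH (algebraMap A (A ⧸ Ideal.ofList rs)) :=
  pfh_of_isPerfectModule (Groth.Agent.R2.H31.KoszulPerf.isPerfectModule_quot_of_regular A rs
    (Groth.Agent.S15821.result A rs hrs).1)

/-- a surjection whose kernel is generated by a (weakly) regular sequence is a perfect ring map -/
theorem pfh_of_surjective_of_regular {A B : Type u} [CommRing A] [CommRing B] (φ : A →+* B)
    (hφ : Function.Surjective φ) (rs : List A) (hrs : RingTheory.Sequence.IsWeaklyRegular A rs)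
    (hker : RingHom.ker φ = Ideal.ofList rs) : PFH φ := by
  have h0 : ∀ a ∈ Ideal.ofList rs, φ a = 0 := fun a ha => by
    rw [← hker] at ha
    exact ha
  let ψ : A ⧸ Ideal.ofList rs →+* B := Ideal.Quotient.lift (Ideal.ofList rs) φ h0
  have hψ : Function.Bijective ψ := by
    constructor
    · exact RingHom.lift_injective_of_ker_le_ideal (Ideal.ofList rs) h0 (le_of_eq hker)
    · exact Ideal.Quotient.lift_surjective_of_surjective _ _ hφ
  have hcomp : ψ.comp (algebraMap A (A ⧸ Ideal.ofList rs)) = φ := Ideal.Quotient.lift_comp_mk _ _ _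
  rw [← hcomp]
  exact (pfh_quotient_of_regular rs hrs).comp (PFH.of_bijective hψ)

/-- **regular closed immersions are perfect** -/
theorem isPerfectMor_of_regularClosedImmersion {Z X : Scheme.{u}} (i : Z ⟶ X)
    (hi : Mor2.IsRegularClosedImmersion i) : MoreMor.IsPerfectMor i := by
  obtain ⟨hcl, hreg⟩ := hi
  have hQ : RingHom.StableUnderCompositionWithLocalizationAwaySource @PFH :=
    (pfh_stableUnderComposition.stableUnderCompositionWithLocalizationAway
      pfh_holdsForLocalizationAway).1
  rw [← perfMor_iff,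
    AlgebraicGeometry.HasRingHomProperty.iff_exists_appLE (P := perfMor) (Q := @PFH) hQ]
  intro z
  obtain ⟨U, hU, hzU, rs, hrs, hker⟩ := hreg z
  have hV : IsAffineOpen (i ⁻¹ᵁ U) := hU.preimage i
  refine ⟨⟨U, hU⟩, ⟨i ⁻¹ᵁ U, hV⟩, hzU, le_rfl, ?_⟩
  have happ : i.appLE U (i ⁻¹ᵁ U) le_rfl = i.app U := Scheme.Hom.appLE_eq_app ..
  show PFH (i.appLE U (i ⁻¹ᵁ U) le_rfl).hom
  rw [happ]
  refine pfh_of_surjective_of_regular _ (i.app_surjective U hU) rs hrs.toIsWeaklyRegular ?_
  rw [← hker, Scheme.Hom.ker_apply]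

end Groth.Agent.R2.H7.PerfReg
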