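import Mathlib
import Groth.Agent.R2.H7PerfMor
import Groth.Agent.R2.H7PCFlat

/-!
# Perfect morphisms: cancellation of a smooth morphism on the right (helper7)
-/

set_option autoImplicit false
set_option linter.style.haveILetI false
universe u
open CategoryTheory CategoryTheory.Limits AlgebraicGeometry
attribute [local instance] HasDerivedCategory.standard

namespace Groth.Agent.R2.H7.PerfSmooth

open Groth.Agent.R2.H7.PCHom Groth.Agent.Lib.Helper1.TorDim
open Groth.Agent.R2.H7.PerfHom Groth.Agent.R2.H7.PerfMor Groth.Agent.R2.H7.PCFlat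
open Groth.Agent.R2.H7.PCZar

theorem pfh_of_flat_of_finitePresentation {A B : Type u} [CommRing A] [CommRing B] (φ : A →+* B)
    (hfl : φ.Flat) (hfp : φ.FinitePresentation) : PFH φ := by
  letI := φ.toAlgebra
  haveI : Module.Flat A B := hfl
  haveI : Algebra.FinitePresentation A B := hfp
  exact ⟨pch_of_flat_of_finitePresentation A B, FTD.of_flat hfl⟩

theorem isPerfectMor_of_flat_lfp {X S : Scheme.{u}} (f : X ⟶ S) [Flat f]
    [LocallyOfFinitePresentation f] : MoreMor.IsPerfectMor f := by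
  rw [isPerfectMor_iff]
  intro U V e
  exact pfh_of_flat_of_finitePresentation _
    (HasRingHomProperty.appLE (P := @Flat) f inferInstance U V e)
    (HasRingHomProperty.appLE (P := @LocallyOfFinitePresentation) f inferInstance U V e)

/-- cancellation of an étale morphism on the right -/
theorem isPerfectMor_of_comp_etale {X Y Z : Scheme.{u}} (f : X ⟶ Y) (h : Y ⟶ Z) [Etale h]
    (hfh : MoreMor.IsPerfectMor (f ≫ h)) : MoreMor.IsPerfectMor f := by
  have hsq : IsPullback (pullback.fst (f ≫ h) h) (pullback.snd (f ≫ h) h) (f ≫ h) h :=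
    IsPullback.of_hasPullback _ _
  have h2 : MoreMor.IsPerfectMor (pullback.snd (f ≫ h) h) :=
    isPerfectMor_flat_baseChange (f ≫ h) _ _ h hsq hfh
  have hΓ : IsOpenImmersion (pullback.lift (𝟙 X) f (by simp) : X ⟶ pullback (f ≫ h) h) :=
    MorphismProperty.of_isPullback (P := @IsOpenImmersion)
      (pullback_lift_diagonal_isPullback f h) inferInstance
  have h1 : MoreMor.IsPerfectMor (pullback.lift (𝟙 X) f (by simp) : X ⟶ pullback (f ≫ h) h) :=
    isPerfectMor_of_flat_lfp _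
  have := isPerfectMor_comp _ _ h1 h2
  rwa [pullback.lift_snd] at this

theorem pfh_of_comp_etale {P B C : Type u} [CommRing P] [CommRing B] [CommRing C]
    (γ : P →+* B) (hγ : γ.Etale) (ψ : B →+* C) (h : PFH (ψ.comp γ)) : PFH ψ := by
  have hE : Etale (Spec.map (CommRingCat.ofHom γ)) :=
    (HasRingHomProperty.Spec_iff (P := @Etale)).2 hγ
  have h1 : perfMor (Spec.map (CommRingCat.ofHom ψ) ≫ Spec.map (CommRingCat.ofHom γ)) := by
    rw [← Spec.map_comp, HasRingHomProperty.Spec_iff (P := perfMor)]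
    exact h
  have h2 := isPerfectMor_of_comp_etale _ _ h1
  exact (HasRingHomProperty.Spec_iff (P := perfMor)).1 h2

theorem pfh_of_comp_mvPolynomial_C {A C : Type u} [CommRing A] [CommRing C] (n : ℕ)
    (θ : MvPolynomial (Fin n) A →+* C) (h : PFH (θ.comp MvPolynomial.C)) : PFH θ := by
  refine ⟨PCH.of_comp (PCH.mvPolynomial_C n) h.1, ?_⟩
  obtain ⟨d, hd⟩ := h.2
  letI := θ.toAlgebra
  refine ⟨d + n, ?_⟩
  have := Groth.Agent.R2.H31.PolyTorDim.hasTorDimLE_mvPolynomial n A
    (ModuleCat.of (MvPolynomial (Fin n) A) C) d ?_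
  · exact this
  · exact hd

theorem pfh_of_comp_isStandardSmooth {A B C : Type u} [CommRing A] [CommRing B] [CommRing C]
    (φ : A →+* B) (hφ : φ.IsStandardSmooth) (ψ : B →+* C) (h : PFH (ψ.comp φ)) : PFH ψ := by
  obtain ⟨n, γ, hγC, hγ⟩ := hφ.exists_etale_mvPolynomial
  refine pfh_of_comp_etale γ hγ ψ (pfh_of_comp_mvPolynomial_C n _ ?_)
  rw [RingHom.comp_assoc, hγC]
  exact h

/-- if `g` is smooth and `f ≫ g` is perfect then `f` is perfect -/
theorem isPerfectMor_of_comp_smooth {X Y S : Scheme.{u}} (f : X ⟶ Y) (g : Y ⟶ S) [Smooth g]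
    (h : MoreMor.IsPerfectMor (f ≫ g)) : MoreMor.IsPerfectMor f := by
  have hQ : RingHom.StableUnderCompositionWithLocalizationAwaySource @PFH :=
    (pfh_stableUnderComposition.stableUnderCompositionWithLocalizationAway
      pfh_holdsForLocalizationAway).1
  rw [← perfMor_iff,
    AlgebraicGeometry.HasRingHomProperty.iff_exists_appLE (P := perfMor) (Q := @PFH) hQ]
  intro x
  obtain ⟨U, hU, V, hV, hxV, e, hst⟩ := Smooth.exists_isStandardSmooth g (f x)
  obtain ⟨_, ⟨W, hW, rfl⟩, hxW, hWV⟩ :=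
    X.isBasis_affineOpens.exists_subset_of_mem_open
      (show x ∈ ((f ⁻¹ᵁ V : X.Opens) : Set X) from hxV) (f ⁻¹ᵁ V).isOpen
  have hWV' : W ≤ f ⁻¹ᵁ V := hWV
  have hWU : W ≤ (f ≫ g) ⁻¹ᵁ U := by
    rw [AlgebraicGeometry.Scheme.Hom.comp_preimage]
    exact hWV'.trans (f.preimage_mono e)
  refine ⟨⟨V, hV⟩, ⟨W, hW⟩, hxW, hWV', ?_⟩
  have h2 := (isPerfectMor_iff (f ≫ g)).1 h ⟨U, hU⟩ ⟨W, hW⟩ hWU
  have e2 : (f ≫ g).appLE U W hWU = g.appLE U V e ≫ f.appLE V W hWV' :=
    (AlgebraicGeometry.Scheme.Hom.appLE_comp_appLE _ _ _ _ _ _ _).symm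
  rw [e2] at h2
  exact pfh_of_comp_isStandardSmooth _ hst _ h2

end Groth.Agent.R2.H7.PerfSmooth
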