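import Mathlib
import Groth.Prelude.Def_RegImm
import Groth.Agent.R2.H7PerfReg
import Groth.Agent.R2.H7PerfSmooth

/-!
# Koszul-regular immersions and lci morphisms (factorisation form) are perfect (helper7)
-/

set_option autoImplicit false
set_option linter.style.haveILetI false
universe u
open CategoryTheory CategoryTheory.Limits AlgebraicGeometry
attribute [local instance] HasDerivedCategory.standard

namespace Groth.Agent.R2.H7.PerfLCI

open Groth.Agent.R2.H7.PCHom Groth.Agent.R2.H7.PerfHom Groth.Agent.R2.H7.PerfMor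
open Groth.Agent.R2.H7.PerfReg Groth.Agent.R2.H7.PerfSmooth

/-- the quotient by a Koszul-regular sequence is a perfect ring map -/
theorem pfh_quotient_of_koszulRegular {A : Type u} [CommRing A] (rs : List A)
    (hrs : LCI.IsKoszulRegularSeq A rs) :
    PFH (algebraMap A (A ⧸ Ideal.ofList rs)) :=
  pfh_of_isPerfectModule (Groth.Agent.R2.H31.KoszulPerf.isPerfectModule_quot_of_regular A rs hrs)

/-- a surjection whose kernel is generated by a Koszul-regular sequence is a perfect ring map -/
theorem pfh_of_surjective_of_koszulRegular {A B : Type u} [CommRing A] [CommRing B] (φ : A →+* B)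
    (hφ : Function.Surjective φ) (rs : List A) (hrs : LCI.IsKoszulRegularSeq A rs)
    (hker : RingHom.ker φ = Ideal.ofList rs) : PFH φ := by
  have h0 : ∀ a ∈ Ideal.ofList rs, φ a = 0 := fun a ha => by
    rw [← hker] at ha
    exact ha
  let ψ : A ⧸ Ideal.ofList rs →+* B := Ideal.Quotient.lift (Ideal.ofList rs) φ h0
  have hψ : Function.Bijective ψ := by
    constructor
    · exact RingHom.lift_injective_of_ker_le_ideal (Ideal.ofList rs) h0 (le_of_eq hker)
    · exact Ideal.Quotient.lift_surjective_of_surjective _ _ hφ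
  have hcomp : ψ.comp (algebraMap A (A ⧸ Ideal.ofList rs)) = φ := Ideal.Quotient.lift_comp_mk _ _ _
  rw [← hcomp]
  exact (pfh_quotient_of_koszulRegular rs hrs).comp (PFH.of_bijective hψ)

/-- Koszul-regular immersions are perfect -/
theorem isPerfectMor_of_koszulRegularImmersion {Z X : Scheme.{u}} (i : Z ⟶ X)
    (hi : RegImm.IsRegularImmersion .koszul i) : MoreMor.IsPerfectMor i := by
  obtain ⟨-, hreg⟩ := hi
  have hQ : RingHom.StableUnderCompositionWithLocalizationAwaySource @PFH :=
    (pfh_stableUnderComposition.stableUnderCompositionWithLocalizationAway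
      pfh_holdsForLocalizationAway).1
  rw [← perfMor_iff,
    AlgebraicGeometry.HasRingHomProperty.iff_exists_appLE (P := perfMor) (Q := @PFH) hQ]
  intro z
  obtain ⟨U, hzU, hcl, rs, hrs, hker⟩ := hreg z
  have hUaff : IsAffine (U.1 : Scheme.{u}) := U.2
  have hV : IsAffineOpen (i ⁻¹ᵁ U.1) := by
    show IsAffine ((i ⁻¹ᵁ U.1 : Z.Opens) : Scheme.{u})
    exact isAffine_of_isAffineHom (i ∣_ U.1)
  refine ⟨U, ⟨i ⁻¹ᵁ U.1, hV⟩, hzU, le_rfl, ?_⟩
  have happ : i.appLE U.1 (i ⁻¹ᵁ U.1) le_rfl = i.app U.1 := Scheme.Hom.appLE_eq_app ..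
  show PFH (i.appLE U.1 (i ⁻¹ᵁ U.1) le_rfl).hom
  rw [happ]
  refine pfh_of_surjective_of_koszulRegular _ ?_ rs hrs hker
  -- surjectivity of `i.app U`
  have h1 : Function.Surjective ((i ∣_ U.1).appTop).hom :=
    (i ∣_ U.1).app_surjective ⊤ (isAffineOpen_top _)
  rw [morphismRestrict_appTop] at h1
  have h2 : Function.Surjective (i.app (U.1.ι ''ᵁ ⊤)).hom := by
    have h3 : Function.Surjective
        ((Z.presheaf.map (eqToHom (image_morphismRestrict_preimage i U.1 ⊤)).op).hom ∘
          (i.app (U.1.ι ''ᵁ ⊤)).hom) := h1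
    have hinj : Function.Injective
        (Z.presheaf.map (eqToHom (image_morphismRestrict_preimage i U.1 ⊤)).op).hom :=
      ((ConcreteCategory.bijective_of_isIso
        (Z.presheaf.map (eqToHom (image_morphismRestrict_preimage i U.1 ⊤)).op))).1
    exact (Function.Surjective.of_comp_iff' ⟨hinj, Function.Surjective.of_comp h3⟩ _).1 h3
  have h4 : ∀ V : X.Opens, V = U.1 → Function.Surjective (i.app V).hom →
      Function.Surjective (i.app U.1).hom := by
    rintro V rfl h
    exact h
  exact h4 _ (by simp) h2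

/-- **lci morphisms in the factorisation sense are perfect** -/
theorem isPerfectMor_of_forall_isKoszulAt {X Y : Scheme.{u}} (f : X ⟶ Y)
    (hf : ∀ x : X, Synt.IsKoszulAt f x) : MoreMor.IsPerfectMor f := by
  choose U P i π hxU hft hi hπ hcomm using hf
  rw [← perfMor_iff]
  refine IsZariskiLocalAtSource.of_iSup_eq_top (P := perfMor) U ?_ (fun x => ?_)
  · refine top_le_iff.1 (fun x _ => ?_)
    exact TopologicalSpace.Opens.mem_iSup.2 ⟨x, hxU x⟩
  · rw [← hcomm x]
    haveI := hπ x
    exact perfMor.comp_mem _ _ (isPerfectMor_of_koszulRegularImmersion (i x) (hi x))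
      (isPerfectMor_of_flat_lfp (π x))

end Groth.Agent.R2.H7.PerfLCI
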