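import Mathlib
import Groth.Prelude.Def_RegImm
import Groth.Agent.R2.H7PerfLCI
import Groth.Agent.R2.H31PCFP

/-!
# lci ring maps / lci morphisms (affine-local form) are perfect (helper7)
-/

set_option autoImplicit false
set_option linter.style.haveILetI false
universe u
open CategoryTheory CategoryTheory.Limits AlgebraicGeometry
attribute [local instance] HasDerivedCategory.standard

namespace Groth.Agent.R2.H7.PerfLCI2

open Groth.Agent.R2.H7.PCHom Groth.Agent.R2.H7.PerfHom Groth.Agent.R2.H7.PerfMor
open Groth.Agent.R2.H7.PerfReg Groth.Agent.R2.H7.PerfSmooth Groth.Agent.R2.H7.PerfLCI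

/-- a local complete intersection ring map is perfect -/
theorem pfh_of_isLCI {A B : Type u} [CommRing A] [CommRing B] [Algebra A B]
    (h : LCI.IsLCI A B) : PFH (algebraMap A B) := by
  obtain ⟨-, n, f, hf, hI⟩ := h
  set I := RingHom.ker f.toRingHom with hIdef
  have hperf : DRing.IsPerfectModule (MvPolynomial (Fin n) A) (MvPolynomial (Fin n) A ⧸ I) :=
    Groth.Agent.R2.H31.KoszulPerf.isPerfectModule_quot_of_isKoszulRegularIdeal I hI
  have h1 : PFH (algebraMap (MvPolynomial (Fin n) A) (MvPolynomial (Fin n) A ⧸ I)) :=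
    pfh_of_isPerfectModule hperf
  let ψ : (MvPolynomial (Fin n) A ⧸ I) ≃+* B := RingHom.quotientKerEquivOfSurjective hf
  have hcomp : ψ.toRingHom.comp (algebraMap (MvPolynomial (Fin n) A) (MvPolynomial (Fin n) A ⧸ I))
      = f.toRingHom := by
    ext x <;> rfl
  have h2 : PFH f.toRingHom := by
    rw [← hcomp]
    exact h1.comp (PFH.of_bijective ψ.bijective)
  have h3 : PFH (algebraMap A (MvPolynomial (Fin n) A)) :=
    pfh_of_flat_of_finitePresentation _ ((RingHom.flat_algebraMap_iff).2 inferInstance)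
      ((RingHom.finitePresentation_algebraMap).2 inferInstance)
  have h4 : algebraMap A B = f.toRingHom.comp (algebraMap A (MvPolynomial (Fin n) A)) :=
    (f.comp_algebraMap).symm
  rw [h4]
  exact h3.comp h2

/-- lci morphisms (affine-local form) are locally of finite presentation, pseudo-coherent and
perfect -/
theorem lci_morphism {X S : Scheme.{u}} (f : X ⟶ S)
    (hf : (∀ (U : X.Opens) (V : S.Opens) (_ : IsAffineOpen U) (_ : IsAffineOpen V)
        (hUV : U ≤ f ⁻¹ᵁ V),
        letI := (f.appLE V U hUV).hom.toAlgebra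
        LCI.IsLCI Γ(S, V) Γ(X, U))) :
    LocallyOfFinitePresentation f ∧ MoreMor.IsPseudoCoherentMor f ∧ MoreMor.IsPerfectMor f := by
  have hperf : MoreMor.IsPerfectMor f := by
    intro U V hU hV hUV
    letI := (f.appLE V U hUV).hom.toAlgebra
    exact isPerfectHom_iff.2 (pfh_of_isLCI (hf U V hU hV hUV))
  have hpc : MoreMor.IsPseudoCoherentMor f := fun U V hU hV hUV => (hperf U V hU hV hUV).1
  refine ⟨?_, hpc, hperf⟩
  rw [HasRingHomProperty.iff_appLE (P := @LocallyOfFinitePresentation)]
  intro V U hUV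
  letI := (f.appLE V.1 U.1 hUV).hom.toAlgebra
  have := Groth.Agent.R2.H31.PCFP.finitePresentation_of_isPseudoCoherentHom Γ(S, V.1) Γ(X, U.1)
    (hpc U.1 V.1 U.2 V.2 hUV)
  exact this

end Groth.Agent.R2.H7.PerfLCI2
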