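import Mathlib
import Groth.Agent.R2.H7RegImmBridge
import Groth.Agent.R2.H7KosDesc
import Groth.Agent.R2.H6RegBCSch
import Groth.Agent.Lib.Helper5RegImm2

set_option autoImplicit false
set_option linter.style.haveILetI false
universe u
open CategoryTheory CategoryTheory.Limits AlgebraicGeometry MorphismProperty

namespace Groth.Agent.R2.H7.RegImmDesc

open Groth.Agent.R2.H7.KosBasic Groth.Agent.R2.H7.KosIdeal Groth.Agent.R2.H7.KosLen
open Groth.Agent.R2.H7.KosDesc Groth.Agent.R2.H7.RegImmLoc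

/-- membership of `fromSpec 𝔭` in a basic open -/
theorem fromSpec_mem_basicOpen_iff {X : Scheme.{u}} {W : X.Opens} (hW : IsAffineOpen W)
    (𝔭 : PrimeSpectrum Γ(X, W)) (a : Γ(X, W)) :
    hW.fromSpec 𝔭 ∈ X.basicOpen a ↔ a ∉ 𝔭.asIdeal := by
  have h := hW.fromSpec_preimage_basicOpen a
  have h1 : hW.fromSpec 𝔭 ∈ X.basicOpen a ↔ 𝔭 ∈ hW.fromSpec ⁻¹ᵁ X.basicOpen a := Iff.rfl
  rw [h1, h]
  exact Iff.rfl

theorem fromSpec_mem {X : Scheme.{u}} {W : X.Opens} (hW : IsAffineOpen W)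
    (𝔭 : PrimeSpectrum Γ(X, W)) : hW.fromSpec 𝔭 ∈ W := by
  have h : hW.fromSpec 𝔭 ∈ Set.range hW.fromSpec := ⟨𝔭, rfl⟩
  rw [hW.range_fromSpec] at h
  exact h

theorem isAffineOpen_preimage_of_isClosedImmersion {Z X : Scheme.{u}} (i : Z ⟶ X) {W : X.Opens}
    (hW : IsAffineOpen W) (hcl : IsClosedImmersion (i ∣_ W)) : IsAffineOpen (i ⁻¹ᵁ W) := by
  haveI : IsAffine (W : Scheme.{u}) := hW
  show IsAffine ((i ⁻¹ᵁ W : Z.Opens) : Scheme.{u})
  exact isAffine_of_isAffineHom (i ∣_ W)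

/-- a Koszul-regular generating sequence restricts to basic opens -/
theorem exists_kr_ker_of_eq_basicOpen {Z X : Scheme.{u}} (i : Z ⟶ X) {U : X.Opens}
    (hU : IsAffineOpen U) (hU' : IsAffineOpen (i ⁻¹ᵁ U)) (rs : List Γ(X, U))
    (hrs : LCI.IsKoszulRegularSeq _ rs) (hker : RingHom.ker (i.app U).hom = Ideal.ofList rs)
    (b : Γ(X, U)) (D : X.Opens) (hD : D = X.basicOpen b) :
    ∃ l : List Γ(X, D), LCI.IsKoszulRegularSeq _ l ∧
      RingHom.ker (i.app D).hom = Ideal.ofList l := by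
  subst hD
  haveI : IsLocalization.Away b Γ(X, X.basicOpen b) := hU.isLocalization_basicOpen b
  refine ⟨rs.map (algebraMap Γ(X, U) Γ(X, X.basicOpen b)), ?_, ?_⟩
  · refine kr_map_of_flat _ ?_ rs hrs
    rw [RingHom.flat_algebraMap_iff]
    exact IsLocalization.flat _ (Submonoid.powers b)
  · rw [ker_app_basicOpen i hU hU' b, hker, Ideal.map_ofList]

/-- the unit sequence -/
theorem exists_kr_eq_top (T : Type u) [CommRing T] :
    ∃ l : List T, LCI.IsKoszulRegularSeq T l ∧ (⊤ : Ideal T) = Ideal.ofList l := by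
  refine ⟨List.ofFn (fun _ : Fin 1 => (1 : T)), kr_of_isUnit _ 0 isUnit_one, ?_⟩
  simp

/-- **Affine criterion, "only if" part**: for a Koszul-regular immersion, the ideal over *every*
affine open over which it is a closed immersion is a Koszul-regular ideal. -/
theorem isKRI_ker_of_isRegularImmersion {Z X : Scheme.{u}} (i : Z ⟶ X)
    (hi : RegImm.IsRegularImmersion .koszul i) {W : X.Opens} (hW : IsAffineOpen W)
    (hcl : IsClosedImmersion (i ∣_ W)) :
    LCI.IsKoszulRegularIdeal (RingHom.ker (i.app W).hom) := by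
  haveI := hi.1
  have hW' : IsAffineOpen (i ⁻¹ᵁ W) := isAffineOpen_preimage_of_isClosedImmersion i hW hcl
  rw [isKRI_iff]
  intro 𝔭 h𝔭 hle
  obtain ⟨x, hxdef⟩ : ∃ x : X, x = hW.fromSpec ⟨𝔭, h𝔭⟩ := ⟨_, rfl⟩
  have hxW : x ∈ W := by rw [hxdef]; exact fromSpec_mem hW _
  have hiff : ∀ a : Γ(X, W), x ∈ X.basicOpen a ↔ a ∉ 𝔭 := fun a => by
    rw [hxdef]; exact fromSpec_mem_basicOpen_iff hW ⟨𝔭, h𝔭⟩ a
  suffices h : ∃ a : Γ(X, W), x ∈ X.basicOpen a ∧ ∃ l : List Γ(X, X.basicOpen a),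
      LCI.IsKoszulRegularSeq _ l ∧ RingHom.ker (i.app (X.basicOpen a)).hom = Ideal.ofList l by
    obtain ⟨a, hxa, l, hl, hker⟩ := h
    refine ⟨a, (hiff a).1 hxa, ?_⟩
    haveI : IsLocalization.Away a Γ(X, X.basicOpen a) := hW.isLocalization_basicOpen a
    have h1 : GenKR (RingHom.ker (i.app W).hom) Γ(X, X.basicOpen a) :=
      ⟨l, hl, by rw [← hker, ker_app_basicOpen i hW hW' a]⟩
    exact h1.of_away a
  by_cases hx : x ∈ Set.range i
  · obtain ⟨z, hz⟩ := hx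
    obtain ⟨⟨U, hU⟩, hzU, hclU, rs, hrs, hker⟩ := hi.2 z
    have hU' : IsAffineOpen (i ⁻¹ᵁ U) := isAffineOpen_preimage_of_isClosedImmersion i hU hclU
    rw [hz] at hzU
    obtain ⟨a, b, hab, hxa⟩ := exists_basicOpen_le_affine_inter hW hU x ⟨hxW, hzU⟩
    exact ⟨a, hxa, exists_kr_ker_of_eq_basicOpen i hU hU' rs hrs hker b _ hab⟩
  · have h1 : IsClosed (Set.range (i ∣_ W)) := (i ∣_ W).isClosedEmbedding.isClosed_range
    rw [range_morphismRestrict] at h1
    have h2 : IsOpen {y : ↥(W : Scheme.{u}) | y.1 ∈ Set.range i}ᶜ := h1.isOpen_compl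
    obtain ⟨V, hVopen, hV⟩ := isOpen_induced_iff.1 h2
    have hxV : x ∈ V := by
      exact (Set.ext_iff.1 hV ⟨x, hxW⟩).2 hx
    obtain ⟨a, haV, hxa⟩ := hW.exists_basicOpen_le (V := ⟨V, hVopen⟩) ⟨x, hxV⟩ hxW
    refine ⟨a, hxa, ?_⟩
    have hbot : i ⁻¹ᵁ X.basicOpen a = ⊥ := by
      rw [eq_bot_iff]
      intro z hzmem
      have hz1 : i z ∈ X.basicOpen a := hzmem
      have hz2 : i z ∈ W := X.basicOpen_le a hz1
      have hz3 : i z ∈ V := haV hz1
      exact (Set.ext_iff.1 hV ⟨i z, hz2⟩).1 hz3 ⟨z, rfl⟩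
    have hsub : Subsingleton Γ(Z, i ⁻¹ᵁ X.basicOpen a) := by
      rw [hbot]
      infer_instance
    have hker : RingHom.ker (i.app (X.basicOpen a)).hom = ⊤ := by
      rw [Ideal.eq_top_iff_one, RingHom.mem_ker]
      exact Subsingleton.elim _ _
    rw [hker]
    exact exists_kr_eq_top _

/-- surjectivity on spectra of the section map of a morphism which is surjective over an affine -/
theorem comap_appLE_surjective {Y X : Scheme.{u}} (h : Y ⟶ X) {W : X.Opens} (hW : IsAffineOpen W)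
    {U : Y.Opens} (e : U ≤ h ⁻¹ᵁ W) (hsurj : ∀ x ∈ W, ∃ y ∈ U, h y = x) :
    Function.Surjective (PrimeSpectrum.comap (h.appLE W U e).hom) := by
  intro 𝔭
  obtain ⟨y, hyU, hy⟩ := hsurj (hW.fromSpec 𝔭) (fromSpec_mem hW 𝔭)
  refine ⟨⟨primeOf U y hyU, inferInstance⟩, ?_⟩
  apply PrimeSpectrum.ext
  ext a
  change (h.appLE W U e).hom a ∈ primeOf U y hyU ↔ a ∈ 𝔭.asIdeal
  rw [← not_iff_not, notMem_primeOf_iff, ← fromSpec_mem_basicOpen_iff hW 𝔭 a, ← hy]
  change y ∈ Y.basicOpen ((h.appLE W U e) a) ↔ _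
  rw [Scheme.basicOpen_appLE]
  exact ⟨fun hh => hh.2, fun hh => ⟨hyU, hh⟩⟩

/-- **fpqc descent of Koszul-regular immersions** -/
theorem isRegularImmersion_of_isPullback_fpqc {X Y X' Y' : Scheme.{u}} (i : Y ⟶ X) [IsImmersion i]
    (g : X' ⟶ X) [Flat g] [Surjective g] [QuasiCompact g]
    (i' : Y' ⟶ X') (g' : Y' ⟶ Y) (hsq : IsPullback g' i' i g)
    (hi' : RegImm.IsRegularImmersion .koszul i') : RegImm.IsRegularImmersion .koszul i := by
  refine ⟨inferInstance, fun z => ?_⟩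
  have hzc : i z ∈ i.coborderRange := subset_coborder (Set.mem_range_self z)
  obtain ⟨_, ⟨W, hW, rfl⟩, hzW, hWle⟩ :=
    X.isBasis_affineOpens.exists_subset_of_mem_open hzc i.coborderRange.2
  have hcl : IsClosedImmersion (i ∣_ W) :=
    Groth.Agent.Lib.Helper5.RegImm.isClosedImmersion_morphismRestrict_of_le_coborderRange i W hWle
  refine isRegularImmersionAt_of_isKRI i z W hW hzW hcl ?_
  have hcpt : IsCompact ((g ⁻¹ᵁ W : X'.Opens) : Set X') :=
    QuasiCompact.isCompact_preimage (f := g) _ W.2 hW.isCompact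
  haveI : CompactSpace ↥((g ⁻¹ᵁ W : X'.Opens) : Scheme.{u}) := isCompact_iff_compactSpace.mp hcpt
  obtain ⟨T, p, hpsurj, hpflat, hTaff⟩ :=
    Scheme.exists_hom_isAffine_of_isZariskiLocalAtSource @Flat ((g ⁻¹ᵁ W : X'.Opens) : Scheme.{u})
  haveI := hpflat
  haveI := hTaff
  obtain ⟨h', hh'⟩ : ∃ h' : T ⟶ X', h' = p ≫ (g ⁻¹ᵁ W).ι := ⟨_, rfl⟩
  haveI : Flat h' := by rw [hh']; infer_instance
  have sq'' : IsPullback (pullback.fst i' h') (pullback.snd i' h') i' h' := IsPullback.of_hasPullback _ _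
  have hi'' : RegImm.IsRegularImmersion .koszul (pullback.snd i' h') :=
    Groth.Agent.R2.H6.RegBCSch.isRegularImmersion_of_isPullback_flat .koszul sq'' hi'
  have sqP : IsPullback (pullback.fst i' h' ≫ g') (pullback.snd i' h') i (h' ≫ g) :=
    sq''.paste_horiz hsq
  have hle : (⊤ : T.Opens) ≤ (h' ≫ g) ⁻¹ᵁ W := by
    intro t _
    change g (h' t) ∈ W
    rw [hh']
    exact (p t).2
  obtain ⟨hcl'', hker''⟩ := Groth.Agent.R2.H6.RegBCSch.ker_app_of_isPullback sqP hW hcl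
    (isAffineOpen_top T) hle
  have hK'' := isKRI_ker_of_isRegularImmersion _ hi'' (isAffineOpen_top T) hcl''
  rw [hker''] at hK''
  refine isKRI_of_map_faithfullyFlat _ ?_ _ hK''
  rw [RingHom.FaithfullyFlat.iff_flat_and_comap_surjective]
  refine ⟨(h' ≫ g).flat_appLE hW (isAffineOpen_top T) hle, ?_⟩
  apply comap_appLE_surjective (h' ≫ g) hW hle
  intro x hxW
  obtain ⟨x', hx'⟩ := ‹Surjective g›.surj x
  have hx'W : x' ∈ g ⁻¹ᵁ W := by
    change g x' ∈ W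
    rw [hx']; exact hxW
  obtain ⟨t, ht⟩ := hpsurj.surj ⟨x', hx'W⟩
  refine ⟨t, trivial, ?_⟩
  change g (h' t) = x
  rw [hh']
  change g ((p t).1) = x
  rw [ht]
  exact hx'

end Groth.Agent.R2.H7.RegImmDesc
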