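import Mathlib
import Groth.Agent.R2.H7Patch
import Groth.Agent.Lib.Helper2Weight3
import Groth.Agent.Lib.Helper20EtSplitClopen

/-!
# Constructibility for weightings: the radicial locus of a finite morphism

For a morphism `π : A ⟶ N` of affine schemes, locally of finite type, the radicial locus
`Rad π` (points of `A` over which `A ×_N A ⟶ A` has only diagonal points) is ind-constructible;
over its points the fibre integral of any function is just the value of the function.
-/

set_option autoImplicit false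
set_option linter.style.haveILetI false
universe u
open AlgebraicGeometry CategoryTheory Limits IsLocalRing
open Groth.Agent.Lib.Helper2.Weight
open Groth.Agent.R2.H7.Patch
open Groth.Agent.Lib.Helper20.EtSections

namespace Groth.Agent.R2.H7.WeightCon

section Diag
variable {A N : Scheme.{u}} (π : A ⟶ N)

/-- difference of the two pullbacks of a function -/
noncomputable def dd (b : Γ(A, ⊤)) : Γ(pullback π π, ⊤) :=
  (pullback.fst π π).appTop b - (pullback.snd π π).appTop b

theorem diagonal_appTop_dd (b : Γ(A, ⊤)) : (pullback.diagonal π).appTop (dd π b) = 0 := by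
  unfold dd
  rw [map_sub, ← CommRingCat.comp_apply, ← CommRingCat.comp_apply, ← Scheme.Hom.comp_appTop,
    ← Scheme.Hom.comp_appTop, pullback.diagonal_fst, pullback.diagonal_snd, sub_self]

theorem notMem_basicOpen_dd_of_mem_range (b : Γ(A, ⊤)) (t : ↥(pullback π π))
    (ht : t ∈ Set.range (pullback.diagonal π)) : t ∉ (pullback π π).basicOpen (dd π b) := by
  obtain ⟨a, rfl⟩ := ht
  intro h
  have : a ∈ (pullback.diagonal π) ⁻¹ᵁ (pullback π π).basicOpen (dd π b) := h
  rw [Scheme.preimage_basicOpen_top, diagonal_appTop_dd, Scheme.basicOpen_zero] at this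
  exact this

/-- a function vanishing at `t` pulls back to zero on `Spec κ(t)`. -/
theorem appTop_fromSpecResidueField_eq_zero {T : Scheme.{u}} (t : T) (r : Γ(T, ⊤))
    (h : t ∉ T.basicOpen r) : (T.fromSpecResidueField t).appTop r = 0 := by
  by_contra hne
  apply h
  have hu : IsUnit ((T.fromSpecResidueField t).appTop r) := by
    let e := (Scheme.ΓSpecIso (T.residueField t)).commRingCatIsoToRingEquiv
    have : IsUnit (e ((T.fromSpecResidueField t).appTop r)) := by
      rw [isUnit_iff_ne_zero]
      intro h0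
      exact hne (e.injective (by rw [h0, map_zero]))
    exact (MulEquiv.isUnit_map e.toMulEquiv).mp this
  have h1 := Scheme.basicOpen_of_isUnit _ hu
  rw [← Scheme.preimage_basicOpen_top] at h1
  have h2 : IsLocalRing.closedPoint (T.residueField t) ∈
      (T.fromSpecResidueField t) ⁻¹ᵁ T.basicOpen r := by rw [h1]; trivial
  have h3 : T.fromSpecResidueField t (IsLocalRing.closedPoint (T.residueField t)) ∈
      T.basicOpen r := h2
  rwa [Scheme.fromSpecResidueField_apply] at h3

theorem mem_range_diagonal_of_notMem [IsAffine A] (s : Set Γ(A, ⊤))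
    (hs : letI := (π.appTop).hom.toAlgebra; Algebra.adjoin Γ(N, ⊤) s = ⊤)
    (t : ↥(pullback π π)) (ht : ∀ b ∈ s, t ∉ (pullback π π).basicOpen (dd π b)) :
    t ∈ Set.range (pullback.diagonal π) := by
  let T := pullback π π
  let τ := T.fromSpecResidueField t
  have key : τ ≫ pullback.fst π π = τ ≫ pullback.snd π π := by
    apply ext_of_isAffine
    rw [Scheme.Hom.comp_appTop, Scheme.Hom.comp_appTop]
    letI := (π.appTop).hom.toAlgebra
    let ψ₁ : Γ(A, ⊤) →+* Γ(Spec (T.residueField t), ⊤) :=
      (τ.appTop).hom.comp ((pullback.fst π π).appTop).hom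
    let ψ₂ : Γ(A, ⊤) →+* Γ(Spec (T.residueField t), ⊤) :=
      (τ.appTop).hom.comp ((pullback.snd π π).appTop).hom
    have hcomm : ψ₁.comp (π.appTop).hom = ψ₂.comp (π.appTop).hom := by
      have h1 : π.appTop ≫ (pullback.fst π π).appTop = π.appTop ≫ (pullback.snd π π).appTop := by
        rw [← Scheme.Hom.comp_appTop, ← Scheme.Hom.comp_appTop, pullback.condition]
      ext r
      have := congrArg (fun f => τ.appTop (f.hom r)) h1
      exact this
    letI : Algebra Γ(N, ⊤) Γ(Spec (T.residueField t), ⊤) := (ψ₁.comp (π.appTop).hom).toAlgebra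
    let φ₁ : Γ(A, ⊤) →ₐ[Γ(N, ⊤)] Γ(Spec (T.residueField t), ⊤) :=
      { ψ₁ with commutes' := fun r => rfl }
    let φ₂ : Γ(A, ⊤) →ₐ[Γ(N, ⊤)] Γ(Spec (T.residueField t), ⊤) :=
      { ψ₂ with commutes' := fun r => (congrArg (fun f => f r) hcomm).symm }
    have heq : φ₁ = φ₂ := by
      apply AlgHom.ext_of_adjoin_eq_top hs
      intro b hb
      have h0 := appTop_fromSpecResidueField_eq_zero t (dd π b) (ht b hb)
      unfold dd at h0
      rw [map_sub, sub_eq_zero] at h0
      exact h0
    ext b
    exact congrArg (fun f => f b) heq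
  refine ⟨(τ ≫ pullback.fst π π) (IsLocalRing.closedPoint _), ?_⟩
  have h2 : (τ ≫ pullback.fst π π) ≫ pullback.diagonal π = τ := by
    apply pullback.hom_ext
    · rw [Category.assoc, pullback.diagonal_fst, Category.comp_id]
    · rw [Category.assoc, pullback.diagonal_snd, Category.comp_id, key]
  rw [← Scheme.Hom.comp_apply, h2, Scheme.fromSpecResidueField_apply]

theorem isCompact_compl_range_diagonal [IsAffine A] [IsAffine N] [LocallyOfFiniteType π] :
    IsCompact (Set.range (pullback.diagonal π))ᶜ := by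
  have hft : (π.appTop).hom.FiniteType :=
    (HasRingHomProperty.iff_of_isAffine (P := @LocallyOfFiniteType)).mp ‹_›
  letI := (π.appTop).hom.toAlgebra
  obtain ⟨s, hs⟩ := hft.out
  have key : (Set.range (pullback.diagonal π))ᶜ =
      ⋃ b ∈ s, ((pullback π π).basicOpen (dd π b) : Set ↥(pullback π π)) := by
    ext t
    simp only [Set.mem_compl_iff, Set.mem_iUnion, exists_prop, SetLike.mem_coe]
    constructor
    · intro ht
      by_contra hcon
      push Not at hcon
      exact ht (mem_range_diagonal_of_notMem π (s : Set Γ(A, ⊤)) hs t (fun b hb => hcon b hb))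
    · rintro ⟨b, -, hb⟩ ht
      exact notMem_basicOpen_dd_of_mem_range π b t ht hb
  rw [key]
  exact s.isCompact_biUnion (fun b _ => ((isAffineOpen_top _).basicOpen _).isCompact)

end Diag

section Rad
variable {A N : Scheme.{u}} (π : A ⟶ N)

/-- the radicial locus of `π`: points over which the second projection of `A ×_N A` has only
diagonal points. -/
def Rad : Set A :=
  {a | ∀ t : ↥(pullback π π), pullback.snd π π t = a → t ∈ Set.range (pullback.diagonal π)}

theorem rad_eq : Rad π = (pullback.snd π π '' (Set.range (pullback.diagonal π))ᶜ)ᶜ := by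
  ext a
  simp only [Rad, Set.mem_ofPred_eq, Set.mem_compl_iff, Set.mem_image, not_exists, not_and]
  constructor
  · intro h t ht hta
    exact ht (h t hta)
  · intro h t hta
    by_contra hcon
    exact h t hcon hta

variable {Ω : Type u} [Field Ω] (ā : Spec (.of Ω) ⟶ A)

/-- the comparison map from the geometric fibre to `A ×_N A`. -/
noncomputable def jj : pullback π (ā ≫ π) ⟶ pullback π π :=
  pullback.lift (pullback.fst π (ā ≫ π)) (pullback.snd π (ā ≫ π) ≫ ā)
    (by rw [pullback.condition, Category.assoc])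

/-- the tautological section of the geometric fibre. -/
noncomputable def sg : Spec (.of Ω) ⟶ pullback π (ā ≫ π) :=
  pullback.lift ā (𝟙 _) (by rw [Category.id_comp])

theorem isPullback_jj :
    IsPullback (jj π ā) (pullback.snd π (ā ≫ π)) (pullback.snd π π) ā := by
  refine IsPullback.of_right ?_ (pullback.lift_snd _ _ _) (IsPullback.of_hasPullback π π)
  have : jj π ā ≫ pullback.fst π π = pullback.fst π (ā ≫ π) := pullback.lift_fst _ _ _
  rw [this]
  exact IsPullback.of_hasPullback π (ā ≫ π)

theorem sg_jj : sg π ā ≫ jj π ā = ā ≫ pullback.diagonal π := by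
  apply pullback.hom_ext
  · rw [Category.assoc, Category.assoc, pullback.diagonal_fst, Category.comp_id]
    unfold jj sg
    rw [pullback.lift_fst, pullback.lift_fst]
  · rw [Category.assoc, Category.assoc, pullback.diagonal_snd, Category.comp_id]
    unfold jj sg
    rw [pullback.lift_snd, pullback.lift_snd_assoc, Category.id_comp]

theorem isPullback_sg : IsPullback (sg π ā) ā (jj π ā) (pullback.diagonal π) := by
  refine IsPullback.of_right ?_ (sg_jj π ā) (isPullback_jj π ā).flip
  have h1 : sg π ā ≫ pullback.snd π (ā ≫ π) = 𝟙 _ := pullback.lift_snd _ _ _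
  have h2 : pullback.diagonal π ≫ pullback.snd π π = 𝟙 _ := pullback.diagonal_snd π
  rw [h1, h2]
  exact IsPullback.of_horiz_isIso ⟨by simp⟩

end Rad

section Rad2
variable {A N : Scheme.{u}} (π : A ⟶ N)

/-- (F2) over a point of the radicial locus the fibre integral is the value at the point. -/
theorem fibreIntegral_of_mem_rad [LocallyQuasiFinite π] (hfin : ∀ v : N, (π ⁻¹' {v}).Finite)
    (a : A) (ha : a ∈ Rad π) (w' : A → ℤ) : MoreMor.fibreIntegral π w' (π a) = w' a := by
  let Ω := AlgebraicClosure (A.residueField a)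
  let ā : Spec (.of Ω) ⟶ A := geomPt a
  have hā : ā (closedPoint Ω) = a := geomPt_apply a _
  have hpt : (ā ≫ π) (closedPoint Ω) = π a := by rw [Scheme.Hom.comp_apply, hā]
  have huniq : ∀ g : ↥(pullback π (ā ≫ π)), g = sg π ā (closedPoint Ω) := by
    intro g
    have h1 : pullback.snd π π (jj π ā g) = a := by
      rw [← Scheme.Hom.comp_apply, (isPullback_jj π ā).w, Scheme.Hom.comp_apply,
        eq_closedPoint (pullback.snd π (ā ≫ π) g), hā]
    obtain ⟨a', ha'⟩ := ha _ h1
    obtain ⟨p, hp1, -⟩ := Scheme.exists_preimage_of_isPullback (isPullback_sg π ā) g a'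
      ha'.symm
    rw [← hp1, eq_closedPoint p]
  rw [← hpt, fibreIntegral_eq_geom π (ā ≫ π) w' (by rw [hpt]; exact hfin _)]
  haveI : Unique ↥(pullback π (ā ≫ π)) := ⟨⟨sg π ā (closedPoint Ω)⟩, huniq⟩
  rw [finsum_unique]
  have hd : (default : ↥(pullback π (ā ≫ π))) = sg π ā (closedPoint Ω) := huniq _
  rw [hd, ← Scheme.Hom.comp_apply, sg, pullback.lift_fst, hā]

/-- (F3) a point which is alone in its fibre with separable degree one is in the radicial
locus. -/
theorem mem_rad_of_unique [LocallyQuasiFinite π] (z : A) (hz : ∀ a, π a = π z → a = z)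
    (hsd : sd π z = 1) : z ∈ Rad π := by
  let Ω := AlgebraicClosure (A.residueField z)
  let ā : Spec (.of Ω) ⟶ A := geomPt z
  have hā : ā (closedPoint Ω) = z := geomPt_apply z _
  have hpt : (ā ≫ π) (closedPoint Ω) = π z := by rw [Scheme.Hom.comp_apply, hā]
  have hcard := card_fibre_eq_sd π (ā ≫ π) z hpt.symm
  rw [hsd, Nat.card_eq_one_iff_unique] at hcard
  have hsub : ∀ g₁ g₂ : ↥(pullback π (ā ≫ π)), g₁ = g₂ := by
    intro g₁ g₂
    have h1 : pullback.fst π (ā ≫ π) g₁ = z := hz _ (by rw [fst_mem_fibre π (ā ≫ π) g₁, hpt])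
    have h2 : pullback.fst π (ā ≫ π) g₂ = z := hz _ (by rw [fst_mem_fibre π (ā ≫ π) g₂, hpt])
    have := hcard.1.elim ⟨g₁, h1⟩ ⟨g₂, h2⟩
    exact congrArg Subtype.val this
  intro t ht
  obtain ⟨g, hg1, -⟩ := Scheme.exists_preimage_of_isPullback (isPullback_jj π ā) t
    (closedPoint Ω) (by rw [← hā] at ht; exact ht)
  have hg : g = sg π ā (closedPoint Ω) := hsub _ _
  refine ⟨z, ?_⟩
  have h3 : jj π ā g = t := hg1
  rw [← h3, hg, ← Scheme.Hom.comp_apply, sg_jj, Scheme.Hom.comp_apply, hā]

end Rad2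

section Rad3
variable {A N : Scheme.{u}} (π : A ⟶ N)

/-- (F1) the radicial locus of a finite type morphism of affine schemes is ind-constructible. -/
theorem indC_rad [IsAffine A] [IsAffine N] [LocallyOfFiniteType π] : IndC (Rad π) := by
  rw [rad_eq]
  have hcl : IsClosed (Set.range (pullback.diagonal π)) :=
    (pullback.diagonal π).isClosedEmbedding.isClosed_range
  have hcomp := isCompact_compl_range_diagonal π
  have hspec : IsSpectralMap (pullback.snd π π) :=
    quasiCompact_iff_isSpectralMap.mp inferInstance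
  apply indC_compl_image _ hspec
  rw [compl_compl]
  have := (hcomp.isConstructible hcl.isOpen_compl).compl
  rw [compl_compl] at this
  exact IndC.of_isConstructible this

end Rad3

section Local

theorem sd_openImmersion {U V : Scheme.{u}} (j : U ⟶ V) [IsOpenImmersion j] (y : U) :
    sd j y = 1 := by
  unfold sd
  letI := (j.residueFieldMap y).hom.toAlgebra
  have hbij : Function.Bijective (algebraMap (V.residueField (j y)) (U.residueField y)) :=
    ConcreteCategory.bijective_of_isIso (j.residueFieldMap y)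
  let e : V.residueField (j y) ≃ₐ[V.residueField (j y)] U.residueField y :=
    AlgEquiv.ofBijective (Algebra.ofId _ _) hbij
  rw [← Field.finSepDegree_eq_of_equiv _ _ _ e, Field.finSepDegree_self]

/-- étale-local structure at a point, over an affine base on which the fibre integral of the
finite part is constant. -/
theorem exists_local_structure_affine {X Y : Scheme.{u}} (f : X ⟶ Y) [LocallyQuasiFinite f]
    [LocallyOfFiniteType f] (w : X → ℤ) (hw : MoreMor.IsWeighting f w) (x : X) :
    ∃ (V : Scheme.{u}) (gV : V ⟶ Y) (z : ↥(pullback f gV)) (Uz : (pullback f gV).Opens),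
      IsAffine V ∧ Etale gV ∧ pullback.fst f gV z = x ∧ z ∈ Uz ∧
      IsFinite (Uz.ι ≫ pullback.snd f gV) ∧
      (∀ p ∈ Uz, pullback.snd f gV p = pullback.snd f gV z → p = z) ∧
      sd (pullback.snd f gV) z = 1 ∧
      ∀ v : V, fI (pullback.snd f gV) (w ∘ pullback.fst f gV) Uz v = w x := by
  obtain ⟨V₀, g₀, v₀, z₀, U₀, hg₀, -, hz1, hz2, hzU, hfin, huniq, hsd, hval⟩ :=
    exists_local_structure f x
  have hlc := isLocallyConstant_fI_etale f w hw g₀ U₀
  set F₀ := fI (pullback.snd f g₀) (w ∘ pullback.fst f g₀) U₀ with hF₀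
  have hO : IsOpen (F₀ ⁻¹' {F₀ v₀}) := hlc.isOpen_fiber _
  have hv₀O : v₀ ∈ (⟨_, hO⟩ : V₀.Opens) := rfl
  obtain ⟨N, hN, hvN, hNO⟩ : ∃ N : V₀.Opens, IsAffineOpen N ∧ v₀ ∈ N ∧
      N ≤ (⟨_, hO⟩ : V₀.Opens) :=
    TopologicalSpace.Opens.isBasis_iff_nbhd.mp V₀.isBasis_affineOpens hv₀O
  let n₀ : N := ⟨v₀, hvN⟩
  have hn₀ : N.ι n₀ = v₀ := rfl
  let b := bcMap f g₀ N.ι
  haveI : IsOpenImmersion b := bcMap_isOpenImmersion f g₀ N.ι
  obtain ⟨z, hbz, hsz⟩ := Scheme.exists_preimage_of_isPullback (isPullback_bcMap f g₀ N.ι) z₀ n₀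
    (by rw [hn₀]; exact hz2)
  have hbz' : b z = z₀ := hbz
  have hsz' : pullback.snd f (N.ι ≫ g₀) z = n₀ := hsz
  have hbinj : Function.Injective b := b.isOpenEmbedding.injective
  refine ⟨N, N.ι ≫ g₀, z, b ⁻¹ᵁ U₀, hN, inferInstance, ?_, ?_, isFinite_preimage_bcMap f g₀ N.ι U₀,
    ?_, ?_, ?_⟩
  · rw [← bcMap_fst_apply f g₀ N.ι z, hbz', hz1]
  · change b z ∈ U₀
    rw [hbz']; exact hzU
  · intro p hp hps
    apply hbinj
    rw [hbz']
    apply huniq (b p) hp
    rw [bcMap_snd_apply, hps, hsz', hn₀]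
  · have h1 : sd (pullback.snd f (N.ι ≫ g₀) ≫ N.ι) z = sd (b ≫ pullback.snd f g₀) z :=
      congrArg (fun m => sd m z) (bcMap_snd f g₀ N.ι).symm
    rw [sd_comp, sd_openImmersion, one_mul, sd_comp_openImmersion, hbz', hsd] at h1
    exact h1
  · intro v
    have h1 := fI_baseChange (pullback.snd f g₀) (pullback.snd f (N.ι ≫ g₀)) b N.ι
      (isPullback_bcMap f g₀ N.ι) U₀ (w ∘ pullback.fst f g₀) v
    have h2 : (w ∘ pullback.fst f g₀) ∘ b = w ∘ pullback.fst f (N.ι ≫ g₀) := by
      funext p
      simp only [Function.comp_apply]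
      rw [bcMap_fst_apply]
    rw [h2] at h1
    rw [h1]
    have h3 : N.ι v ∈ F₀ ⁻¹' {F₀ v₀} := hNO v.2
    have h4 : F₀ (N.ι v) = F₀ v₀ := h3
    rw [← hF₀, h4, hF₀, hval w]

/-- a weighting of a locally quasi-finite morphism with affine source is constant on an
ind-constructible neighbourhood of each point. -/
theorem exists_indC_nhd_const {X Y : Scheme.{u}} (f : X ⟶ Y) [LocallyQuasiFinite f]
    [LocallyOfFiniteType f] [IsAffine X] (w : X → ℤ) (hw : MoreMor.IsWeighting f w) (x : X) :
    ∃ s : Set X, IndC s ∧ x ∈ s ∧ ∀ y ∈ s, w y = w x := by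
  obtain ⟨V, gV, z, Uz, hV, hgV, hz1, hzU, hfin, huniq, hsd, hval⟩ :=
    exists_local_structure_affine f w hw x
  let π : (Uz : Scheme.{u}) ⟶ V := Uz.ι ≫ pullback.snd f gV
  let h : (Uz : Scheme.{u}) ⟶ X := Uz.ι ≫ pullback.fst f gV
  haveI : IsFinite π := hfin
  haveI : IsAffine (Uz : Scheme.{u}) := isAffine_of_isAffineHom π
  let z' : (Uz : Scheme.{u}) := ⟨z, hzU⟩
  have hz' : Uz.ι z' = z := rfl
  have hιinj : Function.Injective Uz.ι := Uz.ι.isOpenEmbedding.injective
  have hπfin : ∀ v : V, (π ⁻¹' {v}).Finite := fun v => Scheme.Hom.finite_preimage_singleton π v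
  have hzrad : z' ∈ Rad π := by
    apply mem_rad_of_unique
    · intro a ha
      apply hιinj
      rw [hz']
      apply huniq _ (by
        have : Uz.ι a ∈ Set.range Uz.ι := ⟨a, rfl⟩
        rwa [Scheme.Opens.range_ι] at this)
      have h1 : pullback.snd f gV (Uz.ι a) = π a := (Scheme.Hom.comp_apply _ _ _).symm
      have h2 : pullback.snd f gV z = π z' := by rw [← hz']; exact (Scheme.Hom.comp_apply _ _ _).symm
      rw [h1, h2, ha]
    · change sd (Uz.ι ≫ pullback.snd f gV) z' = 1
      rw [sd_comp_openImmersion, hz', hsd]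
  refine ⟨h '' Rad π, ?_, ⟨z', hzrad, ?_⟩, ?_⟩
  · exact IndC.image h (fun t ht => h.isConstructible_image ht) (indC_rad π)
  · change (Uz.ι ≫ pullback.fst f gV) z' = x
    rw [Scheme.Hom.comp_apply, hz', hz1]
  · rintro _ ⟨a, ha, rfl⟩
    have h1 := fibreIntegral_of_mem_rad π hπfin a ha (w ∘ h)
    have h2 := fibreIntegral_opens Uz (pullback.snd f gV) (w ∘ pullback.fst f gV) (π a)
    have h3 : MoreMor.fibreIntegral π (w ∘ h) (π a) = MoreMor.fibreIntegral (Uz.ι ≫ pullback.snd f gV)
        (fun u => (w ∘ pullback.fst f gV) (Uz.ι u)) (π a) := rfl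
    rw [h3, h2, hval] at h1
    exact h1.symm

end Local

end Groth.Agent.R2.H7.WeightCon
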